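import Groth.Statements.S14578
import Groth.Agent.AlgGrp79.Act
import Groth.Agent.AlgGrp79.Cover
import Groth.Agent.AlgGrp79.SepDense
import Groth.Agent.AlgGrp79.Rigidity
import Groth.Agent.AlgGrp79.RigidityGlobal

set_option autoImplicit false
universe u
open CategoryTheory MonoidalCategory CartesianMonoidalCategory MonObj GrpObj AlgebraicGeometry CategoryTheory.Limits
open AlgGrp

namespace Groth.Agent.S14578
open Groth.Agent.AlgGrp79 CategoryTheory.Limits
open scoped commutatorElement

/-- Let k be a field, H an anti-affine k-group scheme of finite type (its only global functions are the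
constants), G a k-group scheme of finite type and f : H → G a morphism of k-schemes with f(e_H) =
e_G. Then f is a homomorphism. (The second assertion, that f factors through the centre of the
neutral component of G, is not restated here.) -/
theorem result (k : Type u) [Field k]
    (H G : Over (Spec (CommRingCat.of k))) [GrpObj H] [GrpObj G] [LocallyOfFiniteType H.hom] [QuasiCompact H.hom]
    [LocallyOfFiniteType G.hom] [QuasiCompact G.hom]
    (hH : Function.Bijective ((Scheme.ΓSpecIso (CommRingCat.of k)).inv ≫ H.hom.appTop).hom) (f : H ⟶ G) (hf : η[H] ≫ f = η[G]) : IsMonHom f := by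
  have := connectedSpace_of_antiAffine hH
  have := isSeparated_grp G
  have := isSeparated_grp H
  have : IsLocallyNoetherian H.left := LocallyOfFiniteType.isLocallyNoetherian H.hom
  have f1 : ∀ (T : Over (Spec (CommRingCat.of k))), (1 : T ⟶ H) ≫ f = 1 := fun T => by
    rw [one_def', Category.assoc, hf, one_def']
  let F : H ⊗ H ⟶ G := ((fst H H * snd H H) ≫ f) * ((fst H H ≫ f) * (snd H H ≫ f))⁻¹
  have hF : ∀ {T : Over (Spec (CommRingCat.of k))} (x y : T ⟶ H),
      lift x y ≫ F = ((x * y) ≫ f) * ((x ≫ f) * (y ≫ f))⁻¹ := fun x y => by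
    simp only [F, MonObj.comp_mul, GrpObj.comp_inv, ← Category.assoc, lift_fst, lift_snd]
  obtain ⟨U, hU, hag⟩ := agree_nhd hH η[H] η[H] F (range_subsingleton_of_eq (z := η[G]) (by
    rw [show H ◁ η[H] = lift (fst H _) (1 : H ⊗ _ ⟶ H) from CartesianMonoidalCategory.hom_ext _ _ (by simp)
      (by rw [whiskerLeft_snd, lift_snd, one_def', toUnit_unique (snd H (𝟙_ _)) (toUnit _)]), hF, _root_.mul_one, f1,
      _root_.mul_one, mul_inv_cancel, one_def']))
  have key : ∀ {T : Over (Spec (CommRingCat.of k))} (x : T ⟶ H) (v : T ⟶ Over.mk (U.ι ≫ H.hom)),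
      (x * (v ≫ Over.homMk U.ι rfl)) ≫ f = (x ≫ f) * ((v ≫ Over.homMk U.ι rfl) ≫ f) := fun {T} x v => by
    set y := v ≫ (Over.homMk U.ι rfl : Over.mk (U.ι ≫ H.hom) ⟶ H)
    have := agree_iff_forall_pts.1 (hag _ y (by
      rw [Over.comp_left]; rintro _ ⟨p, rfl⟩; rw [Scheme.Hom.comp_apply]; exact U.range_ι.le ⟨_, rfl⟩)) T x (𝟙 T)
    rw [Category.id_comp, hF, lift_snd_assoc, ← Category.assoc, comp_lift, comp_toUnit_assoc, Category.comp_id, hF,
      ← one_def', _root_.one_mul, f1, _root_.one_mul, mul_inv_cancel] at this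
    exact mul_inv_eq_one.1 this
  refine isMonHom_of_forall f fun T a b => ?_
  obtain ⟨T', c, v, hc, hv⟩ := (isCov_open_mul U ⟨_, hU⟩).exists_lift b
  have := hc.epi
  have e : v ≫ ((Over.homMk U.ι rfl : Over.mk (U.ι ≫ H.hom) ⟶ H) ⊗ₘ (Over.homMk U.ι rfl : Over.mk (U.ι ≫ H.hom) ⟶ H)) ≫ μ[H] =
      ((v ≫ fst _ _) ≫ Over.homMk U.ι rfl) * ((v ≫ snd _ _) ≫ Over.homMk U.ι rfl) := by
    rw [Hom.mul_def, ← Category.assoc]; congr 1; ext <;> simp
  rw [← cancel_epi c, MonObj.comp_mul, ← Category.assoc, MonObj.comp_mul, ← Category.assoc c b, ← hv, e,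
    ← _root_.mul_assoc, key, key, key, _root_.mul_assoc, Category.assoc]
end Groth.Agent.S14578
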