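import Groth.Statements.S14588
import Groth.Agent.AlgGrp79.ReducedUnit

set_option autoImplicit false
universe u
open CategoryTheory MonoidalCategory CartesianMonoidalCategory MonObj GrpObj AlgebraicGeometry CategoryTheory.Limits
open AlgGrp

namespace Groth.Agent.S14588
open Groth.Agent.AlgGrp79 CategoryTheory.Limits
open scoped commutatorElement

/-- Let k be a field with algebraic closure K and G a k-group scheme locally of finite type. If the
local ring of G_K at its unit point is reduced, then G is smooth over k. -/
theorem result (k : Type u) [Field k]
    (G : Over (Spec (CommRingCat.of k))) [GrpObj G] [LocallyOfFiniteType G.hom]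
    (t : ↥((𝟙_ (Over (Spec (CommRingCat.of (AlgebraicClosure k))))).left))
    (h : _root_.IsReduced ↑((Red.bc (Spec.map (CommRingCat.ofHom (algebraMap k (AlgebraicClosure k)))) G).left.presheaf.stalk ((η[Red.bc (Spec.map (CommRingCat.ofHom (algebraMap k (AlgebraicClosure k)))) G]).left.base t))) :
    Smooth G.hom := by
  have : LocallyOfFiniteType (Red.bc (Spec.map (CommRingCat.ofHom (algebraMap k (AlgebraicClosure k)))) G).hom :=
    inferInstanceAs (LocallyOfFiniteType (pullback.snd G.hom _))
  have : IsReduced (FBase.bc G.hom (AlgebraicClosure k)) :=
    isReduced_of_stalk_unit (Red.bc (Spec.map (CommRingCat.ofHom (algebraMap k (AlgebraicClosure k)))) G) t h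
  have : GeometricallyReduced G.hom := FBase64.geometricallyReduced_of_isReduced_perfect G.hom (AlgebraicClosure k)
  have : GrpObj (Over.mk G.hom) := inferInstanceAs (GrpObj G)
  exact smooth_of_grpObj G.hom
end Groth.Agent.S14588
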