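import Groth.Statements.S19507
import Groth.Agent.AlgGrp79.ReducedUnit
import Groth.Agent.AlgGrp79.SepDense
import Groth.Agent.AlgGrp79.Repr
import Groth.Agent.AlgGrp79.RegUnit
import Groth.Agent.S14588

set_option autoImplicit false
universe u
open CategoryTheory MonoidalCategory CartesianMonoidalCategory MonObj GrpObj AlgebraicGeometry
open AlgGrp

namespace Groth.Agent.S19507
open Groth.Agent.AlgGrp79 CategoryTheory.Limits
open scoped commutatorElement

/-- (iv) ⇒ (i): let k be a field, G a k-group scheme of finite type and e ∈ G the identity point (the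
image of the unit section Spec k → G). If the local ring of G at e is regular, then G is smooth over
k. (The corollary lists six equivalent conditions; (i) ⇒ (iv) is the standard fact that smooth
schemes over a field have regular local rings, and the remaining conditions concern the base change
to an algebraic closure and the completed local ring.) -/
theorem result (k : Type u) [Field k]
    (G : Over (Spec (CommRingCat.of k))) [GrpObj G] [LocallyOfFiniteType G.hom] [QuasiCompact G.hom]
    (e : G.left) (he : e ∈ Set.range (η[G]).left.base)
    (hreg : IsRegularLocalRing (G.left.presheaf.stalk e)) : Smooth G.hom := by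
  obtain ⟨c, rfl⟩ := he
  have : LocallyOfFinitePresentation G.hom := by
    refine HasRingHomProperty.iff_appLE.2 fun U V e => ?_
    have : IsNoetherianRing Γ(Spec (CommRingCat.of k), U.1) := IsLocallyNoetherian.component_noetherian U
    exact RingHom.FinitePresentation.of_finiteType.1
      (HasRingHomProperty.appLE (P := @LocallyOfFiniteType) G.hom inferInstance U V e)
  have hW := mem_smoothLocus_of_regular_section G.hom (η[G]).left (Over.w _) c hreg
  set W := G.hom.smoothLocus
  have : Smooth (W.ι ≫ G.hom) := by
    rw [← Scheme.Hom.smoothLocus_eq_top_iff, ← Scheme.Hom.preimage_smoothLocus_eq]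
    exact Scheme.Opens.ι_preimage_self W
  let g : Spec (CommRingCat.of (AlgebraicClosure k)) ⟶ Spec (CommRingCat.of k) :=
    Spec.map (CommRingCat.ofHom (algebraMap k (AlgebraicClosure k)))
  let GK := Red.bc g G
  let c' : ↥((𝟙_ (Over (Spec (CommRingCat.of (AlgebraicClosure k))))).left) :=
    IsLocalRing.closedPoint (AlgebraicClosure k)
  refine Groth.Agent.S14588.result k G c' ?_
  let j : pullback (W.ι ≫ G.hom) g ⟶ GK.left :=
    pullback.map (W.ι ≫ G.hom) g G.hom g W.ι (𝟙 _) (𝟙 _) (by simp) (by simp)
  have : IsOpenImmersion j := inferInstance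
  obtain ⟨z, hz⟩ : (η[GK]).left c' ∈ Set.range j := by
    rw [Scheme.Pullback.range_map, Scheme.Opens.range_ι]
    refine ⟨?_, ⟨_, rfl⟩⟩
    have h : (η[GK]).left ≫ pullback.fst G.hom g = g ≫ (η[G]).left := by
      rw [show (η[GK] : _ ⟶ GK) = Functor.LaxMonoidal.ε (Over.pullback g) ≫ (Over.pullback g).map η[G] from rfl]
      simp
      erw [pullback.lift_fst]
      rw [← Category.assoc]
      congr 1
      simpa using pullback.condition (f := 𝟙 (Spec (CommRingCat.of k))) (g := g)
    show pullback.fst G.hom g ((η[GK]).left c') ∈ W
    rw [← Scheme.Hom.comp_apply, h, Scheme.Hom.comp_apply, Subsingleton.elim (α := PrimeSpectrum k) (g c') c]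
    exact hW
  have : IsReduced (pullback (W.ι ≫ G.hom) g) := isReduced_of_smooth (pullback.snd (W.ι ≫ G.hom) g)
  have := isReduced_of_injective _ (asIso (j.stalkMap z)).commRingCatIsoToRingEquiv.injective
  rw [← hz]
  exact this
end Groth.Agent.S19507
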