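import Groth.Statements.S11421
import Groth.Agent.S14578
import Groth.Agent.AlgGrp79.Act
import Groth.Agent.AlgGrp79.Cover
import Groth.Agent.AlgGrp79.SepDense
import Groth.Agent.AlgGrp79.Rigidity
import Groth.Agent.AlgGrp79.RigidityGlobal

set_option autoImplicit false
universe u
open CategoryTheory MonoidalCategory CartesianMonoidalCategory MonObj GrpObj AlgebraicGeometry CategoryTheory.Limits
open AlgGrp

namespace Groth.Agent.S11421
open Groth.Agent.AlgGrp79 CategoryTheory.Limits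
open scoped commutatorElement

/-- Over an algebraically closed field k, let G be an algebraic group (smooth k-group scheme of finite
type) whose only global functions are the constants, H a connected algebraic group, S a connected
k-scheme of finite type and f : G × S → H a morphism of k-schemes. Then there are a unique
k-morphism φ : S → H and a unique homomorphism ψ : G → H with f(g, s) = φ(s) · ψ(g) on points. (This
is the decomposition, over a connected base, behind the identification of the functor of morphisms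
from G to H with H × Hom_gp(G, H); the published statement is the equivalence of representability of
that functor with anti-affineness of G, whose converse direction is not stated here.) -/
theorem result (k : Type u) [Field k] [IsAlgClosed k]
    (G H S : Over (Spec (CommRingCat.of k))) [GrpObj G] [Smooth G.hom] [QuasiCompact G.hom]
    (hG : Function.Bijective ((Scheme.ΓSpecIso (CommRingCat.of k)).inv ≫ G.hom.appTop).hom)
    [GrpObj H] [Smooth H.hom] [QuasiCompact H.hom] [ConnectedSpace ↥H.left]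
    [LocallyOfFiniteType S.hom] [QuasiCompact S.hom] [ConnectedSpace ↥S.left]
    (f : G ⊗ S ⟶ H) :
    ∃ (φ : S ⟶ H) (ψ : G ⟶ H), IsMonHom ψ ∧ f = (snd G S ≫ φ) * (fst G S ≫ ψ) ∧
      ∀ (φ' : S ⟶ H) (ψ' : G ⟶ H), IsMonHom ψ' → f = (snd G S ≫ φ') * (fst G S ≫ ψ') → φ' = φ ∧ ψ' = ψ := by
  have := connectedSpace_of_antiAffine hG
  have := isSeparated_grp G
  have := isSeparated_grp H
  have : JacobsonSpace S.left := LocallyOfFiniteType.jacobsonSpace S.hom
  obtain ⟨p, -, hp⟩ := nonempty_inter_closedPoints (Z := (Set.univ : Set S.left)) Set.univ_nonempty isClosed_univ.isLocallyClosed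
  let s₀ : 𝟙_ (Over (Spec (CommRingCat.of k))) ⟶ S :=
    Over.homMk (pointOfClosedPoint S.hom p hp) (pointOfClosedPoint_comp _ _ _)
  let φ : S ⟶ H := lift 1 (𝟙 S) ≫ f
  let ψ : G ⟶ H := (toUnit G ≫ s₀ ≫ φ)⁻¹ * (lift (𝟙 G) (toUnit G ≫ s₀) ≫ f)
  have hψp : ∀ {T : Over (Spec (CommRingCat.of k))} (x : T ⟶ G),
      x ≫ ψ = ((toUnit T ≫ s₀) ≫ φ)⁻¹ * (lift x (toUnit T ≫ s₀) ≫ f) := fun x => by
    simp [ψ, MonObj.comp_mul, GrpObj.comp_inv, comp_lift_assoc]
  have hψ1 : ∀ T, (1 : T ⟶ G) ≫ ψ = 1 := fun T => by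
    rw [hψp, show (toUnit T ≫ s₀) ≫ φ = lift (1 : T ⟶ G) (toUnit T ≫ s₀) ≫ f by
      simp only [φ, ← Category.assoc, comp_lift, MonObj.comp_one, Category.comp_id], inv_mul_cancel]
  have hψe : η[G] ≫ ψ = η[H] := by
    have h := hψ1 (𝟙_ (Over (Spec (CommRingCat.of k))))
    rw [one_def', one_def', toUnit_unique (toUnit (𝟙_ (Over (Spec (CommRingCat.of k))))) (𝟙 _)] at h
    simpa using h
  have hψ : IsMonHom ψ := by
    have : LocallyOfFiniteType G.hom := inferInstance
    exact Groth.Agent.S14578.result k G H hG ψ hψe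
  let F : G ⊗ S ⟶ H := (snd G S ≫ φ)⁻¹ * f * (fst G S ≫ ψ)⁻¹
  have hF : ∀ {T : Over (Spec (CommRingCat.of k))} (x : T ⟶ G) (y : T ⟶ S),
      lift x y ≫ F = (y ≫ φ)⁻¹ * (lift x y ≫ f) * (x ≫ ψ)⁻¹ := fun x y => by
    simp [F, MonObj.comp_mul, GrpObj.comp_inv]
  have e : G ◁ s₀ = lift (fst G _) (toUnit _ ≫ s₀) := CartesianMonoidalCategory.hom_ext _ _ (by simp)
      (by rw [whiskerLeft_snd, lift_snd, toUnit_unique (snd G (𝟙_ _)) (toUnit _)])
  have hFe : (G ◁ s₀) ≫ F = toUnit _ ≫ η[H] := by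
    rw [e, hF, hψp, ← one_def', _root_.mul_inv_rev, _root_.inv_inv, _root_.mul_assoc, mul_inv_cancel_left, inv_mul_cancel]
  have hrig := eq_snd_of_connected hG η[G] s₀ F (range_subsingleton_of_eq hFe)
  have hF1 : F = 1 := by
    rw [hrig, ← one_def', hF, hψ1, Category.id_comp, inv_one, _root_.mul_one, inv_mul_cancel, MonObj.comp_one]
  refine ⟨φ, ψ, hψ, ?_, fun φ' ψ' _ h => ?_⟩
  · have : (snd G S ≫ φ)⁻¹ * f * (fst G S ≫ ψ)⁻¹ = 1 := hF1
    rw [mul_inv_eq_one] at this
    rw [← this, mul_inv_cancel_left]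
  · have h1 : (1 : S ⟶ G) ≫ ψ' = 1 := (IsMonHom.monoidHom ψ' S).map_one
    have hφ : φ' = φ := by
      simp [φ, h, MonObj.comp_mul, h1]
    refine ⟨hφ, ?_⟩
    have h2 : (snd G S ≫ φ') * (fst G S ≫ ψ') = (snd G S ≫ φ) * (fst G S ≫ ψ) := by
      rw [← h]
      have : (snd G S ≫ φ)⁻¹ * f * (fst G S ≫ ψ)⁻¹ = 1 := hF1
      rw [mul_inv_eq_one] at this
      rw [← this, mul_inv_cancel_left]
    rw [hφ] at h2
    have h3 := congrArg (lift (𝟙 G) (toUnit G ≫ s₀) ≫ ·) (mul_left_cancel h2)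
    simpa using h3
end Groth.Agent.S11421
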