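import Groth.Statements.S15607
import Groth.Agent.AlgGrp33.Coord
import Groth.Agent.AlgGrp33.GmDescent
import Groth.Agent.CAlg5.SmoothReduced
-- import your own Groth.Agent.* helpers here

set_option autoImplicit false
universe u
open CategoryTheory MonoidalCategory CartesianMonoidalCategory MonObj GrpObj AlgebraicGeometry
open AlgGrp

namespace Groth.Agent.S15607

open Groth.Agent in
theorem pull_injective {k : Type u} [Field k] {A A' : Type u} [CommRing A] [HopfAlgebra k A] [CommRing A']
    [HopfAlgebra k A'] [_root_.IsReduced A] {G H : Over (Spec (CommRingCat.of k))} [GrpObj G] [GrpObj H] [IsAffine G.left]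
    (ψ : GMod80.sp k A ≅ G) [IsMonHom ψ.hom] (ψ' : GMod80.sp k A' ≅ H) [IsMonHom ψ'.hom]
    (f : H ⟶ G) [Surjective f.left] : Function.Injective (GMod80.pull ψ ψ' f) := by
  haveI : _root_.IsReduced Γ(G.left, ⊤) := isReduced_of_injective (GMod80.fn ψ).symm.toRingHom (GMod80.fn ψ).symm.injective
  haveI : AlgebraicGeometry.IsReduced G.left := isReduced_of_isAffine_isReduced _
  refine (injective_iff_map_eq_zero _).2 fun a ha => ?_
  refine (map_eq_zero_iff _ (GMod80.fn ψ).injective).1 ((basicOpen_eq_bot_iff _).1 ?_)
  have h := GMod80.appTop_i_fn ψ ψ' f a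
  rw [ha, map_zero] at h
  have h2 := Scheme.preimage_basicOpen_top f.left (GMod80.fn ψ a)
  rw [show f.left.appTop (GMod80.fn ψ a) = 0 from h, Scheme.basicOpen_zero] at h2
  refine eq_bot_iff.2 fun x hx => ?_
  obtain ⟨y, rfl⟩ := f.left.surjective x
  exact h2.le (show y ∈ f.left ⁻¹ᵁ G.left.basicOpen (GMod80.fn ψ a) from hx)

/-- Multiplicative case. Let k be a field, H a smooth connected k-group scheme, and f a homomorphism
from H to the multiplicative group over k which is finite and surjective (an isogeny). Then H is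
isomorphic, as a k-group scheme, to the multiplicative group: a smooth connected k-group isogenous
to the multiplicative group over k is the split one-dimensional torus. -/
theorem result (k : Type u) [Field k]
    (H : Over (Spec (CommRingCat.of k))) [GrpObj H] [Smooth H.hom] [ConnectedSpace ↥H.left]
    (f : H ⟶ Red.Gm (Spec (CommRingCat.of k))) [IsMonHom f] [IsFinite f.left] [Surjective f.left] :
    Nonempty (Grp.mk H ≅ Grp.mk (Red.Gm (Spec (CommRingCat.of k)))) := by
  haveI := Groth.Agent.AlgGrp33.isAffine_Gm (k := k)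
  haveI : IsAffine H.left := isAffine_of_isAffineHom f.left
  obtain ⟨A, _, _, ψ, _⟩ := Groth.Agent.GMod80.exists_coord (k := k) H
  obtain ⟨ψ', _, _⟩ := Groth.Agent.AlgGrp33.exists_coord_Gm (k := k)
  have hinj := pull_injective ψ' ψ f
  let φ := Groth.Agent.GMod80.pullBialg ψ' ψ f
  have hfin : (φ : MonoidAlgebra k (Multiplicative ℤ) →ₐ[k] A).toRingHom.Finite := by
    have h : ((Groth.Agent.GMod80.fn ψ).symm.toRingHom.comp
        (f.left.appTop.hom.comp (Groth.Agent.GMod80.fn ψ').toRingHom)).Finite :=
      (RingHom.Finite.of_surjective _ (Groth.Agent.GMod80.fn ψ).symm.surjective).comp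
        ((IsFinite.finite_app (f := f.left) ⊤ (isAffineOpen_top _)).comp
          (RingHom.Finite.of_surjective _ (Groth.Agent.GMod80.fn ψ').surjective))
    convert h using 1
    refine RingHom.ext fun a => ?_
    exact ((congrArg (Groth.Agent.GMod80.fn ψ).symm (Groth.Agent.GMod80.appTop_i_fn ψ' ψ f a)).trans
      ((Groth.Agent.GMod80.fn ψ).symm_apply_apply _)).symm
  haveI : Algebra.FiniteType k A := Groth.Agent.GMod80.finiteType ψ
  haveI : Algebra.Smooth k A := by
    have h : Smooth (Spec.map (CommRingCat.ofHom (algebraMap k A))) := by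
      have : Spec.map (CommRingCat.ofHom (algebraMap k A)) = (Groth.Agent.GMod80.sch ψ).hom ≫ H.hom :=
        (Over.w ψ.hom).symm
      rw [this]
      infer_instance
    rw [HasRingHomProperty.Spec_iff (P := @Smooth)] at h
    exact RingHom.smooth_algebraMap.1 h
  haveI : Algebra.IsGeometricallyReduced k A :=
    (Algebra.isGeometricallyReduced_field_iff k A).2 (Groth.Agent.CAlg5.isReduced_of_smooth (A := AlgebraicClosure k))
  obtain ⟨E⟩ := Groth.Agent.AlgGrp33.GmDescent.nonempty_equiv (Groth.Agent.GMod80.connected ψ) φ hinj hfin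
  exact Groth.Agent.AlgGrp33.nonempty_grpIso ψ' ψ E

end Groth.Agent.S15607
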