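import Groth.Statements.S17465
import Groth.Agent.AlgGrp33.TorusBridge
import Groth.Agent.AlgGrp33.FiniteUnip
import Groth.Agent.S15607
-- import your own Groth.Agent.* helpers here

set_option autoImplicit false
universe u
open CategoryTheory MonoidalCategory CartesianMonoidalCategory MonObj GrpObj AlgebraicGeometry CategoryTheory.Limits
open AlgGrp

namespace Groth.Agent.S17465

open Groth.Agent in
open scoped TensorProduct in
open WithConv in
theorem finite_comp_eq_one {k : Type u} [Field k] (K : Type u) [Field K] [Algebra k K] {A A' : Type u}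
    [CommRing A] [HopfAlgebra k A] [CommRing A'] [HopfAlgebra k A']
    {G G' : Over (Spec (CommRingCat.of k))} [GrpObj G] [GrpObj G']
    (ψ : GMod80.sp k A ≅ G) [IsMonHom ψ.hom] (ψ' : GMod80.sp k A' ≅ G') [IsMonHom ψ'.hom]
    (f : G' ⟶ G) [IsMonHom f] (hf : SGA7.IsIsogenyOver f) :
    {x : WithConv (A' →ₐ[k] K) | toConv (x.ofConv.comp (GMod80.pull ψ ψ' f)) = 1}.Finite := by
  let N := pullback f η[G]
  have hker : AlgGrp.IsKernel (pullback.fst f η[G]) f := by
    have h := IsPullback.of_hasPullback f η[G]
    rwa [show pullback.snd f η[G] = toUnit N from toUnit_unique _ _] at h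
  haveI : IsFinite N.hom := hf.2 N _ hker
  haveI : IsAffine N.left := isAffine_of_isAffineHom N.hom
  let αN : k →+* Γ(N.left, ⊤) := ((Scheme.ΓSpecIso (CommRingCat.of k)).inv ≫ N.hom.appTop).hom
  letI : Algebra k Γ(N.left, ⊤) := αN.toAlgebra
  haveI : Module.Finite k Γ(N.left, ⊤) := by
    have h : αN.Finite := (IsFinite.finite_app (f := N.hom) ⊤ (isAffineOpen_top _)).comp
      (RingHom.Finite.of_surjective (Scheme.ΓSpecIso (CommRingCat.of k)).inv.hom
        (ConcreteCategory.bijective_of_isIso (Scheme.ΓSpecIso (CommRingCat.of k)).inv).2)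
    exact RingHom.finite_algebraMap.1 h
  let T : (VecGrp.pt k K ⟶ N) → (Γ(N.left, ⊤) →ₐ[k] K) := fun t =>
    { __ := (t.left.appTop ≫ (Scheme.ΓSpecIso (CommRingCat.of K)).hom).hom
      commutes' := fun c => by
        show ((Scheme.ΓSpecIso (CommRingCat.of k)).inv ≫ N.hom.appTop ≫ t.left.appTop ≫
          (Scheme.ΓSpecIso (CommRingCat.of K)).hom).hom c = algebraMap k K c
        rw [← Category.assoc N.hom.appTop, ← Scheme.Hom.comp_appTop, Over.w t,
          show (VecGrp.pt k K).hom = Spec.map (CommRingCat.ofHom (algebraMap k K)) from rfl,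
          Scheme.ΓSpecIso_naturality (CommRingCat.ofHom (algebraMap k K)), Iso.inv_hom_id_assoc]
        rfl }
  have hT : Function.Injective T := fun t t' h => by
    refine Over.OverMorphism.ext (ext_of_isAffine ?_)
    rw [← cancel_mono (Scheme.ΓSpecIso (CommRingCat.of K)).hom]
    exact CommRingCat.hom_ext (congrArg AlgHom.toRingHom h)
  haveI : Finite (VecGrp.pt k K ⟶ N) := Finite.of_injective T hT
  refine (Set.finite_range fun t : VecGrp.pt k K ⟶ N =>
    (GMod80.e ψ' K).symm (t ≫ pullback.fst f η[G])).subset fun x hx => ?_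
  have h1 : GMod80.e ψ' K x ≫ f = 1 := by
    rw [GMod80.e_comp ψ ψ' f x, show toConv (x.ofConv.comp (GMod80.pull ψ ψ' f)) = 1 from hx, map_one]
  refine ⟨pullback.lift (GMod80.e ψ' K x) (toUnit _) (by rw [h1]; rfl), ?_⟩
  exact (congrArg _ (pullback.lift_fst _ _ _)).trans (MulEquiv.symm_apply_apply _ _)

open Groth.Agent in
open scoped TensorProduct in
open WithConv in
theorem iff_diag {k : Type u} [Field k] {A A' : Type u} [CommRing A] [HopfAlgebra k A] [CommRing A']
    [HopfAlgebra k A'] [Algebra.FiniteType k A] [Algebra.FiniteType k A'] [Coalgebra.IsCocomm k A]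
    [Coalgebra.IsCocomm k A'] [IsDomain (AlgebraicClosure k ⊗[k] A)] [IsDomain (AlgebraicClosure k ⊗[k] A')]
    (φ : A →ₐc[k] A') (hφ : Function.Injective φ)
    (hfin : {x : WithConv (A' →ₐ[k] AlgebraicClosure k) |
      toConv (x.ofConv.comp (φ : A →ₐ[k] A')) = 1}.Finite) :
    HopfRep.IsDiagonalizable (AlgebraicClosure k) (AlgebraicClosure k ⊗[k] A') ↔
      HopfRep.IsDiagonalizable (AlgebraicClosure k) (AlgebraicClosure k ⊗[k] A) := by
  let K := AlgebraicClosure k
  let φK : K ⊗[k] A →ₐc[K] K ⊗[k] A' := Bialgebra.TensorProduct.map (BialgHom.id K K) φ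
  have hφK : Function.Injective φK := by
    have h : ∀ z, φK z = LinearMap.lTensor K (φ : A →ₐ[k] A').toLinearMap z := fun z => by
      induction z using TensorProduct.induction_on with
      | zero => simp
      | add p q hp hq => simp only [map_add, hp, hq]
      | tmul p q => simp [φK]
    intro a b hab
    rw [h, h] at hab
    exact Module.Flat.lTensor_preserves_injective_linearMap (M := K) (φ : A →ₐ[k] A').toLinearMap hφ hab
  refine ⟨fun hD => Comod33.Diag.isDiagonalizable_of_no_prim fun z hz => hφK ?_, fun hD => ?_⟩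
  · rw [map_zero]
    refine Comod33.Diag.no_prim_of_isDiagonalizable hD ?_
    show CoalgebraStruct.comul (R := K) (φK z) = _
    rw [← CoalgHomClass.map_comp_comul_apply, show CoalgebraStruct.comul (R := K) z = _ from hz, map_add,
      TensorProduct.map_tmul, TensorProduct.map_tmul]
    change φK z ⊗ₜ[K] φK 1 + φK 1 ⊗ₜ[K] φK z = _
    rw [map_one]
  · refine AlgGrp33.FiniteUnip.isDiagonalizable_of_finite_unipPts ?_
    let res : WithConv (K ⊗[k] A' →ₐ[K] K) → WithConv (A' →ₐ[k] K) := fun u =>
      toConv ((u.ofConv.restrictScalars k).comp Algebra.TensorProduct.includeRight)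
    refine Set.Finite.of_finite_image (f := res) (hfin.subset ?_) fun u _ v _ h => ?_
    · rintro _ ⟨u, hu, rfl⟩
      have h := AlgGrp33.FiniteUnip.unip_comp_eq_one hD φK hu
      apply WithConv.ofConv_injective
      refine AlgHom.ext fun a => ?_
      have h2 := congrArg (fun w : WithConv (K ⊗[k] A →ₐ[K] K) => w.ofConv ((1 : K) ⊗ₜ[k] a)) h
      change u.ofConv (φK ((1 : K) ⊗ₜ[k] a)) = algebraMap K K
        (CoalgebraStruct.counit (R := K) ((1 : K) ⊗ₜ[k] a)) at h2
      change u.ofConv ((1 : K) ⊗ₜ[k] φ a) = algebraMap k K (CoalgebraStruct.counit (R := k) a)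
      simpa [φK, Algebra.smul_def] using h2
    · exact WithConv.ofConv_injective (Algebra.TensorProduct.ext (by ext) (congrArg WithConv.ofConv h))

/-- Let k be a field and f : G' → G an isogeny, i.e. a surjective homomorphism with finite kernel,
between smooth connected commutative affine k-group schemes of finite type. Then G' is a torus
exactly when G is one. (The published sentence draws this conclusion after treating surjective
homomorphisms and isogenies together; for a surjective homomorphism with positive-dimensional kernel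
only the implication from G' to G survives — the projection of the product of the multiplicative and
the additive group onto the multiplicative group is surjective with a non-torus source — so the
equivalence is stated for isogenies, the case the dimension count in the printed proof covers. The
companion clause about unipotence is not stated.) -/
theorem result (k : Type u) [Field k]
    (G' G : Over (Spec (CommRingCat.of k))) [GrpObj G'] [GrpObj G] [IsCommMonObj G'] [IsCommMonObj G]
    [Smooth G'.hom] [QuasiCompact G'.hom] [ConnectedSpace ↥G'.left] [IsAffine G'.left]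
    [Smooth G.hom] [QuasiCompact G.hom] [ConnectedSpace ↥G.left] [IsAffine G.left]
    (f : G' ⟶ G) [IsMonHom f] (hf : SGA7.IsIsogenyOver f) :
    Red.IsTorus G' ↔ Red.IsTorus G := by
  obtain ⟨A, _, _, ψ, _⟩ := Groth.Agent.GMod80.exists_coord (k := k) G
  obtain ⟨A', _, _, ψ', _⟩ := Groth.Agent.GMod80.exists_coord (k := k) G'
  haveI := Groth.Agent.GMod80.finiteType ψ
  haveI := Groth.Agent.GMod80.finiteType ψ'
  haveI := Groth.Agent.GMod80.isReduced ψ
  haveI := Groth.Agent.AlgGrp33.isCocomm_of_comm ψ
  haveI := Groth.Agent.AlgGrp33.isCocomm_of_comm ψ'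
  haveI := Groth.Agent.AlgGrp33.isDomain_geom ψ
  haveI := Groth.Agent.AlgGrp33.isDomain_geom ψ'
  haveI : Surjective f.left := hf.1
  have h := iff_diag (Groth.Agent.GMod80.pullBialg ψ ψ' f) (Groth.Agent.S15607.pull_injective ψ ψ' f)
    (finite_comp_eq_one _ ψ ψ' f hf)
  exact ⟨fun hT => Groth.Agent.AlgGrp33.isTorus_of_isDiagonalizable ψ
      (h.1 (Groth.Agent.AlgGrp33.isDiagonalizable_of_isTorus ψ' hT)),
    fun hT => Groth.Agent.AlgGrp33.isTorus_of_isDiagonalizable ψ'
      (h.2 (Groth.Agent.AlgGrp33.isDiagonalizable_of_isTorus ψ hT))⟩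

end Groth.Agent.S17465
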