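import Groth.Statements.S18027
import Groth.Agent.Grp57.Component
import Groth.Agent.Var76.FibreBound
import Groth.Agent.S5341

set_option autoImplicit false
universe u
open CategoryTheory MonoidalCategory CartesianMonoidalCategory MonObj GrpObj AlgebraicGeometry CategoryTheory.Limits
open AlgGrp

namespace Groth.Agent.S18027
open CategoryTheory.Limits Groth.Agent

/-- Let `k` be a field and `u : G ⟶ H` a homomorphism of smooth `k`-group schemes which is a closed
immersion, where `G` and `H` have the same dimension. Then `u` carries the connected component of
the identity of `G` onto the connected component of the identity of `H`; as `u` is a closed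
immersion and `H` is reduced, `u` therefore restricts to an isomorphism between the identity
components. (The second printed assertion, on the groups of components, is not included.) -/
theorem result (k : Type u) [Field k]
    (G H : Over (Spec (CommRingCat.of k))) [GrpObj G] [GrpObj H]
    [Smooth G.hom] [Smooth H.hom] (u : G ⟶ H) [IsMonHom u] [IsClosedImmersion u.left]
    (hdim : topologicalKrullDim ↥G.left = topologicalKrullDim ↥H.left)
    (t : ↥((𝟙_ (Over (Spec (CommRingCat.of k)))).left)) :
    ⇑u.left.base '' connectedComponent (η[G].left.base t) = connectedComponent (η[H].left.base t) := by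
  have ht : t = IsLocalRing.closedPoint k := Subsingleton.elim (α := PrimeSpectrum k) _ _
  subst ht
  have key : ∀ (X : Over (Spec (CommRingCat.of k))) [GrpObj X] [LocallyOfFiniteType X.hom],
      ∃ p : X.left, closure {p} = connectedComponent (Grp57.unitPt X) ∧
        topologicalKrullDim X.left = (WC97.tdegN X.hom p : ℕ) := by
    intro X _ _
    have hmem := irreducibleComponent_mem_irreducibleComponents (Grp57.unitPt X)
    have hc := Grp57.component_eq_connectedComponent X hmem mem_irreducibleComponent
    obtain ⟨p, hp, -⟩ := E4O.exists_eq_closure_of_mem_irreducibleComponents hmem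
    refine ⟨p, hp.symm.trans hc, ?_⟩
    rw [← WC97.topologicalKrullDim_closure X.hom p, ← hp]
    exact ((Groth.Agent.S5341.result k X).1 _ hmem).symm
  obtain ⟨p, hp, hpd⟩ := key G
  obtain ⟨q, hq, hqd⟩ := key H
  show u.left '' connectedComponent (Grp57.unitPt G) = connectedComponent (Grp57.unitPt H)
  rw [← hp, ← hq, ← u.left.isClosedEmbedding.closure_image_eq, Set.image_singleton]
  have hunit : u.left (Grp57.unitPt G) = Grp57.unitPt H := by
    show u.left ((η[G]).left _) = (η[H]).left _
    rw [← Scheme.Hom.comp_apply, ← Over.comp_left, IsMonHom.one_hom]
  have hqp : q ⤳ u.left p := by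
    rw [specializes_iff_mem_closure, hq, ← hunit]
    exact u.left.continuous.image_connectedComponent_subset _ ⟨p, hp ▸ subset_closure rfl, rfl⟩
  have hd : WC97.tdegN H.hom (u.left p) = WC97.tdegN G.hom p := by
    have h1 := WC97.topologicalKrullDim_closure H.hom (u.left p)
    have h2 := WC97.topologicalKrullDim_closure G.hom p
    rw [← Set.image_singleton, u.left.isClosedEmbedding.closure_image_eq] at h1
    have h3 := IsHomeomorph.topologicalKrullDim_eq _
      (u.left.isClosedEmbedding.isEmbedding.homeomorphImage (closure {p})).isHomeomorph
    have h4 := h1.symm.trans (h3.symm.trans h2)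
    exact_mod_cast h4
  have hle : WC97.tdegN H.hom q ≤ WC97.tdegN H.hom (u.left p) := by
    rw [hd]
    have h4 := hqd.symm.trans (hdim.symm.trans hpd)
    exact le_of_eq (by exact_mod_cast h4)
  rw [Var76.FibreBound.eq_of_tdegN_le H.hom hqp hle]
end Groth.Agent.S18027
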