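import Groth.Statements.S14359
import Mathlib.RingTheory.Ideal.AssociatedPrime.Basic
import Mathlib.RingTheory.Ideal.KrullsHeightTheorem
import Mathlib.RingTheory.IntegralClosure.Algebra.Basic

set_option autoImplicit false
universe u
open CAlg

namespace Groth.Agent.S14359

/-- Let A be a Noetherian integrally closed integral domain and b a nonzero element of A. Then every
associated prime of the A-module A/(b) has height one, so that A/(b) has no embedded associated
primes. -/
theorem result
    (A : Type u) [CommRing A] [IsDomain A] [IsNoetherianRing A] [IsIntegrallyClosed A]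
    (b : A) (hb : b ≠ 0) (p : Ideal A) (hp : p ∈ associatedPrimes A (A ⧸ Ideal.span {b})) :
    p.height = 1 := by
  obtain ⟨x, hx⟩ := (isAssociatedPrime_iff.1 hp).2
  obtain ⟨a, rfl⟩ := Ideal.Quotient.mk_surjective x
  have hpmem : ∀ r, r ∈ p ↔ r * a ∈ Ideal.span {b} := by
    intro r
    rw [hx, Submodule.mem_colon_singleton, Submodule.mem_bot, Algebra.smul_def,
      Ideal.Quotient.algebraMap_eq, ← map_mul, Ideal.Quotient.eq_zero_iff_mem]
  have hprime : p.IsPrime := hp.isPrime
  have ha : a ∉ Ideal.span {b} := fun h => hprime.ne_top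
    ((Ideal.eq_top_iff_one _).2 ((hpmem 1).2 (by simpa using h)))
  have hbp : b ∈ p := (hpmem b).2 (Ideal.mem_span_singleton'.2 ⟨a, mul_comm a b⟩)
  have hne : p ≠ ⊥ := fun h => hb (by rwa [h, Ideal.mem_bot] at hbp)
  let K := FractionRing A
  have hbK : algebraMap A K b ≠ 0 := (map_ne_zero_iff _ (IsFractionRing.injective A K)).2 hb
  obtain ⟨z, hz, c, hc, hcp⟩ : ∃ z ∈ p, ∃ c, c * b = z * a ∧ c ∉ p := by
    by_contra H
    push Not at H
    let N : Submodule A K := Submodule.map (Algebra.linearMap A K) p
    have hint : IsIntegral A (algebraMap A K a / algebraMap A K b) := by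
      refine isIntegral_of_smul_mem_submodule N ?_ ?_ _ ?_
      · intro h
        have : algebraMap A K b ∈ N := ⟨b, hbp, rfl⟩
        rw [h, Submodule.mem_bot] at this
        exact hbK this
      · exact Submodule.FG.map _ (IsNoetherian.noetherian p)
      · rintro _ ⟨z, hz, rfl⟩
        obtain ⟨c, hc⟩ := Ideal.mem_span_singleton'.1 ((hpmem z).1 hz)
        refine ⟨c, H z hz c hc, ?_⟩
        show algebraMap A K c = (algebraMap A K a / algebraMap A K b) * algebraMap A K z
        rw [div_mul_eq_mul_div, eq_div_iff hbK, ← map_mul, ← map_mul, hc, mul_comm]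
    obtain ⟨c, hc⟩ := IsIntegrallyClosed.isIntegral_iff.1 hint
    rw [eq_div_iff hbK, ← map_mul] at hc
    exact ha (Ideal.mem_span_singleton'.2 ⟨c, IsFractionRing.injective A K hc⟩)
  have hmin : p ∈ (Ideal.span {z}).minimalPrimes := by
    refine ⟨⟨hprime, (Ideal.span_singleton_le_iff_mem _).2 hz⟩, fun q hq hqp y hy => ?_⟩
    obtain ⟨d, hd⟩ := Ideal.mem_span_singleton'.1 ((hpmem y).1 hy)
    have heq : c * y = d * z := mul_right_cancel₀ hb <| by
      calc c * y * b = y * (c * b) := by ring
        _ = z * (y * a) := by rw [hc]; ring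
        _ = d * z * b := by rw [← hd]; ring
    have : c * y ∈ q := heq ▸ q.mul_mem_left d ((Ideal.span_singleton_le_iff_mem _).1 hq.2)
    exact (hq.1.mem_or_mem this).resolve_left fun h => hcp (hqp h)
  refine le_antisymm (Ideal.height_le_one_of_isPrincipal_of_mem_minimalPrimes _ p hmin) ?_
  rw [Order.one_le_iff_pos, pos_iff_ne_zero]
  intro h0
  have hm := Ideal.height_eq_zero_iff.1 h0
  rw [IsDomain.minimalPrimes_eq_singleton_bot] at hm
  exact hne hm

end Groth.Agent.S14359
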