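import Groth.Statements.S4541
import Groth.Agent.PBasis12.Field
import Groth.Agent.FSAdic12.Basic
import Mathlib.RingTheory.Unramified.Finite
import Mathlib.Algebra.Algebra.Epi
import Mathlib.RingTheory.Ideal.IdempotentFG
import Mathlib.RingTheory.IntegralClosure.IsIntegralClosure.Basic
import Mathlib.RingTheory.Smooth.Basic
import Mathlib.FieldTheory.Perfect
import Groth.Prelude.Def_FSRel

set_option autoImplicit false
set_option linter.all false
universe u
open EGA41 TensorProduct Groth.Agent.PBasis12

namespace Groth.Agent.S4541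

/-- Let p be a prime, A a perfect ring of characteristic p and B a reduced A-algebra of characteristic p
which admits a p-basis (x_α) over A. Then B is a formally smooth A-algebra (discrete topologies);
more precisely, for every A-algebra E, every nilpotent ideal R of E, every A-algebra homomorphism v
: B → E/R and every family (z_α) of elements of E lifting the v(x_α), there is a unique A-algebra
homomorphism w : B → E lifting v with w(x_α) = z_α for all α. (The published statement assumes,
instead of A perfect and B reduced, that the canonical map A^(p) ⊗_A B → B^(p), a ⊗ b ↦ a b^p with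
Frobenius-twisted structures, is injective; when A is perfect that condition says exactly that B is
reduced, which is the case stated here. The published statement also treats admissible topological
E; only discrete E is stated.) -/
theorem result (p : ℕ) [Fact p.Prime] {A B : Type u} [CommRing A] [CharP A p]
    [PerfectRing A p] [CommRing B] [Algebra A B] [CharP B p] [IsReduced B]
    {ι : Type u} (x : ι → B) (hx : EGA41.IsPBasis p A x) :
    Algebra.FormallySmooth A B ∧
    ∀ (E : Type u) [CommRing E] [Algebra A E] (R : Ideal E), IsNilpotent R →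
      ∀ (v : B →ₐ[A] E ⧸ R) (z : ι → E), (∀ i, Ideal.Quotient.mk R (z i) = v (x i)) →
        ∃! w : B →ₐ[A] E, (Ideal.Quotient.mkₐ A R).comp w = v ∧ ∀ i, w (x i) = z i := by
  have hp2 : 2 ≤ p := (Fact.out : p.Prime).two_le
  set S := pPowerSubalgebra p A B
  -- every element of `S` is a `p`-th power
  have hS : ∀ s : S, ∃ b : B, b ^ p = s := by
    intro s
    have hle : S ≤ { (frobenius B p).range.toSubsemiring with
        algebraMap_mem' := fun a => by
          obtain ⟨c, rfl⟩ := surjective_frobenius A p a
          exact ⟨algebraMap A B c, by rw [frobenius_def, frobenius_def, map_pow]⟩ } := by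
      refine Algebra.adjoin_le ?_
      rintro _ ⟨b, rfl⟩
      exact ⟨b, rfl⟩
    exact hle s.2
  choose rt hrt using hS
  have hfi : ∀ a b : B, a ^ p = b ^ p → a = b := fun a b h => frobenius_inj B p h
  -- square-zero case
  have sq : ∀ (E : Type u) [CommRing E] [Algebra A E] (R : Ideal E), R ^ 2 = ⊥ →
      ∀ (v : B →ₐ[A] E ⧸ R) (z : ι → E), (∀ i, Ideal.Quotient.mk R (z i) = v (x i)) →
        ∃! w : B →ₐ[A] E, (Ideal.Quotient.mkₐ A R).comp w = v ∧ ∀ i, w (x i) = z i := by
    intro E _ _ R hR v z hz
    have hp : (p : E) = 0 := by rw [← map_natCast (algebraMap A E), CharP.cast_eq_zero, map_zero]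
    have hwd : ∀ e e' : E, Ideal.Quotient.mk R e = Ideal.Quotient.mk R e' → e ^ p = e' ^ p := by
      intro e e' h
      have h2 : (e - e') ^ p = 0 := by
        have := Ideal.pow_le_pow_right hp2 (Ideal.pow_mem_pow (Ideal.Quotient.eq.mp h) p)
        rwa [hR, Ideal.mem_bot] at this
      rcases subsingleton_or_nontrivial E with hE | hE
      · exact Subsingleton.elim _ _
      haveI : CharP E p := (CharP.charP_iff_prime_eq_zero Fact.out).mpr hp
      rwa [sub_pow_char, sub_eq_zero] at h2
    choose lft hlft using fun s : S => Ideal.Quotient.mk_surjective (v (rt s))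
    have hadd : ∀ e e' : E, (e + e') ^ p = e ^ p + e' ^ p := by
      intro e e'
      rcases subsingleton_or_nontrivial E with hE | hE
      · exact Subsingleton.elim _ _
      haveI : CharP E p := (CharP.charP_iff_prime_eq_zero Fact.out).mpr hp
      exact add_pow_char e e' p
    have key : ∀ (s : S) (e : E) (b : B), b ^ p = (s : B) → Ideal.Quotient.mk R e = v b →
        lft s ^ p = e ^ p := by
      intro s e b hb he
      refine hwd _ _ ?_
      rw [hlft, he, hfi (rt s) b (by rw [hrt, hb])]
    let φ : S →ₐ[A] E :=
      { toFun := fun s => lft s ^ p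
        map_one' := (key 1 1 1 (by simp) (by simp)).trans (one_pow p)
        map_mul' := fun s t => (key (s * t) (lft s * lft t) (rt s * rt t)
          (by rw [mul_pow, hrt, hrt]; rfl) (by rw [map_mul, hlft, hlft, map_mul])).trans (mul_pow _ _ _)
        map_zero' := (key 0 0 0 (by simp [(Fact.out : p.Prime).ne_zero]) (by simp)).trans
          (zero_pow (Fact.out : p.Prime).ne_zero)
        map_add' := fun s t => (key (s + t) (lft s + lft t) (rt s + rt t)
          (by rw [add_pow_char, hrt, hrt]; rfl) (by rw [map_add, hlft, hlft, map_add])).trans (hadd _ _)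
        commutes' := fun a => by
          obtain ⟨c, rfl⟩ := surjective_frobenius A p a
          refine (key _ (algebraMap A E c) (algebraMap A B c) ?_ ?_).trans ?_
          · show _ = algebraMap A B (frobenius A p c)
            rw [frobenius_def, map_pow]
          · rw [v.commutes]; rfl
          · rw [frobenius_def, map_pow] }
    letI : Algebra S E := φ.toRingHom.toAlgebra
    haveI : IsScalarTower A S E := IsScalarTower.of_algebraMap_eq fun a => (φ.commutes a).symm
    obtain ⟨w, hw, huniq⟩ := existsUnique_algHom hx.1 hx.2 (s := fun i => (⟨x i ^ p, pow_mem_pPower _⟩ : S))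
      (fun i => rfl) z (fun i => (key _ (z i) (x i) rfl (hz i)).symm)
    refine ⟨w.restrictScalars A, ⟨AlgHom.ext fun b => ?_, hw⟩, fun w' ⟨h1, h2⟩ => ?_⟩
    · have hb : b ∈ Algebra.adjoin S (Set.range x) := by rw [adjoin_eq_top hx.2]; trivial
      show Ideal.Quotient.mk R (w b) = v b
      induction hb using Algebra.adjoin_induction with
      | mem b hb => obtain ⟨i, rfl⟩ := hb; rw [hw, hz]
      | algebraMap s =>
        rw [w.commutes]
        show Ideal.Quotient.mk R (lft s ^ p) = v s
        rw [map_pow, hlft, ← map_pow, hrt]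
      | add a b _ _ ha hb => simp [ha, hb]
      | mul a b _ _ ha hb => simp [ha, hb]
    · let w'' : B →ₐ[S] E :=
        { w'.toRingHom with
          commutes' := fun s => by
            show w' s = lft s ^ p
            rw [key s (w' (rt s)) (rt s) (hrt s) (AlgHom.congr_fun h1 (rt s)), ← map_pow, hrt] }
      have := huniq w'' h2
      exact AlgHom.ext fun b => AlgHom.congr_fun this b
  have main : ∀ n : ℕ, ∀ (E : Type u) [CommRing E] [Algebra A E] (R : Ideal E), R ^ (n + 2) = ⊥ →
      ∀ (v : B →ₐ[A] E ⧸ R) (z : ι → E), (∀ i, Ideal.Quotient.mk R (z i) = v (x i)) →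
        ∃! w : B →ₐ[A] E, (Ideal.Quotient.mkₐ A R).comp w = v ∧ ∀ i, w (x i) = z i := by
    intro n
    induction n with
    | zero => intro E _ _ R hR; exact sq E R hR
    | succ n ih =>
      intro E _ _ R hR v z hz
      set I := R ^ (n + 2) with hI
      have hIR : I ≤ R := Ideal.pow_le_self (by omega)
      have hI2 : I ^ 2 = ⊥ := by
        rw [hI, ← pow_mul, eq_bot_iff, ← hR]
        exact Ideal.pow_le_pow_right (by omega)
      have hRI : R.map (Ideal.Quotient.mkₐ A I) ^ (n + 2) = ⊥ := by
        rw [← Ideal.map_pow, ← hI]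
        exact Ideal.map_quotient_self I
      let e : ((E ⧸ I) ⧸ R.map (Ideal.Quotient.mkₐ A I)) ≃ₐ[A] E ⧸ R :=
        DoubleQuot.quotQuotEquivQuotOfLEₐ A hIR
      obtain ⟨w₁, ⟨hw₁, hw₁z⟩, hu₁⟩ := ih (E ⧸ I) _ hRI (e.symm.toAlgHom.comp v) (fun i => Ideal.Quotient.mk I (z i))
        (fun i => e.injective (by rw [AlgHom.comp_apply]; exact ((hz i).trans (e.apply_symm_apply _).symm)))
      obtain ⟨w, ⟨hw, hwz⟩, hu⟩ := sq E I hI2 w₁ z (fun i => (hw₁z i).symm)
      refine ⟨w, ⟨AlgHom.ext fun b => ?_, hwz⟩, fun w' ⟨h1, h2⟩ => hu w' ⟨?_, h2⟩⟩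
      · refine Eq.trans ?_ (e.apply_symm_apply (v b))
        refine Eq.trans ?_ (congrArg e (AlgHom.congr_fun hw₁ b))
        show Ideal.Quotient.mk R (w b) = e (Ideal.Quotient.mk _ (w₁ b))
        rw [← AlgHom.congr_fun hw b]
        rfl
      · refine hu₁ _ ⟨AlgHom.ext fun b => e.injective ?_, fun i => ?_⟩
        · show e (Ideal.Quotient.mk _ (Ideal.Quotient.mk I (w' b))) = e (e.symm (v b))
          rw [e.apply_symm_apply, ← AlgHom.congr_fun h1 b]
          rfl
        · show Ideal.Quotient.mk I (w' (x i)) = Ideal.Quotient.mk I (z i)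
          rw [h2]
  refine ⟨Algebra.FormallySmooth.of_comp_surjective fun E _ _ I hI v => ?_, fun E _ _ R ⟨n, hn⟩ v z hz => ?_⟩
  · choose z hz using fun i => Ideal.Quotient.mk_surjective (v (x i))
    obtain ⟨w, ⟨hw, -⟩, -⟩ := sq E I hI v z hz
    exact ⟨w, hw⟩
  · exact main n E R (eq_bot_iff.mpr ((Ideal.pow_le_pow_right (by omega)).trans hn.le)) v z hz

end Groth.Agent.S4541
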