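import Groth.Statements.S3019
import Groth.Agent.Comod33.Chevalley
import Mathlib.RingTheory.FiniteType
-- import your own Groth.Agent.* helpers here

set_option autoImplicit false
universe u
open CategoryTheory MonoidalCategory CartesianMonoidalCategory MonObj GrpObj AlgebraicGeometry TensorProduct
open SGA3

namespace Groth.Agent.S3019

open TensorProduct Matrix

/-- Let A be a finitely generated commutative Hopf algebra over a field k (an affine algebraic k-group
G) and I a Hopf ideal (a closed subgroup scheme H). Then there are a finite-dimensional A-comodule V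
and a nonzero vector v ∈ V such that, for every k-algebra R, an R-point of G kills I exactly when it
carries v to an R-multiple of v: H is the stabilizer of the line through v. -/
theorem result (k : Type u) [Field k] (A : Type u) [CommRing A] [HopfAlgebra k A]
    [Algebra.FiniteType k A] (I : Ideal A) [I.IsHopfIdeal k] :
    ∃ (V : Type u) (_ : AddCommGroup V) (_ : Module k V) (_ : HopfRep.Comod k A V) (_ : Module.Finite k V) (v : V),
      v ≠ 0 ∧ Dyn.Represents k A I (fun R _ _ g => SGA3.StabilizesLine k A v R g) := by
  let B := A ⧸ I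
  let π : A →ₐc[k] B := Bialgebra.Quotient.mkBialgHom I
  have hπ : Function.Surjective π := Ideal.Quotient.mk_surjective
  have hKI : RingHom.ker (π : A →+* B) = I := Ideal.mk_ker
  classical
  haveI : IsNoetherianRing A := Algebra.FiniteType.isNoetherianRing k A
  let K : Ideal A := RingHom.ker (π : A →+* B)
  obtain ⟨s, hs⟩ := IsNoetherian.noetherian K
  obtain ⟨V, hVfin, hsV, hV⟩ := Comod33.exists_finite_subcomod_le (k := k) (A := A) (V := A)
    (Submodule.span k (s : Set A))
  letI cV : HopfRep.Comod k A V := ComodSub.Comod.restr inferInstance V hV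
  let W : Submodule k V := (K.restrictScalars k).comap V.subtype
  obtain ⟨d, e, b, hb⟩ := Comod33.Mat.exists_adapted_basis W
  let c : Fin d ⊕ Fin e → Fin d ⊕ Fin e → A := Comod33.Mat.mc (A := A) b
  have hc : Comod33.Mat.IsRep (k := k) c := Comod33.Mat.isRep_mc b
  have hΔ : ∀ j, CoalgebraStruct.comul (R := k) (b j : A) = ∑ i, (b i : A) ⊗ₜ[k] c i j := by
    intro j
    have := ComodSub.restr_coact_coe (inferInstance : HopfRep.Comod k A A) V hV (b j)
    rw [Comod33.Mat.coact_basis, map_sum] at this
    exact this.symm
  have hK : ∀ x : V, x ∈ W ↔ π (x : A) = 0 := fun x => Iff.rfl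
  have hli : LinearIndependent k fun i : Fin e => π (b (Sum.inr i) : A) := by
    rw [Fintype.linearIndependent_iff]
    intro f hf i
    have hmem : ∑ l, f l • b (Sum.inr l) ∈ W := by
      rw [hK, Submodule.coe_sum, map_sum]
      simpa [map_smul] using hf
    rw [hb] at hmem
    have h0 : b.repr (∑ l, f l • b (Sum.inr l)) (Sum.inr i) = 0 := by
      have : Submodule.span k (Set.range fun j => b (Sum.inl j)) ≤
          LinearMap.ker (b.coord (Sum.inr i)) := Submodule.span_le.2 (by
        rintro _ ⟨l, rfl⟩; simp)
      exact this hmem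
    simpa [Finsupp.single_apply] using h0
  have hbW : ∀ j, π (b (Sum.inl j) : A) = 0 := fun j =>
    (hK _).1 (hb ▸ Submodule.subset_span ⟨j, rfl⟩)
  have hH : ∀ (i : Fin e) (j : Fin d), π (c (Sum.inr i) (Sum.inl j)) = 0 := by
    intro i j
    let T : (Fin e → k) →ₗ[k] B := Fintype.linearCombination k fun l => π (b (Sum.inr l) : A)
    obtain ⟨G, hG⟩ := T.exists_leftInverse_of_injective
      (LinearMap.ker_eq_bot'.2 fun f hf => funext (Fintype.linearIndependent_iff.1 hli f
        (by simpa [T, Fintype.linearCombination_apply] using hf)))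
    have hG' : ∀ l, G (π (b (Sum.inr l) : A)) i = if l = i then 1 else 0 := by
      intro l
      have := congrFun (LinearMap.congr_fun hG (Pi.single l (1 : k))) i
      simpa [T, Fintype.linearCombination_apply_single, Pi.single_apply, eq_comm] using this
    have h := congrArg (fun t => TensorProduct.lid k B
      ((LinearMap.proj i ∘ₗ G).rTensor B
        (TensorProduct.map (π : A →ₗ[k] B) (π : A →ₗ[k] B) t))) (hΔ (Sum.inl j))
    rw [CoalgHomClass.map_comp_comul_apply] at h
    rw [show π (b (Sum.inl j) : A) = 0 from hbW j] at h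
    simp only [map_zero, map_sum, TensorProduct.map_tmul, LinearMap.rTensor_tmul, lid_tmul,
      LinearMap.comp_apply, LinearMap.proj_apply, Fintype.sum_sum_type] at h
    rw [eq_comm] at h
    simpa [hbW, hG'] using h
  have hgen : ∀ (R : Type u) [CommRing R] [Algebra k R] (g : A →ₐ[k] R),
      (∀ (i : Fin e) (j : Fin d), g (c (Sum.inr i) (Sum.inl j)) = 0) → ∀ a ∈ K, g a = 0 := by
    intro R _ _ g hg a ha
    have hW0 : ∀ j, g (b (Sum.inl j) : A) = 0 := by
      intro j
      have h := congrArg (fun t => TensorProduct.lid k A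
        ((CoalgebraStruct.counit (R := k) (A := A)).rTensor A t)) (hΔ (Sum.inl j))
      simp only [Coalgebra.rTensor_counit_comul, lid_tmul, one_smul, map_sum, LinearMap.rTensor_tmul,
        Fintype.sum_sum_type] at h
      have hε : ∀ l, CoalgebraStruct.counit (R := k) (b (Sum.inl l) : A) = 0 := fun l => by
        rw [← CoalgHomClass.counit_comp_apply π, hbW, map_zero]
      simp only [map_add, map_sum, LinearMap.rTensor_tmul, lid_tmul, hε, zero_smul,
        Finset.sum_const_zero, zero_add] at h
      rw [h, map_sum]
      exact Finset.sum_eq_zero fun l _ => by rw [map_smul, hg, smul_zero]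
    have hle : K ≤ RingHom.ker g := by
      rw [← hs, Submodule.span_le]
      intro x hx
      have hxV : x ∈ V := hsV (Submodule.subset_span hx)
      have hxW : (⟨x, hxV⟩ : V) ∈ W := (hK _).2 (show x ∈ K from hs ▸ Submodule.subset_span hx)
      rw [hb] at hxW
      have : Submodule.span k (Set.range fun j => b (Sum.inl j)) ≤
          LinearMap.ker (g.toLinearMap ∘ₗ V.subtype) := Submodule.span_le.2 (by
        rintro _ ⟨l, rfl⟩; exact hW0 l)
      exact this hxW
    exact hle ha
  let c₁ := Comod33.Mat.powFam c
  have hc₁ : Comod33.Mat.IsRep (k := k) c₁ := Comod33.Mat.isRep_pow hc d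
  let v₁ := Comod33.Mat.wedgeVec k d (Fin e)
  have hv₁ : v₁ ≠ 0 := fun h => by
    have := congrFun h Sum.inl
    simp only [v₁, Comod33.Mat.wedgeVec_inl, Pi.zero_apply] at this
    exact one_ne_zero this
  refine ⟨_, inferInstance, inferInstance, Comod33.Mat.comod hc₁, inferInstance, v₁, hv₁, fun R _ _ g => ?_⟩
  constructor
  · intro hg
    have hblock : ∀ (i : Fin e) (j : Fin d), g (c (Sum.inr i) (Sum.inl j)) = 0 := fun i j =>
      hg _ (hKI.le (hH i j))
    exact ⟨_, (Comod33.Mat.lTensor_repCoact_eq_iff g v₁ _).2
      (Comod33.Mat.forall_mulVec_wedgeVec_of_block g hblock)⟩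
  · rintro ⟨a, ha⟩ x hx
    refine hgen R g (fun i j => ?_) x (hKI.ge hx)
    have h := (Comod33.Mat.lTensor_repCoact_eq_iff g v₁ a).1 ha
    exact Comod33.Mat.block_of_forall_mulVec_wedgeVec g (Comod33.Mat.isUnit_of_eigen hc₁ g hv₁ h) h i j


end Groth.Agent.S3019
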