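import Groth.Statements.S3006
import Groth.Agent.RedPts82.Normalizer
import Groth.Agent.SGA3a.GrpSep
-- import your own Groth.Agent.* helpers here

set_option autoImplicit false
universe u
open CategoryTheory MonoidalCategory CartesianMonoidalCategory MonObj GrpObj AlgebraicGeometry
open Red

namespace Groth.Agent.S3006

open CategoryTheory.Limits Groth.Agent.RedPts82

set_option backward.isDefEq.respectTransparency.types false in
theorem lfp_ds (U : Scheme.{u}) (r : ℕ) :
    LocallyOfFinitePresentation (Red.DS U (Fin r → ℤ)).hom := by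
  refine MorphismProperty.pullback_snd
    (P := (@LocallyOfFinitePresentation : MorphismProperty Scheme.{u})) _ _ ?_
  refine (HasRingHomProperty.Spec_iff (P := @LocallyOfFinitePresentation)).mpr ?_
  refine RingHom.finitePresentation_algebraMap.mpr ?_
  haveI : Monoid.FG (Multiplicative (Fin r → ℤ)) := by
    haveI : AddMonoid.FG (Fin r → ℤ) := AddGroup.fg_iff_addMonoid_fg.mp
      (Module.Finite.iff_addGroup_fg.mp inferInstance)
    infer_instance
  haveI : IsNoetherianRing ZU.{u} := isNoetherianRing_of_ringEquiv ℤ ULift.ringEquiv.symm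
  exact Algebra.FinitePresentation.of_finiteType.mp inferInstance

/-- Let S be a scheme, G an S-group scheme smooth and of finite presentation over S, and q : Q → G a
closed subgroup scheme which is a torus. Then the centralizer and the normalizer of Q in G exist as
closed subgroup schemes of G (characterized on points as in `Red.IsCentralizerOf` /
`Red.IsNormalizerOf`) and are smooth over S. -/
theorem result (S : Scheme.{u}) (G Q : Over S) [GrpObj G] [GrpObj Q] [Smooth G.hom] [LocallyOfFinitePresentation G.hom] [QuasiCompact G.hom] [QuasiSeparated G.hom] (q : Q ⟶ G) [IsMonHom q] (hq : IsClosedImmersion q.left) (hQ : Red.IsTorus Q) : (∃ (Z : Over S) (_ : GrpObj Z) (z : Z ⟶ G), Red.IsCentralizerOf q z ∧ IsClosedImmersion z.left ∧ Smooth Z.hom) ∧ ∃ (N : Over S) (_ : GrpObj N) (n : N ⟶ G), Red.IsNormalizerOf q n ∧ IsClosedImmersion n.left ∧ Smooth N.hom := by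
  have hlfp : LocallyOfFinitePresentation Q.hom := by
    haveI : MorphismProperty.DescendsAlong (@LocallyOfFinitePresentation : MorphismProperty Scheme.{u})
        Unr55.fpqc.{u} := by
      unfold Unr55.fpqc; infer_instance
    exact isTorus_prop (@LocallyOfFinitePresentation) hQ fun U r => lfp_ds U r
  have hH : IsMultType Q := by
    obtain ⟨S', f, hf, hs, hqc, hloc⟩ := hQ
    refine ⟨S', f, hf, hs, hqc, fun s' => ?_⟩
    obtain ⟨U, hU, r, hr⟩ := hloc s'
    exact ⟨U, hU, _, inferInstance, hr⟩
  haveI : LocallyOfFinitePresentation q.left := by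
    haveI : LocallyOfFinitePresentation (q.left ≫ G.hom) := by rw [Over.w q]; exact hlfp
    exact Groth.Agent.LimDesc62.lfp_of_comp q.left G.hom
  -- the group is separated
  haveI : IsClosedImmersion η[G].left := by
    haveI := isMultType_isAffineHom hH
    haveI : IsClosedImmersion η[Q].left := by
      haveI : IsClosedImmersion (η[Q].left ≫ Q.hom) := by
        rw [Over.w η[Q]]
        exact inferInstanceAs (IsClosedImmersion (𝟙 S))
      exact IsClosedImmersion.of_comp η[Q].left Q.hom
    rw [← IsMonHom.one_hom q, Over.comp_left]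
    infer_instance
  haveI : IsSeparated G.hom := Groth.Agent.SGA3a.isSeparated_of_isClosedImmersion_one G
  refine ⟨?_, exists_smooth_normalizer hH q⟩
  obtain ⟨C, c, hc, hsm, hC⟩ := exists_smooth_fixedPts hH
    ((fst Q G ≫ q) * snd Q G * (fst Q G ≫ q)⁻¹) fun Z h h' p => by
      simp only [MonObj.comp_mul, GrpObj.comp_inv, lift_fst_assoc, lift_snd, MonObj.mul_comp]
      group
  haveI : Mono c := Over.mono_of_mono_left c
  have hC' : ∀ (X : Over S) (g : X ⟶ G), (∃ z : X ⟶ C, z ≫ c = g) ↔
      ∀ (X' : Over S) (x : X' ⟶ X) (h : X' ⟶ Q), (x ≫ g) * (h ≫ q) = (h ≫ q) * (x ≫ g) := by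
    intro X g
    refine (hC X g).trans (forall_congr' fun X' => forall_congr' fun x => forall_congr' fun a => ?_)
    simp only [MonObj.comp_mul, GrpObj.comp_inv, lift_fst_assoc, lift_snd]
    exact mul_inv_eq_iff_eq_mul.trans eq_comm
  obtain ⟨i, hi⟩ := exists_grpObj_mono c
    (fun T => (hC' T 1).mpr fun X' x h => by simp)
    (fun T a b => (hC' T _).mpr fun X' x h => by
      have ha := (hC' T (a ≫ c)).mp ⟨a, rfl⟩ X' x h
      have hb := (hC' T (b ≫ c)).mp ⟨b, rfl⟩ X' x h
      rw [MonObj.comp_mul, _root_.mul_assoc, hb, ← _root_.mul_assoc, ha, _root_.mul_assoc])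
    (fun T a => (hC' T _).mpr fun X' x h => by
      rw [GrpObj.comp_inv, inv_mul_eq_iff_eq_mul, ← _root_.mul_assoc,
        (hC' T (a ≫ c)).mp ⟨a, rfl⟩ X' x h, mul_inv_cancel_right])
  exact ⟨C, i, c, ⟨hi, inferInstance, hC'⟩, hc, hsm⟩

end Groth.Agent.S3006
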