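import Groth.Statements.S0549
import Mathlib
import Groth.Agent.CAlg1.Regular
import Groth.Agent.CAlg1.Complete

set_option autoImplicit false
universe u
open CAlg

namespace Groth.Agent.S0549

/-- A Noetherian local ring is a discrete valuation ring exactly when its completion at the maximal
ideal is a discrete valuation ring. -/
theorem result (A : Type u) [CommRing A] [IsLocalRing A]
    [IsNoetherianRing A] :
    (∃ _ : IsDomain A, IsDiscreteValuationRing A) ↔
      ∃ _ : IsDomain (AdicCompletion (IsLocalRing.maximalIdeal A) A),
        IsDiscreteValuationRing (AdicCompletion (IsLocalRing.maximalIdeal A) A) := by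
  have : IsNoetherianRing (AdicCompletion (IsLocalRing.maximalIdeal A) A) :=
    Groth.Agent.CAlg1.isNoetherianRing_adicCompletion _ (IsNoetherian.noetherian _)
  have key : ∀ (B : Type u) [CommRing B] [IsLocalRing B] [IsNoetherianRing B],
      (∃ _ : IsDomain B, IsDiscreteValuationRing B) ↔
        (IsRegularLocalRing B ∧ ringKrullDim B = 1) := by
    intro B _ _ _
    constructor
    · rintro ⟨hd, hv⟩
      exact ⟨inferInstance, IsPrincipalIdealRing.ringKrullDim_eq_one B
        (IsDiscreteValuationRing.not_isField B)⟩
    · rintro ⟨hr, hdim⟩
      have hd : IsDomain B := Groth.Agent.CAlg1.isDomain_regular B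
      have hnf : ¬ IsField B := fun h => by
        rw [ringKrullDim_eq_zero_of_isField h] at hdim
        exact zero_ne_one hdim
      have hs := IsRegularLocalRing.spanFinrank_maximalIdeal (R := B)
      rw [hdim] at hs
      have hp : (IsLocalRing.maximalIdeal B).IsPrincipal :=
        ((Submodule.spanFinrank_eq_one_iff _).mp (by exact_mod_cast hs)).1
      exact ⟨hd, ((IsDiscreteValuationRing.TFAE B hnf).out 0 4).mpr hp⟩
  rw [key A, key (AdicCompletion (IsLocalRing.maximalIdeal A) A),
    Groth.Agent.CAlg1.ringKrullDim_adicCompletion A, isRegularLocalRing_iff,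
    isRegularLocalRing_iff, AdicCompletion.spanFinrank_maximalIdeal_eq,
    Groth.Agent.CAlg1.ringKrullDim_adicCompletion A]

end Groth.Agent.S0549
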