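import Groth.Statements.S18029
import Groth.Agent.RedPts82.SubGrp
import Groth.Agent.RedPts82.DSChar
import Groth.Agent.RedPts82.SmoothTransporter
import Groth.Agent.AlgGrp79.Image
import Groth.Agent.S0414
import Groth.Agent.FlatMor67.GenericFibre
-- import your own Groth.Agent.* helpers here

set_option autoImplicit false
universe u
open CategoryTheory MonoidalCategory CartesianMonoidalCategory MonObj GrpObj AlgebraicGeometry CategoryTheory.Limits
open AlgGrp

namespace Groth.Agent.S18029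

open Groth.Agent in
theorem exists_lift_dom {S : Scheme.{u}} {A B Y X' : Over S} (w : A ⟶ B) [IsSchemeTheoreticallyDominant w.left]
    [QuasiCompact w.left] (φ : B ⟶ X') (c : Y ⟶ X') [IsClosedImmersion c.left] (y : A ⟶ Y) (h : y ≫ c = w ≫ φ) :
    ∃ φ' : B ⟶ Y, φ' ≫ c = φ := by
  let p := pullback c.left φ.left
  let s : p ⟶ B.left := pullback.snd c.left φ.left
  let l : A.left ⟶ p := pullback.lift y.left w.left (congrArg (fun m => m.left) h)
  have hiso : IsIso s := by
    rw [IsClosedImmersion.isIso_iff_ker_eq_bot, ← le_bot_iff, ← w.left.ker_eq_bot,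
      ← show l ≫ s = w.left from pullback.lift_snd _ _ _]
    exact Scheme.Hom.le_ker_comp _ _
  refine ⟨Over.homMk (inv s ≫ pullback.fst c.left φ.left) ?_, ?_⟩
  · rw [← Over.w c, Category.assoc, pullback.condition_assoc, IsIso.inv_hom_id_assoc, Over.w]
  · apply Over.OverMorphism.ext
    simp [s, pullback.condition]

open Groth.Agent in
theorem toBase_left' {S S' : Scheme.{u}} (f : S' ⟶ S) {P : Over S} {X : Over S'} (x : X ⟶ Red.bc f P) :
    (RedPts82.toBase f x).left = x.left ≫ pullback.fst P.hom f := RedPts82.toBase_left f x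

open Groth.Agent in
theorem spread {X : Scheme.{u}} [IsIntegral X] (G : Over X) [GrpObj G]
    [IsAffineHom G.hom] [LocallyOfFinitePresentation G.hom] {K : Scheme.{u}} (ζ : K ⟶ X)
    [Flat ζ] [Mono ζ] [QuasiCompact ζ] [IsDominant ζ] (hpt : Set.range ζ.base ⊆ {genericPoint X})
    (Hη : Over K) [GrpObj Hη] (i : Hη ⟶ Red.bc ζ G) [IsMonHom i] [IsClosedImmersion i.left] :
    ∃ (U : X.Opens) (ηU : K ⟶ (U : Scheme.{u})) (HU : Over (U : Scheme.{u}))
      (_ : GrpObj HU) (j : HU ⟶ Red.bc U.ι G) (φ : Hη.left ⟶ HU.left),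
      ηU ≫ U.ι = ζ ∧ IsMonHom j ∧ IsClosedImmersion j.left ∧
      IsPullback φ Hη.hom HU.hom ηU ∧
      φ ≫ j.left ≫ pullback.fst G.hom U.ι = i.left ≫ pullback.fst G.hom ζ := by
  let h : Hη.left ⟶ G.left := i.left ≫ pullback.fst G.hom ζ
  haveI : IsSeparated G.hom := inferInstance
  haveI : QuasiCompact h := by
    haveI : QuasiCompact (pullback.fst G.hom ζ) := inferInstance
    infer_instance
  haveI := AlgGrp79.schDominant_toImage h
  let p : h.image ⟶ X := h.imageι ≫ G.hom
  obtain ⟨U, hUd, hUf, -⟩ := S0414.result p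
  haveI := hUf
  have hηU : genericPoint X ∈ U := by
    obtain ⟨x, hx, -⟩ := hUd.inter_open_nonempty ⊤ isOpen_univ ⟨genericPoint X, trivial⟩ |>.imp fun x hx => And.intro hx.2 hx.1
    exact ((genericPoint_spec X).mem_open_set_iff U.isOpen).2 ⟨x, trivial, hx⟩
  have hr : Set.range ζ.base ⊆ Set.range U.ι.base := by
    refine hpt.trans ?_
    rw [Scheme.Opens.range_ι]
    exact Set.singleton_subset_iff.2 hηU
  let ηU : K ⟶ (U : Scheme.{u}) := IsOpenImmersion.lift U.ι ζ hr
  have hη : ηU ≫ U.ι = ζ := IsOpenImmersion.lift_fac _ _ _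
  let J := pullback h.imageι (pullback.fst G.hom U.ι)
  let jl : J ⟶ pullback G.hom U.ι := pullback.snd _ _
  let HU : Over (U : Scheme.{u}) := Over.mk (jl ≫ pullback.snd G.hom U.ι)
  let j : HU ⟶ Red.bc U.ι G := Over.homMk jl rfl
  haveI hjc : IsClosedImmersion j.left := inferInstanceAs (IsClosedImmersion (pullback.snd h.imageι (pullback.fst G.hom U.ι)))
  have hJ : IsPullback (pullback.fst h.imageι (pullback.fst G.hom U.ι)) HU.hom p U.ι :=
    IsPullback.paste_vert (IsPullback.of_hasPullback _ _) (IsPullback.of_hasPullback _ _)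
  haveI : Flat HU.hom := by
    rw [← hJ.flip.isoIsPullback_hom_fst _ _ (isPullback_morphismRestrict p U)]
    infer_instance
  -- the generic fibre of the image
  obtain ⟨cι, hc1, hc2⟩ : ∃ cι : pullback p ζ ⟶ pullback G.hom ζ,
      cι ≫ pullback.fst _ _ = pullback.fst p ζ ≫ h.imageι ∧ cι ≫ pullback.snd _ _ = pullback.snd p ζ :=
    ⟨pullback.lift (pullback.fst p ζ ≫ h.imageι) (pullback.snd p ζ)
      (by rw [Category.assoc]; exact pullback.condition), pullback.lift_fst _ _ _, pullback.lift_snd _ _ _⟩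
  have hw : i.left ≫ pullback.snd G.hom ζ = Hη.hom := Over.w i
  have hphom : h.toImage ≫ p = Hη.hom ≫ ζ := by
    rw [Scheme.Hom.toImage_imageι_assoc]
    simp [h, pullback.condition, ← hw]
  obtain ⟨a, ha1, ha2⟩ : ∃ a : Hη.left ⟶ pullback p ζ,
      a ≫ pullback.fst p ζ = h.toImage ∧ a ≫ pullback.snd p ζ = Hη.hom :=
    ⟨pullback.lift h.toImage Hη.hom hphom, pullback.lift_fst _ _ _, pullback.lift_snd _ _ _⟩
  have hac : a ≫ cι = i.left := by
    apply pullback.hom_ext
    · rw [Category.assoc, hc1, reassoc_of% ha1, Scheme.Hom.toImage_imageι]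
    · rw [Category.assoc, hc2, ha2]
      exact hw.symm
  have hpb : IsPullback (𝟙 Hη.left) a h.toImage (pullback.fst p ζ) := by
    refine ⟨⟨by rw [Category.id_comp, ha1]⟩, ⟨PullbackCone.IsLimit.mk _ (fun s => s.fst)
      (fun s => Category.comp_id _) (fun s => ?_) fun s m hm1 _ => by simpa using hm1⟩⟩
    apply pullback.hom_ext
    · rw [Category.assoc, ha1]
      exact s.condition
    · rw [← cancel_mono ζ, Category.assoc, Category.assoc, Category.assoc, reassoc_of% ha2,
        ← pullback.condition, ← hphom]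
      exact s.condition_assoc p
  haveI : Flat (pullback.fst p ζ) := inferInstance
  haveI : IsSchemeTheoreticallyDominant a := IsSchemeTheoreticallyDominant.of_isPullback hpb
  haveI : IsClosedImmersion cι := by
    have : IsPullback cι (pullback.fst p ζ) (pullback.fst G.hom ζ) h.imageι :=
      IsPullback.of_right (by rw [hc2]; exact (IsPullback.of_hasPullback p ζ).flip) hc1
        (IsPullback.of_hasPullback G.hom ζ).flip
    exact MorphismProperty.of_isPullback this.flip inferInstance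
  haveI : IsClosedImmersion (a ≫ cι) := by rw [hac]; infer_instance
  haveI : IsClosedImmersion a := IsClosedImmersion.of_comp a cι
  haveI : IsIso a := IsClosedImmersion.isIso_iff_ker_eq_bot.2 a.ker_eq_bot
  have hpη : IsPullback h.toImage Hη.hom p ζ :=
    (IsPullback.of_hasPullback p ζ).of_iso (asIso a).symm (Iso.refl _) (Iso.refl _) (Iso.refl _)
      (by simp [← ha1]) (by simp [← ha2]) (by simp) (by simp)
  let φ : Hη.left ⟶ HU.left := hJ.lift h.toImage (Hη.hom ≫ ηU) (by rw [Category.assoc, hη, hphom])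
  have hφ : IsPullback φ Hη.hom HU.hom ηU :=
    IsPullback.of_right (by simpa [φ, hη] using hpη) (hJ.lift_snd _ _ _) hJ
  have hφj : φ ≫ j.left ≫ pullback.fst G.hom U.ι = i.left ≫ pullback.fst G.hom ζ := by
    show φ ≫ pullback.snd _ _ ≫ _ = _
    rw [← pullback.condition, ← Category.assoc, hJ.lift_fst, Scheme.Hom.toImage_imageι]
  haveI : IsDominant ηU := by
    rw [isDominant_iff]
    refine dense_iff_inter_open.2 fun V hV ⟨v, hv⟩ => ?_
    obtain ⟨x, hx, y, rfl⟩ := (ζ.denseRange).exists_mem_open (U.ι.isOpenEmbedding.isOpenMap V hV) ⟨_, v, hv, rfl⟩ |>.elim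
      fun y hy => (⟨ζ y, hy, y, rfl⟩ : ∃ x, x ∈ U.ι '' V ∧ ∃ y, ζ y = x)
    obtain ⟨z, hz, hze⟩ := hx
    refine ⟨z, hz, y, U.ι.isOpenEmbedding.injective ?_⟩
    rw [hze, ← hη, Scheme.Hom.comp_apply]
  haveI : QuasiCompact (ηU ≫ U.ι) := by rw [hη]; infer_instance
  haveI : QuasiCompact ηU := QuasiCompact.of_comp ηU U.ι
  haveI : IsSchemeTheoreticallyDominant ηU := .of_isDominant ηU
  -- a map to the group over U which lifts on the generic fibre lifts
  have key : ∀ (B : Over (U : Scheme.{u})) [Flat B.hom] (θ : B ⟶ Red.bc U.ι G),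
      (∀ (T : Over K) (v : (Over.map ηU).obj T ⟶ B), ∃ x : T ⟶ Hη,
        x.left ≫ i.left ≫ pullback.fst G.hom ζ = v.left ≫ θ.left ≫ pullback.fst G.hom U.ι) →
      ∃ θ' : B ⟶ HU, θ' ≫ j = θ := by
    intro B _ θ hθ
    let T : Over K := Over.mk (pullback.snd B.hom ηU)
    let v : (Over.map ηU).obj T ⟶ B := Over.homMk (pullback.fst B.hom ηU) pullback.condition
    haveI : IsSchemeTheoreticallyDominant v.left :=
      inferInstanceAs (IsSchemeTheoreticallyDominant (pullback.fst B.hom ηU))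
    haveI : QuasiCompact v.left := inferInstanceAs (QuasiCompact (pullback.fst B.hom ηU))
    obtain ⟨x, hx⟩ := hθ T v
    let y : (Over.map ηU).obj T ⟶ HU := Over.homMk (x.left ≫ φ) (by
      show (x.left ≫ φ) ≫ HU.hom = T.hom ≫ ηU
      rw [Category.assoc, hφ.w, ← Category.assoc, Over.w x])
    refine exists_lift_dom v θ j y (RedPts82.toBase_injective U.ι (Over.OverMorphism.ext ?_))
    rw [toBase_left', toBase_left', Over.comp_left, Over.comp_left, Category.assoc, Category.assoc]
    show (x.left ≫ φ) ≫ j.left ≫ _ = _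
    rw [Category.assoc, hφj, hx]
  -- points over the generic fibre
  let z : ∀ (T : Over K), (Over.map U.ι).obj ((Over.map ηU).obj T) ≅ (Over.map ζ).obj T := fun T =>
    Over.isoMk (Iso.refl _) (by simp [hη])
  have pts : ∀ (T : Over K) (y : (Over.map ηU).obj T ⟶ HU), ∃ x : T ⟶ Hη,
      (z T).hom ≫ RedPts82.toBase ζ (x ≫ i) = RedPts82.toBase U.ι (y ≫ j) := by
    intro T y
    refine ⟨Over.homMk (hφ.lift y.left T.hom (Over.w y)) (hφ.lift_snd _ _ _), Over.OverMorphism.ext ?_⟩
    rw [Over.comp_left, toBase_left', toBase_left', Over.comp_left, Over.comp_left]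
    show 𝟙 _ ≫ (hφ.lift y.left T.hom (Over.w y) ≫ i.left) ≫ _ = _
    rw [Category.id_comp, Category.assoc, ← hφj, ← Category.assoc, hφ.lift_fst, Category.assoc]
  haveI : Mono j := by
    haveI : Mono ((Over.forget _).map j) := inferInstanceAs (Mono j.left)
    exact (Over.forget _).mono_of_mono_map inferInstance
  have stmt : ∀ {B : Over (U : Scheme.{u})} {θ : B ⟶ Red.bc U.ι G} {T : Over K}
      {v : (Over.map ηU).obj T ⟶ B} {x : T ⟶ Hη},
      (z T).hom ≫ RedPts82.toBase ζ (x ≫ i) = RedPts82.toBase U.ι (v ≫ θ) →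
      x.left ≫ i.left ≫ pullback.fst G.hom ζ = v.left ≫ θ.left ≫ pullback.fst G.hom U.ι := by
    intro B θ T v x hx
    have := congrArg (fun m => m.left) hx
    simp only [Over.comp_left, toBase_left', Category.assoc] at this
    rw [← this]
    exact (Category.id_comp _).symm
  obtain ⟨m, hm⟩ : ∃ m : HU ⊗ HU ⟶ HU, m ≫ j = (fst _ _ ≫ j) * (snd _ _ ≫ j) := by
    haveI : Flat (HU ⊗ HU).hom := by
      haveI : Flat (pullback.fst HU.hom HU.hom) := inferInstance
      exact inferInstanceAs (Flat (pullback.fst HU.hom HU.hom ≫ HU.hom))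
    refine key _ _ fun T v => ?_
    obtain ⟨x, hx⟩ := pts T (v ≫ fst _ _)
    obtain ⟨x', hx'⟩ := pts T (v ≫ snd _ _)
    refine ⟨x * x', stmt ?_⟩
    rw [MonObj.mul_comp, RedPts82.toBase_mul, MonObj.comp_mul, hx, hx', ← RedPts82.toBase_mul,
      Category.assoc, Category.assoc, ← MonObj.comp_mul]
  obtain ⟨n, hn⟩ : ∃ n : HU ⟶ HU, n ≫ j = j⁻¹ := by
    refine key _ _ fun T v => ?_
    obtain ⟨x, hx⟩ := pts T v
    refine ⟨x⁻¹, stmt ?_⟩
    rw [GrpObj.inv_comp, RedPts82.toBase_inv, GrpObj.comp_inv, hx, ← RedPts82.toBase_inv, ← GrpObj.comp_inv]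
  obtain ⟨e, he⟩ : ∃ e : 𝟙_ _ ⟶ HU, e ≫ j = 1 := by
    haveI : Flat (𝟙_ (Over (U : Scheme.{u}))).hom := inferInstanceAs (Flat (𝟙 _))
    refine key _ _ fun T v => ⟨1, stmt ?_⟩
    rw [MonObj.one_comp, RedPts82.toBase_one, MonObj.comp_one, MonObj.comp_one, RedPts82.toBase_one]
  obtain ⟨_, hmon⟩ := RedPts82.exists_grpObj_mono j
    (fun T => ⟨toUnit T ≫ e, by rw [Category.assoc, he, MonObj.comp_one]⟩)
    (fun T a b => ⟨lift a b ≫ m, by
      rw [Category.assoc, hm, MonObj.comp_mul, lift_fst_assoc, lift_snd_assoc]⟩)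
    (fun T a => ⟨a ≫ n, by rw [Category.assoc, hn, GrpObj.comp_inv]⟩)
  exact ⟨U, ηU, HU, ‹_›, j, φ, hη, hmon, hjc, hφ, hφj⟩

/-- Closed subgroups of the generic fibre spread out. Let `X` be an integral scheme with generic point
`η : Spec K(X) ⟶ X`, `G` an affine `X`-group scheme locally of finite presentation and `H_η` a
closed subgroup scheme of the generic fibre `G_η = G ×_X Spec K(X)`. Then there are a non-empty open
`U ⊆ X` (through which `η` factors) and a closed subgroup scheme `H_U` of `G ×_X U` whose generic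
fibre is `H_η`: a cartesian square presents `H_η` as `H_U ×_U Spec K(X)`, compatibly with the
embeddings into `G`. -/
theorem result
    (X : Scheme.{u}) [IsIntegral X] (G : Over X) [GrpObj G]
    [IsAffineHom G.hom] [LocallyOfFinitePresentation G.hom]
    (Hη : Over (Spec X.functionField)) [GrpObj Hη]
    (i : Hη ⟶ Red.bc (X.fromSpecStalk (genericPoint X)) G) [IsMonHom i] [IsClosedImmersion i.left] :
    ∃ (U : X.Opens) (ηU : Spec X.functionField ⟶ (U : Scheme.{u})) (HU : Over (U : Scheme.{u}))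
      (_ : GrpObj HU) (j : HU ⟶ Red.bc U.ι G) (φ : Hη.left ⟶ HU.left),
      ηU ≫ U.ι = X.fromSpecStalk (genericPoint X) ∧ IsMonHom j ∧ IsClosedImmersion j.left ∧
      IsPullback φ Hη.hom HU.hom ηU ∧
      φ ≫ j.left ≫ pullback.fst G.hom U.ι = i.left ≫ pullback.fst G.hom (X.fromSpecStalk (genericPoint X)) := by
  haveI : Flat (X.fromSpecStalk (genericPoint X)) := inferInstance
  haveI : Subsingleton ↥(Spec X.functionField) :=
    inferInstanceAs (Subsingleton (PrimeSpectrum (X.functionField : Type u)))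
  haveI : QuasiCompact (X.fromSpecStalk (genericPoint X)) :=
    ⟨fun V _ _ => (Set.subsingleton_of_subsingleton).finite.isCompact⟩
  have hpt : Set.range (X.fromSpecStalk (genericPoint X)).base ⊆ {genericPoint X} := by
    rintro _ ⟨y, rfl⟩
    rw [Subsingleton.elim y (IsLocalRing.closedPoint (X.presheaf.stalk (genericPoint X))),
      Scheme.fromSpecStalk_closedPoint]
    rfl
  haveI : IsDominant (X.fromSpecStalk (genericPoint X)) := by
    rw [isDominant_iff]
    exact (dense_iff_closure_eq.2 (genericPoint_spec X)).mono (Set.singleton_subset_iff.2 ⟨(IsLocalRing.closedPoint _), Scheme.fromSpecStalk_closedPoint⟩)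
  exact spread G _ hpt Hη i

end Groth.Agent.S18029
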