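import Groth.Statements.S19202
import Groth.Agent.Ega11.RegLocal
import Groth.Agent.Div89.WeakAss
import Groth.Agent.FlatMor68.Basic
import Groth.Agent.Cyc90.Gen
import Mathlib.RingTheory.Flat.TorsionFree
import Mathlib.AlgebraicGeometry.Morphisms.Flat
import Mathlib.Topology.KrullDimension
import Mathlib.RingTheory.Ideal.AssociatedPrime.Localization
import Groth.Agent.FlatMor68.DedekindFlat

set_option autoImplicit false
universe u
open CategoryTheory AlgebraicGeometry
open FlatMor

namespace Groth.Agent.S19202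

open CategoryTheory CategoryTheory.Limits AlgebraicGeometry TopologicalSpace IsLocalRing Groth.Agent.FlatMor68.Basic Groth.Agent.Cyc90 Groth.Agent.FlatMor68.DedekindFlat

/-- Let R be a Dedekind domain, X and Y schemes over Spec R with X flat over Spec R, and f : X → Y a
morphism over Spec R. Then the scheme-theoretic image of f, i.e. the closed subscheme of Y cut out
by the kernel ideal sheaf of f, is flat over Spec R. (The published statement takes the base to be a
non-singular curve and f proper; this row takes the spectrum of any Dedekind domain and any morphism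
f over it.) -/
theorem result (R : Type u) [CommRing R] [IsDedekindDomain R]
    {X Y : Scheme.{u}} (p : X ⟶ Spec (CommRingCat.of R)) (q : Y ⟶ Spec (CommRingCat.of R))
    (f : X ⟶ Y) (w : f ≫ q = p) [Flat p] : Flat (f.imageι ≫ q) := by
  let S := Γ(Spec (CommRingCat.of R), ⊤)
  let e : S ≃+* R := (Scheme.ΓSpecIso (CommRingCat.of R)).commRingCatIsoToRingEquiv
  haveI : IsDomain S := e.toMulEquiv.isDomain
  let φ : ∀ U : Y.affineOpens, S →+* Γ(Y, U) := fun U => (q.appLE ⊤ U le_top).hom
  -- the saturation of the kernel ideals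
  let J : ∀ U : Y.affineOpens, Ideal Γ(Y, U) := fun U =>
    { carrier := {s | ∃ a : S, a ≠ 0 ∧ φ U a * s ∈ f.ker.ideal U}
      add_mem' := by
        rintro s t ⟨a, ha, has⟩ ⟨b, hb, hbt⟩
        refine ⟨a * b, mul_ne_zero ha hb, ?_⟩
        rw [map_mul, mul_add]
        refine add_mem ?_ ?_
        · rw [mul_comm (φ U a), mul_assoc]; exact Ideal.mul_mem_left _ _ has
        · rw [mul_assoc]; exact Ideal.mul_mem_left _ _ hbt
      zero_mem' := ⟨1, one_ne_zero, by simp⟩
      smul_mem' := by
        rintro r s ⟨a, ha, has⟩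
        refine ⟨a, ha, ?_⟩
        rw [smul_eq_mul, mul_left_comm]
        exact Ideal.mul_mem_left _ _ has }
  have hφ : ∀ (U : Y.affineOpens) (g : Γ(Y, U)) (a : S),
      (Y.presheaf.map (homOfLE (Y.basicOpen_le g)).op).hom (φ U a) = φ (Y.affineBasicOpen g) a := by
    intro U g a
    exact congr(CommRingCat.Hom.hom $(Scheme.Hom.appLE_map q (V' := Y.basicOpen g)
      (le_top : U.1 ≤ q ⁻¹ᵁ ⊤) (homOfLE (Y.basicOpen_le g)).op) a)
  let Jd : Y.IdealSheafData :=
    { ideal := J
      map_ideal_basicOpen := by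
        intro U g
        apply le_antisymm
        · refine Ideal.map_le_iff_le_comap.2 ?_
          rintro s ⟨a, ha, has⟩
          refine ⟨a, ha, ?_⟩
          have h3 := Ideal.mem_map_of_mem (Y.presheaf.map (homOfLE (Y.basicOpen_le g)).op).hom has
          rw [map_mul, hφ U g a, f.ker.map_ideal_basicOpen U g] at h3
          exact h3
        · rintro t ⟨a, ha, hat⟩
          have := U.2.isLocalization_basicOpen g
          obtain ⟨x, m, rfl⟩ := IsLocalization.exists_mk'_eq (.powers g) (t : Γ(Y, Y.basicOpen g))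
          obtain ⟨_, n, rfl⟩ := m
          have h2 : IsLocalization.mk' Γ(Y, Y.basicOpen g) (φ U a * x) (⟨g ^ n, n, rfl⟩ : Submonoid.powers g) ∈
              (f.ker.ideal U).map (algebraMap Γ(Y, U) Γ(Y, Y.basicOpen g)) := by
            rw [← IsLocalization.mul_mk'_eq_mk'_of_mul]
            refine (f.ker.map_ideal_basicOpen U g).ge ?_
            rw [show algebraMap Γ(Y, U) Γ(Y, Y.basicOpen g) (φ U a) = φ (Y.affineBasicOpen g) a from hφ U g a]
            exact hat
          obtain ⟨s', hs', hs''⟩ := (IsLocalization.mk'_mem_map_algebraMap_iff _ _ _ _ _).1 h2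
          refine (IsLocalization.mk'_mem_map_algebraMap_iff (Submonoid.powers g) Γ(Y, Y.basicOpen g) (J U) x
            (⟨g ^ n, n, rfl⟩ : Submonoid.powers g)).2 ⟨s', hs', a, ha, ?_⟩
          rw [mul_left_comm]; exact hs'' }
  have hJ : Jd ≤ f.ker := by
    refine Scheme.IdealSheafData.le_ofIdeals_iff.2 fun U => ?_
    rintro s ⟨a, ha, has⟩
    have h1 := RingHom.mem_ker.1 (f.ideal_ker_le U has)
    rw [map_mul] at h1
    refine RingHom.mem_ker.2 (nzd_sections R p a ha _ _ ?_)
    rw [← h1]
    congr 1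
    subst w
    show ((f ≫ q).appLE ⊤ (f ⁻¹ᵁ U.1) le_top).hom a = ((q.appLE ⊤ U.1 le_top) ≫ f.app U.1).hom a
    refine congr(CommRingCat.Hom.hom $(?_) a)
    rw [Scheme.Hom.app_eq_appLE]
    exact (Scheme.Hom.appLE_comp_appLE f q ⊤ U.1 (f ⁻¹ᵁ U.1) le_top le_rfl).symm
  haveI := HasRingHomProperty.instIsZariskiLocalAtSource (P := (@Flat : MorphismProperty Scheme.{u})) (Q := RingHom.Flat)
  refine (IsZariskiLocalAtSource.iff_of_openCover (P := (@Flat : MorphismProperty Scheme.{u})) f.ker.subschemeCover.openCover).2 fun (U : Y.affineOpens) => ?_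
  have e1 : f.ker.subschemeCover.f U ≫ f.ker.subschemeι ≫ q =
      Spec.map (q.appLE ⊤ U.1 le_top ≫ CommRingCat.ofHom (Ideal.Quotient.mk (f.ker.ideal U))) ≫
        (isAffineOpen_top (Spec (CommRingCat.of R))).fromSpec := by
    rw [Spec.map_comp, Category.assoc, IsAffineOpen.SpecMap_appLE_fromSpec q (isAffineOpen_top _) U.2 le_top,
      ← Category.assoc, Scheme.IdealSheafData.subschemeCover_map_subschemeι, ← U.2.isoSpec_inv_ι]
    simp only [Scheme.IdealSheafData.glueDataObjι]
    exact (Category.assoc _ _ _).trans (Category.assoc _ _ _)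
  show Flat (f.ker.subschemeCover.f U ≫ f.ker.subschemeι ≫ q)
  rw [e1]
  suffices h : Flat (Spec.map (q.appLE ⊤ U.1 le_top ≫ CommRingCat.ofHom (Ideal.Quotient.mk (f.ker.ideal U)))) by
    haveI := h
    exact @Flat.comp _ _ _ _ _ h inferInstance
  rw [Flat.SpecMap_iff]
  show RingHom.Flat ((Ideal.Quotient.mk (f.ker.ideal U)).comp (φ U))
  suffices h : RingHom.Flat (((Ideal.Quotient.mk (f.ker.ideal U)).comp (φ U)).comp e.symm.toRingHom) by
    have h2 := (RingHom.Flat.of_bijective (f := e.toRingHom) e.bijective).comp h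
    convert h2 using 1
    ext x; simp
  algebraize [((Ideal.Quotient.mk (f.ker.ideal U)).comp (φ U)).comp e.symm.toRingHom]
  show Module.Flat R (Γ(Y, U) ⧸ f.ker.ideal U)
  rw [IsDedekindDomain.flat_iff_torsion_eq_bot, eq_bot_iff]
  intro z hz
  obtain ⟨⟨a, ha⟩, haz⟩ := (Submodule.mem_torsion_iff z).1 hz
  obtain ⟨s, rfl⟩ := Ideal.Quotient.mk_surjective z
  rw [Submonoid.smul_def, Algebra.smul_def, RingHom.algebraMap_toAlgebra, RingHom.comp_apply,
    RingHom.comp_apply, ← map_mul, Ideal.Quotient.eq_zero_iff_mem] at haz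
  exact Ideal.Quotient.eq_zero_iff_mem.2
    (hJ U ⟨e.symm a, e.symm.injective.ne_iff' (map_zero _) |>.2 (nonZeroDivisors.ne_zero ha), haz⟩)

end Groth.Agent.S19202
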