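import Groth.Statements.S8473
import Groth.Agent.RedPts82.TorusConn
import Groth.Agent.RedPts82.Comm
import Groth.Agent.RedPts82.GaCoord
import Groth.Agent.RedPts82.GaNoTorus
import Mathlib.AlgebraicGeometry.AlgClosed.Basic
import Mathlib.AlgebraicGeometry.Morphisms.QuasiFinite
import Mathlib.AlgebraicGeometry.Morphisms.Etale
import Mathlib.AlgebraicGeometry.Morphisms.FlatMono
import Groth.Agent.RedPts82.TorusBasic
import Groth.Agent.Unr55.UnrQF

set_option autoImplicit false
universe u
open CategoryTheory MonoidalCategory CartesianMonoidalCategory MonObj GrpObj AlgebraicGeometry CategoryTheory.Limits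
open Red

namespace Groth.Agent.S8473

open CartesianMonoidalCategory MonObj GrpObj Groth.Agent.RedPts82

variable {K : Type u} [Field K] [IsAlgClosed K]

set_option backward.isDefEq.respectTransparency.types false in
theorem lft_ds (U : Scheme.{u}) (M : Type) [AddCommGroup M] [AddMonoid.FG M] :
    LocallyOfFiniteType (Red.DS U M).hom := by
  refine MorphismProperty.pullback_snd (P := (@LocallyOfFiniteType : MorphismProperty Scheme.{u})) _ _ ?_
  refine (HasRingHomProperty.Spec_iff (P := @LocallyOfFiniteType)).mpr ?_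
  exact RingHom.finiteType_algebraMap.mpr inferInstance

theorem lft_torus {T : Over (Spec (CommRingCat.of K))} [GrpObj T] (hT : Red.IsTorus T) :
    LocallyOfFiniteType T.hom :=
  have : MorphismProperty.DescendsAlong (@LocallyOfFiniteType : MorphismProperty Scheme.{u}) Unr55.fpqc.{u} := by
    unfold Unr55.fpqc; infer_instance
  isTorus_prop (@LocallyOfFiniteType) hT fun U r => lft_ds U _

/-- A morphism from a connected scheme to a discrete one is constant on rational points. -/
theorem pts_const {Z N : Over (Spec (CommRingCat.of K))} [PreconnectedSpace ↥Z.left]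
    [DiscreteTopology ↥N.left] [LocallyOfFiniteType N.hom] (c : Z ⟶ N)
    (z z₀ : 𝟙_ (Over (Spec (CommRingCat.of K))) ⟶ Z) : z ≫ c = z₀ ≫ c := by
  apply Over.OverMorphism.ext
  have h1 : (z ≫ c).left ≫ N.hom = 𝟙 _ := Over.w (z ≫ c)
  have h2 : (z₀ ≫ c).left ≫ N.hom = 𝟙 _ := Over.w (z₀ ≫ c)
  refine ext_of_apply_closedPoint_eq N.hom h1 h2 ?_
  have hsub : (Set.range c.left.base).Subsingleton :=
    (isPreconnected_range c.left.continuous).subsingleton
  exact hsub ⟨_, rfl⟩ ⟨_, rfl⟩

/-- Let k be an algebraically closed field, T a k-torus, α : T ⟶ 𝔾_m a non-trivial character and P the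
semi-direct product T ⋉_α 𝔾_a, given as a k-group P with homomorphisms j_T : T ⟶ P and j_U : 𝔾_a ⟶ P
such that (t, x) ↦ j_T(t) j_U(x) is an isomorphism of schemes T × 𝔾_a ≅ P and j_T(t) j_U(x) j_T(t)⁻¹
= j_U(α(t) x). Let n : N ⟶ P be a normal subgroup scheme which is étale over k and such that N ∩ T
is trivial (a point of N whose image is in j_T(T) is the unit). Then N is the trivial group. -/
theorem result (K : Type u) [Field K] [IsAlgClosed K]
    (T P N : Over (Spec (CommRingCat.of K))) [GrpObj T] [GrpObj P] [GrpObj N] (hT : Red.IsTorus T)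
    (α : T ⟶ Red.Gm (Spec (CommRingCat.of K))) [IsMonHom α] (hα : α ≠ 1)
    (jT : T ⟶ P) [IsMonHom jT] (jU : Red.Ga (Spec (CommRingCat.of K)) ⟶ P) [IsMonHom jU] (hiso : IsIso ((jT ⊗ₘ jU) ≫ μ[P]))
    (hconj : ∀ (X : Over (Spec (CommRingCat.of K))) (t : X ⟶ T) (x x' : X ⟶ Red.Ga (Spec (CommRingCat.of K))), Red.gaFn x' = Red.gmFn (t ≫ α) * Red.gaFn x →
      (t ≫ jT) * (x ≫ jU) * (t ≫ jT)⁻¹ = x' ≫ jU)
    (n : N ⟶ P) [IsMonHom n] [Mono n] (hn : AlgGrp.IsNormalHom n) (het : Etale N.hom)
    (hNT : ∀ (X : Over (Spec (CommRingCat.of K))) (t : X ⟶ T) (m : X ⟶ N), t ≫ jT = m ≫ n → m = 1) :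
    Red.IsTrivialGrp N := by
  obtain ⟨hTirr, hTred⟩ := irreducible_reduced_of_isTorus hT
  have := Groth.Agent.Unr55.locallyQuasiFinite_of_formallyUnramified N.hom
  have hdisc : DiscreteTopology ↥N.left := by
    obtain ⟨x₀⟩ : Nonempty (Spec (CommRingCat.of K)) :=
      inferInstanceAs (Nonempty (PrimeSpectrum K))
    have h := N.hom.isDiscrete_preimage_singleton x₀
    have hu : N.hom.base ⁻¹' {x₀} = Set.univ := by
      exact Set.eq_univ_of_forall fun y => (Subsingleton.elim (α := PrimeSpectrum K) _ _ : N.hom.base y = x₀)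
    rw [hu] at h
    exact isDiscrete_univ_iff.mp h
  have hGa : PreconnectedSpace ↥(Red.Ga (Spec (CommRingCat.of K))).left := by
    let Y : Over (Spec (CommRingCat.of K)) := 𝟙_ _
    have : IsAffine Y.left := inferInstanceAs (IsAffine (Spec _))
    let q : polyGa Y ⟶ Red.Ga (Spec (CommRingCat.of K)) := (gaIso Y).hom ≫ snd _ _
    have hq : IsIso q := inferInstanceAs (IsIso ((gaIso Y).hom ≫ (λ_ _).hom))
    have : IsIso q.left := inferInstanceAs (IsIso ((Over.forget _).map q))
    have : IsDomain Γ(Y.left, ⊤) :=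
      (Scheme.ΓSpecIso (CommRingCat.of K)).commRingCatIsoToRingEquiv.toMulEquiv.isDomain _
    have : IrreducibleSpace ↥(polyGa Y).left :=
      inferInstanceAs (IrreducibleSpace (PrimeSpectrum (Polynomial Γ(Y.left, ⊤))))
    have : PreirreducibleSpace ↥(Red.Ga (Spec (CommRingCat.of K))).left := ⟨by
      rw [← (asIso q.left).hom.homeomorph.surjective.range_eq, ← Set.image_univ]
      exact (PreirreducibleSpace.isPreirreducible_univ.image _
        (asIso q.left).hom.homeomorph.continuous.continuousOn)⟩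
    infer_instance
  -- the points of `N` commute with the two subgroups
  have hZ : ∀ (Z : Over (Spec (CommRingCat.of K))) [GrpObj Z] [PreconnectedSpace ↥Z.left]
      (j : Z ⟶ P) [IsMonHom j] (z : 𝟙_ _ ⟶ Z) (m : 𝟙_ _ ⟶ N),
      (z ≫ j) * (m ≫ n) * (z ≫ j)⁻¹ = m ≫ n := by
    intro Z _ _ j _ z m
    obtain ⟨c, hc⟩ := hn Z j (toUnit Z ≫ m)
    have hz : ∀ w : 𝟙_ _ ⟶ Z, (w ≫ c) ≫ n = (w ≫ j) * (m ≫ n) * (w ≫ j)⁻¹ := by
      intro w
      have : w ≫ toUnit Z = 𝟙 _ := Subsingleton.elim _ _
      rw [Category.assoc, ← hc]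
      simp only [MonObj.comp_mul, GrpObj.comp_inv, Category.assoc]
      rw [reassoc_of% this]
    rw [← hz z, pts_const c z 1, hz 1, MonObj.one_comp j]
    simp
  haveI := hiso
  have hdec : ∀ p : 𝟙_ _ ⟶ P, ∃ (t : 𝟙_ _ ⟶ T) (x : 𝟙_ _ ⟶ Red.Ga (Spec (CommRingCat.of K))),
      p = (t ≫ jT) * (x ≫ jU) := by
    intro p
    refine ⟨p ≫ inv ((jT ⊗ₘ jU) ≫ μ[P]) ≫ fst _ _, p ≫ inv ((jT ⊗ₘ jU) ≫ μ[P]) ≫ snd _ _, ?_⟩
    rw [Hom.mul_def, ← lift_map_assoc, ← Category.assoc p, ← Category.assoc p, ← comp_lift,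
      lift_fst_snd, Category.comp_id, Category.assoc, IsIso.inv_hom_id, Category.comp_id]
  have hinj : ∀ x x' : 𝟙_ _ ⟶ Red.Ga (Spec (CommRingCat.of K)), x ≫ jU = x' ≫ jU → x = x' := by
    intro x x' h
    have : lift (1 : 𝟙_ _ ⟶ T) x = lift 1 x' := by
      rw [← cancel_mono ((jT ⊗ₘ jU) ≫ μ[P]), lift_map_assoc, lift_map_assoc, ← Hom.mul_def,
        ← Hom.mul_def, h]
    simpa using congrArg (fun w => w ≫ snd _ _) this
  have hfield := (Scheme.ΓSpecIso (CommRingCat.of K)).commRingCatIsoToRingEquiv.toMulEquiv.isField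
    (Field.toIsField K)
  have htriv : ∀ m : 𝟙_ _ ⟶ N, m = 1 := by
    intro m
    obtain ⟨t, x, hp⟩ := hdec (m ≫ n)
    have hTc : ∀ s : 𝟙_ _ ⟶ T, (s ≫ jT) * (t ≫ jT) * (s ≫ jT)⁻¹ = t ≫ jT := by
      intro s
      rw [← MonObj.mul_comp _ _ jT, isTorus_points_comm hT s t, MonObj.mul_comp _ _ jT,
        mul_inv_cancel_right]
    obtain ⟨y, hy⟩ := gaFn_surjective (S := Spec (CommRingCat.of K))
      (X := 𝟙_ (Over (Spec (CommRingCat.of K)))) 1
    have ht : Red.gmFn (t ≫ α) = 1 := by
      obtain ⟨y', hy'⟩ := gaFn_surjective (S := Spec (CommRingCat.of K))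
        (X := 𝟙_ (Over (Spec (CommRingCat.of K)))) (Red.gmFn (t ≫ α) * Red.gaFn y)
      have h := hconj _ t y y' hy'
      have hc := hZ (Red.Ga _) jU y m
      rw [hp] at hc
      have hux : (y ≫ jU) * (x ≫ jU) = (x ≫ jU) * (y ≫ jU) := by
        rw [← MonObj.mul_comp _ _ jU, ga_comm, MonObj.mul_comp _ _ jU]
      have hyy : y = y' := hinj _ _ (by
        rw [← h]
        have h1 : (y ≫ jU) * (t ≫ jT) = (t ≫ jT) * (y ≫ jU) := by
          rw [mul_inv_eq_iff_eq_mul, _root_.mul_assoc (t ≫ jT), ← hux, ← _root_.mul_assoc,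
            ← _root_.mul_assoc] at hc
          exact mul_right_cancel hc
        rw [eq_mul_inv_iff_mul_eq]
        exact h1)
      have h2 : Red.gaFn y = Red.gmFn (t ≫ α) * Red.gaFn y := by rw [← hy', ← hyy]
      rw [hy, _root_.mul_one] at h2
      exact h2.symm
    have hx : x = 1 := by
      refine gaFn_injective ?_
      rw [gaFn_one]
      by_contra hne
      apply hα
      apply Over.OverMorphism.ext
      have hs : ∀ s : 𝟙_ _ ⟶ T, s ≫ α = 1 := by
        intro s
        obtain ⟨x', hx'⟩ := gaFn_surjective (S := Spec (CommRingCat.of K))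
          (X := 𝟙_ (Over (Spec (CommRingCat.of K)))) (Red.gmFn (s ≫ α) * Red.gaFn x)
        have h := hconj _ s x x' hx'
        have hc := hZ T jT s m
        rw [hp, ← conj_mul, hTc s, h, mul_right_inj] at hc
        refine gmFn_injective ?_
        rw [gmFn_one]
        rw [hinj _ _ hc] at hx'
        exact (hfield.mul_inv_cancel hne).elim fun b hb => by
          have := congrArg (· * b) hx'.symm
          rwa [_root_.mul_assoc, hb, _root_.mul_one] at this
      have : IsAffineHom (Red.Gm (Spec (CommRingCat.of K))).hom := isAffineHom_DS _ _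
      have : LocallyOfFiniteType (Red.Gm (Spec (CommRingCat.of K))).hom := lft_ds _ ℤ
      have : LocallyOfFiniteType (α.left ≫ (Red.Gm (Spec (CommRingCat.of K))).hom) := by
        rw [Over.w α]; exact lft_torus hT
      have : LocallyOfFiniteType T.hom := lft_torus hT
      refine ext_of_apply_eq (Red.Gm (Spec (CommRingCat.of K))).hom Set.univ isClosed_univ.isLocallyClosed
        dense_univ (fun p _ hp => ?_) ((Over.w α).trans (Over.w (1 : T ⟶ _)).symm)
      let s : 𝟙_ (Over (Spec (CommRingCat.of K))) ⟶ T :=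
        Over.homMk (pointOfClosedPoint T.hom p hp) (pointOfClosedPoint_comp T.hom p hp)
      have h := congrArg (fun w => w.left (IsLocalRing.closedPoint K)) ((hs s).trans (MonObj.comp_one s).symm)
      have e1 : pointOfClosedPoint T.hom p hp (IsLocalRing.closedPoint K) = p := pointOfClosedPoint_apply _ _ _ _
      simp only [Over.comp_left, Scheme.Hom.comp_apply, s, Over.homMk_left, e1] at h
      exact h
    rw [hx, MonObj.one_comp jU, _root_.mul_one] at hp
    exact hNT _ t m hp.symm
  -- hence `N` is a point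
  have : LocallyOfFiniteType N.hom := inferInstance
  let e : Spec (CommRingCat.of K) ⟶ N.left := (1 : 𝟙_ _ ⟶ N).left
  have he : e ≫ N.hom = 𝟙 _ := Over.w (1 : 𝟙_ _ ⟶ N)
  have : IsOpenImmersion e := by
    have : Etale (e ≫ N.hom) := by rw [he]; infer_instance
    have : Etale e := Etale.of_comp e N.hom
    have : Mono (e ≫ N.hom) := by rw [he]; infer_instance
    have : Mono e := mono_of_mono e N.hom
    exact IsOpenImmersion.of_flat_of_mono e
  have : Surjective e := by
    refine ⟨fun p => ⟨IsLocalRing.closedPoint K, ?_⟩⟩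
    let m : 𝟙_ (Over (Spec (CommRingCat.of K))) ⟶ N :=
      Over.homMk (pointOfClosedPoint N.hom p (isClosed_discrete _))
        (pointOfClosedPoint_comp N.hom p (isClosed_discrete _))
    have h := congrArg (fun w => w.left (IsLocalRing.closedPoint K)) (htriv m)
    simpa [m] using h.symm
  have : IsIso e := (isIso_iff_isOpenImmersion_and_epi_base e).mpr ⟨inferInstance, (TopCat.epi_iff_surjective _).mpr e.surjective⟩
  show IsIso N.hom
  have : IsIso (e ≫ N.hom) := by rw [he]; infer_instance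
  exact IsIso.of_isIso_comp_left e N.hom

end Groth.Agent.S8473
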