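import Groth.Statements.S5364
import Groth.Agent.SGA3a.Transporter
-- import your own Groth.Agent.* helpers here

set_option autoImplicit false
universe u
open CategoryTheory CategoryTheory.Limits MonoidalCategory CartesianMonoidalCategory MonObj GrpObj AlgebraicGeometry
open SGA3

namespace Groth.Agent.S5364

/-- Let G be a group scheme over a field k and a : A → G, b : B → G two closed subgroup schemes which
are geometrically reduced over k and normal in G. Let i : Γ → G be the commutator subgroup scheme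
(A, B): the smallest closed subgroup scheme of G through which the morphism A ×_k B → G, (x, y) ↦
a(x) b(y) a(x)⁻¹ b(y)⁻¹, factors. Then Γ is normal in G. (The published statement also covers
characteristic subgroups; this row states the case of normal subgroups only.) -/
theorem result (k : Type u) [Field k] (G A B : Over (Spec (CommRingCat.of k))) [GrpObj G] [GrpObj A] [GrpObj B]
    (a : A ⟶ G) [IsMonHom a] [IsClosedImmersion a.left] (b : B ⟶ G) [IsMonHom b] [IsClosedImmersion b.left]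
    [GeometricallyReduced A.hom] [GeometricallyReduced B.hom] (hA : AlgGrp.IsNormalHom a) (hB : AlgGrp.IsNormalHom b)
    (Γ : Over (Spec (CommRingCat.of k))) [GrpObj Γ] (i : Γ ⟶ G) [IsMonHom i] [IsClosedImmersion i.left]
    (hf : ∃ f' : A ⊗ B ⟶ Γ, f' ≫ i = (((fst A B) ≫ a) * ((snd A B) ≫ b) * ((fst A B) ≫ a)⁻¹ * ((snd A B) ≫ b)⁻¹))
    (hmin : ∀ (Γ' : Over (Spec (CommRingCat.of k))) (_ : GrpObj Γ') (i' : Γ' ⟶ G), IsMonHom i' → IsClosedImmersion i'.left →
        (∃ f'' : A ⊗ B ⟶ Γ', f'' ≫ i' = (((fst A B) ≫ a) * ((snd A B) ≫ b) * ((fst A B) ≫ a)⁻¹ * ((snd A B) ≫ b)⁻¹)) → ∃ j : Γ ⟶ Γ', j ≫ i' = i) :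
    AlgGrp.IsNormalHom i := by
  open Groth.Agent.SGA3a in
  obtain ⟨f', hf'⟩ := hf
  obtain ⟨T, t, ht, hT⟩ := exists_transporter (G := G) (X := G) (Y := Γ) (P := G) (isEssentiallyFree_of_field G.hom)
    (snd G G * fst G G * (snd G G)⁻¹) i
  have key : ∀ (S' : Over (Spec (CommRingCat.of k))) (γ : S' ⟶ G), (∃ z : S' ⟶ T, z ≫ t = γ) ↔
      ∀ (S'' : Over (Spec (CommRingCat.of k))) (s : S'' ⟶ S') (g : S'' ⟶ G), ∃ n' : S'' ⟶ Γ, g * (s ≫ γ) * g⁻¹ = n' ≫ i :=
    fun S' γ => (hT S' γ).trans (forall_congr' fun S'' => forall_congr' fun s => forall_congr' fun g => by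
      simp only [MonObj.comp_mul, GrpObj.comp_inv, lift_fst, lift_snd])
  have hmono : Mono t := by
    have : Mono ((Over.forget _).map t) := inferInstanceAs (Mono t.left)
    exact (Over.forget _).mono_of_mono_map this
  have h1 : ∃ z, z ≫ t = (1 : 𝟙_ _ ⟶ G) := (key _ _).2 fun S'' s g => ⟨1, by
    rw [MonObj.comp_one, _root_.mul_one, mul_inv_cancel, MonObj.one_comp]⟩
  have hinv : ∃ z, z ≫ t = t⁻¹ := (key _ _).2 fun S'' s g => by
    obtain ⟨n', hn'⟩ := (key _ t).1 ⟨𝟙 _, Category.id_comp _⟩ S'' s g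
    exact ⟨n'⁻¹, by rw [GrpObj.inv_comp, ← hn', GrpObj.comp_inv]; group⟩
  have hmul : ∃ z, z ≫ t = (fst T T ≫ t) * (snd T T ≫ t) := (key _ _).2 fun S'' s g => by
    have hk := (key _ t).1 ⟨𝟙 _, Category.id_comp _⟩ S''
    obtain ⟨n₁, e₁⟩ := hk (s ≫ fst T T) g
    obtain ⟨n₂, e₂⟩ := hk (s ≫ snd T T) g
    exact ⟨n₁ * n₂, by rw [MonObj.mul_comp, ← e₁, ← e₂, MonObj.comp_mul, ← Category.assoc, ← Category.assoc]; group⟩
  letI := grpObjOfMono t h1 hmul hinv
  haveI := isMonHom_grpObjOfMono t h1 hmul hinv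
  obtain ⟨z, hz⟩ := (key _ (((fst A B) ≫ a) * ((snd A B) ≫ b) * ((fst A B) ≫ a)⁻¹ * ((snd A B) ≫ b)⁻¹)).2 fun S'' s g => by
    obtain ⟨x', hx⟩ := hA S'' g (s ≫ fst A B)
    obtain ⟨y', hy⟩ := hB S'' g (s ≫ snd A B)
    refine ⟨lift x' y' ≫ f', ?_⟩
    rw [Category.assoc, hf']
    simp only [MonObj.comp_mul, GrpObj.comp_inv, lift_fst_assoc, lift_snd_assoc, ← hx, ← hy, Category.assoc]
    group
  obtain ⟨j, hj⟩ := hmin T inferInstance t inferInstance ht ⟨z, hz⟩
  intro S'' g n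
  exact (key _ i).1 ⟨j, hj⟩ S'' n g

end Groth.Agent.S5364
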