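import Groth.Statements.S9576
import Mathlib.RingTheory.MvPolynomial.Ideal

set_option autoImplicit false
universe u
open CategoryTheory CategoryTheory.Limits AlgebraicGeometry TopologicalSpace Opposite
open Constr

namespace Groth.Agent.S9576

/-- For a ring R and n ≥ 0, projective n-space Proj R[T_0, …, T_n] is covered by the n + 1 standard
opens D_+(T_i), and each D_+(T_i) = Spec R[T_0, …, T_n]_(T_i) is an affine n-space: the ring
homomorphism from the polynomial ring over R in the variables T_j, j ≠ i, to the degree-zero
localization R[T_0, …, T_n]_(T_i), sending T_j to T_j/T_i and a constant r to r/1, is bijective.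
(The published statement is over ℤ; this row is over any ring R.) -/
theorem result (n : ℕ) (R : Type u) [CommRing R] :
    (⨆ i : Fin (n + 1), Proj.basicOpen (CohB1.polyGrading n R) (MvPolynomial.X i)) = ⊤ ∧
      ∀ i : Fin (n + 1), Function.Bijective
        (MvPolynomial.eval₂Hom
          ((HomogeneousLocalization.fromZeroRingHom (CohB1.polyGrading n R) (Submonoid.powers (MvPolynomial.X i))).comp
            (algebraMap R (CohB1.polyGrading n R 0)))
          (fun j : {j : Fin (n + 1) // j ≠ i} =>
            (HomogeneousLocalization.mk ⟨1, ⟨MvPolynomial.X j.1, MvPolynomial.isHomogeneous_X R j.1⟩,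
              ⟨MvPolynomial.X i, MvPolynomial.isHomogeneous_X R i⟩, ⟨1, pow_one _⟩⟩ :
              HomogeneousLocalization.Away (CohB1.polyGrading n R) (MvPolynomial.X i)))) := by
  classical
  let P := MvPolynomial (Fin (n + 1)) R
  refine ⟨?_, fun i => ?_⟩
  · refine top_le_iff.mp fun x _ => TopologicalSpace.Opens.mem_iSup.mpr ?_
    by_contra! H
    simp only [Proj.mem_basicOpen, not_not] at H
    refine x.not_irrelevant_le fun p (hp : p ∈ (HomogeneousIdeal.irrelevant (CohB1.polyGrading n R)).toIdeal) => ?_
    change p ∈ x.asHomogeneousIdeal.toIdeal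
    have hp0 : MvPolynomial.coeff 0 p = 0 := by
      have h0 := (HomogeneousIdeal.mem_irrelevant_iff _ p).mp hp
      have h1 : MvPolynomial.homogeneousComponent 0 p = 0 := by
        rw [← MvPolynomial.decomposition.decompose'_apply p 0]
        exact h0
      simpa [MvPolynomial.homogeneousComponent_zero] using h1
    have hp' : p ∈ Ideal.span (Set.range (MvPolynomial.X : Fin (n + 1) → P)) := by
      rw [← Set.image_univ, MvPolynomial.mem_ideal_span_X_image]
      intro m hm
      by_contra! h
      obtain rfl : m = 0 := Finsupp.ext fun j => h j (Set.mem_univ j)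
      exact MvPolynomial.mem_support_iff.mp hm hp0
    exact Ideal.span_le.mpr (by rintro _ ⟨j, rfl⟩; exact H j) hp'
  set L := Localization.Away (MvPolynomial.X i : P)
  set φ := (MvPolynomial.eval₂Hom
          ((HomogeneousLocalization.fromZeroRingHom (CohB1.polyGrading n R) (Submonoid.powers (MvPolynomial.X i))).comp
            (algebraMap R (CohB1.polyGrading n R 0)))
          (fun j : {j : Fin (n + 1) // j ≠ i} =>
            (HomogeneousLocalization.mk ⟨1, ⟨MvPolynomial.X j.1, MvPolynomial.isHomogeneous_X R j.1⟩,
              ⟨MvPolynomial.X i, MvPolynomial.isHomogeneous_X R i⟩, ⟨1, pow_one _⟩⟩ :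
              HomogeneousLocalization.Away (CohB1.polyGrading n R) (MvPolynomial.X i))))
  let ev : P →+* MvPolynomial {j : Fin (n + 1) // j ≠ i} R :=
    MvPolynomial.eval₂Hom MvPolynomial.C (fun j => if h : j = i then 1 else MvPolynomial.X ⟨j, h⟩)
  have hevX : ∀ j, ev (MvPolynomial.X j) = if h : j = i then 1 else MvPolynomial.X ⟨j, h⟩ :=
    fun j => MvPolynomial.eval₂_X _ _ j
  have hevC : ∀ r : R, ev (MvPolynomial.C r) = MvPolynomial.C r := fun r => MvPolynomial.eval₂_C _ _ r
  have hev : IsUnit (ev (MvPolynomial.X i)) := by rw [hevX, dif_pos rfl]; exact isUnit_one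
  let ψ : L →+* MvPolynomial {j : Fin (n + 1) // j ≠ i} R := IsLocalization.Away.lift _ hev
  let v : HomogeneousLocalization.Away (CohB1.polyGrading n R) (MvPolynomial.X i : P) →+* L :=
    algebraMap _ _
  have hvC : ∀ r : R, v (φ (MvPolynomial.C r)) = algebraMap P L (MvPolynomial.C r) := by
    intro r
    simp [φ, v, HomogeneousLocalization.algebraMap_apply, HomogeneousLocalization.fromZeroRingHom,
      Localization.mk_one_eq_algebraMap, ← MvPolynomial.algebraMap_eq]
    rfl
  have hvX : ∀ j (h : j ≠ i), v (φ (MvPolynomial.X ⟨j, h⟩)) * algebraMap P L (MvPolynomial.X i) =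
      algebraMap P L (MvPolynomial.X j) := by
    intro j h
    simp only [φ, MvPolynomial.eval₂Hom_X', v, HomogeneousLocalization.algebraMap_apply,
      HomogeneousLocalization.val_mk, ← Localization.mk_one_eq_algebraMap, Localization.mk_mul, mul_one]
    exact Localization.mk_eq_mk_iff.mpr (Localization.r_iff_exists.mpr ⟨1, by simp [mul_comm, Algebra.algebraMap_self_apply, P]⟩)
  constructor
  · have hψC : (ψ.comp v).comp (φ.comp MvPolynomial.C) = MvPolynomial.C := by
      ext r
      simp [hvC, ψ, hevC]
    have hψ : (ψ.comp v).comp φ = RingHom.id _ := by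
      refine MvPolynomial.ringHom_ext (fun r => congr($hψC r)) fun ⟨j, h⟩ => ?_
      have := congr(ψ $(hvX j h))
      simpa [ψ, hevX, h] using this
    exact Function.LeftInverse.injective (g := ψ.comp v) fun x => congr($hψ x)
  · intro x
    obtain ⟨k, a, ha, rfl⟩ := HomogeneousLocalization.Away.mk_surjective _ (MvPolynomial.isHomogeneous_X R i) x
    refine ⟨ev a, HomogeneousLocalization.val_injective _ ?_⟩
    have ha' : MvPolynomial.IsHomogeneous a k := by simpa [CohB1.polyGrading] using ha
    let g : Fin (n + 1) → L := fun j => v (φ (ev (MvPolynomial.X j)))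
    have hθ : ((v.comp φ).comp ev) = MvPolynomial.eval₂Hom ((algebraMap P L).comp MvPolynomial.C) g := by
      refine MvPolynomial.ringHom_ext (fun r => ?_) fun j => ?_
      · simp [hevC, hvC]
      · simp [g]
    have hg : ∀ j, g j * algebraMap P L (MvPolynomial.X i) = algebraMap P L (MvPolynomial.X j) := by
      intro j
      by_cases h : j = i
      · subst h; simp [g, hevX]
      · simpa [g, hevX, h] using hvX j h
    have key : v (φ (ev a)) * algebraMap P L (MvPolynomial.X i) ^ k = algebraMap P L a := by
      have e : v (φ (ev a)) = MvPolynomial.eval₂ ((algebraMap P L).comp MvPolynomial.C) g a := congr($hθ a)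
      conv_rhs => rw [a.as_sum, map_sum]
      rw [e, MvPolynomial.eval₂_eq', Finset.sum_mul]
      refine Finset.sum_congr rfl fun s hs => ?_
      have hdeg : ∑ j, s j = k := by
        have := ha' (MvPolynomial.mem_support_iff.mp hs)
        rwa [Finsupp.weight_apply, Finsupp.sum_fintype _ _ (by simp), Finset.sum_congr rfl] at this
        simp
      rw [MvPolynomial.monomial_eq, Finsupp.prod_fintype _ _ (by simp), map_mul, map_prod, ← hdeg,
        mul_assoc, ← Finset.prod_pow_eq_pow_sum, ← Finset.prod_mul_distrib]
      simp only [RingHom.comp_apply, map_pow, ← mul_pow, hg]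
    change v (φ (ev a)) = _
    rw [HomogeneousLocalization.Away.val_mk, Localization.mk_eq_mk', IsLocalization.eq_mk'_iff_mul_eq]
    simpa using key

end Groth.Agent.S9576
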