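import Groth.Statements.S14586
import Groth.Agent.AlgGrp79.Act
import Groth.Agent.AlgGrp79.Image
import Groth.Agent.AlgGrp79.Orbit

set_option autoImplicit false
universe u
open CategoryTheory MonoidalCategory CartesianMonoidalCategory MonObj GrpObj AlgebraicGeometry CategoryTheory.Limits
open AlgGrp

namespace Groth.Agent.S14586
open Groth.Agent.AlgGrp79 CategoryTheory.Limits
open scoped commutatorElement

/-- Let k be an algebraically closed field, G a smooth k-group scheme of finite type and X a non-empty
separated k-scheme of finite type with an action of G. Then there is a rational point x of X whose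
orbit, the image of the orbit map g ↦ g · x, is closed in X. -/
theorem result (k : Type u) [Field k] [IsAlgClosed k]
    (G X : Over (Spec (CommRingCat.of k))) [GrpObj G] [Smooth G.hom] [QuasiCompact G.hom]
    [LocallyOfFiniteType X.hom] [QuasiCompact X.hom] [IsSeparated X.hom] [Nonempty ↥X.left]
    (a : AlgGrp.Action G X) :
    ∃ x : 𝟙_ (Over (Spec (CommRingCat.of k))) ⟶ X, IsClosed (Set.range ⇑(a.orbitMap x).left.base) := by
  open Var76.ActTrans in
  have : IsLocallyNoetherian X.left := LocallyOfFiniteType.isLocallyNoetherian X.hom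
  have : CompactSpace X.left := QuasiCompact.compactSpace_of_compactSpace X.hom
  have : IsNoetherian X.left := { }
  have : TopologicalSpace.NoetherianSpace X.left := inferInstance
  have : JacobsonSpace X.left := LocallyOfFiniteType.jacobsonSpace X.hom
  have : JacobsonSpace G.left := LocallyOfFiniteType.jacobsonSpace G.hom
  let R (x : 𝟙_ (Over (Spec (CommRingCat.of k))) ⟶ X) : Set X.left := Set.range (a.orbitMap x).left
  let c (x : 𝟙_ (Over (Spec (CommRingCat.of k))) ⟶ X) : TopologicalSpace.Closeds X.left := ⟨closure (R x), isClosed_closure⟩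
  obtain ⟨y0, -, hy0⟩ := nonempty_inter_closedPoints (Z := (Set.univ : Set X.left)) Set.univ_nonempty isClosed_univ.isLocallyClosed
  obtain ⟨C, ⟨x, rfl⟩, hmin⟩ := WellFounded.has_min (wellFounded_lt (α := TopologicalSpace.Closeds X.left))
    (Set.range c) ⟨_, sec X y0 hy0, rfl⟩
  refine ⟨x, ?_⟩
  by_contra hne
  have hlc : IsLocallyClosed (R x) := isLocallyClosed_range_equivariant a _ (orbitMap_equivariant a x)
  set D := closure (R x) \ R x with hD
  have hDc : IsClosed D := by
    have h := hlc.isOpen_coborder
    rwa [coborder, isOpen_compl_iff] at h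
  have hDne : D.Nonempty := by
    rw [Set.nonempty_iff_ne_empty, hD]
    intro h
    apply hne
    have : closure (R x) = R x := (Set.sdiff_eq_empty.1 h).antisymm subset_closure
    show IsClosed (R x)
    rw [← this]; exact isClosed_closure
  obtain ⟨y, hyD, hy⟩ := nonempty_inter_closedPoints hDne hDc.isLocallyClosed
  have hsub : R (sec X y hy) ⊆ D := by
    rintro _ ⟨g, rfl⟩
    by_contra hg
    obtain ⟨g', hg', hg'c⟩ := nonempty_inter_closedPoints (Z := (a.orbitMap (sec X y hy)).left ⁻¹' Dᶜ) ⟨g, hg⟩
      (hDc.isOpen_compl.preimage (a.orbitMap (sec X y hy)).left.continuous).isLocallyClosed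
    apply hg'
    let σ := sec G g' hg'c
    have hfg : (xTrans a σ).hom.left y = (a.orbitMap (sec X y hy)).left g' := by
      have h : sec X y hy ≫ (xTrans a σ).hom = σ ≫ a.orbitMap (sec X y hy) := by
        rw [comp_xTrans, comp_orbit, toUnit_unique (toUnit _) (𝟙 _), Category.id_comp, Category.id_comp]
      have := congr(($h).left (IsLocalRing.closedPoint k))
      rwa [Over.comp_left, Over.comp_left, Scheme.Hom.comp_apply, Scheme.Hom.comp_apply, sec_apply, sec_apply] at this
    rw [← hfg]
    let H : X.left ≃ₜ X.left := ((Over.forget _).mapIso (xTrans a σ)).hom.homeomorph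
    let L : G.left ≃ₜ G.left := ((Over.forget _).mapIso (lTrans σ)).hom.homeomorph
    have hR : H '' R x = R x := by
      have hc : (H ∘ (a.orbitMap x).left : G.left → X.left) = (a.orbitMap x).left ∘ L :=
        funext fun g => (congr(($(lTrans_comp_equivariant a _ (orbitMap_equivariant a x) σ)).left g)).symm
      show H '' Set.range (a.orbitMap x).left = _
      rw [← Set.range_comp, hc, Set.range_comp, L.surjective.range_eq, Set.image_univ]
    have : H y ∈ H '' D := Set.mem_image_of_mem H hyD
    rwa [hD, Set.image_sdiff H.injective, H.image_closure, hR] at this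
  apply hmin _ ⟨sec X y hy, rfl⟩
  refine lt_of_le_not_ge (closure_minimal (hsub.trans Set.sdiff_subset) isClosed_closure) fun h => ?_
  obtain ⟨z, hz⟩ : (R x).Nonempty := ⟨_, Set.mem_range_self ((η[G]).left (IsLocalRing.closedPoint k))⟩
  exact ((closure_minimal hsub hDc) (h (subset_closure hz))).2 hz
end Groth.Agent.S14586
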