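import Mathlib
import Groth.Statements.S17325

set_option autoImplicit false
universe u v
open LieAlg

namespace Groth.Agent.S17325

open TensorProduct Finset

theorem result (k : Type u) [Field k] [IsAlgClosed k]
    (p : ℕ) [Fact p.Prime] [CharP k p] (V : Type v) [AddCommGroup V] [Module k V] [FiniteDimensional k V]
    (g : Submodule k (Module.End k V)) (hg : ∀ u ∈ g, u ^ p ∈ g) (hne : g ≠ ⊥) :
    ∃ u ∈ g, u ≠ 0 ∧ ∃ c : k, u ^ p = c • u := by
  classical
  have hp : p.Prime := Fact.out
  obtain ⟨v, hv, hv0⟩ := g.ne_bot_iff.mp hne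
  haveI : Nontrivial (Module.End k V) := nontrivial_of_ne _ _ hv0
  haveI : CharP (Module.End k V) p := charP_of_injective_algebraMap (algebraMap k _).injective p
  let w : ℕ → Module.End k V := fun i => v ^ p ^ i
  have hw : ∀ i, w i ∈ g := fun i => by
    induction i with
    | zero => simpa [w]
    | succ i ih => simp only [w, pow_succ, pow_mul]; exact hg _ ih
  have ws : ∀ i, w i ^ p = w (i + 1) := fun i => by simp [w, pow_succ, pow_mul]
  by_cases hnil : ∃ i, w i = 0
  · have h0 : Nat.find hnil ≠ 0 := fun e => hv0 (by simpa [w, e] using Nat.find_spec hnil)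
    obtain ⟨j, hj⟩ := Nat.exists_eq_succ_of_ne_zero h0
    refine ⟨w j, hw j, Nat.find_min hnil (by omega), 0, ?_⟩
    rw [ws, zero_smul, ← Nat.succ_eq_add_one, ← hj]; exact Nat.find_spec hnil
  push Not at hnil
  have hex : ∃ r, ¬ LinearIndependent k (fun i : Fin r => w i) :=
    ⟨Module.finrank k (Module.End k V) + 1, fun h => by simpa using h.fintype_card_le_finrank⟩
  obtain ⟨r, hr, hmin⟩ : ∃ r, ¬ LinearIndependent k (fun i : Fin (r+1) => w i) ∧ LinearIndependent k (fun i : Fin r => w i) := by
    have h0 : Nat.find hex ≠ 0 := fun e => Nat.find_spec hex (by rw [e]; exact linearIndependent_empty_type)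
    obtain ⟨r, hr⟩ := Nat.exists_eq_succ_of_ne_zero h0
    refine ⟨r, ?_, not_not.mp (Nat.find_min hex (by omega))⟩
    have := Nat.find_spec hex; rwa [hr] at this
  have hr0 : r ≠ 0 := by
    rintro rfl
    apply hr
    rw [Fintype.linearIndependent_iff]
    intro g hg i
    obtain rfl : i = 0 := Fin.ext (by omega)
    simp [w] at hg
    exact hg.resolve_right hv0
  obtain ⟨a, ha⟩ : ∃ a : Fin r → k, w r = ∑ i, a i • w i := by
    have : w r ∈ Submodule.span k (Set.range fun i : Fin r => w i) := by
      by_contra hns
      apply hr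
      have := linearIndependent_finSnoc.mpr ⟨hmin, hns⟩
      have hfun : (fun i : Fin (r+1) => w i) = Fin.snoc (fun i : Fin r => w i) (w r) := by
        funext i
        refine Fin.lastCases ?_ ?_ i <;> simp
      rw [hfun]; exact this
    obtain ⟨a, ha⟩ := (Submodule.mem_span_range_iff_exists_fun k).mp this
    exact ⟨a, ha.symm⟩
  let A : ℕ → k := fun i => if h : i < r then a ⟨i, h⟩ else 0
  let x : ℕ → Polynomial k := fun i => Nat.rec (motive := fun _ => Polynomial k) (Polynomial.C (A 0) * Polynomial.X ^ p)
    (fun j xj => xj ^ p + Polynomial.C (A (j+1)) * Polynomial.X ^ p) i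
  obtain ⟨s, rfl⟩ := Nat.exists_eq_succ_of_ne_zero hr0
  have hder : ∀ i, Polynomial.derivative (x i) = 0 := fun i => by
    have hz : (p : Polynomial k) = 0 := CharP.cast_eq_zero _ p
    induction i with
    | zero => simp [x, Polynomial.derivative_X_pow, hz]
    | succ i ih => simp [x, Polynomial.derivative_pow, Polynomial.derivative_X_pow, hz]
  let P : Polynomial k := x s - Polynomial.X
  have hsep : P.Separable := by
    show IsCoprime P (Polynomial.derivative P)
    simp only [P, map_sub, hder, Polynomial.derivative_X, zero_sub]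
    exact (isCoprime_one_right).neg_right
  have hz : ∀ i, (x i = 0 → ∀ j ≤ i, A j = 0) ∧ (x i ≠ 0 → p ≤ (x i).natDegree) := by
    intro i
    induction i with
    | zero =>
      simp only [x]
      refine ⟨fun h j hj => ?_, fun h => ?_⟩
      · obtain rfl : j = 0 := by omega
        simpa using h
      · have : A 0 ≠ 0 := fun e => h (by simp [e])
        simp [Polynomial.natDegree_C_mul_X_pow p (A 0) this]
    | succ i ih =>
      by_cases hx0 : x i = 0
      · have e : x (i+1) = Polynomial.C (A (i+1)) * Polynomial.X ^ p := by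
          show x i ^ p + _ = _
          rw [hx0, zero_pow hp.ne_zero, zero_add]
        rw [e]
        refine ⟨fun h j hj => ?_, fun h => ?_⟩
        · rcases Nat.lt_or_eq_of_le hj with h' | rfl
          · exact ih.1 hx0 j (by omega)
          · simpa using h
        · have : A (i+1) ≠ 0 := fun e => h (by simp [e])
          simp [Polynomial.natDegree_C_mul_X_pow p (A (i+1)) this]
      · have d := ih.2 hx0
        have : (Polynomial.C (A (i+1)) * Polynomial.X ^ p).natDegree < (x i ^ p).natDegree := by
          refine lt_of_le_of_lt (Polynomial.natDegree_C_mul_X_pow_le _ _) ?_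
          rw [Polynomial.natDegree_pow]
          nlinarith [hp.two_le]
        have e : (x (i+1)).natDegree = (x i ^ p).natDegree := Polynomial.natDegree_add_eq_left_of_natDegree_lt this
        refine ⟨fun h => ?_, fun _ => ?_⟩
        · rw [h, Polynomial.natDegree_zero] at e; omega
        · rw [e, Polynomial.natDegree_pow]; nlinarith [hp.two_le]
  have hxs : x s ≠ 0 := fun h => hnil (s+1) (by
    rw [ha]; refine Finset.sum_eq_zero fun i _ => ?_
    have h1 := (hz s).1 h i.1 (by omega)
    have h2 : A i.1 = a i := dif_pos i.2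
    rw [← h2, h1, zero_smul])
  have hdeg : 2 ≤ P.natDegree := by
    have := (hz s).2 hxs
    rw [Polynomial.natDegree_sub_eq_left_of_natDegree_lt (by rw [Polynomial.natDegree_X]; linarith [hp.two_le])]
    linarith [hp.two_le]
  obtain ⟨y, hyP, hy0⟩ : ∃ y, P.IsRoot y ∧ y ≠ 0 := by
    by_contra hcon
    push Not at hcon
    have h1 : P.roots.toFinset ⊆ {0} := fun y hy => by
      simp only [Multiset.mem_toFinset] at hy
      simp [hcon y (Polynomial.isRoot_of_mem_roots hy)]
    have h2 := Finset.card_le_card h1
    rw [Multiset.toFinset_card_of_nodup (Polynomial.nodup_roots hsep), IsAlgClosed.card_roots_eq_natDegree, Finset.card_singleton] at h2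
    omega
  let c : ℕ → k := fun i => (x i).eval y
  have hcs : c s = y := by simpa [c, P, sub_eq_zero] using hyP
  have hc0 : c 0 = A 0 * y ^ p := by simp [c, x]
  have hcs' : ∀ i, c (i+1) = c i ^ p + A (i+1) * y ^ p := fun i => by simp [c, x]
  have ha' : w (s+1) = ∑ i ∈ range (s+1), A i • w i := by
    rw [ha, ← Fin.sum_univ_eq_sum_range (fun i => A i • w i)]
    refine sum_congr rfl fun i _ => ?_
    have h2 : A i.1 = a i := dif_pos i.2
    rw [h2]
  refine ⟨∑ i ∈ range (s+1), c i • w i, sum_mem fun i _ => g.smul_mem _ (hw i), fun h0 => ?_, 1, ?_⟩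
  · rw [← Fin.sum_univ_eq_sum_range (fun i => c i • w i)] at h0
    have := Fintype.linearIndependent_iff.mp hmin (fun i => c i) h0 (Fin.last s)
    simp only [Fin.val_last] at this
    exact hy0 (hcs ▸ this)
  · rw [one_smul]
    have hcomm : ∀ i j, Commute (c i • w i) (c j • w j) := fun i j =>
      ((Commute.refl v).pow_pow (p ^ i) (p ^ j)).smul_left _ |>.smul_right _
    have key : ∀ m, (∑ i ∈ range m, c i • w i) ^ p = ∑ i ∈ range m, (c i ^ p) • w (i+1) := fun m => by
      induction m with
      | zero => simp [zero_pow hp.ne_zero]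
      | succ m ih =>
        rw [sum_range_succ, sum_range_succ, add_pow_char_of_commute p (Commute.sum_left _ _ _ fun i _ => hcomm i m), ih, smul_pow, ws]
    rw [key, sum_range_succ, hcs, ha', sum_range_succ' (fun i => c i • w i), smul_sum, sum_range_succ' (fun i => y ^ p • A i • w i), ← add_assoc, ← sum_add_distrib]
    congr 1
    · exact sum_congr rfl fun i _ => by rw [hcs', add_smul, smul_smul, mul_comm]
    · rw [hc0, smul_smul, mul_comm]

end Groth.Agent.S17325
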