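import Groth.Statements.S2973
import Groth.Agent.SGA3b53.QuasiIso

set_option autoImplicit false
set_option linter.unusedVariables false
universe u
open TensorProduct SGA3b
open SGA3b

namespace Groth.Agent.S2973

/-- Over an affine base: Let H = Spec A be an R-group of multiplicative type and of finite type. Then H
is quasi-isotrivial: locally on Spec R, it becomes diagonalisable after a faithfully flat etale base
change. (Affine group schemes over an affine base are taken in Hopf-algebra form; base change is the
tensor product.) -/
theorem result (R : Type u) [CommRing R] (A : Type u) [CommRing A] [HopfAlgebra R A] (hft : Algebra.FiniteType R A) (h : IsMultType R A) :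
    IsQuasiIsotrivial R A := by
  exact Groth.Agent.SGA3b53.isQuasiIsotrivial_of_finiteType hft h
end Groth.Agent.S2973
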