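import Groth.Statements.S19147
import Groth.Agent.RedPts82.ImageLoc

set_option autoImplicit false
open CategoryTheory MonoidalCategory CartesianMonoidalCategory MonObj GrpObj AlgebraicGeometry
universe u
open SGA3x

namespace Groth.Agent.S19147

/-- Let Γ be a torsion-free commutative group, G an S-group separated and of finite presentation over S,
and f : D_S(Γ) ⟶ G a homomorphism. Then the image of f (the closed subgroup of G through which f
factors by a faithfully flat homomorphism) is a locally trivial subtorus of G: f = f' ≫ j with f'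
flat and surjective, j the inclusion of a closed subgroup scheme Q, and Q Zariski-locally on S
isomorphic as a group to D(ℤ^r) for some r (depending on the open). -/
theorem result {S : Scheme.{u}} (Γ : Type) [AddCommGroup Γ] [IsAddTorsionFree Γ]
    (G : Over S) [GrpObj G] [IsSeparated G.hom] [QuasiCompact G.hom] [LocallyOfFinitePresentation G.hom]
    (f : Red.DS S Γ ⟶ G) [IsMonHom f] :
    ∃ (Q : Over S) (_ : GrpObj Q) (j : Q ⟶ G) (_ : IsMonHom j) (f' : Red.DS S Γ ⟶ Q) (_ : IsMonHom f'),
      IsClosedImmersion j.left ∧ Flat f'.left ∧ Surjective f'.left ∧ f' ≫ j = f ∧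
      TwC.Locally S TwC.Topology.zariski (fun S' g => ∃ r : ℕ, Red.IsSplitTorusWith (Fin r → ℤ) (Red.bc g Q)) := by
  haveI : QuasiCompact f.left := by
    haveI := RedPts82.isAffineHom_DS S Γ
    haveI : QuasiCompact (f.left ≫ G.hom) := by rw [Over.w f]; infer_instance
    exact QuasiCompact.of_comp f.left G.hom
  choose U hU Λ hΛ hfac using RedPts82.exists_ds_factor f
  obtain ⟨Q, hQ, j, hj, f', hf', h₁, h₂, h₃, h₄, h₅⟩ :=
    RedPts82.exists_image f (𝟙 S) (fun V hV => ⟨V, hV.isCompact, by simp⟩) fun s =>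
      ⟨U s, hU s, Red.bc (U s).ι (Red.DS S (Λ s)), inferInstance,
        by rw [Category.comp_id]; exact hfac s⟩
  refine ⟨Q, hQ, j, hj, f', hf', h₁, h₂, h₃, h₄, fun s => ⟨U s, hU s, ?_⟩⟩
  obtain ⟨e⟩ := h₅ _ _ (Red.bc (U s).ι (Red.DS S (Λ s))) inferInstance (hfac s)
  haveI : AddGroup.FG (Λ s) := (AddGroup.fg_iff_addSubgroup_fg _).mpr (hΛ s)
  haveI : Module.Finite ℤ (Λ s) := Module.Finite.iff_addGroup_fg.mpr inferInstance
  haveI : Module.Free ℤ (Λ s) := Module.free_of_finite_type_torsion_free'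
  let b := (Module.finBasis ℤ (Λ s)).equivFun.toAddEquiv
  obtain ⟨e'⟩ := RedPts82.grpIso_bc_DS (U s).ι (Λ s : Type)
  refine ⟨Module.finrank ℤ (Λ s), ⟨e ≪≫ e' ≪≫ ?_⟩⟩
  let p := Red.DSmap (U s : Scheme.{u}) b.symm.toAddMonoidHom
  haveI : IsMonHom p := RedPts82.isMonHom_of_points _ fun Z x y => RedPts82.dsFn_injective fun m => by
    simp only [p, RedPts82.dsFn_mul, RedPts82.dsFn_DSmap]
  haveI : IsIso p.left := RedPts82.isIso_DSmap_of_bijective _ b.symm.bijective
  haveI : IsIso p := (CategoryTheory.isIso_iff_of_reflects_iso p (Over.forget _)).mp ‹_›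
  exact Grp.mkIso' (asIso p)

end Groth.Agent.S19147
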