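import Groth.Statements.S3024
import Groth.Agent.SGA3a.DominantHom
import Groth.Agent.AlgGrp79.Image
import Groth.Agent.RedPts82.Coord

set_option autoImplicit false
universe u
open CategoryTheory MonoidalCategory CartesianMonoidalCategory MonObj GrpObj AlgebraicGeometry TensorProduct
open SGA3

namespace Groth.Agent.S3024

/-- Let f : H → G be a quasi-compact homomorphism of group schemes over a field k. Then f factors as a
homomorphism f' : H → H' followed by a homomorphism i : H' → G which is a closed immersion (H' is
the schematic image of f, a closed subgroup scheme of G), with f' schematically dominant,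
quasi-compact and surjective. -/
theorem result (k : Type u) [Field k] (H G : Over (Spec (CommRingCat.of k))) [GrpObj H] [GrpObj G]
    (f : H ⟶ G) [IsMonHom f] [QuasiCompact f.left] :
    ∃ (H' : Over (Spec (CommRingCat.of k))) (_ : GrpObj H') (i : H' ⟶ G) (f' : H ⟶ H'),
      IsMonHom i ∧ IsMonHom f' ∧ f' ≫ i = f ∧ IsClosedImmersion i.left ∧
      f'.left.ker = ⊥ ∧ QuasiCompact f'.left ∧ Surjective f'.left := by
  let D : Over (Spec (CommRingCat.of k)) := Over.mk (f.left.imageι ≫ G.hom)
  let i : D ⟶ G := Over.homMk f.left.imageι rfl
  let g : H ⟶ D := Over.homMk f.left.toImage (by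
    show f.left.toImage ≫ f.left.imageι ≫ G.hom = H.hom
    rw [Scheme.Hom.toImage_imageι_assoc, Over.w])
  have hgi : g ≫ i = f := by ext : 1; exact f.left.toImage_imageι
  have : IsClosedImmersion i.left := inferInstanceAs (IsClosedImmersion f.left.imageι)
  have hd : IsSchemeTheoreticallyDominant g.left := AlgGrp79.schDominant_toImage f.left
  have : QuasiCompact g.left := by
    have : QuasiCompact (g.left ≫ i.left) := by rw [← Over.comp_left, hgi]; infer_instance
    exact .of_comp g.left i.left
  have : Mono i := Over.mono_of_mono_left i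
  obtain ⟨h1, h2⟩ := AlgGrp79.closed_of_dominant f i g hgi
  obtain ⟨iD, hi⟩ := AlgGrp79.exists_grpObj_closed i h1 h2
  have : IsMonHom g := RedPts82.isMonHom_of_points g fun X x y => by
    rw [← cancel_mono i, AlgGrp79.mul_comp' (x ≫ g) (y ≫ g) i]
    simp only [Category.assoc, hgi]
    rw [AlgGrp79.mul_comp']
  have : IsDominant g.left := inferInstance
  exact ⟨D, iD, i, g, hi, inferInstance, hgi, inferInstance, g.left.ker_eq_bot, inferInstance,
    SGA3a.surjective_of_dominant g g.left.denseRange⟩

end Groth.Agent.S3024
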