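import Groth.Statements.S3037
import Groth.Agent.SGA3a.GrpHomFinite

set_option autoImplicit false
universe u
open CategoryTheory MonoidalCategory CartesianMonoidalCategory MonObj GrpObj AlgebraicGeometry TensorProduct
open SGA3

namespace Groth.Agent.S3037

/-- (iii) ⟺ (v): let A be a local artinian ring and u : G → H a quasi-compact homomorphism between group
schemes locally of finite type over A. Then u is finite if and only if the kernel of u (the fibre of
u over the unit section) is a discrete space. -/
theorem result (A : Type u) [CommRing A] [IsArtinianRing A] [IsLocalRing A]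
    (G H : Over (Spec (CommRingCat.of A))) [GrpObj G] [GrpObj H] [LocallyOfFiniteType G.hom] [LocallyOfFiniteType H.hom]
    (u : G ⟶ H) [IsMonHom u] [QuasiCompact u.left] :
    IsFinite u.left ↔ DiscreteTopology ↥(Limits.pullback u.left (η[H] : 𝟙_ (Over (Spec (CommRingCat.of A))) ⟶ H).left) := by
  refine ⟨fun h => ?_, fun h => SGA3a.GrpHomFinite.isFinite_of_discrete_ker u h⟩
  have : IsFinite (Limits.pullback.snd u.left (η[H] : 𝟙_ (Over (Spec (CommRingCat.of A))) ⟶ H).left) :=
    MorphismProperty.pullback_snd (P := @IsFinite) _ _ h
  let q := Limits.pullback.snd u.left (η[H] : 𝟙_ (Over (Spec (CommRingCat.of A))) ⟶ H).left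
  have : Subsingleton ↥(𝟙_ (Over (Spec (CommRingCat.of A)))).left := inferInstanceAs (Subsingleton (PrimeSpectrum A))
  have hq : _root_.IsDiscrete (q.base ⁻¹' Set.univ) := q.isDiscrete_preimage Set.subsingleton_univ.isDiscrete
  rw [Set.preimage_univ, isDiscrete_univ_iff] at hq
  exact hq

end Groth.Agent.S3037
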