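import Groth.Statements.S0233
import Groth.Agent.Curves2.Ufd.UfdOpen
import Groth.Agent.ParaF26.Sections
import Groth.Agent.ParaF26.Open

set_option autoImplicit false
universe u
open CategoryTheory CategoryTheory.Limits AlgebraicGeometry
open Curves

namespace Groth.Agent.S0233
open Groth.Agent Groth.Agent.Curves2 Groth.Agent.Var76.LineBundle

theorem exists_top_frame (R : Type u) [CommRing R] [IsDomain R] [UniqueFactorizationMonoid R]
    (U : (Spec (CommRingCat.of R)).Opens) (L : (U : Scheme.{u}).Modules) (hL : PicF.IsInvertible L) :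
    ∃ s : Γ(L, ⊤), IsFrame L ⊤ s := by
  have hW : IsAffineOpen (⊤ : (Spec (CommRingCat.of R)).Opens) := isAffineOpen_top _
  let eR := (Scheme.ΓSpecIso (CommRingCat.of R)).commRingCatIsoToRingEquiv
  haveI : IsDomain Γ(Spec (CommRingCat.of R), ⊤) := eR.toMulEquiv.isDomain R
  haveI : UniqueFactorizationMonoid Γ(Spec (CommRingCat.of R), ⊤) :=
    eR.symm.toMulEquiv.uniqueFactorizationMonoid inferInstance
  by_cases hη : Ufd.eta hW ∈ U
  · let A : Ufd.Ambient (Spec (CommRingCat.of R)) :=
      { U := U
        N := (Scheme.Modules.pushforward U.ι).obj L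
        bij := fun V => ParaF26.closed_pushforward U.ι L ⊤
          (by rw [Scheme.Opens.opensRange_ι]; exact inf_le_right) V le_top
        frame := fun y hy => by
          obtain ⟨W, e, hyW, hWU, he⟩ := ParaF26.framedOn_push U.ι hL (V := U)
            (le_of_eq (Scheme.Opens.opensRange_ι U).symm) y hy
          exact ⟨W, hWU, hyW, e, he⟩ }
    obtain ⟨s, hs⟩ := Ufd.exists_isFrame_of_ufd hW A le_top hη
    have h1 := ParaF26.isFrame_of_push U.ι (le_of_eq (Scheme.Opens.opensRange_ι U).symm) hs
    have e : U.ι ⁻¹ᵁ U = ⊤ := eq_top_iff.2 fun y _ => y.2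
    exact ⟨res L e.ge s, h1.res e.ge⟩
  · have hno : ∀ y : (U : Scheme.{u}), False := fun y =>
      hη ((Ufd.eta_specializes hW (y := y.1) trivial).mem_open U.2 y.2)
    refine ⟨0, fun V hV => ⟨fun a b _ => ?_, fun m => ⟨0, ?_⟩⟩⟩
    · exact TopCat.Presheaf.section_ext (U : Scheme.{u}).sheaf V a b fun y _ => (hno y).elim
    · exact Var76.ZeroScheme.eq_of_locally L _ _ fun y _ => (hno y).elim


/-- Every invertible module on an open subscheme of the spectrum of a unique factorisation domain is
trivial. -/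
theorem result (R : Type u) [CommRing R] [IsDomain R] [UniqueFactorizationMonoid R]
    (U : (Spec (CommRingCat.of R)).Opens) (L : (U : Scheme.{u}).Modules) (hL : PicF.IsInvertible L) :
    Nonempty (L ≅ Coh.structureModule (U : Scheme.{u})) := by
  obtain ⟨s, hs⟩ : ∃ s : Γ(L, ⊤), Groth.Agent.Var76.LineBundle.IsFrame L ⊤ s := exists_top_frame R U L hL
  exact Groth.Agent.ParaF26.nonempty_iso_unit hs

end Groth.Agent.S0233
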