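import Groth.Statements.S4839
import Groth.Agent.LimTop61.IsoDescent
import Groth.Agent.LimTop61.FgSubalgLimit
import Mathlib.AlgebraicGeometry.Noetherian
import Mathlib.CategoryTheory.Filtered.Small
import Mathlib.RingTheory.Jacobson.Ring

set_option autoImplicit false
open CategoryTheory AlgebraicGeometry
set_option backward.isDefEq.respectTransparency false
universe u
open Cons9
open CategoryTheory.Limits

namespace Groth.Agent.S4839

open CategoryTheory.Limits in
/-- Let k be a field and X, Y two schemes of finite type over k. If for some field extension K of k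
there is a K-isomorphism X ⊗_k K ≅ Y ⊗_k K (X and Y are geometrically isomorphic), then there are a
finite extension k' of k and a k'-isomorphism X ⊗_k k' ≅ Y ⊗_k k'. This is the case of the property
of being an isomorphism (base changes are the chosen fibre products with Spec of the extension). -/
theorem result {k : Type u} [Field k] {X Y : Scheme.{u}}
    (p : X ⟶ Spec (CommRingCat.of k)) (q : Y ⟶ Spec (CommRingCat.of k))
    [LocallyOfFiniteType p] [QuasiCompact p] [LocallyOfFiniteType q] [QuasiCompact q]
    (K : Type u) [Field K] [Algebra k K]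
    (e : pullback p (Spec.map (CommRingCat.ofHom (algebraMap k K))) ≅ pullback q (Spec.map (CommRingCat.ofHom (algebraMap k K))))
    (he : e.hom ≫ pullback.snd q (Spec.map (CommRingCat.ofHom (algebraMap k K))) = pullback.snd p (Spec.map (CommRingCat.ofHom (algebraMap k K)))) :
    ∃ (k' : Type u) (_ : Field k') (_ : Algebra k k') (_ : Module.Finite k k')
      (e' : pullback p (Spec.map (CommRingCat.ofHom (algebraMap k k'))) ≅ pullback q (Spec.map (CommRingCat.ofHom (algebraMap k k')))),
      e'.hom ≫ pullback.snd q (Spec.map (CommRingCat.ofHom (algebraMap k k'))) = pullback.snd p (Spec.map (CommRingCat.ofHom (algebraMap k k'))) := by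
  classical
  let A := CommRingCat.of k
  let B := CommRingCat.of K
  letI : Algebra A B := inferInstanceAs (Algebra k K)
  let D := Groth.Agent.LimTop61.subalgSpec A B
  let c := Groth.Agent.LimTop61.subalgCone A B
  let g := Spec.map (CommRingCat.ofHom (algebraMap k K))
  let t : ∀ j, D.obj j ⟶ Spec A := fun j => Spec.map (CommRingCat.ofHom (algebraMap A j.unop.1))
  have ht : ∀ {i j} (φ : i ⟶ j), D.map φ ≫ t j = t i := fun {i j} φ => by
    simp only [D, t, Groth.Agent.LimTop61.subalgSpec, Functor.comp_map, Functor.op_map, Scheme.Spec_map,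
      Quiver.Hom.unop_op]
    rw [← Spec.map_comp]
    rfl
  have hπ : ∀ j, c.π.app j ≫ t j = g := fun j => by
    simp only [c, t, Groth.Agent.LimTop61.subalgCone, Functor.mapCone_π_app]
    erw [← Spec.map_comp]
    rfl
  let j₀ : (Groth.Agent.LimTop61.FgSubalg A B)ᵒᵖ := Opposite.op ⟨⊥, Subalgebra.fg_bot⟩
  haveI : IsLocallyNoetherian X := LocallyOfFiniteType.isLocallyNoetherian p
  haveI : IsLocallyNoetherian Y := LocallyOfFiniteType.isLocallyNoetherian q
  haveI : QuasiSeparated p := inferInstance
  haveI : QuasiSeparated q := inferInstance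
  haveI : CompactSpace (D.obj j₀) := inferInstanceAs (CompactSpace ↥(Spec _))
  haveI : QuasiSeparatedSpace (D.obj j₀) := inferInstanceAs (QuasiSeparatedSpace ↥(Spec _))
  have key : ∀ {Z : Scheme.{u}} (r : Z ⟶ Spec A), ∃ qZ : pullback r g ⟶ pullback r (t j₀),
      IsPullback qZ (pullback.snd r g) (pullback.snd r (t j₀)) (c.π.app j₀) := fun {Z} r =>
    ⟨pullback.lift (pullback.fst r g) (pullback.snd r g ≫ c.π.app j₀)
      (by rw [Category.assoc, hπ, pullback.condition]),
     IsPullback.of_right (by rw [pullback.lift_fst, hπ]; exact IsPullback.of_hasPullback _ _)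
      (pullback.lift_snd _ _ _) (IsPullback.of_hasPullback _ _)⟩
  obtain ⟨qX, hX⟩ := key p
  obtain ⟨qY, hY⟩ := key q
  haveI : IsDirectedOrder (Groth.Agent.LimTop61.FgSubalg A B) :=
    ⟨fun S T => ⟨⟨S.1 ⊔ T.1, S.2.sup T.2⟩, le_sup_left (a := S.1), le_sup_right (a := S.1)⟩⟩
  haveI : Nonempty (Groth.Agent.LimTop61.FgSubalg A B) := ⟨⟨⊥, Subalgebra.fg_bot⟩⟩
  haveI hfil : IsFiltered (Groth.Agent.LimTop61.FgSubalg A B) :=
    isFiltered_of_directed_le_nonempty _
  haveI : IsCofiltered (Groth.Agent.LimTop61.FgSubalg A B)ᵒᵖ := isCofiltered_op_of_isFiltered _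
  obtain ⟨j, φ, Xj, Yj, aj, bj, pX, pY, hXj, hYj, e', he'⟩ :=
    Groth.Agent.LimTop61.exists_iso_descend D c (Groth.Agent.LimTop61.isLimitSubalgCone A B)
      (pullback.snd p (t j₀)) (pullback.snd q (t j₀)) (pullback.snd p g) (pullback.snd q g) qX qY hX hY e he
  have hXk : IsPullback (pX ≫ pullback.fst p (t j₀)) aj p (t j) := by
    rw [← ht φ]; exact hXj.paste_horiz (IsPullback.of_hasPullback _ _)
  have hYk : IsPullback (pY ≫ pullback.fst q (t j₀)) bj q (t j) := by
    rw [← ht φ]; exact hYj.paste_horiz (IsPullback.of_hasPullback _ _)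
  let S := j.unop.1
  haveI : Algebra.FiniteType k S := ⟨(Subalgebra.fg_top _).mpr j.unop.2⟩
  obtain ⟨m, hm⟩ := Ideal.exists_maximal S
  let k' := S ⧸ m
  letI : Field k' := Ideal.Quotient.field m
  haveI : Algebra.FiniteType k k' := Algebra.FiniteType.trans (S := S) inferInstance inferInstance
  haveI : Module.Finite k k' := finite_of_finite_type_of_isJacobsonRing k k'
  let r : Spec (CommRingCat.of k') ⟶ D.obj j := Spec.map (CommRingCat.ofHom (Ideal.Quotient.mk m))
  have hr : r ≫ t j = Spec.map (CommRingCat.ofHom (algebraMap k k')) := by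
    show Spec.map _ ≫ Spec.map _ = _
    rw [← Spec.map_comp]; rfl
  let g' := Spec.map (CommRingCat.ofHom (algebraMap k k'))
  have hu : IsPullback (hXk.lift (pullback.fst p g') (pullback.snd p g' ≫ r)
      (by rw [Category.assoc, hr]; exact pullback.condition)) (pullback.snd p g') aj r :=
    IsPullback.of_right (by rw [hXk.lift_fst, hr]; exact IsPullback.of_hasPullback _ _) (hXk.lift_snd _ _ _) hXk
  have hv : IsPullback (hYk.lift (pullback.fst q g') (pullback.snd q g' ≫ r)
      (by rw [Category.assoc, hr]; exact pullback.condition)) (pullback.snd q g') bj r :=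
    IsPullback.of_right (by rw [hYk.lift_fst, hr]; exact IsPullback.of_hasPullback _ _) (hYk.lift_snd _ _ _) hYk
  have hu' : IsPullback (hXk.lift (pullback.fst p g') (pullback.snd p g' ≫ r)
      (by rw [Category.assoc, hr]; exact pullback.condition) ≫ e'.hom) (pullback.snd p g') bj r :=
    hu.of_iso (Iso.refl _) e' (Iso.refl _) (Iso.refl _) (by simp) (by simp) (by simp [he']) (by simp)
  exact ⟨k', inferInstance, inferInstance, inferInstance, hu'.isoIsPullback _ _ hv,
    hu'.isoIsPullback_hom_snd _ _ hv⟩

end Groth.Agent.S4839
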