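import Groth.Statements.S14209
import Groth.Agent.Csa25.SBProj
import Groth.Agent.Csa25.Splitting

set_option autoImplicit false
universe u
open CategoryTheory CategoryTheory.Limits AlgebraicGeometry
open BrSev

namespace Groth.Agent.S14209

/-- In the case d = 1 of the generalized Severi–Brauer schemes BS(d, A), let A be a central simple
algebra of degree n ≥ 1 over a field k and X a k-scheme which is the Severi–Brauer scheme of A: for
every commutative k-algebra R, its R-points over k are identified, naturally in R, with the left
ideals of R ⊗_k A whose quotient is projective of rank n² − n. Then X is split by a finite Galois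
extension: there are a finite Galois extension K of k and a K-isomorphism X_K ≅ P^{n−1}_K. In
particular X is a Severi–Brauer variety of dimension n − 1 (the scheme of rank-n left ideals of A is
the Severi–Brauer variety of A). -/
theorem result (k : Type u) [Field k] (A : Type u) [Ring A]
    [Algebra k A] [Algebra.IsCentral k A] [IsSimpleRing A] (n : ℕ) (hn : 0 < n)
    (hA : Module.finrank k A = n * n) {X : Scheme.{u}} (f : X ⟶ Spec (CommRingCat.of k))
    (hX : BrSev.IsSBOf k A (n * n - n) f) :
    ∃ (K : Type u) (_ : Field K) (_ : Algebra k K), FiniteDimensional k K ∧ IsGalois k K ∧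
      Nonempty (BrSev.Splitting f K (n - 1)) := by
  classical
  obtain ⟨m, rfl⟩ : ∃ m, n = m + 1 := ⟨n - 1, by omega⟩
  haveI : FiniteDimensional k A := Module.finite_of_finrank_pos (by rw [hA]; positivity)
  obtain ⟨str⟩ := hX
  obtain ⟨L, hfin, hgal, hsplit⟩ := Groth.Agent.Csa25.exists_galois_splitting k A
  obtain ⟨m', hm', ⟨φ⟩⟩ := hsplit
  obtain rfl : m' = m + 1 := by
    have h1 : Module.finrank k A = m' * m' := by
      rw [← Module.finrank_baseChange (R := L), φ.toLinearEquiv.finrank_eq, Module.finrank_matrix]
      simp
    exact Nat.mul_self_inj.mp (h1.symm.trans hA)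
  let h : A →ₐ[k] Matrix (Fin (m + 1)) (Fin (m + 1)) L :=
    (φ.toAlgHom.restrictScalars k).comp Algebra.TensorProduct.includeRight
  have hs : Function.Surjective (Groth.Agent.Csa25.extRep h) := by
    have he : Groth.Agent.Csa25.extRep h = φ.toAlgHom := Algebra.TensorProduct.ext'
      fun l a => by
        rw [Groth.Agent.Csa25.extRep_tmul]
        show l • φ ((1 : L) ⊗ₜ[k] a) = φ (l ⊗ₜ[k] a)
        rw [← map_smul φ, TensorProduct.smul_tmul', smul_eq_mul, mul_one]
    rw [he]
    exact φ.surjective
  obtain ⟨e, he⟩ := Groth.Agent.Csa25.exists_iso_projSpace h hs hA str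
  exact ⟨L, inferInstance, inferInstance, hfin, hgal, ⟨⟨e, he⟩⟩⟩

end Groth.Agent.S14209
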