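import Groth.Statements.S1177
import Groth.Agent.Desc59.ModDesc

set_option autoImplicit false
open CategoryTheory CategoryTheory.Limits AlgebraicGeometry Opposite
universe u
open Desc

namespace Groth.Agent.S1177

/-- Let g : X' ⟶ X be quasi-compact, flat and surjective and F a quasi-coherent O_X-module. If the
pullback g^*F is a finite locally free O_{X'}-module, then F is finite locally free. -/
theorem result {X X' : Scheme.{u}} (g : X' ⟶ X) [QuasiCompact g] [Flat g] [Surjective g]
    (F : X.Modules) [F.IsQuasicoherent] (h : FlatMod.IsFinLocFree ((Scheme.Modules.pullback g).obj F)) :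
    FlatMod.IsFinLocFree F := by
  have hs := g.singleton_mem_qcPrecoverage
  rw [← Presieve.ofArrows_pUnit.{_, _, u + 1}] at hs
  have : QuasiCompactCover (⟨PUnit.{u + 1}, fun _ => X', fun _ => g⟩ : PreZeroHypercover.{u} X) :=
    Scheme.presieve₀_mem_qcPrecoverage_iff.mp hs
  exact Desc59.ModDesc.isFinLocFree_of_pullback (ι := PUnit.{u + 1}) (fun _ => g) (fun _ => inferInstance) F fun _ => h

end Groth.Agent.S1177
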