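import Groth.Statements.S4342
import Groth.Agent.SubMod72.Main

set_option autoImplicit false
universe u
open QCohSup

namespace Groth.Agent.S4342

open AlgebraicGeometry in
open CategoryTheory in
open Opposite in
/-- In the sectionwise form its proof gives. Let X be a scheme whose underlying space is locally
Noetherian and F a quasi-coherent O_X-module. For every affine open U and every section s of F over
U there is a quasi-coherent sub-O_X-module of finite type of F having s among its sections over U;
hence F is the inductive limit of its quasi-coherent submodules of finite type. -/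
theorem result
    {X : Scheme.{u}}
    (hX : ∀ x : X, ∃ U : X.Opens, x ∈ U ∧ TopologicalSpace.NoetherianSpace (U : Set X))
    (F : X.Modules) [Coh.IsQCoh F]
    (U : X.affineOpens) (s : F.val.obj (op (U : X.Opens))) :
    ∃ (G' : X.Modules) (i' : G' ⟶ F), Mono i' ∧ Coh.IsQCoh G' ∧ CohB1.IsFT G' ∧
      ∃ g : G'.val.obj (op (U : X.Opens)), (i'.val.app (op (U : X.Opens))).hom g = s := by
  let P : SubMod72.Sub F := SubMod72.locSpan (V := (U : X.Opens)) ({s} : Set Γ(F, (U : X.Opens)))
  obtain ⟨Q, hQ, hQP⟩ := SubMod72.exists_extension_noetherian hX (P := P)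
    (SubMod72.fg_locSpan (Set.finite_singleton _))
  have hs : (show Γ(F, (U : X.Opens)) from s) ∈ Q.carrier U := by
    rw [hQP _ le_rfl]
    have h := SubMod72.self_mem_locSpan (F := F) (le_refl (U : X.Opens))
      (Set.mem_singleton (show Γ(F, (U : X.Opens)) from s))
    rwa [QC70.res_self] at h
  obtain ⟨y, hy⟩ := (SubMod72.mem_iff_exists Q _).mp hs
  exact ⟨SubMod72.toMod Q, SubMod72.toModι Q, inferInstance,
    (SubMod72.isQuasicoherent_isFiniteType_toMod hQ).1,
    (SubMod72.isQuasicoherent_isFiniteType_toMod hQ).2, y, hy⟩

end Groth.Agent.S4342
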