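import Groth.Statements.S6332
import Mathlib.RingTheory.Trace.Basic
import Mathlib.FieldTheory.Galois.Basic

set_option autoImplicit false
universe u
open Fields

namespace Groth.Agent.S6332

open IntermediateField in
/-- Let L/K be a finite Galois extension of fields of characteristic p > 0 whose degree equals the prime
p (equivalently, the Galois group is cyclic of order p). Then there is an element z of L with z ^ p
- z in K which generates L over K. -/
theorem result {K L : Type u} [Field K] [Field L] [Algebra K L] (p : ℕ)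
    [Fact p.Prime] [CharP K p] [FiniteDimensional K L] [IsGalois K L]
    (hdeg : Module.finrank K L = p) :
    ∃ z : L, z ^ p - z ∈ Set.range (algebraMap K L) ∧ K⟮z⟯ = ⊤ := by
  classical
  have hp : p.Prime := Fact.out
  have : CharP L p := charP_of_injective_algebraMap (algebraMap K L).injective p
  have hcard : Nat.card (L ≃ₐ[K] L) = p := by rw [IsGalois.card_aut_eq_finrank, hdeg]
  obtain ⟨σ, hσ⟩ : ∃ σ : L ≃ₐ[K] L, σ ≠ 1 := by
    by_contra hcon
    push Not at hcon
    have : Subsingleton (L ≃ₐ[K] L) := ⟨fun a b => (hcon a).trans (hcon b).symm⟩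
    rw [Nat.card_unique] at hcard
    exact hp.ne_one hcard.symm
  have hgen : ∀ τ : L ≃ₐ[K] L, τ ∈ Subgroup.zpowers σ := fun τ =>
    mem_zpowers_of_prime_card hcard hσ
  have hord : orderOf σ = p := by
    rw [orderOf_eq_card_of_forall_mem_zpowers hgen, hcard]
  obtain ⟨x, hx⟩ := Algebra.trace_surjective K L 1
  have htr : ∑ i ∈ Finset.range p, (σ ^ i) x = 1 := by
    have h1 := trace_eq_sum_automorphisms (K := K) x
    rw [hx, map_one] at h1
    rw [h1]
    refine Finset.sum_nbij (fun i => σ ^ i) (fun i _ => Finset.mem_univ _) ?_ ?_ fun i _ => rfl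
    · intro i hi j hj hij
      have hi' : i < orderOf σ := by rw [hord]; simpa using hi
      have hj' : j < orderOf σ := by rw [hord]; simpa using hj
      exact pow_injOn_Iio_orderOf hi' hj' hij
    · intro τ _
      obtain ⟨i, rfl⟩ := (mem_powers_iff_mem_zpowers.2 (hgen τ))
      exact ⟨i % p, by simpa using Nat.mod_lt _ hp.pos, by simp [← hord, pow_mod_orderOf]⟩
  let θ : L := ∑ i ∈ Finset.range p, (i : L) * (σ ^ i) x
  have hσθ : σ θ = θ - 1 := by
    have h1 : ∑ i ∈ Finset.range p, ((i : L) + 1) * (σ ^ (i + 1)) x = θ := by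
      have h2 := Finset.sum_range_succ' (fun i => (i : L) * (σ ^ i) x) p
      rw [Finset.sum_range_succ, CharP.cast_eq_zero, zero_mul, add_zero] at h2
      simp only [Nat.cast_add, Nat.cast_one, Nat.cast_zero, zero_mul, add_zero] at h2
      exact h2.symm
    have h3 : ∑ i ∈ Finset.range p, (σ ^ (i + 1)) x = 1 := by
      have h4 := congrArg σ htr
      rw [map_sum, map_one] at h4
      rw [← h4]
      exact Finset.sum_congr rfl fun i _ => by rw [pow_succ', AlgEquiv.mul_apply]
    have h5 : σ θ = ∑ i ∈ Finset.range p, (i : L) * (σ ^ (i + 1)) x := by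
      simp only [θ, map_sum, map_mul, map_natCast]
      exact Finset.sum_congr rfl fun i _ => by rw [pow_succ', AlgEquiv.mul_apply]
    simp only [add_mul, one_mul, Finset.sum_add_distrib] at h1
    rw [h5, eq_sub_iff_add_eq, ← h3, h1]
  refine ⟨-θ, ?_, ?_⟩
  · apply (IsGalois.mem_range_algebraMap_iff_fixed _).2
    intro τ
    obtain ⟨n, rfl⟩ := mem_powers_iff_mem_zpowers.2 (hgen τ)
    induction n with
    | zero => simp
    | succ n ih =>
      have h1 : σ ((-θ) ^ p - -θ) = (-θ) ^ p - -θ := by
        rw [map_sub, map_pow, map_neg, hσθ, show -(θ - 1) = -θ + 1 by ring, add_pow_char, one_pow]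
        ring
      dsimp only at ih ⊢
      rw [pow_succ, AlgEquiv.mul_apply, h1, ih]
  · suffices h : (K⟮-θ⟯).fixingSubgroup = ⊥ by
      rw [← IsGalois.fixedField_fixingSubgroup K⟮-θ⟯, h, IntermediateField.fixedField_bot]
    rw [eq_bot_iff]
    intro τ hτ'
    have hτ : τ (-θ) = -θ :=
      hτ' ⟨-θ, IntermediateField.mem_adjoin_simple_self K _⟩
    rw [Subgroup.mem_bot]
    obtain ⟨n, rfl⟩ := mem_powers_iff_mem_zpowers.2 (hgen τ)
    have h1 : ∀ m : ℕ, (σ ^ m) (-θ) = -θ + m := by
      intro m
      induction m with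
      | zero => simp
      | succ m ih =>
        rw [pow_succ', AlgEquiv.mul_apply, ih, map_add, map_natCast, map_neg, hσθ]
        push_cast
        ring
    dsimp only at hτ ⊢
    rw [h1, add_eq_left, CharP.cast_eq_zero_iff L p, ← hord] at hτ
    exact orderOf_dvd_iff_pow_eq_one.1 hτ

end Groth.Agent.S6332
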