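import Groth.Statements.S6469
import Groth.Agent.Cyc90.Dev.TwistK
open Groth.Agent.Cyc90
open CategoryTheory CategoryTheory.Limits AlgebraicGeometry

set_option autoImplicit false
universe u
open CategoryTheory AlgebraicGeometry
open Cyc

namespace Groth.Agent.S6469

/-- Let L be invertible and F coherent with dim_δ Supp(F) ≤ k + 1. Then [F ⊗ L] − [F] ∈
K_0(Coh_{≤k+1}(X)/Coh_{≤k−1}(X)) lies in the image B_k(X) of K_0(Coh_{≤k}/Coh_{≤k−1}) and
corresponds to c_1(L) ∩ [F]_{k+1} under B_k(X) ≅ CH_k(X): for any k-cycle γ with the coefficients of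
c_1(L) ∩ [F]_{k+1} (any nonzero rational sections), [F ⊗ L] − [F] = [⊕_{n_Z>0} O_Z^{n_Z}] −
[⊕_{n_Z<0} O_Z^{−n_Z}] where γ = Σ n_Z [Z]. Tensor product: CohB1.tensorMod; K_0 model:
Cyc.K0CohQuot. Here a pair (X, δ) with Cyc.IsSetup plays the role of a scheme locally of finite type
over the base (S, δ) (X locally Noetherian with universally catenary local rings, δ a dimension
function). -/
theorem result (X : Scheme.{u}) (δ : X → ℤ) (hX : Cyc.IsSetup X δ) (k : ℤ) (L : X.Modules) (hL : PicF.IsInvertible L) (F : X.Modules) (hF : Coh.IsCoh F) (hdim : ∀ x : X, Nontrivial (F.presheaf.stalk x) → δ x ≤ k + 1) (s : (ξ : X) → Cyc.secFibre L ξ) (hs : ∀ ξ, s ξ ≠ 0) (γ : AlgebraicCycle X ℤ) (hγk : γ ∈ Cyc.Zk X δ k) (hγ : ⇑γ = Cyc.c1CapFun δ L (Cyc.sheafFun δ (k + 1) F) s) : Cyc.toK0CohQuot δ (k + 1) (k - 1) (CohB1.tensorMod F L) - Cyc.toK0CohQuot δ (k + 1) (k - 1) F = Cyc.toK0CohQuot δ (k + 1) (k - 1) (Cyc.cycleSheafPos ⇑γ) - Cyc.toK0CohQuot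 δ (k + 1) (k - 1) (Cyc.cycleSheafNeg ⇑γ) := by
  classical
  have := hX.1
  have hFc : Cyc.CohLe δ (k + 1) F := ⟨hF, hdim⟩
  let n : X → ℤ := Cyc.sheafFun δ (k + 1) F
  have hn := Dev.isCycFun_sheafFun hX hFc
  have hn0 : ∀ η, 0 ≤ n η := fun η => by
    simp only [n, Cyc.sheafFun]
    split_ifs
    · exact Int.natCast_nonneg _
    · exact le_rfl
  let κ : Type u := Σ ξ : {ξ : X // n ξ ≠ 0}, Fin (n ξ.1).toNat
  let ξf : κ → X := fun i => i.1.1
  have hξ : ∀ i : κ, δ (ξf i) = k + 1 := fun i => hn.dim _ i.1.2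
  let Sfin : ∀ x : X, {ξ : X | n ξ ≠ 0 ∧ ξ ⤳ x}.Finite := fun x => by
    obtain ⟨U, hU, hxU, hf⟩ := hn.locFin x
    exact hf.subset fun ξ hξ => ⟨hξ.1, hξ.2.mem_open hU hxU⟩
  have hlf : ∀ x : X, ∃ U : Set X, IsOpen U ∧ x ∈ U ∧ {i | (closure {ξf i} ∩ U).Nonempty}.Finite := by
    intro x
    obtain ⟨U, hU, hxU, hf⟩ := hn.locFin x
    refine ⟨U, hU, hxU, ?_⟩
    have hf2 : {ξ : {ξ : X // n ξ ≠ 0} | ξ.1 ∈ U}.Finite :=
      (hf.preimage Subtype.val_injective.injOn).subset fun ξ hξ => ⟨ξ.2, hξ⟩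
    refine (hf2.biUnion fun ξ _ => Set.finite_range fun m => (⟨ξ, m⟩ : κ)).subset ?_
    rintro ⟨ξ, m⟩ ⟨y, hy, hyU⟩
    exact Set.mem_biUnion (show ξ.1 ∈ U from (specializes_iff_mem_closure.2 hy).mem_open hU hyU) ⟨m, rfl⟩
  let E : κ → X.Modules := fun i => Dev.tf δ k (Cyc.closureStructureSheaf (ξf i))
  let G : κ → X.Modules := fun i => CohB1.tensorMod (E i) L
  have hE : ∀ i, Dev.IsOne δ k (E i) (ξf i) := fun i => Dev.isOne_tf hX _ (hξ i)
  have hG : ∀ i, Dev.IsOne δ k (G i) (ξf i) := fun i => by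
    refine ⟨Dev.cohLe_twist hL (hE i).cohLe, hξ i, (Dev.support_twist hL (E i)).trans (hE i).supp,
      ((Dev.nonempty_stalk_equiv hL (E i) (ξf i)).some.length_eq).symm.trans (hE i).length, ?_⟩
    intro x h a b hab
    obtain ⟨U, hx, e, he⟩ := Mero90.exists_frame' hL x
    obtain ⟨a', rfl⟩ := (Dev.bijective_tmLin (F := E i) e hx he).2 a
    obtain ⟨b', rfl⟩ := (Dev.bijective_tmLin (F := E i) e hx he).2 b
    change (CohB1.tensorMod (E i) L).presheaf.stalkSpecializes h _ =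
      (CohB1.tensorMod (E i) L).presheaf.stalkSpecializes h _ at hab
    rw [← Dev.tmLin_stalkSpecializes, ← Dev.tmLin_stalkSpecializes] at hab
    exact congrArg _ ((hE i).inj x h ((Dev.bijective_tmLin (F := E i) e (h.mem_open U.2 hx) he).1 hab))
  have hlE : Dev.LocFin E := Dev.LocFin.of_closure ξf (fun i => (hE i).supp) hlf
  have hlG : Dev.LocFin G := Dev.LocFin.of_closure ξf (fun i => (hG i).supp) hlf
  have hE' := Dev.cohLe_coprod (fun i => (hE i).cohLe) hlE
  have hfun : Cyc.sheafFun δ (k + 1) F = Cyc.sheafFun δ (k + 1) (∐ E) := by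
    funext η
    rw [Dev.sheafFun_coprod hX (fun i => (hE i).cohLe) hlE η]
    have hone : ∀ i : κ, Cyc.sheafFun δ (k + 1) (E i) η = if ξf i = η then 1 else 0 := by
      intro i
      split_ifs with h
      · subst h
        rw [Cyc.sheafFun, if_pos (hξ i), (hE i).length]
        rfl
      · by_cases hη : δ η = k + 1
        · refine Dev.sheafFun_eq_zero (QC70.notMem_support_iff.1 fun hs => h ?_)
          exact eq_of_delta_le hX.2.2 (specializes_iff_mem_closure.2 ((hE i).supp hs)) (by rw [hη, hξ i])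
        · exact if_neg hη
    rw [finsum_congr hone]
    change n η = _
    by_cases hη : n η = 0
    · rw [hη, finsum_eq_zero_of_forall_eq_zero fun i => if_neg fun h : ξf i = η => i.1.2 (by rw [show i.1.1 = η from h, hη])]
    · let s : Finset κ := (Finset.univ : Finset (Fin (n η).toNat)).map
        ⟨fun m => (⟨⟨η, hη⟩, m⟩ : κ), fun a b h => eq_of_heq (Sigma.mk.inj_iff.1 h).2⟩
      rw [finsum_eq_sum_of_support_subset (s := s) _ fun i hi => by
        rw [Function.mem_support, ne_eq, ite_eq_right_iff, Classical.not_imp] at hi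
        obtain ⟨⟨⟨ξ, hξ0⟩, m⟩, rfl⟩ : ∃ j : κ, j = i := ⟨i, rfl⟩
        obtain rfl : ξ = η := hi.1
        exact Finset.mem_coe.2 (Finset.mem_map.2 ⟨m, Finset.mem_univ _, rfl⟩)]
      rw [Finset.sum_map]
      change n η = ∑ _m : Fin (n η).toNat, (if η = η then (1 : ℤ) else 0)
      rw [if_pos rfl, Finset.sum_const, Finset.card_univ, Fintype.card_fin, nsmul_one,
        Int.toNat_of_nonneg (hn0 η)]
  choose Uf hUf ef hef using fun η : X => Mero90.exists_frame' hL η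
  choose σ hσ using fun η => Submodule.Quotient.mk_surjective _ (s η)
  choose z hz using fun η => (Mero90.isGen_germ (hef η) ⟨η, hUf η⟩).2 (σ η)
  have hzu : ∀ η, IsUnit (z η) := fun η => by
    refine (IsLocalRing.residue_ne_zero_iff_isUnit (z η)).1 fun h0 => hs η ?_
    rw [← hσ η, ← hz η, Submodule.Quotient.mk_smul]
    exact smul_mk_eq_zero L h0 _
  let c : ∀ i : κ, ∀ η : X, δ η = k + 1 →
      ((E i).presheaf.stalk η →ₗ[X.presheaf.stalk η] (G i).presheaf.stalk η) :=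
    fun i η _ => z η • Dev.tmLin (F := E i) (ef η) (hUf η)
  have hc : ∀ i, Function.Bijective (c i (ξf i) (hE i).dim) := fun i => by
    obtain ⟨v, hv⟩ := hzu (ξf i)
    have e : ⇑(c i (ξf i) (hE i).dim) =
        (fun q : (G i).presheaf.stalk (ξf i) => (v : X.presheaf.stalk (ξf i)) • q) ∘
          Dev.tmLin (F := E i) (ef (ξf i)) (hUf (ξf i)) := by
      funext q
      simp only [c, Function.comp_apply, LinearMap.smul_apply, hv]
    rw [e]
    exact (MulAction.bijective v).comp (Dev.bijective_tmLin _ _ (hef (ξf i)))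
  obtain ⟨ι'⟩ := Dev.nonempty_coprod_twist_iso hL E
  rw [Dev.toK_twist_sub_congr k hL hX hFc hE' hfun,
    ← Dev.toK_congr_iso ι' (Dev.cohLe_coprod (fun i => (hG i).cohLe) hlG) (Dev.cohLe_twist hL hE')]
  refine Dev.toK_family hX ξf hlf E G hE hG c hc (fun i x => Cyc.secDivFun δ L (ξf i) (s (ξf i)) x)
    ?_ ?_ (Dev.isCycFun_of_cycle hγk) ?_
  · intro i x h
    refine dif_neg fun h' => ?_
    rcases h with h | h
    · exact h (by have := h'.2; rw [hξ i] at this; omega)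
    · exact h h'.1
  · intro i x hx h
    obtain ⟨V, hV, e, he⟩ := Mero90.exists_frame' hL x
    have hVξ : ξf i ∈ V := h.mem_open V.2 hV
    obtain ⟨b, hb⟩ := (Mero90.isGen_germ he ⟨ξf i, hVξ⟩).2 (QC70.germM L (Uf (ξf i)) (ξf i) (hUf _) (ef (ξf i)))
    let w := z (ξf i) * b
    have hs' : s (ξf i) = w • (Submodule.Quotient.mk ((L.presheaf.stalkSpecializes h)
        (L.presheaf.germ V x hV e)) : Cyc.secFibre L (ξf i)) := by
      rw [TopCat.Presheaf.germ_stalkSpecializes_apply, mul_smul, ← hσ (ξf i), ← hz (ξf i),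
        ← Submodule.Quotient.mk_smul, ← Submodule.Quotient.mk_smul]
      exact congrArg (fun q => (Submodule.Quotient.mk (z (ξf i) • q) : Cyc.secFibre L (ξf i))) hb.symm
    have hw : X.residue (ξf i) w ≠ 0 := fun h0 => hs (ξf i) (hs'.trans (smul_mk_eq_zero L h0 _))
    have hgen : Submodule.span (X.presheaf.stalk x) {L.presheaf.germ V x hV e} = ⊤ :=
      eq_top_iff.2 fun v _ => Submodule.mem_span_singleton.2 ((Mero90.isGen_germ he ⟨x, hV⟩).2 v)
    rw [Dev.sheafFun_sub_eq_ordAt (c i) hX (hE i) (hG i) (hc i) hx h (Dev.tmLin (F := E i) e hV)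
      (Dev.bijective_tmLin e hV he).2 w hw (fun m => ?_), Cyc.secDivFun, dif_pos ⟨h, by rw [hx, hξ i]⟩,
      secOrdAt_eq L hX h (by rw [hx, hξ i]) _ (hs _) _ hgen w hs']
    change z (ξf i) • Dev.tmLin (F := E i) (ef (ξf i)) (hUf (ξf i)) _ = _
    rw [Dev.tmLin_eq_smul e hVξ (ef (ξf i)) (hUf (ξf i)) b hb.symm, smul_smul,
      Dev.tmLin_stalkSpecializes e hV h m]
  · intro x
    rw [hγ]
    change (∑ᶠ ξ : X, n ξ * Cyc.secDivFun δ L ξ (s ξ) x) = _
    let S := (Sfin x).toFinset.subtype fun ξ => n ξ ≠ 0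
    have hdiv : ∀ ξ, Cyc.secDivFun δ L ξ (s ξ) x ≠ 0 → ξ ⤳ x := fun ξ h => by
      by_contra hsp
      exact h (dif_neg fun h' => hsp h'.1)
    rw [finsum_eq_sum_of_support_subset (s := (Sfin x).toFinset) _ fun ξ hξ => ?_,
      finsum_eq_sum_of_support_subset (s := S.sigma fun ξ => (Finset.univ : Finset (Fin (n ξ.1).toNat))) _
        fun i hi => ?_, Finset.sum_sigma]
    · rw [← Finset.sum_filter_of_ne (p := fun ξ => n ξ ≠ 0) (s := (Sfin x).toFinset)
        (fun ξ _ h => left_ne_zero_of_mul h), ← Finset.sum_subtype_eq_sum_filter]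
      refine Finset.sum_congr rfl fun ξ _ => ?_
      change _ = ∑ _m : Fin (n ξ.1).toNat, Cyc.secDivFun δ L ξ.1 (s ξ.1) x
      rw [Finset.sum_const, Finset.card_univ, Fintype.card_fin, nsmul_eq_mul]
      rw [show (((n ξ.1).toNat : ℕ) : ℤ) = n ξ.1 from Int.toNat_of_nonneg (hn0 _)]
    · rw [Function.mem_support] at hi
      exact Finset.mem_coe.2 (Finset.mem_sigma.2 ⟨Finset.mem_subtype.2 ((Sfin x).mem_toFinset.2
        ⟨i.1.2, hdiv _ hi⟩), Finset.mem_univ _⟩)
    · rw [Function.mem_support] at hξ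
      exact Finset.mem_coe.2 ((Sfin x).mem_toFinset.2 ⟨left_ne_zero_of_mul hξ,
        hdiv _ (right_ne_zero_of_mul hξ)⟩)

end Groth.Agent.S6469
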