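import Groth.Statements.S14503
import Groth.Agent.Len90.LatticeDet
import Mathlib.RingTheory.IntegralClosure.IsIntegralClosure.Basic
import Mathlib.RingTheory.Algebraic.Integral
import Mathlib.RingTheory.Norm.Defs

set_option autoImplicit false
universe u
open IntTh

namespace Groth.Agent.S14503

/-- Let A ⊆ B be a module-finite extension of domains with A Noetherian local of Krull dimension one, K
⊆ L their fraction fields, and r ∈ B nonzero. Then B/rB has finite length as an A-module and
length_A(B/rB) equals the order at the closed point of A of the norm N_{L/K}(r), i.e.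
length_A(A/(a)) − length_A(A/(b)) for N_{L/K}(r) = a/b. -/
theorem result (A : Type u) [CommRing A] [IsDomain A]
    [IsNoetherianRing A] [IsLocalRing A] (hA : ringKrullDim A = 1) (B : Type u) [CommRing B]
    [IsDomain B] [Algebra A B] (hinj : Function.Injective (algebraMap A B)) [Module.Finite A B]
    (K L : Type u) [Field K] [Field L] [Algebra A K] [IsFractionRing A K] [Algebra B L]
    [IsFractionRing B L] [Algebra K L] [Algebra A L] [IsScalarTower A B L] [IsScalarTower A K L]
    [FiniteDimensional K L] (r : B) (hr : r ≠ 0) :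
    Module.length A (B ⧸ Ideal.span {r}) < ⊤ ∧
      ((Module.length A (B ⧸ Ideal.span {r})).toNat : ℤ) =
        CycAlg.ordFrac A K (Algebra.norm K (algebraMap B L r)) := by
  have : Ring.KrullDimLE 1 A := by rw [Ring.KrullDimLE, Order.krullDimLE_iff, ← ringKrullDim, hA]; rfl
  let j : B →ₗ[A] L := (IsScalarTower.toAlgHom A B L).toLinearMap
  have hj : Function.Injective j := IsFractionRing.injective B L
  let M : Submodule A L := LinearMap.range j
  have hM : Submodule.IsLattice K M := by
    refine ⟨(Module.Finite.fg_top (R := A) (M := B)).map j |> fun h => by rwa [Submodule.map_top] at h, ?_⟩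
    rw [eq_top_iff]
    intro l _
    obtain ⟨x, y, hy, rfl⟩ := IsFractionRing.div_surjective (A := B) l
    have hy0 : y ≠ 0 := nonZeroDivisors.coe_ne_zero ⟨y, hy⟩
    obtain ⟨a, ha, hane⟩ : ∃ a ∈ (Ideal.span {y}).comap (algebraMap A B), a ≠ 0 := by
      refine (Submodule.ne_bot_iff _).mp (Ideal.comap_ne_bot_of_integral_mem hy0
        (Ideal.mem_span_singleton_self y) (Algebra.IsIntegral.isIntegral y))
    obtain ⟨c, hc⟩ := Ideal.mem_span_singleton.mp ha
    have hz : algebraMap A K a ≠ 0 :=
      fun e => hane (IsFractionRing.injective A K (e.trans (map_zero _).symm))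
    have : algebraMap B L x / algebraMap B L y = (algebraMap A K a)⁻¹ • algebraMap B L (x * c) := by
      rw [eq_inv_smul_iff₀ hz, Algebra.smul_def, ← IsScalarTower.algebraMap_apply,
        IsScalarTower.algebraMap_apply A B L, hc, map_mul, map_mul]
      field_simp [show algebraMap B L y ≠ 0 from fun e => hy0 (IsFractionRing.injective B L
        (e.trans (map_zero _).symm))]
    rw [this]
    exact Submodule.smul_mem _ _ (Submodule.subset_span ⟨x * c, rfl⟩)
  have hr0 : algebraMap B L r ≠ 0 :=
    fun e => hr (IsFractionRing.injective B L (e.trans (map_zero _).symm))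
  let φ : L ≃ₗ[K] L := LinearEquiv.ofBijective (Algebra.lmul K L (algebraMap B L r))
    ⟨mul_right_injective₀ hr0, fun x => ⟨(algebraMap B L r)⁻¹ * x,
      (mul_inv_cancel_left₀ hr0 x : _)⟩⟩
  have hle : M.map (φ.toLinearMap.restrictScalars A) ≤ M := by
    rintro _ ⟨_, ⟨b, rfl⟩, rfl⟩
    exact ⟨r * b, map_mul (algebraMap B L) r b⟩
  have hlen : Len90.relLen M (M.map (φ.toLinearMap.restrictScalars A)) =
      Module.length A (B ⧸ Ideal.span {r}) := by
    refine ((Submodule.Quotient.equiv ((Ideal.span {r}).restrictScalars A) _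
      (LinearEquiv.ofInjective j hj) ?_).symm.trans
        (Submodule.Quotient.restrictScalarsEquiv A (Ideal.span {r}))).length_eq
    ext ⟨x, b, rfl⟩
    simp only [Submodule.mem_map, Submodule.submoduleOf, Submodule.mem_comap, Submodule.coe_subtype,
      LinearEquiv.coe_coe, Submodule.restrictScalars_mem, Ideal.mem_span_singleton]
    constructor
    · rintro ⟨z, ⟨w, rfl⟩, hz⟩
      have := congrArg Subtype.val hz
      exact ⟨j w, ⟨w, rfl⟩, (map_mul (algebraMap B L) r w).symm.trans this⟩
    · rintro ⟨_, ⟨w, rfl⟩, hz⟩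
      exact ⟨r * w, ⟨w, rfl⟩, Subtype.ext ((map_mul (algebraMap B L) r w).trans hz)⟩
  have := Len90.isLattice_map (A := A) M φ
  have hfin : Len90.relLen M (M.map (φ.toLinearMap.restrictScalars A)) ≠ ⊤ :=
    Len90.lattice_relLen_ne_top (K := K) _ _
  refine ⟨hlen ▸ lt_top_iff_ne_top.mpr hfin, ?_⟩
  rw [Algebra.norm_apply, show Algebra.lmul K L (algebraMap B L r) = φ.toLinearMap from rfl,
    ← Len90.dist_map_eq_ordFrac_det M φ, Len90.dist_eq (K := K) M _ _ hle le_rfl, hlen]
  have h0 : Len90.relLen (M.map (φ.toLinearMap.restrictScalars A))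
      (M.map (φ.toLinearMap.restrictScalars A)) = 0 := by
    rw [Len90.relLen, Module.length_eq_zero_iff, Submodule.Quotient.subsingleton_iff]
    exact eq_top_iff.mpr fun x _ => x.2
  simp [h0]

end Groth.Agent.S14503
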