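import Groth.Statements.S10929
import Groth.Agent.Var76.GenSmoothScheme

set_option autoImplicit false
universe u
open CategoryTheory CategoryTheory.Limits AlgebraicGeometry
open Variety

namespace Groth.Agent.S10929

/-- Let k be an algebraically closed field of characteristic zero, X and Y integral schemes of finite
type over k and f : X → Y a dominant k-morphism. Then there is a nonempty open subscheme U of X such
that f restricted to U is a smooth morphism U → Y. -/
theorem result (k : Type u) [Field k] [IsAlgClosed k] [CharZero k]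
    {X Y : Scheme.{u}} (qX : X ⟶ Spec (CommRingCat.of k)) (qY : Y ⟶ Spec (CommRingCat.of k))
    [LocallyOfFiniteType qX] [QuasiCompact qX] [LocallyOfFiniteType qY] [QuasiCompact qY]
    [IsIntegral X] [IsIntegral Y] (f : X ⟶ Y) (hf : f ≫ qY = qX) (hdom : DenseRange f.base) :
    ∃ U : X.Opens, (U : Set ↥X).Nonempty ∧ Smooth (U.ι ≫ f) := by
  have hgen : f.base (genericPoint X) = genericPoint Y := by
    refine ((genericPoint_spec X).image f.base.hom.2).eq ?_
    rw [Set.image_univ]
    refine Eq.mpr (congrArg _ ?_) (genericPoint_spec Y)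
    exact hdom.closure_eq
  have : IsLocallyNoetherian Y := LocallyOfFiniteType.isLocallyNoetherian qY
  have : LocallyOfFiniteType (f ≫ qY) := hf ▸ ‹LocallyOfFiniteType qX›
  have : LocallyOfFiniteType f := locallyOfFiniteType_of_comp f qY
  have : CharZero Y.functionField := by
    let c : k →+* Y.functionField :=
      ((Scheme.ΓSpecIso (CommRingCat.of k)).inv ≫ qY.appTop ≫ Y.presheaf.germ ⊤ (genericPoint Y) trivial).hom
    exact charZero_of_injective_ringHom c.injective
  obtain ⟨hfin, h⟩ := Groth.Agent.Var76.GenSmooth.exists_open_smoothOfRelativeDimension f hgen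
  obtain ⟨n, hn⟩ := Cardinal.lt_aleph0.1 hfin
  obtain ⟨U, hU, hs⟩ := h n hn
  exact ⟨U, hU, SmoothOfRelativeDimension.smooth n _⟩

end Groth.Agent.S10929
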