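import Groth.Statements.S3713
import Groth.Agent.Sga84.SectionChart
import Groth.Agent.SchBasics.SectionRegImm
import Mathlib.AlgebraicGeometry.AffineSpace
import Mathlib.AlgebraicGeometry.Morphisms.Etale
import Mathlib.AlgebraicGeometry.Morphisms.Smooth


set_option autoImplicit false
universe u
open SGA1

namespace Groth.Agent.S3713

open AlgebraicGeometry CategoryTheory CategoryTheory.Limits

theorem smooth_over {n : Type u} [Finite n] (S : Scheme.{u}) : Smooth (AffineSpace n S ↘ S) := by
  refine IsZariskiLocalAtTarget.of_openCover (P := @Smooth) S.affineCover fun i => ?_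
  let R := Γ(S.affineCover.X i, ⊤)
  have hiso : Smooth (AffineSpace n (S.affineCover.X i) ↘ S.affineCover.X i) := by
    have e := AffineSpace.isoOfIsAffine_inv_over (n := n) (S := S.affineCover.X i)
    have hC : Smooth (Spec.map (CommRingCat.ofHom (MvPolynomial.C (σ := n) (R := Γ(S.affineCover.X i, ⊤))))) :=
      (HasRingHomProperty.Spec_iff (P := @Smooth)).mpr
        (RingHom.smooth_algebraMap.mpr { formallySmooth := inferInstance, finitePresentation := inferInstanceAs (Algebra.FinitePresentation Γ(S.affineCover.X i, ⊤) (MvPolynomial n Γ(S.affineCover.X i, ⊤))) })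
    rw [← Iso.hom_inv_id_assoc (AffineSpace.isoOfIsAffine n (S.affineCover.X i))
      (AffineSpace n (S.affineCover.X i) ↘ S.affineCover.X i), e]
    infer_instance
  have hp := (AffineSpace.isPullback_map (n := n) (S.affineCover.f i))
  show Smooth (pullback.snd (AffineSpace n S ↘ S) (S.affineCover.f i))
  rw [← hp.isoPullback_inv_snd]
  infer_instance


open AlgebraicGeometry CategoryTheory CategoryTheory.Limits in
/-- Let Y be locally Noetherian, f : X -> Y locally of finite type, i a section of f and y a point of Y.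
Then X is smooth over Y at i(y) (i(y) lies in the smooth locus of f) if and only if there are an
open neighbourhood U of y, an open V of X with i(U) ⊆ V ⊆ f^{-1}(U), and finitely many sections of
O_X over V, all vanishing along i(U), which define an etale U-morphism from V to an affine space
over U (so that this etale chart carries the section to the zero section). -/
theorem result {X Y : Scheme.{u}} [IsLocallyNoetherian Y] (f : X ⟶ Y)
    [LocallyOfFiniteType f] [LocallyOfFinitePresentation f] (i : Y ⟶ X) (hi : i ≫ f = 𝟙 Y) (y : Y) :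
    i.base y ∈ f.smoothLocus ↔
      ∃ (U : Y.Opens) (V : X.Opens) (_ : y ∈ U) (hUV : U ≤ i ⁻¹ᵁ V) (hVU : V ≤ f ⁻¹ᵁ U) (m : ℕ)
        (v : ULift.{u} (Fin m) → Γ(V, ⊤)),
        Etale (AffineSpace.homOfVector (f.resLE U V hVU) v) ∧ ∀ j, (i.resLE V U hUV).appTop (v j) = 0 := by
  constructor
  · intro hs
    obtain ⟨W, hW⟩ : ∃ W, W = f.smoothLocus := ⟨_, rfl⟩
    obtain ⟨U₀, hU₀, V₀, hV₀, hVU₀, hiV₀, hsm₀⟩ := exists_smooth_of_formallySmooth_stalk f (i y) hs
    have hyU₀ : y ∈ U₀ := by
      have h1 : f (i y) ∈ U₀ := hVU₀ hiV₀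
      rwa [← Scheme.Hom.comp_apply, hi] at h1
    obtain ⟨r, hrle, hry⟩ := hU₀.exists_basicOpen_le (V := U₀ ⊓ i ⁻¹ᵁ V₀) ⟨y, hyU₀, hiV₀⟩ hyU₀
    let U := Y.basicOpen r
    have hU : IsAffineOpen U := hU₀.basicOpen r
    let V := X.basicOpen ((f.appLE U₀ V₀ hVU₀).hom r)
    have hV : IsAffineOpen V := hV₀.basicOpen _
    have hVeq : V = V₀ ⊓ f ⁻¹ᵁ U := Scheme.basicOpen_appLE f V₀ U₀ hVU₀ r
    have hVU : V ≤ f ⁻¹ᵁ U := hVeq.le.trans inf_le_right
    have hUV : U ≤ i ⁻¹ᵁ V := fun z hz => by
      refine (hVeq.ge : V₀ ⊓ f ⁻¹ᵁ U ≤ V) ⟨(hrle hz).2, ?_⟩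
      show f (i z) ∈ U
      rwa [← Scheme.Hom.comp_apply, hi]
    have hsmV : Smooth (V.ι ≫ f) := by
      have hle : V ≤ f.smoothLocus := fun z hz => by
        let := (f.appLE U₀ V₀ hVU₀).hom.toAlgebra
        have : Algebra.Smooth Γ(Y, U₀) Γ(X, V₀) := hsm₀
        have hz0 : z ∈ V₀ := (hVeq.le hz).1
        exact (formallySmooth_stalkMap_iff U₀ hU₀ V₀ hV₀ hVU₀ hz0).mpr
          (inferInstanceAs (Algebra.IsSmoothAt _ _))
      rw [← Scheme.Hom.smoothLocus_eq_top_iff, ← Scheme.Hom.preimage_smoothLocus_eq]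
      exact top_le_iff.mp fun z _ => hle z.2
    let := (f.appLE U V hVU).hom.toAlgebra
    have hsmA : Algebra.Smooth Γ(Y, U) Γ(X, V) := by
      have hres : Smooth (f.resLE U V hVU) := by
        rw [← Scheme.Hom.resLE_comp_ι f hVU] at hsmV
        exact MorphismProperty.of_postcomp (W := @Smooth) (W' := @IsOpenImmersion) _ U.ι inferInstance hsmV
      have : IsAffine _ := hU
      have : IsAffine _ := hV
      rw [HasRingHomProperty.iff_of_isAffine (P := @Smooth)] at hres
      exact (RingHom.Smooth.propertyIsLocal.respectsIso.arrow_mk_iso_iff (arrowResLEAppIso f U V hVU)).mp hres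
    let ε : Γ(X, V) →ₐ[Γ(Y, U)] Γ(Y, U) := Groth.Agent.SchBasics.sectionRetr f i hi hVU hUV
    let py := (hU.primeIdealOf ⟨y, hry⟩).asIdeal
    obtain ⟨m, v₀, g, hv₀, hg, het⟩ := Groth.Agent.SectionChart84.exists_etale_coords ε py
    let s := ε g
    let g' := g * (f.appLE U V hVU).hom s
    let U' := Y.basicOpen s
    let V' := X.basicOpen g'
    have hyU' : y ∈ U' := by
      have h := hU.fromSpec_preimage_basicOpen s
      have hp : hU.primeIdealOf ⟨y, hry⟩ ∈ PrimeSpectrum.basicOpen s := hg
      rw [← h] at hp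
      have : hU.fromSpec (hU.primeIdealOf ⟨y, hry⟩) ∈ U' := hp
      rwa [hU.fromSpec_primeIdealOf] at this
    have hVV : V' ≤ V := X.basicOpen_le g'
    have hV'U' : V' ≤ f ⁻¹ᵁ U' := by
      refine ((X.basicOpen_mul g _).le.trans inf_le_right).trans ?_
      exact (Scheme.basicOpen_appLE f V U hVU s).le.trans inf_le_right
    have hU'V' : U' ≤ i ⁻¹ᵁ V' := by
      intro z hz
      have hzU : z ∈ U := Y.basicOpen_le s hz
      have he : (i.appLE V U hUV).hom g' = s * s := by
        show ε g' = s * s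
        rw [map_mul]
        exact congrArg (s * ·) (ε.commutes s)
      have hz' : z ∈ Y.basicOpen ((i.appLE V U hUV).hom g') := by
        rw [he, Y.basicOpen_mul]
        exact ⟨hz, hz⟩
      rw [Scheme.basicOpen_appLE] at hz'
      exact hz'.2
    have hV' : IsAffineOpen V' := hV.basicOpen g'
    let : Algebra Γ(X, V) Γ(X, V') := (X.presheaf.map (homOfLE hVV).op).hom.toAlgebra
    have : IsLocalization.Away g' Γ(X, V') := hV.isLocalization_basicOpen g'
    let P := MvPolynomial (ULift.{u} (Fin m)) Γ(Y, U)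
    let v' : ULift.{u} (Fin m) → Γ(X, V') := fun j => (X.presheaf.map (homOfLE hVV).op).hom (v₀ j.down)
    let χ : P →+* Γ(X, V') := MvPolynomial.eval₂Hom
      ((X.presheaf.map (homOfLE hVV).op).hom.comp (f.appLE U V hVU).hom) v'
    have hχ : χ.Etale := by
      have h0 := het ((f.appLE U V hVU).hom s) Γ(X, V')
      let er := (MvPolynomial.renameEquiv Γ(Y, U) (Equiv.ulift.{u} (α := Fin m))).toRingEquiv
      have : χ = ((algebraMap Γ(X, V) Γ(X, V')).comp
          (MvPolynomial.eval₂Hom (algebraMap Γ(Y, U) Γ(X, V)) v₀)).comp er.toRingHom := by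
        refine MvPolynomial.ringHom_ext (fun c => ?_) fun j => ?_
        · simp [χ, er]
          rfl
        · simp [χ, er, v']
          rfl
      rw [this]
      exact RingHom.Etale.stableUnderComposition _ _ (RingHom.Etale.of_bijective er.bijective) h0
    let w : ULift.{u} (Fin m) → Γ(V', ⊤) := fun j => V'.topIso.inv (v' j)
    let hh : (V' : Scheme.{u}) ⟶ AffineSpace (ULift.{u} (Fin m)) (Spec Γ(Y, U)) :=
      hV'.isoSpec.hom ≫ Spec.map (CommRingCat.ofHom χ) ≫ (AffineSpace.SpecIso (ULift.{u} (Fin m)) Γ(Y, U)).inv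
    have hhet : Etale hh := by
      have : Etale (Spec.map (CommRingCat.ofHom χ)) := (HasRingHomProperty.Spec_iff (P := @Etale)).mpr hχ
      infer_instance
    have key : hh ≫ AffineSpace.map (ULift.{u} (Fin m)) hU.fromSpec = AffineSpace.homOfVector (V'.ι ≫ f) w := by
      refine AffineSpace.hom_ext ?_ fun j => ?_
      · simp only [hh, Category.assoc, AffineSpace.map_over, AffineSpace.homOfVector_over]
        rw [AffineSpace.SpecIso_inv_over_assoc, ← Spec.map_comp_assoc,
          show CommRingCat.ofHom MvPolynomial.C ≫ CommRingCat.ofHom χ = f.appLE U V' (hVV.trans hVU) from ?_,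
          IsAffineOpen.SpecMap_appLE_fromSpec f hU hV', ← Category.assoc, hV'.isoSpec_hom_fromSpec]
        ext c
        show χ (MvPolynomial.C c) = _
        refine (MvPolynomial.eval₂Hom_C _ _ _).trans ?_
        exact congrArg (fun q : Γ(Y, U) ⟶ Γ(X, V') => q.hom c) (f.appLE_map hVU (homOfLE hVV).op)
      · simp only [hh, Scheme.Hom.comp_appTop, CommRingCat.comp_apply, AffineSpace.map_appTop_coord,
          AffineSpace.homOfVector_appTop_coord, AffineSpace.SpecIso_inv_appTop_coord]
        erw [AffineSpace.SpecIso_inv_appTop_coord]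
        rw [← CommRingCat.comp_apply (f := (Scheme.ΓSpecIso _).inv), ← Scheme.ΓSpecIso_inv_naturality,
          CommRingCat.comp_apply, IsAffineOpen.isoSpec_hom, Scheme.Opens.toSpecΓ_appTop, CommRingCat.comp_apply,
          show (CommRingCat.ofHom χ).hom (MvPolynomial.X j) = v' j from MvPolynomial.eval₂Hom_X' _ _ _]
        exact congrArg V'.topIso.inv ((Scheme.ΓSpecIso Γ(X, V')).inv_hom_id_apply (v' j))
    have hmap : IsOpenImmersion (AffineSpace.map (ULift.{u} (Fin m)) hU.fromSpec) :=
      MorphismProperty.of_isPullback (AffineSpace.isPullback_map hU.fromSpec).flip inferInstance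
    have hmap' : IsOpenImmersion (AffineSpace.map (ULift.{u} (Fin m)) U'.ι) :=
      MorphismProperty.of_isPullback (AffineSpace.isPullback_map U'.ι).flip inferInstance
    have heq : AffineSpace.homOfVector (f.resLE U' V' hV'U') w ≫ AffineSpace.map (ULift.{u} (Fin m)) U'.ι =
        AffineSpace.homOfVector (V'.ι ≫ f) w := by
      refine AffineSpace.hom_ext ?_ fun j => ?_
      · rw [Category.assoc, AffineSpace.map_over, AffineSpace.homOfVector_over_assoc, Scheme.Hom.resLE_comp_ι,
          AffineSpace.homOfVector_over]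
      · rw [Scheme.Hom.comp_appTop, CommRingCat.comp_apply, AffineSpace.map_appTop_coord,
          AffineSpace.homOfVector_appTop_coord, AffineSpace.homOfVector_appTop_coord]
    refine ⟨U', V', hyU', hU'V', hV'U', m, w, ?_, fun j => ?_⟩
    · have : Etale (AffineSpace.homOfVector (f.resLE U' V' hV'U') w ≫ AffineSpace.map (ULift.{u} (Fin m)) U'.ι) := by
        rw [heq, ← key]
        infer_instance
      exact MorphismProperty.of_postcomp (W := @Etale) (W' := @Etale) _ (AffineSpace.map (ULift.{u} (Fin m)) U'.ι) inferInstance this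
    · show ((i.resLE V' U' hU'V').app ⊤).hom _ = 0
      rw [Scheme.Hom.resLE_app_top]
      show U'.topIso.inv (i.appLE V' U' hU'V' (V'.topIso.hom (V'.topIso.inv (v' j)))) = 0
      rw [V'.topIso.inv_hom_id_apply]
      have h1 : i.appLE V' U' hU'V' (v' j) =
          Y.presheaf.map (homOfLE (Y.basicOpen_le s)).op (i.appLE V U hUV (v₀ j.down)) := by
        show ((X.presheaf.map (homOfLE hVV).op) ≫ i.appLE V' U' hU'V').hom (v₀ j.down) =
          ((i.appLE V U hUV) ≫ Y.presheaf.map (homOfLE (Y.basicOpen_le s)).op).hom (v₀ j.down)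
        rw [Scheme.Hom.map_appLE, Scheme.Hom.appLE_map]
      rw [h1, show i.appLE V U hUV (v₀ j.down) = 0 from hv₀ j.down, map_zero, map_zero]
  · rintro ⟨U, V, hy, hUV, hVU, m, v, hv, -⟩
    have := smooth_over (n := ULift.{u} (Fin m)) (U : Scheme.{u})
    have h1 : Smooth (f.resLE U V hVU) := by
      rw [← AffineSpace.homOfVector_over (f.resLE U V hVU) v]
      infer_instance
    have h2 : Smooth (V.ι ≫ f) := by
      rw [← Scheme.Hom.resLE_comp_ι f hVU]
      infer_instance
    have h3 := (V.ι ≫ f).smoothLocus_eq_top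
    rw [← Scheme.Hom.preimage_smoothLocus_eq] at h3
    exact (h3.ge (Set.mem_univ (⟨i y, hUV hy⟩ : V)) : _)

end Groth.Agent.S3713
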