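import Groth.Statements.S4418
import Groth.Agent.EGA73.ProjProper
import Groth.Agent.EGA73.RelAmpleTwist
import Groth.Agent.EGAProj74.SelfModule
import Groth.Agent.Amp73.QA

set_option autoImplicit false
universe u
open CategoryTheory CategoryTheory.Limits AlgebraicGeometry
open EGA2

namespace Groth.Agent.S4418

/-- Every projective morphism f : X → Y is quasi-projective (of finite type with an f-ample module) and
proper. -/
theorem result {X Y : Scheme.{u}} (f : X ⟶ Y) (hf : RelProj.IsProjective f) :
    RelProj.IsQuasiProjective f ∧ IsProper f := by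
  obtain ⟨𝒮, P, p, chart, e, hgen, hft, hP, rfl⟩ := hf
  have := Groth.Agent.EGA73.isProper_relProj hgen hft hP
  obtain ⟨L, lam, hL⟩ := Groth.Agent.EGAProj74.exists_isRelTwist (hP := hP) ((1 : ℕ) : ℤ)
  refine ⟨⟨inferInstance, inferInstance, (Scheme.Modules.pullback e.hom).obj L, ?_⟩, inferInstance⟩
  exact Groth.Agent.Amp73.isRelAmple_pullback_comp e.hom
    (Groth.Agent.Amp73.isQuasiAffine_of_isEmbedding e.hom e.hom.isOpenEmbedding.isEmbedding)
    (Groth.Agent.EGA73.isRelAmple_relTwist_one hgen hL)


end Groth.Agent.S4418
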