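import Groth.Statements.S18385
import Groth.Agent.S7798
import Groth.Agent.S7799
import Groth.Agent.AbSch7.Biadd
import Groth.Agent.SGA3a.SmoothWeil
import Groth.Agent.SpPts86.RelDim
import Groth.Agent.AlgGrp79.ProdDense

set_option autoImplicit false
universe u
open CategoryTheory CategoryTheory.Limits MonoidalCategory CartesianMonoidalCategory MonObj GrpObj AlgebraicGeometry
open AbSch

namespace Groth.Agent.S18385

set_option backward.isDefEq.respectTransparency false
open Groth.Agent

theorem geometricallyIntegral_field {K : Type u} [Field K] {X : Scheme.{u}} (p : X ⟶ Spec (CommRingCat.of K))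
    [Smooth p] [GeometricallyConnected p] : GeometricallyIntegral p := ⟨fun L _ y Z a b h => by
  have : Smooth b := MorphismProperty.of_isPullback (P := @Smooth) h inferInstance
  have : ConnectedSpace ↥Z := GeometricallyConnected.geometrically_connectedSpace (f := p) y a b h
  have : IrreducibleSpace ↥Z := SGA3a.irreducibleSpace_of_smooth_connected b
  have : GeometricallyReduced b := AlgGrp79.geometricallyReduced_of_smooth b
  have : IsReduced Z := GeometricallyReduced.geometrically_isReduced (f := b) (𝟙 _) (𝟙 _) b (IsPullback.of_horiz_isIso ⟨by simp⟩)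
  exact isIntegral_of_irreducibleSpace_of_isReduced Z⟩

theorem fdeg_fibre_map {X Y : Scheme.{u}} (f : X ⟶ Y) [LocallyOfFiniteType f] {X' Y' : Scheme.{u}} (f' : X' ⟶ Y')
    (p : X' ⟶ X) [IsPreimmersion p] (g : Y' ⟶ Y) (hsq : IsPullback p f' f g) (a : X') :
    E4O.fdeg f' a = E4O.fdeg f (p a) := by
  obtain ⟨a', ha', -, h⟩ := E4O.exists_fdeg_eq_of_isPullback hsq (p a) (f' a) (by
    rw [← Scheme.Hom.comp_apply, hsq.w]; rfl)
  rw [← h, p.isEmbedding.injective ha']

/-- (2) ⇔ (3): let S be a scheme, A and B abelian schemes over S (S-group schemes, smooth and proper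
over S with geometrically connected fibres) whose fibres A_s and B_s have the same dimension for
every point s of S, and f : A → B a homomorphism of S-group schemes. Then f is locally quasi-finite
if and only if f is surjective (and then f is an isogeny). -/
theorem result {S : Scheme.{u}} (A B : Over S)
    [GrpObj A] [Smooth A.hom] [IsProper A.hom] [GeometricallyConnected A.hom]
    [GrpObj B] [Smooth B.hom] [IsProper B.hom] [GeometricallyConnected B.hom]
    (f : A ⟶ B) [IsMonHom f]
    (hdim : ∀ s : S, topologicalKrullDim ↥(A.hom.fiber s) = topologicalKrullDim ↥(B.hom.fiber s)) :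
    LocallyQuasiFinite f.left ↔ Surjective f.left := by
  rename' hdim => hdimAB
  have hfl : IsProper f.left := by
    have : IsProper (f.left ≫ B.hom) := by rw [Over.w]; infer_instance
    exact IsProper.of_comp f.left B.hom
  -- the map on a fibre
  have key : ∀ s : S, ∃ (fs : (A.hom.fiber s) ⟶ (B.hom.fiber s)) (_ : IsProper fs) (d : ℕ),
      IsPullback (A.hom.fiberι s) fs f.left (B.hom.fiberι s) ∧ IrreducibleSpace ↥(A.hom.fiber s) ∧
      IrreducibleSpace ↥(B.hom.fiber s) ∧ fs ≫ B.hom.fiberToSpecResidueField s = A.hom.fiberToSpecResidueField s ∧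
      ∀ (y : ↥(B.hom.fiber s)) (Z : Set ↥(fs.fiber y)), Z ∈ irreducibleComponents ↥(fs.fiber y) → topologicalKrullDim ↥Z = d := by
    intro s
    let F := S.fromSpecResidueField s
    let As := Red.bc F A
    let Bs := Red.bc F B
    have : Smooth As.hom := inferInstanceAs (Smooth (pullback.snd A.hom F))
    have : IsProper As.hom := inferInstanceAs (IsProper (pullback.snd A.hom F))
    have : GeometricallyConnected As.hom := inferInstanceAs (GeometricallyConnected (pullback.snd A.hom F))
    have : Smooth Bs.hom := inferInstanceAs (Smooth (pullback.snd B.hom F))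
    have : IsProper Bs.hom := inferInstanceAs (IsProper (pullback.snd B.hom F))
    have : GeometricallyConnected Bs.hom := inferInstanceAs (GeometricallyConnected (pullback.snd B.hom F))
    have : GeometricallyIntegral As.hom := geometricallyIntegral_field (K := S.residueField s) As.hom
    have : GeometricallyIntegral Bs.hom := geometricallyIntegral_field (K := S.residueField s) Bs.hom
    let fs := ((Over.pullback F).map f).left
    have hw : fs ≫ Bs.hom = As.hom := Over.w ((Over.pullback F).map f)
    have : IsProper (fs ≫ Bs.hom) := by rw [hw]; infer_instance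
    have hp : IsProper fs := IsProper.of_comp fs Bs.hom
    obtain ⟨d, hd⟩ := S7799.result (S.residueField s) As (Y := Bs.left) Bs.hom fs hw
    have h1 : fs ≫ pullback.fst B.hom F = pullback.fst A.hom F ≫ f.left := by simp [fs]
    have hsq : IsPullback (pullback.fst A.hom F) fs f.left (pullback.fst B.hom F) := by
      refine IsPullback.of_bot (v₂₁ := pullback.snd B.hom F) (v₂₂ := B.hom) (h₃₁ := F) ?_ h1.symm
        (IsPullback.of_hasPullback B.hom F)
      rw [Over.w f]
      have h2 : fs ≫ pullback.snd B.hom F = pullback.snd A.hom F := hw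
      rw [h2]
      exact IsPullback.of_hasPullback A.hom F
    exact ⟨fs, hp, d, hsq, GeometricallyIrreducible.irreducibleSpace_of_subsingleton As.hom,
      GeometricallyIrreducible.irreducibleSpace_of_subsingleton Bs.hom, hw, hd⟩
  -- dimensions along the fibre map
  have hsum : ∀ (s : S) (fs : A.hom.fiber s ⟶ B.hom.fiber s) (_ : IsProper fs) [IrreducibleSpace ↥(A.hom.fiber s)]
      [IrreducibleSpace ↥(B.hom.fiber s)], fs ≫ B.hom.fiberToSpecResidueField s = A.hom.fiberToSpecResidueField s →
      (E4O.fdeg fs (genericPoint ↥(A.hom.fiber s)) = 0 ↔ Function.Surjective fs) := by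
    intro s fs _ _ _ hw
    let p := A.hom.fiberToSpecResidueField s
    let q := B.hom.fiberToSpecResidueField s
    have : Subsingleton ↥(Spec (S.residueField s)) := inferInstanceAs (Subsingleton (PrimeSpectrum (S.residueField s)))
    let ξ := genericPoint ↥(A.hom.fiber s)
    have hA : topologicalKrullDim ↥(A.hom.fiber s) = (E4O.fdeg p ξ : ℕ) := by
      rw [← S7798.fdeg_eq_dim p ξ, show closure ({ξ} : Set ↥(A.hom.fiber s)) = Set.univ from genericPoint_closure _]
      exact (IsHomeomorph.topologicalKrullDim_eq _ (Homeomorph.Set.univ ↥(A.hom.fiber s)).isHomeomorph).symm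
    have hB : topologicalKrullDim ↥(B.hom.fiber s) = (E4O.fdeg q (genericPoint ↥(B.hom.fiber s)) : ℕ) := by
      rw [← S7798.fdeg_eq_dim q _, show closure ({genericPoint ↥(B.hom.fiber s)} : Set ↥(B.hom.fiber s)) = Set.univ from genericPoint_closure _]
      exact (IsHomeomorph.topologicalKrullDim_eq _ (Homeomorph.Set.univ ↥(B.hom.fiber s)).isHomeomorph).symm
    have hd := hdimAB s
    rw [hA, hB] at hd
    have hd' : E4O.fdeg p ξ = E4O.fdeg q (genericPoint ↥(B.hom.fiber s)) := by exact_mod_cast hd
    have hcomp := S7798.fdeg_comp_eq fs q ξ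
    rw [show E4O.fdeg (fs ≫ q) ξ = E4O.fdeg p ξ by congr 1] at hcomp
    constructor
    · intro h0
      have hgen : genericPoint ↥(B.hom.fiber s) = fs ξ := by
        by_contra hne
        exact absurd (E4O.fdeg_lt (f := q) (genericPoint_specializes (fs ξ)) (Subsingleton.elim _ _) hne)
          (by change E4O.fdeg fs ξ = 0 at h0; omega)
      intro b
      refine closure_minimal (Set.singleton_subset_iff.2 (Set.mem_range_self ξ)) fs.isClosedMap.isClosed_range ?_
      rw [← hgen, genericPoint_closure _]
      exact Set.mem_univ b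
    · intro hsurj
      obtain ⟨a, ha⟩ := hsurj (genericPoint ↥(B.hom.fiber s))
      have h1 : fs ξ ⤳ genericPoint ↥(B.hom.fiber s) := ha ▸ (genericPoint_specializes a).map fs.continuous
      rw [(h1.antisymm (genericPoint_specializes _)).eq] at hcomp
      change E4O.fdeg fs ξ = 0
      omega
  constructor
  · intro hl
    refine ⟨fun b => ?_⟩
    obtain ⟨s, hs⟩ : ∃ s, B.hom b = s := ⟨_, rfl⟩
    obtain ⟨fs, hp, d, hsq, _, _, hw, -⟩ := key s
    obtain ⟨z, rfl⟩ := E4O.exists_fiberι_eq B.hom hs
    have : IsPreimmersion (A.hom.fiberι s) := inferInstance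
    have h0 : E4O.fdeg fs (genericPoint ↥(A.hom.fiber s)) = 0 := by
      rw [fdeg_fibre_map f.left fs (A.hom.fiberι s) (B.hom.fiberι s) hsq (genericPoint ↥(A.hom.fiber s))]
      exact VarGal.fdeg_eq_zero_of_quasiFiniteAt f.left (f.left.quasiFiniteAt _)
    obtain ⟨a, rfl⟩ := (hsum _ fs hp hw).1 h0 z
    exact ⟨A.hom.fiberι _ a, by rw [← Scheme.Hom.comp_apply, hsq.w]; rfl⟩
  · intro hs
    refine SpPts86.locallyQuasiFinite_of_fibreDimAt f.left fun x => ?_
    obtain ⟨z, hzx, hfz, hmax, hdim, -⟩ := E4O.exists_isFibreMax_specializes f.left x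
    rw [hdim]
    obtain ⟨fs, hp, d, hsq, _, _, hw, hcomp⟩ := key (A.hom z)
    obtain ⟨a, ha⟩ := E4O.exists_fiberι_eq A.hom (rfl : A.hom z = A.hom z)
    have hpre : IsPreimmersion (A.hom.fiberι (A.hom z)) := inferInstance
    have hd0 : d = 0 := by
      have hss : Function.Surjective fs := (MorphismProperty.of_isPullback (P := @Surjective) hsq hs).surj
      have h0 := (hsum _ fs hp hw).2 hss
      obtain ⟨Z, hZ, hZd⟩ := E4O.exists_component_of_isFibreMax fs rfl
        (x := genericPoint ↥(A.hom.fiber (A.hom z)))
        (fun x' hx' _ => (hx'.antisymm (genericPoint_specializes x')).eq)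
      rw [hcomp _ Z hZ, h0] at hZd
      exact_mod_cast hZd
    have hamax : E4O.IsFibreMax fs a := by
      intro a' h1 h2
      refine (A.hom.fiberι (A.hom z)).isEmbedding.injective ?_
      rw [ha]
      refine hmax _ ((h1.map (A.hom.fiberι (A.hom z)).continuous).trans (specializes_of_eq ha)) ?_
      rw [← Scheme.Hom.comp_apply, hsq.w, Scheme.Hom.comp_apply, h2, ← Scheme.Hom.comp_apply, ← hsq.w,
        Scheme.Hom.comp_apply, ha]
    obtain ⟨Z, hZ, hZd⟩ := E4O.exists_component_of_isFibreMax fs rfl hamax
    rw [hcomp _ Z hZ, hd0, fdeg_fibre_map f.left fs (A.hom.fiberι (A.hom z)) _ hsq a, ha] at hZd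
    exact_mod_cast hZd.symm

end Groth.Agent.S18385
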