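import Groth.Statements.S6314
import Mathlib
import Groth.Agent.TorMod7.Basic

set_option autoImplicit false
set_option linter.style.haveILetI false
set_option linter.style.longLine false
universe u
open CategoryTheory
open CAlg

namespace Groth.Agent.S6314

/-- Let R be a ring and M a flat R-module. Then Torᵢᴿ(M, N) = 0 for all R-modules N and all i > 0. -/
theorem result (R : Type u) [CommRing R] (M : Type u) [AddCommGroup M] [Module R M] [Module.Flat R M] (N : ModuleCat.{u} R) (i : ℕ) (hi : 0 < i) : Limits.IsZero (((CategoryTheory.Tor (ModuleCat.{u} R) i).obj (ModuleCat.of R M)).obj N) := by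
  obtain ⟨i, rfl⟩ : ∃ k, i = k + 1 := ⟨i - 1, by omega⟩
  clear hi
  induction i generalizing N with
  | zero =>
    refine (TorMod7.isZero_tor_one_iff_of_surjective (ModuleCat.of R M)
      (Finsupp.linearCombination R (id : N → N)) (Finsupp.linearCombination_id_surjective R N)).2 ?_
    exact Module.Flat.lTensor_preserves_injective_linearMap _ (Submodule.injective_subtype _)
  | succ n ih =>
    exact TorMod7.isZero_tor_succ (ModuleCat.of R M)
      (TorMod7.sesOfSurjective (Finsupp.linearCombination R (id : N → N)) (Finsupp.linearCombination_id_surjective R N))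
      ((IsProjective.iff_projective (R := R) (P := N →₀ R)).1 inferInstance) n (ih _)

end Groth.Agent.S6314
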