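import Groth.Statements.S5020
import Groth.Agent.SchBasics.OmegaChart
import Groth.Agent.SchBasics.PullSpan
import Groth.Agent.SchBasics.ClosedChart
import Groth.Agent.Omega57.Diag
import Groth.Agent.FlatMor67.LiftAffine

set_option backward.isDefEq.respectTransparency false

set_option autoImplicit false
universe u
open CategoryTheory CategoryTheory.Limits AlgebraicGeometry TopologicalSpace
open Unram17

namespace Groth.Agent.S5020

/-- Let j : X' ⟶ X be a quasi-compact immersion and f : X ⟶ Y a morphism with j ≫ f formally smooth. Let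
(Ω', d) be a sheaf of differentials of X over Y (d universal) and φ the canonical map from the
conormal sheaf of j to the pullback of Ω' along j (the O_{X'}-linear map sending the class of a
local section s of the ideal of j to the pullback of d s). Then φ is a monomorphism. (The published
statement allows any immersion j and also asserts that the sequence conormal sheaf → pullback of Ω'
→ differentials of X' over Y is short exact and locally split; this row assumes j quasi-compact, the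
case in which the conormal sheaf used here is known to be the conormal sheaf of j, and states only
that the first map is injective.) -/
theorem result {X' X Y : Scheme.{u}} (j : X' ⟶ X)
    [IsImmersion j] [QuasiCompact j] (f : X ⟶ Y) (hf : MoreMor.IsFormallySmoothHom (j ≫ f))
    (Ω' : X.Modules) (d : OmegaSh.Der f Ω') (hd : OmegaSh.IsUniversal d)
    (φ : Omega.conormal j ⟶ (Scheme.Modules.pullback j).obj Ω') (hφ : OmegaSh.IsConormalDiff j d φ) :
    Mono φ := by
  haveI := SchBasics.isQuasicoherent_of_isUniversal hd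
  haveI : (ClSub.idealMod j.ker).IsQuasicoherent := Omega57.isQuasicoherent_idealMod j.ker
  let CN : X'.Modules := Omega.conormal j
  refine Preadditive.mono_of_cancel_zero _ fun {T} β hβ => ?_
  refine Scheme.Modules.hom_ext _ _ fun O => ?_
  ext z
  refine QC70.section_ext CN _ _ fun p hp => ?_
  obtain ⟨P₀, hP₀, hP₀O⟩ := j.isEmbedding.isInducing.isOpen_iff.1 O.2
  obtain ⟨V₀, hV₀, hpV₀, -⟩ := exists_isAffineOpen_mem_and_subset (X := Y) (x := f (j p)) (U := ⊤) trivial
  obtain ⟨W, hW, hV, hpW, hWT, hsurj⟩ := SchBasics.exists_closed_chart_le j (z := p)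
    (⟨P₀, hP₀⟩ ⊓ f ⁻¹ᵁ V₀) ⟨hP₀O.ge hp, hpV₀⟩
  have hVO : j ⁻¹ᵁ W ≤ O := fun y hy => hP₀O.le (hWT hy).1
  have eW : W ≤ f ⁻¹ᵁ V₀ := fun y hy => (hWT hy).2
  have eV : j ⁻¹ᵁ W ≤ (j ≫ f) ⁻¹ᵁ V₀ := fun y hy => eW hy
  refine ⟨j ⁻¹ᵁ W, hVO, hpW, ?_⟩
  let π : Γ(X, W) →+* Γ(X', j ⁻¹ᵁ W) := (j.app W).hom
  -- classes of functions vanishing on the subscheme
  have hI : ∀ b : RingHom.ker π, ∃ m : Γ(ClSub.idealMod j.ker, W), OmegaSh.idealSect j.ker W m = b.1 :=
    fun b => Omega57.exists_idealSect_eq _ _ _ (Omega57.subscheme_app_eq_zero j W b.1 b.2)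
  choose κ hκ using hI
  let K : RingHom.ker π → Γ(CN, j ⁻¹ᵁ W) := fun b => OmegaSh.conormalSect j W (κ b)
  have hKs : ∀ (m : Γ(ClSub.idealMod j.ker, W)) (h : OmegaSh.idealSect j.ker W m ∈ RingHom.ker π),
      K ⟨_, h⟩ = OmegaSh.conormalSect j W m := fun m h =>
    congrArg (OmegaSh.conormalSect j W) (Omega57.idealSect_injective _ _ (hκ ⟨_, h⟩))
  have hKadd : ∀ a b, K (a + b) = K a + K b := by
    intro a b
    show _ = OmegaSh.conormalSect j W (κ a) + OmegaSh.conormalSect j W (κ b)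
    rw [← map_add]
    refine congrArg (OmegaSh.conormalSect j W) (Omega57.idealSect_injective _ _ ?_)
    rw [hκ, map_add, hκ, hκ]
    rfl
  let Kh : RingHom.ker π →+ Γ(CN, j ⁻¹ᵁ W) := AddMonoidHom.mk' K hKadd
  have hKsmul : ∀ (r : Γ(X, W)) (b : RingHom.ker π), Kh (r • b) = π r • Kh b := by
    intro r b
    show OmegaSh.conormalSect j W (κ (r • b)) = π r • OmegaSh.conormalSect j W (κ b)
    rw [show κ (r • b) = r • κ b from Omega57.idealSect_injective _ _ (by
      rw [hκ, Omega57.idealSect_smul, hκ]; rfl)]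
    exact OmegaSh.pullSect_smul j _ W r _
  have hK2 : ∀ a b : RingHom.ker π, (a - b : Γ(X, W)) ∈ RingHom.ker π ^ 2 → Kh a = Kh b := by
    intro a b hab
    rw [← sub_eq_zero, ← map_sub]
    have key : ∀ x ∈ RingHom.ker π ^ 2, ∀ hx : x ∈ RingHom.ker π, Kh ⟨x, hx⟩ = 0 := by
      intro x hx2
      rw [pow_two] at hx2
      induction hx2 using Submodule.mul_induction_on' with
      | mem_mul_mem u hu v hv =>
        intro hx
        refine (congrArg Kh (Subtype.ext rfl : (⟨u * v, hx⟩ : RingHom.ker π) = u • ⟨v, hv⟩)).trans ?_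
        rw [hKsmul, RingHom.mem_ker.1 hu, zero_smul]
      | add u hu v hv ihu ihv =>
        intro hx
        have hu' : u ∈ RingHom.ker π := Ideal.mul_le_right hu
        have hv' : v ∈ RingHom.ker π := Ideal.mul_le_right hv
        refine (congrArg Kh (Subtype.ext rfl : (⟨u + v, hx⟩ : RingHom.ker π) = ⟨u, hu'⟩ + ⟨v, hv'⟩)).trans ?_
        rw [map_add, ihu hu', ihv hv', add_zero]
    exact key _ hab (a - b).2
  -- the section of the first order neighbourhood
  letI : Algebra Γ(Y, V₀) Γ(X, W) := (f.appLE V₀ W eW).hom.toAlgebra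
  letI : Algebra Γ(Y, V₀) Γ(X', j ⁻¹ᵁ W) := ((j ≫ f).appLE V₀ (j ⁻¹ᵁ W) eV).hom.toAlgebra
  haveI : Algebra.FormallySmooth Γ(Y, V₀) Γ(X', j ⁻¹ᵁ W) := FlatMor67.formallySmooth_appLE hV hV₀ eV hf
  let π' : Γ(X, W) →ₐ[Γ(Y, V₀)] Γ(X', j ⁻¹ᵁ W) :=
    { toRingHom := π
      commutes' := fun a => by
        show j.app W (f.appLE V₀ W eW a) = (j ≫ f).appLE V₀ (j ⁻¹ᵁ W) eV a
        rw [← Scheme.Hom.appLE_comp_appLE j f V₀ W (j ⁻¹ᵁ W) eW le_rfl, ConcreteCategory.comp_apply,
          Scheme.Hom.app_eq_appLE] }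
  let q : (Γ(X, W) ⧸ RingHom.ker π ^ 2) →ₐ[Γ(Y, V₀)] Γ(X', j ⁻¹ᵁ W) :=
    Ideal.Quotient.liftₐ _ π' fun a ha => Ideal.pow_le_self two_ne_zero ha
  have hq : Function.Surjective q := fun c =>
    (hsurj c).elim fun b hb => ⟨Ideal.Quotient.mk _ b, hb⟩
  have hnil : IsNilpotent (RingHom.ker (q : Γ(X, W) ⧸ RingHom.ker π ^ 2 →+* Γ(X', j ⁻¹ᵁ W))) := by
    refine ⟨2, (pow_two _).trans (le_bot_iff.1 (Ideal.mul_le.2 fun x hx y hy => ?_))⟩
    obtain ⟨x, rfl⟩ := Ideal.Quotient.mk_surjective x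
    obtain ⟨y, rfl⟩ := Ideal.Quotient.mk_surjective y
    rw [Ideal.mem_bot, ← map_mul, Ideal.Quotient.eq_zero_iff_mem, pow_two]
    exact Ideal.mul_mem_mul hx hy
  let σ := Algebra.FormallySmooth.liftOfSurjective (AlgHom.id Γ(Y, V₀) Γ(X', j ⁻¹ᵁ W)) q hq hnil
  obtain ⟨s, hs⟩ : ∃ s : Γ(X', j ⁻¹ᵁ W) → Γ(X, W), ∀ c, Ideal.Quotient.mk (RingHom.ker π ^ 2) (s c) = σ c :=
    ⟨fun c => (Ideal.Quotient.mk_surjective (σ c)).choose, fun c => (Ideal.Quotient.mk_surjective (σ c)).choose_spec⟩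
  have hπs : ∀ c, π (s c) = c := fun c => by
    have h1 : q (σ c) = c := Algebra.FormallySmooth.liftOfSurjective_apply (AlgHom.id _ _) q hq hnil c
    rw [← hs c] at h1
    exact h1
  let ε : Γ(X, W) → RingHom.ker π := fun b => ⟨b - s (π b), by rw [RingHom.mem_ker, map_sub, hπs, sub_self]⟩
  let δf : Γ(X, W) → Γ(CN, j ⁻¹ᵁ W) := fun b => Kh (ε b)
  have hδadd : ∀ a b, δf (a + b) = δf a + δf b := by
    intro a b
    show Kh (ε (a + b)) = Kh (ε a) + Kh (ε b)
    rw [← map_add]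
    refine hK2 _ _ ?_
    rw [← Ideal.Quotient.eq_zero_iff_mem]
    simp only [ε, map_add, map_sub, hs, Submodule.coe_add]
    ring
  have hδmul : ∀ a b, δf (a * b) = π a • δf b + π b • δf a := by
    intro a b
    show Kh (ε (a * b)) = π a • Kh (ε b) + π b • Kh (ε a)
    rw [← hKsmul, ← hKsmul, ← map_add]
    refine hK2 _ _ ?_
    have h2 : (a - s (π a)) * (b - s (π b)) ∈ RingHom.ker π ^ 2 := by
      rw [pow_two]; exact Ideal.mul_mem_mul (ε a).2 (ε b).2
    rw [← Ideal.Quotient.eq_zero_iff_mem] at h2 ⊢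
    simp only [ε, map_mul, map_add, map_sub, hs, Submodule.coe_add, SetLike.val_smul, smul_eq_mul] at h2 ⊢
    linear_combination (-1 : Γ(X, W) ⧸ RingHom.ker π ^ 2) * h2
  have hδA : ∀ a, δf (f.appLE V₀ W eW a) = 0 := by
    intro a
    show Kh (ε (f.appLE V₀ W eW a)) = 0
    rw [← map_zero Kh]
    refine hK2 _ _ ?_
    rw [← Ideal.Quotient.eq_zero_iff_mem]
    simp only [ε, ZeroMemClass.coe_zero, sub_zero, map_sub, hs]
    rw [sub_eq_zero, show π (f.appLE V₀ W eW a) = algebraMap Γ(Y, V₀) _ a from π'.commutes a, AlgHom.commutes]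
    rfl
  have hδK : ∀ (b : Γ(X, W)) (h : b ∈ RingHom.ker π), δf b = Kh ⟨b, h⟩ := by
    intro b h
    refine hK2 _ _ ?_
    rw [← Ideal.Quotient.eq_zero_iff_mem]
    simp [ε, hs, RingHom.mem_ker.1 h]
  -- the retraction
  let δ : ((ModuleCat.restrictScalars π).obj (OmAff.sectMod CN (j ⁻¹ᵁ W))).Derivation (f.appLE V₀ W eW) :=
    ModuleCat.Derivation.mk δf hδadd hδmul hδA
  obtain ⟨eΩ, heΩ⟩ := SchBasics.exists_chartEquiv hd hW hV₀ eW
  let g₀ := δ.desc.hom.comp eΩ.symm.toLinearMap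
  let g : Γ(Ω', W) →+ Γ(CN, j ⁻¹ᵁ W) := AddMonoidHom.mk' (fun m => g₀ m) fun a b => map_add g₀ a b
  have hgsmul : ∀ r m, g (r • m) = j.appLE W (j ⁻¹ᵁ W) le_rfl r • g m := by
    intro r m
    rw [← Scheme.Hom.app_eq_appLE]
    exact g₀.map_smul r m
  obtain ⟨l, hl⟩ := SchBasics.exists_linear_pullSect j Ω' CN hV hW le_rfl g hgsmul
  have key : ∀ x : Γ(CN, j ⁻¹ᵁ W), l (φ.app (j ⁻¹ᵁ W) x) = x := by
    intro x
    have hx : x ∈ Submodule.span Γ(X', j ⁻¹ᵁ W) (Set.range fun m : Γ(ClSub.idealMod j.ker, W) =>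
        QC70.res CN (le_rfl : j ⁻¹ᵁ W ≤ j ⁻¹ᵁ W) (OmegaSh.conormalSect j W m)) :=
      (SchBasics.span_pullSect j (ClSub.idealMod j.ker) hV hW le_rfl).ge trivial
    induction hx using Submodule.span_induction with
    | mem y hy =>
      obtain ⟨m, rfl⟩ := hy
      beta_reduce
      rw [QC70.res_self, hφ W m]
      have hm : OmegaSh.idealSect j.ker W m ∈ RingHom.ker π :=
        Omega57.app_eq_zero_of_subscheme j W _ (Omega57.subschemeι_idealSect _ _ _)
      refine (congrArg l (QC70.res_self (M := (Scheme.Modules.pullback j).obj Ω') _).symm).trans ((hl _).trans ?_)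
      show δ.desc.hom (eΩ.symm (d.app W (OmegaSh.idealSect j.ker W m))) = _
      rw [← heΩ, LinearEquiv.symm_apply_apply]
      refine (ModuleCat.Derivation.desc_d δ _).trans ?_
      exact (hδK _ hm).trans (hKs m hm)
    | zero => rw [map_zero, map_zero]
    | add y z _ _ hy hz => rw [map_add, map_add, hy, hz]
    | smul a y _ hy => rw [Scheme.Modules.Hom.app_smul, map_smul, hy]
  have h0 : φ.app O (β.app O z) = 0 :=
    congr($(congrArg (fun ψ => Scheme.Modules.Hom.app ψ O) hβ) z)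
  show QC70.res CN _ (β.app O z) = QC70.res CN _ 0
  rw [QC70.res_zero, ← key (QC70.res CN _ (β.app O z)), QC70.app_res, h0, QC70.res_zero, map_zero]

end Groth.Agent.S5020
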