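import Groth.Statements.S0248
import Groth.Agent.Pure83.Sections
import Groth.Agent.Pure83.Regular
import Groth.Agent.CAlg6.RegularNormal

set_option autoImplicit false
universe u
open Pi1

namespace Groth.Agent.S0248

open AlgebraicGeometry CategoryTheory CategoryTheory.Limits in
/-- Let A be a regular local ring of dimension at least 2 and B a finite A-algebra which is an
integrally closed domain, with A → B injective. If B is étale over A at every prime of B not lying
over the maximal ideal of A, then B is étale over A. This is the case of the published statement in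
which B is a domain and A → B is injective. -/
theorem result (A B : Type u) [CommRing A] [IsRegularLocalRing A]
    (hA : (2 : WithBot ℕ∞) ≤ ringKrullDim A) [CommRing B] [IsDomain B] [IsIntegrallyClosed B]
    [Algebra A B] [Module.Finite A B] (hinj : Function.Injective (algebraMap A B))
    (h : ∀ (q : Ideal B) (_ : q.IsPrime), q.comap (algebraMap A B) ≠ IsLocalRing.maximalIdeal A →
      Algebra.IsEtaleAt A q) : Algebra.Etale A B := by
  refine Pure83.etale_of_purityHolds B (Pure83.two_le_depth_regular hA)
    (Pure83.purityHolds_of_regular A hA) (fun q hq => h q.asIdeal q.isPrime hq) fun q hq => ?_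
  have := CAlg1.isDomain_regular A
  have := CAlg6.isIntegrallyClosed_of_regular A
  have : FaithfulSMul A B := (faithfulSMul_iff_algebraMap_injective A B).mpr hinj
  have : Algebra.IsIntegral A B := Algebra.IsIntegral.of_finite A B
  have : IsNoetherianRing B := IsNoetherianRing.of_finite A B
  have hlo : q.asIdeal.LiesOver (IsLocalRing.maximalIdeal A) := ⟨hq.symm⟩
  have := Localization.AtPrime.isLocalRing q.asIdeal
  have : IsIntegrallyClosed (Localization.AtPrime q.asIdeal) :=
    isIntegrallyClosed_of_isLocalization _ q.asIdeal.primeCompl q.asIdeal.primeCompl_le_nonZeroDivisors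
  have : IsDomain (Localization.AtPrime q.asIdeal) := IsLocalization.isDomain_of_atPrime _ q.asIdeal
  refine CAlg1.two_le_depth_of_isIntegrallyClosed _ ?_
  rw [IsLocalization.AtPrime.ringKrullDim_eq_height q.asIdeal,
    Ideal.height_eq_height_add_of_liesOver_of_hasGoingDown (IsLocalRing.maximalIdeal A) q.asIdeal]
  rw [← IsLocalRing.maximalIdeal_height_eq_ringKrullDim] at hA
  exact hA.trans (WithBot.coe_le_coe.mpr le_self_add)

end Groth.Agent.S0248
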