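import Groth.Statements.S0249
import Mathlib.RingTheory.Ideal.KrullsHeightTheorem

set_option autoImplicit false
universe u
open Pi1

namespace Groth.Agent.S0249

open AlgebraicGeometry CategoryTheory CategoryTheory.Limits in
/-- Let A be a Noetherian local ring of dimension at least 1 and f an element of its maximal ideal. Then
some prime ideal of height exactly 1 contains f. -/
theorem result (A : Type u) [CommRing A] [IsNoetherianRing A] [IsLocalRing A]
    (h : (1 : WithBot ℕ∞) ≤ ringKrullDim A) (f : A) (hf : f ∈ IsLocalRing.maximalIdeal A) :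
    ∃ p : Ideal A, p.IsPrime ∧ f ∈ p ∧ p.height = 1 := by
  have hm : 1 ≤ (IsLocalRing.maximalIdeal A).height := by
    rw [← IsLocalRing.maximalIdeal_height_eq_ringKrullDim] at h
    exact WithBot.coe_le_coe.mp h
  let s : Set (Ideal A) := {p | p.IsPrime ∧ f ∈ p ∧ 1 ≤ p.height}
  obtain ⟨p, ⟨hp, hfp, hp1⟩, hmin⟩ :=
    exists_minimalFor_of_wellFoundedLT (· ∈ s) (fun p : Ideal A ↦ p.height)
      ⟨_, inferInstance, hf, hm⟩
  refine ⟨p, hp, hfp, le_antisymm ?_ hp1⟩
  by_contra hlt
  have contra : ∀ q : Ideal A, q.IsPrime → f ∈ q → 1 ≤ q.height → q < p → False :=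
    fun q hq hfq hq1 hqp ↦ by
      have hlt := Ideal.height_strict_mono_of_isPrime hqp
      exact absurd (hmin (j := q) ⟨hq, hfq, hq1⟩ hlt.le) (not_le.mpr hlt)
  obtain ⟨q, hq, hqp, hq1⟩ : ∃ q : Ideal A, q.IsPrime ∧ q < p ∧ ¬ q.height < (1 : ℕ) := by
    by_contra! hno
    exact hlt ((Ideal.height_le_iff (n := 1)).mpr hno)
  obtain ⟨P, hP, hPq⟩ : ∃ P : Ideal A, P.IsPrime ∧ P < q := by
    by_contra! hno
    exact hq1 (lt_of_le_of_lt ((Ideal.height_le_iff (n := 0)).mpr fun P hP h' ↦ absurd h' (hno P hP))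
      (by norm_num))
  by_cases hfP : f ∈ P
  · exact contra q hq (hPq.le hfP) (not_lt.mp hq1) hqp
  let π := Ideal.Quotient.mk P
  have hπ : Function.Surjective π := Ideal.Quotient.mk_surjective
  have hkp : RingHom.ker π ≤ p := by rw [Ideal.mk_ker]; exact (hPq.trans hqp).le
  have hkq : RingHom.ker π ≤ q := by rw [Ideal.mk_ker]; exact hPq.le
  have : (p.map π).IsPrime := Ideal.map_isPrime_of_surjective hπ hkp
  have : (q.map π).IsPrime := Ideal.map_isPrime_of_surjective hπ hkq
  have hcp : (p.map π).comap π = p := by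
    rw [Ideal.comap_map_of_surjective π hπ]; exact sup_eq_left.mpr hkp
  have hcq : (q.map π).comap π = q := by
    rw [Ideal.comap_map_of_surjective π hπ]; exact sup_eq_left.mpr hkq
  obtain ⟨r, hr, hrp⟩ := Ideal.exists_minimalPrimes_le
    (I := Ideal.span {π f}) (J := p.map π)
    ((Ideal.span_singleton_le_iff_mem _).mpr (Ideal.mem_map_of_mem π hfp))
  have hrprime : r.IsPrime := hr.1.1
  have hr1 : r.height ≤ 1 :=
    Ideal.height_le_one_of_isPrincipal_of_mem_minimalPrimes (Ideal.span {π f}) r hr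
  have hfr : π f ∈ r := hr.1.2 (Ideal.mem_span_singleton_self _)
  have hPr : P < r.comap π := by
    refine lt_of_le_of_ne (fun x hx ↦ ?_) fun h' ↦ hfP (by rw [h']; exact hfr)
    rw [Ideal.mem_comap, show π x = 0 from Ideal.Quotient.eq_zero_iff_mem.mpr hx]
    exact r.zero_mem
  refine contra (r.comap π) inferInstance hfr ?_ (lt_of_le_of_ne ?_ fun h' ↦ ?_)
  · exact le_trans le_add_self (Ideal.height_add_one_le_of_lt_of_isPrime hPr)
  · rw [← hcp]; exact Ideal.comap_mono hrp
  · have hrp' : r = p.map π := Ideal.comap_injective_of_surjective π hπ (h'.trans hcp.symm)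
    have hqbot : (⊥ : Ideal (A ⧸ P)) < q.map π := by
      refine bot_lt_iff_ne_bot.mpr fun h0 ↦ hPq.not_ge ?_
      conv_lhs => rw [← hcq, h0]
      rw [← RingHom.ker_eq_comap_bot, Ideal.mk_ker]
    have hqp' : q.map π < p.map π := by
      refine lt_of_le_of_ne (Ideal.map_mono hqp.le) fun h0 ↦ hqp.ne ?_
      rw [← hcq, ← hcp, h0]
    have : (⊥ : Ideal (A ⧸ P)).IsPrime := Ideal.isPrime_bot
    have h2 := Ideal.height_add_one_le_of_lt_of_isPrime hqbot
    have h3 := Ideal.height_add_one_le_of_lt_of_isPrime hqp'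
    rw [hrp'] at hr1
    have h4 : (1 : ℕ∞) + 1 ≤ 1 :=
      (add_le_add_left (le_trans le_add_self h2) 1).trans (h3.trans hr1)
    exact absurd h4 (by decide)

end Groth.Agent.S0249
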