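import Groth.Statements.S1996
import Mathlib.RingTheory.RingHom.FaithfullyFlat
import Mathlib.RingTheory.Flat.FaithfullyFlat.Algebra

set_option autoImplicit false
universe u
open EtAlg

namespace Groth.Agent.S1996

theorem flat_of_flat_of_faithfullyFlat (A B C : Type*) [CommRing A] [CommRing B] [CommRing C]
    [Algebra A B] [Algebra B C] [Algebra A C] [IsScalarTower A B C] [Module.FaithfullyFlat B C]
    [Module.Flat A C] : Module.Flat A B := by
  rw [Module.Flat.iff_lTensor_preserves_injective_linearMap]
  intro N P _ _ _ _ f hf
  have h : Function.Injective (f.lTensor C) := Module.Flat.lTensor_preserves_injective_linearMap f hf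
  intro x y hxy
  apply Module.FaithfullyFlat.tensorProduct_mk_injective (A := B) (B := C) (TensorProduct A B N)
  let eN := TensorProduct.AlgebraTensorModule.cancelBaseChange A B B C N
  let eP := TensorProduct.AlgebraTensorModule.cancelBaseChange A B B C P
  apply eN.injective
  apply h
  have key : ∀ z, f.lTensor C (eN (TensorProduct.mk B C _ 1 z)) =
      eP (TensorProduct.mk B C _ 1 (f.lTensor B z)) := fun z => by
    induction z using TensorProduct.induction_on with
    | zero => simp
    | tmul b n => simp [eN, eP]
    | add u v hu hv => simp only [map_add, hu, hv]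
  rw [key, key, hxy]


/-- Let A -> B -> C be ring maps with B -> C faithfully flat. Weak etaleness of A -> C then implies weak
etaleness of A -> B. -/
theorem result (A B C : Type u) [CommRing A] [CommRing B] [CommRing C] [Algebra A B]
    [Algebra B C] [Algebra A C] [IsScalarTower A B C] [Module.FaithfullyFlat B C] [Algebra.WeaklyEtale A C] :
    Algebra.WeaklyEtale A B := by
  haveI : Module.Flat A B := flat_of_flat_of_faithfullyFlat A B C
  refine ⟨inferInstance, ?_⟩
  let i : B →ₐ[A] C := IsScalarTower.toAlgHom A B C
  have hi : i.toRingHom.Flat := RingHom.flat_algebraMap_iff.2 inferInstance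
  let l := Algebra.TensorProduct.lmul' A (S := B)
  let L := (Algebra.TensorProduct.lmul' A (S := C)).comp (Algebra.TensorProduct.map i i)
  have hL : L = i.comp l := by ext <;> simp [L, l]
  have hflat : L.toRingHom.Flat :=
    RingHom.Flat.comp (RingHom.Flat.tensorProductMap hi hi) (Algebra.WeaklyEtale.flat_lmul' A C)
  rw [hL] at hflat
  letI : Algebra (TensorProduct A B B) B := l.toRingHom.toAlgebra
  letI : Algebra (TensorProduct A B B) C := (i.comp l).toRingHom.toAlgebra
  haveI : IsScalarTower (TensorProduct A B B) B C := IsScalarTower.of_algebraMap_eq fun _ => rfl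
  haveI : Module.Flat (TensorProduct A B B) C := hflat
  exact flat_of_flat_of_faithfullyFlat (TensorProduct A B B) B C

end Groth.Agent.S1996
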