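import Groth.Statements.S6283
import Mathlib

set_option autoImplicit false
set_option linter.style.haveILetI false
set_option linter.style.longLine false
universe u
open scoped TensorProduct
open CAlg

namespace Groth.Agent.S6283

open scoped TensorProduct
theorem map_ker_eq {R S : Type u} [CommRing R] [CommRing S] [Algebra R S] [Module.Flat R S]
    {N : Type u} [AddCommGroup N] [Module R N] (φ : R →ₗ[R] N) (s : S) :
    s ⊗ₜ[R] φ 1 = 0 ↔ s ∈ Ideal.map (algebraMap R S) (LinearMap.ker φ) := by
  have hex := Module.Flat.lTensor_exact (M := S) φ.exact_subtype_ker_map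
  constructor
  · intro h
    obtain ⟨y, hy⟩ := (hex (s ⊗ₜ (1 : R))).1 h
    have hs := congrArg (TensorProduct.rid R S) hy
    rw [TensorProduct.rid_tmul, one_smul] at hs
    rw [← hs]
    clear hs hy h
    induction y with
    | zero => simp
    | tmul a x =>
      rw [LinearMap.lTensor_tmul, TensorProduct.rid_tmul, Algebra.smul_def]
      exact Ideal.mul_mem_right _ _ (Ideal.mem_map_of_mem _ x.2)
    | add a b ha hb => rw [map_add, map_add]; exact Ideal.add_mem _ ha hb
  · intro h
    induction h using Submodule.span_induction with
    | mem y hy =>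
      obtain ⟨r, hr, rfl⟩ := hy
      rw [Algebra.algebraMap_eq_smul_one, TensorProduct.smul_tmul, ← map_smul, smul_eq_mul, mul_one,
        LinearMap.mem_ker.1 hr, TensorProduct.tmul_zero]
    | zero => simp
    | add a b _ _ ha hb => rw [TensorProduct.add_tmul, ha, hb, add_zero]
    | smul a b _ hb => rw [← TensorProduct.smul_tmul', hb, smul_zero]

/-- Let R → S be a flat ring map, M an R-module and m ∈ M. Then Ann_R(m)S = Ann_S(1 ⊗ m), the
annihilator in S of the element 1 ⊗ m of S ⊗_R M. If moreover M is a finite R-module then Ann_R(M)S
= Ann_S(S ⊗_R M). -/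
theorem result {R S : Type u} [CommRing R] [CommRing S] [Algebra R S] [Module.Flat R S] (M : Type u) [AddCommGroup M] [Module R M] : (∀ m : M, ((Submodule.span R {m}).annihilator).map (algebraMap R S) = (Submodule.span S {(1 : S) ⊗ₜ[R] m}).annihilator) ∧ (Module.Finite R M → (Module.annihilator R M).map (algebraMap R S) = Module.annihilator S (S ⊗[R] M)) := by
  refine ⟨fun m => ?_, fun hM => ?_⟩
  · have hker : Submodule.annihilator (Submodule.span R {m}) = LinearMap.ker (LinearMap.toSpanSingleton R M m) := by
      ext r; simp [Submodule.mem_annihilator_span_singleton]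
    rw [hker]
    ext s
    rw [← map_ker_eq, LinearMap.toSpanSingleton_apply, one_smul, Submodule.mem_annihilator_span_singleton,
      TensorProduct.smul_tmul', smul_eq_mul, mul_one]
  · obtain ⟨n, v, hv⟩ := Module.Finite.exists_fin (R := R) (M := M)
    let φ : R →ₗ[R] (Fin n → M) := LinearMap.pi fun i => LinearMap.toSpanSingleton R M (v i)
    have hker : Module.annihilator R M = LinearMap.ker φ := by
      rw [← Submodule.annihilator_top, ← hv]
      ext r
      simp [Submodule.mem_annihilator_span, φ, funext_iff]
    rw [hker]
    ext s
    rw [← map_ker_eq, ← (TensorProduct.piRight R R S (fun _ : Fin n => M)).map_eq_zero_iff,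
      TensorProduct.piRight_apply, TensorProduct.piRightHom_tmul, Module.mem_annihilator]
    simp only [φ, LinearMap.pi_apply, LinearMap.toSpanSingleton_apply, one_smul, funext_iff, Pi.zero_apply]
    constructor
    · intro h z
      have h' : ∀ m : M, s ⊗ₜ[R] m = 0 := fun m => by
        have hm : m ∈ Submodule.span R (Set.range v) := hv ▸ trivial
        induction hm using Submodule.span_induction with
        | mem y hy => obtain ⟨i, rfl⟩ := hy; exact h i
        | zero => simp
        | add a b _ _ ha hb => rw [TensorProduct.tmul_add, ha, hb, add_zero]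
        | smul a b _ hb => rw [TensorProduct.tmul_smul, hb, smul_zero]
      induction z with
      | zero => simp
      | tmul t m => rw [TensorProduct.smul_tmul', smul_eq_mul, mul_comm, ← smul_eq_mul, ← TensorProduct.smul_tmul', h', smul_zero]
      | add a b ha hb => rw [smul_add, ha, hb, add_zero]
    · intro h i
      have := h (1 ⊗ₜ v i)
      rwa [TensorProduct.smul_tmul', smul_eq_mul, mul_one] at this

end Groth.Agent.S6283
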