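import Groth.Statements.S0792
import Groth.Agent.Coh69.ProperOver
import Groth.Agent.QCPull72.Annihilator
import Groth.Agent.QC70.PushClosed

set_option autoImplicit false
universe u
open Coherent

namespace Groth.Agent.S0792

open CategoryTheory AlgebraicGeometry in
/-- Let f : X → S be locally of finite type and F a quasi-coherent O_X-module of finite type. The
support of F is proper over S if and only if there are a closed subscheme i : Z → X with Z proper
over S and a quasi-coherent O_Z-module G of finite type with i_* G isomorphic to F. (The published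
statement also gives a further equivalent condition, that the scheme-theoretic support of F is
proper over S; it is not used here.) -/
theorem result {X S : Scheme.{u}} (f : X ⟶ S) [LocallyOfFiniteType f]
    (F : X.Modules) (hq : Coh.IsQCoh F) (hft : CohB1.IsFT F) :
    ClSub.IsProperOver f (CohB1.support F) ↔
      ∃ (Z : Scheme.{u}) (i : Z ⟶ X), IsClosedImmersion i ∧ IsProper (i ≫ f) ∧
        ∃ G : Z.Modules, Coh.IsQCoh G ∧ CohB1.IsFT G ∧
          Nonempty ((Scheme.Modules.pushforward i).obj G ≅ F) := by
  haveI : F.IsQuasicoherent := hq
  haveI : F.IsFiniteType := hft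
  refine ⟨fun h => ?_, fun ⟨Z, i, hi, hp, G, hGq, hGf, ⟨e⟩⟩ => ?_⟩
  · let J := Groth.Agent.QCPull72.annSheaf F
    have hr : Set.range J.subschemeι = CohB1.support F :=
      (Scheme.IdealSheafData.range_subschemeι J).trans (Groth.Agent.QCPull72.support_annSheaf F)
    haveI := Groth.Agent.QCPull72.isIso_pullUnit_annSheaf F
    exact ⟨J.subscheme, J.subschemeι, inferInstance, (Groth.Agent.Coh69.PO.iff_of_range _ hr).mp h,
      (Scheme.Modules.pullback J.subschemeι).obj F, Groth.Agent.QCPull72.isQuasicoherent_pullback _ F,
      Groth.Agent.QCPull72.isFiniteType_pullback _ F,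
      ⟨(asIso (Groth.Agent.QCPull72.pullUnit J.subschemeι F)).symm⟩⟩
  · haveI : G.IsFiniteType := hGf
    exact Groth.Agent.Coh69.PO.mono ((Groth.Agent.Coh69.PO.iff_of_range i rfl).mpr hp)
      (Groth.Agent.QC70.isClosed_support F)
      ((Groth.Agent.QC70.mem_support_of_mono e.inv).trans
        (Groth.Agent.QC70.support_pushforward_subset i G))

end Groth.Agent.S0792
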