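import Groth.Prelude.Def_MoreMor
import Groth.Prelude.Def_PerfAux
import Groth.Agent.An92.Ample.Resolution
import Groth.Agent.FlatMor67.AmpleFamily

set_option autoImplicit false
universe u
open CategoryTheory CategoryTheory.Limits AlgebraicGeometry
attribute [local instance] HasDerivedCategory.standard
namespace KSix
end KSix
open KSix

namespace Groth.Agent.S4270

/-- A scheme admitting an ample family of invertible modules has the resolution property: every
quasi-coherent module of finite type is a quotient of a finite locally free module. -/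
theorem result (X : Scheme.{u}) (hX : MoreMor.HasAmpleFamily X) :
    PerfAux.HasResolutionProperty X := by
  intro F hF hF'
  obtain ⟨hc, hcov⟩ := hX
  have := hc
  have hqs := FlatMor67.AmpFam.quasiSeparatedSpace_of_hasAmpleFamily ⟨hc, hcov⟩
  choose L n s hL hn hx hU using hcov
  have hfam : KSix.IsAmpleFamily L := by
    refine ⟨hc, hqs, hL, fun x => ?_⟩
    have key : ∀ (m : ℕ) (t : Coh.structureModule X ⟶ CohB1.tensorPow (L x) m), 1 ≤ m →
        x ∈ CohB1.genLocus _ t → IsAffineOpen (CohB1.genLocus _ t) →
        ∃ (i : X) (n : ℕ) (s : Coh.structureModule X ⟶ CohB1.tensorPow (L i) (n + 1)),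
          x ∈ CohB1.genLocus _ s ∧ IsAffineOpen (CohB1.genLocus _ s) := by
      intro m t hm h1 h2
      obtain ⟨m, rfl⟩ := Nat.exists_eq_add_of_le' hm
      exact ⟨x, m, t, h1, h2⟩
    exact key _ (s x) (hn x) (hx x) (hU x)
  obtain ⟨M, π, -, hM, hπ⟩ := An92.AmpleRes.exists_epi_inAddL L hfam F hF hF'
  exact ⟨M, π, hM, hπ⟩

end Groth.Agent.S4270
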