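import Groth.Prelude.Def_MoreMor
import Mathlib.AlgebraicGeometry.Noetherian
import Mathlib.AlgebraicGeometry.AffineScheme
import Mathlib.RingTheory.RegularLocalRing.Defs
import Groth.Agent.An92.Ample.Family
import Groth.Agent.RegUFD52.Basic

set_option autoImplicit false
universe u
open CategoryTheory CategoryTheory.Limits AlgebraicGeometry
attribute [local instance] HasDerivedCategory.standard
namespace KSix
end KSix
open KSix

namespace Groth.Agent.S4271

/-- The published statement asserts that a separated regular Noetherian scheme is divisorial; stated
here in the following form: a quasi-compact locally Noetherian scheme all of whose local rings are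
regular and whose affine opens have pairwise affine intersections (affine diagonal) admits an ample
family of invertible modules. -/
theorem result (X : Scheme.{u}) [CompactSpace X] [IsLocallyNoetherian X]
    (hreg : ∀ x : X, IsRegularLocalRing (X.presheaf.stalk x))
    (hdiag : ∀ U V : X.Opens, IsAffineOpen U → IsAffineOpen V → IsAffineOpen (U ⊓ V)) : MoreMor.HasAmpleFamily X := by
  exact An92.AmpleFam.hasAmpleFamily_of_factorial
    (fun x => by
      haveI := hreg x
      haveI := CAlg1.isDomain_regular (X.presheaf.stalk x)
      exact ⟨inferInstance, RegUFD52.ufm_of_regular _⟩) hdiag

end Groth.Agent.S4271
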