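import Groth.Statements.S3572
import Groth.Agent.EGA73.PolySym

set_option autoImplicit false
universe u
open CategoryTheory CategoryTheory.Limits AlgebraicGeometry
open EGA2

namespace Groth.Agent.S3572

/-- Existence part of the universal property of projective n-space over an affine base Spec R (the
published statement is for P(E) with E an arbitrary quasi-coherent module; here E is the free module
of rank n+1, so that P(E) is projective n-space over R): let X be a scheme over R, L an invertible
O_X-module and s_0, …, s_n global sections of L generating L. Then there is an R-morphism r from X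
to projective n-space over R and an isomorphism r^*O(1) ≅ L carrying the inverse image of the
coordinate T_i to s_i for every i. -/
theorem result {R : Type u} [CommRing R] (n : ℕ) {X : Scheme.{u}}
    (q : X ⟶ Spec (CommRingCat.of R)) (L : X.Modules) (hL : PicF.IsInvertible L)
    (s : Fin (n + 1) → ProjUP.Γm L) (hs : ProjUP.GeneratedBy L s) :
    ∃ (r : X ⟶ CohB1.ProjSpace n R) (_ : r ≫ CohB1.ProjSpace.toSpec n R = q)
      (τ : (Scheme.Modules.pullback r).obj (Twist.twistProjSpace n R 1) ≅ L),
      ∀ i, τ.hom.app ⊤ (ProjUP.pullSec r (Twist.twistProjSpace n R 1) (ProjUP.coord n R i)) = s i := by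
  classical
  let v : (Fin (n + 1) → R) →+ ProjUP.Γm L :=
    { toFun := fun c => ∑ i, ProjUP.toGlobal q (c i) • s i
      map_zero' := by simp
      map_add' := fun a b => by simp [add_smul, Finset.sum_add_distrib] }
  have hv : ∀ (a : R) (c : Fin (n + 1) → R), v (a • c) = ProjUP.toGlobal q a • v c := fun a c => by
    show ∑ i, ProjUP.toGlobal q ((a • c) i) • s i = ProjUP.toGlobal q a • ∑ i, ProjUP.toGlobal q (c i) • s i
    rw [Finset.smul_sum]
    exact Finset.sum_congr rfl fun i _ => by rw [Pi.smul_apply, smul_eq_mul, map_mul, mul_smul]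
  have hvs : ∀ i, v (Pi.single i (1 : R)) = s i := fun i => by
    show ∑ j, ProjUP.toGlobal q ((Pi.single i 1 : Fin (n + 1) → R) j) • s j = s i
    rw [Finset.sum_eq_single i (fun j _ hj => by rw [Pi.single_eq_of_ne hj, map_zero, zero_smul])
      (fun h => absurd (Finset.mem_univ i) h), Pi.single_eq_same, map_one, one_smul]
  have hgen : ProjUP.GeneratedBy L v := fun x => top_le_iff.1 ((hs x).ge.trans (Submodule.span_mono (by
    rintro _ ⟨i, rfl⟩
    exact ⟨Pi.single i (1 : R), by simp only [hvs]⟩)))
  obtain ⟨r, hr, τ, hτ⟩ := EGA73.ProjUniv.exists_to_proj (𝒮 := CohB1.polyGrading n R) q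
    (EGA73.PolySym.linForm_mem n R) (EGA73.PolySym.isSymmetricAlgebra_linForm n R) L hL v hv hgen
  refine ⟨r, hr, τ, fun i => ?_⟩
  have h := (hτ (Pi.single i 1)).trans (hvs i)
  simp only [EGA73.PolySym.linForm_single] at h
  exact h

end Groth.Agent.S3572
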