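import Groth.Statements.S0797
import Mathlib.RingTheory.AdicCompletion.Basic
import Mathlib.RingTheory.Finiteness.Basic

set_option autoImplicit false
universe u
open Formal2

namespace Groth.Agent.S0797

/-- The module-theoretic heart, over a base that is already complete (so that the completion of A is A).
Let A be Noetherian and I-adically complete, and let (M_n, f_n : M_{n+1} → M_n) be an inverse system
of finite A-modules with M_n annihilated by I^(n+1) and f_n surjective with kernel I^(n+1) M_{n+1}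
(indices shifted by one). Then the A-module of compatible sequences is finitely generated, each
projection to M_n is surjective, and its kernel is I^(n+1) times the module of compatible sequences. -/
theorem result (A : Type u) [CommRing A] [IsNoetherianRing A] (I : Ideal A)
    [IsAdicComplete I A] (M : ℕ → Type u) [∀ n, AddCommGroup (M n)] [∀ n, Module A (M n)]
    [∀ n, Module.Finite A (M n)] (f : ∀ n, M (n + 1) →ₗ[A] M n) (hf : ∀ n, Function.Surjective (f n))
    (hk : ∀ n, I ^ (n + 1) • (⊤ : Submodule A (M n)) = ⊥)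
    (hker : ∀ n, LinearMap.ker (f n) = I ^ (n + 1) • (⊤ : Submodule A (M (n + 1))))
    (L : Submodule A (∀ n, M n)) (hL : ∀ x : ∀ n, M n, x ∈ L ↔ ∀ n, f n (x (n + 1)) = x n) :
    Module.Finite A L ∧ ∀ n, Function.Surjective ((LinearMap.proj n).comp L.subtype : L →ₗ[A] M n) ∧
      LinearMap.ker ((LinearMap.proj n).comp L.subtype : L →ₗ[A] M n) = I ^ (n + 1) • (⊤ : Submodule A L) := by
  classical
  obtain ⟨r, e, he⟩ := (Submodule.fg_iff_exists_fin_generating_family).mp
    (Module.Finite.fg_top (R := A) (M := M 0))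
  -- lifting to compatible sequences
  have hlift : ∀ m : M 0, ∃ x : L, (x : ∀ n, M n) 0 = m := fun m => by
    choose s hs using hf
    exact ⟨⟨fun n => Nat.rec m (fun k a => s k a) n, (hL _).mpr fun n => hs n _⟩, rfl⟩
  choose x hx using fun j => hlift (e j)
  let Φ : (Fin r → A) →ₗ[A] L := Fintype.linearCombination A x
  let φ : ∀ n, (Fin r → A) →ₗ[A] M n := fun n => ((LinearMap.proj n).comp L.subtype).comp Φ
  have hφf : ∀ n c, f n (φ (n + 1) c) = φ n c := fun n c => (hL _).mp (Φ c).2 n
  have hφ0 : Function.Surjective (φ 0) := fun m => by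
    obtain ⟨c, hc⟩ := Submodule.mem_span_range_iff_exists_fun A |>.mp
      (he ▸ Submodule.mem_top : m ∈ Submodule.span A (Set.range e))
    refine ⟨c, ?_⟩
    simp only [φ, Φ, LinearMap.comp_apply, Fintype.linearCombination_apply, map_sum, map_smul]
    simpa [hx] using hc
  have hgen : ∀ n, Function.Surjective (φ n) := by
    intro n
    induction n with
    | zero => exact hφ0
    | succ n ih =>
      rw [← LinearMap.range_eq_top]
      have h1 : ∀ m, m ∈ LinearMap.range (φ (n + 1)) ⊔ I • (⊤ : Submodule A (M (n + 1))) := fun m => by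
        obtain ⟨c, hc⟩ := ih (f n m)
        have h2 : m - φ (n + 1) c ∈ I ^ (n + 1) • (⊤ : Submodule A (M (n + 1))) := by
          rw [← hker n, LinearMap.mem_ker, map_sub, hφf, hc, sub_self]
        rw [← add_sub_cancel (φ (n + 1) c) m]
        exact Submodule.add_mem_sup (LinearMap.mem_range_self _ c)
          (Submodule.smul_mono_left (Ideal.pow_le_self (Nat.succ_ne_zero n)) h2)
      have h2 : ∀ k, (⊤ : Submodule A (M (n + 1))) ≤ LinearMap.range (φ (n + 1)) ⊔ I ^ k • ⊤ := by
        intro k
        induction k with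
        | zero => simp
        | succ k ihk =>
          refine ihk.trans (sup_le le_sup_left (le_trans
            (Submodule.smul_mono le_rfl (fun m _ => h1 m)) ?_))
          rw [Submodule.smul_sup, ← Submodule.smul_assoc, smul_eq_mul, ← pow_succ]
          exact sup_le_sup_right Submodule.smul_le_right _
      have h3 := h2 (n + 2)
      rw [hk (n + 1), sup_bot_eq] at h3
      exact top_le_iff.mp h3
  have hcomp : ∀ (J : Ideal A) n, ∀ m ∈ J • (⊤ : Submodule A (M n)), ∃ c, (∀ j, c j ∈ J) ∧ φ n c = m := by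
    intro J n m hm
    refine Submodule.smul_induction_on hm (fun a ha m _ => ?_) fun a b ha hb => ?_
    · obtain ⟨c, rfl⟩ := hgen n m
      exact ⟨a • c, fun j => J.mul_mem_right _ ha, map_smul _ _ _⟩
    · obtain ⟨c, hc, rfl⟩ := ha
      obtain ⟨d, hd, rfl⟩ := hb
      exact ⟨c + d, fun j => J.add_mem (hc j) (hd j), map_add _ _ _⟩
  have hdown : ∀ (y : L) {a b : ℕ}, a ≤ b → (y : ∀ n, M n) b = 0 → (y : ∀ n, M n) a = 0 := by
    intro y a b hab
    induction b, hab using Nat.le_induction with
    | base => exact id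
    | succ b _ ih => exact fun h => ih (by rw [← (hL _).mp y.2 b, h, map_zero])
  have hmain : ∀ (n : ℕ) (y : L), (y : ∀ n, M n) n = 0 →
      ∃ c, (∀ j, c j ∈ I ^ (n + 1)) ∧ Φ c = y := by
    intro n y hy
    have hstep : ∀ k, ∀ c : {c : Fin r → A // (∀ j, c j ∈ I ^ (n + 1)) ∧
        ((y - Φ c : L) : ∀ n, M n) (n + k) = 0},
        ∃ d : {c : Fin r → A // (∀ j, c j ∈ I ^ (n + 1)) ∧
          ((y - Φ c : L) : ∀ n, M n) (n + (k + 1)) = 0}, ∀ j, c.1 j - d.1 j ∈ I ^ k := fun k c => by
      have hmem : ((y - Φ c.1 : L) : ∀ n, M n) (n + k + 1) ∈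
          I ^ (n + k + 1) • (⊤ : Submodule A (M (n + k + 1))) := by
        rw [← hker (n + k), LinearMap.mem_ker, (hL _).mp (y - Φ c.1).2 (n + k), c.2.2]
      obtain ⟨d, hd, hdm⟩ := hcomp _ _ _ hmem
      refine ⟨⟨c.1 + d, fun j => add_mem (c.2.1 j) (Ideal.pow_le_pow_right (by omega) (hd j)), ?_⟩,
        fun j => ?_⟩
      · change ((y - Φ (c.1 + d) : L) : ∀ n, M n) (n + k + 1) = 0
        rw [map_add, ← sub_sub]
        exact sub_eq_zero.mpr hdm.symm
      · simpa using neg_mem (Ideal.pow_le_pow_right (by omega : k ≤ n + k + 1) (hd j))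
    choose step hstep using hstep
    let c : ∀ k, {c : Fin r → A // (∀ j, c j ∈ I ^ (n + 1)) ∧
        ((y - Φ c : L) : ∀ n, M n) (n + k) = 0} := fun k => Nat.rec (motive := fun k =>
        {c : Fin r → A // (∀ j, c j ∈ I ^ (n + 1)) ∧ ((y - Φ c : L) : ∀ n, M n) (n + k) = 0})
      ⟨0, fun _ => zero_mem _, by simpa using hy⟩ (fun k p => step k p) k
    have hcauchy : ∀ j {a b : ℕ}, a ≤ b → (c a).1 j - (c b).1 j ∈ I ^ a := by
      intro j a b hab
      induction b, hab using Nat.le_induction with
      | base => simp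
      | succ b hb ih =>
        have := add_mem ih (Ideal.pow_le_pow_right hb (hstep b (c b) j))
        rwa [sub_add_sub_cancel] at this
    have hlim : ∀ j, ∃ l, ∀ k, (c k).1 j - l ∈ I ^ k := fun j => by
      obtain ⟨l, hl⟩ := IsPrecomplete.prec' (I := I) (fun k => (c k).1 j) fun {a b} hab => by
        rw [SModEq.sub_mem, smul_eq_mul, Ideal.mul_top]
        exact hcauchy j hab
      exact ⟨l, fun k => by simpa [SModEq.sub_mem] using hl k⟩
    choose l hl using hlim
    refine ⟨l, fun j => ?_, ?_⟩
    · have := sub_mem ((c (n + 1)).2.1 j) (hl j (n + 1))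
      rwa [sub_sub_cancel] at this
    · refine (sub_eq_zero.mp ?_).symm
      refine Subtype.ext (funext fun m => ?_)
      have e : y - Φ l = (y - Φ (c (m + 1)).1) + Φ ((c (m + 1)).1 - l) := by rw [map_sub]; abel
      rw [e]
      change ((y - Φ (c (m + 1)).1 : L) : ∀ n, M n) m + φ m ((c (m + 1)).1 - l) = 0
      rw [hdown _ (by omega) (c (m + 1)).2.2, zero_add, ← Submodule.mem_bot (R := A), ← hk m]
      simp only [φ, Φ, LinearMap.comp_apply, Fintype.linearCombination_apply, map_sum, map_smul]
      exact Submodule.sum_mem _ fun j _ => Submodule.smul_mem_smul (hl j (m + 1)) Submodule.mem_top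
  have hsurj : Function.Surjective Φ := fun y => by
    obtain ⟨c, hc⟩ := hφ0 ((y : ∀ n, M n) 0)
    obtain ⟨d, -, hd⟩ := hmain 0 (y - Φ c) (sub_eq_zero.mpr hc.symm)
    exact ⟨c + d, by rw [map_add, hd, add_sub_cancel]⟩
  refine ⟨Module.Finite.of_surjective Φ hsurj, fun n => ⟨fun m => ?_, le_antisymm (fun y hy => ?_) ?_⟩⟩
  · obtain ⟨c, hc⟩ := hgen n m
    exact ⟨Φ c, hc⟩
  · obtain ⟨c, hc, rfl⟩ := hmain n y hy
    rw [Fintype.linearCombination_apply]
    exact Submodule.sum_mem _ fun j _ => Submodule.smul_mem_smul (hc j) Submodule.mem_top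
  · refine Submodule.smul_le.mpr fun a ha y _ => ?_
    rw [LinearMap.mem_ker, map_smul, ← Submodule.mem_bot (R := A), ← hk n]
    exact Submodule.smul_mem_smul ha Submodule.mem_top

end Groth.Agent.S0797
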