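import Groth.Statements.S13792
import Groth.Agent.S10830
import Mathlib.AlgebraicGeometry.Artinian
import Mathlib.AlgebraicGeometry.Morphisms.Finite
import Mathlib.RingTheory.Jacobson.Artinian

set_option autoImplicit false
universe u
open CategoryTheory AlgebraicGeometry
open Curves

namespace Groth.Agent.S13792
set_option backward.isDefEq.respectTransparency.types false in
theorem isFinite_of_krullDim_le_zero {k : Type u} [Field k] {G : Scheme.{u}}
    (g : G ⟶ Spec (CommRingCat.of k)) [LocallyOfFiniteType g] [QuasiCompact g]
    (h : topologicalKrullDim G ≤ 0) : IsFinite g := by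
  have : IsLocallyNoetherian G := LocallyOfFiniteType.isLocallyNoetherian g
  have : CompactSpace G := QuasiCompact.compactSpace_of_compactSpace g
  have := IsLocallyArtinian.of_topologicalKrullDim_le_zero h
  have : Finite G := finite_of_compact_of_discrete
  rw [HasAffineProperty.iff_of_isAffine (P := @IsFinite)]
  refine ⟨inferInstance, ?_⟩
  have hft : (g.appTop).hom.FiniteType := (HasRingHomProperty.iff_of_isAffine (P := @LocallyOfFiniteType)).mp inferInstance
  let := (g.appTop).hom.toAlgebra
  have : Algebra.FiniteType Γ(Spec (CommRingCat.of k), ⊤) Γ(G, ⊤) := hft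
  have : IsArtinianRing Γ(Spec (CommRingCat.of k), ⊤) :=
    (Scheme.ΓSpecIso (CommRingCat.of k)).commRingCatIsoToRingEquiv.symm.surjective.isArtinianRing
  exact Module.finite_of_isArtinianRing Γ(Spec (CommRingCat.of k), ⊤) Γ(G, ⊤)



/-- Let k be a field and E an integral k-scheme of finite type whose underlying space has dimension 1,
and let ι : G → E be a closed immersion. Then either ι is an isomorphism or G is finite over k. (The
published statement is about a closed subgroup scheme of an elliptic curve and its proof states this
fact for E geometrically integral; this row assumes only that E is integral.) -/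
theorem result {k : Type u} [Field k]
    {E G : Scheme.{u}} (f : E ⟶ Spec (CommRingCat.of k)) [LocallyOfFiniteType f] [QuasiCompact f]
    [IsIntegral E] (hdim : topologicalKrullDim ↥E = 1) (ι : G ⟶ E) [IsClosedImmersion ι] :
    IsIso ι ∨ IsFinite (ι ≫ f) := by
  by_cases hs : Set.range ι = Set.univ
  · have : Surjective ι := ⟨Set.range_eq_univ.mp hs⟩
    exact Or.inl (isIso_of_isClosedImmersion_of_surjective ι)
  · refine Or.inr (isFinite_of_krullDim_le_zero (ι ≫ f) ?_)
    have h1 := S10830.result E (by rw [hdim]; decide) (Set.range ι) ι.isClosedEmbedding.isClosed_range hs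
    rw [hdim] at h1
    have h2 : topologicalKrullDim G ≤ topologicalKrullDim (Set.range ι) :=
      (ι.isEmbedding.toHomeomorph.isEmbedding.isInducing).topologicalKrullDim_le
    have h3 : topologicalKrullDim (Set.range ι) ≤ 0 := by
      rw [show (1 : WithBot ℕ∞) = ((0 : ℕ) : WithBot ℕ∞) + 1 from rfl] at h1
      exact ENat.WithBot.lt_add_one_iff.mp h1
    exact h2.trans h3

end Groth.Agent.S13792
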