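import Groth.Statements.S11397
import Groth.Agent.AlgGrp33.Stabilizer
import Groth.Agent.S3023
import Groth.Agent.SGA3a.SmoothWeil
-- import your own Groth.Agent.* helpers here

set_option autoImplicit false
universe u
open CategoryTheory MonoidalCategory CartesianMonoidalCategory MonObj GrpObj AlgebraicGeometry CategoryTheory.Limits
open AlgGrp

namespace Groth.Agent.S11397

open Groth.Agent.AlgGrp79
set_option backward.isDefEq.respectTransparency.types false

/-- Over an algebraically closed field k, let G be an algebraic group (a smooth k-group scheme of finite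
type) which is not proper over k. Then G has a smooth closed subgroup scheme which is affine and of
positive dimension. -/
theorem result (k : Type u) [Field k] [IsAlgClosed k]
    (G : Over (Spec (CommRingCat.of k))) [GrpObj G] [Smooth G.hom] [QuasiCompact G.hom] (hG : ¬ IsProper G.hom) :
    ∃ (H : Over (Spec (CommRingCat.of k))) (_ : GrpObj H) (j : H ⟶ G), IsMonHom j ∧ IsClosedImmersion j.left ∧
      Smooth H.hom ∧ IsAffine H.left ∧ 0 < topologicalKrullDim ↥H.left := by
  classical
  have : LocallyOfFiniteType G.hom := inferInstance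
  have := isSeparated_grp G
  obtain ⟨G0, _, i, him, hic, hif, hr⟩ := Groth.Agent.S3023.result k G
  have : IsLocallyNoetherian G.left := LocallyOfFiniteType.isLocallyNoetherian G.hom
  have : LocallyOfFinitePresentation i.left := inferInstance
  have : Mono i.left := inferInstance
  have hio : IsOpenImmersion i.left := IsOpenImmersion.of_flat_of_mono i.left
  have hG0s : Smooth G0.hom := by rw [← Over.w i]; infer_instance
  have hG0q : QuasiCompact G0.hom := by rw [← Over.w i]; infer_instance
  let pt : ↥(𝟙_ (Over (Spec (CommRingCat.of k)))).left := IsLocalRing.closedPoint k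
  have hconn : ConnectedSpace G0.left := by
    have h1 : _root_.IsConnected (Set.range i.left.base) := by rw [hr pt]; exact isConnected_connectedComponent
    have : ConnectedSpace (Set.range i.left.base) := isConnected_iff_connectedSpace.1 h1
    exact i.left.isOpenEmbedding.isEmbedding.toHomeomorph.symm.surjective.connectedSpace
      i.left.isOpenEmbedding.isEmbedding.toHomeomorph.symm.continuous
  have : IrreducibleSpace G0.left := Groth.Agent.SGA3a.irreducibleSpace_of_smooth_connected G0.hom
  have : IsReduced G0.left := isReduced_of_smooth G0.hom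
  have : IsIntegral G0.left := isIntegral_of_irreducibleSpace_of_isReduced _
  by_cases hp : IsProper G0.hom
  · exfalso
    refine hG ?_
    -- translates of the neutral component
    have hcov : ∀ g : G.left, ∃ a : 𝟙_ (Over (Spec (CommRingCat.of k))) ⟶ G,
        g ∈ Set.range ((toUnit G0 ≫ a) * i).left := by
      intro g
      have : JacobsonSpace G.left := LocallyOfFiniteType.jacobsonSpace G.hom
      obtain ⟨c, hc, hcc⟩ := nonempty_inter_closedPoints (Z := connectedComponent g) ⟨g, mem_connectedComponent⟩
        isClosed_connectedComponent.isLocallyClosed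
      obtain ⟨a, rfl⟩ := ptVal_eq c hcc
      refine ⟨a, ?_⟩
      let tr : G ⟶ G := (toUnit G ≫ a) * 𝟙 G
      have : IsIso tr := ⟨(toUnit G ≫ a⁻¹) * 𝟙 G, by
        constructor <;> simp [tr, MonObj.comp_mul, GrpObj.comp_inv, toUnit_unique (_ ≫ toUnit G) (toUnit G)]⟩
      have : IsIso tr.left := (Over.forget _).map_isIso tr
      have e : ((toUnit G0 ≫ a) * i) = i ≫ tr := by
        rw [MonObj.comp_mul, Category.comp_id, ← Category.assoc, toUnit_unique (i ≫ toUnit G) (toUnit _)]
      have himage : tr.left '' connectedComponent (η[G].left.base pt) = connectedComponent (tr.left (η[G].left.base pt)) :=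
        tr.left.homeomorph.isQuotientMap.isCoinducing.image_connectedComponent (fun y => by
          have h1 : tr.left.homeomorph ⁻¹' {y} = {tr.left.homeomorph.symm y} := by
            ext z
            exact ⟨fun (h : tr.left.homeomorph z = y) => (tr.left.homeomorph.symm_apply_apply z).symm.trans (congrArg _ h),
              fun (h : z = tr.left.homeomorph.symm y) => h ▸ tr.left.homeomorph.apply_symm_apply y⟩
          rw [h1]; exact isConnected_singleton) _
      rw [e, Over.comp_left, Scheme.Hom.comp_base, TopCat.coe_comp, Set.range_comp]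
      rw [show (i.left.base : G0.left → G.left) = i.left from rfl] at hr
      rw [hr pt, himage]
      have h2 : tr.left (η[G].left.base pt) = a.left pt := by
        show (η[G] ≫ tr).left pt = _
        rw [show η[G] ≫ tr = a by
          simp [tr, MonObj.comp_mul, reassoc_of% (toUnit_unique (η[G] ≫ toUnit G) (𝟙 _)), ← MonObj.one_eq_one]]
      rw [h2, ← connectedComponent_eq hc]
      exact mem_connectedComponent
    choose a ha using hcov
    have hop : ∀ g, IsOpen (Set.range ((toUnit G0 ≫ a g) * i).left) := fun g => by
      let tr : G ⟶ G := (toUnit G ≫ a g) * 𝟙 G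
      have : IsIso tr := ⟨(toUnit G ≫ (a g)⁻¹) * 𝟙 G, by
        constructor <;> simp [tr, MonObj.comp_mul, GrpObj.comp_inv, toUnit_unique (_ ≫ toUnit G) (toUnit G)]⟩
      have : IsIso tr.left := (Over.forget _).map_isIso tr
      rw [show ((toUnit G0 ≫ a g) * i) = i ≫ tr by
        rw [MonObj.comp_mul, Category.comp_id, ← Category.assoc, toUnit_unique (i ≫ toUnit G) (toUnit _)], Over.comp_left]
      exact (i.left ≫ tr.left).isOpenEmbedding.isOpen_range
    have : CompactSpace G.left := QuasiCompact.compactSpace_of_compactSpace G.hom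
    obtain ⟨T, hT⟩ := isCompact_univ.elim_finite_subcover (fun g => Set.range ((toUnit G0 ≫ a g) * i).left) hop
      fun g _ => Set.mem_iUnion.2 ⟨g, ha g⟩
    have huc : UniversallyClosed G.hom := by
      rw [universallyClosed_iff]
      intro X' Y' i₁ i₂ f' hf C hC
      let τ : T → (G0.left ⟶ G.left) := fun t => ((toUnit G0 ≫ a t.1) * i).left
      have hτ : ∀ t, τ t ≫ G.hom = G0.hom := fun t => Over.w _
      let P : T → Scheme.{u} := fun t => pullback i₁ (τ t)
      have hpb : ∀ t, IsPullback (pullback.fst i₁ (τ t) ≫ f') (pullback.snd i₁ (τ t)) i₂ G0.hom := fun t => by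
        rw [← hτ t]; exact (IsPullback.of_hasPullback i₁ (τ t)).paste_horiz hf
      have hcl : ∀ t : T, IsClosed ((pullback.fst i₁ (τ t) ≫ f') '' (pullback.fst i₁ (τ t) ⁻¹' C)) := fun t => by
        have : UniversallyClosed (pullback.fst i₁ (τ t) ≫ f') := MorphismProperty.of_isPullback (P := @UniversallyClosed) (hpb t).flip inferInstance
        exact (pullback.fst i₁ (τ t) ≫ f').isClosedMap _ (hC.preimage (pullback.fst i₁ (τ t)).continuous)
      have e : f' '' C = ⋃ t : T, (pullback.fst i₁ (τ t) ≫ f') '' (pullback.fst i₁ (τ t) ⁻¹' C) := by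
        ext y
        simp only [Set.mem_iUnion, Set.mem_image, Set.mem_preimage, Scheme.Hom.comp_apply]
        constructor
        · rintro ⟨x, hx, rfl⟩
          obtain ⟨t, ht, q, hq⟩ := Set.mem_iUnion₂.1 (hT (Set.mem_univ (i₁ x)))
          obtain ⟨z, hz, -⟩ := Scheme.Pullback.exists_preimage_pullback x q (hq.symm : i₁ x = τ ⟨t, ht⟩ q)
          exact ⟨⟨t, ht⟩, z, by rw [hz]; exact hx, by rw [hz]⟩
        · rintro ⟨t, z, hz, rfl⟩
          exact ⟨_, hz, rfl⟩
      rw [e]
      exact isClosed_iUnion_of_finite hcl
    exact {}
  · obtain ⟨H, _, j, hjm, hjc, hHs, hHa, hH⟩ := Groth.Agent.AlgGrp33.Stabilizer.exists_affine_subgroup hp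
    exact ⟨H, inferInstance, j ≫ i, inferInstance, by rw [Over.comp_left]; infer_instance, hHs, hHa, hH⟩

end Groth.Agent.S11397
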