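import Groth.Statements.S4710
import Groth.Agent.CAlg5.NFinite
-- import your own Groth.Agent.* helpers here

set_option autoImplicit false
universe u
open EGA4

namespace Groth.Agent.S4710

/-- Last assertion, case of rings of fractions: if A is a Noetherian ring all of whose quotient domains
are Japanese (a Nagata ring), then so is every ring of fractions S⁻¹A. -/
theorem result (A : Type u) [CommRing A] (hA : CAlg.IsNagata A) (S : Submonoid A) :
    CAlg.IsNagata (Localization S) := by
  obtain ⟨hN, hN2⟩ := hA
  refine ⟨IsLocalization.isNoetherianRing S (Localization S) hN, fun q _ => ?_⟩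
  set p : Ideal A := q.comap (algebraMap A (Localization S)) with hp
  letI : Algebra (A ⧸ p) (Localization S ⧸ q) := Ideal.quotientAlgebra
  have hinj : Function.Injective (algebraMap (A ⧸ p) (Localization S ⧸ q)) := Ideal.algebraMap_quotient_injective
  have hmk : ∀ a : A, algebraMap (A ⧸ p) (Localization S ⧸ q) (Ideal.Quotient.mk p a) =
      Ideal.Quotient.mk q (algebraMap A (Localization S) a) := fun a => rfl
  have : IsLocalization (S.map (Ideal.Quotient.mk p)) (Localization S ⧸ q) := by
    refine (isLocalization_iff _ _).mpr ⟨?_, ?_, ?_⟩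
    · rintro ⟨_, s, hs, rfl⟩
      exact ((IsLocalization.map_units (Localization S) (⟨s, hs⟩ : S)).map (Ideal.Quotient.mk q))
    · intro z
      obtain ⟨z, rfl⟩ := Ideal.Quotient.mk_surjective z
      obtain ⟨⟨a, ⟨s, hs⟩⟩, h⟩ := IsLocalization.surj S z
      refine ⟨⟨Ideal.Quotient.mk p a, ⟨Ideal.Quotient.mk p s, s, hs, rfl⟩⟩, ?_⟩
      rw [hmk, hmk, ← map_mul, h]
    · intro x y h
      exact ⟨1, by rw [hinj h]⟩
  exact Groth.Agent.CAlg5.isN2_localization (S.map (Ideal.Quotient.mk p)) (Localization S ⧸ q) (hN2 p)

end Groth.Agent.S4710
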