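import Groth.Statements.S4722
import Mathlib.RingTheory.Ideal.AssociatedPrime.Localization
import Mathlib.RingTheory.Ideal.AssociatedPrime.Basic
import Mathlib.RingTheory.Noetherian.Basic
import Mathlib.Data.Fin.Tuple.Basic
import Mathlib.RingTheory.Ideal.Operations

set_option autoImplicit false
universe u
open EGA4

namespace Groth.Agent.S4722

/-- Let A be a Noetherian ring and M a finite A-module whose set of associated primes is a single prime
p. Then M has a finite decreasing filtration by submodules M = M_0 ⊇ M_1 ⊇ ⋯ ⊇ M_m = 0 such that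
each quotient M_h/M_{h+1} is isomorphic to a submodule of A/p (i.e. embeds A-linearly into A/p). -/
theorem result (A : Type u) [CommRing A] [IsNoetherianRing A]
    (M : Type u) [AddCommGroup M] [Module A M] [Module.Finite A M] (p : Ideal A)
    (hp : associatedPrimes A M = {p}) :
    ∃ (m : ℕ) (F : Fin (m + 1) → Submodule A M), Antitone F ∧ F 0 = ⊤ ∧ F (Fin.last m) = ⊥ ∧
      ∀ i : Fin m, ∃ g : (↥(F i.castSucc) ⧸ Submodule.comap (F i.castSucc).subtype (F i.succ)) →ₗ[A] (A ⧸ p),
        Function.Injective g := by
  classical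
  have hpp : p.IsPrime := (show p ∈ associatedPrimes A M by rw [hp]; rfl).1
  have hreg : ∀ (a : A), a ∉ p → ∀ m : M, a • m = 0 → m = 0 := by
    intro a ha m hm
    by_contra hm0
    have hmem : a ∈ {r : A | ∃ x : M, x ≠ 0 ∧ r • x = 0} := ⟨m, hm0, hm⟩
    rw [← biUnion_associatedPrimes_eq_zero_divisors, hp] at hmem
    simp only [Set.mem_singleton_iff, Set.iUnion_iUnion_eq_left] at hmem
    exact ha hmem
  obtain ⟨k, hk⟩ : ∃ k, p ^ k ≤ Module.annihilator A M := by
    refine Ideal.exists_pow_le_of_le_radical_of_fg ?_ (IsNoetherian.noetherian _)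
    rw [Ideal.radical_eq_sInf]
    refine le_sInf fun J hJ => ?_
    obtain ⟨q, hq, hqJ⟩ := @Ideal.exists_minimalPrimes_le A _ _ J hJ.2 hJ.1
    have h' := Module.associatedPrimes.minimalPrimes_annihilator_subset_associatedPrimes A M hq
    rw [hp, Set.mem_singleton_iff] at h'
    exact h' ▸ hqJ
  -- filtrations from the top down to `L`
  suffices ∀ L : Submodule A M, (∀ a ∉ p, ∀ m, a • m ∈ L → m ∈ L) →
      ∀ (m : ℕ) (F : Fin (m + 1) → Submodule A M), Antitone F → F 0 = L → F (Fin.last m) = ⊥ →
      (∀ i : Fin m, ∃ g : (↥(F i.castSucc) ⧸ Submodule.comap (F i.castSucc).subtype (F i.succ)) →ₗ[A] (A ⧸ p),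
        Function.Injective g) →
      ∃ (m : ℕ) (F : Fin (m + 1) → Submodule A M), Antitone F ∧ F 0 = ⊤ ∧ F (Fin.last m) = ⊥ ∧
      ∀ i : Fin m, ∃ g : (↥(F i.castSucc) ⧸ Submodule.comap (F i.castSucc).subtype (F i.succ)) →ₗ[A] (A ⧸ p),
        Function.Injective g from
    this ⊥ (fun a ha m hm => hreg a ha m hm) 0 (fun _ => ⊥) antitone_const rfl rfl (fun i => i.elim0)
  intro L
  induction L using (wellFounded_gt (α := Submodule A M)).induction with
  | _ L ih =>
    intro hL m F hF h0 hlast hg
    by_cases htop : L = ⊤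
    · exact ⟨m, F, hF, h0.trans htop, hlast, hg⟩
    -- an element killed by `p` modulo `L`
    obtain ⟨x, hxL, hpx⟩ : ∃ x, x ∉ L ∧ ∀ a ∈ p, a • x ∈ L := by
      by_contra hcon
      push Not at hcon
      have key : ∀ n, ∀ x, (∀ a ∈ p ^ n, a • x ∈ L) → x ∈ L := by
        intro n
        induction n with
        | zero => intro x hx; simpa using hx 1 (by simp)
        | succ n ihn =>
          intro x hx
          by_contra hxL
          obtain ⟨a, ha, hax⟩ := hcon x hxL
          refine hax (ihn _ fun b hb => ?_)
          rw [smul_smul]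
          exact hx _ (pow_succ p n ▸ Ideal.mul_mem_mul hb ha)
      obtain ⟨x, -, hx⟩ := SetLike.exists_of_lt (lt_top_iff_ne_top.mpr htop)
      exact hx (key k x fun a ha => by
        rw [Module.mem_annihilator.mp (hk ha) x]; exact zero_mem _)
    let N : Submodule A M :=
      { carrier := {y | ∃ s ∉ p, ∃ c : A, s • y - c • x ∈ L}
        zero_mem' := ⟨1, fun h => hpp.ne_top ((Ideal.eq_top_iff_one p).mpr h), 0, by simp⟩
        add_mem' := by
          rintro y z ⟨s, hs, c, hc⟩ ⟨t, ht, d, hd⟩
          refine ⟨s * t, fun h => (hpp.mem_or_mem h).elim hs ht, t * c + s * d, ?_⟩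
          have h := add_mem (L.smul_mem t hc) (L.smul_mem s hd)
          convert h using 1
          module
        smul_mem' := by
          rintro r y ⟨s, hs, c, hc⟩
          refine ⟨s, hs, r * c, ?_⟩
          have h := L.smul_mem r hc
          convert h using 1
          module }
    have hpN : ∀ y ∈ N, ∀ a ∈ p, a • y ∈ L := by
      rintro y ⟨s, hs, c, hc⟩ a ha
      refine hL s hs _ ?_
      have h := add_mem (L.smul_mem a hc) (L.smul_mem c (hpx a ha))
      convert h using 1
      module
    have hLN : L ≤ N := fun y hy =>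
      ⟨1, fun h => hpp.ne_top ((Ideal.eq_top_iff_one p).mpr h), 0, by simpa using hy⟩
    have hxN : x ∈ N := ⟨1, fun h => hpp.ne_top ((Ideal.eq_top_iff_one p).mpr h), 1, by simp⟩
    -- a common denominator
    obtain ⟨s, hs, hsN⟩ : ∃ s ∉ p, ∀ y ∈ N, ∃ c : A, s • y - c • x ∈ L := by
      obtain ⟨T, hT⟩ := IsNoetherian.noetherian N
      have hTN : ∀ y ∈ T, y ∈ N := fun y hy => hT ▸ Submodule.subset_span hy
      choose! sd hsd cd hcd using fun y (hy : y ∈ T) => hTN y hy
      refine ⟨∏ y ∈ T, sd y, fun h => ?_, fun y hy => ?_⟩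
      · obtain ⟨y, hy, hys⟩ := hpp.prod_mem_iff.mp h
        exact hsd y hy hys
      · rw [← hT] at hy
        induction hy using Submodule.span_induction with
        | mem y hy =>
          obtain ⟨r, hr⟩ : sd y ∣ ∏ z ∈ T, sd z := Finset.dvd_prod_of_mem _ hy
          refine ⟨r * cd y, ?_⟩
          have h := L.smul_mem r (hcd y hy)
          rw [hr]
          convert h using 1
          module
        | zero => exact ⟨0, by simp⟩
        | add y z _ _ h1 h2 =>
          obtain ⟨c, hc⟩ := h1
          obtain ⟨d, hd⟩ := h2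
          refine ⟨c + d, ?_⟩
          convert add_mem hc hd using 1
          module
        | smul r y _ h1 =>
          obtain ⟨c, hc⟩ := h1
          refine ⟨r * c, ?_⟩
          convert L.smul_mem r hc using 1
          module
    choose cf hcf using fun y : N => hsN y.1 y.2
    have hann : ∀ c : A, c • x ∈ L → c ∈ p := fun c hc => by
      by_contra hcp; exact hxL (hL c hcp x hc)
    let g : N →ₗ[A] A ⧸ p :=
      { toFun := fun y => Ideal.Quotient.mk p (cf y)
        map_add' := fun y z => by
          rw [← map_add, Ideal.Quotient.eq]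
          refine hann _ ?_
          have h := sub_mem (add_mem (hcf y) (hcf z)) (hcf (y + z))
          convert h using 1
          push_cast
          module
        map_smul' := fun r y => by
          rw [RingHom.id_apply, Algebra.smul_def, Ideal.Quotient.algebraMap_eq, ← map_mul, Ideal.Quotient.eq]
          refine hann _ ?_
          have h := sub_mem (L.smul_mem r (hcf y)) (hcf (r • y))
          convert h using 1
          push_cast
          module }
    have hker : LinearMap.ker g = L.comap N.subtype := by
      ext y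
      show Ideal.Quotient.mk p (cf y) = 0 ↔ (y : M) ∈ L
      rw [Ideal.Quotient.eq_zero_iff_mem]
      constructor
      · intro h
        refine hL s hs _ ?_
        simpa using add_mem (hcf y) (hpx _ h)
      · intro h
        refine hann _ ?_
        simpa using sub_mem (L.smul_mem s h) (hcf y)
    have hgN : Function.Injective ((L.comap N.subtype).liftQ g hker.ge) :=
      LinearMap.ker_eq_bot.mp (Submodule.ker_liftQ_eq_bot _ _ _ hker.le)
    refine ih N (lt_of_le_of_ne hLN fun e => hxL (e ▸ hxN)) ?_ (m + 1) (Fin.cons N F) ?_ rfl ?_ ?_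
    · rintro a ha y ⟨t, ht, c, hc⟩
      exact ⟨t * a, fun h => (hpp.mem_or_mem h).elim ht ha, c, by rwa [mul_smul]⟩
    · rw [Fin.antitone_iff_succ_le]
      refine Fin.cases ?_ (fun i => ?_)
      · simpa [h0] using hLN
      · rw [← Fin.succ_castSucc, Fin.cons_succ, Fin.cons_succ]
        exact hF i.castSucc_le_succ
    · rw [← Fin.succ_last, Fin.cons_succ, hlast]
    · refine Fin.cases ?_ (fun i => ?_)
      · subst h0
        exact ⟨_, hgN⟩
      · rw [← Fin.succ_castSucc]
        exact hg i

end Groth.Agent.S4722
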