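import Groth.Statements.S4562
import Mathlib

set_option autoImplicit false
set_option linter.style.haveILetI false
set_option linter.style.longLine false
universe u
open CAlg

namespace Groth.Agent.S4562

/-- Let A be a Noetherian domain with fraction field K. If the integral closure of A in every finite
purely inseparable extension of K is a finitely generated A-module, then A is Japanese (N-2). -/
theorem result (A : Type u) [CommRing A] [IsDomain A]
    [IsNoetherianRing A]
    (h : ∀ (K' : Type u) [Field K'] [Algebra A K'] [Algebra (FractionRing A) K']
      [IsScalarTower A (FractionRing A) K'], FiniteDimensional (FractionRing A) K' →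
      IsPurelyInseparable (FractionRing A) K' → Module.Finite A (integralClosure A K')) :
    CAlg.IsN2 A := by
--- body
  classical
  intro L _ _ _ _ hfd
  haveI := hfd
  let K := FractionRing A
  let Ω := AlgebraicClosure L
  let M := IntermediateField.normalClosure K L Ω
  haveI : IsScalarTower A K Ω := IsScalarTower.of_algebraMap_eq fun a => by
    rw [IsScalarTower.algebraMap_apply A L Ω, IsScalarTower.algebraMap_apply A K L, ← IsScalarTower.algebraMap_apply K L Ω]
  haveI : Normal K Ω := by
    haveI : Algebra.IsAlgebraic K Ω := Algebra.IsAlgebraic.trans K L Ω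
    haveI : IsAlgClosure K Ω := ⟨inferInstance, inferInstance⟩
    exact IsAlgClosure.normal K Ω
  haveI : Normal K M := inferInstance
  haveI : FiniteDimensional K M := inferInstance
  let K' : IntermediateField K M := IntermediateField.fixedField (⊤ : Subgroup Gal(M/K))
  haveI : IsPurelyInseparable K K' := by
    rw [isPurelyInseparable_iff_natSepDegree_eq_one]
    intro x
    have hs := Normal.splits (inferInstance : Normal K M) (x : M)
    rw [IntermediateField.minpoly_eq]
    rw [Polynomial.natSepDegree_eq_of_splits _ hs, Finset.card_eq_one]
    refine ⟨(x : M), Finset.eq_singleton_iff_unique_mem.2 ⟨?_, fun y hy => ?_⟩⟩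
    · rw [Multiset.mem_toFinset, Polynomial.mem_aroots]
      exact ⟨minpoly.ne_zero (Algebra.IsIntegral.isIntegral _), minpoly.aeval K _⟩
    · rw [Multiset.mem_toFinset, Polynomial.mem_aroots] at hy
      have he : minpoly K (x : M) = minpoly K y :=
        minpoly.eq_of_irreducible_of_monic (minpoly.irreducible (Algebra.IsIntegral.isIntegral _)) hy.2
          (minpoly.monic (Algebra.IsIntegral.isIntegral _))
      obtain ⟨σ, hσ⟩ := (Normal.minpoly_eq_iff_mem_orbit (F := K) M).1 he.symm
      rw [← hσ]
      exact x.2 ⟨σ, trivial⟩
  haveI : IsGalois K' M := IsGalois.of_fixed_field M (⊤ : Subgroup Gal(M/K))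
  haveI : IsScalarTower A K K' := IsScalarTower.of_algebraMap_eq fun a => Subtype.ext (IsScalarTower.algebraMap_apply A K M a)
  haveI hfin' : Module.Finite A (integralClosure A K') := h K' inferInstance inferInstance
  haveI : IsScalarTower A K' M := IsScalarTower.of_algebraMap_eq fun a => rfl
  let A' := integralClosure A K'
  haveI : IsNoetherianRing A' := IsNoetherianRing.of_finite A A'
  haveI : IsFractionRing A' K' := integralClosure.isFractionRing_of_finite_extension K K'
  haveI : IsIntegrallyClosed A' := integralClosure.isIntegrallyClosedOfFiniteExtension K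
  haveI : Algebra.IsSeparable K' M := inferInstance
  let C := integralClosure A' M
  haveI : Module.Finite A' C := IsIntegralClosure.finite A' K' M C
  haveI : Module.Finite A C := Module.Finite.trans A' C
  let j : L →ₐ[A] M := (IsScalarTower.toAlgHom K L M).restrictScalars A
  haveI : Algebra.IsIntegral A A' := Algebra.IsIntegral.of_finite A A'
  let φ : integralClosure A L →ₗ[A] C :=
    { toFun := fun x => ⟨j x.1, (x.2.map j).tower_top⟩
      map_add' := fun x y => Subtype.ext (map_add j x.1 y.1)
      map_smul' := fun a x => Subtype.ext (map_smul j a x.1) }
  haveI : IsNoetherian A C := isNoetherian_of_isNoetherianRing_of_finite A C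
  exact Module.Finite.of_injective φ fun x y hxy => Subtype.ext (j.toRingHom.injective (congrArg Subtype.val hxy))

end Groth.Agent.S4562
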