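import Groth.Statements.S0574
import Mathlib
import Groth.Agent.S4562
import Groth.Agent.CAlg5.NFinite

set_option autoImplicit false
universe u
open CAlg

namespace Groth.Agent.S0574

/-- For Noetherian domains of characteristic zero the conditions N-1 and N-2 coincide. -/
theorem result (R : Type u) [CommRing R] [IsDomain R] [IsNoetherianRing R]
    [CharZero R] : CAlg.IsN1 R ↔ CAlg.IsN2 R := by
  constructor
  · intro h
    refine Groth.Agent.S4562.result R fun K' _ _ _ _ hfd hpi => ?_
    have : CharZero (FractionRing R) := charZero_of_injective_algebraMap (IsFractionRing.injective R (FractionRing R))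
    have : Algebra.IsAlgebraic (FractionRing R) K' := Algebra.IsAlgebraic.of_finite _ _
    have : Algebra.IsSeparable (FractionRing R) K' := inferInstance
    have hs : Function.Surjective (algebraMap (FractionRing R) K') :=
      IsPurelyInseparable.surjective_algebraMap_of_isSeparable (FractionRing R) K'
    exact Groth.Agent.CAlg5.finite_integralClosure_of_algEquiv
      (AlgEquiv.ofBijective (IsScalarTower.toAlgHom R (FractionRing R) K')
        ⟨(algebraMap (FractionRing R) K').injective, hs⟩) h
  · intro h
    exact h (FractionRing R) (Module.Finite.self _)

end Groth.Agent.S0574
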