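import Groth.Statements.S6333
import Mathlib.FieldTheory.FinTrdeg
import Mathlib.RingTheory.AlgebraicIndependent.AlgebraicClosure

set_option autoImplicit false
universe u
open Fields

namespace Groth.Agent.S6333

open scoped IntermediateField.algebraAdjoinAdjoin in
/-- For a finitely generated field extension K/k, the algebraic closure of k inside K is a finite
extension of k. -/
theorem result {k K : Type u} [Field k] [Field K] [Algebra k K]
    (hfg : (⊤ : IntermediateField k K).FG) :
    FiniteDimensional k (algebraicClosure k K) := by
  classical
  have : Algebra.EssFiniteType k K := IntermediateField.fg_top_iff.mp hfg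
  obtain ⟨s, hs⟩ := exists_isTranscendenceBasis k K
  let x : s → K := Subtype.val
  let A := Algebra.adjoin k (Set.range x)
  let F := IntermediateField.adjoin k (Set.range x)
  have hFalg : Algebra.IsAlgebraic F K := hs.isAlgebraic_field
  have : Algebra.EssFiniteType F K := Algebra.EssFiniteType.of_comp k F K
  have hFK : FiniteDimensional F K := Algebra.finite_of_essFiniteType_of_isAlgebraic
  let e := algebraicClosure k K
  have hx : AlgebraicIndependent e x :=
    hs.1.extendScalars e
  have key : ∀ t : Finset e, LinearIndependent k (fun i : t => (i : e)) →
      t.card ≤ Module.finrank F K := by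
    intro t ht
    have hA : LinearIndependent A (fun i : t => ((i : e) : K)) := by
      rw [Fintype.linearIndependent_iff]
      intro g hg i
      have hP : ∀ j, ∃ P : MvPolynomial s k, MvPolynomial.aeval x P = (g j : K) := fun j => by
        have := (g j).2
        simp only [A, Algebra.adjoin_range_eq_range_aeval] at this
        exact this
      choose P hP using hP
      have h0 : MvPolynomial.aeval x (∑ j : t, MvPolynomial.C (j : e) *
          MvPolynomial.map (algebraMap k e) (P j)) = 0 := by
        rw [map_sum, ← hg]
        refine Finset.sum_congr rfl fun j _ => ?_
        rw [map_mul, MvPolynomial.aeval_C, MvPolynomial.aeval_map_algebraMap, hP, mul_comm]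
        rfl
      have h1 := hx.eq_zero_of_aeval_eq_zero _ h0
      have h2 : P i = 0 := by
        ext m
        have h3 := congrArg (MvPolynomial.coeff m) h1
        simp only [MvPolynomial.coeff_sum, MvPolynomial.coeff_C_mul, MvPolynomial.coeff_map,
          MvPolynomial.coeff_zero, mul_comm _ (algebraMap k e _), ← Algebra.smul_def] at h3
        rw [Fintype.linearIndependent_iff.1 ht _ h3 i, MvPolynomial.coeff_zero]
      apply Subtype.ext
      rw [← hP i, h2, map_zero]
      rfl
    have hFi : LinearIndependent F (fun i : t => ((i : e) : K)) :=
      (LinearIndependent.iff_fractionRing A F).1 hA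
    simpa using hFi.fintype_card_le_finrank
  exact Module.finite_def.2 (by
    by_contra hinf
    have hr : ¬ Module.Finite k e := fun h => hinf (Module.finite_def.1 h)
    obtain ⟨t, ht⟩ := exists_finset_linearIndependent_of_le_rank (R := k) (M := e)
      (n := Module.finrank F K + 1) (le_trans (le_of_lt (Cardinal.natCast_lt_aleph0))
        (not_lt.1 fun hlt => hr (Module.rank_lt_aleph0_iff.1 hlt)))
    have := key t ht.2
    omega)  

end Groth.Agent.S6333
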