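import Groth.Statements.S12540
import Groth.Agent.AlgGrp79.Cover
import Groth.Agent.Approx60.Chevalley
import Groth.Agent.S0084

set_option autoImplicit false
set_option backward.isDefEq.respectTransparency.types false
universe u
open CategoryTheory MonoidalCategory CartesianMonoidalCategory MonObj GrpObj AlgebraicGeometry
open AlgGrp

namespace Groth.Agent.S12540
open Groth.Agent.AlgGrp79 CategoryTheory.Limits

section Quot
variable {k : Type u} [Field k] {G H : Over (Spec (CommRingCat.of k))} [GrpObj G] [GrpObj H]
  {h : H ⟶ G} {X : Over (Spec (CommRingCat.of k))} {a : AlgGrp.Action G X}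
  {o : 𝟙_ (Over (Spec (CommRingCat.of k))) ⟶ X}

lemma orbit_pt (T : Over (Spec (CommRingCat.of k))) (g : T ⟶ G) :
    g ≫ a.orbitMap o = lift g (toUnit T ≫ o) ≫ a.act := by
  rw [Action.orbitMap, ← Category.assoc, comp_lift, Category.comp_id, ← Category.assoc, toUnit_unique (g ≫ toUnit G) (toUnit T)]

lemma orbit_eq_iff (hX : AGF.IsQuotient h X a o) {T : Over (Spec (CommRingCat.of k))} (g₁ g₂ : T ⟶ G) :
    g₁ ≫ a.orbitMap o = g₂ ≫ a.orbitMap o ↔ ∃ n : T ⟶ H, g₂ = g₁ * (n ≫ h) := by
  have e : (G ◁ h) ≫ μ[G] = fst G H * (snd G H ≫ h) := by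
    rw [Hom.mul_def]; congr 1
  have hsq := hX.2.2.2
  rw [e] at hsq
  constructor
  · intro heq
    refine ⟨hsq.lift g₁ g₂ heq ≫ snd G H, ?_⟩
    have h1 := hsq.lift_fst g₁ g₂ heq
    have h2 := hsq.lift_snd g₁ g₂ heq
    rw [MonObj.comp_mul, h1, ← Category.assoc] at h2
    exact h2.symm
  · rintro ⟨n, rfl⟩
    have := lift g₁ n ≫= hsq.w
    rw [← Category.assoc, lift_fst, ← Category.assoc, MonObj.comp_mul, lift_fst, lift_snd_assoc] at this
    exact this

end Quot

theorem exists_finite_map {k : Type u} [Field k]
    {G H H' : Over (Spec (CommRingCat.of k))} [GrpObj G] [LocallyOfFiniteType G.hom] [QuasiCompact G.hom]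
    [GrpObj H] [GrpObj H'] (h : H ⟶ G) [IsMonHom h] (h' : H' ⟶ H) [IsMonHom h'] [Surjective h'.left]
    (X : Over (Spec (CommRingCat.of k))) (a : AlgGrp.Action G X) (o : 𝟙_ (Over (Spec (CommRingCat.of k))) ⟶ X)
    (hX : AGF.IsQuotient h X a o)
    (X' : Over (Spec (CommRingCat.of k))) (a' : AlgGrp.Action G X') (o' : 𝟙_ (Over (Spec (CommRingCat.of k))) ⟶ X')
    (hX' : AGF.IsQuotient (h' ≫ h) X' a' o') :
    ∃ p : X' ⟶ X, IsFinite p.left ∧ Surjective p.left := by
  have := hX.1; have := hX.2.1; have := hX.2.2.1
  have := hX'.1; have := hX'.2.1; have := hX'.2.2.1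
  have hc : IsCov (a.orbitMap o) := isCov_of_flat_surjective _
  have hc' : IsCov (a'.orbitMap o') := isCov_of_flat_surjective _
  obtain ⟨p, hp⟩ := hc'.desc (a.orbitMap o) fun T g₁ g₂ heq => by
    obtain ⟨n, hn⟩ := (orbit_eq_iff hX' g₁ g₂).1 heq
    exact (orbit_eq_iff hX g₁ g₂).2 ⟨n ≫ h', by rw [hn, Category.assoc]⟩
  have hequiv : a'.act ≫ p = lift (fst G X') (snd G X' ≫ p) ≫ a.act := by
    have := (hc'.whiskerLeft G).epi
    rw [← cancel_epi (G ◁ a'.orbitMap o')]
    have e1 : (G ◁ a'.orbitMap o') ≫ a'.act = (fst G G * snd G G) ≫ a'.orbitMap o' := by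
      rw [orbit_pt, mul_act']
      congr 1
      ext : 1
      · simp
      · simp [orbit_pt]
    rw [← Category.assoc, e1, Category.assoc, hp, orbit_pt, mul_act', ← orbit_pt, ← Category.assoc, comp_lift,
      whiskerLeft_fst, whiskerLeft_snd_assoc, hp]
  let Y := pullback p o
  let y₀ : Y ⟶ X' := pullback.fst p o
  let Φ : G ⊗ Y ⟶ X' := lift (fst G Y) (snd G Y ≫ y₀) ≫ a'.act
  have hy₀ : y₀ ≫ p = toUnit Y ≫ o := by
    rw [pullback.condition, toUnit_unique (pullback.snd p o) (toUnit Y)]
  have hsq : IsPullback (fst G Y) Φ (a.orbitMap o) p := by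
    refine ⟨⟨?_⟩, ⟨PullbackCone.IsLimit.mk _
      (fun s => lift s.fst (pullback.lift (lift s.fst⁻¹ s.snd ≫ a'.act) (toUnit s.pt) ?_)) ?_ ?_ ?_⟩⟩
    · simp only [Φ, Category.assoc, hequiv]
      rw [orbit_pt, ← Category.assoc, comp_lift, lift_fst, lift_snd_assoc, Category.assoc, hy₀,
        ← Category.assoc (snd G Y), toUnit_unique (snd G Y ≫ toUnit Y) (toUnit _)]
    · have e := s.condition
      rw [orbit_pt] at e
      rw [Category.assoc, hequiv, ← Category.assoc, comp_lift, lift_fst, lift_snd_assoc, ← e,
        inv_act_act]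
    · intro s; simp
    · intro s
      simp only [Φ, y₀]
      rw [← Category.assoc, comp_lift, lift_fst, lift_snd_assoc, pullback.lift_fst, act_inv_act]
    · intro s m h1 h2
      refine CartesianMonoidalCategory.hom_ext _ _ (by rw [lift_fst]; exact h1) ?_
      rw [lift_snd]
      apply pullback.hom_ext
      · rw [pullback.lift_fst, ← h2, ← h1]
        simp only [Φ, Category.assoc]
        rw [comp_lift_act, inv_act_act]
      · exact toUnit_unique _ _
  have : LocallyOfFiniteType Y.hom := by
    have : LocallyOfFinitePresentation p.left := lfp_left p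
    have h1 : LocallyOfFiniteType (pullback.snd p o).left :=
      MorphismProperty.of_isPullback (isPullback_left (IsPullback.of_hasPullback p o)) (inferInstance : LocallyOfFiniteType p.left)
    rw [← Over.w (pullback.snd p o)]
    exact MorphismProperty.comp_mem _ _ _ h1 (inferInstanceAs (LocallyOfFiniteType (𝟙 (Spec (CommRingCat.of k)))))
  have hsub : ∀ y : Y.left, y₀.left y = o'.left (IsLocalRing.closedPoint k) := by
    intro y
    let P := pullback (a'.orbitMap o') y₀
    have hP : IsCov (pullback.snd (a'.orbitMap o') y₀) :=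
      IsCov.of_isPullback (IsPullback.of_hasPullback _ _) hc'
    obtain ⟨q, hq⟩ := hP.surj.surj y
    let g : P ⟶ G := pullback.fst (a'.orbitMap o') y₀
    have hg : (1 : P ⟶ G) ≫ a.orbitMap o = g ≫ a.orbitMap o := by
      rw [orbit_pt, one_act', ← hp, ← Category.assoc, pullback.condition, Category.assoc, hy₀, ← Category.assoc,
        toUnit_unique (_ ≫ toUnit Y) (toUnit P)]
    obtain ⟨n, hn⟩ := (orbit_eq_iff hX _ _).1 hg
    rw [_root_.one_mul] at hn
    have hconst : h' ≫ h ≫ a'.orbitMap o' = toUnit H' ≫ o' := by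
      have := (orbit_eq_iff hX' (1 : H' ⟶ G) (h' ≫ h)).2 ⟨𝟙 H', by rw [_root_.one_mul, Category.id_comp]⟩
      rw [← Category.assoc, ← this, orbit_pt, one_act']
    obtain ⟨z, hz⟩ := h'.left.surjective (n.left q)
    have e : n ≫ h ≫ a'.orbitMap o' = pullback.snd (a'.orbitMap o') y₀ ≫ y₀ := by
      rw [← Category.assoc, ← hn, pullback.condition]
    have e1 := congrArg (fun f => f.left q) e
    simp only [Over.comp_left, Scheme.Hom.comp_apply] at e1
    rw [hq] at e1
    rw [← e1, ← hz]
    have e2 := congrArg (fun f => f.left z) hconst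
    simp only [Over.comp_left, Scheme.Hom.comp_apply] at e2
    rw [e2]
    exact congrArg _ (Subsingleton.elim (α := PrimeSpectrum k) _ _)
  have hinj : Function.Injective Y.hom := by
    intro y₁ y₂ _
    have hi := IsPullback.of_hasPullback p o
    have hinj' : Function.Injective y₀.left := by
      have hm : Mono o := ⟨fun u v _ => toUnit_unique u v⟩
      have : Mono y₀ := pullback.fst_of_mono
      have : Mono y₀.left := inferInstance
      exact y₀.left.injective
    exact hinj' ((hsub y₁).trans (hsub y₂).symm)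
  have : LocallyQuasiFinite Y.hom := LocallyQuasiFinite.of_injective hinj
  have : CompactSpace Y.left := by
    have : Subsingleton Y.left := ⟨fun y₁ y₂ => hinj (Subsingleton.elim (α := PrimeSpectrum k) _ _)⟩
    exact ⟨Set.subsingleton_univ.isCompact⟩
  have : QuasiCompact Y.hom := HasAffineProperty.iff_of_isAffine.2 ‹CompactSpace Y.left›
  have hfin : IsFinite Y.hom := IsFinite.of_locallyQuasiFinite Y.hom
  have hfst : IsFinite (fst G Y).left := MorphismProperty.pullback_fst _ _ hfin
  have : CompactSpace G.left := QuasiCompact.compactSpace_of_compactSpace G.hom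
  have : IsLocallyNoetherian X.left := LocallyOfFiniteType.isLocallyNoetherian X.hom
  refine ⟨p, ?_, ?_⟩
  · have := S0084.result.{u}
    exact MorphismProperty.of_isPullback_of_descendsAlong (Q := @Surjective ⊓ @Flat ⊓ @QuasiCompact)
      (isPullback_left hsq) ⟨⟨inferInstance, inferInstance⟩, inferInstance⟩ hfst
  · refine ⟨fun x => ?_⟩
    obtain ⟨g, hg⟩ := (a.orbitMap o).left.surjective x
    exact ⟨(a'.orbitMap o').left g, by rw [← Scheme.Hom.comp_apply, ← Over.comp_left, hp, hg]⟩


/-- Over an algebraically closed field k, let G be an algebraic group (a smooth k-group scheme of finite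
type), h : H → G a closed subgroup scheme, and h' : H' → H a closed subgroup scheme of H which is
reduced with the same underlying space as H (the reduced subgroup scheme H_red; it is a subgroup of
G through h' ≫ h). Let X, with its G-action and base point, be the quotient G/H, and X' the quotient
G/H' (each locally of finite type over k, with flat surjective orbit map identifying G × H with G
×_X G, respectively G × H' with G ×_{X'} G). Then X is affine if and only if X' is affine. (The
published statement adds the same equivalence with the identity component of H_red; that clause is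
not stated here.) -/
theorem result (k : Type u) [Field k] [IsAlgClosed k]
    (G : Over (Spec (CommRingCat.of k))) [GrpObj G] [Smooth G.hom] [QuasiCompact G.hom]
    (H : Over (Spec (CommRingCat.of k))) [GrpObj H] (h : H ⟶ G) [IsMonHom h] [IsClosedImmersion h.left]
    (H' : Over (Spec (CommRingCat.of k))) [GrpObj H'] (h' : H' ⟶ H) [IsMonHom h'] [IsClosedImmersion h'.left]
    [Surjective h'.left] [IsReduced H'.left]
    (X : Over (Spec (CommRingCat.of k))) (a : AlgGrp.Action G X) (o : 𝟙_ (Over (Spec (CommRingCat.of k))) ⟶ X)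
    (hX : AGF.IsQuotient h X a o)
    (X' : Over (Spec (CommRingCat.of k))) (a' : AlgGrp.Action G X') (o' : 𝟙_ (Over (Spec (CommRingCat.of k))) ⟶ X')
    (hX' : AGF.IsQuotient (h' ≫ h) X' a' o') :
    IsAffine X.left ↔ IsAffine X'.left := by
  have : LocallyOfFiniteType G.hom := inferInstance
  obtain ⟨p, hp, hp'⟩ := exists_finite_map h h' X a o hX X' a' o' hX'
  constructor
  · intro hA
    exact isAffine_of_isAffineHom p.left
  · intro hA
    have := hX.1; have := hX.2.2.1
    have : IsLocallyNoetherian X.left := LocallyOfFiniteType.isLocallyNoetherian X.hom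
    have : CompactSpace G.left := QuasiCompact.compactSpace_of_compactSpace G.hom
    have : CompactSpace X.left := ⟨by
      rw [← (a.orbitMap o).left.surjective.range_eq]
      exact isCompact_range (a.orbitMap o).left.continuous⟩
    have : IsNoetherian X.left := {}
    exact Approx60.isAffine_of_finite_surjective p.left

end Groth.Agent.S12540
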