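import Groth.Statements.S5430
import Groth.Agent.RedPts82.CentralClopen
-- import your own Groth.Agent.* helpers here

set_option autoImplicit false
universe u
open CategoryTheory MonoidalCategory CartesianMonoidalCategory MonObj GrpObj AlgebraicGeometry CategoryTheory.Limits
open SGA3x

namespace Groth.Agent.S5430

/-- Let S be a scheme and E an S-group scheme which is an extension of an S-group scheme U with
connected fibres by an S-group H of multiplicative type and of finite type: p : E → U is a
homomorphism which is surjective, flat and quasi-compact (U is the fpqc quotient E/H) and i : H → E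
is its kernel. Then the extension is central: every point of H commutes with every point of E. -/
theorem result (S : Scheme.{u}) (E H U : Over S) [GrpObj E] [GrpObj H] [GrpObj U]
    (p : E ⟶ U) [IsMonHom p] [Surjective p.left] [Flat p.left] [QuasiCompact p.left]
    (i : H ⟶ E) [IsMonHom i] (hker : AlgGrp.IsKernel i p) (hH : SGA3x.IsMultTypeFT H)
    (hU : ∀ s : S, _root_.IsConnected (U.hom.base ⁻¹' {s})) :
    ∀ (X : Over S) (h : X ⟶ H) (e : X ⟶ E), (h ≫ i) * e = e * (h ≫ i) := by
  have hpi : i ≫ p = 1 := by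
    rw [hker.w, Hom.one_def]
  haveI : Mono i := by
    refine ⟨fun {X} a b hab => hker.hom_ext hab (toUnit_unique _ _)⟩
  have hfac : ∀ {X : Over S} (g : X ⟶ E), g ≫ p = 1 → ∃ n : X ⟶ H, n ≫ i = g := fun {X} g hg =>
    ⟨hker.lift g (toUnit X) (by rw [hg, Hom.one_def]), hker.lift_fst _ _ _⟩
  have hn : AlgGrp.IsNormalHom i := fun T g n => by
    obtain ⟨n', hn'⟩ := hfac (g * (n ≫ i) * g⁻¹) (by
      rw [MonObj.mul_comp, MonObj.mul_comp, Category.assoc, hpi, MonObj.comp_one, _root_.mul_one,
        ← MonObj.mul_comp, mul_inv_cancel, MonObj.one_comp])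
    exact ⟨n', hn'.symm⟩
  obtain ⟨C, c, hc, ho, hC⟩ := RedPts82.exists_clopen_centralizer i hH hn
  -- H is commutative
  have hcomm : ∀ (X : Over S) (a b : X ⟶ H), a * b = b * a := by
    intro X a b
    obtain ⟨S', f, hf, hs, hqc, hloc⟩ := RedPts82.isMultType_of_isMultTypeFT hH
    choose U₀ hU₀ M hM he using hloc
    choose W hW hsW hWU using fun s' => exists_isAffineOpen_mem_and_subset (hU₀ s')
    refine RedPts82.hom_ext_of_cover f W hsW _ _ fun s' Y _ y => ?_
    obtain ⟨e⟩ := he s'
    let φ : (W s' : Scheme.{u}) ⟶ S := (W s').ι ≫ f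
    obtain ⟨d, hd, -, hsurj⟩ := RedPts82.exists_ds_cover_mono (S'.homOfLE (hWU s'))
      ((U₀ s').ι ≫ f) φ (by simp [φ]) e
    obtain ⟨t₁, h₁⟩ := hsurj Y (RedPts82.ofBase φ (y ≫ a))
    obtain ⟨t₂, h₂⟩ := hsurj Y (RedPts82.ofBase φ (y ≫ b))
    have h3 : t₁ * t₂ = t₂ * t₁ := RedPts82.dsFn_injective fun m => by
      rw [RedPts82.dsFn_mul, RedPts82.dsFn_mul, _root_.mul_comm]
    have h4 := congrArg (fun t => RedPts82.toBase φ (t ≫ d)) h3
    simp only [MonObj.mul_comp, h₁, h₂, RedPts82.toBase_mul, RedPts82.toBase_ofBase] at h4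
    rw [MonObj.comp_mul, MonObj.comp_mul]
    exact h4
  -- the centralizer is saturated
  have hsat : ∀ x y : E.left, p.left x = p.left y → x ∈ Set.range c.left.base →
      y ∈ Set.range c.left.base := by
    intro x y hxy hx
    obtain ⟨z, hzx, hzy⟩ := Scheme.Pullback.exists_preimage_pullback (f := p.left) (g := p.left) x y hxy
    let P := Limits.pullback p.left p.left
    let R : Over S := Over.mk (P.fromSpecResidueField z ≫ Limits.pullback.fst p.left p.left ≫ E.hom)
    let e₁ : R ⟶ E := Over.homMk (P.fromSpecResidueField z ≫ Limits.pullback.fst p.left p.left)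
      (Category.assoc _ _ _)
    let e₂ : R ⟶ E := Over.homMk (P.fromSpecResidueField z ≫ Limits.pullback.snd p.left p.left) (by
      rw [Category.assoc]
      show _ = P.fromSpecResidueField z ≫ Limits.pullback.fst p.left p.left ≫ E.hom
      rw [← Over.w p, Limits.pullback.condition_assoc])
    have hp : e₁ ≫ p = e₂ ≫ p := Over.OverMorphism.ext (by
      show (_ ≫ _) ≫ p.left = (_ ≫ _) ≫ p.left
      rw [Category.assoc, Category.assoc, Limits.pullback.condition])
    obtain ⟨n, hn'⟩ := hfac (e₁⁻¹ * e₂) (by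
      rw [MonObj.mul_comp, ← hp, ← MonObj.mul_comp, inv_mul_cancel, MonObj.one_comp])
    have hr : Set.range e₁.left.base ⊆ Set.range c.left.base := by
      rintro _ ⟨q, rfl⟩
      show (P.fromSpecResidueField z ≫ Limits.pullback.fst p.left p.left) q ∈ _
      rw [Scheme.Hom.comp_apply, Scheme.fromSpecResidueField_apply, hzx]
      exact hx
    haveI : Mono c := Over.mono_of_mono_left c
    let w₁ : R ⟶ C := Over.homMk (IsOpenImmersion.lift c.left e₁.left hr) (by
      rw [← Over.w c, IsOpenImmersion.lift_fac_assoc, Over.w e₁])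
    have hw₁ : w₁ ≫ c = e₁ := Over.OverMorphism.ext (IsOpenImmersion.lift_fac _ _ _)
    obtain ⟨w₂, hw₂⟩ := (hC R e₂).mpr fun X' t h => by
      have h1 := (hC R e₁).mp ⟨w₁, hw₁⟩ X' t h
      have e : t ≫ e₂ = (t ≫ e₁) * ((t ≫ n) ≫ i) := by
        rw [Category.assoc, hn', MonObj.comp_mul, GrpObj.comp_inv, mul_inv_cancel_left]
      rw [e, _root_.mul_assoc, ← MonObj.mul_comp, hcomm, MonObj.mul_comp, ← _root_.mul_assoc, h1,
        _root_.mul_assoc]
    refine ⟨w₂.left (IsLocalRing.closedPoint _), ?_⟩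
    show c.left (w₂.left _) = y
    rw [← Scheme.Hom.comp_apply, ← Over.comp_left, hw₂]
    show (P.fromSpecResidueField z ≫ Limits.pullback.snd p.left p.left) _ = y
    rw [Scheme.Hom.comp_apply, Scheme.fromSpecResidueField_apply, hzy]
  have hpre : p.left.base ⁻¹' (p.left.base '' Set.range c.left.base) = Set.range c.left.base :=
    Set.Subset.antisymm (fun y ⟨x, hx, hxy⟩ => hsat x y hxy hx) (Set.subset_preimage_image _ _)
  have hq := Flat.isQuotientMap_of_surjective p.left
  have hclo : IsClopen (p.left.base '' Set.range c.left.base) :=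
    ⟨hq.isClosed_preimage.mp (hpre.symm ▸ c.left.isClosedEmbedding.isClosed_range),
      hq.isOpen_preimage.mp (hpre.symm ▸ c.left.isOpenEmbedding.isOpen_range)⟩
  haveI : Surjective c.left := ⟨fun x => by
    let s := E.hom x
    let R : Over S := Over.mk (S.fromSpecResidueField s)
    obtain ⟨z₀, hz₀⟩ := (hC R 1).mpr fun X' x h => by simp
    have hx : U.hom (p.left x) = s := by
      rw [← Scheme.Hom.comp_apply, Over.w p]
    have h0 : ((1 : R ⟶ U).left (IsLocalRing.closedPoint _)) ∈
        (U.hom.base ⁻¹' {s}) ∩ p.left.base '' Set.range c.left.base := by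
      refine ⟨?_, c.left (z₀.left (IsLocalRing.closedPoint _)), ⟨_, rfl⟩, ?_⟩
      · show U.hom ((1 : R ⟶ U).left _) = s
        rw [← Scheme.Hom.comp_apply, Over.w (1 : R ⟶ U)]
        exact S.fromSpecResidueField_apply s _
      · show (z₀ ≫ c ≫ p).left (IsLocalRing.closedPoint _) = _
        exact congrArg (fun k : R ⟶ U => k.left (IsLocalRing.closedPoint _))
          (by rw [reassoc_of% hz₀, MonObj.one_comp])
    have := (hU s).isPreconnected.subset_isClopen hclo ⟨_, h0⟩ (show p.left x ∈ U.hom.base ⁻¹' {s} from hx)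
    obtain ⟨w, hw⟩ := (hpre ▸ this : x ∈ Set.range c.left.base)
    exact ⟨w, hw⟩⟩
  haveI : IsIso c.left := (isIso_iff_isOpenImmersion_and_surjective c.left).mpr ⟨‹_›, ‹_›⟩
  haveI : IsIso c := by
    haveI : IsIso ((Over.forget S).map c) := ‹IsIso c.left›
    exact isIso_of_reflects_iso c (Over.forget S)
  intro X h e
  have := (hC E (𝟙 E)).mp ⟨inv c, IsIso.inv_hom_id c⟩ X e h
  rw [Category.comp_id] at this
  exact this.symm

end Groth.Agent.S5430
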