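import Groth.Statements.S1585
import Groth.Agent.VarNorm.Sections
import Groth.Agent.S10862

set_option autoImplicit false
universe u
open CategoryTheory CategoryTheory.Limits AlgebraicGeometry
open Variety

namespace Groth.Agent.S1585

/-- Part (1): and (4), for an integral scheme locally of finite type over a field: the normalization
morphism ν (normalization of X in its function field) is finite, dominant and an isomorphism over a
nonempty open, and the normalization is an integral scheme all of whose local rings are integrally
closed domains. (The quasi-compactness/quasi-separatedness binders on Spec K(X) → X always hold;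
they are needed only to form Mathlib's relative normalization.) -/
theorem result (k : Type u) [Field k] (X : Scheme.{u}) [X.Over (Spec (CommRingCat.of k))] [IsIntegral X] [LocallyOfFiniteType (X ↘ (Spec (CommRingCat.of k)))]
    [QuasiCompact (X.fromSpecStalk (genericPoint X))] [QuasiSeparated (X.fromSpecStalk (genericPoint X))] :
    IsFinite (Curv2.normalizationι X) ∧ IsDominant (Curv2.normalizationι X) ∧
      (∃ V : X.Opens, (V : Set X).Nonempty ∧ IsIso (Curv2.normalizationι X ∣_ V)) ∧
      IsIntegral (Curv2.normalization X) ∧ Pi1.IsNormalScheme (Curv2.normalization X) := by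
  have hfin : ∀ (U : X.Opens) (_ : IsAffineOpen U) [Nonempty U],
      Module.Finite Γ(X, U) (integralClosure Γ(X, U) X.functionField) := by
    intro U hU _
    have := functionField_isFractionRing_of_isAffineOpen X U hU
    let f : k →+* Γ(X, U) := ((Scheme.ΓSpecIso (CommRingCat.of k)).inv ≫ (X ↘ Spec (CommRingCat.of k)).appLE ⊤ U le_top).hom
    let := f.toAlgebra
    have : Algebra.FiniteType k Γ(X, U) := by
      have h := (X ↘ Spec (CommRingCat.of k)).finiteType_appLE (isAffineOpen_top _) hU le_top
      exact (RingHom.FiniteType.comp h (RingHom.FiniteType.of_surjective (Scheme.ΓSpecIso (CommRingCat.of k)).inv.hom (Scheme.ΓSpecIso (CommRingCat.of k)).commRingCatIsoToRingEquiv.symm.surjective))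
    exact Groth.Agent.S10862.result k Γ(X, U) X.functionField X.functionField
  obtain ⟨_, ⟨U, hU, rfl⟩, hxU, -⟩ := X.isBasis_affineOpens.exists_subset_of_mem_open (Set.mem_univ (genericPoint X)) isOpen_univ
  have : Nonempty U := ⟨⟨_, hxU⟩⟩
  obtain ⟨V, hV, hiso⟩ := Groth.Agent.VarNorm.exists_dense_open_isIso X U hU (hfin U hU)
  refine ⟨Groth.Agent.VarNorm.isFinite_normalizationι X hfin, ?_, ⟨V, hV.nonempty, hiso⟩, ?_, Groth.Agent.VarNorm.isNormalScheme X⟩
  · refine ⟨(hV.mono ?_)⟩
    intro x hx
    obtain ⟨w, hw⟩ := (asIso (Curv2.normalizationι X ∣_ V)).schemeIsoToHomeo.surjective ⟨x, hx⟩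
    exact ⟨w.1, by
      have := congrArg Subtype.val hw
      rw [← morphismRestrict_base_coe]; exact this⟩
  · exact inferInstanceAs (IsIntegral (X.fromSpecStalk (genericPoint X)).normalization)

end Groth.Agent.S1585
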