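import Groth.Statements.S5260
import Groth.Agent.SGA3a.SmoothTransporter

set_option autoImplicit false
open CategoryTheory MonoidalCategory CartesianMonoidalCategory MonObj GrpObj AlgebraicGeometry
universe u
open SGA3x

namespace Groth.Agent.S5260

/-- Normalizer: Let G be an S-group locally of finite type and quasi-separated over S, H an S-group
which is smooth and of finite presentation over S with connected fibres, and i : H ⟶ G a
homomorphism which is a monomorphism. Then the normalizer of H in G is representable by a closed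
subgroup scheme of G whose immersion into G is of finite presentation. -/
theorem result {S : Scheme.{u}} (G H : Over S) [GrpObj G] [GrpObj H]
    [LocallyOfFiniteType G.hom] [QuasiSeparated G.hom] [Smooth H.hom] [QuasiCompact H.hom] [QuasiSeparated H.hom]
    (hconn : ∀ s : S, ConnectedSpace ↥(Limits.pullback H.hom (S.fromSpecResidueField s)))
    (i : H ⟶ G) [IsMonHom i] [Mono i] :
    ∃ (N : Over S) (_ : GrpObj N) (j : N ⟶ G), Red.IsNormalizerOf i j ∧ IsClosedImmersion j.left ∧
      LocallyOfFinitePresentation j.left := by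
  obtain ⟨N, n, hn, hp, key⟩ := Groth.Agent.SGA3a.exists_normalizer_both G H i hconn
  have hmono : Mono n := by
    have : Mono ((Over.forget _).map n) := inferInstanceAs (Mono n.left)
    exact (Over.forget _).mono_of_mono_map this
  have h1 : ∃ z, z ≫ n = (1 : 𝟙_ _ ⟶ G) := (key _ _).2 fun X' x a => by
    simp only [MonObj.comp_one, _root_.one_mul, _root_.mul_one, inv_one]
    exact ⟨⟨a, rfl⟩, ⟨a, rfl⟩⟩
  have hinv : ∃ z, z ≫ n = n⁻¹ := (key _ _).2 fun X' x a => by
    obtain ⟨p, q⟩ := (key _ n).1 ⟨𝟙 _, Category.id_comp _⟩ X' x a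
    simp only [GrpObj.comp_inv, _root_.inv_inv]
    exact ⟨q, p⟩
  have hmul : ∃ z, z ≫ n = (fst N N ≫ n) * (snd N N ≫ n) := (key _ _).2 fun X' x a => by
    have hk := (key _ n).1 ⟨𝟙 _, Category.id_comp _⟩ X'
    simp only [MonObj.comp_mul, ← Category.assoc]
    constructor
    · obtain ⟨a₁, e₁⟩ := (hk (x ≫ snd N N) a).1
      obtain ⟨a₂, e₂⟩ := (hk (x ≫ fst N N) a₁).1
      exact ⟨a₂, by rw [← e₂, ← e₁]; group⟩
    · obtain ⟨a₁, e₁⟩ := (hk (x ≫ fst N N) a).2
      obtain ⟨a₂, e₂⟩ := (hk (x ≫ snd N N) a₁).2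
      exact ⟨a₂, by rw [← e₂, ← e₁]; group⟩
  exact ⟨N, Groth.Agent.SGA3a.grpObjOfMono n h1 hmul hinv, n,
    ⟨Groth.Agent.SGA3a.isMonHom_grpObjOfMono n h1 hmul hinv, hmono, key⟩, hn, hp⟩

end Groth.Agent.S5260
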