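import Groth.Statements.S9771
import Groth.Agent.FlatMor67.LiftAffine
import Mathlib.RingTheory.Unramified.Finite
import Mathlib.AlgebraicGeometry.Morphisms.FormallyUnramified
import Mathlib.RingTheory.RingHom.FaithfullyFlat
import Groth.Agent.FlatMor68.FlatUnramified

set_option autoImplicit false
universe u
open FlatMor

namespace Groth.Agent.S9771

open CategoryTheory CategoryTheory.Limits AlgebraicGeometry TopologicalSpace Groth.Agent.FlatMor68.FlatUnramified

open AlgebraicGeometry CategoryTheory Limits in
/-- An unramified (formally unramified and locally of finite type) flat morphism of schemes is formally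
étale. (When the morphism is moreover locally of finite presentation this is the statement that flat
unramified morphisms are étale; the content here is the case without finite presentation.) -/
theorem result {X S : Scheme.{u}} (f : X ⟶ S)
    [Flat f] [FormallyUnramified f] [LocallyOfFiniteType f] : MoreMor.IsFormallyEtaleHom f := by
  apply Groth.Agent.FlatMor67.isFormallyEtaleHom_of_affineLocally
  intro U V hU hV hUV
  algebraize [(f.appLE V U hUV).hom]
  have : Module.Flat Γ(S, V) Γ(X, U) := f.flat_appLE hV hU hUV
  have : Algebra.FiniteType Γ(S, V) Γ(X, U) := f.finiteType_appLE hV hU hUV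
  have : Algebra.FormallyUnramified Γ(S, V) Γ(X, U) := HasRingHomProperty.appLE (P := @FormallyUnramified) f ‹_› ⟨V, hV⟩ ⟨U, hU⟩ hUV
  exact formallyEtale_of_flat

end Groth.Agent.S9771
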