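import Groth.Statements.S1489
import Groth.Agent.FlatMor67.LiftAffine

set_option linter.style.haveILetI false

set_option autoImplicit false
universe u
open FlatMor

namespace Groth.Agent.S1489

open AlgebraicGeometry CategoryTheory Limits in
/-- A morphism f : X → S is étale if and only if it is locally of finite presentation and formally
étale, i.e. has the unique lifting property against first order thickenings of affine schemes (rings
in the same universe). -/
theorem result {X S : Scheme.{u}} (f : X ⟶ S) :
    Etale f ↔ LocallyOfFinitePresentation f ∧ MoreMor.IsFormallyEtaleHom f := by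
  constructor
  · intro h
    refine ⟨inferInstance, Groth.Agent.FlatMor67.isFormallyEtaleHom_of_affineLocally
      fun U V hU hV hUV => ?_⟩
    letI := (f.appLE V U hUV).hom.toAlgebra
    haveI : Algebra.Etale Γ(S, V) Γ(X, U) := h.etale_appLE hV hU hUV
    infer_instance
  · rintro ⟨hfp, hfe⟩
    refine ⟨fun {V} hV {U} hU hUV => ?_⟩
    letI := (f.appLE V U hUV).hom.toAlgebra
    haveI := Groth.Agent.FlatMor67.formallyEtale_appLE hU hV hUV hfe
    haveI : Algebra.FinitePresentation Γ(S, V) Γ(X, U) := hfp.finitePresentation_appLE hV hU hUV
    exact (⟨inferInstance, inferInstance⟩ : Algebra.Etale Γ(S, V) Γ(X, U))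

end Groth.Agent.S1489
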