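import Groth.Statements.S9922
import Groth.Agent.SpPts86.UnivTop

set_option autoImplicit false
universe u
open CategoryTheory CategoryTheory.Limits AlgebraicGeometry
open AlgSp

namespace Groth.Agent.S9922

/-- For a morphism of algebraic spaces representable by schemes, representable universal closedness is
equivalent to closedness of |Z x_Y X| -> |Z| for every base change along a morphism of algebraic
spaces. -/
theorem result {S : Scheme.{u}} {X Y : AlgSp.Space S} (f : X ⟶ Y)
    (hf : AlgSp.Representable f.hom) :
    AlgSp.RepWith @UniversallyClosed f.hom ↔ AlgSp.IsUnivClosedMor f.hom := by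
  constructor
  · intro h Z Z' hZ g fst snd sq
    have h' := (AlgSp.repWith_isStableUnderBaseChange _).of_isPullback sq h
    refine Groth.Agent.SpPts86.isClosedMap_of_affine fun T hT k Q q₁ q₂ sq' => ?_
    obtain ⟨V, s, r, sqV⟩ := h'.rep k
    have : UniversallyClosed s.left := h'.property k r s sqV
    have e : AlgSp.Points.map q₂ = AlgSp.Points.map ((AlgSp.yon S).map s) ∘
        AlgSp.Points.map (sq'.isoIsPullback _ _ sqV).hom := funext fun x => by
      rw [Function.comp_apply, ← AlgSp.Points.map_comp, IsPullback.isoIsPullback_hom_snd]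
    rw [e]
    refine ((Groth.Agent.SpPts86.isClosedMap_map_yon_iff s).2 s.left.isClosedMap).comp ?_
    refine IsClosedMap.of_inverse (f' := AlgSp.Points.map (sq'.isoIsPullback _ _ sqV).inv)
      (AlgSp.Points.continuous_map _) ?_ ?_
    · intro x
      rw [← AlgSp.Points.map_comp, Iso.inv_hom_id, AlgSp.Points.map_id]
    · intro x
      rw [← AlgSp.Points.map_comp, Iso.hom_inv_id, AlgSp.Points.map_id]
  · intro h
    refine ⟨hf, fun T V g p s sq => ?_⟩
    change UniversallyClosed s.left
    rw [universallyClosed_eq]
    refine Groth.Agent.SpPts86.universally_of_repr (R := topologically @IsClosedMap) (f := f.hom) ?_ sq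
    intro T' V' g p s sq'
    exact (Groth.Agent.SpPts86.isClosedMap_map_yon_iff s).1
      (h (AlgSp.IsAlgSpace.yon_obj T') g p _ sq')

end Groth.Agent.S9922
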