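import Groth.Statements.S9936
import Groth.Agent.SpPts86.Subspace
import Groth.Agent.SpPts86.Compact

set_option autoImplicit false
universe u
open CategoryTheory CategoryTheory.Limits AlgebraicGeometry
open AlgSp

namespace Groth.Agent.S9936

/-- Closed immersions between algebraic spaces are quasi-compact morphisms. -/
theorem result {S : Scheme.{u}} {X Y : AlgSp.Space S} (f : X ⟶ Y)
    (hf : AlgSp.RepWith @IsClosedImmersion f.hom) : AlgSp.IsQuasiCompactMor f.hom := by
  intro Z Z' hZ hqc g fst snd sq
  obtain ⟨U, p, hp, hps, hU⟩ := hqc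
  have hsnd : AlgSp.RepWith @IsClosedImmersion snd :=
    (AlgSp.repWith_isStableUnderBaseChange _).of_isPullback sq hf
  obtain ⟨V, i, q, sq'⟩ := hsnd.rep p
  have : IsClosedImmersion i.left := hsnd.property p q i sq'
  refine ⟨V, q, (AlgSp.repWith_isStableUnderBaseChange _).of_isPullback sq'.flip hp,
    (AlgSp.repWith_isStableUnderBaseChange _).of_isPullback sq'.flip hps, ?_⟩
  exact i.left.isClosedEmbedding.compactSpace

end Groth.Agent.S9936
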