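import Groth.Statements.S10277
import Groth.Agent.SpPts86.Proper
import Groth.Agent.S9922
import Groth.Agent.S9936
import Groth.Agent.S9937

set_option autoImplicit false
universe u
open CategoryTheory CategoryTheory.Limits AlgebraicGeometry
open AlgSp

namespace Groth.Agent.S10277

/-- A closed immersion of algebraic spaces is proper. -/
theorem result {S : Scheme.{u}} {X Y : AlgSp.Space S} (i : X ⟶ Y)
    (hi : AlgSp.RepWith @IsClosedImmersion i.hom) : AlgSp.IsProperMor i.hom := by
  refine ⟨S9937.result i hi, ⟨SpFP87.locP_of_repWith X.property.diag Y.property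
    (SpPts86.repWith_mono (fun _ _ _ h => by haveI := h; exact inferInstance) hi), S9936.result i hi⟩, ?_⟩
  exact (S9922.result i hi.rep).1 (SpPts86.repWith_mono (fun _ _ _ h => by haveI := h; exact inferInstance) hi)

end Groth.Agent.S10277
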