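import Groth.Statements.S1400
import Groth.Agent.FlatMor66.IndQA2

set_option autoImplicit false
universe u
open FlatMor

namespace Groth.Agent.S1400
open Groth.Agent.FlatMor66

open AlgebraicGeometry CategoryTheory Limits in
/-- The base change of an ind-quasi-affine morphism is ind-quasi-affine. -/
theorem result {X S X' S' : Scheme.{u}} (f : X ⟶ S) (f' : X' ⟶ S') (g' : X' ⟶ X) (g : S' ⟶ S)
    (hc : IsPullback g' f' f g) (hf : MoreMor.IsIndQuasiAffineHom f) : MoreMor.IsIndQuasiAffineHom f' := by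
  rw [isIndQuasiAffineHom_iff] at *
  intro V hV W hWV hW
  refine qa_opens_of_over_affine f' V hV W hW hWV fun y _ => ?_
  obtain ⟨A, hA, hyA⟩ : ∃ A : S.Opens, IsAffineOpen A ∧ g y ∈ A := by
    obtain ⟨_, ⟨A, hA, rfl⟩, hyA, -⟩ := S.isBasis_affineOpens.exists_subset_of_mem_open (Set.mem_univ (g y)) isOpen_univ
    exact ⟨A, hA, hyA⟩
  refine ⟨g ⁻¹ᵁ A, hyA, fun B hB hB' W' hW'B _ hW' => ?_⟩
  obtain ⟨W₀, hW₀, hgW, hW₀A⟩ := exists_compact_opens_between (U := f ⁻¹ᵁ A) (hW'.image g'.continuous) (by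
    rintro _ ⟨x, hx, rfl⟩
    show f (g' x) ∈ A
    rw [← Scheme.Hom.comp_apply, hc.w, Scheme.Hom.comp_apply]
    exact hB (hW'B hx))
  have hq := hf A hA W₀ hW₀A hW₀
  have : IsAffine A.toScheme := hA
  have : IsAffine B.toScheme := hB'
  have := compactSpace_toScheme hW'
  let p := f.resLE A W₀ hW₀A
  let q := g.resLE A B hB
  let c : pullback p q ⟶ X' := hc.lift (pullback.fst p q ≫ W₀.ι) (pullback.snd p q ≫ B.ι) (by
    rw [Category.assoc, Category.assoc, ← Scheme.Hom.resLE_comp_ι f hW₀A, ← Scheme.Hom.resLE_comp_ι g hB,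
      pullback.condition_assoc])
  let a : W'.toScheme ⟶ W₀.toScheme := g'.resLE W₀ W' fun x hx => hgW ⟨x, hx, rfl⟩
  let b : W'.toScheme ⟶ B.toScheme := f'.resLE B W' hW'B
  let k : W'.toScheme ⟶ pullback p q := pullback.lift a b (by
    rw [← cancel_mono A.ι]; simp [a, b, p, q, hc.w])
  have hk : k ≫ c = W'.ι := by
    apply hc.hom_ext
    · rw [Category.assoc, IsPullback.lift_fst, pullback.lift_fst_assoc, Scheme.Hom.resLE_comp_ι]
    · rw [Category.assoc, IsPullback.lift_snd, pullback.lift_snd_assoc, Scheme.Hom.resLE_comp_ι]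
  have : IsImmersion (k ≫ c) := by rw [hk]; infer_instance
  have : IsImmersion k := IsImmersion.of_comp k c
  have : IsAffineHom (pullback.fst p q) := MorphismProperty.pullback_fst (P := @IsAffineHom) p q inferInstance
  have : Scheme.IsQuasiAffine (pullback p q) := Scheme.IsQuasiAffine.of_isAffineHom (pullback.fst p q)
  exact Scheme.IsQuasiAffine.of_isImmersion k

end Groth.Agent.S1400
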