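import Groth.Statements.S1402
import Groth.Agent.FlatMor66.IndQA2

set_option autoImplicit false
universe u
open FlatMor

namespace Groth.Agent.S1402
open Groth.Agent.FlatMor66

open AlgebraicGeometry CategoryTheory Limits in
/-- A separated, locally quasi-finite morphism is ind-quasi-affine. -/
theorem result {X Y : Scheme.{u}} (f : X ⟶ Y) [IsSeparated f] [LocallyQuasiFinite f] [LocallyOfFiniteType f] :
    MoreMor.IsIndQuasiAffineHom f := by
  rw [isIndQuasiAffineHom_iff]
  intro V hV W hWV hW
  have := compactSpace_toScheme hW
  have : IsAffine V.toScheme := hV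
  exact qa_of_separated_lqf (f.resLE V W hWV)

end Groth.Agent.S1402
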