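import Groth.Statements.S1550
import Groth.Agent.AlgGrp79.SepDense
import Groth.Agent.VarGal.Residue
import Groth.Agent.VarGal.GenIrred

set_option autoImplicit false
universe u
open CategoryTheory CategoryTheory.Limits AlgebraicGeometry
attribute [local instance] Curv2.resAlgebra
open Variety

namespace Groth.Agent.S1550

set_option backward.isDefEq.respectTransparency.types false in

/-- If X is smooth over a field k, then the set of closed points of X whose residue field is finite
separable over k is dense in X. -/
theorem result (k : Type u) [Field k] (X : Scheme.{u}) [X.Over (Spec (CommRingCat.of k))] [Smooth (X ↘ (Spec (CommRingCat.of k)))] :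
    Dense {x : X | IsClosed ({x} : Set X) ∧ FiniteDimensional k (X.residueField x) ∧ Algebra.IsSeparable k (X.residueField x)} := by
  let f := X ↘ (Spec (CommRingCat.of k))
  let K := SeparableClosure k
  let t := Spec.map (CommRingCat.ofHom (algebraMap k K))
  have : Smooth (pullback.snd f t) := inferInstance
  have hd := Groth.Agent.AlgGrp79.dense_secPts_of_smooth (pullback.snd f t)
  have : Surjective t := ⟨fun y => ⟨Classical.arbitrary _, Subsingleton.elim _ _⟩⟩
  rw [dense_iff_inter_open]
  intro U hU hne
  obtain ⟨x0, hx0⟩ := hne
  obtain ⟨y0, hy0⟩ := (pullback.fst f t).surjective x0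
  obtain ⟨y, hyU, s, hs, hsy⟩ := hd.inter_open_nonempty _ (hU.preimage (pullback.fst f t).continuous) ⟨y0, by simpa [hy0] using hx0⟩
  let r : Spec (CommRingCat.of K) ⟶ X := s ≫ pullback.fst f t
  let x := r (IsLocalRing.closedPoint K)
  have hr : r ≫ f = t := by
    simp only [r, Category.assoc, pullback.condition]
    rw [← Category.assoc, hs, Category.id_comp]
  let ψ : X.residueField x ⟶ CommRingCat.of K := Scheme.descResidueField (Scheme.stalkClosedPointTo r)
  have hψ : Spec.map ψ ≫ X.fromSpecResidueField x = r := Scheme.descResidueField_stalkClosedPointTo_fromSpecResidueField K X r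
  have hcomp : CommRingCat.ofHom (Curv2.resMap k X x) ≫ ψ = CommRingCat.ofHom (algebraMap k K) := by
    apply Spec.map_injective
    rw [Spec.map_comp, Groth.Agent.VarGal.SpecMap_resMap, ← Category.assoc, hψ]
    exact hr
  let φ : X.residueField x →ₐ[k] K :=
    { ψ.hom with commutes' := fun c => RingHom.congr_fun (congrArg CommRingCat.Hom.hom hcomp) c }
  have hsep : Algebra.IsSeparable k (X.residueField x) := Algebra.IsSeparable.of_algHom k K φ
  have hess : Algebra.EssFiniteType k (X.residueField x) := by
    obtain ⟨φ', hφ', h⟩ := Groth.Agent.VarGal.residueFieldProp_essFiniteType f x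
    have : φ' = Curv2.resMap k X x := congrArg CommRingCat.Hom.hom
      (Spec.map_injective (hφ'.trans (Groth.Agent.VarGal.SpecMap_resMap x).symm) : CommRingCat.ofHom φ' = CommRingCat.ofHom _)
    subst this
    exact h
  have hfd : FiniteDimensional k (X.residueField x) := Algebra.finite_of_essFiniteType_of_isAlgebraic
  refine ⟨x, ?_, ?_, hfd, hsep⟩
  · show pullback.fst f t (s (IsLocalRing.closedPoint K)) ∈ U
    rw [hsy]; exact hyU
  · have := LocallyOfFiniteType.jacobsonSpace f
    rw [isClosed_singleton_iff_locallyOfFiniteType]
    have : LocallyOfFiniteType (X.fromSpecResidueField x ≫ f) := by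
      rw [← Groth.Agent.VarGal.SpecMap_resMap, HasRingHomProperty.Spec_iff (P := @LocallyOfFiniteType)]
      exact RingHom.finiteType_algebraMap.mpr inferInstance
    exact locallyOfFiniteType_of_comp _ f

end Groth.Agent.S1550
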