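import Groth.Statements.S17751

set_option autoImplicit false
universe u
open LocCoh

namespace Groth.Agent.S17751

/-- Suppose R is a Noetherian ring, r is a natural number, and I is an ideal of R. Then there are
elements f_1, …, f_r of I such that for every prime ideal p of R of height less than r, p contains I
if and only if p contains f_1, …, f_r. (For r = 0 there is nothing to prove.) -/
theorem result (R : Type u) [CommRing R] [IsNoetherianRing R] (I : Ideal R) (r : ℕ) : ∃ f : Fin r → R, (∀ i, f i ∈ I) ∧ ∀ (p : Ideal R) [p.IsPrime], p.height < r → (I ≤ p ↔ Ideal.span (Set.range f) ≤ p) := by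
  induction r with
  | zero => exact ⟨Fin.elim0, fun i => i.elim0, fun p _ h => by simp at h⟩
  | succ r ih =>
    obtain ⟨f, hfI, hf⟩ := ih
    obtain ⟨x, hxI, hx⟩ : ∃ x ∈ I, ∀ q ∈ (Ideal.span (Set.range f)).minimalPrimes,
        ¬ I ≤ q → x ∉ q := by
      have hfin : {q ∈ (Ideal.span (Set.range f)).minimalPrimes | ¬ I ≤ q}.Finite :=
        (Ideal.finite_minimalPrimes_of_isNoetherianRing R _).subset fun q hq => hq.1
      by_contra! hcon
      have hsub : (I : Set R) ⊆ ⋃ q ∈ (hfin.toFinset : Set (Ideal R)), (q : Set R) := by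
        intro x hx
        obtain ⟨q, hq, hIq, hxq⟩ := hcon x hx
        exact Set.mem_iUnion₂.mpr ⟨q, hfin.mem_toFinset.mpr ⟨hq, hIq⟩, hxq⟩
      obtain ⟨q, hq, hIq⟩ := (Ideal.subset_union_prime ⊥ ⊥
        (fun q hq _ _ => (hfin.mem_toFinset.mp hq).1.isPrime)).mp hsub
      exact (hfin.mem_toFinset.mp hq).2 hIq
    refine ⟨Fin.cons x f, fun i => ?_, fun p _ hp => ⟨fun h => ?_, fun h => ?_⟩⟩
    · refine Fin.cases ?_ ?_ i
      · simpa using hxI
      · intro j; simpa using hfI j
    · rw [Ideal.span_le, Set.range_subset_iff]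
      intro i
      refine Fin.cases ?_ ?_ i
      · simpa using h hxI
      · intro j; simpa using h (hfI j)
    · by_contra hIp
      have hfp : Ideal.span (Set.range f) ≤ p :=
        le_trans (Ideal.span_mono (by rw [Fin.range_cons]; exact Set.subset_insert _ _)) h
      obtain ⟨q, hq, hqp⟩ := Ideal.exists_minimalPrimes_le hfp
      have hqI : ¬ I ≤ q := fun h' => hIp (h'.trans hqp)
      have hne : q ≠ p := fun e => hx q hq hqI (e ▸ h (Ideal.subset_span ⟨0, by simp⟩))
      haveI := hq.isPrime
      have hlt : q < p := lt_of_le_of_ne hqp hne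
      have hp' : p.height ≠ ⊤ := p.height_ne_top Ideal.IsPrime.ne_top'
      have h1 : q.height + 1 ≤ p.height := Ideal.height_add_one_le_of_lt_of_isPrime hlt
      refine hqI ((hf q ?_).mpr hq.le)
      have h2 : q.height + 1 < (r : ℕ∞) + 1 := by exact_mod_cast lt_of_le_of_lt h1 hp
      exact lt_of_add_lt_add_right h2

end Groth.Agent.S17751
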