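import Groth.Statements.S17753
import Groth.Agent.S17751

set_option autoImplicit false
universe u
open LocCoh

namespace Groth.Agent.S17753

/-- Let R be a Noetherian local ring of Krull dimension d and I a proper ideal of R. Then there are d
elements f_1, …, f_d of I such that I and the ideal they generate have the same radical, so the
arithmetic rank of I is at most d. (The published statement has no properness hypothesis; for the
unit ideal of a field, d = 0 and no empty family generates the unit ideal up to radical, and the
published proof uses that the maximal ideal contains I.) -/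
theorem result (R : Type u) [CommRing R] [IsNoetherianRing R] [IsLocalRing R] (d : ℕ) (hd : ringKrullDim R = d) (I : Ideal R) (hI : I ≠ ⊤) : ∃ f : Fin d → R, (∀ i, f i ∈ I) ∧ I.radical = (Ideal.span (Set.range f)).radical := by
  obtain ⟨f, hfI, hf⟩ := Groth.Agent.S17751.result R I d
  refine ⟨f, hfI, ?_⟩
  rw [Ideal.radical_eq_sInf, Ideal.radical_eq_sInf]
  congr 1
  ext p
  refine ⟨fun h => ⟨?_, h.2⟩, fun h => ⟨?_, h.2⟩⟩ <;> haveI := h.2
  · exact le_trans (Ideal.span_le.mpr (Set.range_subset_iff.mpr hfI)) h.1
  · rcases eq_or_lt_of_le (IsLocalRing.le_maximalIdeal h.2.ne_top) with he | hlt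
    · rw [he]
      exact IsLocalRing.le_maximalIdeal hI
    · refine (hf p ?_).mpr h.1
      have h1 : p.height + 1 ≤ (IsLocalRing.maximalIdeal R).height :=
        Ideal.height_add_one_le_of_lt_of_isPrime hlt
      have h2 : ((IsLocalRing.maximalIdeal R).height : WithBot ℕ∞) = (d : WithBot ℕ∞) := by
        rw [IsLocalRing.maximalIdeal_height_eq_ringKrullDim, hd]
      have h3 : (IsLocalRing.maximalIdeal R).height = (d : ℕ∞) := by exact_mod_cast h2
      rw [h3] at h1
      exact (ENat.add_one_le_iff (p.height_ne_top h.2.ne_top)).mp h1

end Groth.Agent.S17753
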