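import Groth.Statements.S2121
import Groth.Agent.SchBasics.Closure
import Mathlib.AlgebraicGeometry.ValuativeCriterion

set_option autoImplicit false
set_option backward.isDefEq.respectTransparency.types false
universe u
open CategoryTheory AlgebraicGeometry
open Mor

namespace Groth.Agent.S2121

/-- Let `f : X → Y` be quasi-compact and `z` a point in the closure of `f(X)` (the underlying set of the
scheme theoretic image). Then there are a valuation ring `A` with fraction field `K` and morphisms
`Spec K → X`, `Spec A → Y` forming a commutative square with `f` and `Spec K → Spec A`, such that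
the closed point of `Spec A` maps to `z`. -/
theorem result {X Y : Scheme.{u}} (f : X ⟶ Y) [QuasiCompact f] (z : Y)
    (hz : z ∈ closure (Set.range f.base)) :
    ∃ (A : Type u) (_ : CommRing A) (_ : IsDomain A) (_ : ValuationRing A)
      (x : Spec (CommRingCat.of (FractionRing A)) ⟶ X) (y : Spec (CommRingCat.of A) ⟶ Y),
      x ≫ f = Spec.map (CommRingCat.ofHom (algebraMap A (FractionRing A))) ≫ y ∧
      y.base (IsLocalRing.closedPoint A) = z := by
  obtain ⟨x', h⟩ := SchBasics.exists_specializes_of_mem_closure_range f hz
  let ψ : Y.presheaf.stalk z ⟶ X.residueField x' :=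
    Y.presheaf.stalkSpecializes h ≫ f.stalkMap x' ≫ X.residue x'
  obtain ⟨A, hA, hA_local⟩ := IsLocalRing.exists_factor_valuationRing ψ.hom
  let toA : Y.presheaf.stalk z ⟶ .of A := CommRingCat.ofHom (ψ.hom.codRestrict _ hA)
  have w : X.fromSpecResidueField x' ≫ f =
      Spec.map (CommRingCat.ofHom (algebraMap A (X.residueField x'))) ≫
        Spec.map toA ≫ Y.fromSpecStalk z := by
    rw [Scheme.fromSpecResidueField, Category.assoc, ← Scheme.SpecMap_stalkMap_fromSpecStalk,
      ← Scheme.SpecMap_stalkSpecializes_fromSpecStalk h]
    simp_rw [← Spec.map_comp_assoc]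
    rfl
  let e := FractionRing.algEquiv A (X.residueField x')
  refine ⟨A, inferInstance, inferInstance, inferInstance,
    Spec.map (CommRingCat.ofHom e.symm.toAlgHom.toRingHom) ≫ X.fromSpecResidueField x',
    Spec.map toA ≫ Y.fromSpecStalk z, ?_, ?_⟩
  · rw [Category.assoc, w, ← Spec.map_comp_assoc, ← CommRingCat.ofHom_comp, show (e.symm.toAlgHom.toRingHom).comp (algebraMap A (X.residueField x')) = algebraMap A (FractionRing A) from e.symm.toAlgHom.comp_algebraMap]
  · let o : Spec (CommRingCat.of A) := IsLocalRing.closedPoint A
    show (Spec.map toA ≫ Y.fromSpecStalk z) o = z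
    rw [Scheme.Hom.comp_apply, show Spec.map toA o = IsLocalRing.closedPoint (Y.presheaf.stalk z) from
      IsLocalRing.comap_closedPoint (S := A) (ψ.hom.codRestrict A.toSubring hA)]
    exact Y.fromSpecStalk_closedPoint

end Groth.Agent.S2121
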