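import Groth.Statements.S12998
import Groth.Agent.AlgSt88.SmoothLoc

set_option autoImplicit false
universe u
open CategoryTheory AlgebraicGeometry
open AlgSt

namespace Groth.Agent.S12998

/-- For a morphism of algebraic stacks f : 𝒳 → 𝒴 that is locally of finite type, local Noetherianity of
𝒴 implies local Noetherianity of 𝒳 (locally Noetherian: every scheme smooth over the stack is
locally Noetherian). -/
theorem result
    (S : Scheme.{u}) (𝒳 : AlgSt.Cat S) (𝒴 : AlgSt.Cat S)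
    (h𝒳 : AlgSt.IsAlgStack Scheme.fppfPrecoverage 𝒳)
    (h𝒴 : AlgSt.IsAlgStack Scheme.fppfPrecoverage 𝒴)
    (f : 𝒳 ⥤ᵇ 𝒴) :
    AlgSt.LocQ (AlgSp.LocP @LocallyOfFiniteType) f → AlgSt.SmoothLocally (fun T ↦ IsLocallyNoetherian T) 𝒴 → AlgSt.SmoothLocally (fun T ↦ IsLocallyNoetherian T) 𝒳 := by
  intro hf hN T x hx
  have hX := h𝒳.isStack.1
  obtain ⟨V, y, hy, hy'⟩ := Groth.Agent.AlgSt88.exists_space_atlas h𝒴
  obtain ⟨U, l, hl, hl'⟩ := Groth.Agent.AlgSt88.exists_lift_chart h𝒳 h𝒴 f (V := Groth.Agent.AlgSt88.spY V) y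
  have h1 := (Groth.Agent.AlgSt88.spQ_of_locQ hf).prop Groth.Agent.AlgSt88.smoothLocal_lft hX h𝒴.isStack.1
    (U := Groth.Agent.AlgSt88.spY U) (V := Groth.Agent.AlgSt88.spY V) y l hy hl
  obtain ⟨k, hk⟩ := (AlgSp.yon S).map_surjective
    (Groth.Agent.AlgSt88.homOfBased (BasedFunctor.comp l (FibCat.fpSnd f y)))
  haveI : LocallyOfFiniteType k.left := (Groth.Agent.SpFP87.locP_yon_map_iff (P := @LocallyOfFiniteType) k).1
    ((congrArg (fun t => AlgSp.LocP @LocallyOfFiniteType t) hk).mpr h1)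
  haveI : IsLocallyNoetherian V.left := Groth.Agent.AlgSt88.of_ofSch hN y hy
  haveI := LocallyOfFiniteType.isLocallyNoetherian k.left
  have hC := Groth.Agent.AlgSt88.isFibGrpd_fp hX (Stk.isFibGrpd_ofPsh ((AlgSp.yon S).obj V).obj) h𝒴.isStack.1 f y
  exact Groth.Agent.AlgSt88.noetherian_of_chart hX (BasedFunctor.comp l (FibCat.fpFst f y))
    (BasedFunctor.comp (AlgSt.toOverCat T) x)
    (Groth.Agent.AlgSt88.sm_comp (Stk.isFibGrpd_ofPsh _) hC hl (Groth.Agent.AlgSt88.repByAlgSpWith_fpFst f hy))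
    (Groth.Agent.AlgSt88.repByAlgSpWith_surj_comp (Stk.isFibGrpd_ofPsh _) hC hl' (Groth.Agent.AlgSt88.repByAlgSpWith_fpFst f hy'))
    ((Groth.Agent.AlgSt88.repByAlgSpWith_precomp_equiv (Groth.Agent.AlgSt88.isEquivOver_toOverCat T)).2 hx)

end Groth.Agent.S12998
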