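import Groth.Statements.S9919
import Groth.Agent.SpPts86.QCMor

set_option autoImplicit false
universe u
open CategoryTheory CategoryTheory.Limits AlgebraicGeometry
open AlgSp

namespace Groth.Agent.S9919

/-- For morphisms f : X -> Y and g : Y -> Z of algebraic spaces, quasi-compactness of the composite
together with quasi-separatedness of g forces f to be quasi-compact. -/
theorem result {S : Scheme.{u}} {X Y Z : AlgSp.Space S} (f : X ⟶ Y)
    (g : Y ⟶ Z) (hgf : AlgSp.IsQuasiCompactMor (f ≫ g).hom) (hg : AlgSp.IsQuasiSeparatedMor g.hom) :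
    AlgSp.IsQuasiCompactMor f.hom := by
  let Γ : X.obj ⟶ pullback (f.hom ≫ g.hom) g.hom := pullback.lift (𝟙 _) f.hom (Category.id_comp _)
  have sqP := IsPullback.of_hasPullback (f.hom ≫ g.hom) g.hom
  have hP := Groth.Agent.SpFP87.isAlgSpace_of_isPullback sqP X.property Y.property Z.property.diag
  have h2 := Groth.Agent.SpPts86.isQuasiCompactMor_baseChange (f := f.hom ≫ g.hom) hgf sqP
  have h1 : AlgSp.RepWith @QuasiCompact Γ := by
    have sqd := Groth.Agent.SpPts86.isPullback_mapDesc f.hom (𝟙 Y.obj) g.hom
    have hm := (AlgSp.repWith_isStableUnderBaseChange @QuasiCompact).of_isPullback sqd hg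
    have e : Γ = inv (pullback.fst f.hom (𝟙 Y.obj)) ≫ pullback.mapDesc f.hom (𝟙 Y.obj) g.hom ≫
        (pullback.congrHom rfl (Category.id_comp g.hom)).hom := by
      rw [IsIso.eq_inv_comp]
      have hs : pullback.fst f.hom (𝟙 Y.obj) ≫ f.hom = pullback.snd f.hom (𝟙 Y.obj) :=
        pullback.condition.trans (Category.comp_id _)
      apply pullback.hom_ext <;>
        simp only [Γ, pullback.congrHom_hom, pullback.mapDesc, pullback.map, Category.assoc,
          pullback.lift_fst, pullback.lift_snd, pullback.lift_fst_assoc, pullback.lift_snd_assoc,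
          Category.comp_id, hs]
    rw [e, MorphismProperty.cancel_left_of_respectsIso (AlgSp.RepWith @QuasiCompact),
      MorphismProperty.cancel_right_of_respectsIso (AlgSp.RepWith @QuasiCompact)]
    exact hm
  have := Groth.Agent.SpPts86.isQuasiCompactMor_comp hP Y.property
    (Groth.Agent.SpPts86.isQuasiCompactMor_of_repWith hP h1) h2
  rwa [show Γ ≫ pullback.snd (f.hom ≫ g.hom) g.hom = f.hom from pullback.lift_snd _ _ _] at this

end Groth.Agent.S9919
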