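import Groth.Statements.S10298
import Groth.Agent.SpPts86.FiniteCrit

set_option autoImplicit false
universe u
open CategoryTheory CategoryTheory.Limits AlgebraicGeometry
open AlgSp

namespace Groth.Agent.S10298

/-- For a quasi-compact quasi-separated morphism of schemes, the relative normalization of schemes is
the normalization in the sense of algebraic spaces. -/
theorem result {S : Scheme.{u}} {V U N : Over S} (g : V ⟶ U)
    [QuasiCompact g.left] [QuasiSeparated g.left] (f' : V ⟶ N) (ν : N ⟶ U)
    (e : N.left ≅ g.left.normalization) (he1 : f'.left ≫ e.hom = g.left.toNormalization)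
    (he2 : e.hom ≫ g.left.fromNormalization = ν.left) :
    AlgSp.IsRelNormalization ((AlgSp.yon S).map g) ((AlgSp.yon S).map ν) ((AlgSp.yon S).map f') := by
  have hg : f' ≫ ν = g := by
    ext1
    rw [Over.comp_left, ← he2, ← Category.assoc, he1, Scheme.Hom.toNormalization_fromNormalization]
  have hν : IsIntegralHom ν.left := by rw [← he2]; infer_instance
  refine ⟨by rw [← Functor.map_comp, hg], (SpPts86.isIntegralMor_iff _).2 ((repWith_yon_map_iff _ _).2 hν),
    fun Z hZ π γ hπ hγ => ?_⟩
  have hπ' := (SpPts86.isIntegralMor_iff π).1 hπ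
  obtain ⟨W, a, q, sq⟩ := hπ'.rep (𝟙 ((AlgSp.yon S).obj U))
  have ha : IsIntegralHom a.left := hπ'.property (𝟙 _) q a sq
  haveI : IsIso q := sq.isIso_fst_of_isIso
  have hq : q ≫ π = (AlgSp.yon S).map a := by rw [sq.w, Category.comp_id]
  obtain ⟨γ', hγ'⟩ := (AlgSp.yon S).map_surjective (γ ≫ inv q)
  have hγa : γ' ≫ a = g := (AlgSp.yon S).map_injective (by
    rw [Functor.map_comp, hγ', ← hq, Category.assoc, IsIso.inv_hom_id_assoc, hγ])
  have H : g.left = γ'.left ≫ a.left := by rw [← Over.comp_left, hγa]
  let hN : N.left ⟶ W.left := e.hom ≫ g.left.normalizationDesc γ'.left a.left H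
  have hNw : hN ≫ W.hom = N.hom := by
    rw [← Over.w a, ← Over.w ν, ← he2]
    simp only [hN, Category.assoc]
    rw [Scheme.Hom.normalizationDesc_comp_assoc]
  let h : N ⟶ W := Over.homMk hN hNw
  have h1 : f' ≫ h = γ' := by
    ext1
    show f'.left ≫ hN = γ'.left
    simp only [hN, ← Category.assoc, he1]
    exact Scheme.Hom.toNormalization_normalizationDesc _ _ _ H
  have h2 : h ≫ a = ν := by
    ext1
    show hN ≫ a.left = ν.left
    simp only [hN, Category.assoc]
    rw [Scheme.Hom.normalizationDesc_comp, he2]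
  refine ⟨(AlgSp.yon S).map h ≫ q, ⟨?_, ?_⟩, fun k hk => ?_⟩
  · rw [← Category.assoc, ← Functor.map_comp, h1, hγ', Category.assoc, IsIso.inv_hom_id, Category.comp_id]
  · rw [Category.assoc, hq, ← Functor.map_comp, h2]
  · obtain ⟨k', hk'⟩ := (AlgSp.yon S).map_surjective (k ≫ inv q)
    have e1 : f' ≫ k' = γ' := (AlgSp.yon S).map_injective (by rw [Functor.map_comp, hk', hγ', ← Category.assoc, hk.1])
    have e2 : k' ≫ a = ν := (AlgSp.yon S).map_injective (by
      rw [Functor.map_comp, hk', ← hq, Category.assoc, IsIso.inv_hom_id_assoc, hk.2])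
    have : k' = h := by
      ext1
      haveI : IsAffineHom a.left := inferInstance
      rw [← cancel_epi e.inv]
      refine Scheme.Hom.normalization.hom_ext g.left _ _ a.left ?_ ?_ ?_
      · have c : g.left.toNormalization ≫ e.inv = f'.left := by rw [← he1, Category.assoc, e.hom_inv_id, Category.comp_id]
        rw [← Category.assoc, ← Category.assoc, c, ← Over.comp_left, ← Over.comp_left, e1, h1]
      · rw [Category.assoc, ← Over.comp_left, e2, ← he2, e.inv_hom_id_assoc]
      · rw [Category.assoc, ← Over.comp_left, h2, ← he2, e.inv_hom_id_assoc]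
    rw [← this, hk', Category.assoc, IsIso.inv_hom_id, Category.comp_id]

end Groth.Agent.S10298
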