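import Groth.Statements.S1492
import Groth.Agent.FlatMor67.LCIDescent
import Groth.Agent.FlatMor67.LCIMor
import Mathlib.AlgebraicGeometry.Morphisms.Flat
-- import your own Groth.Agent.* helpers here

set_option autoImplicit false
universe u
attribute [local instance] HasDerivedCategory.standard
open FlatMor

namespace Groth.Agent.S1492

open AlgebraicGeometry CategoryTheory Limits in
/-- Let S' → S be flat, surjective and quasi-compact and f' : X' → S' the base change of f : X → S. If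
f' is a local complete intersection morphism (affine-locally: local complete intersection ring maps)
then so is f. -/
theorem result {X S X' S' : Scheme.{u}} (f : X ⟶ S) (f' : X' ⟶ S') (g' : X' ⟶ X) (g : S' ⟶ S)
    [Flat g] [Surjective g] [QuasiCompact g] (hc : IsPullback g' f' f g)
    (hf' : (∀ (U : X'.Opens) (V : S'.Opens) (hU : IsAffineOpen U) (hV : IsAffineOpen V) (hUV : U ≤ f' ⁻¹ᵁ V),
        letI := (f'.appLE V U hUV).hom.toAlgebra
        LCI.IsLCI Γ(S', V) Γ(X', U))) :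
    (∀ (U : X.Opens) (V : S.Opens) (hU : IsAffineOpen U) (hV : IsAffineOpen V) (hUV : U ≤ f ⁻¹ᵁ V),
        letI := (f.appLE V U hUV).hom.toAlgebra
        LCI.IsLCI Γ(S, V) Γ(X, U)) := by
  intro U V hU hV hUV
  obtain ⟨s, hs, hsV⟩ := (isCompact_iff_finite_and_eq_biUnion_affineOpens (U := g ⁻¹ᵁ V)).1
    (QuasiCompact.isCompact_preimage (f := g) V.1 V.2 hV.isCompact)
  have : Fintype s := hs.fintype
  let W : Fin (Fintype.card s) → S'.affineOpens := fun j => ((Fintype.equivFin s).symm j).1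
  have hWV : ∀ j, (W j).1 ≤ g ⁻¹ᵁ V := fun j => hsV ▸ le_iSup₂_of_le _
    ((Fintype.equivFin s).symm j).2 le_rfl
  let := (f.appLE V U hUV).hom.toAlgebra
  let : ∀ j, Algebra Γ(S, V) Γ(S', (W j).1) := fun j => (g.appLE V (W j).1 (hWV j)).hom.toAlgebra
  have : ∀ j, Module.Flat Γ(S, V) Γ(S', (W j).1) := fun j =>
    Flat.flat_appLE g hV (W j).2 (hWV j)
  refine FlatMor67.isLCI_descend (R := fun j => Γ(S', (W j).1)) (fun p => ?_) fun j => ?_
  · obtain ⟨w, hw⟩ := g.surjective (hV.fromSpec p)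
    have hwV : w ∈ (g ⁻¹ᵁ V : S'.Opens) := by
      show g w ∈ V
      rw [hw]
      exact hV.range_fromSpec.subset ⟨p, rfl⟩
    rw [hsV, TopologicalSpace.Opens.mem_iSup] at hwV
    obtain ⟨i, hi⟩ := hwV
    obtain ⟨hi, hwi⟩ := TopologicalSpace.Opens.mem_iSup.1 hi
    obtain ⟨j, hj⟩ : ∃ j, W j = i := ⟨Fintype.equivFin s ⟨i, hi⟩, by simp [W]⟩
    subst hj
    refine ⟨j, (W j).2.primeIdealOf ⟨w, hwi⟩, hV.fromSpec.isOpenEmbedding.injective ?_⟩
    have h := congrArg (fun φ => φ ((W j).2.primeIdealOf ⟨w, hwi⟩))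
      (hV.SpecMap_appLE_fromSpec g (W j).2 (hWV j))
    simp only [Scheme.Hom.comp_apply, IsAffineOpen.fromSpec_primeIdealOf] at h
    exact h.trans hw
  · have hY : g' ⁻¹ᵁ U ⊓ f' ⁻¹ᵁ (W j).1 ≤ f' ⁻¹ᵁ (W j).1 := inf_le_right
    have : IsAffine _ := hU
    have : IsAffine _ := hV
    have : IsAffine _ := (W j).2
    have hY' : IsAffineOpen (g' ⁻¹ᵁ U ⊓ f' ⁻¹ᵁ (W j).1) :=
      .of_isIso (Scheme.Hom.isPullback_resLE hc (hWV j) hUV rfl).isoPullback.hom
    have h1 := (isIso_pushoutSection_iff hc (hWV j) hUV rfl).1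
      (isIso_pushoutSection_of_isAffineOpen hc (hWV j) hUV rfl hV (W j).2 hU)
    have h2 := CommRingCat.isPushout_tensorProduct Γ(S, V) Γ(S', (W j).1) Γ(X, U)
    let := (f'.appLE (W j).1 (g' ⁻¹ᵁ U ⊓ f' ⁻¹ᵁ (W j).1) hY).hom.toAlgebra
    let e := h1.flip.isoIsPushout _ _ h2
    let E : Γ(X', g' ⁻¹ᵁ U ⊓ f' ⁻¹ᵁ (W j).1) ≃ₐ[Γ(S', (W j).1)]
        TensorProduct Γ(S, V) Γ(S', (W j).1) Γ(X, U) :=
      AlgEquiv.ofRingEquiv (f := e.commRingCatIsoToRingEquiv) fun r =>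
        congrArg (fun φ => CommRingCat.Hom.hom φ r) (h1.flip.inl_isoIsPushout_hom _ _ h2)
    exact FlatMor67.isLCI_of_algEquiv E (hf' _ _ hY' (W j).2 hY)

end Groth.Agent.S1492
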