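import Groth.Statements.S9699
import Groth.Agent.RelGCI94.SmoothSyn

set_option autoImplicit false
universe u
open CategoryTheory CategoryTheory.Limits AlgebraicGeometry
open Synt

namespace Groth.Agent.S9699

/-- A smooth morphism of schemes is syntomic (flat, locally of finite presentation, with local complete
intersection fibres, in the affine-local sense of Synt.IsSyntomicMor). -/
theorem result {X S : Scheme.{u}} (f : X ⟶ S) [Smooth f] :
    Synt.IsSyntomicMor f := by
  intro x
  obtain ⟨U, hU, V, hV, hx, e, hst⟩ := Smooth.exists_isStandardSmooth f x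
  refine ⟨⟨V, hV⟩, ⟨U, hU⟩, e, hx, ?_⟩
  let := (f.appLE U V e).hom.toAlgebra
  have : Algebra.IsStandardSmooth Γ(S, U) Γ(X, V) := hst
  exact RelGCI94.isSyntomic_of_standardSmooth Γ(S, U) Γ(X, V)

end Groth.Agent.S9699
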