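import Groth.Statements.S0386
import Groth.Agent.FlatCrit65.FlatLocus.Module

set_option autoImplicit false
universe u
open FlatMor

namespace Groth.Agent.S0386

open AlgebraicGeometry CategoryTheory Limits in
/-- Openness of the flat locus: for a morphism f : X ⟶ S locally of finite presentation, the set of
points x of X at which the local ring O_{X,x} is flat over O_{S,f(x)} is open in X. (The published
statement also treats the flat locus of a finitely presented quasi-coherent module; stated here for
the structure sheaf.) -/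
theorem result {X S : Scheme.{u}} (f : X ⟶ S) [LocallyOfFinitePresentation f] :
    IsOpen {x : X | (f.stalkMap x).hom.Flat} := by
  rw [isOpen_iff_forall_mem_open]
  intro x hx
  obtain ⟨_, ⟨U, hU, rfl⟩, hxU, -⟩ :=
    S.isBasis_affineOpens.exists_subset_of_mem_open (Set.mem_univ (f x)) isOpen_univ
  obtain ⟨_, ⟨V, hV, rfl⟩, hxV, hVU⟩ :=
    X.isBasis_affineOpens.exists_subset_of_mem_open hxU (U.2.preimage f.continuous)
  have hfp := f.finitePresentation_appLE hU hV hVU
  algebraize [(f.appLE U V hVU).hom]
  have key : ∀ (y : X) (hy : y ∈ V), (f.stalkMap y).hom.Flat ↔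
      hV.primeIdealOf ⟨y, hy⟩ ∈ {q : PrimeSpectrum Γ(X, V) | Module.Flat Γ(S, U)
        (LocalizedModule q.asIdeal.primeCompl Γ(X, V))} := by
    intro y hy
    let p := (hU.primeIdealOf ⟨f y, hVU hy⟩).asIdeal
    let q := (hV.primeIdealOf ⟨y, hy⟩).asIdeal
    have : q.LiesOver p :=
      ⟨congr($(IsAffineOpen.comap_primeIdealOf_appLE U hU V hV hVU hy).1).symm⟩
    let := Localization.AtPrime.algebraOfLiesOver p q
    have h1 : (f.stalkMap y).hom.Flat ↔ Module.Flat (Localization.AtPrime p) (Localization.AtPrime q) := by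
      rw [← RingHom.flat_algebraMap_iff]
      exact RingHom.Flat.respectsIso.arrow_mk_iso_iff
        (IsAffineOpen.arrowStalkMapIso f U hU V hV hVU hy)
    rw [h1, Module.flat_iff_of_isLocalization (Localization.AtPrime p) p.primeCompl]
    rfl
  refine ⟨Subtype.val '' ((fun y : V => hV.primeIdealOf y) ⁻¹' {q : PrimeSpectrum Γ(X, V) |
    Module.Flat Γ(S, U) (LocalizedModule q.asIdeal.primeCompl Γ(X, V))}), ?_, ?_, ?_⟩
  · rintro _ ⟨⟨y, hy⟩, hq, rfl⟩
    exact (key y hy).mpr hq
  · refine V.2.isOpenMap_subtype_val _ ((Groth.Agent.FlatCrit65.isOpen_flat_locus_module).preimage ?_)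
    exact hV.isoSpec.hom.continuous
  · exact ⟨⟨x, hxV⟩, (key x hxV).mp hx, rfl⟩

end Groth.Agent.S0386
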