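import Groth.Statements.S5223
import Groth.Agent.VarGal.GeomReg
import Groth.Agent.FlatMor66.FlatDescentSource

set_option autoImplicit false
open CategoryTheory CategoryTheory.Limits AlgebraicGeometry
universe u
open GrpQ

namespace Groth.Agent.S5223

/-- In a cartesian square of schemes `F₂ = F₁ ×_{X₀} X₁` whose bottom map `u : X₁ ⟶ X₀` is flat, the
base-changed map `d' : F₂ ⟶ X₁` is flat at a point `x` if and only if `d : F₁ ⟶ X₀` is flat at the
image of `x` in `F₁`. -/
theorem result {F₂ F₁ X₁ X₀ : Scheme.{u}}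
    {v : F₂ ⟶ F₁} {d' : F₂ ⟶ X₁} {d : F₁ ⟶ X₀} {u : X₁ ⟶ X₀}
    (h : IsPullback v d' d u) [Flat u] (x : F₂) :
    (d'.stalkMap x).hom.Flat ↔ (d.stalkMap (v.base x)).hom.Flat := by
  have : Flat v := MorphismProperty.of_isPullback h.flip inferInstance
  constructor
  · intro hx
    have h1 : ((d' ≫ u).stalkMap x).hom.Flat := by
      rw [Scheme.Hom.stalkMap_comp]
      exact (Flat.stalkMap u (d' x)).comp hx
    rw [Scheme.Hom.stalkMap_congr_hom _ _ h.w.symm, Scheme.Hom.stalkMap_comp] at h1
    have h1' : ((d.stalkMap (v x) ≫ v.stalkMap x)).hom.Flat :=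
      (RingHom.Flat.respectsIso.cancel_left_isIso _ _).mp h1
    exact FlatMor66.flat_of_comp_localHom _ _ (Flat.stalkMap v x) h1'
  · intro hx
    let Z := Spec (F₁.presheaf.stalk (v x))
    let i : Z ⟶ F₁ := F₁.fromSpecStalk (v x)
    have : Flat i := VarGal.flat_fromSpecStalk (v x)
    have : Flat (i ≫ d) := by
      have h1 : Flat (Spec.map (d.stalkMap (v x))) := (Flat.SpecMap_iff).mpr hx
      have h2 := VarGal.flat_fromSpecStalk (d (v x))
      rw [show i ≫ d = Spec.map (d.stalkMap (v x)) ≫ X₀.fromSpecStalk (d (v x)) from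
        (Scheme.SpecMap_stalkMap_fromSpecStalk d).symm]
      infer_instance
    let iT := pullback.snd i v
    have : Flat (iT ≫ d') := by
      have sq : IsPullback (pullback.fst i v) (iT ≫ d') (i ≫ d) u :=
        (IsPullback.of_hasPullback i v).paste_vert h
      exact MorphismProperty.of_isPullback sq inferInstance
    obtain ⟨z, -, hz⟩ := Scheme.Pullback.exists_preimage_pullback (f := i) (g := v)
      (IsLocalRing.closedPoint (F₁.presheaf.stalk (v x))) x Scheme.fromSpecStalk_closedPoint
    have hb := VarGal.bijective_stalkMap_of_flat_preimmersion iT z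
    have : IsIso (iT.stalkMap z) := (ConcreteCategory.isIso_iff_bijective _).mpr hb
    have h2 := Flat.stalkMap (iT ≫ d') z
    rw [Scheme.Hom.stalkMap_comp] at h2
    have h3 : (d'.stalkMap (iT z)).hom.Flat := (RingHom.Flat.respectsIso.cancel_right_isIso _ _).mp h2
    rw [show iT z = x from hz] at h3
    exact h3

end Groth.Agent.S5223
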