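import Groth.Statements.S1398
import Groth.Agent.FlatMor66.IndQA2

set_option autoImplicit false
universe u
open FlatMor

namespace Groth.Agent.S1398
open Groth.Agent.FlatMor66

open AlgebraicGeometry CategoryTheory Limits in
/-- An immersion is ind-quasi-affine, and so is any quasi-affine morphism. -/
theorem result {X Y : Scheme.{u}} (f : X ⟶ Y) :
    (IsImmersion f → MoreMor.IsIndQuasiAffineHom f) ∧ (MoreMor.IsQuasiAffineHom f → MoreMor.IsIndQuasiAffineHom f) := by
  refine ⟨fun hf => ?_, fun hf => ?_⟩
  · rw [isIndQuasiAffineHom_iff]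
    intro V hV W hWV hW
    have := compactSpace_toScheme hW
    have : IsAffine V.toScheme := hV
    have : IsImmersion (f.resLE V W hWV) := by
      have : IsImmersion (f.resLE V W hWV ≫ V.ι) := by rw [Scheme.Hom.resLE_comp_ι]; infer_instance
      exact IsImmersion.of_comp _ V.ι
    exact Scheme.IsQuasiAffine.of_isImmersion (f.resLE V W hWV)
  · rw [isIndQuasiAffineHom_iff]
    exact fun V hV W hWV hW => qa_of_le hWV (hf.2 V hV) hW

end Groth.Agent.S1398
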