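import Groth.Statements.S0829
import Groth.Agent.Algz14.RelInst

set_option autoImplicit false
universe u
open Formal2

namespace Groth.Agent.S0829

open CategoryTheory CategoryTheory.Limits AlgebraicGeometry Opposite in
/-- Let A be a ring, I ⊆ A an ideal and X a Noetherian scheme over Spec A; inverse systems are indexed
so that position n holds the quotient by I^(n+1). Let G be a coherent O_X-module, (F_n) a coherent
formal module for I (every F_n coherent and killed by I^(n+1), with transition maps inducing
isomorphisms F_{n+1}/I^(n+1)F_{n+1} ≅ F_n), and α : (F_n) → (G/I^(n+1)G) a map of inverse systems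
such that one fixed power of I kills the kernel and the cokernel of every component α_n. Then there
are a coherent O_X-module F, a map a : F → G whose kernel and cokernel are killed by a power of I,
and an isomorphism of systems β : (F_n) ≅ (F/I^(n+1)F) under which α becomes the map of systems
induced by a: for every n, the projection F → F/I^(n+1)F followed by β_n⁻¹ and then α_n equals a
followed by the projection G → G/I^(n+1)G. (The published statement also asserts uniqueness of (F,
a, β) and has a further part; only existence is stated here.) -/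
theorem result (A : Type u) [CommRing A] (I : Ideal A) (X : Scheme.{u})
    [X.Over (Spec (CommRingCat.of A))] [IsNoetherian X] (G : X.Modules) (hG : Coh.IsCoh G)
    (F : ℕᵒᵖ ⥤ X.Modules) (hF : Formal.IsCohFormal I F) (α : F ⟶ Formal.completion I G)
    (hα : Formal2.KerCokerKilledByIPow I α) :
    ∃ (F' : X.Modules) (a : F' ⟶ G) (β : F ≅ Formal.completion I F'), Coh.IsCoh F' ∧
      Formal2.KerCokerKilledByIPowHom I a ∧
      ∀ n : ℕ, Formal.modPowπ I (n + 1) F' ≫ β.inv.app (op n) ≫ α.app (op n) = a ≫ Formal.modPowπ I (n + 1) G := by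
  obtain ⟨t, ht⟩ := hα
  obtain ⟨S, hS⟩ := Formal27.exists_cover (X := X)
  haveI := hG.1
  let d : Algz14.RelData I X :=
    { F := F
      hF := hF
      G := G
      hG := hG
      B := Formal.completion I G
      hB := fun n => Formal27.isQuasicoherent_modPow G I (n + 1)
      μ := α
      ν := fun n => Formal.modPowπ I (n + 1) G
      hν := fun h => Algz14.completion_map_π G h }
  have hrel : ∀ W ∈ S, ∃ k, d.SecRel W.1 (t + 1) k := fun W _ => by
    refine ⟨0, ⟨fun h y g hy => d.rel_mono h y g hy, fun n y => ?_, fun n g hg => ?_,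
      fun n g hg => d.rel_zero (fun n a ha g => Formal27.modPowπ_app_smul ha g) n hg,
      fun n y hy r hr => d.rel_ker (fun n a ha y hy => Algz14.smul_ker_eq_zero _ (ht n).1 ha y hy) n _
        (d.rel_mono (Nat.le_add_right n 0) y 0 hy) hr,
      fun n g r hr => d.rel_coker (fun n a ha g => ?_) n g hr⟩⟩
    · obtain ⟨g, hg⟩ := Formal27.modPowπ_app_surjective (M := G) I (n + 1) W.2
        ((α.app (op n)).app W.1 (Algz14.sectTr F W.1 (Nat.le_add_right n 0) y))
      exact ⟨g, hg.symm⟩
    · rw [← Formal27.IM_eq]
      refine (Formal27.modPowπ_app_eq_zero_iff W.2 g).1 ?_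
      exact ((show (α.app (op n)).app W.1 0 = (Formal.modPowπ I (n + 1) G).app W.1 g from hg).symm).trans (map_zero _)
    · haveI := (hF.1 n).1
      haveI : ((Formal.completion I G).obj (op n)).IsQuasicoherent := Formal27.isQuasicoherent_modPow G I (n + 1)
      obtain ⟨y, hy⟩ := Algz14.exists_app_eq_smul (α.app (op n)) (ht n).2 W.2 ha
        ((Formal.modPowπ I (n + 1) G).app W.1 g)
      exact ⟨y, hy.trans (Scheme.Modules.Hom.app_smul (Formal.modPowπ I (n + 1) G) _ g).symm⟩
  obtain ⟨F', a, β, hF', h1, h2, h3, -⟩ := d.exists_algebraization S hS (t + 1) hrel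
  exact ⟨F', a, β, hF', ⟨t, h1, h2⟩, h3⟩

end Groth.Agent.S0829
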