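import Groth.Statements.S9498
import Groth.Agent.QC70.Closure
import Mathlib.Algebra.Homology.ShortComplex.ExactFunctor

set_option autoImplicit false
universe u
open AffSch

namespace Groth.Agent.S9498

open CategoryTheory Limits AlgebraicGeometry in
theorem mono_tilde_map {R : CommRingCat.{u}} {M N : ModuleCat.{u} R} (f : M ⟶ N) [Mono f] :
    Mono ((tilde.functor R).map f) := by
  have := QC70.isQuasicoherent_kernel (M := (tilde.functor R).obj M) (N := (tilde.functor R).obj N)
    ((tilde.functor R).map f)
  obtain ⟨K, ⟨e⟩⟩ := (isIso_fromTildeΓ_iff (R := R)
    (M := kernel ((tilde.functor R).map f))).mp inferInstance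
  obtain ⟨g, hg⟩ := (tilde.functor R).map_surjective (e.hom ≫ kernel.ι ((tilde.functor R).map f))
  have h0 : g ≫ f = 0 := (tilde.functor R).map_injective (by
    rw [Functor.map_comp, hg, Category.assoc, kernel.condition, comp_zero, Functor.map_zero])
  have hg0 : g = 0 := (cancel_mono f).mp (by rw [h0, zero_comp])
  refine Preadditive.mono_of_kernel_zero ?_
  rw [← cancel_epi e.hom, comp_zero, ← hg, hg0, Functor.map_zero]

open CategoryTheory Limits AlgebraicGeometry in
theorem tilde_exact (R : CommRingCat.{u}) :
    PreservesFiniteLimits (tilde.functor R) ∧ PreservesFiniteColimits (tilde.functor R) := by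
  have hc : PreservesFiniteColimits (tilde.functor R) := by
    have := (tilde.adjunction (R := R)).leftAdjoint_preservesColimits
    exact PreservesColimitsOfSize.preservesFiniteColimits.{u, u} (tilde.functor R)
  refine ⟨?_, hc⟩
  rw [Functor.preservesFiniteLimits_iff_forall_exact_map_and_mono]
  intro S hS
  have h := (Functor.preservesFiniteColimits_iff_forall_exact_map_and_epi
    (tilde.functor R)).mp hc S hS
  have := hS.mono_f
  exact ⟨h.1, mono_tilde_map S.f⟩


open AlgebraicGeometry in
open CategoryTheory Limits in
/-- For a commutative ring A, the functor M ↦ M~ from the category of A-modules to the category of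
O-modules on Spec A is exact, i.e. it preserves finite limits and finite colimits. -/
theorem result
    (A : Type u) [CommRing A] :
    PreservesFiniteLimits (tilde.functor (CommRingCat.of A)) ∧
      PreservesFiniteColimits (tilde.functor (CommRingCat.of A)) := by
  exact tilde_exact (CommRingCat.of A)

end Groth.Agent.S9498
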