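import Groth.Statements.S1787
import Groth.Agent.DR39.Dualizing3
import Groth.Agent.DR39.BC

set_option autoImplicit false
universe u
open CategoryTheory
attribute [local instance] HasDerivedCategory.standard
open Dual

namespace Groth.Agent.S1787

/-- Let A be a Noetherian ring and f_1, …, f_n elements generating the unit ideal. Let ω be an object of
D(A) such that for each i, assuming the derived base change functor D(A) → D(A_{f_i}) exists, the
base change of ω is a dualizing complex for A_{f_i}. Then ω is a dualizing complex for A. -/
theorem result (A : Type u) [CommRing A] [IsNoetherianRing A] (n : ℕ) (f : Fin n → A) (hf : Ideal.span (Set.range f) = ⊤) (ω : Dual.D A) (h : ∀ i : Fin n, ∃ _ : DRing.HasLBaseChange (algebraMap A (Localization.Away (f i))), Dual.IsDualizing (Localization.Away (f i)) ((DRing.LBaseChange (algebraMap A (Localization.Away (f i)))).obj ω)) : Dual.IsDualizing A ω := by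
  classical
  rcases isEmpty_or_nonempty (Fin n) with hn | hn
  · have hsub : Subsingleton A := by
      rw [Set.range_eq_empty, Ideal.span_empty] at hf
      exact subsingleton_of_bot_eq_top hf |> fun h => (Submodule.subsingleton_iff A).1 h
    haveI hz : ∀ (M : Type (u + 1)) [AddCommGroup M] [Module A M], Subsingleton M := fun M _ _ =>
      Module.subsingleton A M
    refine ⟨inferInstance, ⟨0, 0, fun M _ _ i _ => hz _⟩, fun i => ?_, ?_, fun i _ => hz _⟩
    · haveI : Subsingleton (Dual.HD A ω i) := Module.subsingleton A _
      exact Module.Finite.of_surjective (0 : A →ₗ[A] Dual.HD A ω i) (fun y => ⟨0, Subsingleton.elim _ _⟩)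
    · haveI := hz (ω ⟶ ω)
      exact ⟨fun _ _ _ => Subsingleton.elim _ _, fun y => ⟨0, Subsingleton.elim _ _⟩⟩
  choose hI hd using h
  haveI : ∀ i, Module.Flat A (Localization.Away (f i)) := fun i =>
    IsLocalization.flat _ (Submonoid.powers (f i))
  refine DR39.isDualizing_of_family (fun i : Fin n => Localization.Away (f i)) (fun M _ _ h => ?_)
    (DR39.isZero_of_away f hf) (DR39.finite_of_away f hf) fun i => ?_
  · refine subsingleton_of_forall_eq 0 fun m => ?_
    rw [← Submodule.mem_bot A]
    refine Submodule.mem_of_span_eq_top_of_smul_pow_mem _ (Set.range f) hf m fun x => ?_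
    obtain ⟨_, i, rfl⟩ := x
    haveI := h i
    obtain ⟨⟨_, k, rfl⟩, hk⟩ :=
      (IsLocalizedModule.eq_iff_exists (Submonoid.powers (f i))
        (TensorProduct.mk A (Localization.Away (f i)) M 1)).1
        (Subsingleton.elim ((TensorProduct.mk A (Localization.Away (f i)) M 1) m)
          ((TensorProduct.mk A (Localization.Away (f i)) M 1) 0))
    exact ⟨k, by simpa [Submonoid.smul_def] using hk⟩
  · haveI := hI i
    obtain ⟨e⟩ := DR39.lbcIso (Localization.Away (f i)) ω
    exact DR39.isDualizing_of_iso (hd i) e

end Groth.Agent.S1787
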