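import Groth.Prelude.Def_SGA4b
import Groth.Prelude.Def_EtOpen
import Groth.Agent.Unr55.Et.Open
import Mathlib.AlgebraicGeometry.Morphisms.Etale
import Mathlib.AlgebraicGeometry.Morphisms.UniversallyOpen

set_option autoImplicit false
open CategoryTheory CategoryTheory.Limits AlgebraicGeometry Opposite
universe u
namespace EtDesc
end EtDesc
open EtDesc

namespace Groth.Agent.S3896

set_option backward.isDefEq.respectTransparency.types false
variable {X : Scheme.{u}}

/-- The presheaf represented by an open. -/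
noncomputable abbrev repP (U : X.Etale) : X.Etaleᵒᵖ ⥤ Type (u + 1) := yoneda.obj U ⋙ uliftFunctor.{u + 1, u}

theorem subsingleton_repP (U : X.Opens) (W : X.Etale) : Subsingleton ((repP (EtDesc.ofOpen U)).obj (op W)) :=
  ⟨fun ⟨a⟩ ⟨b⟩ => by
    have h : a = b := MorphismProperty.Over.Hom.ext
      (Mono.right_cancellation (f := U.ι) a.left b.left ((Over.w a.hom).trans (Over.w b.hom).symm))
    rw [h]⟩

theorem covering_points {W : X.Etale} {S : Sieve W} (h : S ∈ X.smallEtaleTopology W) (w : W.left) :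
    ∃ (V : X.Etale) (g : V ⟶ W) (v : V.left), S g ∧ g.left v = w := by
  have e : X.smallEtaleTopology =
      (X.smallPretopology (P := EtCoh.etaleMP) (Q := EtCoh.etaleMP)).toGrothendieck :=
    Scheme.smallGrothendieckTopology_eq_toGrothendieck_smallPretopology X le_rfl
  rw [e] at h
  obtain ⟨V, g, v, h1, -, h2⟩ := (Scheme.mem_toGrothendieck_smallPretopology W S).1 h w
  exact ⟨V, g, v, h1, h2⟩

theorem mono_of_subsingleton (F : EtDesc.Sh X) (h : ∀ W, Subsingleton (F.obj.obj (op W))) :
    Mono (terminal.from F) :=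
  ⟨fun a b _ => Sheaf.hom_ext (NatTrans.ext (funext fun W => ConcreteCategory.hom_ext _ _ fun s =>
    (h W.unop).elim _ _))⟩

theorem subsingleton_repSh (U : X.Opens) (W : X.Etale) :
    Subsingleton ((EtDesc.repSh (EtDesc.ofOpen U)).obj.obj (op W)) := by
  refine ⟨fun s t => ?_⟩
  let F := EtDesc.repSh (EtDesc.ofOpen U)
  let η : repP (EtDesc.ofOpen U) ⟶ F.obj := toSheafify X.smallEtaleTopology (repP (EtDesc.ofOpen U))
  have hS := X.smallEtaleTopology.intersection_covering
    (Presheaf.imageSieve_mem X.smallEtaleTopology η s) (Presheaf.imageSieve_mem X.smallEtaleTopology η t)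
  refine (((isSheaf_iff_isSheaf_of_type _ _).1 F.property) _ hS).isSeparatedFor.ext fun V g ⟨⟨a, ha⟩, ⟨b, hb⟩⟩ => ?_
  rw [← ha, ← hb, (subsingleton_repP U V).elim a b]

theorem subsingleton_of_mono (F : EtDesc.Sh X) [Mono (terminal.from F)] (W : X.Etale) :
    Subsingleton (F.obj.obj (op W)) := by
  refine ⟨fun s t => ?_⟩
  let adj := sheafificationAdjunction X.smallEtaleTopology (Type (u + 1))
  let φ : F.obj.obj (op W) → (repP W ⟶ F.obj) := fun r =>
    { app := fun V => TypeCat.ofHom fun g => F.obj.map g.down.op r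
      naturality := fun V V' k => ConcreteCategory.hom_ext _ _ fun g => by
        show F.obj.map (k.unop ≫ g.down).op r = F.obj.map k (F.obj.map g.down.op r)
        rw [op_comp, Functor.map_comp]
        rfl }
  have h : (adj.homEquiv _ _).symm (φ s) = (adj.homEquiv _ _).symm (φ t) :=
    Mono.right_cancellation (f := terminal.from F) _ _ (Subsingleton.elim _ _)
  have h2 := congrArg (fun k : repP W ⟶ F.obj => k.app (op W) ⟨𝟙 W⟩) ((adj.homEquiv _ _).symm.injective h)
  simpa [φ] using h2

/-- The inclusion into a larger range. -/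
noncomputable def liftOpenEt (U : X.Opens) {W : X.Etale} (h : Set.range W.hom ⊆ (U : Set X)) :
    W ⟶ EtDesc.ofOpen U :=
  let l : W.left ⟶ (U : Scheme.{u}) := IsOpenImmersion.lift (U.ι : (U : Scheme.{u}) ⟶ X) (W.hom : W.left ⟶ X) (h.trans U.range_ι.ge)
  MorphismProperty.Over.homMk l (IsOpenImmersion.lift_fac (U.ι : (U : Scheme.{u}) ⟶ X) (W.hom : W.left ⟶ X) _) trivial

theorem range_subset_of_hom {U : X.Opens} {W : X.Etale} (g : W ⟶ EtDesc.ofOpen U) :
    Set.range W.hom ⊆ (U : Set X) := by
  rintro _ ⟨w, rfl⟩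
  have h : g.left ≫ U.ι = W.hom := Over.w g.hom
  rw [← h]
  exact (g.left w).2

theorem nonempty_of_local (F : EtDesc.Sh X) [Mono (terminal.from F)] {W : X.Etale}
    (h : ∀ w : W.left, ∃ (V : X.Etale) (g : V ⟶ W) (v : V.left), g.left v = w ∧ Nonempty (F.obj.obj (op V))) :
    Nonempty (F.obj.obj (op W)) := by
  let S : Sieve W :=
    { arrows := fun V g => Nonempty (F.obj.obj (op V))
      downward_closed := fun {V V' g} ⟨s⟩ k => ⟨F.obj.map k.op s⟩ }
  have hS : S ∈ X.smallEtaleTopology W := Unr55.EtSh.mem_topology fun w => by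
    obtain ⟨V, g, v, h1, h2⟩ := h w
    exact ⟨V, g, v, h2, h1⟩
  let x : Presieve.FamilyOfElements F.obj S.arrows := fun V g hg => hg.some
  exact ⟨(((isSheaf_iff_isSheaf_of_type _ _).1 F.property) S hS).amalgamate x
    fun _ _ Z _ _ _ _ _ _ _ => (subsingleton_of_mono F Z).elim _ _⟩

/-- The open where a subterminal sheaf has sections. -/
def suppOpen (F : EtDesc.Sh X) : X.Opens :=
  ⟨⋃ (W : X.Etale) (_ : Nonempty (F.obj.obj (op W))), Set.range W.hom,
    isOpen_iUnion fun W => isOpen_iUnion fun _ => by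
      have : Etale W.hom := W.prop
      exact W.hom.isOpenMap.isOpen_range⟩

theorem nonempty_iff (F : EtDesc.Sh X) [Mono (terminal.from F)] (W : X.Etale) :
    Nonempty (F.obj.obj (op W)) ↔ Set.range W.hom ⊆ (suppOpen F : Set X) := by
  refine ⟨fun h x hx => Set.mem_iUnion₂.2 ⟨W, h, hx⟩, fun h => nonempty_of_local F fun w => ?_⟩
  obtain ⟨W0, ⟨s⟩, w0, hw0⟩ := Set.mem_iUnion₂.1 (h ⟨w, rfl⟩)
  have h1 : Etale W.hom := W.prop
  have h0 : Etale W0.hom := W0.prop
  obtain ⟨z, hz, -⟩ := Scheme.Pullback.exists_preimage_pullback (f := W.hom) (g := W0.hom) w w0 hw0.symm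
  let P : X.Etale := Scheme.Etale.mk (pullback.fst W.hom W0.hom ≫ W.hom)
  let q : P ⟶ W0 := MorphismProperty.Over.homMk (pullback.snd W.hom W0.hom) pullback.condition.symm trivial
  exact ⟨P, MorphismProperty.Over.homMk (pullback.fst W.hom W0.hom) rfl trivial, z, hz, ⟨F.obj.map q.op s⟩⟩


/-- Let X be a scheme. Sending a Zariski open U of X to the etale sheaf of sets attached to the open
immersion U -> X gives an isomorphism of ordered sets from the opens of X onto the subobjects of the
final object of the etale topos of X: (a) each such sheaf is a subobject of the final sheaf; (b) U ≤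
V if and only if there is a morphism between the attached sheaves; (c) every subobject of the final
sheaf is isomorphic to the sheaf attached to some open. -/
theorem result (X : Scheme.{u}) :
    (∀ U : X.Opens, Mono (terminal.from (EtDesc.repSh (EtDesc.ofOpen U)))) ∧
    (∀ U V : X.Opens, U ≤ V ↔ Nonempty (EtDesc.repSh (EtDesc.ofOpen U) ⟶ EtDesc.repSh (EtDesc.ofOpen V))) ∧
    (∀ F : EtDesc.Sh X, Mono (terminal.from F) → ∃ U : X.Opens, Nonempty (F ≅ EtDesc.repSh (EtDesc.ofOpen U))) := by
  refine ⟨fun U => mono_of_subsingleton _ (subsingleton_repSh U), fun U V => ⟨fun h => ?_, ?_⟩, fun F hF => ?_⟩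
  · exact ⟨(presheafToSheaf X.smallEtaleTopology (Type (u + 1))).map (Functor.whiskerRight (yoneda.map
      (liftOpenEt V (W := EtDesc.ofOpen U) (U.range_ι.le.trans h))) uliftFunctor.{u + 1, u})⟩
  · rintro ⟨φ⟩ x hx
    let η := toSheafify X.smallEtaleTopology (repP (EtDesc.ofOpen U))
    let η' := toSheafify X.smallEtaleTopology (repP (EtDesc.ofOpen V))
    obtain ⟨W, g, w, ⟨a, -⟩, hw⟩ := covering_points (Presheaf.imageSieve_mem X.smallEtaleTopology η'
      (φ.hom.app (op (EtDesc.ofOpen U)) (η.app (op (EtDesc.ofOpen U)) ⟨𝟙 _⟩))) (show (EtDesc.ofOpen U).left from (⟨x, hx⟩ : ↥U))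
    refine range_subset_of_hom a.down ⟨w, ?_⟩
    have h : g.left ≫ U.ι = W.hom := Over.w g.hom
    rw [← h]
    exact congrArg U.ι hw
  · let adj := sheafificationAdjunction X.smallEtaleTopology (Type (u + 1))
    let α : F ⟶ EtDesc.repSh (EtDesc.ofOpen (suppOpen F)) :=
      ⟨{ app := fun W => TypeCat.ofHom fun s => (toSheafify X.smallEtaleTopology (repP (EtDesc.ofOpen (suppOpen F)))).app W
            ⟨liftOpenEt _ ((nonempty_iff F W.unop).1 ⟨s⟩)⟩
         naturality := fun V V' k => ConcreteCategory.hom_ext _ _ fun s => (subsingleton_repSh _ V'.unop).elim _ _ }⟩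
    let β₀ : repP (EtDesc.ofOpen (suppOpen F)) ⟶ F.obj :=
      { app := fun W => TypeCat.ofHom fun g => ((nonempty_iff F W.unop).2 (range_subset_of_hom g.down)).some
        naturality := fun V V' k => ConcreteCategory.hom_ext _ _ fun s => (subsingleton_of_mono F V'.unop).elim _ _ }
    exact ⟨suppOpen F, ⟨⟨α, (adj.homEquiv _ _).symm β₀,
      Sheaf.hom_ext (NatTrans.ext (funext fun W => ConcreteCategory.hom_ext _ _ fun s => (subsingleton_of_mono F W.unop).elim _ _)),
      Sheaf.hom_ext (NatTrans.ext (funext fun W => ConcreteCategory.hom_ext _ _ fun s => (subsingleton_repSh _ W.unop).elim _ _))⟩⟩⟩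

end Groth.Agent.S3896
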