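import Groth.Statements.S1803
import Groth.Agent.Gor18.FieldExt


set_option autoImplicit false
universe u
open scoped TensorProduct
open Goren

namespace Groth.Agent.S1803

/-- Let k'/k be any field extension, C a k-algebra of finite type, q a prime of C ⊗_k k' and p its
contraction to C. Then C_p is Gorenstein if and only if (C ⊗_k k')_q is Gorenstein. -/
theorem result (k k' : Type u) [Field k] [Field k'] [Algebra k k'] (C : Type u) [CommRing C] [Algebra k C] [Algebra.FiniteType k C] (q : PrimeSpectrum (C ⊗[k] k')) : LocCoh.IsGorensteinLocalRing (Localization.AtPrime (q.asIdeal.comap (algebraMap C (C ⊗[k] k')))) ↔ LocCoh.IsGorensteinLocalRing (Localization.AtPrime q.asIdeal) := by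
  have : IsNoetherianRing C := Algebra.FiniteType.isNoetherianRing k C
  have hN : IsNoetherianRing (C ⊗[k] k') := by
    have : IsNoetherianRing (k' ⊗[k] C) := Algebra.FiniteType.isNoetherianRing k' _
    exact isNoetherianRing_of_ringEquiv _ (Algebra.TensorProduct.comm k k' C).toRingEquiv
  constructor
  · intro h
    refine Gor18.gor_atPrime_of_fibre q.asIdeal h ?_
    let p := q.asIdeal.under C
    have : Algebra.EssFiniteType k p.ResidueField := Algebra.EssFiniteType.comp k C _
    have hfg : ∃ s : Finset p.ResidueField, IntermediateField.adjoin k (s : Set p.ResidueField) = ⊤ :=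
      IntermediateField.fg_top_iff.2 this
    have := Gor18.gorRing_of_pid k'
    have := Gor18.gorRing_tensor_fg k p.ResidueField k' hfg
    exact Gor18.gorRing_of_ringEquiv (Algebra.TensorProduct.cancelBaseChange k C C
      p.ResidueField k').toRingEquiv.symm
  · exact fun h => Gor18.gor_base_of_flat (R := C) q.asIdeal h

end Groth.Agent.S1803
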