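import Groth.Statements.S5998
import Groth.Agent.Sga84.SmoothQuot

set_option autoImplicit false
universe u
open TensorProduct
open SGA1

namespace Groth.Agent.S5998

open TensorProduct in
/-- Let R be a Noetherian ring, A a smooth R-algebra, I an ideal of A, P a prime ideal of A/I and q its
preimage in A. Then A/I is smooth over R at P (that is, the local ring of A/I at P is formally
smooth over R) exactly when there are finitely many elements g_1, ..., g_p of I generating the ideal
I·A_q whose differentials dg_i have linearly independent images in κ(q) ⊗_A Ω_{A/R}. -/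
theorem result
    (R A : Type u) [CommRing R] [CommRing A] [IsNoetherianRing R] [Algebra R A] [Algebra.Smooth R A]
    (I : Ideal A) (P : Ideal (A ⧸ I)) [P.IsPrime] :
    letI q : Ideal A := P.comap (Ideal.Quotient.mk I)
    Algebra.IsSmoothAt R P ↔ ∃ s : Finset A, (↑s : Set A) ⊆ (I : Set A) ∧
      Ideal.map (algebraMap A (Localization.AtPrime q)) I =
        Ideal.span ((algebraMap A (Localization.AtPrime q)) '' (↑s : Set A)) ∧
      LinearIndependent q.ResidueField
        (fun g : ↥s => (1 : q.ResidueField) ⊗ₜ[A] KaehlerDifferential.D R A (g : A)) := by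
  classical
  let q : Ideal A := P.comap (Ideal.Quotient.mk I)
  have : P.LiesOver q := ⟨rfl⟩
  have : IsNoetherianRing A := Algebra.FiniteType.isNoetherianRing R A
  let L := Localization.AtPrime q
  let S := Localization.AtPrime P
  let algLS : Algebra L S := Localization.AtPrime.algebraOfLiesOver q P
  have hmap : ∀ a : A, algebraMap L S (algebraMap A L a) = algebraMap (A ⧸ I) S (Ideal.Quotient.mk I a) :=
    fun a => Localization.localRingHom_to_map _ _ _ _ a
  have : IsScalarTower A L S := .of_algebraMap_eq fun a => (IsScalarTower.algebraMap_apply A (A ⧸ I) S a).trans (hmap a).symm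
  have : IsScalarTower R L S := .of_algebraMap_eq fun a => by
    rw [IsScalarTower.algebraMap_apply R A L, hmap, IsScalarTower.algebraMap_apply R (A ⧸ I) S]
    rfl
  have hsurj : Function.Surjective (algebraMap L S) := fun z => by
    obtain ⟨x, y, rfl⟩ := IsLocalization.exists_mk'_eq P.primeCompl z
    obtain ⟨a, rfl⟩ := Ideal.Quotient.mk_surjective x
    obtain ⟨y, hy⟩ := y
    obtain ⟨b, rfl⟩ := Ideal.Quotient.mk_surjective y
    refine ⟨IsLocalization.mk' L a (⟨b, fun h => hy h⟩ : q.primeCompl), ?_⟩
    show Localization.localRingHom q P (Ideal.Quotient.mk I) _ (IsLocalization.mk' L a _) = _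
    rw [Localization.localRingHom_mk']
  have hker : RingHom.ker (algebraMap L S) = I.map (algebraMap A L) := by
    refine le_antisymm (fun z hz => ?_) ?_
    · obtain ⟨a, s, rfl⟩ := IsLocalization.exists_mk'_eq q.primeCompl z
      have h0 : algebraMap (A ⧸ I) S (Ideal.Quotient.mk I a) = 0 := by
        rw [← hmap, ← IsLocalization.mk'_spec L a s, map_mul, RingHom.mem_ker.mp hz, zero_mul]
      obtain ⟨⟨t, ht⟩, hta⟩ := (IsLocalization.map_eq_zero_iff P.primeCompl S _).mp h0
      obtain ⟨t, rfl⟩ := Ideal.Quotient.mk_surjective t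
      rw [← map_mul, Ideal.Quotient.eq_zero_iff_mem] at hta
      rw [IsLocalization.mk'_mem_iff]
      refine (Ideal.unit_mul_mem_iff_mem _ (IsLocalization.map_units L (⟨t, fun h => ht h⟩ : q.primeCompl))).mp ?_
      rw [← map_mul]
      exact Ideal.mem_map_of_mem _ hta
    · rw [Ideal.map_le_iff_le_comap]
      intro a ha
      rw [Ideal.mem_comap, RingHom.mem_ker, hmap, Ideal.Quotient.eq_zero_iff_mem.mpr ha, map_zero]
  have : Algebra.FormallySmooth R L := .comp R A L
  have : Algebra.EssFiniteType R L := .comp R A L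
  have hg : RingHom.ker (algebraMap L S) = Ideal.span (Set.range fun x : I => algebraMap A L x) := by
    rw [hker, Ideal.map]
    congr 1
    ext z
    simp
  have hIfg : I.FG := IsNoetherian.noetherian I
  refine (Groth.Agent.SmoothQuot84.formallySmooth_iff R L S hsurj (hker ▸ hIfg.map _) _ hg).trans ?_
  let e : q.ResidueField ⊗[L] Ω[L⁄R] ≃ₗ[q.ResidueField] q.ResidueField ⊗[A] Ω[A⁄R] :=
    ((AlgebraTensorModule.congr (LinearEquiv.refl q.ResidueField q.ResidueField)
      (KaehlerDifferential.tensorKaehlerEquivOfFormallyEtale R A L).symm).trans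
      (AlgebraTensorModule.cancelBaseChange A L q.ResidueField q.ResidueField _))
  have he : ∀ F : A, e ((1 : q.ResidueField) ⊗ₜ[L] KaehlerDifferential.D R L (algebraMap A L F)) =
      (1 : q.ResidueField) ⊗ₜ[A] KaehlerDifferential.D R A F := by
    intro F
    have h : (KaehlerDifferential.tensorKaehlerEquivOfFormallyEtale R A L).symm
        (KaehlerDifferential.D R L (algebraMap A L F)) = 1 ⊗ₜ KaehlerDifferential.D R A F := by
      rw [LinearEquiv.symm_apply_eq]
      simp [KaehlerDifferential.tensorKaehlerEquivOfFormallyEtale]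
    simp [e, h]
  have key : ∀ (t : Finset I), LinearIndependent q.ResidueField
        (fun j : ↥t => (1 : q.ResidueField) ⊗ₜ[L] KaehlerDifferential.D R L (algebraMap A L ((j : I) : A))) ↔
      LinearIndependent q.ResidueField
        (fun g : ↥(t.map (Function.Embedding.subtype (· ∈ I))) =>
          (1 : q.ResidueField) ⊗ₜ[A] KaehlerDifferential.D R A (g : A)) := by
    intro t
    rw [← LinearMap.linearIndependent_iff e.toLinearMap e.ker]
    refine (linearIndependent_equiv' (Equiv.ofBijective
      (fun j : ↥t => (⟨((j : I) : A), Finset.mem_map.mpr ⟨j.1, j.2, rfl⟩⟩ :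
        ↥(t.map (Function.Embedding.subtype (· ∈ I))))) ⟨fun i j h => ?_, fun ⟨a, ha⟩ => ?_⟩)
      (funext fun j => (he _).symm))
    · exact Subtype.ext (Subtype.ext (congrArg Subtype.val h :))
    · obtain ⟨i, hi, rfl⟩ := Finset.mem_map.mp ha
      exact ⟨⟨i, hi⟩, rfl⟩
  constructor
  · rintro ⟨t, ht, hli⟩
    refine ⟨t.map (Function.Embedding.subtype (· ∈ I)), fun a ha => ?_, ?_, (key t).mp hli⟩
    · obtain ⟨i, -, rfl⟩ := Finset.mem_map.mp (Finset.mem_coe.mp ha)
      exact i.2
    · rw [← hker, ht, Finset.coe_map, Set.image_image]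
      rfl
  · rintro ⟨s, hs, hgen, hli⟩
    obtain ⟨t, rfl⟩ : ∃ t : Finset I, t.map (Function.Embedding.subtype (· ∈ I)) = s :=
      ⟨s.subtype (· ∈ I), Finset.subtype_map_of_mem fun a ha => hs ha⟩
    refine ⟨t, ?_, (key t).mpr hli⟩
    rw [hker, hgen, Finset.coe_map, Set.image_image]
    rfl

end Groth.Agent.S5998
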