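import Groth.Statements.S13598
import Groth.Agent.Henz21.Quotient
-- import your own Groth.Agent.* helpers here

set_option autoImplicit false
universe u
open Hensel

namespace Groth.Agent.S13598

/-- For a local ring A, a henselization A ⟶ S of A (S a henselian local ring, the structure map local,
and initial among local homomorphisms from A to henselian local rings) and an ideal I of A inside
the maximal ideal, the quotient S/IS with its induced algebra structure over A/I is a henselization
of A/I. (The local-ring and local-homomorphism instances on the quotients hold automatically; they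
are taken as hypotheses only so that the conclusion can be stated.) -/
theorem result {A S : Type u} [CommRing A] [IsLocalRing A] [CommRing S]
    [IsLocalRing S] [Algebra A S] [IsLocalHom (algebraMap A S)] [Hensel.IsHenselization A S]
    (I : Ideal A) (hI : I ≤ IsLocalRing.maximalIdeal A)
    [IsLocalRing (A ⧸ I)] [IsLocalRing (S ⧸ I.map (algebraMap A S))]
    [IsLocalHom (algebraMap (A ⧸ I) (S ⧸ I.map (algebraMap A S)))] :
    Hensel.IsHenselization (A ⧸ I) (S ⧸ I.map (algebraMap A S)) := by
  have hS := (inferInstance : Hensel.IsHenselization A S)
  haveI := hS.henselian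
  refine ⟨Henz21.henselianLocalRing_of_surjective _ Ideal.Quotient.mk_surjective,
    fun T _ _ f hf => ?_⟩
  haveI := hf
  haveI : IsLocalHom (Ideal.Quotient.mk I) := IsLocalHom.of_surjective _ Ideal.Quotient.mk_surjective
  obtain ⟨g, hg, hgu⟩ := hS.universal T (f.comp (Ideal.Quotient.mk I)) (RingHom.isLocalHom_comp _ _)
  have hker : ∀ x ∈ I.map (algebraMap A S), g x = 0 := fun x hx =>
    (Ideal.map_le_iff_le_comap.mpr fun a ha => by
      rw [Ideal.mem_comap, RingHom.mem_ker, ← RingHom.comp_apply, hg, RingHom.comp_apply,
        Ideal.Quotient.eq_zero_iff_mem.mpr ha, map_zero] : I.map (algebraMap A S) ≤ RingHom.ker g) hx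
  refine ⟨Ideal.Quotient.lift _ g hker, Ideal.Quotient.ringHom_ext ?_, fun g' hg' => ?_⟩
  · rw [← hg]
    ext a
    rfl
  · refine Ideal.Quotient.ringHom_ext ?_
    rw [Ideal.Quotient.lift_comp_mk]
    refine hgu _ ?_
    rw [← hg']
    ext a
    rfl

end Groth.Agent.S13598
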