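import Groth.Statements.S9143
import Groth.Agent.RelGCI94.SyntLocal

set_option autoImplicit false
universe u
open Synt

namespace Groth.Agent.S9143

open IsLocalRing Groth.Agent.RelGCI94

variable (k S : Type u) [Field k] [CommRing S] [IsLocalRing S] [Algebra k S] [Algebra.EssFiniteType k S]

theorem exists_pres : ∃ (ι : Type u) (_ : Finite ι) (P : Ideal (MvPolynomial ι k)) (_ : P.IsPrime)
    (Φ : Localization.AtPrime P →ₐ[k] S), Function.Surjective Φ := by
  classical
  let σ := Algebra.EssFiniteType.finset k S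
  obtain ⟨Φ, hΦ, -⟩ := exists_surjective_localization (R := S) (MvPolynomial.aeval (fun s : ↥σ => (s : S)))
    fun s hs => ⟨MvPolynomial.X ⟨s, hs⟩, MvPolynomial.aeval_X _ _⟩
  exact ⟨↥σ, inferInstance, _, inferInstance, Φ, hΦ⟩

theorem exists_model {ι : Type u} [Finite ι] (P : Ideal (MvPolynomial ι k)) [P.IsPrime]
    (Φ : Localization.AtPrime P →ₐ[k] S) (hΦ : Function.Surjective Φ) :
    ∃ (A : Type u) (_ : CommRing A) (_ : Algebra k A) (a : Ideal A) (_ : a.IsPrime),
      Algebra.FiniteType k A ∧ Nonempty (S ≃ₐ[k] Localization.AtPrime a) := by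
  let K := RingHom.ker Φ
  let J : Ideal (MvPolynomial ι k) := K.comap (algebraMap _ (Localization.AtPrime P))
  have hJP : J ≤ P := fun x hx => by
    have h1 : algebraMap _ (Localization.AtPrime P) x ∈ maximalIdeal _ :=
      IsLocalRing.le_maximalIdeal (RingHom.ker_ne_top Φ.toRingHom) hx
    exact (IsLocalization.AtPrime.to_map_mem_maximal_iff (Localization.AtPrime P) P x).1 h1
  let q : Ideal (MvPolynomial ι k ⧸ J) := P.map (Ideal.Quotient.mk J)
  have hker : RingHom.ker (Ideal.Quotient.mk J) ≤ P := by rwa [Ideal.mk_ker]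
  have : q.IsPrime := Ideal.map_isPrime_of_surjective Ideal.Quotient.mk_surjective hker
  have hPq : P = q.comap (Ideal.Quotient.mk J) := by
    rw [Ideal.comap_map_of_surjective _ Ideal.Quotient.mk_surjective, ← RingHom.ker_eq_comap_bot, sup_eq_left.2 hker]
  have hK : J.map (algebraMap _ (Localization.AtPrime P)) = K :=
    IsLocalization.map_comap P.primeCompl (Localization.AtPrime P) K
  let JL := J.map (algebraMap (MvPolynomial ι k) (Localization.AtPrime P))
  have := Gor18.isLocalization_atPrime_quotient P (Localization.AtPrime P) J q hPq.symm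
  let e₀ : (Localization.AtPrime P ⧸ JL) ≃ₐ[k] S :=
    (Ideal.quotientEquivAlgOfEq k hK).trans (Ideal.quotientKerAlgEquivOfSurjective hΦ)
  exact ⟨_, inferInstance, inferInstance, q, inferInstance, inferInstance,
    ⟨e₀.symm.trans (AlgEquiv.ofRingEquiv
      (f := (IsLocalization.algEquiv q.primeCompl (Localization.AtPrime P ⧸ JL) (Localization.AtPrime q)).toRingEquiv)
      fun r => by
        show (IsLocalization.algEquiv q.primeCompl (Localization.AtPrime P ⧸ JL) (Localization.AtPrime q))
          (Ideal.Quotient.mk JL (algebraMap k (Localization.AtPrime P) r)) = _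
        rw [IsScalarTower.algebraMap_apply k (MvPolynomial ι k ⧸ J) (Localization.AtPrime q),
          ← (IsLocalization.algEquiv q.primeCompl (Localization.AtPrime P ⧸ JL) (Localization.AtPrime q)).commutes]
        rfl)⟩⟩

theorem tfae :
    (Synt.IsCIOver k S ↔
        ∀ (R : Type u) [CommRing R] [IsRegularLocalRing R] [Algebra k R], Algebra.EssFiniteType k R →
          ∀ π : R →ₐ[k] S, Function.Surjective π →
            ∃ rs : List R, RingTheory.Sequence.IsRegular R rs ∧ RingHom.ker π.toRingHom = Ideal.ofList rs) ∧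
      (Synt.IsCIOver k S ↔
        ∃ (R : Type u) (_ : CommRing R) (_ : IsRegularLocalRing R) (_ : Algebra k R),
          Algebra.EssFiniteType k R ∧ ∃ π : R →ₐ[k] S, Function.Surjective π ∧
            ∃ rs : List R, RingHom.ker π.toRingHom = Ideal.ofList rs ∧
              ringKrullDim R = ringKrullDim S + (rs.length : WithBot ℕ∞)) ∧
      (Synt.IsCIOver k S ↔
        ∃ (A : Type u) (_ : CommRing A) (_ : Algebra k A) (a : Ideal A) (_ : a.IsPrime),
          Algebra.FiniteType k A ∧ Synt.IsGlobalCI k A ∧ Nonempty (S ≃ₐ[k] Localization.AtPrime a)) ∧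
      (Synt.IsCIOver k S ↔
        ∃ (A : Type u) (_ : CommRing A) (_ : Algebra k A) (a : Ideal A) (_ : a.IsPrime),
          Synt.IsLCIOver k A ∧ Nonempty (S ≃ₐ[k] Localization.AtPrime a)) := by
  obtain ⟨ι, _, P, _, Φ, hΦ⟩ := exists_pres k S
  have : Algebra.EssFiniteType (MvPolynomial ι k) (Localization.AtPrime P) :=
    Algebra.EssFiniteType.of_isLocalization _ P.primeCompl
  have : Algebra.EssFiniteType k (Localization.AtPrime P) :=
    Algebra.EssFiniteType.comp k (MvPolynomial ι k) _
  have hdim : ∀ (R : Type u) [CommRing R] [Algebra k R] (π : R →ₐ[k] S), Function.Surjective π →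
      ringKrullDim (R ⧸ RingHom.ker π) = ringKrullDim S := fun R _ _ π hπ =>
    ringKrullDim_eq_of_ringEquiv (Ideal.quotientKerAlgEquivOfSurjective hπ).toRingEquiv
  have h3 : Synt.IsCIOver k S →
      ∃ (A : Type u) (_ : CommRing A) (_ : Algebra k A) (a : Ideal A) (_ : a.IsPrime),
        Algebra.FiniteType k A ∧ Synt.IsGlobalCI k A ∧ Nonempty (S ≃ₐ[k] Localization.AtPrime a) := fun h => by
    obtain ⟨A, _, _, a, _, hA, ⟨e⟩⟩ := exists_model k S P Φ hΦ
    obtain ⟨g, hg, hG⟩ := exists_globalCI_nhd a (isCIOver_congr e h)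
    obtain ⟨Q₁, hQ₁, -, ⟨e₁⟩⟩ := exists_prime_away (k := k) g a hg
    exact ⟨_, inferInstance, inferInstance, Q₁, hQ₁, (isLCIOver_of_isGlobalCI hG).1, hG, ⟨e.trans e₁⟩⟩
  refine ⟨⟨fun h R _ _ _ hR π hπ => ?_, fun h => ?_⟩, ⟨fun h => ?_, ?_⟩, ⟨h3, ?_⟩, ⟨fun h => ?_, ?_⟩⟩
  · obtain ⟨rs, -, hreg, hrs⟩ := ((isCIOver_iff π hπ).1 h).exists_isRegular (RingHom.ker_ne_top π.toRingHom)
    exact ⟨rs, hreg, hrs.symm⟩
  · obtain ⟨rs, hreg, hrs⟩ := h (Localization.AtPrime P) inferInstance Φ hΦ
    refine (isCIOver_iff Φ hΦ).2 ((show RingHom.ker Φ = Ideal.ofList rs from hrs) ▸ countCI_of_isRegular ?_ hreg.toIsWeaklyRegular)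
    exact fun r hr => IsLocalRing.le_maximalIdeal (RingHom.ker_ne_top Φ.toRingHom) (hrs ▸ Ideal.subset_span hr)
  · obtain ⟨r, g, hg, hm, hd⟩ := ((isCIOver_iff Φ hΦ).1 h).exists_span (RingHom.ker_ne_top Φ.toRingHom)
    refine ⟨_, inferInstance, inferInstance, inferInstance, inferInstance, Φ, hΦ, List.ofFn g, ?_, ?_⟩
    · rw [Ideal.ofList]
      refine hg.symm.trans (congrArg Ideal.span ?_)
      ext x
      simp
    · rw [List.length_ofFn, ← hd, hdim _ Φ hΦ]
  · rintro ⟨R, _, _, _, hR, π, hπ, rs, hrs, hd⟩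
    refine (isCIOver_iff π hπ).2 ?_
    have e : Ideal.span (Set.range rs.get) = RingHom.ker π := by
      rw [Set.range_list_get]; exact hrs.symm
    rw [← e]
    refine countCI_of_span rs.get (fun i =>
      IsLocalRing.le_maximalIdeal (RingHom.ker_ne_top π.toRingHom) (hrs.ge (Ideal.subset_span (rs.get_mem i)))) ?_
    rw [e, hdim R π hπ, hd]
  · rintro ⟨A, _, _, a, _, -, hG, ⟨e⟩⟩
    exact isCIOver_congr e.symm (isCIOver_atPrime_of_isGlobalCI hG a)
  · obtain ⟨A, i₁, i₂, a, i₃, -, hG, he⟩ := h3 h
    exact ⟨A, i₁, i₂, a, i₃, isLCIOver_of_isGlobalCI hG, he⟩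
  · rintro ⟨A, _, _, a, _, hG, ⟨e⟩⟩
    exact isCIOver_congr e.symm (isCIOver_atPrime_of_isLCIOver hG a)

/-- For a local k-algebra S which is essentially of finite type over a field k, being a complete
intersection over k is equivalent to each of: (2) whenever a regular local ring R, essentially of
finite type over k, maps onto S by a surjective k-algebra map, the kernel is generated by a regular
sequence; (3) some regular local ring R, essentially of finite type over k, maps onto S by a
surjective k-algebra map whose kernel is generated by a list of dim R − dim S elements (stated as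
dim R = dim S + the length of the list); (4) S is isomorphic over k to a localization at a prime of
a global complete intersection over k; (5) the same with a local complete intersection over k. -/
theorem result (k S : Type u) [Field k] [CommRing S]
    [IsLocalRing S] [Algebra k S] [Algebra.EssFiniteType k S] :
    (Synt.IsCIOver k S ↔
        ∀ (R : Type u) [CommRing R] [IsRegularLocalRing R] [Algebra k R], Algebra.EssFiniteType k R →
          ∀ π : R →ₐ[k] S, Function.Surjective π →
            ∃ rs : List R, RingTheory.Sequence.IsRegular R rs ∧ RingHom.ker π.toRingHom = Ideal.ofList rs) ∧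
      (Synt.IsCIOver k S ↔
        ∃ (R : Type u) (_ : CommRing R) (_ : IsRegularLocalRing R) (_ : Algebra k R),
          Algebra.EssFiniteType k R ∧ ∃ π : R →ₐ[k] S, Function.Surjective π ∧
            ∃ rs : List R, RingHom.ker π.toRingHom = Ideal.ofList rs ∧
              ringKrullDim R = ringKrullDim S + (rs.length : WithBot ℕ∞)) ∧
      (Synt.IsCIOver k S ↔
        ∃ (A : Type u) (_ : CommRing A) (_ : Algebra k A) (a : Ideal A) (_ : a.IsPrime),
          Algebra.FiniteType k A ∧ Synt.IsGlobalCI k A ∧ Nonempty (S ≃ₐ[k] Localization.AtPrime a)) ∧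
      (Synt.IsCIOver k S ↔
        ∃ (A : Type u) (_ : CommRing A) (_ : Algebra k A) (a : Ideal A) (_ : a.IsPrime),
          Synt.IsLCIOver k A ∧ Nonempty (S ≃ₐ[k] Localization.AtPrime a)) := by
  exact tfae k S

end Groth.Agent.S9143
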