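import Groth.Statements.S9365
import Groth.Agent.RelGCI94.SyntProperty
import Mathlib.AlgebraicGeometry.Fiber
import Mathlib.AlgebraicGeometry.Morphisms.Flat
import Mathlib.AlgebraicGeometry.Morphisms.FinitePresentation

set_option autoImplicit false
universe u
open Synt

namespace Groth.Agent.S9365

open AlgebraicGeometry CategoryTheory Limits Groth.Agent.RelGCI94

theorem aux {R S : Type u} [CommRing R] [CommRing S] [Algebra R S] [Module.Flat R S] [Algebra.FinitePresentation R S]
    (h : ∀ p : PrimeSpectrum R, Synt.IsSyntomic p.asIdeal.ResidueField (p.asIdeal.Fiber S)) :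
    Synt.IsSyntomic R S := by
  refine ⟨inferInstance, inferInstance, fun p => ?_⟩
  refine isLCIOver_iff.2 ⟨inferInstance, fun Q => ?_⟩
  obtain ⟨a, ha, n, c, F, hF, ⟨e⟩⟩ := exists_relGCI_at (h p) Q.asIdeal
  obtain ⟨Q₁, hQ₁, -, ⟨e₁⟩⟩ := exists_prime_away (k := p.asIdeal.ResidueField) a Q.asIdeal ha
  exact isCIOver_congr e₁.symm
    (isCIOver_atPrime_of_isGlobalCI (isGlobalCI_iff.2 ⟨n, c, F, hF, ⟨e⟩⟩) Q₁)

theorem main {X Y : Scheme.{u}} (f : X ⟶ Y) [Flat f] [LocallyOfFinitePresentation f]
    (h : ∀ y : Y, syntomicProp (f.fiberToSpecResidueField y)) : syntomicProp f := by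
  have : IsZariskiLocalAtTarget syntomicProp.{u} :=
    HasRingHomProperty.instIsZariskiLocalAtTarget (P := syntomicProp.{u})
      (Q := fun {R S} [CommRing R] [CommRing S] => @SyntomicHom R S _ _)
  have : IsZariskiLocalAtSource syntomicProp.{u} :=
    HasRingHomProperty.instIsZariskiLocalAtSource (P := syntomicProp.{u})
      (Q := fun {R S} [CommRing R] [CommRing S] => @SyntomicHom R S _ _)
  wlog hY : ∃ R, Y = Spec R
  · rw [IsZariskiLocalAtTarget.iff_of_openCover (P := syntomicProp.{u}) Y.affineCover]
    intro i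
    dsimp [Scheme.Cover.pullbackHom]
    have _hflat : Flat (pullback.snd f (Y.affineCover.f i)) := inferInstance
    have _hlfp : LocallyOfFinitePresentation (pullback.snd f (Y.affineCover.f i)) := inferInstance
    refine this (pullback.snd f (Y.affineCover.f i)) (fun y ↦ ?_) inferInstance inferInstance ⟨_, rfl⟩
    have sq := isPullback_fiberToSpecResidueField_of_isPullback
      (IsPullback.of_hasPullback f (Y.affineCover.f i)) y
    have hiso := sq.isIso_fst_of_isIso
    refine ((syntomicProp.{u}).arrow_mk_iso_iff ?_).2 (h (Y.affineCover.f i y))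
    exact Arrow.isoMk (@asIso _ _ _ _ _ hiso) (asIso (Spec.map (Scheme.Hom.residueFieldMap _ y))) sq.w
  obtain ⟨R, rfl⟩ := hY
  wlog hX : ∃ S, X = Spec S generalizing f X
  · rw [IsZariskiLocalAtSource.iff_of_openCover (P := syntomicProp.{u}) X.affineCover]
    intro i
    refine this _ (fun y ↦ ?_) ⟨_, rfl⟩
    rw [Scheme.Hom.fiberToSpecResidueField, ← pullbackRightPullbackFstIso_inv_snd_snd]
    refine (MorphismProperty.cancel_left_of_respectsIso syntomicProp.{u} (pullbackRightPullbackFstIso _ _ _).inv _).2 ?_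
    have : IsOpenImmersion (pullback.snd (X.affineCover.f i) (pullback.fst f ((Spec R).fromSpecResidueField y))) :=
      MorphismProperty.pullback_snd (P := @IsOpenImmersion) _ _ inferInstance
    exact @IsZariskiLocalAtSource.comp _ _ _ _ _ _ (h y) _ this
  obtain ⟨S, rfl⟩ := hX
  obtain ⟨φ, rfl⟩ := Spec.map_surjective f
  rw [HasRingHomProperty.Spec_iff (P := syntomicProp.{u})]
  have hflat : RingHom.Flat φ.hom := (HasRingHomProperty.Spec_iff (P := @Flat)).1 inferInstance
  have hfp : RingHom.FinitePresentation φ.hom :=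
    (HasRingHomProperty.Spec_iff (P := @LocallyOfFinitePresentation)).1 inferInstance
  let := φ.hom.toAlgebra
  have : Module.Flat R S := hflat
  have : Algebra.FinitePresentation R S := hfp
  refine aux (R := R) (S := S) fun p => syntomicHom_algebraMap.1 ?_
  rw [← CommRingCat.hom_ofHom (algebraMap p.asIdeal.ResidueField (p.asIdeal.Fiber ↑S)),
    ← HasRingHomProperty.Spec_iff (P := syntomicProp.{u}),
    ← MorphismProperty.arrow_mk_iso_iff syntomicProp.{u} (Spec.fiberToSpecResidueFieldIso R S p)]
  exact h p

open AlgebraicGeometry CategoryTheory in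
/-- If f : X → S is flat, locally of finite presentation, and every fibre X_s → Spec κ(s) is syntomic
(X_s is a local complete intersection over κ(s)), then f is syntomic. -/
theorem result {X S : Scheme.{u}} (f : X ⟶ S) [Flat f] [LocallyOfFinitePresentation f]
    (hfib : ∀ s : S, Synt.IsSyntomicMor (f.fiberToSpecResidueField s)) :
    Synt.IsSyntomicMor f := by
  exact (isSyntomicMor_iff f).2 (main f fun s => (isSyntomicMor_iff _).1 (hfib s))

end Groth.Agent.S9365
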