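import Groth.Statements.S9399
import Groth.Agent.CAlg5.NFinite
import Mathlib.RingTheory.RingHom.FiniteType

set_option autoImplicit false
universe u
open CAlg

namespace Groth.Agent.S9399

/-- Being universally Japanese can be checked on a finite cover of Spec R by principal opens. -/
theorem result (R : Type u) [CommRing R]
    {ι : Type u} [Finite ι] (f : ι → R) (hf : Ideal.span (Set.range f) = ⊤)
    (h : ∀ i, CAlg.IsUniversallyJapanese (Localization.Away (f i))) :
    CAlg.IsUniversallyJapanese R := by
  intro S _ _ _ hS
  have hspan : Ideal.span (Set.range fun i => algebraMap R S (f i)) = ⊤ := by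
    have := congrArg (Ideal.map (algebraMap R S)) hf
    rwa [Ideal.map_span, Ideal.map_top, ← Set.range_comp] at this
  refine CAlg5.isN2_of_cover (fun i => algebraMap R S (f i)) hspan fun i h0 => ?_
  have hdom : IsDomain (Localization.Away (algebraMap R S (f i))) :=
    IsLocalization.isDomain_localization (powers_le_nonZeroDivisors_of_noZeroDivisors h0)
  let : Algebra (Localization.Away (f i)) (Localization.Away (algebraMap R S (f i))) :=
    (IsLocalization.Away.lift (f i) (g := algebraMap R (Localization.Away (algebraMap R S (f i))))
      (by rw [IsScalarTower.algebraMap_apply R S (Localization.Away (algebraMap R S (f i)))]; exact IsLocalization.Away.algebraMap_isUnit _)).toAlgebra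
  have : IsScalarTower R (Localization.Away (f i)) (Localization.Away (algebraMap R S (f i))) :=
    IsScalarTower.of_algebraMap_eq fun r => (IsLocalization.Away.lift_eq (f i) _ r).symm
  have h1 : Algebra.FiniteType S (Localization.Away (algebraMap R S (f i))) :=
    IsLocalization.finiteType_of_monoid_fg (Submonoid.powers (algebraMap R S (f i))) _
  have h2 : Algebra.FiniteType R (Localization.Away (algebraMap R S (f i))) :=
    Algebra.FiniteType.trans (R := R) (S := S) hS h1
  exact ⟨_, inferInstance, hdom, inferInstance, inferInstance,
    h i _ (Algebra.FiniteType.of_restrictScalars_finiteType R _ _)⟩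


end Groth.Agent.S9399
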