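import Groth.Statements.S9400
import Groth.Agent.CAlg5.NFinite
import Mathlib.RingTheory.Localization.Finiteness
import Mathlib.RingTheory.Localization.Ideal

set_option autoImplicit false
universe u
open CAlg

namespace Groth.Agent.S9400

/-- Being a Nagata ring can be checked on a finite cover of Spec R by principal opens. -/
theorem result (R : Type u) [CommRing R]
    {ι : Type u} [Finite ι] (f : ι → R) (hf : Ideal.span (Set.range f) = ⊤)
    (h : ∀ i, CAlg.IsNagata (Localization.Away (f i))) : CAlg.IsNagata R := by
  constructor
  · refine (isNoetherianRing_iff_ideal_fg R).mpr fun J => ?_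
    refine Ideal.fg_of_localizationSpan (Set.range f) hf fun g => ?_
    obtain ⟨_, i, rfl⟩ := g
    exact (isNoetherianRing_iff_ideal_fg _).mp (h i).1 _
  · intro p hp
    have hspan : Ideal.span (Set.range fun i => Ideal.Quotient.mk p (f i)) = ⊤ := by
      have := congrArg (Ideal.map (Ideal.Quotient.mk p)) hf
      rwa [Ideal.map_span, Ideal.map_top, ← Set.range_comp] at this
    refine CAlg5.isN2_of_cover (fun i => Ideal.Quotient.mk p (f i)) hspan fun i h0 => ?_
    have hfp : f i ∉ p := fun hm => h0 (Ideal.Quotient.eq_zero_iff_mem.mpr hm)
    have hd : Disjoint (Submonoid.powers (f i) : Set R) (p : Set R) :=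
      (Ideal.disjoint_powers_iff_notMem _ hp.isRadical).mpr hfp
    have hprime := IsLocalization.isPrime_of_isPrime_disjoint (Submonoid.powers (f i)) (Localization.Away (f i)) p hp hd
    let P := p.map (algebraMap R (Localization.Away (f i)))
    have hloc : IsLocalization (Submonoid.map (Ideal.Quotient.mk p) (Submonoid.powers (f i))) (Localization.Away (f i) ⧸ P) :=
      IsLocalization.of_surjective (Submonoid.powers (f i)) (Localization.Away (f i)) (Ideal.Quotient.mk p) Ideal.Quotient.mk_surjective
        (Ideal.Quotient.mk P) Ideal.Quotient.mk_surjective rfl (by rw [Ideal.mk_ker, Ideal.mk_ker])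
    rw [Submonoid.map_powers] at hloc
    exact ⟨_, inferInstance, inferInstance, inferInstance, hloc, (h i).2 P⟩


end Groth.Agent.S9400
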