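import Groth.Statements.S10829
import Groth.Agent.VarGal.ProjDim

set_option autoImplicit false
universe u
open AlgebraicGeometry
open Variety

namespace Groth.Agent.S10829

/-- For a field k and a natural number n, projective n-space over k (Proj of the polynomial ring in n +
1 variables graded by degree) has Krull dimension n as a topological space. (The published statement
also gives affine n-space dimension n; that half is the Krull dimension of a polynomial ring and is
not restated here.) -/
theorem result (k : Type u) [Field k] (n : ℕ) :
    topologicalKrullDim ↥(CohB1.ProjSpace n k) = (n : WithBot ℕ∞) := by
  obtain ⟨p, -, hp, hT⟩ := VarGal.exists_genPoint (k := k) (n := n)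
  have h := VarGal.projDim_closure p
  rw [hp, hT, Nat.add_sub_cancel,
    (Homeomorph.Set.univ (ProjectiveSpectrum (CohB1.polyGrading n k))).isHomeomorph.topologicalKrullDim_eq _] at h
  exact h

end Groth.Agent.S10829
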