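import Groth.Statements.S2102


set_option autoImplicit false
universe u
open CategoryTheory AlgebraicGeometry
open Mor

namespace Groth.Agent.S2102

/-- The ring of global sections of an integral normal scheme is an integrally closed domain. -/
theorem result (X : Scheme.{u}) [IsIntegral X] (hX : Pi1.IsNormalScheme X) :
    IsIntegrallyClosed (Γ(X, ⊤) : Type u) := by
  let K := X.functionField
  let j : Γ(X, ⊤) →+* K := (X.presheaf.germ ⊤ (genericPoint X) trivial).hom
  have hj : Function.Injective j := germ_injective_of_isIntegral X _ _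
  letI : Algebra Γ(X, ⊤) K := j.toAlgebra
  let F := FractionRing Γ(X, ⊤)
  let φ : F →ₐ[Γ(X, ⊤)] K := IsFractionRing.liftAlgHom (g := Algebra.ofId Γ(X, ⊤) K) hj
  rw [isIntegrallyClosed_iff F]
  intro a ha
  have hloc : ∀ x : X, ∃ (V : X.Opens) (_ : x ∈ V) (s : Γ(X, V)) (hη : genericPoint X ∈ V),
      X.presheaf.germ V (genericPoint X) hη s = φ a := by
    intro x
    haveI := (hX x).1
    haveI := (hX x).2
    letI : Algebra Γ(X, ⊤) (X.presheaf.stalk x) := (X.presheaf.germ ⊤ x trivial).hom.toAlgebra
    haveI : IsScalarTower Γ(X, ⊤) (X.presheaf.stalk x) K := .of_algebraMap_eq fun r =>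
      (TopCat.Presheaf.germ_stalkSpecializes_apply X.presheaf (U := ⊤) (show x ∈ (⊤ : X.Opens) from trivial) (genericPoint_specializes x) r).symm
    obtain ⟨b, hb⟩ := (IsIntegrallyClosed.isIntegral_iff (R := X.presheaf.stalk x) (K := K)).1
      ((ha.map φ).tower_top)
    obtain ⟨V, hxV, s, hs⟩ := X.presheaf.exists_germ_eq b
    refine ⟨V, hxV, s, (genericPoint_specializes x).mem_open V.2 hxV, ?_⟩
    rw [← hb, ← hs]
    exact (TopCat.Presheaf.germ_stalkSpecializes_apply X.presheaf hxV (genericPoint_specializes x) s).symm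
  choose V hxV s hη hs using hloc
  have hcompat : TopCat.Presheaf.IsCompatible X.presheaf V s := by
    intro x y
    apply germ_injective_of_isIntegral X (genericPoint X) (show genericPoint X ∈ V x ⊓ V y from ⟨hη x, hη y⟩)
    erw [TopCat.Presheaf.germ_res_apply, TopCat.Presheaf.germ_res_apply, hs, hs]
  obtain ⟨t, ht, -⟩ := X.sheaf.existsUnique_gluing' V ⊤ (fun x => homOfLE le_top)
    (fun x _ => TopologicalSpace.Opens.mem_iSup.2 ⟨x, hxV x⟩) s hcompat
  refine ⟨t, φ.injective ?_⟩
  refine (φ.commutes t).trans ?_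
  show X.presheaf.germ ⊤ (genericPoint X) trivial t = φ a
  rw [← hs (genericPoint X), ← ht (genericPoint X)]
  exact (TopCat.Presheaf.germ_res_apply X.presheaf _ _ _ _).symm

end Groth.Agent.S2102
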