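import Groth.Statements.S0024
import Groth.Agent.Var76.RegTools
import Groth.Agent.Pn71.Cohomology
import Groth.Agent.Crv77.Sections

set_option autoImplicit false
universe u
open Coherent

namespace Groth.Agent.S0024

open AlgebraicGeometry CategoryTheory in
/-- Special case d = 0, q = 0: the map R → Γ(P^n_R, O) induced by the structure morphism P^n_R → Spec R
is an isomorphism (global functions on projective space are the degree-zero part R of the polynomial
ring). -/
theorem result (n : ℕ) (R : Type u) [CommRing R] :
    IsIso (CohB1.ProjSpace.toSpec n R).appTop := by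
  let X := CohB1.ProjSpace n R
  let φ : R →+* Γ(X, ⊤) := Coh.toGlobal (CohB1.ProjSpace.toSpec n R)
  obtain ⟨e⟩ := Var76.Reg.nonempty_twist_zero (n := n) (A := R)
  let E : Coh.HH X (Coh.structureModule X) 0 ≃ₗ[R] R :=
    (Crv77.hEquiv R e 0).symm.trans ((Pn71.hhZeroEquivNonneg n R 0 le_rfl).trans
      ((Finsupp.supportedEquivFinsupp _).trans (@Finsupp.LinearEquiv.finsuppUnique R R _ _ _ _
        ⟨⟨⟨0, by simp [Pn71.posCell, Pn71.deg]⟩⟩, fun m => Subtype.ext <| by
          obtain ⟨m, hm, hpos⟩ := m
          ext i
          have h1 := Finset.single_le_sum (f := fun j => m j) (fun j _ => hpos j) (Finset.mem_univ i)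
          have h2 : ∑ j, m j = 0 := hm
          have h3 := hpos i
          simp only [Finsupp.coe_zero, Pi.zero_apply] at *
          omega⟩)))
  let g : Γ(X, ⊤) := Crv77.sec (Coh.structureModule X) (E.symm 1)
  have hg : Function.Bijective fun r => φ r * g := by
    have : (fun r => φ r * g) = fun r => Crv77.sec (Coh.structureModule X) (E.symm r) := funext fun r => by
      have h : E.symm r = r • E.symm 1 := by rw [← map_smul, smul_eq_mul, mul_one]
      exact ((congrArg (Crv77.sec (Coh.structureModule X)) h).trans (Crv77.sec_smul R (Coh.structureModule X) r (E.symm 1))).symm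
    rw [this]
    exact (Crv77.sec (Coh.structureModule X)).bijective.comp E.symm.bijective
  obtain ⟨u, hu⟩ := hg.2 1
  dsimp only at hu
  have hφ : Function.Bijective φ := by
    have hgu : IsUnit g := IsUnit.of_mul_eq_one_right _ hu
    exact ⟨fun a b h => hg.1 (congrArg (· * g) h), fun y => by
      obtain ⟨r, hr⟩ := hg.2 (y * g)
      exact ⟨r, hgu.mul_right_cancel hr⟩⟩
  rw [ConcreteCategory.isIso_iff_bijective]
  exact (Function.Bijective.of_comp_iff _ (ConcreteCategory.bijective_of_isIso (Scheme.ΓSpecIso (CommRingCat.of R)).inv)).mp hφ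

end Groth.Agent.S0024
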