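import Groth.Statements.S5195
import Groth.Agent.Curves2.IdealFrame
import Groth.Agent.Amp73.QA
import Groth.Agent.Amp73.Pullback
import Groth.Agent.GenAff57.Ample
import Groth.Agent.Desc59.AmpleDesc
import Groth.Agent.CAlg9.CIT.FibreCodim
-- import your own Groth.Agent.* helpers here

set_option autoImplicit false
universe u
open CategoryTheory CategoryTheory.Limits AlgebraicGeometry
open Lef

namespace Groth.Agent.S5195


/-- Off the support the ideal module is the structure sheaf. -/
theorem isIso_restrict_idealModι {X : Scheme.{u}} (I : X.IdealSheafData) (U : X.Opens)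
    (hU : (U : Set X) ⊆ (I.support : Set X)ᶜ) :
    IsIso ((Scheme.Modules.restrictFunctor U.ι).map (ClSub.idealModι I)) := by
  rw [Scheme.Modules.Hom.isIso_iff_isIso_app]
  intro W
  refine (ConcreteCategory.isIso_iff_bijective _).2 ?_
  show Function.Bijective (OmegaSh.idealSect I (U.ι ''ᵁ W))
  refine ⟨Omega57.idealSect_injective I _, fun r => Omega57.exists_idealSect_eq I _ r ?_⟩
  have hle : U.ι ''ᵁ W ≤ U := (U.ι.image_mono (le_top : W ≤ ⊤)).trans U.ι_image_top.le
  have hbot : I.subschemeι ⁻¹ᵁ (U.ι ''ᵁ W) = ⊥ := by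
    rw [eq_bot_iff]
    intro z hz
    exact hU (hle hz) (I.range_subschemeι ▸ ⟨z, rfl⟩)
  have : Subsingleton Γ(I.subscheme, I.subschemeι ⁻¹ᵁ (U.ι ''ᵁ W)) := by
    rw [hbot]; infer_instance
  exact Subsingleton.elim _ _

/-- A closed subscheme off an ample divisor is finite over the affine base. -/
theorem isFinite_of_disjoint {V X Z : Scheme.{u}} [IsAffine V] (f : X ⟶ V) [IsProper f]
    {I : X.IdealSheafData} {L : X.Modules} (hL : ClSub.IsInverseOf L (ClSub.idealMod I))
    (hamp : CohB1.IsAmple L) (j : Z ⟶ X) [IsClosedImmersion j]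
    (hj : Set.range j ⊆ (I.support : Set X)ᶜ) : IsFinite (j ≫ f) := by
  let U : X.Opens := ⟨(I.support : Set X)ᶜ, I.support.isClosed.isOpen_compl⟩
  obtain ⟨e⟩ := hL
  let j' : Z ⟶ (U : Scheme.{u}) := IsOpenImmersion.lift U.ι j (by rw [Scheme.Opens.range_ι]; exact hj)
  have hj' : j' ≫ U.ι = j := IsOpenImmersion.lift_fac _ _ _
  have := isIso_restrict_idealModι I U (fun x hx => hx)
  let eI : (Scheme.Modules.pullback j).obj (ClSub.idealMod I) ≅
      (Scheme.Modules.pullback j).obj (Coh.structureModule X) :=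
    (Scheme.Modules.pullbackCongr hj').symm.app _ ≪≫ (Scheme.Modules.pullbackComp j' U.ι).symm.app _ ≪≫
      (Scheme.Modules.pullback j').mapIso
        ((Scheme.Modules.restrictFunctorIsoPullback U.ι).symm.app _ ≪≫
          asIso ((Scheme.Modules.restrictFunctor U.ι).map (ClSub.idealModι I)) ≪≫
          (Scheme.Modules.restrictFunctorIsoPullback U.ι).app _) ≪≫
      (Scheme.Modules.pullbackComp j' U.ι).app _ ≪≫ (Scheme.Modules.pullbackCongr hj').app _
  let LZ := (Scheme.Modules.pullback j).obj L
  have hamp' : CohB1.IsAmple LZ := Amp73.isAmple_pullback j (Amp73.isQuasiAffine_of_isAffineHom j) hamp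
  let eO : LZ ≅ Coh.structureModule Z :=
    (EGA73.tensUnitRight LZ).symm ≪≫
      EGA73.tensIso (Iso.refl LZ) ((PicLoc.pullbackStructureIso j).symm ≪≫ eI.symm) ≪≫
      (Desc59.AmpleDesc.pullTensIso j L (ClSub.idealMod I)).symm ≪≫
      (Scheme.Modules.pullback j).mapIso e ≪≫ PicLoc.pullbackStructureIso j
  have hO := Amp73.isAmple_of_iso eO hamp'
  have h1 := GenAff57.isAffineOpen_genLocus (j ≫ f) hO (𝟙 _)
  rw [Amp73.genLocus_id] at h1
  have : IsAffine (⊤ : Z.Opens).toScheme := h1
  have : IsAffine Z := .of_isIso (Scheme.topIso Z).inv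
  have : IsAffineHom (j ≫ f) := isAffineHom_of_isAffine _
  exact IsFinite.iff_isProper_and_isAffineHom.2 ⟨inferInstance, inferInstance⟩

/-- The fibre point is closed as soon as the point has no other specialization in its fibre. -/
theorem isClosed_asFiber {X S : Scheme.{u}} (f : X ⟶ S) (z : X)
    (h : ∀ y, f y = f z → z ⤳ y → y = z) : IsClosed ({f.asFiber z} : Set ↥(f.fiber (f z))) := by
  rw [← closure_subset_iff_isClosed]
  intro w hw
  have hs : f.asFiber z ⤳ w := specializes_iff_mem_closure.2 hw
  let e := f.fiberHomeo (f z)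
  have he : e (f.asFiber z) = ⟨z, rfl⟩ := by
    show e (e.symm ⟨z, rfl⟩) = _
    exact e.apply_symm_apply _
  have h1 : z ⤳ (e w).1 := by
    have := hs.map (continuous_subtype_val.comp e.continuous)
    simp only [Function.comp_apply, he] at this
    exact this
  have h2 : e w = e (f.asFiber z) := by
    rw [he]; exact Subtype.ext (h _ (e w).2 h1)
  exact e.injective h2

/-- For the structure sheaf, with the key step of its proof made explicit. Let A be a Noetherian ring, X
a proper A-scheme and 𝓘 a quasi-coherent ideal whose ideal module is invertible with ample inverse L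
(Y = V(𝓘) is an ample effective Cartier divisor), and let Z be a closed subset of X not meeting Y.
Then (1) every point of Z is closed in its fibre over Spec A (indeed Z is finite over A, being
proper and contained in the affine X − Y); and (2) if moreover X is flat over A and for every s the
fibre X_s has depth ≥ n at each of its closed points, then the local ring O_{X,z} has depth ≥ n at
every point z of Z. (The published statement allows any coherent module flat over the base whose
fibres have depth ≥ n at closed points; this row takes the structure sheaf.) -/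
theorem result (A : Type u) [CommRing A] [IsNoetherianRing A] (X : Scheme.{u}) [X.Over (Spec (CommRingCat.of A))] [IsProper (X ↘ Spec (CommRingCat.of A))] (𝓘 : X.IdealSheafData) (L : X.Modules) (hL : ClSub.IsInverseOf L (ClSub.idealMod 𝓘)) (hamp : CohB1.IsAmple L) (Z : Set X) (hZ : IsClosed Z) (hZY : Disjoint Z (𝓘.support : Set X)) (n : ℕ) : (∀ z : X, z ∈ Z → IsClosed ({((X ↘ Spec (CommRingCat.of A))).asFiber z} : Set ↥(((X ↘ Spec (CommRingCat.of A))).fiber (((X ↘ Spec (CommRingCat.of A))).base z)))) ∧ (Flat (X ↘ Spec (CommRingCat.of A)) → (∀ x : X, IsClosed ({((X ↘ Spec (CommRingCat.of A))).asFiber x} : Set ↥(((X ↘ Spec (CommRingCat.of A))).fiber (((X ↘ Spec (CommRingCat.of A))).base x))) → (n : ℕ∞) ≤ LocCoh.depth ↑(CInt.fiberStalk (X ↘ Spec (CommRingCat.of A)) x) ↑(CInt.fiberStalk (X ↘ Spec (CommRingCat.of A)) x)) → ∀ z : X, z ∈ Z → (n : ℕ∞) ≤ LocCoh.depth (X.presheaf.stalk z) (X.presheaf.stalk z)) := by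
  set f := X ↘ Spec (CommRingCat.of A) with hf
  let j := (Scheme.IdealSheafData.vanishingIdeal ⟨Z, hZ⟩).subschemeι
  have hrange : Set.range j = Z := by
    rw [Scheme.IdealSheafData.range_subschemeι, Scheme.IdealSheafData.coe_support_vanishingIdeal]
    rfl
  have hfin : IsFinite (j ≫ f) := isFinite_of_disjoint f hL hamp j (by
    rw [hrange]; exact Set.subset_compl_iff_disjoint_right.2 hZY)
  have h1 : ∀ z : X, z ∈ Z → IsClosed ({f.asFiber z} : Set ↥(f.fiber (f.base z))) := by
    intro z hz
    refine isClosed_asFiber f z fun y hy hzy => ?_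
    obtain ⟨z', rfl⟩ : z ∈ Set.range j := hrange.symm ▸ hz
    obtain ⟨y', rfl⟩ : y ∈ Set.range j := hrange.symm ▸ hzy.mem_closed hZ hz
    have hzy' : z' ⤳ y' := j.isEmbedding.isInducing.specializes_iff.1 hzy
    have hd : _root_.IsDiscrete ((j ≫ f) ⁻¹' {f (j z')}) := (j ≫ f).isDiscrete_preimage_singleton _
    have := hd.to_subtype
    have hsp : (⟨z', rfl⟩ : ↥((j ≫ f) ⁻¹' {f (j z')})) ⤳ ⟨y', hy⟩ := (subtype_specializes_iff _ _).2 hzy'
    exact congrArg (fun t => j t.1) (specializes_iff_eq.1 hsp).symm
  refine ⟨h1, fun hflat hdep z hz => (hdep z (h1 z hz)).trans ?_⟩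
  have : IsLocallyNoetherian (Spec (CommRingCat.of A)) := inferInstance
  have : IsLocallyNoetherian X := LocallyOfFiniteType.isLocallyNoetherian f
  exact CAlg9.CIT.depth_fiberStalk_le f z

end Groth.Agent.S5195
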