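import Groth.Statements.S4533
import Groth.Agent.FSPow12.Basic

set_option autoImplicit false
universe u
open EGA41 TensorProduct

namespace Groth.Agent.S4533

/-- Let A carry the 𝔞-adic topology and let B = A[[T_1, …, T_n]] carry the product topology, i.e. the
adic topology of the ideal 𝔞B + (T_1, …, T_n) (the kernel of the constant-coefficient map added to
the extension of 𝔞). Then B is a formally smooth A-algebra for these topologies. (The published
statement allows any linearly topologized base ring and any set of indeterminates with the product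
topology; this row takes an adic base and finitely many indeterminates, where the product topology
is adic.) -/
theorem result (A : Type u) [CommRing A] (𝔞 : Ideal A) (n : ℕ) :
    EGA41.IsFormallySmoothAdic A 𝔞 (MvPowerSeries (Fin n) A)
      (𝔞.map (MvPowerSeries.C : A →+* MvPowerSeries (Fin n) A) ⊔
        RingHom.ker (MvPowerSeries.constantCoeff : MvPowerSeries (Fin n) A →+* A)) := by
  intro C _ _ J hJ hC u hu
  choose z hz using fun i => Ideal.Quotient.mk_surjective (u (MvPowerSeries.X i))
  have hn : ∀ i, IsNilpotent (z i) := fun i => by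
    obtain ⟨m, hm⟩ := Groth.Agent.FSPow12.isNilpotent_map_X 𝔞 u hu i
    obtain ⟨j, hj⟩ := hJ
    refine ⟨m * j, ?_⟩
    have : z i ^ m ∈ J := Ideal.Quotient.eq_zero_iff_mem.mp (by rw [map_pow, hz, hm])
    have h2 := Ideal.pow_mem_pow this j
    rw [hj, ← pow_mul] at h2
    exact (Submodule.mem_bot C).mp h2
  obtain ⟨g, hg, hgX⟩ := Groth.Agent.FSPow12.exists_algHom 𝔞 hC z hn
  refine ⟨g, Groth.Agent.FSPow12.algHom_ext 𝔞 ?_ hu fun i => ?_⟩
  · obtain ⟨m, hm⟩ := hg
    exact ⟨m, fun x hx => by simp [hm x hx]⟩
  · show Ideal.Quotient.mk J (g _) = _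
    rw [hgX, hz]

end Groth.Agent.S4533
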