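import Groth.Statements.S10903
import Mathlib
import Groth.Agent.EGA4Alg4.CMMod
import Groth.Agent.CAlg1.Serre

set_option autoImplicit false
universe u
open CInt

namespace Groth.Agent.S10903

open IsLocalRing

/-- The kernel of the map killing the first `j` variables. -/
theorem height_ker_constantCoeff (k : Type u) [Field k] (n : ℕ) :
    (n : ℕ∞) ≤ (RingHom.ker (MvPolynomial.constantCoeff (σ := Fin n) (R := k))).height := by
  classical
  let φ : ℕ → (MvPolynomial (Fin n) k →ₐ[k] MvPolynomial (Fin n) k) := fun j =>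
    MvPolynomial.aeval fun i => if (i : ℕ) < j then 0 else MvPolynomial.X i
  let Q : Fin (n + 1) → PrimeSpectrum (MvPolynomial (Fin n) k) := fun j =>
    ⟨RingHom.ker (φ j), RingHom.ker_isPrime _⟩
  have hmem : ∀ (j : ℕ) (i : Fin n), (MvPolynomial.X i : MvPolynomial (Fin n) k) ∈ RingHom.ker (φ j) ↔ (i : ℕ) < j := by
    intro j i
    rw [RingHom.mem_ker]
    simp [φ]
  have hstep : ∀ i : Fin n, Q i.castSucc < Q i.succ := by
    intro i
    have hle : Q i.castSucc ≤ Q i.succ := by
      intro q (hq : φ (i : ℕ) q = 0)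
      show φ ((i : ℕ) + 1) q = 0
      have : φ ((i : ℕ) + 1) = (φ ((i : ℕ) + 1)).comp (φ i) := by
        refine MvPolynomial.algHom_ext fun l => ?_
        simp only [φ, AlgHom.comp_apply, MvPolynomial.aeval_X]
        rcases lt_or_ge (l : ℕ) i with h | h
        · rw [if_pos h, if_pos (by omega), map_zero]
        · rw [if_neg (not_lt.2 h), MvPolynomial.aeval_X]
      rw [this, AlgHom.comp_apply, hq, map_zero]
    refine lt_of_le_of_ne hle fun he => ?_
    have h1 : (MvPolynomial.X i : MvPolynomial (Fin n) k) ∈ (Q i.succ).asIdeal := (hmem _ i).2 (by simp)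
    rw [← he] at h1
    exact lt_irrefl _ ((hmem _ i).1 h1)
  let l : LTSeries (PrimeSpectrum (MvPolynomial (Fin n) k)) := ⟨n, Q, hstep⟩
  have h1 : (n : ℕ∞) ≤ Order.height (Q (Fin.last n)) := Order.length_le_height_last (p := l)
  rw [← PrimeSpectrum.height_eq_orderHeight] at h1
  refine h1.trans (Ideal.height_mono fun q hq => ?_)
  have : MvPolynomial.constantCoeff.comp (φ n).toRingHom = (MvPolynomial.constantCoeff (σ := Fin n) (R := k)) := by
    refine MvPolynomial.ringHom_ext (fun c => by simp [φ]) fun i => by simp [φ]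
  rw [RingHom.mem_ker, ← this]
  show MvPolynomial.constantCoeff (φ n q) = 0
  rw [show φ n q = 0 from hq, map_zero]

/-- The height bounds the dimension of the quotient. -/
theorem dim_quotient_add_le {S : Type u} [CommRing S] (J : Ideal S) (r N : ℕ)
    (hN : ringKrullDim S = N) (hJ : (r : ℕ∞) ≤ J.height) (hne : J ≠ ⊤) :
    ringKrullDim (S ⧸ J) + r ≤ N := by
  have h1 : ∀ l : LTSeries (PrimeSpectrum.zeroLocus (R := S) J), l.length + r ≤ N := by
    intro l
    set p0 := l.head with hp0
    have : (r : ℕ∞) ≤ Order.height p0.1 :=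
      hJ.trans ((Ideal.height_mono (I := J) (J := p0.1.asIdeal) p0.2).trans (PrimeSpectrum.height_eq_orderHeight _).le)
    obtain ⟨m, hm, hml⟩ := Order.exists_series_of_le_height p0.1 this
    let l' : LTSeries (PrimeSpectrum S) := l.map Subtype.val (fun a b h => h)
    have hh : m.last = l'.head := by
      rw [hm]
      exact (LTSeries.head_map l Subtype.val _).symm
    have hlen : ((m.smash l' hh).length : WithBot ℕ∞) ≤ ringKrullDim S := Order.LTSeries.length_le_krullDim _
    rw [hN] at hlen
    have : m.length + l.length ≤ N := by exact_mod_cast hlen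
    omega
  haveI : Nontrivial (S ⧸ J) := Ideal.Quotient.nontrivial_iff.mpr hne
  rw [ringKrullDim_quotient]
  obtain ⟨d, hd⟩ : ∃ d : ℕ, Order.krullDim (PrimeSpectrum.zeroLocus (R := S) J) = d ∧ d + r ≤ N := by
    have hub : Order.krullDim (PrimeSpectrum.zeroLocus (R := S) J) ≤ ((N - r : ℕ) : WithBot ℕ∞) := by
      rw [Order.krullDim]
      exact iSup_le fun l => by have := h1 l; exact_mod_cast (show l.length ≤ N - r by omega)
    haveI : Nonempty (PrimeSpectrum.zeroLocus (R := S) J) := by
      obtain ⟨M, hM, hle⟩ := J.exists_le_maximal hne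
      exact ⟨⟨⟨M, hM.isPrime⟩, hle⟩⟩
    have h0 := Order.krullDim_nonneg (α := PrimeSpectrum.zeroLocus (R := S) J)
    have hr : r ≤ N := by
      have := h1 (RelSeries.singleton _ (Classical.arbitrary _))
      simp at this
      omega
    generalize Order.krullDim (PrimeSpectrum.zeroLocus (R := S) J) = x at hub h0
    induction x with
    | bot => simp at h0
    | coe x =>
      induction x with
      | top => exact absurd (WithBot.coe_le_coe.mp hub) (by simp)
      | coe d =>
        have hd' : d ≤ N - r := Nat.cast_le.mp (WithBot.coe_le_coe.mp hub)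
        exact ⟨d, rfl, by omega⟩
  rw [hd.1]
  exact_mod_cast hd.2


/-- Let k be a field, S = k[x_0, …, x_n], and f_1, …, f_r with r ≤ n homogeneous polynomials of positive
degrees whose ideal J = (f_1, …, f_r) has height r — the subscheme of P^n_k cut out by the
hypersurfaces f_i = 0 has codimension r, an ideal-theoretic complete intersection. Then J is
saturated with respect to the irrelevant ideal (x_0, …, x_n): an element g of S such that, for each
i, x_i^m g ∈ J for some m, already lies in J. Hence J is the full homogeneous ideal of that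
subscheme (a global complete intersection). -/
theorem result (k : Type u) [Field k] (n r : ℕ)
    (hr : r ≤ n) (f : Fin r → MvPolynomial (Fin (n + 1)) k) (d : Fin r → ℕ)
    (hf : ∀ i, (f i).IsHomogeneous (d i)) (hd : ∀ i, 0 < d i)
    (hJ : (Ideal.span (Set.range f)).height = r) (g : MvPolynomial (Fin (n + 1)) k)
    (hg : ∀ i : Fin (n + 1), ∃ m : ℕ, MvPolynomial.X i ^ m * g ∈ Ideal.span (Set.range f)) :
    g ∈ Ideal.span (Set.range f) := by
  classical
  let P := MvPolynomial (Fin (n + 1)) k
  let m : Ideal P := RingHom.ker (MvPolynomial.constantCoeff (σ := Fin (n + 1)) (R := k))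
  haveI hmax : m.IsMaximal := RingHom.ker_isMaximal_of_surjective _ fun c => ⟨MvPolynomial.C c, MvPolynomial.constantCoeff_C _ c⟩
  set J := Ideal.span (Set.range f) with hJdef
  have hX : ∀ i, (MvPolynomial.X i : P) ∈ m := fun i => MvPolynomial.constantCoeff_X _ i
  have hfm : ∀ i, f i ∈ m := fun i => by
    rw [RingHom.mem_ker, MvPolynomial.constantCoeff_eq]
    exact (hf i).coeff_eq_zero (by simp; exact (hd i).ne)
  have hJm : J ≤ m := Ideal.span_le.2 (Set.range_subset_iff.2 hfm)
  have hmX : m = Ideal.span (Set.range (MvPolynomial.X : Fin (n + 1) → P)) := by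
    refine le_antisymm (fun q hq => ?_) (Ideal.span_le.2 (Set.range_subset_iff.2 hX))
    rw [← Set.image_univ, MvPolynomial.mem_ideal_span_X_image]
    intro e he
    by_contra hc
    push Not at hc
    have he0 : e = 0 := Finsupp.ext fun i => by simpa using hc i (Set.mem_univ i)
    rw [RingHom.mem_ker, MvPolynomial.constantCoeff_eq] at hq
    exact MvPolynomial.mem_support_iff.1 he (he0 ▸ hq)
  by_contra hg'
  -- an associated prime containing all variables
  obtain ⟨p, hp, hle⟩ := exists_le_isAssociatedPrime_of_isNoetherianRing P (Ideal.Quotient.mk J g)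
    (fun h => hg' (Ideal.Quotient.eq_zero_iff_mem.1 h))
  have hpm : p = m := by
    refine (hmax.eq_of_le hp.isPrime.ne_top ?_).symm
    rw [hmX, Ideal.span_le]
    rintro _ ⟨i, rfl⟩
    obtain ⟨a, ha⟩ := hg i
    exact hp.isPrime.mem_of_pow_mem a (hle (by
      rw [Submodule.mem_colon_singleton, Submodule.mem_bot]
      exact Ideal.Quotient.eq_zero_iff_mem.2 ha))
  subst hpm
  -- localise at the irrelevant ideal
  haveI : Module.Finite P (P ⧸ J) := inferInstance
  obtain ⟨_, w, hw⟩ := isAssociatedPrime_iff.mp hp
  obtain ⟨w, rfl⟩ := Ideal.Quotient.mk_surjective w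
  let S := Localization.AtPrime m
  haveI : IsRegularLocalRing S := inferInstance
  let φ := algebraMap P S
  let xs : List S := List.ofFn fun i => φ (f i)
  have hxs : Ideal.ofList xs = J.map φ := by
    rw [hJdef, Ideal.map_span, ← Set.range_comp]
    show Ideal.span _ = _
    congr 1
    ext x
    simp [xs, List.mem_ofFn]
  have hmem : ∀ x ∈ xs, x ∈ maximalIdeal S := fun x hx => by
    obtain ⟨i, rfl⟩ := List.mem_ofFn.1 hx
    exact (IsLocalization.AtPrime.to_map_mem_maximal_iff S m (f i)).2 (hfm i)
  have hdimS : ringKrullDim S ≤ (n + 1 : ℕ) :=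
    ((IsLocalization.AtPrime.ringKrullDim_eq_height m S).le.trans (Ideal.height_le_ringKrullDim_of_ne_top hmax.ne_top)).trans
      (by rw [MvPolynomial.ringKrullDim_of_isNoetherianRing, ringKrullDim_eq_zero_of_field]; simp)
  have hdimS' : ((n + 1 : ℕ) : WithBot ℕ∞) ≤ ringKrullDim S := by
    rw [IsLocalization.AtPrime.ringKrullDim_eq_height m S]
    exact_mod_cast height_ker_constantCoeff k (n + 1)
  have hdim : ringKrullDim S = (n + 1 : ℕ) := le_antisymm hdimS hdimS'
  have hCM : LocCoh.IsCohenMacaulayModule S S := by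
    rw [LocCoh.IsCohenMacaulayModule, Module.supportDim_self_eq_ringKrullDim, hdim,
      Groth.Agent.CAlg1.depth_regular S hdim]
    rfl
  have hneJ : J.map φ ≠ ⊤ := fun h => by
    have : (Ideal.ofList xs) ≤ maximalIdeal S := Ideal.span_le.2 hmem
    rw [hxs, h, top_le_iff] at this
    exact (maximalIdeal.isMaximal S).ne_top this
  have hht : (r : ℕ∞) ≤ (J.map φ).height := by
    rw [← hJ, (J.map φ).height_eq_inf_minimalPrimes]
    refine le_iInf₂ fun q hq => ?_
    haveI := hq.isPrime
    have h1 : J ≤ q.comap φ := Ideal.le_comap_of_map_le hq.le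
    exact (Ideal.height_mono h1).trans (IsLocalization.height_under m.primeCompl q).le
  let e : (S ⧸ (Ideal.ofList xs • (⊤ : Submodule S S))) ≃ₗ[S] (S ⧸ J.map φ) :=
    Submodule.quotEquivOfEq _ _ (by rw [Ideal.smul_eq_mul, Ideal.mul_top, hxs])
  have hle' := Groth.Agent.EGA4Alg4.supportDim_le_quotient_add_length (M := S) hmem
  have hlen : xs.length = r := List.length_ofFn
  have hQ : Module.supportDim S (S ⧸ (Ideal.ofList xs • (⊤ : Submodule S S))) = ringKrullDim (S ⧸ J.map φ) := by
    rw [Module.supportDim_eq_of_equiv e, Module.supportDim_quotient_eq_ringKrullDim]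
  have hd2 := dim_quotient_add_le (J.map φ) r (n + 1) hdim hht hneJ
  rw [Module.supportDim_self_eq_ringKrullDim, hdim, hQ, hlen] at hle'
  have hreg := Groth.Agent.EGA4Alg4.isWeaklyRegular_of_supportDim hCM hmem (by
    rw [Module.supportDim_self_eq_ringKrullDim, hdim, hQ, hlen]; exact le_antisymm hd2 hle')
  have hCMQ := Groth.Agent.EGA4Alg4.isCohenMacaulayModule_quotient hCM hreg hmem
  -- the maximal ideal would be associated
  have hass : maximalIdeal S ∈ associatedPrimes S (S ⧸ (Ideal.ofList xs • (⊤ : Submodule S S))) := by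
    refine ⟨(maximalIdeal.isMaximal S).isPrime, Submodule.Quotient.mk (φ w), ?_⟩
    have hcol : ((⊥ : Submodule S (S ⧸ (Ideal.ofList xs • (⊤ : Submodule S S)))).colon
        {Submodule.Quotient.mk (φ w)}) = maximalIdeal S := by
      refine ((maximalIdeal.isMaximal S).eq_of_le ?_ ?_).symm
      · intro htop
        have h1 : (1 : S) ∈ (⊥ : Submodule S (S ⧸ (Ideal.ofList xs • (⊤ : Submodule S S)))).colon
            {Submodule.Quotient.mk (φ w)} := by rw [htop]; exact Submodule.mem_top
        rw [Submodule.mem_colon_singleton, Submodule.mem_bot, one_smul, Submodule.Quotient.mk_eq_zero,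
          Ideal.smul_eq_mul, Ideal.mul_top, hxs, IsLocalization.algebraMap_mem_map_algebraMap_iff m.primeCompl] at h1
        obtain ⟨t, ht, htw⟩ := h1
        refine ht ?_
        show t ∈ m
        rw [hw, Submodule.mem_colon_singleton, Submodule.mem_bot]
        exact Ideal.Quotient.eq_zero_iff_mem.2 htw
      · rw [← Localization.AtPrime.map_eq_maximalIdeal (I := m), Ideal.map_le_iff_le_comap]
        intro a ha
        rw [Ideal.mem_comap, Submodule.mem_colon_singleton, Submodule.mem_bot, ← Submodule.Quotient.mk_smul,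
          Submodule.Quotient.mk_eq_zero, Ideal.smul_eq_mul, Ideal.mul_top, hxs, smul_eq_mul, ← map_mul]
        refine Ideal.mem_map_of_mem _ ?_
        rw [hw, Submodule.mem_colon_singleton, Submodule.mem_bot] at ha
        exact Ideal.Quotient.eq_zero_iff_mem.1 ha
    rw [hcol]
    exact (maximalIdeal.isMaximal S).isPrime.radical.symm
  have h3 := Groth.Agent.EGA4Alg4.ringKrullDim_quotient_assoc hCMQ hass
  rw [ringKrullDim_eq_zero_of_isField ((Ideal.Quotient.maximal_ideal_iff_isField_quotient _).mp inferInstance), hQ] at h3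
  rw [← h3, zero_add] at hle'
  have : n + 1 ≤ r := by exact_mod_cast hle'
  omega

end Groth.Agent.S10903
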