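import Groth.Statements.S14424
import Groth.Agent.LC17.LocalDepth

set_option autoImplicit false
universe u
open LocCoh

namespace Groth.Agent.S14424

/-- Let R be a Noetherian ring. Then R is Cohen–Macaulay (every localization at a prime ideal is a
Cohen–Macaulay local ring) if and only if for every proper ideal a of R the a-depth of R equals the
height (codimension) of a. (The published statement defines a Cohen–Macaulay ring by its
localizations at maximal ideals; this row uses all prime ideals, an equivalent definition because
Cohen–Macaulayness passes to localizations.) -/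
theorem result (R : Type u) [CommRing R] [IsNoetherianRing R] :
    LocCoh.IsCohenMacaulayRing R ↔ ∀ a : Ideal R, a ≠ ⊤ → LocCoh.idealDepth a R = a.height := by
  have key : ∀ (p : Ideal R) [p.IsPrime],
      Module.supportDim (Localization.AtPrime p) (Localization.AtPrime p) =
        ((p.height : ℕ∞) : WithBot ℕ∞) := fun p _ => by
    rw [Module.supportDim_self_eq_ringKrullDim,
      IsLocalization.AtPrime.ringKrullDim_eq_height p (Localization.AtPrime p)]
  have heq : ∀ (p : Ideal R) [p.IsPrime],
      LocCoh.depth (Localization.AtPrime p) (LocalizedModule p.primeCompl R) =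
        LocCoh.depth (Localization.AtPrime p) (Localization.AtPrime p) := fun p _ => rfl
  constructor
  · intro hCM a ha
    have hdep : ∀ (p : Ideal R) [p.IsPrime],
        LocCoh.depth (Localization.AtPrime p) (LocalizedModule p.primeCompl R) = p.height := by
      intro p _
      haveI := hCM.isCohenMacaulayLocalRing_localization p
      have h := LocCoh.IsCohenMacaulayLocalRing.supportDim_eq_depth (R := Localization.AtPrime p)
      rw [key] at h
      rw [heq]
      exact (WithBot.coe_injective h).symm
    rw [Groth.Agent.LC17.idealDepth_eq_iInf]
    refine le_antisymm ?_ (le_iInf₂ fun q hq => by rw [hdep]; exact Ideal.height_mono hq)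
    rw [a.height_eq_inf_minimalPrimes]
    refine le_iInf₂ fun q hq => ?_
    haveI := hq.isPrime
    exact (iInf₂_le ⟨q, inferInstance⟩ hq.le).trans (hdep q).le
  · intro h
    refine { isCohenMacaulayLocalRing_localization := fun p hp => ?_ }
    refine { supportDim_eq_depth := le_antisymm ?_ Groth.Agent.EGA4Alg4.depth_le_supportDim }
    rw [key, WithBot.coe_le_coe, ← heq, ← h p hp.ne_top]
    exact Groth.Agent.LC17.idealDepth_le_depth_loc p le_rfl

end Groth.Agent.S14424
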