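import Groth.Statements.S3843
import Groth.Agent.Dominant62.Scheme
import Groth.Agent.Dominant62.Dense

set_option autoImplicit false
universe u
open CategoryTheory CategoryTheory.Limits AlgebraicGeometry TopologicalSpace
open Rat20

namespace Groth.Agent.S3843

open CategoryTheory Limits AlgebraicGeometry

/-- For the open subset U = X; the general case is the same statement over the open subscheme U: let f :
X' → X be flat and locally of finite presentation. Then for every schematically dense open subset V
of X, the preimage f⁻¹(V) is schematically dense in X'. -/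
theorem result {X X' : Scheme.{u}} (f : X' ⟶ X) [Flat f]
    [LocallyOfFinitePresentation f] (V : X.Opens) (hV : CInt.IsSchematicallyDense V) :
    CInt.IsSchematicallyDense (f ⁻¹ᵁ V) := by
  intro W
  rw [injective_iff_map_eq_zero]
  intro t ht
  refine Groth.Agent.Dominant62.app_eq_zero_of_flat (fun _ : PUnit.{u+1} => (V : Scheme.{u})) (fun _ => V.ι) f
    (fun O s hs => (injective_iff_map_eq_zero _).1 (hV O) s
      ((Groth.Agent.Dominant62.app_eq_zero_iff V.ι V (Scheme.Opens.opensRange_ι V) O s).1 (hs ⟨⟩))) W t
    fun _ => (Groth.Agent.Dominant62.app_eq_zero_iff (pullback.snd V.ι f) (f ⁻¹ᵁ V) ?_ W t).2 ht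
  rw [Scheme.Hom.opensRange_pullbackSnd, Scheme.Opens.opensRange_ι]

end Groth.Agent.S3843
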