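import Groth.Statements.S0005
import Groth.Agent.Pure83.Regular
import Groth.Agent.FEt83.PurityExtend

set_option autoImplicit false
universe u
open FEt

namespace Groth.Agent.S0005

open CategoryTheory AlgebraicGeometry in
/-- Purity for finite étale covers, global form: let X be a Noetherian scheme all of whose local rings
are regular and U ⊆ X an open subscheme such that every point of X outside U has local ring of Krull
dimension at least 2. Then restriction of finite étale covers from X to U is an equivalence of
categories. -/
theorem result (X : Scheme.{u}) [IsNoetherian X]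
    (hreg : ∀ x : X, IsRegularLocalRing (X.presheaf.stalk x)) (U : X.Opens)
    (hU : ∀ x : X, x ∉ U → (2 : WithBot ℕ∞) ≤ ringKrullDim (X.presheaf.stalk x)) :
    (FEt.restrict U.ι).IsEquivalence := by
  have h2 : ∀ x : X, x ∉ U → (2 : ℕ∞) ≤ LocCoh.depth (X.presheaf.stalk x) (X.presheaf.stalk x) :=
    fun x hx => have := hreg x; Pure83.two_le_depth_regular (hU x hx)
  obtain ⟨hF, hFa⟩ := FEt83.fullyFaithful_of_depth U h2
  have := FEt83.essSurj_of_purityHolds U fun x hx =>
    have := hreg x; Pure83.purityHolds_of_regular _ (hU x hx)
  exact { }

end Groth.Agent.S0005
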