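import Groth.Statements.S17620
import Groth.Agent.Hens22.PairOps

set_option autoImplicit false
universe u
open Hensel

namespace Groth.Agent.S17620

theorem map_max_le {R S : Type u} [CommRing R] [IsLocalRing R] [CommRing S] [IsLocalRing S]
    (f : R →+* S) [IsLocalHom f] :
    (IsLocalRing.maximalIdeal R).map f ≤ IsLocalRing.maximalIdeal S :=
  Ideal.map_le_iff_le_comap.2 fun x hx h => hx (IsUnit.of_map f x h)

/-- Let R be a local ring and J an ideal of R contained in the maximal ideal, let H be a Henselization
of the pair (R, J) which is a local ring with local structure map R → H, and let S be a strict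
Henselization of the local ring H. Then S, with its composite R-algebra structure, is a strict
Henselization of the local ring R. (This is the identification of the strict Henselization of the
local ring of a scheme at a point with that of the local ring of its Henselization along a closed
subscheme through the point.) -/
theorem result
    (R : Type u) [CommRing R] [IsLocalRing R] (J : Ideal R) (hJ : J ≤ IsLocalRing.maximalIdeal R)
    (H : Type u) [CommRing H] [IsLocalRing H] [Algebra R H] [IsLocalHom (algebraMap R H)]
    (hH : Hens2.IsPairHenselization R J H)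
    (S : Type u) [CommRing S] [IsLocalRing S] [Algebra H S] [IsLocalHom (algebraMap H S)]
    [Hensel.IsStrictHenselization H S]
    [Algebra R S] [IsScalarTower R H S] [IsLocalHom (algebraMap R S)] :
    Hensel.IsStrictHenselization R S := by
  refine ⟨(inferInstance : Hensel.IsStrictHenselization H S).henselian, ?_, ?_⟩
  · have hres : Function.Surjective (IsLocalRing.ResidueField.map (algebraMap R H)) := by
      intro z
      obtain ⟨x, rfl⟩ := Ideal.Quotient.mk_surjective z
      obtain ⟨a, ha⟩ := Hens22.exists_sub_mem_pow hH 1 x
      rw [pow_one] at ha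
      refine ⟨IsLocalRing.residue R a, ?_⟩
      show IsLocalRing.residue H (algebraMap R H a) = IsLocalRing.residue H x
      refine (Ideal.Quotient.eq.2 ?_).symm
      have hle : J.map (algebraMap R H) ≤ IsLocalRing.maximalIdeal H :=
        (Ideal.map_mono hJ).trans (map_max_le (algebraMap R H))
      exact hle ha
    have hsep : IsSepClosure (IsLocalRing.ResidueField H) (IsLocalRing.ResidueField S) :=
      (inferInstance : Hensel.IsStrictHenselization H S).isSepClosure
    let _ : Algebra (IsLocalRing.ResidueField R) (IsLocalRing.ResidueField H) :=
      (IsLocalRing.ResidueField.map (algebraMap R H)).toAlgebra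
    have : IsScalarTower (IsLocalRing.ResidueField R) (IsLocalRing.ResidueField H)
        (IsLocalRing.ResidueField S) := IsScalarTower.of_algebraMap_eq fun x => by
      obtain ⟨a, rfl⟩ := Ideal.Quotient.mk_surjective x
      show IsLocalRing.residue S (algebraMap R S a) = IsLocalRing.residue S (algebraMap H S (algebraMap R H a))
      rw [← IsScalarTower.algebraMap_apply]
    refine ⟨hsep.sep_closed, ?_⟩
    have : Algebra.IsSeparable (IsLocalRing.ResidueField H) (IsLocalRing.ResidueField S) := hsep.separable
    have : Algebra.IsSeparable (IsLocalRing.ResidueField R) (IsLocalRing.ResidueField H) :=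
      ⟨fun z => by
        obtain ⟨x, rfl⟩ := hres z
        exact isSeparable_algebraMap x⟩
    exact Algebra.IsSeparable.trans (IsLocalRing.ResidueField R) (IsLocalRing.ResidueField H) _
  · intro T _ _ f _ τ hτ
    obtain ⟨g, hg, hgu⟩ := hH.2 T (IsLocalRing.maximalIdeal T) f inferInstance
      ((Ideal.map_mono hJ).trans (map_max_le f))
    have : IsLocalHom g := by
      constructor
      intro x hx
      by_contra hx'
      obtain ⟨a, ha⟩ := Hens22.exists_sub_mem_pow hH 1 x
      rw [pow_one] at ha
      have hle : J.map (algebraMap R H) ≤ IsLocalRing.maximalIdeal H :=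
        (Ideal.map_mono hJ).trans (map_max_le (algebraMap R H))
      have h1 : algebraMap R H a ∈ IsLocalRing.maximalIdeal H := by
        have := sub_mem ((IsLocalRing.mem_maximalIdeal x).2 hx') (hle ha)
        simpa using this
      have h2 : a ∈ IsLocalRing.maximalIdeal R := fun hu => h1 (hu.map (algebraMap R H))
      have hfJ : J.map f ≤ IsLocalRing.maximalIdeal T :=
        (Ideal.map_mono hJ).trans (map_max_le f)
      have h3 : g (x - algebraMap R H a) ∈ IsLocalRing.maximalIdeal T := by
        refine hfJ ?_
        rw [← hg, ← Ideal.map_map]
        exact Ideal.mem_map_of_mem _ ha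
      have h4 : g (algebraMap R H a) ∈ IsLocalRing.maximalIdeal T := by
        rw [show g (algebraMap R H a) = f a from RingHom.congr_fun hg a]
        exact (map_max_le f) (Ideal.mem_map_of_mem f h2)
      have h5 := add_mem h3 h4
      rw [← map_add, sub_add_cancel] at h5
      exact h5 hx
    have hτ' : τ.comp (IsLocalRing.ResidueField.map (algebraMap H S)) = IsLocalRing.ResidueField.map g := by
      refine RingHom.ext fun z => ?_
      obtain ⟨z, rfl⟩ := Ideal.Quotient.mk_surjective z
      obtain ⟨a, ha⟩ : ∃ a : R, IsLocalRing.ResidueField.map (algebraMap R H) (IsLocalRing.residue R a) =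
          IsLocalRing.residue H z := by
        obtain ⟨a, ha⟩ := Hens22.exists_sub_mem_pow hH 1 z
        rw [pow_one] at ha
        refine ⟨a, ?_⟩
        show IsLocalRing.residue H (algebraMap R H a) = IsLocalRing.residue H z
        exact (Ideal.Quotient.eq.2 (((Ideal.map_mono hJ).trans
          (map_max_le (algebraMap R H))) ha)).symm
      show τ (IsLocalRing.ResidueField.map (algebraMap H S) (IsLocalRing.residue H z)) =
        IsLocalRing.ResidueField.map g (IsLocalRing.residue H z)
      rw [← ha]
      have h := RingHom.congr_fun hτ (IsLocalRing.residue R a)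
      show τ (IsLocalRing.residue S (algebraMap H S (algebraMap R H a))) =
        IsLocalRing.residue T (g (algebraMap R H a))
      rw [← IsScalarTower.algebraMap_apply R H S, show g (algebraMap R H a) = f a from RingHom.congr_fun hg a]
      exact h
    obtain ⟨k, ⟨hk1, hk2⟩, hku⟩ :=
      (inferInstance : Hensel.IsStrictHenselization H S).universal T g τ hτ'
    refine ⟨k, ⟨?_, hk2⟩, fun k' hk' => hku k' ⟨hgu _ ?_, hk'.2⟩⟩
    · rw [IsScalarTower.algebraMap_eq R H S, ← RingHom.comp_assoc, hk1, hg]
    · show (k'.comp (algebraMap H S)).comp (algebraMap R H) = f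
      rw [RingHom.comp_assoc, ← IsScalarTower.algebraMap_eq, hk'.1]

end Groth.Agent.S17620
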