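import Groth.Statements.S1993
import Groth.Agent.EtAlg23.HenselUniv

set_option autoImplicit false
universe u
open EtAlg

namespace Groth.Agent.S1993

/-- Let A be a local ring with maximal ideal m and B a local A-algebra with local structure map. Then B
is a henselization of the pair (A, m) if and only if B is a henselization of the local ring A (both
in the sense of the universal properties). -/
theorem result (A B : Type u) [CommRing A] [IsLocalRing A] [CommRing B]
    [IsLocalRing B] [Algebra A B] [IsLocalHom (algebraMap A B)] :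
    Hens2.IsPairHenselization A (IsLocalRing.maximalIdeal A) B ↔ Hensel.IsHenselization A B := by
  constructor
  · rintro ⟨hBm, huniv⟩
    obtain ⟨h, hh, -⟩ := huniv (IsLocalRing.ResidueField A) ⊥ (IsLocalRing.residue A)
      (Groth.Agent.EtAlg23.henselianRing_bot _)
      ((Ideal.map_le_iff_le_comap).2 fun a ha => Ideal.mem_comap.2 (Ideal.mem_bot.2 (Ideal.Quotient.eq_zero_iff_mem.2 ha)))
    let mB := (IsLocalRing.maximalIdeal A).map (algebraMap A B)
    let ι : IsLocalRing.ResidueField A →+* B ⧸ mB :=
      Ideal.Quotient.lift _ ((Ideal.Quotient.mk mB).comp (algebraMap A B))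
        fun a ha => Ideal.Quotient.eq_zero_iff_mem.2 (Ideal.mem_map_of_mem _ ha)
    obtain ⟨g, -, hg⟩ := huniv (B ⧸ mB) ⊥ ((Ideal.Quotient.mk mB).comp (algebraMap A B))
      (Groth.Agent.EtAlg23.henselianRing_bot _)
      (by rw [← Ideal.map_map, Ideal.map_quotient_self])
    have key : ι.comp h = Ideal.Quotient.mk mB :=
      (hg _ (by simp only [RingHom.comp_assoc, hh]; exact Ideal.Quotient.lift_comp_mk _ _ _)).trans (hg _ rfl).symm
    have hmax : mB = IsLocalRing.maximalIdeal B := by
      have hle : mB ≤ IsLocalRing.maximalIdeal B :=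
        ((IsLocalRing.local_hom_TFAE (algebraMap A B)).out 0 2).1 ‹_›
      refine le_antisymm hle fun b hb => ?_
      obtain ⟨a, ha⟩ := IsLocalRing.residue_surjective (h b)
      have hd : b - algebraMap A B a ∈ mB := (Ideal.Quotient.mk_eq_mk_iff_sub_mem _ _).1
        ((RingHom.congr_fun key b).symm.trans (congrArg ι ha.symm))
      have ham : a ∈ IsLocalRing.maximalIdeal A := by
        have := (IsLocalRing.maximalIdeal B).sub_mem hb (hle hd)
        rw [sub_sub_cancel, IsLocalRing.mem_maximalIdeal, mem_nonunits_iff, isUnit_map_iff] at this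
        exact this
      simpa using mB.add_mem hd (Ideal.mem_map_of_mem (algebraMap A B) ham)
    haveI : HenselianRing B (IsLocalRing.maximalIdeal B) := hmax ▸ hBm
    haveI := Groth.Agent.EtAlg23.henselianLocalRing_of_henselianRing B
    exact ⟨this, fun T _ _ f hf => huniv T (IsLocalRing.maximalIdeal T) f inferInstance
      (((IsLocalRing.local_hom_TFAE f).out 0 2).1 hf)⟩
  · intro hB
    haveI := hB.henselian
    obtain ⟨hsurj, hmax⟩ :=
      Groth.Agent.EtAlg23.henselization_surjective_and_map_maximalIdeal hB.universal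
    refine ⟨hmax ▸ inferInstance, fun C _ J f hC hfJ => ?_⟩
    by_cases hne : J = ⊤
    · have : Subsingleton C := subsingleton_iff_zero_eq_one.1 (by
        by_contra h01
        haveI : Nontrivial C := ⟨⟨0, 1, h01⟩⟩
        obtain ⟨M, hM⟩ := Ideal.exists_maximal C
        have h1 : (1 : C) ∈ M :=
          (sInf_le ⟨bot_le, hM⟩ : Ideal.jacobson (⊥ : Ideal C) ≤ M) (hC.jac (hne ▸ Submodule.mem_top))
        exact hM.ne_top (M.eq_top_iff_one.2 h1))
      let z : B →+* C := ⟨⟨⟨fun _ => 0, Subsingleton.elim _ _⟩, fun _ _ => Subsingleton.elim _ _⟩,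
        Subsingleton.elim _ _, fun _ _ => Subsingleton.elim _ _⟩
      exact ⟨z, RingHom.ext fun _ => Subsingleton.elim _ _, fun g _ => RingHom.ext fun _ => Subsingleton.elim _ _⟩
    · have hu := Groth.Agent.EtAlg23.isUnit_preimageSubring_iff hC.jac hne hfJ
      haveI := Groth.Agent.EtAlg23.henselianLocalRing_preimageSubring hC hne hfJ
      let S := Groth.Agent.EtAlg23.preimageSubring f J
      have hm : ∀ a, f a ∈ S := fun a => Groth.Agent.EtAlg23.mem_preimageSubring.2 ⟨a, by simp⟩
      have hloc : IsLocalHom (f.codRestrict S hm) := ⟨fun a ha => by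
        by_contra h
        exact (hu _).1 ha (hfJ (Ideal.mem_map_of_mem f ((IsLocalRing.mem_maximalIdeal a).2 h)))⟩
      obtain ⟨g, hg, hgu⟩ := hB.universal S (f.codRestrict S hm) hloc
      refine ⟨S.subtype.comp g, by simp only [RingHom.comp_assoc, hg]; rfl, fun g' hg' => ?_⟩
      have hmem : ∀ b, g' b ∈ S := fun b => by
        obtain ⟨a, ha⟩ := hsurj b
        refine Groth.Agent.EtAlg23.mem_preimageSubring.2 ⟨a, ?_⟩
        have h1 := Ideal.mem_map_of_mem g' ha
        rw [Ideal.map_map, hg'] at h1
        rw [← hg']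
        simpa using hfJ h1
      have : g'.codRestrict S hmem = g := hgu _ (RingHom.ext fun a => Subtype.ext (RingHom.congr_fun hg' a))
      rw [← this]; rfl

end Groth.Agent.S1993
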