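import Groth.Statements.S5056
import Groth.Agent.Hensel20.GeomNormal
-- import your own Groth.Agent.* helpers here

set_option autoImplicit false
universe u
open Hensel

namespace Groth.Agent.S5056

/-- Let A be a Noetherian henselian local domain whose formal fibres are geometrically normal, Â its
completion (an integral domain), K and L fraction fields of A and Â with L a K-algebra compatibly.
Then L is geometrically reduced over K (a separable extension) and every element of L algebraic over
K lies in K. -/
theorem result (A : Type u) [CommRing A] [IsNoetherianRing A]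
    [HenselianLocalRing A] [IsDomain A] (h : EGA4.HasGeomNormalFormalFibres A) [IsDomain (EGA4.Cpl A)]
    (K L : Type u) [Field K] [Field L] [Algebra A K] [IsFractionRing A K]
    [Algebra (EGA4.Cpl A) L] [IsFractionRing (EGA4.Cpl A) L] [Algebra K L] [Algebra A L]
    [IsScalarTower A K L] [IsScalarTower A (EGA4.Cpl A) L] :
    Algebra.IsGeometricallyReduced K L ∧ ∀ x : L, IsAlgebraic K x → x ∈ Set.range (algebraMap K L) := by
  open scoped TensorProduct in
  classical
  let C := EGA4.Cpl A
  have hAK : Function.Injective (algebraMap A K) := IsFractionRing.injective A K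
  have hCL : Function.Injective (algebraMap C L) := IsFractionRing.injective C L
  haveI : IsNoetherianRing C := EGA4H10.isNoetherianRing_cpl (A := A)
  -- base change to an extension of `K`
  have key : ∀ (K' : Type u) [Field K'] [Algebra K K'] [Algebra A K'] [IsScalarTower A K K'],
      ∃ μ : K' ⊗[A] C →ₐ[A] K' ⊗[K] L, (∀ a c, μ (a ⊗ₜ c) = a ⊗ₜ algebraMap C L c) ∧
        Function.Injective μ ∧
        ∀ z : K' ⊗[K] L, ∃ c : C, c ≠ 0 ∧ ((1 : K') ⊗ₜ[K] algebraMap C L c) * z ∈ μ.range := by
    intro K' _ _ _ _
    let μ : K' ⊗[A] C →ₐ[A] K' ⊗[K] L := Algebra.TensorProduct.lift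
      ((Algebra.TensorProduct.includeLeft : K' →ₐ[K] K' ⊗[K] L).restrictScalars A)
      (((Algebra.TensorProduct.includeRight : L →ₐ[K] K' ⊗[K] L).restrictScalars A).comp
        (IsScalarTower.toAlgHom A C L)) fun _ _ => .all _ _
    have hμ : ∀ a c, μ (a ⊗ₜ c) = a ⊗ₜ algebraMap C L c := fun a c => by simp [μ]
    refine ⟨μ, hμ, ?_, fun z => ?_⟩
    · let b := Module.Free.chooseBasis K K'
      suffices hrep : ∀ z : K' ⊗[A] C, ∃ s : A, s ≠ 0 ∧ ∃ f : _ →₀ C,
          s • z = f.sum fun i c => b i ⊗ₜ[A] c by
        refine (injective_iff_map_eq_zero μ).mpr fun z hz => ?_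
        obtain ⟨s, hs, f, hf⟩ := hrep z
        have h1 : (f.sum fun i c => b i ⊗ₜ[K] algebraMap C L c) = 0 := by
          have := congrArg μ hf
          rw [map_smul, hz, smul_zero, map_finsuppSum] at this
          simpa [hμ] using this.symm
        have h2 : ∀ i, f i = 0 := fun i => by
          have := congrArg (fun t => TensorProduct.lid K L ((b.coord i).rTensor L t)) h1
          simp only [map_finsuppSum, LinearMap.rTensor_tmul, TensorProduct.lid_tmul, map_zero,
            Module.Basis.coord_apply, Module.Basis.repr_self] at this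
          rw [Finsupp.sum, Finset.sum_eq_single i (fun j _ hj => by
            rw [Finsupp.single_eq_of_ne (Ne.symm hj), zero_smul])
            (fun hi => by simp [Finsupp.notMem_support_iff.mp hi]), Finsupp.single_eq_same,
            one_smul] at this
          exact (map_eq_zero_iff _ hCL).mp this
        have h3 : s • z = 0 := by
          rw [hf]
          exact Finset.sum_eq_zero fun i _ => by simp [h2 i]
        have hu : IsUnit (algebraMap A (K' ⊗[A] C) s) := by
          rw [IsScalarTower.algebraMap_apply A K' (K' ⊗[A] C)]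
          refine (IsUnit.mk0 _ ?_).map _
          rw [IsScalarTower.algebraMap_apply A K K', map_ne_zero, map_ne_zero_iff _ hAK]
          exact hs
        rw [show s • z = algebraMap A (K' ⊗[A] C) s * z from Algebra.smul_def s z] at h3
        exact hu.mul_right_eq_zero.mp h3
      intro z
      induction z using TensorProduct.induction_on with
      | zero => exact ⟨1, one_ne_zero, 0, by simp⟩
      | tmul a c =>
        obtain ⟨⟨s, hs⟩, hsa⟩ := IsLocalization.exist_integer_multiples_of_finset (nonZeroDivisors A)
          ((b.repr a).support.image (b.repr a))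
        choose! n hn using fun i (hi : i ∈ (b.repr a).support) =>
          hsa _ (Finset.mem_image_of_mem _ hi)
        refine ⟨s, nonZeroDivisors.ne_zero hs,
          Finsupp.onFinset (b.repr a).support (fun i => if i ∈ (b.repr a).support then n i • c else 0)
            (fun i hi => by by_contra h'; simp [h'] at hi), ?_⟩
        rw [Finsupp.onFinset_sum _ (fun i => TensorProduct.tmul_zero C (b i))]
        rw [TensorProduct.smul_tmul']
        conv_lhs => rw [← b.linearCombination_repr a, Finsupp.linearCombination_apply, Finsupp.sum,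
          Finset.smul_sum, TensorProduct.sum_tmul]
        refine Finset.sum_congr rfl fun i hi => ?_
        rw [if_pos hi, ← TensorProduct.smul_tmul, ← smul_assoc]
        have := hn i hi
        simp only [Algebra.linearMap_apply] at this
        rw [← algebraMap_smul K (n i) (b i), this]
      | add x y hx hy =>
        obtain ⟨s, hs, f, hf⟩ := hx
        obtain ⟨t, ht, g, hg⟩ := hy
        refine ⟨s * t, mul_ne_zero hs ht, t • f + s • g, ?_⟩
        rw [Finsupp.sum_add_index' (fun i => TensorProduct.tmul_zero C (b i))
          (fun i c d => TensorProduct.tmul_add (b i) c d),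
          Finsupp.sum_smul_index' (fun i => TensorProduct.tmul_zero C (b i)),
          Finsupp.sum_smul_index' (fun i => TensorProduct.tmul_zero C (b i)), smul_add]
        simp only [TensorProduct.tmul_smul, ← Finsupp.smul_sum, ← hf, ← hg, smul_smul]
        rw [mul_comm t s]
    · induction z using TensorProduct.induction_on with
      | zero => exact ⟨1, one_ne_zero, by simp⟩
      | tmul a l =>
        obtain ⟨c, d, hd, rfl⟩ := IsFractionRing.div_surjective (A := C) l
        refine ⟨d, nonZeroDivisors.ne_zero hd, a ⊗ₜ c, ?_⟩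
        show μ (a ⊗ₜ c) = _
        rw [hμ, Algebra.TensorProduct.tmul_mul_tmul, one_mul, mul_div_cancel₀ _
          ((map_ne_zero_iff _ hCL).mpr (nonZeroDivisors.ne_zero hd))]
      | add x y hx hy =>
        obtain ⟨d, hd, hdx⟩ := hx
        obtain ⟨d', hd', hdy⟩ := hy
        refine ⟨d * d', mul_ne_zero hd hd', ?_⟩
        have hm : ∀ e : C, (1 : K') ⊗ₜ[K] algebraMap C L e ∈ μ.range := fun e => ⟨1 ⊗ₜ e, hμ 1 e⟩
        have h1 : (1 : K') ⊗ₜ[K] algebraMap C L (d * d') =
            ((1 : K') ⊗ₜ[K] algebraMap C L d) * ((1 : K') ⊗ₜ[K] algebraMap C L d') := by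
          rw [Algebra.TensorProduct.tmul_mul_tmul, one_mul, map_mul]
        rw [h1]
        convert add_mem (μ.range.mul_mem (hm d') hdx) (μ.range.mul_mem (hm d) hdy) using 1
        ring
  have hunit : ∀ (K' : Type u) [Field K'] [Algebra K K'] (c : C), c ≠ 0 →
      IsUnit ((1 : K') ⊗ₜ[K] algebraMap C L c) := fun K' _ _ c hc =>
    (IsUnit.mk0 _ ((map_ne_zero_iff _ hCL).mpr hc)).map
      (Algebra.TensorProduct.includeRight : L →ₐ[K] K' ⊗[K] L)
  have hred := Hensel20.hasGeomReducedFormalFibres_of_normal h
  refine ⟨?_, fun x hx => ?_⟩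
  · rw [Algebra.isGeometricallyReduced_field_iff]
    obtain ⟨μ, -, hinj, hloc⟩ := key (AlgebraicClosure K)
    haveI : IsReduced (C ⊗[A] AlgebraicClosure K) := Hensel20.isReduced_tensor_field hred _
    haveI : IsReduced (AlgebraicClosure K ⊗[A] C) :=
      isReduced_of_injective (Algebra.TensorProduct.comm A (AlgebraicClosure K) C)
        (Algebra.TensorProduct.comm A (AlgebraicClosure K) C).injective
    refine ⟨fun z hz => ?_⟩
    obtain ⟨c, hc, w, hw⟩ := hloc z
    have hwn : IsNilpotent (μ w) := hw ▸ (Commute.all _ z).isNilpotent_mul_left hz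
    obtain ⟨n, hn⟩ := hwn
    have hw0 : w = 0 := IsNilpotent.eq_zero ⟨n, hinj (by rw [map_pow, hn, map_zero])⟩
    have hw' : μ w = _ := hw
    rw [hw0, map_zero] at hw'
    exact ((hunit _ c hc).mul_right_eq_zero).mp hw'.symm
  · let K' := IntermediateField.adjoin K ({x} : Set L)
    haveI hfinK : FiniteDimensional K K' := IntermediateField.adjoin.finiteDimensional hx.isIntegral
    obtain ⟨μ, -, hinj, hloc⟩ := key K'
    -- `K' ⊗ C` is a domain
    let κ := (⊥ : Ideal A).ResidueField
    let σ : κ →+* K := Ideal.ResidueField.lift ⊥ (algebraMap A K) bot_le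
      fun a ha => (IsUnit.mk0 _ ((map_ne_zero_iff _ hAK).mpr fun h0 => ha (by rw [h0]; exact zero_mem _)))
    have hσ : ∀ a, σ (algebraMap A κ a) = algebraMap A K a := fun a =>
      Ideal.ResidueField.lift_algebraMap _ _ _ _ a
    have hσb : Function.Bijective σ := ⟨σ.injective, fun y => by
      obtain ⟨a, s, hs, rfl⟩ := IsFractionRing.div_surjective (A := A) y
      exact ⟨algebraMap A κ a / algebraMap A κ s, by rw [map_div₀, hσ, hσ]⟩⟩
    let _ : Algebra κ K' := ((algebraMap K K').comp σ).toAlgebra
    haveI : IsScalarTower A κ K' := IsScalarTower.of_algebraMap_eq fun a => by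
      show _ = algebraMap K K' (σ (algebraMap A κ a))
      rw [hσ, ← IsScalarTower.algebraMap_apply]
    haveI : Module.Finite κ K' :=
      Module.Finite.of_equiv_equiv (RingEquiv.ofBijective σ hσb).symm (RingEquiv.refl K')
        (RingHom.ext fun y => congrArg (algebraMap K K')
          ((RingEquiv.ofBijective σ hσb).apply_symm_apply y))
    have hnor : EGA4.IsNormalRing (K' ⊗[A] C) :=
      EGA4H10.isNormalRing_of_ringEquiv
        (Algebra.TensorProduct.cancelBaseChange A κ κ K' C).toRingEquiv (h ⊥ K' inferInstance)
    haveI : Algebra.EssFiniteType A K := Algebra.EssFiniteType.of_isLocalization K (nonZeroDivisors A)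
    haveI : Algebra.EssFiniteType A K' := Algebra.EssFiniteType.comp A K K'
    haveI : IsNoetherianRing (C ⊗[A] K') := Algebra.EssFiniteType.isNoetherianRing C _
    haveI : IsNoetherianRing (K' ⊗[A] C) :=
      isNoetherianRing_of_ringEquiv _ (Algebra.TensorProduct.comm A C K').toRingEquiv
    haveI := Hensel20.connectedSpace_tensor_cpl A hred K'
    haveI : IsDomain (K' ⊗[A] C) := Hensel20.isDomain_of_isNormalRing hnor
    haveI : Nontrivial (K' ⊗[K] L) :=
      (Algebra.TensorProduct.includeRight_injective (R := K) (A := K') (B := L)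
        (algebraMap K K').injective).nontrivial
    haveI : NoZeroDivisors (K' ⊗[K] L) := ⟨fun {y z} hyz => by
      obtain ⟨c, hc, v, hv⟩ := hloc y
      obtain ⟨d, hd, w, hw⟩ := hloc z
      have hv' : μ v = _ := hv
      have hw' : μ w = _ := hw
      have h0 : v * w = 0 := hinj (by
        rw [map_mul, hv', hw', map_zero,
          mul_mul_mul_comm, hyz, mul_zero])
      rcases mul_eq_zero.mp h0 with h1 | h1
      · rw [h1, map_zero] at hv'
        exact Or.inl ((hunit _ c hc).mul_right_eq_zero.mp hv'.symm)
      · rw [h1, map_zero] at hw'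
        exact Or.inr ((hunit _ d hd).mul_right_eq_zero.mp hw'.symm)⟩
    haveI : IsDomain (K' ⊗[K] L) :=
      NoZeroDivisors.to_isDomain (K' ⊗[K] L)
    -- the multiplication is injective
    let m : K' ⊗[K] L →ₐ[K] L := Algebra.TensorProduct.lift K'.val (AlgHom.id K L) fun _ _ => .all _ _
    haveI : Algebra.IsIntegral L (L ⊗[K] K') := inferInstance
    haveI : IsDomain (L ⊗[K] K') := (Algebra.TensorProduct.comm K L K').toRingEquiv.injective.isDomain
      (Algebra.TensorProduct.comm K L K').toRingEquiv.toRingHom
    have hfield : IsField (L ⊗[K] K') :=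
      isField_of_isIntegral_of_isField' (R := L) (S := L ⊗[K] K') (Field.toIsField L)
    have hmi : Function.Injective (m.comp (Algebra.TensorProduct.comm K L K').toAlgHom) := by
      refine (injective_iff_map_eq_zero _).mpr fun z hz => by_contra fun hz0 => ?_
      obtain ⟨w, hw⟩ := hfield.mul_inv_cancel hz0
      have := congrArg (m.comp (Algebra.TensorProduct.comm K L K').toAlgHom) hw
      rw [map_mul, hz, zero_mul, map_one] at this
      exact zero_ne_one this
    let x' : K' := ⟨x, IntermediateField.mem_adjoin_simple_self K x⟩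
    have heq : (1 : L) ⊗ₜ[K] x' = x ⊗ₜ[K] (1 : K') := hmi (by simp [m, x'])
    by_contra hne
    have hind : x' ∉ Submodule.span K ({1} : Set K') := fun hmem => by
      obtain ⟨r, hr⟩ := Submodule.mem_span_singleton.mp hmem
      exact hne ⟨r, by rw [← show ((r • 1 : K') : L) = x from congrArg Subtype.val hr]; simp [Algebra.smul_def]⟩
    obtain ⟨φ, hφ, hφ1⟩ := Submodule.exists_dual_map_eq_bot_of_notMem hind inferInstance
    have h1 := congrArg (fun t => TensorProduct.rid K L (φ.lTensor L t)) heq
    have hφone : φ 1 = 0 := by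
      have : φ 1 ∈ (Submodule.span K ({1} : Set K')).map φ :=
        Submodule.mem_map_of_mem (Submodule.mem_span_singleton_self 1)
      rwa [hφ1, Submodule.mem_bot] at this
    simp only [LinearMap.lTensor_tmul, TensorProduct.rid_tmul, hφone, zero_smul] at h1
    rw [← Algebra.algebraMap_eq_smul_one, map_eq_zero] at h1
    exact hφ h1

end Groth.Agent.S5056
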