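import Groth.Statements.S0605
import Mathlib
import Groth.Agent.CAlg1.Serre

set_option autoImplicit false
universe u
open CAlg

namespace Groth.Agent.S0605

/-- Over a regular local ring, a finitely generated module whose depth equals the dimension of the ring
(a maximal Cohen–Macaulay module) is free. -/
theorem result (R : Type u) [CommRing R]
    [IsRegularLocalRing R] (M : Type u) [AddCommGroup M] [Module R M] [Module.Finite R M]
    (h : ((LocCoh.depth R M : ℕ∞) : WithBot ℕ∞) = ringKrullDim R) : Module.Free R M := by
  obtain ⟨d, hd⟩ : ∃ d : ℕ, ringKrullDim R = d :=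
    ⟨_, (IsRegularLocalRing.spanFinrank_maximalIdeal (R := R)).symm⟩
  rcases subsingleton_or_nontrivial M with hM | hM
  · exact Module.Free.of_subsingleton R M
  rw [hd] at h
  obtain ⟨e, -, he, hab⟩ := Groth.Agent.CAlg1.auslander_buchsbaum_exists (R := R) M (e := d)
    (Groth.Agent.CAlg1.hasPD_of_regular R hd (ModuleCat.of R M))
  have hM' : LocCoh.depth R M = d := WithBot.coe_injective h
  rw [Groth.Agent.CAlg1.depth_regular R hd, hM'] at hab
  norm_cast at hab
  obtain rfl : e = 0 := by omega
  have : Module.Projective R M := (Groth.Agent.EGA4H10.hasPD_zero_iff M).mp he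
  have : Module.FinitePresentation R M := Module.finitePresentation_of_finite R M
  exact Module.free_of_flat_of_isLocalRing

end Groth.Agent.S0605
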