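import Groth.Statements.S2461
import Groth.Agent.FSAdic12.Basic
import Mathlib.RingTheory.AdicCompletion.Completeness
import Mathlib.RingTheory.AdicCompletion.Algebra

set_option autoImplicit false
universe u
open EGA41 TensorProduct

namespace Groth.Agent.S2461

/-- Let A carry the 𝔞-adic topology and let B be a Noetherian A-algebra with the 𝔟-adic topology. Then B
is formally smooth over A if and only if the 𝔟-adic completion of B, with the adic topology of the
extended ideal, is formally smooth over A. -/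
theorem result {A B : Type u} [CommRing A] (𝔞 : Ideal A) [CommRing B] [IsNoetherianRing B] [Algebra A B] (𝔟 : Ideal B) :
    EGA41.IsFormallySmoothAdic A 𝔞 B 𝔟 ↔
      EGA41.IsFormallySmoothAdic A 𝔞 (AdicCompletion 𝔟 B) (𝔟.map (algebraMap B (AdicCompletion 𝔟 B))) := by
  classical
  set Bh := AdicCompletion 𝔟 B
  set 𝔟h := 𝔟.map (algebraMap B Bh)
  let ι : B →ₐ[A] Bh := IsScalarTower.toAlgHom A B Bh
  let ev : (k : ℕ) → Bh →ₐ[A] B ⧸ 𝔟 ^ k := fun k => (AdicCompletion.evalₐ 𝔟 k).restrictScalars A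
  have hev : ∀ k b, ev k (ι b) = Ideal.Quotient.mk (𝔟 ^ k) b := fun k b =>
    (AdicCompletion.evalₐ 𝔟 k).commutes b
  have hker : ∀ k x, ev k x = 0 ↔ x ∈ 𝔟h ^ k := by
    intro k x
    have eq : (𝔟 ^ k • ⊤ : Ideal B) = 𝔟 ^ k := by simp
    trans x ∈ LinearMap.ker (AdicCompletion.eval 𝔟 B k)
    · show (AdicCompletion.evalₐ 𝔟 k x) = 0 ↔ _
      rw [← AdicCompletion.factor_eval_eq_evalₐ 𝔟 x eq.le, LinearMap.mem_ker]
      have : Function.Injective (Ideal.Quotient.factor eq.le) := by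
        simpa [RingHom.injective_iff_ker_eq_bot, Ideal.Quotient.factor_ker]
          using Ideal.map_mk_eq_bot_of_le eq.symm.le
      exact map_eq_zero_iff _ this
    · rw [← AdicCompletion.pow_smul_top_eq_ker_eval 𝔟.fg_of_isNoetherianRing, ← Ideal.map_pow,
        Ideal.smul_top_eq_map]
      rfl
  constructor
  · intro h C _ _ J hJ hC u hu
    obtain ⟨k, hk⟩ := hu
    obtain ⟨v, hv⟩ := h C J hJ hC (u.comp ι) ⟨k, fun b hb => hk _ (by
      rw [← Ideal.map_pow]; exact Ideal.mem_map_of_mem _ hb)⟩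
    obtain ⟨m, hm⟩ := Groth.Agent.FSAdic12.continuous_of_lift hJ 𝔟 v k fun b hb => by
      rw [show Ideal.Quotient.mk J (v b) = u (ι b) from AlgHom.congr_fun hv b]
      exact hk _ (by rw [← Ideal.map_pow]; exact Ideal.mem_map_of_mem _ hb)
    let vh : Bh →ₐ[A] C := (Ideal.Quotient.liftₐ (𝔟 ^ m) v hm).comp (ev m)
    refine ⟨vh, AlgHom.ext fun x => ?_⟩
    obtain ⟨b, hb⟩ := Ideal.Quotient.mk_surjective (ev (m + k) x)
    have hd : x - ι b ∈ 𝔟h ^ (m + k) := (hker _ _).mp (by rw [map_sub, hev, hb, sub_self])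
    have h1 : ev m (x - ι b) = 0 := (hker _ _).mpr (Ideal.pow_le_pow_right (Nat.le_add_right _ _) hd)
    have h2 : u (x - ι b) = 0 := hk _ (Ideal.pow_le_pow_right (Nat.le_add_left _ _) hd)
    rw [map_sub, sub_eq_zero] at h1 h2
    rw [h2]
    show Ideal.Quotient.mk J (Ideal.Quotient.liftₐ _ v hm (ev m x)) = _
    rw [h1, hev]
    exact AlgHom.congr_fun hv b
  · intro h C _ _ J hJ hC u hu
    obtain ⟨k, hk⟩ := hu
    let uh : Bh →ₐ[A] C ⧸ J := (Ideal.Quotient.liftₐ (𝔟 ^ k) u hk).comp (ev k)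
    obtain ⟨v, hv⟩ := h C J hJ hC uh ⟨k, fun x hx => by
      show Ideal.Quotient.liftₐ (𝔟 ^ k) u hk (ev k x) = 0
      rw [(hker _ _).mpr hx, map_zero]⟩
    refine ⟨v.comp ι, AlgHom.ext fun b => ?_⟩
    show Ideal.Quotient.mk J (v (ι b)) = u b
    rw [show Ideal.Quotient.mk J (v (ι b)) = uh (ι b) from AlgHom.congr_fun hv (ι b)]
    show Ideal.Quotient.liftₐ (𝔟 ^ k) u hk (ev k (ι b)) = u b
    rw [hev]
    rfl

end Groth.Agent.S2461
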