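import Groth.Statements.S2462
import Groth.Agent.FSAdic12.LeftInv
import Groth.Agent.FSAdic12.LiftComplete
import Mathlib.RingTheory.AdicCompletion.Noetherian
import Mathlib.RingTheory.AdicCompletion.Basic
import Mathlib.RingTheory.Derivation.ToSquareZero
import Mathlib.RingTheory.Kaehler.Basic
import Mathlib.Algebra.TrivSqZeroExt.Basic
import Mathlib.LinearAlgebra.TensorProduct.Pi
import Groth.Prelude.Def_FSRel

set_option autoImplicit false
set_option linter.all false
universe u
open EGA41 TensorProduct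

namespace Groth.Agent.S2462

open IsLocalRing in
/-- Let A carry the 𝔞-adic and B the 𝔟-adic topology with B formally smooth over A; let C be a complete
Noetherian local A-algebra with 𝔞C inside the maximal ideal (continuity of A → C) and J ≠ C an
ideal. Then every A-algebra homomorphism u : B → C/J sending 𝔟 into the maximal ideal of C/J
(continuity) is induced by an A-algebra homomorphism v : B → C sending 𝔟 into the maximal ideal of
C. -/
theorem result {A B C : Type u} [CommRing A] (𝔞 : Ideal A) [CommRing B] [Algebra A B] (𝔟 : Ideal B)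
    (hB : EGA41.IsFormallySmoothAdic A 𝔞 B 𝔟)
    [CommRing C] [IsLocalRing C] [IsNoetherianRing C] [IsAdicComplete (maximalIdeal C) C] [Algebra A C]
    (hA : 𝔞.map (algebraMap A C) ≤ maximalIdeal C) (J : Ideal C) (hJ : J ≠ ⊤)
    (u : B →ₐ[A] C ⧸ J) (hu : 𝔟.map u.toRingHom ≤ (maximalIdeal C).map (Ideal.Quotient.mk J)) :
    ∃ v : B →ₐ[A] C, 𝔟.map v.toRingHom ≤ maximalIdeal C ∧ (Ideal.Quotient.mkₐ A J).comp v = u := by
  have : Nontrivial (C ⧸ J) := Ideal.Quotient.nontrivial_iff.mpr hJ
  have : IsLocalRing (C ⧸ J) := .of_surjective' (Ideal.Quotient.mk J) Ideal.Quotient.mk_surjective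
  have : IsHausdorff ((maximalIdeal C).map (Ideal.Quotient.mk J)) (C ⧸ J) := by
    apply IsHausdorff.of_le_jacobson
    rw [IsLocalRing.jacobson_eq_maximalIdeal (⊥ : Ideal (C ⧸ J)) bot_ne_top]
    refine IsLocalRing.le_maximalIdeal fun htop => ?_
    have h := congrArg (Ideal.comap (Ideal.Quotient.mk J)) htop
    rw [Ideal.comap_map_of_surjective _ Ideal.Quotient.mk_surjective, Ideal.comap_top,
      ← RingHom.ker_eq_comap_bot, Ideal.mk_ker, sup_eq_left.mpr (IsLocalRing.le_maximalIdeal hJ)] at h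
    exact (maximalIdeal.isMaximal C).ne_top h
  obtain ⟨v, ⟨k, hk⟩, hv⟩ := Groth.Agent.FSAdic12.lift_to_complete 𝔞 𝔟 (maximalIdeal C) hB
    ⟨1, by rwa [pow_one]⟩ J ⟨1, by rw [pow_one]; exact IsLocalRing.le_maximalIdeal hJ⟩ u ⟨1, by rwa [pow_one]⟩
  refine ⟨v, ?_, hv⟩
  rw [Ideal.map_le_iff_le_comap]
  intro x hx
  have h1 := hk (Ideal.mem_map_of_mem _ (Ideal.pow_mem_pow hx k))
  rw [map_pow] at h1
  exact (maximalIdeal.isMaximal C).isPrime.mem_of_pow_mem k h1

end Groth.Agent.S2462
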