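import Groth.Statements.S2073
import Groth.Agent.CAlg6.NoetherDomain
-- import your own Groth.Agent.* helpers here

set_option autoImplicit false
universe u
open CAlg

namespace Groth.Agent.S2073

/-- Let `R` be a domain and `R → S` an injective ring map of finite type. Then there are elements `y_1,
…, y_d` of `S` algebraically independent over `R`, a finitely generated `R`-subalgebra `S'` of `S`
containing them and integral over `R[y_1, …, y_d]`, and a nonzero `f ∈ R` such that every element of
`S` lands in `S'` after multiplication by a power of `f`. -/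
theorem result {R S : Type u} [CommRing R] [IsDomain R] [CommRing S] [Algebra R S]
    [Algebra.FiniteType R S] (hinj : Function.Injective (algebraMap R S)) :
    ∃ (d : ℕ) (y : Fin d → S) (S' : Subalgebra R S), AlgebraicIndependent R y ∧ (∀ i, y i ∈ S') ∧ S'.FG ∧
      (∀ s ∈ S', IsIntegral (Algebra.adjoin R (Set.range y)) s) ∧
      ∃ f : R, f ≠ 0 ∧ ∀ s : S, ∃ n : ℕ, (f ^ n) • s ∈ S' := by
  classical
  obtain ⟨d, g, f, hg, hf, hint⟩ := Groth.Agent.CAlg6.exists_normalization_away R S hinj
  let y : Fin d → S := fun i => g (MvPolynomial.X i)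
  have hgy : g = MvPolynomial.aeval y := MvPolynomial.algHom_ext fun i => by simp [y]
  obtain ⟨G, hG⟩ := ‹Algebra.FiniteType R S›.out
  choose n hn using hint
  let gens : Finset S := (G.image fun x => algebraMap R S f ^ n x * x) ∪ Finset.univ.image y
  have hy : ∀ i, y i ∈ Algebra.adjoin R (gens : Set S) := fun i =>
    Algebra.subset_adjoin (by simp [gens])
  have hrange : g.range = Algebra.adjoin R (Set.range y) := by
    rw [hgy, Algebra.adjoin_range_eq_range_aeval]
  have hyint : ∀ s ∈ Algebra.adjoin R (gens : Set S), IsIntegral (Algebra.adjoin R (Set.range y)) s := by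
    intro s hs
    refine Algebra.adjoin_le (S := (integralClosure (Algebra.adjoin R (Set.range y)) S).restrictScalars R) ?_ hs
    intro z hz
    simp only [gens, Finset.coe_union, Finset.coe_image, Finset.coe_univ, Set.image_univ, Set.mem_union,
      Set.mem_image, Finset.mem_coe, Set.mem_range] at hz
    rcases hz with ⟨x, -, rfl⟩ | ⟨i, rfl⟩
    · obtain ⟨p, hp, hp0⟩ := hn x
      show IsIntegral (Algebra.adjoin R (Set.range y)) (algebraMap R S f ^ n x * x)
      refine ⟨p.map (g.toRingHom.codRestrict (Algebra.adjoin R (Set.range y)).toSubring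
        fun q => hrange ▸ ⟨q, rfl⟩), hp.map _, ?_⟩
      rw [Polynomial.eval₂_map]
      exact hp0
    · show IsIntegral (Algebra.adjoin R (Set.range y)) (y i)
      exact isIntegral_algebraMap (x := (⟨y i, Algebra.subset_adjoin ⟨i, rfl⟩⟩ : Algebra.adjoin R (Set.range y)))
  refine ⟨d, y, Algebra.adjoin R (gens : Set S), ?_, hy, ⟨gens, rfl⟩, hyint, f, hf, fun s => ?_⟩
  · rw [algebraicIndependent_iff_injective_aeval, ← hgy]
    exact hg
  have hs : s ∈ Algebra.adjoin R (G : Set S) := hG ▸ Algebra.mem_top
  induction hs using Algebra.adjoin_induction with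
  | mem x hx =>
    refine ⟨n x, ?_⟩
    rw [Algebra.smul_def, map_pow]
    exact Algebra.subset_adjoin (by simp [gens]; exact Or.inl ⟨x, hx, rfl⟩)
  | algebraMap r => exact ⟨0, by rw [pow_zero, one_smul]; exact Subalgebra.algebraMap_mem _ r⟩
  | add u v _ _ hu hv =>
    obtain ⟨a, ha⟩ := hu
    obtain ⟨b, hb⟩ := hv
    refine ⟨a + b, ?_⟩
    rw [smul_add]
    refine add_mem ?_ ?_
    · rw [pow_add, mul_comm, mul_smul]; exact Subalgebra.smul_mem _ ha _
    · rw [pow_add, mul_smul]; exact Subalgebra.smul_mem _ hb _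
  | mul u v _ _ hu hv =>
    obtain ⟨a, ha⟩ := hu
    obtain ⟨b, hb⟩ := hv
    refine ⟨a + b, ?_⟩
    rw [pow_add, ← smul_mul_smul_comm]
    exact mul_mem ha hb

end Groth.Agent.S2073
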