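import Groth.Statements.S6361
import Groth.Agent.ML3.Countable

set_option autoImplicit false
universe u
open CAlg

namespace Groth.Agent.S6361

/-- Let M be a Mittag-Leffler, countably generated module over a commutative ring R, and f : P → M a
linear map with P finitely generated. Then there is an endomorphism a of M which factors through
some finitely presented module and satisfies a ∘ f = f. -/
theorem result (R : Type u)
    [CommRing R] (M : Type u) [AddCommGroup M] [Module R M] (hML : CAlg.IsMittagLeffler R M)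
    (hc : CAlg.IsCountablyGenerated R M) {P : Type u} [AddCommGroup P] [Module R P] [Module.Finite R P]
    (f : P →ₗ[R] M) :
    ∃ (Q : Type u) (_ : AddCommGroup Q) (_ : Module R Q) (_ : Module.FinitePresentation R Q)
      (b : M →ₗ[R] Q) (c : Q →ₗ[R] M), (c ∘ₗ b) ∘ₗ f = f := by
  classical
  obtain ⟨ι, _, _, _, _, G, _, _, φ, _, hfp, ⟨e⟩⟩ := ML3.exists_fp_system (R := R) M
  obtain ⟨n, π, hπ⟩ := Module.Finite.exists_fin' R P
  obtain ⟨i₀, a, ha⟩ := ML3.exists_factor_of φ (e.symm.toLinearMap ∘ₗ f ∘ₗ π)
  have hc' : CAlg.IsCountablyGenerated R (Module.DirectLimit G φ) := by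
    obtain ⟨s, hs, hspan⟩ := hc
    refine ⟨e.symm '' s, hs.image _, ?_⟩
    rw [← LinearEquiv.coe_coe, Submodule.span_image, hspan, Submodule.map_top, LinearEquiv.range]
  obtain ⟨j, b, hb⟩ := ML3.exists_endo φ
    (ML3.ml_of_univInj e.toLinearMap (fun Q _ _ => (e.rTensor Q).injective) hML) hc' i₀
  refine ⟨G j, inferInstance, inferInstance, hfp j, b ∘ₗ e.symm.toLinearMap,
    e.toLinearMap ∘ₗ Module.DirectLimit.of R ι G φ j, ?_⟩
  rw [← LinearMap.cancel_right hπ]
  refine LinearMap.ext fun v => ?_
  have h1 : e.symm (f (π v)) = Module.DirectLimit.of R ι G φ i₀ (a v) :=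
    (LinearMap.congr_fun ha v).symm
  have h2 := LinearMap.congr_fun hb (a v)
  simp only [LinearMap.comp_apply, LinearEquiv.coe_coe, h1] at h2 ⊢
  rw [h2, ← h1, LinearEquiv.apply_symm_apply]

end Groth.Agent.S6361
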