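import Groth.Statements.S6909
import Mathlib.RingTheory.Filtration
import Mathlib.RingTheory.Ideal.Quotient.PowTransition

set_option autoImplicit false
universe u
open CAlg

namespace Groth.Agent.S6909

/-- Let `A` be a Noetherian ring, `I ⊆ A` an ideal inside the Jacobson radical, and `L → M → N` two
complexes `(f, g)` and `(f', g')` of finite `A`-modules with `f' ≡ f` modulo `I^{c+1}M` and `g' ≡ g`
modulo `I^{c+1}N`. If `c` works in the Artin–Rees lemma for `f` and for `g` (that is `f(L) ∩ IⁿM ⊆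
f(I^{n-c}L)` for `n ≥ c`, and likewise for `g`) and `(f, g)` is exact, then `c` works for `g'` and
`(f', g')` is exact. -/
theorem result {A : Type u} [CommRing A] [IsNoetherianRing A] (I : Ideal A)
    (hI : I ≤ Ideal.jacobson (⊥ : Ideal A)) {L M N : Type u} [AddCommGroup L] [Module A L] [Module.Finite A L]
    [AddCommGroup M] [Module A M] [Module.Finite A M] [AddCommGroup N] [Module A N] [Module.Finite A N]
    (f f' : L →ₗ[A] M) (g g' : M →ₗ[A] N) (c : ℕ) (hgf : g.comp f = 0) (hgf' : g'.comp f' = 0)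
    (hf : (∀ n : ℕ, c ≤ n → LinearMap.range f ⊓ (I ^ n • (⊤ : Submodule A M)) ≤ Submodule.map f (I ^ (n - c) • (⊤ : Submodule A L))))
    (hg : (∀ n : ℕ, c ≤ n → LinearMap.range g ⊓ (I ^ n • (⊤ : Submodule A N)) ≤ Submodule.map g (I ^ (n - c) • (⊤ : Submodule A M))))
    (hex : Function.Exact f g)
    (hff' : ∀ x : L, f x - f' x ∈ I ^ (c + 1) • (⊤ : Submodule A M))
    (hgg' : ∀ y : M, g y - g' y ∈ I ^ (c + 1) • (⊤ : Submodule A N)) :
    (∀ n : ℕ, c ≤ n → LinearMap.range g' ⊓ (I ^ n • (⊤ : Submodule A N)) ≤ Submodule.map g' (I ^ (n - c) • (⊤ : Submodule A M))) ∧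
    Function.Exact f' g' := by
  have hd : ∀ {P Q : Type u} [AddCommGroup P] [Module A P] [AddCommGroup Q] [Module A Q]
      (φ φ' : P →ₗ[A] Q), (∀ x, φ x - φ' x ∈ I ^ (c + 1) • (⊤ : Submodule A Q)) →
      ∀ k, ∀ x ∈ I ^ k • (⊤ : Submodule A P), φ x - φ' x ∈ I ^ (k + (c + 1)) • (⊤ : Submodule A Q) := by
    intro P Q _ _ _ _ φ φ' h k x hx
    refine Submodule.smul_induction_on hx (fun r hr y _ => ?_) (fun a b ha hb => ?_)
    · rw [map_smul, map_smul, ← smul_sub, pow_add, Submodule.mul_smul]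
      exact Submodule.smul_mem_smul hr (h y)
    · rw [map_add, map_add, add_sub_add_comm]
      exact add_mem ha hb
  have key : ∀ k, ∀ a : M, g' a ∈ I ^ (c + k) • (⊤ : Submodule A N) →
      a ∈ LinearMap.range f' ⊔ I ^ k • (⊤ : Submodule A M) := by
    intro k
    induction k with
    | zero => intro a _; simp
    | succ k ih =>
      intro a ha
      obtain ⟨_, ⟨l, rfl⟩, a', ha', rfl⟩ := Submodule.mem_sup.mp
        (ih a (Submodule.pow_smul_top_le I N (by omega) ha))
      have h1 : g' a' = g' (f' l + a') := by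
        rw [map_add, show g' (f' l) = 0 from LinearMap.congr_fun hgf' l, zero_add]
      have h2 : g a' ∈ I ^ (c + (k + 1)) • (⊤ : Submodule A N) := by
        rw [show g a' = g' a' + (g a' - g' a') by abel, h1]
        refine add_mem ha (Submodule.pow_smul_top_le I N (n := k + (c + 1)) (by omega) ?_)
        rw [← h1]
        exact hd g g' hgg' k a' ha'
      obtain ⟨m, hm, hm'⟩ := hg (c + (k + 1)) (by omega) ⟨⟨a', rfl⟩, h2⟩
      rw [Nat.add_sub_cancel_left] at hm
      obtain ⟨l', hl'⟩ := (hex (a' - m)).mp (by rw [map_sub, hm', sub_self])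
      have h3 : f l' ∈ I ^ k • (⊤ : Submodule A M) := by
        rw [hl']
        exact sub_mem ha' (Submodule.pow_smul_top_le I M (by omega) hm)
      obtain ⟨l'', hl''1, hl''2⟩ : ∃ l'', f l'' = f l' ∧
          f l'' - f' l'' ∈ I ^ (k + 1) • (⊤ : Submodule A M) := by
        by_cases hk : c ≤ k
        · obtain ⟨l'', h4, h5⟩ := hf k hk ⟨⟨l', rfl⟩, h3⟩
          exact ⟨l'', h5, Submodule.pow_smul_top_le I M (by omega) (hd f f' hff' _ l'' h4)⟩
        · exact ⟨l', rfl, Submodule.pow_smul_top_le I M (by omega) (hff' l')⟩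
      rw [show f' l + a' = f' (l + l'') + (m + (f l'' - f' l'')) by
        rw [hl''1, hl', map_add]; abel]
      exact add_mem (Submodule.mem_sup_left ⟨_, rfl⟩) (Submodule.mem_sup_right (add_mem hm hl''2))
  refine ⟨fun n hn => ?_, fun a => ⟨fun ha => ?_, ?_⟩⟩
  · rintro _ ⟨⟨a, rfl⟩, ha⟩
    obtain ⟨_, ⟨l, rfl⟩, a', ha', rfl⟩ := Submodule.mem_sup.mp
      (key (n - c) a (by rwa [Nat.add_sub_cancel' hn]))
    exact ⟨a', ha', by rw [map_add, show g' (f' l) = 0 from LinearMap.congr_fun hgf' l, zero_add]⟩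
  · have h : (LinearMap.range f').mkQ a ∈
        (⨅ i : ℕ, I ^ i • ⊤ : Submodule A (M ⧸ LinearMap.range f')) := by
      rw [Submodule.mem_iInf]
      intro k
      have h1 := Submodule.mem_map_of_mem (f := (LinearMap.range f').mkQ) (key k a (by rw [ha]; exact zero_mem _))
      rw [Submodule.map_sup, Submodule.map_smul'', Submodule.mkQ_map_self, bot_sup_eq] at h1
      exact Submodule.smul_mono le_rfl le_top h1
    rw [Ideal.iInf_pow_smul_eq_bot_of_le_jacobson _ hI] at h
    exact (Submodule.Quotient.mk_eq_zero _).mp ((Submodule.mem_bot A).mp h)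
  · rintro ⟨l, rfl⟩
    exact LinearMap.congr_fun hgf' l

end Groth.Agent.S6909
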