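import Groth.Statements.S6910
import Groth.Agent.S6909

set_option autoImplicit false
universe u
open CAlg

namespace Groth.Agent.S6910

/-- Let `A` be a Noetherian ring, `I ⊆ A` an ideal inside the Jacobson radical, and `L → M → N` two
complexes `(f, g)` and `(f', g')` of finite `A`-modules with `f' ≡ f` modulo `I^{c+1}M` and `g' ≡ g`
modulo `I^{c+1}N`, such that the Artin–Rees bound holds with constant `c` for both `f` and `g`, and
`(f, g)` is exact. Then for every `n` the submodules `I^{n+1}N + g(M) ∩ IⁿN` and `I^{n+1}N + g'(M) ∩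
IⁿN` of `N` are equal; consequently the associated graded modules of `Coker g` and `Coker g'` with
respect to `I` coincide degreewise as subquotients of `N`. -/
theorem result {A : Type u} [CommRing A] [IsNoetherianRing A] (I : Ideal A)
    (hI : I ≤ Ideal.jacobson (⊥ : Ideal A)) {L M N : Type u} [AddCommGroup L] [Module A L] [Module.Finite A L]
    [AddCommGroup M] [Module A M] [Module.Finite A M] [AddCommGroup N] [Module A N] [Module.Finite A N]
    (f f' : L →ₗ[A] M) (g g' : M →ₗ[A] N) (c : ℕ) (hgf : g.comp f = 0) (hgf' : g'.comp f' = 0)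
    (hf : (∀ n : ℕ, c ≤ n → LinearMap.range f ⊓ (I ^ n • (⊤ : Submodule A M)) ≤ Submodule.map f (I ^ (n - c) • (⊤ : Submodule A L))))
    (hg : (∀ n : ℕ, c ≤ n → LinearMap.range g ⊓ (I ^ n • (⊤ : Submodule A N)) ≤ Submodule.map g (I ^ (n - c) • (⊤ : Submodule A M))))
    (hex : Function.Exact f g)
    (hff' : ∀ x : L, f x - f' x ∈ I ^ (c + 1) • (⊤ : Submodule A M))
    (hgg' : ∀ y : M, g y - g' y ∈ I ^ (c + 1) • (⊤ : Submodule A N)) (n : ℕ) :
    I ^ (n + 1) • (⊤ : Submodule A N) ⊔ (LinearMap.range g ⊓ I ^ n • (⊤ : Submodule A N)) =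
      I ^ (n + 1) • (⊤ : Submodule A N) ⊔ (LinearMap.range g' ⊓ I ^ n • (⊤ : Submodule A N)) := by
  have hcg' := (Groth.Agent.S6909.result I hI f f' g g' c hgf hgf' hf hg hex hff' hgg').1
  have hd : ∀ k, ∀ x ∈ I ^ k • (⊤ : Submodule A M),
      g x - g' x ∈ I ^ (k + (c + 1)) • (⊤ : Submodule A N) := by
    intro k x hx
    refine Submodule.smul_induction_on hx (fun r hr y _ => ?_) (fun a b ha hb => ?_)
    · rw [map_smul, map_smul, ← smul_sub, pow_add, Submodule.mul_smul]
      exact Submodule.smul_mem_smul hr (hgg' y)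
    · rw [map_add, map_add, add_sub_add_comm]
      exact add_mem ha hb
  have key : ∀ φ φ' : M →ₗ[A] N,
      (∀ k, ∀ x ∈ I ^ k • (⊤ : Submodule A M), φ x - φ' x ∈ I ^ (k + (c + 1)) • (⊤ : Submodule A N)) →
      (∀ n : ℕ, c ≤ n → LinearMap.range φ ⊓ (I ^ n • (⊤ : Submodule A N)) ≤
        Submodule.map φ (I ^ (n - c) • (⊤ : Submodule A M))) →
      I ^ (n + 1) • (⊤ : Submodule A N) ⊔ (LinearMap.range φ ⊓ I ^ n • (⊤ : Submodule A N)) ≤
        I ^ (n + 1) • (⊤ : Submodule A N) ⊔ (LinearMap.range φ' ⊓ I ^ n • (⊤ : Submodule A N)) := by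
    intro φ φ' hdiff hAR
    refine sup_le le_sup_left fun y hy => ?_
    obtain ⟨m, rfl, hmd⟩ : ∃ m, φ m = y ∧ φ m - φ' m ∈ I ^ (n + 1) • (⊤ : Submodule A N) := by
      by_cases hn : c ≤ n
      · obtain ⟨m, hm, h1⟩ := hAR n hn hy
        exact ⟨m, h1, Submodule.pow_smul_top_le I N (by omega) (hdiff _ m hm)⟩
      · obtain ⟨m, hm⟩ := hy.1
        exact ⟨m, hm, Submodule.pow_smul_top_le I N (by omega) (hdiff 0 m (by simp))⟩
    rw [show φ m = (φ m - φ' m) + φ' m by abel]
    refine add_mem (Submodule.mem_sup_left hmd) (Submodule.mem_sup_right ⟨⟨m, rfl⟩, ?_⟩)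
    rw [show φ' m = φ m - (φ m - φ' m) by abel]
    exact sub_mem hy.2 (Submodule.pow_smul_top_le I N (Nat.le_succ n) hmd)
  exact le_antisymm (key g g' hd hg)
    (key g' g (fun k x hx => by rw [← neg_sub]; exact neg_mem (hd k x hx)) hcg')

end Groth.Agent.S6910
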