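import Groth.Statements.S2022
import Groth.Agent.Smooth28.Lifting
-- import your own Groth.Agent.* helpers here

set_option autoImplicit false
universe u
open Smoothing

namespace Groth.Agent.S2022

/-- Let `I` be a nilpotent ideal of `R` and `Λ` a flat `R`-algebra such that `Λ/IΛ` is ind-smooth over
`R/I` (every map from a finitely presented algebra factors through a smooth one). Then `Λ` is
ind-smooth over `R`. -/
theorem result {R Λ : Type u} [CommRing R] [CommRing Λ]
    [Algebra R Λ] (I : Ideal R) (hI : IsNilpotent I) [Module.Flat R Λ]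
    (h : Smoothing.IndSmooth (R ⧸ I) (Λ ⧸ I.map (algebraMap R Λ))) :
    Smoothing.IndSmooth R Λ := by
  have hI' : RingHom.ker (algebraMap R (R ⧸ I)) = I := Ideal.mk_ker
  have hq : ∀ x, Ideal.Quotient.mkₐ R (I.map (algebraMap R Λ)) x = 0 →
      x ∈ (RingHom.ker (algebraMap R (R ⧸ I))).map (algebraMap R Λ) := fun x hx => by
    rw [hI']; exact Ideal.Quotient.eq_zero_iff_mem.1 hx
  obtain ⟨n, hn⟩ := hI
  refine Groth.Agent.Smooth28.indSmooth_of_nilpotent n R Λ (R ⧸ I) (Λ ⧸ I.map (algebraMap R Λ))
    Ideal.Quotient.mk_surjective (Ideal.Quotient.mkₐ R (I.map (algebraMap R Λ)))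
    Ideal.Quotient.mk_surjective hq ?_ h
  rw [hI', eq_bot_iff]
  exact (Ideal.pow_le_pow_right Nat.lt_two_pow_self.le).trans (le_of_eq hn)

end Groth.Agent.S2022
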