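import Groth.Statements.S2142
import Mathlib
import Groth.Agent.CAlgH2.LocalDimField
import Groth.Agent.CAlg5.WeakAss
import Groth.Agent.TF3.Basic

set_option autoImplicit false
set_option linter.style.haveILetI false
set_option linter.style.longLine false
universe u
open CAlg

namespace Groth.Agent.S2142


open TensorProduct

theorem trdeg_of_integral {F : Type u} [Field F] {d : ℕ} {Y : Type u} [CommRing Y] [IsDomain Y] [Algebra F Y]
    (ψ : MvPolynomial (Fin d) F →ₐ[F] Y) (hinj : Function.Injective ψ) (hint : ψ.toRingHom.IsIntegral) :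
    Algebra.trdeg F Y = d := by
  letI := ψ.toRingHom.toAlgebra
  haveI : IsScalarTower F (MvPolynomial (Fin d) F) Y := IsScalarTower.of_algebraMap_eq fun a => (ψ.commutes a).symm
  haveI : FaithfulSMul (MvPolynomial (Fin d) F) Y := (faithfulSMul_iff_algebraMap_injective _ _).2 hinj
  haveI : Algebra.IsIntegral (MvPolynomial (Fin d) F) Y := ⟨hint⟩
  rw [← trdeg_add_eq F (MvPolynomial (Fin d) F) (A := Y), trdeg_eq_zero (R := MvPolynomial (Fin d) F), add_zero,
    MvPolynomial.trdeg_of_isDomain]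
  simp

/-- `K ⊗ D` is torsion-free over `K ⊗ Q` when `D` embeds in a free `Q`-module. -/
theorem torsionFree_baseChange {k K Q D : Type u} [Field k] [Field K] [Algebra k K] [CommRing Q] [Algebra k Q]
    [CommRing D] [Algebra k D] (g : Q →ₐ[k] D) (n : ℕ) (f : Fin n → (D →ₗ[k] Q))
    (hf : ∀ i (a : Q) (x : D), f i (g a * x) = a * f i x) (hinj : ∀ x, (∀ i, f i x = 0) → x = 0)
    [IsDomain (K ⊗[k] Q)] (c : K ⊗[k] Q) (hc : c ≠ 0) (z : K ⊗[k] D)
    (h : Algebra.TensorProduct.map (AlgHom.id k K) g c * z = 0) : z = 0 := by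
  have hlin : ∀ i, LinearMap.lTensor K (f i) (Algebra.TensorProduct.map (AlgHom.id k K) g c * z) =
      c * LinearMap.lTensor K (f i) z := by
    intro i
    clear h hc
    induction c with
    | zero => simp
    | tmul a q =>
      induction z with
      | zero => simp
      | tmul b x => simp [hf]
      | add u v hu hv => simp only [mul_add, map_add, hu, hv]
    | add u v hu hv => simp only [map_add, add_mul, hu, hv]
  have hzero : ∀ i, LinearMap.lTensor K (f i) z = 0 := fun i => by
    have := hlin i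
    rw [h, map_zero, eq_comm] at this
    exact (mul_eq_zero.1 this).resolve_left hc
  have hF : Function.Injective (LinearMap.lTensor K (LinearMap.pi f)) :=
    Module.Flat.lTensor_preserves_injective_linearMap _ (by
      rw [injective_iff_map_eq_zero]
      exact fun x hx => hinj x fun i => congrFun hx i)
  refine hF ((TensorProduct.piRight k k K fun _ : Fin n => Q).injective (funext fun i => ?_))
  have : ∀ w, TensorProduct.piRight k k K (fun _ : Fin n => Q) (LinearMap.lTensor K (LinearMap.pi f) w) i =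
      LinearMap.lTensor K (f i) w := fun w => by
    induction w with
    | zero => simp
    | tmul a b => simp
    | add u v hu hv => simp only [map_add, Pi.add_apply, hu, hv]
  rw [this, hzero, map_zero, map_zero, Pi.zero_apply]

theorem trdeg_minimal {k S K : Type u} [Field k] [CommRing S] [Algebra k S] [Algebra.FiniteType k S] [Field K]
    [Algebra k K] (P : Ideal S) [P.IsPrime] (Q : Ideal (K ⊗[k] S)) [Q.IsPrime] (hQ : Q ∈ minimalPrimes (K ⊗[k] S))
    (hle : P ≤ Q.comap (Algebra.TensorProduct.includeRight : S →ₐ[k] K ⊗[k] S)) :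
    CAlgH2.trdegQuot K Q = CAlgH2.trdegQuot k P := by
  haveI : Algebra.FiniteType k (S ⧸ P) :=
    Algebra.FiniteType.of_surjective (Ideal.Quotient.mkₐ k P) Ideal.Quotient.mk_surjective
  obtain ⟨d, g, hg, hgf⟩ := exists_finite_inj_algHom_of_fg k (S ⧸ P)
  let Pd := MvPolynomial (Fin d) k
  have hD : Algebra.trdeg k (S ⧸ P) = d := trdeg_of_integral g hg (RingHom.IsIntegral.of_finite hgf)
  obtain ⟨n, f, hfl, hfi⟩ : ∃ (n : ℕ) (f : Fin n → ((S ⧸ P) →ₗ[k] Pd)),
      (∀ i (a : Pd) (x : S ⧸ P), f i (g a * x) = a * f i x) ∧ ∀ x, (∀ i, f i x = 0) → x = 0 := by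
    letI := g.toRingHom.toAlgebra
    haveI : IsScalarTower k Pd (S ⧸ P) := IsScalarTower.of_algebraMap_eq fun a => (g.commutes a).symm
    haveI : Module.Finite Pd (S ⧸ P) := hgf
    haveI : FaithfulSMul Pd (S ⧸ P) := (faithfulSMul_iff_algebraMap_injective _ _).2 hg
    haveI : Module.IsTorsionFree Pd (S ⧸ P) := inferInstance
    obtain ⟨n, f, hf⟩ := TF3.exists_injective_of_torsionFree (R := Pd) (M := S ⧸ P)
    refine ⟨n, fun i => ((LinearMap.proj i).comp f).restrictScalars k, fun i a x => ?_, fun x hx => ?_⟩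
    · show f (g a * x) i = a * f x i
      rw [show g a * x = a • x from (Algebra.smul_def a x).symm, map_smul, Pi.smul_apply, smul_eq_mul]
    · exact hf (by rw [map_zero]; exact funext hx)
  let π : K ⊗[k] S →ₐ[K] K ⊗[k] (S ⧸ P) := Algebra.TensorProduct.map (AlgHom.id K K) (Ideal.Quotient.mkₐ k P)
  have hπ : Function.Surjective π := LinearMap.lTensor_surjective K Ideal.Quotient.mk_surjective
  have hπk : RingHom.ker π ≤ Q := by
    have : RingHom.ker (Algebra.TensorProduct.map (AlgHom.id k K) (Ideal.Quotient.mkₐ k P)) ≤ Q := by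
      rw [Algebra.TensorProduct.lTensor_ker _ Ideal.Quotient.mk_surjective, Ideal.map_le_iff_le_comap]
      exact fun x hx => hle (Ideal.Quotient.eq_zero_iff_mem.1 hx)
    exact this
  let mkQ := Ideal.Quotient.mkₐ K Q
  let ρ : K ⊗[k] (S ⧸ P) →ₐ[K] (K ⊗[k] S) ⧸ Q := AlgHom.liftOfSurjective π hπ mkQ (fun x hx => Ideal.Quotient.eq_zero_iff_mem.2 (hπk hx))
  have hρ : ∀ w, ρ (π w) = mkQ w := fun w => AlgHom.liftOfSurjective_apply _ _ _ _ w
  let e := MvPolynomial.algebraTensorAlgEquiv k K (σ := Fin d)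
  let φ : MvPolynomial (Fin d) K →ₐ[K] K ⊗[k] (S ⧸ P) :=
    (Algebra.TensorProduct.map (AlgHom.id K K) g).comp e.symm.toAlgHom
  let ψ := ρ.comp φ
  haveI : IsDomain (K ⊗[k] Pd) := e.toMulEquiv.isDomain (MvPolynomial (Fin d) K)
  have hinj : Function.Injective ψ := by
    rw [injective_iff_map_eq_zero]
    intro p hp
    by_contra hp0
    obtain ⟨w, hw⟩ := hπ (φ p)
    have hwQ : w ∈ Q := by
      rw [← Ideal.Quotient.eq_zero_iff_mem]
      show mkQ w = 0
      rw [← hρ, hw]; exact hp
    obtain ⟨s, hs, m, hsm⟩ := ((CAlg5.mem_minimalPrimes_iff_mul_pow.1 hQ).2 w hwQ)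
    have h0 : π s = 0 := by
      refine torsionFree_baseChange g n f hfl hfi (e.symm p ^ m) (pow_ne_zero _ (fun h => hp0 (e.symm.injective (h.trans (map_zero _).symm)))) _ ?_
      have h1 := congrArg π (Ideal.mem_bot.1 hsm)
      rw [map_mul, map_pow, hw, map_zero, mul_comm] at h1
      rw [map_pow]
      exact h1
    exact hs (hπk h0)
  have hint : ψ.toRingHom.IsIntegral := by
    letI := ψ.toRingHom.toAlgebra
    intro y
    obtain ⟨w, rfl⟩ := Ideal.Quotient.mk_surjective y
    show IsIntegral (MvPolynomial (Fin d) K) (mkQ w)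
    rw [← hρ]
    generalize π w = z
    induction z with
    | zero => rw [map_zero]; exact isIntegral_zero
    | tmul c x =>
      rw [show c ⊗ₜ[k] x = algebraMap K (K ⊗[k] (S ⧸ P)) c * (1 : K) ⊗ₜ[k] x by simp, map_mul, AlgHom.commutes,
        ← ψ.commutes c]
      refine isIntegral_algebraMap.mul ?_
      obtain ⟨q, hq, hq0⟩ := (RingHom.IsIntegral.of_finite hgf) x
      refine ⟨q.map (MvPolynomial.map (algebraMap k K)), hq.map _, ?_⟩
      have hcomp : ψ.toRingHom.comp (MvPolynomial.map (algebraMap k K)) =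
          (ρ.toRingHom.comp (Algebra.TensorProduct.includeRight : (S ⧸ P) →ₐ[k] K ⊗[k] (S ⧸ P)).toRingHom).comp g.toRingHom := by
        refine RingHom.ext fun a => ?_
        simp [ψ, φ, e]
      rw [Polynomial.eval₂_map]
      show Polynomial.eval₂ (ψ.toRingHom.comp (MvPolynomial.map (algebraMap k K))) _ q = 0
      rw [hcomp]
      show Polynomial.eval₂ _ ((ρ.toRingHom.comp (Algebra.TensorProduct.includeRight : (S ⧸ P) →ₐ[k] K ⊗[k] (S ⧸ P)).toRingHom) x) q = 0
      rw [← Polynomial.hom_eval₂, hq0, map_zero]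
    | add a b ha hb => rw [map_add]; exact ha.add hb
  rw [CAlgH2.trdegQuot, CAlgH2.trdegQuot, trdeg_of_integral ψ hinj hint, hD]

theorem dimAt_eq {k S K : Type u} [Field k] [CommRing S] [Algebra k S] [Algebra.FiniteType k S] [Field K]
    [Algebra k K] (q : Ideal S) [q.IsPrime] (qK : Ideal (K ⊗[k] S)) [qK.IsPrime]
    (hq : qK.comap (Algebra.TensorProduct.includeRight.toRingHom : S →+* K ⊗[k] S) = q) :
    CAlgH2.dimAt K qK = CAlgH2.dimAt k q := by
  letI : Algebra S (K ⊗[k] S) := (Algebra.TensorProduct.includeRight.toRingHom : S →+* K ⊗[k] S).toAlgebra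
  haveI : Module.Flat S (K ⊗[k] S) := by
    have hm : ∀ (s : S) (z : S ⊗[k] K), TensorProduct.comm k S K (s • z) = s • TensorProduct.comm k S K z := by
      intro s z
      induction z with
      | zero => simp
      | tmul a b =>
        show b ⊗ₜ[k] (s * a) = ((1 : K) ⊗ₜ[k] s) * (b ⊗ₜ[k] a)
        simp
      | add a b ha hb => simp only [smul_add, map_add, ha, hb]
    exact Module.Flat.of_linearEquiv
      ({ (TensorProduct.comm k S K).toAddEquiv with map_smul' := hm } : S ⊗[k] K ≃ₗ[S] K ⊗[k] S).symm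
  haveI : Algebra.HasGoingDown S (K ⊗[k] S) := inferInstance
  have key : ∀ Q ∈ minimalPrimes (K ⊗[k] S), Q.under S ∈ minimalPrimes S := by
    intro Q hQ
    haveI := hQ.1.1
    refine ⟨⟨inferInstance, bot_le⟩, fun P' hP' hle => ?_⟩
    haveI := hP'.1
    obtain ⟨Q', hQ'Q, hQ'p, hQ'l⟩ := Ideal.exists_ideal_le_liesOver_of_le (p := P') (q := Q.under S) Q hle
    have : Q ≤ Q' := hQ.2 ⟨hQ'p, bot_le⟩ hQ'Q
    rw [hQ'l.over]
    exact Ideal.comap_mono this
  refine le_antisymm (CAlgH2.dimAt_le K fun Q hQ hle => ?_) (CAlgH2.dimAt_le k fun P hP hle => ?_)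
  · haveI := hQ.1.1
    rw [trdeg_minimal (Q.under S) Q hQ le_rfl]
    exact CAlgH2.trdegQuot_le_dimAt k (key Q hQ) (hq ▸ Ideal.comap_mono hle)
  · haveI := hP.1.1
    haveI : qK.LiesOver q := ⟨hq.symm⟩
    obtain ⟨Q', hQ'q, hQ'p, hQ'l⟩ := Ideal.exists_ideal_le_liesOver_of_le (p := P) (q := q) qK hle
    obtain ⟨Q, hQ, hQQ'⟩ := Ideal.exists_minimalPrimes_le (I := (⊥ : Ideal (K ⊗[k] S))) (J := Q') bot_le
    haveI := hQ.1.1
    have h1 : Q.under S ≤ P := by rw [hQ'l.over]; exact Ideal.comap_mono hQQ'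
    have h2 : P ≤ Q.under S := hP.2 ⟨inferInstance, bot_le⟩ h1
    rw [← trdeg_minimal P Q hQ h2]
    exact CAlgH2.trdegQuot_le_dimAt K hQ (hQQ'.trans hQ'q)

open TensorProduct in
/-- Let `S` be of finite type over a field `k`, `K/k` a field extension, `𝔮` a prime of `S` and `𝔮_K` a
prime of `K ⊗_k S` lying over `𝔮`. Then the local dimension of `Spec (K ⊗_k S)` at `𝔮_K` equals the
local dimension of `Spec S` at `𝔮`. -/
theorem result {k S K : Type u} [Field k] [CommRing S] [Algebra k S] [Algebra.FiniteType k S] [Field K]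
    [Algebra k K] (q : Ideal S) [q.IsPrime] (qK : Ideal (K ⊗[k] S)) [qK.IsPrime]
    (hq : qK.comap (Algebra.TensorProduct.includeRight.toRingHom : S →+* K ⊗[k] S) = q) :
    FlatMor.localDim (PrimeSpectrum (K ⊗[k] S)) ⟨qK, inferInstance⟩ = FlatMor.localDim (PrimeSpectrum S) ⟨q, inferInstance⟩ := by
  rw [CAlgH2.localDim_eq_dimAt K qK, CAlgH2.localDim_eq_dimAt k q, dimAt_eq q qK hq]

end Groth.Agent.S2142
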