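import Groth.Statements.S2049
import Groth.Agent.Prufer29.Coherent
import Mathlib.RingTheory.EssentialFiniteness
import Mathlib.RingTheory.Flat.TorsionFree

set_option autoImplicit false
universe u
open CAlg

namespace Groth.Agent.S2049

/-- Let `A` be a valuation ring, `A → B` a local homomorphism of local rings essentially of finite type,
and `M` a finite `B`-module which is flat over `A`. Then `M` is finitely presented over `B`. -/
theorem result {A B M : Type u} [CommRing A] [IsDomain A]
    [ValuationRing A] [CommRing B] [IsLocalRing B] [Algebra A B] [IsLocalHom (algebraMap A B)]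
    [Algebra.EssFiniteType A B] [AddCommGroup M] [Module B M] [Module A M] [IsScalarTower A B M]
    [Module.Finite B M] [Module.Flat A M] : Module.FinitePresentation B M := by
  classical
  have hA : ∀ (p : Ideal A) [p.IsPrime], ValuationRing (Localization.AtPrime p) := fun p _ =>
    (Agent.Prufer29.valuationRing_atPrime_iff p).mpr fun a b => by
      rcases ValuationRing.dvd_total b a with ⟨c, hc⟩ | ⟨c, hc⟩
      · exact ⟨c, 1, Ideal.IsPrime.one_notMem ‹_›, .inl (by rw [hc, one_mul, mul_comm])⟩
      · exact ⟨c, 1, Ideal.IsPrime.one_notMem ‹_›, .inr (by rw [hc, one_mul, mul_comm])⟩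
  obtain ⟨σ, hσ⟩ := (Algebra.essFiniteType_iff A B).mp inferInstance
  let n := σ.card
  let e : Fin n → B := fun i => (σ.equivFin.symm i).1
  have hrange : Set.range e = (σ : Set B) := by
    ext b
    exact ⟨by rintro ⟨i, rfl⟩; exact (σ.equivFin.symm i).2, fun hb => ⟨σ.equivFin ⟨b, hb⟩, by simp [e]⟩⟩
  let f : MvPolynomial (Fin n) A →ₐ[A] B := MvPolynomial.aeval e
  have hf : Algebra.adjoin A (σ : Set B) = f.range := by
    rw [← hrange, Algebra.adjoin_range_eq_range_aeval]
  obtain ⟨k, g, hg⟩ := Submodule.fg_iff_exists_fin_generating_family.mp (Module.Finite.fg_top (R := B) (M := M))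
  let Φ : (Fin k → B) →ₗ[B] M := Fintype.linearCombination B g
  have hΦ : Function.Surjective Φ := fun x => by
    obtain ⟨c, hc⟩ := (Submodule.mem_span_range_iff_exists_fun B).mp (hg ▸ (Submodule.mem_top : x ∈ (⊤ : Submodule B M)))
    exact ⟨c, (Fintype.linearCombination_apply B g c).trans hc⟩
  let N : Submodule (MvPolynomial (Fin n) A) (Fin k → MvPolynomial (Fin n) A) :=
    { carrier := {v | Φ (fun i => f (v i)) = 0}
      zero_mem' := by
        show Φ (fun i => f ((0 : Fin k → MvPolynomial (Fin n) A) i)) = 0
        simp only [Pi.zero_apply, map_zero]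
        exact map_zero Φ
      add_mem' := fun {a b} ha hb => by
        show Φ (fun i => f ((a + b) i)) = 0
        have : (fun i => f ((a + b) i)) = (fun i => f (a i)) + fun i => f (b i) := funext fun i => map_add f _ _
        rw [this, map_add, ha, hb, add_zero]
      smul_mem' := fun c v hv => by
        show Φ (fun i => f ((c • v) i)) = 0
        have : (fun i => f ((c • v) i)) = f c • fun i => f (v i) := funext fun i => map_mul f _ _
        rw [this, map_smul, hv, smul_zero] }
  haveI : Module.IsTorsionFree A M := inferInstance
  obtain ⟨s, hs⟩ : N.FG := Agent.Prufer29.Saturated.fg_of_saturated (fun c hc v hv => by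
    have hv' : Φ (fun i => f ((c • v) i)) = 0 := hv
    have : (fun i => f ((c • v) i)) = c • fun i => f (v i) := funext fun i => map_smul f c _
    rw [this, LinearMap.map_smul_of_tower] at hv'
    exact (smul_eq_zero.mp hv').resolve_left hc) hA
  let π : (Fin k → MvPolynomial (Fin n) A) → Fin k → B := fun v i => f (v i)
  refine Module.finitePresentation_of_surjective Φ hΦ ⟨s.image π, le_antisymm ?_ ?_⟩
  · rw [Submodule.span_le]
    intro y hy
    obtain ⟨v, hv, rfl⟩ := Finset.mem_image.mp hy
    have : v ∈ N := hs ▸ Submodule.subset_span hv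
    exact LinearMap.mem_ker.mpr this
  · intro y hy
    choose t ht hu hyt using fun i => hσ (y i)
    let T := ∏ i, t i
    have hmem : ∀ i, y i * T ∈ f.range := fun i => by
      rw [← hf, show y i * T = y i * t i * ∏ j ∈ Finset.univ.erase i, t j by
        rw [mul_assoc, Finset.mul_prod_erase _ _ (Finset.mem_univ i)]]
      exact mul_mem (hyt i) (Subalgebra.prod_mem _ fun j _ => ht j)
    choose v hv using hmem
    have hTy : π v = T • y := funext fun i => (hv i).trans (mul_comm _ _)
    have hvN : v ∈ Submodule.span (MvPolynomial (Fin n) A) (s : Set (Fin k → MvPolynomial (Fin n) A)) := by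
      rw [hs]
      show Φ (π v) = 0
      rw [hTy, map_smul, LinearMap.mem_ker.mp hy, smul_zero]
    have key : π v ∈ Submodule.span B ((s.image π : Finset (Fin k → B)) : Set (Fin k → B)) := by
      clear hTy hv
      induction hvN using Submodule.span_induction with
      | mem x hx => exact Submodule.subset_span (Finset.mem_image_of_mem π hx)
      | zero =>
        have : π 0 = 0 := funext fun i => map_zero f
        rw [this]; exact Submodule.zero_mem _
      | add a b _ _ ha hb =>
        have : π (a + b) = π a + π b := funext fun i => map_add f _ _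
        rw [this]; exact Submodule.add_mem _ ha hb
      | smul a x _ hx =>
        have : π (a • x) = f a • π x := funext fun i => map_mul f _ _
        rw [this]; exact Submodule.smul_mem _ _ hx
    rw [hTy] at key
    exact (Submodule.smul_mem_iff_of_isUnit _ (IsUnit.prod_univ_iff.mpr hu)).mp key

end Groth.Agent.S2049
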