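import Groth.Statements.S6279
import Mathlib

set_option autoImplicit false
set_option linter.style.haveILetI false
set_option linter.style.longLine false
universe u
open CAlg

namespace Groth.Agent.S6279

/-- A finite product of normal rings is normal (a ring is normal when every localization at a prime is
an integrally closed domain). -/
theorem result {ι : Type u} [Finite ι] (A : ι → Type u) [∀ i, CommRing (A i)] (hA : ∀ i, EGA4.IsNormalRing (A i)) : EGA4.IsNormalRing (∀ i, A i) := by
  classical
  intro p hp
  obtain ⟨⟨i, q⟩, hiq⟩ := (PrimeSpectrum.sigmaToPi_bijective A).2 ⟨p, hp⟩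
  have hpq : ∀ x, x ∈ p ↔ x i ∈ q.asIdeal := fun x => by
    rw [show p = (PrimeSpectrum.sigmaToPi A ⟨i, q⟩).asIdeal from (congrArg PrimeSpectrum.asIdeal hiq).symm]
    rfl
  letI : Algebra (∀ j, A j) (Localization.AtPrime q.asIdeal) := ((algebraMap (A i) _).comp (Pi.evalRingHom A i)).toAlgebra
  haveI : IsLocalization.AtPrime (Localization.AtPrime q.asIdeal) p := by
    refine { map_units := ?_, surj := ?_, exists_of_eq := ?_ }
    · intro y
      exact IsLocalization.map_units (Localization.AtPrime q.asIdeal) (⟨y.1 i, fun h => y.2 ((hpq _).2 h)⟩ : q.asIdeal.primeCompl)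
    · intro z
      obtain ⟨⟨a, s⟩, h⟩ := IsLocalization.surj q.asIdeal.primeCompl z
      refine ⟨⟨Pi.single i a, ⟨Pi.single i (s : A i), fun h' => s.2 (by simpa using (hpq _).1 h')⟩⟩, ?_⟩
      show z * algebraMap (A i) _ ((Pi.single i (s : A i) : ∀ j, A j) i) = algebraMap (A i) _ ((Pi.single i a : ∀ j, A j) i)
      simpa using h
    · intro x y h
      obtain ⟨t, ht⟩ := (IsLocalization.eq_iff_exists q.asIdeal.primeCompl _).1 (show algebraMap (A i) (Localization.AtPrime q.asIdeal) (x i) = algebraMap (A i) _ (y i) from h)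
      refine ⟨⟨Pi.single i (t : A i), fun h' => t.2 (by simpa using (hpq _).1 h')⟩, funext fun j => ?_⟩
      by_cases hji : j = i
      · subst hji
        simpa using ht
      · simp [Pi.single_eq_of_ne hji]
  obtain ⟨hd, hc⟩ := hA i q.asIdeal
  let e := (IsLocalization.algEquiv p.primeCompl (Localization.AtPrime p) (Localization.AtPrime q.asIdeal)).toRingEquiv
  haveI : IsDomain (Localization.AtPrime p) := e.toMulEquiv.isDomain _
  exact ⟨inferInstance, IsIntegrallyClosed.of_equiv e.symm⟩

end Groth.Agent.S6279
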