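import Groth.Statements.S19858
import Groth.Agent.EGA4H10.NormalFlat
import Groth.Agent.FlatMor66.FlatDescentSource

set_option autoImplicit false
universe u
open EGA4

namespace Groth.Agent.S19858

/-- Let A → B → C be homomorphisms of Noetherian rings such that C is faithfully flat over B and the
composite A → C is a normal homomorphism (flat, with geometrically normal fibres). Then A → B is a
normal homomorphism. (In the source C is the adic completion of A along an ideal and A → C is
assumed normal; only the faithful flatness of B → C and the normality of A → C enter, so C is an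
arbitrary Noetherian ring here.) -/
theorem result (A B C : Type u)
    [CommRing A] [CommRing B] [CommRing C] [IsNoetherianRing A] [IsNoetherianRing B] [IsNoetherianRing C]
    [Algebra A B] [Algebra B C] [Algebra A C] [IsScalarTower A B C] [Module.FaithfullyFlat B C]
    (hAC : EGA4.IsNormalHom A C) : EGA4.IsNormalHom A B := by
  have hflatAC : Module.Flat A C := hAC.1
  refine ⟨?_, fun p _ K _ _ hK P _ => ?_⟩
  · exact FlatMor66.flat_of_faithfullyFlat_top A B C
  · have hN := hAC.2 p K hK
    let : Algebra A K := ((algebraMap p.ResidueField K).comp (algebraMap A p.ResidueField)).toAlgebra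
    have : IsScalarTower A p.ResidueField K := .of_algebraMap_eq fun _ => rfl
    have : Algebra.EssFiniteType A K := Algebra.EssFiniteType.comp A p.ResidueField K
    let D := TensorProduct A B K
    let D' := TensorProduct B D C
    have : IsNoetherianRing D := Algebra.EssFiniteType.isNoetherianRing B D
    let eB : TensorProduct p.ResidueField K (p.Fiber B) ≃+* D :=
      (Algebra.TensorProduct.cancelBaseChange A p.ResidueField p.ResidueField K B).toRingEquiv.trans
        (Algebra.TensorProduct.comm A K B).toRingEquiv
    let eC : TensorProduct p.ResidueField K (p.Fiber C) ≃+* D' :=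
      ((Algebra.TensorProduct.cancelBaseChange A p.ResidueField p.ResidueField K C).toRingEquiv.trans
        (Algebra.TensorProduct.comm A K C).toRingEquiv).trans
        (((Algebra.TensorProduct.cancelBaseChange A B B C K).symm).toRingEquiv.trans
          (Algebra.TensorProduct.comm B C D).toRingEquiv)
    have hD' := EGA4H10.isNormalRing_of_ringEquiv eC hN
    have : IsNoetherianRing (TensorProduct B C D) := Algebra.EssFiniteType.isNoetherianRing C _
    have : IsNoetherianRing D' :=
      isNoetherianRing_of_ringEquiv (TensorProduct B C D) (Algebra.TensorProduct.comm B C D).toRingEquiv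
    refine EGA4H10.isNormalRing_of_ringEquiv eB.symm (fun Q _ => ?_) P
    obtain ⟨q, hq⟩ := PrimeSpectrum.comap_surjective_of_faithfullyFlat (B := D') (⟨Q, inferInstance⟩ : PrimeSpectrum D)
    obtain ⟨h1, h2⟩ := hD' q.asIdeal
    obtain ⟨h3, h4⟩ := EGA4H10.normal_base_of_flat D D' q.asIdeal h1 h2
    have hq' : q.asIdeal.comap (algebraMap D D') = Q := congrArg PrimeSpectrum.asIdeal hq
    subst hq'
    exact ⟨h3, h4⟩

end Groth.Agent.S19858
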