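import Groth.Statements.S4744
import Groth.Agent.Ega11.FormalDescent
-- import your own Groth.Agent.* helpers here

set_option autoImplicit false
universe u
open EGA4

namespace Groth.Agent.S4744

/-- Let A → A' be a flat local homomorphism of Noetherian local rings all of whose fibre rings k(p) ⊗_A
A' are Cohen–Macaulay. If the completion map of A' is regular (the formal fibres of A' are
geometrically regular), then the formal fibres of A are Cohen–Macaulay. -/
theorem result (A A' : Type u) [CommRing A] [CommRing A'] [IsNoetherianRing A]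
    [IsNoetherianRing A'] [IsLocalRing A] [IsLocalRing A'] [Algebra A A'] [IsLocalHom (algebraMap A A')]
    [Module.Flat A A'] (hf : ∀ (p : Ideal A) [p.IsPrime], LocCoh.IsCohenMacaulayRing (p.Fiber A'))
    (hA' : CAlg.IsRegularHom A' (EGA4.Cpl A')) : EGA4.HasCMFormalFibres A := by
  have : Module.Flat A' (EGA4.Cpl A') := hA'.1
  obtain ⟨_, hT, hT', hN, hN', _, hff⟩ := Groth.Agent.Ega11.FormalDescent.exists_cpl_map A A'
  intro p _
  have := (Groth.Agent.Ega11.FibreComp.isNoetherianRing_fiber (B := EGA4.Cpl A) p).2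
  refine Groth.Agent.Ega11.FibreComp.isCohenMacaulayRing_iff.mpr fun k =>
    Groth.Agent.Ega11.FibreComp.hasSk_fiber_of_comp (B := EGA4.Cpl A) (C := EGA4.Cpl A') k (fun r _ =>
      Groth.Agent.Ega11.FibreComp.hasSk_fiber_comp (B := A') k (fun q _ => ?_) (fun q _ => ?_) r) p
  · have := (Groth.Agent.Ega11.FibreComp.isNoetherianRing_fiber (B := A') q).2
    exact Groth.Agent.Ega11.FibreComp.isCohenMacaulayRing_iff.mp (hf q) k
  · have := (Groth.Agent.Ega11.FibreComp.isNoetherianRing_fiber (B := EGA4.Cpl A') q).2
    exact Groth.Agent.Ega11.FibreComp.isCohenMacaulayRing_iff.mp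
      (Groth.Agent.Ega11.FormalDescent.isCohenMacaulayRing_of_isRegularHom A' (EGA4.Cpl A') hA' q) k

end Groth.Agent.S4744
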