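import Groth.Statements.S0576
import Groth.Agent.CAlg6.NagataLocal

set_option autoImplicit false
universe u
open CAlg Groth.Agent TensorProduct IsLocalRing

namespace Groth.Agent.S0576

/-- A local domain which is a Nagata ring is analytically unramified, i.e. its completion at the maximal
ideal is reduced. -/
theorem result (R : Type u) [CommRing R] [IsDomain R]
    [IsLocalRing R] (hR : CAlg.IsNagata R) :
    IsReduced (AdicCompletion (IsLocalRing.maximalIdeal R) R) := by
  exact EGA4H10.isReduced_cpl_of_nagata R hR

end Groth.Agent.S0576
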