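import Groth.Statements.S0395
import Groth.Agent.FlatCrit65.Fibre

set_option autoImplicit false
universe u
open FlatMor

namespace Groth.Agent.S0395

open TensorProduct nonZeroDivisors in
/-- For a flat local homomorphism R → S of Noetherian local rings and an element f of S that is regular
on the fibre ring S/mS, the quotient of S by f is again R-flat and f is regular on S. -/
theorem result {R S : Type u} [CommRing R] [CommRing S] [IsLocalRing R] [IsLocalRing S] [IsNoetherianRing R] [IsNoetherianRing S] [Algebra R S] [IsLocalHom (algebraMap R S)] [Module.Flat R S]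
    (f : S) (hf : Ideal.Quotient.mk ((IsLocalRing.maximalIdeal R).map (algebraMap R S)) f ∈ nonZeroDivisors (S ⧸ ((IsLocalRing.maximalIdeal R).map (algebraMap R S)))) :
    Module.Flat R (S ⧸ Ideal.span {f}) ∧ f ∈ nonZeroDivisors S := by
  have hm : (IsLocalRing.maximalIdeal R).map (algebraMap R S) ≤ Ideal.jacobson ⊥ := by
    rw [IsLocalRing.jacobson_eq_maximalIdeal ⊥ bot_ne_top, Ideal.map_le_iff_le_comap]
    exact fun x hx hu => hx (isUnit_of_map_unit (algebraMap R S) x hu)
  let φ : S →ₗ[S] S := LinearMap.toSpanSingleton S S f
  obtain ⟨hinj, hflat⟩ := Groth.Agent.FlatCrit65.injective_and_flat_quotient (S := S) _ hm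
    (φ.restrictScalars R) <| by
      apply Groth.Agent.FlatCrit65.lTensor_quot_injective
      intro n hn
      apply Groth.Agent.FlatCrit65.mem_smul_restrictScalars (S := S)
      have h1 := Groth.Agent.FlatCrit65.smul_top_restrictScalars_le (S := S) _ hn
      simp only [smul_eq_mul, Ideal.mul_top, φ, LinearMap.coe_restrictScalars,
        LinearMap.toSpanSingleton_apply] at h1 ⊢
      rw [← Ideal.Quotient.eq_zero_iff_mem] at h1 ⊢
      rw [map_mul] at h1
      exact (mul_right_mem_nonZeroDivisors_eq_zero_iff hf).mp h1
  refine ⟨?_, ?_⟩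
  · exact Module.Flat.of_linearEquiv (R := R) <| Submodule.quotEquivOfEq
      ((Ideal.span {f}).restrictScalars R) (LinearMap.range (φ.restrictScalars R)) (by
        ext x
        simp [φ, Ideal.mem_span_singleton', mul_comm])
  · rw [mem_nonZeroDivisors_iff_right]
    intro x hx
    exact hinj (by simpa [φ] using hx)

end Groth.Agent.S0395
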