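import Groth.Statements.S11180
import Mathlib
import Groth.Agent.FBase64.TensorField
import Groth.Agent.CAlg6.SepTensor
import Groth.Agent.CAlg1.Complete

set_option autoImplicit false
universe u
open scoped TensorProduct
open CAlg
open Groth.Agent
open TensorProduct

namespace Groth.Agent.S11180

/-- Let A be a Noetherian ring and M an A-module. If an element m of M is such that 1 ⊗ m = 0 in B ⊗_A M
for every A-algebra B which is a complete Noetherian local ring, flat over A, then m = 0.
(Equivalently the natural map from M to the limit of the modules B ⊗_A M over all such B is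
injective.) -/
theorem result (A : Type u) [CommRing A] [IsNoetherianRing A] (M : Type u) [AddCommGroup M] [Module A M] (m : M) (h : ∀ (B : Type u) [CommRing B] [Algebra A B] [IsNoetherianRing B] [IsLocalRing B], IsAdicComplete (IsLocalRing.maximalIdeal B) B → Module.Flat A B → (1 : B) ⊗ₜ[A] m = 0) : m = 0 := by
  by_contra hm
  obtain ⟨P, hP, hle⟩ := Ideal.exists_le_maximal (LinearMap.ker (LinearMap.toSpanSingleton A M m)) (fun ht => hm (by
    have : (1 : A) ∈ LinearMap.ker (LinearMap.toSpanSingleton A M m) := ht ▸ Submodule.mem_top
    simpa using this))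
  let R := Localization.AtPrime P
  have : IsNoetherianRing R := IsLocalization.isNoetherianRing P.primeCompl _ inferInstance
  let B := AdicCompletion (IsLocalRing.maximalIdeal R) R
  have : IsNoetherianRing B := CAlg1.isNoetherianRing_adicCompletion _
    (IsLocalRing.maximalIdeal R).fg_of_isNoetherianRing
  have hflat : Module.Flat A B := Module.Flat.trans A R B
  have h1 := h B inferInstance hflat
  have : Module.FaithfullyFlat R B := Module.FaithfullyFlat.of_flat_of_isLocalHom
  have h2 : (1 : B) ⊗ₜ[R] ((1 : R) ⊗ₜ[A] m) = 0 := by
    apply (AlgebraTensorModule.cancelBaseChange A R R B M).injective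
    rw [AlgebraTensorModule.cancelBaseChange_tmul, one_smul, map_zero, h1]
  have h3 : (1 : R) ⊗ₜ[A] m = 0 := (Module.FaithfullyFlat.one_tmul_eq_zero_iff R (R ⊗[A] M) (A := B) _).1 h2
  obtain ⟨s, hs⟩ := (IsLocalizedModule.eq_zero_iff P.primeCompl (TensorProduct.mk A R M 1)).1 h3
  exact s.2 (hle (by simpa [Submonoid.smul_def] using hs))

end Groth.Agent.S11180
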