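import Groth.Statements.S2089
import Mathlib
import Groth.Agent.LC16.SopRegular
import Groth.Agent.EGA4Alg4.Depth

set_option autoImplicit false
universe u
open CAlg

namespace Groth.Agent.S2089

/-- Let `R` be a Noetherian local ring and `M` a finite `R`-module. For every associated prime `𝔭` of
`M` the depth of `M` is at most the dimension of `R/𝔭`. -/
theorem result {R M : Type u} [CommRing R] [IsLocalRing R] [IsNoetherianRing R]
    [AddCommGroup M] [Module R M] [Module.Finite R M] (p : Ideal R) (hp : p ∈ associatedPrimes R M) :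
    ((LocCoh.depth R M : ℕ∞) : WithBot ℕ∞) ≤ ringKrullDim (R ⧸ p) := by
  rcases subsingleton_or_nontrivial M with hM | hM
  · simp [associatedPrimes.eq_empty_of_subsingleton] at hp
  obtain ⟨n, hn⟩ := Groth.Agent.EGA4Alg4.exists_depth_eq (A := R) (M := M)
  obtain ⟨rs, hlen, hmem, hreg⟩ := (Groth.Agent.EGA4Alg4.natCast_le_depth_iff n).mp hn.ge
  have h := Groth.Agent.LC16.length_le_supportDim_quotient
    (Groth.Agent.EGA4Alg4.isRegular_of_isWeaklyRegular hreg hmem) hmem hp
  rw [Module.supportDim_quotient_eq_ringKrullDim, hlen] at h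
  rw [hn]
  exact_mod_cast h

end Groth.Agent.S2089
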