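import Groth.Statements.S11091
import Mathlib
import Groth.Agent.Hens22.Idempotents

set_option autoImplicit false
universe u
attribute [local instance] FractionRing.liftAlgebra
open CAlg

namespace Groth.Agent.S11091

/-- Let A be a complete discrete valuation ring and B a Dedekind domain which is a finite torsion-free
A-algebra whose fraction field is separable over that of A (the integral closure of A in a finite
separable extension E of the fraction field F). Then B has exactly one maximal ideal; equivalently,
since the discrete valuations of E extending a multiple of the valuation of F correspond to the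
nonzero primes of B, the valuation of F extends uniquely to E, and B is a complete discrete
valuation ring. -/
theorem result (A B : Type u) [CommRing A] [IsDomain A] [IsDiscreteValuationRing A]
    [IsAdicComplete (IsLocalRing.maximalIdeal A) A]
    [CommRing B] [IsDedekindDomain B] [Algebra A B] [Module.Finite A B] [Module.IsTorsionFree A B]
    [Algebra.IsSeparable (FractionRing A) (FractionRing B)] :
    ∃! M : Ideal B, M.IsMaximal := by
  classical
  obtain ⟨M, hM⟩ := Ideal.exists_maximal B
  refine ⟨M, hM, fun M' hM' => ?_⟩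
  by_contra hne
  set m := IsLocalRing.maximalIdeal A
  set J := m.map (algebraMap A B)
  have hJ : ∀ Q : Ideal B, Q.IsMaximal → J ≤ Q := fun Q hQ => by
    rw [Ideal.map_le_iff_le_comap]
    exact (IsLocalRing.eq_maximalIdeal (Ideal.isMaximal_comap_of_isIntegral_of_isMaximal Q)).ge
  obtain ⟨a, haM, haM'⟩ : ∃ a ∈ M, a ∉ M' := by
    by_contra hc; push Not at hc
    exact hne (hM.eq_of_le hM'.ne_top hc).symm
  letI : Field (A ⧸ m) := Ideal.Quotient.field m
  have : IsArtinianRing (B ⧸ J) := IsArtinianRing.of_finite (A ⧸ m) (B ⧸ J)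
  obtain ⟨n, y, hy⟩ := IsArtinian.exists_pow_succ_smul_dvd (M := B ⧸ J) (Ideal.Quotient.mk J a) 1
  obtain ⟨c, rfl⟩ := Ideal.Quotient.mk_surjective y
  simp only [smul_eq_mul, mul_one] at hy
  let e := a ^ (n + 1) * c ^ (n + 1)
  have hk : ∀ k, Ideal.Quotient.mk J a ^ n * (Ideal.Quotient.mk J a * Ideal.Quotient.mk J c) ^ k = Ideal.Quotient.mk J a ^ n := by
    intro k
    induction k with
    | zero => simp
    | succ k ih =>
      calc _ = (Ideal.Quotient.mk J a ^ n * (Ideal.Quotient.mk J a * Ideal.Quotient.mk J c) ^ k) * (Ideal.Quotient.mk J a * Ideal.Quotient.mk J c) := by ring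
        _ = _ := by rw [ih, ← mul_assoc, ← pow_succ, hy]
  have he : e * e - e ∈ J := by
    rw [← Ideal.Quotient.eq_zero_iff_mem]
    simp only [e, map_sub, map_mul, map_pow]
    calc _ = Ideal.Quotient.mk J c ^ (n+1) * Ideal.Quotient.mk J a * (Ideal.Quotient.mk J a ^ n * (Ideal.Quotient.mk J a * Ideal.Quotient.mk J c) ^ (n + 1)) - Ideal.Quotient.mk J a ^ (n + 1) * Ideal.Quotient.mk J c ^ (n + 1) := by ring
      _ = 0 := by rw [hk]; ring
  have heM : e ∈ M := Ideal.mul_mem_right _ _ (Ideal.pow_mem_of_mem _ haM _ n.succ_pos)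
  have heM' : e ∉ M' := by
    intro h
    have h1 : a ^ n * (1 - a * c) ∈ J := by
      rw [← Ideal.Quotient.eq_zero_iff_mem, map_mul, map_sub, map_one, map_pow, map_mul, mul_sub, mul_one, ← mul_assoc, ← pow_succ, hy, sub_self]
    have h2 : 1 - a * c ∈ M' := (hM'.isPrime.mem_or_mem (hJ M' hM' h1)).resolve_left fun h => haM' (hM'.isPrime.mem_of_pow_mem _ h)
    have h3 : a * c ∈ M' := hM'.isPrime.mem_of_pow_mem (n + 1) (by rw [mul_pow]; exact h)
    exact hM'.ne_top ((Ideal.eq_top_iff_one _).2 (by simpa using add_mem h2 h3))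
  obtain ⟨ε, hε, hεe⟩ := Groth.Agent.Hens22.exists_idempotent_lift (A := A) m (B := B) he
  rcases IsIdempotentElem.iff_eq_zero_or_one.1 hε with rfl | rfl
  · exact heM' (by simpa using hJ M' hM' hεe)
  · exact hM.ne_top ((Ideal.eq_top_iff_one _).2 (by simpa using add_mem (hJ M hM hεe) heM))

end Groth.Agent.S11091
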