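import Groth.Statements.S4553
import Groth.Agent.FSAdic12.Projective

set_option autoImplicit false
universe u
open EGA41 TensorProduct Groth.Agent.FSAdic12

namespace Groth.Agent.S4553

/-- Let A be 𝔞-adic (a preadmissible ring with ideal of definition 𝔞), B a topological A-algebra for the
𝔟-adic topology (a power of 𝔞 maps into 𝔟) which is a formally projective topological A-module, and
put A₀ = A/𝔞, B₀ = B/𝔞B with the quotient topologies (A₀ discrete). Then B is a formally smooth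
A-algebra if and only if B₀ is a formally smooth A₀-algebra. -/
theorem result {A B : Type u} [CommRing A] [CommRing B] [Algebra A B]
    (𝔞 : Ideal A) (𝔟 : Ideal B) (hAB : ∃ k : ℕ, (𝔞 ^ k).map (algebraMap A B) ≤ 𝔟)
    (hproj : ∀ (n : ℕ) (P Q : Type u) [AddCommGroup P] [Module A P] [AddCommGroup Q] [Module A Q],
      (∀ a ∈ 𝔞 ^ n, ∀ y : P, a • y = 0) → (∀ a ∈ 𝔞 ^ n, ∀ y : Q, a • y = 0) →
      ∀ f : P →ₗ[A] Q, Function.Surjective f → ∀ v : B →ₗ[A] Q, (∃ m : ℕ, ∀ x ∈ 𝔟 ^ m, v x = 0) →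
        ∃ w : B →ₗ[A] P, (∃ m : ℕ, ∀ x ∈ 𝔟 ^ m, w x = 0) ∧ f ∘ₗ w = v) :
    EGA41.IsFormallySmoothAdic A 𝔞 B 𝔟 ↔
      EGA41.IsFormallySmoothAdic (A ⧸ 𝔞) ⊥ (B ⧸ 𝔞.map (algebraMap A B))
        (𝔟.map (Ideal.Quotient.mk (𝔞.map (algebraMap A B)))) := by
  set 𝔞B := 𝔞.map (algebraMap A B)
  constructor
  · intro h C _ _ J hJ _ u hu
    let : Algebra A C := ((algebraMap (A ⧸ 𝔞) C).comp (Ideal.Quotient.mk 𝔞)).toAlgebra
    have : IsScalarTower A (A ⧸ 𝔞) C := IsScalarTower.of_algebraMap_eq fun _ => rfl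
    obtain ⟨k, hk⟩ := hu
    let u' : B →ₐ[A] C ⧸ J :=
      { toRingHom := u.toRingHom.comp (Ideal.Quotient.mk 𝔞B)
        commutes' := fun a => by
          show u (Ideal.Quotient.mk 𝔞B (algebraMap A B a)) = _
          exact u.commutes (Ideal.Quotient.mk 𝔞 a) }
    obtain ⟨v, hv⟩ := h C J hJ ⟨1, by
      rw [pow_one, eq_bot_iff, Ideal.map_le_iff_le_comap]
      intro a ha
      show algebraMap (A ⧸ 𝔞) C (Ideal.Quotient.mk 𝔞 a) ∈ (⊥ : Ideal C)
      rw [Ideal.Quotient.eq_zero_iff_mem.mpr ha, map_zero]; exact zero_mem _⟩ u' ⟨k, fun x hx => hk _ (by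
        rw [← Ideal.map_pow]; exact Ideal.mem_map_of_mem _ hx)⟩
    have hv0 : ∀ x ∈ 𝔞B, v x = 0 := by
      intro x hx
      have : 𝔞B.map v.toRingHom = ⊥ := by
        rw [Ideal.map_map, show v.toRingHom.comp (algebraMap A B) = algebraMap A C from RingHom.ext v.commutes,
          eq_bot_iff, Ideal.map_le_iff_le_comap]
        intro a ha
        show algebraMap (A ⧸ 𝔞) C (Ideal.Quotient.mk 𝔞 a) ∈ (⊥ : Ideal C)
        rw [Ideal.Quotient.eq_zero_iff_mem.mpr ha, map_zero]; exact zero_mem _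
      exact (Submodule.mem_bot C).mp (this ▸ Ideal.mem_map_of_mem v.toRingHom hx)
    let v₀ : (B ⧸ 𝔞B) →ₐ[A ⧸ 𝔞] C :=
      { toRingHom := Ideal.Quotient.lift 𝔞B v.toRingHom hv0
        commutes' := fun a => by
          obtain ⟨a, rfl⟩ := Ideal.Quotient.mk_surjective a
          exact v.commutes a }
    refine ⟨v₀, AlgHom.ext fun x => ?_⟩
    obtain ⟨x, rfl⟩ := Ideal.Quotient.mk_surjective x
    exact AlgHom.congr_fun hv x
  · intro h
    refine isFormallySmoothAdic_of_step 𝔞 𝔟 fun C _ _ J hJ2 hJa hC u hu => ?_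
    obtain ⟨ka, hka⟩ := hC
    have hCa : ∀ a ∈ 𝔞 ^ ka, algebraMap A C a = 0 := fun a ha =>
      (Submodule.mem_bot C).mp (hka ▸ Ideal.mem_map_of_mem _ ha)
    obtain ⟨w, ⟨m, hm⟩, hw⟩ := hproj ka C (C ⧸ J)
      (fun a ha y => by rw [Algebra.smul_def, hCa a ha, zero_mul])
      (fun a ha y => by
        rw [Algebra.smul_def, IsScalarTower.algebraMap_apply A C (C ⧸ J), hCa a ha, map_zero, zero_mul])
      (Ideal.Quotient.mkₐ A J).toLinearMap Ideal.Quotient.mk_surjective u.toLinearMap hu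
    have hw' : ∀ x, Ideal.Quotient.mk J (w x) = u x := fun x => LinearMap.congr_fun hw x
    have hJJ : ∀ p ∈ J, ∀ q ∈ J, p * q = 0 := fun p hp q hq =>
      (Submodule.mem_bot C).mp (hJ2 ▸ (pow_two J).symm ▸ Ideal.mul_mem_mul hp hq)
    have hJA : ∀ p ∈ J, ∀ a ∈ 𝔞, a • p = 0 := fun p hp a ha => by
      rw [Algebra.smul_def, mul_comm]
      exact (Submodule.mem_bot C).mp (hJa ▸ Ideal.mul_mem_mul hp (Ideal.mem_map_of_mem _ ha))
    have hf : ∀ x y, w x * w y - w (x * y) ∈ J := fun x y => by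
      rw [← Ideal.Quotient.eq, map_mul, hw', hw', hw', map_mul]
    let I : Ideal B := 𝔞B ⊔ 𝔟 ^ m
    have hIJ : ∀ x ∈ I, ∀ p ∈ J, w x * p = 0 := by
      intro x hx p hp
      obtain ⟨x₁, hx₁, x₂, hx₂, rfl⟩ := Submodule.mem_sup.mp hx
      rw [map_add, hm x₂ hx₂, add_zero]
      have : Ideal.Quotient.mk J (w x₁) ∈ (𝔞.map (algebraMap A C)).map (Ideal.Quotient.mk J) := by
        rw [hw', Ideal.map_map]
        have e : (Ideal.Quotient.mk J).comp (algebraMap A C) = u.toRingHom.comp (algebraMap A B) :=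
          RingHom.ext fun a => (u.commutes a).symm
        rw [e, ← Ideal.map_map]
        exact Ideal.mem_map_of_mem _ hx₁
      rw [Ideal.mem_map_iff_of_surjective _ Ideal.Quotient.mk_surjective] at this
      obtain ⟨q, hq, hqx⟩ := this
      have h1 : q - w x₁ ∈ J := Ideal.Quotient.eq.mp hqx
      have hqp : q * p = 0 := (Submodule.mem_bot C).mp (by rw [← hJa, mul_comm q p]; exact Ideal.mul_mem_mul hp hq)
      calc w x₁ * p = q * p - (q - w x₁) * p := by ring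
        _ = 0 := by rw [hJJ _ h1 _ hp, hqp, sub_zero]
    have hIf : ∀ x ∈ I, ∀ y, w x * w y = w (x * y) := by
      intro x hx y
      obtain ⟨x₁, hx₁, x₂, hx₂, rfl⟩ := Submodule.mem_sup.mp hx
      rw [add_mul, map_add, map_add, hm x₂ hx₂, hm (x₂ * y) (Ideal.mul_mem_right _ _ hx₂), add_zero, add_zero]
      let g : B →ₗ[A] C := LinearMap.mul' A C ∘ₗ TensorProduct.map LinearMap.id w ∘ₗ (TensorProduct.mk A C B).flip y ∘ₗ w -
        w ∘ₗ LinearMap.mulRight A y
      have hg : ∀ z, g z = w z * w y - w (z * y) := fun z => by simp [g]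
      suffices g x₁ = 0 by rwa [hg, sub_eq_zero] at this
      have hx1 : x₁ ∈ (𝔞 • (⊤ : Submodule A B)) := by rw [Ideal.smul_top_eq_map]; exact hx₁
      refine Submodule.smul_induction_on hx1 (fun a ha z _ => ?_) (fun p q hp hq => by rw [map_add, hp, hq, add_zero])
      rw [map_smul, hg]
      exact hJA _ (hf z y) a ha
    let P : Subalgebra A (C × B) := AlgHom.equalizer
      ((Ideal.Quotient.mkₐ A J).comp (AlgHom.fst A C B)) (u.comp (AlgHom.snd A C B))
    exact exists_lift_of_pullback 𝔞 𝔟 h u w m hw' hJJ hJA hIJ hIf hm P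
      ((AlgHom.fst A C B).comp P.val) ((AlgHom.snd A C B).comp P.val) (fun z => z.2)
      (fun c x hc => ⟨⟨(c, x), hc⟩, rfl, rfl⟩)
      (fun z z' h1 h2 => Subtype.ext (Prod.ext h1 h2))

end Groth.Agent.S4553
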