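import Groth.Statements.S2111
import Mathlib
import Groth.Agent.CAlg4.ReducedCurve

set_option autoImplicit false
set_option linter.style.haveILetI false
set_option linter.style.longLine false
universe u
open CAlg

namespace Groth.Agent.S2111

/-- Let `R` be a Noetherian normal domain with fraction field `K`. An element of `K` which lies in `R_𝔭`
for every prime `𝔭` of height one lies in `R`. -/
theorem result {R : Type u} [CommRing R] [IsDomain R] [IsNoetherianRing R]
    [IsIntegrallyClosed R] (x : FractionRing R)
    (hx : ∀ (p : Ideal R) [p.IsPrime], p.height = 1 →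
      x ∈ Set.range (algebraMap (Localization.AtPrime p) (FractionRing R))) :
    x ∈ Set.range (algebraMap R (FractionRing R)) := by
  obtain ⟨⟨b, a⟩, hab⟩ := IsLocalization.surj (nonZeroDivisors R) x
  have ha : (a : R) ≠ 0 := nonZeroDivisors.ne_zero a.2
  obtain ⟨c, rfl⟩ := CAlg4.ReducedCurve.dvd_of_forall_height_one (a : R) b ha fun q _ hq _ => by
    obtain ⟨y, hy⟩ := hx q hq
    refine ⟨y, IsFractionRing.injective (Localization.AtPrime q) (FractionRing R) ?_⟩
    rw [map_mul, hy, ← IsScalarTower.algebraMap_apply, ← IsScalarTower.algebraMap_apply, ← hab, mul_comm]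
  refine ⟨c, (IsLocalization.map_units (FractionRing R) a).mul_left_inj.1 ?_⟩
  rw [hab, map_mul, mul_comm]

end Groth.Agent.S2111
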