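import Groth.Statements.S6299
import Mathlib
import Groth.Agent.CAlg4.ReducedCurve
import Groth.Agent.S2111

set_option autoImplicit false
set_option linter.style.haveILetI false
set_option linter.style.longLine false
universe u
open CAlg

namespace Groth.Agent.S6299

theorem dvd_of_scaleRoots_eval {A : Type u} [CommRing A] [IsDomain A] [IsIntegrallyClosed A]
    (p : Polynomial A) (hp : p.Monic) (a b : A) (hb : b ≠ 0) (h : (p.scaleRoots b).eval a = 0) : b ∣ a := by
  set K := FractionRing A
  have hb' : algebraMap A K b ≠ 0 := fun h0 => hb (IsFractionRing.injective A K (by rw [h0, map_zero]))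
  have hint : IsIntegral A (algebraMap A K a / algebraMap A K b) := by
    refine ⟨p, hp, (mul_eq_zero.1 ?_).resolve_left (pow_ne_zero p.natDegree hb')⟩
    rw [← Polynomial.scaleRoots_eval₂_mul, mul_div_cancel₀ _ hb', Polynomial.eval₂_hom, h, map_zero]
  obtain ⟨y, hy⟩ := IsIntegrallyClosed.isIntegral_iff.1 hint
  exact ⟨y, IsFractionRing.injective A K (by rw [map_mul, hy, mul_div_cancel₀ _ hb'])⟩

/-- Let R be a Noetherian normal domain. Then the power series ring R[[x]] is a Noetherian normal domain
(here: it is an integrally closed domain and a Noetherian ring). -/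
theorem result (R : Type u) [CommRing R] [IsDomain R] [IsNoetherianRing R] [IsIntegrallyClosed R] : IsIntegrallyClosed (PowerSeries R) ∧ IsNoetherianRing (PowerSeries R) := by
  set L := FractionRing (PowerSeries R) with hL
  refine ⟨(isIntegrallyClosed_iff L).2 fun {z} hz => ?_, inferInstance⟩
  obtain ⟨p, hp, hp0⟩ := hz
  obtain ⟨a, b, hb, rfl⟩ := IsFractionRing.div_surjective (A := PowerSeries R) z
  have hb0 : b ≠ 0 := nonZeroDivisors.ne_zero hb
  have hbL : algebraMap (PowerSeries R) L b ≠ 0 := fun h => hb0 (IsFractionRing.injective (PowerSeries R) L (by rw [h, map_zero]))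
  have hr : (p.scaleRoots b).eval a = 0 := by
    apply IsFractionRing.injective (PowerSeries R) L
    rw [map_zero, ← Polynomial.eval₂_at_apply,
      show algebraMap (PowerSeries R) L a = algebraMap _ L b * (algebraMap _ L a / algebraMap _ L b) from (mul_div_cancel₀ _ hbL).symm,
      Polynomial.scaleRoots_eval₂_mul, hp0, mul_zero]
  let K := FractionRing R
  let ι : PowerSeries R →+* PowerSeries K := PowerSeries.map (algebraMap R K)
  have hι : Function.Injective ι := PowerSeries.map_injective _ (IsFractionRing.injective R K)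
  have hdiv : ∀ {T : Type u} [CommRing T] [IsDomain T] [IsIntegrallyClosed T] (φ : PowerSeries R →+* T),
      φ b ≠ 0 → φ b ∣ φ a := by
    intro T _ _ _ φ hφ
    have hlc : φ p.leadingCoeff ≠ 0 := by rw [hp.leadingCoeff, map_one]; exact one_ne_zero
    exact dvd_of_scaleRoots_eval (p.map φ) (hp.map φ) _ _ hφ (by
      rw [← Polynomial.map_scaleRoots _ _ _ hlc, Polynomial.eval_map_apply, hr, map_zero])
  obtain ⟨q, hq⟩ := hdiv ι (fun h => hb0 (hι (by rw [h, map_zero])))
  have hcoeff : ∀ n, ∃ r : R, algebraMap R K r = PowerSeries.coeff n q := by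
    intro n
    obtain ⟨r, hr⟩ := S2111.result (PowerSeries.coeff n q) fun P _ hP => by
      haveI := CAlg4.ReducedCurve.dvr_of_height_one P hP
      let AP := Localization.AtPrime P
      let φ : PowerSeries R →+* PowerSeries AP := PowerSeries.map (algebraMap R AP)
      let ψ : PowerSeries AP →+* PowerSeries K := PowerSeries.map (algebraMap AP K)
      have hψ : ∀ s, ψ (φ s) = ι s := fun s => by
        refine PowerSeries.ext fun m => ?_
        simp [ψ, φ, ι, ← IsScalarTower.algebraMap_apply]
      have hφb : φ b ≠ 0 := fun h => hb0 (hι (by rw [← hψ, h, map_zero, map_zero]))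
      obtain ⟨c, hc⟩ := hdiv φ hφb
      have : ψ c = q := by
        refine mul_left_cancel₀ (show ι b ≠ 0 from fun h => hb0 (hι (by rw [h, map_zero]))) ?_
        rw [← hq, ← hψ b, ← map_mul, ← hc, hψ]
      exact ⟨PowerSeries.coeff n c, by rw [← this]; simp [ψ]; rfl⟩
    exact ⟨r, hr⟩
  choose r hr' using hcoeff
  refine ⟨PowerSeries.mk r, ?_⟩
  rw [eq_div_iff hbL, ← map_mul]
  congr 1
  apply hι
  rw [map_mul, hq, mul_comm]
  congr 1
  refine PowerSeries.ext fun m => ?_
  simp [ι, hr']

end Groth.Agent.S6299
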