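import Groth.Statements.S2114
import Mathlib
import Groth.Agent.CAlg5.NFinite

set_option autoImplicit false
set_option linter.style.haveILetI false
set_option linter.style.longLine false
universe u
open CAlg

namespace Groth.Agent.S2114


theorem finiteDimensional_fraction {R B : Type u} [CommRing R] [IsDomain R] [CommRing B] [IsDomain B] [Algebra R B]
    [Module.Finite R B] (hinj : Function.Injective (algebraMap R B)) (L : Type u) [Field L] [Algebra B L]
    [Algebra (FractionRing B) L] [IsScalarTower B (FractionRing B) L] [FiniteDimensional (FractionRing B) L]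
    [Algebra R L] [IsScalarTower R B L] [Algebra (FractionRing R) L] [IsScalarTower R (FractionRing R) L] :
    FiniteDimensional (FractionRing R) L := by
  classical
  let K := FractionRing R
  obtain ⟨s, hs⟩ := (Module.Finite.fg_top : (⊤ : Submodule R B).FG)
  let T : Set L := algebraMap B L '' (s : Set B)
  haveI : Finite T := (s.finite_toSet.image _).to_subtype
  haveI : FiniteDimensional K (IntermediateField.adjoin K T) := IntermediateField.finiteDimensional_adjoin fun x hx => by
    obtain ⟨b, -, rfl⟩ := hx
    exact ((Algebra.IsIntegral.isIntegral (R := R) b).map (IsScalarTower.toAlgHom R B L)).tower_top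
  let E := IntermediateField.adjoin K T
  have hB : ∀ b : B, algebraMap B L b ∈ E := by
    intro b
    have hb : b ∈ Submodule.span R (s : Set B) := hs ▸ trivial
    induction hb using Submodule.span_induction with
    | mem a ha => exact IntermediateField.subset_adjoin K T ⟨a, ha, rfl⟩
    | zero => rw [map_zero]; exact zero_mem _
    | add a c _ _ ha hc => rw [map_add]; exact add_mem ha hc
    | smul r a _ ha =>
      rw [Algebra.smul_def, map_mul, ← IsScalarTower.algebraMap_apply, IsScalarTower.algebraMap_apply R K L]
      exact mul_mem (E.algebraMap_mem _) ha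
  have hF : ∀ z : FractionRing B, algebraMap (FractionRing B) L z ∈ E := by
    intro z
    obtain ⟨a, b, -, rfl⟩ := IsFractionRing.div_surjective B z
    rw [map_div₀, ← IsScalarTower.algebraMap_apply, ← IsScalarTower.algebraMap_apply]
    exact div_mem (hB a) (hB b)
  letI : Algebra (FractionRing B) E := ((algebraMap (FractionRing B) L).codRestrict E hF).toAlgebra
  haveI : IsScalarTower (FractionRing B) E L := IsScalarTower.of_algebraMap_eq fun z => rfl
  haveI : FiniteDimensional E L := Module.Finite.of_restrictScalars_finite (FractionRing B) E L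
  exact Module.Finite.trans E L

theorem isN2_finite {R B : Type u} [CommRing R] [IsDomain R] [CommRing B] [IsDomain B] [Algebra R B]
    [Module.Finite R B] (hinj : Function.Injective (algebraMap R B)) (hR : CAlg.IsN2 R) : CAlg.IsN2 B := by
  intro L _ _ _ _ hfd
  letI : Algebra R L := ((algebraMap B L).comp (algebraMap R B)).toAlgebra
  haveI : IsScalarTower R B L := IsScalarTower.of_algebraMap_eq fun _ => rfl
  have hinjL : Function.Injective (algebraMap R L) :=
    (CAlg5.algebraMap_injective_of_fractionRing B L).comp hinj
  haveI : FaithfulSMul R L := (faithfulSMul_iff_algebraMap_injective R L).2 hinjL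
  letI : Algebra (FractionRing R) L := FractionRing.liftAlgebra R L
  haveI : IsScalarTower R (FractionRing R) L := FractionRing.isScalarTower_liftAlgebra R L
  haveI := finiteDimensional_fraction hinj L
  haveI : Module.Finite R (integralClosure R L) := CAlg5.IsN2.finite hR (FractionRing R) L
  haveI : Algebra.IsIntegral R B := inferInstance
  let e : integralClosure R L →ₗ[R] integralClosure B L :=
    { toFun := fun x => ⟨x.1, x.2.tower_top⟩
      map_add' := fun _ _ => rfl
      map_smul' := fun _ _ => rfl }
  haveI : Module.Finite R (integralClosure B L) := Module.Finite.of_surjective e fun x =>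
    ⟨⟨x.1, isIntegral_trans x.1 x.2⟩, rfl⟩
  exact Module.Finite.of_restrictScalars_finite R B (integralClosure B L)

theorem chart {R S : Type u} [CommRing R] [IsDomain R] [CommRing S] [IsDomain S] [Algebra R S]
    (hinj : Function.Injective (algebraMap R S)) [Algebra.FiniteType R S] [Algebra.QuasiFinite R S]
    (hR : CAlg.IsN2 R) (q : PrimeSpectrum S) :
    ∃ r : S, r ∉ q.asIdeal ∧ ∃ (Rf : Type u) (_ : CommRing Rf) (_ : IsDomain Rf) (_ : Algebra S Rf),
      IsLocalization.Away r Rf ∧ CAlg.IsN2 Rf := by
  obtain ⟨S', hS', r, hrq, hbij⟩ := (Algebra.ZariskisMainProperty.of_finiteType (R := R) q.asIdeal).exists_fg_and_exists_notMem_and_awayMap_bijective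
  haveI : Module.Finite R S' := ⟨(Submodule.fg_top _).mpr hS'⟩
  have hinj' : Function.Injective (algebraMap R S') := fun a b h => hinj (congrArg Subtype.val h)
  have hr0 : (r : S) ≠ 0 := fun h => hrq (h ▸ zero_mem _)
  let Rf := Localization.Away (r : S)
  haveI : IsDomain Rf := IsLocalization.isDomain_localization (powers_le_nonZeroDivisors_of_noZeroDivisors hr0)
  refine ⟨r, hrq, Rf, inferInstance, inferInstance, inferInstance, inferInstance, ?_⟩
  letI : Algebra S' Rf := ((algebraMap S Rf).comp S'.val.toRingHom).toAlgebra
  haveI : IsLocalization (Submonoid.powers r) Rf := by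
    refine IsLocalization.isLocalization_of_algEquiv (Submonoid.powers r)
      (AlgEquiv.ofRingEquiv (f := RingEquiv.ofBijective _ hbij) (fun x => ?_) : Localization.Away r ≃ₐ[S'] Rf)
    show Localization.awayMap S'.val.toRingHom r (algebraMap S' (Localization.Away r) x) = _
    simp only [Localization.awayMap, IsLocalization.Away.map, IsLocalization.map_eq]
    rfl
  exact CAlg5.isN2_localization (Submonoid.powers r) Rf (isN2_finite hinj' hR)

/-- Let `R ⊆ S` be an extension of domains which is of finite type and quasi-finite, with `R` Noetherian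
and N-2 (integral closures in finite extensions of the fraction field are finite). Then `S` is N-2. -/
theorem result {R S : Type u} [CommRing R] [IsDomain R] [IsNoetherianRing R] [CommRing S]
    [IsDomain S] [Algebra R S] (hinj : Function.Injective (algebraMap R S)) [Algebra.FiniteType R S]
    [Algebra.QuasiFinite R S] (hR : CAlg.IsN2 R) : CAlg.IsN2 S := by
  classical
  choose r hr Rf i1 i2 i3 hloc hN using chart hinj hR
  have htop : Ideal.span (Set.range r) = ⊤ := by
    by_contra hne
    obtain ⟨m, hm, hle⟩ := Ideal.exists_le_maximal _ hne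
    exact hr ⟨m, hm.isPrime⟩ (hle (Ideal.subset_span ⟨_, rfl⟩))
  obtain ⟨t, hts, ht⟩ := Submodule.mem_span_finite_of_mem_span (show (1 : S) ∈ Ideal.span (Set.range r) from htop ▸ trivial)
  refine CAlg5.isN2_of_cover (fun i : t => (i : S)) (by
    rw [Subtype.range_coe_subtype, Finset.setOf_mem, Ideal.eq_top_iff_one]; exact ht) fun i _ => ?_
  obtain ⟨q, hq⟩ := hts i.2
  exact ⟨Rf q, i1 q, i2 q, i3 q, hq ▸ hloc q, hN q⟩

end Groth.Agent.S2114
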