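import Groth.Statements.S4994
import Groth.Agent.SchBasics.SectionRegImm

set_option autoImplicit false
universe u
open CategoryTheory CategoryTheory.Limits AlgebraicGeometry TopologicalSpace
open Unram17

namespace Groth.Agent.S4994

/-- Let f : X ⟶ Y be locally of finite presentation. The diagonal X ⟶ X ×_Y X is a quasi-regular
immersion (that is, f is differentially smooth) if and only if the second projection X ×_Y X ⟶ X is
smooth at every point of the image of the diagonal. -/
theorem result {X Y : Scheme.{u}} (f : X ⟶ Y)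
    [LocallyOfFinitePresentation f] :
    RegImm.IsRegularImmersion RegImm.Kind.quasi (pullback.diagonal f) ↔
      ∀ x : ↥X, (pullback.diagonal f).base x ∈ (pullback.snd f f).smoothLocus := by
  constructor
  · intro h x
    refine Groth.Agent.SchBasics.mem_smoothLocus_of_regImm (pullback.snd f f) (pullback.diagonal f)
      (pullback.diagonal_snd f) x (V := ⊤) trivial ?_
    obtain ⟨hi, hat⟩ := h
    have hiso : IsIso (⊤ : X.Opens).ι := (Scheme.topIso X).isIso_hom
    refine ⟨inferInstance, fun z => ?_⟩
    obtain ⟨U, hU, hc, rs, hq, hker⟩ := hat ((⊤ : X.Opens).ι z)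
    refine ⟨U, hU, ?_, rs, hq, ?_⟩
    · rw [morphismRestrict_comp]
      have : IsIso ((⊤ : X.Opens).ι ∣_ (pullback.diagonal f ⁻¹ᵁ U.1)) :=
        IsZariskiLocalAtTarget.restrict (P := MorphismProperty.isomorphisms Scheme)
          (show IsIso (⊤ : X.Opens).ι from hiso) _
      exact (MorphismProperty.cancel_left_of_respectsIso @IsClosedImmersion
        ((⊤ : X.Opens).ι ∣_ (pullback.diagonal f ⁻¹ᵁ U.1)) _).2 hc
    · rw [← hker, Scheme.Hom.comp_app]
      exact RingHom.ker_comp_of_injective _ (ConcreteCategory.bijective_of_isIso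
        ((⊤ : X.Opens).ι.app (pullback.diagonal f ⁻¹ᵁ U.1))).1
  · exact fun h => ⟨inferInstance, fun x => Groth.Agent.SchBasics.regImmAt_of_mem_smoothLocus
      (pullback.snd f f) (pullback.diagonal f) (pullback.diagonal_snd f) x (h x)⟩

end Groth.Agent.S4994
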