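import Groth.Statements.S0402
import Groth.Agent.E4O.FibreDim

set_option autoImplicit false
universe u
open FlatMor

namespace Groth.Agent.S0402

open AlgebraicGeometry CategoryTheory Limits in
/-- For a morphism locally of finite type and an integer n, the points of the source at which the fibre
through them has local dimension at most n form an open set (upper semicontinuity of fibre dimension
on the source). -/
theorem result {X S : Scheme.{u}} (f : X ⟶ S) [LocallyOfFiniteType f] (n : ℕ) :
    IsOpen {x : X | FlatMor.fibreDimAt f x ≤ n} := by
  refine isOpen_iff_forall_mem_open.2 fun x hx => ?_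
  obtain ⟨U, hxU, hU⟩ := Groth.Agent.E4O.exists_open_forall_fibreDimAt_le f x
  exact ⟨U, fun x' hx' => (hU x' hx').trans hx, U.isOpen, hxU⟩

end Groth.Agent.S0402
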