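import Groth.Statements.S4925
import Groth.Agent.E4O.OpenAt

set_option autoImplicit false
open CategoryTheory AlgebraicGeometry
universe u v w
open EGA43
open CategoryTheory.Limits

namespace Groth.Agent.S4925

/-- Let f : X ⟶ Y and g : Y ⟶ Z be morphisms of schemes and x a point of X. If f is universally open at
x and g is universally open at f x, then f ≫ g is universally open at x. -/
theorem result {X Y Z : Scheme.{u}} (f : X ⟶ Y) (g : Y ⟶ Z) (x : X)
    (hf : EGA43.IsUnivOpenAt f x) (hg : EGA43.IsUnivOpenAt g (f.base x)) :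
    EGA43.IsUnivOpenAt (f ≫ g) x := by
  intro W w x' hx'
  let a := pullback.fst g w
  have hc : (pullback.fst (f ≫ g) w ≫ f) ≫ g = pullback.snd (f ≫ g) w ≫ w := by
    rw [Category.assoc, pullback.condition]
  let k := pullback.lift _ _ hc
  have hk1 : k ≫ a = _ := pullback.lift_fst _ _ _
  have hk2 : k ≫ pullback.snd g w = _ := pullback.lift_snd _ _ _
  have outer := (IsPullback.of_hasPullback (f ≫ g) w).flip
  rw [← hk2] at outer
  have sq := (IsPullback.of_right outer hk1 (IsPullback.of_hasPullback g w).flip).flip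
  have h1 := Groth.Agent.E4O.isOpenAt_of_isPullback hf sq x' hx'
  have h2 : EGA43.IsOpenAt ⇑(pullback.snd g w) (k x') := by
    refine hg W w _ ?_
    rw [← Scheme.Hom.comp_apply]
    erw [hk1]
    rw [Scheme.Hom.comp_apply, hx']
  have h3 := Groth.Agent.E4O.isOpenAt_comp h1 h2
  have e : ⇑(pullback.snd g w) ∘ ⇑k = ⇑(pullback.snd (f ≫ g) w) := by
    funext b
    rw [Function.comp_apply, ← Scheme.Hom.comp_apply, hk2]
  exact e ▸ h3

end Groth.Agent.S4925
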