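import Groth.Statements.S9415
import Groth.Agent.Sep12.Basic
import Mathlib.RingTheory.Smooth.Kaehler

set_option autoImplicit false
universe u
open CAlg

namespace Groth.Agent.S9415

/-- A formally smooth algebra splits off every square-zero extension. -/
theorem exists_section {k P S : Type u} [CommRing k] [CommRing P] [CommRing S] [Algebra k P]
    [Algebra k S] [Algebra.FormallySmooth k S] (q : P →ₐ[k] S) (hq : Function.Surjective q)
    (h2 : RingHom.ker q.toRingHom ^ 2 = ⊥) : ∃ g, q.comp g = AlgHom.id k S :=
  ⟨_, Algebra.FormallySmooth.comp_liftOfSurjective (AlgHom.id k S) q hq ⟨2, h2⟩⟩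

/-- A surjection onto a formally smooth algebra has injective conormal map. -/
theorem injective_of_formallySmooth {k P S : Type u} [CommRing k] [CommRing P] [CommRing S]
    [Algebra k P] [Algebra k S] [Algebra P S] [IsScalarTower k P S] [Algebra.FormallySmooth k S]
    (hsurj : Function.Surjective (algebraMap P S)) :
    Function.Injective (KaehlerDifferential.kerCotangentToTensor k P S) := by
  have hq : Function.Surjective (IsScalarTower.toAlgHom k P S).kerSquareLift := fun z => by
    obtain ⟨r, rfl⟩ := hsurj z
    exact ⟨Ideal.Quotient.mk _ r, rfl⟩
  have h2 : RingHom.ker (IsScalarTower.toAlgHom k P S).kerSquareLift.toRingHom ^ 2 = ⊥ := by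
    rw [AlgHom.ker_kerSquareLift, Ideal.cotangentIdeal_square]
  obtain ⟨σ, hσ⟩ := exists_section _ hq h2
  obtain ⟨l, hl⟩ := (retractionKerCotangentToTensorEquivSection (R := k) (P := P) (S := S) hsurj).symm ⟨σ, hσ⟩
  exact Function.LeftInverse.injective (g := l) fun z => DFunLike.congr_fun hl z

/-- Let R be a Noetherian local algebra over a field k whose residue field κ is a finitely generated,
separable (that is, geometrically reduced) field extension of k. Then the map from m/m² (m the
maximal ideal, realised as the kernel of R → κ) to κ ⊗_R Ω_{R/k} sending the class of x to 1 ⊗ dx is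
injective. -/
theorem result (k : Type u) [Field k] (R : Type u)
    [CommRing R] [IsLocalRing R] [IsNoetherianRing R] [Algebra k R]
    [Algebra.EssFiniteType k (IsLocalRing.ResidueField R)]
    [Algebra.IsGeometricallyReduced k (IsLocalRing.ResidueField R)] :
    Function.Injective
      (KaehlerDifferential.kerCotangentToTensor k R (IsLocalRing.ResidueField R)) := by
  have : Algebra.FormallySmooth k (IsLocalRing.ResidueField R) :=
    Groth.Agent.Sep12.formallySmooth_iff_isGeometricallyReduced.mpr inferInstance
  exact injective_of_formallySmooth IsLocalRing.residue_surjective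


end Groth.Agent.S9415
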