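import Groth.Statements.S0505
import Groth.Agent.Hensel20.Local

set_option autoImplicit false
universe u
open Hensel

namespace Groth.Agent.S0505

/-- A local ring which is finitely generated as a module over a henselian local ring is itself
henselian. -/
theorem result (R : Type u) [CommRing R] [HenselianLocalRing R]
    (S : Type u) [CommRing S] [IsLocalRing S] [Algebra R S] [Module.Finite R S] :
    HenselianLocalRing S := by
  have : HenselianRing S ((IsLocalRing.maximalIdeal R).map (algebraMap R S)) :=
    Hensel20.henselianRing_of_integral S
  have hrad : ((IsLocalRing.maximalIdeal R).map (algebraMap R S)).radical =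
      IsLocalRing.maximalIdeal S := by
    refine le_antisymm ((IsLocalRing.maximalIdeal.isMaximal S).isPrime.radical_le_iff.mpr
      ((HenselianRing.jac).trans (le_of_eq (IsLocalRing.jacobson_eq_maximalIdeal ⊥ bot_ne_top))))
      ?_
    rw [Ideal.radical_eq_sInf]
    refine le_sInf fun P ⟨hle, hP⟩ => ?_
    have : (P.comap (algebraMap R S)).IsMaximal :=
      ((IsLocalRing.maximalIdeal.isMaximal R).eq_of_le (Ideal.IsPrime.comap _).ne_top
        (Ideal.map_le_iff_le_comap.mp hle)) ▸ IsLocalRing.maximalIdeal.isMaximal R
    have := Ideal.isMaximal_of_isIntegral_of_isMaximal_comap P this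
    exact (IsLocalRing.eq_maximalIdeal this).ge
  have := Hensel20.henselianRing_radical_iff.mpr ‹HenselianRing S _›
  rw [hrad] at this
  exact Hensel20.henselianLocalRing_of_henselianRing S

end Groth.Agent.S0505
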