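import Groth.Statements.S10957
import Mathlib

set_option autoImplicit false
universe u
open CAlg

namespace Groth.Agent.S10957

/-- Let A be a Noetherian local integral domain that is normal (integrally closed in its field of
fractions). If there is a nonzero element a of A such that the maximal ideal of A is an associated
prime of the A-module A/(a), then A is a discrete valuation ring. (The other conditions listed in
the published result — normal of dimension one, maximal ideal nonzero principal, regular of
dimension one — are the library's standard characterisations; this row records the criterion through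
an associated prime.) -/
theorem result
    (A : Type u) [CommRing A] [IsDomain A] [IsNoetherianRing A] [IsLocalRing A] [IsIntegrallyClosed A]
    (a : A) (ha : a ≠ 0)
    (hass : IsLocalRing.maximalIdeal A ∈ associatedPrimes A (A ⧸ Ideal.span ({a} : Set A))) :
    IsDiscreteValuationRing A := by
  set m := IsLocalRing.maximalIdeal A with hm
  obtain ⟨hprime, x, hx⟩ := (isAssociatedPrime_iff.1 hass)
  obtain ⟨b, rfl⟩ := Ideal.Quotient.mk_surjective x
  have key : ∀ y : A, y ∈ m ↔ y * b ∈ Ideal.span ({a} : Set A) := fun y => by
    rw [hx, Submodule.mem_colon_singleton, Submodule.mem_bot]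
    exact Ideal.Quotient.eq_zero_iff_mem (a := y * b)
  have hb : b ∉ Ideal.span ({a} : Set A) := fun h => hprime.ne_top ((Ideal.eq_top_iff_one _).2 ((key 1).2 (by rwa [one_mul])))
  have ham : a ∈ m := (key a).2 (Ideal.mul_mem_right _ _ (Ideal.subset_span rfl))
  let K := FractionRing A
  have haK : algebraMap A K a ≠ 0 := by simpa using ha
  by_cases hall : ∀ y ∈ m, ∀ c : A, y * b = a * c → c ∈ m
  · exfalso
    let N : Submodule A K := Submodule.map (Algebra.linearMap A K) m
    have hN : N ≠ ⊥ := fun h => haK (by
      have : algebraMap A K a ∈ N := ⟨a, ham, rfl⟩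
      rwa [h, Submodule.mem_bot] at this)
    have hint : IsIntegral A (algebraMap A K b / algebraMap A K a) := by
      refine isIntegral_of_smul_mem_submodule N hN ((IsNoetherian.noetherian m).map _) _ ?_
      rintro _ ⟨y, hy, rfl⟩
      obtain ⟨c, hc⟩ := Ideal.mem_span_singleton'.1 ((key y).1 hy)
      refine ⟨c, hall y hy c (by rw [← hc, mul_comm]), ?_⟩
      simp only [Algebra.linearMap_apply, smul_eq_mul]
      rw [div_mul_eq_mul_div, eq_div_iff haK, ← map_mul, ← map_mul, hc, mul_comm]
    obtain ⟨z, hz⟩ := IsIntegrallyClosed.isIntegral_iff.1 hint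
    apply hb
    rw [eq_div_iff haK, ← map_mul] at hz
    exact Ideal.mem_span_singleton'.2 ⟨z, IsFractionRing.injective A K hz⟩
  · push Not at hall
    obtain ⟨t, ht, c, htc, hc⟩ := hall
    obtain ⟨u, rfl⟩ : IsUnit c := IsLocalRing.notMem_maximalIdeal.1 hc
    have hprin : m.IsPrincipal := ⟨⟨t, le_antisymm (fun y hy => ?_) ((Ideal.span_singleton_le_iff_mem _).2 ht)⟩⟩
    · have hne : ¬ IsField A := fun h => by
        have := IsLocalRing.isField_iff_maximalIdeal_eq.1 h
        rw [← hm] at this; rw [this] at ham; exact ha ham
      exact ((IsDiscreteValuationRing.TFAE A hne).out 0 4).2 hprin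
    · obtain ⟨d, hd⟩ := Ideal.mem_span_singleton'.1 ((key y).1 hy)
      have hbne : b ≠ 0 := fun h => hb (h ▸ zero_mem _)
      refine Ideal.mem_span_singleton'.2 ⟨d * ↑u⁻¹, ?_⟩
      apply mul_right_cancel₀ hbne
      rw [mul_assoc (d * ↑u⁻¹) t b, htc, mul_assoc d, mul_left_comm (↑u⁻¹ : A) a, Units.inv_mul, mul_one, ← hd]

end Groth.Agent.S10957
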