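import Groth.Statements.S3825
import Groth.Agent.RR50.Rees

set_option autoImplicit false
universe u
open QReg16

namespace Groth.Agent.S3825

open MvPolynomial in
theorem basis_of_quasiRegular {A : Type*} [CommRing A] (I : Ideal A) {m : ℕ} (f : Fin m → I)
    (hq : CAlgX.IsQuasiRegular (fun i => (f i : A))) (hs : Ideal.span (Set.range fun i => (f i : A)) = I) :
    LinearIndependent (A ⧸ I) (fun i => I.toCotangent (f i)) ∧
      Submodule.span (A ⧸ I) (Set.range fun i => I.toCotangent (f i)) = ⊤ := by
  classical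
  constructor
  · rw [Fintype.linearIndependent_iff]
    intro g hg j
    choose r hr using fun i => Ideal.Quotient.mk_surjective (g i)
    have h0 : I.toCotangent (∑ i, r i • f i) = 0 := by
      rw [map_sum, ← hg]
      refine Finset.sum_congr rfl fun i _ => ?_
      rw [map_smul, ← hr i]
      rfl
    rw [Ideal.toCotangent_eq_zero] at h0
    have hP : (∑ i, C (r i) * X i : MvPolynomial (Fin m) A).IsHomogeneous 1 :=
      IsHomogeneous.sum _ _ _ fun i _ => (isHomogeneous_X A i).C_mul _
    have h1 := hq 1 _ hP (by rw [hs]; simpa using h0) (Finsupp.single j 1)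
    rw [hs] at h1
    simp only [coeff_sum, coeff_C_mul, coeff_X, Finsupp.single_left_inj one_ne_zero, mul_ite, mul_one, mul_zero,
      Finset.sum_ite_eq', Finset.mem_univ, if_true] at h1
    rw [← hr j]
    exact Ideal.Quotient.eq_zero_iff_mem.2 h1
  · rw [eq_top_iff]
    intro x _
    obtain ⟨⟨a, ha⟩, rfl⟩ := Ideal.toCotangent_surjective I x
    obtain ⟨c, hc⟩ := Ideal.mem_span_range_iff_exists_fun.1 (hs.symm ▸ ha)
    have h1 : (⟨a, ha⟩ : I) = ∑ i, c i • f i := by
      apply Subtype.ext
      simpa using hc.symm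
    rw [h1, map_sum]
    refine Submodule.sum_mem _ fun i _ => ?_
    rw [map_smul]
    change (Ideal.Quotient.mk I (c i)) • I.toCotangent (f i) ∈ _
    exact Submodule.smul_mem _ _ (Submodule.subset_span (Set.mem_range_self i))

/-- a) iff c) (affine local form): let A be a local ring and I a proper ideal generated by some
quasi-regular sequence. For a finite family (f_i) of elements of I, the following are equivalent:
(a) (f_i) is a quasi-regular sequence generating I; (c) the classes of the f_i form a basis of the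
A/I-module I/I² (equivalently, b): (f_i) is a minimal system of generators of I). -/
theorem result {A : Type u} [CommRing A] [IsLocalRing A]
    (I : Ideal A) (hI : I ≤ IsLocalRing.maximalIdeal A)
    (hq : ∃ (r : ℕ) (g : Fin r → A), CAlgX.IsQuasiRegular g ∧ Ideal.span (Set.range g) = I)
    {m : ℕ} (f : Fin m → I) :
    (CAlgX.IsQuasiRegular (fun i => (f i : A)) ∧ Ideal.span (Set.range fun i => (f i : A)) = I) ↔
      (LinearIndependent (A ⧸ I) (fun i => I.toCotangent (f i)) ∧
        Submodule.span (A ⧸ I) (Set.range fun i => I.toCotangent (f i)) = ⊤) := by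
  classical
  refine ⟨fun h => basis_of_quasiRegular I f h.1 h.2, fun h => ?_⟩
  obtain ⟨r, g, hg, hgs⟩ := hq
  obtain ⟨hli, hsp⟩ := h
  let g' : Fin r → I := fun i => ⟨g i, hgs ▸ Ideal.subset_span ⟨i, rfl⟩⟩
  obtain ⟨hli', hsp'⟩ := basis_of_quasiRegular I g' hg hgs
  have : Nontrivial (A ⧸ I) := Ideal.Quotient.nontrivial_iff.2
    (ne_top_of_le_ne_top (IsLocalRing.maximalIdeal.isMaximal A).ne_top hI)
  let bf := Module.Basis.mk hli hsp.ge
  let bg := Module.Basis.mk hli' hsp'.ge
  have hrm : r = m := Fin.equiv_iff_eq.1 ⟨bg.indexEquiv bf⟩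
  subst hrm
  have hle : Ideal.span (Set.range fun i => (f i : A)) ≤ I := Ideal.span_le.2 (Set.range_subset_iff.2 fun i => (f i).2)
  have hspan : Ideal.span (Set.range fun i => (f i : A)) = I := by
    refine le_antisymm hle ?_
    refine Submodule.le_of_le_smul_of_le_jacobson_bot (I := I)
      (hgs ▸ Submodule.fg_span (Set.finite_range g)) (hI.trans (IsLocalRing.maximalIdeal_le_jacobson ⊥)) ?_
    intro a ha
    have hmem : I.toCotangent ⟨a, ha⟩ ∈ Submodule.span (A ⧸ I) (Set.range fun i => I.toCotangent (f i)) := hsp ▸ Submodule.mem_top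
    obtain ⟨c, hc⟩ := (Submodule.mem_span_range_iff_exists_fun _).1 hmem
    choose d hd using fun i => Ideal.Quotient.mk_surjective (c i)
    have h0 : I.toCotangent (⟨a, ha⟩ - ∑ i, d i • f i) = 0 := by
      rw [map_sub, map_sum, sub_eq_zero, ← hc]
      refine Finset.sum_congr rfl fun i _ => ?_
      rw [map_smul, ← hd i]
      rfl
    rw [Ideal.toCotangent_eq_zero] at h0
    rw [Submodule.mem_sup]
    refine ⟨∑ i, d i * (f i : A), sum_mem fun i _ => Ideal.mul_mem_left _ _ (Ideal.subset_span ⟨i, rfl⟩),
      a - ∑ i, d i * (f i : A), ?_, by ring⟩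
    rw [smul_eq_mul, ← sq]
    simpa using h0
  exact ⟨Groth.Agent.RR50.isQuasiRegular_of_span_eq g _ hg (hgs.trans hspan.symm), hspan⟩

end Groth.Agent.S3825
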