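import Groth.Agent.An92.Alg.RegSeqUp
import Groth.Prelude.Def_CInt
-- Template for statement S5033 (row 5032; see the milestone table for weights).
-- Copy to Groth/Agent/S5033.lean and replace the sorry. The statement below is byte-identical to the frozen
-- statement CInt.GrothFrozen.S5033 (Groth/Statements/S5033.lean; the theorem CInt.isRegularLocalRing_iff_isRegularIdeal_of_regular_quotient);
-- the grader kernel-checks Groth.Agent.S5033.result against that frozen type. Keep the theorem IN THIS FILE
-- (a `result` declared elsewhere and merely imported here is not credited); helpers may live anywhere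
-- under Groth/Agent/.

set_option autoImplicit false
universe u
open CInt

namespace Groth.Agent.S5033

/-- Let A be a Noetherian local ring and J an ideal such that A/J is a regular local ring. Then A is a
regular local ring if and only if J is generated by a regular sequence of A. -/
theorem result (A : Type u) [CommRing A] [IsNoetherianRing A]
    [IsLocalRing A] (J : Ideal A) [IsRegularLocalRing (A ⧸ J)] :
    IsRegularLocalRing A ↔ CInt.IsRegularIdeal J := by
  constructor
  · intro _
    obtain ⟨d, hd⟩ : ∃ d : ℕ, (IsLocalRing.maximalIdeal A).spanFinrank = d := ⟨_, rfl⟩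
    obtain ⟨x, c, hc, hx, hI⟩ := CAlg1.exists_params_quotient A d hd J
    have hlist : Ideal.ofList (List.ofFn x) = IsLocalRing.maximalIdeal A := by
      rw [← hx, Ideal.ofList]
      congr 1
      ext r
      simp [List.mem_ofFn]
    have hd' : ringKrullDim A = d := by rw [← IsRegularLocalRing.spanFinrank_maximalIdeal, hd]
    have hreg := CAlg1.isRegular_params hd' x hx
    have hsplit : List.ofFn x = List.ofFn (fun i : Fin c => x (Fin.castLE hc i)) ++ (List.ofFn x).drop c := by
      conv_lhs => rw [← List.take_append_drop c (List.ofFn x)]
      congr 1
      apply List.ext_getElem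
      · simp [hc]
      · intro i h1 h2
        simp [Fin.castLE]
    have hw := hreg.toIsWeaklyRegular
    rw [hsplit, RingTheory.Sequence.isWeaklyRegular_append_iff] at hw
    have hJm : Ideal.ofList (List.ofFn (fun i : Fin c => x (Fin.castLE hc i))) = J := by
      rw [hI, Ideal.ofList]
      congr 1
      ext r
      simp [List.mem_ofFn]
    refine ⟨_, ⟨hw.1, ?_⟩, hJm⟩
    rw [hJm, smul_eq_mul, Ideal.mul_top]
    intro h
    have := Ideal.Quotient.nontrivial_iff.1 (inferInstance : Nontrivial (A ⧸ J))
    exact this h.symm
  · rintro ⟨rs, hrs, rfl⟩
    exact An92.regular_of_regularSeq rs hrs.toIsWeaklyRegular ‹_›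

end Groth.Agent.S5033
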