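import Groth.Statements.S0611
import Groth.Agent.RR50.Rees

set_option autoImplicit false
universe u
open RRAlg

namespace Groth.Agent.S0611

/-- In a Noetherian local ring, any minimal generating set of an ideal generated by a regular sequence
is again a regular sequence: if a₁, …, aₙ is a regular sequence and b₁, …, bₙ are n elements
generating the same ideal, then b₁, …, bₙ is a regular sequence. (A regular sequence of length n
generating an ideal I is a minimal generating set of I, so "minimal" amounts to "of length n".) -/
theorem result {A : Type u} [CommRing A] [IsLocalRing A] [IsNoetherianRing A]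
    {n : ℕ} (a b : Fin n → A) (ha : RingTheory.Sequence.IsRegular A (List.ofFn a))
    (hab : Ideal.span (Set.range a) = Ideal.span (Set.range b)) :
    RingTheory.Sequence.IsRegular A (List.ofFn b) := by
  have hspan : ∀ f : Fin n → A, Ideal.ofList (List.ofFn f) = Ideal.span (Set.range f) := fun f =>
    congrArg Ideal.span (Set.ext fun z => List.mem_ofFn)
  have hne : Ideal.span (Set.range a) ≠ ⊤ := by
    intro h
    have h2 := ha.top_ne_smul
    rw [hspan, h] at h2
    exact h2 (by simp)
  have hb : ∀ i, b i ∈ Ring.jacobson A := fun i => by
    rw [← Ideal.jacobson_bot, IsLocalRing.jacobson_eq_maximalIdeal ⊥ bot_ne_top]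
    exact IsLocalRing.le_maximalIdeal hne (hab ▸ Ideal.subset_span ⟨i, rfl⟩)
  have hq := RR50.isQuasiRegular_of_span_eq a b
    (EGA4Alg4.isQuasiRegular_of_isWeaklyRegular n a ha.toIsWeaklyRegular) hab
  refine ⟨EGA4Alg4.isWeaklyRegular_of_isQuasiRegular n A b hb hq, ?_⟩
  have h2 := ha.top_ne_smul
  rw [hspan, hab] at h2
  rwa [hspan]

end Groth.Agent.S0611
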