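import Groth.Statements.S4806
import Groth.Agent.SGA3a.MonoFibre
import Mathlib.AlgebraicGeometry.ZariskisMainTheorem

set_option autoImplicit false
set_option backward.isDefEq.respectTransparency false
universe u
open CategoryTheory AlgebraicGeometry
open Lim8

namespace Groth.Agent.S4806

/-- Let f : X ⟶ Y be a proper morphism of finite presentation. Then f is a closed immersion if and only
if, for every point y of Y, the scheme-theoretic fibre of f at y is empty or its structure morphism
to Spec κ(y) is an isomorphism. -/
theorem result {X Y : Scheme.{u}} (f : X ⟶ Y) [IsProper f]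
    [LocallyOfFinitePresentation f] :
    IsClosedImmersion f ↔ ∀ y : Y, IsEmpty (f.fiber y) ∨ IsIso (f.fiberToSpecResidueField y) := by
  constructor
  · intro hf y
    rcases isEmpty_or_nonempty ↥(f.fiber y) with h | ⟨⟨z⟩⟩
    · exact Or.inl h
    have hci : IsClosedImmersion (f.fiberToSpecResidueField y) :=
      by
      change IsClosedImmersion (Limits.pullback.snd f (Y.fromSpecResidueField y))
      have := IsClosedImmersion.isStableUnderBaseChange.{u}
      exact MorphismProperty.pullback_snd (P := @IsClosedImmersion) _ _ hf
    have : Surjective (f.fiberToSpecResidueField y) := by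
      refine ⟨fun w => ⟨z, ?_⟩⟩
      have : Subsingleton ↥(Spec (Y.residueField y)) :=
        inferInstanceAs (Subsingleton (PrimeSpectrum (Y.residueField y)))
      exact Subsingleton.elim _ _
    exact Or.inr (isIso_of_isClosedImmersion_of_surjective _)
  · intro h
    have hmono : ∀ y : Y, Mono (f.fiberToSpecResidueField y) := fun y => by
      rcases h y with he | hi
      · have : IsOpenImmersion (f.fiberToSpecResidueField y) := isOpenImmersion_of_isEmpty _
        infer_instance
      · infer_instance
    exact (IsClosedImmersion.iff_isProper_and_mono f).mpr ⟨inferInstance,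
      Groth.Agent.SGA3a.mono_of_monoFields (Groth.Agent.SGA3a.monoFields_of_fibres f hmono)⟩

end Groth.Agent.S4806
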