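import Groth.Statements.S12208
import Mathlib.RingTheory.NoetherNormalization
import Mathlib.RingTheory.KrullDimension.Polynomial
import Mathlib.RingTheory.KrullDimension.Field
import Mathlib.RingTheory.Ideal.GoingUp

set_option autoImplicit false
universe u
open CAlg

namespace Groth.Agent.S12208

open private hom2 hom2_isIntegral from Mathlib.RingTheory.NoetherNormalization
open MvPolynomial

theorem hom2_X {k : Type*} [Field k] {n : ℕ} (f : MvPolynomial (Fin (n + 1)) k)
    (I : Ideal (MvPolynomial (Fin (n + 1)) k)) (j : Fin n) :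
    hom2 f I (X j) =
      Ideal.Quotient.mkₐ k I (X j.succ - X 0 ^ ((2 + f.totalDegree) ^ (j.succ : ℕ))) := by
  have h : (MvPolynomial.finSuccEquiv k n).symm (Polynomial.C (X j)) = X j.succ := by
    rw [AlgEquiv.symm_apply_eq, MvPolynomial.finSuccEquiv_X_succ]
  simp [hom2]
  rw [IsScalarTower.algebraMap_apply (MvPolynomial (Fin n) k) (Polynomial (MvPolynomial (Fin n) k))]
  simp [Ideal.quotientEquivAlg, h, sub_eq_add_neg]

theorem dim_eq_of_injective_finite {k : Type*} [Field k] {r : ℕ} {S : Type*} [CommRing S]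
    (φ : MvPolynomial (Fin r) k →+* S) (hinj : Function.Injective φ) (hfin : φ.Finite) :
    ringKrullDim S = r := by
  letI := φ.toAlgebra
  haveI : Module.Finite (MvPolynomial (Fin r) k) S := hfin
  haveI : Algebra.IsIntegral (MvPolynomial (Fin r) k) S := Algebra.IsIntegral.of_finite _ _
  have hd : ringKrullDim (MvPolynomial (Fin r) k) = r := by
    rw [MvPolynomial.ringKrullDim_of_isNoetherianRing, ringKrullDim_eq_zero_of_field, zero_add,
      Nat.card_eq_fintype_card, Fintype.card_fin]
  refine le_antisymm (le_trans (Order.krullDim_le_of_strictMono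
    (fun Q => PrimeSpectrum.comap φ Q) ?_) hd.le) ?_
  · intro Q Q' h
    obtain ⟨x, hx, hx'⟩ := SetLike.exists_of_lt (show Q.asIdeal < Q'.asIdeal from h)
    exact Ideal.comap_lt_comap_of_integral_mem_sdiff (R := MvPolynomial (Fin r) k) h.le ⟨hx, hx'⟩
      (Algebra.IsIntegral.isIntegral x)
  · rw [← hd]
    refine iSup_le fun c => ?_
    have key : ∀ (n : ℕ) (c : LTSeries (PrimeSpectrum (MvPolynomial (Fin r) k))), c.length = n →
        ∃ d : LTSeries (PrimeSpectrum S), d.length = n ∧
          PrimeSpectrum.comap φ d.last = c.last := by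
      intro n
      induction n with
      | zero =>
        intro c hc
        obtain ⟨Q, -, hQ, hQc⟩ := Ideal.exists_ideal_over_prime_of_isIntegral (R := MvPolynomial (Fin r) k)
          (S := S) c.last.asIdeal ⊥ (by
            intro x hx
            rw [Ideal.mem_comap, Ideal.mem_bot] at hx
            rw [hinj (hx.trans (map_zero _).symm)]
            exact zero_mem _)
        exact ⟨RelSeries.singleton _ ⟨Q, hQ⟩, rfl, PrimeSpectrum.ext hQc⟩
      | succ n ih =>
        intro c hc
        obtain ⟨d, hd, hdc⟩ := ih c.eraseLast (by simp [hc])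
        have hlt : c.eraseLast.last < c.last := RelSeries.eraseLast_last_rel_last c (by omega)
        obtain ⟨Q, hdQ, hQ, hQc⟩ := Ideal.exists_ideal_over_prime_of_isIntegral
          (R := MvPolynomial (Fin r) k) (S := S) c.last.asIdeal d.last.asIdeal
          (show (PrimeSpectrum.comap φ d.last).asIdeal ≤ _ by rw [hdc]; exact hlt.le)
        have hlt' : d.last < ⟨Q, hQ⟩ := lt_of_le_of_ne hdQ fun h => by
          rw [h] at hdc
          exact hlt.ne (hdc.symm.trans (PrimeSpectrum.ext hQc))
        refine ⟨d.snoc ⟨Q, hQ⟩ hlt', by simp [hd], ?_⟩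
        rw [RelSeries.last_snoc]
        exact PrimeSpectrum.ext hQc
    obtain ⟨d, hd', -⟩ := key c.length c rfl
    rw [← hd']
    exact Order.LTSeries.length_le_krullDim d

theorem kerLiftAlg_isIntegral {k A B : Type*} [Field k] [CommRing A] [CommRing B] [Algebra k A]
    [Algebra k B] (φ : A →ₐ[k] B) (h : φ.toRingHom.IsIntegral) :
    (Ideal.kerLiftAlg φ).toRingHom.IsIntegral := by
  have h4 : (Ideal.kerLiftAlg φ).toRingHom.comp (Ideal.Quotient.mk (RingHom.ker φ)) = φ.toRingHom :=
    RingHom.ext fun a => Ideal.kerLiftAlg_mk φ a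
  rw [← h4] at h
  exact RingHom.IsIntegral.tower_top _ _ h

theorem exists_int {k : Type*} [Field k] : ∀ (n : ℕ) (I : Ideal (MvPolynomial (Fin n) k)), I ≠ ⊤ →
    ∃ (r : ℕ) (y : Fin r → MvPolynomial (Fin n) k),
      (∀ i, y i ∈ Set.range (MvPolynomial.map (Int.castRingHom k) :
        MvPolynomial (Fin n) ℤ → MvPolynomial (Fin n) k)) ∧
      Function.Injective ((Ideal.Quotient.mkₐ k I).comp (MvPolynomial.aeval y)) ∧
      ((Ideal.Quotient.mkₐ k I).comp (MvPolynomial.aeval y)).toRingHom.IsIntegral := by
  intro n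
  induction n with
  | zero =>
    intro I hI
    refine ⟨0, Fin.elim0, fun i => i.elim0, fun a b hab => ?_, fun x => ?_⟩
    · rw [AlgHom.comp_apply, AlgHom.comp_apply, Ideal.Quotient.mkₐ_eq_mk, Ideal.Quotient.eq] at hab
      have hid : (MvPolynomial.aeval Fin.elim0 : MvPolynomial (Fin 0) k →ₐ[k] _) = AlgHom.id k _ :=
        MvPolynomial.algHom_ext fun i => i.elim0
      rw [hid, AlgHom.id_apply, AlgHom.id_apply] at hab
      by_contra hne
      have eq := eq_C_of_isEmpty (a - b)
      have hc : coeff 0 (a - b) ≠ 0 := fun h => hne (sub_eq_zero.1 (by rw [eq, h, map_zero]))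
      refine hI (Ideal.eq_top_of_isUnit_mem _ hab ?_)
      rw [eq]
      exact hc.isUnit.map MvPolynomial.C
    · obtain ⟨x, rfl⟩ := Ideal.Quotient.mk_surjective x
      refine ⟨Polynomial.X - Polynomial.C x, Polynomial.monic_X_sub_C x, ?_⟩
      rw [Polynomial.eval₂_sub, Polynomial.eval₂_X, Polynomial.eval₂_C, sub_eq_zero]
      rw [show (MvPolynomial.aeval Fin.elim0 : MvPolynomial (Fin 0) k →ₐ[k] MvPolynomial (Fin 0) k) =
        AlgHom.id k _ from MvPolynomial.algHom_ext fun i => i.elim0]
      rfl
  | succ d ih =>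
    intro I hI
    by_cases hI0 : I = ⊥
    · refine ⟨d + 1, X, fun i => ⟨X i, map_X _ _⟩, ?_, ?_⟩
      · rw [aeval_X_left, AlgHom.comp_id]
        exact ((Ideal.Quotient.mk_bijective_iff_eq_bot I).mpr hI0).1
      · rw [aeval_X_left, AlgHom.comp_id]
        exact RingHom.isIntegral_of_surjective _ (Ideal.Quotient.mkₐ_surjective k I)
    · obtain ⟨f, fI, f0⟩ := Submodule.exists_mem_ne_zero_of_ne_bot hI0
      haveI := Ideal.Quotient.nontrivial_iff.mpr hI
      obtain ⟨r, y, hy, hinj, hint⟩ := ih (RingHom.ker (hom2 f I)) (RingHom.ker_ne_top _)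
      let z : Fin d → MvPolynomial (Fin (d + 1)) k := fun j =>
        X j.succ - X 0 ^ ((2 + f.totalDegree) ^ (j.succ : ℕ))
      have hh : hom2 f I = (Ideal.Quotient.mkₐ k I).comp (aeval z) := by
        refine MvPolynomial.algHom_ext fun j => ?_
        rw [hom2_X, AlgHom.comp_apply, aeval_X]
      have hcomp : (Ideal.kerLiftAlg (hom2 f I)).comp
          ((Ideal.Quotient.mkₐ k (RingHom.ker (hom2 f I))).comp (aeval y)) =
          (Ideal.Quotient.mkₐ k I).comp (aeval fun i => aeval z (y i)) := by
        refine MvPolynomial.algHom_ext fun i => ?_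
        simp only [AlgHom.comp_apply, aeval_X, Ideal.Quotient.mkₐ_eq_mk, Ideal.kerLiftAlg_mk]
        exact congrArg (fun φ : _ →ₐ[k] _ => φ (y i)) hh
      refine ⟨r, fun i => aeval z (y i), fun i => ?_, ?_, ?_⟩
      · obtain ⟨p, hp⟩ := hy i
        let z' : Fin d → MvPolynomial (Fin (d + 1)) ℤ := fun j =>
          X j.succ - X 0 ^ ((2 + f.totalDegree) ^ (j.succ : ℕ))
        refine ⟨aeval z' p, ?_⟩
        show _ = aeval z (y i)
        rw [← hp]
        have hring : (MvPolynomial.map (Int.castRingHom k)).comp (aeval z').toRingHom =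
            (aeval z).toRingHom.comp (MvPolynomial.map (Int.castRingHom k)) := by
          refine MvPolynomial.ringHom_ext (fun a => by simp) fun j => ?_
          simp [z, z']
        exact congrArg (fun φ : MvPolynomial (Fin d) ℤ →+* MvPolynomial (Fin (d + 1)) k => φ p) hring
      · rw [← hcomp, AlgHom.coe_comp]
        exact (Ideal.kerLiftAlg_injective _).comp hinj
      · rw [← hcomp]
        have h3 : (hom2 f I).toRingHom.IsIntegral := hom2_isIntegral f I f0 fI
        have h5 : (Ideal.kerLiftAlg (hom2 f I)).toRingHom.IsIntegral := kerLiftAlg_isIntegral _ h3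
        have h6 := RingHom.IsIntegral.trans
          ((Ideal.Quotient.mkₐ k (RingHom.ker (hom2 f I))).comp (aeval y)).toRingHom
          (Ideal.kerLiftAlg (hom2 f I)).toRingHom hint h5
        exact h6

/-- Let k be a field and S = k[x_1, …, x_n]/I with I a proper ideal. Then there exist r ≥ 0 and elements
y_1, …, y_r of k[x_1, …, x_n] lying in the subring generated by x_1, …, x_n (polynomials with
integer coefficients) such that the k-algebra map from the polynomial ring k[t_1, …, t_r] to S
sending t_i to the class of y_i is injective and finite; and for any r ≥ 0 and any y_1, …, y_r in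
k[x_1, …, x_n] (with or without the integer-coefficient condition) for which that map is injective
and finite, r is the Krull dimension of S. -/
theorem result (k : Type u) [Field k] (n : ℕ) (I : Ideal (MvPolynomial (Fin n) k))
    (hI : I ≠ ⊤) :
    (∃ (r : ℕ) (y : Fin r → MvPolynomial (Fin n) k),
      (∀ i, y i ∈ Set.range (MvPolynomial.map (Int.castRingHom k) : MvPolynomial (Fin n) ℤ → MvPolynomial (Fin n) k)) ∧
      Function.Injective ((Ideal.Quotient.mkₐ k I).comp (MvPolynomial.aeval y)) ∧
      ((Ideal.Quotient.mkₐ k I).comp (MvPolynomial.aeval y)).toRingHom.Finite) ∧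
    ∀ (r : ℕ) (y : Fin r → MvPolynomial (Fin n) k),
      Function.Injective ((Ideal.Quotient.mkₐ k I).comp (MvPolynomial.aeval y)) →
      ((Ideal.Quotient.mkₐ k I).comp (MvPolynomial.aeval y)).toRingHom.Finite →
      ringKrullDim (MvPolynomial (Fin n) k ⧸ I) = r := by
  refine ⟨?_, fun r y hinj hfin => dim_eq_of_injective_finite _ hinj hfin⟩
  obtain ⟨r, y, hy, hinj, hint⟩ := exists_int n I hI
  refine ⟨r, y, hy, hinj, hint.to_finite ?_⟩
  have : Algebra.FiniteType k (MvPolynomial (Fin n) k ⧸ I) :=
    Algebra.FiniteType.of_surjective (Ideal.Quotient.mkₐ k I) (Ideal.Quotient.mkₐ_surjective k I)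
  have h : algebraMap k (MvPolynomial (Fin n) k ⧸ I) =
      ((Ideal.Quotient.mkₐ k I).comp (MvPolynomial.aeval y)).toRingHom.comp
        (algebraMap k (MvPolynomial (Fin r) k)) :=
    RingHom.ext fun a => (((Ideal.Quotient.mkₐ k I).comp (MvPolynomial.aeval y)).commutes a).symm
  exact (h ▸ RingHom.finiteType_algebraMap.mpr this).of_comp_finiteType

end Groth.Agent.S12208
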