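import Groth.Statements.S3394
import Groth.Agent.AffNorm62.Basic
import Groth.Agent.S12208

set_option autoImplicit false
open CategoryTheory AlgebraicGeometry
universe u
open EGA43

open Groth.Agent CategoryTheory.Limits

namespace Groth.Agent.S3394

open CategoryTheory.Limits in
/-- Let X and Y be affine schemes, f : X ⟶ Y a morphism of finite type, y a point of f(X) and e the
dimension of the fibre of f over y. Then there is a Y-morphism g from X to the affine space of
dimension e over Y such that the morphism induced by g on the fibres over y is finite (here written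
as the base change of g along the inclusion of the fibre of the affine space over y). -/
theorem result {X Y : Scheme.{u}} [IsAffine X] [IsAffine Y] (f : X ⟶ Y)
    [LocallyOfFiniteType f] (y : Y) (hy : y ∈ Set.range f.base) (e : ℕ)
    (he : topologicalKrullDim ↥(f.fiber y) = e) :
    ∃ g : X ⟶ 𝔸(ULift.{u} (Fin e); Y), g ≫ (𝔸(ULift.{u} (Fin e); Y) ↘ Y) = f ∧
      IsFinite (pullback.snd g ((𝔸(ULift.{u} (Fin e); Y) ↘ Y).fiberι y)) := by
  have hQa : IsAffine (pullback f (Y.fromSpecResidueField y)) := inferInstance
  obtain ⟨m, b, hb⟩ := AffNorm62.exists_isClosedImmersion_homOfVector f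
  let r := Y.fromSpecResidueField y
  let κ := Y.residueField y
  let w : ULift.{u} (Fin m) → Γ(pullback f r, ⊤) := fun i => (pullback.fst f r).appTop (b i)
  have hw : IsClosedImmersion (AffineSpace.homOfVector (pullback.snd f r) w) :=
    (AffNorm62.property_snd_fst_iff @IsClosedImmersion r f b).1
      (MorphismProperty.of_isPullback (P := @IsClosedImmersion) (IsPullback.of_hasPullback _ _) hb)
  let ψ : MvPolynomial (Fin m) κ →+* Γ(pullback f r, ⊤) :=
    (AffNorm62.coordHom (pullback.snd f r) w).comp
      (MvPolynomial.rename (R := κ) ULift.up).toRingHom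
  have hψ : Function.Surjective ψ :=
    (AffNorm62.coordHom_surjective (pullback.snd f r) w).comp
      (MvPolynomial.rename_surjective _ fun i => ⟨i.down, rfl⟩)
  let E := RingHom.quotientKerEquivOfSurjective hψ
  have hdim : ringKrullDim Γ(pullback f r, ⊤) = e := by
    rw [← he, ← PrimeSpectrum.topologicalKrullDim_eq_ringKrullDim]
    exact (IsHomeomorph.topologicalKrullDim_eq _
      (pullback f r).isoSpec.hom.homeomorph.isHomeomorph).symm
  have hI : RingHom.ker ψ ≠ ⊤ := by
    intro h
    have h1 := ringKrullDim_eq_of_ringEquiv E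
    have : Subsingleton (MvPolynomial (Fin m) κ ⧸ RingHom.ker ψ) :=
      Ideal.Quotient.subsingleton_iff.2 h
    rw [ringKrullDim_eq_bot_of_subsingleton, hdim] at h1
    exact WithBot.bot_ne_natCast e h1
  obtain ⟨⟨k, p, hp, hinj, hfin⟩, huniq⟩ := S12208.result κ m (RingHom.ker ψ) hI
  have hk : (e : WithBot ℕ∞) = k := by
    rw [← hdim, ← ringKrullDim_eq_of_ringEquiv E]; exact huniq k p hinj hfin
  obtain rfl : e = k := by exact_mod_cast hk
  choose z hz using hp
  let v : ULift.{u} (Fin e) → Γ(X, ⊤) := fun i =>
    MvPolynomial.eval₂ (Int.castRingHom _) (fun j => b ⟨j⟩) (z i.down)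
  refine ⟨AffineSpace.homOfVector f v, AffineSpace.homOfVector_over _ _, ?_⟩
  refine (AffNorm62.property_snd_fst_iff @IsFinite r f v).2 ?_
  rw [AffNorm62.isFinite_homOfVector_iff]
  have hfin' : (ψ.comp (MvPolynomial.aeval (R := κ) p).toRingHom).Finite := by
    have := (RingHom.Finite.of_surjective E.toRingHom E.surjective).comp hfin
    convert this using 1
    ext i <;> rfl
  have key : AffNorm62.coordHom (pullback.snd f r) (fun i => (pullback.fst f r).appTop (v i)) =
      (ψ.comp (MvPolynomial.aeval (R := κ) p).toRingHom).comp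
        (MvPolynomial.rename (R := κ) ULift.down).toRingHom := by
    apply MvPolynomial.ringHom_ext
    · intro c
      simp [ψ, AffNorm62.coordHom]
    · intro i
      simp only [AffNorm62.coordHom, MvPolynomial.eval₂Hom_X', RingHom.comp_apply,
        AlgHom.toRingHom_eq_coe, RingHom.coe_coe, MvPolynomial.rename_X, MvPolynomial.aeval_X]
      rw [← hz i.down]
      refine RingHom.congr_fun (f := (pullback.fst f r).appTop.hom.comp
          (MvPolynomial.eval₂Hom (Int.castRingHom _) fun j => b ⟨j⟩))
        (g := ψ.comp (MvPolynomial.map (Int.castRingHom κ))) ?_ (z i.down)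
      apply MvPolynomial.ringHom_ext
      · intro c
        simp
      · intro j
        simp [ψ, w, AffNorm62.coordHom]
  rw [key]
  exact hfin'.comp (RingHom.Finite.of_surjective _
    (MvPolynomial.rename_surjective _ fun i => ⟨⟨i⟩, rfl⟩))

end Groth.Agent.S3394
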