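import Groth.Statements.S3395
import Groth.Agent.AffNorm62.Basic
import Groth.Agent.EGA4Alg4.IntegralDim
import Mathlib.RingTheory.KrullDimension.NonZeroDivisors
import Mathlib.RingTheory.KrullDimension.Polynomial
import Mathlib.AlgebraicGeometry.ZariskisMainTheorem

set_option autoImplicit false
open CategoryTheory AlgebraicGeometry
universe u
open EGA43

open Groth.Agent CategoryTheory.Limits

namespace Groth.Agent.S3395

open CategoryTheory.Limits in
/-- Let X and Y be affine schemes, f : X ⟶ Y of finite type, y a point of f(X), e the dimension of the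
fibre over y, and g a Y-morphism from X to the affine space of dimension e over Y whose base change
to the fibre of the affine space over y is finite. Then that base change is surjective, and g is
locally quasi-finite on some open U ⊆ X that contains the fibre f⁻¹(y). -/
theorem result {X Y : Scheme.{u}} [IsAffine X] [IsAffine Y]
    (f : X ⟶ Y) [LocallyOfFiniteType f] (y : Y) (hy : y ∈ Set.range f.base) (e : ℕ)
    (he : topologicalKrullDim ↥(f.fiber y) = e) (g : X ⟶ 𝔸(ULift.{u} (Fin e); Y)) (hg : g ≫ (𝔸(ULift.{u} (Fin e); Y) ↘ Y) = f)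
    (hfin : IsFinite (pullback.snd g ((𝔸(ULift.{u} (Fin e); Y) ↘ Y).fiberι y))) :
    Function.Surjective (pullback.snd g ((𝔸(ULift.{u} (Fin e); Y) ↘ Y).fiberι y)).base ∧
      ∃ U : X.Opens, f.base ⁻¹' {y} ⊆ (U : Set X) ∧ LocallyQuasiFinite (U.ι ≫ g) := by
  have hQa : IsAffine (pullback f (Y.fromSpecResidueField y)) := inferInstance
  let r := Y.fromSpecResidueField y
  let κ := Y.residueField y
  let p := 𝔸(ULift.{u} (Fin e); Y) ↘ Y
  let v : ULift.{u} (Fin e) → Γ(X, ⊤) := fun i => g.appTop (AffineSpace.coord Y i)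
  have hgv : g = AffineSpace.homOfVector f v := AffineSpace.hom_ext (by simpa using hg)
    fun i => (AffineSpace.homOfVector_appTop_coord f v i).symm
  let φ := AffNorm62.coordHom (pullback.snd f r) fun i => (pullback.fst f r).appTop (v i)
  have hφ : φ.Finite := (AffNorm62.isFinite_homOfVector_iff _ _).1
    ((AffNorm62.property_snd_fst_iff @IsFinite r f v).1 (by rw [← hgv]; exact hfin))
  have hdim : ringKrullDim Γ(pullback f r, ⊤) = e := by
    rw [← he, ← PrimeSpectrum.topologicalKrullDim_eq_ringKrullDim]
    exact (IsHomeomorph.topologicalKrullDim_eq _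
      (pullback f r).isoSpec.hom.homeomorph.isHomeomorph).symm
  have hinj : Function.Injective φ := by
    rw [RingHom.injective_iff_ker_eq_bot, Submodule.eq_bot_iff]
    intro a ha
    by_contra h0
    let B := MvPolynomial (ULift.{u} (Fin e)) κ ⧸ RingHom.ker φ
    let _ : Algebra B Γ(pullback f r, ⊤) := φ.kerLift.toAlgebra
    have : Module.Finite B Γ(pullback f r, ⊤) :=
      RingHom.Finite.of_comp_finite (f := Ideal.Quotient.mk (RingHom.ker φ)) (g := φ.kerLift)
        (by rw [show φ.kerLift.comp (Ideal.Quotient.mk (RingHom.ker φ)) = φ from RingHom.ext fun _ => rfl]; exact hφ)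
    have h1 : ringKrullDim Γ(pullback f r, ⊤) = ringKrullDim B :=
      EGA4Alg4.ringKrullDim_eq_of_integral B _ φ.kerLift_injective
    have h2 : ringKrullDim B + 1 ≤ ringKrullDim (MvPolynomial (ULift.{u} (Fin e)) κ) :=
      ringKrullDim_succ_le_of_surjective (Ideal.Quotient.mk (RingHom.ker φ))
        Ideal.Quotient.mk_surjective (mem_nonZeroDivisors_iff_ne_zero.2 h0)
        (Ideal.Quotient.eq_zero_iff_mem.2 ha)
    rw [← h1, hdim, MvPolynomial.ringKrullDim_of_isNoetherianRing, ringKrullDim_eq_zero_of_field,
      zero_add] at h2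
    simp only [Nat.card_ulift, Nat.card_fin] at h2
    exact absurd (show e + 1 ≤ e by exact_mod_cast h2) (by omega)
  have : LocallyOfFiniteType g :=
    by have : LocallyOfFiniteType (g ≫ (𝔸(ULift.{u} (Fin e); Y) ↘ Y)) := by rw [hg]; infer_instance
       exact locallyOfFiniteType_of_comp g (𝔸(ULift.{u} (Fin e); Y) ↘ Y)
  refine ⟨?_, ?_⟩
  · have hint : φ.IsIntegral := hφ.to_isIntegral
    have hs : Surjective (AffineSpace.homOfVector (pullback.snd f r)
        fun i => (pullback.fst f r).appTop (v i)) :=
      (AffNorm62.surjective_homOfVector_iff _ _).2 (hint.comap_surjective hinj)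
    have h2 := (AffNorm62.property_snd_fst_iff @Surjective r f v).2 hs
    rw [← hgv] at h2
    exact h2.surj
  · have hsub : f.base ⁻¹' {y} ⊆ (g.quasiFiniteLocus : Set X) := by
      intro x (hxy : f x = y)
      show g.QuasiFiniteAt x
      rw [Scheme.Hom.quasiFiniteAt_iff_isOpen_singleton_asFiber]
      let q := p.fiberι y
      let pr := pullback.snd g q
      have : LocallyQuasiFinite pr := inferInstance
      obtain ⟨w, hw⟩ : g x ∈ Set.range q := by
        rw [Scheme.Hom.range_fiberι]
        show p (g x) = y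
        rw [← Scheme.Hom.comp_apply, hg, hxy]
      obtain ⟨x', hx', hx''⟩ := Scheme.Pullback.exists_preimage_pullback (f := g) (g := q) x w hw.symm
      have hdisc : _root_.IsDiscrete (pr ⁻¹' {w}) := pr.isDiscrete_preimage_singleton w
      rw [isDiscrete_iff_discreteTopology] at hdisc
      obtain ⟨W, hW, hW'⟩ := isOpen_induced_iff.1 (isOpen_discrete ({⟨x', hx''⟩} : Set (pr ⁻¹' {w})))
      obtain ⟨W', hW₁, rfl⟩ := (pullback.fst g q).isEmbedding.isInducing.isOpen_iff.1 hW
      rw [← (g.fiberHomeo (g x)).isOpen_image]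
      refine isOpen_induced_iff.2 ⟨W', hW₁, ?_⟩
      simp only [Set.image_singleton, Scheme.Hom.asFiber, Homeomorph.apply_symm_apply]
      ext ⟨a, ha⟩
      simp only [Set.mem_preimage, Set.mem_singleton_iff, Subtype.ext_iff]
      constructor
      · intro haW
        obtain ⟨a', ha', ha''⟩ := Scheme.Pullback.exists_preimage_pullback (f := g) (g := q) a w
          ((show g a = g x from ha).trans hw.symm)
        have : (⟨a', ha''⟩ : pr ⁻¹' {w}) ∈ ({⟨x', hx''⟩} : Set (pr ⁻¹' {w})) := by
          rw [← hW']
          show pullback.fst g q a' ∈ W'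
          rw [ha']; exact haW
        have h3 : a' = x' := congrArg Subtype.val (Set.mem_singleton_iff.1 this)
        rw [← ha', h3, hx']
      · rintro rfl
        have : (⟨x', hx''⟩ : pr ⁻¹' {w}) ∈ ((↑) ⁻¹' (pullback.fst g q ⁻¹' W') : Set (pr ⁻¹' {w})) := by
          rw [hW']; rfl
        simpa [hx'] using this
    refine ⟨g.quasiFiniteLocus, hsub, ?_⟩
    rw [← Scheme.Hom.quasiFiniteLocus_eq_top_iff, Scheme.Hom.quasiFiniteLocus_comp]
    exact g.quasiFiniteLocus.ι_preimage_self

end Groth.Agent.S3395
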