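import Groth.Statements.S0488
import Groth.Agent.Fib44.KInjAdj
import Groth.Agent.SiteCoh.LanExact
import Mathlib.Topology.Sheaves.Over

set_option autoImplicit false
universe u
open CohTop

namespace Groth.Agent.S0488
open CategoryTheory

open TopologicalSpace in
/-- For an open U of X, restriction to U sends K-injective complexes of abelian sheaves on X to
K-injective complexes on U. -/
theorem result {X : TopCat.{u}} (U : Opens X) (I : CochainComplex (CohTop.Ab X) ℤ)
    (h : I.IsKInjective) :
    CochainComplex.IsKInjective (((CohTop.restrFunctor U).mapHomologicalComplex (ComplexShape.up ℤ)).obj I) := by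
  let J := Opens.grothendieckTopology X
  let adj := (Over.forget U).sheafAdjunctionContinuous AddCommGrpCat.{u} (J.over U) J
  have hL : Limits.PreservesFiniteLimits ((Over.forget U).sheafPullback AddCommGrpCat.{u} (J.over U) J) :=
    Groth.Agent.SiteCoh.sheafPullback_preservesFiniteLimits (Over.forget U) (J.over U) J
  have : ((Over.forget U).sheafPullback AddCommGrpCat.{u} (J.over U) J).Additive := adj.left_adjoint_additive
  have : ((Over.forget U).sheafPullback AddCommGrpCat.{u} (J.over U) J).IsLeftAdjoint := adj.isLeftAdjoint
  have : Limits.PreservesFiniteColimits ((Over.forget U).sheafPullback AddCommGrpCat.{u} (J.over U) J) :=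
    ⟨fun I _ _ => adj.leftAdjoint_preservesColimits.preservesColimitsOfShape⟩
  have h1 := Groth.Agent.Fib44.isKInjective_map_of_adj adj I h
  let E := U.sheafEquivOver (A := AddCommGrpCat.{u})
  have : E.functor.Additive :=
    have : Limits.PreservesBinaryBiproducts E.functor := Limits.preservesBinaryBiproducts_of_preservesBinaryProducts _
    Functor.additive_of_preservesBinaryBiproducts _
  have : E.inverse.Additive :=
    have : Limits.PreservesBinaryBiproducts E.inverse := Limits.preservesBinaryBiproducts_of_preservesBinaryProducts _
    Functor.additive_of_preservesBinaryBiproducts _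
  have h2 := Groth.Agent.Fib44.isKInjective_map_of_adj (L := E.inverse) (R := E.functor) E.symm.toAdjunction _ h1
  exact (CochainComplex.isKInjective_iff_of_iso
    (HomologicalComplex.Hom.isoOfComponents (fun n => Iso.refl _) (fun i j _ => by
      simp only [Iso.refl_hom, Category.id_comp, Category.comp_id]))).1 h2

end Groth.Agent.S0488
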