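import Groth.Statements.S7179
import Groth.Agent.FlatMor67.FlatDiag
import Groth.Agent.FlatMor67.WEReduced

set_option linter.style.haveILetI false
set_option backward.isDefEq.respectTransparency.types false

set_option autoImplicit false
universe u
open FlatMor

namespace Groth.Agent.S7179

open AlgebraicGeometry CategoryTheory Limits in
/-- The source of a weakly étale morphism with reduced target is reduced. -/
theorem result {X Y : Scheme.{u}} (f : X ⟶ Y) [WeaklyEtale f] [IsReduced Y] : IsReduced X := by
  haveI : ∀ x : X, _root_.IsReduced (X.presheaf.stalk x) := by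
    intro x
    obtain ⟨_, ⟨V, hV, rfl⟩, hxV, -⟩ :=
      Y.isBasis_affineOpens.exists_subset_of_mem_open (Set.mem_univ (f x)) isOpen_univ
    obtain ⟨_, ⟨U, hU, rfl⟩, hxU, hUV⟩ :=
      X.isBasis_affineOpens.exists_subset_of_mem_open hxV (f ⁻¹ᵁ V).isOpen
    letI := (f.appLE V U hUV).hom.toAlgebra
    haveI : Module.Flat Γ(Y, V) Γ(X, U) := AlgebraicGeometry.Flat.flat_appLE f hV hU hUV
    haveI : Algebra.WeaklyEtale Γ(Y, V) Γ(X, U) := ⟨inferInstance, Groth.Agent.FlatMor67.flat_lmul'_appLE
      (show Flat (pullback.diagonal f) from inferInstance) hU hV hUV⟩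
    haveI : _root_.IsReduced Γ(X, U) := Groth.Agent.FlatMor67.isReduced_of_weaklyEtale Γ(Y, V) Γ(X, U)
    letI : Algebra Γ(X, U) (X.presheaf.stalk x) := X.presheaf.algebra_section_stalk ⟨x, hxU⟩
    haveI hlX := hU.isLocalization_stalk ⟨x, hxU⟩
    exact isReduced_localizationPreserves (hU.primeIdealOf ⟨x, hxU⟩).asIdeal.primeCompl
      (X.presheaf.stalk x) inferInstance
  exact isReduced_of_isReduced_stalk X

end Groth.Agent.S7179
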