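import Groth.Statements.S0106
import Groth.Agent.Unr55.Et.SplitPushIso

set_option autoImplicit false
open CategoryTheory CategoryTheory.Limits AlgebraicGeometry Opposite
universe u
open EtBase

namespace Groth.Agent.S0106

/-- The pushforward of a finite locally constant abelian sheaf along a finite étale morphism is again
finite locally constant. -/
theorem result {X Y : Scheme.{u}} (f : X ⟶ Y) [IsFinite f] [AlgebraicGeometry.Etale f] [EtCoh.BCCont f]
    (F : EtCoh.Ab X) (h : EtCoh.IsFiniteLocallyConstant F) :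
    EtCoh.IsFiniteLocallyConstant ((EtCoh.push f).obj F) := by
  classical
  obtain ⟨κ, U, hU, hF⟩ := h
  choose M iM hM hψ using hF
  have key : ∀ y : Y, ∃ (V : Y.Etale) (v : V.left) (_ : V.hom v = y) (N : Type) (_ : AddCommGroup N)
      (_ : Finite N), Nonempty (EtCoh.restr ((EtCoh.push f).obj F) V ≅
        (constantSheaf (Y.smallEtaleTopology.over V) AddCommGrpCat.{u + 1}).obj
          (AddCommGrpCat.of (ULift.{u + 1} N))) := by
    intro y
    obtain ⟨V, ⟨v, hv⟩, n, t, ht⟩ := Groth.Agent.Unr55.SplitEt.exists_isSplitBy f y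
    obtain ⟨V', c, ⟨v', hv'⟩, i, g, hg⟩ := Groth.Agent.Unr55.SplitEt.exists_refine ht U hU v
    refine ⟨V', v', ?_, ∀ j : Fin n, M (i ⟨j⟩), ?_⟩
    · have hc : V'.hom = c.left ≫ V.hom := (MorphismProperty.Over.w c).symm
      rw [hc]
      change V.hom (c.left v') = y
      rw [hv', hv]
    let := fun j => iM j
    have := fun j => hM j
    let ψ : ∀ k, Groth.Agent.Unr55.LC.Triv F (U (i k)) (AddCommGrpCat.of (ULift.{u + 1} (M (i k)))) :=
      fun k => .ofConst (hψ (i k)).some
    let σ := Groth.Agent.Unr55.SplitEt.pushTriv (ht.comp c) g hg ψ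
    let e : (∀ k : ULift.{u} (Fin n), ULift.{u + 1} (M (i k))) ≃+ ULift.{u + 1} (∀ j : Fin n, M (i ⟨j⟩)) :=
      { toFun := fun φ => ⟨fun j => (φ ⟨j⟩).down⟩
        invFun := fun φ k => ⟨φ.down k.down⟩
        left_inv := fun _ => rfl
        right_inv := fun _ => rfl
        map_add' := fun _ _ => rfl }
    refine ⟨inferInstance, inferInstance, ⟨σ ≪≫ (Groth.Agent.Unr55.LC.constIso _ _).symm ≪≫
      (constantSheaf _ _).mapIso e.toAddCommGrpIso⟩⟩
  choose V v hv N iN hN hiso using key
  exact ⟨Y, V, fun y => ⟨y, v y, hv y⟩, fun y => ⟨N y, iN y, hN y, hiso y⟩⟩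

end Groth.Agent.S0106
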