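import Groth.Statements.S0107
import Groth.Agent.Unr55.Et.RepDescend

set_option autoImplicit false
open CategoryTheory CategoryTheory.Limits AlgebraicGeometry Opposite
universe u
open EtBase

namespace Groth.Agent.S0107

/-- The underlying sheaf of sets of a finite locally constant abelian sheaf F on the small étale site of
a scheme X is representable by a scheme finite étale over X: there are an étale X-scheme U with U →
X finite and an isomorphism between the sheaf of sets underlying F and the functor of points of U. -/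
theorem result {X : Scheme.{u}} (F : EtCoh.Ab X) (h : EtCoh.IsFiniteLocallyConstant F) :
    ∃ (U : X.Etale) (_ : IsFinite U.hom),
      Nonempty (F.obj ⋙ forget AddCommGrpCat.{u + 1} ≅ yoneda.obj U ⋙ uliftFunctor.{u + 1}) := by
  obtain ⟨ι, U, hU, hF⟩ := h
  choose M iM hM hψ using hF
  let A : ι → AddCommGrpCat.{u + 1} := fun i =>
    letI := iM i
    AddCommGrpCat.of (ULift.{u + 1} (M i))
  let T : ι → Type u := fun i => ULift.{u} (M i)
  have hT : ∀ i, Finite (T i) := fun i =>
    haveI := hM i
    inferInstanceAs (Finite (ULift.{u} (M i)))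
  let e : ∀ i, T i ≃ A i := fun i => Equiv.ulift.trans Equiv.ulift.symm
  let ψ : ∀ i, Groth.Agent.Unr55.LC.Triv F (U i) (A i) := fun i => .ofConst (hψ i).some
  obtain ⟨σ, hσ⟩ := Groth.Agent.Unr55.FLC.exists_univSec e ψ
  have := Groth.Agent.Unr55.FLC.isFinite_proj U T
  have : Surjective (Groth.Agent.Unr55.FLC.sigmaObj U).hom := ⟨fun x => by
    obtain ⟨i, y, hy⟩ := hU x
    refine ⟨(Groth.Agent.Unr55.FLC.sigmaInj U i).left y, Eq.trans ?_ hy⟩
    exact congrArg (fun g : (U i).left ⟶ X => g y)
      (MorphismProperty.Over.w (Groth.Agent.Unr55.FLC.sigmaInj U i))⟩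
  exact Groth.Agent.Unr55.FLC.exists_representable _ σ
    (Groth.Agent.Unr55.FLC.isRepOver_sigma e ψ σ hσ)

end Groth.Agent.S0107
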