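import Groth.Statements.S0432
import Mathlib
import Groth.Agent.Pinch2.Pairs

set_option autoImplicit false
set_option linter.style.haveILetI false
set_option linter.style.longLine false
universe u
open FlatMor

namespace Groth.Agent.S0432


open AlgebraicGeometry CategoryTheory CategoryTheory.Limits

open AlgebraicGeometry CategoryTheory Limits in
/-- The pushout of two closed immersions Z → X and Z → Y exists in schemes, both maps into it are closed
immersions and the square is cartesian. -/
theorem result {X Y Z : Scheme.{u}} (i : Z ⟶ X) (j : Z ⟶ Y) [IsClosedImmersion i] [IsClosedImmersion j] :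
    ∃ (P : Scheme.{u}) (a : X ⟶ P) (b : Y ⟶ P), IsPushout i j a b ∧ IsPullback i j a b ∧ IsClosedImmersion a ∧ IsClosedImmersion b := by
  have H : Pinch2.HasPairs i j := Pinch2.hasPairs_closedImmersion
  haveI := Pinch2.isFinite_aMap H
  refine ⟨_, Pinch2.aMap H, Pinch2.bMap H, Pinch2.isPushout H, Pinch2.isPullback H, ?_, Pinch2.isClosedImmersion_bMap H⟩
  have H' : Pinch2.HasPairs j i := Pinch2.hasPairs_closedImmersion
  obtain ⟨e, he₁, he₂⟩ := Pinch2.exists_iso H' (Pinch2.isPushout H).flip
  haveI := Pinch2.isClosedImmersion_bMap H'
  rw [← he₂]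
  infer_instance

end Groth.Agent.S0432
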