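import Groth.Statements.S0229
import Groth.Agent.GalCoh84.BrauerTrivial
import Groth.Agent.C1Norm84.Basic
import Groth.Agent.S0214

set_option autoImplicit false
set_option backward.isDefEq.respectTransparency.types false
universe u
open CategoryTheory CategoryTheory.Limits AlgebraicGeometry
open Curves Groth.Agent

namespace Groth.Agent.S0229

/-- For a field K of transcendence degree one over an algebraically closed field, G_m on the small étale
site of Spec K has no cohomology in positive degrees. -/
theorem result (k : Type u) [Field k] [IsAlgClosed k] (K : Type u) [Field K] [Algebra k K]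
    (hK : Algebra.trdeg k K = 1) (q : ℕ) (hq : 1 ≤ q) :
    Subsingleton (EtCoh.H (Spec (CommRingCat.of K)) (EtCoh.Gm (Spec (CommRingCat.of K))) q) := by
  refine subsingleton_of_forall_eq 0 fun x => GalCoh84.Gm_vanish K (fun K' _ _ _ D _ _ _ _ => ?_) q hq x
  let : Algebra k K' := ((algebraMap K K').comp (algebraMap k K)).toAlgebra
  have : IsScalarTower k K K' := IsScalarTower.of_algebraMap_eq fun _ => rfl
  have h1 : Algebra.trdeg k K' = 1 := C1Norm84.trdeg_of_algebraic (k := k) (K := K) hK
  refine Groth.Agent.S0214.result K' (fun n d f hf hd hn => ?_) D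
  obtain ⟨a, ha, h⟩ := C1Norm84.isCi_one (k := k) K' h1 1 n (fun _ => f) (fun _ => d) (fun _ => hf) (fun _ => hd) (by simpa using hn)
  exact ⟨a, ha, h 0⟩

end Groth.Agent.S0229
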