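import Groth.Statements.S1488
import Groth.Agent.FlatMor67.SmoothLiftLFP

set_option linter.style.haveILetI false

set_option autoImplicit false
universe u
open FlatMor

namespace Groth.Agent.S1488

open AlgebraicGeometry CategoryTheory Limits in
/-- A morphism f : X → S is smooth if and only if it is locally of finite presentation and formally
smooth, i.e. has the lifting property against first order thickenings of affine schemes (rings in
the same universe). -/
theorem result {X S : Scheme.{u}} (f : X ⟶ S) :
    Smooth f ↔ LocallyOfFinitePresentation f ∧ MoreMor.IsFormallySmoothHom f := by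
  constructor
  · intro h
    refine ⟨inferInstance, Groth.Agent.FlatMor67.isFormallySmoothHom_of_affineLocally_of_finiteType
      fun U V hU hV hUV => ?_⟩
    letI := (f.appLE V U hUV).hom.toAlgebra
    haveI : Algebra.Smooth Γ(S, V) Γ(X, U) := h.smooth_appLE hV hU hUV
    infer_instance
  · rintro ⟨hfp, hfs⟩
    refine ⟨fun {V} hV {U} hU hUV => ?_⟩
    letI := (f.appLE V U hUV).hom.toAlgebra
    haveI := Groth.Agent.FlatMor67.formallySmooth_appLE hU hV hUV hfs
    haveI : Algebra.FinitePresentation Γ(S, V) Γ(X, U) := hfp.finitePresentation_appLE hV hU hUV
    exact (⟨inferInstance, inferInstance⟩ : Algebra.Smooth Γ(S, V) Γ(X, U))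

end Groth.Agent.S1488
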