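import Groth.Statements.S5261
import Groth.Agent.SGA3a.MonoFibre
import Groth.Agent.RedPts82.MultEssFree
import Mathlib.AlgebraicGeometry.Morphisms.LocalFlatDescent

set_option autoImplicit false
open CategoryTheory MonoidalCategory CartesianMonoidalCategory MonObj GrpObj AlgebraicGeometry
universe u
open SGA3x

namespace Groth.Agent.S5261

/-- Let u : H ⟶ G be a homomorphism of S-groups, with H of multiplicative type and of finite type, and
suppose S locally Noetherian or G locally of finite presentation over S. If for every s ∈ S the
homomorphism u_s : H_s ⟶ G_s induced on the fibres at s is a monomorphism, then u is a monomorphism. -/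
theorem result {S : Scheme.{u}} (H G : Over S) [GrpObj H] [GrpObj G]
    (hH : SGA3x.IsMultTypeFT H) (hG : IsLocallyNoetherian S ∨ LocallyOfFinitePresentation G.hom)
    (u : H ⟶ G) [IsMonHom u]
    (hfib : ∀ s : S, Mono ((Over.pullback (S.fromSpecResidueField s)).map u).left) :
    Mono u.left := by
  have : MorphismProperty.DescendsAlong (@LocallyOfFiniteType : MorphismProperty Scheme.{u})
      Unr55.fpqc.{u} := by
    unfold Unr55.fpqc; infer_instance
  have hlft : LocallyOfFiniteType H.hom := by
    refine RedPts82.isMultTypeFT_prop (@LocallyOfFiniteType) hH fun U M _ hM => ?_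
    haveI : Monoid.FG (Multiplicative M) := by
      haveI : AddMonoid.FG M := AddGroup.fg_iff_addMonoid_fg.mp hM
      infer_instance
    exact MorphismProperty.pullback_snd (P := (@LocallyOfFiniteType : MorphismProperty Scheme.{u})) _ _
      ((HasRingHomProperty.Spec_iff (P := @LocallyOfFiniteType)).mpr
        (RingHom.finiteType_algebraMap.mpr inferInstance))
  haveI : LocallyOfFiniteType u.left := by
    haveI : LocallyOfFiniteType (u.left ≫ G.hom) := by rw [Over.w u]; exact hlft
    exact locallyOfFiniteType_of_comp u.left G.hom
  refine Groth.Agent.SGA3a.mono_of_monoFields ?_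
  intro K _ t
  obtain ⟨⟨s, φ⟩, hsφ⟩ := (Scheme.SpecToEquivOfField K S).symm.surjective (t ≫ G.hom)
  refine ⟨fun {T} p q hpq => Limits.pullback.hom_ext ?_ hpq⟩
  let g := S.fromSpecResidueField s
  have hw : ∀ r : T ⟶ Limits.pullback u.left t, (r ≫ Limits.pullback.fst _ _) ≫ H.hom =
      (r ≫ Limits.pullback.snd _ _ ≫ Spec.map φ) ≫ g := by
    intro r
    have e : t ≫ G.hom = Spec.map φ ≫ g := hsφ.symm
    rw [← Over.w u, Category.assoc, Limits.pullback.condition_assoc, e]
    simp only [Category.assoc]
  let L : (T ⟶ Limits.pullback u.left t) → (T ⟶ Limits.pullback H.hom g) := fun r =>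
    Limits.pullback.lift (r ≫ Limits.pullback.fst _ _) (r ≫ Limits.pullback.snd _ _ ≫ Spec.map φ) (hw r)
  have key : L p = L q := by
    haveI : Mono ((Over.pullback g).map u).left := hfib s
    rw [← cancel_mono ((Over.pullback g).map u).left]
    show L p ≫ Limits.pullback.lift (Limits.pullback.fst _ _ ≫ u.left) (Limits.pullback.snd _ _) _ =
      L q ≫ Limits.pullback.lift (Limits.pullback.fst _ _ ≫ u.left) (Limits.pullback.snd _ _) _
    apply Limits.pullback.hom_ext
    · simp only [Category.assoc, Limits.pullback.lift_fst, L, Limits.pullback.lift_fst_assoc]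
      rw [Limits.pullback.condition, reassoc_of% hpq]
    · simp only [Category.assoc, Limits.pullback.lift_snd, L, reassoc_of% hpq]
  have := congrArg (fun r => r ≫ Limits.pullback.fst H.hom g) key
  simp only [L] at this
  erw [Limits.pullback.lift_fst, Limits.pullback.lift_fst] at this
  exact this

end Groth.Agent.S5261
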