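import Groth.Statements.S10945
import Groth.Agent.QC70.FiniteType
import Groth.Agent.QC70.PushGeneric

set_option autoImplicit false
set_option backward.isDefEq.respectTransparency.types false
universe u
open CategoryTheory AlgebraicGeometry Opposite
open Coherent

namespace Groth.Agent.S10945

/-- Let X be a scheme and 0 → F' → F → F'' → 0 a short exact sequence of O_X-modules whose map on global
sections Γ(X, F) → Γ(X, F'') is surjective. If F' and F'' are generated by global sections (each is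
a quotient of a free O_X-module), then F is generated by global sections. -/
theorem result (X : Scheme.{u})
    (S : ShortComplex X.Modules) (hS : S.ShortExact)
    (hsurj : Function.Surjective (S.g.val.app (op ⊤)).hom)
    (h1 : Curv2.IsGloballyGenerated S.X₁) (h3 : Curv2.IsGloballyGenerated S.X₃) :
    Curv2.IsGloballyGenerated S.X₂ := by
  obtain ⟨I₁, p₁, hp₁⟩ := h1
  obtain ⟨I₃, p₃, hp₃⟩ := h3
  haveI := hS.epi_g
  have key : ∀ φ : QC70.unitMod X ⟶ S.X₃, ∃ ψ : QC70.unitMod X ⟶ S.X₂, ψ ≫ S.g = φ := fun φ => by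
    obtain ⟨t, ht⟩ := hsurj (φ.app ⊤ (QC70.toUnit 1))
    refine ⟨QC70.unitHom t, (QC70.unitHom_comp t S.g).trans ?_⟩
    refine Scheme.Modules.hom_ext _ _ fun V => ?_
    ext a
    refine Eq.trans ?_ (QC70.app_toUnit φ a).symm
    exact congrArg (fun z : Γ(S.X₃, ⊤) => (show Γ(X, V) from a) • QC70.res S.X₃ (le_top : V ≤ ⊤) z) ht
  let p₁' : (∐ fun _ : I₁ => QC70.unitMod X) ⟶ S.X₁ := p₁
  let p₃' : (∐ fun _ : I₃ => QC70.unitMod X) ⟶ S.X₃ := p₃
  haveI : Epi p₁' := hp₁
  haveI : Epi p₃' := hp₃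
  choose l hl using fun i => key (Limits.Sigma.ι (fun _ : I₃ => QC70.unitMod X) i ≫ p₃')
  refine ⟨I₁ ⊕ I₃, Limits.Sigma.desc (Sum.elim (fun i => Limits.Sigma.ι (fun _ : I₁ => QC70.unitMod X) i ≫ p₁' ≫ S.f) l), ?_⟩
  refine Preadditive.epi_of_cancel_zero _ fun {T} q hq => ?_
  have e : ∀ j, Sum.elim (fun i => Limits.Sigma.ι (fun _ : I₁ => QC70.unitMod X) i ≫ p₁' ≫ S.f) l j ≫ q = 0 := fun j => by
    rw [← Limits.Sigma.ι_desc (Sum.elim (fun i => Limits.Sigma.ι (fun _ : I₁ => QC70.unitMod X) i ≫ p₁' ≫ S.f) l) j]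
    exact (Category.assoc _ _ _).trans ((congrArg (_ ≫ ·) hq).trans Limits.comp_zero)
  have h0 : S.f ≫ q = 0 := by
    rw [← cancel_epi p₁', Limits.comp_zero]
    exact Limits.Sigma.hom_ext _ _ fun i => by simpa using e (Sum.inl i)
  obtain ⟨q', hq'⟩ := Limits.CokernelCofork.IsColimit.desc' hS.gIsCokernel q h0
  replace hq' : S.g ≫ q' = q := hq'
  have h1 : p₃' ≫ q' = 0 := Limits.Sigma.hom_ext _ _ fun i => by
    rw [Limits.comp_zero, ← Category.assoc, ← hl, Category.assoc, hq']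
    exact e (Sum.inr i)
  rw [← hq', (cancel_epi p₃').mp (h1.trans Limits.comp_zero.symm)]
  exact Limits.comp_zero

end Groth.Agent.S10945
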