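import Groth.Statements.S1335
import Groth.Agent.GeomCount24.Basic
-- import your own Groth.Agent.* helpers here

set_option autoImplicit false
universe u
open FlatMor

namespace Groth.Agent.S1335

open AlgebraicGeometry CategoryTheory Limits in
/-- The function on the target counting the connected components of the geometric fibres is compatible
with base change: for a cartesian square it is obtained on the new base by composing with the map to
the old base. -/
theorem result {X Y X' Y' : Scheme.{u}} (f : X ⟶ Y) (f' : X' ⟶ Y') (g' : X' ⟶ X) (g : Y' ⟶ Y)
    (hc : IsPullback g' f' f g) (y' : Y') :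
    MoreMor.nGeomConnComp f' y' = MoreMor.nGeomConnComp f (g y') := by
  obtain ⟨σ, ⟨e⟩⟩ := GeomCount24.exists_iso_geomFiber f f' g' g hc y'
  have : IsSepClosed (SeparableClosure (Y.residueField (g y'))) := IsSepClosure.sep_closed (Y.residueField (g y'))
  let h : ↥(MoreMor.geomFiber f' y') ≃ₜ _ := Scheme.Hom.homeomorph e.hom
  rw [MoreMor.nGeomConnComp, ENat.card_congr (Equiv.ofBijective h.continuous.connectedComponentsMap ?_),
    GeomCount24.card_connectedComponents_pullback]
  · rfl
  refine ⟨fun a b hab => ?_, fun c => ?_⟩
  · obtain ⟨x, rfl⟩ := ConnectedComponents.surjective_coe a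
    obtain ⟨y, rfl⟩ := ConnectedComponents.surjective_coe b
    have := congrArg h.symm.continuous.connectedComponentsMap hab
    simpa [Continuous.connectedComponentsMap, Continuous.connectedComponentsLift_apply_coe] using this
  · obtain ⟨w, rfl⟩ := ConnectedComponents.surjective_coe c
    obtain ⟨x, rfl⟩ := h.surjective w
    exact ⟨x, rfl⟩

end Groth.Agent.S1335
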