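import Groth.Statements.S9735
import Mathlib.AlgebraicGeometry.Geometrically.Reduced
import Mathlib.AlgebraicGeometry.Geometrically.Irreducible
import Mathlib.AlgebraicGeometry.Geometrically.Connected
import Mathlib.AlgebraicGeometry.Morphisms.UniversallyOpen
import Groth.Agent.FlatMor68.Geom

set_option autoImplicit false
universe u
open FlatMor

namespace Groth.Agent.S9735

open CategoryTheory CategoryTheory.Limits AlgebraicGeometry TopologicalSpace Groth.Agent.FlatMor68.Geom

open AlgebraicGeometry CategoryTheory Limits in
/-- Given a morphism f : X ⟶ Y and any g : Y' ⟶ Y, let f' : X' ⟶ Y' be obtained from f by pulling back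
along g (a cartesian square with g' : X' ⟶ X). A point y' of Y' has geometrically reduced fibre
under f' exactly when g y' has geometrically reduced fibre under f. -/
theorem result {X Y X' Y' : Scheme.{u}} (f : X ⟶ Y) (g : Y' ⟶ Y) (f' : X' ⟶ Y') (g' : X' ⟶ X)
    (hc : IsPullback g' f' f g) :
    {y' : ↑Y' | GeometricallyReduced (f'.fiberToSpecResidueField y')} =
      g ⁻¹' {y : ↑Y | GeometricallyReduced (f.fiberToSpecResidueField y)} := by
  ext y'
  simp only [Set.mem_preimage, Set.mem_ofPred_eq, geometricallyReduced_iff]
  refine geometrically_iff_baseChange _ (fun {A B} h _ _ hA => ?_) f g f' g' hc y'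
  have : IsReduced A := hA
  have : ∀ x : B, _root_.IsReduced (B.presheaf.stalk x) := by
    intro x
    obtain ⟨a, rfl⟩ := h.surjective x
    refine isReduced_of_injective (h.stalkMap a).hom ?_
    algebraize [(h.stalkMap a).hom]
    have : Module.FaithfullyFlat (B.presheaf.stalk (h a)) (A.presheaf.stalk a) :=
      @Module.FaithfullyFlat.of_flat_of_isLocalHom _ _ _ _ _ _ _
        (Flat.stalkMap h a) (h.toLRSHom.prop a)
    exact ‹RingHom.FaithfullyFlat _›.injective
  exact isReduced_of_isReduced_stalk B

end Groth.Agent.S9735
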