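import Mathlib

/-! Labellings of the edges of bipartite graphs with prescribed vertex sums. -/

set_option linter.unusedSectionVars false

namespace Groth.Agent.CombH

open Finset

variable {V : Type*} [Fintype V] [DecidableEq V] {A : Type*} [AddCommGroup A]
variable (G : SimpleGraph V) [DecidableRel G.Adj]

/-- Vertex sums of a labelling. -/
def bdry : (Sym2 V → A) →+ (V → A) where
  toFun x v := ∑ e ∈ G.incidenceFinset v, x e
  map_zero' := by ext; simp
  map_add' x y := by ext; simp [Finset.sum_add_distrib]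

theorem bdry_apply (x : Sym2 V → A) (v : V) : bdry G x v = ∑ e ∈ G.incidenceFinset v, x e := rfl

theorem bdry_single {u w : V} (h : G.Adj u w) (g : A) (v : V) :
    bdry G (Pi.single s(u, w) g) v = if v = u ∨ v = w then g else 0 := by
  rw [bdry_apply, Finset.sum_pi_single']
  simp only [SimpleGraph.mem_incidenceFinset]
  refine if_congr ?_ rfl rfl
  simp [SimpleGraph.incidenceSet, h]

/-- The sign of a colour. -/
def sgn (c : V → Bool) (v : V) : ℤ := if c v then 1 else -1

theorem sgn_mul_self (c : V → Bool) (v : V) : sgn c v * sgn c v = 1 := by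
  unfold sgn; split <;> simp

theorem sgn_eq_neg {c : V → Bool} {u w : V} (h : c u ≠ c w) : sgn c w = -sgn c u := by
  unfold sgn; cases hu : c u <;> cases hw : c w <;> simp_all

/-- Labelling supported on a walk whose vertex sums live at the two ends. -/
theorem exists_walk_labelling (c : V → Bool) {H : SimpleGraph V} (hle : H ≤ G)
    (hbip : ∀ v w, G.Adj v w → c v ≠ c w) {u w : V} (p : H.Walk u w) :
    ∃ L : A →+ (Sym2 V → A), (∀ g e, e ∉ H.edgeSet → L g e = 0) ∧
      ∀ g, bdry G (L g) = Pi.single u (sgn c u • g) - Pi.single w (sgn c w • g) := by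
  induction p with
  | nil => exact ⟨0, by simp, fun g => by simp⟩
  | @cons u v w h p ih =>
    obtain ⟨L, hsupp, hb⟩ := ih
    refine ⟨(AddMonoidHom.single (fun _ => A) s(u, v)).comp (DistribSMul.toAddMonoidHom A (sgn c u)) + L,
      fun g e he => ?_, fun g => ?_⟩
    · have hne : e ≠ s(u, v) := fun e' => he (e' ▸ h)
      simp [hne, hsupp g e he]
    · rw [AddMonoidHom.add_apply, map_add, hb]
      have hne : u ≠ v := H.ne_of_adj h
      funext x
      simp only [Pi.add_apply, Pi.sub_apply, AddMonoidHom.coe_comp, Function.comp_apply,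
        DistribSMul.toAddMonoidHom_apply, AddMonoidHom.single_apply, bdry_single G (hle h)]
      rw [sgn_eq_neg (hbip u v (hle h))]
      by_cases hxu : x = u
      · subst hxu; simp [hne, sub_eq_add_neg]
      by_cases hxv : x = v
      · subst hxv; simp [hxu, sub_eq_add_neg]
      simp [hxu, hxv]

theorem exists_preimage (c : V → Bool) (hconn : G.Connected)
    (hbip : ∀ v w, G.Adj v w → c v ≠ c w) (a : V → A) (h0 : ∑ v, sgn c v • a v = 0) :
    ∃ x : Sym2 V → A, bdry G x = a := by
  obtain ⟨r⟩ := hconn.nonempty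
  choose L _ hL using fun v => exists_walk_labelling (A := A) G c le_rfl hbip (hconn v r).some
  refine ⟨∑ v, L v (sgn c v • a v), ?_⟩
  rw [map_sum]
  simp only [hL, Finset.sum_sub_distrib, smul_smul, sgn_mul_self, one_smul,
    Finset.univ_sum_single]
  suffices ∑ v, (Pi.single r ((sgn c r * sgn c v) • a v) : V → A) = 0 by rw [this, sub_zero]
  funext x
  by_cases hx : x = r
  · subst hx
    simp only [Finset.sum_apply, Pi.single_eq_same, Pi.zero_apply, mul_smul, ← Finset.smul_sum,
      h0, smul_zero]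
  · simp [Finset.sum_apply, hx]

theorem sum_sgn (c : V → Bool) (a : V → A)
    (hsum : ∑ v ∈ Finset.univ.filter (fun v => c v = true), a v =
      ∑ v ∈ Finset.univ.filter (fun v => c v = false), a v) : ∑ v, sgn c v • a v = 0 := by
  rw [← Finset.sum_filter_add_sum_filter_not Finset.univ (fun v => c v = true)]
  simp only [Bool.not_eq_true]
  have h1 : ∑ v ∈ Finset.univ.filter (fun v => c v = true), sgn c v • a v =
      ∑ v ∈ Finset.univ.filter (fun v => c v = true), a v :=
    Finset.sum_congr rfl fun v hv => by simp [sgn, (Finset.mem_filter.mp hv).2]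
  have h2 : ∑ v ∈ Finset.univ.filter (fun v => c v = false), sgn c v • a v =
      -∑ v ∈ Finset.univ.filter (fun v => c v = false), a v := by
    rw [← Finset.sum_neg_distrib]
    exact Finset.sum_congr rfl fun v hv => by simp [sgn, (Finset.mem_filter.mp hv).2]
  rw [h1, h2, hsum, add_neg_cancel]

theorem exists_cycle_through (c : V → Bool) (hbip : ∀ v w, G.Adj v w → c v ≠ c w) {u w : V}
    (he : G.Adj u w) (H : SimpleGraph V) (hle : H ≤ G) (hnot : s(u, w) ∉ H.edgeSet)
    (hr : H.Reachable u w) :
    ∃ φ : A →+ (Sym2 V → A),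
      (∀ g e, e ∉ H.edgeSet → e ≠ s(u, w) → φ g e = 0) ∧ (∀ g, bdry G (φ g) = 0) ∧
      ∀ g, φ g s(u, w) = g := by
  obtain ⟨p⟩ := hr
  obtain ⟨L, hsupp, hL⟩ := exists_walk_labelling (A := A) G c hle hbip p
  refine ⟨AddMonoidHom.single (fun _ => A) s(u, w) -
    L.comp (DistribSMul.toAddMonoidHom A (sgn c u)), fun g e h1 h2 => ?_, fun g => ?_, fun g => ?_⟩
  · simp [h2, hsupp _ e h1]
  · funext x
    simp only [AddMonoidHom.sub_apply, map_sub, AddMonoidHom.coe_comp, Function.comp_apply,
      DistribSMul.toAddMonoidHom_apply, AddMonoidHom.single_apply, hL, Pi.sub_apply,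
      bdry_single G he, Pi.zero_apply, smul_smul, sgn_mul_self, one_smul]
    rw [sgn_eq_neg (hbip u w he), neg_mul, sgn_mul_self, neg_smul, one_smul]
    by_cases hxu : x = u
    · subst hxu; simp [G.ne_of_adj he]
    by_cases hxw : x = w
    · subst hxw; simp [hxu]
    simp [hxu, hxw]
  · simp [hsupp _ _ hnot]

theorem eq_zero_of_tree (c : V → Bool) (hbip : ∀ v w, G.Adj v w → c v ≠ c w)
    (T : SimpleGraph V) (hT : T.IsAcyclic) (hle : T ≤ G) (x : Sym2 V → A)
    (hsupp : ∀ e, e ∉ T.edgeSet → x e = 0) (hb : bdry G x = 0) : x = 0 := by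
  classical
  funext e
  by_cases he : e ∈ T.edgeSet
  swap
  · exact hsupp e he
  induction e using Sym2.ind with
  | h u w =>
  have hbr := SimpleGraph.isAcyclic_iff_forall_isBridge.mp hT he
  rw [SimpleGraph.isBridge_iff] at hbr
  let S : Finset V := Finset.univ.filter fun v => (T.deleteEdges {s(u, w)}).Reachable u v
  have huS : u ∈ S := by simp [S]
  have hwS : w ∉ S := by simpa [S] using hbr
  have key : ∑ v ∈ S, sgn c v • bdry G x v =
      ∑ e' ∈ G.edgeFinset, (∑ v ∈ S.filter (fun v => v ∈ e'), sgn c v) • x e' := by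
    simp only [bdry_apply, Finset.smul_sum, Finset.sum_smul]
    rw [Finset.sum_comm' (t' := G.edgeFinset) (s' := fun e' => S.filter fun v => v ∈ e')]
    intro v e'
    simp only [SimpleGraph.mem_incidenceFinset, Finset.mem_filter, SimpleGraph.mem_edgeFinset,
      SimpleGraph.incidenceSet, Set.mem_ofPred_eq]
    tauto
  rw [hb] at key
  simp only [Pi.zero_apply, smul_zero, Finset.sum_const_zero] at key
  rw [Finset.sum_eq_single s(u, w)] at key
  · have : S.filter (fun v => v ∈ s(u, w)) = {u} := by
      ext v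
      simp only [Finset.mem_filter, Sym2.mem_iff, Finset.mem_singleton]
      exact ⟨fun ⟨hv, h⟩ => h.resolve_right fun e => hwS (e ▸ hv), fun e => ⟨e ▸ huS, Or.inl e⟩⟩
    rw [this, Finset.sum_singleton] at key
    have h2 := congrArg (fun y => sgn c u • y) key.symm
    simpa [smul_smul, sgn_mul_self] using h2
  · intro e' he' hne
    induction e' using Sym2.ind with
    | h a b =>
    by_cases hTe : s(a, b) ∈ T.edgeSet
    swap
    · rw [hsupp _ hTe, smul_zero]
    have hab : (T.deleteEdges {s(u, w)}).Adj a b :=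
      SimpleGraph.deleteEdges_adj.mpr ⟨hTe, by simpa using hne⟩
    have hiff : a ∈ S ↔ b ∈ S := by
      simp only [S, Finset.mem_filter, Finset.mem_univ, true_and]
      exact ⟨fun h => h.trans hab.reachable, fun h => h.trans hab.symm.reachable⟩
    by_cases haS : a ∈ S
    · have : S.filter (fun v => v ∈ s(a, b)) = {a, b} := by
        ext v
        simp only [Finset.mem_filter, Sym2.mem_iff, Finset.mem_insert, Finset.mem_singleton]
        exact ⟨fun h => h.2, fun h => ⟨by rcases h with rfl | rfl; exacts [haS, hiff.mp haS], h⟩⟩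
      rw [this, Finset.sum_pair hab.ne, sgn_eq_neg (hbip a b (hle hTe))]
      simp
    · have : S.filter (fun v => v ∈ s(a, b)) = ∅ := by
        refine Finset.filter_eq_empty_iff.mpr fun v hv hm => ?_
        rcases Sym2.mem_iff.mp hm with rfl | rfl
        exacts [haS hv, haS (hiff.mpr hv)]
      rw [this]; simp
  · intro h; exact absurd (SimpleGraph.mem_edgeFinset.mpr (SimpleGraph.edgeSet_mono hle he)) h

theorem exists_cycle_basis (c : V → Bool) (hconn : G.Connected)
    (hbip : ∀ v w, G.Adj v w → c v ≠ c w) {n : ℕ}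
    (hn : G.edgeFinset.card + 1 = Fintype.card V + n) :
    ∃ f : (Fin n → A) →+ (Sym2 V → A), Function.Injective f ∧
      Set.range f = {x : Sym2 V → A | (∀ e : Sym2 V, e ∉ G.edgeSet → x e = 0) ∧ bdry G x = 0} := by
  classical
  obtain ⟨T, hle, hT⟩ := hconn.exists_isTree_le
  let D := G.edgeFinset \ T.edgeFinset
  have hcard : D.card = n := by
    have h1 := hT.card_edgeFinset
    have hsub : T.edgeFinset ⊆ G.edgeFinset := SimpleGraph.edgeFinset_mono hle
    have h2 := Finset.card_sdiff_of_subset hsub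
    have h3 := Finset.card_le_card hsub
    simp only [D]
    omega
  let q : Fin n ≃ D := (D.equivFinOfCardEq hcard).symm
  have hex : ∀ i : Fin n, ∃ φ : A →+ (Sym2 V → A),
      (∀ g e, e ∉ T.edgeSet → e ≠ (q i).1 → φ g e = 0) ∧ (∀ g, bdry G (φ g) = 0) ∧
      ∀ g, φ g (q i).1 = g := by
    intro i
    have hi := Finset.mem_sdiff.mp (q i).2
    revert hi
    induction (q i).1 using Sym2.ind with
    | h u w =>
      intro hi
      exact exists_cycle_through G c hbip (SimpleGraph.mem_edgeFinset.mp hi.1 : G.Adj u w) T hle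
        (fun h => hi.2 (SimpleGraph.mem_edgeFinset.mpr h)) (hT.connected u w)
  choose φ hsupp hb hev using hex
  let f : (Fin n → A) →+ (Sym2 V → A) := ∑ i, (φ i).comp (Pi.evalAddMonoidHom (fun _ => A) i)
  have hf : ∀ g, f g = ∑ i, φ i (g i) := fun g => by simp [f]
  have hnotT : ∀ i, (q i).1 ∉ T.edgeSet := fun i h =>
    (Finset.mem_sdiff.mp (q i).2).2 (SimpleGraph.mem_edgeFinset.mpr h)
  have hfe : ∀ g j, f g (q j).1 = g j := by
    intro g j
    rw [hf, Finset.sum_apply, Finset.sum_eq_single j]
    · exact hev j _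
    · intro i _ hij
      exact hsupp i _ _ (hnotT j) fun h => hij (q.injective (Subtype.ext h.symm))
    · simp
  refine ⟨f, fun g g' h => funext fun j => by rw [← hfe g j, ← hfe g' j, h], ?_⟩
  have hfsupp : ∀ g e, e ∉ G.edgeSet → f g e = 0 := by
    intro g e he
    rw [hf, Finset.sum_apply]
    refine Finset.sum_eq_zero fun i _ => hsupp i _ e (fun h => he (SimpleGraph.edgeSet_mono hle h))
      fun h => he ?_
    exact h ▸ SimpleGraph.mem_edgeFinset.mp (Finset.mem_sdiff.mp (q i).2).1
  ext x
  constructor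
  · rintro ⟨g, rfl⟩
    exact ⟨hfsupp g, by rw [hf, map_sum]; exact Finset.sum_eq_zero fun i _ => hb i _⟩
  · rintro ⟨hx, hbx⟩
    refine ⟨fun i => x (q i).1, (sub_eq_zero.mp ?_).symm⟩
    refine eq_zero_of_tree G c hbip T hT.isAcyclic hle _ (fun e he => ?_) ?_
    · by_cases heG : e ∈ G.edgeSet
      · have heD : e ∈ D := by simp [D, heG, he]
        have : e = (q (q.symm ⟨e, heD⟩)).1 := by simp
        rw [this, Pi.sub_apply, hfe, sub_self]
      · rw [Pi.sub_apply, hx e heG, hfsupp _ e heG, sub_self]
    · rw [map_sub, hbx, hf, map_sum, Finset.sum_eq_zero fun i _ => hb i _, sub_zero]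

end Groth.Agent.CombH
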