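import Mathlib
import Groth.Agent.Hopf35.Basic
import Groth.Statements.S15897

set_option autoImplicit false
universe u v
open CartDual

namespace Groth.Agent.S15897

open TensorProduct Finset Groth.Agent.Hopf35

theorem result (R : Type u) [CommRing R] (A : Type v) [CommRing A] [HopfAlgebra R A]
    [Module.Finite R A] [Module.Projective R A] (h : ∀ x y : CartDual.D R A, x * y = y * x) :
    Coalgebra.IsCocomm R A := by
  refine ⟨LinearMap.ext fun a => eq_of_forall_dual (R := R) fun φ => ?_⟩
  obtain ⟨z, rfl⟩ := (CartDual.ev₂ R A).surjective φ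
  simp only [LinearMap.coe_comp, LinearEquiv.coe_coe, Function.comp_apply]
  induction z using TensorProduct.induction_on with
  | zero => simp
  | add x y hx hy => simp only [map_add, LinearMap.add_apply, hx, hy]
  | tmul x y =>
    have e : ∀ x y : CartDual.D R A, CartDual.ev₂ R A (x ⊗ₜ y) (Coalgebra.comul (R := R) a) = (x * y) a := by
      intro x y
      rw [CartDual.ev₂_tmul_eq']; rfl
    have hsw : ∀ t : A ⊗[R] A, CartDual.ev₂ R A (x ⊗ₜ y) (TensorProduct.comm R A A t) = CartDual.ev₂ R A (y ⊗ₜ x) t := by
      intro t
      induction t using TensorProduct.induction_on with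
      | zero => simp
      | tmul b c => simp [mul_comm]
      | add p q hp hq => simp only [map_add, hp, hq]
    rw [hsw, e, e, h]

end Groth.Agent.S15897
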