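import Groth.Statements.S12921
import Groth.Agent.Comod33.Reynolds
-- import your own Groth.Agent.* helpers here

set_option autoImplicit false
universe u v w
open HopfRep
open scoped TensorProduct

namespace Groth.Agent.S12921

/-- Let `k` be a commutative ring, `A` a commutative Hopf algebra over `k`, flat as a `k`-module, `B` a
commutative `k`-algebra with a coaction of `A` that is an algebra map and admits a total integral (a
comodule map `α : A → B` with `α 1 = 1`), and `C = B^A` the subring of invariants. Then for every
ideal `c` of `C` one has `cB ∩ C = c`. (The published statement assumes only that taking invariants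
is exact on `(B, A)`-modules; a total integral, assumed here, gives that exactness.) -/
theorem result
    (k : Type u) [CommRing k] (A : Type v) [CommRing A] [HopfAlgebra k A] [Module.Flat k A]
    (B : Type w) [CommRing B] [Algebra k B] [HopfRep.Comod k A B] [GLin.IsCoactAlg k A B]
    (htame : ∃ α : A →ₗ[k] B, Hoch.IsComodHom A α ∧ α 1 = 1)
    (c : Ideal (GLin.invariants k A B)) :
    (c.map (algebraMap (GLin.invariants k A B) B)).comap (algebraMap (GLin.invariants k A B) B) = c := by
  obtain ⟨α, hα, hα1⟩ := htame
  refine le_antisymm ?_ Ideal.le_comap_map
  have := Comod33.Avg.comap_map_eq hα hα1 ⊥ c (fun x hx => by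
    rw [Ideal.mem_bot] at hx; rw [hx, map_zero]; exact c.zero_mem)
  rwa [sup_bot_eq] at this

end Groth.Agent.S12921
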