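import Groth.Statements.S0161
import Groth.Agent.EtCore45.FiniteBC
import Groth.Agent.Unr55.Et.FinitePushExact

set_option autoImplicit false
universe u
open CategoryTheory CategoryTheory.Limits AlgebraicGeometry Opposite
open EtPBC

namespace Groth.Agent.S0161

/-- For a finite morphism f : X -> Y, cohomology commutes with base change: for every cartesian square
and torsion abelian F on X_et and every q, g^* R^q f_* F ≅ R^q f'_* g'^* F (abstract-isomorphism
form). -/
theorem result {X Y : Scheme.{u}} (f : X ⟶ Y) [IsFinite f] [EtCoh.BCCont f] :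
    EtPBC.CohCommutesWithBC f := by
  intro X' Y' f' g' g _ _ _ h F _ q
  have hf' : IsFinite f' := MorphismProperty.of_isPullback h ‹IsFinite f›
  rcases Nat.eq_zero_or_pos q with rfl | hq
  · have : PreservesLimitsOfSize.{0, 0} (EtCoh.push f) := (EtCoh.pullPushAdj f).rightAdjoint_preservesLimits
    have : PreservesLimitsOfSize.{0, 0} (EtCoh.push f') := (EtCoh.pullPushAdj f').rightAdjoint_preservesLimits
    have : PreservesFiniteLimits (EtCoh.push f) := PreservesLimitsOfSize.preservesFiniteLimits _
    have : PreservesFiniteLimits (EtCoh.push f') := PreservesLimitsOfSize.preservesFiniteLimits _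
    have := Groth.Agent.EtCore45.isIso_baseChange0_finite f g f' g' h F
    exact ⟨(EtCoh.pull g).mapIso ((EtCoh.push f).rightDerivedZeroIsoSelf.app F) ≪≫
      asIso (EtCoh.baseChange0 f g f' g' h.w F) ≪≫
      ((EtCoh.push f').rightDerivedZeroIsoSelf.app _).symm⟩
  · have := (EtCoh.pullPushAdj g).leftAdjoint_preservesColimits
    have := preservesBinaryBiproducts_of_preservesBinaryCoproducts (EtCoh.pull g)
    have : (EtCoh.pull g).Additive := Functor.additive_of_preservesBinaryBiproducts _
    exact ⟨IsZero.iso ((EtCoh.pull g).map_isZero (Groth.Agent.Unr55.EtSh.isZero_Rpush_of_finite f F q hq))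
      (Groth.Agent.Unr55.EtSh.isZero_Rpush_of_finite f' _ q hq)⟩

end Groth.Agent.S0161
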