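import Groth.Statements.S3054
import Groth.Agent.EtCore45.PushEpi
import Groth.Agent.Unr55.Et.FinitePushExact

set_option autoImplicit false
open CategoryTheory CategoryTheory.Limits AlgebraicGeometry Opposite
universe u
open EtDesc

namespace Groth.Agent.S3054

/-- For an integral morphism of schemes f : X -> Y and an abelian sheaf F on X_et, R^q f_* F = 0 for
every q > 0. -/
theorem result {X Y : Scheme.{u}} (f : X ⟶ Y) [IsIntegralHom f] (F : EtCoh.Ab X)
    (q : ℕ) (hq : 0 < q) : IsZero ((EtCoh.Rpush f q).obj F) := by
  obtain ⟨q, rfl⟩ := Nat.exists_eq_add_one.2 hq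
  have := (EtCoh.pullPushAdj f).rightAdjoint_preservesLimits
  have : PreservesFiniteColimits (EtCoh.push f) := by
    refine (Functor.preservesFiniteColimits_iff_forall_exact_map_and_epi (EtCoh.push f)).2 fun S hS => ?_
    have := hS.epi_g
    exact ⟨((Functor.preservesFiniteLimits_iff_forall_exact_map_and_mono (EtCoh.push f)).1
      inferInstance S hS).1, Groth.Agent.EtCore45.push_map_epi f S.g⟩
  let I := injectiveResolution F
  refine IsZero.of_iso ?_ (I.isoRightDerivedObj (EtCoh.push f) (q + 1))
  refine (HomologicalComplex.exactAt_iff_isZero_homology _ _).1 ?_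
  exact (I.cocomplex_exactAt_succ q).map (EtCoh.push f)

end Groth.Agent.S3054
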