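import Groth.Statements.S5937
import Groth.Agent.SchBasics.DerZero

set_option backward.isDefEq.respectTransparency false

set_option autoImplicit false
universe u
open CategoryTheory CategoryTheory.Limits AlgebraicGeometry
open Unram17

namespace Groth.Agent.S5937

/-- Take a morphism of schemes f : X ⟶ Y and an O_X-module Ω' equipped with a universal Y-derivation d :
O_X → Ω' (so that Ω' is a sheaf of differentials of X over Y). Then f is formally unramified if and
only if Ω' is a zero object of the category of O_X-modules. -/
theorem result {X Y : Scheme.{u}} (f : X ⟶ Y)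
    (Ω' : X.Modules) (d : OmegaSh.Der f Ω') (hd : OmegaSh.IsUniversal d) :
    FormallyUnramified f ↔ IsZero Ω' := by
  refine ⟨fun _ => ?_, fun h0 => SchBasics.formallyUnramified_of_der fun F D W a => ?_⟩
  · rw [IsZero.iff_id_eq_zero]
    refine (hd Ω' d).unique (PresheafOfModules.Derivation.ext rfl) ?_
    refine PresheafOfModules.Derivation.ext (funext fun W => AddMonoidHom.ext fun a => ?_)
    exact (SchBasics.der_app_eq_zero d W.unop a).symm
  · obtain ⟨α, hα, -⟩ := hd F D
    rw [h0.eq_of_src α 0] at hα
    rw [← hα]
    rfl

end Groth.Agent.S5937
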