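import Groth.Statements.S5016
import Groth.Agent.SchBasics.OmegaChart
import Groth.Agent.SchBasics.DerExtend
import Groth.Agent.SchBasics.PullSpan
import Groth.Agent.FlatMor67.LiftAffine

set_option backward.isDefEq.respectTransparency false

set_option autoImplicit false
universe u
open CategoryTheory CategoryTheory.Limits AlgebraicGeometry TopologicalSpace
open Unram17

namespace Groth.Agent.S5016

/-- Let g : Y ⟶ S, h : X ⟶ S and f : X ⟶ Y with f ≫ g = h, and suppose f is formally smooth. Given
sheaves of differentials of Y over S and of X over S (universal derivations) and the canonical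
compatible map c from the pullback of the former to the latter, c is a monomorphism of O_X-modules.
(The published statement also identifies the cokernel of this map with the sheaf of differentials of
X over Y and splits the sequence locally; this row states only that the map is injective.) -/
theorem result {X Y S : Scheme.{u}} (g : Y ⟶ S) (h : X ⟶ S)
    (f : X ⟶ Y) (w : f ≫ g = h) (hf : MoreMor.IsFormallySmoothHom f)
    (ΩY : Y.Modules) (dY : OmegaSh.Der g ΩY) (hY : OmegaSh.IsUniversal dY)
    (ΩX : X.Modules) (dX : OmegaSh.Der h ΩX) (hX : OmegaSh.IsUniversal dX)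
    (c : (Scheme.Modules.pullback f).obj ΩY ⟶ ΩX) (hc : OmegaSh.IsDiffCompat f dY dX c) :
    Mono c := by
  subst w
  haveI := SchBasics.isQuasicoherent_of_isUniversal hY
  let M := (Scheme.Modules.pullback f).obj ΩY
  refine Preadditive.mono_of_cancel_zero _ fun {T} β hβ => ?_
  refine Scheme.Modules.hom_ext _ _ fun O => ?_
  ext z
  refine QC70.section_ext M _ _ fun p hp => ?_
  obtain ⟨R, hR, hpR, -⟩ := exists_isAffineOpen_mem_and_subset (X := S) (x := g (f p)) (U := ⊤) trivial
  obtain ⟨V, hV, hpV, hVR⟩ := exists_isAffineOpen_mem_and_subset (show f p ∈ g ⁻¹ᵁ R from hpR)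
  obtain ⟨U, hU, hpU, hUO⟩ := exists_isAffineOpen_mem_and_subset (show p ∈ O ⊓ f ⁻¹ᵁ V from ⟨hp, hpV⟩)
  have e : U ≤ f ⁻¹ᵁ V := fun y hy => (hUO hy).2
  have eR : U ≤ (f ≫ g) ⁻¹ᵁ R := fun y hy => hVR (e hy)
  refine ⟨U, fun y hy => (hUO hy).1, hpU, ?_⟩
  -- the extension of the derivation of `Y`
  letI := (f.appLE V U e).hom.toAlgebra
  haveI : Algebra.FormallySmooth Γ(Y, V) Γ(X, U) := FlatMor67.formallySmooth_appLE hU hV e hf
  let ps : Γ(ΩY, V) →+ Γ(M, U) := AddMonoidHom.mk' (fun m => QC70.res M e (OmegaSh.pullSect f ΩY V m))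
    fun a b => by rw [map_add, QC70.res_add]
  have hps : ∀ a m, ps (a • m) = f.appLE V U e a • ps m := by
    intro a m
    show QC70.res M e (OmegaSh.pullSect f ΩY V (a • m)) = _
    rw [OmegaSh.pullSect_smul, QC70.res_smul]
    rfl
  obtain ⟨D, hD1, hD2⟩ := SchBasics.exists_derivation_extend_of_formallySmooth
    (ps.comp (dY.app V)) (fun a b => by
      show ps (dY.app V (a * b)) = _
      rw [Var76.OmegaUniv.Der.map_mul, map_add, hps, hps]
      rfl)
  -- the retraction on sections
  obtain ⟨eX, heX⟩ := SchBasics.exists_chartEquiv hX hU hR eR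
  let δ : (ModuleCat.of Γ(X, U) Γ(M, U)).Derivation ((f ≫ g).appLE R U eR) :=
    ModuleCat.Derivation.mk (fun b => D b) (fun a b => map_add D a b) hD1 (fun r => by
      rw [← Scheme.Hom.appLE_comp_appLE f g R V U hVR e, ConcreteCategory.comp_apply]
      refine (hD2 _).trans ?_
      show ps (dY.app V (g.appLE R V hVR r)) = 0
      rw [Var76.OmegaUniv.Der.appLE, map_zero])
  let l : Γ(ΩX, U) →ₗ[Γ(X, U)] Γ(M, U) := δ.desc.hom.comp eX.symm.toLinearMap
  have hl : ∀ b, l (dX.app U b) = D b := by
    intro b
    show δ.desc.hom (eX.symm (dX.app U b)) = _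
    rw [← heX b, LinearEquiv.symm_apply_apply]
    exact δ.desc_d b
  have key : ∀ x : Γ(M, U), l (c.app U x) = x := by
    intro x
    have hx : x ∈ Submodule.span Γ(X, U) (Set.range fun m : Γ(ΩY, V) => ps m) :=
      (SchBasics.span_pullSect f ΩY hU hV e).ge trivial
    induction hx using Submodule.span_induction with
    | mem y hy =>
      obtain ⟨m, rfl⟩ := hy
      obtain ⟨eY, heY⟩ := SchBasics.exists_chartEquiv hY hV hR hVR
      letI := (g.appLE R V hVR).hom.toAlgebra
      obtain ⟨k, rfl⟩ := eY.surjective m
      have hk : k ∈ Submodule.span Γ(Y, V) (Set.range (KaehlerDifferential.D Γ(S, R) Γ(Y, V))) := by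
        rw [KaehlerDifferential.span_range_derivation]; trivial
      induction hk using Submodule.span_induction with
      | mem y hy =>
        obtain ⟨a, rfl⟩ := hy
        beta_reduce
        rw [heY]
        have h1 : c.app U (ps (dY.app V a)) = dX.app U (f.appLE V U e a) := by
          refine (QC70.app_res c e _).trans ?_
          rw [hc V a]
          exact (Var76.OmegaUniv.Der.res dX e (f.app V a)).symm
        rw [h1, hl]
        exact hD2 a
      | zero => simp
      | add y z _ _ hy hz => simp only [map_add] at hy hz ⊢; rw [hy, hz]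
      | smul a y _ hy =>
        simp only [map_smul] at hy ⊢
        rw [hps, Scheme.Modules.Hom.app_smul, map_smul, hy]
    | zero => simp
    | add y z _ _ hy hz => rw [map_add, map_add, hy, hz]
    | smul a y _ hy => rw [Scheme.Modules.Hom.app_smul, map_smul, hy]
  have h0 : c.app O (β.app O z) = 0 :=
    congr($(congrArg (fun φ => Scheme.Modules.Hom.app φ O) hβ) z)
  show QC70.res M _ (β.app O z) = QC70.res M _ 0
  rw [QC70.res_zero, ← key (QC70.res M _ (β.app O z)), QC70.app_res, h0, QC70.res_zero, map_zero]

end Groth.Agent.S5016
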