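import Groth.Statements.S5018
import Groth.Agent.SchBasics.OmegaChart
import Groth.Agent.FlatMor68.LocFree
import Groth.Agent.FlatMor67.LiftAffine

set_option autoImplicit false
universe u
open CategoryTheory CategoryTheory.Limits AlgebraicGeometry TopologicalSpace
open Unram17

namespace Groth.Agent.S5018

/-- Let f : X ⟶ Y be formally smooth and locally of finite type, and let (Ω', d) be a sheaf of
differentials of X over Y, i.e. d a universal Y-derivation of O_X into Ω'. Then Ω' is finite locally
free. (The published statement also shows that the sheaf of differentials is locally projective for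
every formally smooth f; this row states only the case of f locally of finite type.) -/
theorem result {X Y : Scheme.{u}} (f : X ⟶ Y)
    (hf : MoreMor.IsFormallySmoothHom f) [LocallyOfFiniteType f]
    (Ω' : X.Modules) (d : OmegaSh.Der f Ω') (hd : OmegaSh.IsUniversal d) :
    FlatMod.IsFinLocFree Ω' := by
  haveI := SchBasics.isQuasicoherent_of_isUniversal hd
  refine FlatMor68.LocFree.isFinLocFree_of_projective_sections Ω' fun x => ?_
  obtain ⟨V, hV, hxV, -⟩ := exists_isAffineOpen_mem_and_subset (X := Y) (x := f x) (U := ⊤) trivial
  obtain ⟨U, hU, hxU, h⟩ := exists_isAffineOpen_mem_and_subset (show x ∈ f ⁻¹ᵁ V from hxV)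
  letI := (f.appLE V U h).hom.toAlgebra
  haveI : Algebra.FormallySmooth Γ(Y, V) Γ(X, U) := FlatMor67.formallySmooth_appLE hU hV h hf
  haveI : Algebra.FiniteType Γ(Y, V) Γ(X, U) := LocallyOfFiniteType.finiteType_appLE f hV hU h
  obtain ⟨e, -⟩ := SchBasics.exists_chartEquiv hd hU hV h
  exact ⟨U, hU, hxU, Module.Projective.of_equiv e, Module.Finite.equiv e⟩

end Groth.Agent.S5018
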