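import Groth.Statements.S4950
import Groth.Agent.E4O.DvrExt
import Groth.Agent.E4O.GeomPoints

set_option autoImplicit false
universe u
open CategoryTheory CategoryTheory.Limits AlgebraicGeometry

namespace Groth.Agent.S4950

section aux

open IsLocalRing

variable {X Y : Scheme.{u}} (f : X ⟶ Y) [LocallyQuasiFinite f] [QuasiCompact f]

/-- The fibre of a base change over a point is a base change to its residue field. -/
theorem card_fiber_snd {T : Scheme.{u}} (g : T ⟶ Y) (p : T) :
    ENat.card ↥((pullback.snd f g).fiber p) = ENat.card ↥(pullback f (T.fromSpecResidueField p ≫ g)) :=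
  ENat.card_congr (pullbackLeftPullbackSndIso f g (T.fromSpecResidueField p)).schemeIsoToHomeo.toEquiv

theorem card_pullback_of_isAlgClosed (y : Y) (E : Type u) [Field E] [IsAlgClosed E]
    (r : Y.residueField y ⟶ CommRingCat.of E) :
    ENat.card ↥(pullback f (Spec.map r ≫ Y.fromSpecResidueField y)) = MoreMor.nGeomConnComp f y := by
  let _ : Algebra (Y.residueField y) E := r.hom.toAlgebra
  exact Groth.Agent.E4O.card_pullback_eq f (y := y) (Or.inl inferInstance) _ rfl

theorem card_fiber_snd_of_isAlgClosed {T : Scheme.{u}} (g : T ⟶ Y) (p : T) [IsAlgClosed (T.residueField p)] :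
    ENat.card ↥((pullback.snd f g).fiber p) = MoreMor.nGeomConnComp f (g p) := by
  rw [card_fiber_snd, ← Scheme.Hom.SpecMap_residueFieldMap_fromSpecResidueField g p]
  exact card_pullback_of_isAlgClosed f (g p) (T.residueField p : Type u) (g.residueFieldMap p)

theorem card_fiber_snd_bot (R : Type u) [CommRing R] [IsDomain R] (L : Type u) [Field L] [Algebra R L]
    [IsFractionRing R L] (g : Spec (CommRingCat.of R) ⟶ Y) :
    ENat.card ↥((pullback.snd f g).fiber (⟨⊥, Ideal.isPrime_bot⟩ : PrimeSpectrum R)) =
      ENat.card ↥(pullback f (Spec.map (CommRingCat.ofHom (algebraMap R L)) ≫ g)) := by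
  let p₀ : Spec (CommRingCat.of R) := (⟨⊥, Ideal.isPrime_bot⟩ : PrimeSpectrum R)
  refine (card_fiber_snd f g p₀).trans ?_
  let P := p₀.asIdeal.ResidueField
  have hinj : Function.Injective (algebraMap R P) :=
    (RingHom.injective_iff_ker_eq_bot _).2 (Ideal.ker_algebraMap_residueField _)
  let ι : L →+* P := IsFractionRing.lift (A := R) (K := L) hinj
  have hιc : ι.comp (algebraMap R L) = algebraMap R P := IsLocalization.lift_comp _
  have hιs : Function.Surjective ι := fun z => by
    obtain ⟨a, b, hb, rfl⟩ := IsFractionRing.div_surjective (R ⧸ p₀.asIdeal) z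
    obtain ⟨a, rfl⟩ := Ideal.Quotient.mk_surjective a
    obtain ⟨b, rfl⟩ := Ideal.Quotient.mk_surjective b
    refine ⟨algebraMap R L a / algebraMap R L b, ?_⟩
    rw [map_div₀, ← RingHom.comp_apply, hιc, ← RingHom.comp_apply ι, hιc,
      IsScalarTower.algebraMap_apply R (R ⧸ p₀.asIdeal) P, IsScalarTower.algebraMap_apply R (R ⧸ p₀.asIdeal) P,
      Ideal.Quotient.algebraMap_eq]
  let eι : CommRingCat.of L ≅ CommRingCat.of P := (RingEquiv.ofBijective ι ⟨ι.injective, hιs⟩).toCommRingCatIso
  let e₀ := Spec.map (eι.hom ≫ (Scheme.Spec.residueFieldIso (CommRingCat.of R) p₀).inv)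
  have hfs : (Spec (CommRingCat.of R)).fromSpecResidueField p₀ ≫ g =
      e₀ ≫ Spec.map (CommRingCat.ofHom (algebraMap R L)) ≫ g := by
    rw [← Scheme.Spec.map_residueFieldIso_inv_eq_fromSpecResidueField]
    simp only [e₀, Spec.map_comp, Category.assoc]
    rw [← Spec.map_comp_assoc (CommRingCat.ofHom (algebraMap R L)) eι.hom]
    congr 3
    exact CommRingCat.hom_ext hιc.symm
  rw [hfs]
  let q : Spec (CommRingCat.of L) ⟶ Y := Spec.map (CommRingCat.ofHom (algebraMap R L)) ≫ g
  exact (ENat.card_congr (pullbackLeftPullbackSndIso f q e₀).schemeIsoToHomeo.toEquiv).symm.trans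
    (ENat.card_congr (asIso (pullback.fst (pullback.snd f q) e₀)).schemeIsoToHomeo.toEquiv)

end aux

/-- Let Y be a locally Noetherian scheme, f : X ⟶ Y a separated quasi-finite morphism, y a point of Y
and y' a generization of y distinct from y; write n(z) for the geometric number of points of the
fibre X_z. Then there are a discrete valuation ring A and a morphism g : Spec A ⟶ Y mapping the
closed point to y and the generic point to y', such that n(y) is the number of points of the fibre
of X ×_Y Spec A ⟶ Spec A over the closed point and n(y') is the number of points of its fibre over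
the generic point. -/
theorem result {X Y : Scheme.{u}} [IsLocallyNoetherian Y] (f : X ⟶ Y)
    [IsSeparated f] [LocallyQuasiFinite f] [LocallyOfFiniteType f] [QuasiCompact f] (y y' : Y) (hne : y' ≠ y)
    (hgen : y' ⤳ y) :
    ∃ (A : Type u) (_ : CommRing A) (_ : IsDomain A) (_ : IsDiscreteValuationRing A) (g : Spec (CommRingCat.of A) ⟶ Y),
      g.base (IsLocalRing.closedPoint A) = y ∧ g.base (genericPoint (Spec (CommRingCat.of A))) = y' ∧
      MoreMor.nGeomConnComp f y = ENat.card ↥((pullback.snd f g).fiber (IsLocalRing.closedPoint A)) ∧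
      MoreMor.nGeomConnComp f y' = ENat.card ↥((pullback.snd f g).fiber (genericPoint (Spec (CommRingCat.of A)))) := by
  classical
  let κ' := Y.residueField y'
  obtain ⟨V, hV, g₁, hg₁c, hg₁g, hg₁⟩ := Groth.Agent.E4O.exists_dvr_hom hgen hne κ'
    (IntermediateField.fg_of_noetherian ⊤)
  obtain ⟨B, _, _, _, φ₁, hφ₁, hφ₁i, hB⟩ := Groth.Agent.E4O.exists_dvr_isAlgClosed_residueField V
  let K := FractionRing B
  let j : κ' →+* K := IsFractionRing.lift (A := V) (K := κ') (g := (algebraMap B K).comp φ₁)
    ((IsFractionRing.injective B K).comp hφ₁i)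
  let _ : Algebra κ' K := j.toAlgebra
  let K' := AlgebraicClosure K
  -- the fibre over the generic point
  let _ : (f.fiber y').Over (Spec (CommRingCat.of κ')) := ⟨f.fiberToSpecResidueField y'⟩
  have : IsFinite (f.fiber y' ↘ Spec (CommRingCat.of κ')) :=
    inferInstanceAs (IsFinite (f.fiberToSpecResidueField y'))
  letI := fun x : f.fiber y' => Curv2.resAlgebra (κ' : Type u) (f.fiber y') x
  have hfd := Groth.Agent.E4O.finiteDimensional_residueField (κ' : Type u) (f.fiber y')
  have := Groth.Agent.E4O.finite_points (κ' : Type u) (f.fiber y')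
  let S : Set K' := ⋃ (x : f.fiber y') (σ : (f.fiber y').residueField x →ₐ[κ'] K'),
    Set.range (fun i => σ (Module.finBasis κ' ((f.fiber y').residueField x) i))
  have hS : S.Finite := Set.finite_iUnion fun x => Set.finite_iUnion fun σ => Set.finite_range _
  have := hS.to_subtype
  let L : IntermediateField K K' := IntermediateField.adjoin K S
  have : FiniteDimensional K L :=
    IntermediateField.finiteDimensional_adjoin fun z _ => Algebra.IsIntegral.isIntegral z
  have hmem : ∀ (x : f.fiber y') (σ : (f.fiber y').residueField x →ₐ[κ'] K') (z), σ z ∈ L := by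
    intro x σ z
    rw [← (Module.finBasis κ' ((f.fiber y').residueField x)).sum_repr z, map_sum]
    refine sum_mem fun i _ => ?_
    rw [map_smul, ← algebraMap_smul K]
    exact L.smul_mem (IntermediateField.subset_adjoin K S
      (Set.mem_iUnion₂.2 ⟨x, σ, i, rfl⟩))
  obtain ⟨R, hR, φ₂, hφ₂, hRalg, hφ₂c⟩ := Groth.Agent.E4O.exists_dvr_isAlgClosed_finite B L
  let ψ : V →+* R := φ₂.comp φ₁
  have : IsLocalHom ψ := RingHom.isLocalHom_comp φ₂ φ₁
  have hψi : Function.Injective ψ := by
    intro a b hab
    have h := congrArg (fun r : R => (r : L)) hab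
    simp only [ψ, RingHom.comp_apply, hφ₂c] at h
    exact hφ₁i (IsFractionRing.injective B K ((algebraMap K L).injective h))
  let g : Spec (CommRingCat.of R) ⟶ Y := Spec.map (CommRingCat.ofHom ψ) ≫ g₁
  have hgc : g.base (IsLocalRing.closedPoint R) = y := by
    show g₁ (Spec.map (CommRingCat.ofHom ψ) (IsLocalRing.closedPoint R)) = y
    rw [show Spec.map (CommRingCat.ofHom ψ) (IsLocalRing.closedPoint R) = IsLocalRing.closedPoint V from
      IsLocalRing.comap_closedPoint ψ]
    exact hg₁c
  let p₀ : Spec (CommRingCat.of R) := (⟨⊥, Ideal.isPrime_bot⟩ : PrimeSpectrum R)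
  have hp₀ : genericPoint (Spec (CommRingCat.of R)) = p₀ := genericPoint_eq_bot_of_affine (CommRingCat.of R)
  have hgg : g.base (genericPoint (Spec (CommRingCat.of R))) = y' := by
    rw [hp₀]
    show g₁ (Spec.map (CommRingCat.ofHom ψ) p₀) = y'
    rw [show Spec.map (CommRingCat.ofHom ψ) p₀ = genericPoint (Spec (CommRingCat.of V)) from ?_]
    · exact hg₁g
    · refine PrimeSpectrum.ext ?_
      show Ideal.comap ψ ⊥ = (genericPoint (Spec (CommRingCat.of V))).asIdeal
      have e1 := congrArg PrimeSpectrum.asIdeal (genericPoint_eq_bot_of_affine (CommRingCat.of V))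
      refine Eq.trans ?_ e1.symm
      exact (RingHom.injective_iff_ker_eq_bot ψ).1 hψi
  refine ⟨R, inferInstance, inferInstance, hR, g, hgc, hgg, ?_, ?_⟩
  · have : IsAlgClosed ((Spec (CommRingCat.of R)).residueField (IsLocalRing.closedPoint R)) := by
      let p := IsLocalRing.closedPoint R
      have : p.asIdeal.IsMaximal := IsLocalRing.maximalIdeal.isMaximal R
      have hs : Function.Surjective (algebraMap R p.asIdeal.ResidueField) :=
        Ideal.algebraMap_residueField_surjective p.asIdeal
      have hk : RingHom.ker (algebraMap R p.asIdeal.ResidueField) = IsLocalRing.maximalIdeal R :=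
        Ideal.ker_algebraMap_residueField _
      exact IsAlgClosed.of_ringEquiv (IsLocalRing.ResidueField R) _
        (((Ideal.quotEquivOfEq hk.symm).trans (RingHom.quotientKerEquivOfSurjective hs)).trans
          (Scheme.Spec.residueFieldIso (CommRingCat.of R) p).symm.commRingCatIsoToRingEquiv)
    rw [card_fiber_snd_of_isAlgClosed, hgc]
  · let q : Spec (CommRingCat.of L) ⟶ Y := Spec.map (CommRingCat.ofHom (algebraMap R L)) ≫ g
    rw [hp₀, card_fiber_snd_bot f R L g]
    refine (Groth.Agent.E4O.card_pullback_eq f (y := y') (Or.inr fun x σ z => ?_) q ?_).symm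
    · have : IsScalarTower κ' L K' := IsScalarTower.of_algebraMap_eq fun _ => rfl
      let e : AlgebraicClosure L ≃ₐ[L] K' :=
        haveI : IsAlgClosure L K' := ⟨inferInstance, Algebra.IsAlgebraic.tower_top (K := K) L⟩
        IsAlgClosure.equiv L (AlgebraicClosure L) K'
      let σ' : (f.fiber y').residueField x →ₐ[κ'] K' := (e.toAlgHom.restrictScalars κ').comp σ
      refine ⟨⟨σ' z, hmem x σ' z⟩, e.injective ?_⟩
      rw [AlgEquiv.commutes]
      rfl
    · show Spec.map (CommRingCat.ofHom (algebraMap R L)) ≫ Spec.map (CommRingCat.ofHom ψ) ≫ g₁ = _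
      rw [← Spec.map_comp_assoc]
      have e1 : CommRingCat.ofHom ψ ≫ CommRingCat.ofHom (algebraMap R L) =
          CommRingCat.ofHom (algebraMap V κ') ≫ CommRingCat.ofHom (algebraMap κ' L) := by
        refine CommRingCat.hom_ext (RingHom.ext fun a => ?_)
        show ((φ₂ (φ₁ a) : R) : L) = algebraMap κ' L (algebraMap V κ' a)
        rw [hφ₂c, IsScalarTower.algebraMap_apply κ' K L]
        have h1 : j (algebraMap V κ' a) = ((algebraMap B K).comp φ₁) a :=
          IsFractionRing.lift_algebraMap (A := V) (K := κ') (g := (algebraMap B K).comp φ₁)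
            ((IsFractionRing.injective B K).comp hφ₁i) a
        exact congrArg (algebraMap K L) h1.symm
      rw [e1, Spec.map_comp_assoc, hg₁, ← Spec.map_comp_assoc]
      congr 2

end Groth.Agent.S4950
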