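import Groth.Statements.S1582
import Groth.Agent.FBase64.Products
import Groth.Agent.FBase64.Descend

set_option autoImplicit false
universe u
open CategoryTheory CategoryTheory.Limits AlgebraicGeometry
open Variety

namespace Groth.Agent.S1582

set_option backward.isDefEq.respectTransparency.types false in

/-- Let k be algebraically closed and X, Y varieties over k (integral, separated, of finite type). Then
the fibre product X ×_k Y is integral (and so again a variety over k). -/
theorem result (k : Type u) [Field k] [IsAlgClosed k] (X Y : Scheme.{u})
    (f : X ⟶ Spec (CommRingCat.of k)) (g : Y ⟶ Spec (CommRingCat.of k))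
    [IsIntegral X] [IsIntegral Y] [IsSeparated f] [IsSeparated g]
    [LocallyOfFiniteType f] [LocallyOfFiniteType g] [QuasiCompact f] [QuasiCompact g] :
    IsIntegral (pullback f g) := by
  have hGI : GeometricallyIrreducible f := by
    refine ⟨geometrically_iff_of_commRing_of_isClosedUnderIsomorphisms.mpr fun K _ _ => ?_⟩
    rw [irreducibleSpace_def]
    simpa using Groth.Agent.FBase64.isIrreducible_preimage_fst f (algebraMap k K)
      (IrreducibleSpace.isIrreducible_univ X)
  have : IrreducibleSpace ↥(pullback f g) := by
    rw [irreducibleSpace_def]
    simpa using (pullback.snd f g).isIrreducible_preimage (pullback.snd f g).isOpenMap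
      (IrreducibleSpace.isIrreducible_univ Y)
  have : GeometricallyReduced f := by
    have : IsIso (Spec.map (CommRingCat.ofHom (algebraMap k k))) := by
      rw [Algebra.algebraMap_self, CommRingCat.ofHom_id, Spec.map_id]; infer_instance
    have h1 := @pullback_fst_iso_of_right_iso _ _ _ _ _ f (Spec.map (CommRingCat.ofHom (algebraMap k k))) this
    have : AlgebraicGeometry.IsReduced (FBase.bc f k) :=
      @isReduced_of_isOpenImmersion _ _ (pullback.fst f (Spec.map (CommRingCat.ofHom (algebraMap k k))))
        (@IsOpenImmersion.of_isIso _ _ _ h1) _
    exact Groth.Agent.FBase64.geometricallyReduced_of_isReduced_perfect f k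
  have : IsReduced (pullback f g) := Groth.Agent.FBase64.isReduced_pullback_of_geometricallyReduced f g
  exact isIntegral_of_irreducibleSpace_of_isReduced _

end Groth.Agent.S1582
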