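import Groth.Statements.S6315
import Mathlib
import Groth.Agent.TorMod7.Basic

set_option autoImplicit false
set_option linter.style.haveILetI false
set_option linter.style.longLine false
universe u
open CategoryTheory
open CAlg

namespace Groth.Agent.S6315

open MonoidalCategory
theorem aux {R : Type u} [CommRing R] [IsNoetherianRing R] (M : Type u) [AddCommGroup M] [Module R M]
    [Module.Finite R M] : ∀ (p : ℕ) (N : Type u) [AddCommGroup N] [Module R N] [Module.Finite R N],
      Module.Finite R ((((tensoringLeft (ModuleCat.{u} R)).obj (ModuleCat.of R M)).leftDerived p).obj (ModuleCat.of R N)) := by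
  intro p
  induction p with
  | zero =>
    intro N _ _ _
    haveI : Module.Finite R ↑(((tensoringLeft (ModuleCat.{u} R)).obj (ModuleCat.of R M)).obj (ModuleCat.of R N)) :=
      inferInstanceAs (Module.Finite R (TensorProduct R M N))
    exact Module.Finite.equiv
      ((((tensoringLeft (ModuleCat.{u} R)).obj (ModuleCat.of R M)).leftDerivedZeroIsoSelf).app (ModuleCat.of R N)).toLinearEquiv.symm
  | succ n ih =>
    intro N _ _ _
    obtain ⟨k, π, hπ⟩ := Module.Finite.exists_fin' R N
    let F := (tensoringLeft (ModuleCat.{u} R)).obj (ModuleCat.of R M)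
    let S := TorMod7.sesOfSurjective π hπ
    haveI hP : Projective S.1.X₂ := (IsProjective.iff_projective (R := R) (P := Fin k → R)).1 inferInstance
    have hδ : Mono (TorMod7.leftDerivedδ F S n) :=
      (TorMod7.exact₃ F S n).mono_g ((F.isZero_leftDerived_obj_projective_succ n S.1.X₂).eq_of_src _ _)
    haveI : Module.Finite R (LinearMap.ker π) := Module.Finite.iff_fg.2 (IsNoetherian.noetherian _)
    haveI : Module.Finite R ↑((F.leftDerived n).obj S.1.X₁) := ih (LinearMap.ker π)
    haveI : IsNoetherian R ↑((F.leftDerived n).obj S.1.X₁) := isNoetherian_of_isNoetherianRing_of_finite R _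
    exact Module.Finite.of_injective (TorMod7.leftDerivedδ F S n).hom ((ModuleCat.mono_iff_injective _).1 hδ)

/-- Let R be a Noetherian ring and M, N finite R-modules. Then Tor_pᴿ(M, N) is a finite R-module for all
p. -/
theorem result (R : Type u) [CommRing R] [IsNoetherianRing R] (M N : Type u) [AddCommGroup M] [Module R M] [AddCommGroup N] [Module R N] [Module.Finite R M] [Module.Finite R N] (p : ℕ) : Module.Finite R (((CategoryTheory.Tor (ModuleCat.{u} R) p).obj (ModuleCat.of R M)).obj (ModuleCat.of R N)) := by
  exact aux M p N

end Groth.Agent.S6315
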