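import Groth.Statements.S6541
import Groth.Agent.Crv77.P1Deg


set_option autoImplicit false
universe u
open CategoryTheory CategoryTheory.Limits AlgebraicGeometry
open Curves

namespace Groth.Agent.S6541

/-- Let X be a proper curve over the field k (proper, integral, of dimension one). If the first
cohomology of O_X vanishes and some invertible O_X-module has degree 1, then X is isomorphic to
P^1_k over k. -/
theorem result (k : Type u) [Field k] (X : Scheme.{u}) [X.Over (Spec (CommRingCat.of k))]
    [IsIntegral X] [IsProper (X ↘ (Spec (CommRingCat.of k)))] (hdim : topologicalKrullDim X = 1)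
    (h1 : Subsingleton (Coh.HH X (Coh.structureModule X) 1))
    (L : X.Modules) (hL : PicF.IsInvertible L) (hdeg : Curv2.deg k X L 1 = 1) :
    ∃ e : X ≅ CohB1.ProjSpace 1 k, e.hom ≫ CohB1.ProjSpace.toSpec 1 k = X ↘ (Spec (CommRingCat.of k)) := by
  have := Crv77.isNoetherian_of_proper k X
  have hX := Crv77.curveCoh_of_proper k X hdim.le
  refine Crv77.exists_iso_projLine_of_deg_one hdim hL hdeg ?_
  have hLc := Crv77.isCoh_of_isInvertible hL
  have e := hX.euler_eq hLc
  have f := hX.euler_eq (Crv77.isCoh_structureModule (X := X))
  have hO : 0 < Module.finrank k (Coh.HH X (Coh.structureModule X) 0) :=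
    have := hX.finite _ (Crv77.isCoh_structureModule (X := X)) 0
    have : Nontrivial (Coh.HH X (Coh.structureModule X) 0) :=
      (Crv77.sec (Coh.structureModule X)).toEquiv.nontrivial_congr.2 (inferInstanceAs (Nontrivial Γ(X, ⊤)))
    Module.finrank_pos
  simp only [Crv77.h, Module.finrank_zero_of_subsingleton (M := Coh.HH X (Coh.structureModule X) 1)] at e f
  simp only [Curv2.deg, Nat.cast_one, one_mul] at hdeg
  omega

end Groth.Agent.S6541
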