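import Groth.Statements.S6558
import Groth.Agent.Crv77.FrobTwistCover
import Groth.Agent.Crv77.BaseChange
import Groth.Agent.CrvPic30.Omega

set_option autoImplicit false
universe u
open CategoryTheory CategoryTheory.Limits AlgebraicGeometry
open Curves

namespace Groth.Agent.S6558

/-- Let p be a prime number, k a field of characteristic p, and f : X → Y a nonconstant morphism over k
of proper nonsingular curves over k (proper, integral, of dimension one, all local rings regular),
nonconstant meaning f(ξ_X) = ξ_Y for the generic points (hypothesis e), so that k(Y) maps into k(X).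
Assume X is smooth over k with H^0(X, O_X) = k and k(X)/k(Y) purely inseparable. Then Y is smooth
over k, its global functions are the constants k, and Y and X have the same genus. -/
theorem result (k : Type u) [Field k] (p : ℕ) [Fact p.Prime] [CharP k p]
    (X Y : Scheme.{u}) [X.Over (Spec (CommRingCat.of k))] [Y.Over (Spec (CommRingCat.of k))]
    [IsIntegral X] [IsProper (X ↘ (Spec (CommRingCat.of k)))] (hdX : topologicalKrullDim X = 1) (hregX : ∀ x : X, IsRegularLocalRing (X.presheaf.stalk x))
    [IsIntegral Y] [IsProper (Y ↘ (Spec (CommRingCat.of k)))] (hdY : topologicalKrullDim Y = 1) (hregY : ∀ y : Y, IsRegularLocalRing (Y.presheaf.stalk y))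
    (f : X ⟶ Y) (hf : f ≫ (Y ↘ (Spec (CommRingCat.of k))) = X ↘ (Spec (CommRingCat.of k))) (e : f (genericPoint X) = genericPoint Y)
    [Smooth (X ↘ (Spec (CommRingCat.of k)))] (h0 : Module.finrank k (Coh.HH X (Coh.structureModule X) 0) = 1)
    (hpi : letI := ((Y.presheaf.stalkSpecializes (specializes_of_eq e) ≫ f.stalkMap (genericPoint X)).hom).toAlgebra
      IsPurelyInseparable Y.functionField X.functionField) :
    Smooth (Y ↘ (Spec (CommRingCat.of k))) ∧ Module.finrank k (Coh.HH Y (Coh.structureModule Y) 0) = 1 ∧
      Curv2.genus k Y = Curv2.genus k X := by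
  have : ExpChar k p := ExpChar.prime Fact.out
  obtain ⟨r, i, hi⟩ := Crv77.exists_iso_twist k p X Y hdX hdY (CrvPic30.valuationRing_of_regular hdY.le hregY)
    f hf e hpi
  let π := i.hom ≫ pullback.fst (X ↘ (Spec (CommRingCat.of k))) (Spec.map (CommRingCat.ofHom (iterateFrobenius k p r)))
  let alg : Algebra k k := (iterateFrobenius k p r).toAlgebra
  have hpb : IsPullback π (Y ↘ Spec (CommRingCat.of k)) (X ↘ Spec (CommRingCat.of k))
      (Spec.map (CommRingCat.ofHom (@algebraMap k k _ _ alg))) :=
    (IsPullback.of_hasPullback _ _).of_iso i.symm (Iso.refl _) (Iso.refl _) (Iso.refl _)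
      (by simp [π]) (by simp [hi.symm]) (by simp) (by simp)
  refine ⟨hi ▸ inferInstance, ?_, ?_⟩
  · exact (@Crv77.finrank_hh_structureModule_baseChange k _ X _ _ k _ alg Y _ π hpb 0).trans h0
  · exact @Crv77.finrank_hh_structureModule_baseChange k _ X _ _ k _ alg Y _ π hpb 1

end Groth.Agent.S6558
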