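import Groth.Statements.S2063
import Mathlib
import Groth.Agent.CAlg1.SmoothKaehlerDim

set_option autoImplicit false
universe u
open CAlg

namespace Groth.Agent.S2063

open TensorProduct in
/-- Let `S` be of finite type over a field `k` and `𝔮` a prime of `S`. Smoothness of `S` over `k` at `𝔮`
holds exactly when the `κ(𝔮)`-dimension of `Ω_{S/k} ⊗ κ(𝔮)` is at most the local dimension of `Spec
S` at `𝔮`. -/
theorem result {k S : Type u} [Field k] [CommRing S] [Algebra k S]
    [Algebra.FiniteType k S] (q : Ideal S) [q.IsPrime] :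
    Algebra.IsSmoothAt k q ↔
      ((Module.finrank q.ResidueField (q.ResidueField ⊗[S] Ω[S⁄k]) : ℕ∞) : WithBot ℕ∞) ≤
        FlatMor.localDim (PrimeSpectrum S) ⟨q, inferInstance⟩ := by
  rw [Groth.Agent.CAlgH2.localDim_eq_dimAt k q, WithBot.coe_le_coe, Nat.cast_le]
  exact ⟨fun h => Groth.Agent.CAlg1.le_dimAt_of_isSmoothAt k q, Groth.Agent.CAlg1.isSmoothAt_of_finrank_le k q⟩

end Groth.Agent.S2063
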