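import Groth.Agent.An92.FSch.Spf
-- Template for statement S3852 (row 3851; see the milestone table for weights).
-- Copy to Groth/Agent/S3852.lean and replace the sorry. The statement below is byte-identical to the frozen
-- statement FCompl.GrothFrozen.S3852 (Groth/Statements/S3852.lean; the theorem FCompl.exists_pow_le_of_support_le);
-- the grader kernel-checks Groth.Agent.S3852.result against that frozen type. Keep the theorem IN THIS FILE
-- (a `result` declared elsewhere and merely imported here is not credited); helpers may live anywhere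
-- under Groth/Agent/.

set_option autoImplicit false
universe u
namespace FCompl
end FCompl
open FCompl

namespace Groth.Agent.S3852

open AlgebraicGeometry in
/-- Second assertion; stated for quasi-coherent ideal sheaves, with the condition on supports as an
inclusion, which is what the proof uses: Let X be a Noetherian scheme and I, J ideal sheaves such
that the zero locus of J is contained in the zero locus of I. Then I^n ≤ J for some n ≥ 1. -/
theorem result
    (X : Scheme.{u}) [IsNoetherian X] (I J : X.IdealSheafData)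
    (h : (J.support : Set X) ⊆ I.support) :
    ∃ n : ℕ, I ^ (n + 1) ≤ J := by
  classical
  obtain ⟨s, hs⟩ := (isCompact_univ (X := X)).elim_finite_subcover
    (fun U : X.affineOpens => (U.1 : Set X)) (fun U => U.1.isOpen)
    (fun x _ => Set.mem_iUnion.2 (by
      obtain ⟨U, hU, -⟩ := MP99.exists_affine_le x (W := ⊤) trivial
      exact ⟨U, hU⟩))
  have key : ∀ U : X.affineOpens, ∃ n : ℕ, (I.ideal U) ^ n ≤ J.ideal U := fun U => by
    have : IsNoetherianRing Γ(X, U.1) := IsLocallyNoetherian.component_noetherian U
    refine Ideal.exists_pow_le_of_le_radical_of_fg ?_ (IsNoetherian.noetherian _)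
    have h1 := h
    intro a ha
    rw [Ideal.radical_eq_sInf, Ideal.mem_sInf]
    rintro P ⟨hJP, hP⟩
    have hx1 : U.2.fromSpec ⟨P, hP⟩ ∈ J.support := by
      have hxU : U.2.fromSpec ⟨P, hP⟩ ∈ U.1 := U.2.range_fromSpec.le ⟨_, rfl⟩
      rw [Scheme.IdealSheafData.mem_support_iff_of_mem hxU]
      have : (⟨P, hP⟩ : PrimeSpectrum Γ(X, U.1)) ∈ U.2.fromSpec ⁻¹'
          X.zeroLocus (U := U.1) (J.ideal U) := by
        rw [U.2.fromSpec_preimage_zeroLocus]
        exact hJP
      exact this
    have hx2 := h1 hx1
    have hxU : U.2.fromSpec ⟨P, hP⟩ ∈ U.1 := U.2.range_fromSpec.le ⟨_, rfl⟩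
    rw [SetLike.mem_coe, Scheme.IdealSheafData.mem_support_iff_of_mem hxU] at hx2
    have : (⟨P, hP⟩ : PrimeSpectrum Γ(X, U.1)) ∈ U.2.fromSpec ⁻¹'
        X.zeroLocus (U := U.1) (I.ideal U) := hx2
    rw [U.2.fromSpec_preimage_zeroLocus] at this
    exact this ha
  choose n hn using key
  refine ⟨s.sup n, MP99.le_of_local fun x => ?_⟩
  obtain ⟨U, hUs, hxU⟩ : ∃ U ∈ s, x ∈ U.1 := by
    simpa using hs (Set.mem_univ x)
  refine ⟨U, hxU, ?_⟩
  rw [Scheme.IdealSheafData.ideal_pow, Pi.pow_apply]
  exact (Ideal.pow_le_pow_right (Nat.le_succ_of_le (Finset.le_sup hUs))).trans (hn U)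

end Groth.Agent.S3852
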