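import Groth.Statements.S4362
import Mathlib.Data.DFinsupp.WellFounded

set_option autoImplicit false
universe u
open FinCond

namespace Groth.Agent.S4362

open AlgebraicGeometry in
open CategoryTheory in
/-- If X is a Noetherian scheme, every increasing sequence of quasi-coherent sheaves of ideals of the
structure sheaf is eventually constant; equivalently the ordered set of quasi-coherent ideal sheaves
of X is well-founded for the reverse order. (On a locally Noetherian scheme quasi-coherent and
coherent ideal sheaves coincide.) -/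
theorem result
    (X : Scheme.{u}) [IsNoetherian X] : WellFoundedGT X.IdealSheafData := by
  obtain ⟨t, ht⟩ := CompactSpace.isCompact_univ.elim_finite_subcover
    (fun U : X.affineOpens => (U.1 : Set X)) (fun U => U.1.isOpen)
    (fun x _ => by
      obtain ⟨U, hU, hxU, -⟩ := exists_isAffineOpen_mem_and_subset (U := ⊤) (TopologicalSpace.Opens.mem_top x)
      exact Set.mem_iUnion.mpr ⟨⟨U, hU⟩, hxU⟩)
  have hcov : ⨆ U : t, (U.1.1 : X.Opens) = ⊤ := by
    refine top_le_iff.mp fun x _ => ?_
    obtain ⟨U, hU, hxU⟩ := Set.mem_iUnion₂.mp (ht (Set.mem_univ x))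
    exact TopologicalSpace.Opens.mem_iSup.mpr ⟨⟨U, hU⟩, hxU⟩
  have (U : X.affineOpens) : IsNoetherianRing Γ(X, U.1) := IsLocallyNoetherian.component_noetherian U
  have : WellFoundedGT ((U : t) → Ideal Γ(X, U.1.1)) :=
    ⟨(Pi.wellFoundedLT (α := fun U : t => (Ideal Γ(X, U.1.1))ᵒᵈ)).wf⟩
  refine StrictMono.wellFoundedGT (f := fun (I : X.IdealSheafData) (U : t) => I.ideal U.1) ?_
  refine Monotone.strictMono_of_injective (fun I J h U => h U.1) fun I J h => ?_
  exact Scheme.IdealSheafData.ext_of_iSup_eq_top (fun U : t => U.1) hcov fun U => congr_fun h U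

end Groth.Agent.S4362
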