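import Groth.Statements.S1863
import Groth.Agent.Cyc90.DivCycle

set_option autoImplicit false
universe u
open CategoryTheory AlgebraicGeometry
open Cyc

namespace Groth.Agent.S1863

/-- Let U ⊆ X be open and α, β k-cycles on X whose restrictions to U are rationally equivalent on U (for
the restricted dimension function). Then there is a k-cycle γ on X vanishing on U with α rationally
equivalent to β + γ. Here a pair (X, δ) with Cyc.IsSetup plays the role of a scheme locally of
finite type over a fixed base with a dimension function (X locally Noetherian with universally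
catenary local rings, δ a dimension function). -/
theorem result (X : Scheme.{u}) (δ : X → ℤ) (hX : Cyc.IsSetup X δ) (U : X.Opens) (k : ℤ) (α β : AlgebraicCycle X ℤ) (hα : α ∈ Cyc.Zk X δ k) (hβ : β ∈ Cyc.Zk X δ k) (αU βU : AlgebraicCycle (↑U : Scheme.{u}) ℤ) (hαU : ∀ u : ↥U, αU u = α (U.ι u)) (hβU : ∀ u : ↥U, βU u = β (U.ι u)) (h : Cyc.RatEquiv (fun u : ↥U => δ (U.ι u)) k αU βU) : ∃ γ : AlgebraicCycle X ℤ, γ ∈ Cyc.Zk X δ k ∧ (∀ x : X, x ∈ U → γ x = 0) ∧ Cyc.RatEquiv δ k α (β + γ) := by
  obtain ⟨ι, ξ, f, hξ, hf, hlf, hsum⟩ := h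
  have := hX.1
  let g : (i : ι) → X.residueField (U.ι (ξ i)) := fun i => inv (U.ι.residueFieldMap (ξ i)) (f i)
  have hg : ∀ i, g i ≠ 0 := fun i => (map_ne_zero_iff _ (RingHom.injective _)).2 (hf i)
  have hlfX := Groth.Agent.Cyc90.locallyFinite_of_open U ξ hlf
  let D := Groth.Agent.Cyc90.divSum hX (fun i => U.ι (ξ i)) g hg hlfX
  have hD : ∀ x, D x = ∑ᶠ i, Cyc.divFun δ (U.ι (ξ i)) (g i) x := fun x => rfl
  refine ⟨α - β - D, fun x hx => ?_, fun x hx => ?_, ι, fun i => U.ι (ξ i), g, hξ, hg, hlfX,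
    fun x => ?_⟩
  · have h0 : D x = 0 := by
      rw [hD]
      refine finsum_eq_zero_of_forall_eq_zero fun i => ?_
      unfold Cyc.divFun
      rw [dif_neg]
      rintro ⟨-, hd⟩
      exact hx (by have : δ (U.ι (ξ i)) = k + 1 := hξ i; omega)
    simp [hα x hx, hβ x hx, h0]
  · let u : (↑U : Scheme.{u}) := ⟨x, hx⟩
    have h1 : D x = αU u - βU u := by
      have e0 : αU u - βU u = (αU - βU) u := rfl
      rw [hD, e0, hsum]
      refine finsum_congr fun i => ?_
      rw [show Cyc.divFun δ (U.ι (ξ i)) (g i) x = Cyc.divFun δ (U.ι (ξ i)) (g i) (U.ι u) from rfl,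
        Groth.Agent.Cyc90.divFun_preimmersion U.ι hX (ξ i) u (g i) (hg i)]
      congr 1
      exact congr($(IsIso.inv_hom_id (U.ι.residueFieldMap (ξ i))).hom (f i))
    rw [hαU, hβU] at h1
    change D x = α x - β x at h1
    simp [h1]
  · rw [← hD]
    change α x - (β x + (α x - β x - D x)) = D x
    ring

end Groth.Agent.S1863
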