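import Groth.Statements.S12141
import Groth.Agent.EGAProj74.RelBaseChange

set_option autoImplicit false
universe u
open CategoryTheory CategoryTheory.Limits AlgebraicGeometry TopologicalSpace Opposite
open scoped HomogeneousIdeal
noncomputable section
open EGA2

namespace Groth.Agent.S12141

/-- Let ψ : Y' → Y be a morphism of schemes, 𝒮 a quasi-coherent positively graded O_Y-algebra and 𝒮' =
ψ^*𝒮, presented as a quasi-coherent graded O_{Y'}-algebra with a graded ψ-morphism u : 𝒮 → ψ_*𝒮'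
whose squares over affine opens U' ⊆ ψ⁻¹(U) are pushouts of rings; let P = Proj(𝒮), P' = Proj(𝒮')
with their charts. Then the morphism Proj(u) : P' → P is everywhere defined (its open of definition
G(u) is P' and it exists, pinned on the standard affine charts), and any such morphism identifies P'
with the fibre product P ×_Y Y'. -/
theorem result {Y Y' P P' : Scheme.{u}} (ψ : Y' ⟶ Y)
    (𝒮 : RelProj.QCGrAlg Y) (𝒮' : RelProj.QCGrAlg Y') (u : RelProj.QGrHom ψ 𝒮 𝒮')
    (hu : RelSpec.IsQBaseChange u.toQHom)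
    (p : P ⟶ Y) (chart : ∀ (U : Y.Opens) (hU : IsAffineOpen U), (((p ⁻¹ᵁ U : P.Opens) : Scheme.{u}) ≅ Proj (𝒮.deg U hU)))
    (hP : RelProj.IsRelProj 𝒮 p chart)
    (p' : P' ⟶ Y') (chart' : ∀ (U : Y'.Opens) (hU : IsAffineOpen U), (((p' ⁻¹ᵁ U : P'.Opens) : Scheme.{u}) ≅ Proj (𝒮'.deg U hU)))
    (hP' : RelProj.IsRelProj 𝒮' p' chart') :
    (∃ h : P' ⟶ P, RelProj.IsProjQMap u p chart p' chart' h) ∧
      ∀ h : P' ⟶ P, RelProj.IsProjQMap u p chart p' chart' h → IsPullback h p' p ψ := by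
  have hpo : ∀ (U : Y.Opens) (hU : IsAffineOpen U) (U' : Y'.Opens) (hU' : IsAffineOpen U')
      (hle : U' ≤ ψ ⁻¹ᵁ U), _ := fun U hU U' hU' hle =>
    EGAProj74.isPushout_zero_form ψ (u.gradedAt_toRingHom U hU U' hU' hle) (hu U hU U' hU' hle)
  have hirr : ∀ (U : Y.Opens) (hU : IsAffineOpen U) (U' : Y'.Opens) (hU' : IsAffineOpen U')
      (hle : U' ≤ ψ ⁻¹ᵁ U), (𝒮'.deg U' hU')₊ ≤ ((𝒮.deg U hU)₊).map (u.gradedAt U hU U' hU' hle) :=
    fun U hU U' hU' hle => EGAProj74.irrelevant_le_map_of_pushout _ _ _ _ (hpo U hU U' hU' hle)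
  have htop : RelProj.domQ u p' chart' = ⊤ := by
    refine EGAProj74.domQ_eq_top u hP' fun s => ?_
    obtain ⟨U, hU, U', hU', hle, hs⟩ := EGAProj74.exists_pair ψ s
    exact ⟨U, hU, U', hU', hle, hs, EGAProj74.domOpen_eq_top_of_le _ (hirr U hU U' hU' hle)⟩
  refine ⟨(EGAProj74.existsUnique_projQMap u hP hP' htop).exists, fun h hh => ?_⟩
  refine EGAProj74.isPullback_of_charts ψ _ hpo hP hP' hirr h fun U hU U' hU' hle => ?_
  have : IsIso (RelCone.domOpen (u.gradedAt U hU U' hU' hle)).ι := by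
    rw [EGAProj74.domOpen_eq_top_of_le _ (hirr U hU U' hU' hle)]
    exact inferInstanceAs (IsIso (Scheme.topIso _).hom)
  rw [← cancel_epi (RelCone.domOpen (u.gradedAt U hU U' hU' hle)).ι,
    ← Category.assoc, ← Category.assoc, EGAProj74.ι_map_eq_domMap, ← EGAProj74.qι_ι u, Category.assoc]
  exact (EGAProj74.isProjQMapOn_iff u).mp ((EGAProj74.isProjQMap_iff u).mp hh).2 U hU U' hU' hle

end Groth.Agent.S12141
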