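import Groth.Statements.S9708
import Groth.Agent.EGA73.QuasiProjective

set_option autoImplicit false
universe u
open CategoryTheory CategoryTheory.Limits AlgebraicGeometry
open Mor

namespace Groth.Agent.S9708

/-- Let S be quasi-compact and quasi-separated and let f : X ⟶ Y and g : Y ⟶ S be projective. Then f ≫ g
is projective. Here projective means that the source is isomorphic over the target to the relative
Proj of a quasi-coherent graded algebra generated by its finite-type degree-one part; the published
definition uses closed subschemes of P(E) with E of finite type, an equivalent condition. -/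
theorem result {X Y S : Scheme.{u}} [CompactSpace ↥S] [QuasiSeparatedSpace ↥S]
    (f : X ⟶ Y) (g : Y ⟶ S) (hf : RelProj.IsProjective f) (hg : RelProj.IsProjective g) :
    RelProj.IsProjective (f ≫ g) := by
  obtain ⟨hq, hp⟩ := S4418.result f hf
  obtain ⟨hq', hp'⟩ := S4418.result g hg
  obtain ⟨_, _, L, hL⟩ := hq
  obtain ⟨_, _, K, hK⟩ := hq'
  obtain ⟨n₀, -, h⟩ := EGA73.RelAmpleComp.eventually_isRelAmple_comp f g hL hK
  exact EGA73.QuasiProjective.isProjective_of_isProper (Or.inl inferInstance) (f ≫ g)
    ⟨inferInstance, inferInstance, _, h n₀ le_rfl⟩

end Groth.Agent.S9708
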