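import Groth.Statements.S1945
import Groth.Agent.Cyc90.GysinPull
import Groth.Agent.Cyc90.RelDimShift
import Groth.Agent.Cyc90.ClosureSub

set_option autoImplicit false
universe u
open CategoryTheory AlgebraicGeometry
open CategoryTheory.Limits
open Cyc

namespace Groth.Agent.S1945

/-- Let p : X → Y be flat, locally of finite type, of relative dimension r + 1, and i : D → X the zero
scheme of a global section s of an invertible module L which is a nonzerodivisor at every stalk,
with D → Y flat of relative dimension r (a relative effective Cartier divisor). Then for a (k +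
1)-cycle α on Y, i^*(p^*α) ∼_rat (p|_D)^*α as (k + r + 1)-cycles on D, flat pullbacks taken
coefficientwise. (The companion formula c_1(L) ∩ p^*α = i_*((p|_D)^*α) is not stated here.) Here i :
D → X is the zero scheme of a global section s of the invertible module L (Cyc.IsZeroSchemeOf), the
Gysin map i^* : Z_{k+1}(X) → CH_k(D) is computed on coefficient functions as c_1(L) ∩ − with the
rational sections taken to be s where it is nonzero (Cyc.gysinChoice) and restricted to the points
of D, and classes on D are compared up to rational equivalence on D for the restricted dimension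
function. A pair (X, δ) with Cyc.IsSetup plays the role of a scheme locally of finite type over a
base with a dimension function (X locally Noetherian with universally catenary local rings, δ a
dimension function), and Cyc.DeltaCompat records that the dimension function upstairs is the induced
one. -/
theorem result (X Y D : Scheme.{u}) (δX : X → ℤ) (δY : Y → ℤ) (hX : Cyc.IsSetup X δX) (hY : Cyc.IsSetup Y δY) (p : X ⟶ Y) [Flat p] [LocallyOfFiniteType p] (r : ℕ) (hr : Cyc.HasRelDim p (r + 1)) (hδ : Cyc.DeltaCompat p δX δY) (L : X.Modules) (hL : PicF.IsInvertible L) (s : L.presheaf.obj (Opposite.op ⊤)) (hreg : ∀ x : X, Function.Injective (fun a : X.presheaf.stalk x => a • (L.presheaf.germ ⊤ x trivial) s)) (i : D ⟶ X) [IsClosedImmersion i] (hD : Cyc.IsZeroSchemeOf i L s) [Flat (i ≫ p)] (hrD : Cyc.HasRelDim (i ≫ p) r) (k : ℤ) (α : AlgebraicCycle Y ℤ) (hα : α ∈ Cyc.Zk Y δY (k + 1)) (w : (ξ : X) → Cyc.secFibre L ξ) (hw : ∀ ξ, w ξ ≠ 0) (γ ζ : AlgebraicCycle D ℤ) (hγ : ∀ d, γ d = Cyc.c1CapFun δX L (Cyc.pullFun p δX δY (r + 1) ⇑α) (Cyc.gysinChoice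 L s w) (i d)) (hζ : ⇑ζ = Cyc.pullFun (i ≫ p) (fun d => δX (i d)) δY r ⇑α) : Cyc.RatEquiv (fun d => δX (i d)) (k + r + 1) γ ζ := by
  have hδD : Cyc.DeltaCompat (i ≫ p) (fun d => δX (i d)) δY := by
    intro d
    obtain ⟨n, hn, hd⟩ := hδ (i d)
    refine ⟨n, ?_, hd⟩
    letI a1 : Algebra (Y.residueField ((i ≫ p) d)) (X.residueField (i d)) :=
      (p.residueFieldMap (i d)).hom.toAlgebra
    letI a3 : Algebra (Y.residueField ((i ≫ p) d)) (D.residueField d) :=
      ((i ≫ p).residueFieldMap d).hom.toAlgebra
    refine Eq.trans ?_ hn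
    refine (AlgEquiv.trdeg_eq (AlgEquiv.ofBijective ⟨(i.residueFieldMap d).hom, fun c => ?_⟩
      ⟨RingHom.injective _, Cyc90.residueFieldMap_surjective i d⟩)).symm
    exact (DFunLike.congr_fun (congrArg CommRingCat.Hom.hom (Scheme.residueFieldMap_comp i p d)) c).symm
  have hc : Cyc90.ShiftAt p δX δY ((r : ℤ) + 1) := fun x hx => by
    have := Cyc90.shiftAt_of_hasRelDim p hr hδ x hx
    push_cast at this
    exact this
  have h : γ = ζ := DFunLike.ext _ _ fun d => by
    rw [hγ, hζ]
    exact Cyc90.c1Cap_gysinChoice_pullFun hX hY p r hc hL hreg i hD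
      (Cyc90.shiftAt_of_hasRelDim (i ≫ p) hrD hδD) k ⇑α hα w d
  subst h
  unfold Cyc.RatEquiv
  rw [sub_self]
  exact ⟨PEmpty, fun i => i.elim, fun i => i.elim, fun i => i.elim, fun i => i.elim,
    fun x => ⟨Set.univ, isOpen_univ, trivial, Set.toFinite _⟩,
    fun x => by rw [finsum_of_isEmpty]; rfl⟩

end Groth.Agent.S1945
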