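import Groth.Statements.S1868
import Groth.Agent.Cyc90.FlatFinFibre
import Groth.Agent.Cyc90.PushDiv

set_option autoImplicit false
universe u
open CategoryTheory AlgebraicGeometry
open Cyc

namespace Groth.Agent.S1868

/-- Let f : X → Y be finite locally free of constant degree d (finite, flat, rank function constantly
d). Then f has relative dimension 0 and for every k-cycle α on Y, f_*(f^*α) = d·α (for any cycle
f^*α on X with the flat-pullback coefficients). Here a pair (X, δ) with Cyc.IsSetup plays the role
of a scheme locally of finite type over a fixed base with a dimension function (X locally Noetherian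
with universally catenary local rings, δ a dimension function), and Cyc.DeltaCompat records that the
dimension function upstairs is the induced one. -/
theorem result (X Y : Scheme.{u}) (δX : X → ℤ) (δY : Y → ℤ) (hX : Cyc.IsSetup X δX) (hY : Cyc.IsSetup Y δY) (f : X ⟶ Y) [IsFinite f] [Flat f] (d : ℕ) (hd : ∀ y : Y, f.finrank y = d) (hδ : Cyc.DeltaCompat f δX δY) (k : ℤ) : Cyc.HasRelDim f 0 ∧ ∀ (α : AlgebraicCycle Y ℤ), α ∈ Cyc.Zk Y δY k → ∀ α' : AlgebraicCycle X ℤ, ⇑α' = Cyc.pullFun f δX δY 0 ⇑α → AlgebraicCycle.map f δX δY α' = d • α := by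
  refine ⟨Groth.Agent.Cyc90.hasRelDim_zero_of_finite f, fun α _ α' hα' => ?_⟩
  have := hY.1
  ext y
  obtain ⟨-, hne, hsum⟩ := Groth.Agent.Cyc90.finite_flat_fibre f y
  rw [hd] at hsum
  rw [Groth.Agent.Cyc90.map_apply_eq]
  have hterm : ∀ x ∈ f ⁻¹' {y}, α' x * (if δX x = δY (f x) then (f.residueDegree x : ℤ) else 0) =
      α y * ((f.residueDegree x * (Module.length (X.presheaf.stalk x) (X.presheaf.stalk x ⧸
        (IsLocalRing.maximalIdeal (Y.presheaf.stalk (f x))).map (f.stalkMap x).hom)).toNat : ℕ) : ℤ) := by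
    intro x hx
    have hδx := Groth.Agent.Cyc90.delta_eq_of_residueDegree_ne_zero f hδ x (hne x hx)
    have hy : f x = y := hx
    rw [hα', Cyc.pullFun, if_pos (by rw [hδx, add_zero]), if_pos hδx, ← hy]
    push_cast
    ring
  have hfin := (Groth.Agent.Cyc90.finite_flat_fibre f y).1
  rw [finsum_mem_congr rfl hterm, finsum_mem_eq_finite_toFinset_sum _ hfin, ← Finset.mul_sum, ← Nat.cast_sum,
    ← finsum_mem_eq_finite_toFinset_sum _ hfin, hsum]
  simp [mul_comm]

end Groth.Agent.S1868
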