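import Groth.Statements.S10864
import Groth.Agent.Var76.HomAvoid
import Groth.Agent.Var76.FibreBound
import Groth.Agent.E4O.QuasiSectionEquidim
import Groth.Agent.EGAProj74.Dom
import Groth.Agent.Curves2.ProjLineProper
import Groth.Agent.Curves2.ProjLine
import Groth.Agent.S10829
import Mathlib.GroupTheory.CosetCover

set_option autoImplicit false
universe u
open Variety

namespace Groth.Agent.S10864

open CategoryTheory AlgebraicGeometry in
open CategoryTheory
open CategoryTheory AlgebraicGeometry TopologicalSpace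
open Groth.Agent
open Groth.Agent.WC97 (tdegN)

set_option backward.isDefEq.respectTransparency false

theorem exists_linear {k : Type u} [Field k] [Infinite k] {n : ℕ}
    (P : Finset (ProjectiveSpectrum (CohB1.polyGrading n k))) :
    ∃ l ∈ CohB1.polyGrading n k 1, ∀ p ∈ P, l ∉ p.asHomogeneousIdeal := by
  classical
  let V := CohB1.polyGrading n k 1
  let W : P → Subspace k V := fun p =>
    (p.1.asHomogeneousIdeal.toIdeal.restrictScalars k).comap V.subtype
  by_contra hne
  push Not at hne
  have hcov : ⋃ p, (W p : Set V) = Set.univ := Set.eq_univ_of_forall fun v => by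
    obtain ⟨p, hp, hv⟩ := hne v.1 v.2
    exact Set.mem_iUnion.2 ⟨⟨p, hp⟩, hv⟩
  obtain ⟨p, hp⟩ := Subspace.exists_eq_top_of_iUnion_eq_univ hcov
  obtain ⟨d, a, hd, ha, hap⟩ := Var76.HomAvoid.exists_pos_notMem p.1
  have hX : ∀ i, MvPolynomial.X i ∈ p.1.asHomogeneousIdeal.toIdeal := fun i => by
    have h : (⟨MvPolynomial.X i, MvPolynomial.isHomogeneous_X k i⟩ : V) ∈ W p := hp ▸ trivial
    exact h
  exact hap (VarGal.vertexIdeal_le (I := p.1.asHomogeneousIdeal.toIdeal) hX
    (VarGal.mem_vertexIdeal_of_isHomogeneous ha hd))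

/-- Linear forms without common zero. -/
theorem exists_forms {k : Type u} [Field k] [Infinite k] {n : ℕ} {X : Scheme.{u}}
    (ι : X ⟶ CohB1.ProjSpace n k) [LocallyOfFiniteType (ι ≫ CohB1.ProjSpace.toSpec n k)]
    [QuasiCompact (ι ≫ CohB1.ProjSpace.toSpec n k)] (d : ℕ) (hd : topologicalKrullDim X = d) :
    ∃ l : Fin (d + 1) → MvPolynomial (Fin (n + 1)) k, (∀ i, (l i).IsHomogeneous 1) ∧
      ∀ x : X, ∃ i, ι x ∈ Proj.basicOpen (CohB1.polyGrading n k) (l i) := by
  classical
  let 𝒜 := CohB1.polyGrading n k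
  let q := ι ≫ CohB1.ProjSpace.toSpec n k
  have : NoetherianSpace X := Var76.FibreBound.noetherianSpace q
  let D : MvPolynomial (Fin (n + 1)) k → (CohB1.ProjSpace n k).Opens := fun g => Proj.basicOpen 𝒜 g
  have key : ∀ j : ℕ, j ≤ d + 1 → ∃ g : Fin j → MvPolynomial (Fin (n + 1)) k,
      (∀ l, (g l).IsHomogeneous 1) ∧ ∀ x : X, (∀ l, ι x ∉ D (g l)) → tdegN q x + j ≤ d := by
    intro j
    induction j with
    | zero =>
      intro _
      refine ⟨Fin.elim0, fun l => l.elim0, fun x _ => ?_⟩
      have h := (Var76.FibreBound.tdegN_le_dim q x).trans hd.le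
      simpa using (Nat.cast_le.1 (by exact_mod_cast h) : tdegN q x ≤ d)
    | succ j ih =>
      intro hj
      obtain ⟨g, hg1, hg3⟩ := ih (by omega)
      let S : Set X := ⋂ l, (ι ⁻¹' (D (g l) : Set ↥(CohB1.ProjSpace n k)))ᶜ
      have hS : IsClosed S := isClosed_iInter fun l => ((D (g l)).2.preimage ι.continuous).isClosed_compl
      obtain ⟨C, hCf, hCc, hCi, hCeq⟩ := NoetherianSpace.exists_finite_set_isClosed_irreducible hS
      have hgp : ∀ t : C, ∃ η, IsGenericPoint η (t : Set X) := fun t => QuasiSober.sober (hCi t t.2) (hCc t t.2)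
      choose η hη using hgp
      have := hCf.to_subtype
      have := Fintype.ofFinite C
      obtain ⟨h, hh, hhP⟩ := exists_linear (Finset.univ.image fun t : C =>
        (show ProjectiveSpectrum 𝒜 from ι (η t)))
      refine ⟨Fin.cons h g, ?_, ?_⟩
      · intro l
        induction l using Fin.cases with
        | zero => exact hh
        | succ l => simpa using hg1 l
      · intro x hx
        have hxS : x ∈ S := Set.mem_iInter.2 fun l => by simpa using hx l.succ
        rw [hCeq] at hxS
        obtain ⟨t, htC, hxt⟩ := hxS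
        have hsp : η ⟨t, htC⟩ ⤳ x := (hη ⟨t, htC⟩).specializes hxt
        have hηS : η ⟨t, htC⟩ ∈ S := by rw [hCeq]; exact ⟨t, htC, (hη ⟨t, htC⟩).mem⟩
        have hle := hg3 _ fun l => Set.mem_iInter.1 hηS l
        have hne : η ⟨t, htC⟩ ≠ x := by
          rintro rfl
          have h0 := hx 0
          rw [Fin.cons_zero] at h0
          exact h0 ((Proj.mem_basicOpen 𝒜 _ _).2 (hhP _ (Finset.mem_image.2 ⟨⟨t, htC⟩, Finset.mem_univ _, rfl⟩)))
        have hlt := Var76.FibreBound.tdegN_lt q hsp hne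
        omega
  obtain ⟨g, hg1, hg3⟩ := key (d + 1) le_rfl
  refine ⟨g, hg1, fun x => ?_⟩
  by_contra hz
  push Not at hz
  have := hg3 x hz
  omega

/-- Let k be an infinite field and X a closed subscheme of projective n-space over k, of dimension d
(topological Krull dimension, a natural number). Then there is a finite surjective morphism X →
P^d_k over k. -/
theorem result (k : Type u) [Field k] [Infinite k] (X : Scheme.{u})
    (n : ℕ) (ι : X ⟶ CohB1.ProjSpace n k) [IsClosedImmersion ι] (d : ℕ) (hd : topologicalKrullDim X = d) :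
    ∃ π : X ⟶ CohB1.ProjSpace d k, π ≫ CohB1.ProjSpace.toSpec d k = ι ≫ CohB1.ProjSpace.toSpec n k ∧
      IsFinite π ∧ Surjective π := by
  classical
  let qn := CohB1.ProjSpace.toSpec n k
  let qd := CohB1.ProjSpace.toSpec d k
  have : IsProper qn := Curves2.ProjLine.isProper_toSpec k n
  have : IsProper qd := Curves2.ProjLine.isProper_toSpec k d
  have : IsIntegral (CohB1.ProjSpace d k) := Curves2.ProjLine.isIntegral k d
  obtain ⟨l, hl, hcov⟩ := exists_forms ι d hd
  let φ : MvPolynomial (Fin (d + 1)) k →ₐ[k] MvPolynomial (Fin (n + 1)) k := MvPolynomial.aeval l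
  let ψ : CohB1.polyGrading d k →+*ᵍ CohB1.polyGrading n k :=
    { toRingHom := φ.toRingHom
      map_mem := fun {i x} hx => by
        have h := MvPolynomial.IsHomogeneous.aeval (R := k) (show MvPolynomial.IsHomogeneous x i from hx) l hl
        rw [one_mul] at h
        exact h }
  have hψX : ∀ i, ψ (MvPolynomial.X i) = l i := fun i => MvPolynomial.aeval_X l i
  have hdom : Set.range ι ⊆ Set.range (RelCone.domOpen ψ).ι := by
    rw [Scheme.Opens.range_ι]
    rintro _ ⟨x, rfl⟩
    obtain ⟨i, hi⟩ := hcov x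
    rw [← hψX i] at hi
    exact EGAProj74.basicOpen_le_domOpen ψ one_pos (MvPolynomial.isHomogeneous_X k i) hi
  let π₀ := IsOpenImmersion.lift (RelCone.domOpen ψ).ι ι hdom
  have hπ₀ : π₀ ≫ (RelCone.domOpen ψ).ι = ι := IsOpenImmersion.lift_fac _ _ _
  let π : X ⟶ CohB1.ProjSpace d k := π₀ ≫ EGAProj74.domMap ψ
  have hπ : π ≫ qd = ι ≫ qn := by
    show (π₀ ≫ EGAProj74.domMap ψ) ≫ Proj.toSpecZero _ ≫ Spec.map _ = _
    rw [Category.assoc, ← Category.assoc (EGAProj74.domMap ψ), EGAProj74.domMap_toSpecZero]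
    simp only [Category.assoc]
    rw [← Spec.map_comp, ← Category.assoc π₀, hπ₀]
    show _ = ι ≫ Proj.toSpecZero _ ≫ Spec.map _
    congr 3
    ext r
    exact congrArg (MvPolynomial.coeff _) (MvPolynomial.aeval_C l r)
  refine ⟨π, hπ, ?_⟩
  have hprop : IsProper (π ≫ qd) := hπ ▸ inferInstance
  have : IsProper π := IsProper.of_comp π qd
  have : IsClosedImmersion (π₀ ≫ (RelCone.domOpen ψ).ι) := hπ₀ ▸ inferInstance
  have : IsClosedImmersion π₀ := IsClosedImmersion.of_comp π₀ (RelCone.domOpen ψ).ι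
  have : IsAffineHom π := inferInstanceAs (IsAffineHom (π₀ ≫ EGAProj74.domMap ψ))
  have hfin : IsFinite π := IsFinite.iff_isProper_and_isAffineHom.2 ⟨inferInstance, inferInstance⟩
  refine ⟨hfin, ⟨?_⟩⟩
  have : Nonempty X := by
    by_contra hne
    rw [not_nonempty_iff] at hne
    have hb : topologicalKrullDim X = ⊥ := Order.krullDim_eq_bot_iff.2
      ⟨fun Z => hne.elim Z.isIrreducible.nonempty.choose⟩
    rw [hb] at hd
    exact WithBot.bot_ne_coe hd
  have : LocallyOfFiniteType (ι ≫ qn) := inferInstance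
  have : NoetherianSpace X := Var76.FibreBound.noetherianSpace (ι ≫ qn)
  obtain ⟨x, -, hx⟩ := Var76.FibreBound.exists_tdegN_eq_dim (ι ≫ qn) (X := X)
  rw [hd] at hx
  have hfd : E4O.fdeg π x = 0 := E4O.fdeg_eq_zero_of_closed_in_fibre (f := π) fun x' hx' hsp => by
    have hdisc := (π.isDiscrete_preimage_singleton (π x)).to_subtype
    have h2 : (⟨x, rfl⟩ : π ⁻¹' {π x}) ⤳ (⟨x', hx'⟩ : π ⁻¹' {π x}) :=
      Topology.IsEmbedding.subtypeVal.isInducing.specializes_iff.1 hsp
    exact (congrArg Subtype.val h2.eq).symm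
  have hadd := Var76.FibreBound.tdegN_eq_add (qX := ι ≫ qn) (qY := qd) π hπ x
  rw [hfd, add_zero, ← show d = tdegN (ι ≫ qn) x by exact_mod_cast hx] at hadd
  have hgen : π x = genericPoint (CohB1.ProjSpace d k) := by
    have hsp : genericPoint (CohB1.ProjSpace d k) ⤳ π x := (genericPoint_spec _).specializes trivial
    refine (Var76.FibreBound.eq_of_tdegN_le qd hsp ?_).symm
    rw [← hadd]
    have h := (Var76.FibreBound.tdegN_le_dim qd (genericPoint (CohB1.ProjSpace d k))).trans
      (Groth.Agent.S10829.result k d).le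
    exact_mod_cast h
  intro z
  exact π.isClosedMap.isClosed_range.stableUnderSpecialization ((genericPoint_spec _).specializes trivial)
    ⟨x, hgen⟩

end Groth.Agent.S10864
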