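import Groth.Statements.S14457
import Mathlib.RingTheory.Etale.StandardEtale
import Mathlib.Algebra.TrivSqZeroExt.Ideal
import Mathlib.RingTheory.Unramified.Basic
import Mathlib.FieldTheory.IsAlgClosed.AlgebraicClosure
import Mathlib.RingTheory.Localization.Away.Basic

set_option autoImplicit false
universe u
open CAlg

namespace Groth.Agent.S14457

open Polynomial

open Polynomial in
/-- Let A be a commutative ring, a an element of A and n ≥ 1 an integer. The A-algebra A[T]/(T^n − a) is
etale exactly when either n = 1 or the product n·a is a unit of A. (The exponent n is a positive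
integer here; for n = 0 the quotient is (A/(1 − a))[T] and the equivalence fails.) -/
theorem result (A : Type u) [CommRing A] (a : A) (n : ℕ) (hn : 1 ≤ n) :
    Algebra.Etale A (AdjoinRoot ((X : A[X]) ^ n - C a)) ↔ n = 1 ∨ IsUnit ((n : A) * a) := by
  constructor
  · intro h
    by_contra hcon
    rw [not_or] at hcon
    obtain ⟨hn1, hu⟩ := hcon
    obtain ⟨m, hm, hmem⟩ := exists_max_ideal_of_mem_nonunits hu
    haveI := hm
    letI : Field (A ⧸ m) := Ideal.Quotient.field m
    let k' := AlgebraicClosure (A ⧸ m)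
    let φ : A →+* k' := (algebraMap (A ⧸ m) k').comp (Ideal.Quotient.mk m)
    letI : Algebra A k' := φ.toAlgebra
    have hna : (n : k') * φ a = 0 := by
      have : φ ((n : A) * a) = 0 := by
        show algebraMap (A ⧸ m) k' (Ideal.Quotient.mk m _) = 0
        rw [Ideal.Quotient.eq_zero_iff_mem.2 hmem, map_zero]
      rwa [map_mul, map_natCast] at this
    obtain ⟨x, hx⟩ := IsAlgClosed.exists_pow_nat_eq (φ a) (Nat.lt_of_lt_of_le Nat.zero_lt_one hn)
    have hder : (n : k') * x ^ (n - 1) = 0 := by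
      rcases mul_eq_zero.1 hna with h0 | h0
      · rw [h0, zero_mul]
      · rw [h0] at hx
        rw [(pow_eq_zero_iff (by omega)).1 hx, zero_pow (by omega), mul_zero]
    let T := TrivSqZeroExt k' k'
    let y : T := TrivSqZeroExt.inl x + TrivSqZeroExt.inr 1
    have hy : aeval y ((X : A[X]) ^ n - C a) = 0 := by
      rw [map_sub, map_pow, aeval_X, aeval_C, sub_eq_zero]
      apply TrivSqZeroExt.ext
      · rw [TrivSqZeroExt.fst_pow]
        simp [y, T, TrivSqZeroExt.algebraMap_eq_inl', hx]
        rfl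
      · rw [TrivSqZeroExt.snd_pow]
        simp [y, T, TrivSqZeroExt.algebraMap_eq_inl', hder]
    have hx' : aeval (TrivSqZeroExt.inl x : T) ((X : A[X]) ^ n - C a) = 0 := by
      rw [map_sub, map_pow, aeval_X, aeval_C, sub_eq_zero, TrivSqZeroExt.algebraMap_eq_inl',
        ]
      rw [show algebraMap A k' a = x ^ n from hx.symm]
      exact (map_pow (TrivSqZeroExt.inlHom k' k') x n).symm
    let g₁ : AdjoinRoot ((X : A[X]) ^ n - C a) →ₐ[A] T :=
      AdjoinRoot.liftAlgHom _ (Algebra.ofId A T) y hy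
    let g₂ : AdjoinRoot ((X : A[X]) ^ n - C a) →ₐ[A] T :=
      AdjoinRoot.liftAlgHom _ (Algebra.ofId A T) (TrivSqZeroExt.inl x) hx'
    have hg : g₁ = g₂ := by
      refine Algebra.FormallyUnramified.ext (I := TrivSqZeroExt.kerIdeal k' k')
        ⟨2, TrivSqZeroExt.kerIdeal_sq k' k'⟩ fun s => ?_
      obtain ⟨p, rfl⟩ := AdjoinRoot.mk_surjective s
      rw [Ideal.Quotient.eq]
      show TrivSqZeroExt.fstHom k' k' k' _ = 0
      rw [map_sub, sub_eq_zero]
      let F : T →ₐ[A] k' := (TrivSqZeroExt.fstHom k' k' k').restrictScalars A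
      show F (g₁ _) = F (g₂ _)
      have : F.comp g₁ = F.comp g₂ := AdjoinRoot.algHom_ext (by
        show (g₁ (AdjoinRoot.root _)).fst = (g₂ (AdjoinRoot.root _)).fst
        erw [AdjoinRoot.liftAlgHom_root, AdjoinRoot.liftAlgHom_root]
        show (TrivSqZeroExt.inl x + TrivSqZeroExt.inr 1 : TrivSqZeroExt k' k').fst =
          (TrivSqZeroExt.inl x : TrivSqZeroExt k' k').fst
        rw [TrivSqZeroExt.fst_add, TrivSqZeroExt.fst_inr, add_zero])
      exact DFunLike.congr_fun this _
    have := congrArg TrivSqZeroExt.snd (DFunLike.congr_fun hg (AdjoinRoot.root _))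
    erw [AdjoinRoot.liftAlgHom_root, AdjoinRoot.liftAlgHom_root] at this
    change (TrivSqZeroExt.inl x + TrivSqZeroExt.inr 1 : TrivSqZeroExt k' k').snd =
      (TrivSqZeroExt.inl x : TrivSqZeroExt k' k').snd at this
    rw [TrivSqZeroExt.snd_add, TrivSqZeroExt.snd_inl, TrivSqZeroExt.snd_inr, zero_add] at this
    exact one_ne_zero this
  · intro h
    set f : A[X] := X ^ n - C a with hf
    have hder : derivative f = C (n : A) * X ^ (n - 1) := by
      rw [hf, derivative_sub, derivative_X_pow, derivative_C, sub_zero]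
    obtain ⟨p₁, p₂, hp⟩ : ∃ p₁ p₂, derivative f * p₁ + f * p₂ = 1 := by
      rcases h with rfl | h
      · exact ⟨1, 0, by rw [hder]; simp⟩
      · refine ⟨C ((h.unit⁻¹ : Aˣ) : A) * X, -(C (((h.unit⁻¹ : Aˣ) : A) * (n : A))), ?_⟩
        have e : (((h.unit⁻¹ : Aˣ) : A) : A) * ((n : A) * a) = 1 := h.val_inv_mul
        have hpow : X ^ (n - 1) * (X : A[X]) = X ^ n := by
          rw [← pow_succ, Nat.sub_add_cancel hn]
        calc derivative f * (C ((h.unit⁻¹ : Aˣ) : A) * X) + f * -(C (((h.unit⁻¹ : Aˣ) : A) * (n : A)))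
            = C (((h.unit⁻¹ : Aˣ) : A) * (n : A)) * (X ^ (n - 1) * X) - f * C (((h.unit⁻¹ : Aˣ) : A) * (n : A)) := by
              rw [hder, map_mul]; ring
          _ = C (((h.unit⁻¹ : Aˣ) : A) * (n : A)) * C a := by rw [hpow, hf]; ring
          _ = 1 := by rw [← map_mul, mul_assoc, e, map_one]
    let P : StandardEtalePair A :=
      ⟨f, monic_X_pow_sub_C a (by omega), 1, p₁, p₂, 0, by rw [hp, pow_zero]⟩
    haveI : IsLocalization.Away (AdjoinRoot.mk P.f P.g) (AdjoinRoot P.f) := by
      rw [show AdjoinRoot.mk P.f P.g = 1 from map_one _]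
      exact IsLocalization.of_le_isUnit fun (x : AdjoinRoot P.f) (hx : x ∈ Submonoid.powers 1) => by
        obtain ⟨i, rfl⟩ := hx
        simp
    let e : P.Ring ≃ₐ[A] AdjoinRoot f :=
      P.equivAwayAdjoinRoot.trans (((IsLocalization.algEquiv (Submonoid.powers (AdjoinRoot.mk P.f P.g))
        (Localization.Away (AdjoinRoot.mk P.f P.g)) (AdjoinRoot P.f))).restrictScalars A)
    exact Algebra.Etale.of_equiv e

end Groth.Agent.S14457
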