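import Groth.Statements.S6501
import Mathlib.RingTheory.DividedPowers.Padic

set_option autoImplicit false
universe u
open DPow

namespace Groth.Agent.S6501

theorem eq_of_factorial_mul {A : Type u} [CommRing A] [IsAddTorsionFree A] (n : ℕ) {a b : A}
    (h : (n.factorial : A) * a = (n.factorial : A) * b) : a = b := by
  rw [← nsmul_eq_mul, ← nsmul_eq_mul] at h
  exact IsAddTorsionFree.nsmul_right_injective n.factorial_ne_zero h

theorem add_stable {A : Type u} [CommRing A] (I : Ideal A) {x z : A}
    (hx : ∀ n : ℕ, 1 ≤ n → ∃ y ∈ I, (n.factorial : A) * y = x ^ n)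
    (hz : ∀ n : ℕ, 1 ≤ n → ∃ y ∈ I, (n.factorial : A) * y = z ^ n) (n : ℕ) (hn : 1 ≤ n) :
    ∃ y ∈ I, (n.factorial : A) * y = (x + z) ^ n := by
  have h : ∀ k ∈ Finset.range (n + 1), ∃ y ∈ I,
      (n.factorial : A) * y = x ^ k * z ^ (n - k) * (n.choose k : A) := by
    intro k hk
    rw [Finset.mem_range] at hk
    rcases Nat.eq_zero_or_pos k with rfl | hk0
    · obtain ⟨y, hy, hy'⟩ := hz n hn
      exact ⟨y, hy, by simp [hy']⟩
    rcases Nat.lt_or_eq_of_le (Nat.lt_succ_iff.mp hk) with hkn | rfl
    · obtain ⟨u, hu, hu'⟩ := hx k hk0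
      obtain ⟨v, hv, hv'⟩ := hz (n - k) (by omega)
      refine ⟨u * v, I.mul_mem_right _ hu, ?_⟩
      rw [← hu', ← hv', ← Nat.choose_mul_factorial_mul_factorial hkn.le, Nat.cast_mul, Nat.cast_mul]
      ring
    · obtain ⟨y, hy, hy'⟩ := hx k hn
      exact ⟨y, hy, by simp [hy']⟩
  choose! y hy hy' using h
  refine ⟨∑ k ∈ Finset.range (n + 1), y k, I.sum_mem hy, ?_⟩
  rw [Finset.mul_sum, add_pow]
  exact Finset.sum_congr rfl hy'

/-- Let A be a commutative ring whose additive group is torsion free and I an ideal of A. Then I carries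
at most one divided power structure, and it carries one if and only if I is generated by a set S
such that for every x in S and every n ≥ 1 the power x^n lies in the ideal generated by the products
of n! with elements of I. -/
theorem result {A : Type u} [CommRing A] [IsAddTorsionFree A] (I : Ideal A) :
    Subsingleton (DividedPowers I) ∧
    (Nonempty (DividedPowers I) ↔ ∃ S : Set A, Ideal.span S = I ∧
      ∀ x ∈ S, ∀ n : ℕ, 1 ≤ n → x ^ n ∈ Ideal.span {(Nat.factorial n : A)} * I) := by
  refine ⟨⟨fun h h' => DividedPowers.ext h h' fun {n x} hx =>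
    eq_of_factorial_mul n (by rw [h.factorial_mul_dpow_eq_pow hx, h'.factorial_mul_dpow_eq_pow hx])⟩,
    fun ⟨h⟩ => ⟨I, Ideal.span_eq I, fun x hx n hn => Ideal.mem_span_singleton_mul.mpr
      ⟨h.dpow n x, h.dpow_mem (by omega) hx, h.factorial_mul_dpow_eq_pow hx⟩⟩, ?_⟩
  rintro ⟨S, hS, hS'⟩
  classical
  have hfac : ∀ x ∈ I, ∀ n : ℕ, 1 ≤ n → ∃ y ∈ I, (n.factorial : A) * y = x ^ n := by
    intro x hx
    rw [← hS] at hx
    induction hx using Submodule.span_induction with
    | mem z hz => exact fun n hn => Ideal.mem_span_singleton_mul.mp (hS' z hz n hn)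
    | zero => exact fun n hn => ⟨0, I.zero_mem, by rw [mul_zero, zero_pow (by omega)]⟩
    | add z w _ _ hz hw => exact fun n hn => add_stable I hz hw n hn
    | smul a z _ hz =>
      intro n hn
      obtain ⟨y, hy, hy'⟩ := hz n hn
      exact ⟨a ^ n * y, I.mul_mem_left _ hy, by rw [smul_eq_mul, mul_pow, ← hy']; ring⟩
  let M : Submonoid A := (nonZeroDivisors ℕ).map (Nat.castRingHom A).toMonoidHom
  let B := Localization M
  have hM : M ≤ nonZeroDivisors A := by
    rintro _ ⟨n, hn, rfl⟩
    rw [mem_nonZeroDivisors_iff_right]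
    intro z hz
    refine IsAddTorsionFree.nsmul_right_injective (M := A) (nonZeroDivisors.ne_zero hn) ?_
    simp only [nsmul_eq_mul, mul_zero]
    rw [mul_comm]
    exact hz
  have hunit : ∀ n : ℕ, n ≠ 0 → IsUnit (algebraMap A B (n : A)) := fun n hn =>
    IsLocalization.map_units B (⟨(n : A), n, mem_nonZeroDivisors_iff_ne_zero.mpr hn, rfl⟩ : M)
  letI : Algebra ℚ B := RingHom.toAlgebra (IsLocalization.lift (M := nonZeroDivisors ℤ)
    (g := Int.castRingHom B) fun z => by
      have hz : (z : ℤ) ≠ 0 := nonZeroDivisors.ne_zero z.2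
      have h := hunit (z : ℤ).natAbs (Int.natAbs_ne_zero.mpr hz)
      rw [map_natCast] at h
      rcases Int.natAbs_eq (z : ℤ) with e | e <;> rw [e]
      · rw [map_natCast]; exact h
      · rw [map_neg, map_natCast]; exact h.neg)
  refine ⟨DividedPowers.ofInjective I (I.map (algebraMap A B)) (algebraMap A B)
    (IsLocalization.injective B hM) (DividedPowers.RatAlgebra.dividedPowers _) rfl fun n x hx => ?_⟩
  have hinv : Ring.inverse (n.factorial : B) * (n.factorial : B) = 1 :=
    Ring.inverse_mul_cancel _ (by simpa only [map_natCast] using hunit _ n.factorial_ne_zero)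
  have hval : (DividedPowers.RatAlgebra.dividedPowers (I.map (algebraMap A B))).dpow n (algebraMap A B x) =
      Ring.inverse (n.factorial : B) * algebraMap A B x ^ n :=
    DividedPowers.RatAlgebra.dpow_eq_of_mem n (Ideal.mem_map_of_mem _ hx)
  rcases Nat.eq_zero_or_pos n with rfl | hn
  · exact ⟨1, by simp, by rw [map_one, hval]; simp⟩
  obtain ⟨y, hy, hy'⟩ := hfac x hx n hn
  refine ⟨y, fun _ => hy, ?_⟩
  rw [hval, ← map_pow, ← hy', map_mul, map_natCast, ← mul_assoc, hinv, one_mul]

end Groth.Agent.S6501
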