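import Groth.Statements.S8796
import Mathlib
import Groth.Agent.Boot94.DepthFlat
import Groth.Agent.CAlg1.Complete

set_option autoImplicit false
universe u
open CategoryTheory
open Dual2

namespace Groth.Agent.S8796

/-- Let A be a Noetherian ring with a dualizing complex, I an ideal with cd(A, I) ≤ d, M a finite
A-module, T ⊆ V(I) a subset stable under specialization and s a natural, satisfying: (4) for primes
p ⊆ r ⊆ q with p ∉ V(I), r ∈ V(I) ∖ T and q ∈ T, either depth(M_p) ≥ s or depth(M_p) + dim((A/p)_q)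
> d + s; (6) for q ∈ T, writing A', I', M' for the I-adic completions of A_q, IA_q, M_q, one has
depth(M'_{p'}) > s for every prime p' of A' not containing I' such that the only primes containing
both p' and I' are maximal. Let p ⊆ q be primes with p ∉ V(I) and q ∈ T such that no prime r with p
⊆ r ⊆ q lies in V(I) ∖ T. Then depth(M_p) > s. -/
theorem result (A : Type u) [CommRing A] [IsNoetherianRing A] (hdc : ∃ ω : Dual.D A, Dual.IsDualizing A ω) (I : Ideal A) (d : ℕ) (hcd : LocCoh.CdLE A I d) (M : Type u) [AddCommGroup M] [Module A M] [Module.Finite A M] (T : Set (PrimeSpectrum A)) (hTI : T ⊆ PrimeSpectrum.zeroLocus (I : Set A)) (hT : StableUnderSpecialization T) (s : ℕ) (h4 : ∀ p r q : PrimeSpectrum A, p ≤ r → r ≤ q → ¬ I ≤ p.asIdeal → I ≤ r.asIdeal → r ∉ T → q ∈ T → (s : ℕ∞) ≤ LocCoh.depth (Localization.AtPrime p.asIdeal) (LocalizedModule p.asIdeal.primeCompl M) ∨ ((d + s : ℕ) : WithBot ℕ∞) < (LocCoh.depth (Localization.AtPrime p.asIdeal) (LocalizedModule p.asIdeal.primeCompl M) : WithBot ℕ∞) + Formal2.dimBetween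 A p.asIdeal q.asIdeal) (h6 : ∀ q : PrimeSpectrum A, q ∈ T → ∀ p' : PrimeSpectrum (AdicCompletion (I.map (algebraMap A (Localization.AtPrime q.asIdeal))) (Localization.AtPrime q.asIdeal)), ¬ (I.map (algebraMap A (AdicCompletion (I.map (algebraMap A (Localization.AtPrime q.asIdeal))) (Localization.AtPrime q.asIdeal)))) ≤ p'.asIdeal → (∀ q' : PrimeSpectrum (AdicCompletion (I.map (algebraMap A (Localization.AtPrime q.asIdeal))) (Localization.AtPrime q.asIdeal)), p' ≤ q' → (I.map (algebraMap A (AdicCompletion (I.map (algebraMap A (Localization.AtPrime q.asIdeal))) (Localization.AtPrime q.asIdeal)))) ≤ q'.asIdeal → q'.asIdeal.IsMaximal) → (s : ℕ∞) < LocCoh.depth (Localization.AtPrime p'.asIdeal) (LocalizedModule p'.asIdeal.primeCompl (AdicCompletion (I.map (algebraMap A (Localization.AtPrime q.asIdeal))) (LocalizedModule q.asIdeal.primeCompl M)))) (p q : PrimeSpectrum A) (hpq : p ≤ q) (hp : ¬ I ≤ p.asIdeal) (hq : q ∈ T) (hr : ∀ r : PrimeSpectrum A, p ≤ r → r ≤ q → I ≤ r.asIdeal → r ∈ T) : (s : ℕ∞) < LocCoh.depth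 (Localization.AtPrime p.asIdeal) (LocalizedModule p.asIdeal.primeCompl M) := by
  -- a prime minimal over `p + I` below `q`
  obtain ⟨rI, hrmin, hrq⟩ := Ideal.exists_minimalPrimes_le (I := p.asIdeal ⊔ I) (J := q.asIdeal)
    (sup_le hpq (hTI hq))
  haveI := hrmin.isPrime
  let r : PrimeSpectrum A := ⟨rI, hrmin.isPrime⟩
  have hpr : p.asIdeal ≤ rI := le_sup_left.trans hrmin.1.2
  have hIr : I ≤ rI := le_sup_right.trans hrmin.1.2
  have hrT : r ∈ T := hr r hpr hrq hIr
  let B := Localization.AtPrime rI
  let J : Ideal B := I.map (algebraMap A B)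
  let C := AdicCompletion J B
  haveI : IsNoetherianRing B := IsLocalization.isNoetherianRing rI.primeCompl B inferInstance
  haveI : IsNoetherianRing C := Groth.Agent.CAlg1.isNoetherianRing_adicCompletion J J.fg_of_isNoetherianRing
  haveI : Module.Flat B C := AdicCompletion.flat_of_isNoetherian J
  haveI : IsScalarTower A B C := inferInstance
  haveI : Module.Flat A C := Module.Flat.trans A B C
  have hJle : J ≤ IsLocalRing.maximalIdeal B := by
    rw [← Localization.AtPrime.map_eq_maximalIdeal (I := rI)]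
    exact Ideal.map_mono hIr
  -- the maximal ideal upstairs
  let mC : Ideal C := (IsLocalRing.maximalIdeal B).map (algebraMap B C)
  haveI hmC : mC.IsMaximal := AdicCompletion.isMaximal_map_of_le J _ hJle J.fg_of_isNoetherianRing
  have hmCcomap : mC.comap (algebraMap B C) = IsLocalRing.maximalIdeal B :=
    ((IsLocalRing.maximalIdeal.isMaximal B).eq_of_le (Ideal.IsPrime.under B mC).ne_top Ideal.le_comap_map).symm
  -- a prime over `p`
  let pB : Ideal B := p.asIdeal.map (algebraMap A B)
  have hdisj : Disjoint (rI.primeCompl : Set A) (p.asIdeal : Set A) := Set.disjoint_left.2 fun x hx hxp => hx (hpr hxp)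
  haveI hpB : pB.IsPrime := IsLocalization.isPrime_of_isPrime_disjoint rI.primeCompl B _ p.2 hdisj
  have hpBA : pB.comap (algebraMap A B) = p.asIdeal :=
    IsLocalization.under_map_of_isPrime_disjoint rI.primeCompl B p.2 hdisj
  haveI : mC.LiesOver (IsLocalRing.maximalIdeal B) := ⟨hmCcomap.symm⟩
  obtain ⟨P₀, -, hP₀prime, hP₀over⟩ := Ideal.exists_ideal_le_liesOver_of_le (p := pB) (q := IsLocalRing.maximalIdeal B) mC
    (IsLocalRing.le_maximalIdeal hpB.ne_top)
  have hmapA : p.asIdeal.map (algebraMap A C) ≤ P₀ := by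
    rw [IsScalarTower.algebraMap_eq A B C, ← Ideal.map_map, Ideal.map_le_iff_le_comap]
    exact hP₀over.over.le
  obtain ⟨P, hPmin, hPle⟩ := Ideal.exists_minimalPrimes_le hmapA
  haveI := hPmin.isPrime
  have hPA : P.comap (algebraMap A C) = p.asIdeal := by
    refine le_antisymm ?_ (Ideal.map_le_iff_le_comap.1 hPmin.1.2)
    refine (Ideal.comap_mono hPle).trans ?_
    rw [IsScalarTower.algebraMap_eq A B C, ← Ideal.comap_comap]
    exact (Ideal.comap_mono hP₀over.over.ge).trans hpBA.le
  haveI : P.LiesOver p.asIdeal := ⟨hPA.symm⟩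
  -- apply the hypothesis
  haveI : IsScalarTower A C (AdicCompletion J (LocalizedModule rI.primeCompl M)) := IsScalarTower.of_algebraMap_smul fun a x => by
    rw [IsScalarTower.algebraMap_apply A B C, algebraMap_smul, algebraMap_smul]
  have hbc : IsBaseChange C (((AdicCompletion.of J (LocalizedModule rI.primeCompl M)).restrictScalars A).comp
      (LocalizedModule.mkLinearMap rI.primeCompl M)) := by
    haveI : Module.Finite B (LocalizedModule rI.primeCompl M) :=
      Module.Finite.of_isLocalizedModule rI.primeCompl (LocalizedModule.mkLinearMap rI.primeCompl M)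
    refine (LocalizedModule.isBaseChange rI.primeCompl M).comp (IsBaseChange.of_equiv
      (AdicCompletion.ofTensorProductEquivOfFiniteNoetherian J (LocalizedModule rI.primeCompl M)) fun x => ?_)
    rw [AdicCompletion.ofTensorProductEquivOfFiniteNoetherian_apply, AdicCompletion.ofTensorProduct_tmul, one_smul]
  have key := h6 r hrT ⟨P, hPmin.isPrime⟩ ?_ ?_
  · rwa [Groth.Agent.Boot94.depth_localization_of_minimal p.asIdeal P hPmin M _ _ hbc] at key
  · intro hle
    exact hp (hPA ▸ Ideal.map_le_iff_le_comap.1 hle)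
  · intro q' hPq hIq
    haveI := q'.2
    have h1 : p.asIdeal ⊔ I ≤ q'.asIdeal.comap (algebraMap A C) :=
      sup_le (hPA ▸ Ideal.comap_mono hPq) (Ideal.map_le_iff_le_comap.1 hIq)
    have hJq : J ≤ q'.asIdeal.comap (algebraMap B C) := by
      rw [Ideal.map_le_iff_le_comap, Ideal.comap_comap, ← IsScalarTower.algebraMap_eq]
      exact le_sup_right.trans h1
    have h2 : q'.asIdeal.comap (algebraMap A C) ≤ rI := by
      rw [IsScalarTower.algebraMap_eq A B C, ← Ideal.comap_comap]
      refine (Ideal.comap_mono (IsLocalRing.le_maximalIdeal (Ideal.IsPrime.under B q'.asIdeal).ne_top)).trans ?_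
      exact (IsLocalization.AtPrime.under_maximalIdeal B rI).le
    have h3 : rI ≤ q'.asIdeal.comap (algebraMap A C) := hrmin.2 ⟨Ideal.IsPrime.under A q'.asIdeal, h1⟩ h2
    have h4 : mC ≤ q'.asIdeal := by
      show Ideal.map _ (IsLocalRing.maximalIdeal B) ≤ _
      rw [← Localization.AtPrime.map_eq_maximalIdeal (I := rI), Ideal.map_map, ← IsScalarTower.algebraMap_eq,
        Ideal.map_le_iff_le_comap]
      exact h3
    rwa [← hmC.eq_of_le q'.2.ne_top h4]

end Groth.Agent.S8796
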