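import Groth.Statements.S1779
import Groth.Agent.DR39.Dualizing3
import Groth.Agent.CAlg1.Complete
import Mathlib.RingTheory.AdicCompletion.LocalRing
import Mathlib.RingTheory.AdicCompletion.AsTensorProduct

set_option autoImplicit false
universe u
open CategoryTheory
attribute [local instance] HasDerivedCategory.standard
open Dual

namespace Groth.Agent.S1779

/-- Let A be a Noetherian ring, I an ideal and ω a dualizing complex for A. Assuming the derived base
change functor to the I-adic completion exists, the base change of ω is a dualizing complex for the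
I-adic completion of A. -/
theorem result (A : Type u) [CommRing A] [IsNoetherianRing A] (I : Ideal A) [DRing.HasLBaseChange (algebraMap A (AdicCompletion I A))] (ω : Dual.D A) (hω : Dual.IsDualizing A ω) : Dual.IsDualizing (AdicCompletion I A) ((DRing.LBaseChange (algebraMap A (AdicCompletion I A))).obj ω) := by
  set B := AdicCompletion I A
  haveI : IsNoetherianRing B := CAlg1.isNoetherianRing_adicCompletion _ (IsNoetherian.noetherian _)
  haveI : Module.Flat A B := AdicCompletion.flat_of_isNoetherian I
  obtain ⟨e⟩ := DR39.lbcIso B ω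
  refine DR39.isDualizing_of_iso (DR39.isDualizing_DF B hω ?_) e.symm
  obtain ⟨a, b, hab, hid⟩ := DR39.exists_bounds hω
  have hlow : ∀ i, i < a → Limits.IsZero ((DR39.HF B i).obj ((DR39.DF (DR39.extA A B)).obj ω)) :=
    fun i hi => by
    obtain ⟨e⟩ := DR39.HF_DF (DR39.extA A B) ω i
    exact ((DR39.extA A B).map_isZero (hab i (Or.inl hi))).of_iso e
  refine ⟨a, b, DR39.ia_of_residue hlow (fun i => ?_) b (fun i hi => ?_) fun P hP i hi => ?_⟩
  · haveI := hω.finite_cohomology i
    exact DR39.finite_HF_DF B
  · obtain ⟨e⟩ := DR39.HF_DF (DR39.extA A B) ω i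
    exact ((DR39.extA A B).map_isZero (hab i (Or.inr hi))).of_iso e
  have hc := AdicCompletion.isAdicComplete_self I (IsNoetherian.noetherian _)
  have hJP : I.map (algebraMap A B) ≤ P := (IsAdicComplete.le_jacobson_bot _).trans (sInf_le ⟨bot_le, hP⟩)
  have hker := AdicCompletion.ker_evalOneₐ_eq_map I (IsNoetherian.noetherian _)
  have hsurj := AdicCompletion.evalOneₐ_surjective I
  set ev := (AdicCompletion.evalOneₐ I).toRingHom
  have hevP : (P.map ev).IsMaximal := Ideal.IsMaximal.map_of_surjective_of_ker_le hsurj (hker.le.trans hJP)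
  have hcomapP : (P.map ev).comap ev = P := by
    rw [Ideal.comap_map_of_surjective' ev hsurj, sup_eq_left]
    exact hker.le.trans hJP
  set p := P.comap (algebraMap A B) with hp
  have hm : p = (P.map ev).comap (Ideal.Quotient.mk I) := by
    conv_lhs => rw [hp, ← hcomapP, Ideal.comap_comap]
    rw [AdicCompletion.evalOneₐ_comp_algebraMap_eq_mk]
  have hmax : p.IsMaximal := by
    rw [hm]; exact Ideal.comap_isMaximal_of_surjective _ Ideal.Quotient.mk_surjective
  have hJp : I ≤ p := fun x hx => hJP (Ideal.mem_map_of_mem _ hx)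
  have hmap : p.map (algebraMap A B) = P :=
    (AdicCompletion.isMaximal_map_of_le I p hJp (IsNoetherian.noetherian _)).eq_of_le hP.ne_top
      Ideal.map_comap_le
  obtain ⟨e'⟩ := DR39.exists_inD_quotient_iso B p
  rw [← hmap]
  exact @Equiv.subsingleton _ _ (Iso.homFromEquiv e').symm
    (DR39.subsingleton_hom_DF B (DR39.pc_inD (A ⧸ p)) (c := a) (fun k hk => hab k (Or.inl hk)) i
      (hid (A ⧸ p) i (Or.inr hi)))

end Groth.Agent.S1779
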