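import Groth.Statements.S6278
import Mathlib

set_option autoImplicit false
set_option linter.style.haveILetI false
set_option linter.style.longLine false
universe u
open CAlg

namespace Groth.Agent.S6278

/-- A normal ring R (all localizations at primes are integrally closed domains) is integrally closed in
its total ring of fractions. -/
theorem result (R : Type u) [CommRing R] (hR : EGA4.IsNormalRing R) : IsIntegrallyClosedIn R (FractionRing R) := by
  refine isIntegrallyClosedIn_iff.2 ⟨IsFractionRing.injective R (FractionRing R), fun {z} hz => ?_⟩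
  let D : Ideal R :=
    { carrier := {r | r • z ∈ Set.range (algebraMap R (FractionRing R))}
      add_mem' := by
        rintro a b ⟨x, hx⟩ ⟨y, hy⟩
        exact ⟨x + y, by rw [map_add, hx, hy, add_smul]⟩
      zero_mem' := ⟨0, by simp⟩
      smul_mem' := by
        rintro c a ⟨x, hx⟩
        exact ⟨c * x, by rw [map_mul, hx, smul_eq_mul, mul_smul, Algebra.smul_def c]⟩ }
  have hD : D = ⊤ := by
    by_contra hne
    obtain ⟨m, hm, hle⟩ := Ideal.exists_le_maximal D hne
    haveI := hm.isPrime
    obtain ⟨hdom, hic⟩ := hR m
    let A := Localization.AtPrime m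
    let K := FractionRing A
    have hreg : ∀ s : nonZeroDivisors R, IsUnit (algebraMap R K s) := fun s => by
      refine isUnit_iff_ne_zero.2 fun h0 => ?_
      rw [IsScalarTower.algebraMap_apply R A K] at h0
      have := IsFractionRing.injective A K (h0.trans (map_zero _).symm)
      obtain ⟨⟨t, ht⟩, h1⟩ := (IsLocalization.map_eq_zero_iff m.primeCompl A _).1 this
      exact ht (by rw [show t = 0 from (mem_nonZeroDivisors_iff_right.1 s.2) t h1]; exact zero_mem _)
    let L : FractionRing R →ₐ[R] K := { IsLocalization.lift hreg with commutes' := fun r => IsLocalization.lift_eq hreg r }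
    obtain ⟨c, hc⟩ := IsIntegrallyClosed.isIntegral_iff.1 ((hz.map L).tower_top (A := A))
    obtain ⟨⟨a, t⟩, hat⟩ := IsLocalization.surj m.primeCompl c
    obtain ⟨⟨x, s⟩, hxs⟩ := IsLocalization.surj (nonZeroDivisors R) z
    have h1 : algebraMap R A (a * (s : R)) = algebraMap R A ((t : R) * x) := by
      apply IsFractionRing.injective A K
      rw [← IsScalarTower.algebraMap_apply, ← IsScalarTower.algebraMap_apply, map_mul, map_mul,
        IsScalarTower.algebraMap_apply R A K a, ← hat, map_mul, hc, ← IsScalarTower.algebraMap_apply,
        show algebraMap R K x = L z * algebraMap R K s by rw [← L.commutes, ← hxs, map_mul, L.commutes]]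
      ring
    obtain ⟨⟨u, hu⟩, h2⟩ := (IsLocalization.eq_iff_exists m.primeCompl A).1 h1
    have h3 : u * (t : R) ∈ D := by
      refine ⟨u * a, ?_⟩
      apply (IsLocalization.map_units (FractionRing R) s).mul_left_inj.1
      rw [Algebra.smul_def, mul_assoc, hxs, ← map_mul, ← map_mul, mul_assoc u a, mul_assoc u (t : R)]
      exact congrArg _ h2
    exact (m.primeCompl.mul_mem hu t.2) (hle h3)
  have : (1 : R) ∈ D := hD ▸ trivial
  obtain ⟨x, hx⟩ := this
  exact ⟨x, by rw [hx, one_smul]⟩

end Groth.Agent.S6278
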