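import Groth.Statements.S2139
import Mathlib
import Groth.Agent.S6278

set_option autoImplicit false
set_option linter.style.haveILetI false
set_option linter.style.longLine false
universe u
open CAlg

namespace Groth.Agent.S2139

/-- Let `R` be a reduced ring with finitely many minimal primes. Then every localization of `R` at a
prime is an integrally closed domain if and only if `R` is integrally closed in its total ring of
fractions. -/
theorem result {R : Type u} [CommRing R] [IsReduced R] (hfin : (minimalPrimes R).Finite) :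
    (∀ (p : Ideal R) [p.IsPrime], IsDomain (Localization.AtPrime p) ∧ IsIntegrallyClosed (Localization.AtPrime p)) ↔
      IsIntegrallyClosedIn R (FractionRing R) := by
  classical
  constructor
  · exact fun h => S6278.result R h
  intro hcl p _
  have hmem : ∀ x : R, (∀ P ∈ minimalPrimes R, x ∈ P) → x = 0 := by
    intro x hx
    have : x ∈ nilradical R := by
      rw [nilradical, ← Ideal.sInf_minimalPrimes]
      exact Submodule.mem_sInf.2 hx
    rwa [nilradical_eq_zero, Ideal.zero_eq_bot, Ideal.mem_bot] at this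
  have hregOf : ∀ x : R, (∀ P ∈ minimalPrimes R, x ∉ P) → x ∈ nonZeroDivisors R := by
    intro x hx
    rw [mem_nonZeroDivisors_iff_right]
    intro y hy
    exact hmem y fun P hP => (hP.1.1.mem_or_mem (hy ▸ P.zero_mem)).resolve_right (hx P hP)
  have avoid : ∀ (s : Finset (Ideal R)) (P : Ideal R), P ∈ minimalPrimes R → (∀ Q ∈ s, Q ∈ minimalPrimes R) → P ∉ s →
      ∃ x, (∀ Q ∈ s, x ∈ Q) ∧ x ∉ P := by
    intro s P hP hs hPs
    haveI := hP.1.1
    have : ¬ (s.inf id ≤ P) := by
      intro hle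
      obtain ⟨Q, hQs, hQP⟩ := (hP.1.1.inf_le').1 hle
      exact hPs ((le_antisymm hQP (hP.2 (hs Q hQs).1 hQP)) ▸ hQs)
    obtain ⟨x, hx, hxP⟩ := SetLike.not_le_iff_exists.1 this
    exact ⟨x, fun Q hQ => (Finset.inf_le (f := id) hQ : s.inf id ≤ Q) hx, hxP⟩
  obtain ⟨q, hq, hqp⟩ := Ideal.exists_minimalPrimes_le (I := (⊥ : Ideal R)) (J := p) bot_le
  haveI := hq.1.1
  set Q := FractionRing R
  have huniq : ∀ P ∈ minimalPrimes R, P ≤ p → P = q := by
    intro P hP hPp
    by_contra hne
    obtain ⟨b, hb, hbq⟩ := avoid (hfin.toFinset.erase q) q hq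
      (fun Q hQ => hfin.mem_toFinset.1 (Finset.mem_of_mem_erase hQ)) (Finset.notMem_erase q _)
    have hbP : ∀ Q ∈ minimalPrimes R, Q ≠ q → b ∈ Q := fun Q hQ hQq =>
      hb Q (Finset.mem_erase.2 ⟨hQq, hfin.mem_toFinset.2 hQ⟩)
    obtain ⟨c, hcq, hc⟩ : ∃ c ∈ q, ∀ Q ∈ minimalPrimes R, Q ≠ q → c ∉ Q := by
      by_contra hcon
      push Not at hcon
      have hsub : ((q : Ideal R) : Set R) ⊆ ⋃ Q ∈ (↑(hfin.toFinset.erase q) : Set (Ideal R)), (Q : Set R) := by
        intro c hc
        obtain ⟨Q, hQ, hQq, hcQ⟩ := hcon c hc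
        exact Set.mem_biUnion (Finset.mem_coe.2 (Finset.mem_erase.2 ⟨hQq, hfin.mem_toFinset.2 hQ⟩)) hcQ
      obtain ⟨Q, hQ, hle⟩ := (Ideal.subset_union_prime ⊥ ⊥ (fun Q hQ _ _ =>
        (hfin.mem_toFinset.1 (Finset.mem_of_mem_erase hQ)).1.1)).1 hsub
      obtain ⟨hQq, hQm⟩ := Finset.mem_erase.1 hQ
      exact hQq (le_antisymm ((hfin.mem_toFinset.1 hQm).2 hq.1 hle) hle)
    have hbc0 : b * c = 0 := hmem _ fun Q hQ => by
      by_cases hQq : Q = q
      · subst hQq; exact Q.mul_mem_left _ hcq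
      · exact Q.mul_mem_right _ (hbP Q hQ hQq)
    have hbc : b + c ∈ nonZeroDivisors R := hregOf _ fun Q hQ h => by
      by_cases hQq : Q = q
      · subst hQq; exact hbq ((Ideal.add_mem_iff_left _ hcq).1 h)
      · exact hc Q hQ hQq ((Ideal.add_mem_iff_right _ (hbP Q hQ hQq)).1 h)
    let ε : Q := IsLocalization.mk' Q b (⟨b + c, hbc⟩ : nonZeroDivisors R)
    have hε : ε * algebraMap R Q (b + c) = algebraMap R Q b := IsLocalization.mk'_spec _ _ _
    have hu := IsLocalization.map_units Q (⟨b + c, hbc⟩ : nonZeroDivisors R)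
    have hεi : ε * ε = ε := by
      apply hu.mul_left_inj.1
      apply hu.mul_left_inj.1
      have e1 : algebraMap R Q b * algebraMap R Q c = 0 := by rw [← map_mul, hbc0, map_zero]
      simp only at hε ⊢
      rw [map_add] at hε ⊢
      linear_combination (ε * (algebraMap R Q b + algebraMap R Q c) + algebraMap R Q b
        - (algebraMap R Q b + algebraMap R Q c)) * hε - e1
    have hint : IsIntegral R ε := ⟨Polynomial.X ^ 2 - Polynomial.X,
      Polynomial.monic_X_pow_sub (Polynomial.degree_X_le.trans_lt (by norm_num)), by simp [sq, hεi]⟩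
    obtain ⟨e, he⟩ := (isIntegrallyClosedIn_iff.1 hcl).2 hint
    have inj := (isIntegrallyClosedIn_iff.1 hcl).1
    have e1 : e * (b + c) = b := inj (by rw [map_mul, he]; exact hε)
    have e2 : e * (1 - e) = 0 := inj (by rw [map_mul, map_sub, map_one, he, map_zero, mul_sub, mul_one, hεi, sub_self])
    have heP : e ∈ P := (hP.1.1.mem_or_mem (e1.symm ▸ hbP P hP hne : e * (b + c) ∈ P)).resolve_right
      fun h => hc P hP hne ((Ideal.add_mem_iff_right _ (hbP P hP hne)).1 h)
    have heq : e ∉ q := fun h => hbq (e1 ▸ q.mul_mem_right _ h)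
    have : 1 - e ∈ q := (hq.1.1.mem_or_mem (e2 ▸ q.zero_mem : e * (1 - e) ∈ q)).resolve_left heq
    exact (Ideal.IsPrime.ne_top inferInstance) ((Ideal.eq_top_iff_one p).2 (by
      simpa using p.add_mem (hPp heP) (hqp this)))
  set A := Localization.AtPrime p
  have hker : ∀ x : R, algebraMap R A x = 0 ↔ x ∈ q := by
    intro x
    rw [IsLocalization.map_eq_zero_iff p.primeCompl A]
    constructor
    · rintro ⟨⟨s, hs⟩, h⟩
      exact (hq.1.1.mem_or_mem (h ▸ q.zero_mem : s * x ∈ q)).resolve_left fun h' => hs (hqp h')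
    · intro hx
      obtain ⟨s, hs, hsp⟩ : ∃ s, (∀ Q ∈ hfin.toFinset.erase q, s ∈ Q) ∧ s ∉ p := by
        have : ¬ ((hfin.toFinset.erase q).inf id ≤ p) := by
          intro hle
          obtain ⟨Q, hQ, hQp⟩ := (Ideal.IsPrime.inf_le' inferInstance).1 hle
          obtain ⟨hQq, hQm⟩ := Finset.mem_erase.1 hQ
          exact hQq (huniq Q (hfin.mem_toFinset.1 hQm) hQp)
        obtain ⟨s, hs, hsp⟩ := SetLike.not_le_iff_exists.1 this
        exact ⟨s, fun Q hQ => (Finset.inf_le (f := id) hQ : (hfin.toFinset.erase q).inf id ≤ Q) hs, hsp⟩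
      refine ⟨⟨s, hsp⟩, hmem _ fun Q hQ => ?_⟩
      by_cases hQq : Q = q
      · subst hQq; exact Q.mul_mem_left _ hx
      · exact Q.mul_mem_right _ (hs Q (Finset.mem_erase.2 ⟨hQq, hfin.mem_toFinset.2 hQ⟩))
  haveI : IsDomain A := by
    haveI : NoZeroDivisors A := by
      refine ⟨fun {a b} hab => ?_⟩
      obtain ⟨⟨x, s⟩, hx⟩ := IsLocalization.surj p.primeCompl a
      obtain ⟨⟨y, t⟩, hy⟩ := IsLocalization.surj p.primeCompl b
      simp only at hx hy
      have h0 : algebraMap R A (x * y) = 0 := by rw [map_mul, ← hx, ← hy, mul_mul_mul_comm, hab, zero_mul]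
      rcases hq.1.1.mem_or_mem ((hker _).1 h0) with h | h
      · left; rw [← hker, ← hx] at h; exact (IsLocalization.map_units A s).mul_left_eq_zero.1 h
      · right; rw [← hker, ← hy] at h; exact (IsLocalization.map_units A t).mul_left_eq_zero.1 h
    exact NoZeroDivisors.to_isDomain A
  set K := FractionRing A with hK
  refine ⟨inferInstance, (isIntegrallyClosed_iff K).2 fun {z} hz => ?_⟩
  have inj := IsFractionRing.injective A K
  obtain ⟨m, hm⟩ := IsIntegral.exists_multiple_integral_of_isLocalization (R := R) (Rₘ := A) p.primeCompl z hz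
  set w := m • z
  obtain ⟨c, d, hd, hw⟩ := IsFractionRing.div_surjective (A := A) w
  obtain ⟨⟨x, s⟩, hx⟩ := IsLocalization.surj p.primeCompl c
  obtain ⟨⟨y, t⟩, hy⟩ := IsLocalization.surj p.primeCompl d
  simp only at hx hy
  let a : R := x * t
  let b0 : R := y * s
  have hd0 : d ≠ 0 := nonZeroDivisors.ne_zero hd
  have ea : algebraMap R A a = c * (algebraMap R A s * algebraMap R A t) := by rw [map_mul, ← hx, mul_assoc]
  have eb0 : algebraMap R A b0 = d * (algebraMap R A s * algebraMap R A t) := by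
    rw [map_mul, ← hy, mul_assoc, mul_comm (algebraMap R A t)]
  have hb0 : algebraMap R A b0 ≠ 0 := by
    rw [eb0]; exact mul_ne_zero hd0 (mul_ne_zero (IsLocalization.map_units A s).ne_zero (IsLocalization.map_units A t).ne_zero)
  have hb0q : b0 ∉ q := fun h => hb0 ((hker _).2 h)
  obtain ⟨b, hbreg, eb⟩ : ∃ b ∈ nonZeroDivisors R, algebraMap R A b = algebraMap R A b0 := by
    obtain ⟨u, hu, hu'⟩ : ∃ u ∈ q, ∀ P ∈ minimalPrimes R, P ≠ q → (u ∈ P ↔ b0 ∉ P) := by
      let T := (hfin.toFinset.erase q).filter fun P => b0 ∉ P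
      let U := (hfin.toFinset.erase q).filter fun P => b0 ∈ P
      have hsub : ¬ (((q ⊓ T.inf id : Ideal R) : Set R) ⊆ ⋃ P ∈ (↑U : Set (Ideal R)), (P : Set R)) := by
        intro hsub
        have hUp : ∀ P ∈ U, P ∈ minimalPrimes R := fun P hP =>
          hfin.mem_toFinset.1 (Finset.mem_of_mem_erase (Finset.mem_filter.1 hP).1)
        obtain ⟨P, hP, hle⟩ := (Ideal.subset_union_prime ⊥ ⊥ (fun P hP _ _ => (hUp P hP).1.1)).1 hsub
        obtain ⟨hP1, hbP⟩ := Finset.mem_filter.1 hP
        haveI := (hUp P hP).1.1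
        rcases (Ideal.IsPrime.inf_le (hUp P hP).1.1).1 hle with h | h
        · exact (Finset.mem_erase.1 hP1).1 (le_antisymm ((hUp P hP).2 hq.1 h) h)
        · obtain ⟨P', hP', hle'⟩ := ((hUp P hP).1.1.inf_le').1 h
          obtain ⟨hP'1, hbP'⟩ := Finset.mem_filter.1 hP'
          have : P' = P := le_antisymm hle'
            ((hUp P hP).2 (hfin.mem_toFinset.1 (Finset.mem_of_mem_erase hP'1)).1 hle')
          exact hbP' (this ▸ hbP)
      obtain ⟨u, ⟨huq, huT⟩, hun⟩ := Set.not_subset.1 hsub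
      refine ⟨u, huq, fun P hP hPq => ⟨fun huP hbP => hun ?_, fun hbP => ?_⟩⟩
      · exact Set.mem_biUnion (Finset.mem_coe.2 (Finset.mem_filter.2 ⟨Finset.mem_erase.2 ⟨hPq, hfin.mem_toFinset.2 hP⟩, hbP⟩)) huP
      · exact (Finset.inf_le (f := id) (Finset.mem_filter.2 ⟨Finset.mem_erase.2 ⟨hPq, hfin.mem_toFinset.2 hP⟩, hbP⟩) : T.inf id ≤ P) huT
    refine ⟨b0 + u, hregOf _ fun P hP h => ?_, by rw [map_add, (hker u).2 hu, add_zero]⟩
    by_cases hPq : P = q
    · subst hPq; exact hb0q ((Ideal.add_mem_iff_left _ hu).1 h)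
    · by_cases hbP : b0 ∈ P
      · exact (hu' P hP hPq).1 ((Ideal.add_mem_iff_right _ hbP).1 h) hbP
      · exact hbP ((Ideal.add_mem_iff_left _ ((hu' P hP hPq).2 hbP)).1 h)
  have hreg : ∀ r : nonZeroDivisors R, IsUnit (algebraMap R K r) := fun r => by
    refine isUnit_iff_ne_zero.2 fun h0 => ?_
    rw [IsScalarTower.algebraMap_apply R A K] at h0
    exact Set.disjoint_left.1 (Ideal.disjoint_nonZeroDivisors_of_mem_minimalPrimes hq) ((hker _).1 (inj (h0.trans (map_zero _).symm))) r.2
  let F : Q →ₐ[R] K := { IsLocalization.lift hreg with commutes' := fun r => IsLocalization.lift_eq hreg r }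
  let v : Q := IsLocalization.mk' Q a (⟨b, hbreg⟩ : nonZeroDivisors R)
  have hv : v * algebraMap R Q b = algebraMap R Q a := IsLocalization.mk'_spec _ _ _
  have hFv : F v = w := by
    have h1 : F v * algebraMap R K b = algebraMap R K a := by
      rw [← F.commutes, ← map_mul, hv, F.commutes]
    apply (hreg ⟨b, hbreg⟩).mul_left_inj.1
    rw [h1, ← hw]
    show algebraMap R K a = _ * algebraMap R K b
    rw [IsScalarTower.algebraMap_apply R A K a, IsScalarTower.algebraMap_apply R A K b, eb, ea, eb0,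
      map_mul, map_mul (algebraMap A K) d]
    linear_combination (-(algebraMap A K (algebraMap R A s * algebraMap R A t))) *
      div_mul_cancel₀ (algebraMap A K c) (show algebraMap A K d ≠ 0 from fun h0 => hd0 (inj (by rw [h0, map_zero])))
  obtain ⟨f, hf, hf0⟩ := hm
  haveI : Nontrivial R := ⟨⟨0, 1, fun h => p.ne_top_iff_one.1 (Ideal.IsPrime.ne_top inferInstance) (h ▸ p.zero_mem)⟩⟩
  have hFf : F (Polynomial.aeval v f) = 0 := by
    rw [← Polynomial.aeval_algHom_apply, hFv]; exact hf0
  obtain ⟨⟨num, den⟩, hnd⟩ := IsLocalization.surj (nonZeroDivisors R) (Polynomial.aeval v f)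
  simp only at hnd
  have hnum : algebraMap R A num = 0 := inj (by
    rw [map_zero, ← IsScalarTower.algebraMap_apply, ← F.commutes, ← hnd, map_mul, hFf, zero_mul])
  obtain ⟨⟨u, hu⟩, hun⟩ := (IsLocalization.map_eq_zero_iff p.primeCompl A num).1 hnum
  have huf : algebraMap R Q u * Polynomial.aeval v f = 0 := by
    apply (IsLocalization.map_units Q den).mul_left_inj.1
    rw [mul_assoc, hnd, ← map_mul, hun, map_zero, zero_mul]
  have hXf : IsIntegral R (algebraMap R Q u * v) := by
    refine ⟨(Polynomial.X * f).scaleRoots u, Polynomial.monic_scaleRoots_iff _ |>.2 (Polynomial.monic_X.mul hf), ?_⟩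
    rw [Polynomial.scaleRoots_eval₂_mul, Polynomial.natDegree_mul' (by simp [hf.leadingCoeff]), Polynomial.natDegree_X,
      Polynomial.eval₂_mul, Polynomial.eval₂_X, pow_add, pow_one]
    rw [show Polynomial.eval₂ (algebraMap R Q) v f = Polynomial.aeval v f from rfl]
    linear_combination (algebraMap R Q u ^ f.natDegree * v) * huf
  obtain ⟨r, hr⟩ := (isIntegrallyClosedIn_iff.1 hcl).2 hXf
  have hr' : algebraMap R K r = algebraMap R K u * w := by
    rw [← F.commutes, hr, map_mul, F.commutes, hFv]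
  obtain ⟨i, hi⟩ := (IsLocalization.map_units A (⟨u * m, p.primeCompl.mul_mem hu m.2⟩ : p.primeCompl)).exists_right_inv
  refine ⟨algebraMap R A r * i, ?_⟩
  rw [map_mul, ← IsScalarTower.algebraMap_apply, hr', show w = algebraMap R K m * z from Algebra.smul_def (m : R) z,
    IsScalarTower.algebraMap_apply R A K u, IsScalarTower.algebraMap_apply R A K m]
  have := congrArg (algebraMap A K) hi
  simp only [map_mul, map_one] at this
  linear_combination z * this

end Groth.Agent.S2139
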