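import Groth.Statements.S0335
import Groth.Agent.EGA4Alg4.Depth
import Groth.Agent.EGA4Alg4.RegPow
import Mathlib.RingTheory.Spectrum.Prime.Topology

set_option autoImplicit false
universe u v
open LocCoh
open scoped Pointwise

namespace Groth.Agent.S0335

/-- For the ring itself; Hartshorne's connectedness: if a Noetherian local ring has depth at least 2
then its punctured spectrum is connected. -/
theorem result (R : Type u) [CommRing R] [IsLocalRing R] [IsNoetherianRing R] (h : 2 ≤ LocCoh.depth R R) : IsConnected {x : PrimeSpectrum R | x.asIdeal ≠ IsLocalRing.maximalIdeal R} := by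
  classical
  obtain ⟨rs, hlen, hmem, hreg⟩ := (EGA4Alg4.natCast_le_depth_iff (A := R) (M := R) 2).1 (by exact_mod_cast h)
  obtain ⟨x, y, rfl⟩ : ∃ x y, rs = [x, y] := by
    match rs, hlen with
    | [x, y], _ => exact ⟨x, y, rfl⟩
  have hxm : x ∈ IsLocalRing.maximalIdeal R := hmem x (by simp)
  have hym : y ∈ IsLocalRing.maximalIdeal R := hmem y (by simp)
  have hx : IsSMulRegular R x := by
    rw [RingTheory.Sequence.isWeaklyRegular_cons_iff] at hreg
    exact hreg.1
  refine ⟨?_, isPreconnected_closed_iff.2 fun u v hu hv huv hnu hnv => ?_⟩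
  · by_contra hcon
    have hx' : x ∈ (⊥ : Ideal R).radical := by
      rw [Ideal.radical_eq_sInf, Submodule.mem_sInf]
      rintro p ⟨-, hp⟩
      by_contra hxp
      exact hcon ⟨⟨p, hp⟩, fun hpe => hxp ((show p = IsLocalRing.maximalIdeal R from hpe) ▸ hxm)⟩
    obtain ⟨k, hk⟩ := hx'
    exact one_ne_zero ((hx.pow k).right_eq_zero_of_smul (x := (1 : R)) (by simpa using hk))
  · obtain ⟨I₁, rfl⟩ := (PrimeSpectrum.isClosed_iff_zeroLocus_ideal u).1 hu
    obtain ⟨I₂, rfl⟩ := (PrimeSpectrum.isClosed_iff_zeroLocus_ideal v).1 hv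
    simp only [Set.Nonempty, Set.mem_inter_iff, Set.mem_ofPred_eq, PrimeSpectrum.mem_zeroLocus,
      SetLike.coe_subset_coe] at hnu hnv ⊢
    by_contra hcon
    push Not at hcon
    have hmax : ∀ {q : PrimeSpectrum R}, q.asIdeal ≤ IsLocalRing.maximalIdeal R :=
      fun {q} => IsLocalRing.le_maximalIdeal q.isPrime.ne_top
    have hsup : ∀ z ∈ IsLocalRing.maximalIdeal R, z ∈ (I₁ ⊔ I₂).radical := by
      intro z hz
      rw [Ideal.radical_eq_sInf, Submodule.mem_sInf]
      rintro p ⟨hle, hp⟩
      by_contra hzp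
      exact hcon ⟨p, hp⟩ (fun hpe => hzp ((show p = IsLocalRing.maximalIdeal R from hpe) ▸ hz)) (le_sup_left.trans hle)
        (le_sup_right.trans hle)
    have hnil : I₁ * I₂ ≤ (⊥ : Ideal R).radical := by
      intro z hz
      rw [Ideal.radical_eq_sInf, Submodule.mem_sInf]
      rintro p ⟨-, hp⟩
      by_cases hpm : p = IsLocalRing.maximalIdeal R
      · obtain ⟨q, -, hq⟩ := hnu
        exact hpm ▸ hmax (hq (Ideal.mul_le_left hz))
      · rcases huv (show (⟨p, hp⟩ : PrimeSpectrum R) ∈ {q : PrimeSpectrum R | q.asIdeal ≠ IsLocalRing.maximalIdeal R} from hpm) with h' | h'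
        · exact h' (Ideal.mul_le_left hz)
        · exact h' (Ideal.mul_le_right hz)
    obtain ⟨a, ha⟩ := Ideal.exists_pow_le_of_le_radical_of_fg hnil (IsNoetherian.noetherian _)
    rw [mul_pow, le_bot_iff] at ha
    let J := I₁ ^ a ⊔ I₂ ^ a
    have hJ : IsLocalRing.maximalIdeal R ≤ J.radical := by
      intro z hz
      obtain ⟨k, hk⟩ := hsup z hz
      refine ⟨k * (a + a + 1), ?_⟩
      rw [pow_mul]
      exact (Ideal.sup_pow_add_le_pow_sup_pow (n := a) (m := a)
        (I := I₁) (J := I₂)) (Ideal.pow_le_pow_right (by omega) (Ideal.pow_mem_pow hk _))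
    obtain ⟨k, hk⟩ := hJ hxm
    obtain ⟨l, hl⟩ := hJ hym
    have hreg' := EGA4Alg4.isWeaklyRegular_pow [x, y] [k + 1, l + 1] rfl (by simp) hreg
    simp only [List.zipWith_cons_cons, List.zipWith_nil_left,
      RingTheory.Sequence.isWeaklyRegular_cons_iff] at hreg'
    obtain ⟨hX, hY, -⟩ := hreg'
    set X := x ^ (k + 1) with hXdef
    set Y := y ^ (l + 1) with hYdef
    have hXJ : X ∈ J := by rw [hXdef, pow_succ]; exact J.mul_mem_right _ hk
    have hYJ : Y ∈ J := by rw [hYdef, pow_succ]; exact J.mul_mem_right _ hl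
    have hdisj : ∀ z ∈ I₁ ^ a, z ∈ I₂ ^ a → z = 0 := by
      intro z h1 h2
      refine hX.right_eq_zero_of_smul ?_
      obtain ⟨p, hp, q, hq, hpq⟩ := Submodule.mem_sup.1 hXJ
      have e1 : p * z = 0 := by
        have := Ideal.mul_mem_mul hp h2
        rwa [ha, Ideal.mem_bot] at this
      have e2 : q * z = 0 := by
        have := Ideal.mul_mem_mul h1 hq
        rw [ha, Ideal.mem_bot] at this
        rwa [mul_comm] at this
      rw [smul_eq_mul, ← hpq, add_mul, e1, e2, add_zero]
    obtain ⟨p, hp, q, hq, hpq⟩ := Submodule.mem_sup.1 hXJ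
    obtain ⟨p', hp', q', hq', hpq'⟩ := Submodule.mem_sup.1 hYJ
    have hsw : X * p' = Y * p := by
      have := hdisj (X * p' - Y * p) (sub_mem (Ideal.mul_mem_left _ _ hp') (Ideal.mul_mem_left _ _ hp))
        (by
          have e : X * p' - Y * p = q * p' - q' * p := by rw [← hpq, ← hpq']; ring
          rw [e]
          exact sub_mem (Ideal.mul_mem_right _ _ hq) (Ideal.mul_mem_right _ _ hq'))
      exact sub_eq_zero.1 this
    obtain ⟨e, he⟩ : ∃ e, p = X * e := by
      have h0 : Submodule.Quotient.mk (p := (X • ⊤ : Submodule R R)) p = (0 : QuotSMulTop X R) := by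
        refine hY.right_eq_zero_of_smul ?_
        change Submodule.Quotient.mk (p := (X • ⊤ : Submodule R R)) (Y • p) = 0
        rw [Submodule.Quotient.mk_eq_zero, Submodule.mem_smul_pointwise_iff_exists]
        exact ⟨p', trivial, by rw [smul_eq_mul, smul_eq_mul]; exact hsw⟩
      rw [Submodule.Quotient.mk_eq_zero, Submodule.mem_smul_pointwise_iff_exists] at h0
      obtain ⟨e, -, he⟩ := h0
      exact ⟨e, he.symm⟩
    have hkey : ∀ s ∈ I₁ ^ a, ∀ t ∈ I₂ ^ a, e * (s + t) = s := by
      intro s hs t ht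
      refine sub_eq_zero.1 (hX.right_eq_zero_of_smul ?_)
      have e1 : p * t = 0 := by
        have := Ideal.mul_mem_mul hp ht
        rwa [ha, Ideal.mem_bot] at this
      have e2 : q * s = 0 := by
        have := Ideal.mul_mem_mul hs hq
        rw [ha, Ideal.mem_bot] at this
        rwa [mul_comm] at this
      rw [smul_eq_mul]
      calc X * (e * (s + t) - s) = (X * e) * s + (X * e) * t - X * s := by ring
        _ = p * s + p * t - (p + q) * s := by rw [← he, hpq]
        _ = 0 := by rw [e1, add_mul, e2]; ring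
    rcases IsLocalRing.isUnit_or_isUnit_one_sub_self e with hu' | hu'
    · have : I₂ ^ a = ⊥ := le_bot_iff.1 fun t ht => Ideal.mem_bot.2 (hu'.mul_right_eq_zero.1 (by
        simpa using hkey 0 (zero_mem _) t ht))
      obtain ⟨q₀, hq₀, hq₀'⟩ := hnu
      exact hcon q₀ hq₀ hq₀' fun z hz => q₀.isPrime.mem_of_pow_mem a (by
        have h' := Ideal.pow_mem_pow hz a
        rw [this, Ideal.mem_bot] at h'
        rw [h']; exact zero_mem _)
    · have : I₁ ^ a = ⊥ := le_bot_iff.1 fun s hs => Ideal.mem_bot.2 (hu'.mul_right_eq_zero.1 (by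
        have := hkey s hs 0 (zero_mem _)
        rw [add_zero] at this
        rw [sub_mul, one_mul, this, sub_self]))
      obtain ⟨q₀, hq₀, hq₀'⟩ := hnv
      exact hcon q₀ hq₀ (fun z hz => q₀.isPrime.mem_of_pow_mem a (by
        have h' := Ideal.pow_mem_pow hz a
        rw [this, Ideal.mem_bot] at h'
        rw [h']; exact zero_mem _)) hq₀'

end Groth.Agent.S0335
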