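import Groth.Statements.S0433
import Mathlib
import Groth.Agent.Pinch2.Exists

set_option autoImplicit false
set_option linter.style.haveILetI false
set_option linter.style.longLine false
universe u
open FlatMor

namespace Groth.Agent.S0433

open AlgebraicGeometry CategoryTheory Limits

/-- A pushout square of schemes made of spectra comes from a pullback square of rings. -/
lemma isPullback_of_isPushout_Spec {R A₀ A₁ B₁ : CommRingCat.{u}} (p : A₁ ⟶ A₀) (q : B₁ ⟶ A₀) (φ : R ⟶ A₁)
    (ψ : R ⟶ B₁) (h : IsPushout (Spec.map p) (Spec.map q) (Spec.map φ) (Spec.map ψ)) :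
    IsPullback ψ φ q p := by
  have hw : φ ≫ p = ψ ≫ q := Spec.map_injective (by rw [Spec.map_comp, Spec.map_comp, h.w])
  have h' : IsPushout (Scheme.Spec.map p.op) (Scheme.Spec.map q.op) (Scheme.Spec.map φ.op) (Scheme.Spec.map ψ.op) := h
  exact (IsPushout.of_map Scheme.Spec (by rw [← op_comp, ← op_comp, hw]) h').unop

open AlgebraicGeometry CategoryTheory Limits in
/-- For a surjective ring map A' → A and any ring map B → A, the spectra of A, A', B and of the fibre
product ring B ×_A A' form a pushout square of schemes. -/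
theorem result {A A' B : Type u} [CommRing A] [CommRing A'] [CommRing B] (p : A' →+* A) (hp : Function.Surjective p) (q : B →+* A) :
    IsPushout (Spec.map (CommRingCat.ofHom p)) (Spec.map (CommRingCat.ofHom q))
      (Spec.map (pullback.snd (CommRingCat.ofHom q) (CommRingCat.ofHom p)))
      (Spec.map (pullback.fst (CommRingCat.ofHom q) (CommRingCat.ofHom p))) := by
  have hi : IsClosedImmersion (Spec.map (CommRingCat.ofHom p)) := IsClosedImmersion.spec_of_surjective _ hp
  let π₀ : Groth.Agent.Pinch2.Pair (Spec.map (CommRingCat.ofHom p)) (Spec.map (CommRingCat.ofHom q)) :=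
    ⟨⊤, ⊤, isAffineOpen_top _, isAffineOpen_top _, by simp⟩
  have H : Groth.Agent.Pinch2.HasPairs (Spec.map (CommRingCat.ofHom p)) (Spec.map (CommRingCat.ofHom q)) :=
    ⟨fun _ => ⟨π₀, trivial⟩, fun _ => ⟨π₀, trivial⟩⟩
  let a := Groth.Agent.Pinch2.aMap H
  let b := Groth.Agent.Pinch2.bMap H
  haveI : Surjective (Groth.Agent.Pinch2.incl π₀) := by
    refine ⟨fun x => ?_⟩
    rcases Groth.Agent.Pinch2.jointly_surjective H x with ⟨y, rfl⟩ | ⟨y, rfl⟩
    · exact (SetLike.ext_iff.1 (Groth.Agent.Pinch2.preimage_aMap H π₀) y).2 trivial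
    · exact (SetLike.ext_iff.1 (Groth.Agent.Pinch2.preimage_bMap H π₀) y).2 trivial
  haveI : IsIso (Groth.Agent.Pinch2.incl π₀) :=
    (isIso_iff_isOpenImmersion_and_surjective _).2 ⟨inferInstance, inferInstance⟩
  let l := (asIso (Groth.Agent.Pinch2.incl π₀)).symm
  have h1 : IsPushout (Spec.map (CommRingCat.ofHom p)) (Spec.map (CommRingCat.ofHom q)) (a ≫ l.hom) (b ≫ l.hom) :=
    IsPushout.of_iso (Groth.Agent.Pinch2.isPushout H) (Iso.refl _) (Iso.refl _) (Iso.refl _) l
      (by simp) (by simp) (by simp [a]) (by simp [b])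
  obtain ⟨φ, hφ⟩ : ∃ φ, Spec.map φ = a ≫ l.hom := ⟨_, Spec.map_preimage _⟩
  obtain ⟨ψ, hψ⟩ : ∃ ψ, Spec.map ψ = b ≫ l.hom := ⟨_, Spec.map_preimage _⟩
  rw [← hφ, ← hψ] at h1
  have h2 := isPullback_of_isPushout_Spec _ _ φ ψ h1
  refine IsPushout.of_iso h1 (Iso.refl _) (Iso.refl _) (Iso.refl _) (Scheme.Spec.mapIso h2.isoPullback.symm.op)
    (by simp) (by simp) ?_ ?_
  · show Spec.map φ ≫ Spec.map h2.isoPullback.inv = 𝟙 _ ≫ Spec.map _
    rw [Category.id_comp, ← Spec.map_comp, h2.isoPullback_inv_snd]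
  · show Spec.map ψ ≫ Spec.map h2.isoPullback.inv = 𝟙 _ ≫ Spec.map _
    rw [Category.id_comp, ← Spec.map_comp, h2.isoPullback_inv_fst]

end Groth.Agent.S0433
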