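import Groth.Statements.S4462
import Groth.Agent.RB70.ModPowTensor
import Groth.Agent.Mum71.LocalCrit
import Groth.Agent.Mum71.Model

set_option autoImplicit false
set_option backward.isDefEq.respectTransparency.types false
universe u
open Coherent

namespace Groth.Agent.S4462

open AlgebraicGeometry CategoryTheory in
/-- Second assertion: for a local base: let A be a Noetherian local ring with maximal ideal m and closed
point y, X a scheme proper over Spec A, F a coherent O_X-module flat over Spec A and n ≥ 0 such that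
H^(n+1)(X_y, F_y) = 0, where X_y is the closed fibre and F_y the restriction of F to it. Then for
every p ≥ 0 the canonical map H^n(X, F) → H^n(X, F/m^(p+1)F) is surjective. (For a general locally
Noetherian base the published statement is about the stalk of R^n f_* F at a point; over the local
ring of that point this is the module H^n(X, F) used here.) -/
theorem result (A : Type u) [CommRing A] [IsNoetherianRing A]
    [IsLocalRing A] (X : Scheme.{u}) [X.Over (Spec (CommRingCat.of A))]
    [IsProper (X ↘ Spec (CommRingCat.of A))] (F : X.Modules) (hF : Coh.IsCoh F)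
    (hfl : FlatMod.IsFlatOver (X ↘ Spec (CommRingCat.of A)) F) (n : ℕ)
    (hvan : Subsingleton (CohIII.fiberH (X ↘ Spec (CommRingCat.of A)) F (IsLocalRing.closedPoint A) (n + 1)))
    (p : ℕ) :
    Function.Surjective (Formal.toHHmodPow (IsLocalRing.maximalIdeal A) F n p) := by
  haveI := hF.1
  obtain ⟨ι, hι, U, L, φ, N, hU, hU', hL, hN, hφ⟩ := Mum71.exists_model A F hF hfl
  let P := Mum71.toChain L
  have hP : ∀ i, Module.Finite A (P.X i) ∧ Module.Flat A (P.X i) := fun i =>
    ⟨(hL _).1, haveI : Module.Free A (P.X i) := (hL _).2; inferInstance⟩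
  have hd : CohIII.dRank P (-((n + 1 : ℕ) : ℤ)) (IsLocalRing.closedPoint A) = 0 := by
    rw [← Mum71.fiberRank_eq_dRank hU hU' hφ (n + 1) (IsLocalRing.closedPoint A)]
    haveI := hvan
    exact Module.finrank_zero_of_subsingleton
  have hm := (Mum71.vanish_of_local hP _ hd).2.1
  have he : (CohIII.TFun P (-(n : ℤ))).PreservesEpimorphisms :=
    (S2406.result P (fun i => (hP i).2) (-(n : ℤ)) (-((n + 1 : ℕ) : ℤ)) (by push_cast; omega)).2 hm
  obtain ⟨e₂⟩ := Mum71.nonempty_TFun_toChain L (n : ℤ)
  obtain ⟨e'⟩ := Mum71.nonempty_natIso F hU hU' hφ n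
  let E := Functor.isoWhiskerRight e₂ (forget₂ (ModuleCat.{u} A) AddCommGrpCat.{u}) ≪≫ e'
  let mk := RB70.mkA (IsLocalRing.maximalIdeal A) (p + 1)
  haveI : Epi mk := (ModuleCat.epi_iff_surjective _).mpr (Submodule.mkQ_surjective _)
  haveI := he
  haveI : Epi ((CohIII.TFun P (-(n : ℤ)) ⋙ forget₂ (ModuleCat.{u} A) AddCommGrpCat.{u}).map mk) :=
    (AddCommGrpCat.epi_iff_surjective _).mpr
      ((ModuleCat.epi_iff_surjective _).mp ((CohIII.TFun P (-(n : ℤ))).map_epi mk))
  haveI hepi : Epi ((CohIII.tensorAFunctor A F ⋙ CohIII.HAb X n).map mk) := by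
    have h : (CohIII.tensorAFunctor A F ⋙ CohIII.HAb X n).map mk = E.inv.app _ ≫
        (CohIII.TFun P (-(n : ℤ)) ⋙ forget₂ (ModuleCat.{u} A) AddCommGrpCat.{u}).map mk ≫ E.hom.app _ := by
      rw [E.hom.naturality mk, E.inv_hom_id_app_assoc]
    rw [h]
    infer_instance
  haveI := RB70.isIso_oneMap (A := A) F
  haveI := RB70.isIso_fromModPow F (IsLocalRing.maximalIdeal A) (p + 1)
  let h₁ := (CohIII.HAb X n).mapIso (asIso (RB70.oneMap (A := A) F))
  let h₂ := (CohIII.HAb X n).mapIso (asIso (RB70.fromModPow F (IsLocalRing.maximalIdeal A) (p + 1)))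
  intro y
  obtain ⟨z, hz⟩ := (AddCommGrpCat.epi_iff_surjective _).mp hepi (h₂.hom y)
  refine ⟨h₁.inv z, h₂.addCommGroupIsoToAddEquiv.injective ?_⟩
  have key : (CohIII.HAb X n).map (Formal.modPowπ (IsLocalRing.maximalIdeal A) (p + 1) F) ≫ h₂.hom =
      h₁.hom ≫ (CohIII.tensorAFunctor A F ⋙ CohIII.HAb X n).map mk := by
    show _ ≫ (CohIII.HAb X n).map _ = (CohIII.HAb X n).map _ ≫ (CohIII.HAb X n).map _
    rw [← CategoryTheory.Functor.map_comp, ← CategoryTheory.Functor.map_comp, asIso_hom, asIso_hom,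
      RB70.π_fromModPow]
    rfl
  refine (congr($key (h₁.inv z))).trans ?_
  refine (congrArg ((CohIII.tensorAFunctor A F ⋙ CohIII.HAb X n).map mk) (h₁.inv_hom_id_apply z)).trans ?_
  exact hz

end Groth.Agent.S4462
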