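import Groth.Statements.S1607
import Mathlib.AlgebraicGeometry.Morphisms.Affine
import Mathlib.RingTheory.Ideal.MinimalPrime.Noetherian
import Mathlib.RingTheory.KrullDimension.Basic
import Mathlib.Tactic.LinearCombination

set_option autoImplicit false
universe u
open CategoryTheory CategoryTheory.Limits AlgebraicGeometry
open Variety

namespace Groth.Agent.S1607
theorem exists_mem_radical {A : Type*} [CommRing A] [IsLocalRing A] [IsNoetherianRing A]
    (hd : ringKrullDim A ≤ 1) (I : Ideal A) : ∃ g ∈ I, I ≤ (Ideal.span {g}).radical := by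
  classical
  by_cases htop : I ≤ IsLocalRing.maximalIdeal A
  swap
  · have : I = ⊤ := by_contra fun h => htop (IsLocalRing.le_maximalIdeal h)
    exact ⟨1, this ▸ Submodule.mem_top, by rw [Ideal.span_singleton_one]; exact le_top.trans Ideal.le_radical⟩
  have hk : Ring.KrullDimLE 1 A := Ring.krullDimLE_iff.mpr hd
  let S : Set (Ideal A) := {p ∈ minimalPrimes A | ¬ I ≤ p}
  have hS : S.Finite := (minimalPrimes.finite_of_isNoetherianRing A).subset fun p hp => hp.1
  obtain ⟨g, hgI, hg⟩ : ∃ g ∈ I, ∀ p ∈ S, g ∉ p := by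
    by_contra h
    push Not at h
    have hsub : (I : Set A) ⊆ ⋃ p ∈ (↑hS.toFinset : Set (Ideal A)), (id p : Ideal A) := fun g hg => by
      obtain ⟨p, hp, hgp⟩ := h g hg
      exact Set.mem_biUnion (Finset.mem_coe.2 (hS.mem_toFinset.2 hp)) hgp
    obtain ⟨p, hp, hle⟩ := (Ideal.subset_union_prime ⊥ ⊥ fun p hp _ _ => by
      exact (hS.mem_toFinset.1 hp).1.1.1).1 hsub
    exact (hS.mem_toFinset.1 hp).2 hle
  refine ⟨g, hgI, ?_⟩
  rw [Ideal.radical_eq_sInf]
  refine le_sInf fun q hq => ?_
  obtain ⟨hgq, hqp⟩ := hq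
  rcases Ring.krullDimLE_one_iff.1 hk q hqp with h | h
  · by_contra hIq
    exact hg q ⟨h, hIq⟩ (hgq (Ideal.subset_span (Set.mem_singleton g)))
  · exact htop.trans (IsLocalRing.eq_maximalIdeal h).ge


/-- If X is affine and each of its local rings is Noetherian of dimension at most one, then every
quasi-compact open subscheme of X is affine. -/
theorem result (X : Scheme.{u}) [IsAffine X]
    (hX : ∀ x : X, IsNoetherianRing (X.presheaf.stalk x) ∧ ringKrullDim (X.presheaf.stalk x) ≤ 1)
    (U : X.Opens) (hU : IsCompact (U : Set X)) : IsAffineOpen U := by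
  classical
  have : IsAffineHom U.ι := by
    refine isAffineHom_of_forall_exists_isAffineOpen _ fun x => ?_
    obtain ⟨hxN, hxd⟩ := hX x
    have hT := isAffineOpen_top X
    -- basic opens inside `U`
    have hfin : ∃ s : Finset Γ(X, ⊤), (U : Set X) = ⋃ f ∈ s, (X.basicOpen f : Set X) := by
      have key : ∀ y : U, ∃ f : Γ(X, ⊤), X.basicOpen f ≤ U ∧ y.1 ∈ X.basicOpen f := fun y =>
        hT.exists_basicOpen_le y trivial
      choose f hfU hyf using key
      obtain ⟨t, ht⟩ := hU.elim_finite_subcover (fun y => (X.basicOpen (f y) : Set X))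
        (fun y => (X.basicOpen (f y)).isOpen) (fun y hy => Set.mem_iUnion.2 ⟨⟨y, hy⟩, hyf ⟨y, hy⟩⟩)
      refine ⟨t.image f, le_antisymm (fun y hy => ?_) (Set.iUnion₂_subset fun g hg => ?_)⟩
      · obtain ⟨z, hz, hyz⟩ := Set.mem_iUnion₂.1 (ht hy)
        exact Set.mem_biUnion (Finset.mem_image_of_mem f hz) hyz
      · obtain ⟨z, -, rfl⟩ := Finset.mem_image.1 hg
        exact hfU z
    obtain ⟨s, hs⟩ := hfin
    let A := Γ(X, ⊤)
    let I : Ideal A := Ideal.span (s : Set A)
    have hIU : ∀ a ∈ I, X.basicOpen a ≤ U := by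
      intro a ha
      induction ha using Submodule.span_induction with
      | mem a ha => exact fun y hy => hs.ge (Set.mem_biUnion ha hy)
      | zero => simp
      | add a b _ _ iha ihb => exact (X.basicOpen_add_le a b).trans (sup_le iha ihb)
      | smul c a _ iha =>
        rw [smul_eq_mul, X.basicOpen_mul]
        exact inf_le_right.trans iha
    let R := X.presheaf.stalk x
    let germ : A →+* R := (X.presheaf.germ ⊤ x trivial).hom
    let : Algebra A R := germ.toAlgebra
    set p := (hT.primeIdealOf ⟨x, trivial⟩).asIdeal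
    have hloc : IsLocalization.AtPrime R p := hT.isLocalization_stalk ⟨x, trivial⟩
    obtain ⟨g, hg, hrad⟩ := exists_mem_radical hxd (I.map germ)
    obtain ⟨⟨⟨a, ha⟩, ⟨h, hh⟩⟩, hga⟩ := (IsLocalization.mem_map_algebraMap_iff p.primeCompl R).1
      (show g ∈ I.map (algebraMap A R) from hg)
    have hspan : Ideal.span {g} = Ideal.span {germ a} := by
      have hu : IsUnit (algebraMap A R h) := IsLocalization.map_units R ⟨h, hh⟩
      rw [← show g * algebraMap A R h = germ a from hga, Ideal.span_singleton_mul_right_unit hu]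
    have hpow : ∀ f : A, ∃ c : A, c ∉ p ∧ (f ∈ s → ∃ n : ℕ, ∃ b : A, f ^ n * c = a * b) := by
      intro f
      by_cases hf : f ∈ s
      · obtain ⟨n, hn⟩ := hrad (Ideal.mem_map_of_mem germ (Ideal.subset_span hf))
        rw [hspan, Ideal.mem_span_singleton'] at hn
        obtain ⟨r, hr⟩ := hn
        obtain ⟨b, ⟨d, hd⟩, hbd⟩ := IsLocalization.exists_mk'_eq p.primeCompl r
        have he : algebraMap A R (f ^ n * d) = algebraMap A R (a * b) := by
          rw [map_mul, map_mul, map_pow, show algebraMap A R f ^ n = germ f ^ n from rfl, ← hr, ← hbd,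
            mul_comm (IsLocalization.mk' R b _), mul_assoc]
          exact congrArg (germ a * ·) (IsLocalization.mk'_spec R b ⟨d, hd⟩)
        obtain ⟨⟨e, he'⟩, hee⟩ := (IsLocalization.eq_iff_exists p.primeCompl R).1 he
        refine ⟨e * d, mul_mem (s := p.primeCompl) he' hd, fun _ => ⟨n, e * b, ?_⟩⟩
        linear_combination hee
      · exact ⟨1, p.primeCompl.one_mem, fun h => absurd h hf⟩
    choose c hc hcs using hpow
    let H : A := ∏ f ∈ s, c f
    have hH : H ∈ p.primeCompl := prod_mem fun f _ => hc f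
    have hxH : x ∈ X.basicOpen H := by
      rw [X.mem_basicOpen_top]
      exact IsLocalization.map_units R (⟨H, hH⟩ : p.primeCompl)
    refine ⟨X.basicOpen H, hxH, hT.basicOpen H, ?_⟩
    have heq : U ⊓ X.basicOpen H = X.basicOpen (a * H) := by
      rw [X.basicOpen_mul]
      refine le_antisymm (fun y hy => ?_) (inf_le_inf_right _ (hIU a ha))
      refine ⟨?_, hy.2⟩
      obtain ⟨f, hf, hyf⟩ := Set.mem_iUnion₂.1 (hs.le hy.1)
      obtain ⟨n, b, hnb⟩ := hcs f hf
      have hyc : y ∈ X.basicOpen (c f) := by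
        have h1 := hy.2
        have h2 : H = c f * ∏ g ∈ s.erase f, c g := (Finset.mul_prod_erase s c hf).symm
        rw [h2, X.basicOpen_mul] at h1
        exact h1.1
      have h3 : y ∈ X.basicOpen (f ^ (n + 1) * c f) := by
        rw [X.basicOpen_mul, Scheme.basicOpen_pow _ _ (Nat.succ_pos n)]; exact ⟨hyf, hyc⟩
      rw [show f ^ (n + 1) * c f = a * (f * b) by linear_combination f * hnb, X.basicOpen_mul] at h3
      exact h3.1
    have haff : IsAffineOpen (U ⊓ X.basicOpen H) := heq ▸ hT.basicOpen _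
    apply U.ι.isAffineOpen_iff_of_isOpenImmersion.mp
    rw [Scheme.Hom.image_preimage_eq_opensRange_inf, Scheme.Opens.opensRange_ι]
    exact haff
  exact isAffine_of_isAffineHom U.ι

end Groth.Agent.S1607
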