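import Groth.Statements.S2116
import Mathlib
import Groth.Agent.FlatMor67.RegularSmooth
import Groth.Agent.Unr55.SmoothStalk

set_option autoImplicit false
set_option linter.style.haveILetI false
set_option linter.style.longLine false
universe u
open CAlg

namespace Groth.Agent.S2116

/-- Let `k` be algebraically closed, `S` of finite type over `k` and `𝔪` a maximal ideal of `S`. Then
the local ring `S_𝔪` is regular if and only if `S` is smooth over `k` at `𝔪`. -/
theorem result {k S : Type u} [Field k] [IsAlgClosed k] [CommRing S] [Algebra k S]
    [Algebra.FiniteType k S] (m : Ideal S) [m.IsMaximal] :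
    IsRegularLocalRing (Localization.AtPrime m) ↔ Algebra.IsSmoothAt k m := by
  constructor
  · intro h
    haveI : Module.Finite k (S ⧸ m) := by
      letI : Field (S ⧸ m) := Ideal.Quotient.field m
      exact finite_of_finite_type_of_isJacobsonRing k (S ⧸ m)
    haveI : Module.Finite k m.ResidueField :=
      Module.Finite.of_surjective (IsScalarTower.toAlgHom k (S ⧸ m) m.ResidueField).toLinearMap
        m.bijective_algebraMap_quotient_residueField.2
    haveI : Algebra.IsSeparable k m.ResidueField := Algebra.IsAlgebraic.isSeparable_of_perfectField
    haveI : Algebra.FormallyEtale k m.ResidueField := Algebra.FormallyEtale.of_isSeparable k m.ResidueField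
    exact FlatMor67.isSmoothAt_of_regular m
  · intro h
    haveI : Algebra.FinitePresentation k S := Algebra.FinitePresentation.of_finiteType.1 ‹_›
    obtain ⟨g, hg, n, _, _, _⟩ := Algebra.IsSmoothAt.exists_isStandardEtale_mvPolynomial (R := k) (p := m)
    let S' := Localization.Away g
    let q₁ := m.map (algebraMap S S')
    have hdisj : Disjoint ((Submonoid.powers g : Submonoid S) : Set S) m :=
      (Ideal.disjoint_powers_iff_notMem_of_isPrime _).mpr hg
    haveI : q₁.IsPrime := IsLocalization.isPrime_of_isPrime_disjoint (.powers g) _ _ inferInstance hdisj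
    have hq₁ : q₁.comap (algebraMap S S') = m :=
      IsLocalization.under_map_of_isPrime_disjoint (.powers g) _ inferInstance hdisj
    let P₀ := q₁.comap (algebraMap (MvPolynomial (Fin n) k) S')
    let Bq := Localization.AtPrime q₁
    haveI : IsLocalization.AtPrime Bq m := by
      have := IsLocalization.isLocalization_isLocalization_atPrime_isLocalization (.powers g) Bq q₁
      simpa only [hq₁] using this
    obtain ⟨T, _, _, _, q', _, hq', ⟨e⟩⟩ := Unr55.exists_etale_model_over q₁ P₀ rfl (Localization.AtPrime P₀) Bq
    haveI : IsRegularLocalRing (Localization.AtPrime P₀) := IsRegularRing.isRegularLocalRing_localization P₀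
    haveI := Unr55.isRegularLocalRing_of_etale q' hq'
    exact IsRegularLocalRing.of_ringEquiv (e.trans (IsLocalization.algEquiv m.primeCompl Bq (Localization.AtPrime m)).toRingEquiv)

end Groth.Agent.S2116
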