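import Groth.Statements.S2481
import Groth.Agent.FSAdic12.Artinian

set_option autoImplicit false
universe u
open EGA41 TensorProduct IsLocalRing

namespace Groth.Agent.S2481

open IsLocalRing in
/-- Let A → B be a local homomorphism of Noetherian local rings with the adic topologies, K the residue
field of B. Then B is formally smooth over A if and only if: for every Artinian local ring C with a
local homomorphism A → C, every nilpotent ideal J of C and every local A-algebra homomorphism u : B
→ C/J inducing a bijection of residue fields (so that C has residue field K and u induces the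
identity on it), u is induced by a local A-algebra homomorphism B → C. -/
theorem result {A B : Type u} [CommRing A] [IsLocalRing A] [IsNoetherianRing A] [CommRing B] [IsLocalRing B] [IsNoetherianRing B]
    [Algebra A B] [IsLocalHom (algebraMap A B)] :
    EGA41.IsFormallySmoothAdic A (maximalIdeal A) B (maximalIdeal B) ↔
      ∀ (C : Type u) [CommRing C] [IsLocalRing C] [IsArtinianRing C] [Algebra A C] [IsLocalHom (algebraMap A C)]
        (J : Ideal C), IsNilpotent J → ∀ [IsLocalRing (C ⧸ J)] (u : B →ₐ[A] C ⧸ J) [IsLocalHom u.toRingHom],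
        Function.Bijective (ResidueField.map u.toRingHom) →
        ∃ f : B →ₐ[A] C, IsLocalHom f.toRingHom ∧ (Ideal.Quotient.mkₐ A J).comp f = u := by
  constructor
  · intro h C _ _ _ _ _ J hJ _ u _ _
    have hmC : IsNilpotent (maximalIdeal C) := (isArtinianRing_iff_isNilpotent_maximalIdeal C).mp inferInstance
    obtain ⟨n, hn⟩ := hmC
    have hsurj : Function.Surjective (Ideal.Quotient.mk J) := Ideal.Quotient.mk_surjective
    have hu : (maximalIdeal B).map u.toRingHom ≤ maximalIdeal (C ⧸ J) :=
      ((IsLocalRing.local_hom_TFAE u.toRingHom).out 0 2).mp ‹_›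
    have hA : (maximalIdeal A).map (algebraMap A C) ≤ maximalIdeal C :=
      ((IsLocalRing.local_hom_TFAE (algebraMap A C)).out 0 2).mp ‹_›
    obtain ⟨v, hv⟩ := h C J hJ ⟨n, by
      rw [Ideal.map_pow]
      exact eq_bot_iff.mpr ((Ideal.pow_right_mono hA n).trans hn.le)⟩ u ⟨n, fun x hx => by
      have h1 := Ideal.mem_map_of_mem u.toRingHom hx
      rw [Ideal.map_pow] at h1
      have h2 := Ideal.pow_right_mono hu n h1
      rw [← IsLocalRing.map_maximalIdeal_of_surjective (Ideal.Quotient.mk J) hsurj, ← Ideal.map_pow, hn] at h2
      simpa [Ideal.zero_eq_bot, Ideal.map_bot] using h2⟩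
    refine ⟨v, ?_, hv⟩
    have : IsLocalHom (Ideal.Quotient.mk J) := IsLocalHom.of_surjective (Ideal.Quotient.mk J) hsurj
    refine ⟨fun b hb => ?_⟩
    have h1 : IsUnit (u b) := by
      rw [← AlgHom.congr_fun hv b]
      exact hb.map (Ideal.Quotient.mk J)
    exact IsUnit.of_map u.toRingHom b h1
  · intro h C _ _ J hJ _ u hu
    exact Groth.Agent.FSAdic12.exists_lift_of_liftsArtinian h J hJ u hu

end Groth.Agent.S2481
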