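import Groth.Statements.S0392
import Groth.Agent.FlatCrit65.Fibre

set_option autoImplicit false
universe u
open FlatMor

namespace Groth.Agent.S0392

open TensorProduct in
/-- Fibrewise criterion of flatness, Noetherian local form: for local homomorphisms R → S → S' of
Noetherian local rings and a nonzero finite S'-module M that is flat over R and whose reduction
modulo the maximal ideal of R is flat over the corresponding fibre ring of S, the ring S is flat
over R and M is flat over S. -/
theorem result {R S S' M : Type u} [CommRing R] [CommRing S] [CommRing S'] [IsLocalRing R] [IsLocalRing S] [IsLocalRing S']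
    [IsNoetherianRing R] [IsNoetherianRing S] [IsNoetherianRing S'] [Algebra R S] [Algebra S S'] [Algebra R S'] [IsScalarTower R S S']
    [IsLocalHom (algebraMap R S)] [IsLocalHom (algebraMap S S')]
    [AddCommGroup M] [Module S' M] [Module S M] [Module R M] [IsScalarTower S S' M] [IsScalarTower R S M]
    [Module.Finite S' M] [Nontrivial M] [Module.Flat R M]
    (h : Module.Flat (S ⧸ ((IsLocalRing.maximalIdeal R).map (algebraMap R S))) ((S ⧸ ((IsLocalRing.maximalIdeal R).map (algebraMap R S))) ⊗[S] M)) :
    Module.Flat R S ∧ Module.Flat S M := by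
  have hI : (IsLocalRing.maximalIdeal R).map (algebraMap R S) ≠ ⊤ := by
    refine ne_top_of_le_ne_top (Ideal.IsPrime.ne_top (inferInstance :
      (IsLocalRing.maximalIdeal S).IsPrime)) ?_
    rw [Ideal.map_le_iff_le_comap]
    exact fun x hx hu => hx (isUnit_of_map_unit (algebraMap R S) x hu)
  have hSM : Module.Flat S M :=
    Groth.Agent.FlatCrit65.flat_of_lexQuot_of_isLocalRing (S := S') hI
      (Groth.Agent.FlatCrit65.torTriv_of_injective
        (Groth.Agent.FlatCrit65.injective_lTensor_map (S := S) (IsLocalRing.maximalIdeal R)) h).lexQuot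
  have : Module.FaithfullyFlat S M :=
    Groth.Agent.FlatCrit65.faithfullyFlat_of_isLocalHom (S' := S')
  let inst : Field (R ⧸ IsLocalRing.maximalIdeal R) := Ideal.Quotient.field _
  have : Module.Free (R ⧸ IsLocalRing.maximalIdeal R)
      ((R ⧸ IsLocalRing.maximalIdeal R) ⊗[R] S) := Module.Free.of_divisionRing _ _
  exact ⟨Groth.Agent.FlatCrit65.flat_of_lexQuot_of_isLocalRing (S := S)
    (IsLocalRing.maximalIdeal.isMaximal R).ne_top (Groth.Agent.FlatCrit65.torTriv_of_injective
      (Groth.Agent.FlatCrit65.injective_lTensor_of_faithfullyFlat (M := M) _) inferInstance).lexQuot,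
    hSM⟩

end Groth.Agent.S0392
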