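import Groth.Statements.S0272
import Groth.Agent.Pure83.CompleteIntersection

set_option autoImplicit false
universe u
open Pi1

namespace Groth.Agent.S0272

open AlgebraicGeometry CategoryTheory CategoryTheory.Limits in
/-- Let A be a Noetherian local ring which is a complete intersection (its completion is a regular local
ring modulo a regular sequence) of dimension at least 3. Then every finite etale cover of the
punctured spectrum of A extends to Spec A. -/
theorem result (A : Type u) [CommRing A] [IsNoetherianRing A] [IsLocalRing A] (hA : Pi1.IsCompleteIntersection A)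
    (hd : (3 : WithBot ℕ∞) ≤ ringKrullDim A) : FEt.PurityHolds A := by
  obtain ⟨B, _, _, rs, hm, hreg, ⟨e⟩⟩ := hA
  let m := IsLocalRing.maximalIdeal A
  let C := AdicCompletion m A
  have : IsNoetherianRing C := Cohen12.isNoetherianRing_completion (A := A)
  have : IsLocalRing (B ⧸ Ideal.ofList rs) := e.isLocalRing
  have hdC : (3 : WithBot ℕ∞) ≤ ringKrullDim (B ⧸ Ideal.ofList rs) := by
    show _ ≤ ringKrullDim (B ⧸ Ideal.span {r | r ∈ rs})
    rw [← ringKrullDim_eq_of_ringEquiv e, CAlg1.ringKrullDim_adicCompletion A]
    exact hd
  have hcm := Pure83.cm_quotient_ofList B rs hm hreg.toIsWeaklyRegular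
  have hC : LocCoh.IsCohenMacaulayLocalRing C := CAlg1.cm_of_ringEquiv e.symm hcm
  have h2 : (2 : ℕ∞) ≤ LocCoh.depth A A := by
    have h3 := Pure83.three_le_depth C (by rw [CAlg1.ringKrullDim_adicCompletion A]; exact hd)
    have h5 := S5810.result A A
    exact le_trans (by norm_num) (h5 ▸ h3)
  have hm' : m.map (algebraMap A C) = IsLocalRing.maximalIdeal C :=
    AdicCompletion.maximalIdeal_eq_map.symm
  have : Module.Flat A C := AdicCompletion.flat_of_isNoetherian _
  have : IsLocalHom (algebraMap A C) :=
    ((IsLocalRing.local_hom_TFAE (algebraMap A C)).out 2 0).mp hm'.le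
  have : Module.FaithfullyFlat A C := Module.FaithfullyFlat.of_flat_of_isLocalHom
  exact Pure83.purityHolds_of_faithfullyFlat h2 hm'
    (Pure83.purityHolds_congr e (Pure83.purityCI rs.length B rs rfl hm hreg.toIsWeaklyRegular hdC))

end Groth.Agent.S0272
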