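import Groth.Statements.S0766
import Groth.Agent.DerTele91.ProEt
import Groth.Agent.DerTele91.Nakayama


set_option autoImplicit false
open CategoryTheory CategoryTheory.Limits AlgebraicGeometry Opposite
universe u
open ProEtDC

namespace Groth.Agent.S0766

/-- Let L be a ring (value universe), I an ideal generated by finitely many elements a_1, ..., a_r, and
F a sheaf of L-modules on X_proet which is derived complete with respect to I and satisfies F/IF = 0
(the map F^r -> F, (s_k) |-> sum a_k s_k, is an epimorphism). Then F = 0. -/
theorem result (X : Scheme.{u}) (Λ : Type (u + 1)) [CommRing Λ]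
    {r : ℕ} (a : Fin r → Λ) (F : EtModW.ModP Λ X)
    (hF : ProEtDC.IsDCSheaf Λ (Ideal.span (Set.range a)) F) (h0 : ProEtDC.ModGensIsZero Λ a F) :
    IsZero F := by
  have hT := (DerTele91.isDCSheaf_iff _ F).1 hF
  have : Subsingleton (Projective.over F ⟶ F) :=
    DerTele91.subsingleton_of_gens a (fun k => hT _ (Ideal.subset_span ⟨k, rfl⟩) _) fun m => by
      have : Epi (biproduct.desc fun k : Fin r => ProEtDC.smulHom Λ F (a k)) := h0
      have e := Projective.factorThru_comp m (biproduct.desc fun k : Fin r => ProEtDC.smulHom Λ F (a k))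
      generalize Projective.factorThru m (biproduct.desc fun k : Fin r => ProEtDC.smulHom Λ F (a k)) = t at e
      rw [biproduct.desc_eq, Preadditive.comp_sum] at e
      refine ⟨fun k => t ≫ biproduct.π _ k, Eq.trans ?_ e⟩
      refine Finset.sum_congr rfl fun k _ => ?_
      rw [show ProEtDC.smulHom Λ F (a k) = a k • 𝟙 F from rfl, Linear.comp_smul, Linear.comp_smul,
        Category.comp_id]
  refine (IsZero.iff_id_eq_zero F).2 ((cancel_epi (Projective.π F)).1 ?_)
  exact Subsingleton.elim _ _

end Groth.Agent.S0766
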