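import Groth.Statements.S0776
import Groth.Agent.DerTele91.ProEt


set_option autoImplicit false
open CategoryTheory CategoryTheory.Limits AlgebraicGeometry Opposite
universe u
open ProEtDC

namespace Groth.Agent.S0776

/-- For a Noetherian ring L (value universe) and an ideal I, the sheaf L^ = lim_n L/I^n (limit of
constant sheaves) on X_proet is derived complete with respect to I. -/
theorem result (X : Scheme.{u}) (Λ : Type (u + 1)) [CommRing Λ]
    [IsNoetherianRing Λ] (I : Ideal Λ) : ProEtDC.IsDCSheaf Λ I (ProEtDC.lambdaHat Λ X I) := by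
  refine (DerTele91.isDCSheaf_iff I _).2 fun f hf => DerTele91.isTele_of_isLimit (limit.isLimit _)
    fun j P _ => DerTele91.tBij_of_nilpotent j.unop fun x => ?_
  let P' := (Functor.const (X.ProEt)ᵒᵖ).obj ((ProEtDC.quotTower Λ I).obj j)
  let S := (presheafToSheaf (Scheme.ProEt.topology X) (ModuleCat.{u + 1} Λ)).obj P'
  have h0 : (f ^ j.unop • 𝟙 S : S ⟶ S) = 0 := by
    refine Sheaf.hom_ext (sheafify_hom_ext _ _ _ S.2 ?_)
    ext V z
    change f ^ j.unop • ((toSheafify (Scheme.ProEt.topology X) P').app V).hom z = 0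
    rw [← map_smul]
    refine (congrArg _ ?_).trans (map_zero _)
    obtain ⟨w, rfl⟩ := Submodule.Quotient.mk_surjective _ z
    change (Submodule.Quotient.mk (f ^ j.unop • w) : Λ ⧸ (I ^ j.unop • ⊤ : Submodule Λ Λ)) = 0
    exact (Submodule.Quotient.mk_eq_zero _).2
      (Submodule.smul_mem_smul (Ideal.pow_mem_pow hf _) Submodule.mem_top)
  change f ^ j.unop • (x : P ⟶ S) = 0
  rw [← Category.comp_id (x : P ⟶ S), ← Linear.comp_smul]
  exact (congrArg (fun t : S ⟶ S => (x : P ⟶ S) ≫ t) h0).trans comp_zero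

end Groth.Agent.S0776
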