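import Groth.Statements.S11268
import Mathlib.Data.Fin.Basic

set_option autoImplicit false
open W4bk4grassmannian

namespace Groth.Agent.S11268

open W4bk4grassmannian in
/-- Let τ < w in I(d,n), the strictly increasing maps Fin d → Fin n ordered entrywise. Then there is a
Schubert divisor φ of w, i.e. φ < w with Σ_t (φ_t - t) + 1 = Σ_t (w_t - t), such that τ ≤ φ: every
proper Schubert subvariety of X(w) lies in a Schubert divisor of X(w). -/
theorem result (d n : ℕ) (τ w : Idx d n) (h : τ < w) :
    ∃ φ ∈ divisors w, τ ≤ φ := by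
  classical
  have hne : ∃ t, τ.1 t ≠ w.1 t := by
    by_contra hn
    simp only [not_exists, not_not] at hn
    exact h.ne (Subtype.ext (funext hn))
  let S := Finset.univ.filter fun t => τ.1 t ≠ w.1 t
  have hS : S.Nonempty := by obtain ⟨t, ht⟩ := hne; exact ⟨t, Finset.mem_filter.2 ⟨Finset.mem_univ _, ht⟩⟩
  set t := S.min' hS with htdef
  have ht : (τ.1 t).val < (w.1 t).val := by
    have h1 : τ.1 t ≤ w.1 t := h.le t
    have h2 := (Finset.mem_filter.1 (S.min'_mem hS)).2
    exact Fin.lt_def.1 (lt_of_le_of_ne h1 h2)
  have hmin : ∀ s, s < t → τ.1 s = w.1 s := fun s hs => by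
    by_contra hne
    exact absurd (Finset.min'_le S s (Finset.mem_filter.2 ⟨Finset.mem_univ _, hne⟩)) (not_le.2 hs)
  let v : Fin n := ⟨(w.1 t).val - 1, by have := (w.1 t).isLt; omega⟩
  have hmono : StrictMono (Function.update w.1 t v) := by
    intro a b hab
    have hw := w.2 hab
    rcases eq_or_ne a t with rfl | ha
    · rw [Function.update_self, Function.update_of_ne hab.ne']
      exact Fin.lt_def.2 (by simp only [v]; rw [Fin.lt_def] at hw; omega)
    · rw [Function.update_of_ne ha]
      rcases eq_or_ne b t with rfl | hb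
      · rw [Function.update_self, ← hmin a hab]
        have h3 : τ.1 a < τ.1 t := τ.2 hab
        rw [Fin.lt_def] at h3 ⊢
        simp only [v]
        omega
      · rw [Function.update_of_ne hb]; exact hw
  have hpos : ∀ (θ : Idx d n) (s : Fin d), s.val ≤ (θ.1 s).val := by
    intro θ s
    obtain ⟨m, hm⟩ := s
    induction m with
    | zero => exact Nat.zero_le _
    | succ m ih =>
      have := ih (by omega)
      have h4 : θ.1 ⟨m, by omega⟩ < θ.1 ⟨m + 1, hm⟩ := θ.2 (Fin.mk_lt_mk.2 (by omega))
      rw [Fin.lt_def] at h4
      simp only at this ⊢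
      omega
  let φ : Idx d n := ⟨Function.update w.1 t v, hmono⟩
  have hφw : φ ≤ w := fun s => by
    change Function.update w.1 t v s ≤ w.1 s
    rcases eq_or_ne s t with rfl | hs
    · rw [Function.update_self, Fin.le_def]; simp only [v]; omega
    · rw [Function.update_of_ne hs]
  refine ⟨φ, ⟨lt_of_le_of_ne hφw fun e => ?_, ?_⟩, fun s => ?_⟩
  · have := congrArg (fun θ : Idx d n => (θ.1 t).val) e
    simp only [φ, Function.update_self, v] at this
    omega
  · unfold codeg
    rw [← Finset.add_sum_erase _ _ (Finset.mem_univ t), ← Finset.add_sum_erase _ _ (Finset.mem_univ t)]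
    have e : ∀ s ∈ Finset.univ.erase t, (φ.1 s).val - s.val = (w.1 s).val - s.val := fun s hs => by
      simp only [φ, Function.update_of_ne (Finset.mem_erase.1 hs).1]
    rw [Finset.sum_congr rfl e]
    simp only [φ, Function.update_self, v]
    have := hpos τ t
    omega
  · change τ.1 s ≤ Function.update w.1 t v s
    rcases eq_or_ne s t with rfl | hs
    · rw [Function.update_self, Fin.le_def]; simp only [v]; omega
    · rw [Function.update_of_ne hs]; exact h.le s

end Groth.Agent.S11268
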