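import Groth.Statements.S12460
import Groth.Agent.Props58.J2

set_option autoImplicit false
universe u
open CategoryTheory AlgebraicGeometry
open Props

namespace Groth.Agent.S12460

/-- (1) ⇔ (3) ⇔ (4): let X be a locally Noetherian scheme. Then X is J-2 — for every morphism Y → X
locally of finite type the set of points y with O_{Y,y} a regular local ring is open in Y — if and
only if for every affine open U of X the ring Γ(X, U) is J-2 (every finite type algebra over it has
open regular locus), if and only if every point of X lies in such an affine open. (Schemes Y over X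
are taken in the universe of X.) -/
theorem result (X : Scheme.{u}) [IsLocallyNoetherian X] :
    ((∀ (Y : Scheme.{u}) (g : Y ⟶ X), LocallyOfFiniteType g →
        IsOpen {y : Y | IsRegularLocalRing (Y.presheaf.stalk y)}) ↔
      ∀ U : X.affineOpens, EGA4.IsJ2 Γ(X, U)) ∧
    ((∀ (Y : Scheme.{u}) (g : Y ⟶ X), LocallyOfFiniteType g →
        IsOpen {y : Y | IsRegularLocalRing (Y.presheaf.stalk y)}) ↔
      ∀ x : X, ∃ U : X.affineOpens, x ∈ (U : X.Opens) ∧ EGA4.IsJ2 Γ(X, U)) := by
  have key : (∀ (Y : Scheme.{u}) (g : Y ⟶ X), LocallyOfFiniteType g →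
      IsOpen {y : Y | IsRegularLocalRing (Y.presheaf.stalk y)}) → ∀ U : X.affineOpens, EGA4.IsJ2 Γ(X, U) :=
    fun h U => Groth.Agent.Props58.J2.isJ2_of_forall X h U
  have cover : (∀ U : X.affineOpens, EGA4.IsJ2 Γ(X, U)) →
      ∀ x : X, ∃ U : X.affineOpens, x ∈ (U : X.Opens) ∧ EGA4.IsJ2 Γ(X, U) := fun h x => by
    obtain ⟨U, hU, hxU, -⟩ :=
      exists_isAffineOpen_mem_and_subset (show x ∈ (⊤ : X.Opens) from trivial)
    exact ⟨⟨U, hU⟩, hxU, h _⟩
  exact ⟨⟨key, fun h Y g hg => Groth.Agent.Props58.J2.j2_of_cover X (cover h) Y g⟩,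
    ⟨fun h => cover (key h), fun h Y g hg => Groth.Agent.Props58.J2.j2_of_cover X h Y g⟩⟩

end Groth.Agent.S12460
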