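import Groth.Statements.S2351
import Groth.Agent.VarNorm.Props
import Groth.Agent.EGA73.IntegralNormal

set_option autoImplicit false
universe u
open CategoryTheory CategoryTheory.Limits AlgebraicGeometry
open EGA2

namespace Groth.Agent.S2351

/-- Let X be an integral scheme and X' → X its normalization (integral closure of X in its function
field). Then X' is integral with integrally closed local rings, the morphism X' → X is surjective,
maps the generic point to the generic point and induces a bijection between the residue fields of
the generic points. (The quasi-compactness/quasi-separatedness binders on Spec K(X) → X always hold;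
they are only needed to form Mathlib's relative normalization.) -/
theorem result (X : Scheme.{u}) [IsIntegral X]
    [QuasiCompact (X.fromSpecStalk (genericPoint X))] [QuasiSeparated (X.fromSpecStalk (genericPoint X))] :
    ∃ (_ : IsIntegral (Curv2.normalization X)), Pi1.IsNormalScheme (Curv2.normalization X) ∧ Surjective (Curv2.normalizationι X) ∧
      ∃ hgen : (Curv2.normalizationι X).base (genericPoint (Curv2.normalization X)) = genericPoint X,
        Function.Bijective ((Curv2.normalizationι X).residueFieldMap (genericPoint (Curv2.normalization X))).hom := by
  let f := X.fromSpecStalk (genericPoint X)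
  haveI hint : IsIntegral (Curv2.normalization X) :=
    inferInstanceAs (IsIntegral f.normalization)
  haveI : IsIntegralHom (Curv2.normalizationι X) :=
    inferInstanceAs (IsIntegralHom f.fromNormalization)
  have hcp : f (IsLocalRing.closedPoint (X.presheaf.stalk (genericPoint X))) = genericPoint X :=
    Scheme.fromSpecStalk_closedPoint
  let p := f.toNormalization (IsLocalRing.closedPoint (X.presheaf.stalk (genericPoint X)))
  have hνp : Curv2.normalizationι X p = genericPoint X := by
    show f.fromNormalization p = _
    rw [← Scheme.Hom.comp_apply, Scheme.Hom.toNormalization_fromNormalization]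
    exact hcp
  haveI : IsDominant (Curv2.normalizationι X) := by
    refine ⟨dense_iff_closure_eq.2 (Set.eq_univ_of_univ_subset ?_)⟩
    rw [← genericPoint_closure]
    exact closure_mono (Set.singleton_subset_iff.2 ⟨_, hνp⟩)
  have hgen : (Curv2.normalizationι X) (genericPoint (Curv2.normalization X)) = genericPoint X :=
    EGA73.genericPoint_of_isDominant _
  have hp : p = genericPoint (Curv2.normalization X) := by
    have h : f.toNormalization (genericPoint (Spec (X.presheaf.stalk (genericPoint X)))) =
        genericPoint f.normalization := EGA73.genericPoint_of_isDominant _
    exact (congrArg _ (Subsingleton.elim (α := PrimeSpectrum X.functionField) _ _)).trans h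
  refine ⟨hint, VarNorm.isNormalScheme X, ⟨?_⟩, hgen, ?_⟩
  · rw [← Set.range_eq_univ, ← (Curv2.normalizationι X).isClosedMap.isClosed_range.closure_eq]
    exact (Curv2.normalizationι X).denseRange.closure_range
  · rw [← hp]
    refine ⟨RingHom.injective _, fun y => ?_⟩
    let q := IsLocalRing.closedPoint (X.presheaf.stalk (genericPoint X))
    have hs : Function.Surjective ((f.toNormalization ≫ f.fromNormalization).residueFieldMap q).hom := by
      rw [Scheme.Hom.toNormalization_fromNormalization]
      intro z
      obtain ⟨z, rfl⟩ := IsLocalRing.residue_surjective z
      obtain ⟨w, rfl⟩ := f.stalkMap_surjective q z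
      exact ⟨IsLocalRing.residue _ w, rfl⟩
    obtain ⟨w, hw⟩ := hs (f.toNormalization.residueFieldMap q y)
    rw [Scheme.residueFieldMap_comp] at hw
    exact ⟨w, (f.toNormalization.residueFieldMap q).hom.injective hw⟩

end Groth.Agent.S2351
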