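import Groth.Statements.S9501
import Mathlib.AlgebraicGeometry.Fiber
import Mathlib.AlgebraicGeometry.Morphisms.Preimmersion

set_option autoImplicit false
universe u
open SchMor

namespace Groth.Agent.S9501

open AlgebraicGeometry in
open CategoryTheory in
/-- Let f : X → S be a morphism of schemes, s a point of S and y a point of the fibre X_s = X ×_S Spec
κ(s), mapping to the point x of X (so that f(x) = s). Then the homomorphism of local rings O_{X,x} →
O_{X_s,y} induced by the projection X_s → X is surjective, with kernel the ideal generated by the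
image of the maximal ideal of O_{S,f(x)}; in other words O_{X_s,y} is identified with O_{X,x}/m_s
O_{X,x} = O_{X,x} ⊗_{O_{S,s}} κ(s). -/
theorem result
    {X S : Scheme.{u}} (f : X ⟶ S) (s : S) (y : ↥(f.fiber s)) :
    Function.Surjective ((f.fiberι s).stalkMap y).hom ∧
      RingHom.ker ((f.fiberι s).stalkMap y).hom =
        Ideal.map (f.stalkMap ((f.fiberι s).base y)).hom
          (IsLocalRing.maximalIdeal (S.presheaf.stalk (f.base ((f.fiberι s).base y)))) := by
  have hfac := f.fiber_fac s
  set ι := f.fiberι s with hι
  refine ⟨ι.stalkMap_surjective y, le_antisymm ?_ ?_⟩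
  · set x := ι.base y
    set φ := (f.stalkMap x).hom
    set m := IsLocalRing.maximalIdeal (S.presheaf.stalk (f.base x))
    have hle : m.map φ ≤ IsLocalRing.maximalIdeal (X.presheaf.stalk x) := by
      rw [Ideal.map_le_iff_le_comap]
      exact fun a ha h => ha ((isUnit_map_iff φ a).mp h)
    let B := X.presheaf.stalk x ⧸ m.map φ
    have : Nontrivial B := Ideal.Quotient.nontrivial_iff.mpr
      fun h => IsLocalRing.maximalIdeal.isMaximal _ |>.ne_top (top_le_iff.mp (h ▸ hle))
    have : IsLocalRing B := .of_surjective' _ Ideal.Quotient.mk_surjective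
    let q : X.presheaf.stalk x ⟶ CommRingCat.of B := CommRingCat.ofHom (Ideal.Quotient.mk (m.map φ))
    let g : S.residueField (f.base x) ⟶ CommRingCat.of B :=
      CommRingCat.ofHom (Ideal.Quotient.lift _ (q.hom.comp φ)
        fun a ha => Ideal.Quotient.eq_zero_iff_mem.mpr (Ideal.mem_map_of_mem φ ha))
    have hsx : f.base x = s := by
      have : x ∈ Set.range ι := ⟨y, rfl⟩
      rw [hι, Scheme.Hom.range_fiberι] at this
      exact this
    have hg : f.stalkMap x ≫ q = S.residue (f.base x) ≫ g := rfl
    have hw : (Spec.map q ≫ X.fromSpecStalk x) ≫ f =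
        (Spec.map g ≫ Spec.map (S.residueFieldCongr hsx.symm).hom) ≫ S.fromSpecResidueField s := by
      rw [Category.assoc, Category.assoc, ← Scheme.SpecMap_stalkMap_fromSpecStalk,
        Scheme.residueFieldCongr_fromSpecResidueField, ← Spec.map_comp_assoc]
      rw [hg, Spec.map_comp, Category.assoc]
      rfl
    let h : Spec (CommRingCat.of B) ⟶ f.fiber s := Limits.pullback.lift _ _ hw
    have hh : h ≫ ι = Spec.map q ≫ X.fromSpecStalk x := Limits.pullback.lift_fst _ _ _
    have hqc : (Spec.map q ≫ X.fromSpecStalk x) (IsLocalRing.closedPoint B) = x := by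
      have : IsLocalHom q.hom := .of_surjective _ Ideal.Quotient.mk_surjective
      rw [Scheme.Hom.comp_apply]
      exact (congrArg (X.fromSpecStalk x) (IsLocalRing.comap_closedPoint q.hom)).trans
        Scheme.fromSpecStalk_closedPoint
    have key : ∀ (y' : f.fiber s) (q' : X.presheaf.stalk (ι y') ⟶ CommRingCat.of B),
        h ≫ ι = Spec.map q' ≫ X.fromSpecStalk (ι y') → h (IsLocalRing.closedPoint B) = y' →
        ∃ ψ, ι.stalkMap y' ≫ ψ = q' := by
      rintro y' q' h1 rfl
      refine ⟨Scheme.stalkClosedPointTo h, Spec.map_injective ?_⟩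
      rw [← cancel_mono (X.fromSpecStalk _), Spec.map_comp, Category.assoc,
        Scheme.SpecMap_stalkMap_fromSpecStalk, Scheme.Spec_stalkClosedPointTo_fromSpecStalk_assoc, h1]
    obtain ⟨ψ, hψ⟩ := key y q hh (ι.isEmbedding.injective (by
      rw [← Scheme.Hom.comp_apply, hh]; exact hqc))
    intro a ha
    rw [← Ideal.Quotient.eq_zero_iff_mem]
    change q a = 0
    rw [← hψ, CommRingCat.comp_apply, show ι.stalkMap y a = 0 from ha, map_zero]
  · rw [Ideal.map_le_iff_le_comap]
    intro a ha
    change (ι.stalkMap y) (f.stalkMap (ι y) a) = 0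
    rw [← CommRingCat.comp_apply, ← Scheme.Hom.stalkMap_comp, Scheme.Hom.stalkMap_congr_hom _ _ hfac y,
      Scheme.Hom.stalkMap_comp]
    refine (CommRingCat.comp_apply _ _ _).trans ?_
    refine (CommRingCat.comp_apply _ _ _).trans ?_
    refine (congrArg ((f.fiberToSpecResidueField s).stalkMap y).hom ?_).trans
      (map_zero ((f.fiberToSpecResidueField s).stalkMap y).hom)
    set p := f.fiberToSpecResidueField s y
    have hF : IsField ((Spec (S.residueField s)).presheaf.stalk p) := by
      have : IsField (Localization.AtPrime (show PrimeSpectrum (S.residueField s) from p).asIdeal) := by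
        refine (IsLocalRing.isField_iff_maximalIdeal_eq).mpr ?_
        rw [← IsLocalization.AtPrime.map_eq_maximalIdeal (show PrimeSpectrum (S.residueField s) from p).asIdeal]
        exact le_bot_iff.mp ((Ideal.map_mono ((Ideal.eq_bot_or_top _).resolve_right
          (show PrimeSpectrum (S.residueField s) from p).isPrime.ne_top).le).trans Ideal.map_bot.le)
      exact MulEquiv.isField this (Spec.stalkIso (S.residueField s) p).commRingCatIsoToRingEquiv.toMulEquiv
    have key : ∀ z, ¬ IsUnit z → (S.fromSpecResidueField s).stalkMap p z = 0 := fun z hz => by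
      by_contra hne
      obtain ⟨b, hb⟩ := hF.mul_inv_cancel hne
      exact hz ((isUnit_map_iff ((S.fromSpecResidueField s).stalkMap p).hom z).mp
        (IsUnit.of_mul_eq_one b hb))
    refine key _ fun h => ha ?_
    refine (@isUnit_map_iff _ _ _ _ _ _ _ (CommRingCat.Hom.hom (TopCat.Presheaf.stalkCongr S.presheaf _).hom) ?_ a).mp h
    exact isLocalHom_of_isIso _

end Groth.Agent.S9501
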