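import Groth.Statements.S3599
import Groth.Agent.EGA73.BiratNorm
import Groth.Agent.EGA73.NormRelAmple

set_option autoImplicit false
universe u
open CategoryTheory CategoryTheory.Limits AlgebraicGeometry
open EGA2

namespace Groth.Agent.S3599

/-- Let Y be an affine scheme, X a Noetherian reduced scheme, f : X → Y a quasi-compact morphism, g : X'
→ X a finite surjective morphism, and W an open subset of X such that at every point x of W either
the local ring of X is an integrally closed domain or the direct image of the structure sheaf of X'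
is locally free on some open neighbourhood of x inside W. Then there are a reduced scheme Z and a
finite birational morphism h : Z → X (birational in the sense that h is an isomorphism over some
dense open of X whose inverse image is dense in Z) which is an isomorphism over W, such that for
every invertible O_X-module L whose inverse image on X' is ample relative to f ∘ g, the inverse
image of L on Z is ample relative to f ∘ h. -/
theorem result {X X' Y : Scheme.{u}} [IsAffine Y]
    [IsNoetherian X] [IsReduced X] (f : X ⟶ Y) [QuasiCompact f] (g : X' ⟶ X) [IsFinite g] [Surjective g]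
    (W : X.Opens)
    (hW : ∀ x ∈ W, (IsDomain (X.presheaf.stalk x) ∧ IsIntegrallyClosed (X.presheaf.stalk x)) ∨
      ∃ T : X.Opens, x ∈ T ∧ T ≤ W ∧ FlatMod.IsFinLocFree (((Coh.push g).obj (Coh.structureModule X')).restrict T.ι)) :
    ∃ (Z : Scheme.{u}) (_ : IsReduced Z) (h : Z ⟶ X) (_ : IsFinite h),
      IsIso (h ∣_ W) ∧
        (∃ V : X.Opens, Dense (V : Set X) ∧ Dense ((h ⁻¹ᵁ V : Z.Opens) : Set Z) ∧ IsIso (h ∣_ V)) ∧
        ∀ L : X.Modules, PicF.IsInvertible L →
          RelAmple.IsRelAmple (g ≫ f) ((Scheme.Modules.pullback g).obj L) →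
            RelAmple.IsRelAmple (h ≫ f) ((Scheme.Modules.pullback h).obj L) := by
  obtain ⟨G⟩ := EGA73.exists_genCharts g
  haveI := G.isFinite_h
  refine ⟨G.Z, G.isReduced_Z, G.h, inferInstance, G.isIso_restrict fun y hy => (hW y hy).imp id
    fun ⟨T, hyT, _, hT⟩ => EGA73.exists_isChart_of_restrict g hyT hT,
    ⟨G.generic, G.dense_generic, G.dense_preimage_generic, G.isIso_restrict fun y hy => ?_⟩, fun L hL h => ?_⟩
  · obtain ⟨η, hη⟩ := TopologicalSpace.Opens.mem_iSup.1 hy
    exact Or.inr ⟨G.Ω η, hη, _, _, G.natBasis η⟩
  · exact (Amp73.isRelAmple_iff_isAmple (G.h ≫ f)).2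
      (G.isAmple_pullback_h hL ((Amp73.isRelAmple_iff_isAmple (g ≫ f)).1 h))


end Groth.Agent.S3599
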