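import Groth.Statements.S4948
import Groth.Agent.E4O.FlatDvr
import Groth.Agent.E4O.GenOpen
import Groth.Agent.E4O.FibreComp
import Groth.Agent.E4O.OpenDim
import Groth.Agent.E4O.StalkChart
import Groth.Agent.FlatMor68.FibreStalk
import Mathlib.RingTheory.DedekindDomain.Dvr

set_option autoImplicit false
open CategoryTheory AlgebraicGeometry
universe u v w
open EGA43 TopologicalSpace Topology Groth.Agent.E4O Groth.Agent.FlatMor68.FibreStalk

namespace Groth.Agent.S4948

/-- Consider a discrete valuation ring A and set Y = Spec A, whose closed point is y. Given a morphism f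
: X ⟶ Y that is locally of finite type, and a point x lying in the fibre X_y, assume two things:
first, f is open at each generic point of an irreducible component of X_y passing through x; second,
X_y is reduced at x (that is, the local ring of the fibre at x is reduced). Under these assumptions
f is flat at x. -/
theorem result {A : Type u} [CommRing A] [IsDomain A]
    [IsDiscreteValuationRing A] {X : Scheme.{u}} (f : X ⟶ Spec (CommRingCat.of A)) [LocallyOfFiniteType f] (x : X)
    (hx : f.base x = IsLocalRing.closedPoint A)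
    (h : ∀ z : ↥(f.fiber (f.base x)), f.asFiber x ∈ closure {z} →
      (∀ z' : ↥(f.fiber (f.base x)), z ∈ closure {z'} → z' = z) → EGA43.IsOpenAt f.base ((f.fiberι (f.base x)).base z))
    (hred : _root_.IsReduced ((f.fiber (f.base x)).presheaf.stalk (f.asFiber x))) :
    (f.stalkMap x).hom.Flat := by
  let R := (Spec (CommRingCat.of A)).presheaf.stalk (f x)
  let B := X.presheaf.stalk x
  have : IsNoetherianRing A := inferInstance
  have : LocallyOfFinitePresentation f := locallyOfFinitePresentation_of_isLocallyNoetherian f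
  have : IsLocallyNoetherian X := LocallyOfFiniteType.isLocallyNoetherian f
  let y : PrimeSpectrum A := f x
  have hyne : y.asIdeal ≠ ⊥ := by
    have : y.asIdeal = IsLocalRing.maximalIdeal A := congrArg PrimeSpectrum.asIdeal hx
    rw [this]
    exact IsDiscreteValuationRing.not_a_field A
  obtain ⟨al, hal⟩ : ∃ _ : Algebra A R, IsLocalization.AtPrime R y.asIdeal :=
    exists_isLocalization_stalk (𝟙 (Spec (CommRingCat.of A))) y
  have hdom : IsDomain R := IsLocalization.isDomain_of_le_nonZeroDivisors (R := A) (S := R)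
    y.asIdeal.primeCompl_le_nonZeroDivisors
  have : IsDiscreteValuationRing R :=
    IsLocalization.AtPrime.isDiscreteValuationRing_of_dedekind_domain A hyne R
  let φ : R →+* B := (f.stalkMap x).hom
  obtain ⟨π, hπ⟩ := IsDiscreteValuationRing.exists_irreducible R
  have hπm : IsLocalRing.maximalIdeal R = Ideal.span {π} := hπ.maximalIdeal_eq
  have hmap : (IsLocalRing.maximalIdeal R).map φ = Ideal.span {φ π} := by
    rw [hπm, Ideal.map_span, Set.image_singleton]
  have hloc : IsLocalHom φ := f.toLRSHom.prop x
  have hφπ : φ π ∈ IsLocalRing.maximalIdeal B := fun h =>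
    hπ.not_isUnit (IsLocalHom.map_nonunit (f := φ) π h)
  have hredq : _root_.IsReduced (B ⧸ Ideal.span {φ π}) := by
    rw [← hmap]
    exact isReduced_of_injective (fibreStalkEquivAt f x).toRingHom (fibreStalkEquivAt f x).injective
  have hpt : ∀ P : PrimeSpectrum B, f (X.fromSpecStalk x P) = f x ↔ φ π ∈ P.asIdeal := by
    intro P
    have h1 : f (X.fromSpecStalk x P) =
        (Spec (CommRingCat.of A)).fromSpecStalk (f x) (PrimeSpectrum.comap φ P) := by
      refine (Scheme.Hom.comp_apply (X.fromSpecStalk x) f P).symm.trans ?_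
      rw [← Scheme.SpecMap_stalkMap_fromSpecStalk]
      rfl
    constructor
    · intro hP
      rw [h1] at hP
      have h2 : PrimeSpectrum.comap φ P = IsLocalRing.closedPoint R :=
        ((Spec (CommRingCat.of A)).fromSpecStalk (f x)).isEmbedding.injective
          (hP.trans Scheme.fromSpecStalk_closedPoint.symm)
      have h3 : P.asIdeal.comap φ = IsLocalRing.maximalIdeal R := congrArg PrimeSpectrum.asIdeal h2
      show π ∈ P.asIdeal.comap φ
      rw [h3, hπm]
      exact Ideal.mem_span_singleton_self π
    · intro hP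
      have h2 : PrimeSpectrum.comap φ P = IsLocalRing.closedPoint R := by
        refine PrimeSpectrum.ext (le_antisymm (IsLocalRing.le_maximalIdeal (P.2.comap φ).ne_top) ?_)
        show IsLocalRing.maximalIdeal R ≤ P.asIdeal.comap φ
        rw [hπm, Ideal.span_singleton_le_iff_mem]
        exact hP
      rw [h1, h2]
      exact Scheme.fromSpecStalk_closedPoint
  have hsp : ∀ P Q : PrimeSpectrum B,
      X.fromSpecStalk x P ⤳ X.fromSpecStalk x Q ↔ P.asIdeal ≤ Q.asIdeal := fun P Q =>
    (X.fromSpecStalk x).isEmbedding.isInducing.specializes_iff.trans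
      (PrimeSpectrum.le_iff_specializes P Q).symm
  have hrange : ∀ w : X, w ⤳ x → ∃ P : PrimeSpectrum B, X.fromSpecStalk x P = w := fun w hw => by
    have : w ∈ Set.range (X.fromSpecStalk x) := by rw [Scheme.range_fromSpecStalk]; exact hw
    exact this
  have hmin : ∀ P ∈ (Ideal.span {φ π}).minimalPrimes, ∃ P' : Ideal B, P'.IsPrime ∧ P' < P := by
    intro P hP
    let P₁ : PrimeSpectrum B := ⟨P, hP.1.1⟩
    have hPπ : φ π ∈ P := hP.1.2 (Ideal.mem_span_singleton_self _)
    have hzx : X.fromSpecStalk x P₁ ⤳ x := by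
      have := ((hsp P₁ (IsLocalRing.closedPoint B)).2 (IsLocalRing.le_maximalIdeal P₁.2.ne_top))
      rwa [Scheme.fromSpecStalk_closedPoint] at this
    have hfz : f (X.fromSpecStalk x P₁) = f x := (hpt P₁).2 hPπ
    obtain ⟨z, hz⟩ := exists_fiberι_eq f hfz
    have hmaxz : IsFibreMax f (X.fromSpecStalk x P₁) := by
      intro w hw hfw
      obtain ⟨Q, rfl⟩ := hrange w (hw.trans hzx)
      have hQP := (hsp Q P₁).1 hw
      have hQπ := (hpt Q).1 (hfw.trans hfz)
      rw [show Q = P₁ from PrimeSpectrum.ext (le_antisymm hQP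
        (hP.2 ⟨Q.2, (Ideal.span_singleton_le_iff_mem _).2 hQπ⟩ hQP))]
    have hopen : EGA43.IsOpenAt f (X.fromSpecStalk x P₁) := by
      rw [← hz]
      refine h z (specializes_iff_mem_closure.1 ((specializes_fiberι_iff f _ _ _).1 ?_)) fun z' hz' => ?_
      · rw [hz, f.fiberι_asFiber]; exact hzx
      · apply (isEmbedding_fiberι f (f x)).injective
        rw [hz]
        exact hmaxz _ (hz ▸ (specializes_fiberι_iff f _ _ _).2 (specializes_iff_mem_closure.2 hz'))
          ((apply_fiberι f _ _).trans hfz.symm)
    let η : Spec (CommRingCat.of A) := (⟨⊥, Ideal.isPrime_bot⟩ : PrimeSpectrum A)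
    have hη : η ⤳ f (X.fromSpecStalk x P₁) := by
      rw [hfz]
      exact (PrimeSpectrum.le_iff_specializes (⟨⊥, Ideal.isPrime_bot⟩ : PrimeSpectrum A) y).1 bot_le
    obtain ⟨w, hw, hwz⟩ := isOpenAt_iff_forall_exists_specializes.1 hopen η hη
    obtain ⟨Q, rfl⟩ := hrange w (hwz.trans hzx)
    refine ⟨Q.asIdeal, Q.2, lt_of_le_of_ne ((hsp Q P₁).1 hwz) fun heq => hyne ?_⟩
    have : f x = η := by rw [← hfz, ← hw, show Q = P₁ from PrimeSpectrum.ext heq]
    exact congrArg PrimeSpectrum.asIdeal this
  let _ : Algebra R B := φ.toAlgebra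
  show Module.Flat R B
  rw [Module.Flat.flat_iff_torsion_eq_bot_of_isBezout, eq_bot_iff]
  rintro b ⟨⟨a, ha⟩, hab⟩
  have hab' : φ a * b = 0 := hab
  have ha' : a ≠ 0 := nonZeroDivisors.ne_zero ha
  obtain ⟨n, u, rfl⟩ := IsDiscreteValuationRing.eq_unit_mul_pow_irreducible ha' hπ
  rw [map_mul, map_pow, mul_assoc] at hab'
  have h1 : φ π ^ n * b = 0 := (u.isUnit.map φ).mul_right_eq_zero.1 hab'
  clear hab hab' ha ha'
  induction n with
  | zero => simpa using h1
  | succ n ih =>
    rw [pow_succ', mul_assoc] at h1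
    exact ih (eq_zero_of_mul_eq_zero_of_reduced_quotient hφπ hredq hmin h1)

end Groth.Agent.S4948
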