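import Groth.Statements.S4961
import Groth.Agent.CM62.Criterion

set_option autoImplicit false
open CategoryTheory AlgebraicGeometry
universe u v w
open EGA43

open Groth.Agent

namespace Groth.Agent.S4961

/-- Let f : X ⟶ Y be a morphism locally of finite presentation. The set of points x of X at which f is
Cohen–Macaulay (f flat at x and the local ring at x of the fibre through x Cohen–Macaulay) is open
in X. -/
theorem result {X Y : Scheme.{u}} (f : X ⟶ Y)
    [LocallyOfFinitePresentation f] : IsOpen {x : X | MoreMor.IsCMAt f x} := by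
  rw [isOpen_iff_forall_mem_open]
  intro x hx
  obtain ⟨z, -, -, hd, -, -⟩ := E4O.exists_fibreDimAt_eq f x
  obtain ⟨U, g, hxU, hg, hqf, hfl⟩ := CM62.exists_flat_qf_toAffineSpace f x _ hd hx
  refine ⟨U, fun a ha => ?_, U.isOpen, hxU⟩
  have : LocallyOfFiniteType (g ≫ (𝔸(ULift.{u} (Fin (E4O.fdeg f z)); Y) ↘ Y)) := by
    rw [hg]; infer_instance
  have : LocallyOfFiniteType g :=
    locallyOfFiniteType_of_comp g (𝔸(ULift.{u} (Fin (E4O.fdeg f z)); Y) ↘ Y)
  exact CM62.isCMAt_of_comp f g hg ⟨a, ha⟩ (g.quasiFiniteAt _) (Flat.stalkMap g _)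

end Groth.Agent.S4961
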