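import Groth.Statements.S7606
import Groth.Agent.VarRegular.Pointwise
import Groth.Agent.VarGal.GeomRed

set_option autoImplicit false
universe u
open CategoryTheory CategoryTheory.Limits AlgebraicGeometry
attribute [local instance] Curv2.stalkAlgebra
open Variety

open scoped TensorProduct

namespace Groth.Agent.S7606

/-- Let X be a locally Noetherian scheme over a field k and x a point of X. These conditions are
equivalent: (1) the scheme X is geometrically regular at x; (2) whenever k'/k is finite and purely
inseparable, the local ring O_{X_{k'}, x'} is regular at each point x' of X_{k'} lying over x; (3)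
the local ring O_{X, x} is geometrically regular over k (k' ⊗_k O_{X, x} is a regular ring for every
finite extension k' of k). Stated as (1) ↔ (2) together with (2) ↔ (3). -/
theorem result (k : Type u) [Field k] (X : Scheme.{u}) [X.Over (Spec (CommRingCat.of k))] [IsLocallyNoetherian X] (x : ↥X) :
    (Curv2.IsGeomRegularAt k X x ↔
      ∀ (k' : Type u) [Field k'] [Algebra k k'] [FiniteDimensional k k'] [IsPurelyInseparable k k'] (x' : ↥(Curv2.bc k X k')),
        Curv2.bcFst k X k' x' = x → IsRegularLocalRing ↥((Curv2.bc k X k').presheaf.stalk x')) ∧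
    ((∀ (k' : Type u) [Field k'] [Algebra k k'] [FiniteDimensional k k'] [IsPurelyInseparable k k'] (x' : ↥(Curv2.bc k X k')),
        Curv2.bcFst k X k' x' = x → IsRegularLocalRing ↥((Curv2.bc k X k').presheaf.stalk x')) ↔
      CAlg.IsGeometricallyRegular k ↥(X.presheaf.stalk x)) := by
  obtain ⟨A, _, _, j, _, ⟨p, rfl⟩, hj⟩ := FBase64.exists_chart (X ↘ (Spec (CommRingCat.of k))) x
  obtain ⟨e⟩ := VarGal.exists_stalk_algEquiv j hj (show PrimeSpectrum A from p)
  have : IsNoetherianRing (Localization.AtPrime (show PrimeSpectrum A from p).asIdeal) :=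
    isNoetherianRing_of_ringEquiv _ e.toRingEquiv
  have h12 : ∀ (_ : ∀ (k' : Type u) [Field k'] [Algebra k k'] [FiniteDimensional k k'] [IsPurelyInseparable k k']
      (x' : ↥(Curv2.bc k X k')), Curv2.bcFst k X k' x' = j p → IsRegularLocalRing ↥((Curv2.bc k X k').presheaf.stalk x'))
      (K : Type u) [Field K] [Algebra k K] [Algebra.EssFiniteType k K],
      IsRegularRing (Localization.AtPrime (show PrimeSpectrum A from p).asIdeal ⊗[k] K) := fun h K _ _ _ =>
    VarRegular.isRegularRing_local_tensor_of_forall A _ K
      (fun k' _ _ _ _ => (VarRegular.forall_over_iff j hj p k').1 (h k'))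
  have h31 : ∀ (_ : ∀ (k' : Type u) [Field k'] [Algebra k k'] [FiniteDimensional k k'] [IsPurelyInseparable k k']
      (x' : ↥(Curv2.bc k X k')), Curv2.bcFst k X k' x' = j p → IsRegularLocalRing ↥((Curv2.bc k X k').presheaf.stalk x')),
      Curv2.IsGeomRegularAt k X (j p) := fun h K _ _ hK => by
    have := IntermediateField.fg_top_iff.1 hK
    have := h12 h K
    exact (VarRegular.forall_over_iff j hj p K).2 (VarRegular.regAt_of_isRegularRing_local A _ K)
  refine ⟨⟨fun h k' _ _ _ _ => h k' ((IntermediateField.fg_top_iff (F := k) (E := k')).2 inferInstance), h31⟩,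
    fun h k' _ _ hfin => ?_, fun h k' _ _ _ _ => ?_⟩
  · have := hfin
    have := h12 h k'
    exact IsRegularRing.of_ringEquiv ((Algebra.TensorProduct.comm k _ k').toRingEquiv.trans
      (Algebra.TensorProduct.congr (AlgEquiv.refl (R := k) (A₁ := k')) e.symm).toRingEquiv)
  · have : IsRegularRing (k' ⊗[k] ↥(X.presheaf.stalk (j p))) := h k' inferInstance
    have : IsRegularRing (Localization.AtPrime (show PrimeSpectrum A from p).asIdeal ⊗[k] k') :=
      IsRegularRing.of_ringEquiv ((Algebra.TensorProduct.comm k k' _).toRingEquiv.trans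
        (Algebra.TensorProduct.congr e (AlgEquiv.refl (R := k) (A₁ := k'))).toRingEquiv)
    exact (VarRegular.forall_over_iff j hj p k').2 (VarRegular.regAt_of_isRegularRing_local A _ k')

end Groth.Agent.S7606
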