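import Groth.Statements.S4577
import Groth.Agent.S2463

set_option autoImplicit false
universe u
open TensorProduct KaehlerDifferential
open EGA41

namespace Groth.Agent.S4577

/-- Let B be a formally smooth A-algebra (discrete topologies) and C = B/J a quotient with J/J² finitely
generated. Then C is formally smooth over A if and only if C_m is formally smooth over A for every
maximal ideal m of C (hence also if and only if every C_p, p prime, is). (Not stated: the variant of
the localised condition with C_m formally smooth over A_q, q the contraction of m to A, and the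
further assertion that for B Noetherian the discrete topologies in the localised condition may be
replaced by the adic ones.) -/
theorem result {A B C : Type u} [CommRing A] [CommRing B] [CommRing C]
    [Algebra A B] [Algebra B C] [Algebra A C] [IsScalarTower A B C] [Algebra.FormallySmooth A B]
    (hsurj : Function.Surjective (algebraMap B C)) [Module.Finite B (RingHom.ker (algebraMap B C)).Cotangent] :
    Algebra.FormallySmooth A C ↔
      ∀ (m : Ideal C) [m.IsMaximal], Algebra.FormallySmooth A (Localization.AtPrime m) := by
  constructor
  · intro h m hm
    haveI : Algebra.FormallySmooth C (Localization.AtPrime m) := Algebra.FormallySmooth.of_isLocalization m.primeCompl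
    exact Algebra.FormallySmooth.comp A C (Localization.AtPrime m)
  · intro h
    let K := RingHom.ker (algebraMap B C)
    let I : Ideal B :=
      { carrier := {g | ∃ w : C ⊗[B] Ω[B⁄A] →ₗ[B] K.Cotangent, ∀ m, w (kerCotangentToTensor A B C m) = g • m}
        add_mem' := fun ⟨w, hw⟩ ⟨w', hw'⟩ => ⟨w + w', fun m => by rw [LinearMap.add_apply, hw, hw', add_smul]⟩
        zero_mem' := ⟨0, fun m => by rw [LinearMap.zero_apply, zero_smul]⟩
        smul_mem' := fun c g ⟨w, hw⟩ => ⟨c • w, fun m => by rw [LinearMap.smul_apply, hw, smul_smul, smul_eq_mul]⟩ }
    have hKI : K ≤ I := fun g hg => ⟨0, fun m => by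
      obtain ⟨m, rfl⟩ := K.toCotangent_surjective m
      rw [LinearMap.zero_apply, ← map_smul, eq_comm, Ideal.toCotangent_eq_zero, pow_two]
      exact Ideal.mul_mem_mul hg m.2⟩
    have hI : I = ⊤ := by
      by_contra hne
      obtain ⟨M, hM, hIM⟩ := Ideal.exists_le_maximal I hne
      have hKM : K ≤ M := hKI.trans hIM
      haveI hmap : (M.map (algebraMap B C)).IsMaximal :=
        (Ideal.map_eq_top_or_isMaximal_of_surjective _ hsurj hM).resolve_left fun htop => by
          have := congrArg (Ideal.comap (algebraMap B C)) htop
          rw [Ideal.comap_map_of_surjective' _ hsurj, Ideal.comap_top, sup_eq_left.2 hKM] at this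
          exact hM.ne_top this
      obtain ⟨g, hg, hw⟩ := FSAdic12.exists_smul_id_of_injective_residueField hsurj _
        (((S2463.result (A := A) hsurj (M.map (algebraMap B C))).out 0 1).1 (h _))
      exact hg (Ideal.mem_map_of_mem _ (hIM hw))
    obtain ⟨w, hw⟩ : (1 : B) ∈ I := hI ▸ Submodule.mem_top
    haveI : IsLocalization (⊥ : Submonoid C) C := IsLocalization.self bot_le
    exact FSAdic12.formallySmooth_of_smul_id hsurj 1 w hw ⊥ (by simp) C


end Groth.Agent.S4577
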