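import Groth.Statements.S15543
import Mathlib
import Groth.Prelude.Def_ProCons

set_option autoImplicit false
open CategoryTheory AlgebraicGeometry
universe u
open ProCons

noncomputable section
namespace Groth.Agent.S15543.AuxS42
open AlgebraicGeometry Topology CategoryTheory
lemma lc_preimage {X Y : Scheme} (g : X ⟶ Y) {T : Set Y} (hT : IsLocallyConstructible T) :
    IsLocallyConstructible (g ⁻¹' T) := by
  intro x
  obtain ⟨V, hxV, hV, H⟩ := hT (g x)
  refine ⟨g ⁻¹' V, g.continuous.continuousAt.preimage_mem_nhds hxV, hV.preimage g.continuous, ?_⟩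
  have := Scheme.Hom.isConstructible_preimage (g ∣_ (⟨V, hV⟩ : Y.Opens)) H
  have e : (Subtype.val ⁻¹' (g ⁻¹' T) : Set (g ⁻¹' V)) =
      (g ∣_ (⟨V, hV⟩ : Y.Opens)) ⁻¹' (Subtype.val ⁻¹' T : Set V) := by
    ext y
    have hy : ((g ∣_ (⟨V, hV⟩ : Y.Opens)) y).1 = g y.1 := morphismRestrict_base_coe g ⟨V, hV⟩ y
    show g y.1 ∈ T ↔ ((g ∣_ (⟨V, hV⟩ : Y.Opens)) y).1 ∈ T
    rw [hy]
  rw [e]; exact this

theorem result {X Y : Scheme} (f : X ⟶ Y) (T : Set Y)
    (hT : ProCons.IsProConstructible T) : ProCons.IsProConstructible (f ⁻¹' T) := by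
  intro x
  obtain ⟨U, hU, hxU, S, hS, hSe⟩ := hT (f x)
  let g := f ∣_ (⟨U, hU⟩ : Y.Opens)
  refine ⟨f ⁻¹' U, hU.preimage f.continuous, hxU, (fun T => g ⁻¹' T) '' S, ?_, ?_⟩
  · rintro _ ⟨T, hT, rfl⟩; exact lc_preimage g (hS T hT)
  · refine Eq.trans ?_ (((congrArg (fun W => g ⁻¹' W) hSe).trans Set.preimage_sInter).trans (Set.sInter_image _ _).symm)
    ext y
    show f y.1 ∈ T ↔ (g y).1 ∈ T
    rw [show (g y).1 = f y.1 from morphismRestrict_base_coe f ⟨U, hU⟩ y]

theorem result43 {X Y : Scheme} (f : X ⟶ Y) (T : Set Y)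
    (hT : ProCons.IsIndConstructible T) : ProCons.IsIndConstructible (f ⁻¹' T) := by
  intro x
  obtain ⟨U, hU, hxU, S, hS, hSe⟩ := hT (f x)
  let g := f ∣_ (⟨U, hU⟩ : Y.Opens)
  refine ⟨f ⁻¹' U, hU.preimage f.continuous, hxU, (fun T => g ⁻¹' T) '' S, ?_, ?_⟩
  · rintro _ ⟨T, hT, rfl⟩; exact lc_preimage g (hS T hT)
  · refine Eq.trans ?_ (((congrArg (fun W => g ⁻¹' W) hSe).trans Set.preimage_sUnion).trans (Set.sUnion_image _ _).symm)
    ext y
    show f y.1 ∈ T ↔ (g y).1 ∈ T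
    rw [show (g y).1 = f y.1 from morphismRestrict_base_coe f ⟨U, hU⟩ y]
end Groth.Agent.S15543.AuxS42

end

namespace Groth.Agent.S15543

/-- The ind-constructible case. Let f : X ⟶ Y be any morphism of schemes and T an ind-constructible
subset of Y (locally on Y a union of locally constructible subsets). Then the preimage of T under f
is ind-constructible in X. -/
theorem result {X Y : Scheme.{u}} (f : X ⟶ Y) (T : Set Y)
    (hT : ProCons.IsIndConstructible T) :
    ProCons.IsIndConstructible (f.base ⁻¹' T) := by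
  exact AuxS42.result43 f T hT

end Groth.Agent.S15543
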