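import Groth.Statements.S5123
import Groth.Agent.Eff84.Sigma

set_option autoImplicit false
universe u
open SGA1

namespace Groth.Agent.S5123

open AlgebraicGeometry CategoryTheory CategoryTheory.Limits in
/-- Let g : S' ⟶ S be universally submersive, D a descent datum relative to g (functor-of-points form,
for the one-member family g) whose underlying S'-scheme is etale over S', and (S_i)_{i ∈ ι} a cover
of S by open subschemes. Then D is effective in the fibred category of etale schemes (isomorphic to
the canonical datum of some etale S-scheme) if and only if for every i the descent datum obtained by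
base change along S_i ⟶ S, relative to S' ×_S S_i ⟶ S_i, is the canonical datum of some etale
S_i-scheme. -/
theorem result {S S' : Scheme.{u}} (g : S' ⟶ S) (hg : SGA1.UnivSubmersive g)
    (D : Desc.SchDDFam (fun _ : PUnit.{1} => g)) [Etale (D.obj PUnit.unit).hom]
    {ι : Type u} (V : ι → S.Opens) (hV : ⨆ i, V i = ⊤) :
    (∃ U : Over S, Etale U.hom ∧ Nonempty ((Desc.toDDFam (fun _ : PUnit.{1} => g)).obj U ≅ D)) ↔
      ∀ i : ι, (∃ U : Over (V i : Scheme.{u}), Etale U.hom ∧
        Nonempty ((Desc.toDDFam (fun _ : PUnit.{1} => pullback.snd g (V i).ι)).obj U ≅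
          (Desc.pullDDFam (f := fun _ : PUnit.{1} => g) (f' := fun _ : PUnit.{1} => pullback.snd g (V i).ι)
        (α := id) (p := (V i).ι) (p' := fun _ => pullback.fst g (V i).ι) (fun _ => pullback.condition)).obj D)) := by
  let D' := (Desc.SchDDFam.toSchDD g).obj D
  have : Etale D'.obj.hom := ‹_›
  constructor
  · rintro ⟨U, het, hiso⟩ i
    obtain ⟨U', π, hπ, rfl⟩ := Eff84.exists_isQuot_of_iso ((Eff84.nonempty_fam_iff U D).mp hiso)
    obtain ⟨π₁, hπ₁⟩ := Eff84.exists_isQuot_pull (V i).ι pullback.condition hπ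
    exact ⟨Over.mk (pullback.snd U'.hom (V i).ι), inferInstanceAs (Etale (pullback.snd U'.hom (V i).ι)),
      (Eff84.nonempty_fam_iff (g := pullback.snd g (V i).ι) _ _).mpr hπ₁.nonempty_iso⟩
  · intro h
    choose U het hiso using h
    have hR : ∀ i, ∃ w, Eff84.IsRep D' (V i).ι (U i) w := fun i => by
      obtain ⟨U', π, hπ, h'⟩ := Eff84.exists_isQuot_of_iso (E := Desc59.pullDD (pullback.condition (f := g) (g := (V i).ι)) D')
        ((Eff84.nonempty_fam_iff (g := pullback.snd g (V i).ι) _ _).mp (hiso i))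
      subst h'
      have := het i
      exact Eff84.exists_isRep_of_isQuot hg _ hπ
    choose w R using hR
    obtain ⟨W, RW⟩ := Eff84.exists_isRep_sigma (fun i => (V i).ι) U w R
    let X : ι → Scheme.{u} := fun i => V i
    let P : (∐ X) ⟶ S := Sigma.desc fun i => (V i).ι
    have hP : ∀ i, Sigma.ι X i ≫ P = (V i).ι := fun i => Sigma.ι_desc _ i
    have : Surjective P := ⟨fun s => by
      obtain ⟨i, hi⟩ := TopologicalSpace.Opens.mem_iSup.mp (hV.symm ▸ trivial : s ∈ ⨆ i, V i)
      exact ⟨Sigma.ι X i ⟨s, hi⟩, by rw [← Scheme.Hom.comp_apply, hP]; rfl⟩⟩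
    have : Flat P := by
      rw [IsZariskiLocalAtSource.iff_of_openCover (P := @Flat) (sigmaOpenCover X)]
      intro i; exact (hP i).symm ▸ inferInstanceAs (Flat (V i).ι)
    have : LocallyOfFinitePresentation P := by
      rw [IsZariskiLocalAtSource.iff_of_openCover (P := @LocallyOfFinitePresentation) (sigmaOpenCover X)]
      intro i; exact (hP i).symm ▸ inferInstanceAs (LocallyOfFinitePresentation (V i).ι)
    obtain ⟨U₀, ρ, hρ⟩ := Desc59.exists_isQuot_of_local_sections (p := P) (Eff84.repDD RW) fun s => by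
      obtain ⟨i, hi⟩ := TopologicalSpace.Opens.mem_iSup.mp (hV.symm ▸ trivial : s ∈ ⨆ i, V i)
      exact ⟨V i, Sigma.ι X i, hi, hP i⟩
    obtain ⟨wU, RU⟩ := Eff84.exists_isRep_of_quot RW hρ
    obtain ⟨π, hπ⟩ := Eff84.exists_isQuot_of_isRep RU
    refine ⟨U₀, ?_, (Eff84.nonempty_fam_iff U₀ D).mpr hπ.nonempty_iso⟩
    rw [IsZariskiLocalAtTarget.iff_of_openCover (P := @Etale) (S.openCoverOfIsOpenCover V (.mk hV))]
    intro i
    have hb : IsPullback (Sigma.ι (fun i => (U i).left) i ≫ ρ) (U i).hom U₀.hom (V i).ι := by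
      have := (Desc59.Sigma'.isPullback_map (fun i => (U i).hom) i).paste_horiz hρ.isPullback
      rwa [hP] at this
    exact (MorphismProperty.cancel_left_of_respectsIso (P := @Etale) hb.isoPullback.hom
      (pullback.snd U₀.hom (V i).ι)).mp (hb.isoPullback_hom_snd.symm ▸ het i)

end Groth.Agent.S5123
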