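import Groth.Statements.S15027
import Groth.Agent.Ega11.LatticeNodes
import Groth.Agent.TFCurv38.Embed
-- import your own Groth.Agent.* helpers here

set_option autoImplicit false
universe u
open CategoryTheory CategoryTheory.Limits AlgebraicGeometry
open TFCurv

namespace Groth.Agent.S15027

/-- Let X be an integral proper curve (integral, proper, of dimension one) over an algebraically closed
field k, and let F be a coherent torsion-free O_X-module of rank n (its stalk at the generic point
has dimension n over the function field). Then there are finite locally free modules E, E' of rank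
n, a monomorphism E → F and a monomorphism F → E', whose cokernels have zero stalk at every point of
X with regular local ring (they are torsion modules supported at the singular points). (The
published statement identifies the two cokernels with sums of the local torsion modules of minimal
length attached to the stalks at the singular points; this row asserts only that the cokernels are
supported at the singular points.) -/
theorem result (k : Type u) [Field k] [IsAlgClosed k] (X : Scheme.{u}) [X.Over (Spec (CommRingCat.of k))] [IsIntegral X] [IsProper (X ↘ Spec (CommRingCat.of k))] (hdim : topologicalKrullDim X = 1) (F : X.Modules) (hFc : Coh.IsCoh F) (hFt : TorSh.IsTorsionFree F) (n : ℕ) (hn : Module.finrank (X.presheaf.stalk (genericPoint X)) (F.presheaf.stalk (genericPoint X)) = n) : (∃ (E : X.Modules) (i : E ⟶ F), FlatMod.IsFinLocFreeOfRank n E ∧ Mono i ∧ ∀ x : X, IsRegularLocalRing (X.presheaf.stalk x) → Subsingleton ((cokernel i).presheaf.stalk x)) ∧ (∃ (E' : X.Modules) (j : F ⟶ E'), FlatMod.IsFinLocFreeOfRank n E' ∧ Mono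 j ∧ ∀ x : X, IsRegularLocalRing (X.presheaf.stalk x) → Subsingleton ((cokernel j).presheaf.stalk x)) := by
  classical
  set_option backward.isDefEq.respectTransparency.types false in
  have : IsLocallyNoetherian X := LocallyOfFiniteType.isLocallyNoetherian (X ↘ Spec (CommRingCat.of k))
  have : CompactSpace X := QuasiCompact.compactSpace_of_compactSpace (X ↘ Spec (CommRingCat.of k))
  have : AlgebraicGeometry.IsNoetherian X := {}
  obtain ⟨hfin, hS⟩ := Groth.Agent.Ega11.LatticeNodes.finite_smoothLocus_compl (k := k) (X := X) hdim.le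
  let S : Set X := ((X ↘ Spec (CommRingCat.of k)).smoothLocus : Set X)ᶜ
  have hηS : genericPoint X ∉ S := fun h => (hS _ h).2 fun w hw => (hw.antisymm (genericPoint_specializes w)).eq
  have := hFc.1
  have := hFc.2
  have hfinst : ∀ x : X, Module.Finite (X.presheaf.stalk x) (F.presheaf.stalk x) := fun x =>
    Groth.Agent.Props58.LocFree.finite_stalk_of_isFiniteType (M := F) x
  have hnz : ∀ x : X, NoZeroSMulDivisors (X.presheaf.stalk x) (F.presheaf.stalk x) := fun x => by
    have := hFt x
    exact ⟨fun {c m} h => smul_eq_zero.1 h⟩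
  have hd : ∀ x : X, Ring.KrullDimLE 1 (X.presheaf.stalk x) := fun x =>
    Ring.krullDimLE_iff.mpr (le_trans (Groth.Agent.FlatMor68.DedekindFlat.stalk_dim_le x) hdim.le)
  have hloc : ∀ x : X, ∃ (r : ℕ) (f : F.presheaf.stalk x →ₗ[X.presheaf.stalk x] (Fin r → X.presheaf.stalk x))
      (c : X.presheaf.stalk x), c ≠ 0 ∧ Function.Injective f ∧ (∀ y : Fin r → X.presheaf.stalk x, c • y ∈ LinearMap.range f) ∧
      (IsRegularLocalRing (X.presheaf.stalk x) → c = 1) := fun x => by
    have := hfinst x
    have := hnz x
    by_cases hx : IsRegularLocalRing (X.presheaf.stalk x)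
    · have := hx
      have := Groth.Agent.Div89.free_of_torsionFree_dim_le_one (A := X.presheaf.stalk x)
        ((Groth.Agent.FlatMor68.DedekindFlat.stalk_dim_le x).trans hdim.le) (hFt x)
      let b := Module.finBasis (X.presheaf.stalk x) (F.presheaf.stalk x)
      exact ⟨_, b.equivFun.toLinearMap, 1, one_ne_zero, b.equivFun.injective,
        fun y => ⟨b.equivFun.symm y, (b.equivFun.apply_symm_apply y).trans (one_smul _ y).symm⟩, fun _ => rfl⟩
    · obtain ⟨r, f, c, hc, hf, hcf⟩ := Groth.Agent.TFCurv38.exists_injective_to_free (X.presheaf.stalk x) (F.presheaf.stalk x)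
      exact ⟨r, f, c, hc, hf, fun y => (Submodule.Quotient.mk_eq_zero _).1
        ((Submodule.Quotient.mk_smul _ c y).trans (hcf _)), fun h => absurd h hx⟩
  choose r f c hc hf hcf hreg using hloc
  have hpow : ∀ (x : X), ∀ g ∈ IsLocalRing.maximalIdeal (X.presheaf.stalk x), ∃ (N : ℕ) (d : X.presheaf.stalk x),
      g ^ N = d * c x := fun x g hg => by
    have : g ∈ (Ideal.span {c x}).radical := by
      rw [Ideal.radical_eq_sInf, Submodule.mem_sInf]
      rintro q ⟨hcq, hq⟩
      have hq0 : q ≠ ⊥ := fun h => hc x (by simpa [h] using hcq (Ideal.mem_span_singleton_self (c x)))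
      rw [IsLocalRing.eq_maximalIdeal (Ring.krullDimLE_one_iff_of_noZeroDivisors.mp (hd x) q hq0 hq)]
      exact hg
    obtain ⟨N, hN⟩ := this
    obtain ⟨d, hd⟩ := Ideal.mem_span_singleton'.1 hN
    exact ⟨N, d, hd.symm⟩
  -- the rank is constant
  have hrank : ∀ G : X.Modules, Coh.IsCoh G →
      Nonempty (G.presheaf.stalk (genericPoint X) ≃ₗ[X.presheaf.stalk (genericPoint X)]
        F.presheaf.stalk (genericPoint X)) →
      (∀ x, Module.Free (X.presheaf.stalk x) (G.presheaf.stalk x)) → FlatMod.IsFinLocFreeOfRank n G := by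
    intro G hG hη hfree
    have hlf := (Groth.Agent.Div89.isFinLocFree_iff_free_stalks hG).2 hfree
    obtain ⟨eη⟩ := hη
    refine Groth.Agent.LimTop61.isFinLocFreeOfRank_iff.2 ⟨hlf, fun x => ?_⟩
    have hopen := Groth.Agent.LimTop61.isOpen_stalkRk_eq hlf (Groth.Agent.LimTop61.stalkRk G x)
    have hmem := (genericPoint_specializes x).mem_open hopen (rfl : Groth.Agent.LimTop61.stalkRk G x = _)
    rw [← show Groth.Agent.LimTop61.stalkRk G (genericPoint X) = Groth.Agent.LimTop61.stalkRk G x from hmem]
    exact eη.finrank_eq.trans hn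
  have hfreeAt : ∀ x ∉ S, Module.Free (X.presheaf.stalk x) (F.presheaf.stalk x) := fun x hx => by
    have hxs : x ∈ (X ↘ Spec (CommRingCat.of k)).smoothLocus := not_not.1 hx
    have hsm : Smooth ((X ↘ Spec (CommRingCat.of k)).smoothLocus.ι ≫ X ↘ Spec (CommRingCat.of k)) := by
      rw [← Scheme.Hom.smoothLocus_eq_top_iff, ← Scheme.Hom.preimage_smoothLocus_eq]
      ext z
      exact iff_of_true z.2 trivial
    obtain ⟨hdom, hic⟩ := Groth.Agent.Curves2.isIntegrallyClosed_stalk_of_smooth
      ((X ↘ Spec (CommRingCat.of k)).smoothLocus.ι ≫ X ↘ Spec (CommRingCat.of k)) ⟨x, hxs⟩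
    let W : X.Opens := (X ↘ Spec (CommRingCat.of k)).smoothLocus
    let e := (asIso (W.ι.stalkMap (⟨x, hxs⟩ : W))).commRingCatIsoToRingEquiv
    have : IsIntegrallyClosed (X.presheaf.stalk x) := IsIntegrallyClosed.of_equiv e.symm
    have := ((tfae_of_isNoetherianRing_of_isLocalRing_of_isDomain (X.presheaf.stalk x)).out 3 0 rfl rfl).mp
      ⟨inferInstance, fun P hP0 hP => IsLocalRing.eq_maximalIdeal
        (Ring.krullDimLE_one_iff_of_noZeroDivisors.mp (hd x) P hP0 hP)⟩
    have := hfinst x
    have := hnz x
    exact Module.free_of_finite_type_torsion_free'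
  refine ⟨?_, ?_⟩
  · -- the locally free submodule
    let c' : ∀ x, (Fin (r x) → X.presheaf.stalk x) →ₗ[X.presheaf.stalk x] LinearMap.range (f x) := fun x =>
      LinearMap.codRestrict _ (c x • LinearMap.id) (hcf x)
    let g : ∀ x, (Fin (r x) → X.presheaf.stalk x) →ₗ[X.presheaf.stalk x] F.presheaf.stalk x := fun x =>
      (LinearEquiv.ofInjective (f x) (hf x)).symm.toLinearMap ∘ₗ c' x
    have hfg : ∀ x y, f x (g x y) = c x • y := fun x y =>
      congrArg Subtype.val ((LinearEquiv.ofInjective (f x) (hf x)).apply_symm_apply (c' x y))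
    have hginj : ∀ x, Function.Injective (g x) := fun x y z h =>
      smul_right_injective _ (hc x) (show c x • y = c x • z by rw [← hfg, h, hfg])
    have hgz : ∀ x z, c x • z ∈ LinearMap.range (g x) := fun x z => ⟨f x z, hf x (by rw [hfg, map_smul])⟩
    obtain ⟨E, i, hE, hi, hrange, hbij⟩ := Groth.Agent.Ega11.LatticeSheaf.exists_sub hFc (S := S) hfin
      (fun s hs => (hS s hs).1) (fun s _ => LinearMap.range (g s)) (fun s hs z g' hg' => by
        obtain ⟨N, d, hN⟩ := hpow s g' hg'
        exact ⟨N, by rw [hN, mul_smul]; exact Submodule.smul_mem _ _ (hgz s z)⟩)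
    refine ⟨E, i, hrank E hE ⟨LinearEquiv.ofBijective (Groth.Agent.QC70.stalkLinear i _) (hbij _ hηS)⟩ fun x => ?_,
      hi, fun x hx => Groth.Agent.QC70.subsingleton_stalk_cokernel _ x ?_⟩
    · by_cases hxS : x ∈ S
      · exact Module.Free.of_equiv (((LinearEquiv.ofInjective (Groth.Agent.QC70.stalkLinear i x)
          (Groth.Agent.QC70.injective_stalkMapM_of_mono i x)).trans ((LinearEquiv.ofEq _ _ (hrange x hxS)).trans
          (LinearEquiv.ofInjective (g x) (hginj x)).symm)).symm)
      · have := hfreeAt x hxS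
        exact Module.Free.of_equiv (LinearEquiv.ofBijective (Groth.Agent.QC70.stalkLinear i x) (hbij x hxS)).symm
    · by_cases hxS : x ∈ S
      · have h1 : LinearMap.range (Groth.Agent.QC70.stalkLinear i x) = ⊤ := by
          rw [hrange x hxS]
          exact eq_top_iff.2 fun z _ => by simpa [hreg x hx] using hgz x z
        exact LinearMap.range_eq_top.1 h1
      · exact (hbij x hxS).2
  · -- the locally free overmodule
    obtain ⟨G, j, hG, hj, hbij, hΨ⟩ := Groth.Agent.Ega11.LatticeSuper.exists_super hdim.le hFc hFt (S := S) hfin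
      (fun s hs => (hS s hs).1) (fun s hs => (hS s hs).2) (fun s => Fin (r s) → X.presheaf.stalk s) (fun s _ => f s)
      (fun s _ => hf s) (fun s hs p g' hg' => by
        obtain ⟨N, d, hN⟩ := hpow s g' hg'
        exact ⟨N, by rw [hN, mul_smul]; exact Submodule.smul_mem _ _ (hcf s p)⟩)
    refine ⟨G, j, hrank G hG ⟨(LinearEquiv.ofBijective (Groth.Agent.QC70.stalkLinear j _) (hbij _ hηS)).symm⟩
      fun x => ?_, hj, fun x hx => Groth.Agent.QC70.subsingleton_stalk_cokernel _ x ?_⟩
    · by_cases hxS : x ∈ S
      · exact Module.Free.of_equiv (hΨ x hxS).choose.symm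
      · have := hfreeAt x hxS
        exact Module.Free.of_equiv (LinearEquiv.ofBijective (Groth.Agent.QC70.stalkLinear j x) (hbij x hxS))
    · by_cases hxS : x ∈ S
      · intro z
        obtain ⟨Ψ, hΨe⟩ := hΨ x hxS
        obtain ⟨e, he⟩ := hcf x (Ψ z)
        exact ⟨e, Ψ.injective (by rw [hΨe, he, hreg x hx, one_smul])⟩
      · exact (hbij x hxS).2

end Groth.Agent.S15027
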