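import Groth.Statements.S1982
import Groth.Agent.EtAlg23.AbhLocal
import Groth.Agent.EtAlg23.RamTower
import Groth.Agent.Ram24.SmoothBase
import Groth.Agent.FBase64.TensorField

set_option autoImplicit false
universe u
open EtAlg

namespace Groth.Agent.S1982

set_option linter.style.haveILetI false

open IsLocalRing

theorem natCast_ne_zero_and_geomReduced (A B : Type u) [CommRing A] [IsLocalRing A] [CommRing B]
    [IsLocalRing B] [Algebra A B] [IsLocalHom (algebraMap A B)] {e : ℕ} (he : 0 < e)
    (h : CharZero (ResidueField A) ∨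
      ∃ p : ℕ, p.Prime ∧ CharP (ResidueField A) p ∧ ¬ p ∣ e ∧
        Algebra.IsGeometricallyReduced (ResidueField A) (ResidueField B)) :
    (e : ResidueField A) ≠ 0 ∧
      Algebra.IsGeometricallyReduced (ResidueField A) (ResidueField B) := by
  rcases h with h | ⟨p, -, hp, hpe, hg⟩
  · exact ⟨Nat.cast_ne_zero.2 he.ne', FBase64.isGeometricallyReduced_of_perfectField _ _⟩
  · exact ⟨fun h0 => hpe ((CharP.cast_eq_zero_iff (ResidueField A) p e).1 h0), hg⟩

/-- Suppose A -> B makes the discrete valuation ring B an extension of the discrete valuation ring A,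
write K ⊂ L for their fraction fields and e for the ramification index; assume the residue
characteristic of A is zero, or it is p with p not dividing e and the residue field extension of A
-> B separable (in the general sense, i.e. geometrically reduced; it need not be algebraic). Let
K₁/K be a finite extension. Then for every compositum M of L and K₁ and every valuation subring W of
M dominating B such that e divides the ramification index of A -> W ∩ K₁, the extension W ∩ K₁ -> W
is weakly unramified with separable (geometrically reduced) residue field extension. -/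
theorem result (A B K L : Type u) [CommRing A] [IsDomain A] [IsDiscreteValuationRing A]
    [CommRing B] [IsDomain B] [IsDiscreteValuationRing B] [Algebra A B] [IsLocalHom (algebraMap A B)]
    (hinj : Function.Injective (algebraMap A B))
    [Field K] [Field L] [Algebra A K] [IsFractionRing A K] [Algebra B L] [IsFractionRing B L]
    [Algebra K L] [Algebra A L] [IsScalarTower A K L] [IsScalarTower A B L]
    (htame : CharZero (IsLocalRing.ResidueField A) ∨
      ∃ p : ℕ, p.Prime ∧ CharP (IsLocalRing.ResidueField A) p ∧
        ¬ p ∣ Ideal.ramificationIdx' (IsLocalRing.maximalIdeal A) (IsLocalRing.maximalIdeal B) ∧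
        Algebra.IsGeometricallyReduced (IsLocalRing.ResidueField A) (IsLocalRing.ResidueField B))
    (K₁ : Type u) [Field K₁] [Algebra K K₁] [FiniteDimensional K K₁] :
    EtRam.ForallLocalExt B K L K₁ (fun M _ W f =>
      ∀ hA : ∀ a : A, (algebraMap K K₁) (algebraMap A K a) ∈ W.comap f,
        letI : Algebra A (W.comap f) := (RingHom.codRestrict ((algebraMap K K₁).comp (algebraMap A K)) (W.comap f) hA).toAlgebra
        letI : Algebra (W.comap f) W := (EtRam.inclOfComap W f).toAlgebra
        Ideal.ramificationIdx' (IsLocalRing.maximalIdeal A) (IsLocalRing.maximalIdeal B) ∣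
          Ideal.ramificationIdx' (IsLocalRing.maximalIdeal A) (IsLocalRing.maximalIdeal (W.comap f)) →
        EtRam.IsWeaklyUnramified (W.comap f) W ∧
          @Algebra.IsGeometricallyReduced (IsLocalRing.ResidueField (W.comap f)) (IsLocalRing.ResidueField W) _ _
            (IsLocalRing.ResidueField.map (EtRam.inclOfComap W f)).toAlgebra) := by
  obtain ⟨πA, hπA⟩ := IsDiscreteValuationRing.exists_irreducible A
  obtain ⟨πB, hπB⟩ := IsDiscreteValuationRing.exists_irreducible B
  obtain ⟨e, hepos, hmapB, heB⟩ := Dvr24.exists_map_maximalIdeal_eq (A := A) (B := B) hinj hπB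
  have hmA := (IsDiscreteValuationRing.irreducible_iff_uniformizer πA).1 hπA
  rw [heB] at htame
  obtain ⟨he', hgr⟩ := natCast_ne_zero_and_geomReduced A B hepos htame
  intro M _ _ _ _ _ _ hgen W hW hA
  haveI := Ram24.finiteDimensional_of_adjoin_eq_top (K := K) (L := L) (K₁ := K₁) (M := M) hgen
  haveI := Ram24.dvr_of_dominates W hW
  let V := W.comap (algebraMap K₁ M)
  have hc : ∀ a, algebraMap K₁ M (algebraMap K K₁ (algebraMap A K a)) =
      algebraMap L M (algebraMap B L (algebraMap A B a)) := fun a => by
    rw [← IsScalarTower.algebraMap_apply K K₁ M, IsScalarTower.algebraMap_apply K L M,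
      ← IsScalarTower.algebraMap_apply A B L, IsScalarTower.algebraMap_apply A K L]
  have hdomV : EtRam.Dominates A ((algebraMap K K₁).comp (algebraMap A K)) V := by
    refine ⟨hA, fun a ha => (ValuationSubring.valuation_lt_one_iff V ⟨_, hA a⟩).mp ?_⟩
    rw [mem_maximalIdeal, mem_nonunits_iff,
      ← isUnit_map_iff (EtRam.inclOfComap W (algebraMap K₁ M)), ← mem_nonunits_iff,
      ← mem_maximalIdeal, ValuationSubring.valuation_lt_one_iff W]
    simp only [EtRam.inclOfComap_apply_coe, hc]
    exact hW.2 _ (map_nonunit (algebraMap A B) a ha)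
  haveI : IsDiscreteValuationRing V := Ram24.dvr_of_dominates (B := A) (L := K) V hdomV
  haveI hfin := EtAlg23.RamTower.residue_finite hdomV
  letI : Algebra A V :=
    (RingHom.codRestrict ((algebraMap K K₁).comp (algebraMap A K)) V hA).toAlgebra
  haveI : IsLocalHom (algebraMap A V) := EtAlg23.RamTower.isLocalHom_dmap hdomV
  haveI : Module.Finite (ResidueField A) (ResidueField V) := hfin
  intro hdvd
  obtain ⟨π₁, hπ₁⟩ := IsDiscreteValuationRing.exists_irreducible V
  obtain ⟨e₁, he₁pos, hmapV, heV⟩ := Dvr24.exists_map_maximalIdeal_eq (A := A) (B := V)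
    (EtAlg23.RamTower.dmap_injective hdomV) hπ₁
  obtain ⟨k, rfl⟩ : e ∣ e₁ := by
    have h : Ideal.ramificationIdx' (maximalIdeal A) (maximalIdeal B) ∣
      Ideal.ramificationIdx' (maximalIdeal A) (maximalIdeal V) := hdvd
    rwa [heB, heV] at h
  rw [hmA, Ideal.map_span, Set.image_singleton, Ideal.span_singleton_eq_span_singleton] at hmapB hmapV
  obtain ⟨v, hv⟩ := hmapB.symm
  obtain ⟨u, hu⟩ := hmapV.symm
  let ψB : B →+* W := ((algebraMap L M).comp (algebraMap B L)).codRestrict W hW.1
  let ψV : V →+* W := EtRam.inclOfComap W (algebraMap K₁ M)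
  have hagree : ∀ a, ψB (algebraMap A B a) = ψV (algebraMap A V a) := fun a =>
    Subtype.ext (hc a).symm
  refine EtAlg23.AbhLocal.abhyankar_local W ψB ψV
    (fun x y h => Subtype.ext ((algebraMap K₁ M).injective (congrArg Subtype.val h :)))
    hagree ?_ hepos he' (Nat.pos_of_mul_pos_left he₁pos) hπB hπ₁ v u ?_
  · refine top_le_iff.1 fun y hyt => ?_
    clear hyt
    set s : Set M := Set.range (fun b => (ψB b : M)) ∪ Set.range (fun c => (ψV c : M))
    have hL : ∀ l : L, algebraMap L M l ∈ Subfield.closure s := fun l => by
      obtain ⟨a, b, -, rfl⟩ := IsFractionRing.div_surjective (A := B) l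
      rw [map_div₀]
      exact div_mem (Subfield.subset_closure (Or.inl ⟨a, rfl⟩))
        (Subfield.subset_closure (Or.inl ⟨b, rfl⟩))
    have hK : ∀ x : K₁, algebraMap K₁ M x ∈ Subfield.closure s := fun x => by
      obtain ⟨a, b, -, rfl⟩ := IsFractionRing.div_surjective (A := V) x
      rw [map_div₀]
      exact div_mem (Subfield.subset_closure (Or.inr ⟨a, rfl⟩))
        (Subfield.subset_closure (Or.inr ⟨b, rfl⟩))
    have hy : y ∈ Algebra.adjoin L (Set.range (algebraMap K₁ M)) := hgen ▸ Algebra.mem_top
    induction hy using Algebra.adjoin_induction with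
    | mem x hx => obtain ⟨z, rfl⟩ := hx; exact hK z
    | algebraMap l => exact hL l
    | add a b _ _ ha hb => exact add_mem ha hb
    | mul a b _ _ ha hb => exact mul_mem ha hb
  · rw [mul_comm (v : B), hv, mul_comm (u : V), hu]
    exact hagree πA

end Groth.Agent.S1982
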