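import Groth.Statements.S1988
import Groth.Agent.EtAlg23.SolutionTower
import Mathlib.FieldTheory.IntermediateField.Adjoin.Algebra

set_option autoImplicit false
universe u
open EtAlg

namespace Groth.Agent.S1988

set_option linter.style.haveILetI false

open IsLocalRing in
/-- The data needed to apply the hypothesis on `C` to a local extension for `B`. -/
theorem lift_ext (B C K L M₀ K₁ : Type u) [CommRing B] [IsDomain B] [IsDiscreteValuationRing B]
    [CommRing C] [IsDomain C] [IsDiscreteValuationRing C] [Algebra B C] [IsLocalHom (algebraMap B C)]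
    (hinj : Function.Injective (algebraMap B C))
    [Field K] [Field L] [Field M₀] [Field K₁] [Algebra K L] [Algebra K M₀] [Algebra L M₀]
    [IsScalarTower K L M₀] [Algebra K K₁] [FiniteDimensional K K₁]
    [Algebra B L] [IsFractionRing B L] [Algebra C M₀] [IsFractionRing C M₀] [Algebra B M₀]
    [IsScalarTower B C M₀] [IsScalarTower B L M₀]
    {P : ∀ (M : Type u) [Field M], ValuationSubring M → (K₁ →+* M) → Prop}
    (hP : EtRam.ForallLocalExt C K M₀ K₁ P)
    (M : Type u) [Field M] [Algebra K M] [Algebra L M] [Algebra K₁ M] [IsScalarTower K L M]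
    [IsScalarTower K K₁ M] (hgen : Algebra.adjoin L (Set.range (algebraMap K₁ M)) = ⊤)
    (W : ValuationSubring M) (hW : EtRam.Dominates B ((algebraMap L M).comp (algebraMap B L)) W) :
    IsDiscreteValuationRing W ∧ ∃ (M' : Type u) (_ : Field M') (g : M →+* M')
      (W' : ValuationSubring M'), IsDiscreteValuationRing W' ∧ W'.comap g = W ∧
      P M' W' (g.comp (algebraMap K₁ M)) := by
  haveI := Ram24.finiteDimensional_of_adjoin_eq_top (K := K) (L := L) (K₁ := K₁) (M := M) hgen
  refine ⟨Ram24.dvr_of_dominates W hW, ?_⟩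
  obtain ⟨M', _, g, h, W', hL, hdom, hcomap, htop⟩ :=
    EtAlg23.SolutionTower.exists_compositum hinj W hW (M₀ := M₀)
  letI : Algebra M₀ M' := h.toAlgebra
  letI : Algebra K M' := (h.comp (algebraMap K M₀)).toAlgebra
  letI : Algebra K₁ M' := (g.comp (algebraMap K₁ M)).toAlgebra
  haveI : IsScalarTower K M₀ M' := .of_algebraMap_eq fun _ => rfl
  haveI : IsScalarTower K K₁ M' := .of_algebraMap_eq fun k => by
    show h (algebraMap K M₀ k) = g (algebraMap K₁ M (algebraMap K K₁ k))
    rw [← IsScalarTower.algebraMap_apply K K₁ M, IsScalarTower.algebraMap_apply K L M,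
      IsScalarTower.algebraMap_apply K L M₀]
    exact (RingHom.congr_fun hL _).symm
  have hgen' : Algebra.adjoin M₀ (Set.range (algebraMap K₁ M')) = ⊤ := by
    have halg : ∀ x ∈ Set.range (algebraMap K₁ M'), IsAlgebraic M₀ x := by
      rintro _ ⟨x, rfl⟩
      exact ((Algebra.IsIntegral.isIntegral (R := K) x).map
        (IsScalarTower.toAlgHom K K₁ M')).tower_top.isAlgebraic
    rw [← IntermediateField.adjoin_eq_top_iff_of_isAlgebraic halg, eq_top_iff]
    intro y _
    refine htop (IntermediateField.adjoin M₀ (Set.range (algebraMap K₁ M'))).toSubfield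
      (fun x => ?_) (fun x => IntermediateField.algebraMap_mem _ x) y
    have hx : x ∈ Algebra.adjoin L (Set.range (algebraMap K₁ M)) := hgen ▸ Algebra.mem_top
    induction hx using Algebra.adjoin_induction with
    | mem x hx =>
      obtain ⟨z, rfl⟩ := hx
      exact IntermediateField.subset_adjoin _ _ ⟨z, rfl⟩
    | algebraMap l =>
      rw [show g (algebraMap L M l) = h (algebraMap L M₀ l) from RingHom.congr_fun hL l]
      exact IntermediateField.algebraMap_mem _ _
    | add x y _ _ hx hy => rw [map_add]; exact add_mem hx hy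
    | mul x y _ _ hx hy => rw [map_mul]; exact mul_mem hx hy
  haveI := Ram24.finiteDimensional_of_adjoin_eq_top (K := K) (L := M₀) (K₁ := K₁) (M := M') hgen'
  exact ⟨M', inferInstance, g, W', Ram24.dvr_of_dominates (B := C) (L := M₀) W' hdom, hcomap,
    hP M' hgen' W' hdom⟩

/-- Let A -> B -> C be extensions of discrete valuation rings (local injective maps) with fraction
fields K ⊂ L ⊂ M₀ and K₁/K a finite extension. (The solution predicates mention only B, C and the
fields: in them the bottom ring is recovered as B ∩ K, which the hypotheses on A force to be A.) If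
K₁ is a weak solution (resp. a solution) for A -> C then it is a weak solution (resp. a solution)
for A -> B. -/
theorem result (A B C K L M₀ K₁ : Type u) [CommRing A] [IsDomain A] [IsDiscreteValuationRing A]
    [CommRing B] [IsDomain B] [IsDiscreteValuationRing B] [Algebra A B] [IsLocalHom (algebraMap A B)]
    (hinjA : Function.Injective (algebraMap A B))
    [CommRing C] [IsDomain C] [IsDiscreteValuationRing C] [Algebra B C] [IsLocalHom (algebraMap B C)]
    (hinj : Function.Injective (algebraMap B C))
    [Field K] [Field L] [Field M₀] [Field K₁] [Algebra K L] [Algebra K M₀] [Algebra L M₀] [IsScalarTower K L M₀]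
    [Algebra K K₁] [FiniteDimensional K K₁] [Algebra A K] [IsFractionRing A K]
    [Algebra B L] [IsFractionRing B L] [Algebra A L] [IsScalarTower A K L] [IsScalarTower A B L]
    [Algebra C M₀] [IsFractionRing C M₀] [Algebra B M₀]
    [IsScalarTower B C M₀] [IsScalarTower B L M₀] :
    (EtRam.IsWeakSolution C K M₀ K₁ → EtRam.IsWeakSolution B K L K₁) ∧
    (EtRam.IsSolution C K M₀ K₁ → EtRam.IsSolution B K L K₁) := by
  refine ⟨fun hs M _ _ _ _ _ _ hgen W hW => ?_, fun hs M _ _ _ _ _ _ hgen W hW => ?_⟩
  · obtain ⟨hdvr, M', _, g, W', hdvr', rfl, hw⟩ :=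
      lift_ext B C K L M₀ K₁ hinj hs M hgen W hW
    exact EtAlg23.SolutionTower.weaklyUnramified_descends (algebraMap K₁ M) g W' hw
  · obtain ⟨hdvr, M', _, g, W', hdvr', rfl, hw, hr⟩ :=
      lift_ext B C K L M₀ K₁ hinj hs M hgen W hW
    exact ⟨EtAlg23.SolutionTower.weaklyUnramified_descends (algebraMap K₁ M) g W' hw,
      EtAlg23.SolutionTower.isGeometricallyReduced_descends (algebraMap K₁ M) g W' hr⟩

end Groth.Agent.S1988
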