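import Groth.Statements.S2148
import Mathlib
import Groth.Agent.PBasis12.Field

set_option autoImplicit false
set_option linter.style.haveILetI false
set_option linter.style.longLine false
universe u
open CAlg

namespace Groth.Agent.S2148

/-- Let `k` be a perfect field of characteristic `p > 0` and `K` an extension field of `k`. For `a ∈ K`,
the differential `da` vanishes in `Ω_{K/k}` if and only if `a` is a `p`-th power in `K`. -/
theorem result {k K : Type u} [Field k] [Field K] [Algebra k K] (p : ℕ) [Fact p.Prime]
    [CharP k p] [PerfectRing k p] (a : K) :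
    KaehlerDifferential.D k K a = 0 ↔ ∃ b : K, b ^ p = a := by
  haveI : CharP K p := charP_of_injective_algebraMap (algebraMap k K).injective p
  have hp0 : 0 < p := (Fact.out : p.Prime).pos
  constructor
  · intro h
    have hni : ¬ EGA41.IsPIndependent p k (fun _ : PUnit.{u+1} => a) := by
      rw [PBasis12.isPIndependent_iff_D]
      intro hli
      exact hli.ne_zero PUnit.unit h
    rw [PBasis12.isPIndependent_iff] at hni
    push Not at hni
    obtain ⟨j, hj⟩ := hni
    have hempty : (fun _ : PUnit.{u+1} => a) '' {b | b ≠ j} = ∅ := by
      ext; simp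
    rw [hempty, Algebra.adjoin_empty, Algebra.mem_bot] at hj
    obtain ⟨s, rfl⟩ := hj
    have hle : EGA41.pPowerSubalgebra p k K ≤
        { (frobenius K p).range.toSubsemiring with
          algebraMap_mem' := fun x => ⟨algebraMap k K ((frobeniusEquiv k p).symm x), by
            rw [frobenius_def, ← map_pow, frobeniusEquiv_symm_pow_p]⟩ } := by
      refine Algebra.adjoin_le ?_
      rintro _ ⟨c, rfl⟩
      exact ⟨c, rfl⟩
    exact hle s.2
  · rintro ⟨b, rfl⟩
    rw [Derivation.leibniz_pow, ← Nat.cast_smul_eq_nsmul K, CharP.cast_eq_zero, zero_smul]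

end Groth.Agent.S2148
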