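import Groth.Statements.S18813
import Groth.Agent.Comod33.BaseChange
-- import your own Groth.Agent.* helpers here

set_option autoImplicit false
universe u
open scoped TensorProduct
open HopfRep

namespace Groth.Agent.S18813

/-- Let k be a field, K a field extension of k and A a commutative Hopf algebra over k, the coordinate
ring of an affine group scheme G (no finiteness assumed). Then G is linearly reductive (every
finite-dimensional A-comodule is semisimple) if and only if the base change G_K is (every
finite-dimensional comodule over the K-Hopf algebra K ⊗_k A is semisimple). (The source phrases both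
sides as semisimplicity of all representations, which over a field is equivalent to semisimplicity
of the finite-dimensional ones since every comodule is the union of its finite-dimensional
subcomodules.) -/
theorem result (k K A : Type u) [Field k] [Field K]
    [Algebra k K] [CommRing A] [HopfAlgebra k A] :
    HopfRep.IsLinearlyReductive k A ↔ HopfRep.IsLinearlyReductive K (K ⊗[k] A) := by
  constructor
  · intro h
    refine Comod33.isLinearlyReductive_of_exact fun X Y _ _ _ _ _ _ _ _ φ hφ hs y hy => ?_
    letI : Module k X := Module.compHom X (algebraMap k K)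
    letI : Module k Y := Module.compHom Y (algebraMap k K)
    haveI : IsScalarTower k K X := IsScalarTower.of_algebraMap_smul fun r x => rfl
    haveI : IsScalarTower k K Y := IsScalarTower.of_algebraMap_smul fun r x => rfl
    letI : HopfRep.Comod k A X := Comod33.BC.resComod (K := K)
    letI : HopfRep.Comod k A Y := Comod33.BC.resComod (K := K)
    obtain ⟨x, hx, hxy⟩ := Comod33.exact_fixedPts h (f := φ.restrictScalars k)
      (Comod33.BC.isComodHom_res hφ) hs ((Comod33.BC.mem_fixedPts_res_iff y).2 hy)
    exact ⟨x, (Comod33.BC.mem_fixedPts_res_iff x).1 hx, hxy⟩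
  · intro h
    refine Comod33.isLinearlyReductive_of_trivialQuotient fun X _ _ _ _ π hs hπ => ?_
    by_contra hne
    push Not at hne
    letI : HopfRep.Comod k A k := HopfRep.Comod.trivial k A k
    letI : HopfRep.Comod K (K ⊗[k] A) (K ⊗[k] X) := CoactBr.Comod.baseChange k K A X
    letI : HopfRep.Comod K (K ⊗[k] A) (K ⊗[k] k) := CoactBr.Comod.baseChange k K A k
    have h1 : (1 : K) ⊗ₜ[k] (1 : k) ∈ HopfRep.fixedPts K (K ⊗[k] A) (K ⊗[k] k) := by
      refine (Comod33.BC.mem_fixedPts_baseChange_iff (K := K) ((1 : K) ⊗ₜ[k] (1 : k))).2 ?_
      rw [LinearMap.mem_ker, LinearMap.lTensor_tmul]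
      have : ((HopfRep.Comod.coact (k := k) (A := A) : k →ₗ[k] k ⊗[k] A) -
          (TensorProduct.mk k k A).flip 1) 1 = 0 := by rw [LinearMap.sub_apply]; exact sub_self _
      rw [this, TensorProduct.tmul_zero]
    obtain ⟨z, hz, hzy⟩ := Comod33.exact_fixedPts h (f := π.baseChange K)
      (Comod33.BC.isComodHom_baseChange hπ.symm) (π.lTensor_surjective K hs) h1
    obtain ⟨w, rfl⟩ := Comod33.BC.exists_of_mem_fixedPts_baseChange z hz
    have h0 : π ∘ₗ (HopfRep.fixedPts k A X).subtype = 0 := LinearMap.ext fun v => hne v.1 v.2
    have : (π.baseChange K) ((HopfRep.fixedPts k A X).subtype.lTensor K w) = 0 := by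
      rw [LinearMap.baseChange_eq_ltensor, ← LinearMap.comp_apply, ← LinearMap.lTensor_comp, h0,
        LinearMap.lTensor_zero, LinearMap.zero_apply]
    rw [this] at hzy
    have := congrArg (TensorProduct.rid k K) hzy
    simp at this

end Groth.Agent.S18813
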