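import Groth.Statements.S6544
import Groth.Agent.Crv77.FFBridge


set_option autoImplicit false
universe u
open CategoryTheory CategoryTheory.Limits AlgebraicGeometry
open Curves

namespace Groth.Agent.S6544

/-- Let X be a proper curve over the field k (proper, integral, of dimension one) which is smooth and
geometrically irreducible over k, of genus 0. If X has an invertible O_X-module of odd degree, then
X is isomorphic to P^1_k over k. -/
theorem result (k : Type u) [Field k] (X : Scheme.{u}) [X.Over (Spec (CommRingCat.of k))]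
    [IsIntegral X] [IsProper (X ↘ (Spec (CommRingCat.of k)))] (hdim : topologicalKrullDim X = 1)
    [Smooth (X ↘ (Spec (CommRingCat.of k)))] [GeometricallyIrreducible (X ↘ (Spec (CommRingCat.of k)))] (hg : Curv2.genus k X = 0)
    (L : X.Modules) (hL : PicF.IsInvertible L) (hodd : Odd (Curv2.deg k X L 1)) :
    ∃ e : X ≅ CohB1.ProjSpace 1 k, e.hom ≫ CohB1.ProjSpace.toSpec 1 k = X ↘ (Spec (CommRingCat.of k)) := by
  have h0 := Crv77.finrank_h0_of_smooth k X
  have h := Crv77.setup_of_h0 hdim (Crv77.valuationRing_stalks_of_smooth (k := k) hdim) h0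
  refine Crv77.exists_iso_projLine_of_one_mem hdim ?_ ?_
  · have := Crv77.isNoetherian_of_proper k X
    have := h.curveCoh.finite _ (Crv77.isCoh_structureModule (X := X)) 1
    exact (Module.finrank_zero_iff (R := k)).1 hg
  · let := CrvPic30.ffAlg k X
    obtain ⟨W, hW⟩ := FF30.exists_isCanonical h.ff
    have hWd := FF30.deg_canonical h.ff hW
    rw [← h.genus_eq, hg] at hWd
    have hW2 : (-2 : ℤ) ∈ Crv77.degGroup k X hdim :=
      ⟨h.O W, h.isInvertible_O W, by rw [h.deg_O, hWd]; norm_num⟩
    have hLm : Curv2.deg k X L 1 ∈ Crv77.degGroup k X hdim := ⟨L, hL, rfl⟩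
    obtain ⟨m, hm⟩ := hodd
    rw [hm] at hLm
    have := AddSubgroup.add_mem _ hLm (AddSubgroup.zsmul_mem _ hW2 m)
    have he : 2 * m + 1 + m • (-2 : ℤ) = 1 := by rw [smul_eq_mul]; ring
    rwa [he] at this

end Groth.Agent.S6544
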