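import Groth.Statements.S0283
import Groth.Agent.Unr55.TopInv

set_option autoImplicit false
universe u
open Pi1

namespace Groth.Agent.S0283

set_option backward.isDefEq.respectTransparency.types false in
open AlgebraicGeometry CategoryTheory CategoryTheory.Limits in
/-- Let f : X → Y be a morphism of schemes which is integral, universally injective and surjective (that
is, a universal homeomorphism). Then base change along f, from finite étale covers of Y to finite
étale covers of X, is a full and faithful functor. -/
theorem result {X Y : Scheme.{u}} (f : X ⟶ Y) [IsIntegralHom f] [UniversallyInjective f] [Surjective f] :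
    (FEt.restrict f).Full ∧ (FEt.restrict f).Faithful := by
  have key (A B : FEt.Cat Y) : Function.Bijective
      (fun φ : A ⟶ B => (FEt.restrict f).map φ) := by
    have : Etale B.hom := B.prop.2
    have : UniversallyInjective (pullback.fst A.hom f) :=
      MorphismProperty.pullback_fst (P := @UniversallyInjective) A.hom f inferInstance
    have : IsIntegralHom (pullback.fst A.hom f) :=
      MorphismProperty.pullback_fst (P := @IsIntegralHom) A.hom f inferInstance
    have hp : Groth.Agent.Unr55.IsUnivHomeo (pullback.fst A.hom f) := Groth.Agent.Unr55.isUnivHomeo_of_universallyClosed (pullback.fst A.hom f)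
    have hb := Groth.Agent.Unr55.pullback_map_bijective f B.toComma A.toComma hp
    refine ⟨fun φ₁ φ₂ h => ?_, fun ψ => ?_⟩
    · apply MorphismProperty.Over.Hom.ext
      exact congrArg CommaMorphism.left (hb.1 (a₁ := φ₁.hom) (a₂ := φ₂.hom)
        (Over.OverMorphism.ext (congrArg (fun k => k.left) h)))
    · obtain ⟨φ, hφ⟩ := hb.2 ψ.hom
      exact ⟨MorphismProperty.Over.homMk φ.left (Over.w φ), MorphismProperty.Over.Hom.ext
        (congrArg CommaMorphism.left hφ)⟩
  exact ⟨⟨fun {A B} => (key A B).2⟩, ⟨fun {A B} => @(key A B).1⟩⟩

end Groth.Agent.S0283
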