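import Groth.Statements.S0755
import Groth.Agent.Ind91.EtLift

set_option autoImplicit false
open CategoryTheory CategoryTheory.Limits AlgebraicGeometry Opposite Topology
universe u
open ProEtW

namespace Groth.Agent.S0755

/-- Let I be an ideal of a ring A. For every ind-etale (A/I)-algebra Cbar there is an ind-etale
A-algebra C with C/IC isomorphic to Cbar as (A/I)-algebras. -/
theorem result (A : Type u) [CommRing A] (I : Ideal A) (Cb : Type u)
    [CommRing Cb] [Algebra (A ⧸ I) Cb] (h : EtPBC.IsIndEtale (A ⧸ I) Cb) :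
    ∃ (C : Type u) (_ : CommRing C) (_ : Algebra A C),
      EtPBC.IsIndEtale A C ∧ Nonempty ((C ⧸ I.map (algebraMap A C)) ≃ₐ[A ⧸ I] Cb) := by
  letI : Algebra A Cb := ((algebraMap (A ⧸ I) Cb).comp (algebraMap A (A ⧸ I))).toAlgebra
  have : IsScalarTower A (A ⧸ I) Cb := IsScalarTower.of_algebraMap_eq' rfl
  have hF := (Groth.Agent.Ind91.isIndEtale_iff (A ⧸ I) Cb).1 h
  have := Groth.Agent.Ind91.isFiltered_etaleIdx (A := A) (B := Cb)
  let D := Groth.Agent.Ind91.idxDiag (P := Groth.Agent.Ind91.EtaleP A) (B := Cb)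
  let c := colimit.cocone D
  have hc : IsColimit c := colimit.isColimit D
  obtain ⟨hs, -⟩ := Groth.Agent.Ind91.elements_of_isColimit hc
  let C := c.pt.right
  letI : Algebra A C := c.pt.hom.hom.toAlgebra
  let d : c.pt ⟶ Under.mk (CommRingCat.ofHom (algebraMap A Cb)) :=
    hc.desc Groth.Agent.Ind91.idxCocone
  have hd : ∀ (a : Groth.Agent.Ind91.Idx (Groth.Agent.Ind91.EtaleP A) Cb) (x : a.W),
      d.right ((c.ι.app a).right x) = a.g x := fun a x =>
    congr(($(hc.fac Groth.Agent.Ind91.idxCocone a)).right x)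
  let π : C →ₐ[A] Cb := { d.right.hom with commutes' := fun r => congr($(Under.w d) r) }
  let ι : ∀ a : Groth.Agent.Ind91.Idx (Groth.Agent.Ind91.EtaleP A) Cb, a.W →ₐ[A] C := fun a =>
    { (c.ι.app a).right.hom with commutes' := fun r => congr($(Under.w (c.ι.app a)) r) }
  have hd' : ∀ a x, π (ι a x) = a.g x := hd
  have hnat : ∀ (a b : Groth.Agent.Ind91.Idx (Groth.Agent.Ind91.EtaleP A) Cb) (φ : a ⟶ b) (x : a.W),
      ι b (φ.1 x) = ι a x := fun a b φ x => congr(($(c.w φ)).right x)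
  refine ⟨C, inferInstance, inferInstance,
    ⟨_, inferInstance, inferInstance, D, c, hc, fun a => ?_, ⟨Iso.refl _⟩⟩, ?_⟩
  · have hh : (CommRingCat.ofHom (algebraMap A a.W)).hom.toAlgebra =
        (inferInstance : Algebra A a.W) := Algebra.algebra_ext _ _ fun _ => rfl
    show @Algebra.Etale A a.W _ _ (CommRingCat.ofHom (algebraMap A a.W)).hom.toAlgebra
    rw [hh]; exact a.prop
  have hle : I.map (algebraMap A C) ≤ RingHom.ker π.toRingHom := by
    refine Ideal.map_le_iff_le_comap.2 fun r hr => ?_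
    show π (algebraMap A C r) = 0
    rw [AlgHom.commutes, IsScalarTower.algebraMap_apply A (A ⧸ I) Cb, Ideal.Quotient.algebraMap_eq,
      Ideal.Quotient.eq_zero_iff_mem.2 hr, map_zero]
  let ψ : C ⧸ I.map (algebraMap A C) →+* Cb := Ideal.Quotient.lift _ π.toRingHom fun y hy => hle hy
  have hinj : Function.Injective ψ := by
    rw [injective_iff_map_eq_zero]
    intro y hy
    obtain ⟨y, rfl⟩ := Ideal.Quotient.mk_surjective y
    obtain ⟨a, x, rfl⟩ : ∃ a x, ι a x = y := hs y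
    obtain ⟨E, _, _, _, u, v, huv, hux⟩ := Groth.Agent.Ind91.exists_etale_absorb I hF a.W a.g x
      ((hd' a x).symm.trans hy)
    obtain ⟨k, w, hw⟩ := Groth.Agent.Ind91.exists_idx_of_etale E v
    let φ : a ⟶ k := ⟨w.comp u, by rw [← AlgHom.comp_assoc, hw, huv]⟩
    rw [Ideal.Quotient.eq_zero_iff_mem, ← hnat a k φ x]
    have h1 := Ideal.mem_map_of_mem ((ι k).comp w).toRingHom hux
    rw [Ideal.map_map, AlgHom.toRingHom_eq_coe, AlgHom.comp_algebraMap] at h1
    exact h1
  have hsurj : Function.Surjective ψ := by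
    intro y
    obtain ⟨Wb, _, _, hWb, u, v, huv⟩ := hF (MvPolynomial (Fin 1) (A ⧸ I)) (MvPolynomial.aeval fun _ => y)
    letI : Algebra A Wb := ((algebraMap (A ⧸ I) Wb).comp (algebraMap A (A ⧸ I))).toAlgebra
    have : IsScalarTower A (A ⧸ I) Wb := IsScalarTower.of_algebraMap_eq' rfl
    have : Algebra.Etale (A ⧸ I) Wb := hWb
    obtain ⟨W, _, _, π', hW, hπ', -⟩ := Groth.Agent.Ind91.exists_etale_lift A I Wb
    obtain ⟨x, hx⟩ := hπ' (u (MvPolynomial.X 0))
    obtain ⟨k, w, hw⟩ := Groth.Agent.Ind91.exists_idx_of_etale W ((v.restrictScalars A).comp π')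
    refine ⟨Ideal.Quotient.mk _ (ι k (w x)), ?_⟩
    show π (ι k (w x)) = y
    rw [hd', ← AlgHom.comp_apply k.g w, hw, AlgHom.comp_apply, hx]
    show v (u (MvPolynomial.X 0)) = y
    rw [← AlgHom.comp_apply, huv, MvPolynomial.aeval_X]
  refine ⟨AlgEquiv.ofBijective { ψ with commutes' := fun r => ?_ } ⟨hinj, hsurj⟩⟩
  obtain ⟨r, rfl⟩ := Ideal.Quotient.mk_surjective r
  show π (algebraMap A C r) = algebraMap (A ⧸ I) Cb (algebraMap A (A ⧸ I) r)
  rw [AlgHom.commutes]
  rfl

end Groth.Agent.S0755
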