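import Groth.Statements.S0697
import Groth.Agent.Germs91.Embedding
import Groth.Agent.Germs91.IndZariski
import Groth.Agent.Spec91.Component

set_option autoImplicit false
open CategoryTheory CategoryTheory.Limits AlgebraicGeometry Opposite Topology
universe u
open ProEtW

namespace Groth.Agent.S0697

/-- Let A be a ring, X = Spec A, T a profinite space and g : T -> pi_0(X) continuous. Then there is an
ind-Zariski A-algebra B, with Y = Spec B, and a homeomorphism e : pi_0(Y) -> T over pi_0(X) such
that Y -> X x T, y |-> (image of y, e [y]) is a topological embedding with image the fibre product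
of X and T over pi_0(X); that is, the square Y -> pi_0(Y) = T, Y -> X is cartesian in topological
spaces. -/
theorem result (A : Type u) [CommRing A] (T : Type u)
    [TopologicalSpace T] [CompactSpace T] [T2Space T] [TotallyDisconnectedSpace T]
    (g : C(T, _root_.ConnectedComponents (PrimeSpectrum A))) :
    ∃ (B : Type u) (_ : CommRing B) (_ : Algebra A B) (e : _root_.ConnectedComponents (PrimeSpectrum B) ≃ₜ T),
      EtPBC.IsIndZariski A B ∧
      (∀ y : PrimeSpectrum B,
        g (e (_root_.ConnectedComponents.mk y)) = _root_.ConnectedComponents.mk (PrimeSpectrum.comap (algebraMap A B) y)) ∧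
      Topology.IsEmbedding (fun y : PrimeSpectrum B =>
        (PrimeSpectrum.comap (algebraMap A B) y, e (_root_.ConnectedComponents.mk y))) ∧
      Set.range (fun y : PrimeSpectrum B =>
        (PrimeSpectrum.comap (algebraMap A B) y, e (_root_.ConnectedComponents.mk y))) =
        {p : PrimeSpectrum A × T | _root_.ConnectedComponents.mk p.1 = g p.2} := by
  classical
  haveI := Groth.Agent.Spec91.totallySeparated_connectedComponents (X := PrimeSpectrum A)
  haveI := Groth.Agent.Spec91.t2Space_connectedComponents (X := PrimeSpectrum A)
  let S : T → Submonoid A := fun t =>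
    { carrier := {a | ∀ y : PrimeSpectrum A, _root_.ConnectedComponents.mk y = g t → a ∉ y.asIdeal}
      one_mem' := fun y _ h => y.isPrime.ne_top ((Ideal.eq_top_iff_one _).2 h)
      mul_mem' := fun hf hg y hy h => (y.isPrime.mem_or_mem h).elim (hf y hy) (hg y hy) }
  have hS : ∀ a : A, IsOpen {t | a ∈ S t} := fun a => by
    have : {t | a ∈ S t} = g ⁻¹' (_root_.ConnectedComponents.mk ''
        (PrimeSpectrum.basicOpen a : Set (PrimeSpectrum A))ᶜ)ᶜ := by
      ext t
      constructor
      · rintro h ⟨y, hy, hyt⟩
        exact hy (h y hyt)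
      · exact fun h y hyt hy => h ⟨y, fun h' => h' hy, hyt⟩
    rw [this]
    exact (((PrimeSpectrum.basicOpen a).2.isClosed_compl.isCompact.image
      ConnectedComponents.continuous_coe).isClosed.isOpen_compl).preimage g.continuous
  have hdisj : ∀ (x : PrimeSpectrum A) (t : T),
      Disjoint (S t : Set A) x.asIdeal ↔ _root_.ConnectedComponents.mk x = g t := fun x t => by
    refine ⟨fun h => ?_, fun h => Set.disjoint_left.2 fun a ha hax => ha x h hax⟩
    by_contra hne
    obtain ⟨e, he, hex, hy⟩ := Groth.Agent.Spec91.exists_idempotent_separating hne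
    exact Set.disjoint_left.1 h (show e ∈ S t from hy) hex
  let F := fun q : PrimeSpectrum (Groth.Agent.Germs91.Germ S) =>
    (PrimeSpectrum.comap (algebraMap A (Groth.Agent.Germs91.Germ S)) q, Groth.Agent.Germs91.pt S hS q)
  have hF : Topology.IsEmbedding F := Groth.Agent.Germs91.isEmbedding_comap_pt S hS
  have hrange : Set.range F = {p : PrimeSpectrum A × T | _root_.ConnectedComponents.mk p.1 = g p.2} :=
    (Groth.Agent.Germs91.range_comap_pt S hS).trans (Set.ext fun p => hdisj p.1 p.2)
  have hc := Groth.Agent.Germs91.continuous_pt S hS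
  let φ := hc.connectedComponentsLift
  have hφ : ∀ q, φ (_root_.ConnectedComponents.mk q) = Groth.Agent.Germs91.pt S hS q :=
    hc.connectedComponentsLift_apply_coe
  have hb : Function.Bijective φ := by
    refine ⟨fun a b hab => ?_, fun t => ?_⟩
    · obtain ⟨q, rfl⟩ := ConnectedComponents.surjective_coe a
      obtain ⟨q', rfl⟩ := ConnectedComponents.surjective_coe b
      rw [hφ, hφ] at hab
      let t := Groth.Agent.Germs91.pt S hS q
      have hpre : _root_.IsPreconnected (Groth.Agent.Germs91.pt S hS ⁻¹' {t}) := by
        rw [← hF.toIsInducing.isPreconnected_image]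
        have himg : F '' (Groth.Agent.Germs91.pt S hS ⁻¹' {t}) =
            (_root_.ConnectedComponents.mk ⁻¹' {g t}) ×ˢ {t} := by
          ext ⟨x, s⟩
          constructor
          · rintro ⟨r, hr, hrxs⟩
            have hmem : (x, s) ∈ Set.range F := ⟨r, hrxs⟩
            rw [hrange] at hmem
            have hs : s = t := (congrArg Prod.snd hrxs).symm.trans hr
            exact ⟨show _root_.ConnectedComponents.mk x = g t from hs ▸ hmem, hs⟩
          · rintro ⟨hx, hs⟩
            have hmem : (x, s) ∈ Set.range F := by
              rw [hrange]; exact hx.trans (congrArg g hs.symm)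
            obtain ⟨r, hr⟩ := hmem
            exact ⟨r, (congrArg Prod.snd hr).trans hs, hr⟩
        rw [himg]
        refine _root_.IsPreconnected.prod ?_ isPreconnected_singleton
        obtain ⟨z, hz⟩ := ConnectedComponents.surjective_coe (g t)
        rw [← hz, connectedComponents_preimage_singleton]
        exact isPreconnected_connectedComponent
      exact ConnectedComponents.coe_eq_coe'.2
        (hpre.subset_connectedComponent (show q' ∈ Groth.Agent.Germs91.pt S hS ⁻¹' {t} from hab.symm)
          (show q ∈ Groth.Agent.Germs91.pt S hS ⁻¹' {t} from rfl))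
    · obtain ⟨x, hx⟩ := ConnectedComponents.surjective_coe (g t)
      obtain ⟨q, hq⟩ : (x, t) ∈ Set.range F := by rw [hrange]; exact hx
      exact ⟨_root_.ConnectedComponents.mk q, (hφ q).trans (congrArg Prod.snd hq)⟩
  let e : _root_.ConnectedComponents (PrimeSpectrum (Groth.Agent.Germs91.Germ S)) ≃ₜ T :=
    Continuous.homeoOfEquivCompactToT2 (f := Equiv.ofBijective φ hb) hc.connectedComponentsLift_continuous
  have heF : (fun y => (PrimeSpectrum.comap (algebraMap A (Groth.Agent.Germs91.Germ S)) y,
      e (_root_.ConnectedComponents.mk y))) = F := funext fun y => Prod.ext rfl (hφ y)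
  refine ⟨Groth.Agent.Germs91.Germ S, inferInstance, inferInstance, e,
    Groth.Agent.Germs91.isIndZariski_germ S hS, fun y => ?_, heF.symm ▸ hF, heF.symm ▸ hrange⟩
  rw [show e (_root_.ConnectedComponents.mk y) = Groth.Agent.Germs91.pt S hS y from hφ y]
  have hmem : F y ∈ Set.range F := Set.mem_range_self y
  rw [hrange] at hmem
  exact hmem.symm

end Groth.Agent.S0697
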