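import Groth.Statements.S0678
import Groth.Agent.Germs91.Constructible
import Groth.Agent.Germs91.WRetract
import Groth.Agent.Spec91.WLocalEmb
import Groth.Agent.Ind91.LocIdentFibre
import Groth.Agent.S0697

set_option autoImplicit false
open CategoryTheory CategoryTheory.Limits AlgebraicGeometry Opposite Topology
universe u
open ProEtW

namespace Groth.Agent.S0678

/-- For a ring A, every faithfully flat ind-Zariski A-algebra (filtered colimit of local isomorphisms)
has an A-algebra retraction if and only if Spec A is w-local and the space of connected components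
of Spec A is extremally disconnected. -/
theorem result (A : Type u) [CommRing A] :
    ProEtW.HasIndZariskiRetractions A ↔
      (ProEtW.IsWLocal (PrimeSpectrum A) ∧
        ExtremallyDisconnected (_root_.ConnectedComponents (PrimeSpectrum A))) := by
  classical
  constructor
  · intro h
    have hS := Groth.Agent.Germs91.pc_open _ (Groth.Agent.Germs91.consPt_clopen A)
    haveI : CompactSpace (Groth.Agent.Germs91.ConsSpec A) := inferInstance
    obtain ⟨r⟩ := h (Groth.Agent.Germs91.WLoc A) (Groth.Agent.Germs91.faithfullyFlat_wLoc A)
      (Groth.Agent.Germs91.isIndZariski_germ _ hS)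
    have hw : ProEtW.IsWLocal (PrimeSpectrum A) :=
      Groth.Agent.Spec91.isWLocal_of_isClosedEmbedding
        (PrimeSpectrum.isClosedEmbedding_comap_of_surjective _ r.toRingHom
          fun a => ⟨algebraMap A _ a, r.commutes a⟩)
        (Groth.Agent.Germs91.isWLocal _ (Groth.Agent.Germs91.consPt_clopen A))
    refine ⟨hw, ?_⟩
    haveI := Groth.Agent.Spec91.t2Space_connectedComponents (X := PrimeSpectrum A)
    let K := _root_.ConnectedComponents (PrimeSpectrum A)
    let T : Type u := Ultrafilter K
    haveI : TotallyDisconnectedSpace T := inferInstance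
    let g : C(T, K) := ⟨Ultrafilter.extend id, continuous_ultrafilter_extend id⟩
    have hgs : ∀ x : K, ∃ t, g t = x := fun x => ⟨pure x, congrFun (ultrafilter_extend_extends id) x⟩
    obtain ⟨B, _, _, e, hB, hcomp, -, hrange⟩ := Groth.Agent.S0697.result A T g
    haveI := Groth.Agent.Ind91.flat_of_isIndEtale (Groth.Agent.Ind91.isIndEtale_of_isIndZariski hB)
    haveI : Module.FaithfullyFlat A B := Module.FaithfullyFlat.of_comap_surjective fun x => by
      obtain ⟨t, ht⟩ := hgs (_root_.ConnectedComponents.mk x)
      obtain ⟨y, hy⟩ : (x, t) ∈ Set.range (fun y : PrimeSpectrum B =>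
          (PrimeSpectrum.comap (algebraMap A B) y, e (_root_.ConnectedComponents.mk y))) := by
        rw [hrange]; exact ht.symm
      exact ⟨y, congrArg Prod.fst hy⟩
    obtain ⟨r⟩ := h B inferInstance hB
    let σ : K → T := fun x => e ((PrimeSpectrum.continuous_comap r.toRingHom).connectedComponentsMap x)
    have hσc : Continuous σ :=
      e.continuous.comp ((PrimeSpectrum.continuous_comap r.toRingHom).connectedComponentsMap_continuous)
    have hσ : ∀ x, g (σ x) = x := fun x => by
      obtain ⟨y, rfl⟩ := ConnectedComponents.surjective_coe x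
      show g (e (_root_.ConnectedComponents.mk (PrimeSpectrum.comap r.toRingHom y))) = _
      rw [hcomp, ← PrimeSpectrum.comap_comp_apply, AlgHom.toRingHom_eq_coe, AlgHom.comp_algebraMap]
      rfl
    have hproj : CompactT2.Projective K := by
      intro Y Z _ _ _ _ _ _ f π hf hπ hπs
      obtain ⟨l, hl, hlc⟩ := Groth.Agent.Germs91.projective_ultrafilter K (hf.comp g.continuous) hπ hπs
      refine ⟨l ∘ σ, hl.comp hσc, funext fun x => ?_⟩
      exact (congrFun hlc (σ x)).trans (congrArg f (hσ x))
    exact hproj.extremallyDisconnected
  · rintro ⟨hw, hed⟩ B _ _ hff hB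
    haveI := hw.1
    obtain ⟨_, _, _⟩ := Groth.Agent.Spec91.closedPoints_profinite hw.2.1
    haveI := Groth.Agent.Spec91.t2Space_connectedComponents (X := PrimeSpectrum A)
    let φ : Groth.Agent.Germs91.CP A → _root_.ConnectedComponents (PrimeSpectrum A) :=
      fun x => _root_.ConnectedComponents.mk x.1
    have hφ : Continuous φ := ConnectedComponents.continuous_coe.comp continuous_subtype_val
    haveI : ExtremallyDisconnected (Groth.Agent.Germs91.CP A) := extremallyDisconnected_of_homeo
      (Continuous.homeoOfEquivCompactToT2 (f := Equiv.ofBijective φ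
        (Groth.Agent.Spec91.bijective_closedPoints_components hw.2.1 hw.2.2)) hφ).symm
    have hid := Groth.Agent.Ind91.identifiesLocalRings_of_isIndZariski hB
    let Yc : Set (PrimeSpectrum B) :=
      PrimeSpectrum.comap (algebraMap A B) ⁻¹' {x | IsClosed ({x} : Set (PrimeSpectrum A))}
    have hYc : IsClosed Yc := hw.2.1.preimage (PrimeSpectrum.continuous_comap _)
    have hYe : Topology.IsClosedEmbedding (Subtype.val : Yc → PrimeSpectrum B) :=
      hYc.isClosedEmbedding_subtypeVal
    haveI := Groth.Agent.Spec91.spectralSpace_of_isClosedEmbedding hYe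
    have hpts : ∀ y : Yc, IsClosed ({y} : Set Yc) := fun y => by
      rw [← closure_subset_iff_isClosed]
      intro z hz
      have hyz : y.1 ⤳ z.1 := (subtype_specializes_iff y z).1 (specializes_iff_mem_closure.2 hz)
      have himg : PrimeSpectrum.comap (algebraMap A B) z.1 = PrimeSpectrum.comap (algebraMap A B) y.1 :=
        (hyz.map (PrimeSpectrum.continuous_comap _)).mem_closed y.2 (Set.mem_singleton _)
      refine Set.mem_singleton_iff.2 (Subtype.ext ?_)
      exact (Groth.Agent.Ind91.eq_of_le_of_comap_eq z.1.asIdeal (hid z.1)
        ((PrimeSpectrum.le_iff_specializes _ _).2 hyz) himg.symm).symm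
    obtain ⟨_, _⟩ := Groth.Agent.Spec91.t2Space_of_forall_isClosed (X := Yc) hpts
    let π : Yc → Groth.Agent.Germs91.CP A := fun y => ⟨PrimeSpectrum.comap (algebraMap A B) y.1, y.2⟩
    have hπ : Continuous π :=
      ((PrimeSpectrum.continuous_comap _).comp continuous_subtype_val).subtype_mk _
    have hπs : Function.Surjective π := fun x => by
      obtain ⟨y, hy⟩ := PrimeSpectrum.comap_surjective_of_faithfullyFlat (A := A) (B := B) x.1
      exact ⟨⟨y, show IsClosed ({PrimeSpectrum.comap (algebraMap A B) y} : Set _) by rw [hy]; exact x.2⟩,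
        Subtype.ext hy⟩
    obtain ⟨s, hs, hsec⟩ := CompactT2.ExtremallyDisconnected.projective
      (A := Groth.Agent.Germs91.CP A) continuous_id hπ hπs
    exact Groth.Agent.Germs91.exists_retraction_of_section hw (fun x => (s x).1)
      (continuous_subtype_val.comp hs) (fun x => congrArg Subtype.val (congrFun hsec x))
      (fun x => hid (s x).1)

end Groth.Agent.S0678
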