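import Groth.Statements.S0701
import Groth.Agent.Spec91.Basic

set_option autoImplicit false
open CategoryTheory CategoryTheory.Limits AlgebraicGeometry Opposite Topology
universe u
open ProEtW

namespace Groth.Agent.S0701

/-- Let Spec A be profinite (quasi-compact, Hausdorff, totally disconnected) and A -> B a ring map such
that two distinct primes of B over the same prime of A are never comparable. Then Spec B is
profinite. -/
theorem result (A B : Type u) [CommRing A] [CommRing B]
    [Algebra A B] [T2Space (PrimeSpectrum A)] [TotallyDisconnectedSpace (PrimeSpectrum A)]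
    (h : ∀ q q' : PrimeSpectrum B, q.asIdeal.comap (algebraMap A B) = q'.asIdeal.comap (algebraMap A B) →
      q.asIdeal ≤ q'.asIdeal → q = q') :
    ProEtW.IsProfinite (PrimeSpectrum B) := by
  have hmax : ∀ q : PrimeSpectrum B, IsClosed ({q} : Set (PrimeSpectrum B)) := fun q => by
    rw [PrimeSpectrum.isClosed_singleton_iff_isMaximal]
    obtain ⟨m, hm, hqm⟩ := q.asIdeal.exists_le_maximal q.isPrime.ne_top
    have hp : (q.asIdeal.comap (algebraMap A B)).IsMaximal :=
      (PrimeSpectrum.isClosed_singleton_iff_isMaximal (PrimeSpectrum.comap (algebraMap A B) q)).1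
        isClosed_singleton
    have := hp.eq_of_le (Ideal.IsPrime.ne_top (Ideal.IsPrime.comap (algebraMap A B) (K := m)))
      (Ideal.comap_mono hqm)
    rw [h q ⟨m, hm.isPrime⟩ this hqm]; exact hm
  obtain ⟨h2, htd⟩ := Groth.Agent.Spec91.t2Space_of_forall_isClosed hmax
  exact ⟨inferInstance, h2, htd⟩

end Groth.Agent.S0701
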