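import Groth.Statements.S0750
import Groth.Agent.S0701
import Groth.Agent.Spec91.ED
import Mathlib.RingTheory.QuasiFinite.Basic
import Mathlib.RingTheory.Spectrum.Prime.Chevalley
import Mathlib.RingTheory.Kaehler.Basic
import Mathlib.FieldTheory.PurelyInseparable.Basic

open TensorProduct

set_option autoImplicit false
open CategoryTheory CategoryTheory.Limits AlgebraicGeometry Opposite Topology
universe u
open ProEtW

namespace Groth.Agent.S0750

/-- Let A -> B be quasi-finite and of finite presentation. Suppose all residue fields of A (at every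
prime) are separably closed, and Spec A is a Hausdorff, extremally disconnected space. Then Spec B
is also extremally disconnected. -/
theorem result (A B : Type u) [CommRing A]
    [CommRing B] [Algebra A B] [Algebra.QuasiFinite A B] [Algebra.FinitePresentation A B]
    (hres : ∀ p : PrimeSpectrum A, IsSepClosed p.asIdeal.ResidueField)
    [T2Space (PrimeSpectrum A)] [ExtremallyDisconnected (PrimeSpectrum A)] :
    ExtremallyDisconnected (PrimeSpectrum B) := by
  classical
  have hclA : ∀ x : PrimeSpectrum A, IsClosed ({x} : Set (PrimeSpectrum A)) := fun x => isClosed_singleton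
  haveI : TotallyDisconnectedSpace (PrimeSpectrum A) :=
    (Groth.Agent.Spec91.t2Space_of_forall_isClosed hclA).2
  obtain ⟨_, _, _⟩ := Groth.Agent.S0701.result A B fun q q' hc hle =>
    PrimeSpectrum.ext (Algebra.QuasiFinite.eq_of_le_of_under_eq (R := A) q.asIdeal q'.asIdeal hle hc)
  let π := PrimeSpectrum.comap (algebraMap A B)
  have hπ : Continuous π := PrimeSpectrum.continuous_comap _
  -- at most one map out of the residue fields
  have huniq : ∀ (y : PrimeSpectrum B) (L : Type u) [Field L] [Algebra A L] (f g : B →ₐ[A] L),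
      RingHom.ker f = y.asIdeal → RingHom.ker g = y.asIdeal → f = g := by
    intro y L _ _ f g hf hg
    haveI hyM : y.asIdeal.IsMaximal :=
      (PrimeSpectrum.isClosed_singleton_iff_isMaximal y).1 isClosed_singleton
    let x := y.asIdeal.under A
    haveI hxM : x.IsMaximal := (PrimeSpectrum.isClosed_singleton_iff_isMaximal (π y)).1 (hclA _)
    letI := Ideal.Quotient.field x
    letI := Ideal.Quotient.field y.asIdeal
    haveI : Algebra.QuasiFinite (A ⧸ x) (B ⧸ y.asIdeal) := Algebra.QuasiFinite.of_restrictScalars A _ _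
    haveI : Module.Finite (A ⧸ x) (B ⧸ y.asIdeal) := Module.Finite.of_quasiFinite
    haveI : IsSepClosed (A ⧸ x) := by
      let e := RingEquiv.ofBijective _ x.bijective_algebraMap_quotient_residueField
      haveI : IsSepClosed x.ResidueField := hres ⟨x, hxM.isPrime⟩
      refine IsSepClosed.of_exists_root _ fun p hp hirr hsep => ?_
      obtain ⟨r, hr⟩ := IsSepClosed.exists_root (p.map e.toRingHom)
        (by rw [Polynomial.degree_map]; exact (Polynomial.degree_pos_of_irreducible hirr).ne')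
        (hsep.map)
      refine ⟨e.symm r, e.injective ?_⟩
      rw [map_zero]
      refine Eq.trans ?_ hr
      rw [Polynomial.eval_map]
      show e.toRingHom (p.eval (e.symm r)) = _
      rw [Polynomial.eval, Polynomial.hom_eval₂, RingHom.comp_id]
      congr 1
      exact e.apply_symm_apply r
    haveI : IsPurelyInseparable (A ⧸ x) (B ⧸ y.asIdeal) := inferInstance
    let fb : B ⧸ y.asIdeal →ₐ[A] L := Ideal.Quotient.liftₐ _ f fun b hb => (hf.ge hb : b ∈ RingHom.ker f)
    let gb : B ⧸ y.asIdeal →ₐ[A] L := Ideal.Quotient.liftₐ _ g fun b hb => (hg.ge hb : b ∈ RingHom.ker g)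
    letI : Algebra (A ⧸ x) L := (fb.toRingHom.comp (algebraMap (A ⧸ x) (B ⧸ y.asIdeal))).toAlgebra
    let f' : B ⧸ y.asIdeal →ₐ[A ⧸ x] L := { fb with commutes' := fun _ => rfl }
    let g' : B ⧸ y.asIdeal →ₐ[A ⧸ x] L :=
      { gb with
        commutes' := fun c => by
          obtain ⟨a, rfl⟩ := Ideal.Quotient.mk_surjective c
          exact (gb.commutes a).trans (fb.commutes a).symm }
    have hfg : f' = g' := Subsingleton.elim _ _
    exact AlgHom.ext fun b => AlgHom.congr_fun hfg (Ideal.Quotient.mk _ b)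
  let μ := Algebra.TensorProduct.lmul' A (S := B)
  let c₁ : PrimeSpectrum (B ⊗[A] B) → PrimeSpectrum B :=
    PrimeSpectrum.comap (Algebra.TensorProduct.includeLeft (R := A) (S := A) (A := B) (B := B)).toRingHom
  let c₂ : PrimeSpectrum (B ⊗[A] B) → PrimeSpectrum B :=
    PrimeSpectrum.comap (Algebra.TensorProduct.includeRight (R := A) (A := B) (B := B)).toRingHom
  have hdiag : ∀ Q, c₁ Q = c₂ Q → Q ∈ PrimeSpectrum.zeroLocus (RingHom.ker μ.toRingHom : Set (B ⊗[A] B)) := by
    intro Q hQ z hz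
    let ev : B ⊗[A] B →ₐ[A] Q.asIdeal.ResidueField := IsScalarTower.toAlgHom A (B ⊗[A] B) _
    have h12 := huniq (c₁ Q) Q.asIdeal.ResidueField (ev.comp Algebra.TensorProduct.includeLeft)
      (ev.comp Algebra.TensorProduct.includeRight)
      (by ext b; exact Ideal.algebraMap_residueField_eq_zero)
      (by rw [hQ]; ext b; exact Ideal.algebraMap_residueField_eq_zero)
    have hev : ∀ z, ev z = ev (μ z ⊗ₜ 1) := fun z => by
      induction z using TensorProduct.induction_on with
      | zero => simp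
      | tmul b c =>
        have hc : ev (c ⊗ₜ 1) = ev (1 ⊗ₜ c) := AlgHom.congr_fun h12 c
        rw [show μ (b ⊗ₜ c) = b * c from Algebra.TensorProduct.lmul'_apply_tmul _ _,
          show ((b * c) ⊗ₜ[A] (1 : B)) = (b ⊗ₜ 1) * (c ⊗ₜ 1) by simp,
          map_mul, hc, ← map_mul]
        simp
      | add z w hz hw => simp only [map_add, TensorProduct.add_tmul, hz, hw]
    have h0 : ev z = 0 := by rw [hev, show μ z = 0 from hz]; simp
    exact Ideal.algebraMap_residueField_eq_zero.1 h0
  have hexists : ∀ y y' : PrimeSpectrum B, π y = π y' → ∃ Q, c₁ Q = y ∧ c₂ Q = y' := by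
    intro y y' h
    haveI hxM : (y.asIdeal.under A).IsMaximal :=
      (PrimeSpectrum.isClosed_singleton_iff_isMaximal (π y)).1 (hclA _)
    haveI : y'.asIdeal.LiesOver (y.asIdeal.under A) := ⟨congrArg PrimeSpectrum.asIdeal h⟩
    letI := Ideal.Quotient.field (y.asIdeal.under A)
    haveI : Nontrivial (B ⧸ y.asIdeal) := Ideal.Quotient.nontrivial_iff.2 y.isPrime.ne_top
    haveI : Nontrivial (B ⧸ y'.asIdeal) := Ideal.Quotient.nontrivial_iff.2 y'.isPrime.ne_top
    haveI : Nontrivial ((B ⧸ y.asIdeal) ⊗[A ⧸ y.asIdeal.under A] (B ⧸ y'.asIdeal)) :=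
      TensorProduct.nontrivial_of_linearMap_injective_of_flat_left _ _ _
        (Algebra.linearMap (A ⧸ y.asIdeal.under A) (B ⧸ y'.asIdeal))
        (RingHom.injective (algebraMap (A ⧸ y.asIdeal.under A) (B ⧸ y'.asIdeal))) |> fun h => h
    obtain ⟨J, hJ⟩ := Ideal.exists_maximal ((B ⧸ y.asIdeal) ⊗[A ⧸ y.asIdeal.under A] (B ⧸ y'.asIdeal))
    let r : B ⊗[A] B →ₐ[A] (B ⧸ y.asIdeal) ⊗[A ⧸ y.asIdeal.under A] (B ⧸ y'.asIdeal) :=
      Algebra.TensorProduct.lift
        ((Algebra.TensorProduct.includeLeft (S := A) (R := A ⧸ y.asIdeal.under A)).comp (Ideal.Quotient.mkₐ A _))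
        (((Algebra.TensorProduct.includeRight (R := A ⧸ y.asIdeal.under A)).restrictScalars A).comp
          (Ideal.Quotient.mkₐ A _))
        fun _ _ => Commute.all _ _
    let i₁ := (Algebra.TensorProduct.includeLeft (R := A ⧸ y.asIdeal.under A) (S := A) (A := B ⧸ y.asIdeal)
      (B := B ⧸ y'.asIdeal)).toRingHom
    let i₂ := (Algebra.TensorProduct.includeRight (R := A ⧸ y.asIdeal.under A) (A := B ⧸ y.asIdeal)
      (B := B ⧸ y'.asIdeal)).toRingHom
    refine ⟨PrimeSpectrum.comap r.toRingHom ⟨J, hJ.isPrime⟩, ?_, ?_⟩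
    · haveI : y.asIdeal.IsMaximal := (PrimeSpectrum.isClosed_singleton_iff_isMaximal y).1 isClosed_singleton
      refine PrimeSpectrum.ext ((‹y.asIdeal.IsMaximal›.eq_of_le (PrimeSpectrum.isPrime _).ne_top ?_).symm)
      intro b hb
      show r (b ⊗ₜ 1) ∈ J
      rw [Algebra.TensorProduct.lift_tmul, map_one, mul_one]
      show i₁ (Ideal.Quotient.mk _ b) ∈ J
      rw [Ideal.Quotient.eq_zero_iff_mem.2 hb, map_zero]
      exact J.zero_mem
    · haveI : y'.asIdeal.IsMaximal := (PrimeSpectrum.isClosed_singleton_iff_isMaximal y').1 isClosed_singleton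
      refine PrimeSpectrum.ext ((‹y'.asIdeal.IsMaximal›.eq_of_le (PrimeSpectrum.isPrime _).ne_top ?_).symm)
      intro b hb
      show r (1 ⊗ₜ b) ∈ J
      rw [Algebra.TensorProduct.lift_tmul, map_one, one_mul]
      show i₂ (Ideal.Quotient.mk _ b) ∈ J
      rw [Ideal.Quotient.eq_zero_iff_mem.2 hb, map_zero]
      exact J.zero_mem
  refine Groth.Agent.Spec91.extremallyDisconnected_of_cover fun y => ?_
  have hfin : (π ⁻¹' {π y} \ {y}).Finite :=
    (Algebra.QuasiFinite.finite_comap_preimage_singleton (π y)).sdiff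
  obtain ⟨W₀, hW₀, hyW₀, hW₀f⟩ := compact_exists_isClopen_in_isOpen hfin.isClosed.isOpen_compl
    (show y ∈ (π ⁻¹' {π y} \ {y})ᶜ from fun h => h.2 rfl)
  let Bad := ((PrimeSpectrum.zeroLocus (RingHom.ker μ.toRingHom : Set (B ⊗[A] B)))ᶜ ∩
    (c₁ ⁻¹' W₀ ∩ c₂ ⁻¹' W₀))
  have hBad : IsCompact Bad :=
    (PrimeSpectrum.isRetrocompact_zeroLocus_compl_of_fg (KaehlerDifferential.ideal_fg A B)).isCompact.inter_right
      ((hW₀.1.preimage (PrimeSpectrum.continuous_comap _)).inter (hW₀.1.preimage (PrimeSpectrum.continuous_comap _)))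
  have hK := ((hBad.image (PrimeSpectrum.continuous_comap (Algebra.TensorProduct.includeLeft
    (R := A) (S := A) (A := B) (B := B)).toRingHom)).image hπ).isClosed
  obtain ⟨U, hU, hyU, hUK⟩ := compact_exists_isClopen_in_isOpen hK.isOpen_compl
    (show π y ∈ (π '' (c₁ '' Bad))ᶜ from by
      rintro ⟨_, ⟨Q, ⟨hQn, hQ1, hQ2⟩, rfl⟩, hQy⟩
      have h1 : c₁ Q = y := by_contra fun hne => hW₀f hQ1 ⟨hQy, hne⟩
      have h2 : c₂ Q = y := by_contra fun hne => hW₀f hQ2 ⟨by
        refine Eq.trans ?_ hQy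
        show π (c₂ Q) = π (c₁ Q)
        simp only [π, c₁, c₂, ← PrimeSpectrum.comap_comp_apply, AlgHom.toRingHom_eq_coe, AlgHom.comp_algebraMap], hne⟩
      exact hQn (hdiag Q (h1.trans h2.symm)))
  let W := W₀ ∩ π ⁻¹' U
  have hW : IsClopen W := hW₀.inter (hU.preimage hπ)
  have hinj : Set.InjOn π W := fun a ha b hb hab => by
    obtain ⟨Q, hQ1, hQ2⟩ := hexists a b hab
    by_contra hne
    have hQn : Q ∉ PrimeSpectrum.zeroLocus (RingHom.ker μ.toRingHom : Set (B ⊗[A] B)) := fun hQz => by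
      refine hne ?_
      rw [← hQ1, ← hQ2]
      refine PrimeSpectrum.ext (Ideal.ext fun z => ?_)
      have hd : (z ⊗ₜ[A] (1 : B)) - (1 : B) ⊗ₜ[A] z ∈ Q.asIdeal := hQz (by simp [μ])
      exact ⟨fun h => (Submodule.sub_mem_iff_right Q.asIdeal (show z ⊗ₜ[A] (1 : B) ∈ Q.asIdeal from h)).1 hd,
        fun h => (Submodule.sub_mem_iff_left Q.asIdeal (show (1 : B) ⊗ₜ[A] z ∈ Q.asIdeal from h)).1 hd⟩
    exact hUK ha.2 ⟨a, ⟨Q, ⟨hQn, show c₁ Q ∈ W₀ from hQ1.symm ▸ ha.1,
      show c₂ Q ∈ W₀ from hQ2.symm ▸ hb.1⟩, hQ1⟩, rfl⟩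
  have hV : IsClopen (π '' W) := Groth.Agent.Spec91.isClopen_of_isConstructible hclA
    (PrimeSpectrum.isConstructible_comap_image (RingHom.finitePresentation_algebraMap.mpr inferInstance)
      (hW.1.isCompact.isConstructible hW.2))
  haveI := Groth.Agent.Spec91.extremallyDisconnected_of_isOpen hV.2
  haveI : CompactSpace W := isCompact_iff_compactSpace.1 hW.1.isCompact
  let f : W → π '' W := fun w => ⟨π w.1, w.1, w.2, rfl⟩
  have hfb : Function.Bijective f :=
    ⟨fun a b h => Subtype.ext (hinj a.2 b.2 (congrArg Subtype.val h)),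
      fun ⟨_, w, hw, rfl⟩ => ⟨⟨w, hw⟩, rfl⟩⟩
  exact ⟨W, hW.2, ⟨hyW₀, hyU⟩, extremallyDisconnected_of_homeo (Continuous.homeoOfEquivCompactToT2
    (f := Equiv.ofBijective f hfb) ((hπ.comp continuous_subtype_val).subtype_mk _)).symm⟩

end Groth.Agent.S0750
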