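import Groth.Statements.S0679
import Groth.Agent.S0677
import Groth.Agent.S0750
import Groth.Agent.Germs91.FiniteWC

open TensorProduct

set_option autoImplicit false
open CategoryTheory CategoryTheory.Limits AlgebraicGeometry Opposite Topology
universe u
open ProEtW

namespace Groth.Agent.S0679

/-- If A → B is a finite ring map of finite presentation and A is w-contractible, then B is
w-contractible. -/
theorem result (A B : Type u) [CommRing A] [CommRing B]
    [Algebra A B] [Module.Finite A B] [Algebra.FinitePresentation A B]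
    (h : EtPBC.IsWContractible A) : EtPBC.IsWContractible B := by
  classical
  obtain ⟨hw, hed, hsh⟩ := (Groth.Agent.S0677.result A).1 h
  haveI := hw.1
  haveI := hed
  let π := PrimeSpectrum.comap (algebraMap A B)
  have hπ : Continuous π := PrimeSpectrum.continuous_comap _
  have hcl : ∀ y : PrimeSpectrum B,
      IsClosed ({y} : Set (PrimeSpectrum B)) ↔ IsClosed ({π y} : Set (PrimeSpectrum A)) := fun y => by
    rw [PrimeSpectrum.isClosed_singleton_iff_isMaximal, PrimeSpectrum.isClosed_singleton_iff_isMaximal]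
    exact ⟨fun h => Ideal.isMaximal_comap_of_isIntegral_of_isMaximal (R := A) y.asIdeal,
      fun h => Ideal.isMaximal_of_isIntegral_of_isMaximal_comap (R := A) y.asIdeal h⟩
  have hset : {y : PrimeSpectrum B | IsClosed ({y} : Set (PrimeSpectrum B))} =
      π ⁻¹' {x | IsClosed ({x} : Set (PrimeSpectrum A))} := Set.ext hcl
  have hwB : ProEtW.IsWLocal (PrimeSpectrum B) := by
    refine ⟨inferInstance, hset ▸ hw.2.1.preimage hπ, fun q => ?_⟩
    obtain ⟨z, hz, hqz⟩ := Groth.Agent.Spec91.exists_closed_specialization q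
    refine ⟨z, ⟨hz, hqz⟩, fun w ⟨hw', hqw⟩ => ?_⟩
    obtain ⟨c, -, hu⟩ := hw.2.2 (π q)
    have hzw : π w = π z :=
      (hu _ ⟨(hcl w).1 hw', hqw.map hπ⟩).trans (hu _ ⟨(hcl z).1 hz, hqz.map hπ⟩).symm
    haveI := (PrimeSpectrum.isClosed_singleton_iff_isMaximal z).1 hz
    haveI := (PrimeSpectrum.isClosed_singleton_iff_isMaximal w).1 hw'
    haveI hm : (π z).asIdeal.IsMaximal := (PrimeSpectrum.isClosed_singleton_iff_isMaximal _).1 ((hcl z).1 hz)
    obtain ⟨_, -⟩ := hsh (π z).asIdeal
    exact PrimeSpectrum.ext (Groth.Agent.Germs91.eq_of_le_maximal (π z).asIdeal q.asIdeal w.asIdeal z.asIdeal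
      ((PrimeSpectrum.le_iff_specializes _ _).2 hqw) ((PrimeSpectrum.le_iff_specializes _ _).2 hqz)
      (congrArg PrimeSpectrum.asIdeal hzw) rfl)
  refine (Groth.Agent.S0677.result B).2 ⟨hwB, ?_, fun M hM => ?_⟩
  swap
  · haveI : (M.comap (algebraMap A B)).IsMaximal := Ideal.isMaximal_comap_of_isIntegral_of_isMaximal (R := A) M
    exact Groth.Agent.Germs91.strictlyHenselian_of_finite M _ rfl (hsh (M.comap (algebraMap A B)))
  -- the closed points form the spectrum of a finite algebra over an absolutely flat ring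
  haveI := hwB.1
  obtain ⟨_, _, _⟩ := Groth.Agent.Spec91.closedPoints_profinite hw.2.1
  obtain ⟨_, _, _⟩ := Groth.Agent.Spec91.closedPoints_profinite hwB.2.1
  let I := PrimeSpectrum.vanishingIdeal {x : PrimeSpectrum A | IsClosed ({x} : Set (PrimeSpectrum A))}
  have hI : PrimeSpectrum.zeroLocus (I : Set A) = {x : PrimeSpectrum A | IsClosed ({x} : Set (PrimeSpectrum A))} := by
    rw [PrimeSpectrum.zeroLocus_vanishingIdeal_eq_closure, hw.2.1.closure_eq]
  let iA := PrimeSpectrum.comap (Ideal.Quotient.mk I)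
  have heA : Topology.IsClosedEmbedding iA :=
    PrimeSpectrum.isClosedEmbedding_comap_of_surjective _ _ Ideal.Quotient.mk_surjective
  have hrA : Set.range iA = {x | IsClosed ({x} : Set (PrimeSpectrum A))} := by
    rw [range_comap_of_surjective _ _ Ideal.Quotient.mk_surjective, Ideal.mk_ker, hI]
  let hA' : PrimeSpectrum (A ⧸ I) ≃ₜ Groth.Agent.Germs91.CP A :=
    heA.isEmbedding.toHomeomorph.trans (Homeomorph.setCongr hrA)
  haveI : T2Space (PrimeSpectrum (A ⧸ I)) := hA'.isEmbedding.t2Space
  haveI : ExtremallyDisconnected (PrimeSpectrum (A ⧸ I)) := by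
    haveI := Groth.Agent.Spec91.t2Space_connectedComponents (X := PrimeSpectrum A)
    haveI : ExtremallyDisconnected (Groth.Agent.Germs91.CP A) := extremallyDisconnected_of_homeo
      (Continuous.homeoOfEquivCompactToT2
        (f := Equiv.ofBijective _ (Groth.Agent.Spec91.bijective_closedPoints_components hw.2.1 hw.2.2))
        (ConnectedComponents.continuous_coe.comp continuous_subtype_val)).symm
    exact extremallyDisconnected_of_homeo hA'.symm
  have hres : ∀ p : PrimeSpectrum (A ⧸ I), IsSepClosed p.asIdeal.ResidueField := fun p => by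
    haveI hm : (iA p).asIdeal.IsMaximal :=
      (PrimeSpectrum.isClosed_singleton_iff_isMaximal _).1 (hrA.subset (Set.mem_range_self p))
    obtain ⟨_, hsep⟩ := hsh (iA p).asIdeal
    let φ := Ideal.ResidueField.map (iA p).asIdeal p.asIdeal (Ideal.Quotient.mk I) rfl
    have hφ : Function.Bijective φ :=
      (RingHom.surjectiveOnStalks_of_surjective Ideal.Quotient.mk_surjective).residueFieldMap_bijective _ _ rfl
    let e := (RingEquiv.ofBijective φ hφ).symm
    refine IsSepClosed.of_exists_root _ fun q hq hirr hsep' => ?_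
    obtain ⟨r, hr⟩ := IsSepClosed.exists_root (k := (iA p).asIdeal.ResidueField) (q.map e.toRingHom)
      (by rw [Polynomial.degree_map]; exact (Polynomial.degree_pos_of_irreducible hirr).ne') hsep'.map
    refine ⟨e.symm r, e.injective ?_⟩
    rw [map_zero]
    refine Eq.trans ?_ hr
    rw [Polynomial.eval_map]
    show e.toRingHom (q.eval (e.symm r)) = _
    rw [Polynomial.eval, Polynomial.hom_eval₂, RingHom.comp_id]
    congr 1
    exact e.apply_symm_apply r
  have hedB : ExtremallyDisconnected (PrimeSpectrum ((A ⧸ I) ⊗[A] B)) :=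
    Groth.Agent.S0750.result (A ⧸ I) _ hres
  let r : B →+* (A ⧸ I) ⊗[A] B := (Algebra.TensorProduct.includeRight : B →ₐ[A] (A ⧸ I) ⊗[A] B).toRingHom
  have hr : Function.Surjective r := fun z => by
    induction z using TensorProduct.induction_on with
    | zero => exact ⟨0, map_zero _⟩
    | tmul c b =>
      obtain ⟨a, rfl⟩ := Ideal.Quotient.mk_surjective c
      exact ⟨a • b, by
        show (1 : A ⧸ I) ⊗ₜ[A] (a • b) = _
        rw [← TensorProduct.smul_tmul, ← Algebra.algebraMap_eq_smul_one]; rfl⟩
    | add z w hz hw =>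
      obtain ⟨x, rfl⟩ := hz; obtain ⟨y, rfl⟩ := hw; exact ⟨x + y, map_add _ _ _⟩
  have heB := PrimeSpectrum.isClosedEmbedding_comap_of_surjective _ r hr
  have hrB : Set.range (PrimeSpectrum.comap r) = {y | IsClosed ({y} : Set (PrimeSpectrum B))} := by
    rw [hset, ← hI]
    ext y
    constructor
    · rintro ⟨z, rfl⟩ a ha
      show r (algebraMap A B a) ∈ z.asIdeal
      rw [show r (algebraMap A B a) = algebraMap A ((A ⧸ I) ⊗[A] B) a from
        AlgHom.commutes (Algebra.TensorProduct.includeRight : B →ₐ[A] (A ⧸ I) ⊗[A] B) a,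
        IsScalarTower.algebraMap_apply A (A ⧸ I), Ideal.Quotient.algebraMap_eq,
        Ideal.Quotient.eq_zero_iff_mem.2 ha, map_zero]
      exact z.asIdeal.zero_mem
    · intro hy
      let ρ : (A ⧸ I) ⊗[A] B →ₐ[A] B ⧸ y.asIdeal := Algebra.TensorProduct.lift
        (Ideal.Quotient.liftₐ I (Algebra.ofId A _) fun a ha => Ideal.Quotient.eq_zero_iff_mem.2 (hy ha))
        (Ideal.Quotient.mkₐ A _) fun _ _ => Commute.all _ _
      refine ⟨⟨RingHom.ker ρ, RingHom.ker_isPrime _⟩, PrimeSpectrum.ext (Ideal.ext fun b => ?_)⟩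
      show ρ ((1 : A ⧸ I) ⊗ₜ b) = 0 ↔ _
      rw [Algebra.TensorProduct.lift_tmul, map_one, one_mul, Ideal.Quotient.mkₐ_eq_mk,
        Ideal.Quotient.eq_zero_iff_mem]
  haveI : ExtremallyDisconnected (Groth.Agent.Germs91.CP B) := extremallyDisconnected_of_homeo
    (heB.isEmbedding.toHomeomorph.trans (Homeomorph.setCongr hrB))
  haveI := Groth.Agent.Spec91.t2Space_connectedComponents (X := PrimeSpectrum B)
  exact extremallyDisconnected_of_homeo (Continuous.homeoOfEquivCompactToT2
    (f := Equiv.ofBijective _ (Groth.Agent.Spec91.bijective_closedPoints_components hwB.2.1 hwB.2.2))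
    (ConnectedComponents.continuous_coe.comp continuous_subtype_val))

end Groth.Agent.S0679
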