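import Groth.Statements.S0743

set_option autoImplicit false
open CategoryTheory CategoryTheory.Limits AlgebraicGeometry Opposite
universe u
open ProEtS

namespace Groth.Agent.S0743

/-- For an etale morphism j : U -> X and an abelian sheaf G on U_et, eps^{-1} (j_! G) and j_! (eps^{-1}
G) are isomorphic as abelian sheaves on X_proet (existence of an isomorphism; continuity binders
assumed). -/
theorem result {U X : Scheme.{u}} (j : U ⟶ X) [Etale j] [EtShriek.JCont j]
    [ProEtS.JPCont j] [ProEtS.EpsCont U] [ProEtS.EpsCont X] (G : EtCoh.Ab U) :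
    Nonempty ((ProEtS.epsPull X).obj ((EtShriek.extZero j).obj G) ≅
      (ProEtS.extZeroP j).obj ((ProEtS.epsPull U).obj G)) := by
  let ε : EtShriek.compEtale j ⋙ ProEtS.eps X ≅ ProEtS.eps U ⋙ ProEtS.compP j :=
    NatIso.ofComponents (fun V => MorphismProperty.Over.isoMk (Iso.refl _) (by simp; rfl))
      (fun f => by apply MorphismProperty.Over.Hom.ext; simp; rfl)
  have : (ProEtS.eps U ⋙ ProEtS.compP j).IsContinuous U.smallEtaleTopology (Scheme.ProEt.topology X) :=
    Functor.isContinuous_comp _ _ _ (Scheme.ProEt.topology U) _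
  let e : ProEtS.restrP j ⋙ ProEtS.epsPush U ≅ ProEtS.epsPush X ⋙ EtShriek.restrAlong j :=
    Functor.sheafPushforwardContinuousComp' (Iso.refl (ProEtS.eps U ⋙ ProEtS.compP j))
        AddCommGrpCat.{u + 1} U.smallEtaleTopology (Scheme.ProEt.topology U) (Scheme.ProEt.topology X) ≪≫
      (Functor.sheafPushforwardContinuousComp' ε
        AddCommGrpCat.{u + 1} U.smallEtaleTopology X.smallEtaleTopology (Scheme.ProEt.topology X)).symm
  exact ⟨(((ProEtS.epsAdj U).comp (ProEtS.extZeroPAdj j)).leftAdjointUniq
    (((EtShriek.extZeroAdj j).comp (ProEtS.epsAdj X)).ofNatIsoRight e.symm) |>.app G).symm⟩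

end Groth.Agent.S0743
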