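-- Proof of statement S14016.
import Groth.Statements.S14016
import Groth.Agent.Mod48.ProEtVanish
import Groth.Prelude.Def_WeakSerre
import Mathlib.CategoryTheory.Abelian.DiagramLemmas.Four

set_option autoImplicit false
set_option backward.isDefEq.respectTransparency.types false
open CategoryTheory CategoryTheory.Limits AlgebraicGeometry Opposite CategoryTheory.Abelian
universe u

namespace Groth.Agent.S14016

open Mod48 Mod48.ProLim in
theorem epi_epsPush_map {X : Scheme.{u}} [ProEtS.EpsCont X] {T : ShortComplex (ProEtS.AbP X)} (hT : T.ShortExact)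
    {G : EtCoh.Ab X} (e : (ProEtS.epsPull X).obj G ≅ T.X₁) : Epi ((ProEtS.epsPush X).map T.g) := by
  have hsurj : Sheaf.IsLocallySurjective ((ProEtS.epsPush X).map T.g) := by
    refine ⟨fun {V} σ => Unr55.EtSh.mem_topology fun x => ?_⟩
    let θ := (Ext.mk₀ ((lEquiv ((ProEtS.eps X).obj V) T.X₃).symm σ)).comp hT.extClass (zero_add 1)
    obtain ⟨V', g, v, hv, hz⟩ := exists_kill 0 G V (θ.comp (Ext.mk₀ e.inv) (add_zero 1)) x
    rw [resX_comp_ext] at hz
    have hz' : resX ((ProEtS.eps X).map g) θ = 0 := by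
      have := congrArg (fun q => Ext.comp q (Ext.mk₀ e.hom) (add_zero 1)) hz
      rw [Ext.comp_assoc _ _ _ (add_zero 1) (add_zero 0) (by omega), Ext.mk₀_comp_mk₀, e.inv_hom_id,
        Ext.comp_mk₀_id, Ext.zero_comp] at this
      exact this
    rw [resX_comp_ext, resX_mk₀] at hz'
    obtain ⟨t₀, ht₀⟩ := Ext.covariant_sequence_exact₃ _ hT _ rfl hz'
    obtain ⟨ψ₀, rfl⟩ := Ext.addEquiv₀.symm.surjective t₀
    obtain ⟨i₀, rfl⟩ := (lEquiv _ _).symm.surjective ψ₀
    have ht₀' : (Ext.mk₀ ((lEquiv ((ProEtS.eps X).obj V') T.X₂).symm i₀)).comp (Ext.mk₀ T.g) (add_zero 0) =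
      Ext.mk₀ ((lEquiv ((ProEtS.eps X).obj V') T.X₃).symm (T.X₃.obj.map ((ProEtS.eps X).map g).op σ)) := ht₀
    rw [Ext.mk₀_comp_mk₀, lEquiv_symm_comp] at ht₀'
    have hi := (lEquiv ((ProEtS.eps X).obj V') T.X₃).symm.injective ((Ext.mk₀_bijective _ _).1 ht₀')
    exact ⟨V', g, v, ⟨i₀, hi⟩, hv⟩
  exact (Sheaf.isLocallySurjective_iff_epi' AddCommGrpCat.{u + 1} _).1 hsurj

/-- Let X be a scheme and S a weak Serre subcategory of the abelian sheaves on the small étale site of
X, i.e. a property of objects holding for a zero object and closed under kernels, cokernels and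
extensions. Then the essential image of S under the pullback ε⁻¹ to the small pro-étale site (the
abelian pro-étale sheaves isomorphic to ε⁻¹G for some G satisfying S) is again a weak Serre
subcategory, now of the abelian sheaves on the small pro-étale site of X. (Continuity of the
inclusion of the étale site into the pro-étale site is carried as a binder.) -/
theorem result
    (X : Scheme.{u}) [ProEtS.EpsCont X]
    (S : ObjectProperty (EtCoh.Ab X)) [WSerre.IsWeakSerre S] :
    WSerre.IsWeakSerre (fun F : ProEtS.AbP X => ∃ G : EtCoh.Ab X, S G ∧ Nonempty ((ProEtS.epsPull X).obj G ≅ F)) := by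
  let L := ProEtS.epsPull X
  let R := ProEtS.epsPush X
  let adj := ProEtS.epsAdj X
  have : L.Additive := adj.left_adjoint_additive
  have : PreservesColimitsOfSize.{0, 0} L := adj.leftAdjoint_preservesColimits
  have := PreservesColimitsOfSize.preservesFiniteColimits L
  have : PreservesFiniteLimits L := Mod48.ProLim.preservesFiniteLimits_epsPull
  have : ∀ G, IsIso (adj.unit.app G) := fun G => (Mod48.proEtGSite X).isIso_unit G
  have : IsIso adj.unit := NatIso.isIso_of_isIso_app _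
  have : PreservesLimitsOfSize.{0, 0} R := adj.rightAdjoint_preservesLimits
  have : PreservesFiniteLimits R := PreservesLimitsOfSize.preservesFiniteLimits _
  let ff := adj.fullyFaithfulLOfIsIsoUnit
  have := ff.faithful
  have := ff.full
  refine { exists_zero := ?_, toIsClosedUnderKernels := ⟨?_⟩, toIsClosedUnderCokernels := ⟨?_⟩,
           toIsClosedUnderExtensions := ⟨?_⟩ }
  · obtain ⟨Z, hZ, hSZ⟩ := S.exists_prop_of_containsZero
    exact ⟨L.obj Z, L.map_isZero hZ, Z, hSZ, ⟨Iso.refl _⟩⟩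
  · rintro _ ⟨f, k, hk, ⟨G, hG, ⟨e⟩⟩, ⟨G', hG', ⟨e'⟩⟩⟩
    let ψ := ff.preimage (e.hom ≫ f ≫ e'.inv)
    have hψ : L.map ψ = e.hom ≫ f ≫ e'.inv := ff.map_preimage _
    refine ⟨kernel ψ, S.prop_kernel ψ hG hG', ⟨?_⟩⟩
    exact PreservesKernel.iso L ψ ≪≫
      kernel.mapIso (L.map ψ) f e e' (by rw [hψ]; simp) ≪≫
      IsLimit.conePointUniqueUpToIso (limit.isLimit _) hk
  · rintro _ ⟨f, k, hk, ⟨G, hG, ⟨e⟩⟩, ⟨G', hG', ⟨e'⟩⟩⟩
    let ψ := ff.preimage (e.hom ≫ f ≫ e'.inv)
    have hψ : L.map ψ = e.hom ≫ f ≫ e'.inv := ff.map_preimage _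
    refine ⟨cokernel ψ, S.prop_cokernel ψ hG hG', ⟨?_⟩⟩
    exact PreservesCokernel.iso L ψ ≪≫
      cokernel.mapIso (L.map ψ) f e e' (by rw [hψ]; simp) ≪≫
      IsColimit.coconePointUniqueUpToIso (colimit.isColimit _) hk
  · rintro T hT ⟨G₁, hG₁, ⟨e₁⟩⟩ ⟨G₃, hG₃, ⟨e₃⟩⟩
    obtain ⟨hTe, hTm⟩ := (Functor.preservesFiniteLimits_iff_forall_exact_map_and_mono R).1 inferInstance _ hT
    have hepi := epi_epsPush_map hT e₁
    have hR : (T.map R).ShortExact := { exact := hTe, mono_f := hTm, epi_g := hepi }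
    let i₁ : G₁ ≅ R.obj T.X₁ := asIso (adj.unit.app G₁) ≪≫ R.mapIso e₁
    let i₃ : G₃ ≅ R.obj T.X₃ := asIso (adj.unit.app G₃) ≪≫ R.mapIso e₃
    refine ⟨R.obj T.X₂, ObjectProperty.prop_X₂_of_shortExact _ hR (S.prop_of_iso i₁ hG₁) (S.prop_of_iso i₃ hG₃), ?_⟩
    have c₁ : IsIso (adj.counit.app T.X₁) := adj.isIso_counit_app_of_iso e₁.symm
    have c₃ : IsIso (adj.counit.app T.X₃) := adj.isIso_counit_app_of_iso e₃.symm
    have hLR := hR.map_of_exact L
    let θ : (T.map R).map L ⟶ T :=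
      { τ₁ := adj.counit.app T.X₁
        τ₂ := adj.counit.app T.X₂
        τ₃ := adj.counit.app T.X₃
        comm₁₂ := (adj.counit.naturality T.f).symm
        comm₂₃ := (adj.counit.naturality T.g).symm }
    have : IsIso θ.τ₁ := c₁
    have : IsIso θ.τ₃ := c₃
    have : IsIso θ.τ₂ := ShortComplex.isIso₂_of_shortExact_of_isIso₁₃ θ hLR hT
    exact ⟨@asIso _ _ _ _ θ.τ₂ this⟩

end Groth.Agent.S14016
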