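import Groth.Statements.S4801
import Groth.Agent.FlatCrit65.GenFree
import Groth.Agent.Cons62.Core

set_option autoImplicit false
universe u
open TensorProduct
open Cons9

namespace Groth.Agent.S4801

/-- Let R be an integral domain with fraction field K, B an R-algebra of finite presentation, F, G, H
three B-modules of finite presentation and u : F → G, v : G → H homomorphisms of B-modules such that
the generic fibre sequence K ⊗_R F → K ⊗_R G → K ⊗_R H is exact. Then there is a nonzero f ∈ R such
that, for every prime ideal p of R with f ∉ p, the fibre sequence κ(p) ⊗_R F → κ(p) ⊗_R G → κ(p) ⊗_R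
H is exact. Affine form: S = Spec R, X = Spec B with B a finitely presented R-algebra, the modules
finitely presented B-modules, and the fibre of a module M at a prime p taken as κ(p) ⊗_R M; the
published statement, for a morphism of finite presentation and quasi-coherent modules of finite
presentation, is local on S and on X and reduces to this one. -/
theorem result {R B : Type u} [CommRing R] [IsDomain R]
    [CommRing B] [Algebra R B] [Algebra.FinitePresentation R B]
    {F G H : Type u} [AddCommGroup F] [Module B F] [Module R F] [IsScalarTower R B F] [Module.FinitePresentation B F]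
    [AddCommGroup G] [Module B G] [Module R G] [IsScalarTower R B G] [Module.FinitePresentation B G]
    [AddCommGroup H] [Module B H] [Module R H] [IsScalarTower R B H] [Module.FinitePresentation B H]
    (u : F →ₗ[B] G) (v : G →ₗ[B] H)
    (hgen : Function.Exact ((u.restrictScalars R).baseChange (FractionRing R)) ((v.restrictScalars R).baseChange (FractionRing R))) :
    ∃ f : R, f ≠ 0 ∧ ∀ p : PrimeSpectrum R, f ∉ p.asIdeal →
      Function.Exact ((u.restrictScalars R).baseChange p.asIdeal.ResidueField) ((v.restrictScalars R).baseChange p.asIdeal.ResidueField) := by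
  classical
  let uR := u.restrictScalars R
  let vR := v.restrictScalars R
  let Q := G ⧸ LinearMap.range u
  let D := LinearMap.range v
  obtain ⟨f₁, hf₁, hQ, -⟩ := FlatCrit65.generic_freeness (R := R) (S := B) (M := Q)
  obtain ⟨f₂, hf₂, hE, -⟩ := FlatCrit65.generic_freeness (R := R) (S := B) (M := H ⧸ LinearMap.range v)
  obtain ⟨f₃, hf₃, hH, -⟩ := FlatCrit65.generic_freeness (R := R) (S := B) (M := H)
  have hf : f₁ * f₂ * f₃ ≠ 0 := mul_ne_zero (mul_ne_zero hf₁ hf₂) hf₃
  let f := f₁ * f₂ * f₃
  have hQ' : GenFree62.FreeAway f Q := (hQ.mul_right f₂).mul_right f₃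
  have hE' : GenFree62.FreeAway f (H ⧸ LinearMap.range v) := (hE.of_dvd (dvd_mul_left f₂ f₁)).mul_right f₃
  have hH' : GenFree62.FreeAway f H := hH.of_dvd (dvd_mul_left f₃ (f₁ * f₂))
  haveI : IsDomain (Localization.Away f) :=
    IsLocalization.isDomain_localization (powers_le_nonZeroDivisors_of_noZeroDivisors hf)
  have htors : ∀ (X : Type u) [AddCommGroup X] [Module R X], GenFree62.FreeAway f X → ∀ (r : R) (x : X),
      r ≠ 0 → r • x = 0 → ∃ n : ℕ, f ^ n • x = 0 := by
    intro X _ _ hX r x hr hrx
    haveI := hX.localizedModule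
    let m := LocalizedModule.mkLinearMap (Submonoid.powers f) X
    have h0 : algebraMap R (Localization.Away f) r • m x = 0 := by rw [algebraMap_smul, ← map_smul, hrx, map_zero]
    have h1 : m x = 0 := by
      refine (smul_eq_zero.mp h0).resolve_left fun h => ?_
      rw [IsLocalization.map_eq_zero_iff (Submonoid.powers f) (Localization.Away f)] at h
      obtain ⟨⟨_, n, rfl⟩, hn⟩ := h
      exact mul_ne_zero (pow_ne_zero n hf) hr hn
    obtain ⟨⟨_, n, rfl⟩, hn⟩ := (IsLocalizedModule.eq_zero_iff (Submonoid.powers f) m).mp h1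
    exact ⟨n, hn⟩
  have hkill : ∀ x : G, v x = 0 → ∃ N : ℕ, f ^ N • x ∈ LinearMap.range u := by
    intro x hx
    let K := FractionRing R
    obtain ⟨w, hw⟩ := (hgen ((TensorProduct.mk R K G 1) x)).mp
      (by rw [TensorProduct.mk_apply, LinearMap.baseChange_tmul, LinearMap.restrictScalars_apply, hx, TensorProduct.tmul_zero])
    haveI hlocG : IsLocalizedModule (nonZeroDivisors R) (TensorProduct.mk R K G 1) :=
      (isLocalizedModule_iff_isBaseChange (nonZeroDivisors R) K _).mpr (TensorProduct.isBaseChange R G K)
    haveI hlocF : IsLocalizedModule (nonZeroDivisors R) (TensorProduct.mk R K F 1) :=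
      (isLocalizedModule_iff_isBaseChange (nonZeroDivisors R) K _).mpr (TensorProduct.isBaseChange R F K)
    obtain ⟨⟨y, s⟩, hy⟩ := IsLocalizedModule.surj (nonZeroDivisors R) (TensorProduct.mk R K F 1) w
    simp only [TensorProduct.mk_apply] at hy hw
    have heq : (TensorProduct.mk R K G 1) ((s : R) • x) = (TensorProduct.mk R K G 1) (u y) := by
      simp only [TensorProduct.mk_apply, TensorProduct.tmul_smul, ← hw]
      have := congrArg ((u.restrictScalars R).baseChange K) hy
      rw [LinearMap.map_smul_of_tower, LinearMap.baseChange_tmul] at this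
      exact this
    obtain ⟨t, ht⟩ := (IsLocalizedModule.eq_iff_exists (nonZeroDivisors R) (TensorProduct.mk R K G 1)).mp heq
    obtain ⟨n, hn⟩ := htors Q hQ' ((t : R) * s) (Submodule.Quotient.mk x)
      (mul_ne_zero (nonZeroDivisors.coe_ne_zero t) (nonZeroDivisors.coe_ne_zero s)) (by
        rw [← Submodule.Quotient.mk_smul, Submodule.Quotient.mk_eq_zero, mul_smul]
        rw [show (t : R) • (s : R) • x = (t : R) • u y from ht]
        exact ⟨(t : R) • y, LinearMap.map_smul_of_tower u _ _⟩)
    refine ⟨n, ?_⟩
    rw [← Submodule.Quotient.mk_eq_zero, Submodule.Quotient.mk_smul]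
    exact hn
  refine ⟨f, hf, fun p hp => ?_⟩
  let κ := p.asIdeal.ResidueField
  have hu : IsUnit (algebraMap R κ f) :=
    isUnit_iff_ne_zero.mpr fun h => hp (Ideal.algebraMap_residueField_eq_zero.mp h)
  let jD : ↥(LinearMap.range vR) →ₗ[R] H := (LinearMap.range vR).subtype
  let π : G →ₗ[R] ↥(LinearMap.range vR) := vR.rangeRestrict
  have hjD : Function.Injective (jD.baseChange κ) := by
    refine Cons62.baseChange_injective_of_freeAway jD (Submodule.subtype_injective _) ?_ κ hu
    refine hE'.of_equiv ?_
    exact (Submodule.Quotient.restrictScalarsEquiv R (LinearMap.range v)).symm ≪≫ₗ Submodule.quotEquivOfEq _ _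
      (by rw [Submodule.range_subtype]; rfl)
  have hv : ∀ z, vR.baseChange κ z = jD.baseChange κ (π.baseChange κ z) := fun z => by
    rw [← LinearMap.comp_apply, ← LinearMap.baseChange_comp]; rfl
  intro z
  refine ⟨fun hz => ?_, ?_⟩
  · rw [hv] at hz
    have hz' : π.lTensor κ z = 0 := by
      apply hjD
      rw [map_zero]
      exact hz
    obtain ⟨w, rfl⟩ := ((lTensor_exact κ (LinearMap.exact_subtype_ker_map π) vR.surjective_rangeRestrict) z).mp hz'
    clear hz hz'
    induction w using TensorProduct.induction_on with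
    | zero => exact ⟨0, by simp⟩
    | add a b ha hb =>
      obtain ⟨a', ha'⟩ := ha
      obtain ⟨b', hb'⟩ := hb
      exact ⟨a' + b', by rw [map_add, map_add, ha', hb']⟩
    | tmul c x =>
      obtain ⟨x, hx⟩ := x
      obtain ⟨n, y, hy⟩ := hkill x (congrArg Subtype.val (LinearMap.mem_ker.mp hx))
      obtain ⟨e, he⟩ := (hu.pow n).exists_left_inv
      refine ⟨(e * c) ⊗ₜ y, ?_⟩
      rw [LinearMap.baseChange_tmul, LinearMap.restrictScalars_apply, hy, TensorProduct.tmul_smul,
        ← algebraMap_smul κ (f ^ n), TensorProduct.smul_tmul', smul_eq_mul, ← mul_assoc, map_pow,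
        mul_comm _ e, he, one_mul, LinearMap.lTensor_tmul]
      rfl
  · rintro ⟨w, rfl⟩
    induction w using TensorProduct.induction_on with
    | zero => simp
    | add a b ha hb => rw [map_add, map_add, ha, hb, add_zero]
    | tmul c x =>
      rw [LinearMap.baseChange_tmul, LinearMap.baseChange_tmul]
      have h0 := (hgen (1 ⊗ₜ[R] u x)).mpr ⟨1 ⊗ₜ x, by simp⟩
      rw [LinearMap.baseChange_tmul, LinearMap.restrictScalars_apply] at h0
      haveI hlocH : IsLocalizedModule (nonZeroDivisors R) (TensorProduct.mk R (FractionRing R) H 1) :=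
        (isLocalizedModule_iff_isBaseChange (nonZeroDivisors R) (FractionRing R) _).mpr
          (TensorProduct.isBaseChange R H (FractionRing R))
      obtain ⟨⟨t, ht⟩, htx⟩ := (IsLocalizedModule.eq_zero_iff (nonZeroDivisors R)
        (TensorProduct.mk R (FractionRing R) H 1)).mp (show TensorProduct.mk R (FractionRing R) H 1 (v (u x)) = 0 from h0)
      obtain ⟨n, hn⟩ := htors H hH' t (v (u x)) (nonZeroDivisors.ne_zero ht) htx
      obtain ⟨e, he⟩ := (hu.pow n).exists_left_inv
      show c ⊗ₜ[R] v (u x) = (0 : κ ⊗[R] H)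
      have : c ⊗ₜ[R] v (u x) = (e * c) ⊗ₜ[R] (f ^ n • v (u x)) := by
        rw [TensorProduct.tmul_smul, ← algebraMap_smul κ (f ^ n), TensorProduct.smul_tmul', smul_eq_mul,
          map_pow, ← mul_assoc, mul_comm _ e, he, one_mul]
      rw [this, hn, TensorProduct.tmul_zero]

end Groth.Agent.S4801
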