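import Groth.Statements.S4698
import Groth.Agent.Open62.FlatLocus
import Groth.Agent.GenFree62.Generic
import Groth.Agent.QC70.FiniteType
import Groth.Agent.EGA4H10.FlatLocal
-- import your own Groth.Agent.* helpers here

set_option autoImplicit false
universe u
open EGA4

namespace Groth.Agent.S4698

open AlgebraicGeometry CategoryTheory in
/-- Let Y be an integral locally Noetherian scheme, u : X → Y a morphism of finite type and F a coherent
O_X-module. Then there is a nonempty open subset U of Y such that F is flat over Y at every point of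
u⁻¹(U). -/
theorem result {X Y : Scheme.{u}} (u : X ⟶ Y) [IsIntegral Y] [IsLocallyNoetherian Y]
    [LocallyOfFiniteType u] [QuasiCompact u] (F : X.Modules) (hF : Coh.IsCoh F) :
    ∃ U : Y.Opens, (U : Set Y).Nonempty ∧ ∀ x : X, u.base x ∈ U → FlatMod.IsFlatOverAt u F x := by
  haveI : F.IsQuasicoherent := hF.1
  haveI : F.IsFiniteType := hF.2
  classical
  obtain ⟨y⟩ := (inferInstance : Nonempty Y)
  obtain ⟨_, ⟨V, hV, rfl⟩, hyV, -⟩ :=
    Y.isBasis_affineOpens.exists_subset_of_mem_open (Set.mem_univ y) isOpen_univ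
  have : Nonempty V := ⟨⟨y, hyV⟩⟩
  have : IsNoetherianRing Γ(Y, V) := IsLocallyNoetherian.component_noetherian ⟨V, hV⟩
  obtain ⟨s, hs, hsc⟩ := (isCompact_iff_finite_and_eq_biUnion_affineOpens).mp
    (u.isCompact_preimage hV.isCompact)
  have hsV : ∀ W ∈ s, (W : X.affineOpens).1 ≤ u ⁻¹ᵁ V := fun W hW =>
    hsc ▸ le_iSup₂ (f := fun (i : X.affineOpens) (_ : i ∈ s) => i.1) W hW
  have key : ∀ W : X.affineOpens, W ∈ s → ∃ g : Γ(Y, V), g ≠ 0 ∧
      ∀ x ∈ W.1, u.base x ∈ Y.basicOpen g → FlatMod.IsFlatOverAt u F x := by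
    intro W hW
    letI : Algebra Γ(Y, V) Γ(X, W.1) := (u.appLE V W.1 (hsV W hW)).hom.toAlgebra
    letI : Module Γ(Y, V) Γ(F, W.1) := Module.compHom _ (u.appLE V W.1 (hsV W hW)).hom
    haveI : IsScalarTower Γ(Y, V) Γ(X, W.1) Γ(F, W.1) := IsScalarTower.of_algebraMap_smul fun r s => rfl
    haveI : Algebra.FiniteType Γ(Y, V) Γ(X, W.1) :=
      LocallyOfFiniteType.finiteType_appLE u hV W.2 _
    haveI := Groth.Agent.QC70.finite_sections_of_isFiniteType F W.2
    obtain ⟨g, hg0, hg⟩ := Groth.Agent.GenFree62.exists_freeAway (A := Γ(Y, V)) (B := Γ(X, W.1)) (M := Γ(F, W.1))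
    refine ⟨g, hg0, fun x hx hxg => ?_⟩
    rw [Groth.Agent.Open62.isFlatOverAt_iff_localized u (hsV W hW) W.2 hV
      (Groth.Agent.QC70.isLocAt_of_isQuasicoherent F W.2) hx]
    set q := (W.2.primeIdealOf ⟨x, hx⟩).asIdeal with hq
    set b : Γ(X, W.1) := algebraMap Γ(Y, V) Γ(X, W.1) g with hb
    have hbq : b ∈ q.primeCompl := by
      intro h
      have : x ∈ X.basicOpen b := by
        show x ∈ X.basicOpen ((u.appLE V W.1 (hsV W hW)).hom g)
        rw [Scheme.Hom.appLE, CommRingCat.hom_comp, RingHom.comp_apply, Scheme.basicOpen_res,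
          ← Scheme.preimage_basicOpen]
        exact ⟨hx, hxg⟩
      have h2 : W.2.primeIdealOf ⟨x, hx⟩ ∈ PrimeSpectrum.basicOpen b := by
        rw [← W.2.fromSpec_preimage_basicOpen]
        show W.2.fromSpec (W.2.primeIdealOf ⟨x, hx⟩) ∈ X.basicOpen b
        rw [W.2.fromSpec_primeIdealOf]
        exact this
      exact h2 h
    let M := Γ(F, W.1)
    let M₁ := LocalizedModule (Submonoid.powers b) M
    haveI : IsLocalizedModule (Submonoid.powers g)
        ((LocalizedModule.mkLinearMap (Submonoid.powers b) M).restrictScalars Γ(Y, V)) :=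
      IsLocalizedModule.restrictScalars_powers _ _
    haveI : Module.Free (Localization.Away g) (LocalizedModule (Submonoid.powers g) M) := hg.localizedModule
    haveI : Module.Flat Γ(Y, V) (LocalizedModule (Submonoid.powers g) M) :=
      Module.Flat.trans Γ(Y, V) (Localization.Away g) _
    haveI : Module.Flat Γ(Y, V) M₁ := Module.Flat.of_linearEquiv
      (IsLocalizedModule.iso (Submonoid.powers g)
        ((LocalizedModule.mkLinearMap (Submonoid.powers b) M).restrictScalars Γ(Y, V))).symm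
    haveI := Groth.Agent.EGA4H10.flat_localizedModule (A := Γ(Y, V)) M₁ q.primeCompl
    let φ : M →ₗ[Γ(X, W.1)] LocalizedModule q.primeCompl M₁ :=
      (LocalizedModule.mkLinearMap q.primeCompl M₁).comp (LocalizedModule.mkLinearMap (Submonoid.powers b) M)
    have hle : Submonoid.powers b ≤ q.primeCompl := Submonoid.powers_le.mpr hbq
    haveI : IsLocalizedModule q.primeCompl φ :=
      { map_units := fun c => IsLocalizedModule.map_units (LocalizedModule.mkLinearMap q.primeCompl M₁) c
        surj := fun z => by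
          obtain ⟨⟨m₁, c⟩, hc⟩ := IsLocalizedModule.surj q.primeCompl (LocalizedModule.mkLinearMap q.primeCompl M₁) z
          obtain ⟨⟨m, ⟨d, hd⟩⟩, hd'⟩ := IsLocalizedModule.surj (Submonoid.powers b)
            (LocalizedModule.mkLinearMap (Submonoid.powers b) M) m₁
          refine ⟨⟨m, ⟨d, hle hd⟩ * c⟩, ?_⟩
          show _ = LocalizedModule.mkLinearMap q.primeCompl M₁ (LocalizedModule.mkLinearMap (Submonoid.powers b) M m)
          rw [← hd', mul_smul, hc, Submonoid.smul_def, Submonoid.smul_def, map_smul]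
        exists_of_eq := fun {m₁ m₂} h => by
          obtain ⟨c, hc⟩ := IsLocalizedModule.exists_of_eq (S := q.primeCompl)
            (f := LocalizedModule.mkLinearMap q.primeCompl M₁) h
          rw [Submonoid.smul_def, Submonoid.smul_def, ← map_smul, ← map_smul] at hc
          obtain ⟨⟨d, hd⟩, hd'⟩ := IsLocalizedModule.exists_of_eq (S := Submonoid.powers b)
            (f := LocalizedModule.mkLinearMap (Submonoid.powers b) M) hc
          refine ⟨⟨d, hle hd⟩ * c, ?_⟩
          rw [mul_smul, mul_smul]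
          exact hd' }
    exact Module.Flat.of_linearEquiv ((IsLocalizedModule.iso q.primeCompl φ).restrictScalars Γ(Y, V))
  choose g hg0 hg using key
  let G : Γ(Y, V) := ∏ W ∈ hs.toFinset.attach, g W.1 (hs.mem_toFinset.mp W.2)
  refine ⟨Y.basicOpen G, ?_, fun x hx => ?_⟩
  · have : G ≠ 0 := Finset.prod_ne_zero_iff.mpr fun W _ => hg0 _ _
    exact (TopologicalSpace.Opens.ne_bot_iff_nonempty _).mp fun h => this ((basicOpen_eq_bot_iff G).mp h)
  · have hxV : x ∈ u ⁻¹ᵁ V := Y.basicOpen_le G hx
    rw [hsc] at hxV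
    simp only [TopologicalSpace.Opens.mem_iSup] at hxV
    obtain ⟨W, hW, hxW⟩ := hxV
    refine hg W hW x hxW ?_
    obtain ⟨c, hc⟩ : g W hW ∣ G :=
      Finset.dvd_prod_of_mem (fun W => g W.1 (hs.mem_toFinset.mp W.2))
        (Finset.mem_attach _ ⟨W, hs.mem_toFinset.mpr hW⟩)
    rw [hc, Scheme.basicOpen_mul] at hx
    exact hx.1

end Groth.Agent.S4698
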