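import Groth.Statements.S4567
import Groth.Agent.RadPt58.Branches
import Groth.Agent.UH57.Basic

set_option autoImplicit false
universe u
open AlgebraicGeometry
open CAlg2

namespace Groth.Agent.S4567


open Groth.Agent

variable {A : Type u} [CommRing A] [IsDomain A]

/-- The branches of a domain are the geometric points of its normalization. -/
theorem nonempty_br_equiv {Ω : Type u} [Field Ω] (a : A →+* Ω) :
    Nonempty (RadPt58.Br A a ≃ RadPt58.Pts A (FractionRing A) a) := by
  have hmem : (⊥ : Ideal A) ∈ minimalPrimes A := ⟨⟨Ideal.isPrime_bot, bot_le⟩, fun q _ _ => bot_le⟩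
  let P₀ : minimalPrimes A := ⟨⊥, hmem⟩
  haveI : Subsingleton (minimalPrimes A) := ⟨fun P Q => Subtype.ext
    ((le_bot_iff.mp (P.2.2 ⟨Ideal.isPrime_bot, bot_le⟩ bot_le)).trans
      (le_bot_iff.mp (Q.2.2 ⟨Ideal.isPrime_bot, bot_le⟩ bot_le)).symm)⟩
  letI : Unique (minimalPrimes A) := uniqueOfSubsingleton P₀
  exact ⟨(Equiv.uniqueSigma fun P : minimalPrimes A => RadPt58.Pts A P.1.ResidueField a).trans
    (RadPt58.ptsCongr (IsLocalization.algEquiv (nonZeroDivisors A) (⊥ : Ideal A).ResidueField (FractionRing A)) a)⟩

theorem isGeomUnibranch_iff (p : Ideal A) [p.IsPrime] {Ω : Type u} [Field Ω] [IsAlgClosed Ω] (a : A →+* Ω)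
    (ha : RingHom.ker a = p) :
    CAlg2.IsGeomUnibranch (Localization.AtPrime p) ↔
      Subsingleton (RadPt58.Pts A (FractionRing A) a) := by
  rw [RadPt58.isGeomUnibranch_localization_iff p a ha]
  obtain ⟨e⟩ := nonempty_br_equiv a
  exact e.subsingleton_congr


/-- Let A be a domain with integral closure A' (in its fraction field) and f : Spec A' → Spec A the
canonical morphism. Then f is radicial (universally injective) if and only if every local ring A_p
is geometrically unibranch; when this holds f is a homeomorphism. -/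
theorem result {A : Type u} [CommRing A] [IsDomain A] :
    (UniversallyInjective (Spec.map (CommRingCat.ofHom (algebraMap A (integralClosure A (FractionRing A))))) ↔
      ∀ (p : Ideal A) [p.IsPrime], CAlg2.IsGeomUnibranch (Localization.AtPrime p)) ∧
    ((∀ (p : Ideal A) [p.IsPrime], CAlg2.IsGeomUnibranch (Localization.AtPrime p)) →
      IsHomeomorph (PrimeSpectrum.comap (algebraMap A (integralClosure A (FractionRing A))))) := by
  have hUI : UniversallyInjective (Spec.map (CommRingCat.ofHom (algebraMap A (integralClosure A (FractionRing A))))) ↔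
      UH57.HInj A (integralClosure A (FractionRing A)) :=
    UH57.universallyInjective_iff.trans UH57.hInj_iff.symm
  have h1 : UH57.HInj A (integralClosure A (FractionRing A)) ↔
      ∀ (p : Ideal A) [p.IsPrime], CAlg2.IsGeomUnibranch (Localization.AtPrime p) := by
    constructor
    · intro h p _
      let a : A →+* AlgebraicClosure p.ResidueField :=
        (algebraMap p.ResidueField _).comp (algebraMap A p.ResidueField)
      have ha : RingHom.ker a = p := by
        rw [← RingHom.comap_ker, (RingHom.injective_iff_ker_eq_bot _).1 (algebraMap p.ResidueField _).injective]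
        exact Ideal.ker_algebraMap_residueField p
      refine (isGeomUnibranch_iff p a ha).mpr ⟨fun φ ψ => Subtype.ext ?_⟩
      exact h _ φ.1 ψ.1 (φ.2.trans ψ.2.symm)
    · intro h K _ φ₁ φ₂ e
      let j := algebraMap K (AlgebraicClosure K)
      let a : A →+* AlgebraicClosure K := (j.comp φ₁).comp (algebraMap A _)
      haveI : (RingHom.ker a).IsPrime := RingHom.ker_isPrime a
      have hs := (isGeomUnibranch_iff (RingHom.ker a) a rfl).mp (h _)
      have he : (⟨j.comp φ₁, rfl⟩ : RadPt58.Pts A (FractionRing A) a) =
          ⟨j.comp φ₂, by simp only [a, RingHom.comp_assoc]; rw [e]⟩ := Subsingleton.elim _ _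
      exact RingHom.ext fun x => j.injective (RingHom.congr_fun (congrArg Subtype.val he) x)
  refine ⟨hUI.trans h1, fun h => ?_⟩
  have hRI := UH57.hInj_iff.mp (h1.mpr h)
  have hinj : Function.Injective (algebraMap A (integralClosure A (FractionRing A))) := fun x y hxy =>
    IsFractionRing.injective A (FractionRing A) (congrArg Subtype.val hxy)
  haveI : Algebra.IsIntegral A (integralClosure A (FractionRing A)) := IsIntegralClosure.isIntegral_algebra A (FractionRing A)
  refine isHomeomorph_iff_continuous_isClosedMap_bijective.mpr ⟨PrimeSpectrum.continuous_comap _,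
    PrimeSpectrum.isClosedMap_comap_of_isIntegral _ (algebraMap_isIntegral_iff.mpr inferInstance), hRI.1, fun p => ?_⟩
  obtain ⟨Q, -, hQp, hQ⟩ := Ideal.exists_ideal_over_prime_of_isIntegral p.asIdeal (⊥ : Ideal (integralClosure A (FractionRing A)))
    (by rw [← RingHom.ker_eq_comap_bot, (RingHom.injective_iff_ker_eq_bot _).1 hinj]; exact bot_le)
  exact ⟨⟨Q, hQp⟩, PrimeSpectrum.ext hQ⟩

end Groth.Agent.S4567
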