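import Groth.Statements.S17449
import Groth.Agent.Stein58.ValuationFibre

set_option autoImplicit false
universe u
open CategoryTheory CategoryTheory.Limits AlgebraicGeometry
open Stein

namespace Groth.Agent.S17449

/-- Let S be a Noetherian scheme and f : X → S a proper, flat and surjective morphism. Suppose that for
every generic point η of an irreducible component of S the fibre of f at η is geometrically
connected and smooth over the residue field κ(η). Then every fibre of f is geometrically connected. -/
theorem result {X S : Scheme.{u}}
    (f : X ⟶ S) [IsProper f] [Flat f] [Surjective f] [IsNoetherian S]
    (h : ∀ (Z : Set ↑S) (η : ↑S), Z ∈ irreducibleComponents ↑S → IsGenericPoint η Z →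
      GeometricallyConnected (f.fiberToSpecResidueField η) ∧ Smooth (f.fiberToSpecResidueField η)) :
    GeometricallyConnected f := by
  rw [GeometricallyConnected.iff_geometricallyConnected_fiber]
  intro s
  have hZ := isIrreducible_irreducibleComponent (x := s)
  have hη : IsGenericPoint hZ.genericPoint (irreducibleComponent s) := by
    simpa [isClosed_irreducibleComponent.closure_eq] using hZ.isGenericPoint_genericPoint_closure
  obtain ⟨h1, h2⟩ := h _ _ (irreducibleComponent_mem_irreducibleComponents s) hη
  exact Groth.Agent.Stein58.geometricallyConnected_fibre_of_specializes f
    (hη.specializes mem_irreducibleComponent) h1 h2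

end Groth.Agent.S17449
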