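import Groth.Statements.S11525
import Groth.Agent.Frg27.TFT

set_option autoImplicit false
universe u
open AdicRing

namespace Groth.Agent.S11525

/-- Let R be a base ring of class (N) or (V) for the ideal I and A an R-algebra topologically of finite
type without I-power torsion. Then A is topologically of finite presentation. -/
theorem result
    (R : Type u) [CommRing R] (I : Ideal R) (hR : AdicRing.IsBase R I)
    (A : Type u) [CommRing A] [Algebra R A] (hA : AdicRing.TopFiniteType R I A)
    (hT : AdicRing.NoPowTorsion I A) :
    AdicRing.TopFinitePresentation R I A := by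
  obtain ⟨n, φ, hφ⟩ := hA
  refine ⟨n, φ, hφ, ?_⟩
  let P := AdicRing.RPow R I n
  refine Frg27.fg_of_sat hR ⟨n, AlgHom.id R P, Function.surjective_id⟩ _ fun x j hx => ?_
  refine RingHom.mem_ker.mpr (hT (φ x) j fun a ha => ?_)
  rw [← map_smul]
  exact RingHom.mem_ker.mp (hx a ha)

end Groth.Agent.S11525
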