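import Groth.Statements.S11545
import Groth.Agent.Frg27.Chart
import Groth.Agent.Frg27.Lift

set_option autoImplicit false
universe u
open AdicRing

namespace Groth.Agent.S11545

/-- Let R be a base ring of class (N) or (V) for the ideal I, A an admissible R-algebra, f_0, ..., f_r
elements generating an open ideal 𝔞 of A, and A_i = C_i/(f_i-power torsion) the i-th chart algebra
of the formal blowing-up of 𝔞. Let B be an R-algebra complete and separated for the I-adic topology
and φ : A → B an R-algebra homomorphism such that the ideal 𝔞B is generated by φ(f_i), a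
non-zero-divisor of B. Then there is exactly one R-algebra homomorphism A_i → B whose composite with
A → A_i is φ. -/
theorem result
    (R : Type u) [CommRing R] (I : Ideal R) (hR : AdicRing.IsBase R I)
    (A : Type u) [CommRing A] [Algebra R A] (hA : AdicRing.Admissible R I A)
    (r : ℕ) (f : Fin (r + 1) → A) (k : ℕ)
    (hopen : (I ^ k).map (algebraMap R A) ≤ Ideal.span (Set.range f)) (i : Fin (r + 1))
    (B : Type u) [CommRing B] [Algebra R B] [IsAdicComplete (I.map (algebraMap R B)) B]
    (φ : A →ₐ[R] B) (hnzd : φ (f i) ∈ nonZeroDivisors B)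
    (hgen : (Ideal.span (Set.range f)).map φ = Ideal.span {φ (f i)}) :
    ∃! ψ : AdicRing.chartAdm I f i →ₐ[R] B,
      ψ.comp (IsScalarTower.toAlgHom R A (AdicRing.chartAdm I f i)) = φ := by
  classical
  have hI := Frg27.base_fg hR
  letI : Algebra A B := φ.toRingHom.toAlgebra
  haveI : IsScalarTower R A B := IsScalarTower.of_algebraMap_eq fun r => (φ.commutes r).symm
  have hc : ∀ j, ∃ c, c * φ (f i) = φ (f j) := fun j => Ideal.mem_span_singleton'.mp
    (hgen ▸ Ideal.mem_map_of_mem φ (Ideal.subset_span (Set.mem_range_self j)))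
  choose c hc using hc
  let g : AdicRing.chartAlg f i →ₐ[A] B := Ideal.Quotient.liftₐ _ (MvPolynomial.aeval fun j => c j.1)
    (by
      intro p hp
      refine (Ideal.span_le.mpr ?_ : Ideal.span _ ≤ RingHom.ker _) hp
      rintro - ⟨j, rfl⟩
      rw [SetLike.mem_coe, RingHom.mem_ker, map_sub, map_mul, MvPolynomial.aeval_C, MvPolynomial.aeval_C,
        MvPolynomial.aeval_X, mul_comm]
      exact sub_eq_zero.mpr (hc j.1))
  let ψ₀ := Frg27.complLift (I := I) (g.restrictScalars R)
  have hψ₀ : ∀ a, ψ₀ (algebraMap A (AdicRing.chartCompl I f i) a) = φ a := fun a => by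
    rw [IsScalarTower.algebraMap_apply A (AdicRing.chartAlg f i) (AdicRing.chartCompl I f i),
      Frg27.complLift_algebraMap]
    exact g.commutes a
  let ψ : AdicRing.chartAdm I f i →ₐ[R] B := Ideal.Quotient.liftₐ _ ψ₀ (by
    intro x hx
    rw [Submodule.mem_iSup_of_directed _ (fun m n => ⟨m + n, ?_, ?_⟩)] at hx
    · obtain ⟨n, hn⟩ := hx
      rw [Submodule.mem_torsionBy_iff, smul_eq_mul] at hn
      have := congrArg ψ₀ hn
      rw [map_mul, map_pow, hψ₀, map_zero, mul_comm] at this
      exact mem_nonZeroDivisors_iff_right.mp (pow_mem hnzd n) _ this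
    all_goals
      intro y hy
      rw [Submodule.mem_torsionBy_iff, smul_eq_mul] at hy ⊢
    · rw [pow_add, mul_comm (_ ^ m), mul_assoc, hy, mul_zero]
    · rw [pow_add, mul_assoc, hy, mul_zero])
  refine ⟨ψ, AlgHom.ext fun a => hψ₀ a, fun ψ' hψ' => ?_⟩
  have hφ : ∀ a, ψ' (Ideal.Quotient.mk _ (algebraMap A (AdicRing.chartCompl I f i) a)) = φ a :=
    fun a => AlgHom.congr_fun hψ' a
  refine Ideal.Quotient.algHom_ext R (Frg27.compl_hom_ext hI fun y => ?_)
  induction y using Frg27.chart_induction with
  | hC a =>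
    rw [AlgHom.comp_apply, AlgHom.comp_apply,
      ← IsScalarTower.algebraMap_apply A (AdicRing.chartAlg f i) (AdicRing.chartCompl I f i)]
    exact (hφ a).trans (hψ₀ a).symm
  | hadd x y hx hy => rw [map_add, map_add, map_add, hx, hy]
  | hX x j hx =>
    rw [map_mul, map_mul, map_mul, hx]
    congr 1
    refine sub_eq_zero.mp (mem_nonZeroDivisors_iff_right.mp hnzd _ ?_)
    rw [sub_mul, AlgHom.comp_apply, AlgHom.comp_apply, sub_eq_zero]
    conv_lhs => rw [← hφ (f i)]
    conv_rhs => rw [← hψ₀ (f i)]
    change ψ' (Ideal.Quotient.mk _ _) * _ = ψ₀ _ * ψ₀ _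
    have e : algebraMap (AdicRing.chartAlg f i) (AdicRing.chartCompl I f i) (Frg27.chartVar f i j) *
        algebraMap A (AdicRing.chartCompl I f i) (f i) = algebraMap A (AdicRing.chartCompl I f i) (f j.1) := by
      rw [IsScalarTower.algebraMap_apply A (AdicRing.chartAlg f i) (AdicRing.chartCompl I f i) (f i),
        IsScalarTower.algebraMap_apply A (AdicRing.chartAlg f i) (AdicRing.chartCompl I f i) (f j.1),
        ← map_mul, mul_comm, Frg27.mul_chartVar]
    refine ((map_mul ψ' _ _).symm.trans ?_).trans (map_mul ψ₀ _ _)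
    rw [e, ← map_mul (Ideal.Quotient.mk _), e]
    exact (hφ _).trans (hψ₀ _).symm

end Groth.Agent.S11545
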