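import Groth.Agent.An92.FSch.Spf
import Mathlib.AlgebraicGeometry.Morphisms.Immersion
import Mathlib.AlgebraicGeometry.Morphisms.FiniteType
-- Template for statement S3854 (row 3853; see the milestone table for weights).
-- Copy to Groth/Agent/S3854.lean and replace the sorry. The statement below is byte-identical to the frozen
-- statement FCompl.GrothFrozen.S3854 (Groth/Statements/S3854.lean; the theorem FCompl.isLocNoethFormal_completionAlong);
-- the grader kernel-checks Groth.Agent.S3854.result against that frozen type. Keep the theorem IN THIS FILE
-- (a `result` declared elsewhere and merely imported here is not credited); helpers may live anywhere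
-- under Groth/Agent/.

set_option autoImplicit false
universe u
namespace FCompl
end FCompl
open FCompl

open CategoryTheory

namespace Groth.Agent.S3854

open AlgebraicGeometry in
/-- The completion along a closed subset, presented as the system of closed subschemes cut out by the
powers of an ideal sheaf: Let X be a locally Noetherian scheme and I an ideal sheaf on X. The closed
subschemes defined by I, I^2, I^3, ... with their inclusions form a locally Noetherian adic formal
system: each inclusion is a surjective closed immersion, the kernel ideal of the n-th inclusion is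
the (n+1)-st power of the kernel ideal of the composite inclusion from level 0, and every level is
locally Noetherian. -/
theorem result (X : Scheme.{u}) [IsLocallyNoetherian X]
    (𝓘 : X.IdealSheafData) : (FSch.completionAlong X 𝓘).IsLocNoethFormal := by
  let S := FSch.completionAlong X 𝓘
  have hci : ∀ n, IsClosedImmersion (S.ι n) := fun n =>
    inferInstanceAs (IsClosedImmersion (Scheme.IdealSheafData.inclusion (FSch.pow_succ_le X 𝓘 n)))
  have hpb : ∀ (K L : X.IdealSheafData) (h : K ≤ L),
      CategoryTheory.IsPullback (Scheme.IdealSheafData.inclusion h) (CategoryTheory.CategoryStruct.id _)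
        K.subschemeι L.subschemeι := fun K L h => by
    refine CategoryTheory.IsPullback.of_isLimit (CategoryTheory.Limits.PullbackCone.IsLimit.mk
      (fst := Scheme.IdealSheafData.inclusion h) (snd := CategoryTheory.CategoryStruct.id _)
      (by rw [Scheme.IdealSheafData.inclusion_subschemeι, CategoryTheory.Category.id_comp])
      (fun s => s.snd) (fun s => ?_) (fun s => CategoryTheory.Category.comp_id _)
      (fun s m _ h₂ => by simpa using h₂))
    rw [← CategoryTheory.cancel_mono K.subschemeι, CategoryTheory.Category.assoc,
      Scheme.IdealSheafData.inclusion_subschemeι]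
    exact s.condition.symm
  have hle : ∀ n, 𝓘 ^ (n + 1) ≤ 𝓘 ^ (0 + 1) := fun n =>
    pow_le_pow_of_le_one bot_le le_top (Nat.succ_le_succ (Nat.zero_le n))
  have htoX : ∀ n, S.toX n = Scheme.IdealSheafData.inclusion (hle n) := fun n => by
    induction n with
    | zero =>
      refine (CategoryTheory.cancel_mono (𝓘 ^ (0 + 1)).subschemeι).1 ?_
      exact (CategoryTheory.Category.id_comp _).trans
        (Scheme.IdealSheafData.inclusion_subschemeι _).symm
    | succ n ih =>
      refine (CategoryTheory.cancel_mono (𝓘 ^ (n + 1 + 1)).subschemeι).1 ?_
      change (S.toX n ≫ S.ι n) ≫ _ = _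
      rw [ih]
      exact (CategoryTheory.Category.assoc _ _ _).trans
        (((congrArg (CategoryTheory.CategoryStruct.comp _)
          (Scheme.IdealSheafData.inclusion_subschemeι (FSch.pow_succ_le X 𝓘 n))).trans
          (Scheme.IdealSheafData.inclusion_subschemeι (hle n))).trans
          (Scheme.IdealSheafData.inclusion_subschemeι (hle (n + 1))).symm)
  have hsur : ∀ (K L : X.IdealSheafData) (h : K ≤ L), K.support = L.support →
      Function.Surjective (Scheme.IdealSheafData.inclusion h) := fun K L h hs x => by
    have hx : K.subschemeι x ∈ Set.range L.subschemeι := by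
      rw [Scheme.IdealSheafData.range_subschemeι, ← hs, ← Scheme.IdealSheafData.range_subschemeι]
      exact ⟨x, rfl⟩
    obtain ⟨y, hy⟩ := hx
    refine ⟨y, K.subschemeι.isClosedEmbedding.injective ?_⟩
    rw [← Scheme.Hom.comp_apply, Scheme.IdealSheafData.inclusion_subschemeι, hy]
  have hkey : ∀ n, (Scheme.IdealSheafData.inclusion (FSch.pow_succ_le X 𝓘 n)).ker =
      (Scheme.IdealSheafData.inclusion (hle (n + 1))).ker ^ (n + 1) := fun n => by
    rw [An92.FSch.comap_ker_of_isPullback (hpb _ _ (FSch.pow_succ_le X 𝓘 n)),
      An92.FSch.comap_ker_of_isPullback (hpb _ _ (hle (n + 1))),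
      Scheme.IdealSheafData.ker_subschemeι, Scheme.IdealSheafData.ker_subschemeι, zero_add, pow_one,
      An92.FSch.comap_pow]
  refine ⟨fun n => ⟨hci n, hsur _ _ (FSch.pow_succ_le X 𝓘 n) (by
    rw [Scheme.IdealSheafData.support_pow_succ, Scheme.IdealSheafData.support_pow_succ])⟩,
    fun n => ?_, fun n => ?_⟩
  · rw [htoX (n + 1)]
    exact hkey n
  · have hN : IsLocallyNoetherian (𝓘 ^ (n + 1)).subscheme :=
      LocallyOfFiniteType.isLocallyNoetherian (𝓘 ^ (n + 1)).subschemeι
    exact hN

end Groth.Agent.S3854
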