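import Groth.Statements.S10857
import Groth.Agent.QC70.DevissageAux
import Groth.Agent.QC70.CoprodStalk

set_option autoImplicit false
universe u
open QCohSup

namespace Groth.Agent.S10857


open AlgebraicGeometry CategoryTheory Limits in
theorem finite_stalk {X : Scheme.{u}} (M : X.Modules) [M.IsQuasicoherent] [M.IsFiniteType]
    (x : X) : Module.Finite (X.presheaf.stalk x) (M.presheaf.stalk x) := by
  classical
  obtain ⟨_, ⟨V, hV, rfl⟩, hxV, -⟩ :=
    X.isBasis_affineOpens.exists_subset_of_mem_open (Set.mem_univ x) isOpen_univ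
  obtain ⟨S, hS⟩ := (QC70.finite_sections_of_isFiniteType M hV).fg_top
  refine ⟨⟨S.image (QC70.germM M V x hxV), eq_top_iff.mpr fun e _ => ?_⟩⟩
  obtain ⟨f, t, hxf, ht⟩ := QC70.stalk_exists_smul (QC70.isLocAt_of_isQuasicoherent M hV) hV hxV e
  obtain ⟨v, hv⟩ := QC70.isUnit_germ hxf
  have he : e = (↑v⁻¹ : X.presheaf.stalk x) • QC70.germM M V x hxV t := by
    rw [← ht, ← hv, smul_smul, Units.inv_mul, one_smul]
  rw [he]
  refine Submodule.smul_mem _ _ ?_
  have hspan : t ∈ Submodule.span Γ(X, V) (S : Set Γ(M, V)) := hS ▸ trivial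
  clear he ht
  induction hspan using Submodule.span_induction with
  | mem y hy => exact Submodule.subset_span (Finset.mem_coe.mpr (Finset.mem_image_of_mem _ hy))
  | zero => rw [QC70.germM_zero]; exact zero_mem _
  | add y z _ _ hy hz => rw [QC70.germM_add]; exact add_mem hy hz
  | smul c y _ hy => rw [QC70.germM_smul]; exact Submodule.smul_mem _ _ hy


open AlgebraicGeometry CategoryTheory CategoryTheory.Limits in
/-- Take a quasi-compact scheme X, a finite-type quasi-coherent O_X-module F, and G a quasi-coherent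
O_X-module which is the colimit of a filtered diagram of quasi-coherent O_X-modules G_j. A
homomorphism u : G → F is an epimorphism if and only if there is an index j₀ such that for every
index j admitting a map from j₀ the composite G_j → G → F is an epimorphism. -/
theorem result {X : Scheme.{u}} [CompactSpace X]
    {J : Type u} [SmallCategory J] [IsFiltered J] (D : J ⥤ X.Modules) [∀ j, Coh.IsQCoh (D.obj j)]
    (c : Cocone D) (hc : IsColimit c) [Coh.IsQCoh c.pt]
    (F : X.Modules) [Coh.IsQCoh F] (hF : CohB1.IsFT F) (u : c.pt ⟶ F) :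
    Epi u ↔ ∃ j₀ : J, ∀ j : J, Nonempty (j₀ ⟶ j) → Epi (c.ι.app j ≫ u) := by
  open AlgebraicGeometry CategoryTheory CategoryTheory.Limits in
  haveI : F.IsQuasicoherent := ‹Coh.IsQCoh F›
  haveI : F.IsFiniteType := hF
  constructor
  · intro _
    let s : (∐ D.obj) ⟶ c.pt := Sigma.desc fun j => c.ι.app j
    haveI : Epi s := ⟨fun a b h => hc.hom_ext fun j => by
      simpa [s] using (Sigma.ι D.obj j) ≫= h⟩
    let Φ : ∀ (x : X), J → Submodule (X.presheaf.stalk x) (F.presheaf.stalk x) := fun x j =>
      LinearMap.range (QC70.stalkLinear (c.ι.app j ≫ u) x)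
    have hmono : ∀ (x : X) (i j : J) (f : i ⟶ j), Φ x i ≤ Φ x j := by
      rintro x i j f _ ⟨e, rfl⟩
      refine ⟨QC70.stalkMapM (D.map f) x e, ?_⟩
      change QC70.stalkMapM (c.ι.app j ≫ u) x (QC70.stalkMapM (D.map f) x e) =
        QC70.stalkMapM (c.ι.app i ≫ u) x e
      rw [← QC70.stalkMapM_comp, ← Category.assoc, c.w]
    have hpt : ∀ x : X, ∃ j, Φ x j = ⊤ := by
      intro x
      classical
      have hall : ∀ e, ∃ j, e ∈ Φ x j := by
        intro e
        obtain ⟨d, rfl⟩ := QC70.surjective_stalkMapM_of_epi (s ≫ u) x e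
        obtain ⟨v, rfl⟩ := QC70.surjective_coprodStalkMap D.obj x d
        induction v using DirectSum.induction_on with
        | zero =>
          obtain ⟨j⟩ := IsFiltered.nonempty (C := J)
          refine ⟨j, ?_⟩
          change QC70.stalkLinear (s ≫ u) x _ ∈ _
          rw [map_zero, map_zero]
          exact zero_mem _
        | of i a =>
          refine ⟨i, a, ?_⟩
          change QC70.stalkMapM (c.ι.app i ≫ u) x a = QC70.stalkMapM (s ≫ u) x _
          rw [← DirectSum.lof_eq_of (X.presheaf.stalk x), QC70.coprodStalkMap_lof,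
            ← QC70.stalkMapM_comp]
          simp [s]
        | add v w hv hw =>
          obtain ⟨i, hi⟩ := hv
          obtain ⟨j, hj⟩ := hw
          refine ⟨IsFiltered.max i j, ?_⟩
          change QC70.stalkLinear (s ≫ u) x _ ∈ _
          rw [map_add, map_add]
          exact add_mem (hmono x _ _ (IsFiltered.leftToMax i j) hi)
            (hmono x _ _ (IsFiltered.rightToMax i j) hj)
      haveI := finite_stalk F x
      obtain ⟨S, hS⟩ := Module.Finite.fg_top (R := X.presheaf.stalk x) (M := F.presheaf.stalk x)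
      choose g hg using hall
      obtain ⟨k, hk⟩ := IsFiltered.sup_objs_exists (S.image g)
      refine ⟨k, top_le_iff.mp (hS.ge.trans (Submodule.span_le.mpr fun e he => ?_))⟩
      obtain ⟨f⟩ := hk (Finset.mem_image_of_mem g he)
      exact hmono x _ _ f (hg e)
    choose jx hjx using hpt
    have hU : ∀ x : X, ∃ U : X.Opens, x ∈ U ∧ ∀ y ∈ U, Φ y (jx x) = ⊤ := by
      intro x
      let w := c.ι.app (jx x) ≫ u
      haveI : (cokernel w).IsFiniteType := QC70.isFiniteType_of_epi (cokernel.π w)
      have hx : Function.Surjective (QC70.stalkMapM w x) := LinearMap.range_eq_top.mp (hjx x)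
      obtain ⟨U, hxU, hU⟩ := QC70.exists_nhd_sections_subsingleton (M := cokernel w) x
        (QC70.subsingleton_stalk_cokernel w x hx)
      refine ⟨U, hxU, fun y hy => LinearMap.range_eq_top.mpr fun e => ?_⟩
      have hc' : Subsingleton ((cokernel w).presheaf.stalk y) := subsingleton_of_forall_eq 0 fun d => by
        obtain ⟨W, hyW, t, rfl⟩ := QC70.germM_exist d
        rw [← QC70.germM_res (inf_le_left : W ⊓ U ≤ W) (show y ∈ W ⊓ U from ⟨hyW, hy⟩) t,
          (hU (W ⊓ U) inf_le_right).elim (QC70.res (cokernel w) inf_le_left t) 0, QC70.germM_zero]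
      let S : ShortComplex X.Modules :=
        ShortComplex.mk (kernel.ι (cokernel.π w)) (cokernel.π w) (kernel.condition _)
      haveI : Mono S.f := (inferInstance : Mono (kernel.ι (cokernel.π w)))
      obtain ⟨d, hd⟩ := QC70.stalkMapM_exact S
        (ShortComplex.exact_of_f_is_kernel _ (kernelIsKernel _)) y e (hc'.elim _ _)
      obtain ⟨d', rfl⟩ := QC70.surjective_stalkMapM_of_epi (Abelian.factorThruImage w) y d
      refine ⟨d', ?_⟩
      change QC70.stalkMapM w y d' = e
      rw [← hd, ← QC70.stalkMapM_comp]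
      exact congrArg (fun g => QC70.stalkMapM g y d') (Abelian.image.fac w).symm
    choose U hxU hU' using hU
    obtain ⟨t, ht⟩ := isCompact_univ.elim_finite_subcover (fun x => (U x : Set X))
      (fun x => (U x).2) fun x _ => Set.mem_iUnion.mpr ⟨x, hxU x⟩
    classical
    obtain ⟨k, hk⟩ := IsFiltered.sup_objs_exists (t.image jx)
    refine ⟨k, fun j ⟨f⟩ => QC70.epi_of_surjective_stalkMapM _ fun y => ?_⟩
    obtain ⟨x, hx, hyx⟩ := Set.mem_iUnion₂.mp (ht (Set.mem_univ y))
    obtain ⟨g⟩ := hk (Finset.mem_image_of_mem jx hx)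
    exact LinearMap.range_eq_top.mp
      (top_le_iff.mp ((hU' x y hyx).ge.trans (hmono y _ _ (g ≫ f))))
  · rintro ⟨j₀, h⟩
    haveI := h j₀ ⟨𝟙 _⟩
    exact epi_of_epi (c.ι.app j₀) u

end Groth.Agent.S10857
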