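import Groth.Statements.S0239
import Groth.Agent.Hensel20.PairEtale
import Groth.Agent.FEt83.AffineBaseChange

set_option autoImplicit false
universe u
open Pi1

namespace Groth.Agent.S0239

open AlgebraicGeometry CategoryTheory CategoryTheory.Limits in
theorem baseChange_isEquivalence (A : Type u) [CommRing A] (I : Ideal A) [HenselianRing A I] :
    (CommAlgCat.FiniteEtale.baseChange.{u, u} (R := A) (A ⧸ I)).IsEquivalence :=
  { faithful := ⟨fun {C D f g} h => ObjectProperty.hom_ext _ (CommAlgCat.hom_ext
      ((Hensel20.algHom_baseChange_bijective (I := I) C.obj D.obj).1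
        (congrArg (fun k => k.hom.hom) h)))⟩
    full := ⟨fun {C D} f => by
      obtain ⟨φ, hφ⟩ :=
        (Hensel20.algHom_baseChange_bijective (I := I) C.obj D.obj).2 f.hom.hom
      exact ⟨CommAlgCat.FiniteEtale.ofHom φ, ObjectProperty.hom_ext _ (CommAlgCat.hom_ext hφ)⟩⟩
    essSurj := ⟨fun C => by
      obtain ⟨B, _, _, hB, hB', ⟨e⟩⟩ := Hensel20.exists_finite_etale_lift (A := A) (I := I) C.obj
      exact ⟨CommAlgCat.FiniteEtale.of A B, ⟨CommAlgCat.FiniteEtale.isoMk e⟩⟩⟩ }

open AlgebraicGeometry CategoryTheory CategoryTheory.Limits in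
/-- For a henselian pair (A, I) in Mathlib's sense, restricting finite etale covers from Spec A to the
closed subscheme Spec (A/I) is an equivalence of categories. -/
theorem result (A : Type u) [CommRing A] (I : Ideal A) [HenselianRing A I] :
    (FEt.restrict (Spec.map (CommRingCat.ofHom (Ideal.Quotient.mk I)))).IsEquivalence := by
  have := baseChange_isEquivalence A I
  have h1 : (FEt83.specFunctor A ⋙
      FEt.restrict (Spec.map (CommRingCat.ofHom (algebraMap A (A ⧸ I))))).IsEquivalence :=
    Functor.isEquivalence_of_iso (FEt83.specFunctorRestrictIso A (A ⧸ I)).symm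
  exact Functor.isEquivalence_of_comp_left (FEt83.specFunctor A)
    (FEt.restrict (Spec.map (CommRingCat.ofHom (algebraMap A (A ⧸ I)))))

end Groth.Agent.S0239
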