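import Groth.Statements.S17758
import Groth.Agent.LC17.ConnSpec

set_option autoImplicit false
universe u
open LocCoh

namespace Groth.Agent.S17758

/-- Let R be a complete Noetherian local domain of Krull dimension d with maximal ideal m, and I a
proper ideal of R of arithmetic rank at most d − 2: there are elements f_1, …, f_t with t + 2 ≤ d
such that I and (f_1, …, f_t) have the same radical. Then the punctured spectrum of R ⧸ I, viewed as
the set of prime ideals of R that contain I and differ from m, is a nonempty connected subset of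
Spec R. (Connectedness is taken here to include nonemptiness, so the unit ideal, whose punctured
spectrum is empty, is excluded; for a proper I nonemptiness is automatic, since otherwise I would be
m-primary and m would be minimal over an ideal generated by t ≤ d − 2 elements, against Krull's
height bound.) -/
theorem result (R : Type u) [CommRing R] [IsDomain R] [IsNoetherianRing R] [IsLocalRing R] [IsAdicComplete (IsLocalRing.maximalIdeal R) R] (d : ℕ) (hd : ringKrullDim R = d) (t : ℕ) (ht : t + 2 ≤ d) (f : Fin t → R) (I : Ideal R) (hItop : I ≠ ⊤) (hI : I.radical = (Ideal.span (Set.range f)).radical) : IsConnected {x : PrimeSpectrum R | I ≤ x.asIdeal ∧ x.asIdeal ≠ IsLocalRing.maximalIdeal R} := by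
  classical
  have hs : (Ideal.span ((Finset.univ.image f : Finset R) : Set R)).radical = I.radical := by
    rw [Finset.coe_image, Finset.coe_univ, Set.image_univ, hI]
  have h := Groth.Agent.LC17.min_connDim_subdim_le_quot I hItop (Finset.univ.image f) hs
  have hmin : ∀ p ∈ minimalPrimes R, p = ⊥ := fun p hp =>
    le_bot_iff.1 (hp.2 ⟨Ideal.isPrime_bot, le_rfl⟩ bot_le)
  have hd' : ∀ p ∈ minimalPrimes R, (d : WithBot ℕ∞) ≤ ringKrullDim (R ⧸ p) := fun p hp => by
    rw [hmin p hp, ringKrullDim_eq_of_ringEquiv (RingEquiv.quotientBot R), hd]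
  have hsub := Groth.Agent.LC17.le_subdim hd'
  obtain ⟨A, B, ⟨hA, hB, hAm, hBm, -⟩, hcle⟩ := Groth.Agent.LC17.exists_connDim_attained (R := R)
  have hinf : ∀ C : Finset (Ideal R), (∀ p ∈ C, p ∈ minimalPrimes R) → C.Nonempty → C.inf id = ⊥ := by
    rintro C hC ⟨q, hq⟩
    exact le_bot_iff.1 ((Finset.inf_le (f := id) hq).trans (hmin q (hC q hq)).le)
  rw [hinf A hAm hA, hinf B hBm hB, sup_idem, ringKrullDim_eq_of_ringEquiv (RingEquiv.quotientBot R), hd] at hcle
  haveI : Nontrivial (R ⧸ I) := Ideal.Quotient.nontrivial_iff.2 hItop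
  haveI : IsLocalRing (R ⧸ I) :=
    IsLocalRing.of_surjective' (Ideal.Quotient.mk I) Ideal.Quotient.mk_surjective
  obtain ⟨c, hc⟩ := Groth.Agent.LC17.exists_connDim_eq (R := R ⧸ I)
  have hcard : (Finset.univ.image f).card ≤ t := Finset.card_image_le.trans (by simp)
  have h2 : (d : WithBot ℕ∞) ≤ (c : WithBot ℕ∞) + ((Finset.univ.image f).card : WithBot ℕ∞) + 1 := by
    rw [← hc]
    refine le_trans (le_min ?_ hsub) h
    exact le_add_of_le_of_nonneg hcle zero_le_one
  have h3 : d ≤ c + (Finset.univ.image f).card + 1 := by exact_mod_cast h2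
  -- the punctured spectrum of the quotient
  have hconn : _root_.IsConnected ({IsLocalRing.closedPoint (R ⧸ I)}ᶜ : Set (PrimeSpectrum (R ⧸ I))) := by
    by_contra hn
    have hclosed : IsClosed ({IsLocalRing.closedPoint (R ⧸ I)} : Set (PrimeSpectrum (R ⧸ I))) :=
      (PrimeSpectrum.isClosed_singleton_iff_isMaximal _).2 (IsLocalRing.maximalIdeal.isMaximal _)
    have h4 := Groth.Agent.LC17.connDim_le hclosed hn
    rw [hc] at h4
    have h6 := h4.trans (topologicalKrullDim_zero_of_discreteTopology _)
    have : c ≤ 0 := by exact_mod_cast h6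
    omega
  have himg := hconn.image (PrimeSpectrum.comap (Ideal.Quotient.mk I))
    (PrimeSpectrum.continuous_comap _).continuousOn
  convert himg using 1
  ext x
  constructor
  · rintro ⟨hIx, hxm⟩
    obtain ⟨y, rfl⟩ : x ∈ Set.range (PrimeSpectrum.comap (Ideal.Quotient.mk I)) := by
      rw [range_comap_of_surjective _ _ Ideal.Quotient.mk_surjective, Ideal.mk_ker]
      exact hIx
    refine ⟨y, fun hy => hxm ?_, rfl⟩
    rw [Set.mem_singleton_iff.1 hy]
    exact (IsLocalRing.local_hom_TFAE (Ideal.Quotient.mk I)).out 0 4 |>.1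
      (IsLocalHom.of_surjective _ Ideal.Quotient.mk_surjective)
  · rintro ⟨y, hy, rfl⟩
    refine ⟨fun z hz => by
      rw [PrimeSpectrum.comap_asIdeal, Ideal.mem_comap, Ideal.Quotient.eq_zero_iff_mem.2 hz]
      exact zero_mem _, fun e => hy (PrimeSpectrum.ext ?_)⟩
    rw [PrimeSpectrum.comap_asIdeal] at e
    have h5 := congrArg (Ideal.map (Ideal.Quotient.mk I)) e
    rw [Ideal.map_comap_of_surjective _ Ideal.Quotient.mk_surjective] at h5
    show y.asIdeal = IsLocalRing.maximalIdeal (R ⧸ I)
    exact IsLocalRing.eq_maximalIdeal (h5 ▸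
      (Ideal.map_eq_top_or_isMaximal_of_surjective _ Ideal.Quotient.mk_surjective
        (IsLocalRing.maximalIdeal.isMaximal R)).resolve_left (fun ht => y.isPrime.ne_top (h5.trans ht)))

end Groth.Agent.S17758
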