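import Groth.Statements.S3401
import Groth.Agent.ConsPts12.Range
import Groth.Agent.E4O.GenOpen
import Groth.Prelude.Def_EGA43

set_option autoImplicit false
set_option linter.all false
open CategoryTheory AlgebraicGeometry
universe u
open EGA41 CategoryTheory AlgebraicGeometry Topology Groth.Agent.ConsPts12

namespace Groth.Agent.S3401

/-- Let X be a scheme and E a subset of X. If E is ind-constructible then for every point x of E the set
E ∩ cl{x} is a neighbourhood of x in cl{x}; when X is locally Noetherian the converse holds. (As
published, the necessity clause quantifies over all points x of X; for x outside E the condition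
cannot hold, and the argument uses x ∈ E, so it is stated here for x ∈ E.) Stated as an equivalence
for X locally Noetherian. -/
theorem result (X : Scheme.{u}) [IsLocallyNoetherian X]
    (E : Set X) :
    ProCons.IsIndConstructible E ↔
      ∀ x ∈ E, (Subtype.val ⁻¹' E : Set ↥(closure ({x} : Set X))) ∈ nhds (⟨x, subset_closure rfl⟩ : ↥(closure ({x} : Set X))) := by
  refine ⟨fun h x hx => ?_, fun h => isIndConstructible_of_nhds fun x hx => ?_⟩
  · obtain ⟨O, hO, hxO, hsub⟩ := nhds_closure_of_isIndConstructible h hx
    exact Filter.mem_of_superset ((hO.preimage continuous_subtype_val).mem_nhds hxO)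
      fun z hz => hsub ⟨hz, z.2⟩
  · obtain ⟨V, hV, hVo, hxV⟩ := mem_nhds_iff.mp (h x hx)
    obtain ⟨O, hO, rfl⟩ := isOpen_induced_iff.mp hVo
    exact ⟨O, hO, hxV, fun z hz => hV (a := ⟨z, hz.2⟩) hz.1⟩

end Groth.Agent.S3401
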