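import Groth.Statements.S14373
import Groth.Agent.Fano25.SmoothCharts
import Mathlib.LinearAlgebra.Basis.Prod
import Mathlib.LinearAlgebra.FiniteDimensional.Lemmas
import Mathlib.LinearAlgebra.FreeModule.PID

set_option autoImplicit false
universe u
open Fano

namespace Groth.Agent.S14373

/-- Over an algebraically closed field k of arbitrary characteristic, let d ≥ 2 and let U be a linear
subspace of k^(n+1) with 2 · dim U ≤ n + 1 (an r-plane P(U) in P^n with r ≤ (n − 1)/2). Let W be the
linear space of degree-d forms in n + 1 variables vanishing on U (hypersurfaces of degree d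
containing P(U)). Then a general member G of W defines a smooth hypersurface: for G outside the zero
set of some nonzero polynomial function on W, at every nonzero vector where G vanishes some partial
derivative of G is nonzero. -/
theorem result (k : Type u) [Field k] [IsAlgClosed k]
    (n d : ℕ) (hd : 2 ≤ d) (U : Submodule k (Fin (n + 1) → k)) (hU : 2 * Module.finrank k ↥U ≤ n + 1)
    (W : Submodule k (LefPen.Form n k d)) (hW : ∀ G : LefPen.Form n k d, G ∈ W ↔ ∀ u ∈ U, MvPolynomial.eval u G.1 = 0) :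
    LefPen.IsGeneric k {G : ↥W | ∀ v : Fin (n + 1) → k, v ≠ 0 → MvPolynomial.eval v G.1.1 = 0 →
      ∃ i : Fin (n + 1), MvPolynomial.eval v (MvPolynomial.pderiv i G.1.1) ≠ 0} := by
  classical
  obtain ⟨Cp, hCp⟩ := Submodule.exists_isCompl U
  let r := Module.finrank k ↥U
  let s := Module.finrank k ↥Cp
  have hrs : r + s = n + 1 := by
    rw [← Module.finrank_fin_fun k (n := n + 1), ← Submodule.finrank_add_eq_of_isCompl hCp]
  let b : Module.Basis (Fin r ⊕ Fin s) k (Fin (n + 1) → k) :=
    ((Module.finBasis k ↥U).prod (Module.finBasis k ↥Cp)).map (Submodule.prodEquivOfIsCompl U Cp hCp)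
  have hbU : ∀ u ∈ U, ∀ c : Fin s, b.repr u (Sum.inr c) = 0 := fun u hu c => by
    have h2 : (Submodule.prodEquivOfIsCompl U Cp hCp).symm u = (⟨u, hu⟩, 0) :=
      (LinearEquiv.symm_apply_eq _).mpr (by simp)
    simp [b, Module.Basis.map, h2]
  let tf : (Fin r ⊕ Fin s) → (Fin r ⊕ Fin s) → MvPolynomial (Fin (n + 1)) k :=
    fun i m => Fano25.ell b i ^ (d - 1) * Fano25.ell b m
  have htfh : ∀ i m, tf i m ∈ CohB1.polyGrading n k d := fun i m =>
    (MvPolynomial.mem_homogeneousSubmodule _ _).mpr (by
      have := ((Fano25.isHomogeneous_ell b i).pow (d - 1)).mul (Fano25.isHomogeneous_ell b m)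
      rwa [show 1 * (d - 1) + 1 = d by omega] at this)
  have htfW : ∀ i m, ((∃ c, i = Sum.inr c) ∨ ∃ c, m = Sum.inr c) → (⟨tf i m, htfh i m⟩ : LefPen.Form n k d) ∈ W := by
    intro i m h
    rw [hW]
    intro u hu
    simp only [tf, map_mul, map_pow, Fano25.eval_ell]
    rcases h with ⟨c, rfl⟩ | ⟨c, rfl⟩
    · rw [hbU u hu c, zero_pow (by omega), zero_mul]
    · rw [hbU u hu c, mul_zero]
  have : FiniteDimensional k (LefPen.Form n k d) := Module.Finite.of_basis (Fano25.formBasis k n d)
  have : Module.Free k ↥W := Module.Free.of_divisionRing k ↥W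
  let bW := Module.finBasis k ↥W
  let inc : ↥W →ₗ[k] MvPolynomial (Fin (n + 1)) k := (CohB1.polyGrading n k d).subtype ∘ₗ W.subtype
  have hhom : ∀ G : ↥W, (inc G).IsHomogeneous d := fun G => (MvPolynomial.mem_homogeneousSubmodule _ _).mp G.1.2
  have hT : ∀ i m, ((∃ c, i = Sum.inr c) ∨ ∃ c, m = Sum.inr c) →
      ∃ G : ↥W, inc G = Fano25.ell b i ^ (d - 1) * Fano25.ell b m := fun i m h => ⟨⟨_, htfW i m h⟩, rfl⟩
  exact Fano25.isGeneric_smooth_of_testForms (V := ↥W) b (by omega : r ≤ s) hd bW inc hhom hT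

end Groth.Agent.S14373
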