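import Groth.Statements.S0550
import Mathlib
import Groth.Agent.CAlg9.Tensor
import Groth.Agent.CAlg9.Completion
import Groth.Agent.CAlg1.Complete

set_option autoImplicit false
universe u
open CAlg

namespace Groth.Agent.S0550

/-- Over a Noetherian ring `R` with an ideal `I`, the `I`-adic completion of a free module (on any index
set) is a flat `R`-module. -/
theorem result (R : Type u) [CommRing R] [IsNoetherianRing R]
    (I : Ideal R) (α : Type u) : Module.Flat R (AdicCompletion I (α →₀ R)) := by
  let Rh := AdicCompletion I R
  have hfg : I.FG := IsNoetherian.noetherian I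
  have hN : IsNoetherianRing Rh := Groth.Agent.CAlg1.isNoetherianRing_adicCompletion I hfg
  have hc1 : IsAdicComplete I Rh := AdicCompletion.isAdicComplete hfg
  have hc2 : IsAdicComplete (I.map (algebraMap R Rh)) Rh :=
    (IsAdicComplete.map_algebraMap_iff _ _).mpr hc1
  let D := W4c5adicflatcompl.decaying (I.map (algebraMap R Rh)) α Rh
  have hflat : Module.Flat Rh D := Groth.Agent.CAlg9.flat_decaying
  have : Module.Flat R D := Module.Flat.trans R Rh D
  have heq : W4c5adicflatcompl.decaying I α Rh = D.restrictScalars R := by
    ext g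
    rw [Submodule.restrictScalars_mem, W4c5adicflatcompl.mem_decaying_iff, W4c5adicflatcompl.mem_decaying_iff]
    refine forall_congr' fun n => ?_
    suffices h : ∀ x : Rh, x ∈ ((I.map (algebraMap R Rh)) ^ n • ⊤ : Submodule Rh Rh) ↔
        x ∈ (I ^ n • ⊤ : Submodule R Rh) by simp only [h]
    intro x
    rw [← Ideal.map_pow, ← Submodule.restrictScalars_mem R ((I ^ n).map (algebraMap R Rh) • (⊤ : Submodule Rh Rh)),
      Ideal.smul_restrictScalars, Submodule.restrictScalars_top]
  let e : AdicCompletion I (α →₀ R) ≃ₗ[R] D :=
    ((Groth.Agent.CAlg9.finsuppEquivDecaying I α R).trans (LinearEquiv.ofEq _ _ heq)).trans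
      ((Submodule.restrictScalarsEquiv R Rh (α → Rh) D).restrictScalars R)
  exact Module.Flat.of_linearEquiv e

end Groth.Agent.S0550
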