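import Groth.Statements.S0406
import Groth.Agent.FlatCrit65.Point.Domain

set_option autoImplicit false
universe u
open FlatMor

namespace Groth.Agent.S0406

/-- Raynaud–Gruson, algebra case: a flat finite type algebra over a domain is finitely presented. -/
theorem result {R S : Type u} [CommRing R] [IsDomain R] [CommRing S] [Algebra R S] [Algebra.FiniteType R S] [Module.Flat R S] :
    Algebra.FinitePresentation R S := by
  obtain ⟨n, φ, hφ⟩ := Algebra.FiniteType.iff_quotient_mvPolynomial''.mp (inferInstance : Algebra.FiniteType R S)
  algebraize [φ.toRingHom]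
  have : IsScalarTower R (MvPolynomial (Fin n) R) S :=
    IsScalarTower.of_algebraMap_eq fun r => (φ.commutes r).symm
  have : Module.Finite (MvPolynomial (Fin n) R) S :=
    Module.Finite.of_surjective (Algebra.linearMap (MvPolynomial (Fin n) R) S) hφ
  have := Groth.Agent.FlatCrit65.finitePresentation_domain R (MvPolynomial (Fin n) R) S
  refine Algebra.FinitePresentation.of_surjective hφ ?_
  have h := Module.FinitePresentation.fg_ker (Algebra.linearMap (MvPolynomial (Fin n) R) S) hφ
  have e : RingHom.ker φ.toRingHom = LinearMap.ker (Algebra.linearMap (MvPolynomial (Fin n) R) S) := by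
    ext x; exact Iff.rfl
  exact e ▸ h

end Groth.Agent.S0406
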