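import Groth.Statements.S0429
import Groth.Agent.S0406

set_option autoImplicit false
universe u
open FlatMor

namespace Groth.Agent.S0429

open AlgebraicGeometry CategoryTheory Limits in
/-- A flat morphism locally of finite type to an integral scheme is locally of finite presentation. -/
theorem result {X S : Scheme.{u}} (f : X ⟶ S) [IsIntegral S] [Flat f] [LocallyOfFiniteType f] : LocallyOfFinitePresentation f := by
  refine ⟨fun {U} hU {V} hV e => ?_⟩
  have hflat := Flat.flat_appLE f hU hV e
  have hft := LocallyOfFiniteType.finiteType_appLE f hU hV e
  rcases isEmpty_or_nonempty U with hempty | hne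
  · have hb : U = ⊥ := by
      ext x
      exact ⟨fun h => (hempty.false ⟨x, h⟩).elim, fun h => h.elim⟩
    have : Subsingleton Γ(S, U) := hb ▸ inferInstance
    have : Subsingleton Γ(X, V) := (f.appLE U V e).hom.codomain_trivial
    refine RingHom.FinitePresentation.of_surjective _ (fun x => ⟨0, Subsingleton.elim _ _⟩) ?_
    rw [Subsingleton.elim (RingHom.ker _) ⊥]
    exact Submodule.fg_bot
  · have : IsDomain Γ(S, U) := IsIntegral.component_integral U
    algebraize [(f.appLE U V e).hom]
    exact Groth.Agent.S0406.result

end Groth.Agent.S0429
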