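import Groth.Statements.S6284
import Mathlib

set_option autoImplicit false
universe u
open scoped TensorProduct
open CAlg

namespace Groth.Agent.S6284

/-- Let R → R' be a ring map and M a finite R-module. Then the support of R' ⊗_R M is the inverse image
of the support of M under Spec(R') → Spec(R). -/
theorem result {R R' : Type u} [CommRing R] [CommRing R'] [Algebra R R'] (M : Type u) [AddCommGroup M] [Module R M] [Module.Finite R M] : Module.support R' (R' ⊗[R] M) = PrimeSpectrum.comap (algebraMap R R') ⁻¹' Module.support R M := by
  ext q
  let p := PrimeSpectrum.comap (algebraMap R R') q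
  haveI : q.asIdeal.LiesOver p.asIdeal := ⟨rfl⟩
  rw [Set.mem_preimage, Module.mem_support_iff_nontrivial_residueField_tensorProduct,
    Module.mem_support_iff_nontrivial_residueField_tensorProduct]
  let κp := p.asIdeal.ResidueField
  let κq := q.asIdeal.ResidueField
  letI : Algebra κp κq :=
    (Ideal.ResidueField.mapₐ p.asIdeal q.asIdeal (Algebra.ofId R R')
      (q.asIdeal.over_def p.asIdeal)).toRingHom.toAlgebra
  haveI : IsScalarTower R κp κq := IsScalarTower.of_algebraMap_eq fun x =>
    ((Ideal.ResidueField.mapₐ p.asIdeal q.asIdeal (Algebra.ofId R R')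
      (q.asIdeal.over_def p.asIdeal)).commutes x).symm
  have e1 := TensorProduct.AlgebraTensorModule.cancelBaseChange R R' κq κq M
  have e2 := TensorProduct.AlgebraTensorModule.cancelBaseChange R κp κq κq M
  rw [(e1.trans e2.symm).nontrivial_congr]
  constructor
  · intro h
    by_contra h'
    rw [not_nontrivial_iff_subsingleton] at h'
    exact not_subsingleton (TensorProduct κp κq (TensorProduct R κp M))
      ((Module.FaithfullyFlat.subsingleton_tensorProduct_iff_right κp κq).2 h')
  · intro h
    infer_instance

end Groth.Agent.S6284
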