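import Groth.Statements.S1221
import Groth.Agent.FlatCrit65.Assassin.MainAss

set_option autoImplicit false
universe u
open FlatMor

namespace Groth.Agent.S1221

/-- Let B be a finite type A-algebra, N a finite B-module and p a prime of A such that N is flat over A
at every prime of B over p. Let q' be a prime of B lying over a prime p' ⊆ p, such that the
extension of q' to the fibre ring over p' is an associated prime of the fibre module of N (a point
of the relative assassin). If q' is contained in some prime of B over p, then it is contained in a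
prime q over p whose extension to the fibre ring over p is an associated prime of the fibre module
over p. -/
theorem result {A B : Type u} [CommRing A] [CommRing B] [Algebra A B] [Algebra.FiniteType A B]
    (N : Type u) [AddCommGroup N] [Module B N] [Module A N] [IsScalarTower A B N] [Module.Finite B N] (p : Ideal A) [p.IsPrime]
    (hflat : ∀ (q : Ideal B) [q.IsPrime], q.LiesOver p → FlatCA.FlatAt A q N)
    (p' : Ideal A) [p'.IsPrime] (hp' : p' ≤ p) (q' : Ideal B) [q'.IsPrime] [q'.LiesOver p']
    (hass : FlatCA.fiberIdeal p' q' ∈ associatedPrimes (p'.Fiber B) (FlatCA.fiberMod p' B N))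
    (hspec : ∃ (t : Ideal B), t.IsPrime ∧ q' ≤ t ∧ t.LiesOver p) :
    ∃ (q : Ideal B) (_ : q.IsPrime), q' ≤ q ∧ q.LiesOver p ∧
      FlatCA.fiberIdeal p q ∈ associatedPrimes (p.Fiber B) (FlatCA.fiberMod p B N) := by
  classical
  obtain ⟨t, ht, hqt, htp⟩ := hspec
  by_contra hne
  push Not at hne
  have hfin := Groth.Agent.FlatCrit65.finite_weakAss_fibre (S := B) (N := N) p
  have hsub : ¬ ((q' : Set B) ⊆ ⋃ i ∈ (↑hfin.toFinset : Set (Ideal B)), (i : Set B)) := by
    intro hsub
    obtain ⟨q₁, hq₁, hle⟩ := (Ideal.subset_union_prime q' q' fun i hi _ _ =>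
      Groth.Agent.CAlg5.weakAss_isPrime ((Set.Finite.mem_toFinset _).mp hi)).mp hsub
    have hw := (Set.Finite.mem_toFinset _).mp hq₁
    have := Groth.Agent.CAlg5.weakAss_isPrime hw
    have hl := Groth.Agent.FlatCrit65.liesOver_of_mem_weakAss_fibre hw
    exact hne q₁ this hle hl (Groth.Agent.FlatCrit65.fiberIdeal_mem_ass hw)
  obtain ⟨s, hs, hsF⟩ := Set.not_subset.mp hsub
  have htp' : t.comap (algebraMap A B) = p := (Ideal.LiesOver.over (P := t) (p := p)).symm
  have hkill : ∀ (n : ℕ) (z : TensorProduct A N p'.ResidueField), s ^ n • z = 0 → ∃ u ∉ t, u • z = 0 := by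
    intro n
    induction n with
    | zero =>
      intro z hz
      exact ⟨1, t.primeCompl.one_mem, by rw [pow_zero] at hz; exact hz⟩
    | succ n ih =>
      intro z hz
      rw [pow_succ', mul_smul] at hz
      obtain ⟨u, hu, huz⟩ := Groth.Agent.FlatCrit65.kill_at_finite p t htp' (hflat t htp) s
        (Groth.Agent.FlatCrit65.exists_kill_of_avoid t s fun q₁ hq₁ _ hs₁ =>
          hsF (Set.mem_biUnion (Finset.mem_coe.mpr ((Set.Finite.mem_toFinset _).mpr hq₁)) hs₁))
        p'.ResidueField (s ^ n • z) hz
      rw [smul_comm] at huz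
      obtain ⟨u', hu', huz'⟩ := ih _ huz
      exact ⟨u' * u, t.primeCompl.mul_mem hu' hu, by rw [mul_smul, huz']⟩
  obtain ⟨v, hv, hv'⟩ := Groth.Agent.CAlg5.mem_weakAss_iff.mp
    (Groth.Agent.FlatCrit65.mem_weakAss_fibre (S := B) (N := N) hass)
  obtain ⟨a, ha, n, hn⟩ := hv' s hs
  rw [mul_comm, mul_smul] at hn
  obtain ⟨u, hu, huv⟩ := hkill n _ hn
  rw [← mul_smul] at huv
  exact q'.primeCompl.mul_mem (fun h => hu (hqt h)) ha (hv _ huv)

end Groth.Agent.S1221
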