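import Groth.Statements.S1217
import Groth.Agent.FlatCrit65.Purity.Transfer
import Groth.Agent.FlatCrit65.Purity.Basic

set_option autoImplicit false
universe u
open FlatMor

namespace Groth.Agent.S1217

/-- Ring form, X = Spec B affine: let B be a finite type A-algebra, N a finite B-module, p a prime of A,
and A' an A-algebra with a prime p' over p such that the local ring of A' at p' is flat over A. Let
B', N' be the base changes of B, N to A'. If N' is pure along the fibre over p' then N is pure along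
the fibre over p, and likewise for universal purity. -/
theorem result {A B : Type u} [CommRing A] [CommRing B] [Algebra A B] [Algebra.FiniteType A B]
    (N : Type u) [AddCommGroup N] [Module B N] [Module.Finite B N] (p : Ideal A) [p.IsPrime]
    (A' B' N' : Type u) [CommRing A'] [CommRing B'] [Algebra A A'] [Algebra B B'] [Algebra A' B'] [Algebra A B']
    [IsScalarTower A B B'] [IsScalarTower A A' B'] [Algebra.IsPushout A B A' B']
    [AddCommGroup N'] [Module B' N'] [Module B N'] [IsScalarTower B B' N'] (f : N →ₗ[B] N') (hf : IsBaseChange B' f)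
    (p' : Ideal A') [p'.IsPrime] [p'.LiesOver p] [Module.Flat A (Localization.AtPrime p')] :
    (FlatCA.IsPureAlong A' B' N' p' → FlatCA.IsPureAlong A B N p) ∧
    (FlatCA.IsUnivPureAlong A' B' N' p' → FlatCA.IsUnivPureAlong A B N p) := by
  rw [Groth.Agent.FlatMor67.PurePush.isPureAlong_iff_not_hasImpurity, Groth.Agent.FlatMor67.PurePush.isPureAlong_iff_not_hasImpurity,
    Groth.Agent.FlatMor67.PurePush.isUnivPureAlong_iff_not_hasImpurity,
    Groth.Agent.FlatMor67.PurePush.isUnivPureAlong_iff_not_hasImpurity]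
  have key : ∀ (A₁ B₁ N₁ : Type u) [CommRing A₁] [CommRing B₁] [Algebra A A₁] [Algebra B B₁]
      [Algebra A₁ B₁] [Algebra A B₁] [IsScalarTower A B B₁] [IsScalarTower A A₁ B₁]
      [AddCommGroup N₁] [Module B₁ N₁] [Module B N₁] [IsScalarTower B B₁ N₁] [Module A₁ N₁]
      [IsScalarTower A₁ B₁ N₁] (g : N →ₗ[B] N₁) (t' t : Ideal A₁) [t'.IsPrime] [t.IsPrime]
      (P : Ideal B₁) [P.IsPrime], FlatCA.IsImpurity A B N p A₁ B₁ N₁ g t' t P →
      ∀ (Q : ∀ (H : Type u) [CommRing H] [Algebra A' H], Ideal H → Prop),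
        (∀ (u : Ideal (TensorProduct A A' A₁)) (_ : u.IsPrime),
          u.comap (Algebra.TensorProduct.includeRight (R := A) (A := A') (B := A₁)).toRingHom = t →
          u.LiesOver p' → Q (TensorProduct A A' A₁) u) →
        FlatCA.HasImpurity A' B' N' p' Q := by
    intro A₁ B₁ N₁ _ _ _ _ _ _ _ _ _ _ _ _ _ _ g t' t _ _ P _ himp Q hQ
    have hto : t.LiesOver p := himp.2.2.2.1
    haveI := hto
    letI : Algebra A₁ (TensorProduct A A' A₁) := Algebra.TensorProduct.rightAlgebra
    haveI : IsScalarTower A A₁ (TensorProduct A A' A₁) := IsScalarTower.of_algebraMap_eq fun a =>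
      ((Algebra.TensorProduct.includeRight : A₁ →ₐ[A] TensorProduct A A' A₁).commutes a).symm
    haveI : Algebra.IsPushout A A' A₁ (TensorProduct A A' A₁) := TensorProduct.isPushout
    haveI : Algebra.IsPushout A A₁ A' (TensorProduct A A' A₁) := Algebra.IsPushout.symm inferInstance
    obtain ⟨⟨u, hu⟩, hu1, hu2⟩ := Groth.Agent.FlatCrit65.Dev.exists_prime_pushout (R := A) (S := A') (R' := A₁)
      (S' := TensorProduct A A' A₁) p' t ((Ideal.over_def p' p).symm.trans (Ideal.over_def t p))
    have hup : u.LiesOver p' := ⟨hu1.symm⟩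
    haveI hut : u.LiesOver t := ⟨hu2.symm⟩
    have hflat0 : FlatCA.FlatAt A (u.comap (algebraMap A' (TensorProduct A A' A₁))) A' := by
      simp only [show u.comap (algebraMap A' (TensorProduct A A' A₁)) = p' from hu1]
      show Module.Flat A (LocalizedModule p'.primeCompl A')
      exact inferInstanceAs (Module.Flat A (Localization.AtPrime p'))
    have hflat : FlatCA.FlatAt A₁ u (TensorProduct A A' A₁) :=
      Groth.Agent.FlatMor67.FlatAtBC.flatAt_baseChange (R := A) (R' := A₁) (Algebra.linearMap A' (TensorProduct A A' A₁))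
        (IsBaseChange.linearMap A' (TensorProduct A A' A₁)) u hflat0
    haveI : Module.Flat A₁ (Localization.AtPrime u) := hflat
    haveI : (IsLocalRing.maximalIdeal (Localization.AtPrime u)).LiesOver t := Ideal.LiesOver.trans _ u t
    obtain ⟨U', hU'le, hU'p, hU'o⟩ := Ideal.exists_ideal_le_liesOver_of_le
      (IsLocalRing.maximalIdeal (Localization.AtPrime u)) (p := t') (q := t) himp.2.2.1
    let u' := U'.comap (algebraMap (TensorProduct A A' A₁) (Localization.AtPrime u))
    haveI : u'.IsPrime := Ideal.comap_isPrime _ _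
    haveI : u'.LiesOver t' := ⟨by
      rw [Ideal.under, Ideal.comap_comap, ← IsScalarTower.algebraMap_eq]; exact hU'o.over⟩
    have hu'le : u' ≤ u := le_trans (Ideal.comap_mono hU'le)
      (Ideal.over_def (IsLocalRing.maximalIdeal (Localization.AtPrime u)) u).ge
    obtain ⟨A₂, B₂, N₂, _, _, _, _, _, _, _, _, _, _, _, _, _, _, g₂, s', s, _, _, P₂, _, himp₂, iA', iT, hs, hQs⟩ :=
      Groth.Agent.FlatMor67.PurePush.isImpurity_transfer N p g t' t P himp (TensorProduct A A' A₁) u' u hu'le
        (fun H _ _ s => ∃ (_ : Algebra A' H) (_ : IsScalarTower A A' H), s.LiesOver p' ∧ Q H s)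
        ⟨inferInstance, inferInstance, hup, hQ u hu hu2 hup⟩
    exact Groth.Agent.FlatCrit65.Purity.hasImpurity_lift f hf p' g₂ s' s P₂ himp₂ hs hQs
  refine ⟨fun hp' h => hp' ?_, fun hp' h => hp' ?_⟩
  · obtain ⟨A₁, B₁, N₁, _, _, _, _, _, _, _, _, _, _, _, _, _, _, g, t', t, _, _, P, _, himp, _, het⟩ := h
    refine key A₁ B₁ N₁ g t' t P himp _ fun u hu hu2 hup => ⟨hu, ?_⟩
    haveI := hup
    letI : Algebra A₁ (TensorProduct A A' A₁) := Algebra.TensorProduct.rightAlgebra
    haveI : IsScalarTower A A₁ (TensorProduct A A' A₁) := IsScalarTower.of_algebraMap_eq fun a =>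
      ((Algebra.TensorProduct.includeRight : A₁ →ₐ[A] TensorProduct A A' A₁).commutes a).symm
    haveI : Algebra.IsPushout A A' A₁ (TensorProduct A A' A₁) := TensorProduct.isPushout
    obtain ⟨hE, hlo, hbij⟩ := het
    haveI := hlo
    haveI := hE
    haveI : u.LiesOver t := ⟨hu2.symm⟩
    exact ⟨inferInstance, hup, Groth.Agent.RG29.pushout_bijective_mapₐ (S := A') (R' := A₁) hbij p' u⟩
  · obtain ⟨A₁, B₁, N₁, _, _, _, _, _, _, _, _, _, _, _, _, _, _, g, t', t, _, _, P, _, himp, -⟩ := h
    exact key A₁ B₁ N₁ g t' t P himp _ fun u hu _ _ => trivial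

end Groth.Agent.S1217
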