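import Groth.Statements.S1245
import Groth.Agent.FlatCrit65.Purity.Descend

set_option autoImplicit false
universe u
open FlatMor

namespace Groth.Agent.S1245

/-- Ring form, X = Spec B affine, base change rings affine: let B be a finite type A-algebra, N a finite
B-module and p a prime of A. If there is an impurity of N above p, then there is one whose base
change A → A' is of finite presentation and whose point t is a closed point of the fibre of Spec A'
over p (the extension of t to the fibre ring is maximal). -/
theorem result {A B : Type u} [CommRing A] [CommRing B] [Algebra A B] [Algebra.FiniteType A B]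
    (N : Type u) [AddCommGroup N] [Module B N] [Module.Finite B N] (p : Ideal A) [p.IsPrime]
    (h : FlatCA.HasImpurity A B N p (fun _ _ _ _ => True)) :
    FlatCA.HasImpurity A B N p (fun A' _ _ t => Algebra.FinitePresentation A A' ∧ (FlatCA.fiberIdeal p t).IsMaximal) := by
  classical
  obtain ⟨A₁, B₁, N₁, _, _, _, _, _, _, _, _, _, _, _, _, _, _, f, t', t, _, _, P, _, himp, -⟩ := h
  have hto : t.LiesOver p := himp.2.2.2.1
  obtain ⟨s, F, hst, hdesc⟩ := Groth.Agent.FlatCrit65.Purity.exists_descend f t' t P himp
  let G := insert s F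
  let π : MvPolynomial G A →ₐ[A] A₁ := MvPolynomial.aeval Subtype.val
  have hrange : ∀ a ∈ G, a ∈ Set.range π := fun a ha => ⟨MvPolynomial.X ⟨a, ha⟩, MvPolynomial.aeval_X _ _⟩
  obtain ⟨s₀, hs₀⟩ := hrange s (Finset.mem_insert_self _ _)
  let t₀ := t.comap π.toRingHom
  haveI : t₀.IsPrime := Ideal.comap_isPrime _ _
  haveI ht₀ : t₀.LiesOver p := ⟨by
    rw [Ideal.under, Ideal.comap_comap, show π.toRingHom.comp (algebraMap A _) = algebraMap A A₁ from π.comp_algebraMap]
    exact hto.over⟩
  let ι : MvPolynomial G A →+* p.Fiber (MvPolynomial G A) :=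
    (Algebra.TensorProduct.includeRight (R := A) (A := p.ResidueField) (B := MvPolynomial G A)).toRingHom
  haveI : IsJacobsonRing (p.Fiber (MvPolynomial G A)) := isJacobsonRing_of_finiteType (A := p.ResidueField)
  have hnot : ι s₀ ∉ (FlatCA.fiberIdeal p t₀).jacobson := by
    intro hmem
    rw [← Ideal.radical_eq_jacobson] at hmem
    obtain ⟨k, hk⟩ := hmem
    rw [← map_pow] at hk
    have h2 : s₀ ^ k ∈ t₀ := Groth.Agent.FlatCrit65.le_of_fiberIdeal_le p t₀ hk
    have h3 : π s₀ ∈ t := (inferInstance : t₀.IsPrime).mem_of_pow_mem k h2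
    rw [hs₀] at h3
    exact hst h3
  simp only [Ideal.jacobson, Submodule.mem_sInf, not_forall] at hnot
  obtain ⟨M, ⟨hle, hM⟩, hsM⟩ := hnot
  haveI := hM.isPrime
  let t₁ : Ideal (MvPolynomial G A) := Ideal.comap ι M
  haveI : t₁.IsPrime := Ideal.comap_isPrime _ _
  have ht₁ : t₁.LiesOver p := by
    constructor
    ext r
    constructor
    · intro hr
      show ι (algebraMap A _ r) ∈ M
      rw [show ι (algebraMap A _ r) = algebraMap A (p.Fiber _) r from AlgHom.commutes _ r,
        IsScalarTower.algebraMap_apply A p.ResidueField (p.Fiber (MvPolynomial G A)),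
        show algebraMap A p.ResidueField r = 0 from Ideal.algebraMap_residueField_eq_zero.mpr hr, map_zero]
      exact M.zero_mem
    · intro hr
      by_contra hn
      exact hM.ne_top (Ideal.eq_top_of_isUnit_mem _ hr (Groth.Agent.CAlg6.isUnit_includeRight_algebraMap hn))
  refine hdesc _ π (fun a ha => hrange a (Finset.mem_insert_of_mem ha)) s₀ hs₀ t₁
    (fun a ha => hle (Ideal.mem_map_of_mem _ ha)) ht₁ hsM _ ⟨inferInstance, ?_⟩
  rw [Groth.Agent.FlatMor67.PurePush.fiberIdeal_comap]
  exact hM

end Groth.Agent.S1245
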