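import Groth.Statements.S5166
import Groth.Agent.LC17.Chain
import Mathlib.RingTheory.Ideal.KrullsHeightTheorem

set_option autoImplicit false
universe u
open LocCoh

namespace Groth.Agent.S5166

/-- In its local form at a point y ∈ Y (A = O_{X,y}). Let A be a Noetherian local ring and I ≠ A an
ideal contained in no minimal prime of A. Then some prime p ⊉ I has dim A/p = 1. -/
theorem result (A : Type u) [CommRing A] [IsLocalRing A] [IsNoetherianRing A] (I : Ideal A) (hI : I ≠ ⊤) (hdense : ∀ q ∈ minimalPrimes A, ¬ I ≤ q) : ∃ p : PrimeSpectrum A, ¬ I ≤ p.asIdeal ∧ ringKrullDim (A ⧸ p.asIdeal) = 1 := by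
  classical
  have hIm : I ≤ IsLocalRing.maximalIdeal A := IsLocalRing.le_maximalIdeal hI
  obtain ⟨q, hq, -⟩ := Ideal.exists_minimalPrimes_le (I := (⊥ : Ideal A)) (J := IsLocalRing.maximalIdeal A) bot_le
  have hne : ({p : Ideal A | p.IsPrime ∧ ¬ I ≤ p}).Nonempty := ⟨q, hq.1.1, hdense q hq⟩
  obtain ⟨p, ⟨hp, hIp⟩, hmax⟩ := set_has_maximal_iff_noetherian.mpr (inferInstanceAs (IsNoetherian A A)) _ hne
  refine ⟨⟨p, hp⟩, hIp, ?_⟩
  haveI := hp
  change ringKrullDim (A ⧸ p) = 1
  have hpm : p < IsLocalRing.maximalIdeal A :=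
    lt_of_le_of_ne (IsLocalRing.le_maximalIdeal hp.ne_top) fun h => hIp (h ▸ hIm)
  haveI : IsLocalRing (A ⧸ p) :=
    IsLocalRing.of_surjective' (Ideal.Quotient.mk p) Ideal.Quotient.mk_surjective
  have hdim : ringKrullDim (A ⧸ p) = (LC17.htq p (IsLocalRing.maximalIdeal A) : WithBot ℕ∞) := by
    rw [← IsLocalRing.maximalIdeal_height_eq_ringKrullDim, LC17.htq]
    congr 2
    haveI := LC17.isPrime_map_mk (q := IsLocalRing.maximalIdeal A) hpm.le
    exact (IsLocalRing.eq_maximalIdeal (Ideal.map_eq_top_or_isMaximal_of_surjective _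
      Ideal.Quotient.mk_surjective inferInstance |>.resolve_left Ideal.IsPrime.ne_top')).symm
  rw [hdim]
  have h1 : LC17.htq p (IsLocalRing.maximalIdeal A) = 1 := by
    refine le_antisymm (le_of_not_gt fun hlt => ?_) (LC17.one_le_htq hpm)
    obtain ⟨a, haI, hap⟩ := SetLike.not_le_iff_exists.mp hIp
    obtain ⟨t, ht, hpt, -, hat⟩ := LC17.exists_prime_between hap (hIm haI) hpm hlt
    exact hmax t ⟨ht, fun h => hat (h haI)⟩ hpt
  rw [h1]
  rfl

end Groth.Agent.S5166
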