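import Groth.Statements.S1305
import Groth.Agent.VarGal.Thickening

set_option autoImplicit false
universe u
open FlatMor

namespace Groth.Agent.S1305
open AlgebraicGeometry CategoryTheory Limits in
theorem isAffineHom_of_thickening {X X' S' : Scheme.{u}} (iX : X ⟶ X') (f' : X' ⟶ S') [IsClosedImmersion iX] [Surjective iX]
    [IsAffineHom (iX ≫ f')] : IsAffineHom f' := by
  refine ⟨fun V hV => ?_⟩
  have : IsAffine (iX ⁻¹ᵁ f' ⁻¹ᵁ V).toScheme := IsAffineHom.isAffine_preimage (f := iX ≫ f') V hV
  have : Surjective (iX ∣_ f' ⁻¹ᵁ V) := IsZariskiLocalAtTarget.restrict (P := @Surjective) inferInstance _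
  exact VarGal.isAffine_of_thickening (iX ∣_ f' ⁻¹ᵁ V)


open AlgebraicGeometry CategoryTheory Limits in
/-- For a morphism of thickenings, that is a commutative square whose horizontal maps are thickenings
(closed immersions that are surjective on points), the morphism between the thin schemes is integral
if and only if the morphism between the thick ones is. -/
theorem result {X X' S S' : Scheme.{u}} (iX : X ⟶ X') (iS : S ⟶ S') (f : X ⟶ S) (f' : X' ⟶ S')
    (hX : MoreMor.IsThickening iX) (hS : MoreMor.IsThickening iS) (w : iX ≫ f' = f ≫ iS) :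
    IsIntegralHom f ↔ IsIntegralHom f' := by
  obtain ⟨hXc, hXs⟩ := hX
  obtain ⟨hSc, hSs⟩ := hS
  refine ⟨fun h => ?_, fun h => ?_⟩
  · have : IsIntegralHom (iX ≫ f') := by rw [w]; infer_instance
    exact IsIntegralHom.iff_universallyClosed_and_isAffineHom.mpr
      ⟨UniversallyClosed.of_comp_surjective iX f', isAffineHom_of_thickening iX f'⟩
  · have : IsIntegralHom (f ≫ iS) := by rw [← w]; infer_instance
    exact IsIntegralHom.of_comp f iS

end Groth.Agent.S1305
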