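import Groth.Statements.S1379
import Groth.Agent.LimTop61.QfSplit
import Groth.Agent.LimTop61.QfRefine

set_option autoImplicit false
universe u
open FlatMor

namespace Groth.Agent.S1379

open AlgebraicGeometry CategoryTheory Limits in
/-- Let S₁ → S be flat, locally of finite presentation and surjective (an fppf cover by one morphism).
Then for every point s of S there are an étale morphism S' → S whose image contains s and a
surjective, finite, flat morphism of finite presentation V → S' such that V → S factors through S₁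
Zariski locally on V. -/
theorem result {S₁ S : Scheme.{u}} (g : S₁ ⟶ S) [Flat g] [LocallyOfFinitePresentation g] [Surjective g] (s : S) :
    ∃ (S' V : Scheme.{u}) (e : S' ⟶ S) (π : V ⟶ S'), Etale e ∧ s ∈ Set.range ⇑e ∧ Surjective π ∧ IsFinite π ∧ Flat π ∧ LocallyOfFinitePresentation π ∧
      ∀ v : ↑V, ∃ (W : V.Opens) (r : ↑W ⟶ S₁), v ∈ W ∧ r ≫ g = W.ι ≫ π ≫ e := by
  obtain ⟨T, h, r, hr, hfl, hfp, hqf, hsurj⟩ := Groth.Agent.LimTop61.exists_lqf_refinement g
  obtain ⟨t, ht⟩ := h.surjective s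
  obtain ⟨U, e, u, he, heu, J, -, V, v, h1, -, h3⟩ :=
    Groth.Agent.LimTop61.exists_qf_splitting h s (fun _ : Unit => t) (fun _ _ _ => rfl)
      (fun _ => ht) (fun _ => h.quasiFiniteAt t)
  obtain ⟨w, hw1, hw2⟩ := Scheme.exists_preimage_of_isPullback (IsPullback.of_hasPullback h e) t u
    (ht.trans heu.symm)
  obtain ⟨j, hj⟩ := h3 w () hw2 hw1
  obtain ⟨hvV, hfin, hvu, -⟩ := h1 () j
  let π : (V () j).toScheme ⟶ U := (V () j).ι ≫ pullback.snd h e
  have : IsFinite π := hfin
  have : Flat π := inferInstance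
  have : LocallyOfFinitePresentation π := inferInstance
  let O : U.Opens := ⟨Set.range π, π.isOpenMap.isOpen_range⟩
  have hsur : Surjective (π ∣_ O) := ⟨fun y => by
    obtain ⟨z, hz⟩ := y.2
    exact ⟨⟨z, show π z ∈ O from ⟨z, rfl⟩⟩, Subtype.ext ((morphismRestrict_base_coe π O _).trans hz)⟩⟩
  have huO : u ∈ O := ⟨⟨v () j, hvV⟩, hvu⟩
  refine ⟨O.toScheme, (π ⁻¹ᵁ O).toScheme, O.ι ≫ e, π ∣_ O, inferInstance, ⟨⟨u, huO⟩, heu⟩, hsur,
    inferInstance, inferInstance, inferInstance, fun z => ?_⟩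
  refine ⟨⊤, (⊤ : (π ⁻¹ᵁ O).toScheme.Opens).ι ≫ (π ⁻¹ᵁ O).ι ≫ (V () j).ι ≫ pullback.fst h e ≫ r,
    trivial, ?_⟩
  simp only [Category.assoc, hr, morphismRestrict_ι_assoc, π, pullback.condition]

end Groth.Agent.S1379
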