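import Groth.Statements.S7172
import Groth.Agent.FlatMor67.PCFinite

set_option autoImplicit false
universe u
attribute [local instance] HasDerivedCategory.standard
open FlatMor

namespace Groth.Agent.S7172

open AlgebraicGeometry CategoryTheory Limits in
/-- A flat morphism locally of finite presentation is perfect. -/
theorem result {X S : Scheme.{u}} (f : X ⟶ S) [Flat f] [LocallyOfFinitePresentation f] :
    MoreMor.IsPerfectMor f := by
  intro U V hU hV e
  letI := (f.appLE V U e).hom.toAlgebra
  haveI : Module.Flat Γ(S, V) Γ(X, U) := Flat.flat_appLE f hV hU e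
  haveI : Algebra.FinitePresentation Γ(S, V) Γ(X, U) :=
    LocallyOfFinitePresentation.finitePresentation_appLE f hV hU e
  exact FlatMor68.PerfHom.t7068 _ _

end Groth.Agent.S7172
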