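import Groth.Statements.S1390
import Groth.Agent.LimTop61.StdEtaleSplit

set_option autoImplicit false
set_option backward.isDefEq.respectTransparency false
set_option backward.defeqAttrib.useBackward true
universe u
open FlatMor

namespace Groth.Agent.S1390

open AlgebraicGeometry CategoryTheory Limits in
/-- Let (U, u) be an étale neighbourhood of (S, s), i.e. U → S étale with u over s. Then there are an
affine open neighbourhood V of s and a surjective, finite, flat morphism of finite presentation π :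
T → V such that every point t of T over s has an open neighbourhood W_t with an S-morphism W_t → U
sending t to u. -/
theorem result {U S : Scheme.{u}} (e : U ⟶ S) [Etale e] (u : U) (s : S) (hu : e u = s) :
    ∃ (V : S.Opens) (T : Scheme.{u}) (π : T ⟶ (V : Scheme.{u})), s ∈ V ∧ IsAffineOpen V ∧ Surjective π ∧ IsFinite π ∧ Flat π ∧ LocallyOfFinitePresentation π ∧
      ∀ t : T, V.ι (π t) = s → ∃ (W : T.Opens) (h : (W : Scheme.{u}) ⟶ U), t ∈ W ∧ h ≫ e = W.ι ≫ π ≫ V.ι ∧ ∀ ht : t ∈ W, h ⟨t, ht⟩ = u := by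
  subst hu
  obtain ⟨_, ⟨V, hV, rfl⟩, hsV, -⟩ :=
    S.isBasis_affineOpens.exists_subset_of_mem_open (Set.mem_univ (e u)) isOpen_univ
  obtain ⟨_, ⟨W, hW, rfl⟩, huW, hWV⟩ :=
    U.isBasis_affineOpens.exists_subset_of_mem_open (show u ∈ e ⁻¹ᵁ V from hsV) (e ⁻¹ᵁ V).2
  algebraize [(e.appLE V W hWV).hom]
  have : Algebra.Etale Γ(S, V) Γ(U, W) :=
    HasRingHomProperty.appLE (P := @Etale) e ‹_› ⟨V, hV⟩ ⟨W, hW⟩ hWV
  let Q := (hW.primeIdealOf ⟨u, huW⟩).asIdeal
  obtain ⟨f, hfQ, hstd⟩ := Algebra.IsEtaleAt.exists_isStandardEtale (R := Γ(S, V)) Q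
  obtain ⟨P⟩ := hstd.nonempty_standardEtalePresentation
  let Bf := Localization.Away f
  obtain ⟨w, hw⟩ : hW.primeIdealOf ⟨u, huW⟩ ∈ Set.range (PrimeSpectrum.comap (algebraMap Γ(U, W) Bf)) := by
    rw [PrimeSpectrum.localization_away_comap_range Bf f]
    exact hfQ
  let qP : Ideal P.P.Ring := w.asIdeal.comap (P.equivRing.symm : P.P.Ring →ₐ[Γ(S, V)] Bf)
  have : qP.IsPrime := Ideal.comap_isPrime _ _
  obtain ⟨T, _, _, hTfin, hTfree, hTfp, hTsurj, hT⟩ := Groth.Agent.LimTop61.exists_split_dominating P.P qP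
  let b : Spec (CommRingCat.of T) ⟶ Spec Γ(S, V) := Spec.map (CommRingCat.ofHom (algebraMap Γ(S, V) T))
  have : IsFinite b := (IsFinite.SpecMap_iff _).mpr (RingHom.finite_algebraMap.mpr hTfin)
  have : Flat b := (HasRingHomProperty.Spec_iff (P := @Flat)).mpr (RingHom.flat_algebraMap_iff.mpr inferInstance)
  have : LocallyOfFinitePresentation b :=
    (HasRingHomProperty.Spec_iff (P := @LocallyOfFinitePresentation)).mpr
      (RingHom.finitePresentation_algebraMap.mpr hTfp)
  have : Surjective b := ⟨hTsurj⟩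
  let iso := IsAffineOpen.isoSpec (U := V) hV
  have hiso : iso.inv ≫ Scheme.Opens.ι V = IsAffineOpen.fromSpec (U := V) hV := IsAffineOpen.isoSpec_inv_ι hV
  refine ⟨V, Spec (CommRingCat.of T), b ≫ iso.inv, hsV, hV, inferInstance, inferInstance, inferInstance,
    inferInstance, fun t ht => ?_⟩
  have hb : b t = IsAffineOpen.primeIdealOf (U := V) hV ⟨e u, hsV⟩ := by
    apply (IsAffineOpen.fromSpec (U := V) hV).isOpenEmbedding.injective
    rw [IsAffineOpen.fromSpec_primeIdealOf, ← hiso, Scheme.Hom.comp_apply]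
    exact ht
  have hq : qP.comap (algebraMap Γ(S, V) P.P.Ring) = (b t).asIdeal := by
    rw [hb]
    have h1 : qP.comap (algebraMap Γ(S, V) P.P.Ring) = Q.comap (algebraMap Γ(S, V) Γ(U, W)) := by
      show (w.asIdeal.comap (P.equivRing.symm : P.P.Ring →ₐ[Γ(S, V)] Bf).toRingHom).comap _ = _
      rw [Ideal.comap_comap, show Q = (PrimeSpectrum.comap (algebraMap Γ(U, W) Bf) w).asIdeal from
        (congrArg PrimeSpectrum.asIdeal hw).symm, PrimeSpectrum.comap_asIdeal, Ideal.comap_comap,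
        ← IsScalarTower.algebraMap_eq]
      congr 1
      exact (P.equivRing.symm : P.P.Ring →ₐ[Γ(S, V)] Bf).comp_algebraMap
    rw [h1]
    refine congrArg PrimeSpectrum.asIdeal (?_ : Spec.map (e.appLE V W hWV) (hW.primeIdealOf ⟨u, huW⟩) = _)
    apply (IsAffineOpen.fromSpec (U := V) hV).isOpenEmbedding.injective
    rw [IsAffineOpen.fromSpec_primeIdealOf, ← Scheme.Hom.comp_apply,
      IsAffineOpen.SpecMap_appLE_fromSpec e hV hW hWV, Scheme.Hom.comp_apply]
    exact congrArg e (hW.fromSpec_primeIdealOf ⟨u, huW⟩)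
  obtain ⟨c, hc, ψ, hψ⟩ := hT t hq.symm
  let L := Localization.Away c
  let j : Spec (CommRingCat.of L) ⟶ Spec (CommRingCat.of T) := Spec.map (CommRingCat.ofHom (algebraMap T L))
  have : IsOpenImmersion j := IsOpenImmersion.of_isLocalization c
  let σ : Γ(U, W) →ₐ[Γ(S, V)] L := (ψ.comp (P.equivRing : Bf →ₐ[Γ(S, V)] P.P.Ring)).comp
    (IsScalarTower.toAlgHom Γ(S, V) Γ(U, W) Bf)
  let h : Spec (CommRingCat.of L) ⟶ U := Spec.map (CommRingCat.ofHom σ.toRingHom) ≫ hW.fromSpec
  obtain ⟨t', ht'⟩ : t ∈ Set.range (PrimeSpectrum.comap (algebraMap T L)) := by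
    rw [PrimeSpectrum.localization_away_comap_range L c]
    exact hc
  have hhe : h ≫ e = j ≫ b ≫ iso.inv ≫ Scheme.Opens.ι V := by
    rw [hiso, Category.assoc, ← IsAffineOpen.SpecMap_appLE_fromSpec e hV hW hWV]
    simp only [j, b, ← Spec.map_comp_assoc]
    congr 2
    ext r
    exact (σ.commutes r).trans (IsScalarTower.algebraMap_apply _ T L r)
  have hht : h t' = u := by
    rw [Scheme.Hom.comp_apply]
    have e1 : PrimeSpectrum.comap σ.toRingHom t' = hW.primeIdealOf ⟨u, huW⟩ := by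
      rw [← hw]
      refine PrimeSpectrum.ext (Ideal.ext fun z => ?_)
      have := congrArg (fun I : Ideal P.P.Ring => P.equivRing (algebraMap Γ(U, W) Bf z) ∈ I) (hψ t' ht')
      simp only [Ideal.mem_comap, qP] at this
      refine Iff.trans (Iff.of_eq this) ?_
      rw [show (P.equivRing.symm : P.P.Ring →ₐ[Γ(S, V)] Bf) (P.equivRing (algebraMap Γ(U, W) Bf z)) =
        algebraMap Γ(U, W) Bf z from P.equivRing.symm_apply_apply _]
      rfl
    exact (congrArg hW.fromSpec e1).trans (hW.fromSpec_primeIdealOf _)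
  have hjt : j t' = t := ht'
  refine ⟨j.opensRange, j.isoOpensRange.inv ≫ h, ⟨t', hjt⟩, ?_, fun ht2 => ?_⟩
  · rw [Category.assoc, hhe, ← Scheme.Hom.isoOpensRange_inv_comp j]
    simp only [Category.assoc]
  · rw [Scheme.Hom.comp_apply]
    refine Eq.trans (congrArg h ?_) hht
    apply j.isOpenEmbedding.injective
    rw [← Scheme.Hom.comp_apply, Scheme.Hom.isoOpensRange_inv_comp, hjt]
    rfl

end Groth.Agent.S1390
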