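import Groth.Statements.S7198
import Groth.Agent.S2735
import Groth.Agent.S1482
import Groth.Agent.S1390

set_option autoImplicit false
universe w u
open FlatMor

namespace Groth.Agent.S7198

open CategoryTheory CategoryTheory.Limits AlgebraicGeometry TopologicalSpace

/-- Around a point of an fppf covered base there is an etale neighbourhood over which a finite
locally free morphism factors through the cover. -/
theorem exists_etale_finLocFree {X S : Scheme.{u}} (f : X ⟶ S) [Flat f] [LocallyOfFinitePresentation f]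
    (x : X) :
    ∃ (U : Scheme.{u}) (g : U ⟶ S) (u : U) (V : Scheme.{u}) (σ : V ⟶ U) (r : V ⟶ X),
      Etale g ∧ g u = f x ∧ Mor2.IsFinLocFree σ ∧ Surjective σ ∧ r ≫ f = σ ≫ g := by
  let O : S.Opens := ⟨Set.range f, f.isOpenMap.isOpen_range⟩
  let f' : X ⟶ O := IsOpenImmersion.lift O.ι f (by rw [Scheme.Opens.range_ι]; exact subset_rfl)
  have hf' : f' ≫ O.ι = f := IsOpenImmersion.lift_fac _ _ _
  haveI : Flat f' := by
    haveI : Flat (f' ≫ O.ι) := by rw [hf']; infer_instance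
    exact MorphismProperty.of_postcomp (W := @Flat) (W' := @IsOpenImmersion) f' O.ι inferInstance inferInstance
  haveI : LocallyOfFinitePresentation f' := by
    haveI : LocallyOfFinitePresentation (f' ≫ O.ι) := by rw [hf']; infer_instance
    exact MorphismProperty.of_postcomp (W := @LocallyOfFinitePresentation) (W' := @IsOpenImmersion) f' O.ι
      inferInstance inferInstance
  haveI : Surjective f' := ⟨fun ⟨s, hs⟩ => by
    obtain ⟨z, rfl⟩ := hs
    refine ⟨z, Subtype.ext ?_⟩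
    show (f' ≫ O.ι) z = f z
    rw [hf']⟩
  obtain ⟨S', g', h, hg', _, _, _, hg's, -⟩ := Groth.Agent.S2735.result f'
  obtain ⟨y, hy⟩ := g'.surjective (⟨f x, x, rfl⟩ : O)
  have hye : (g' ≫ O.ι) y = f x := congrArg Subtype.val hy
  haveI : LocallyQuasiFinite (g' ≫ O.ι) := inferInstance
  obtain ⟨U, g, u, hg, hgu, J, _, V, v, hv, -, hall⟩ :=
    Groth.Agent.S1482.result (g' ≫ O.ι) (f x) (fun _ : Unit => y) (fun _ _ _ => rfl) (fun _ => hye)
      (fun _ => Scheme.Hom.quasiFiniteAt _ y)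
  obtain ⟨z, hz₁, hz₂⟩ := Scheme.Pullback.exists_preimage_pullback (f := g' ≫ O.ι) (g := g) y u (hye.trans hgu.symm)
  obtain ⟨j, -⟩ := hall z () hz₂ hz₁
  obtain ⟨hvV, hfin, hvu, -⟩ := hv () j
  let σ : ((V () j : Scheme.{u})) ⟶ U := (V () j).ι ≫ pullback.snd (g' ≫ O.ι) g
  haveI : IsFinite σ := hfin
  let U₁ : U.Opens := ⟨Set.range σ, σ.isOpenMap.isOpen_range⟩
  refine ⟨U₁, U₁.ι ≫ g, ⟨u, ⟨v () j, hvV⟩, hvu⟩, _, σ ∣_ U₁,
    (σ ⁻¹ᵁ U₁).ι ≫ (V () j).ι ≫ pullback.fst (g' ≫ O.ι) g ≫ h, inferInstance, hgu,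
    ⟨inferInstance, inferInstance, inferInstance⟩, ⟨fun ⟨a, ha⟩ => ?_⟩, ?_⟩
  · obtain ⟨z, rfl⟩ := ha
    refine ⟨⟨z, ⟨z, rfl⟩⟩, Subtype.ext ?_⟩
    show ((σ ∣_ U₁) ≫ U₁.ι) _ = σ z
    rw [morphismRestrict_ι]
    rfl
  · rw [morphismRestrict_ι_assoc]
    simp only [Category.assoc, σ]
    rw [← hf', reassoc_of% hg', pullback.condition]

open AlgebraicGeometry CategoryTheory Limits in
/-- Any fppf covering {S_i → S} is refined by a family built in four steps — cover S by Zariski opens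
U_j; over each U_j take a surjective finite locally free W_j → U_j; cover each W_j by Zariski opens
W_{j,k}; over each of those take a surjective finite locally free T_{j,k} → W_{j,k} — where every
composite T_{j,k} → S factors through some S_i. Stated pointwise: around every point of S, and then
around every point of the finite locally free cover, such data exist. -/
theorem result {S : Scheme.{u}} (E : PreZeroHypercover.{w} S)
    (hflat : ∀ i, Flat (E.f i)) (hfp : ∀ i, LocallyOfFinitePresentation (E.f i))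
    (hsurj : ∀ s : S, ∃ (i : E.I₀) (x : E.X i), E.f i x = s) (s : S) :
    ∃ (U : S.Opens) (W : Scheme.{u}) (π : W ⟶ U.toScheme), s ∈ U ∧ Mor2.IsFinLocFree π ∧ Surjective π ∧
      ∀ w : W, ∃ (W' : W.Opens) (T : Scheme.{u}) (ρ : T ⟶ W'.toScheme) (i : E.I₀) (r : T ⟶ E.X i),
        w ∈ W' ∧ Mor2.IsFinLocFree ρ ∧ Surjective ρ ∧ r ≫ E.f i = ρ ≫ W'.ι ≫ π ≫ U.ι := by
  obtain ⟨i, x, rfl⟩ := hsurj s
  haveI := hflat i
  haveI := hfp i
  obtain ⟨U₁, g, u₁, V₁, σ, r₁, hg, hgu, hσ, hσs, hr⟩ := exists_etale_finLocFree (E.f i) x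
  haveI := hg
  obtain ⟨V₀, T, π, hsV, -, hπs, hπfin, hπflat, hπfp, hW⟩ := Groth.Agent.S1390.result g u₁ (E.f i x) hgu
  choose Wt h htW hh hht using hW
  let good : T.Opens := ⨆ (t : T) (ht : V₀.ι (π t) = E.f i x), Wt t ht
  let bad : Set V₀ := π '' (good : Set T)ᶜ
  have hbad : IsClosed bad := π.isClosedMap _ good.2.isClosed_compl
  let U' : (V₀ : Scheme.{u}).Opens := ⟨badᶜ, hbad.isOpen_compl⟩
  let U : S.Opens := V₀.ι ''ᵁ U'
  have hsU : E.f i x ∈ U := by
    refine ⟨⟨E.f i x, hsV⟩, ?_, rfl⟩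
    rintro ⟨t, ht, hts⟩
    have hts' : V₀.ι (π t) = E.f i x := congrArg Subtype.val hts
    exact ht (Opens.mem_iSup.mpr ⟨t, Opens.mem_iSup.mpr ⟨hts', htW t hts'⟩⟩)
  let π' : (π ⁻¹ᵁ U' : Scheme.{u}) ⟶ U := π ∣_ U' ≫ (V₀.ι.isoImage U').hom
  have hπ' : π' ≫ U.ι = (π ⁻¹ᵁ U').ι ≫ π ≫ V₀.ι := by
    rw [Category.assoc, Scheme.Hom.isoImage_hom_ι, morphismRestrict_ι_assoc]
  haveI : Surjective (π ∣_ U') := IsZariskiLocalAtTarget.restrict hπs U'
  haveI : Surjective π' := inferInstanceAs (Surjective (π ∣_ U' ≫ (V₀.ι.isoImage U').hom))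
  refine ⟨U, _, π', hsU, ⟨inferInstance, inferInstance, inferInstance⟩, inferInstance, fun w => ?_⟩
  have hw : (π ⁻¹ᵁ U').ι w ∈ good := by
    by_contra hn
    exact w.2 ⟨(π ⁻¹ᵁ U').ι w, hn, rfl⟩
  obtain ⟨t, ht1⟩ := Opens.mem_iSup.mp hw
  obtain ⟨ht, hwt⟩ := Opens.mem_iSup.mp ht1
  let j := (π ⁻¹ᵁ U').ι
  let b : ((j ⁻¹ᵁ Wt t ht : (π ⁻¹ᵁ U').toScheme.Opens) : Scheme.{u}) ⟶ U₁ := j ∣_ Wt t ht ≫ h t ht
  haveI := hσ.1
  haveI := hσ.2.1
  haveI := hσ.2.2
  haveI := hσs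
  refine ⟨j ⁻¹ᵁ Wt t ht, pullback σ b, pullback.snd σ b, i, pullback.fst σ b ≫ r₁, hwt,
    ⟨inferInstance, inferInstance, inferInstance⟩, inferInstance, ?_⟩
  rw [hπ', Category.assoc, hr, pullback.condition_assoc]
  simp only [b, Category.assoc]
  rw [hh t ht, morphismRestrict_ι_assoc]

end Groth.Agent.S7198
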