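import Groth.Statements.S6710
import Mathlib.RingTheory.Finiteness.Ideal
import Mathlib.RingTheory.Ideal.MinimalPrime.Localization
import Mathlib.RingTheory.LocalRing.Module

set_option autoImplicit false
universe u v
open CategoryTheory
open FunMor

namespace Groth.Agent.S6710

theorem nontrivial_linearMap_of_local {R : Type u} [CommRing R] [IsLocalRing R]
    (M : Type v) [AddCommGroup M] [Module R M] [Module.FinitePresentation R M] [Nontrivial M]
    (N : Type v) [AddCommGroup N] [Module R N] (n : N) (hn : n ≠ 0)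
    (hnil : ∀ x ∈ IsLocalRing.maximalIdeal R, ∃ k : ℕ, x ^ k • n = 0) :
    Nontrivial (M →ₗ[R] N) := by
  classical
  obtain ⟨s, hs, hmin⟩ : ∃ s : Finset M, Submodule.span R (s : Set M) = ⊤ ∧
      ∀ t : Finset M, Submodule.span R (t : Set M) = ⊤ → s.card ≤ t.card := by
    have hex : ∃ k, ∃ s : Finset M, Submodule.span R (s : Set M) = ⊤ ∧ s.card = k := by
      obtain ⟨s, hs⟩ := Module.Finite.fg_top (R := R) (M := M)
      exact ⟨_, s, hs, rfl⟩
    obtain ⟨s, hs, hk⟩ := Nat.find_spec hex
    exact ⟨s, hs, fun t ht => hk ▸ Nat.find_min' hex ⟨t, ht, rfl⟩⟩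
  have hne : s.Nonempty := by
    rw [Finset.nonempty_iff_ne_empty]
    rintro rfl
    rw [Finset.coe_empty, Submodule.span_empty] at hs
    exact bot_ne_top (α := Submodule R M) hs
  obtain ⟨x, hx⟩ := hne
  let N' : Submodule R M := Submodule.span R ((s.erase x : Finset M) : Set M)
  let q : R →ₗ[R] M ⧸ N' := LinearMap.toSpanSingleton R _ (N'.mkQ x)
  have hsup : Submodule.span R {x} ⊔ N' = ⊤ := by
    rw [← Submodule.span_union, ← hs, Finset.coe_erase, Set.union_sdiff_self]
    congr 1
    simp [hx]
  have hq : Function.Surjective q := by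
    intro y
    obtain ⟨y, rfl⟩ := N'.mkQ_surjective y
    have : y ∈ Submodule.span R {x} ⊔ N' := hsup ▸ Submodule.mem_top
    obtain ⟨a, ha, b, hb, rfl⟩ := Submodule.mem_sup.mp this
    obtain ⟨r, rfl⟩ := Submodule.mem_span_singleton.mp ha
    refine ⟨r, ?_⟩
    have hb' : N'.mkQ b = 0 := (Submodule.Quotient.mk_eq_zero _).mpr hb
    simp only [q, LinearMap.toSpanSingleton_apply, map_add, map_smul, hb', add_zero]
  have hN' : N' ≠ ⊤ := fun h => by
    have := hmin _ h
    rw [Finset.card_erase_of_mem hx] at this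
    have := Finset.card_pos.mpr ⟨x, hx⟩
    omega
  have : Module.FinitePresentation R (M ⧸ N') :=
    Module.finitePresentation_of_surjective N'.mkQ N'.mkQ_surjective
      (by rw [Submodule.ker_mkQ]; exact ⟨_, rfl⟩)
  have hJ : (LinearMap.ker q).FG := Module.FinitePresentation.fg_ker q hq
  have hJm : LinearMap.ker q ≤ IsLocalRing.maximalIdeal R := by
    refine IsLocalRing.le_maximalIdeal fun h => ?_
    have : Nontrivial (M ⧸ N') := Submodule.Quotient.nontrivial_iff.mpr hN'
    obtain ⟨y, hy⟩ := exists_ne (0 : M ⧸ N')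
    obtain ⟨r, rfl⟩ := hq y
    exact hy (LinearMap.mem_ker.mp (h ▸ Submodule.mem_top))
  let I' : Ideal R := LinearMap.ker (LinearMap.toSpanSingleton R N n)
  have hrad : LinearMap.ker q ≤ I'.radical := fun y hy => by
    obtain ⟨k, hk⟩ := hnil y (hJm hy)
    exact ⟨k, by simpa [I'] using hk⟩
  have hex : ∃ k, (LinearMap.ker q : Ideal R) ^ k ≤ I' :=
    Ideal.exists_pow_le_of_le_radical_of_fg hrad hJ
  have hk0 : Nat.find hex ≠ 0 := by
    intro h
    have h1 := Nat.find_spec hex
    rw [h, pow_zero, Ideal.one_eq_top] at h1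
    have : (1 : R) ∈ I' := h1 Submodule.mem_top
    exact hn (by simpa [I'] using this)
  obtain ⟨k, hk⟩ := Nat.exists_eq_succ_of_ne_zero hk0
  have hnot : ¬ (LinearMap.ker q : Ideal R) ^ k ≤ I' := Nat.find_min hex (by omega)
  obtain ⟨a, ha, ha'⟩ := SetLike.not_le_iff_exists.mp hnot
  have hkill : LinearMap.ker q ≤ LinearMap.ker (LinearMap.toSpanSingleton R N (a • n)) := by
    intro j hj
    have h1 : a * j ∈ I' := Nat.find_spec hex (by rw [hk, pow_succ]; exact Ideal.mul_mem_mul ha hj)
    simpa [I', mul_smul, smul_comm j a n] using h1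
  let e := q.quotKerEquivOfSurjective hq
  let φ : M →ₗ[R] N := (LinearMap.ker q).liftQ _ hkill ∘ₗ e.symm.toLinearMap ∘ₗ N'.mkQ
  refine ⟨φ, 0, fun h0 => ha' ?_⟩
  have h1 : φ x = a • n := by
    have : e.symm (N'.mkQ x) = Submodule.Quotient.mk 1 := by
      rw [LinearEquiv.symm_apply_eq]
      simp only [e, LinearMap.quotKerEquivOfSurjective_apply_mk, q, LinearMap.toSpanSingleton_apply, one_smul]
    show (LinearMap.ker q).liftQ _ hkill (e.symm (N'.mkQ x)) = a • n
    rw [this, Submodule.liftQ_apply, LinearMap.toSpanSingleton_apply, one_smul]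
  rw [h0, LinearMap.zero_apply] at h1
  simpa [I'] using h1.symm


/-- The statement for an affine scheme written in terms of modules: let A be a commutative ring, M a
finitely presented A-module and N a nonzero A-module with Supp(N) ⊆ Supp(M). Then Hom_A(M, N) is
nonzero. -/
theorem result
    (A : Type u) [CommRing A] (M : Type v) [AddCommGroup M] [Module A M]
    [Module.FinitePresentation A M] (N : Type v) [AddCommGroup N] [Module A N] [Nontrivial N]
    (h : Module.support A N ⊆ Module.support A M) : Nontrivial (M →ₗ[A] N) := by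
  obtain ⟨n, hn⟩ := exists_ne (0 : N)
  let I : Ideal A := LinearMap.ker (LinearMap.toSpanSingleton A N n)
  have hI : I ≠ ⊤ := fun h => hn (by
    have : (1 : A) ∈ I := by rw [h]; trivial
    simpa [I] using this)
  obtain ⟨p, hp⟩ := Ideal.nonempty_minimalPrimes hI
  have := hp.1.1
  have hpn : ∀ s : A, s ∉ p → s • n ≠ 0 := fun s hs h0 => hs (hp.1.2 (by simpa [I] using h0))
  have hpM : (⟨p, hp.1.1⟩ : PrimeSpectrum A) ∈ Module.support A M := h
    (Module.mem_support_iff'.mpr ⟨n, fun r hr => hpn r hr⟩)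
  let Ap := Localization.AtPrime p
  let n' : LocalizedModule p.primeCompl N := LocalizedModule.mkLinearMap p.primeCompl N n
  have hn' : n' ≠ 0 := by
    intro h0
    obtain ⟨s, hs⟩ := (IsLocalizedModule.eq_zero_iff p.primeCompl
      (LocalizedModule.mkLinearMap p.primeCompl N)).mp h0
    exact hpn s s.2 hs
  have : Nontrivial (LocalizedModule p.primeCompl M) := Module.mem_support_iff.mp hpM
  have hnil : ∀ x ∈ IsLocalRing.maximalIdeal Ap, ∃ k : ℕ, x ^ k • n' = 0 := by
    intro x hx
    have hrad : (I.map (algebraMap A Ap)).radical = IsLocalRing.maximalIdeal Ap := by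
      rw [IsLocalization.AtPrime.radical_map_of_mem_minimalPrimes (A := Ap) p I hp,
        IsLocalization.AtPrime.map_eq_maximalIdeal p Ap]
    obtain ⟨k, hk⟩ := hrad.ge hx
    refine ⟨k, ?_⟩
    have hle : I.map (algebraMap A Ap) ≤ LinearMap.ker (LinearMap.toSpanSingleton Ap _ n') := by
      rw [Ideal.map_le_iff_le_comap]
      intro a ha
      rw [Ideal.mem_comap, LinearMap.mem_ker, LinearMap.toSpanSingleton_apply, algebraMap_smul]
      show a • LocalizedModule.mkLinearMap p.primeCompl N n = 0
      rw [← map_smul]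
      have : a • n = 0 := by simpa [I] using ha
      rw [this, map_zero]
    simpa using hle hk
  have hloc := nontrivial_linearMap_of_local (R := Ap) (LocalizedModule p.primeCompl M)
    (LocalizedModule p.primeCompl N) n' hn' hnil
  rw [← not_subsingleton_iff_nontrivial]
  intro hs
  refine not_subsingleton_iff_nontrivial.mpr hloc ⟨fun f g => ?_⟩
  obtain ⟨⟨f₀, s⟩, hf⟩ := IsLocalizedModule.surj p.primeCompl
    (LocalizedModule.map p.primeCompl (M := M) (N := N)) f
  obtain ⟨⟨g₀, t⟩, hg⟩ := IsLocalizedModule.surj p.primeCompl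
    (LocalizedModule.map p.primeCompl (M := M) (N := N)) g
  rw [Subsingleton.elim f₀ 0, map_zero, Submonoid.smul_def] at hf
  rw [Subsingleton.elim g₀ 0, map_zero, Submonoid.smul_def] at hg
  have hu := fun s : p.primeCompl => (Module.End.isUnit_iff _).mp
    (IsLocalizedModule.map_units (LocalizedModule.map p.primeCompl (M := M) (N := N)) s)
  have hf0 : f = 0 := (hu s).1 (by simpa using hf)
  have hg0 : g = 0 := (hu t).1 (by simpa using hg)
  rw [hf0, hg0]

end Groth.Agent.S6710
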