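import Groth.Statements.S6285
import Mathlib
import Groth.Agent.CAlgH2.Minors

set_option autoImplicit false
set_option linter.style.haveILetI false
set_option linter.style.longLine false
universe u
open CAlg

namespace Groth.Agent.S6285

/-- For a ring R and an R-module M of finite presentation, the support Supp(M) is closed in Spec(R), and
its complement in Spec(R) is quasi-compact. -/
theorem result (R : Type u) [CommRing R] (M : Type u) [AddCommGroup M] [Module R M] [Module.FinitePresentation R M] : IsClosed (Module.support R M) ∧ IsCompact (Module.support R M)ᶜ := by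
  classical
  refine ⟨Module.isClosed_support, ?_⟩
  obtain ⟨n, K, φ, hK⟩ := Module.FinitePresentation.exists_fin R M
  obtain ⟨k, v, hv⟩ := Submodule.fg_iff_exists_fin_generating_family.1 hK
  let d : (Fin n → Fin k) → R := fun r => ((Matrix.of v).submatrix r id).det
  let J : Ideal R := Ideal.span (Set.range d)
  have hann : Module.annihilator R M = Module.annihilator R ((Fin n → R) ⧸ K) := φ.annihilator_eq
  have h1 : J ≤ Module.annihilator R M := by
    rw [hann, Ideal.span_le]
    rintro _ ⟨r, rfl⟩
    obtain ⟨B, hB⟩ := CAlgH2.exists_mul_eq_det_smul_one (Matrix.of v) r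
    refine Module.mem_annihilator.2 fun z => ?_
    obtain ⟨z, rfl⟩ := Submodule.Quotient.mk_surjective K z
    rw [← Submodule.Quotient.mk_smul, Submodule.Quotient.mk_eq_zero]
    have : d r • z = Matrix.vecMul (Matrix.vecMul z B) (Matrix.of v) := by
      rw [Matrix.vecMul_vecMul, hB, Matrix.vecMul_smul, Matrix.vecMul_one]
    rw [this, ← hv, Submodule.mem_span_range_iff_exists_fun]
    refine ⟨Matrix.vecMul z B, ?_⟩
    ext j
    simp [Matrix.vecMul, dotProduct]
  have h2 : Module.annihilator R M ≤ J.radical := by
    intro f hf
    rw [hann] at hf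
    refine ⟨n, ?_⟩
    have : ∀ i : Fin n, ∃ c : Fin k → R, ∑ j, c j • v j = f • Pi.single i (1 : R) := fun i => by
      rw [← Submodule.mem_span_range_iff_exists_fun, hv, ← Submodule.Quotient.mk_eq_zero, Submodule.Quotient.mk_smul]
      exact Module.mem_annihilator.1 hf _
    choose c hc using this
    have h3 : Matrix.of c * Matrix.of v = f • (1 : Matrix (Fin n) (Fin n) R) := by
      ext i j
      have := congrFun (hc i) j
      simpa [Matrix.mul_apply, Matrix.one_apply, Pi.single_apply, eq_comm] using this
    have h4 := congrArg Matrix.det h3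
    rw [Matrix.det_smul, Matrix.det_one, mul_one, Fintype.card_fin] at h4
    rw [← h4]
    exact CAlgH2.det_mul_mem_span _ _
  have hsupp : (Module.support R M)ᶜ = ⋃ r : Fin n → Fin k, (PrimeSpectrum.basicOpen (d r) : Set (PrimeSpectrum R)) := by
    rw [Module.support_eq_zeroLocus]
    ext p
    simp only [Set.mem_compl_iff, PrimeSpectrum.mem_zeroLocus, Set.mem_iUnion, SetLike.mem_coe, PrimeSpectrum.mem_basicOpen,
      SetLike.coe_subset_coe]
    constructor
    · intro h
      by_contra! h'
      exact h (h2.trans (p.2.radical_le_iff.2 (Ideal.span_le.2 (by rintro _ ⟨r, rfl⟩; exact h' r))))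
    · rintro ⟨r, hr⟩ h
      exact hr (h (h1 (Ideal.subset_span ⟨r, rfl⟩)))
  rw [hsupp]
  exact isCompact_iUnion fun r => PrimeSpectrum.isCompact_basicOpen _

end Groth.Agent.S6285
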