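import Groth.Statements.S9823
import Groth.Agent.Props58.Ext.SuppIdeal

set_option autoImplicit false
universe u
open CategoryTheory CategoryTheory.Limits AlgebraicGeometry TopologicalSpace Opposite
open Props

namespace Groth.Agent.S9823

/-- In a quasi-compact quasi-separated scheme, an open subset is quasi-compact exactly when its
complement is the support of some quasi-coherent ideal sheaf of finite type. -/
theorem result (X : Scheme.{u}) [CompactSpace X] [QuasiSeparatedSpace X]
    (U : X.Opens) :
    IsCompact (U : Set X) ↔
      ∃ I : X.IdealSheafData, (∀ V : X.affineOpens, (I.ideal V).FG) ∧ (I.support : Set X) = (U : Set X)ᶜ := by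
  exact ⟨Groth.Agent.Props58.Ext.exists_idealSheaf_of_isCompact,
    fun ⟨I, h₁, h₂⟩ => Groth.Agent.Props58.Ext.isCompact_of_idealSheaf I h₁ h₂⟩

end Groth.Agent.S9823
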