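import Groth.Statements.S4886
import Groth.Agent.S9612
import Mathlib.AlgebraicGeometry.ResidueField
import Mathlib.AlgebraicGeometry.Morphisms.FiniteType
-- import your own Groth.Agent.* helpers here

set_option autoImplicit false
universe u
open CategoryTheory AlgebraicGeometry
open EGA43

namespace Groth.Agent.S4886

/-- Let Y be a scheme of finite type over ℤ. (i) A point y of Y is closed if and only if the residue
field k(y) is finite. (ii) For every prime number p and every integer d ≥ 1, the set of points y of
Y such that k(y) is an extension of 𝔽_p of degree dividing d, i.e. admits a ring homomorphism into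
the field with p^d elements, is finite. -/
theorem result (Y : Scheme.{u}) [CompactSpace Y]
    [LocallyOfFiniteType (Limits.IsTerminal.from specULiftZIsTerminal Y)] :
    (∀ y : Y, IsClosed ({y} : Set Y) ↔ Finite ↑(Y.residueField y)) ∧
    ∀ (p d : ℕ) [Fact p.Prime], 0 < d →
      {y : Y | Nonempty (↑(Y.residueField y) →+* GaloisField p d)}.Finite := by
  classical
  have hJ : JacobsonSpace Y := by
    have : IsJacobsonRing ℤ := Groth.Agent.S9612.result
    have : IsJacobsonRing (ULift.{u} ℤ) :=
      isJacobsonRing_of_surjective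
        ⟨(ULift.ringEquiv.symm : ℤ ≃+* ULift.{u} ℤ).toRingHom, RingEquiv.surjective _⟩
    have : JacobsonSpace ↥(Spec (CommRingCat.of (ULift.{u} ℤ))) :=
      PrimeSpectrum.isJacobsonRing_iff_jacobsonSpace.mp this
    exact LocallyOfFiniteType.jacobsonSpace (Limits.IsTerminal.from specULiftZIsTerminal Y)
  have key : ∀ (R : CommRingCat.{u}) (j : Spec R ⟶ Y) [IsOpenImmersion j], Algebra.FiniteType ℤ R ∧
      (∀ z : Spec R, (IsClosed ({j.base z} : Set Y) ↔ z.asIdeal.IsMaximal) ∧
        Nonempty (z.asIdeal.ResidueField ≃+* Y.residueField (j.base z))) := by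
    intro R j _
    refine ⟨?_, fun z => ⟨?_, ⟨?_⟩⟩⟩
    · have h1 : LocallyOfFiniteType (j ≫ Limits.IsTerminal.from specULiftZIsTerminal Y) := inferInstance
      obtain ⟨φ, hφ⟩ := Spec.map_surjective (j ≫ Limits.IsTerminal.from specULiftZIsTerminal Y)
      rw [← hφ, HasRingHomProperty.Spec_iff (P := @LocallyOfFiniteType)] at h1
      have h2 : (φ.hom.comp (ULift.ringEquiv.symm : ℤ ≃+* ULift.{u} ℤ).toRingHom).FiniteType :=
        h1.comp (RingHom.FiniteType.of_surjective _ (ULift.ringEquiv.symm : ℤ ≃+* ULift.{u} ℤ).surjective)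
      rw [show φ.hom.comp (ULift.ringEquiv.symm : ℤ ≃+* ULift.{u} ℤ).toRingHom = algebraMap ℤ R from
        RingHom.ext_int _ _] at h2
      exact RingHom.finiteType_algebraMap.1 h2
    · rw [← PrimeSpectrum.isClosed_singleton_iff_isMaximal]
      constructor
      · intro h
        have h1 := h.preimage j.continuous
        rwa [← Set.image_singleton, Set.preimage_image_eq _ j.isOpenEmbedding.injective] at h1
      · intro h
        apply isClosed_singleton_of_isLocallyClosed_singleton
        have := h.isLocallyClosed.image j.isOpenEmbedding.isInducing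
          (j.isOpenEmbedding.isOpen_range.isLocallyClosed)
        rwa [Set.image_singleton] at this
    · exact ((Scheme.Spec.residueFieldIso R z).symm ≪≫ (asIso (j.residueFieldMap z)).symm).commRingCatIsoToRingEquiv
  constructor
  · intro y
    obtain ⟨V, hV, hyV, -⟩ := exists_isAffineOpen_mem_and_subset (U := (⊤ : Y.Opens)) (x := y) trivial
    obtain ⟨z, hz⟩ : y ∈ Set.range hV.fromSpec.base := by rw [hV.range_fromSpec]; exact hyV
    obtain ⟨hft, hz'⟩ := key _ hV.fromSpec
    obtain ⟨hcl, ⟨e⟩⟩ := hz' z
    rw [← hz]
    refine hcl.trans ⟨fun hmax => ?_, fun hfin => ?_⟩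
    · have : Finite z.asIdeal.ResidueField := by
        let K := z.asIdeal.ResidueField
        have hs : Function.Surjective (algebraMap _ K) := Ideal.algebraMap_residueField_surjective z.asIdeal
        have : Algebra.FiniteType ℤ K := hft.of_surjective (Algebra.ofId _ K |>.restrictScalars ℤ) hs
        have : IsJacobsonRing ℤ := Groth.Agent.S9612.result
        have hfin : @Module.Finite ℤ K _ _ (AddCommGroup.toIntModule K) := by
          convert! finite_of_finite_type_of_isJacobsonRing ℤ K
          exact Subsingleton.elim _ _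
        obtain ⟨p, hp⟩ := CharP.exists K
        rcases CharP.char_is_prime_or_zero K p with hp' | rfl
        · have : Fact p.Prime := ⟨hp'⟩
          let := ZMod.algebra K p
          have : Module.Finite (ZMod p) K := Module.Finite.of_restrictScalars_finite ℤ (ZMod p) K
          exact Module.finite_of_finite (ZMod p)
        · have : CharZero K := CharP.charP_to_charZero K
          have : Algebra.IsIntegral ℤ K :=
            @Algebra.IsIntegral.of_finite ℤ K _ _ _ (by convert! hfin; exact Subsingleton.elim _ _)
          exact absurd (isField_of_isIntegral_of_isField (R := ℤ) (S := K)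
            (algebraMap ℤ K).injective_int (Field.toIsField K)) Int.not_isField
      exact Finite.of_equiv _ e.toEquiv
    · have : Finite z.asIdeal.ResidueField := Finite.of_equiv _ e.symm.toEquiv
      apply Ideal.Quotient.maximal_of_isField
      have hinj := Ideal.injective_algebraMap_quotient_residueField z.asIdeal
      have := Finite.of_injective _ hinj
      exact Finite.isField_of_domain _
  · intro p d _ hd
    obtain ⟨S, hS⟩ := isCompact_univ.elim_finite_subcover
      (fun V : Y.affineOpens => ((V : Y.Opens) : Set Y)) (fun V => (V : Y.Opens).isOpen)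
      (fun y _ => by
        obtain ⟨V, hV, hyV, -⟩ := exists_isAffineOpen_mem_and_subset (U := (⊤ : Y.Opens)) (x := y) trivial
        exact Set.mem_iUnion.2 ⟨⟨V, hV⟩, hyV⟩)
    refine (S.finite_toSet.biUnion (t := fun V : Y.affineOpens => V.2.fromSpec.base ''
      {z | Nonempty (Y.residueField (V.2.fromSpec.base z) →+* GaloisField p d)}) fun V _ => ?_).subset ?_
    · apply Set.Finite.image
      obtain ⟨hft, hz'⟩ := key _ V.2.fromSpec
      let R := Γ(Y, (V : Y.Opens))
      have : Finite (R →+* GaloisField p d) := by
        obtain ⟨s, hs⟩ := hft.1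
        refine Finite.of_injective (fun φ : R →+* GaloisField p d => fun x : s => φ x) ?_
        intro φ ψ h
        have h' : φ.toIntAlgHom = ψ.toIntAlgHom := AlgHom.ext_of_adjoin_eq_top hs fun x hx => congrFun h ⟨x, hx⟩
        exact RingHom.ext fun x => congrArg (fun a : R →ₐ[ℤ] GaloisField p d => a x) h'
      have hfin2 : {w : Spec R | ∃ φ : R →+* GaloisField p d, RingHom.ker φ = w.asIdeal}.Finite := by
        refine ((Set.finite_range (fun φ : R →+* GaloisField p d =>
          (⟨RingHom.ker φ, RingHom.ker_isPrime φ⟩ : PrimeSpectrum R))).subset ?_)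
        rintro w ⟨φ, hφ⟩
        exact ⟨φ, PrimeSpectrum.ext hφ⟩
      refine hfin2.subset fun w ⟨χ⟩ => ?_
      obtain ⟨-, ⟨e⟩⟩ := hz' w
      refine ⟨(χ.comp e.toRingHom).comp (algebraMap R w.asIdeal.ResidueField), ?_⟩
      rw [← RingHom.comap_ker, (RingHom.injective_iff_ker_eq_bot _).1 (χ.comp e.toRingHom).injective,
        ← RingHom.ker_eq_comap_bot, Ideal.ker_algebraMap_residueField]
    · intro y hy
      obtain ⟨V, hVS, hyV⟩ := Set.mem_iUnion₂.1 (hS (Set.mem_univ y))
      obtain ⟨z, rfl⟩ : y ∈ Set.range V.2.fromSpec.base := by rw [V.2.range_fromSpec]; exact hyV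
      exact Set.mem_iUnion₂.2 ⟨V, hVS, z, hy, rfl⟩

end Groth.Agent.S4886
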