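import Groth.Statements.S9436
import Groth.Agent.Ind91.Lift
import Mathlib.LinearAlgebra.TensorProduct.RightExactness

set_option autoImplicit false
universe u
open CAlg

namespace Groth.Agent.S9436

open TensorProduct in
/-- Étale algebras lift along surjections: for an ideal I of R and an étale (R/I)-algebra S̄ there is an
étale R-algebra S with (R/I) ⊗_R S ≅ S̄ over R/I. -/
theorem result (R : Type u) [CommRing R] (I : Ideal R) (Sb : Type u)
    [CommRing Sb] [Algebra (R ⧸ I) Sb] [Algebra.Etale (R ⧸ I) Sb] :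
    ∃ (S : Type u) (_ : CommRing S) (_ : Algebra R S), Algebra.Etale R S ∧
      Nonempty (((R ⧸ I) ⊗[R] S) ≃ₐ[R ⧸ I] Sb) := by
  let : Algebra R Sb := ((algebraMap (R ⧸ I) Sb).comp (Ideal.Quotient.mk I)).toAlgebra
  have : IsScalarTower R (R ⧸ I) Sb := IsScalarTower.of_algebraMap_eq fun _ => rfl
  obtain ⟨W, _, _, π, hW, hπ, hker⟩ := Groth.Agent.Ind91.exists_etale_lift R I Sb
  let θ : (R ⧸ I) ⊗[R] W →ₐ[R ⧸ I] Sb :=
    Algebra.TensorProduct.lift (Algebra.ofId _ _) π fun _ _ => Commute.all _ _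
  have hθt : ∀ x : W, θ ((1 : R ⧸ I) ⊗ₜ x) = π x := fun x => by simp [θ]
  have hθ : Function.Bijective θ := by
    refine ⟨(injective_iff_map_eq_zero θ).mpr fun z hz => ?_, fun y => ?_⟩
    · obtain ⟨x, rfl⟩ := TensorProduct.mk_surjective R W (R ⧸ I) Ideal.Quotient.mk_surjective z
      rw [TensorProduct.mk_apply] at hz ⊢
      rw [hθt] at hz
      have hx : x ∈ I.map (algebraMap R W) := hker.le hz
      refine Submodule.span_induction (p := fun x _ => (1 : R ⧸ I) ⊗ₜ[R] x = 0) ?_ ?_ ?_ ?_ hx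
      · rintro _ ⟨i, hi, rfl⟩
        rw [Algebra.algebraMap_eq_smul_one, ← TensorProduct.smul_tmul, Algebra.smul_def, mul_one,
          Ideal.Quotient.algebraMap_eq, Ideal.Quotient.eq_zero_iff_mem.mpr hi, TensorProduct.zero_tmul]
      · exact TensorProduct.tmul_zero _ _
      · intro a c _ _ ha hc; rw [TensorProduct.tmul_add, ha, hc, add_zero]
      · intro r a _ ha
        have := congrArg (((1 : R ⧸ I) ⊗ₜ[R] r) * ·) ha
        simpa [Algebra.TensorProduct.tmul_mul_tmul] using this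
    · obtain ⟨x, rfl⟩ := hπ y
      exact ⟨_, hθt x⟩
  exact ⟨W, inferInstance, inferInstance, hW, ⟨AlgEquiv.ofBijective θ hθ⟩⟩


end Groth.Agent.S9436
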