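import Groth.Statements.S3440
import Groth.Agent.Dim62.OpenDimEq
import Groth.Agent.E4O.DvrCrit
import Groth.Agent.E4O.OpenAt
import Groth.Agent.S0386
import Groth.Agent.S2082
import Groth.Agent.FlatMor68.FibreStalk
import Groth.Agent.FlatMor68.CMComp

set_option autoImplicit false
open CategoryTheory AlgebraicGeometry
universe u
open EGA43

open Groth.Agent

namespace Groth.Agent.S3440

/-- Let Y be locally Noetherian, f : X ⟶ Y locally of finite type, x a point of X and y = f x; suppose
O_{Y,y} is regular and O_{X,x} is Cohen–Macaulay. The following are equivalent: a) O_{Y,y} ⟶ O_{X,x}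
is flat and the local ring of X_y at x is Cohen–Macaulay; b) O_{Y,y} ⟶ O_{X,x} is flat; c) the
restriction of f to some open neighbourhood of x is universally open; d) f is open at the generic
point of every irreducible component of X_y through x; e') dim O_{X,x} = dim O_{Y,y} + dim
O_{X_y,x}. -/
theorem result {X Y : Scheme.{u}} [IsLocallyNoetherian Y] (f : X ⟶ Y)
    [LocallyOfFiniteType f] (x : X) (hreg : IsRegularLocalRing (Y.presheaf.stalk (f.base x)))
    (hCM : LocCoh.IsCohenMacaulayLocalRing (X.presheaf.stalk x)) :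
    List.TFAE [
      (f.stalkMap x).hom.Flat ∧ LocCoh.IsCohenMacaulayLocalRing ((f.fiber (f.base x)).presheaf.stalk (f.asFiber x)),
      (f.stalkMap x).hom.Flat,
      ∃ U : X.Opens, x ∈ U ∧ UniversallyOpen (U.ι ≫ f),
      (∀ z : ↥(f.fiber (f.base x)), f.asFiber x ∈ closure {z} →
          (∀ z' : ↥(f.fiber (f.base x)), z ∈ closure {z'} → z' = z) →
          EGA43.IsOpenAt f.base ((f.fiberι (f.base x)).base z)),
      ringKrullDim (X.presheaf.stalk x) =
        ringKrullDim (Y.presheaf.stalk (f.base x)) + ringKrullDim ((f.fiber (f.base x)).presheaf.stalk (f.asFiber x)) ] := by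
  have : IsLocallyNoetherian X := LocallyOfFiniteType.isLocallyNoetherian f
  have : LocallyOfFinitePresentation f := E4O.locallyOfFinitePresentation_of_isLocallyNoetherian f
  tfae_have 1 → 2 := fun h => h.1
  tfae_have 2 → 3 := by
    intro h
    let U : X.Opens := ⟨{x | (f.stalkMap x).hom.Flat}, S0386.result f⟩
    refine ⟨U, h, ?_⟩
    have : Flat (U.ι ≫ f) := (Flat.iff_flat_stalkMap _).2 fun u => by
      rw [Scheme.Hom.stalkMap_comp]
      exact RingHom.Flat.comp u.2 (RingHom.Flat.of_bijective
        ((ConcreteCategory.isIso_iff_bijective (U.ι.stalkMap u)).1 inferInstance))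
    exact UniversallyOpen.of_flat _
  tfae_have 3 → 4 := by
    rintro ⟨U, hxU, hU⟩ z hz -
    have hzx : f.fiberι (f x) z ⤳ x := by
      have := (specializes_iff_mem_closure.2 hz).map (f.fiberι (f x)).continuous
      rwa [f.fiberι_asFiber] at this
    obtain ⟨u, hu⟩ := hzx.mem_open U.ι.isOpenEmbedding.isOpen_range (U.range_ι.symm ▸ hxU)
    refine E4O.isOpenAt_of_comp (g := U.ι) U.ι.continuous ?_ |> fun h => hu ▸ h
    exact E4O.isOpenAt_of_isOpenMap (U.ι ≫ f).isOpenMap u
  tfae_have 4 → 5 := fun h => Dim62.ringKrullDim_stalk_eq_of_isOpenAt f x h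
  tfae_have 5 → 1 := by
    intro h
    let A := Y.presheaf.stalk (f x)
    let B := X.presheaf.stalk x
    let _ : Algebra A B := (f.stalkMap x).hom.toAlgebra
    have : IsLocalHom (algebraMap A B) := inferInstanceAs (IsLocalHom (f.stalkMap x).hom)
    let e : EGA4.FibRing A B ≃+* (f.fiber (f x)).presheaf.stalk (f.asFiber x) :=
      FlatMor68.FibreStalk.fibreStalkEquivAt f x
    have hflat : Module.Flat A B := S2082.result (R := A) (S := B) (by
      show ringKrullDim B = ringKrullDim A + ringKrullDim (EGA4.FibRing A B)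
      rw [ringKrullDim_eq_of_ringEquiv e]
      exact h)
    exact ⟨hflat, CAlg1.cm_of_ringEquiv e ((FlatMor68.CMComp.cm_iff A B).1 hCM).2⟩
  tfae_finish

end Groth.Agent.S3440
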