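import Groth.Statements.S7632
import Groth.Agent.PINorm31.Strat

set_option autoImplicit false
universe u
open CategoryTheory CategoryTheory.Limits AlgebraicGeometry
open Variety

namespace Groth.Agent.S7632

/-- Let X be a scheme of finite type over a field k. Then one can find a finite purely inseparable field
extension k'/k, some t ≥ 0, and a descending chain Z_0 ⊇ … ⊇ Z_t = ∅ of closed subschemes of X_{k'},
given by an increasing chain of quasi-coherent ideal sheaves I_0 ≤ … ≤ I_t = O on X_{k'}, such that
Z_0 = (X_{k'})_red (I_0 is the ideal of nilpotents) and the open subscheme Z_i ∖ Z_{i+1} of Z_i is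
smooth over k' for every i < t. -/
theorem result (k : Type u) [Field k] (X : Scheme.{u}) [X.Over (Spec (CommRingCat.of k))] [LocallyOfFiniteType (X ↘ (Spec (CommRingCat.of k)))] [QuasiCompact (X ↘ (Spec (CommRingCat.of k)))] :
    ∃ (k' : Type u) (_ : Field k') (_ : Algebra k k') (_ : FiniteDimensional k k') (_ : IsPurelyInseparable k k')
      (t : ℕ) (I : Fin (t + 1) → (Curv2.bc k X k').IdealSheafData),
      Monotone I ∧ I 0 = Scheme.IdealSheafData.vanishingIdeal ⊤ ∧ I (Fin.last t) = ⊤ ∧
        ∀ i : Fin t,
          Smooth (((I i.castSucc).subschemeι ⁻¹ᵁ (I i.succ).support.compl).ι ≫ (I i.castSucc).subschemeι ≫ Curv2.bcSnd k X k') := by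
  classical
  let K : Type u := perfectClosure k (AlgebraicClosure k)
  have : PerfectField K := inferInstanceAs (PerfectField (perfectClosure k (AlgebraicClosure k)))
  have : CompactSpace X := QuasiCompact.compactSpace_of_compactSpace (X ↘ Spec (CommRingCat.of k))
  have : IsLocallyNoetherian X := LocallyOfFiniteType.isLocallyNoetherian (X ↘ Spec (CommRingCat.of k))
  have : IsNoetherian X := {}
  obtain ⟨S, hS⟩ := Groth.Agent.PINorm31.exists_chain (k := k) (X := X) K ⊤
  let E : IntermediateField k K := IntermediateField.adjoin k (S : Set K)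
  have : FiniteDimensional k E :=
    IntermediateField.finiteDimensional_adjoin fun a _ => Algebra.IsIntegral.isIntegral a
  have : IsPurelyInseparable k E := IsPurelyInseparable.tower_bot k E K
  obtain ⟨t, I, h1, h2, h3, h4⟩ := hS E fun r hr => ⟨⟨r, IntermediateField.subset_adjoin k _ hr⟩, rfl⟩
  exact ⟨E, inferInstance, inferInstance, inferInstance, inferInstance, t, I, h1, h2, h3, h4⟩

end Groth.Agent.S7632
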