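import Groth.Statements.S8837
import Groth.Agent.Frg27.Compl
import Groth.Agent.CAlg1.Complete
import Groth.Agent.Frg27.RigClosed

set_option autoImplicit false
universe u
open AdicRing

namespace Groth.Agent.S8837

/-- Let A be a Noetherian ring complete for the adic topology of an ideal I (an adic Noetherian
topological ring), p a prime ideal of A, and f ∈ A an element mapping to a unit in A/p. Let A_{f}
denote the completed principal localization, i.e. the I-adic completion of A_f = A[1/f]. Then the
ideal p A_{f} generated by p is prime, and the canonical map A/p → A_{f}/p A_{f} is bijective (so p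
A_{f} = p ⊗_A A_{f} is the completion of p_f, with quotient A/p). -/
theorem result (A : Type u) [CommRing A] [IsNoetherianRing A] (I : Ideal A) [IsAdicComplete I A] (p : Ideal A) [p.IsPrime] (f : A) (hf : IsUnit (Ideal.Quotient.mk p f)) : (p.map (algebraMap A (AdicCompletion (I.map (algebraMap A (Localization.Away f))) (Localization.Away f)))).IsPrime ∧ Function.Bijective (Ideal.quotientMap (p.map (algebraMap A (AdicCompletion (I.map (algebraMap A (Localization.Away f))) (Localization.Away f)))) (algebraMap A (AdicCompletion (I.map (algebraMap A (Localization.Away f))) (Localization.Away f))) Ideal.le_comap_map) := by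
  set B := AdicCompletion (I.map (algebraMap A (Localization.Away f))) (Localization.Away f)
  have hI : I.FG := IsNoetherian.noetherian I
  haveI hBc : IsAdicComplete (I.map (algebraMap A B)) B :=
    Frg27.isAdicComplete_compl (C := Localization.Away f) hI
  haveI : IsNoetherianRing B := CAlg1.isNoetherianRing_adicCompletion _ (IsNoetherian.noetherian _)
  haveI hpc : IsAdicComplete (I.map (algebraMap A (A ⧸ p))) (A ⧸ p) := Frg27.isAdicComplete_quotient I p
  let g : Localization.Away f →ₐ[A] A ⧸ p :=
    IsLocalization.liftAlgHom (M := Submonoid.powers f) (f := Algebra.ofId A (A ⧸ p))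
      (by rintro ⟨-, k, rfl⟩; rw [map_pow]; exact hf.pow k)
  let ψ : B →ₐ[A] A ⧸ p := Frg27.complLift (I := I) g
  set pB := p.map (algebraMap A B)
  let qm := Ideal.quotientMap pB (algebraMap A B) Ideal.le_comap_map
  have hker : pB ≤ RingHom.ker ψ.toRingHom := by
    rw [Ideal.map_le_iff_le_comap]
    intro a ha
    exact (ψ.commutes a).trans (Ideal.Quotient.eq_zero_iff_mem.mpr ha)
  let ψb : B ⧸ pB →+* A ⧸ p := Ideal.Quotient.lift pB ψ.toRingHom hker
  have hleft : ∀ a, ψb (qm a) = a := fun a => by
    obtain ⟨a, rfl⟩ := Ideal.Quotient.mk_surjective a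
    exact ψ.commutes a
  have hsurj : Function.Surjective qm := by
    haveI : IsHausdorff I (B ⧸ pB) := by
      haveI := AdicC27.isAdicComplete_of_finite (I := I.map (algebraMap A B)) (B ⧸ pB)
      exact ((IsAdicComplete.map_algebraMap_iff I (B ⧸ pB) (S := B)).mp inferInstance).toIsHausdorff
    haveI : IsAdicComplete I (A ⧸ p) := (IsAdicComplete.map_algebraMap_iff I (A ⧸ p)).mp hpc
    let qmₗ : A ⧸ p →ₗ[A] B ⧸ pB := (Ideal.quotientMapₐ pB (Algebra.ofId A B) Ideal.le_comap_map).toLinearMap
    intro y
    refine AdicC27.mem_range_of_approx (I := I) qmₗ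
      (fun k => ((I ^ k • ⊤ : Submodule A (B ⧸ pB)) : Set (B ⧸ pB))) (fun k => subset_rfl)
      (fun k y hy => ?_) (show y ∈ (I ^ 0 • ⊤ : Submodule A (B ⧸ pB)) by rw [pow_zero, Ideal.one_eq_top, Submodule.top_smul]; trivial)
    have htop : LinearMap.range qmₗ ⊔ I • (⊤ : Submodule A (B ⧸ pB)) = ⊤ := eq_top_iff.mpr fun z _ => by
      obtain ⟨z, rfl⟩ := Ideal.Quotient.mk_surjective z
      obtain ⟨c, hc⟩ := Frg27.exists_sub_mem_compl hI z 1
      obtain ⟨a, s, hs⟩ := IsLocalization.exists_mk'_eq (Submonoid.powers f) c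
      obtain ⟨u, hu⟩ : IsUnit (Ideal.Quotient.mk p (s : A)) := by
        obtain ⟨k, hk⟩ := s.2
        rw [← hk, map_pow]
        exact hf.pow k
      obtain ⟨b, hb⟩ := Ideal.Quotient.mk_surjective (I := p) (↑u⁻¹ : A ⧸ p)
      have e : Ideal.Quotient.mk pB (algebraMap (Localization.Away f) B c) =
          qmₗ (Ideal.Quotient.mk p (b * a)) := by
        have h1 : qm (Ideal.Quotient.mk p (s : A)) *
            Ideal.Quotient.mk pB (algebraMap (Localization.Away f) B c) = qm (Ideal.Quotient.mk p a) := by
          change Ideal.Quotient.mk pB (algebraMap A B (s : A)) * _ = Ideal.Quotient.mk pB (algebraMap A B a)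
          rw [← map_mul, IsScalarTower.algebraMap_apply A (Localization.Away f) B,
            IsScalarTower.algebraMap_apply A (Localization.Away f) B, ← map_mul, ← hs,
            IsLocalization.mk'_spec'_mk]
        have h2 : qm (Ideal.Quotient.mk p b) * qm (Ideal.Quotient.mk p (s : A)) = 1 := by
          rw [← map_mul, hb, ← hu, Units.inv_mul, map_one]
        change _ = qm (Ideal.Quotient.mk p (b * a))
        rw [map_mul (Ideal.Quotient.mk p), map_mul qm, ← h1, ← mul_assoc, h2, one_mul]
      rw [← sub_add_cancel z (algebraMap (Localization.Away f) B c), map_add, e, add_comm]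
      refine Submodule.add_mem_sup (LinearMap.mem_range_self _ _) ?_
      rw [Ideal.smul_top_eq_map, Submodule.restrictScalars_mem,
        IsScalarTower.algebraMap_eq A B (B ⧸ pB), ← Ideal.map_map]
      rw [pow_one] at hc
      exact Ideal.mem_map_of_mem _ hc
    have h1 : y ∈ (I ^ k • (⊤ : Submodule A (A ⧸ p))).map qmₗ ⊔ I ^ (k + 1) • ⊤ := by
      rw [Submodule.map_smul'', Submodule.map_top, pow_succ, mul_smul, ← Submodule.smul_sup, htop]
      exact hy
    obtain ⟨-, ⟨z, hz, rfl⟩, w, hw, rfl⟩ := Submodule.mem_sup.mp h1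
    exact ⟨z, hz, by simpa using hw⟩
  have hbij : Function.Bijective qm := ⟨fun a b hab => by rw [← hleft a, hab, hleft b], hsurj⟩
  refine ⟨?_, hbij⟩
  haveI : IsDomain (B ⧸ pB) :=
    MulEquiv.isDomain (A ⧸ p) (RingEquiv.ofBijective qm hbij).symm.toMulEquiv
  exact (Ideal.Quotient.isDomain_iff_prime _).mp inferInstance

end Groth.Agent.S8837
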