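import Mathlib
import Groth.Agent.Hopf35.Stable
import Groth.Agent.Comod33.CartierReduced
import Groth.Statements.S20021

set_option autoImplicit false
universe u
open GIT

namespace Groth.Agent.S20021

theorem result (k : Type u) [Field k]
    [IsAlgClosed k] (A : Type u) [CommRing A] [HopfAlgebra k A] [Algebra.FiniteType k A] [IsReduced A]
    (hG : HopfRep.IsLinearlyReductive k A)
    (R : Type u) [CommRing R] [IsReduced R] [Algebra k R] [Algebra.FiniteType k R]
    [HopfRep.Comod k A R] [GLin.IsCoactAlg k A R] :
    ∃ S : Set R, S ⊆ (GLin.invariants k A R : Set R) ∧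
      ∀ x : R →ₐ[k] k, GLin.IsStablePt k A x ↔ ∃ f ∈ S, x f ≠ 0 := by
  exact Hopf35.Stable.exists_invariants_cutting hG

end Groth.Agent.S20021
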