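import Groth.Statements.S19400
import Groth.Agent.LinRed34.Points
import Groth.Agent.Comod33.Points
import Mathlib

set_option autoImplicit false
universe u
open GIT

namespace Groth.Agent.S19400

open Groth.Agent.LinRed34 Groth.Agent.Comod33

theorem exists_act_of_inOrbitClosure {k : Type u} [Field k] [IsAlgClosed k]
    {A : Type u} [CommRing A] [HopfAlgebra k A] [Algebra.FiniteType k A]
    {R : Type u} [CommRing R] [Algebra k R] [HopfRep.Comod k A R] [GLin.IsCoactAlg k A R]
    {x z : R →ₐ[k] k} (hcl : GLin.IsClosedOrbit k A x) (h : GLin.InOrbitClosure k A x z) :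
    ∃ g : A →ₐ[k] k, GLin.actPt k g x = z := by
  set φ := GLin.orbitHom k A x with hφ
  haveI hmax : (RingHom.ker z.toRingHom).IsMaximal :=
    RingHom.ker_isMaximal_of_surjective _ fun c => ⟨algebraMap k R c, z.commutes c⟩
  let m : PrimeSpectrum R := ⟨RingHom.ker z.toRingHom, hmax.isPrime⟩
  have hm : m ∈ closure (Set.range (PrimeSpectrum.comap φ.toRingHom)) := by
    rw [PrimeSpectrum.closure_range_comap, PrimeSpectrum.mem_zeroLocus]
    exact h
  rw [IsClosed.closure_eq hcl] at hm
  obtain ⟨P, hP⟩ := hm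
  obtain ⟨g, hg⟩ := exists_point (k := k) P.asIdeal P.isPrime.ne_top
  refine ⟨g, AlgHom.ext fun f => ?_⟩
  have hmem : f - algebraMap k R (z f) ∈ m.asIdeal := by
    show z (f - algebraMap k R (z f)) = 0
    rw [map_sub, AlgHom.commutes]; simp
  rw [← hP, PrimeSpectrum.comap_asIdeal, Ideal.mem_comap] at hmem
  have h0 := hg _ hmem
  change g (φ (f - algebraMap k R (z f))) = 0 at h0
  rw [map_sub, map_sub, AlgHom.commutes, AlgHom.commutes, Algebra.algebraMap_self, RingHom.id_apply, sub_eq_zero] at h0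
  exact h0

theorem result (k : Type u) [Field k] [IsAlgClosed k]
    (A : Type u) [CommRing A] [HopfAlgebra k A] [Algebra.FiniteType k A]
    (hG : HopfRep.IsLinearlyReductive k A)
    (R : Type u) [CommRing R] [Algebra k R] [Algebra.FiniteType k R]
    [HopfRep.Comod k A R] [GLin.IsCoactAlg k A R]
    (hcl : ∀ x : R →ₐ[k] k, GLin.IsClosedOrbit k A x)
    (y : GLin.invariants k A R →ₐ[k] k) :
    (∃ x : R →ₐ[k] k, x.comp (GLin.invariants k A R).val = y) ∧
      ∀ x x' : R →ₐ[k] k, x.comp (GLin.invariants k A R).val = y →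
        x'.comp (GLin.invariants k A R).val = y →
          ∃ g : A →ₐ[k] k, x' = GLin.actPt k g x := by
  refine ⟨?_, fun x x' hx hx' => ?_⟩
  · obtain ⟨x, -, hx⟩ := exists_point_over hG (⊥ : Ideal R) (by
      intro w hw
      have h0 : w = 0 := hw
      subst h0
      rw [map_zero]
      exact zero_mem _) y (fun f hf => by
      have : f = 0 := Subtype.ext hf
      rw [this, map_zero])
    exact ⟨x, AlgHom.ext hx⟩
  · obtain ⟨z, h1, h2⟩ := (forall_invariants_eq_iff hG x x').1 fun f hf =>
      (AlgHom.congr_fun hx ⟨f, hf⟩).trans (AlgHom.congr_fun hx' ⟨f, hf⟩).symm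
    obtain ⟨g, hg⟩ := exists_act_of_inOrbitClosure (hcl x) (z := z) fun f hf => h1 f fun g => by
      rw [act_eq_orbitHom, RingHom.mem_ker.1 hf, map_zero]
    obtain ⟨g', hg'⟩ := exists_act_of_inOrbitClosure (hcl x') (z := z) fun f hf => h2 f fun g => by
      rw [act_eq_orbitHom, RingHom.mem_ker.1 hf, map_zero]
    refine ⟨(WithConv.toConv g * (WithConv.toConv g')⁻¹).ofConv, AlgHom.ext fun f => ?_⟩
    show x' f = (WithConv.toConv g * (WithConv.toConv g')⁻¹).ofConv (GLin.orbitHom k A x f)
    rw [← act_eq_orbitHom, act_mul, Module.End.mul_apply, WithConv.ofConv_toConv, act_eq_orbitHom]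
    set u := HopfRep.Comod.act k A R ((WithConv.toConv g')⁻¹).ofConv f
    rw [show g (GLin.orbitHom k A x u) = z u from AlgHom.congr_fun hg u,
      ← show g' (GLin.orbitHom k A x' u) = z u from AlgHom.congr_fun hg' u, ← act_eq_orbitHom]
    show x' f = x' (HopfRep.Comod.act k A R g' (HopfRep.Comod.act k A R ((WithConv.toConv g')⁻¹).ofConv f))
    rw [show HopfRep.Comod.act k A R g' = HopfRep.Comod.act k A R (WithConv.toConv g').ofConv from rfl,
      ← Module.End.mul_apply, ← act_mul, mul_inv_cancel, act_one, Module.End.one_apply]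

end Groth.Agent.S19400
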