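import Groth.Statements.S18498
import Groth.Agent.H98.STDExt

set_option autoImplicit false
universe u
open CategoryTheory CategoryTheory.Limits AlgebraicGeometry MonObj
open Neron

namespace Groth.Agent.S18498

/-- Let R be a Dedekind domain with fraction field K, X a Spec R-scheme which is flat over Spec R, Y a
Spec R-scheme which is separated over Spec R, and f, g : X → Y two R-morphisms whose restrictions to
generic fibres X_K → Y_K are equal. Then f = g: an R-morphism from a flat R-scheme to a separated
R-scheme is determined by its generic fibre. (The source states this for algebraic spaces over a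
connected Dedekind scheme; the case of schemes over an affine base is stated.) -/
theorem result (R : Type u) [CommRing R] [IsDedekindDomain R]
    (X Y : Over (Spec (CommRingCat.of R))) [Flat X.hom] [IsSeparated Y.hom] (f g : X ⟶ Y)
    (h : (Neron.genericFibre R).map f = (Neron.genericFibre R).map g) : f = g := by
  have hdom : IsDominant (Neron.genPt R) := by
    constructor
    show DenseRange (PrimeSpectrum.comap (algebraMap R (FractionRing R)))
    exact PrimeSpectrum.denseRange_comap_iff_ker_le_nilRadical _ |>.mpr (by
      rw [(RingHom.injective_iff_ker_eq_bot _).mp (IsFractionRing.injective R (FractionRing R))]; exact bot_le)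
  have : IsSchemeTheoreticallyDominant (Neron.genPt R) := .of_isDominant _
  ext : 1
  refine Groth.Agent.H98.STDExt.ext_of_isSchemeTheoreticallyDominant Y.hom (by simp) (pullback.fst X.hom (Neron.genPt R)) ?_
  have h' := congrArg (fun m => CommaMorphism.left m ≫ pullback.fst Y.hom (Neron.genPt R)) h
  simp [Neron.genericFibre] at h'
  erw [pullback.lift_fst, pullback.lift_fst] at h'
  exact h'

end Groth.Agent.S18498
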