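import Groth.Statements.S18638
import Groth.Agent.GrMod19.Gor.CanonField
import Groth.Agent.Gor18.LocCohGor

set_option autoImplicit false
universe u
open GrLC

namespace Groth.Agent.S18638

/-- Let R be a graded ring defined over a field which is Cohen–Macaulay, and K_R its canonical module.
Then R is Gorenstein exactly when K_R is isomorphic to a degree shift R(a) of R for some integer a,
that is, there is a bijective R-linear map R → K_R homogeneous of some fixed degree. Here 'graded
ring defined over a field' means R = ⊕_{n ≥ 0} R_n is Noetherian with R_0 a field (so R is finitely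
generated over R_0), m = R_+ is its unique graded maximal ideal and n = dim R; the canonical module
K_R (the graded dual of H^n_m(R)) is represented by a finitely generated graded module C together
with a homogeneous isomorphism from Hom_R(C, E) onto H^n_m(R), where E is a *injective envelope of
R/m and H^n_m(R) is computed from a *injective resolution of R in the graded category; by graded
Matlis duality this says exactly that C ≅ K_R as graded modules. -/
theorem result (R : Type u) [CommRing R] [LocCoh.IsCohenMacaulayRing R] (𝒜 : ℤ → AddSubgroup R) [GradedRing 𝒜] (hpos : ∀ n : ℤ, n < 0 → 𝒜 n = ⊥) (h0 : IsField (GrLC.deg0 𝒜)) (m : HomogeneousIdeal 𝒜) (hm : GrLC.IsStarLocal 𝒜 m) (hmsp : m.toIdeal = Ideal.span (⋃ n ∈ Set.Ioi (0 : ℤ), (𝒜 n : Set R))) (n : ℕ) (hn : ringKrullDim R = n) (I : GrLC.StarInjRes 𝒜 𝒜) (E' : Type u) [AddCommGroup E'] [Module R E'] (𝓔 : ℤ → AddSubgroup E') [DirectSum.Decomposition 𝓔] [SetLike.GradedSMul 𝒜 𝓔] (e : (R ⧸ m.toIdeal) →ₗ[R] E') (he : GrLC.IsStarInjHull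 𝒜 (GrLC.quotGr 𝒜 m) 𝓔 e) (C : Type u) [AddCommGroup C] [Module R C] (𝒞 : ℤ → AddSubgroup C) [DirectSum.Decomposition 𝒞] [SetLike.GradedSMul 𝒜 𝒞] (hC : GrLC.IsStarCanonical 𝒜 𝒞 𝓔 m n I) : LocCoh.IsGorensteinRing R ↔ ∃ (a : ℤ) (f : R →ₗ[R] C), Function.Bijective f ∧ GrLC.IsGrHomDeg 𝒜 𝒞 f a := by
  have : m.toIdeal.IsMaximal := GrMod19.isMaximal_star (GrMod19.Gor.nonnegGr_of_bot hpos) hm
  have hCfin := hC.1
  obtain ⟨φ, hφ⟩ := hC.2
  let S := m.toIdeal.primeCompl
  let Rm := Localization.AtPrime m.toIdeal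
  have hcm := LocCoh.IsCohenMacaulayRing.isCohenMacaulayLocalRing_localization m.toIdeal
  have hdim : ringKrullDim Rm = n := GrMod19.Gor.ringKrullDim_loc_star hpos hm hn
  have : Module.Finite Rm (LocalizedModule S C) :=
    Module.Finite.of_isLocalizedModule S (LocalizedModule.mkLinearMap S C)
  obtain ⟨E₀, _, _, f, hf⟩ := InjHull18.exists_hull (R := Rm) (IsLocalRing.ResidueField Rm)
  obtain ⟨eK⟩ := GrMod19.Gor.nonempty_dual_localized he φ hf
  have eS : LocalizedModule S R ≃ₗ[Rm] Rm := LinearEquiv.refl _ _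
  constructor
  · intro hG
    have hgor : LocCoh.IsGorensteinLocalRing Rm :=
      LocCoh.IsGorensteinRing.isGorensteinLocalRing_localization m.toIdeal
    obtain ⟨g, hg⟩ := Gor18.exists_hull_H Rm n hdim
    obtain ⟨u, -⟩ := InjHull18.hull_unique hf hg
    obtain ⟨ψ⟩ := LC16.MatlisBasic.nonempty_equiv_of_dual hf (X := LocalizedModule S R)
      (Y := LocalizedModule S C)
      (LinearEquiv.congrLeft E₀ Rm eS ≪≫ₗ LinearMap.ringLmapEquivSelf Rm Rm E₀ ≪≫ₗ u ≪≫ₗ eK.symm)
    have : Nontrivial R := ⟨⟨0, 1, fun h => (Ideal.IsPrime.ne_top (I := m.toIdeal) inferInstance)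
      ((Ideal.eq_top_iff_one _).2 (h ▸ m.toIdeal.zero_mem))⟩⟩
    have hend : ∀ χ : LocalizedModule S R →ₗ[Rm] LocalizedModule S R,
        ∃ r : Rm, χ = r • LinearMap.id := fun χ => ⟨eS (χ (eS.symm 1)), LinearMap.ext fun x => by
      apply eS.injective
      rw [LinearMap.smul_apply, LinearMap.id_apply, map_smul,
        show x = eS x • eS.symm 1 by rw [← map_smul, smul_eq_mul, mul_one, eS.symm_apply_apply],
        map_smul, map_smul, map_smul, eS.apply_symm_apply, smul_eq_mul, smul_eq_mul, smul_eq_mul,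
        mul_one, mul_comm]⟩
    exact GrMod19.Gor.exists_homog_iso (GrMod19.selfPiece 𝒜) 𝒞 hm ψ hend
  · rintro ⟨a, g, hg, -⟩
    refine GrMod19.Gor.gorenstein_of_star hm
      { exists_hasInjectiveDimensionLT := ⟨n + 1, ?_⟩ }
    have := LC16.CanonDual.injDimLT hdim hf eK
    exact CategoryTheory.hasInjectiveDimensionLT_of_iso
      ((LinearEquiv.extendScalarsOfIsLocalization S Rm
        (IsLocalizedModule.iso S (LocalizedModule.mkLinearMap S C ∘ₗ
          (LinearEquiv.ofBijective g hg).toLinearMap))).symm ≪≫ₗ eS).toModuleIso (n + 1)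

end Groth.Agent.S18638
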