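import Groth.Statements.S18645
import Groth.Agent.GrMod19.RegSeq

set_option autoImplicit false
universe u
open GrLC

namespace Groth.Agent.S18645

/-- Let R be a graded ring defined over a field which is Cohen–Macaulay, of dimension n, and let f_1, …,
f_t be an R-regular sequence of homogeneous elements of positive degrees d_1, …, d_t, with S =
R/(f_1, …, f_t). The canonical module of S is (K_R/(f_1, …, f_t)K_R)(d_1 + ⋯ + d_t); consequently —
this is the form stated here — the a-invariants satisfy a(S) = a(R) + d_1 + ⋯ + d_t, where a(S) is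
the largest nonzero degree of H^{n−t}_m(S) and a(R) that of H^n_m(R), both graded local cohomologies
over R with support in m = R_+ computed from *injective resolutions in the graded category, and S is
presented as a graded R-module N with a degree-preserving surjection π : R → N whose kernel is (f_1,
…, f_t). Here 'graded ring defined over a field' means R = ⊕_{n ≥ 0} R_n is Noetherian with R_0 a
field, and m = R_+ is its unique graded maximal ideal. -/
theorem result (R : Type u) [CommRing R] [LocCoh.IsCohenMacaulayRing R] (𝒜 : ℤ → AddSubgroup R) [GradedRing 𝒜] (hpos : ∀ n : ℤ, n < 0 → 𝒜 n = ⊥) (h0 : IsField (GrLC.deg0 𝒜)) (m : HomogeneousIdeal 𝒜) (hm : GrLC.IsStarLocal 𝒜 m) (hmsp : m.toIdeal = Ideal.span (⋃ n ∈ Set.Ioi (0 : ℤ), (𝒜 n : Set R))) (n : ℕ) (hn : ringKrullDim R = n) (I : GrLC.StarInjRes 𝒜 𝒜) (t : ℕ) (htn : t ≤ n) (f : Fin t → R) (deg : Fin t → ℤ) (hfdeg : ∀ i, f i ∈ 𝒜 (deg i)) (hfm : ∀ i, f i ∈ m.toIdeal) (hreg : RingTheory.Sequence.IsRegular R (List.ofFn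 f)) (N : Type u) [AddCommGroup N] [Module R N] (𝒩 : ℤ → AddSubgroup N) [DirectSum.Decomposition 𝒩] [SetLike.GradedSMul 𝒜 𝒩] (π : R →ₗ[R] N) (hπ : GrLC.IsGrHom 𝒜 𝒩 π) (hπs : Function.Surjective π) (hπk : LinearMap.ker π = Ideal.span (Set.range f)) (F : GrLC.StarInjRes 𝒜 𝒩) : GrLC.endDeg (F.Hgr m (n - t)) = GrLC.endDeg (I.Hgr m n) + ((((Finset.univ : Finset (Fin t)).sum deg : ℤ) : WithTop ℤ) : WithBot (WithTop ℤ)) := by
  have hp : GrMod19.NonnegGr 𝒜 := fun n hn y hy => by rw [hpos n hn] at hy; simpa using hy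
  have hdeg : ∀ i, 0 ≤ deg i := by
    intro i
    by_contra h
    have h0 : f i = 0 := hp _ (not_le.1 h) _ (hfdeg i)
    have hstep := GrMod19.regular_step hreg.toIsWeaklyRegular i.2 1 (by rw [mul_one, Fin.eta, h0]; exact zero_mem _)
    have htop : Ideal.span (Set.range f) = ⊤ := Ideal.eq_top_of_isUnit_mem _
      (Ideal.span_mono (Set.image_subset_range _ _) hstep) isUnit_one
    refine hreg.top_ne_smul ?_
    rw [Ideal.smul_eq_mul, Ideal.mul_top, Ideal.ofList, ← htop]
    congr 1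
    ext y
    simp [eq_comm]
  let : DirectSum.Decomposition (GrInj18.quotPieces 𝒜 (GrMod19.preI f t : Submodule R R)) :=
    (GrInj18.quotPieces_isInternal 𝒜 (GrMod19.isHomogeneous_preI hfdeg t)).chooseDecomposition
  obtain ⟨-, he⟩ := GrMod19.vEnd_preI m hfdeg hdeg hfm hreg.toIsWeaklyRegular
    (fun i hi d => GrMod19.vanH_below hp hm hn hi d) t le_rfl htn
  have hI : (GrMod19.preI f t : Submodule R R) = LinearMap.ker π := by
    rw [hπk, GrMod19.preI]
    congr 1
    ext y
    simp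
  let e : (R ⧸ (GrMod19.preI f t : Submodule R R)) ≃ₗ[R] N :=
    (Submodule.quotEquivOfEq _ _ hI).trans (π.quotKerEquivOfSurjective hπs)
  have hee : GrLC.IsGrHom (GrInj18.quotPieces 𝒜 (GrMod19.preI f t : Submodule R R)) 𝒩 e.toLinearMap := by
    rintro d _ ⟨r, hr, rfl⟩
    exact hπ d r hr
  have hee' : GrLC.IsGrHom 𝒩 (GrInj18.quotPieces 𝒜 (GrMod19.preI f t : Submodule R R)) e.symm.toLinearMap := by
    intro d z hz
    obtain ⟨r, hr, rfl⟩ := GrMod19.exists_homog_preimage 𝒜 𝒩 hπ (LinearMap.range_eq_top.2 hπs ▸ Submodule.mem_top) hz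
    exact ⟨r, hr, (e.symm_apply_apply _).symm⟩
  rw [GrMod19.endDeg_eq_vEnd, GrMod19.endDeg_eq_vEnd, ← GrMod19.vEnd_congr m e hee hee', he]
  simp [GrMod19.zWB]

end Groth.Agent.S18645
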