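import Groth.Statements.S17771
import Groth.Agent.GrMod19.Length

set_option autoImplicit false
universe u
open GrLC

namespace Groth.Agent.S17771

/-- Let R = ⊕_{n ≥ 0} R_n be a positively ℤ-graded ring which is standard graded (irrelevant ideal
generated by R_1), with R_0 Artinian, *local with unique homogeneous maximal ideal m, and
Cohen–Macaulay of Krull dimension d. Then the a-invariant of R is at least −d: the end (largest
nonzero degree) of the graded local cohomology module H^d_m(R), computed from any *injective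
resolution of R in the graded category, is ≥ −d. (Equality holds exactly for polynomial rings
R_0[T_1, …, T_d]; that characterisation is not part of this statement.) -/
theorem result (R : Type u) [CommRing R] [LocCoh.IsCohenMacaulayRing R] (𝒜 : ℤ → AddSubgroup R) [GradedRing 𝒜] (hpos : ∀ n : ℤ, n < 0 → 𝒜 n = ⊥) (hstd : Ideal.span (⋃ n ∈ Set.Ioi (0 : ℤ), (𝒜 n : Set R)) = Ideal.span ((𝒜 1 : AddSubgroup R) : Set R)) [IsArtinianRing (GrLC.deg0 𝒜)] (m : HomogeneousIdeal 𝒜) (hm : GrLC.IsStarLocal 𝒜 m) (d : ℕ) (hd : ringKrullDim R = d) (I : GrLC.StarInjRes 𝒜 𝒜) : (((-(d : ℤ) : ℤ) : WithTop ℤ) : WithBot (WithTop ℤ)) ≤ GrLC.endDeg (I.Hgr m d) := by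
  have hp : GrMod19.NonnegGr 𝒜 := fun n hn x hx => by rw [hpos n hn] at hx; simpa using hx
  have hle := (GrMod19.plus_le_and_isMaximal hp hm (GrMod19.isPlus_irrel hp)).1
  have hgam : ∀ (X : Type u) [AddCommGroup X] [Module R X],
      GrLC.gam m.toIdeal X = GrLC.gam (GrSyz.irrel 𝒜).toIdeal X :=
    fun X _ _ => GrMod19.gam_star_eq hp hm (GrMod19.isPlus_irrel hp)
  by_contra hlt
  have hvan : ∀ n : ℤ, -(d : ℤ) ≤ n → GrMod19.VanH m 𝒜 d n := fun n hn => (GrMod19.vanH_iff m I).2 <| by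
    rw [GrMod19.Hcomp_eq_bot_iff]
    by_contra hne
    refine hlt (le_trans (GrMod19.zWB_le hn) ?_)
    exact le_iSup₂ (f := fun (k : ℤ) (_ : I.Hgr m d k ≠ ⊥) => GrMod19.zWB k) n hne
  rcases Nat.eq_zero_or_pos d with rfl | hdpos
  · refine (GrMod19.lc_top hp hm hd).2 ?_
    rw [(LC15.H0equiv m.toIdeal R).toEquiv.subsingleton_congr, Submodule.subsingleton_iff_eq_bot]
    refine (Submodule.eq_bot_iff _).2 fun z hz => GrMod19.eq_of_cmp 𝒜 fun n => ?_
    rw [map_zero]
    rcases lt_or_ge n 0 with hn | hn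
    · exact hp n hn _ (GrMod19.cmp_mem 𝒜 n z)
    · exact GrMod19.eq_zero_of_vanH_zero m (hvan n (by simpa using hn))
        (GrMod19.isHomogeneous_gam 𝒜 m n hz) (GrMod19.cmp_mem 𝒜 n z)
  have hirr : ∀ i : ℕ, GrMod19.VanH (GrSyz.irrel 𝒜) 𝒜 i (0 - i) := by
    intro i
    refine GrMod19.vanH_of_gam_eq hgam ?_
    rcases lt_trichotomy i d with h | rfl | h
    · exact GrMod19.vanH_below hp hm hd h _
    · exact hvan _ (by simp)
    · refine fun E => ?_
      obtain ⟨e⟩ := GrMod19.nonempty_H_equiv E m i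
      have := LC15.cdLE_of_ringKrullDim_le m.toIdeal (le_of_eq hd) R i h
      have := e.toEquiv.subsingleton
      exact (Submodule.eq_bot_iff _).2 fun y _ => Subsingleton.elim _ _
  have hhom : (GrSyz.irrel 𝒜).toIdeal = Ideal.span (𝒜 1 : Set R) := (GrMod19.isPlus_irrel hp).trans hstd
  have h1 := GrMod19.mem_smul_of_vanH hhom 𝒜 (by simpa using hirr 0) (fun i _ => hirr i)
    (SetLike.GradedOne.one_mem (A := 𝒜))
  rw [Ideal.smul_eq_mul, Ideal.mul_top] at h1
  exact (GrMod19.isMaximal_star hp hm).ne_top ((Ideal.eq_top_iff_one _).2 (hle h1))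

end Groth.Agent.S17771
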