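import Groth.Statements.S18644
import Groth.Agent.GrMod19.Linear
import Groth.Agent.GrMod19.PolyIso
import Groth.Agent.GrMod19.Gor.CanonShift
import Groth.Agent.GrCI54.Sop
import Mathlib.LinearAlgebra.Dimension.Free
import Mathlib.Algebra.MvPolynomial.Nilpotent

set_option autoImplicit false
universe u
open GrLC

namespace Groth.Agent.S18644

/-- components in degree one of a product with an element without constant term -/
theorem cmp_one_mul {R : Type u} [CommRing R] {𝒜 : ℤ → AddSubgroup R} [GradedRing 𝒜] (hpn : GrMod19.NonnegGr 𝒜)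
    {g : R} (hg : GrMod19.cmp 𝒜 0 g = 0) (b : R) :
    GrMod19.cmp 𝒜 1 (b * g) = GrMod19.cmp 𝒜 0 b * GrMod19.cmp 𝒜 1 g := by
  induction b using GrMod19.piece_induction 𝒜 with
  | h0 => simp
  | hadd p p' hp hp' => rw [add_mul, map_add, map_add, hp, hp', add_mul]
  | hp i b hb =>
    rw [← smul_eq_mul b g, GrMod19.cmp_smul_homog_left 𝒜 𝒜 1 hb g, smul_eq_mul]
    rcases lt_trichotomy i 0 with hi | rfl | hi
    · rw [hpn i hi b hb]; simp
    · rw [sub_zero, GrMod19.cmp_of_mem 𝒜 hb]
    · rw [GrMod19.cmp_of_ne 𝒜 hb hi.ne', zero_mul]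
      rcases eq_or_lt_of_le (show (1 : ℤ) ≤ i by omega) with rfl | hi1
      · rw [sub_self, hg, mul_zero]
      · rw [hpn (1 - i) (by omega) _ (GrMod19.cmp_mem 𝒜 _ g), mul_zero]

/-- linearly independent linear forms are independent over the piece of degree zero -/
theorem indep_ofFn {R : Type u} [CommRing R] {𝒜 : ℤ → AddSubgroup R} [GradedRing 𝒜] {N : ℕ} :
    ∀ y : Fin N → R, (∀ c : Fin N → GrLC.deg0 𝒜, ∑ i, (c i : R) * y i = 0 → c = 0) →
      GrMod19.Indep (GrMod19.self 𝒜) (List.ofFn y) := by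
  induction N with
  | zero => intro y _; simp only [List.ofFn_zero]; exact trivial
  | succ N ih =>
    intro y hy
    rw [List.ofFn_succ]
    refine ⟨ih _ fun c hc => ?_, fun v hv hmem => ?_⟩
    · have := hy (Fin.cons 0 c) (by rw [Fin.sum_univ_succ]; simpa using hc)
      exact funext fun i => by simpa using congrFun this i.succ
    · have key : ∀ z ∈ GrMod19.lowSpan (GrMod19.self 𝒜) (List.ofFn fun i : Fin N => y i.succ),
          ∃ c : Fin N → GrLC.deg0 𝒜, ∑ i, (c i : R) * y i.succ = (show R from z) := by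
        intro z hz
        induction hz using AddSubgroup.closure_induction with
        | mem z hz =>
          obtain ⟨h, hh, w, hw, rfl⟩ := hz
          obtain ⟨j, rfl⟩ := List.mem_ofFn.1 hh
          classical
          refine ⟨Pi.single j ⟨(show R from w), hw⟩, ?_⟩
          show _ = y j.succ * (show R from w)
          rw [Finset.sum_eq_single j (fun b _ hb => by simp [hb]) (by simp), Pi.single_eq_same, mul_comm]
        | zero => exact ⟨0, show ∑ i : Fin N, ((0 : GrLC.deg0 𝒜) : R) * y i.succ = 0 by simp⟩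
        | add p p' _ _ hp hp' =>
          obtain ⟨c, hc⟩ := hp
          obtain ⟨c', hc'⟩ := hp'
          refine ⟨c + c', ?_⟩
          show _ = (show R from p) + (show R from p')
          simp [add_mul, Finset.sum_add_distrib, hc, hc']
        | neg p _ hp =>
          obtain ⟨c, hc⟩ := hp
          refine ⟨-c, ?_⟩
          show _ = -(show R from p)
          simp [hc]
      obtain ⟨c, hc⟩ := key _ hmem
      have := hy (Fin.cons ⟨-(show R from v), neg_mem hv⟩ c) (by
        rw [Fin.sum_univ_succ]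
        simp only [Fin.cons_zero, Fin.cons_succ, hc]
        show -(show R from v) * y 0 + y 0 * (show R from v) = 0
        ring)
      have h0 := congrFun this 0
      rw [Fin.cons_zero] at h0
      exact neg_eq_zero.1 (congrArg Subtype.val h0 : -(show R from v) = 0)

/-- Let R be a graded ring defined over a field k = R_0 which is Cohen–Macaulay and generated over k by
R_1, of dimension r. Then a(R) = −r holds exactly when R is isomorphic to the polynomial ring over k
in r variables. Here 'graded ring defined over a field' means R = ⊕_{n ≥ 0} R_n is Noetherian with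
R_0 a field, and m = R_+ is its unique graded maximal ideal. The a-invariant a(R) is the largest
degree in which the graded local cohomology H^n_m(R) (n = dim R, m = R_+), computed from a
*injective resolution of R in the graded category, is nonzero. (The inequality a(R) ≥ −r of the same
lemma is stated separately.) -/
theorem result (R : Type u) [CommRing R] [LocCoh.IsCohenMacaulayRing R] (𝒜 : ℤ → AddSubgroup R) [GradedRing 𝒜] (hpos : ∀ n : ℤ, n < 0 → 𝒜 n = ⊥) (h0 : IsField (GrLC.deg0 𝒜)) (m : HomogeneousIdeal 𝒜) (hm : GrLC.IsStarLocal 𝒜 m) (hmsp : m.toIdeal = Ideal.span (⋃ n ∈ Set.Ioi (0 : ℤ), (𝒜 n : Set R))) (hstd : Ideal.span (⋃ n ∈ Set.Ioi (0 : ℤ), (𝒜 n : Set R)) = Ideal.span ((𝒜 1 : AddSubgroup R) : Set R)) (r : ℕ) (hr : ringKrullDim R = r) (I : GrLC.StarInjRes 𝒜 𝒜) : GrLC.endDeg (I.Hgr m r) = (((-(r : ℤ) : ℤ) : WithTop ℤ) : WithBot (WithTop ℤ)) ↔ Nonempty (R ≃+* MvPolynomial (Fin r) (GrLC.deg0 𝒜)) := by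
  classical
  have hpn : GrMod19.NonnegGr 𝒜 := fun k hk x hx => AddSubgroup.mem_bot.1 (hpos k hk ▸ hx)
  have hmax := GrMod19.isMaximal_star hpn hm
  constructor
  · intro ha
    let : Field (GrLC.deg0 𝒜) := h0.toField
    have : Module.Finite (GrLC.deg0 𝒜) (GrLC.comp 𝒜 𝒜 1) := GrMod19.finite_ring_comp hpn hmsp 1
    let bs := Module.finBasis (GrLC.deg0 𝒜) (GrLC.comp 𝒜 𝒜 1)
    let N := Module.finrank (GrLC.deg0 𝒜) (GrLC.comp 𝒜 𝒜 1)
    let y : Fin N → R := fun i => (bs i).1
    have hy : ∀ i, y i ∈ 𝒜 1 := fun i => (bs i).2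
    have hval : ∀ c : Fin N → GrLC.deg0 𝒜, ((∑ i, c i • bs i : GrLC.comp 𝒜 𝒜 1) : R) = ∑ i, (c i : R) * y i :=
      fun c => map_sum (GrLC.comp 𝒜 𝒜 1).subtype _ _
    have hspan : ∀ v ∈ 𝒜 1, ∃ c : Fin N → GrLC.deg0 𝒜, ∑ i, (c i : R) * y i = v := fun v hv => by
      refine ⟨fun i => bs.repr ⟨v, hv⟩ i, ?_⟩
      rw [← hval, bs.sum_repr]
    have hind : ∀ c : Fin N → GrLC.deg0 𝒜, ∑ i, (c i : R) * y i = 0 → c = 0 := fun c hc =>
      funext (Fintype.linearIndependent_iff.1 bs.linearIndependent c (Subtype.ext ((hval c).trans hc)))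
    let s := List.ofFn y
    have hs : ∀ g ∈ s, g ∈ 𝒜 1 ∧ g ∈ m.toIdeal := fun g hg => by
      obtain ⟨i, rfl⟩ := List.mem_ofFn.1 hg
      exact ⟨hy i, GrMod19.mem_plus_of_mem hmsp one_pos (hy i)⟩
    have hsspan : Ideal.span {g | g ∈ s} = m.toIdeal := by
      refine le_antisymm (Ideal.span_le.2 fun g hg => (hs g hg).2) ?_
      rw [hmsp, hstd, Ideal.span_le]
      intro v hv
      obtain ⟨c, rfl⟩ := hspan v hv
      exact sum_mem fun i _ => Ideal.mul_mem_left _ _ (Ideal.subset_span (List.mem_ofFn.2 ⟨i, rfl⟩))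
    have hv : ∀ (i : ℕ) (n : ℤ), -(i : ℤ) < n → GrMod19.VanH m (GrMod19.selfPiece 𝒜) i n := by
      intro i n hn
      refine GrMod19.vanH_of_equiv m (LinearEquiv.refl R R)
        (ℳ := GrMod19.selfPiece 𝒜) (𝒩 := 𝒜) (d := 0) (d' := 0)
        (fun d x h => by rw [add_zero]; exact h) (fun d x h => by rw [add_zero]; exact h) (add_zero 0) ?_
      rw [add_zero]
      rcases lt_trichotomy i r with h | rfl | h
      · exact GrMod19.vanH_below hpn hm hr h n
      · refine (GrMod19.vanH_iff m I).2 ((Submodule.eq_bot_iff _).2 fun x hx => ?_)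
        exact (AddSubgroup.eq_bot_iff_forall _).1
          ((GrMod19.endDeg_le_iff (I.Hgr m i) (-(i : ℤ))).1 ha.le n hn) x hx
      · intro E
        obtain ⟨e⟩ := GrMod19.nonempty_H_equiv E m i
        have := LC15.cdLE_of_ringKrullDim_le m.toIdeal (le_of_eq hr) R i h
        have := e.toEquiv.subsingleton
        exact (Submodule.eq_bot_iff _).2 fun y _ => Subsingleton.elim _ _
    have hchain := GrMod19.regChain_of_vanH (GrMod19.self 𝒜) (fun k hk v hv' => hpn k hk v hv') s hs hsspan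
      (indep_ofFn y hind) hv
    have hle := GrMod19.ringKrullDim_add_length_le (X := GrMod19.self 𝒜) (LinearEquiv.refl R R) s hchain
    have hN : N ≤ r := by
      have : Nontrivial (R ⧸ Ideal.span {x | x ∈ s}) := Ideal.Quotient.nontrivial_iff.2 (hsspan ▸ hmax.ne_top)
      have h1 : (N : WithBot ℕ∞) ≤ (r : WithBot ℕ∞) := by
        refine le_trans ?_ (hr ▸ hle)
        rw [List.length_ofFn]
        exact le_add_of_nonneg_left ringKrullDim_nonneg_of_nontrivial
      exact_mod_cast h1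
    let y' : Fin r → R := fun i => if h : (i : ℕ) < N then y ⟨i, h⟩ else 0
    have hspan' : ∀ v ∈ 𝒜 1, ∃ c : Fin r → GrLC.deg0 𝒜, ∑ i, (c i : R) * y' i = v := fun v hv => by
      obtain ⟨c, rfl⟩ := hspan v hv
      refine ⟨fun i => if h : (i : ℕ) < N then c ⟨i, h⟩ else 0, ?_⟩
      refine (Finset.sum_bij_ne_zero (fun i _ _ => Fin.castLE hN i) (fun _ _ _ => Finset.mem_univ _)
        (fun _ _ _ _ _ _ h => Fin.castLE_injective _ h) (fun b _ hb => ?_) (fun i _ _ => ?_)).symm
      · by_cases h : (b : ℕ) < N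
        · exact ⟨⟨b, h⟩, Finset.mem_univ _, by simpa [y', h] using hb, Fin.ext rfl⟩
        · simp [h] at hb
      · simp [y', i.2]
    exact ⟨(RingEquiv.ofBijective _ (GrMod19.polyEval_bijective hpn h0 hstd hr y' hspan')).symm⟩
  · rintro ⟨θ⟩
    let : Field (GrLC.deg0 𝒜) := h0.toField
    have hm0 : ∀ x ∈ m.toIdeal, GrMod19.cmp 𝒜 0 x = 0 := fun x hx => (GrMod19.mem_plus_iff hpn hmsp x).1 hx
    have hconst : ∀ e : GrLC.deg0 𝒜, θ.symm (MvPolynomial.C e) ∈ 𝒜 0 := fun e => by
      let p := θ.symm (MvPolynomial.C e)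
      have hc := GrMod19.cmp_mem 𝒜 0 p
      suffices p - GrMod19.cmp 𝒜 0 p = 0 by
        show p ∈ 𝒜 0
        rw [sub_eq_zero.1 this]
        exact hc
      by_contra hne
      have hmem : p - GrMod19.cmp 𝒜 0 p ∈ m.toIdeal := (GrMod19.mem_plus_iff hpn hmsp _).2 (by
        rw [map_sub, GrMod19.cmp_of_mem 𝒜 hc, sub_self])
      obtain ⟨e', he'⟩ : ∃ e', θ (GrMod19.cmp 𝒜 0 p) = MvPolynomial.C e' := by
        by_cases hz : GrMod19.cmp 𝒜 0 p = 0
        · exact ⟨0, by rw [hz, map_zero, map_zero]⟩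
        · obtain ⟨⟨b, hb⟩, hcb⟩ := h0.mul_inv_cancel (a := ⟨_, hc⟩) (fun h => hz (congrArg Subtype.val h))
          have hu : IsUnit (θ (GrMod19.cmp 𝒜 0 p)) :=
            (IsUnit.of_mul_eq_one b (congrArg Subtype.val hcb : GrMod19.cmp 𝒜 0 p * b = 1)).map θ
          obtain ⟨e', -, he'⟩ := MvPolynomial.isUnit_iff_eq_C_of_isReduced.1 hu
          exact ⟨e', he'⟩
      have hC : θ (p - GrMod19.cmp 𝒜 0 p) = MvPolynomial.C (e - e') := by
        rw [map_sub, he', θ.apply_symm_apply, map_sub]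
      rcases eq_or_ne (e - e') 0 with h | h
      · exact hne (θ.injective (by rw [hC, h, map_zero, map_zero]))
      · refine hmax.ne_top (Ideal.eq_top_of_isUnit_mem _ hmem ?_)
        have hu : IsUnit (MvPolynomial.C (σ := Fin r) (e - e')) := (isUnit_iff_ne_zero.2 h).map MvPolynomial.C
        rw [← θ.symm_apply_apply (p - GrMod19.cmp 𝒜 0 p), hC]
        exact hu.map θ.symm
    let g : Fin r → R := fun i => θ.symm (MvPolynomial.X i) - GrMod19.cmp 𝒜 0 (θ.symm (MvPolynomial.X i))
    have hg0 : ∀ i, GrMod19.cmp 𝒜 0 (g i) = 0 := fun i => by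
      rw [map_sub, GrMod19.cmp_of_mem 𝒜 (GrMod19.cmp_mem 𝒜 0 _), sub_self]
    have hres : ∀ q, ∃ c ∈ 𝒜 0, θ.symm q - c ∈ Ideal.span (Set.range g) := fun q => by
      induction q using MvPolynomial.induction_on with
      | C e => exact ⟨_, hconst e, by rw [sub_self]; exact zero_mem _⟩
      | add p p' hp hp' =>
        obtain ⟨c, hc, h⟩ := hp
        obtain ⟨c', hc', h'⟩ := hp'
        refine ⟨c + c', add_mem hc hc', ?_⟩
        rw [map_add, add_sub_add_comm]
        exact add_mem h h'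
      | mul_X p i hp =>
        obtain ⟨c, hc, h⟩ := hp
        refine ⟨c * GrMod19.cmp 𝒜 0 (θ.symm (MvPolynomial.X i)),
          by have h1 := SetLike.GradedMul.mul_mem hc (GrMod19.cmp_mem 𝒜 0 (θ.symm (MvPolynomial.X i)))
             rwa [add_zero] at h1, ?_⟩
        rw [map_mul, show θ.symm p * θ.symm (MvPolynomial.X i) -
            c * GrMod19.cmp 𝒜 0 (θ.symm (MvPolynomial.X i)) =
            (θ.symm p - c) * θ.symm (MvPolynomial.X i) + c * g i by ring]
        exact add_mem (Ideal.mul_mem_right _ _ h)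
          (Ideal.mul_mem_left _ _ (Ideal.subset_span (Set.mem_range_self i)))
    let y : Fin r → R := fun i => GrMod19.cmp 𝒜 1 (g i)
    have hy : ∀ i, y i ∈ 𝒜 1 := fun i => GrMod19.cmp_mem 𝒜 1 _
    have hspan : ∀ v ∈ 𝒜 1, ∃ c : Fin r → GrLC.deg0 𝒜, ∑ i, (c i : R) * y i = v := fun v hv => by
      obtain ⟨c, hc, h⟩ := hres (θ v)
      rw [θ.symm_apply_apply] at h
      obtain ⟨b, hb⟩ := Ideal.mem_span_range_iff_exists_fun.1 h
      have hc0 : c = 0 := by
        have h1 := congrArg (GrMod19.cmp 𝒜 0) hb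
        rw [map_sum, map_sub, GrMod19.cmp_of_ne 𝒜 hv one_ne_zero, GrMod19.cmp_of_mem 𝒜 hc,
          Finset.sum_eq_zero (fun i _ => by rw [GrMod19.cmp_zero_mul hpn, hg0, mul_zero]), zero_sub] at h1
        exact neg_eq_zero.1 h1.symm
      refine ⟨fun i => ⟨GrMod19.cmp 𝒜 0 (b i), GrMod19.cmp_mem 𝒜 0 _⟩, ?_⟩
      have h1 := congrArg (GrMod19.cmp 𝒜 1) hb
      rw [hc0, sub_zero, map_sum, GrMod19.cmp_of_mem 𝒜 hv] at h1
      exact (Finset.sum_congr rfl fun i _ => (cmp_one_mul hpn (hg0 i) (b i)).symm).trans h1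
    let ψ := RingEquiv.ofBijective _ (GrMod19.polyEval_bijective hpn h0 hstd hr y hspan)
    have hψ : ∀ i, ψ (MvPolynomial.X i) = y i := fun i => MvPolynomial.eval₂Hom_X' _ _ i
    have hreg : RingTheory.Sequence.IsWeaklyRegular R (List.ofFn y) := by
      refine ((AddEquiv.isWeaklyRegular_congr (e := ψ.toAddEquiv) ?_).1
        (GrCI54.isWeaklyRegular_X (F := GrLC.deg0 𝒜) (k := r)))
      rw [show List.ofFn y = (List.ofFn (MvPolynomial.X : Fin r → MvPolynomial (Fin r) (GrLC.deg0 𝒜))).map ψ by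
        rw [List.map_ofFn]; exact congrArg _ (funext fun i => (hψ i).symm)]
      exact List.forall₂_map_right_iff.mpr (List.forall₂_same.mpr fun p _ x => map_mul ψ p x)
    have hfspan : Ideal.span (Set.range y) = m.toIdeal := by
      refine le_antisymm (Ideal.span_le.2 ?_) ?_
      · rintro _ ⟨i, rfl⟩
        exact GrMod19.mem_plus_of_mem hmsp one_pos (hy i)
      · rw [hmsp, hstd, Ideal.span_le]
        intro v hv
        obtain ⟨c, rfl⟩ := hspan v hv
        exact sum_mem fun i _ => Ideal.mul_mem_left _ _ (Ideal.subset_span (Set.mem_range_self i))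
    rw [GrMod19.Gor.endDeg_of_regular hpos h0 hm hmsp hr I y (fun _ => 1) hy hfspan hreg]
    simp

end Groth.Agent.S18644
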