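import Groth.Statements.S18651
import Groth.Agent.GrMod19.Gor.CanonShift
import Groth.Agent.GrMod19.Regrade
import Groth.Agent.Gor18.Poly
import Groth.Agent.GrCI54.Sop
import Mathlib.RingTheory.KrullDimension.Polynomial

set_option autoImplicit false
universe u
attribute [local instance] MvPolynomial.weightedGradedAlgebra
open GrLC

namespace Groth.Agent.S18651

/-- Let k be a field and R = k[X_1, …, X_N] the polynomial ring with deg X_i = w_i > 0. Then the
canonical module of R is K_R = X_1 X_2 ⋯ X_N · R ≅ R(−d) with d = w_1 + ⋯ + w_N; stated here as: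
there is a bijective R-linear map R → K_R homogeneous of degree d. The canonical module is
represented by a finitely generated graded module C together with a homogeneous isomorphism from
Hom_R(C, E) onto H^N_m(R), where m = R_+, E is a *injective envelope of R/m and H^N_m(R) is computed
from a *injective resolution of R in the graded category; by graded Matlis duality this says exactly
that C ≅ K_R as graded modules. -/
theorem result (k : Type u) [Field k] (N : ℕ) (w : Fin N → ℤ) (hw : ∀ i, 0 < w i) (m : HomogeneousIdeal (MvPolynomial.weightedHomogeneousSubmodule k w)) (hm : GrLC.IsStarLocal (MvPolynomial.weightedHomogeneousSubmodule k w) m) (hmsp : m.toIdeal = Ideal.span (⋃ n ∈ Set.Ioi (0 : ℤ), (MvPolynomial.weightedHomogeneousSubmodule k w n : Set (MvPolynomial (Fin N) k)))) (I : GrLC.StarInjRes (MvPolynomial.weightedHomogeneousSubmodule k w) (MvPolynomial.weightedHomogeneousSubmodule k w)) (E' : Type u) [AddCommGroup E'] [Module (MvPolynomial (Fin N) k) E'] (𝓔 : ℤ → AddSubgroup E') [DirectSum.Decomposition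 𝓔] [SetLike.GradedSMul (MvPolynomial.weightedHomogeneousSubmodule k w) 𝓔] (e : (MvPolynomial (Fin N) k ⧸ m.toIdeal) →ₗ[MvPolynomial (Fin N) k] E') (he : GrLC.IsStarInjHull (MvPolynomial.weightedHomogeneousSubmodule k w) (GrLC.quotGr (MvPolynomial.weightedHomogeneousSubmodule k w) m) 𝓔 e) (C : Type u) [AddCommGroup C] [Module (MvPolynomial (Fin N) k) C] (𝒞 : ℤ → AddSubgroup C) [DirectSum.Decomposition 𝒞] [SetLike.GradedSMul (MvPolynomial.weightedHomogeneousSubmodule k w) 𝒞] (hC : GrLC.IsStarCanonical (MvPolynomial.weightedHomogeneousSubmodule k w) 𝒞 𝓔 m N I) : ∃ f : MvPolynomial (Fin N) k →ₗ[MvPolynomial (Fin N) k] C, Function.Bijective f ∧ GrLC.IsGrHomDeg (MvPolynomial.weightedHomogeneousSubmodule k w) 𝒞 f ((Finset.univ : Finset (Fin N)).sum w) := by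
  classical
  let W := MvPolynomial.weightedHomogeneousSubmodule k w
  have hwt : ∀ (n : ℤ) (p : MvPolynomial (Fin N) k), p ∈ W n → ∀ e ∈ p.support, Finsupp.weight w e = n :=
    fun n p hp e he => hp (MvPolynomial.mem_support_iff.1 he)
  have hwnn : ∀ e : Fin N →₀ ℕ, 0 ≤ Finsupp.weight w e := fun e => by
    rw [Finsupp.weight_apply, Finsupp.sum]
    exact Finset.sum_nonneg fun i _ => nsmul_nonneg (hw i).le _
  have hwpos : ∀ e : Fin N →₀ ℕ, e ≠ 0 → 0 < Finsupp.weight w e := fun e he => by
    rw [Finsupp.weight_apply, Finsupp.sum]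
    exact Finset.sum_pos (fun i hi => nsmul_pos (hw i) (Finsupp.mem_support_iff.1 hi))
      (Finsupp.support_nonempty_iff.2 he)
  have hpos : ∀ n : ℤ, n < 0 → GrMod19.reg W n = ⊥ := fun n hn =>
    (AddSubgroup.eq_bot_iff_forall _).2 fun p hp => MvPolynomial.support_eq_empty.1
      (Finset.eq_empty_of_forall_notMem fun e he => by
        have := hwt n p hp e he
        have := hwnn e
        omega)
  have hconst : ∀ p ∈ W 0, p = MvPolynomial.C (MvPolynomial.coeff 0 p) := fun p hp =>
    MvPolynomial.ext _ _ fun e => by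
      rcases eq_or_ne e 0 with rfl | he
      · simp
      · rw [MvPolynomial.coeff_C, if_neg (Ne.symm he)]
        by_contra hne
        have := hwt 0 p hp e (MvPolynomial.mem_support_iff.2 hne)
        have := hwpos e he
        omega
  have h0 : IsField (GrLC.deg0 (GrMod19.reg W)) := by
    refine ⟨⟨0, 1, fun h => zero_ne_one (α := MvPolynomial (Fin N) k) (congrArg Subtype.val h)⟩, mul_comm,
      fun {a} ha => ?_⟩
    have h1 := hconst a.1 a.2
    have hc : MvPolynomial.coeff 0 a.1 ≠ 0 := fun h => ha (Subtype.ext (by rw [h1, h, map_zero]; rfl))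
    refine ⟨⟨MvPolynomial.C (MvPolynomial.coeff 0 a.1)⁻¹, MvPolynomial.isWeightedHomogeneous_C w _⟩, Subtype.ext ?_⟩
    show a.1 * _ = (1 : MvPolynomial (Fin N) k)
    rw [h1, MvPolynomial.coeff_C, if_pos rfl, ← map_mul, mul_inv_cancel₀ hc, map_one]
  have hm' := GrMod19.isStarLocal_regIdeal hm
  have : LocCoh.IsGorensteinRing k := Gor18.gorRing_of_pid k
  have := Gor18.gorRing_mvPolynomial k N
  have hdim : ringKrullDim (MvPolynomial (Fin N) k) = (N : ℕ) := by
    rw [MvPolynomial.ringKrullDim_of_isNoetherianRing, ringKrullDim_eq_zero_of_field, zero_add, Nat.card_fin]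
  refine GrMod19.Gor.exists_shift_equiv_of_regular hpos h0 hm' hmsp hdim (GrMod19.regRes I)
    (fun i => MvPolynomial.X i) w (fun i => MvPolynomial.isWeightedHomogeneous_X k w i) ?_
    (GrCI54.isWeaklyRegular_X (F := k) (k := N)) (GrMod19.isStarInjHull_reg he) (GrMod19.isStarCanonical_reg hC)
  refine le_antisymm ?_ ?_
  · rw [Ideal.span_le]
    rintro _ ⟨i, rfl⟩
    show _ ∈ m.toIdeal
    rw [hmsp]
    exact Ideal.subset_span (Set.mem_biUnion (Set.mem_Ioi.2 (hw i)) (MvPolynomial.isWeightedHomogeneous_X k w i))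
  · show m.toIdeal ≤ _
    rw [hmsp, Ideal.span_le]
    intro p hp
    obtain ⟨n, hn, hp⟩ := Set.mem_iUnion₂.1 hp
    rw [← Set.image_univ, SetLike.mem_coe, MvPolynomial.mem_ideal_span_X_image]
    intro e he
    have h2 : e ≠ 0 := fun h => by
      have h3 := hwt n p hp e he
      rw [h, map_zero] at h3
      exact absurd h3 (ne_of_lt hn)
    obtain ⟨i, hi⟩ := Finsupp.support_nonempty_iff.2 h2
    exact ⟨i, trivial, Finsupp.mem_support_iff.1 hi⟩

end Groth.Agent.S18651
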