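import Groth.Statements.S18656
import Groth.Agent.GrMod19.Reg
import Groth.Agent.LC15.Dim

set_option autoImplicit false
universe u
open GrLC

namespace Groth.Agent.S18656

/-- Let R be a graded ring defined over a field k = R_0, generated over k by R_1, of dimension r ≥ 1,
and let a(R) be its a-invariant. Then the homogeneous piece H^r_m(R)_n is nonzero for every n ≤
a(R). Here 'graded ring defined over a field' means R = ⊕_{n ≥ 0} R_n is Noetherian with R_0 a
field, and m = R_+ is its unique graded maximal ideal. The a-invariant a(R) is the largest degree in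
which the graded local cohomology H^n_m(R) (n = dim R, m = R_+), computed from a *injective
resolution of R in the graded category, is nonzero. -/
theorem result (R : Type u) [CommRing R] [IsNoetherianRing R] (𝒜 : ℤ → AddSubgroup R) [GradedRing 𝒜] (hpos : ∀ n : ℤ, n < 0 → 𝒜 n = ⊥) (h0 : IsField (GrLC.deg0 𝒜)) (m : HomogeneousIdeal 𝒜) (hm : GrLC.IsStarLocal 𝒜 m) (hmsp : m.toIdeal = Ideal.span (⋃ n ∈ Set.Ioi (0 : ℤ), (𝒜 n : Set R))) (hstd : Ideal.span (⋃ n ∈ Set.Ioi (0 : ℤ), (𝒜 n : Set R)) = Ideal.span ((𝒜 1 : AddSubgroup R) : Set R)) (r : ℕ) (hr : ringKrullDim R = r) (h1 : 1 ≤ r) (I : GrLC.StarInjRes 𝒜 𝒜) (a : ℤ) (ha : GrLC.endDeg (I.Hgr m r) = ((a : WithTop ℤ) : WithBot (WithTop ℤ))) (n : ℤ) (hn : n ≤ a) : I.Hcomp m r n ≠ ⊥ := by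
  intro hbot
  have hp : GrMod19.NonnegGr 𝒜 := fun n hn x hx => by rw [hpos n hn] at hx; simpa using hx
  have hv : ∀ i : ℕ, r ≤ i → GrMod19.VanH m 𝒜 i (n + r - i) := by
    intro i hi
    rcases hi.lt_or_eq with hlt | rfl
    · refine fun E => ?_
      obtain ⟨e⟩ := GrMod19.nonempty_H_equiv E m i
      have := LC15.cdLE_of_ringKrullDim_le m.toIdeal (d := r) (le_of_eq hr) R i hlt
      have := e.toEquiv.subsingleton
      exact (Submodule.eq_bot_iff _).2 fun y _ => Subsingleton.elim _ _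
    · rw [add_sub_cancel_right]
      exact (GrMod19.vanH_iff m I).2 hbot
  have h2 : ∀ s : ℤ, n ≤ s → I.Hcomp m r s = ⊥ := fun s hs => (GrMod19.vanH_iff m I).1 <| by
    have := GrMod19.vanH_of_total (hmsp.trans hstd) 𝒜 h1 hv (s := s + r) (by omega) r le_rfl
    rwa [add_sub_cancel_right] at this
  have hle : GrLC.endDeg (I.Hgr m r) ≤ (((a - 1 : ℤ) : WithTop ℤ) : WithBot (WithTop ℤ)) :=
    (GrMod19.endDeg_le_iff _ _).2 fun s hs => (GrMod19.Hcomp_eq_bot_iff I m).1 (h2 s (by omega))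
  rw [ha, WithBot.coe_le_coe, WithTop.coe_le_coe] at hle
  omega

end Groth.Agent.S18656
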