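import Groth.Statements.S2080
import Groth.Agent.Fin57.GenericFinite
import Groth.Agent.Pts57.GenericAffine

set_option autoImplicit false
set_option backward.isDefEq.respectTransparency.types false
universe u
open CategoryTheory AlgebraicGeometry
open Mor

namespace Groth.Agent.S2080

/-- Let `f : X → Y` be locally of finite type, quasi-compact and quasi-separated, and `η` a generic
point of an irreducible component of `Y`. Then `f⁻¹{η}` is finite if and only if there is an affine
open `V ∋ η` such that `f⁻¹(V) → V` is finite. -/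
theorem result {X Y : Scheme.{u}} (f : X ⟶ Y) [LocallyOfFiniteType f]
    [QuasiCompact f] [QuasiSeparated f] (η : Y) (hη : closure {η} ∈ irreducibleComponents (Y : Type u)) :
    (f.base ⁻¹' {η}).Finite ↔ ∃ V : Y.Opens, IsAffineOpen V ∧ η ∈ V ∧ IsFinite (f ∣_ V) := by
  have hm : Norm57.IsMax' η := Norm57.isMax'_iff.mpr hη
  constructor
  · intro hfin
    obtain ⟨_, ⟨V, hV, rfl⟩, hηV, -⟩ :=
      Y.isBasis_affineOpens.exists_subset_of_mem_open (Set.mem_univ η) isOpen_univ
    replace hV : IsAffineOpen V := hV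
    haveI : QuasiSeparatedSpace (f ⁻¹ᵁ V).toScheme := by
      haveI : IsAffine V := hV
      exact quasiSeparatedSpace_of_quasiSeparated (f ∣_ V)
    have hfin' : ((f ⁻¹ᵁ V).ι ⁻¹' (f.base ⁻¹' {η})).Finite :=
      hfin.preimage (f ⁻¹ᵁ V).ι.isOpenEmbedding.injective.injOn
    obtain ⟨U, hU, -, hUE⟩ := Pts57.exists_affine_insert (isAffineOpen_bot (f ⁻¹ᵁ V).toScheme)
      hfin'.toFinset fun z hz => by
        have hfz : f ((f ⁻¹ᵁ V).ι z) = η := hfin'.mem_toFinset.mp hz
        refine Norm57.isMax'_iff.mp fun w hw => (f ⁻¹ᵁ V).ι.isOpenEmbedding.injective ?_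
        exact Fin57.isMax'_of_finite f hm hfin hfz _ (hw.map (f ⁻¹ᵁ V).ι.continuous)
    obtain ⟨D, hD, hηD, -, -, hfD⟩ := Fin57.exists_isFinite_restrict f hm hfin hV hηV
      (W := (f ⁻¹ᵁ V).ι ''ᵁ U) (hU.image_of_isOpenImmersion _)
      (Scheme.Opens.ι_image_le _ U) fun x hx => by
        have hxV : f x ∈ V := (show f x = η from hx).symm ▸ hηV
        exact ⟨⟨x, hxV⟩, hUE (hfin'.mem_toFinset.mpr hx), rfl⟩
    exact ⟨D, hD, hηD, hfD⟩
  · rintro ⟨V, -, hηV, hf⟩
    refine ((f ∣_ V).finite_preimage_singleton ⟨η, hηV⟩ |>.image (f ⁻¹ᵁ V).ι).subset fun x hx => ?_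
    have hxη : f x = η := hx
    exact ⟨⟨x, show f x ∈ V from hxη.symm ▸ hηV⟩,
      Subtype.ext ((morphismRestrict_base_coe f V _).trans hxη), rfl⟩

end Groth.Agent.S2080
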