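import Groth.Statements.S9145
import Groth.Agent.RelGCI94.SyntLocal

set_option autoImplicit false
universe u
open Synt

namespace Groth.Agent.S9145

/-- A finite type algebra S over a field k is a local complete intersection over k if and only if all
its local rings at primes (equivalently, at maximal ideals) are complete intersections over k. -/
theorem result (k S : Type u) [Field k] [CommRing S] [Algebra k S]
    [Algebra.FiniteType k S] :
    (Synt.IsLCIOver k S ↔ ∀ p : PrimeSpectrum S, Synt.IsCIOver k (Localization.AtPrime p.asIdeal)) ∧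
      (Synt.IsLCIOver k S ↔
        ∀ m : MaximalSpectrum S, Synt.IsCIOver k (Localization.AtPrime m.asIdeal)) := by
  open Groth.Agent.RelGCI94 in
  refine ⟨⟨fun h => (isLCIOver_iff.1 h).2, fun h => isLCIOver_iff.2 ⟨inferInstance, h⟩⟩,
    ⟨fun h m => (isLCIOver_iff.1 h).2 ⟨m.asIdeal, inferInstance⟩, fun h => ⟨inferInstance, fun p => ?_⟩⟩⟩
  open Groth.Agent.RelGCI94 in
  obtain ⟨m, hm, hpm⟩ := Ideal.exists_le_maximal p.asIdeal p.2.ne_top
  open Groth.Agent.RelGCI94 in
  obtain ⟨g, hg, hG⟩ := exists_globalCI_nhd m (h ⟨m, hm⟩)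
  exact ⟨g, fun hgp => hg (hpm hgp), hG⟩

end Groth.Agent.S9145
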