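import Groth.Statements.S1878
import Groth.Agent.Grpd80.Bridge
import Groth.Agent.Grpd80.GrpdPoints
import Mathlib.RingTheory.Ideal.GoingUp

set_option autoImplicit false
universe u
open CategoryTheory CategoryTheory.Limits AlgebraicGeometry
open Grpd

namespace Groth.Agent.S1878
theorem specHom_eq_iff {X : Scheme.{u}} [IsAffine X] {k : Type u} [CommRing k]
    (x y : Spec (CommRingCat.of k) ⟶ X) :
    x = y ↔ (x.appTop ≫ (Scheme.ΓSpecIso _).hom).hom = (y.appTop ≫ (Scheme.ΓSpecIso _).hom).hom := by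
  refine ⟨fun h => h ▸ rfl, fun h => ?_⟩
  refine ext_of_isAffine ?_
  exact (cancel_mono _).mp (CommRingCat.hom_ext h)

theorem specMap_inv_comp {X Y : Scheme.{u}} [IsAffine X] [IsAffine Y] (g : X ⟶ Y) {k : Type u}
    [CommRing k] (ρ : Γ(X, ⊤) →+* k) (χ : Γ(Y, ⊤) →+* k) (h : ρ.comp g.appTop.hom = χ) :
    (Spec.map (CommRingCat.ofHom ρ) ≫ X.isoSpec.inv) ≫ g =
      Spec.map (CommRingCat.ofHom χ) ≫ Y.isoSpec.inv := by
  subst h
  rw [Category.assoc, ← Scheme.isoSpec_inv_naturality, ← Category.assoc, ← Spec.map_comp]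
  rfl

theorem eq_specMap_inv {Y : Scheme.{u}} [IsAffine Y] {k : Type u} [CommRing k]
    (x : Spec (CommRingCat.of k) ⟶ Y) :
    x = Spec.map (CommRingCat.ofHom (x.appTop ≫ (Scheme.ΓSpecIso (CommRingCat.of k)).hom).hom) ≫
      Y.isoSpec.inv := by
  rw [← cancel_mono Y.isoSpec.hom, Category.assoc, Iso.inv_hom_id, Category.comp_id,
    ← Scheme.isoSpec_hom_naturality, Scheme.isoSpec_Spec_hom, ← Spec.map_comp]
  rfl

theorem point_toQuot {S : Scheme.{u}} (G : Grpd.GroupoidScheme S) [IsAffine G.U] :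
    G.toQuot = G.U.isoSpec.hom ≫ Spec.map (CommRingCat.ofHom G.invariants.subtype) := rfl


/-- Let (U, R, s, t, c) be a groupoid scheme over S with U, R affine and s, t finite locally free, and M
= Spec C. (1) U → M is surjective and two points of U have the same image iff some point of R has
them as target and source. (2) For every algebraically closed field k, M(k) = U(k)/R(k): every
k-point of M lifts to U, and two k-points of U agree in M iff they are the target and source of a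
k-point of R. (A groupoid scheme carries U, R, s, t, c, e, i over S with the groupoid axioms on
T-points; 'finite locally free' is finite, flat and locally of finite presentation; C ⊂ Γ(U) is the
ring of functions a with s♯(a) = t♯(a) and M = Spec C.) -/
theorem result (S : Scheme.{u}) (G : Grpd.GroupoidScheme S) [IsAffine G.U] [IsAffine G.R] [IsFinite G.s] [Flat G.s] [LocallyOfFinitePresentation G.s] [IsFinite G.t] [Flat G.t] [LocallyOfFinitePresentation G.t] : (Function.Surjective G.toQuot ∧ ∀ u₀ u₁ : G.U, G.toQuot u₀ = G.toQuot u₁ ↔ ∃ r : G.R, G.t r = u₀ ∧ G.s r = u₁) ∧ ∀ (k : Type u) [Field k] [IsAlgClosed k], (∀ m : Spec (CommRingCat.of k) ⟶ Spec (CommRingCat.of G.invariants), ∃ x : Spec (CommRingCat.of k) ⟶ G.U, x ≫ G.toQuot = m) ∧ ∀ x₀ x₁ : Spec (CommRingCat.of k) ⟶ G.U, x₀ ≫ G.toQuot = x₁ ≫ G.toQuot ↔ ∃ r : Spec (CommRingCat.of k) ⟶ G.R, r ≫ G.t = x₀ ∧ r ≫ G.s = x₁ := by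
  letI := Grpd80.algR G
  letI := Grpd80.algP G
  obtain ⟨D, hs, ht, -⟩ := Grpd80.exists_grpdRing G
  have hC : D.IsInvariants := fun a ha => by
    rw [hs, ht] at ha
    exact ⟨⟨a, ha⟩, rfl⟩
  have hinj : Function.Injective (algebraMap G.invariants Γ(G.U, ⊤)) := Subtype.val_injective
  have hwq : G.t ≫ G.toQuot = G.s ≫ G.toQuot := by
    refine ext_of_isAffine ?_
    rw [Scheme.Hom.comp_appTop, Scheme.Hom.comp_appTop,
      show G.toQuot.appTop = (Scheme.ΓSpecIso _).hom ≫ CommRingCat.ofHom G.invariants.subtype from ?_]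
    · ext c
      exact ((Scheme.ΓSpecIso (CommRingCat.of G.invariants)).hom c).2.symm
    · simp [Grpd.GroupoidScheme.toQuot]
  have hkpt : ∀ (k : Type u) [Field k] [IsAlgClosed k],
      (∀ m : Spec (CommRingCat.of k) ⟶ Spec (CommRingCat.of G.invariants),
        ∃ x : Spec (CommRingCat.of k) ⟶ G.U, x ≫ G.toQuot = m) ∧
      ∀ x₀ x₁ : Spec (CommRingCat.of k) ⟶ G.U, x₀ ≫ G.toQuot = x₁ ≫ G.toQuot ↔
        ∃ r : Spec (CommRingCat.of k) ⟶ G.R, r ≫ G.t = x₀ ∧ r ≫ G.s = x₁ := by
    intro k _ _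
    refine ⟨fun m => ?_, fun x₀ x₁ => ⟨fun h => ?_, ?_⟩⟩
    · obtain ⟨χ, hχ⟩ := D.exists_point_lift hC hinj (Spec.preimage m).hom
      refine ⟨Spec.map (CommRingCat.ofHom χ) ≫ G.U.isoSpec.inv, ?_⟩
      rw [point_toQuot, Category.assoc, Iso.inv_hom_id_assoc, ← Spec.map_comp, ← Spec.map_preimage m]
      congr 1
      exact CommRingCat.hom_ext hχ
    · have key : ∀ x : Spec (CommRingCat.of k) ⟶ G.U,
          (Spec.preimage (x ≫ G.toQuot)).hom =
            (x.appTop ≫ (Scheme.ΓSpecIso _).hom).hom.comp (algebraMap G.invariants Γ(G.U, ⊤)) := by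
        intro x
        rw [show x ≫ G.toQuot = Spec.map (CommRingCat.ofHom G.invariants.subtype ≫ x.appTop ≫
          (Scheme.ΓSpecIso _).hom) from ?_, Spec.preimage_map]
        · rfl
        · rw [point_toQuot, Spec.map_comp, ← Category.assoc]
          congr 1
          rw [← Scheme.isoSpec_hom_naturality, Scheme.isoSpec_Spec_hom, ← Spec.map_comp]
      obtain ⟨ρ, hρt, hρs⟩ := D.exists_point_arrow hC _ _ ((key x₀).symm.trans ((h ▸ key x₁)))
      refine ⟨Spec.map (CommRingCat.ofHom ρ) ≫ G.R.isoSpec.inv, ?_, ?_⟩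
      · rw [eq_specMap_inv x₀]
        refine specMap_inv_comp _ _ _ ?_
        rw [← hρt]; ext a; simp [ht]
      · rw [eq_specMap_inv x₁]
        refine specMap_inv_comp _ _ _ ?_
        rw [← hρs]; ext a; simp [hs]
    · rintro ⟨r, rfl, rfl⟩
      rw [Category.assoc, Category.assoc, hwq]
  refine ⟨⟨?_, fun u₀ u₁ => ⟨fun h => ?_, ?_⟩⟩, hkpt⟩
  · have := D.isIntegral hC
    rw [point_toQuot, Scheme.Hom.comp_base, TopCat.coe_comp]
    refine Function.Surjective.comp (fun q => ?_) G.U.isoSpec.hom.surjective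
    have : q.asIdeal.IsPrime := q.isPrime
    obtain ⟨P', -, hP', hcomap⟩ := Ideal.exists_ideal_over_prime_of_isIntegral
      (R := G.invariants) (S := Γ(G.U, ⊤)) q.asIdeal (⊥ : Ideal Γ(G.U, ⊤))
      (by rw [Ideal.comap_bot_of_injective _ hinj]; exact bot_le)
    exact ⟨⟨P', hP'⟩, PrimeSpectrum.ext hcomap⟩
  · set p₀ := (G.U.isoSpec.hom u₀).asIdeal with hp₀
    set p₁ := (G.U.isoSpec.hom u₁).asIdeal with hp₁
    have : p₀.IsPrime := (G.U.isoSpec.hom u₀).isPrime
    have : p₁.IsPrime := (G.U.isoSpec.hom u₁).isPrime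
    obtain ⟨Q, hQ, hQs, hQt⟩ := D.exists_arrow hC p₀ p₁ congr($h |>.asIdeal)
    let y : (Spec Γ(G.R, ⊤) : Scheme.{u}) := ⟨Q, hQ⟩
    have hy : ∀ g : G.R ⟶ G.U, (G.U.isoSpec.hom (g (G.R.isoSpec.inv y))) = Spec.map g.appTop y := fun g => by
      rw [← Scheme.Hom.comp_apply, ← Scheme.Hom.comp_apply, ← Scheme.isoSpec_hom_naturality,
        Iso.inv_hom_id_assoc]
    refine ⟨G.R.isoSpec.inv y, ?_, ?_⟩
    · apply G.U.isoSpec.hom.homeomorph.injective
      change G.U.isoSpec.hom _ = G.U.isoSpec.hom _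
      rw [hy]
      refine PrimeSpectrum.ext ?_
      change Q.comap G.t.appTop.hom = p₀
      rw [← hQt]
      exact congrArg (Ideal.comap · Q) (RingHom.ext fun a => (ht a).symm)
    · apply G.U.isoSpec.hom.homeomorph.injective
      change G.U.isoSpec.hom _ = G.U.isoSpec.hom _
      rw [hy]
      refine PrimeSpectrum.ext ?_
      change Q.comap G.s.appTop.hom = p₁
      rw [← hQs]
      exact congrArg (Ideal.comap · Q) (RingHom.ext fun a => (hs a).symm)
  · rintro ⟨r, rfl, rfl⟩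
    rw [← Scheme.Hom.comp_apply, ← Scheme.Hom.comp_apply, hwq]

end Groth.Agent.S1878
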