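import Groth.Statements.S1341
import Groth.Agent.S4961
import Groth.Agent.CM62.Basic
import Groth.Agent.E4O.FibreComp

set_option autoImplicit false
universe u
open FlatMor

namespace Groth.Agent.S1341

open AlgebraicGeometry CategoryTheory Limits in
/-- Let f : X ⟶ S be flat and locally of finite presentation. Then the set of points of X at which f is
Cohen–Macaulay is open in X, and its intersection with every fibre of f is dense in that fibre. -/
theorem result {X S : Scheme.{u}} (f : X ⟶ S) [Flat f] [LocallyOfFinitePresentation f] :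
    IsOpen {x : ↑X | MoreMor.IsCMAt f x} ∧ ∀ s : S, Dense ((f.fiberι s) ⁻¹' {x : ↑X | MoreMor.IsCMAt f x}) := by
  refine ⟨Groth.Agent.S4961.result f, fun s => dense_iff_inter_open.2 fun O hO hne => ?_⟩
  obtain ⟨w, hw⟩ := hne
  obtain ⟨z, hz, hfz, hmax, hd, -⟩ := Groth.Agent.E4O.exists_isFibreMax_specializes f (f.fiberι s w)
  rw [Groth.Agent.E4O.apply_fiberι] at hfz
  obtain ⟨w', rfl⟩ := Groth.Agent.E4O.exists_fiberι_eq f hfz
  refine ⟨w', ((Groth.Agent.E4O.specializes_fiberι_iff f s w' w).1 hz).mem_open hO hw, ?_⟩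
  show MoreMor.IsCMAt f (f.fiberι s w')
  obtain ⟨k, hk, hk'⟩ := Groth.Agent.CM62.exists_fibre_dim f (f.fiberι s w')
  rw [Groth.Agent.E4O.fibreDimAt_eq_fdeg (f := f) fun v h1 h2 => hmax v h1 h2] at hk'
  have hk0 : k = 0 := by
    have := WithBot.coe_inj.1 hk'
    norm_cast at this
    omega
  have := Groth.Agent.CM62.isNoetherianRing_fibQuot f (f.fiberι s w')
  have := Groth.Agent.CM62.isLocalRing_fibQuot f (f.fiberι s w')
  refine ⟨Flat.stalkMap f _, (Groth.Agent.FlatMor68.CMComp.cm_fibre_iff f _).2 (Groth.Agent.CAlg1.cmLocal_iff.2 ?_)⟩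
  rw [Groth.Agent.CM62.ringKrullDim_fibQuot, hk, hk0]
  exact WithBot.coe_le_coe.2 bot_le

end Groth.Agent.S1341
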