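import Groth.Statements.S11129
import Groth.Agent.S4342
import Groth.Agent.QC70.DevissageAux
set_option autoImplicit false
universe u
open CategoryTheory AlgebraicGeometry
open QCohCat

namespace Groth.Agent.S11129


open AlgebraicGeometry CategoryTheory Limits TopologicalSpace in
theorem mono_hom {Y : Scheme.{u}} {N M : QCohCat.QCoh Y} (f : N ⟶ M) [Mono f] : Mono f.hom := by
  haveI : N.obj.IsQuasicoherent := N.property
  haveI : M.obj.IsQuasicoherent := M.property
  refine Preadditive.mono_of_cancel_zero _ fun {Z} g hg => ?_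
  let K : QCohCat.QCoh Y := ⟨kernel f.hom, QC70.isQuasicoherent_kernel f.hom⟩
  let k : K ⟶ N := ObjectProperty.homMk (kernel.ι f.hom)
  have h0 : kernel.ι f.hom = 0 := by
    have h : k ≫ f = (ObjectProperty.homMk 0 : K ⟶ N) ≫ f :=
      (ObjectProperty.ι _).map_injective (by simp [k])
    exact congr(($((cancel_mono f).mp h)).hom)
  rw [← kernel.lift_ι f.hom g hg, h0, comp_zero]

open AlgebraicGeometry CategoryTheory Limits TopologicalSpace in
theorem hom_eq_zero_of_sections {Y : Scheme.{u}} {N Q : Y.Modules} [N.IsQuasicoherent] (φ : N ⟶ Q)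
    {ι : Type*} (U : ι → Y.Opens) (hU : ∀ i, IsAffineOpen (U i)) (hcov : ⨆ i, U i = ⊤)
    (h : ∀ i (t : Γ(N, U i)), φ.app (U i) t = 0) : φ = 0 := by
  have hz : ∀ (x : Y) (e : N.presheaf.stalk x), QC70.stalkMapM φ x e = 0 := by
    intro x e
    obtain ⟨i, hxi⟩ : ∃ i, x ∈ U i := Opens.mem_iSup.mp (hcov.ge (show x ∈ ⊤ from trivial))
    obtain ⟨f, t, hxf, ht⟩ :=
      QC70.stalk_exists_smul (QC70.isLocAt_of_isQuasicoherent N (hU i)) (hU i) hxi e
    refine (QC70.isUnit_germ hxf).smul_eq_zero.mp ?_
    change Y.presheaf.germ (U i) x hxi f • QC70.stalkLinear φ x e = 0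
    rw [← LinearMap.map_smul, ht]
    change QC70.stalkMapM φ x _ = 0
    rw [QC70.stalkMapM_germ, h i t, QC70.germM_zero]
  haveI : Epi (kernel.ι φ) := QC70.epi_of_surjective_stalkMapM _ fun x e => by
    let S : ShortComplex Y.Modules := ShortComplex.mk (kernel.ι φ) φ (kernel.condition φ)
    haveI : Mono S.f := (inferInstance : Mono (kernel.ι φ))
    exact QC70.stalkMapM_exact S (ShortComplex.exact_of_f_is_kernel _ (kernelIsKernel φ)) x e
      (hz x e)
  rw [← cancel_epi (kernel.ι φ), kernel.condition, comp_zero]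

open AlgebraicGeometry CategoryTheory Limits TopologicalSpace in
theorem exists_lift {Y : Scheme.{u}} {N N' M : Y.Modules} [N.IsQuasicoherent] [N'.IsQuasicoherent]
    [M.IsQuasicoherent] (j : N ⟶ M) (j' : N' ⟶ M) [Mono j']
    {ι : Type*} (U : ι → Y.Opens) (hU : ∀ i, IsAffineOpen (U i)) (hcov : ⨆ i, U i = ⊤)
    (h : ∀ i (t : Γ(N, U i)), ∃ t', j'.app (U i) t' = j.app (U i) t) :
    ∃ l : N ⟶ N', l ≫ j' = j := by
  refine ⟨Abelian.monoLift j' j (hom_eq_zero_of_sections _ U hU hcov fun i t => ?_),
    Abelian.monoLift_comp _ _ _⟩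
  obtain ⟨t', ht'⟩ := h i t
  have h0 := congr((Scheme.Modules.Hom.app $(cokernel.condition j') (U i)) t')
  change (cokernel.π j').app (U i) (j.app (U i) t) = 0
  rw [← ht']
  exact h0

/-- For a noetherian scheme Y, an object M of the category QCoh(O_Y) of quasi-coherent O_Y-modules (a
full subcategory of all O_Y-modules) is a noetherian object of that category if and only if M is
coherent (quasi-coherent of finite type). (The published statement also records that QCoh(O_Y) is a
locally noetherian category; only the characterisation of its noetherian objects is stated here.) -/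
theorem result (Y : Scheme.{u}) [IsNoetherian Y] (M : QCohCat.QCoh Y) :
    IsNoetherianObject M ↔ Coh.IsCoh M.obj := by
  open CategoryTheory.Limits in
  haveI : M.obj.IsQuasicoherent := M.property
  constructor
  · intro hN
    refine ⟨M.property, ?_⟩
    let S : Set (Subobject M) := {A | Coh.IsCoh (Subobject.underlying.obj A).obj}
    have hS : ∀ (C : Y.Modules) (hC : Coh.IsCoh C) (c : C ⟶ M.obj) [Mono c],
        ∃ (A : Subobject M) (e : C ⟶ (Subobject.underlying.obj A).obj),
          A ∈ S ∧ e ≫ A.arrow.hom = c := by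
      intro C hC c _
      let C' : QCohCat.QCoh Y := ⟨C, hC.1⟩
      let c' : C' ⟶ M := ObjectProperty.homMk c
      haveI : Mono c' := (ObjectProperty.ι _).mono_of_mono_map (by simpa [c'] using ‹Mono c›)
      refine ⟨Subobject.mk c', (Subobject.underlyingIso c').inv.hom,
        QC70.isCoh_of_iso ((ObjectProperty.ι _).mapIso (Subobject.underlyingIso c').symm) hC, ?_⟩
      exact congr(($(Subobject.underlyingIso_arrow c')).hom)
    have hne : S.Nonempty := by
      obtain ⟨A, -, hA, -⟩ := hS (kernel (𝟙 M.obj))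
        (QC70.isCoh_of_isZero (isZero_kernel_of_mono _)) (kernel.ι _)
      exact ⟨A, hA⟩
    obtain ⟨A, hA, hAmax⟩ := (wellFounded_gt (α := Subobject M)).has_min S hne
    let j := A.arrow.hom
    haveI : Mono j := mono_hom A.arrow
    haveI := hA.1
    haveI := hA.2
    obtain ⟨l, hl⟩ := exists_lift (𝟙 M.obj) j (fun U : Y.affineOpens => U.1)
      (fun U => U.2) (iSup_affineOpens_eq_top Y) fun U t => by
        obtain ⟨G', i', _, hG'q, hG'ft, g, hg⟩ := S4342.result
          (fun _ => ⟨⊤, trivial, TopologicalSpace.NoetherianSpace.set _⟩) M.obj U t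
        have hG' : Coh.IsCoh G' := ⟨hG'q, hG'ft⟩
        have hsum : Coh.IsCoh ((Subobject.underlying.obj A).obj ⊞ G') :=
          QC70.isCoh_X₂ (ShortComplex.mk (biprod.inl : (Subobject.underlying.obj A).obj ⟶ _ ⊞ G')
            biprod.snd biprod.inl_snd)
            (ShortComplex.Splitting.ofHasBinaryBiproduct _ _).shortExact hA hG'
        haveI := hsum.1
        haveI := hsum.2
        let β := biprod.desc j i'
        have him : Coh.IsCoh (Abelian.image β) :=
          ⟨QC70.isQuasicoherent_abelianImage β,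
            QC70.isFiniteType_of_epi (Abelian.factorThruImage β)⟩
        obtain ⟨B, e, hB, he⟩ := hS _ him (Abelian.image.ι β)
        have hAB : A ≤ B := Subobject.le_of_comm
          (ObjectProperty.homMk (biprod.inl ≫ Abelian.factorThruImage β ≫ e))
          ((ObjectProperty.ι _).map_injective (by simp [he, β, j]))
        have hBA : A = B := eq_of_le_of_not_lt hAB fun hlt => hAmax B hB hlt
        subst hBA
        let d : G' ⟶ (Subobject.underlying.obj A).obj :=
          biprod.inr ≫ Abelian.factorThruImage β ≫ e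
        have hd : d ≫ j = i' := by simp [d, j, he, β]
        refine ⟨d.app U g, ?_⟩
        change j.app U.1 (d.app U.1 g) = t
        have h1 : i'.app U.1 g = t := hg
        rw [← hd] at h1
        exact h1
    haveI : IsSplitEpi j := IsSplitEpi.mk' ⟨l, hl⟩
    exact QC70.isFiniteType_of_epi j
  · intro hM
    haveI := hM.2
    obtain ⟨n, U, hU, hcov⟩ : ∃ (n : ℕ) (U : Fin n → Y.Opens),
        (∀ i, IsAffineOpen (U i)) ∧ ⨆ i, U i = ⊤ := by
      obtain ⟨t, ht⟩ := isCompact_univ.elim_finite_subcover
        (fun V : Y.affineOpens => ((V.1 : Y.Opens) : Set Y)) (fun V => V.1.2) fun x _ => by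
          have h : x ∈ (⨆ V : Y.affineOpens, (V.1 : Y.Opens)) :=
            (iSup_affineOpens_eq_top Y).ge trivial
          obtain ⟨V, hV⟩ := TopologicalSpace.Opens.mem_iSup.mp h
          exact Set.mem_iUnion.mpr ⟨V, hV⟩
      refine ⟨t.card, fun i => ((t.equivFin.symm i : Y.affineOpens) : Y.Opens),
        fun i => (t.equivFin.symm i : Y.affineOpens).2, eq_top_iff.mpr fun x _ => ?_⟩
      obtain ⟨V, hV, hxV⟩ := Set.mem_iUnion₂.mp (ht (Set.mem_univ x))
      exact TopologicalSpace.Opens.mem_iSup.mpr ⟨t.equivFin ⟨V, hV⟩, by simpa using hxV⟩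
    rw [isNoetherianObject_iff_monotone_chain_condition]
    intro F
    let Φ : (i : Fin n) → Subobject M → Submodule Γ(Y, U i) Γ(M.obj, U i) := fun i A =>
      LinearMap.range
        ({ toFun := A.arrow.hom.app (U i)
           map_add' := fun a b => map_add _ a b
           map_smul' := fun r a => Scheme.Modules.Hom.app_smul .. } :
          Γ((Subobject.underlying.obj A).obj, U i) →ₗ[Γ(Y, U i)] Γ(M.obj, U i))
    have hmono : ∀ i, Monotone (Φ i) := by
      rintro i A B hAB _ ⟨a, rfl⟩
      refine ⟨(A.ofLE B hAB).hom.app (U i) a, ?_⟩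
      exact congr((Scheme.Modules.Hom.app $(congr(($(Subobject.ofLE_arrow hAB)).hom)) (U i)) a)
    have hstab : ∀ i, ∃ k, ∀ m, k ≤ m → Φ i (F k) = Φ i (F m) := fun i => by
      haveI : IsNoetherianRing Γ(Y, U i) :=
        IsLocallyNoetherian.component_noetherian ⟨U i, hU i⟩
      haveI := QC70.finite_sections_of_isFiniteType M.obj (hU i)
      exact monotone_stabilizes_iff_noetherian.mpr inferInstance
        ⟨fun k => Φ i (F k), (hmono i).comp F.2⟩
    choose k hk using hstab
    refine ⟨Finset.univ.sup k, fun m hm => le_antisymm (F.2 hm) ?_⟩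
    haveI : (Subobject.underlying.obj (F m)).obj.IsQuasicoherent :=
      (Subobject.underlying.obj (F m)).property
    haveI : (Subobject.underlying.obj (F (Finset.univ.sup k))).obj.IsQuasicoherent :=
      (Subobject.underlying.obj (F (Finset.univ.sup k))).property
    haveI := mono_hom (F (Finset.univ.sup k)).arrow
    obtain ⟨l, hl⟩ := exists_lift (F m).arrow.hom (F (Finset.univ.sup k)).arrow.hom U hU hcov
      fun i t => by
        have hki : k i ≤ Finset.univ.sup k := Finset.le_sup (Finset.mem_univ i)
        have he : Φ i (F m) = Φ i (F (Finset.univ.sup k)) :=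
          (hk i m (hki.trans hm)).symm.trans (hk i _ hki)
        obtain ⟨t', ht'⟩ := he.le ⟨t, rfl⟩
        exact ⟨t', ht'⟩
    exact Subobject.le_of_comm (ObjectProperty.homMk l)
      ((ObjectProperty.ι _).map_injective (by simp [hl]))

end Groth.Agent.S11129
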