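import Groth.Statements.S4208
import Groth.Agent.An92.Conn.EpsFull

set_option autoImplicit false
open CategoryTheory AlgebraicGeometry Topology TopologicalSpace
open An

namespace Groth.Agent.S4208

/-- For X locally of finite type over ℂ, the functor U ↦ U(ℂ) from etale X-schemes to spaces over X(ℂ)
is faithful, and it is full towards etale X-schemes V that are separated over X: every continuous
map U(ℂ) → V(ℂ) over X(ℂ) is induced by a unique X-morphism U → V. Finite etale X-schemes are
separated over X, so this contains the full faithfulness of the passage from finite etale covers of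
X to finite covering spaces of X(ℂ). The statement assumes that every etale morphism of schemes
locally of finite type over ℂ induces a local homeomorphism on ℂ-points (this holds and is stated
separately). (The published statement asserts fullness for all etale X-schemes V; its published
proof treats affine, hence separated, V, and fullness is stated here for targets separated over X
only.) -/
theorem result (X : Scheme.{0}) [X.Over An.SC] [LocallyOfFiniteType (X ↘ An.SC)]
    [Fact An.EtaleLH] :
    (∀ (U V : X.Etale) [IsSeparated (V.left ↘ X)],
        Function.Surjective ((An.eps X).map : (U ⟶ V) → ((An.eps X).obj U ⟶ (An.eps X).obj V))) ∧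
      (An.eps X).Faithful := by
  have hlft : ∀ U : X.Etale, LocallyOfFiniteType (U.left ↘ An.SC) := fun U =>
    inferInstanceAs (LocallyOfFiniteType ((U.left ↘ X) ≫ X ↘ An.SC))
  refine ⟨fun U V _ h => ?_, ⟨fun {U V} g g' hgg => ?_⟩⟩
  · obtain ⟨g, _, hgb, hg⟩ := Groth.Agent.An92.exists_map_eq_of_continuous (U.left ↘ X) (V.left ↘ X)
      h.toFun h.continuous h.over
    refine ⟨MorphismProperty.Over.homMk g hgb, An.Cl.hom_ext (funext fun x => ?_)⟩
    exact (Subtype.ext (congrArg Subtype.val (congrFun hg x) :) :)
  · refine MorphismProperty.Over.Hom.ext ?_
    refine Groth.Agent.An92.eq_of_map_eq (V.left ↘ X) g.left g'.left ?_ (funext fun x => ?_)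
    · exact (Over.w g.hom).trans (Over.w g'.hom).symm
    · exact congrFun (congrArg An.Cl.Hom.toFun hgg) x

end Groth.Agent.S4208
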