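import Groth.Statements.S8976
import Groth.Agent.HTop50.HRefine
import Groth.Agent.HTop50.Cartesian

set_option autoImplicit false
universe w u
open HTop

namespace Groth.Agent.S8976

open CategoryTheory CategoryTheory.Limits AlgebraicGeometry in
/-- For a family of morphisms of schemes with fixed target all of whose members are locally of finite
presentation, being a ph covering is equivalent to being a V covering. -/
theorem result {X : Scheme.{u}} (E : PreZeroHypercover.{w} X) (hE : ∀ i, LocallyOfFinitePresentation (E.f i)) : HTop.IsPhCover E ↔ HTop.IsVCover E := by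
  refine ⟨fun h => Groth.Agent.HTop50.isVCover_of_isPhCover h, fun h => ⟨fun i => ?_, fun U => ?_⟩⟩
  · have := hE i
    infer_instance
  have : IsAffine (U : X.Opens) := U.2
  obtain ⟨Y, g, n, V, hg, hgs, -, hV, hcov, hfac⟩ :=
    Groth.Agent.HTop50.exists_proper_refining (E.pullback₁ (U : X.Opens).ι)
      (fun i => by
        have := hE i
        exact inferInstanceAs (LocallyOfFinitePresentation (pullback.fst (U : X.Opens).ι (E.f i))))
      (Groth.Agent.VCov93.isVCover_pullback _ h)
  refine ⟨⟨Fin n, fun k => ((V k : Y.Opens) : Scheme.{u}), fun k => (V k).ι ≫ g⟩,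
    ⟨inferInstance, inferInstanceAs (Finite (Fin n)), fun k => hV k, Y, g, fun k => (V k).ι, hg, hgs,
      fun k => inferInstanceAs (IsOpenImmersion (V k).ι), fun k => rfl, fun y => ?_⟩, fun k => ?_⟩
  · obtain ⟨k, hk⟩ := TopologicalSpace.Opens.mem_iSup.1 (hcov.symm ▸ TopologicalSpace.Opens.mem_top y)
    exact ⟨k, ⟨y, hk⟩, rfl⟩
  · obtain ⟨i, h', hh⟩ := hfac k
    let i' : E.I₀ := i
    let h₁ : (V k : Scheme.{u}) ⟶ pullback (U : X.Opens).ι (E.f i') := h'
    have hh₁ : h₁ ≫ pullback.fst (U : X.Opens).ι (E.f i') = (V k).ι ≫ g := hh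
    refine ⟨i', h₁ ≫ pullback.snd _ _, ?_⟩
    show (h₁ ≫ pullback.snd (U : X.Opens).ι (E.f i')) ≫ E.f i' = ((V k).ι ≫ g) ≫ (U : X.Opens).ι
    rw [Category.assoc, ← pullback.condition, ← hh₁, Category.assoc]

end Groth.Agent.S8976
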