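import Groth.Statements.S1454
import Groth.Agent.Fam20.ChevalleyOpenMap
import Groth.Agent.E4O.QuasiSectionEquidim

set_option autoImplicit false
universe u
open FlatMor

namespace Groth.Agent.S1454

open AlgebraicGeometry CategoryTheory Limits in
/-- Consider a locally quasi-finite f : X → Y whose target is locally Noetherian with geometrically
unibranch local rings, and assume every irreducible component of X dominates an irreducible
component of Y (its generic point maps to a generic point of an irreducible component of Y). Then f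
is universally open. -/
theorem result {X Y : Scheme.{u}} (f : X ⟶ Y) [LocallyQuasiFinite f] [LocallyOfFiniteType f] [IsLocallyNoetherian Y]
    (hY : ∀ y : Y, CAlg2.IsGeomUnibranch (Y.presheaf.stalk y))
    (hdom : ∀ Z ∈ irreducibleComponents ↑X, ∀ x : X, IsGenericPoint x Z → ∃ W ∈ irreducibleComponents ↑Y, IsGenericPoint (f x) W) :
    UniversallyOpen f := by
  refine Groth.Agent.Fam20.universallyOpen_of_geomUnibranch' f hY
    (fun θ hθ => Groth.Agent.Fam20.isOpen_closure_of_unibranch_of_isLocallyNoetherian
      (fun y => (hY y).1) hθ) fun x => ?_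
  obtain ⟨Z, hZ, hxZ⟩ := exists_mem_irreducibleComponents_subset_of_isIrreducible {x}
    isIrreducible_singleton
  obtain ⟨ξ, rfl, -⟩ := Groth.Agent.Fam20.specializes_of_component hZ
  obtain ⟨W, hW, hfW⟩ := hdom _ hZ ξ isGenericPoint_closure
  refine ⟨ξ, specializes_iff_mem_closure.2 (hxZ rfl), hfW.def.symm ▸ hW, fun z _ _ _ => ?_⟩
  rw [Groth.Agent.E4O.fdeg_eq_zero_of_closed_in_fibre (f := f) (x := z) fun x' hfx' hsp => ?_]
  · exact Nat.zero_le _
  · have : DiscreteTopology ↥(f ⁻¹' {f z}) := (f.isDiscrete_preimage_singleton (f z)).to_subtype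
    have h2 : (⟨z, rfl⟩ : ↥(f ⁻¹' {f z})) ⤳ ⟨x', hfx'⟩ := (subtype_specializes_iff _ _).2 hsp
    exact congrArg Subtype.val h2.eq.symm

end Groth.Agent.S1454
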