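import Groth.Statements.S1994
import Groth.Agent.Hens22.PairOps
import Groth.Agent.CAlg1.Complete
import Mathlib.RingTheory.AdicCompletion.Functoriality
import Mathlib.RingTheory.Filtration

set_option autoImplicit false
universe u
open EtAlg

namespace Groth.Agent.S1994

open Groth.Agent.Hens22

theorem exists_sub_mem_pow' {A S : Type u} [CommRing A] [CommRing S] [Algebra A S] (I : Ideal A)
    (h1 : ∀ y : S, ∃ a : A, y - algebraMap A S a ∈ I.map (algebraMap A S)) (n : ℕ) (x : S) :
    ∃ a : A, x - algebraMap A S a ∈ (I ^ n).map (algebraMap A S) := by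
  induction n generalizing x with
  | zero => exact ⟨0, by rw [pow_zero, Ideal.one_eq_top, Ideal.map_top]; trivial⟩
  | succ n ih =>
    obtain ⟨a, ha⟩ := ih x
    have h2 : ∀ z ∈ (I ^ n).map (algebraMap A S),
        ∃ b : A, z - algebraMap A S b ∈ (I ^ (n + 1)).map (algebraMap A S) := by
      intro z hz
      induction hz using Submodule.span_induction with
      | mem w hw => obtain ⟨b, -, rfl⟩ := hw; exact ⟨b, by simp⟩
      | zero => exact ⟨0, by simp⟩
      | add v w _ _ hv hw =>
        obtain ⟨b, hb⟩ := hv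
        obtain ⟨c, hc⟩ := hw
        refine ⟨b + c, ?_⟩
        convert add_mem hb hc using 1
        rw [map_add]; ring
      | smul r w hw' hw =>
        obtain ⟨b, hb⟩ := hw
        obtain ⟨c, hc⟩ := h1 r
        refine ⟨c * b, ?_⟩
        have h4 : (r - algebraMap A S c) * w ∈ (I ^ (n + 1)).map (algebraMap A S) := by
          rw [pow_succ', Ideal.map_mul]
          exact Ideal.mul_mem_mul hc hw'
        convert add_mem h4 (Ideal.mul_mem_left _ (algebraMap A S c) hb) using 1
        rw [map_mul, smul_eq_mul]; ring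
    obtain ⟨b, hb⟩ := h2 _ ha
    exact ⟨a + b, by rwa [map_add, ← sub_sub]⟩

variable {A : Type u} [CommRing A] (I : Ideal A) {B : Type u} [CommRing B] [Algebra A B]

theorem mem_pow_of_algebraMap_mem (hB : Hens2.IsPairHenselization A I B) (n : ℕ) {a : A}
    (h : algebraMap A B a ∈ (I ^ n).map (algebraMap A B)) : a ∈ I ^ n := by
  have := (quotientMap_pow_bijective hB n).1 (a₁ := Ideal.Quotient.mk _ a) (a₂ := 0) (by
    rw [Ideal.quotientMap_mk, map_zero, Ideal.Quotient.eq_zero_iff_mem]; exact h)
  rwa [Ideal.Quotient.eq_zero_iff_mem] at this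

theorem isNoetherianRing_pairHens [IsNoetherianRing A] (hB : Hens2.IsPairHenselization A I B) :
    IsNoetherianRing B := by
  classical
  haveI := hB.1
  have hfg : I.FG := IsNoetherian.noetherian I
  haveI : IsNoetherianRing (AdicCompletion I A) := Groth.Agent.CAlg1.isNoetherianRing_adicCompletion I hfg
  let J := I.map (algebraMap A (AdicCompletion I A))
  haveI : IsAdicComplete J (AdicCompletion I A) := AdicCompletion.isAdicComplete_self I hfg
  obtain ⟨ψ⟩ := pairHens_exists_algHom hB J le_rfl
  -- the finite levels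
  have hker : ∀ (n : ℕ) (z : B), AdicCompletion.evalₐ I n (ψ z) = 0 → z ∈ (I ^ n).map (algebraMap A B) := by
    intro n z hz
    obtain ⟨a, ha⟩ := exists_sub_mem_pow hB n z
    have hle : (I ^ n).map (algebraMap A B) ≤ RingHom.ker ((AdicCompletion.evalₐ I n).comp ψ) :=
      Ideal.map_le_iff_le_comap.2 fun b hb => by
        show ((AdicCompletion.evalₐ I n).comp ψ) (algebraMap A B b) = 0
        rw [AlgHom.commutes, Ideal.Quotient.algebraMap_eq, Ideal.Quotient.eq_zero_iff_mem]
        exact hb
    have h0 : ((AdicCompletion.evalₐ I n).comp ψ) (z - algebraMap A B a) = 0 := hle ha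
    rw [map_sub, AlgHom.commutes, AlgHom.comp_apply, hz, zero_sub, neg_eq_zero,
      Ideal.Quotient.algebraMap_eq, Ideal.Quotient.eq_zero_iff_mem] at h0
    simpa using add_mem ha (Ideal.mem_map_of_mem (algebraMap A B) h0)
  refine (isNoetherianRing_iff_ideal_fg B).2 fun b => ?_
  obtain ⟨s, hs, hspan⟩ := Submodule.fg_span_iff_fg_span_finset_subset (R := AdicCompletion I A)
    (ψ '' b) |>.mp (IsNoetherian.noetherian (R := AdicCompletion I A) (M := AdicCompletion I A) _)
  obtain ⟨t, htb, rfl⟩ := Finset.subset_set_image_iff.mp hs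
  refine ⟨t, le_antisymm (Ideal.span_le.mpr htb) fun x hx => ?_⟩
  have hall : ∀ n : ℕ, x ∈ Ideal.span (t : Set B) ⊔ (I ^ n).map (algebraMap A B) := by
    intro n
    have h1 : ψ x ∈ Submodule.span (AdicCompletion I A) ((t.image ψ : Finset _) : Set (AdicCompletion I A)) :=
      hspan.le (Submodule.subset_span ⟨x, hx, rfl⟩)
    rw [Finset.coe_image] at h1
    have h2 : ∀ w ∈ Submodule.span (AdicCompletion I A) (ψ '' (t : Set B)),
        ∃ y ∈ Ideal.span (t : Set B), AdicCompletion.evalₐ I n (ψ y) = AdicCompletion.evalₐ I n w := by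
      intro w hw
      induction hw using Submodule.span_induction with
      | mem w hw => obtain ⟨y, hy, rfl⟩ := hw; exact ⟨y, Ideal.subset_span hy, rfl⟩
      | zero => exact ⟨0, zero_mem _, by simp⟩
      | add u v _ _ hu hv =>
        obtain ⟨y, hy, hyu⟩ := hu
        obtain ⟨z, hz, hzv⟩ := hv
        exact ⟨y + z, add_mem hy hz, by simp [hyu, hzv]⟩
      | smul c u _ hu =>
        obtain ⟨y, hy, hyu⟩ := hu
        obtain ⟨a, ha⟩ := Ideal.Quotient.mk_surjective (AdicCompletion.evalₐ I n c)
        refine ⟨algebraMap A B a * y, Ideal.mul_mem_left _ _ hy, ?_⟩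
        rw [map_mul, map_mul, AlgHom.commutes, AlgHom.commutes, smul_eq_mul, map_mul, hyu,
          Ideal.Quotient.algebraMap_eq, ha]
    obtain ⟨y, hy, hyx⟩ := h2 _ h1
    have := hker n (x - y) (by rw [map_sub, map_sub, hyx, sub_self])
    exact Submodule.mem_sup.2 ⟨y, hy, x - y, this, add_sub_cancel _ _⟩
  -- descend to a stage
  let e := t.equivFin
  let v : Fin (t.card + 1) → B := Fin.cons x fun i => (e.symm i : B)
  obtain ⟨R', _, _, _, hbij, φ, w, hw⟩ := exists_stage hB v
  haveI : IsNoetherianRing R' := Algebra.FiniteType.isNoetherianRing A R'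
  let g : Set R' := Set.range fun i : Fin t.card => w i.succ
  have hφg : ∀ i : Fin t.card, φ (w i.succ) ∈ Ideal.span (t : Set B) := fun i => by
    rw [hw]
    exact Ideal.subset_span (e.symm i).2
  have h1' : ∀ y : R', ∃ a : A, y - algebraMap A R' a ∈ I.map (algebraMap A R') := fun y => by
    obtain ⟨q, hq⟩ := hbij.2 (Ideal.Quotient.mk _ y)
    obtain ⟨a, rfl⟩ := Ideal.Quotient.mk_surjective q
    rw [Ideal.quotientMap_mk, Ideal.Quotient.mk_eq_mk_iff_sub_mem] at hq
    exact ⟨a, by rw [← neg_sub]; exact neg_mem hq⟩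
  have hφI : ∀ n, ((I ^ n).map (algebraMap A R')).map φ.toRingHom = (I ^ n).map (algebraMap A B) := fun n => by
    rw [Ideal.map_map]; exact congrArg (fun f => Ideal.map f (I ^ n)) φ.comp_algebraMap
  have hall' : ∀ n : ℕ, w 0 ∈ Ideal.span g ⊔ (I ^ n).map (algebraMap A R') := fun n => by
    obtain ⟨y, hy, z, hz, hyz⟩ := Submodule.mem_sup.1 (hall n)
    have hy' : ∃ y' ∈ Ideal.span g, φ y' - y ∈ (I ^ n).map (algebraMap A B) := by
      clear hyz
      induction hy using Submodule.span_induction with
      | mem y hy =>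
        refine ⟨w (e ⟨y, hy⟩).succ, Ideal.subset_span ⟨_, rfl⟩, ?_⟩
        rw [hw]; simp [v]
      | zero => exact ⟨0, zero_mem _, by simp⟩
      | add u v _ _ hu hv =>
        obtain ⟨a, ha, hau⟩ := hu
        obtain ⟨c, hc, hcv⟩ := hv
        refine ⟨a + c, add_mem ha hc, ?_⟩
        rw [map_add, add_sub_add_comm]
        exact add_mem hau hcv
      | smul r u _ hu =>
        obtain ⟨a, ha, hau⟩ := hu
        obtain ⟨c, hc⟩ := exists_sub_mem_pow hB n r
        refine ⟨algebraMap A R' c * a, Ideal.mul_mem_left _ _ ha, ?_⟩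
        rw [map_mul, AlgHom.commutes, smul_eq_mul,
          show algebraMap A B c * φ a - r * u = algebraMap A B c * (φ a - u) - (r - algebraMap A B c) * u by ring]
        exact sub_mem (Ideal.mul_mem_left _ _ hau) (Ideal.mul_mem_right _ _ hc)
    obtain ⟨y', hy', hyy⟩ := hy'
    have h3 : φ (w 0 - y') ∈ (I ^ n).map (algebraMap A B) := by
      rw [map_sub, hw, show v 0 - φ y' = z - (φ y' - y) by
        simp only [v, Fin.cons_zero]; linear_combination (-1 : B) * hyz]
      exact sub_mem hz hyy
    obtain ⟨a, ha⟩ := exists_sub_mem_pow' I h1' n (w 0 - y')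
    have ha' : algebraMap A B a ∈ (I ^ n).map (algebraMap A B) := by
      have := Ideal.mem_map_of_mem φ.toRingHom ha
      rw [hφI] at this
      have h4 := sub_mem h3 this
      simpa using h4
    have h5 := add_mem ha (Ideal.mem_map_of_mem (algebraMap A R') (mem_pow_of_algebraMap_mem I hB n ha'))
    rw [sub_add_cancel] at h5
    exact Submodule.mem_sup.2 ⟨y', hy', w 0 - y', h5, add_sub_cancel _ _⟩
  let N : Ideal R' := Ideal.span g
  let I' := I.map (algebraMap A R')
  have hinf : (Submodule.Quotient.mk (w 0) : R' ⧸ N) ∈ (⨅ n : ℕ, I' ^ n • ⊤ : Submodule R' (R' ⧸ N)) := by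
    refine (Submodule.mem_iInf _).2 fun n => ?_
    obtain ⟨y, hy, z, hz, hyz⟩ := Submodule.mem_sup.1 (hall' n)
    rw [← hyz, Submodule.Quotient.mk_add, (Submodule.Quotient.mk_eq_zero N).2 hy, zero_add,
      ← mul_one z, ← smul_eq_mul, Submodule.Quotient.mk_smul]
    rw [Ideal.map_pow] at hz
    exact Submodule.smul_mem_smul hz Submodule.mem_top
  obtain ⟨⟨r, hr⟩, hrx⟩ := (Ideal.mem_iInf_smul_pow_eq_bot_iff I' _).1 hinf
  have hmem : (1 - r) * w 0 ∈ N := by
    rw [← Submodule.Quotient.mk_eq_zero, sub_mul, one_mul, Submodule.Quotient.mk_sub, ← smul_eq_mul,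
      Submodule.Quotient.mk_smul]
    exact sub_eq_zero.2 hrx.symm
  have hunit : IsUnit (φ (1 - r)) := by
    have h6 : φ r ∈ I.map (algebraMap A B) := by
      have := Ideal.mem_map_of_mem φ.toRingHom hr
      rw [Ideal.map_map] at this
      rwa [show φ.toRingHom.comp (algebraMap A R') = algebraMap A B from φ.comp_algebraMap] at this
    have := Ideal.mem_jacobson_bot.1 (HenselianRing.jac (I := I.map (algebraMap A B)) h6) (-1)
    rwa [mul_neg, mul_one, ← sub_eq_neg_add, ← map_one φ, ← map_sub] at this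
  have hfin : φ ((1 - r) * w 0) ∈ Ideal.span (t : Set B) := by
    have := Ideal.mem_map_of_mem φ.toRingHom hmem
    refine (Ideal.map_le_iff_le_comap.2 ?_) this
    rw [Ideal.span_le]
    rintro _ ⟨i, rfl⟩
    exact hφg i
  rw [map_mul, hw] at hfin
  exact (Ideal.unit_mul_mem_iff_mem _ hunit).1 hfin

theorem map_bijective (hB : Hens2.IsPairHenselization A I B) :
    Function.Bijective (AdicCompletion.map I (Algebra.linearMap A B) :
        AdicCompletion I A → AdicCompletion I B) := by
  have hmem : ∀ (n : ℕ) (z : B), z ∈ (I ^ n • ⊤ : Submodule A B) ↔ z ∈ (I ^ n).map (algebraMap A B) := fun n z => by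
    rw [Ideal.smul_top_eq_map, Submodule.restrictScalars_mem]
  have hlev : ∀ n, Function.Bijective ((Algebra.linearMap A B).reduceModIdeal (I ^ n)) := fun n => by
    refine ⟨(injective_iff_map_eq_zero _).2 fun q hq => ?_, fun q => ?_⟩
    · obtain ⟨a, rfl⟩ := Submodule.mkQ_surjective _ q
      rw [Submodule.mkQ_apply, LinearMap.reduceModIdeal_apply, Submodule.Quotient.mk_eq_zero, hmem] at hq
      rw [Submodule.mkQ_apply, Submodule.Quotient.mk_eq_zero, smul_eq_mul, Ideal.mul_top]
      exact mem_pow_of_algebraMap_mem I hB n hq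
    · obtain ⟨z, rfl⟩ := Submodule.mkQ_surjective _ q
      obtain ⟨a, ha⟩ := exists_sub_mem_pow hB n z
      refine ⟨Submodule.Quotient.mk a, ((Submodule.Quotient.eq _).2 ((hmem _ _).2 ?_)).symm⟩
      exact ha
  refine ⟨fun x y hxy => AdicCompletion.ext (fun n => (hlev n).1 ?_), fun y => ?_⟩
  · rw [← AdicCompletion.map_val_apply, ← AdicCompletion.map_val_apply, hxy]
  · choose x hx using fun n => (hlev n).2 (y.val n)
    refine ⟨⟨x, fun {m n} hmn => (hlev m).1 ?_⟩, AdicCompletion.ext (fun n => hx n)⟩
    rw [hx, ← y.2 hmn, ← hx n]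
    exact (LinearMap.congr_fun (AdicCompletion.transitionMap_comp_reduceModIdeal I (Algebra.linearMap A B) hmn) (x n)).symm


/-- Let (A, I) be a pair with A Noetherian and B a henselization of the pair. Then B is Noetherian and
flat over A, and the induced map of adic completions, from the I-adic completion of A to the IB-adic
completion of B, is bijective. -/
theorem result (A : Type u) [CommRing A] [IsNoetherianRing A] (I : Ideal A)
    (B : Type u) [CommRing B] [Algebra A B] (hB : Hens2.IsPairHenselization A I B) :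
    IsNoetherianRing B ∧ Module.Flat A B ∧
      Function.Bijective (AdicCompletion.map I (Algebra.linearMap A B) :
        AdicCompletion I A → AdicCompletion I B) := by
  exact ⟨isNoetherianRing_pairHens I hB, pairHens_flat hB, map_bijective I hB⟩

end Groth.Agent.S1994
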