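import Groth.Statements.S9397
import Groth.Agent.CAlg5.NFinite
import Mathlib.RingTheory.Adjoin.Tower
import Mathlib.RingTheory.FiniteType
import Mathlib.RingTheory.IntegralClosure.IntegrallyClosed

set_option autoImplicit false
universe u
open CAlg

namespace Groth.Agent.S9397

/-- A ring R is universally Japanese provided that each R-algebra of finite type which is a domain is
N-1. -/
theorem result (R : Type u) [CommRing R]
    (h : ∀ (S : Type u) [CommRing S] [IsDomain S] [Algebra R S], Algebra.FiniteType R S → CAlg.IsN1 S) :
    CAlg.IsUniversallyJapanese R := by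
  intro S _ _ _ hS L _ _ _ _ _
  classical
  have hinj := CAlg5.algebraMap_injective_of_fractionRing S L
  obtain ⟨s, hs⟩ := (Module.Finite.fg_top : (⊤ : Submodule (FractionRing S) L).FG)
  have halg : ∀ x : L, IsAlgebraic S x := fun x =>
    (IsFractionRing.isAlgebraic_iff S (FractionRing S) L).mpr (IsAlgebraic.of_finite (FractionRing S) x)
  choose d hd0 hdint using fun x => (halg x).exists_integral_multiple
  let S' : Subalgebra S L := Algebra.adjoin S ((s.image fun x => d x • x : Finset L) : Set L)
  have : Module.Finite S S' := Module.Finite.iff_fg.mpr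
    (fg_adjoin_of_finite (Finset.finite_toSet _) fun y hy => by
      obtain ⟨x, -, rfl⟩ := Finset.mem_image.mp hy
      exact hdint x)
  let : Algebra R L := ((algebraMap S L).comp (algebraMap R S)).toAlgebra
  have : IsScalarTower R S L := IsScalarTower.of_algebraMap_eq fun _ => rfl
  have : Algebra.FiniteType S S' := inferInstance
  have hN1 : CAlg.IsN1 S' := h S' (Algebra.FiniteType.trans (R := R) (S := S) (A := S') inferInstance inferInstance)
  have hfrac : IsFractionRing S' L := by
    have hfield : ∀ x : L, x ∈ Subfield.closure (S' : Set L) := by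
      intro x
      have hx : x ∈ Submodule.span (FractionRing S) (s : Set L) := hs ▸ trivial
      induction hx using Submodule.span_induction with
      | mem y hy =>
        have h1 : d y • y ∈ S' := Algebra.subset_adjoin (Finset.mem_image_of_mem _ hy)
        have hd' : algebraMap S L (d y) ≠ 0 := fun h => hd0 y (hinj (by rw [h, map_zero]))
        have : y = (d y • y) / algebraMap S L (d y) := by rw [Algebra.smul_def]; field_simp
        rw [this]
        exact div_mem (Subfield.subset_closure h1) (Subfield.subset_closure (S'.algebraMap_mem _))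
      | zero => exact zero_mem _
      | add a b _ _ ha hb => exact add_mem ha hb
      | smul c a _ ha =>
        rw [Algebra.smul_def]
        refine mul_mem ?_ ha
        obtain ⟨n, m, hm, rfl⟩ := IsFractionRing.div_surjective (A := S) c
        rw [map_div₀, ← IsScalarTower.algebraMap_apply, ← IsScalarTower.algebraMap_apply]
        exact div_mem (Subfield.subset_closure (S'.algebraMap_mem _)) (Subfield.subset_closure (S'.algebraMap_mem _))
    refine IsFractionRing.of_field S' L fun z => ?_
    obtain ⟨y, hy, z', hz', rfl⟩ := (Subfield.mem_closure_iff.mp (hfield z))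
    have e : Subring.closure (S' : Set L) = S'.toSubring := Subring.closure_eq S'.toSubring
    rw [e] at hy hz'
    exact ⟨⟨y, hy⟩, ⟨z', hz'⟩, rfl⟩
  have hfin : Module.Finite S' (integralClosure S' L) := (CAlg5.isN1_iff S' L).mp hN1
  obtain ⟨T, hT1, hT2⟩ := (CAlg5.finite_integralClosure_iff S' L).mp hfin
  obtain ⟨G, hG⟩ := (Module.Finite.fg_top : (⊤ : Submodule S S').FG)
  have hint : ∀ g : S', IsIntegral S (g : L) := fun g =>
    (IsIntegral.of_finite S g).map S'.val
  refine (CAlg5.finite_integralClosure_iff S L).mpr
    ⟨(G ×ˢ T).image fun p => (p.1 : L) * p.2, fun y hy => ?_, fun x hx => ?_⟩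
  · obtain ⟨⟨g, t⟩, hgt, rfl⟩ := Finset.mem_image.mp hy
    exact (hint g).mul (isIntegral_trans t (hT1 t (Finset.mem_product.mp hgt).2))
  · have hxT := hT2 x hx.tower_top
    clear hx
    induction hxT using Submodule.span_induction with
    | mem t ht =>
      have h1 : (1 : S') ∈ Submodule.span S (G : Set S') := hG ▸ trivial
      have h2 := Submodule.mem_map_of_mem (f := (LinearMap.mulRight S t).comp S'.val.toLinearMap) h1
      rw [Submodule.map_span] at h2
      simp only [LinearMap.coe_comp, Function.comp_apply, AlgHom.toLinearMap_apply, map_one,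
        LinearMap.mulRight_apply, one_mul] at h2
      refine Submodule.span_mono ?_ h2
      rintro _ ⟨g, hg, rfl⟩
      exact Finset.mem_image.mpr ⟨(g, t), Finset.mem_product.mpr ⟨hg, ht⟩, rfl⟩
    | zero => exact zero_mem _
    | add a b _ _ ha hb => exact add_mem ha hb
    | smul u a ha0 ha =>
      clear ha0
      induction ha using Submodule.span_induction with
      | mem y hy =>
        obtain ⟨⟨g, t⟩, hgt, rfl⟩ := Finset.mem_image.mp hy
        have h1 : u * g ∈ Submodule.span S (G : Set S') := hG ▸ trivial
        have h2 := Submodule.mem_map_of_mem (f := (LinearMap.mulRight S t).comp S'.val.toLinearMap) h1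
        rw [Submodule.map_span] at h2
        simp only [LinearMap.coe_comp, Function.comp_apply, AlgHom.toLinearMap_apply, map_mul,
          LinearMap.mulRight_apply] at h2
        rw [Algebra.smul_def]
        show (u : L) * ((g : L) * t) ∈ _
        rw [← mul_assoc]
        refine Submodule.span_mono ?_ h2
        rintro _ ⟨g', hg', rfl⟩
        exact Finset.mem_image.mpr ⟨(g', t), Finset.mem_product.mpr ⟨hg', (Finset.mem_product.mp hgt).2⟩, rfl⟩
      | zero => rw [smul_zero]; exact zero_mem _
      | add a b _ _ ha hb => rw [smul_add]; exact add_mem ha hb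
      | smul v a _ ha => rw [smul_comm]; exact Submodule.smul_mem _ _ ha


end Groth.Agent.S9397
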