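import Groth.Statements.S11460
import Groth.Agent.Deform85.HBCodimTwo
import Groth.Agent.Deform85.HBSpread
import Groth.Agent.Deform85.AffineMarked
import Groth.Agent.CAlg1.CMPoly
import Groth.Agent.FlatMor68.FlatInfNbhd
import Mathlib.AlgebraicGeometry.Morphisms.Smooth
import Mathlib.RingTheory.Smooth.Basic

set_option autoImplicit false
universe u
open CategoryTheory AlgebraicGeometry
open DefT

namespace Groth.Agent.S11460

/-- Let X be smooth over a field k and Y ⊆ X a closed subscheme which is Cohen–Macaulay of codimension 2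
(all local rings of Y Cohen–Macaulay, and dim O_{X,y} = dim O_{Y,y} + 2 at every point y of Y). Then
each point of Y has an affine open neighbourhood U in X and an (r+1) × r matrix φ of functions on U
whose signed maximal minors f_i generate the ideal of Y ∩ U and give an exact sequence 0 → O(U)^r →
O(U)^{r+1} → O(U), hence a resolution of O_{Y ∩ U} on the affine U. -/
theorem result (k : Type u) [Field k]
    (X Y : Scheme.{u}) (f : X ⟶ Spec (CommRingCat.of k)) [Smooth f] (ι : Y ⟶ X) [IsClosedImmersion ι]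
    (hCM : ∀ y : Y, LocCoh.IsCohenMacaulayLocalRing (Y.presheaf.stalk y))
    (hcodim : ∀ y : Y, ringKrullDim (Y.presheaf.stalk y) + 2 = ringKrullDim (X.presheaf.stalk (ι.base y)))
    (y : Y) :
    ∃ U : X.affineOpens, ι.base y ∈ (U : X.Opens) ∧ ∃ (r : ℕ) (φ : Matrix (Fin (r + 1)) (Fin r) Γ(X, U)),
      (Ideal.span (Set.range (fun i : Fin (r + 1) => (-1 : Γ(X, U)) ^ (i : ℕ) * ((φ).submatrix i.succAbove id).det)) = ι.ker.ideal U ∧
        Function.Injective (φ).mulVecLin ∧
        LinearMap.range (φ).mulVecLin = LinearMap.ker (Fintype.linearCombination Γ(X, U) (fun i : Fin (r + 1) => (-1 : Γ(X, U)) ^ (i : ℕ) * ((φ).submatrix i.succAbove id).det))) := by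
  let x := ι.base y
  obtain ⟨U, hxU⟩ := Groth.Agent.Div89.exists_affine_mem x
  haveI : IsAffine U.1.toScheme := U.2
  -- the sections over `U` form a regular ring
  let sm : k →+* Γ(X, U.1) := U.1.topIso.hom.hom.comp (Groth.Agent.Deform85.baseMap (U.1.ι ≫ f))
  letI : Algebra k Γ(X, U.1) := sm.toAlgebra
  have hsm : sm.Smooth := RingHom.Smooth.comp
    (RingHom.Smooth.comp (RingHom.Smooth.of_bijective
      (ConcreteCategory.bijective_of_isIso (Scheme.ΓSpecIso (CommRingCat.of k)).inv))
      (HasRingHomProperty.appTop (P := @Smooth) (U.1.ι ≫ f) inferInstance))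
    (RingHom.Smooth.of_bijective (ConcreteCategory.bijective_of_isIso U.1.topIso.hom))
  haveI : Algebra.Smooth k Γ(X, U.1) := hsm
  haveI : IsNoetherianRing Γ(X, U.1) := Algebra.FiniteType.isNoetherianRing k _
  haveI := Groth.Agent.FlatMor67.isRegularRing_of_smooth k Γ(X, U.1)
  letI := Groth.Agent.Div89.stalkAlg U.1 x hxU
  haveI := Groth.Agent.Div89.isLocalization_stalk U x hxU
  let p := Groth.Agent.Div89.primeAt U x hxU
  haveI : IsRegularLocalRing (X.presheaf.stalk x) := by
    haveI := IsRegularRing.isRegularLocalRing_localization p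
    exact IsRegularLocalRing.of_ringEquiv
      (IsLocalization.algEquiv p.primeCompl (Localization.AtPrime p) (X.presheaf.stalk x)).toRingEquiv
  -- the local ring of `Y`
  let I := Groth.Agent.Div89.stalkIdeal ι.ker x
  have hker : RingHom.ker (ι.stalkMap y).hom = I :=
    Groth.Agent.FlatMor68.FlatInfNbhd.ker_stalkMap_closedImmersion ι y
  let e : (X.presheaf.stalk x ⧸ I) ≃+* Y.presheaf.stalk y :=
    (Ideal.quotEquivOfEq hker.symm).trans
      (RingHom.quotientKerEquivOfSurjective (ι.stalkMap_surjective y))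
  haveI := hCM y
  haveI : LocCoh.IsCohenMacaulayLocalRing (X.presheaf.stalk x ⧸ I) :=
    Groth.Agent.CAlg1.cm_of_ringEquiv e.symm (hCM y)
  have hdim : ringKrullDim (X.presheaf.stalk x ⧸ I) + 2 = ringKrullDim (X.presheaf.stalk x) := by
    rw [ringKrullDim_eq_of_ringEquiv e]; exact hcodim y
  obtain ⟨r, φA, h1, -, h3, h4⟩ := Groth.Agent.Deform85.HB.exists_minors_resolution I hdim
  -- spread out
  obtain ⟨g, φ, hg, hS⟩ := Groth.Agent.Deform85.HB.exists_spread p (X.presheaf.stalk x) (ι.ker.ideal U) φA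
    (h1.trans (Groth.Agent.Div89.stalkIdeal_eq ι.ker U x hxU)) h3 h4
  haveI : IsLocalization.Away g Γ(X, X.basicOpen g) := U.2.isLocalization_basicOpen g
  obtain ⟨hs1, hs2, hs3⟩ := hS Γ(X, X.basicOpen g)
  refine ⟨X.affineBasicOpen g, (Groth.Agent.Div89.mem_basicOpen_iff_notMem U x hxU g).2 hg, r,
    φ.map (algebraMap Γ(X, U.1) Γ(X, X.basicOpen g)), ?_, hs2, hs3⟩
  exact hs1.trans (ι.ker.map_ideal_basicOpen U g)

end Groth.Agent.S11460
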