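import Groth.Prelude.Def_Pi1
import Mathlib.Algebra.Module.SpanRank
import Mathlib.RingTheory.KrullDimension.Basic
import Mathlib.RingTheory.RegularLocalRing.Defs
import Mathlib.RingTheory.AdicCompletion.Algebra
import Groth.Agent.CAlg9.CIT.Completion

namespace CInt
end CInt

set_option autoImplicit false
universe u
open CInt

namespace Groth.Agent.S5178

/-- Let A be a Noetherian local ring of dimension d, and let the completion of A be presented as B/I
with B a regular local ring of dimension e and I an ideal whose minimal number of generators is q,
so that e − q is the geometric depth of A (this number does not depend on the presentation). Then e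
− q ≤ d, and equality holds if and only if A is a complete intersection, i.e. its completion is a
regular local ring modulo an ideal generated by a regular sequence. -/
theorem result (A : Type u) [CommRing A] [IsLocalRing A] [IsNoetherianRing A] (B : Type u) [CommRing B] [IsRegularLocalRing B] (I : Ideal B) (hpres : Nonempty (AdicCompletion (IsLocalRing.maximalIdeal A) A ≃+* B ⧸ I)) (d e : ℕ) (hd : ringKrullDim A = (d : WithBot ℕ∞)) (he : ringKrullDim B = (e : WithBot ℕ∞)) : (e : ℤ) - (I.spanFinrank : ℤ) ≤ (d : ℤ) ∧ ((e : ℤ) - (I.spanFinrank : ℤ) = (d : ℤ) ↔ Pi1.IsCompleteIntersection A) := by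
  obtain ⟨h1, h2⟩ := CAlg9.CIT.presentation_le_and_iff A B I hpres d e hd he
  refine ⟨by omega, ?_⟩
  rw [← h2]
  omega

end Groth.Agent.S5178
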