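import Groth.Statements.S4464
import Groth.Agent.Stein58.UnibranchFibre

set_option autoImplicit false
universe u
open Coherent

namespace Groth.Agent.S4464

open AlgebraicGeometry CategoryTheory in
/-- Let X and Y be locally Noetherian integral schemes, f : X → Y a proper dominant morphism, and
suppose that the algebraic closure of the function field R(Y) in R(X) is purely inseparable over
R(Y): every element of R(X) satisfying a nonzero polynomial over R(Y) has a p^e-th power coming from
R(Y), p being the characteristic exponent. Then for every point y of Y whose local ring is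
unibranch, the fibre X_y is connected and nonempty. -/
theorem result {X Y : Scheme.{u}} [IsIntegral X]
    [IsIntegral Y] [IsLocallyNoetherian X] [IsLocallyNoetherian Y] (f : X ⟶ Y) [IsProper f]
    (hdom : f.base (genericPoint X) ⤳ genericPoint Y)
    (hrad : ∀ x : X.functionField,
      (∃ q : Polynomial Y.functionField, q ≠ 0 ∧
        Polynomial.eval₂ (CohIII.stalkToFunctionField f (genericPoint Y) hdom) x q = 0) →
      ∃ e : ℕ, x ^ (ringExpChar X.functionField ^ e) ∈
        Set.range (CohIII.stalkToFunctionField f (genericPoint Y) hdom))
    (y : Y) (hy : CAlg2.IsUnibranch (Y.presheaf.stalk y)) :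
    ConnectedSpace ↥(f.fiber y) := by
  have h : f.base (genericPoint X) ⤳ y := hdom.trans ((genericPoint_spec Y).specializes trivial)
  have hsub : Subsingleton (MaximalSpectrum (CohIII.integralClosureStalk f y h)) := by
    letI : Algebra (Y.presheaf.stalk y) X.functionField := (CohIII.stalkToFunctionField f y h).toAlgebra
    exact Groth.Agent.Stein58.subsingleton_maximalSpectrum_of_unibranch (K := Y.functionField)
      (CohIII.stalkToFunctionField f (genericPoint Y) hdom) (by
        rw [RingHom.algebraMap_toAlgebra]
        exact congrArg CommRingCat.Hom.hom (by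
          rw [← Category.assoc, TopCat.Presheaf.stalkSpecializes_comp] : Y.presheaf.stalkSpecializes
            ((genericPoint_spec Y).specializes (Set.mem_univ y)) ≫ Y.presheaf.stalkSpecializes hdom ≫
              f.stalkMap (genericPoint X) = Y.presheaf.stalkSpecializes h ≫ f.stalkMap (genericPoint X)))
      (ringExpChar X.functionField) (Nat.one_le_iff_ne_zero.1 (le_max_right _ _)) hrad hy
  obtain ⟨Ψ, hΨ⟩ := Groth.Agent.Stein58.exists_surjective_maximalSpectrum f y h
  obtain ⟨c, hc⟩ := Groth.Agent.Stein58.exists_injective_connectedComponents f y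
  haveI : Subsingleton ↥(f.fromNormalization ⁻¹' {y}) := hΨ.subsingleton
  haveI : Subsingleton (_root_.ConnectedComponents ↥(f.fiber y)) := hc.subsingleton
  have hne : Nonempty ↥(f.fiber y) := by
    obtain ⟨x, hx⟩ := h.mem_closed f.isClosedMap.isClosed_range (Set.mem_range_self _)
    obtain ⟨w, -⟩ := (f.range_fiberι y).ge (show x ∈ f ⁻¹' {y} from hx)
    exact ⟨w⟩
  haveI : PreconnectedSpace ↥(f.fiber y) := preconnectedSpace_iff_connectedComponent.2 fun x =>
    Set.eq_univ_of_forall fun z => ConnectedComponents.coe_eq_coe'.1 (Subsingleton.elim _ _)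
  exact ⟨hne⟩

end Groth.Agent.S4464
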