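import Groth.Statements.S1227
import Mathlib.LinearAlgebra.TensorProduct.RightExactness
import Mathlib.LinearAlgebra.Finsupp.LinearCombination
import Mathlib.LinearAlgebra.DirectSum.Finsupp
import Mathlib.RingTheory.Ideal.Maps

set_option autoImplicit false
universe u
open FlatMor

namespace Groth.Agent.S1227

open TensorProduct in
/-- Let u be a surjective linear map from a projective A-module M to an A-module N. Then there is an
ideal I of A such that for every A-algebra B, the base change u ⊗ 1 from B ⊗ M to B ⊗ N is bijective
if and only if the image of I in B is zero. -/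
theorem result {A : Type u} [CommRing A] {M N : Type u} [AddCommGroup M] [Module A M] [Module.Projective A M]
    [AddCommGroup N] [Module A N] (u : M →ₗ[A] N) (hu : Function.Surjective u) :
    ∃ I : Ideal A, ∀ (B : Type u) [CommRing B] [Algebra A B],
      Function.Bijective (u.baseChange B) ↔ I.map (algebraMap A B) = ⊥ := by
  obtain ⟨i, hi⟩ := (Module.projective_def' (R := A) (P := M)).mp inferInstance
  refine ⟨Ideal.span (Set.range fun x : LinearMap.ker u × M => i (x.1 : M) x.2), fun B _ _ => ?_⟩
  rw [Ideal.map_span, Ideal.span_eq_bot]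
  have hsurj : Function.Surjective (u.baseChange B) := LinearMap.lTensor_surjective B hu
  constructor
  · rintro h _ ⟨_, ⟨⟨⟨k, hk⟩, j⟩, rfl⟩, rfl⟩
    have h0 : (1 : B) ⊗ₜ[A] k = 0 :=
      h.injective (by rw [LinearMap.baseChange_tmul, LinearMap.mem_ker.mp hk, tmul_zero, map_zero])
    have h1 := congrArg (fun z => TensorProduct.rid A B (((Finsupp.lapply j) ∘ₗ i).lTensor B z)) h0
    simpa [Algebra.smul_def] using h1
  · intro h
    refine ⟨?_, hsurj⟩
    rw [injective_iff_map_eq_zero]
    intro y hy
    have hy' : u.lTensor B y = 0 := hy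
    have hex : Function.Exact (LinearMap.ker u).subtype u := u.exact_subtype_ker_map
    obtain ⟨z, rfl⟩ := (@lTensor_exact A (LinearMap.ker u) M N _ _ _ _ _ _ _
      (LinearMap.ker u).subtype u B _ _ hex hu y).mp hy'
    clear hy hy'
    induction z with
    | zero => simp
    | add a b ha hb => rw [map_add, ha, hb, add_zero]
    | tmul b k =>
      rw [LinearMap.lTensor_tmul, Submodule.subtype_apply]
      have hr : Finsupp.linearCombination A id (i (k : M)) = (k : M) := LinearMap.congr_fun hi (k : M)
      rw [← hr, Finsupp.linearCombination_apply, Finsupp.sum, tmul_sum]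
      refine Finset.sum_eq_zero fun j _ => ?_
      rw [tmul_smul, smul_tmul', Algebra.smul_def, h _ ⟨_, ⟨⟨k, j⟩, rfl⟩, rfl⟩, zero_mul,
        zero_tmul]

end Groth.Agent.S1227
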