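import Groth.Statements.S1219
import Groth.Agent.FlatCrit65.Purity.ProjOpen

set_option autoImplicit false
universe u
open FlatMor

namespace Groth.Agent.S1219

/-- For a finitely presented A-algebra B and a finitely presented B-module N flat over A, projectivity
of N over A is equivalent to purity of N, viewed on Spec B, over Spec A. -/
theorem result {A B : Type u} [CommRing A] [CommRing B] [Algebra A B] [Algebra.FinitePresentation A B]
    (N : Type u) [AddCommGroup N] [Module B N] [Module A N] [IsScalarTower A B N] [Module.FinitePresentation B N] [Module.Flat A N] :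
    Module.Projective A N ↔ FlatCA.IsPure A B N := by
  refine ⟨fun h p _ A' B' N' _ _ _ _ _ _ _ _ _ _ _ _ _ _ f t' t _ _ P _ _ => ?_,
    Groth.Agent.FlatCrit65.Purity.projective_of_isPure N⟩
  exact Groth.Agent.FlatMor67.ProjPure.isUnivPure_of_projective (A := A) (B := B) N p A' B' N' f t' t P

end Groth.Agent.S1219
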