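import Groth.Statements.S17328
import Groth.Agent.Comod33.Infinitesimal

set_option autoImplicit false
universe u v
open Hopf

namespace Groth.Agent.S17328

open Groth.Agent.Comod33 Groth.Agent.Comod33.Aug Groth.Agent.Comod33.Infinitesimal in
private theorem finrank_eq (k : Type u) [Field k] (p : ℕ) [Fact p.Prime] [CharP k p] (A : Type v) [CommRing A]
    [HopfAlgebra k A] [Module.Finite k A] (h1 : ∀ f : A, Bialgebra.counitAlgHom k A f = 0 → f ^ p = 0) :
    Module.finrank k A = p ^ Module.finrank k (aug k A).Cotangent := by
  haveI : Nontrivial A := Bialgebra.nontrivial (R := k) (A := A)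
  have hnil : ∀ a : A, IsNilpotent (a - algebraMap k A (Bialgebra.counitAlgHom k A a)) := fun a =>
    ⟨p, h1 _ (by simp)⟩
  haveI : IsLocalRing A := by
    refine IsLocalRing.of_nonunits_add fun a b ha hb => ?_
    have key : ∀ a : A, a ∈ nonunits A → Bialgebra.counitAlgHom k A a = 0 := by
      intro a ha
      by_contra h
      exact ha (by
        have := (hnil a).isUnit_add_right_of_commute ((Ne.isUnit h).map (algebraMap k A)) (Commute.all _ _)
        simpa using this)
    intro hu
    have := hu.map (Bialgebra.counitAlgHom k A)
    rw [map_add, key a ha, key b hb, add_zero] at this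
    exact not_isUnit_zero this
  have hJ : Ideal.span ((fun a : A => a ^ p) '' (aug k A : Set A)) = ⊥ := by
    rw [Ideal.span_eq_bot]
    rintro _ ⟨a, ha, rfl⟩
    exact h1 a ha
  obtain ⟨e⟩ := nonempty_algEquiv_frobeniusKernel (k := k) (A := A) p _ rfl
  let e' := ((AlgEquiv.quotientBot k A).symm.trans (Ideal.quotientEquivAlgOfEq k hJ.symm)).trans e
  rw [e'.toLinearEquiv.finrank_eq, TruncPoly.finrank_quotient, Finset.prod_const, Finset.card_univ, Fintype.card_fin]
/-- Let k be an algebraically closed field of characteristic p > 0 and A a commutative Hopf algebra over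
k, finite-dimensional as a k-vector space, with augmentation ideal I (kernel of the counit), such
that f^p = 0 for every f ∈ I (the finite group scheme G = Spec A is infinitesimal of height at most
one: A is then a local ring with maximal ideal I). Then the order of G is dim_k A = p^n where n =
dim_k I/I² is the dimension of the Lie algebra of G. -/
theorem result (k : Type u) [Field k] [IsAlgClosed k]
    (p : ℕ) [Fact p.Prime] [CharP k p] (A : Type v) [CommRing A] [HopfAlgebra k A] [Module.Finite k A]
    (h1 : ∀ f : A, Bialgebra.counitAlgHom k A f = 0 → f ^ p = 0) :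
    Module.finrank k A = p ^ Module.finrank k (RingHom.ker (Bialgebra.counitAlgHom k A)).Cotangent := by
  exact finrank_eq k p A h1

end Groth.Agent.S17328
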