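import Groth.Statements.S12206
import Mathlib.Algebra.Module.FinitePresentation

set_option autoImplicit false
universe u
open CAlg

namespace Groth.Agent.S12206

/-- Let φ : N → M be a linear map from a finite R-module N to a coherent R-module M, where coherent
means finitely generated with every finitely generated submodule finitely presented. Then the kernel
of φ is finitely generated, and the image of φ and the cokernel M/φ(N) are coherent. -/
theorem result (R : Type u) [CommRing R] {N M : Type u}
    [AddCommGroup N] [Module R N] [AddCommGroup M] [Module R M] [Module.Finite R N]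
    (hM : Module.Finite R M ∧ ∀ P : Submodule R M, P.FG → Module.FinitePresentation R P)
    (φ : N →ₗ[R] M) :
    (LinearMap.ker φ).FG ∧
    (Module.Finite R (LinearMap.range φ) ∧
      ∀ P : Submodule R (LinearMap.range φ), P.FG → Module.FinitePresentation R P) ∧
    (Module.Finite R (M ⧸ LinearMap.range φ) ∧
      ∀ P : Submodule R (M ⧸ LinearMap.range φ), P.FG → Module.FinitePresentation R P) := by
  obtain ⟨hMf, hMc⟩ := hM
  have hrfg : (LinearMap.range φ).FG := by
    rw [LinearMap.range_eq_map]; exact Module.Finite.fg_top.map φ
  have : Module.FinitePresentation R (LinearMap.range φ) := hMc _ hrfg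
  refine ⟨?_, ⟨Module.Finite.iff_fg.2 hrfg, fun P hP => ?_⟩, inferInstance, fun P hP => ?_⟩
  · have := Module.FinitePresentation.fg_ker φ.rangeRestrict φ.surjective_rangeRestrict
    rwa [LinearMap.ker_rangeRestrict] at this
  · have := hMc _ (hP.map (LinearMap.range φ).subtype)
    exact Module.FinitePresentation.of_equiv
      (Submodule.equivMapOfInjective _ (LinearMap.range φ).injective_subtype P).symm
  · let q := (LinearMap.range φ).mkQ
    have hP' : (P.comap q).FG := by
      refine Submodule.fg_of_fg_map_of_fg_inf_ker q ?_ ?_
      · rwa [Submodule.map_comap_eq_of_surjective (Submodule.mkQ_surjective _)]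
      · rw [inf_eq_right.2 (LinearMap.ker_le_comap q), Submodule.ker_mkQ]
        exact hrfg
    have := hMc _ hP'
    let l : ↥(P.comap q) →ₗ[R] P := q.restrict fun x hx => hx
    refine Module.finitePresentation_of_surjective l ?_ ?_
    · intro y
      obtain ⟨x, hx⟩ := Submodule.mkQ_surjective _ (y : M ⧸ LinearMap.range φ)
      exact ⟨⟨x, show q x ∈ P by rw [show q x = _ from hx]; exact y.2⟩, Subtype.ext hx⟩
    · apply Submodule.fg_of_fg_map_injective _ (P.comap q).injective_subtype
      have : (LinearMap.ker l).map (P.comap q).subtype = LinearMap.range φ := by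
        ext x
        constructor
        · rintro ⟨y, hy, rfl⟩
          exact (Submodule.Quotient.mk_eq_zero _).1 (congrArg Subtype.val hy)
        · intro hx
          have h0 : q x = 0 := (Submodule.Quotient.mk_eq_zero _).2 hx
          exact ⟨⟨x, show q x ∈ P by rw [h0]; exact P.zero_mem⟩, Subtype.ext h0, rfl⟩
      rw [this]
      exact hrfg

end Groth.Agent.S12206
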