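import Groth.Statements.S16234
import Mathlib

set_option autoImplicit false
universe u v
open CAlg

namespace Groth.Agent.S16234

/-- For a finitely generated module M over a Noetherian commutative ring A, every prime ideal in the
support of M is a maximal ideal if and only if M has finite length. -/
theorem result (A : Type u) [CommRing A] [IsNoetherianRing A]
    (M : Type v) [AddCommGroup M] [Module A M] [Module.Finite A M] :
    (∀ p ∈ Module.support A M, p.asIdeal.IsMaximal) ↔ IsFiniteLength A M := by
  set I := Module.annihilator A M
  have htor : Module.IsTorsionBySet A M (I : Set A) := fun x a => Module.mem_annihilator.mp a.2 x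
  constructor
  · intro h
    have : IsArtinianRing (A ⧸ I) := by
      refine isArtinianRing_iff_krullDimLE_zero.mpr (Ring.KrullDimLE.mk₀ fun q hq => ?_)
      have hp : (⟨q.comap (Ideal.Quotient.mk I), inferInstance⟩ : PrimeSpectrum A) ∈ Module.support A M := by
        rw [Module.support_eq_zeroLocus, PrimeSpectrum.mem_zeroLocus]
        intro a ha
        show Ideal.Quotient.mk I a ∈ q
        rw [Ideal.Quotient.eq_zero_iff_mem.mpr ha]
        exact q.zero_mem
      have := h _ hp
      have h2 : (Ideal.map (Ideal.Quotient.mk I) (q.comap (Ideal.Quotient.mk I))) = q :=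
        Ideal.map_comap_of_surjective _ Ideal.Quotient.mk_surjective q
      rcases Ideal.map_eq_top_or_isMaximal_of_surjective (Ideal.Quotient.mk I) Ideal.Quotient.mk_surjective this with h3 | h3
      · exact absurd (h2.symm.trans h3) hq.ne_top
      · rwa [h2] at h3
    let _ : Module (A ⧸ I) M := htor.module
    have : IsScalarTower A (A ⧸ I) M := htor.isScalarTower
    have : Module.Finite (A ⧸ I) M := Module.Finite.of_restrictScalars_finite A (A ⧸ I) M
    have hA : IsArtinian (A ⧸ I) M := inferInstance
    exact isFiniteLength_iff_isNoetherian_isArtinian.mpr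
      ⟨inferInstance, (htor.semilinearMap.isArtinian_iff_of_bijective Function.bijective_id).mpr hA⟩
  · intro h p hp
    have := (isFiniteLength_iff_isNoetherian_isArtinian.mp h).2
    obtain ⟨n, s, hs⟩ := Module.Finite.exists_fin (R := A) (M := M)
    let φ : A →ₗ[A] (Fin n → M) := LinearMap.pi fun i => LinearMap.toSpanSingleton A M (s i)
    have hker : LinearMap.ker φ = I := by
      ext a
      simp only [φ, LinearMap.mem_ker]
      constructor
      · intro ha
        refine Module.mem_annihilator.mpr fun m => ?_
        have hm : m ∈ Submodule.span A (Set.range s) := hs ▸ Submodule.mem_top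
        induction hm using Submodule.span_induction with
        | mem x hx => obtain ⟨i, rfl⟩ := hx; simpa using congrFun ha i
        | zero => simp
        | add x y _ _ hx hy => rw [smul_add, hx, hy, add_zero]
        | smul c x _ hx => rw [smul_comm, hx, smul_zero]
      · intro ha; ext i; simpa using Module.mem_annihilator.mp ha (s i)
    have h1 : IsArtinian A (A ⧸ LinearMap.ker φ) :=
      isArtinian_of_injective ((LinearMap.ker φ).liftQ φ le_rfl) (LinearMap.ker_eq_bot.mp (Submodule.ker_liftQ_eq_bot _ _ _ le_rfl))
    rw [hker] at h1
    have : IsArtinianRing (A ⧸ I) := isArtinian_of_tower A h1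
    rw [Module.support_eq_zeroLocus, PrimeSpectrum.mem_zeroLocus] at hp
    have hq : (Ideal.map (Ideal.Quotient.mk I) p.asIdeal).IsPrime :=
      Ideal.map_isPrime_of_surjective Ideal.Quotient.mk_surjective (by rwa [Ideal.mk_ker])
    have := IsArtinianRing.isMaximal_of_isPrime (Ideal.map (Ideal.Quotient.mk I) p.asIdeal)
    have h2 := Ideal.comap_isMaximal_of_surjective (Ideal.Quotient.mk I) Ideal.Quotient.mk_surjective (K := Ideal.map (Ideal.Quotient.mk I) p.asIdeal)
    rwa [Ideal.comap_map_of_surjective _ Ideal.Quotient.mk_surjective, ← RingHom.ker_eq_comap_bot, Ideal.mk_ker, sup_eq_left.mpr (show I ≤ p.asIdeal from hp)] at h2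

end Groth.Agent.S16234
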