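import Groth.Statements.S3746
import Groth.Agent.KRR40.Regular
-- import your own Groth.Agent.* helpers here

set_option autoImplicit false
universe v u
open CategoryTheory CategoryTheory.Limits AlgebraicGeometry
attribute [local instance] HasDerivedCategory.standard
open KRR

namespace Groth.Agent.S3746

/-- Let X be a Noetherian scheme all of whose local rings are regular, on which every coherent module is
a quotient of a finite locally free module (the source assumes an ample invertible module, which it
uses only through this property). Then the homomorphism δ : K₀(finite locally free O_X-modules) ⟶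
K₀(coherent O_X-modules) induced by the inclusion (recorded by the argument h) is bijective. -/
theorem result (X : Scheme.{u}) [IsNoetherian X]
    (hreg : ∀ x : X, IsRegularLocalRing (X.presheaf.stalk x)) (hX : KRR.HasEnoughLocFree X)
    (h : ∀ M : X.Modules, FlatMod.IsFinLocFree M → Coh.IsCoh M) :
    Function.Bijective (SGA6.mapSub (𝟭 X.Modules) (KRR.vbP X) (fun M : X.Modules => Coh.IsCoh M) h) := by
  haveI : ObjectProperty.IsClosedUnderIsomorphisms (C := X.Modules) (fun M : X.Modules => Coh.IsCoh M) :=
    ⟨fun e hM => Groth.Agent.QC70.isCoh_of_iso e hM⟩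
  have H := Groth.Agent.KRR40.hyp hX (P := fun M : X.Modules => Coh.IsCoh M) h
    (fun M hM => hM) (fun M hM => Groth.Agent.KRR40.exists_pd_of_regular hreg hX hM)
    fun S hS h₂ h₃ => Groth.Agent.KRR40.isCoh_X₁ hS h₂ h₃
  refine H.bijective_of _ fun M hM => ?_
  rw [Groth.Agent.K0Res3.cls_eq hM, Groth.Agent.K0Res3.cls_eq (h M hM)]
  exact congrArg _ (FreeAbelianGroup.map_of_apply _)

end Groth.Agent.S3746
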