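import Groth.Statements.S3789
import Groth.Agent.PB46.Free

set_option autoImplicit false
universe v u
open CategoryTheory CategoryTheory.Limits AlgebraicGeometry
attribute [local instance] HasDerivedCategory.standard
open KRR

namespace Groth.Agent.S3789

/-- Let X be a connected Noetherian scheme, E finite locally free of rank r + 1, and (π : P ⟶ X, O(1),
q) its projective bundle P(E), P connected Noetherian. With models of K(X), K(P), g = π^K and ℓ =
[O(1)]: the map (a_0, …, a_r) ↦ Σ_i π^K(a_i) ℓ^i from K(X)^{r+1} to K(P) is bijective, so that K(P)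
= K(X)_e = K(X)[ℓ] with the relation of projectiveBundle_tautological_relation. -/
theorem result (X P : Scheme.{u}) [IsNoetherian X] [ConnectedSpace ↥X] [IsNoetherian P] [ConnectedSpace ↥P]
    (r : ℕ) (E : X.Modules) (hE : FlatMod.IsFinLocFreeOfRank (r + 1) E)
    (π : P ⟶ X) (O1 : P.Modules) (q : (Scheme.Modules.pullback π).obj E ⟶ O1) (hPB : KRR.IsProjBundle π E O1 q)
    (KX : Type v) [CommRing KX] [LambdaRing.LambdaOps KX] (PX : LambdaRing.PosStructure KX) (φX : SGA6.Kvb X →+ KX) (hKX : KRR.IsModel X KX PX φX)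
    (KP : Type v) [CommRing KP] [LambdaRing.LambdaOps KP] (PP : LambdaRing.PosStructure KP) (φP : SGA6.Kvb P →+ KP) (hKP : KRR.IsModel P KP PP φP)
    (g : KX →+ KP) (hg : KRR.IsPull π φX φP g) :
    Function.Bijective (fun a : Fin (r + 1) → KX => ∑ i : Fin (r + 1), g (a i) * φP (KRR.cl P O1) ^ (i : ℕ)) := by
  obtain ⟨Oinv, -, hinv⟩ := Groth.Agent.An92.InvMod.exists_inverse
    (Groth.Agent.Cyc90.Dev.isInvertible_of_rank_one hPB.invertible)
  let B : Groth.Agent.PB46.Bundle r X := Groth.Agent.PB46.ofProjBundle hE hPB hinv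
  let τ : Groth.Agent.PB46.Taut B := Groth.Agent.PB46.tautOfProjBundle hE hPB hinv
  have h1 : φP (Groth.Agent.Kvb46.cl (Coh.structureModule P)) = 1 := hKP.map_one
  have hmul : ∀ E F : P.Modules, FlatMod.IsFinLocFree E → FlatMod.IsFinLocFree F →
      φP (Groth.Agent.Kvb46.cl E) * φP (Groth.Agent.Kvb46.cl F) = φP (Groth.Agent.Kvb46.cl (CohB1.tensorMod E F)) :=
    hKP.map_mul
  have hg' : ∀ N : X.Modules, FlatMod.IsFinLocFree N →
      g (φX (Groth.Agent.Kvb46.cl N)) = φP (Groth.Agent.Kvb46.cl ((Scheme.Modules.pullback π).obj N)) := hg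
  have h := @Groth.Agent.PB46.Taut.bijective_model r X B _ _ _ _ φX φP g _ τ hKX.bijective hKP.bijective h1 hmul hg'
  exact h

end Groth.Agent.S3789
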