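import Groth.Statements.S4456
import Groth.Agent.QC70.CompDerived
import Groth.Agent.Coh69.RelVanish
import Groth.Agent.Coh69.Push

set_option autoImplicit false
set_option backward.isDefEq.respectTransparency.types false
universe u
open Coherent

namespace Groth.Agent.S4456

open AlgebraicGeometry CategoryTheory in
/-- Let f : X → Y be an affine morphism, g : Y → Z a morphism of schemes and F a quasi-coherent
O_X-module. Then for every p ≥ 0 the higher direct image R^p g_*(f_* F) is isomorphic to R^p (g ∘
f)_* F (higher direct images of the underlying abelian sheaves). The source shows that the canonical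
comparison map is an isomorphism; only the existence of an isomorphism is asserted here. -/
theorem result {X Y Z : Scheme.{u}} (f : X ⟶ Y) (g : Y ⟶ Z)
    [IsAffineHom f] (F : X.Modules) [Coh.IsQCoh F] (p : ℕ) :
    Nonempty ((Coh.RpushAb g p).obj (Coh.toAb ((Coh.push f).obj F)) ≅
      (Coh.RpushAb (f ≫ g) p).obj (Coh.toAb F)) := by
  haveI : F.IsQuasicoherent := ‹Coh.IsQCoh F›
  haveI : Limits.PreservesFiniteLimits (Coh.pushAb f) :=
    haveI : Limits.PreservesLimitsOfSize.{0, 0} (Coh.pushAb f) :=
      (TopCat.Sheaf.pullbackPushforwardAdjunction AddCommGrpCat.{u} f.base).rightAdjoint_preservesLimits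
    Limits.PreservesLimitsOfSize0.preservesFiniteLimits _
  exact QC70.nonempty_rightDerived_comp_iso (Coh.pushAb f) (Coh.pushAb g)
    (fun I hI => @Coh69.pushSh_injective _ _ f.base I hI) (Coh.toAb F)
    (fun n => Coh69.isZero_RpushAb_of_isAffineHom f F n) p

end Groth.Agent.S4456
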