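import Groth.Statements.S3748
import Groth.Agent.KRR40.PushCl
-- import your own Groth.Agent.* helpers here

set_option autoImplicit false
universe v u
open CategoryTheory CategoryTheory.Limits AlgebraicGeometry
attribute [local instance] HasDerivedCategory.standard
open KRR

namespace Groth.Agent.S3748

/-- Let f : X ⟶ Y and g : Y ⟶ Z be regular closed imbeddings of connected Noetherian schemes, where on Y
and on Z every coherent module is a quotient of a finite locally free one. With models of K(X),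
K(Y), K(Z) and push-forwards a = f_K, b = g_K, c = (f ≫ g)_K (each defined through finite locally
free resolutions of direct images of bundles), one has c = b ∘ a. -/
theorem result {X Y Z : Scheme.{u}} (f : X ⟶ Y) (g : Y ⟶ Z)
    (hf : Mor2.IsRegularClosedImmersion f) (hg : Mor2.IsRegularClosedImmersion g)
    [IsNoetherian X] [ConnectedSpace ↥X] [IsNoetherian Y] [ConnectedSpace ↥Y] (hYe : KRR.HasEnoughLocFree Y) [IsNoetherian Z] [ConnectedSpace ↥Z] (hZe : KRR.HasEnoughLocFree Z)
    (KX : Type v) [CommRing KX] [LambdaRing.LambdaOps KX] (PX : LambdaRing.PosStructure KX) (φX : SGA6.Kvb X →+ KX) (hKX : KRR.IsModel X KX PX φX)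
    (KY : Type v) [CommRing KY] [LambdaRing.LambdaOps KY] (PY : LambdaRing.PosStructure KY) (φY : SGA6.Kvb Y →+ KY) (hKY : KRR.IsModel Y KY PY φY)
    (KZ : Type v) [CommRing KZ] [LambdaRing.LambdaOps KZ] (PZ : LambdaRing.PosStructure KZ) (φZ : SGA6.Kvb Z →+ KZ) (hKZ : KRR.IsModel Z KZ PZ φZ)
    (a : KX →+ KY) (ha : KRR.IsPushCl f φX φY a) (b : KY →+ KZ) (hb : KRR.IsPushCl g φY φZ b)
    (c : KX →+ KZ) (hc : KRR.IsPushCl (f ≫ g) φX φZ c) : c = b.comp a := by
  haveI := hf.1
  haveI := hg.1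
  let eX := AddEquiv.ofBijective φX hKX.bijective
  let eY := AddEquiv.ofBijective φY hKY.bijective
  let eZ := AddEquiv.ofBijective φZ hKZ.bijective
  refine AddMonoidHom.ext fun x => ?_
  obtain ⟨z, rfl⟩ := eX.surjective x
  refine DFunLike.congr_fun (Groth.Agent.KRR40.hom_ext₀ (P := KRR.vbP X)
    (g := c.comp φX) (g' := (b.comp a).comp φX) fun M hM => ?_) z
  show c (φX (KRR.cl X M)) = b (a (φX (KRR.cl X M)))
  refine eZ.symm.injective ((Groth.Agent.KRR40.bijective_toP hZe).1 ?_)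
  have hfM := Groth.Agent.KRR40.pc_pushforward_vb f hf hYe hM
  have hgfM := Groth.Agent.KRR40.pc_pushforward g hg hYe hZe _ _ hfM.1 hfM.2.choose_spec
  let e := (Scheme.Modules.pushforwardComp f g).app M
  have hcM : Groth.Agent.KRR40.PC Z ((Scheme.Modules.pushforward (f ≫ g)).obj M) :=
    (Groth.Agent.KRR40.PC Z).prop_of_iso e hgfM
  obtain ⟨n, L, π, hL⟩ := Groth.Agent.KRR40.hasLFRes_of_pd hZe hcM.1 hcM.2.choose_spec
  have e1 : Groth.Agent.KRR40.toP (eZ.symm (c (φX (KRR.cl X M)))) =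
      Groth.Agent.KRR40.clP Z ((Scheme.Modules.pushforward g).obj ((Scheme.Modules.pushforward f).obj M)) := by
    rw [show eZ.symm (c (φX (KRR.cl X M))) =
        ∑ k ∈ Finset.range (n + 1), (-1 : ℤ) ^ k • KRR.cl Z (L.X k) by
      rw [AddEquiv.symm_apply_eq, hc M hM n L π hL, map_sum]
      exact Finset.sum_congr rfl fun k _ => (map_zsmul φZ _ _).symm]
    rw [Groth.Agent.KRR40.toP_sum hL]
    exact (Groth.Agent.KRR40.cls_iso (P := Groth.Agent.KRR40.PC Z) e hgfM
      fun _ => Groth.Agent.KRR40.pc_of_isZero).symm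
  have e2 : ∀ w, Groth.Agent.KRR40.toP (eZ.symm (b (φY w))) =
      Groth.Agent.KRR40.pushPP g hg hYe hZe (Groth.Agent.KRR40.toP w) := fun w => by
    rw [Groth.Agent.KRR40.toP_pushCl g hg hZe hKZ.bijective hb w]
    refine DFunLike.congr_fun (Groth.Agent.KRR40.hom_ext₀ (P := KRR.vbP Y)
      (g := Groth.Agent.KRR40.pushVP g hg hZe)
      (g' := (Groth.Agent.KRR40.pushPP g hg hYe hZe).comp Groth.Agent.KRR40.toP) fun N hN => ?_) w
    exact (Groth.Agent.KRR40.pushVP_cl g hg hZe hN).trans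
      ((Groth.Agent.KRR40.pushPP_cl g hg hYe hZe (Groth.Agent.KRR40.pc_of_vb hN)).symm.trans
        (congrArg _ (Groth.Agent.KRR40.toP_cl hN).symm))
  rw [e1, ← Groth.Agent.KRR40.pushPP_cl g hg hYe hZe hfM, ← Groth.Agent.KRR40.pushVP_cl f hf hYe hM,
    ← Groth.Agent.KRR40.toP_pushCl f hf hYe hKY.bijective ha (KRR.cl X M), ← e2]
  exact congrArg (fun t => Groth.Agent.KRR40.toP (eZ.symm (b t))) (eY.apply_symm_apply _)

end Groth.Agent.S3748
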