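import Groth.Statements.S5165
import Groth.Agent.CAlg1.Serre
import Groth.Agent.EGA4H10.ProjDim

set_option autoImplicit false
universe u
open CategoryTheory
open LocCoh

namespace Groth.Agent.S5165

/-- Suppose A is a regular Noetherian ring and consider a finitely generated A-module M. Then some
natural number d bounds the projective dimension of M (equivalently, p ↦ proj.dim M_p stays bounded
as p ranges over Spec A, and this holds even if the Krull dimension of A is infinite). -/
theorem result (A : Type u) [CommRing A] [IsRegularRing A] (M : Type u) [AddCommGroup M] [Module A M] [Module.Finite A M] : ∃ d : ℕ, HasProjectiveDimensionLE (ModuleCat.of A M) d := by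
  have hcov : ∀ p : PrimeSpectrum A, ∃ d : ℕ, projectiveDimension (ModuleCat.of
      (Localization.AtPrime p.asIdeal) (LocalizedModule p.asIdeal.primeCompl M)) ≤ d := fun p => by
    haveI : IsRegularLocalRing (Localization.AtPrime p.asIdeal) :=
      IsRegularRing.isRegularLocalRing_localization p.asIdeal
    obtain ⟨d, hd⟩ := ENat.ne_top_iff_exists.mp (p.asIdeal.height_ne_top Ideal.IsPrime.ne_top')
    refine ⟨d, (projectiveDimension_le_iff _ _).2 (CAlg1.hasPD_of_regular _ ?_ _)⟩
    rw [IsLocalization.AtPrime.ringKrullDim_eq_height p.asIdeal (Localization.AtPrime p.asIdeal), ← hd]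
    rfl
  obtain ⟨t, ht⟩ := isCompact_univ.elim_finite_subcover _
    (fun n => EGA4H10.isOpen_pd_le A M n) fun p _ => Set.mem_iUnion.2 (hcov p)
  refine ⟨t.sup id, (ModuleCat.hasProjectiveDimensionLE_iff_forall_primeSpectrum _ _).2 fun p => ?_⟩
  obtain ⟨k, hk, hpk⟩ := Set.mem_iUnion₂.1 (ht (Set.mem_univ p))
  rw [← projectiveDimension_le_iff]
  refine le_trans (le_of_eq (projectiveDimension_eq_of_iso ?_))
    (le_trans hpk (Nat.cast_le.2 (Finset.le_sup (f := id) hk)))
  exact (Shrink.linearEquiv (Localization p.asIdeal.primeCompl) _).toModuleIso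

end Groth.Agent.S5165
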