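import Groth.Statements.S11359
import Groth.Agent.Gor18.Basic
import Groth.Agent.InjHull18.Tensor


set_option autoImplicit false
universe u
open InjHull

namespace Groth.Agent.S11359

/-- For a flat homomorphism A → B of Noetherian local rings whose fibre ring B/m_A B is an Artinian
Gorenstein local ring, tensoring an injective hull of the residue field of A with B gives an
injective hull of the residue field of B. -/
theorem result (A : Type u) [CommRing A] [IsLocalRing A] [IsNoetherianRing A] (B : Type u) [CommRing B] [IsLocalRing B] [IsNoetherianRing B] [Algebra A B] [Module.Flat A B] (hG : LocCoh.IsGorensteinLocalRing (B ⧸ (IsLocalRing.maximalIdeal A).map (algebraMap A B))) (hArt : IsArtinianRing (B ⧸ (IsLocalRing.maximalIdeal A).map (algebraMap A B))) (E : Type u) [AddCommGroup E] [Module A E] (f : IsLocalRing.ResidueField A →ₗ[A] E) (hf : InjHull.IsInjectiveHull f) : ∃ g : IsLocalRing.ResidueField B →ₗ[B] TensorProduct A B E, InjHull.IsInjectiveHull g := by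
  have := hG.toIsLocalRing
  have hle : (IsLocalRing.maximalIdeal A).map (algebraMap A B) ≤ IsLocalRing.maximalIdeal B :=
    IsLocalRing.le_maximalIdeal fun h => (not_subsingleton
      (B ⧸ (IsLocalRing.maximalIdeal A).map (algebraMap A B))) (Ideal.Quotient.subsingleton_iff.2 h)
  have : IsLocalHom (algebraMap A B) :=
    ((IsLocalRing.local_hom_TFAE (algebraMap A B)).out 0 2).2 hle
  have hs := Gor18.artinian_gor_iff_simple_socle.1 hG
  have hsurj : Function.Surjective (algebraMap B (B ⧸ (IsLocalRing.maximalIdeal A).map (algebraMap A B))) :=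
    Ideal.Quotient.mk_surjective
  have hK : ∃ K : ℕ, IsLocalRing.maximalIdeal B ^ K ≤
      (IsLocalRing.maximalIdeal A).map (algebraMap A B) :=
    IsLocalRing.exists_maximalIdeal_pow_le_of_isArtinianRing_quotient _
  refine InjHull18.exists_hull_baseChange hf hK ?_
  have hmem : ∀ y : B ⧸ (IsLocalRing.maximalIdeal A).map (algebraMap A B),
      y ∈ LocCoh.torsionBy (IsLocalRing.maximalIdeal B) _ ↔
      y ∈ LocCoh.torsionBy (IsLocalRing.maximalIdeal
        (B ⧸ (IsLocalRing.maximalIdeal A).map (algebraMap A B))) _ := by
    intro y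
    simp only [Submodule.mem_torsionBySet_iff]
    constructor
    · rintro h ⟨c, hc⟩
      obtain ⟨b, rfl⟩ := hsurj c
      show algebraMap B _ b • y = 0
      rw [algebraMap_smul]
      exact h ⟨b, fun hu => hc (hu.map _)⟩
    · rintro h ⟨b, hb⟩
      show b • y = 0
      rw [← algebraMap_smul (B ⧸ (IsLocalRing.maximalIdeal A).map (algebraMap A B)) b y]
      refine h ⟨_, fun hu => ?_⟩
      obtain ⟨c, hc⟩ := hu.exists_right_inv
      obtain ⟨c, rfl⟩ := hsurj c
      rw [← map_mul, ← map_one (algebraMap B (B ⧸ (IsLocalRing.maximalIdeal A).map (algebraMap A B))),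
        Ideal.Quotient.algebraMap_eq, Ideal.Quotient.eq] at hc
      have h1 : b * c ∈ IsLocalRing.maximalIdeal B := Ideal.mul_mem_right _ _ hb
      exact (IsLocalRing.maximalIdeal.isMaximal B).ne_top ((Ideal.eq_top_iff_one _).2
        (by simpa using sub_mem h1 (hle hc)))
  rw [← Module.length_eq_one_iff, ← Module.length_eq_of_surjective hsurj] at hs
  rw [← Module.length_eq_one_iff, ← hs]
  exact le_antisymm (Module.length_le_of_injective
      (f := { toFun := fun y => ⟨y.1, (hmem _).1 y.2⟩, map_add' := fun _ _ => rfl, map_smul' := fun _ _ => rfl })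
      fun a b h => Subtype.ext (congrArg Subtype.val h :))
    (Module.length_le_of_injective
      (f := { toFun := fun y => ⟨y.1, (hmem _).2 y.2⟩, map_add' := fun _ _ => rfl, map_smul' := fun _ _ => rfl })
      fun a b h => Subtype.ext (congrArg Subtype.val h :))

end Groth.Agent.S11359
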