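import Groth.Statements.S8794
import Groth.Agent.LC16.ComplKill

set_option autoImplicit false
universe u
open CategoryTheory
attribute [local instance] HasDerivedCategory.standard
open LocCoh

namespace Groth.Agent.S8794

theorem dim_quotient_le {A : Type u} [CommRing A] [IsLocalRing A] {ω : Dual.D A}
    (hω : Dual.IsDualizing A ω) (p : PrimeSpectrum A) :
    ringKrullDim (A ⧸ p.asIdeal) ≤
      ((((Groth.Agent.LC16.DualAnn.mu hω (IsLocalRing.closedPoint A) -
        Groth.Agent.LC16.DualAnn.mu hω p).toNat : ℕ) : ℕ∞) : WithBot ℕ∞) := by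
  refine iSup_le fun l => ?_
  let g : PrimeSpectrum (A ⧸ p.asIdeal) → PrimeSpectrum A := PrimeSpectrum.comap (Ideal.Quotient.mk _)
  have hg : StrictMono g := Monotone.strictMono_of_injective (fun _ _ hab => Ideal.comap_mono hab)
    (PrimeSpectrum.comap_injective_of_surjective _ Ideal.Quotient.mk_surjective)
  have h1 := Groth.Agent.LC16.DualAnn.mu_chain hω (l.map g hg)
  rw [LTSeries.head_map, LTSeries.last_map] at h1
  have h2 := Groth.Agent.LC16.DualAnn.mu_mono hω (show p ≤ g l.head from fun a ha => by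
    show Ideal.Quotient.mk p.asIdeal a ∈ l.head.asIdeal
    rw [Ideal.Quotient.eq_zero_iff_mem.2 ha]
    exact zero_mem _)
  have h3 := Groth.Agent.LC16.DualAnn.mu_mono hω (show g l.last ≤ IsLocalRing.closedPoint A from
    IsLocalRing.le_maximalIdeal (g l.last).2.ne_top)
  simp only [LTSeries.map_length] at h1
  exact_mod_cast (show l.length ≤ (Groth.Agent.LC16.DualAnn.mu hω (IsLocalRing.closedPoint A) -
        Groth.Agent.LC16.DualAnn.mu hω p).toNat by omega)

theorem depth_specialize {A : Type u} [CommRing A] {ω : Dual.D A} (hω : Dual.IsDualizing A ω)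
    (M : Type u) [AddCommGroup M] [Module A M] [Module.Finite A M] {p' p : PrimeSpectrum A} (hp : p' ≤ p)
    {k : ℕ} (hk : LocCoh.depth (Localization.AtPrime p'.asIdeal) (LocalizedModule p'.asIdeal.primeCompl M) = k) :
    ∃ j : ℕ, LocCoh.depth (Localization.AtPrime p.asIdeal) (LocalizedModule p.asIdeal.primeCompl M) = j ∧
      (j : ℤ) ≤ k + (Groth.Agent.LC16.DualAnn.mu hω p - Groth.Agent.LC16.DualAnn.mu hω p') := by
  haveI := hω.isNoetherianRing
  let B := Localization.AtPrime p'.asIdeal
  haveI : IsNoetherianRing B := IsLocalization.isNoetherianRing p'.asIdeal.primeCompl _ inferInstance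
  haveI : Module.Finite B (LocalizedModule p'.asIdeal.primeCompl M) :=
    Module.Finite.of_isLocalizedModule p'.asIdeal.primeCompl (LocalizedModule.mkLinearMap _ M)
  haveI : Nontrivial (LocalizedModule p'.asIdeal.primeCompl M) := by
    rw [← not_subsingleton_iff_nontrivial]
    intro hs
    rw [Groth.Agent.EGA4Alg4.depth_of_subsingleton] at hk
    exact ENat.top_ne_coe k hk
  have hne := (Groth.Agent.DR39.depth_spec (Groth.Agent.LC16.DualAnn.isDualizing_omegaAt hω p')
    (Groth.Agent.LC16.DualAnn.isNormalized_omegaAt hω p') k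
    (LocalizedModule p'.asIdeal.primeCompl M) hk).2
  let n : ℤ := Groth.Agent.LC16.DualAnn.mu hω p' - k
  have hle : Groth.Agent.LC17.gAnn ω (ModuleCat.of A M) n ≤ p'.asIdeal := by
    rw [Groth.Agent.DR39.gAnn_le_iff_atPrime hω M n p'.asIdeal, Ne,
      ← Groth.Agent.DR39.subsingleton_gm_iff]
    intro h1
    refine hne ?_
    rw [← Groth.Agent.LC17.gAnn_congr _ (Groth.Agent.LC16.DualAnn.locIso p' M),
      ← Groth.Agent.DR39.subsingleton_gm_iff]
    exact (Iso.homToEquiv ((shiftFunctorAdd' (Dual.D B) (Groth.Agent.LC16.DualAnn.mu hω p') (-(k : ℤ)) n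
      (by omega)).app _)).subsingleton_congr.1 h1
  obtain ⟨j, hj, hjn⟩ := Groth.Agent.LC16.DualAnn.exists_depth_le hω M (p := p) (hle.trans hp)
  exact ⟨j, hj, by omega⟩

/-- Let (A, m) be a Noetherian local ring with a dualizing complex, I an ideal and d a natural with
cd(A, I) ≤ d, M a finite A-module, p a prime of A and s a natural with depth(M_p) + dim(A/p) > d +
s. Assume the total right derived functor RΓ_m and derived I-adic completion exist on D(A). Then
there is f ∈ A with f ∉ p annihilating the cohomology modules H^i of the derived I-adic completion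
of RΓ_m(M) for all i ≤ s. -/
theorem result (A : Type u) [CommRing A] [IsNoetherianRing A] [IsLocalRing A] (hdc : ∃ ω : Dual.D A, Dual.IsDualizing A ω) (I : Ideal A) [DRing.HasRgammaI (IsLocalRing.maximalIdeal A)] [DRing.HasDerivedCompletion I] (M : Type u) [AddCommGroup M] [Module A M] [Module.Finite A M] (p : PrimeSpectrum A) (s d : ℕ) (h2 : LocCoh.CdLE A I d) (h3 : (((d + s : ℕ) : ℕ∞) : WithBot ℕ∞) < ((LocCoh.depth (Localization.AtPrime p.asIdeal) (LocalizedModule p.asIdeal.primeCompl M) : ℕ∞) : WithBot ℕ∞) + ringKrullDim (A ⧸ p.asIdeal)) : ∃ f : A, f ∉ p.asIdeal ∧ ∀ i : ℤ, i ≤ s → ∀ x : Dual.HD A ((DRing.derivedCompletion I).obj ((DRing.RgammaI (IsLocalRing.maximalIdeal A)).obj (Dual.inD A M))).obj i, f • x = 0 := by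
  obtain ⟨ω, hω⟩ := hdc
  refine Groth.Agent.LC16.ComplKill.exists_notMem I hω _ M p s d h2 fun p' hp' q hq hJ hI k hk => ?_
  obtain ⟨j, hj, hjk⟩ := Groth.Agent.S8794.depth_specialize hω M hp' hk
  rw [hj] at h3
  obtain rfl : q = IsLocalRing.closedPoint A :=
    PrimeSpectrum.ext (le_antisymm (IsLocalRing.le_maximalIdeal q.2.ne_top) hJ)
  have h := Groth.Agent.LC16.DimBetween.lt_of_lt_add (Groth.Agent.S8794.dim_quotient_le hω p) h3
  have := Groth.Agent.LC16.DualAnn.mu_mono hω
    (show p ≤ IsLocalRing.closedPoint A from IsLocalRing.le_maximalIdeal p.2.ne_top)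
  omega

end Groth.Agent.S8794
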