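import Groth.Statements.S8934
import Groth.Agent.LC16.CechRgamma
import Groth.Agent.LC16.LocBC
import Groth.Agent.DR39.Derived
import Groth.Agent.DR39.TensorDual
import Groth.Agent.DR39.Rep
import Mathlib.Algebra.Category.ModuleCat.Biproducts

set_option autoImplicit false
universe u
open CategoryTheory CategoryTheory.Limits
attribute [local instance] HasDerivedCategory.standard
open LocCoh

namespace Groth.Agent.S8934

theorem flat_loc {A : Type u} [CommRing A] (S : Submonoid A) (M : Type u) [AddCommGroup M] [Module A M]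
    [Module.Flat A M] : Module.Flat A (LocalizedModule S M) :=
  haveI := IsLocalization.flat (Localization S) S
  Module.Flat.of_linearEquiv ((LocalizedModule.equivTensorProduct S M).restrictScalars A)

theorem flat_extCech (A : Type u) [CommRing A] : ∀ fs : List A,
    (∀ i : ℤ, (fs.length : ℤ) < i → IsZero ((DerCA.extCech (ModuleCat.of A A) fs).X i)) ∧
      ∀ i : ℤ, Module.Flat A ((DerCA.extCech (ModuleCat.of A A) fs).X i)
  | [] => by
    refine ⟨fun i hi => HomologicalComplex.isZero_single_obj_X _ _ _ _ (by simp at hi; omega), fun i => ?_⟩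
    by_cases h : i = 0
    · subst h
      exact Module.Flat.of_linearEquiv
        (HomologicalComplex.singleObjXSelf (ComplexShape.up ℤ) 0 (ModuleCat.of A A)).toLinearEquiv
    · have : Subsingleton ((DerCA.extCech (ModuleCat.of A A) []).X i) := ModuleCat.subsingleton_of_isZero
        (HomologicalComplex.isZero_single_obj_X (ComplexShape.up ℤ) 0 (ModuleCat.of A A) i h)
      have := Module.Free.of_subsingleton A ((DerCA.extCech (ModuleCat.of A A) []).X i)
      exact Module.Flat.of_free
  | f :: fs => by
    obtain ⟨hb, hP⟩ := flat_extCech A fs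
    let u := DerCA.locCxUnit (Submonoid.powers f) (DerCA.extCech (ModuleCat.of A A) fs)
    have e : ∀ i, (DerCA.extCech (ModuleCat.of A A) (f :: fs)).X i ≅ _ := fun i =>
      DerCA.mappingCoconeXIso u i ≪≫ ModuleCat.biprodIsoProd _ _
    refine ⟨fun i hi => ?_, fun i => ?_⟩
    · simp only [List.length_cons, Nat.cast_add, Nat.cast_one] at hi
      refine IsZero.of_iso ?_ (e i)
      have h₁ := ModuleCat.subsingleton_of_isZero (hb i (by omega))
      have h₂ := ModuleCat.subsingleton_of_isZero
        (Functor.map_isZero (DerCA.locFunctor (Submonoid.powers f)) (hb (i - 1) (by omega)))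
      have h₂' : Subsingleton (((DerCA.locCx (Submonoid.powers f)).obj
          (DerCA.extCech (ModuleCat.of A A) fs)).X (i - 1)) := h₂
      exact @ModuleCat.isZero_of_subsingleton A _ _ (@instSubsingletonProd _ _ h₁ h₂')
    · have := hP i
      have := hP (i - 1)
      have h₂ : Module.Flat A (((DerCA.locCx (Submonoid.powers f)).obj
          (DerCA.extCech (ModuleCat.of A A) fs)).X (i - 1)) :=
        flat_loc (Submonoid.powers f) ((DerCA.extCech (ModuleCat.of A A) fs).X (i - 1))
      have : Module.Flat A (ModuleCat.of A ((DerCA.extCech (ModuleCat.of A A) fs).X i ×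
          ((DerCA.locCx (Submonoid.powers f)).obj (DerCA.extCech (ModuleCat.of A A) fs)).X (i - 1))) :=
        Groth.Agent.DR39.flat_prod _ _
      exact Module.Flat.of_linearEquiv (e i).toLinearEquiv

/-- `B ⊗_A A ≅ B` -/
noncomputable def extendSelfIso {A B : Type u} [CommRing A] [CommRing B] (φ : A →+* B) :
    (ModuleCat.extendScalars.{u, u, u} φ).obj (ModuleCat.of A A) ≅ ModuleCat.of B B :=
  letI := φ.toAlgebra
  (TensorProduct.AlgebraTensorModule.rid A B B).toModuleIso

/-- functoriality in the module -/
noncomputable def extCechMapIso {A : Type u} [CommRing A] {M N : ModuleCat.{u} A} (e : M ≅ N) :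
    ∀ fs : List A, DerCA.extCech M fs ≅ DerCA.extCech N fs
  | [] => (HomologicalComplex.single _ _ 0).mapIso e
  | f :: fs =>
    (CategoryTheory.shiftFunctor (DRing.Cx A) (-1 : ℤ)).mapIso
      (Groth.Agent.LC16.LocBC.coneIso (DerCA.locCxUnit (Submonoid.powers f) (DerCA.extCech M fs))
        (DerCA.locCxUnit (Submonoid.powers f) (DerCA.extCech N fs)) (extCechMapIso e fs)
        ((DerCA.locCx _).mapIso (extCechMapIso e fs))
        (Groth.Agent.LC16.LocBC.cxUnit_natural _ _).symm)

/-- Let p be a prime, A a Noetherian ring of characteristic p with Frobenius endomorphism F, and I an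
ideal of A. Then the derived base change of RΓ_I(A) along F is isomorphic to RΓ_I(A) in D(A)
(existence of an isomorphism only; RΓ_I, the derived I-power torsion functor, and the derived base
change along F are assumed to exist). (The published statement is for any ring and a finitely
generated ideal, with local cohomology RΓ_Z; this row takes A Noetherian, where RΓ_Z is the derived
functor of I-power torsion.) -/
theorem result (p : ℕ) [Fact p.Prime] (A : Type u) [CommRing A] [IsNoetherianRing A] [CharP A p] (I : Ideal A) [DRing.HasRgammaI I] [DRing.HasLBaseChange (frobenius A p)] : Nonempty ((DRing.LBaseChange (frobenius A p)).obj ((DRing.RgammaI I).obj (Dual.inD A A)) ≅ (DRing.RgammaI I).obj (Dual.inD A A)) := by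
  classical
  obtain ⟨s, hs⟩ := (IsNoetherian.noetherian I : I.FG)
  let fs : List A := s.toList
  have hfs : Ideal.span {x | x ∈ fs} = I := by
    rw [← hs]; congr 1; ext; simp [fs]
  let φ := frobenius A p
  have hle : Ideal.span {x | x ∈ fs.map φ} ≤ I := Ideal.span_le.2 fun x hx => by
    obtain ⟨a, ha, rfl⟩ := List.mem_map.1 hx
    exact Ideal.pow_mem_of_mem I (hfs ▸ Ideal.subset_span ha) p (Fact.out : p.Prime).pos
  obtain ⟨k, hk⟩ : ∃ k, I ^ k ≤ Ideal.span {x | x ∈ fs.map φ} := by
    refine (Ideal.exists_pow_le_of_le_radical_of_fg ?_ (IsNoetherian.noetherian I))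
    rw [← hfs, Ideal.span_le]
    exact fun a ha => ⟨p, Ideal.subset_span (List.mem_map.2 ⟨a, ha, rfl⟩)⟩
  obtain ⟨e₁⟩ := Groth.Agent.LC16.CechRgamma.nonempty_cech_Rgamma I fs hfs.le (k := 1)
    (by rw [pow_one, hfs]) (ModuleCat.of A A)
  obtain ⟨e₂⟩ := Groth.Agent.LC16.CechRgamma.nonempty_cech_Rgamma I (fs.map φ) hle hk (ModuleCat.of A A)
  let P := DerCA.extCech (ModuleCat.of A A) fs
  obtain ⟨hb, hP⟩ := Groth.Agent.S8934.flat_extCech A fs
  let eB : (ModuleCat.extendScalars.{u, u, u} φ).obj (ModuleCat.of A A) ≅ ModuleCat.of A A :=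
    Groth.Agent.S8934.extendSelfIso φ
  exact ⟨(DRing.LBaseChange φ).mapIso e₁.symm ≪≫
    Groth.Agent.DR39.LBaseChangeIso φ P (Groth.Agent.DR39.isKFlat_of_flat (P := P) fs.length hb hP) ≪≫
    DerivedCategory.Q.mapIso (Groth.Agent.LC16.LocBC.extCechIso φ (ModuleCat.of A A) fs ≪≫
      Groth.Agent.S8934.extCechMapIso eB (fs.map φ)) ≪≫ e₂⟩

end Groth.Agent.S8934
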