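import Groth.Statements.S18128
import Mathlib.RingTheory.Regular.RegularSequence
import Mathlib.RingTheory.Regular.Flat
import Mathlib.RingTheory.Localization.Integer
import Mathlib.RingTheory.QuotSMulTop
import Mathlib.LinearAlgebra.TensorProduct.Pi
import Mathlib.RingTheory.Ideal.Operations

set_option autoImplicit false
universe u
open CAlg

namespace Groth.Agent.S18128


section
open RingTheory.Sequence
variable {R : Type u} [CommRing R]

/-- Peskine-Szpiro acyclicity for complexes on which a sequence is regular. -/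
theorem acyclic : ∀ (e : ℕ) (rs : List R) (F : ℕ → Type u) [∀ i, AddCommGroup (F i)]
    [∀ i, Module R (F i)] (d : ∀ i, F (i + 1) →ₗ[R] F i), rs.length = e → d e = 0 →
    (∀ i, i < e → (d i) ∘ₗ (d (i + 1)) = 0) → (∀ i, i ≤ e → IsWeaklyRegular (F i) rs) →
    (∀ i, i < e → ∀ v, d i v = 0 → ∀ x ∈ rs, ∃ N : ℕ, x ^ N • v ∈ LinearMap.range (d (i + 1))) →
    ∀ i, i < e → ∀ v, d i v = 0 → v ∈ LinearMap.range (d (i + 1)) := by
  intro e
  induction e with
  | zero => intro rs F _ _ d _ _ _ _ _ i hi; omega
  | succ e ih =>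
    intro rs F _ _ d hlen hlast hcx hreg htor
    obtain ⟨x, rs', rfl⟩ := List.exists_cons_of_length_eq_add_one hlen
    have hregx : ∀ i, i ≤ e + 1 → IsSMulRegular (F i) x := fun i hi =>
      ((isWeaklyRegular_cons_iff _ _ _).mp (hreg i hi)).1
    have hcx' : ∀ i, i < e + 1 → ∀ w, d i (d (i + 1) w) = 0 := fun i hi w =>
      LinearMap.congr_fun (hcx i hi) w
    let d' : ∀ i, QuotSMulTop x (F (i + 1 + 1)) →ₗ[R] QuotSMulTop x (F (i + 1)) :=
      fun i => QuotSMulTop.map x (d (i + 1))
    have hd' : ∀ i v, d' i (Submodule.Quotient.mk v) = Submodule.Quotient.mk (d (i + 1) v) :=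
      fun i v => rfl
    have hq : ∀ i (v : F i), (Submodule.Quotient.mk v : QuotSMulTop x (F i)) = 0 → ∃ w, x • w = v := by
      intro i v hv
      rw [Submodule.Quotient.mk_eq_zero, Submodule.mem_smul_pointwise_iff_exists] at hv
      obtain ⟨w, -, hw⟩ := hv
      exact ⟨w, hw⟩
    have hq0 : ∀ i (w : F i), (Submodule.Quotient.mk (x • w) : QuotSMulTop x (F i)) = 0 := fun i w =>
      (Submodule.Quotient.mk_eq_zero _).mpr (Submodule.smul_mem_pointwise_smul _ _ _ Submodule.mem_top)
    have key := ih rs' (fun i => QuotSMulTop x (F (i + 1))) d' (by simpa using hlen)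
      (LinearMap.ext fun q => by
        induction q using Submodule.Quotient.induction_on with | _ v
        rw [hd', show d (e + 1) v = 0 by rw [hlast]; rfl]; rfl)
      (fun i hi => LinearMap.ext fun q => by
        induction q using Submodule.Quotient.induction_on with | _ v
        rw [LinearMap.comp_apply, LinearMap.zero_apply, hd', hd', hcx' (i + 1) (by omega)]; rfl)
      (fun i hi => ((isWeaklyRegular_cons_iff _ _ _).mp (hreg (i + 1) (by omega))).2)
      (fun i hi q hq' y hy => by
        induction q using Submodule.Quotient.induction_on with | _ v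
        rw [hd'] at hq'
        obtain ⟨w, hw⟩ := hq _ _ hq'
        have hw0 : d i w = 0 := by
          refine (hregx i (by omega)) ?_
          show x • d i w = x • 0
          rw [← map_smul, hw, hcx' i (by omega), smul_zero]
        obtain ⟨N, t, ht⟩ := htor i (by omega) w hw0 y (List.mem_cons_of_mem _ hy)
        obtain ⟨M, s, hs⟩ := htor (i + 1) (by omega) (y ^ N • v - x • t)
          (by rw [map_sub, map_smul, map_smul, ht, ← hw, smul_comm, sub_self]) y
          (List.mem_cons_of_mem _ hy)
        refine ⟨M + N, Submodule.Quotient.mk s, ?_⟩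
        rw [hd', hs, smul_sub, smul_smul, ← pow_add, smul_comm (y ^ M) x, Submodule.Quotient.mk_sub,
          hq0, sub_zero]
        rfl)
    intro i hi
    have hstep : ∀ v, d i v = 0 → x • v ∈ LinearMap.range (d (i + 1)) → v ∈ LinearMap.range (d (i + 1)) := by
      rintro v hv ⟨u, hu⟩
      rcases Nat.lt_or_ge i e with hie | hie
      · obtain ⟨q, hq'⟩ := key i hie (Submodule.Quotient.mk u)
          (by rw [hd', hu]; exact hq0 _ _)
        induction q using Submodule.Quotient.induction_on with | _ s
        rw [hd', Submodule.Quotient.eq, Submodule.mem_smul_pointwise_iff_exists] at hq'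
        obtain ⟨z, -, hz⟩ := hq'
        refine ⟨-z, (hregx (i + 1) (by omega)) ?_⟩
        show x • d (i + 1) (-z) = x • v
        rw [map_neg, smul_neg, ← map_smul, hz, map_sub, hcx' (i + 1) (by omega), zero_sub, neg_neg, hu]
      · obtain rfl : i = e := by omega
        refine ⟨0, (hregx (i + 1) (by omega)) ?_⟩
        show x • d (i + 1) 0 = x • v
        rw [← hu, hlast]
        simp
    have hiter : ∀ N v, d i v = 0 → x ^ N • v ∈ LinearMap.range (d (i + 1)) →
        v ∈ LinearMap.range (d (i + 1)) := by
      intro N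
      induction N with
      | zero => intro v _ h; simpa using h
      | succ N ihN =>
        intro v hv h
        refine hstep v hv (ihN _ (by rw [map_smul, hv, smul_zero]) ?_)
        rwa [smul_smul, ← pow_succ]
    intro v hv
    obtain ⟨N, hN⟩ := htor i hi v hv x List.mem_cons_self
    exact hiter N v hv hN

theorem exists_smul_mem_range {a b : ℕ} (B : Matrix (Fin a) (Fin b) R) (p : Ideal R) [p.IsPrime]
    (v : Fin a → R)
    (hv : (algebraMap R (Localization.AtPrime p)) ∘ v ∈
      LinearMap.range (B.map (algebraMap R (Localization.AtPrime p))).mulVecLin) :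
    ∃ s : R, s ∉ p ∧ s • v ∈ LinearMap.range B.mulVecLin := by
  classical
  obtain ⟨w, hw⟩ := hv
  obtain ⟨t, ht⟩ := IsLocalization.exist_integer_multiples_of_finite p.primeCompl w
  choose u hu using ht
  have h1 : ∀ j, algebraMap R (Localization.AtPrime p) ((B.mulVec u) j) =
      algebraMap R (Localization.AtPrime p) ((t : R) * v j) := by
    intro j
    rw [RingHom.map_mulVec, map_mul, show (algebraMap R (Localization.AtPrime p)) ∘ u = (t : R) • w from
      funext hu, Matrix.mulVec_smul, Pi.smul_apply, Algebra.smul_def]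
    exact congrArg (_ * ·) (congrFun hw j)
  choose c hc using fun j => (IsLocalization.eq_iff_exists p.primeCompl _).mp (h1 j)
  refine ⟨(∏ j, (c j : R)) * t, ?_, (∏ j, (c j : R)) • u, ?_⟩
  · exact p.primeCompl.mul_mem (prod_mem fun j _ => (c j).2) t.2
  · rw [map_smul, Matrix.mulVecLin_apply]
    funext j
    simp only [Pi.smul_apply, smul_eq_mul]
    rw [← Finset.prod_erase_mul _ _ (Finset.mem_univ j), mul_assoc (Finset.prod _ _), hc j]
    ring

end


/-- Local step of Buchsbaum–Eisenbud: let R be a Noetherian local ring with maximal ideal m, and 0 →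
R^(n_e) → ⋯ → R^(n_1) → R^(n_0) a complex of finite free modules, the map R^(n_(i+1)) → R^(n_i)
being given by the matrix A i, with 1 ≤ e and e at most the depth of R (there is an R-regular
sequence of length e inside m). If for every prime ideal p ≠ m the complex of matrices over R_p
obtained by localization is exact at R_p^(n_e), …, R_p^(n_1), then the complex is exact at R^(n_e),
…, R^(n_1). -/
theorem result
    {R : Type u} [CommRing R] [IsLocalRing R] [IsNoetherianRing R]
    (e : ℕ) (he : 1 ≤ e) (n : ℕ → ℕ) (A : (i : ℕ) → Matrix (Fin (n i)) (Fin (n (i + 1))) R)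
    (hA : ∀ i, i + 2 ≤ e → A i * A (i + 1) = 0)
    (rs : List R) (hlen : rs.length = e) (hmem : ∀ x ∈ rs, x ∈ IsLocalRing.maximalIdeal R)
    (hreg : RingTheory.Sequence.IsRegular R rs)
    (hloc : ∀ (p : Ideal R) [p.IsPrime], p ≠ IsLocalRing.maximalIdeal R →
      LinearMap.ker ((A (e - 1)).map (algebraMap R (Localization.AtPrime p))).mulVecLin = ⊥ ∧
        ∀ i, i + 2 ≤ e →
          LinearMap.ker ((A i).map (algebraMap R (Localization.AtPrime p))).mulVecLin =
            LinearMap.range ((A (i + 1)).map (algebraMap R (Localization.AtPrime p))).mulVecLin) :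
    LinearMap.ker (A (e - 1)).mulVecLin = ⊥ ∧
      ∀ i, i + 2 ≤ e → LinearMap.ker (A i).mulVecLin = LinearMap.range (A (i + 1)).mulVecLin := by

  classical
  let d : ∀ i, (Fin (n (i + 1)) → R) →ₗ[R] (Fin (n i) → R) :=
    fun i => if i < e then (A i).mulVecLin else 0
  have hd : ∀ i, i < e → d i = (A i).mulVecLin := fun i hi => if_pos hi
  have hde : d e = 0 := if_neg (lt_irrefl e)
  have hcx : ∀ i, i < e → (d i) ∘ₗ (d (i + 1)) = 0 := by
    intro i hi
    rcases Nat.lt_or_ge (i + 1) e with h | h
    · rw [hd i hi, hd _ h, ← Matrix.mulVecLin_mul, hA i (by omega), Matrix.mulVecLin_zero]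
    · rw [show d (i + 1) = 0 from if_neg (by omega), LinearMap.comp_zero]
  have hreg' : ∀ i, RingTheory.Sequence.IsWeaklyRegular (Fin (n i) → R) rs := fun i =>
    (LinearEquiv.isWeaklyRegular_congr (TensorProduct.piScalarRight R R R (Fin (n i))) rs).mp
      hreg.toIsWeaklyRegular.isWeaklyRegular_rTensor
  have htor : ∀ i, i < e → ∀ v, d i v = 0 → ∀ x ∈ rs, ∃ N : ℕ, x ^ N • v ∈ LinearMap.range (d (i + 1)) := by
    intro i hi v hv x hx
    let J : Ideal R := (LinearMap.range (d (i + 1))).comap (LinearMap.toSpanSingleton R _ v)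
    have hJ : ∀ p : Ideal R, p.IsPrime → J ≤ p → p = IsLocalRing.maximalIdeal R := by
      intro p hp hJp
      by_contra hne
      obtain ⟨hker, hex⟩ := @hloc p hp hne
      rw [hd i hi] at hv
      have hv' : (algebraMap R (Localization.AtPrime p)) ∘ v ∈
          LinearMap.ker ((A i).map (algebraMap R (Localization.AtPrime p))).mulVecLin := by
        rw [LinearMap.mem_ker, Matrix.mulVecLin_apply]
        funext j
        rw [← RingHom.map_mulVec, show (A i).mulVec v = 0 from hv]
        simp
      rcases Nat.lt_or_ge (i + 1) e with h | h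
      · rw [hex i (by omega)] at hv'
        obtain ⟨s, hs, hsv⟩ := exists_smul_mem_range (A (i + 1)) p v hv'
        refine hs (hJp (Submodule.mem_comap.mpr ?_))
        rw [hd _ h]; exact hsv
      · obtain rfl : i = e - 1 := by omega
        rw [hker, Submodule.mem_bot] at hv'
        choose c hc using fun j => (IsLocalization.map_eq_zero_iff p.primeCompl _ (v j)).mp (congrFun hv' j)
        refine p.primeCompl.prod_mem (t := Finset.univ) (fun j _ => (c j).2) (hJp ?_)
        rw [Submodule.mem_comap, LinearMap.toSpanSingleton_apply]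
        refine ⟨0, ?_⟩
        rw [map_zero]
        funext j
        rw [Pi.zero_apply, Pi.smul_apply, smul_eq_mul, ← Finset.prod_erase_mul _ _ (Finset.mem_univ j),
          mul_assoc, hc j, mul_zero]
    obtain ⟨N, hN⟩ : x ∈ J.radical := by
      rw [Ideal.radical_eq_sInf, Submodule.mem_sInf]
      rintro p ⟨hJp, hp⟩
      rw [hJ p hp hJp]; exact hmem x hx
    exact ⟨N, hN⟩
  have key := acyclic e rs (fun i => Fin (n i) → R) d hlen hde hcx (fun i _ => hreg' i) htor
  refine ⟨?_, fun i hi => le_antisymm ?_ ?_⟩
  · rw [eq_bot_iff]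
    intro v hv
    obtain ⟨w, hw⟩ := key (e - 1) (by omega) v (by rw [hd _ (by omega)]; exact hv)
    rw [show d (e - 1 + 1) = 0 from if_neg (by omega)] at hw
    rw [Submodule.mem_bot, ← hw]; rfl
  · intro v hv
    have h := key i (by omega) v (by rw [hd _ (by omega)]; exact hv)
    rwa [hd _ (by omega)] at h
  · rintro _ ⟨w, rfl⟩
    show ((A i).mulVecLin ∘ₗ (A (i + 1)).mulVecLin) w = 0
    rw [← Matrix.mulVecLin_mul, hA i hi, Matrix.mulVecLin_zero]; rfl

end Groth.Agent.S18128
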