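import Groth.Statements.S5784
import Groth.Agent.EGA4Alg4.RegCompletion

set_option autoImplicit false
universe u
open EGA41

namespace Groth.Agent.S5784

/-- If A is a regular ring, then the formal power series ring A[[T_1, ..., T_n]] is regular, for every
n. -/
theorem result (A : Type u) [CommRing A] [IsRegularRing A] (n : ℕ) :
    IsRegularRing (MvPowerSeries (Fin n) A) := by
    exact EGA4Alg4.RegCompletion13.isRegularRing_mvPowerSeries A n

end Groth.Agent.S5784
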