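import Groth.Statements.S5158
import Groth.Agent.InjHull18.Torsion
import Mathlib.RingTheory.AdicCompletion.Completeness
import Mathlib.RingTheory.AdicCompletion.Algebra


set_option autoImplicit false
universe u
open scoped TensorProduct
open Matlis

namespace Groth.Agent.S5158

/-- Let A be a Noetherian local ring, Â its m-adic completion and I an m-power torsion A-module (a union
of submodules of finite length). Then x ↦ 1 ⊗ x is a bijection I → Â ⊗_A I. -/
theorem result (A : Type u) [CommRing A] [IsLocalRing A] [IsNoetherianRing A] (I : Type u) [AddCommGroup I] [Module A I] (hI : LocCoh.IsPowerTorsion (IsLocalRing.maximalIdeal A) I) : Function.Bijective (TensorProduct.mk A (AdicCompletion (IsLocalRing.maximalIdeal A) A) I 1) := by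
  let m := IsLocalRing.maximalIdeal A
  let C := AdicCompletion m A
  choose d hd using hI
  choose rep hrep using fun (x : C) (n : ℕ) =>
    Ideal.Quotient.mk_surjective (AdicCompletion.evalₐ m n x)
  have hres : ∀ (n : ℕ) (e : I) (r s : A), (∀ a ∈ m ^ n, a • e = 0) →
      Ideal.Quotient.mk (m ^ n) r = Ideal.Quotient.mk (m ^ n) s → r • e = s • e := by
    intro n e r s he h
    exact sub_eq_zero.1 (by rw [← sub_smul]; exact he _ (Ideal.Quotient.eq.1 h))
  have hcomp : ∀ (x : C) (a b : ℕ), a ≤ b →
      Ideal.Quotient.mk (m ^ a) (rep x b) = Ideal.Quotient.mk (m ^ a) (rep x a) := by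
    intro x a b hab
    obtain ⟨c, rfl⟩ := AdicCompletion.mk_surjective m A x
    have h1 : Ideal.Quotient.mk (m ^ b) (rep (AdicCompletion.mk m A c) b) =
        Ideal.Quotient.mk (m ^ b) (c.val b) := (hrep _ b).trans (AdicCompletion.evalₐ_mk _ _ _)
    have h2 : Ideal.Quotient.mk (m ^ a) (rep (AdicCompletion.mk m A c) a) =
        Ideal.Quotient.mk (m ^ a) (c.val a) := (hrep _ a).trans (AdicCompletion.evalₐ_mk _ _ _)
    rw [h2, Ideal.Quotient.eq, show rep (AdicCompletion.mk m A c) b - c.val a =
      (rep (AdicCompletion.mk m A c) b - c.val b) + (c.val b - c.val a) by ring]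
    refine add_mem (Ideal.pow_le_pow_right hab (Ideal.Quotient.eq.1 h1)) ?_
    have h3 := SModEq.sub_mem.1 (c.property hab)
    rw [← neg_sub]
    exact neg_mem (by simpa [Ideal.mul_top] using h3)
  have key : ∀ (x : C) (e : I) (n : ℕ), (∀ a ∈ m ^ n, a • e = 0) →
      rep x (d e) • e = rep x n • e := by
    intro x e n he
    rcases le_total (d e) n with h | h
    · exact (hres _ e _ _ (hd e) (hcomp x _ _ h)).symm
    · exact hres _ e _ _ he (hcomp x _ _ h)
  let β : C →ₗ[A] I →ₗ[A] I := LinearMap.mk₂ A (fun x e => rep x (d e) • e)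
    (fun x y e => by
      rw [← add_smul]
      exact hres _ e _ _ (hd e) (by rw [map_add, hrep, hrep, hrep, map_add]))
    (fun c x e => by
      rw [smul_smul]
      exact hres _ e _ _ (hd e) (by
        rw [map_mul, hrep, hrep, map_smul, Algebra.smul_def]
        rfl))
    (fun x e e' => by
      have h1 : ∀ a ∈ m ^ (d e + d e'), a • e = 0 := fun a ha =>
        hd e a (Ideal.pow_le_pow_right (Nat.le_add_right _ _) ha)
      have h2 : ∀ a ∈ m ^ (d e + d e'), a • e' = 0 := fun a ha =>
        hd e' a (Ideal.pow_le_pow_right (Nat.le_add_left _ _) ha)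
      rw [key x (e + e') _ (fun a ha => by rw [smul_add, h1 a ha, h2 a ha, add_zero]),
        key x e _ h1, key x e' _ h2, smul_add])
    (fun c x e => by
      rw [key x (c • e) (d e) (fun a ha => by rw [smul_comm, hd e a ha, smul_zero]), smul_comm])
  refine ⟨fun e e' h => ?_, fun z => ?_⟩
  · have h1 : ∀ e : I, TensorProduct.lift β (TensorProduct.mk A C I 1 e) = e := fun e => by
      show rep 1 (d e) • e = e
      conv_rhs => rw [← one_smul A e]
      exact hres _ e _ _ (hd e) (by rw [hrep, map_one, map_one])
    rw [← h1 e, ← h1 e', h]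
  · induction z with
    | zero => exact ⟨0, map_zero _⟩
    | add x y hx hy =>
      obtain ⟨u, hu⟩ := hx
      obtain ⟨v, hv⟩ := hy
      exact ⟨u + v, by rw [map_add, hu, hv]⟩
    | tmul x e =>
      refine ⟨rep x (d e) • e, ?_⟩
      show (1 : C) ⊗ₜ[A] (rep x (d e) • e) = x ⊗ₜ[A] e
      rw [← TensorProduct.smul_tmul]
      have hker : x - rep x (d e) • (1 : C) ∈ m ^ d e • (⊤ : Submodule A C) := by
        rw [AdicCompletion.pow_smul_top_eq_ker_eval (IsNoetherian.noetherian m), LinearMap.mem_ker]
        have h1 : AdicCompletion.evalₐ m (d e) (x - rep x (d e) • (1 : C)) = 0 := by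
          rw [map_sub, map_smul, map_one, Algebra.smul_def, mul_one, ← hrep x (d e)]
          exact sub_self _
        rw [← AdicCompletion.factor_evalₐ_eq_eval m _ (by rw [smul_eq_mul, Ideal.mul_top]), h1,
          map_zero]
      have hzero : ∀ y ∈ m ^ d e • (⊤ : Submodule A C), y ⊗ₜ[A] e = 0 := by
        intro y hy
        induction hy using Submodule.smul_induction_on' with
        | smul a ha b _ => rw [TensorProduct.smul_tmul, hd e a ha, TensorProduct.tmul_zero]
        | add a _ b _ h1 h2 => rw [TensorProduct.add_tmul, h1, h2, add_zero]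
      have h2 := hzero _ hker
      rw [TensorProduct.sub_tmul, sub_eq_zero] at h2
      exact h2.symm

end Groth.Agent.S5158
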