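import Groth.Statements.S13062
import Groth.Agent.Zeta30.OverField


set_option autoImplicit false
universe u
open CategoryTheory AlgebraicGeometry
open Zeta

namespace Groth.Agent.S13062

/-- If X is a variety of dimension r over a finite field k with q elements, there is a constant c_X > 0
with #X(F_{q^e}) ≤ c_X q^{re} for every e ≥ 1. Stated for any scheme of finite type over k of
dimension at most r, with a natural-number constant. -/
theorem result {k : Type u} [Field k] [Finite k] {X : Scheme.{u}}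
    (f : X ⟶ Spec (CommRingCat.of k)) [LocallyOfFiniteType f] [QuasiCompact f] (r : ℕ)
    (hr : topologicalKrullDim X ≤ r) :
    ∃ c : ℕ, ∀ (k' : Type u) [Field k'] [Algebra k k'] [Finite k'],
      SgaExt.pointCount f k' ≤ c * Nat.card k ^ (r * Module.finrank k k') := by
  classical
  obtain ⟨c, p₀, hc, hbd⟩ := S13070.result (f ≫ Zeta30.specToInt k) r hr
  refine ⟨⌈c⌉₊, fun k' _ _ _ => ?_⟩
  have := Fintype.ofFinite k'
  obtain ⟨p, hp⟩ := CharP.exists k'
  obtain ⟨m, hpp, hm⟩ := FiniteField.card k' p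
  have hcard : Nat.card k' = p ^ (m : ℕ) := by rw [Nat.card_eq_fintype_card, hm]
  have := Zeta30.finite_points (f ≫ Zeta30.specToInt k) k'
  have h1 : SgaExt.pointCount f k' ≤ Nat.card (Spec (CommRingCat.of k') ⟶ X) :=
    Nat.card_le_card_of_injective _ Subtype.val_injective
  obtain ⟨ha, hb⟩ := hbd p m hpp m.2 k' hcard
  have hq : Nat.card k ^ (r * Module.finrank k k') = p ^ ((m : ℕ) * r) := by
    have : Module.Finite k k' := Module.Finite.of_finite
    rw [pow_mul', ← Module.natCard_eq_pow_finrank (K := k) (V := k'), hcard, ← pow_mul]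
  rw [hq]
  have h1p : (1 : ℝ) ≤ p := by exact_mod_cast hpp.one_le
  have h2 : (Nat.card (Spec (CommRingCat.of k') ⟶ X) : ℝ) ≤ c * (p : ℝ) ^ (((m : ℕ) : ℝ) * r) := by
    rcases le_or_gt p₀ p with h | h
    · exact (ha h).trans (mul_le_mul_of_nonneg_left (Real.rpow_le_rpow_of_exponent_le h1p
        (mul_le_mul_of_nonneg_left (by linarith) (Nat.cast_nonneg _))) hc.le)
    · exact hb h
  have h3 : (SgaExt.pointCount f k' : ℝ) ≤ ((⌈c⌉₊ * p ^ ((m : ℕ) * r) : ℕ) : ℝ) := by
    refine ((Nat.cast_le.2 h1).trans h2).trans ?_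
    rw [← Nat.cast_mul, Real.rpow_natCast, Nat.cast_mul, Nat.cast_pow]
    exact mul_le_mul_of_nonneg_right (Nat.le_ceil c) (by positivity)
  exact_mod_cast h3

end Groth.Agent.S13062
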