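import Groth.Prelude.Def_Lef
import Groth.Agent.EGA73.Invertible
import Groth.Agent.Formal27.QuasiAffine

/-!
The Lefschetz condition for the structure sheaf: sections, idempotents and connectedness.
-/

set_option autoImplicit false
set_option maxHeartbeats 400000
set_option backward.isDefEq.respectTransparency.types false
universe u

open CategoryTheory CategoryTheory.Limits AlgebraicGeometry TopologicalSpace Opposite

namespace Groth.Agent.Lef91

section Idem

variable {Z : Scheme.{u}}

/-- A clopen subset is the locus where an idempotent function is invertible. -/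
theorem exists_idempotent {C : Set Z} (hC : IsClopen C) :
    ∃ e : Γ(Z, ⊤), e * e = e ∧ (Z.basicOpen e : Set Z) = C := by
  let V : Bool → Z.Opens := fun b => if b then ⟨C, hC.isOpen⟩ else ⟨Cᶜ, hC.compl.isOpen⟩
  let sf : ∀ b, Γ(Z, V b) := fun b => if b then 1 else 0
  have hcov : (⊤ : Z.Opens) ≤ iSup V := fun z _ => by
    rw [Opens.mem_iSup]
    by_cases hz : z ∈ C
    · exact ⟨true, by simpa [V] using hz⟩
    · exact ⟨false, by simpa [V] using hz⟩
  have hcompat : TopCat.Presheaf.IsCompatible Z.presheaf V sf := by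
    intro a b
    by_cases hab : a = b
    · subst hab; rfl
    · have hbot : V a ⊓ V b = ⊥ := by
        refine Opens.ext (Set.eq_empty_iff_forall_notMem.2 fun z hz => ?_)
        cases a <;> cases b <;> simp [V] at hab hz
      have : Subsingleton Γ(Z, V a ⊓ V b) := by rw [hbot]; infer_instance
      exact Subsingleton.elim _ _
  obtain ⟨e, he, -⟩ := Z.sheaf.existsUnique_gluing' V ⊤ (fun b => homOfLE le_top) hcov sf hcompat
  refine ⟨e, ?_, ?_⟩
  · refine Z.sheaf.eq_of_locally_eq' V ⊤ (fun b => homOfLE le_top) hcov _ _ fun b => ?_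
    refine ((map_mul (Z.presheaf.map (homOfLE (le_top : V b ≤ ⊤)).op).hom e e).trans ?_).trans (he b).symm
    exact (congrArg₂ (fun x y : Γ(Z, V b) => x * y) (he b) (he b)).trans (by cases b <;> simp [sf])
  · ext z
    have key : ∀ b (hz : z ∈ V b),
        IsUnit (Z.presheaf.germ ⊤ z trivial e) ↔ IsUnit (Z.presheaf.germ (V b) z hz (sf b)) := fun b hz => by
      rw [← show (Z.presheaf.map (homOfLE (le_top : V b ≤ ⊤)).op).hom e = sf b from he b]
      erw [Z.presheaf.germ_res_apply]
    rw [SetLike.mem_coe, Scheme.mem_basicOpen_top]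
    by_cases hz : z ∈ C
    · exact iff_of_true ((key true (by simpa [V] using hz)).2 (by simp [sf])) hz
    · exact iff_of_false (fun h => absurd ((key false (by simpa [V] using hz)).1 h) (by simp [sf])) hz

/-- An idempotent function is determined by the locus where it is invertible. -/
theorem idempotent_ext {e e' : Γ(Z, ⊤)} (he : e * e = e) (he' : e' * e' = e')
    (h : Z.basicOpen e = Z.basicOpen e') : e = e' := by
  have hgerm : ∀ (f : Γ(Z, ⊤)), f * f = f → ∀ z, (z ∈ Z.basicOpen f → Z.presheaf.germ ⊤ z trivial f = 1) ∧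
      (z ∉ Z.basicOpen f → Z.presheaf.germ ⊤ z trivial f = 0) := fun f hf z => by
    rw [Scheme.mem_basicOpen_top]
    have hi : IsIdempotentElem (Z.presheaf.germ ⊤ z trivial f) := by
      exact (map_mul _ f f).symm.trans (congrArg _ hf)
    refine ⟨fun hu => (IsIdempotentElem.iff_eq_one_of_isUnit hu).1 hi, fun hu => ?_⟩
    rcases IsLocalRing.isUnit_or_isUnit_one_sub_self (Z.presheaf.germ ⊤ z trivial f) with h1 | h1
    · exact absurd h1 hu
    · exact h1.mul_left_eq_zero.1 hi.mul_one_sub_self
  refine TopCat.Presheaf.section_ext Z.sheaf ⊤ e e' fun z _ => ?_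
  by_cases hz : z ∈ Z.basicOpen e
  · exact ((hgerm e he z).1 hz).trans ((hgerm e' he' z).1 (h ▸ hz)).symm
  · exact ((hgerm e he z).2 hz).trans ((hgerm e' he' z).2 (h ▸ hz)).symm

theorem isClopen_basicOpen {e : Γ(Z, ⊤)} (he : e * e = e) : IsClopen (Z.basicOpen e : Set Z) := by
  refine ⟨isOpen_compl_iff.1 ?_, (Z.basicOpen e).isOpen⟩
  have : (Z.basicOpen e : Set Z)ᶜ = Z.basicOpen (1 - e) := by
    ext z
    simp only [Set.mem_compl_iff, SetLike.mem_coe, Scheme.mem_basicOpen_top]
    rw [map_sub, map_one]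
    have hi : IsIdempotentElem (Z.presheaf.germ ⊤ z trivial e) := (map_mul _ e e).symm.trans (congrArg _ he)
    refine ⟨fun hu => ?_, fun h1 hu => ?_⟩
    · rcases IsLocalRing.isUnit_or_isUnit_one_sub_self (Z.presheaf.germ ⊤ z trivial e) with h1 | h1
      exacts [absurd h1 hu, h1]
    · exact not_isUnit_zero (hi.mul_one_sub_self ▸ hu.mul h1)
  rw [this]
  exact (Z.basicOpen (1 - e)).isOpen

end Idem

section Formal

variable {W : Scheme.{u}}

/-- The inclusion of consecutive powers, with successor indices. -/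
theorem le_succ (J : W.IdealSheafData) (n : ℕ) : J ^ (n + 1 + 1) ≤ J ^ (n + 1) := Lef.pow_succ_le J n

/-- The restriction of a global function to a thickening. -/
noncomputable def toThick (J : W.IdealSheafData) (n : ℕ) : Γ(W, ⊤) →+* Γ((J ^ (n + 1)).subscheme, ⊤) :=
  ((J ^ (n + 1)).subschemeι.appTop).hom

/-- The two halves of the bijectivity on functions. -/
def FormalFunctions (J : W.IdealSheafData) : Prop :=
  (∀ a b : Γ(W, ⊤), (∀ n, toThick J n a = toThick J n b) → a = b) ∧
    ∀ e : ∀ n, Γ((J ^ (n + 1)).subscheme, ⊤),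
      (∀ n, (Scheme.IdealSheafData.inclusion (le_succ J n)).appTop.hom (e (n + 1)) = e n) →
      ∃ a : Γ(W, ⊤), ∀ n, toThick J n a = e n

theorem toSubscheme_app_one (I : W.IdealSheafData) (φ : Coh.structureModule W ⟶ Coh.structureModule W) :
    (φ ≫ ClSub.toSubscheme I).app ⊤ (Formal27.oneSec W) =
      I.subschemeι.appTop.hom (φ.app ⊤ (Formal27.oneSec W)) := rfl

theorem unitHom_one {M : W.Modules} (m : Γ(M, ⊤)) : (EGA73.unitHom M m).app ⊤ (Formal27.oneSec W) = m := by
  refine (EGA73.unitHom_app M m ⊤ (1 : Γ(W, ⊤))).trans ?_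
  rw [one_smul, show (homOfLE (le_top : (⊤ : W.Opens) ≤ ⊤)).op = 𝟙 (op ⊤) from rfl, M.presheaf.map_id]
  rfl

theorem quotMap_app_top {I J : W.IdealSheafData} (h : I ≤ J) (x : Γ(I.subscheme, ⊤)) :
    (Lef.quotMap h).app ⊤ (x : Γ(ClSub.quotMod I, ⊤)) =
      (Scheme.IdealSheafData.inclusion h).appTop.hom x := by
  simp [Lef.quotMap]
  rfl

theorem formalFunctions {J : W.IdealSheafData} (h : Lef.HomToFormalBijective J (Coh.structureModule W)) :
    FormalFunctions J := by
  refine ⟨fun a b hab => ?_, fun e he => ?_⟩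
  · have := h.1 (EGA73.unitHom _ (a : Γ(Coh.structureModule W, ⊤)))
      (EGA73.unitHom _ (b : Γ(Coh.structureModule W, ⊤))) fun n => Formal27.hom_ext_one (by
        rw [toSubscheme_app_one, toSubscheme_app_one, unitHom_one, unitHom_one]
        exact hab n)
    have h2 := congrArg (fun q : Coh.structureModule W ⟶ Coh.structureModule W => q.app ⊤ (Formal27.oneSec W)) this
    simp only [unitHom_one] at h2
    exact h2
  · let y : ∀ n, Coh.structureModule W ⟶ ClSub.quotMod (J ^ (n + 1)) := fun n =>
      EGA73.unitHom (ClSub.quotMod (J ^ (n + 1))) (e n)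
    have hy : ∀ n, y (n + 1) ≫ Lef.quotMap (le_succ J n) = y n := fun n => by
      refine Formal27.hom_ext_one ?_
      refine Eq.trans ?_ (unitHom_one (M := ClSub.quotMod (J ^ (n + 1))) (e n)).symm
      refine Eq.trans ?_ (he n)
      refine Eq.trans ?_ (quotMap_app_top (le_succ J n) (e (n + 1)))
      exact congrArg ((Lef.quotMap (le_succ J n)).app ⊤)
        (unitHom_one (M := ClSub.quotMod (J ^ (n + 1 + 1))) (e (n + 1)))
    obtain ⟨φ, hφ⟩ := h.2 y hy
    refine ⟨φ.app ⊤ (Formal27.oneSec W), fun n => ?_⟩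
    exact (toSubscheme_app_one (J ^ (n + 1)) φ).symm.trans
      ((congrArg (fun q : Coh.structureModule W ⟶ ClSub.quotMod (J ^ (n + 1)) => q.app ⊤ (Formal27.oneSec W))
        (hφ n)).trans (unitHom_one (M := ClSub.quotMod (J ^ (n + 1))) (e n)))

theorem range_thick (J : W.IdealSheafData) (n : ℕ) :
    Set.range (J ^ (n + 1)).subschemeι = (J.support : Set W) := by
  rw [Scheme.IdealSheafData.range_subschemeι, Scheme.IdealSheafData.support_pow_succ]

/-- The point of the support under a point of a thickening. -/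
noncomputable def thickPt (J : W.IdealSheafData) (n : ℕ) (z : (J ^ (n + 1)).subscheme) : (J.support : Set W) :=
  ⟨(J ^ (n + 1)).subschemeι z, (range_thick J n).le ⟨z, rfl⟩⟩

theorem pt_inclusion {I K : W.IdealSheafData} (h : I ≤ K) (z : K.subscheme) :
    I.subschemeι (Scheme.IdealSheafData.inclusion h z) = K.subschemeι z := by
  rw [← Scheme.Hom.comp_apply, Scheme.IdealSheafData.inclusion_subschemeι]

theorem thickPt_inclusion (J : W.IdealSheafData) (n : ℕ) (z : (J ^ (n + 1)).subscheme) :
    thickPt J (n + 1) (Scheme.IdealSheafData.inclusion (le_succ J n) z) = thickPt J n z :=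
  Subtype.ext (pt_inclusion (le_succ J n) z)

theorem inclusion_idem {T : Type u} {I K : W.IdealSheafData} (h : I ≤ K) (C : Set T) (r : I.subscheme → T)
    (r' : K.subscheme → T) (hr : ∀ z, r (Scheme.IdealSheafData.inclusion h z) = r' z)
    {e : Γ(I.subscheme, ⊤)} {e' : Γ(K.subscheme, ⊤)} (he : e * e = e) (he' : e' * e' = e')
    (heC : (I.subscheme.basicOpen e : Set I.subscheme) = r ⁻¹' C)
    (heC' : (K.subscheme.basicOpen e' : Set K.subscheme) = r' ⁻¹' C) :
    (Scheme.IdealSheafData.inclusion h).appTop.hom e = e' := by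
  refine idempotent_ext ((map_mul _ e e).symm.trans (congrArg _ he)) he' (Opens.ext ?_)
  rw [← Scheme.preimage_basicOpen_top, heC']
  ext z
  change Scheme.IdealSheafData.inclusion h z ∈ (I.subscheme.basicOpen e : Set I.subscheme) ↔ r' z ∈ C
  rw [heC, Set.mem_preimage, hr]

theorem connectedSpace_support_iff {J : W.IdealSheafData} (h : FormalFunctions J) :
    ConnectedSpace (J.support : Set W) ↔ ConnectedSpace W := by
  obtain ⟨hinj, hsurj⟩ := h
  constructor
  · intro hc
    have hne : Nonempty W := ⟨(Classical.arbitrary (J.support : Set W)).1⟩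
    refine connectedSpace_iff_clopen.2 ⟨hne, fun C hC => ?_⟩
    obtain ⟨e, he, heC⟩ := exists_idempotent hC
    have hcase := (connectedSpace_iff_clopen.1 hc).2 (Subtype.val ⁻¹' C) (hC.preimage continuous_subtype_val)
    have hb : ∀ n, ((J ^ (n + 1)).subscheme.basicOpen (toThick J n e) : Set _) =
        (J ^ (n + 1)).subschemeι ⁻¹' C := fun n => by
      rw [← heC]
      exact congrArg SetLike.coe (Scheme.preimage_basicOpen_top _ e).symm
    rcases hcase with h0 | h1
    · left
      have : e = 0 := hinj e 0 fun n => by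
        rw [map_zero]
        refine idempotent_ext ((map_mul _ e e).symm.trans (congrArg _ he)) (mul_zero _) (Opens.ext ?_)
        rw [hb n, Scheme.basicOpen_zero]
        refine Set.eq_empty_iff_forall_notMem.2 fun z hz => ?_
        have hzs : (J ^ (n + 1)).subschemeι z ∈ (J.support : Set W) := (range_thick J n).le ⟨z, rfl⟩
        exact (h0.le (show (⟨_, hzs⟩ : (J.support : Set W)) ∈ Subtype.val ⁻¹' C from hz))
      rw [← heC, this, Scheme.basicOpen_zero]
      rfl
    · right
      have : e = 1 := hinj e 1 fun n => by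
        rw [map_one]
        refine idempotent_ext ((map_mul _ e e).symm.trans (congrArg _ he)) (one_mul _) (Opens.ext ?_)
        rw [hb n, Scheme.basicOpen_of_isUnit _ isUnit_one]
        refine Set.eq_univ_iff_forall.2 fun z => ?_
        have hzs : (J ^ (n + 1)).subschemeι z ∈ (J.support : Set W) := (range_thick J n).le ⟨z, rfl⟩
        exact (h1.ge (Set.mem_univ (⟨_, hzs⟩ : (J.support : Set W))) :)
      rw [← heC, this, Scheme.basicOpen_of_isUnit _ isUnit_one]
      rfl
  · intro hc
    obtain ⟨hne, hcl⟩ := connectedSpace_iff_clopen.1 hc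
    have hYne : Nonempty (J.support : Set W) := by
      by_contra hY
      have h01 : (0 : Γ(W, ⊤)) = 1 := hinj 0 1 fun n => by
        have : IsEmpty ↥((J ^ (n + 1)).subscheme) :=
          ⟨fun z => hY ⟨⟨(J ^ (n + 1)).subschemeι z, (range_thick J n).le ⟨z, rfl⟩⟩⟩⟩
        exact idempotent_ext ((map_mul _ _ _).symm.trans (congrArg _ (mul_zero 0)))
          ((map_mul _ _ _).symm.trans (congrArg _ (mul_one 1))) (Opens.ext (Set.ext fun z => isEmptyElim z))
      have : (W.basicOpen (0 : Γ(W, ⊤)) : Set W) = W.basicOpen (1 : Γ(W, ⊤)) := by rw [h01]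
      rw [Scheme.basicOpen_zero, Scheme.basicOpen_of_isUnit _ isUnit_one] at this
      exact absurd this.symm (Set.univ_nonempty.ne_empty)
    refine connectedSpace_iff_clopen.2 ⟨hYne, fun C hC => ?_⟩
    let r : ∀ n, (J ^ (n + 1)).subscheme → (J.support : Set W) := thickPt J
    have hr : ∀ n, IsClopen (r n ⁻¹' C) := fun n =>
      hC.preimage (((J ^ (n + 1)).subschemeι.continuous).subtype_mk _)
    choose e he heC using fun n => exists_idempotent (hr n)
    obtain ⟨a, ha⟩ := hsurj e fun n => inclusion_idem (le_succ J n) C (r (n + 1)) (r n)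
      (thickPt_inclusion J n) (he (n + 1)) (he n) (heC (n + 1)) (heC n)
    have ha2 : a * a = a := hinj _ _ fun n => by rw [map_mul, ha, he]
    have hC0 : r 0 ⁻¹' C = (J ^ (0 + 1)).subschemeι ⁻¹' (W.basicOpen a : Set W) := by
      rw [← heC 0, ← ha 0]
      exact congrArg SetLike.coe (Scheme.preimage_basicOpen_top _ a).symm
    have hsurj0 : Function.Surjective (r 0) := fun y => by
      obtain ⟨z, hz⟩ := (range_thick J 0).ge y.2
      exact ⟨z, Subtype.ext hz⟩
    rcases hcl _ (isClopen_basicOpen ha2) with h0 | h1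
    · left
      rw [← hsurj0.preimage_injective.eq_iff, hC0, h0]
      rfl
    · right
      rw [← hsurj0.preimage_injective.eq_iff, hC0, h1]
      rfl

end Formal

end Groth.Agent.Lef91
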