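import Groth.Statements.S7669
import Groth.Agent.Curves2.Glue.Discrete
import Groth.Agent.Curves2.Glue.Isolated

set_option autoImplicit false
universe u
open CategoryTheory CategoryTheory.Limits AlgebraicGeometry
open Variety

namespace Groth.Agent.S7669
open Groth.Agent Groth.Agent.Curves2 Groth.Agent.Var76.LineBundle

theorem hP_push (X : Scheme.{u}) (U : X.Opens) (N : (U : Scheme.{u}).Modules) (V : X.Opens) :
    Function.Bijective (res ((Scheme.Modules.pushforward U.ι).obj N) (inf_le_left : V ⊓ U ≤ V)) :=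
  ParaF26.closed_pushforward U.ι N ⊤
    (by rw [Scheme.Opens.opensRange_ι]; exact inf_le_right) V le_top

theorem hPf_push (X : Scheme.{u}) (U : X.Opens) (N : (U : Scheme.{u}).Modules) (hN : PicF.IsInvertible N) :
    ∀ y ∈ U, ∃ U₀ : X.Opens, U₀ ≤ U ∧ y ∈ U₀ ∧
      ∃ p : Γ((Scheme.Modules.pushforward U.ι).obj N, U₀),
        IsFrame ((Scheme.Modules.pushforward U.ι).obj N) U₀ p := fun y hy => by
  obtain ⟨W, e, hyW, hWU, he⟩ := ParaF26.framedOn_push U.ι hN (V := U)
    (le_of_eq (Scheme.Opens.opensRange_ι U).symm) y hy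
  exact ⟨W, hWU, hyW, e, he⟩

theorem part1 (X : Scheme.{u}) (U : X.Opens)
    [QuasiCompact U.ι] (hdisc : DiscreteTopology ↥((U : Set X)ᶜ))
    (hloc : ∀ x : X, x ∉ U → IsNoetherianRing (X.presheaf.stalk x) ∧ ringKrullDim (X.presheaf.stalk x) ≤ 1) :
    ∃ (L : X.Modules) (s : Coh.structureModule X ⟶ L), PicF.IsInvertible L ∧ CohB1.genLocus L s = U := by
  choose W hW hxW hWx t ht using fun x : {x : X // x ∉ U} =>
    Glue.exists_nhd_basicOpen U hdisc x.2 (hloc x x.2).1 (hloc x x.2).2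
  let P := (Scheme.Modules.pushforward U.ι).obj (Coh.structureModule (U : Scheme.{u}))
  have hP : ∀ V : X.Opens, Function.Bijective (res P (inf_le_left : V ⊓ U ≤ V)) :=
    hP_push X U _
  let one : Γ(P, ⊤) := (1 : Γ((U : Scheme.{u}), U.ι ⁻¹ᵁ ⊤))
  have hone : IsFrame P U (res P le_top one) := by
    refine ParaF26.isFrame_push U.ι (fun W' hW' => ParaF26.bijective_app_of_le U.ι
      (hW'.trans (Scheme.Opens.opensRange_ι U).ge)) (ParaF26.isFrame_one.res ?_)
    exact le_top
  have hdisj : ∀ i j : {x : X // x ∉ U}, i ≠ j → W i ⊓ W j ≤ U := fun i j hij y hy => by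
    by_contra hyU
    exact hij (Subtype.ext ((hWx i y hy.1 hyU).symm.trans (hWx j y hy.2 hyU)))
  have hcov : ∀ x : X, x ∈ U ∨ ∃ i, x ∈ W i := fun x => by
    by_cases hx : x ∈ U
    · exact Or.inl hx
    · exact Or.inr ⟨⟨x, hx⟩, hxW ⟨x, hx⟩⟩
  have hu : ∀ i, IsUnit (X.presheaf.map (homOfLE (inf_le_left : W i ⊓ U ≤ W i)).op (t i)) := fun i => by
    have h1 := (RingedSpace.isUnit_res_basicOpen X.toRingedSpace (t i)).map
      (X.presheaf.map (homOfLE (ht i).ge).op).hom
    rw [← Glue.map_map_fn (X.basicOpen_le (t i)) (ht i).ge]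
    exact h1
  choose v hv using fun i => (hu i).exists_right_inv
  choose e he using fun i => (hP (W i)).2 (v i • res P le_top one)
  have hfr : ∀ i, IsFrame P (W i ⊓ U) (res P inf_le_left (e i)) := fun i => by
    rw [he]
    have h1 := hone.res (inf_le_right : W i ⊓ U ≤ U)
    rw [res_res] at h1
    exact (Amp73.isFrame_smul_iff h1 _).2 (IsUnit.of_mul_eq_one_right _ (hv i))
  have hinv := Glue.isInvertible_glued e hdisj hcov hP
    (hPf_push X U _ EGA73.isInvertible_structureModule) hfr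
  obtain ⟨s, hs⟩ := Glue.exists_lift_genLocus e hdisj hcov hP hfr one hone t
    (fun i => by rw [he, smul_smul, hv, one_smul])
    (fun i x hx hxU hunit => hxU ((ht i).le ((X.mem_basicOpen (t i) x hx).2 hunit)).2)
  exact ⟨_, s, hinv, hs⟩

theorem part2 (X : Scheme.{u}) (U : X.Opens)
    [QuasiCompact U.ι] (hdisc : DiscreteTopology ↥((U : Set X)ᶜ))
    (hloc : ∀ x : X, x ∉ U → IsNoetherianRing (X.presheaf.stalk x) ∧ ringKrullDim (X.presheaf.stalk x) ≤ 1)
    (N : (U : Scheme.{u}).Modules) (hN : PicF.IsInvertible N) :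
    ∃ L : X.Modules, PicF.IsInvertible L ∧ Nonempty (L.restrict U.ι ≅ N) := by
  choose W hxW hWx e' he' using fun x : {x : X // x ∉ U} =>
    Glue.exists_nhd_frame U hdisc x.2 (hloc x x.2).1 (hloc x x.2).2 N hN
  let P := (Scheme.Modules.pushforward U.ι).obj N
  have hP : ∀ V : X.Opens, Function.Bijective (res P (inf_le_left : V ⊓ U ≤ V)) := hP_push X U N
  choose e he using fun i => (hP (W i)).2 (e' i)
  have hfr : ∀ i, IsFrame P (W i ⊓ U) (res P inf_le_left (e i)) := fun i => by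
    rw [he]; exact he' i
  have hdisj : ∀ i j : {x : X // x ∉ U}, i ≠ j → W i ⊓ W j ≤ U := fun i j hij y hy => by
    by_contra hyU
    exact hij (Subtype.ext ((hWx i y hy.1 hyU).symm.trans (hWx j y hy.2 hyU)))
  have hcov : ∀ x : X, x ∈ U ∨ ∃ i, x ∈ W i := fun x => by
    by_cases hx : x ∈ U
    · exact Or.inl hx
    · exact Or.inr ⟨⟨x, hx⟩, hxW ⟨x, hx⟩⟩
  refine ⟨_, Glue.isInvertible_glued e hdisj hcov hP (hPf_push X U N hN) hfr, ?_⟩
  haveI : IsIso ((Scheme.Modules.restrictFunctor U.ι).map (Glue.proj e U)) := by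
    rw [Scheme.Modules.Hom.isIso_iff_isIso_app]
    intro V
    refine (ConcreteCategory.isIso_iff_bijective _).2 ?_
    exact Glue.bijective_proj e hfr ((U.ι.image_le_opensRange V).trans (Scheme.Opens.opensRange_ι U).le)
  exact ⟨asIso ((Scheme.Modules.restrictFunctor U.ι).map (Glue.proj e U)) ≪≫
    asIso ((Scheme.Modules.restrictAdjunction U.ι).counit.app N)⟩


/-- Let X be a scheme and U ⊆ X a retrocompact open such that X ∖ U is discrete and O_{X,x} is
Noetherian of dimension ≤ 1 for every x ∈ X ∖ U. Then (1) there are an invertible module L and a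
global section s with U = X_s, and (2) Pic(X) → Pic(U) is surjective. -/
theorem result (X : Scheme.{u}) (U : X.Opens)
    [QuasiCompact U.ι] (hdisc : DiscreteTopology ↥((U : Set X)ᶜ))
    (hloc : ∀ x : X, x ∉ U → IsNoetherianRing (X.presheaf.stalk x) ∧ ringKrullDim (X.presheaf.stalk x) ≤ 1) :
    (∃ (L : X.Modules) (s : Coh.structureModule X ⟶ L), PicF.IsInvertible L ∧ CohB1.genLocus L s = U) ∧
      ∀ N : (↑U : Scheme.{u}).Modules, PicF.IsInvertible N →
        ∃ L : X.Modules, PicF.IsInvertible L ∧ Nonempty (L.restrict U.ι ≅ N) := by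
  exact ⟨part1 X U hdisc hloc, part2 X U hdisc hloc⟩

end Groth.Agent.S7669
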