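import Groth.Statements.S10308
import Groth.Agent.SpPts86.HasAtMorInv
import Groth.Agent.S0402

set_option autoImplicit false
universe u
open CategoryTheory CategoryTheory.Limits AlgebraicGeometry
open AlgSp

namespace Groth.Agent.S10308

/-- For f locally of finite type, the locus of points where the relative dimension of f is at most n is
open. -/
theorem result {S : Scheme.{u}} {X Y : AlgSp.Space S} (f : X ⟶ Y)
    (hf : AlgSp.LocP @LocallyOfFiniteType f.hom) (n : ℕ) :
    IsOpen {x : AlgSp.Points X.obj |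
      AlgSp.HasAtMor (fun _ _ h u => FlatMor.fibreDimAt h u ≤ (n : WithBot ℕ∞)) f.hom x} := by
  refine isOpen_iff_forall_mem_open.2 fun x hx => ?_
  obtain ⟨U, V, a, b, h, u, ha, hb, w, rfl, hu⟩ := hx
  have := hf a b h ha hb w
  refine ⟨Points.ofPt a '' {t : ↥U.left | FlatMor.fibreDimAt h.left t ≤ (n : WithBot ℕ∞)}, ?_,
    SpPts86.isOpenMap_ofPt ha _ (S0402.result h.left n), ⟨u, hu, rfl⟩⟩
  rintro _ ⟨t, ht, rfl⟩
  exact ⟨U, V, a, b, h, t, ha, hb, w, rfl, ht⟩

end Groth.Agent.S10308
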