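import Groth.Statements.S1500
import Groth.Agent.FlatMor67.AmpleFamily
import Groth.Agent.An92.Ample.Family
import Groth.Agent.H98Strict.Transform
import Groth.Agent.Amp73.Ample

set_option autoImplicit false
universe u
open FlatMor

namespace Groth.Agent.S1500

open AlgebraicGeometry CategoryTheory Limits in
/-- Let D_1, …, D_m be effective Cartier divisors on X (ideal sheaves locally generated by a
nonzerodivisor) with empty common support, and L_1, …, L_m invertible O_X-modules with L_i ample on
the open complement of D_i. Then X has an ample family of invertible modules. -/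
theorem result {X : Scheme.{u}} {m : ℕ} (D : Fin m → X.IdealSheafData)
    (hD : ∀ i, BlowUp.IsEffCartierIdeal (D i)) (hcap : ⋂ i, ((D i).support : Set ↑X) = ∅)
    (L : Fin m → X.Modules) (hL : ∀ i, PicF.IsInvertible (L i)) (hamp : ∀ i, CohB1.IsAmple ((L i).restrict (Scheme.Opens.ι (D i).support.compl))) :
    MoreMor.HasAmpleFamily X := by
  classical
  have hcov : ∀ x : X, ∃ i, x ∈ (D i).support.compl := fun x => by
    by_contra h
    push Not at h
    have hx : x ∈ (⋂ i, ((D i).support : Set ↑X)) := Set.mem_iInter.mpr fun i => by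
      by_contra h'
      exact h i h'
    rw [hcap] at hx
    exact hx
  let U : Fin m → X.Opens := fun i => (D i).support.compl
  have hUc : ∀ i, IsCompact (U i : Set X) := fun i => isCompact_iff_compactSpace.mpr (hamp i).2.1
  have hcpt : CompactSpace X := ⟨by
    have he : (Set.univ : Set X) = ⋃ i, (U i : Set X) :=
      (Set.eq_univ_of_forall fun x => Set.mem_iUnion.mpr (hcov x)).symm
    rw [he]
    exact isCompact_iUnion hUc⟩
  have hqs : QuasiSeparatedSpace X := by
    refine QuasiSeparatedSpace.of_isOpenCover (U := fun i : ULift.{u} (Fin m) => U i.down)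
      (TopologicalSpace.IsOpenCover.mk (eq_top_iff.mpr fun x _ => TopologicalSpace.Opens.mem_iSup.mpr ?_))
      (fun i V hVc hVo => ?_) fun i => ?_
    · obtain ⟨i, hi⟩ := hcov x
      exact ⟨⟨i⟩, hi⟩
    · have := (Groth.Agent.H98Strict.dominant_compl (hD i.down)).2
      have h := (U i.down).ι.isCompact_preimage (U := ⟨V, hVo⟩) hVc
      have h2 := h.image (U i.down).ι.continuous
      rwa [Scheme.Hom.coe_preimage, Set.image_preimage_eq_inter_range, Scheme.Opens.range_ι, Set.inter_comm] at h2
    · have := Groth.Agent.Amp73.quasiSeparatedSpace_of_isAmple (hamp i.down)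
      exact isQuasiSeparated_iff_quasiSeparatedSpace _ (U i.down).isOpen |>.mpr this
  refine ⟨hcpt, fun x => ?_⟩
  obtain ⟨i, hi⟩ := hcov x
  haveI : Nonempty X := ⟨x⟩
  obtain ⟨N, σ, hN, hσ⟩ := Groth.Agent.An92.AmpleFam.exists_genLocus_of_effCartier (hD i)
  obtain ⟨-, -, hA⟩ := Groth.Agent.Amp73.isAmple_iff.mp (hamp i)
  obtain ⟨G, hG, hxG, hGa⟩ := hA ⟨x, hi⟩
  have hj : (U i).ι.opensRange = CohB1.genLocus N σ := by
    rw [Scheme.Opens.opensRange_ι]
    exact TopologicalSpace.Opens.ext hσ.symm
  obtain ⟨L', s, hL', hs⟩ := Groth.Agent.FlatMor67.AmpFam.image_genLocus (hL i) hN σ (U i).ι hj hG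
  have heq : CohB1.genLocus (CohB1.tensorPow L' 1) (s ≫ (Groth.Agent.Amp73.powOne L').inv) = (U i).ι ''ᵁ G := by
    rw [Groth.Agent.Amp73.genLocus_comp_iso, hs]
  exact ⟨L', 1, s ≫ (Groth.Agent.Amp73.powOne L').inv, hL', le_rfl, heq.symm ▸ ⟨_, hxG, rfl⟩,
    heq.symm ▸ hGa.image_of_isOpenImmersion (U i).ι⟩

end Groth.Agent.S1500
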