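import Groth.Statements.S7197
import Groth.Agent.LocImm58.DenseAffine
import Groth.Agent.S1500
import Groth.Agent.S4418
import Groth.Agent.Div89.BlowLocal
import Groth.Agent.Div89.BlowDom
import Groth.Agent.H98Strict.Admissible

set_option autoImplicit false
universe u
open FlatMor

namespace Groth.Agent.S7197

open AlgebraicGeometry CategoryTheory Limits in
/-- A quasi-compact quasi-separated scheme X with finitely many irreducible components admits a
quasi-compact dense open U together with a blowing up X' → X which is U-admissible and whose source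
X' carries an ample family of invertible modules. -/
theorem result (X : Scheme.{u}) [CompactSpace ↥X] [QuasiSeparatedSpace ↥X]
    (hirr : (irreducibleComponents ↥X).Finite) :
    ∃ (U : X.Opens) (𝓘 : X.IdealSheafData) (X' : Scheme.{u}) (b : X' ⟶ X),
      IsCompact (U : Set ↥X) ∧ Dense (U : Set ↥X) ∧ BlowUp.IsAdmissibleFor U 𝓘 ∧ BlowUp.IsBlowUp b 𝓘 ∧
      MoreMor.HasAmpleFamily X' := by
  classical
  choose V hxV hV hVd using fun x => Groth.Agent.LocImm58.exists_dense_affineOpen_mem hirr x
  obtain ⟨t, ht⟩ := isCompact_univ.elim_finite_subcover (fun x => (V x : Set X))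
    (fun x => (V x).2) (fun x _ => Set.mem_iUnion.mpr ⟨x, hxV x⟩)
  let e := (Finset.equivFin t).symm
  let W : Fin t.card → X.Opens := fun i => V (e i)
  have hW : ∀ x : X, ∃ i, x ∈ W i := fun x => by
    obtain ⟨y, hy, hxy⟩ := Set.mem_iUnion₂.mp (ht (Set.mem_univ x))
    exact ⟨e.symm ⟨y, hy⟩, by simpa [W] using hxy⟩
  let U : X.Opens := Finset.univ.inf W
  have hUle : ∀ i, U ≤ W i := fun i => Finset.inf_le (Finset.mem_univ i)
  have hUc : IsCompact (U : Set X) ∧ Dense (U : Set X) := by
    refine Finset.inf_induction (p := fun O : X.Opens => IsCompact (O : Set X) ∧ Dense (O : Set X))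
      ⟨isCompact_univ, dense_univ⟩ (fun A hA B hB => ⟨?_, ?_⟩) (fun i _ => ⟨(hV _).isCompact, hVd _⟩)
    · exact QuasiSeparatedSpace.inter_isCompact _ _ A.2 hA.1 B.2 hB.1
    · exact hA.2.inter_of_isOpen_left hB.2 A.2
  choose I hI hIs using fun i => Groth.Agent.H98Strict.exists_ideal_support (W i) (hV _).isCompact
  have hadm : BlowUp.IsAdmissibleFor U (∏ i, I i) :=
    Groth.Agent.Div89.isAdmissibleFor_prod U _ I fun i _ => ⟨hI i, by
      rw [hIs i]; exact disjoint_compl_left.mono_right (hUle i)⟩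
  obtain ⟨X', b, hb⟩ := Groth.Agent.FBlow13.exists_isBlowUp_scheme X (∏ i, I i)
  obtain ⟨⟨-, -, L, hL⟩, hbp⟩ := Groth.Agent.S4418.result b
    (Groth.Agent.Div89.BlowLocal.isProjective_of_isBlowUp _ hadm.1 b hb)
  have hD : ∀ i, BlowUp.IsEffCartierIdeal ((I i).comap b) := fun i => by
    have h := hb.1
    rw [← Finset.mul_prod_erase Finset.univ I (Finset.mem_univ i), Groth.Agent.Div89.comap_mul] at h
    exact Groth.Agent.Div89.isEffCartier_left_of_mul h
  have hcompl : ∀ i, ((I i).comap b).support.compl = b ⁻¹ᵁ W i := fun i => by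
    ext y
    show y ∉ (((I i).comap b).support : Set X') ↔ b y ∈ (W i : Set X)
    rw [Scheme.IdealSheafData.support_comap]
    show b y ∉ ((I i).support : Set X) ↔ b y ∈ (W i : Set X)
    rw [hIs i]
    exact not_not
  refine ⟨U, _, X', b, hUc.1, hUc.2, hadm, hb, Groth.Agent.S1500.result (fun i => (I i).comap b) hD ?_
    (fun _ => L) (fun _ => Groth.Agent.Amp73.isInvertible_of_isRelAmple hL) fun i => ?_⟩
  · refine Set.eq_empty_iff_forall_notMem.mpr fun y hy => ?_
    obtain ⟨i, hi⟩ := hW (b y)
    exact ((hcompl i).ge (show y ∈ b ⁻¹ᵁ W i from hi)) (Set.mem_iInter.mp hy i)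
  · rw [hcompl i]
    exact hL.2 ⟨W i, hV _⟩

end Groth.Agent.S7197
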