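import Groth.Statements.S0705
import Groth.Agent.Germs91.WLocal
import Mathlib.RingTheory.Localization.Ideal

set_option autoImplicit false
open CategoryTheory CategoryTheory.Limits AlgebraicGeometry Opposite Topology
universe u
open ProEtW

namespace Groth.Agent.S0705

/-- Let I be an ideal of A such that V(I) is a profinite space. Then some ind-Zariski A-algebra B has
w-local spectrum whose closed points are exactly V(IB), with A/I -> B/IB bijective. -/
theorem result (A : Type u) [CommRing A] (I : Ideal A)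
    (hI : ProEtW.IsProfinite (PrimeSpectrum.zeroLocus (R := A) I)) :
    ∃ (B : Type u) (_ : CommRing B) (_ : Algebra A B),
      EtPBC.IsIndZariski A B ∧ ProEtW.IsWLocal (PrimeSpectrum B) ∧
      ProEtW.closedPoints (PrimeSpectrum B) = PrimeSpectrum.zeroLocus (I.map (algebraMap A B)) ∧
      Function.Bijective (Ideal.quotientMap (I.map (algebraMap A B)) (algebraMap A B)
        Ideal.le_comap_map) := by
  classical
  obtain ⟨_, _, _⟩ := hI
  let T : Type u := PrimeSpectrum.zeroLocus (R := A) I
  let P : T → PrimeSpectrum A := Subtype.val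
  have hP : ∀ a : A, IsClopen {t : T | a ∉ (P t).asIdeal} := fun a => by
    refine ⟨IsCompact.isClosed ?_, (PrimeSpectrum.basicOpen a).2.preimage continuous_subtype_val⟩
    rw [Topology.IsEmbedding.subtypeVal.isCompact_iff]
    have : Subtype.val '' {t : T | a ∉ (P t).asIdeal} =
        (PrimeSpectrum.basicOpen a : Set (PrimeSpectrum A)) ∩ PrimeSpectrum.zeroLocus I := by
      ext x
      exact ⟨by rintro ⟨t, ht, rfl⟩; exact ⟨ht, t.2⟩, fun h => ⟨⟨x, h.2⟩, h.1, rfl⟩⟩
    rw [this]
    exact (PrimeSpectrum.isCompact_basicOpen a).inter_right (PrimeSpectrum.isClosed_zeroLocus _)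
  have hS := Groth.Agent.Germs91.pc_open P hP
  let B := Groth.Agent.Germs91.Germ (Groth.Agent.Germs91.pc P)
  let ev := Groth.Agent.Germs91.ev (Groth.Agent.Germs91.pc P)
  have hmem : ∀ x : B, (∀ t, ev t x ∈ I.map (algebraMap A (Groth.Agent.Germs91.Stalk _ t))) →
      x ∈ I.map (algebraMap A B) := by
    intro x hx
    let M : Ideal B :=
      { carrier := {y | y * x ∈ I.map (algebraMap A B)}
        add_mem' := fun hy hz => by simp only [Set.mem_ofPred_eq, add_mul]; exact add_mem hy hz
        zero_mem' := by simp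
        smul_mem' := fun c y hy => by
          simp only [Set.mem_ofPred_eq, smul_eq_mul, mul_assoc]; exact Ideal.mul_mem_left _ c hy }
    suffices htop : M = ⊤ by
      have h1 : (1 : B) ∈ M := htop ▸ Submodule.mem_top
      simpa [M] using h1
    by_contra hne
    obtain ⟨Q, hQ, hMQ⟩ := Ideal.exists_le_maximal M hne
    let t := Groth.Agent.Germs91.pt _ hS ⟨Q, hQ.isPrime⟩
    have hmap : (I.map (algebraMap A B)).map (ev t).toRingHom =
        I.map (algebraMap A (Groth.Agent.Germs91.Stalk _ t)) := by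
      rw [Ideal.map_map, AlgHom.toRingHom_eq_coe, AlgHom.comp_algebraMap]
    obtain ⟨y, hy, hyx⟩ := (Ideal.mem_map_iff_of_surjective _
      (Groth.Agent.Germs91.ev_surjective _ hS t)).1 (hmap.symm ▸ hx t)
    obtain ⟨U, hU, htU, hUeq⟩ := Groth.Agent.Germs91.eventually_eq _ hS (x.2 t) (y.2 t) hyx.symm
    obtain ⟨V, hV, htV, hVU⟩ := compact_exists_isClopen_in_isOpen hU htU
    obtain ⟨e, he1, he0⟩ := Groth.Agent.Germs91.exists_indicator (Groth.Agent.Germs91.pc P) hV
    have hxy : e * x = e * y := Groth.Agent.Germs91.ext_ev _ fun s => by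
      by_cases hs : s ∈ V
      · rw [map_mul, map_mul, show ev s x = ev s y from hUeq s (hVU hs)]
      · rw [map_mul, map_mul, he0 s hs, zero_mul, zero_mul]
    have heQ : e ∈ Q := hMQ (by show e * x ∈ I.map (algebraMap A B); rw [hxy]; exact Ideal.mul_mem_left _ _ hy)
    have h1 : 1 - e ∈ Q := Groth.Agent.Germs91.ker_le _ hS ⟨Q, hQ.isPrime⟩
      (by rw [RingHom.mem_ker, map_sub, map_one, he1 _ htV, sub_self])
    exact hQ.ne_top ((Ideal.eq_top_iff_one Q).2 (by simpa using add_mem h1 heQ))
  refine ⟨B, inferInstance, inferInstance, Groth.Agent.Germs91.isIndZariski_germ _ hS,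
    Groth.Agent.Germs91.isWLocal P hP, ?_, ?_, ?_⟩
  · ext q
    rw [PrimeSpectrum.mem_zeroLocus, SetLike.coe_subset_coe, Ideal.map_le_iff_le_comap]
    refine (Groth.Agent.Germs91.isClosed_iff P hP q).trans ⟨fun h => ?_, fun h => ?_⟩
    · rw [h, ← PrimeSpectrum.comap_asIdeal, Groth.Agent.Germs91.comap_closedPt P]
      exact (Groth.Agent.Germs91.pt _ hS q).2
    · refine PrimeSpectrum.ext (le_antisymm (Groth.Agent.Germs91.le_closedPt P hP q) ?_)
      let z : T := Groth.Agent.Germs91.pt _ hS q
      have hxz : PrimeSpectrum.comap (algebraMap A B) q ⤳ z.1 := by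
        rw [← PrimeSpectrum.le_iff_specializes]
        have := Ideal.comap_mono (f := algebraMap A B) (Groth.Agent.Germs91.le_closedPt P hP q)
        rw [← PrimeSpectrum.comap_asIdeal, ← PrimeSpectrum.comap_asIdeal,
          Groth.Agent.Germs91.comap_closedPt P] at this
        exact this
      have hmemT : PrimeSpectrum.comap (algebraMap A B) q ∈ PrimeSpectrum.zeroLocus (R := A) I :=
        fun i hi => h hi
      have hxe : (⟨PrimeSpectrum.comap (algebraMap A B) q, hmemT⟩ : T) = z :=
        ((subtype_specializes_iff (⟨PrimeSpectrum.comap (algebraMap A B) q, hmemT⟩ : T) z).2 hxz).eq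
      obtain ⟨p, hp⟩ := Groth.Agent.Germs91.mem_range_ev _ hS q
      conv_rhs => rw [← hp]
      refine Ideal.comap_mono (le_of_eq (Eq.symm ?_))
      have hin := PrimeSpectrum.localization_comap_injective (Groth.Agent.Germs91.Stalk _ z)
        (Groth.Agent.Germs91.pc P z) (a₁ := p) (a₂ := IsLocalRing.closedPoint _) (by
        refine Eq.trans ?_ (((congrArg Subtype.val hxe).trans
          (Groth.Agent.Germs91.comap_closedPt P z).symm).trans ?_)
        · refine Eq.trans ?_ (congrArg (PrimeSpectrum.comap (algebraMap A B)) hp)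
          rw [← PrimeSpectrum.comap_comp_apply, AlgHom.toRingHom_eq_coe, AlgHom.comp_algebraMap]
        · rw [Groth.Agent.Germs91.closedPt, ← PrimeSpectrum.comap_comp_apply,
            AlgHom.toRingHom_eq_coe, AlgHom.comp_algebraMap])
      exact congrArg PrimeSpectrum.asIdeal hin
  · refine (injective_iff_map_eq_zero _).2 fun a ha => ?_
    obtain ⟨a, rfl⟩ := Ideal.Quotient.mk_surjective a
    rw [Ideal.quotientMap_mk, Ideal.Quotient.eq_zero_iff_mem] at ha
    rw [Ideal.Quotient.eq_zero_iff_mem]
    by_contra hne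
    let J : Ideal A :=
      { carrier := {c | c * a ∈ I}
        add_mem' := fun hy hz => by simp only [Set.mem_ofPred_eq, add_mul]; exact add_mem hy hz
        zero_mem' := by simp
        smul_mem' := fun c y hy => by
          simp only [Set.mem_ofPred_eq, smul_eq_mul, mul_assoc]; exact Ideal.mul_mem_left _ c hy }
    obtain ⟨M, hM, hJM⟩ := Ideal.exists_le_maximal J fun h => hne (by
      have h1 : (1 : A) ∈ J := h ▸ Submodule.mem_top
      simpa [J] using h1)
    let t : T := ⟨⟨M, hM.isPrime⟩, fun i hi => hJM (Ideal.mul_mem_right a _ hi)⟩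
    have hat : ev t (algebraMap A B a) ∈ I.map (algebraMap A (Groth.Agent.Germs91.Stalk _ t)) := by
      have h' := Ideal.mem_map_of_mem (ev t).toRingHom ha
      rw [Ideal.map_map, AlgHom.toRingHom_eq_coe, AlgHom.comp_algebraMap] at h'
      exact h'
    rw [AlgHom.commutes, IsLocalization.algebraMap_mem_map_algebraMap_iff
      (Groth.Agent.Germs91.pc P t)] at hat
    obtain ⟨c, hc, hca⟩ := hat
    exact hc (hJM hca)
  · intro xb
    obtain ⟨x, rfl⟩ := Ideal.Quotient.mk_surjective xb
    let J : Ideal A :=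
      { carrier := {c | ∃ b : A, algebraMap A B c * x - algebraMap A B b ∈ I.map (algebraMap A B)}
        add_mem' := fun ⟨b, hb⟩ ⟨b', hb'⟩ => ⟨b + b', by
          have := add_mem hb hb'
          rw [map_add, map_add, add_mul]; convert this using 1; ring⟩
        zero_mem' := ⟨0, by simp⟩
        smul_mem' := fun c y ⟨b, hb⟩ => ⟨c * b, by
          have := Ideal.mul_mem_left _ (algebraMap A B c) hb
          rw [smul_eq_mul, map_mul, map_mul]; convert this using 1; ring⟩ }
    suffices htop : J = ⊤ by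
      obtain ⟨b, hb⟩ : (1 : A) ∈ J := htop ▸ Submodule.mem_top
      rw [map_one, one_mul] at hb
      refine ⟨Ideal.Quotient.mk I b, ?_⟩
      rw [Ideal.quotientMap_mk, Ideal.Quotient.eq, ← Ideal.neg_mem_iff, neg_sub]
      exact hb
    by_contra hne
    obtain ⟨M, hM, hJM⟩ := Ideal.exists_le_maximal J hne
    let t : T := ⟨⟨M, hM.isPrime⟩, fun i hi => hJM ⟨0, by
      rw [map_zero, sub_zero]; exact Ideal.mul_mem_right _ _ (Ideal.mem_map_of_mem _ hi)⟩⟩
    obtain ⟨U, hU, htU, a, g, hag⟩ := x.2 t
    obtain ⟨O, hO, hOU⟩ := isOpen_induced_iff.1 hU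
    obtain ⟨_, ⟨c, rfl⟩, htc, hcO⟩ :=
      PrimeSpectrum.isTopologicalBasis_basic_opens.exists_subset_of_mem_open
        (show t.1 ∈ O by rw [← hOU] at htU; exact htU) hO
    let Kc : Set T := {s | c ∉ (P s).asIdeal}ᶜ
    let W : ℕ → Set T := fun n => {s | ∃ w, w ∉ (P s).asIdeal ∧ w * c ^ n ∈ I}
    have hW : ∀ n, IsOpen (W n) := fun n => by
      have : W n = ⋃ w ∈ {w | w * c ^ n ∈ I}, {s : T | w ∉ (P s).asIdeal} := by
        ext s; simp [W, and_comm]
      rw [this]; exact isOpen_biUnion fun w _ => (hP w).2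
    have hKW : Kc ⊆ ⋃ n, W n := by
      intro s hs
      simp only [Kc, Set.mem_compl_iff, Set.mem_ofPred_eq, not_not] at hs
      have hrad : algebraMap A (Groth.Agent.Germs91.Stalk _ s) c ∈
          (I.map (algebraMap A (Groth.Agent.Germs91.Stalk (Groth.Agent.Germs91.pc P) s))).radical := by
        rw [Ideal.radical_eq_sInf, Submodule.mem_sInf]
        rintro Q ⟨hIQ, hQ⟩
        have hle : Ideal.comap (algebraMap A (Groth.Agent.Germs91.Stalk (Groth.Agent.Germs91.pc P) s)) Q ≤
            (P s).asIdeal :=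
          (Ideal.comap_mono (IsLocalRing.le_maximalIdeal hQ.ne_top)).trans fun w hw =>
            (IsLocalization.AtPrime.to_map_mem_maximal_iff
              (Groth.Agent.Germs91.Stalk (Groth.Agent.Germs91.pc P) s) (P s).asIdeal w).1 hw
        let z : T := ⟨⟨Ideal.comap (algebraMap A (Groth.Agent.Germs91.Stalk (Groth.Agent.Germs91.pc P) s)) Q,
          hQ.comap _⟩, fun i hi => hIQ (Ideal.mem_map_of_mem _ hi)⟩
        have hz : z = s :=
          ((subtype_specializes_iff z s).2 ((PrimeSpectrum.le_iff_specializes z.1 s.1).1 hle)).eq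
        have : c ∈ (P z).asIdeal := by rw [hz]; exact hs
        exact this
      obtain ⟨n, hn⟩ := hrad
      rw [← map_pow, IsLocalization.algebraMap_mem_map_algebraMap_iff (Groth.Agent.Germs91.pc P s)] at hn
      obtain ⟨w, hw, hwn⟩ := hn
      exact Set.mem_iUnion.2 ⟨n, w, hw, hwn⟩
    obtain ⟨n, hn⟩ := ((hP c).compl.1.isCompact).elim_directed_cover W hW hKW
      (monotone_nat_of_le_succ fun m s ⟨w, hw, hwm⟩ =>
        ⟨w, hw, by rw [pow_succ, ← mul_assoc]; exact Ideal.mul_mem_right _ _ hwm⟩).directed_le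
    have hin : algebraMap A B (c ^ n * g) * x - algebraMap A B (c ^ n * a) ∈ I.map (algebraMap A B) := by
      refine hmem _ fun s => ?_
      rw [map_sub, map_mul, AlgHom.commutes, AlgHom.commutes]
      by_cases hs : c ∉ (P s).asIdeal
      · have hsU : s ∈ U := by rw [← hOU]; exact hcO hs
        rw [map_mul, map_mul, mul_assoc, show algebraMap A (Groth.Agent.Germs91.Stalk _ s) g * ev s x =
          algebraMap A (Groth.Agent.Germs91.Stalk _ s) a from (hag s hsU).2, sub_self]
        exact zero_mem _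
      · obtain ⟨w, hw, hwn⟩ := hn (show s ∈ Kc from hs)
        have hcn : algebraMap A (Groth.Agent.Germs91.Stalk _ s) (c ^ n) ∈
            I.map (algebraMap A (Groth.Agent.Germs91.Stalk (Groth.Agent.Germs91.pc P) s)) :=
          (IsLocalization.algebraMap_mem_map_algebraMap_iff (Groth.Agent.Germs91.pc P s) _ _ _).2 ⟨w, hw, hwn⟩
        rw [map_mul, map_mul, mul_assoc]
        exact sub_mem (Ideal.mul_mem_right _ _ hcn) (Ideal.mul_mem_right _ _ hcn)
    exact (t.1.isPrime.mul_notMem (fun h => htc (t.1.isPrime.mem_of_pow_mem n h)) (hag t htU).1)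
      (hJM ⟨c ^ n * a, hin⟩)

end Groth.Agent.S0705
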