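import Groth.Statements.S0737
import Groth.Agent.S0705
import Groth.Agent.Spec91.Basic

set_option autoImplicit false
open CategoryTheory CategoryTheory.Limits AlgebraicGeometry Opposite Topology
universe u
open ProEtW

namespace Groth.Agent.S0737

/-- Let Spec A be w-local with radical ideal I cutting out its closed points, and A -> B inducing
algebraic residue field extensions. Then (1) every point of V(IB) is closed in Spec B, and (2) there
is an ind-Zariski B-algebra C with B/IB -> C/IC bijective, Spec C w-local, Spec C -> Spec A w-local,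
and closed points of Spec C exactly the points over closed points of Spec A. -/
theorem result (A B : Type u) [CommRing A]
    [CommRing B] [Algebra A B] (hA : ProEtW.IsWLocal (PrimeSpectrum A)) (I : Ideal A) (hI : I.IsRadical)
    (hI0 : PrimeSpectrum.zeroLocus (R := A) I = ProEtW.closedPoints (PrimeSpectrum A))
    (h : ProEtW.AlgebraicResidueExtensions A B) :
    PrimeSpectrum.zeroLocus (R := B) (I.map (algebraMap A B)) ⊆ ProEtW.closedPoints (PrimeSpectrum B) ∧
    ∃ (C : Type u) (_ : CommRing C) (_ : Algebra B C) (_ : Algebra A C) (_ : IsScalarTower A B C),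
      EtPBC.IsIndZariski B C ∧
      Function.Bijective (Ideal.quotientMap ((I.map (algebraMap A B)).map (algebraMap B C))
        (algebraMap B C) Ideal.le_comap_map) ∧
      ProEtW.IsWLocal (PrimeSpectrum C) ∧
      ProEtW.IsWLocalMap (PrimeSpectrum.comap (algebraMap A C)) ∧
      ProEtW.closedPoints (PrimeSpectrum C) =
        PrimeSpectrum.comap (algebraMap A C) ⁻¹' ProEtW.closedPoints (PrimeSpectrum A) := by
  classical
  have hmaxA : ∀ p : PrimeSpectrum A, p ∈ PrimeSpectrum.zeroLocus (R := A) I → p.asIdeal.IsMaximal := by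
    intro p hp
    rw [hI0] at hp
    exact (PrimeSpectrum.isClosed_singleton_iff_isMaximal p).1 hp
  have hpart1 : PrimeSpectrum.zeroLocus (R := B) (I.map (algebraMap A B)) ⊆
      ProEtW.closedPoints (PrimeSpectrum B) := by
    intro q hq
    have hle : I ≤ q.asIdeal.comap (algebraMap A B) := Ideal.map_le_iff_le_comap.1 hq
    have hm : (q.asIdeal.comap (algebraMap A B)).IsMaximal :=
      hmaxA (PrimeSpectrum.comap (algebraMap A B) q) hle
    let _ := Ideal.Quotient.field (q.asIdeal.comap (algebraMap A B))
    have halg := h q.asIdeal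
    have : IsField (B ⧸ q.asIdeal) :=
      isField_of_isIntegral_of_isField' (R := A ⧸ q.asIdeal.comap (algebraMap A B))
        (Field.toIsField _)
    exact (PrimeSpectrum.isClosed_singleton_iff_isMaximal q).2
      (Ideal.Quotient.maximal_of_isField _ this)
  refine ⟨hpart1, ?_⟩
  let Z : Set (PrimeSpectrum B) := PrimeSpectrum.zeroLocus (R := B) (I.map (algebraMap A B))
  have he : IsClosedEmbedding (Subtype.val : Z → PrimeSpectrum B) :=
    (PrimeSpectrum.isClosed_zeroLocus _).isClosedEmbedding_subtypeVal
  have hprof : ProEtW.IsProfinite Z := by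
    have := Groth.Agent.Spec91.spectralSpace_of_isClosedEmbedding he
    obtain ⟨a, b⟩ := Groth.Agent.Spec91.t2Space_of_forall_isClosed (X := Z) fun x => by
      have : ({x} : Set Z) = Subtype.val ⁻¹' {x.1} := by ext; simp [Subtype.ext_iff]
      rw [this]
      exact (show IsClosed ({x.1} : Set (PrimeSpectrum B)) from hpart1 x.2).preimage
        continuous_subtype_val
    exact ⟨he.compactSpace, a, b⟩
  obtain ⟨C, _, _, hZar, hwl, hcl, hbij⟩ := Groth.Agent.S0705.result B (I.map (algebraMap A B)) hprof
  let _ : Algebra A C := ((algebraMap B C).comp (algebraMap A B)).toAlgebra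
  have hcl' : ProEtW.closedPoints (PrimeSpectrum C) =
      PrimeSpectrum.comap (algebraMap A C) ⁻¹' ProEtW.closedPoints (PrimeSpectrum A) := by
    rw [hcl, ← hI0, PrimeSpectrum.preimage_comap_zeroLocus, Ideal.map_map]
    exact (PrimeSpectrum.zeroLocus_span _).trans rfl
  refine ⟨C, inferInstance, inferInstance, inferInstance, IsScalarTower.of_algebraMap_eq' rfl,
    hZar, hbij, hwl, ⟨⟨PrimeSpectrum.continuous_comap _, ?_⟩, ?_⟩, hcl'⟩
  · intro s hso hsc
    obtain ⟨t, ht⟩ := (PrimeSpectrum.isCompact_isOpen_iff.1 ⟨hsc, hso⟩)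
    rw [← ht, Set.preimage_compl, PrimeSpectrum.preimage_comap_zeroLocus]
    exact (PrimeSpectrum.isCompact_isOpen_iff.2 ⟨t.image (algebraMap A C), by simp⟩).1
  · intro x hx
    exact (Set.ext_iff.1 hcl' x).1 hx

end Groth.Agent.S0737
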