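import Groth.Statements.S0692
import Groth.Agent.S0737
import Groth.Agent.Germs91.WLocalCover
import Groth.Agent.Spec91.PullbackPoint

set_option autoImplicit false
open CategoryTheory CategoryTheory.Limits AlgebraicGeometry Opposite Topology
universe u
open ProEtW

namespace Groth.Agent.S0692

/-- Let A -> B induce algebraic residue field extensions. Then one can find faithfully flat ind-etale
extensions C of A and D of B, with D a C-algebra compatibly, such that: Spec C and Spec D are
w-local; Spec D -> Spec C is w-local; the closed points of Spec D are exactly the points over closed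
points of Spec C; the closed points of Spec C map onto Spec A and those of Spec D onto Spec B; and
C_m is strictly henselian for every maximal ideal m of C. -/
theorem result (A B : Type u) [CommRing A] [CommRing B] [Algebra A B]
    (h : ProEtW.AlgebraicResidueExtensions A B) :
    ∃ (C D : Type u) (_ : CommRing C) (_ : CommRing D) (_ : Algebra A C) (_ : Algebra B D)
      (_ : Algebra C D) (_ : Algebra A D) (_ : IsScalarTower A C D) (_ : IsScalarTower A B D),
      Module.FaithfullyFlat A C ∧ EtPBC.IsIndEtale A C ∧ Module.FaithfullyFlat B D ∧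
      EtPBC.IsIndEtale B D ∧ ProEtW.IsWLocal (PrimeSpectrum C) ∧ ProEtW.IsWLocal (PrimeSpectrum D) ∧
      ProEtW.IsWLocalMap (PrimeSpectrum.comap (algebraMap C D)) ∧
      ProEtW.closedPoints (PrimeSpectrum D) =
        PrimeSpectrum.comap (algebraMap C D) ⁻¹' ProEtW.closedPoints (PrimeSpectrum C) ∧
      PrimeSpectrum.comap (algebraMap A C) '' ProEtW.closedPoints (PrimeSpectrum C) = Set.univ ∧
      PrimeSpectrum.comap (algebraMap B D) '' ProEtW.closedPoints (PrimeSpectrum D) = Set.univ ∧
      ∀ (m : Ideal C) [m.IsMaximal], EtCoh.IsStrictlyHenselianLocalRing (Localization.AtPrime m) := by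
  classical
  obtain ⟨C, _, _, hffC, hieC, hwC, hsurC, hshC⟩ :=
    Groth.Agent.Germs91.exists_wLocal_strictlyHenselian_cover A
  letI : Algebra C (TensorProduct A B C) := Algebra.TensorProduct.rightAlgebra
  have hares : ProEtW.AlgebraicResidueExtensions C (TensorProduct A B C) := by
    intro r _
    constructor
    have hb : ∀ b : B, IsAlgebraic (C ⧸ r.comap (algebraMap C (TensorProduct A B C)))
        (Ideal.Quotient.mk r (b ⊗ₜ[A] (1 : C))) := by
      intro b
      let q : Ideal B := r.comap (algebraMap B (TensorProduct A B C))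
      have hq := h q
      let f : A ⧸ q.comap (algebraMap A B) →+*
          C ⧸ r.comap (algebraMap C (TensorProduct A B C)) :=
        Ideal.quotientMap _ (algebraMap A C) (fun a ha => by
          show (1 : B) ⊗ₜ[A] algebraMap A C a ∈ r
          have h1 : algebraMap A B a ⊗ₜ[A] (1 : C) ∈ r := ha
          rwa [Algebra.algebraMap_eq_smul_one, TensorProduct.smul_tmul,
            ← Algebra.algebraMap_eq_smul_one] at h1)
      have hf : Function.Injective f := by
        refine Ideal.quotientMap_injective' (fun a ha => ?_)
        show algebraMap A B a ⊗ₜ[A] (1 : C) ∈ r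
        have h1 : (1 : B) ⊗ₜ[A] algebraMap A C a ∈ r := ha
        rwa [Algebra.algebraMap_eq_smul_one, TensorProduct.smul_tmul,
          ← Algebra.algebraMap_eq_smul_one]
      let g : B ⧸ q →+* TensorProduct A B C ⧸ r :=
        Ideal.quotientMap r (algebraMap B (TensorProduct A B C)) le_rfl
      have hg : Function.Injective g := Ideal.quotientMap_injective
      refine (hq.isAlgebraic (Ideal.Quotient.mk q b)).ringHom_of_comp_eq f g hf ?_
      refine Ideal.Quotient.ringHom_ext (RingHom.ext fun a => ?_)
      show Ideal.Quotient.mk r ((1 : B) ⊗ₜ[A] algebraMap A C a) =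
        Ideal.Quotient.mk r (algebraMap A B a ⊗ₜ[A] (1 : C))
      rw [Algebra.algebraMap_eq_smul_one a, Algebra.algebraMap_eq_smul_one a,
        TensorProduct.smul_tmul]
    intro x
    obtain ⟨x, rfl⟩ := Ideal.Quotient.mk_surjective x
    induction x using TensorProduct.induction_on with
    | zero => rw [map_zero]; exact isAlgebraic_zero
    | tmul b c =>
      rw [show b ⊗ₜ[A] c = (b ⊗ₜ[A] (1 : C)) * ((1 : B) ⊗ₜ[A] c) by simp, map_mul]
      exact (hb b).mul (isAlgebraic_algebraMap
        (Ideal.Quotient.mk (r.comap (algebraMap C (TensorProduct A B C))) c))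
    | add x y hx hy => rw [map_add]; exact hx.add hy
  let I : Ideal C := PrimeSpectrum.vanishingIdeal (ProEtW.closedPoints (PrimeSpectrum C))
  have hI0 : PrimeSpectrum.zeroLocus (R := C) I = ProEtW.closedPoints (PrimeSpectrum C) := by
    rw [PrimeSpectrum.zeroLocus_vanishingIdeal_eq_closure]
    exact hwC.2.1.closure_eq
  have hIrad : I.IsRadical := by
    rw [← Ideal.radical_eq_iff, ← PrimeSpectrum.vanishingIdeal_zeroLocus_eq_radical, hI0]
  obtain ⟨hcl0, D, _, _, _, _, hzar, hbij, hwD, hwmap, hclD⟩ :=
    Groth.Agent.S0737.result C (TensorProduct A B C) hwC I hIrad hI0 hares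
  letI : Algebra B D :=
    ((algebraMap (TensorProduct A B C) D).comp (algebraMap B (TensorProduct A B C))).toAlgebra
  letI : Algebra A D := ((algebraMap C D).comp (algebraMap A C)).toAlgebra
  have : IsScalarTower A C D := IsScalarTower.of_algebraMap_eq' rfl
  have : IsScalarTower B (TensorProduct A B C) D := IsScalarTower.of_algebraMap_eq' rfl
  have hABD : IsScalarTower A B D := by
    refine IsScalarTower.of_algebraMap_eq fun a => ?_
    show algebraMap C D (algebraMap A C a) =
      algebraMap (TensorProduct A B C) D (algebraMap A B a ⊗ₜ[A] (1 : C))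
    rw [IsScalarTower.algebraMap_apply C (TensorProduct A B C) D]
    congr 1
    show (1 : B) ⊗ₜ[A] algebraMap A C a = _
    rw [Algebra.algebraMap_eq_smul_one a, Algebra.algebraMap_eq_smul_one a,
      TensorProduct.smul_tmul]
  have hieD : EtPBC.IsIndEtale B D :=
    Groth.Agent.Ind91.isIndEtale_trans (B := TensorProduct A B C)
      (Groth.Agent.Ind91.isIndEtale_baseChange A C B hieC)
      (Groth.Agent.Ind91.isIndEtale_of_isIndZariski hzar)
  have hsurD : PrimeSpectrum.comap (algebraMap B D) '' ProEtW.closedPoints (PrimeSpectrum D) =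
      Set.univ := by
    refine Set.eq_univ_of_forall fun q => ?_
    obtain ⟨m, hm, hmq⟩ := hsurC.ge (Set.mem_univ (PrimeSpectrum.comap (algebraMap A B) q))
    obtain ⟨r, _, hrq, hrm⟩ :=
      Groth.Agent.Spec91.exists_prime_tensor q.asIdeal m.asIdeal (congrArg PrimeSpectrum.asIdeal hmq).symm
    replace hrm : PrimeSpectrum.comap (algebraMap C (TensorProduct A B C)) ⟨r, inferInstance⟩ = m :=
      PrimeSpectrum.ext hrm
    replace hrq : PrimeSpectrum.comap (algebraMap B (TensorProduct A B C)) ⟨r, inferInstance⟩ = q :=
      PrimeSpectrum.ext hrq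
    have hle : (I.map (algebraMap C (TensorProduct A B C))) ≤ r := by
      refine Ideal.map_le_iff_le_comap.2 ?_
      have h1 : m ∈ PrimeSpectrum.zeroLocus (R := C) I := hI0.ge hm
      rw [← hrm] at h1
      exact h1
    have : (r.map (Ideal.Quotient.mk (I.map (algebraMap C (TensorProduct A B C))))).IsPrime :=
      Ideal.map_isPrime_of_surjective Ideal.Quotient.mk_surjective (by rwa [Ideal.mk_ker])
    let e := RingEquiv.ofBijective _ hbij
    let s : PrimeSpectrum D := PrimeSpectrum.comap
      (e.symm.toRingHom.comp (Ideal.Quotient.mk _)) ⟨r.map (Ideal.Quotient.mk _), this⟩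
    have hs : PrimeSpectrum.comap (algebraMap (TensorProduct A B C) D) s = ⟨r, inferInstance⟩ := by
      refine PrimeSpectrum.ext ?_
      ext x
      show e.symm (Ideal.Quotient.mk _ (algebraMap (TensorProduct A B C) D x)) ∈
        r.map (Ideal.Quotient.mk _) ↔ x ∈ r
      rw [show Ideal.Quotient.mk _ (algebraMap (TensorProduct A B C) D x) =
        e (Ideal.Quotient.mk _ x) from rfl, e.symm_apply_apply]
      refine ⟨fun hx => ?_, fun hx => Ideal.mem_map_of_mem _ hx⟩
      have h1 := (Ideal.mem_comap (f := Ideal.Quotient.mk (I.map (algebraMap C (TensorProduct A B C))))).2 hx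
      rw [Ideal.comap_map_of_surjective _ Ideal.Quotient.mk_surjective, ← RingHom.ker_eq_comap_bot,
        Ideal.mk_ker, sup_eq_left.2 hle] at h1
      exact h1
    refine ⟨s, ?_, ?_⟩
    · rw [hclD, Set.mem_preimage, IsScalarTower.algebraMap_eq C (TensorProduct A B C) D,
        PrimeSpectrum.comap_comp_apply, hs, hrm]
      exact hm
    · rw [IsScalarTower.algebraMap_eq B (TensorProduct A B C) D, PrimeSpectrum.comap_comp_apply,
        hs, hrq]
  have hffD : Module.FaithfullyFlat B D := by
    have := Groth.Agent.Ind91.flat_of_isIndEtale hieD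
    refine Module.FaithfullyFlat.of_comap_surjective fun x => ?_
    obtain ⟨d, -, hd⟩ := hsurD.ge (Set.mem_univ x)
    exact ⟨d, hd⟩
  exact ⟨C, D, inferInstance, inferInstance, inferInstance, inferInstance, inferInstance,
    inferInstance, inferInstance, hABD, hffC, hieC, hffD, hieD, hwC, hwD, hwmap, hclD, hsurC,
    hsurD, hshC⟩

end Groth.Agent.S0692
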