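import Groth.Statements.S0700
import Groth.Agent.Germs91.Change
import Groth.Agent.Germs91.WRetract

set_option autoImplicit false
open CategoryTheory CategoryTheory.Limits AlgebraicGeometry Opposite Topology
universe u
open ProEtW

namespace Groth.Agent.S0700

/-- Let A -> B identify local rings, with Spec A and Spec B w-local and Spec B -> Spec A w-local. Then A
-> B is ind-Zariski (a filtered colimit of local isomorphisms). -/
theorem result (A B : Type u) [CommRing A] [CommRing B]
    [Algebra A B] (h1 : EtPBC.IdentifiesLocalRings A B) (h2 : ProEtW.IsWLocal (PrimeSpectrum A))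
    (h3 : ProEtW.IsWLocal (PrimeSpectrum B))
    (h4 : ProEtW.IsWLocalMap (PrimeSpectrum.comap (algebraMap A B))) :
    EtPBC.IsIndZariski A B := by
  haveI := h3.1
  obtain ⟨_, _, _⟩ := Groth.Agent.Spec91.closedPoints_profinite h3.2.1
  let P : Groth.Agent.Germs91.CP B → PrimeSpectrum B := Subtype.val
  obtain ⟨e⟩ := Groth.Agent.Germs91.nonempty_algEquiv_below (A := A) P (Groth.Agent.Germs91.cp_clopen h3) h1
  let eB : B ≃ₐ[A] Groth.Agent.Germs91.Germ (Groth.Agent.Germs91.pc P) :=
    (AlgEquiv.ofBijective (Algebra.ofId B _) (Groth.Agent.Germs91.bijective_algebraMap_germ h3)).restrictScalars A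
  exact Groth.Agent.Ind91.isIndZariski_of_algEquiv (e.trans eB.symm)
    (Groth.Agent.Germs91.isIndZariski_germ _ fun a => (Groth.Agent.Germs91.cp_clopen h3 (algebraMap A B a)).2)

end Groth.Agent.S0700
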