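import Groth.Statements.S0176
import Groth.Agent.S0692
import Groth.Agent.S0700
import Groth.Agent.WE91.ResidueExt
import Groth.Agent.WE91.Local

set_option autoImplicit false
universe u
open CategoryTheory CategoryTheory.Limits AlgebraicGeometry Opposite
open EtPBC

namespace Groth.Agent.S0176

/-- For a weakly etale ring map A -> B (Mathlib's Algebra.WeaklyEtale) one can enlarge B along a
faithfully flat ind-etale extension B' so that B' is already ind-etale over A; here ind-etale means:
a filtered colimit of etale algebras. -/
theorem result (A B : Type u) [CommRing A] [CommRing B] [Algebra A B]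
    [Algebra.WeaklyEtale A B] :
    ∃ (B' : Type u) (_ : CommRing B') (_ : Algebra B B') (_ : Algebra A B') (_ : IsScalarTower A B B'),
      Module.FaithfullyFlat B B' ∧ EtPBC.IsIndEtale B B' ∧ EtPBC.IsIndEtale A B' := by
  obtain ⟨C, D, _, _, _, _, _, _, _, _, hffC, hieC, hffD, hieD, hwC, hwD, hwmap, hclD, hsC, hsD, hsh⟩ :=
    Groth.Agent.S0692.result A B Groth.Agent.WE91.algebraicResidueExtensions
  have := Groth.Agent.Ind91.weaklyEtale_of_isIndEtale hieC
  have := Groth.Agent.Ind91.weaklyEtale_of_isIndEtale hieD
  have : Algebra.WeaklyEtale A D := Algebra.WeaklyEtale.trans A B D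
  have : Algebra.WeaklyEtale C D := Groth.Agent.WE24.weaklyEtale_of_algHom A C D
  have hid : EtPBC.IdentifiesLocalRings C D := by
    intro q
    obtain ⟨M, hM, hle⟩ := Ideal.exists_le_maximal q.asIdeal q.isPrime.ne_top
    refine Groth.Agent.WE91.bijective_localRingHom_of_le q.asIdeal M hle ?_
    have hm : (M.comap (algebraMap C D)).IsMaximal := by
      have h1 := hwmap.2 ⟨M, hM.isPrime⟩ ((PrimeSpectrum.isClosed_singleton_iff_isMaximal _).2 hM)
      exact (PrimeSpectrum.isClosed_singleton_iff_isMaximal _).1 h1
    exact Groth.Agent.WE91.bijective_localRingHom_of_strictlyHenselian _ M rfl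
      (hsh (M.comap (algebraMap C D)))
  exact ⟨D, inferInstance, inferInstance, inferInstance, inferInstance, hffD, hieD,
    Groth.Agent.Ind91.isIndEtale_trans hieC
      (Groth.Agent.Ind91.isIndEtale_of_isIndZariski
        (Groth.Agent.S0700.result C D hid hwC hwD hwmap))⟩

end Groth.Agent.S0176
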