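import Groth.Statements.S18735
import Groth.Agent.MP99.Factor
-- import your own Groth.Agent.* helpers here

set_option autoImplicit false
universe u
open CategoryTheory CategoryTheory.Limits AlgebraicGeometry TopologicalSpace
open ModPair

namespace Groth.Agent.S18735

/-- Let (S, I_S), (T, I_T), (X, I_X) be schemes equipped with quasi-coherent ideal sheaves of effective
Cartier divisors, g : T ⟶ S a morphism satisfying the modulus condition I_T ≤ I_S.comap g, and s : X
⟶ S an abstract admissible blow-up (I_X = I_S.comap s, s proper and an isomorphism over the open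
complement of the support of I_S). Let Y be the scheme-theoretic image in X ×_S T of the open
pr₁⁻¹(X°) ∩ pr₂⁻¹(T°), where X°, T° are the open complements of the supports of I_X, I_T, with
projections q : Y ⟶ T and r : Y ⟶ X. Then I_T.comap q is the ideal sheaf of an effective Cartier
divisor on Y, q is an abstract admissible blow-up from (Y, I_T.comap q) to (T, I_T), and r satisfies
the modulus condition from (Y, I_T.comap q) to (X, I_X). -/
theorem result {S T X : Scheme.{u}} (IS : S.IdealSheafData)
    (IT : T.IdealSheafData) (IX : X.IdealSheafData) (hS : BlowUp.IsEffCartierIdeal IS)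
    (hT : BlowUp.IsEffCartierIdeal IT) (hX : BlowUp.IsEffCartierIdeal IX)
    (g : T ⟶ S) (hg : ModPair.IsAmbient IT IS g) (s : X ⟶ S) (hs : ModPair.IsAdmBlowup IX IS s) :
    BlowUp.IsEffCartierIdeal (IT.comap (ModPair.mprodι s g IX IT ≫ pullback.snd s g)) ∧
      ModPair.IsAdmBlowup (IT.comap (ModPair.mprodι s g IX IT ≫ pullback.snd s g)) IT
        (ModPair.mprodι s g IX IT ≫ pullback.snd s g) ∧
      ModPair.IsAmbient (IT.comap (ModPair.mprodι s g IX IT ≫ pullback.snd s g)) IX
        (ModPair.mprodι s g IX IT ≫ pullback.fst s g) := by
  have hs' : IX = IS.comap s := hs.1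
  haveI : IsProper s := hs.2.1
  haveI : IsIso (s ∣_ ModPair.interior IS) := hs.2.2
  refine ⟨MP99.isEffCartier_comap_mprod_snd hX hT s g, ⟨rfl, ?_, ?_⟩, ?_⟩
  · infer_instance
  · rw [morphismRestrict_comp]
    have hle : ModPair.interior IT ≤ g ⁻¹ᵁ ModPair.interior IS := by
      rw [← MP99.interior_comap]; exact MP99.interior_mono hg
    have hprod : pullback.snd s g ⁻¹ᵁ ModPair.interior IT = ModPair.prodInterior s g IX IT := by
      refine (inf_eq_right.mpr fun x hx => ?_).symm
      rw [hs', MP99.interior_comap]
      show (pullback.fst s g ≫ s) x ∈ ModPair.interior IS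
      rw [pullback.condition]
      exact hle hx
    haveI : IsIso (ModPair.mprodι s g IX IT ∣_ pullback.snd s g ⁻¹ᵁ ModPair.interior IT) := by
      rw [hprod]; exact MP99.isIso_imageι_restrict _
    haveI := MP99.isIso_restrict_of_isPullback (IsPullback.of_hasPullback s g).flip hle
    exact IsIso.comp_isIso' (by assumption) (by assumption)
  · show _ ≤ IX.comap _
    rw [hs', ← Scheme.IdealSheafData.comap_comp, Category.assoc, pullback.condition,
      ← Category.assoc, Scheme.IdealSheafData.comap_comp _ _ g]
    exact Scheme.IdealSheafData.comap_mono _ hg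

end Groth.Agent.S18735
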