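import Groth.Statements.S14613
import Groth.Agent.FCx40.Acyclic

set_option autoImplicit false
universe u
open FlatCx

namespace Groth.Agent.S14613

open CategoryTheory CategoryTheory.Limits in
/-- Let A be a commutative ring (not necessarily Noetherian), C and D cochain complexes of flat
A-modules that are bounded above (zero in all large degrees), φ : C → D a quasi-isomorphism and M an
arbitrary A-module. Then φ ⊗ id_M : C ⊗_A M → D ⊗_A M, the tensor product taken degreewise, is a
quasi-isomorphism. Boundedness cannot be dropped. -/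
theorem result (A : Type u) [CommRing A]
    (C D : CochainComplex (ModuleCat.{u} A) ℤ)
    (hC : ∀ i, Module.Flat A (C.X i)) (hD : ∀ i, Module.Flat A (D.X i))
    (bC : ∃ b : ℤ, ∀ i, b < i → IsZero (C.X i)) (bD : ∃ b : ℤ, ∀ i, b < i → IsZero (D.X i))
    (φ : C ⟶ D) [QuasiIso φ] (M : ModuleCat.{u} A) :
    QuasiIso (((MonoidalCategory.tensorRight M).mapHomologicalComplex (ComplexShape.up ℤ)).map φ) := by
  obtain ⟨b, hb⟩ := bC
  obtain ⟨b', hb'⟩ := bD
  let K := CochainComplex.mappingCone φ
  have e : ∀ n, Nonempty (K.X n ≅ ModuleCat.of A (C.X (n + 1) × D.X n)) := fun n =>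
    ⟨(HomologicalComplex.homotopyCofiber.XIsoBiprod φ n (n + 1) rfl) ≪≫ ModuleCat.biprodIsoProd _ _⟩
  have hK : ∀ n, Module.Flat A (K.X n) := fun n => by
    obtain ⟨i⟩ := e n
    have := hC (n + 1)
    have := hD n
    have : Module.Flat A (C.X (n + 1) × D.X n) :=
      FCx40.flat_middle LinearMap.inl_injective Function.Exact.inl_snd LinearMap.snd_surjective
    exact @Module.Flat.of_linearEquiv _ _ _ _ _ _ _ _ this i.toLinearEquiv
  have hb'' : ∀ n, max b b' < n → IsZero (K.X n) := fun n hn => by
    obtain ⟨i⟩ := e n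
    have : Subsingleton (C.X (n + 1)) := ModuleCat.subsingleton_of_isZero (hb _ (by omega))
    have : Subsingleton (D.X n) := ModuleCat.subsingleton_of_isZero (hb' _ (by omega))
    exact (ModuleCat.isZero_of_subsingleton _).of_iso i
  rw [FCx40.quasiIso_iff_cone]
  intro n
  refine (FCx40.isZero_homology_tensor hK _ hb'' ((FCx40.quasiIso_iff_cone φ).mp inferInstance) M n).of_iso ?_
  exact (HomologicalComplex.homologyMapIso
    (CochainComplex.mappingCone.mapHomologicalComplexIso φ (MonoidalCategory.tensorRight M)) n).symm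

end Groth.Agent.S14613
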