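import Groth.Statements.S4490
import Groth.Agent.FCx40.Local
import Mathlib.RingTheory.Filtration

set_option autoImplicit false
universe u
open FlatCx

namespace Groth.Agent.S4490

open CategoryTheory CategoryTheory.Limits in
/-- The case of the functor T_p(M) = H_p(P ⊗_A M) of a chain complex P of finitely generated flat
modules over a Noetherian local ring A with maximal ideal m and residue field k. Then T_p takes
surjections to surjections if and only if the map T_p(A) → T_p(k) induced by A → k is surjective;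
and also if and only if, for all sufficiently large n (there is n₀ such that for every n ≥ n₀), the
map T_p(A/m^(n+1)) → T_p(A/m) induced by the projection is surjective. (Surjectivity at one n gives
it at every smaller n, so this is the same as asking it for every n; at n = 0 alone the map is an
isomorphism and the condition would be empty.) -/
theorem result {A : Type u} [CommRing A] [IsNoetherianRing A]
    [IsLocalRing A] (P : ChainComplex (ModuleCat.{u} A) ℤ)
    (hP : ∀ i, Module.Finite A (P.X i) ∧ Module.Flat A (P.X i)) (p : ℤ) :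
    ((CohIII.TFun P p).PreservesEpimorphisms ↔
      Function.Surjective ((CohIII.TFun P p).map
        (ModuleCat.ofHom (Algebra.linearMap A (IsLocalRing.ResidueField A)))).hom) ∧
    ((CohIII.TFun P p).PreservesEpimorphisms ↔
      ∃ n₀ : ℕ, ∀ n : ℕ, n₀ ≤ n → Function.Surjective ((CohIII.TFun P p).map (ModuleCat.ofHom
        (Ideal.Quotient.factorₐ A (Ideal.pow_le_self (I := IsLocalRing.maximalIdeal A)
          (Nat.succ_ne_zero n))).toLinearMap :
        ModuleCat.of A (A ⧸ IsLocalRing.maximalIdeal A ^ (n + 1)) ⟶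
          ModuleCat.of A (A ⧸ IsLocalRing.maximalIdeal A))).hom) := by
  have hpq : p - 1 + 1 = p := sub_add_cancel p 1
  have hres : Function.Surjective (ModuleCat.ofHom
      (Algebra.linearMap A (IsLocalRing.ResidueField A))).hom := IsLocalRing.residue_surjective
  refine ⟨FCx40.preservesEpi_iff_surjective_residue hP hpq, fun h => ⟨0, fun n _ => ?_⟩, ?_⟩
  · have : Epi (ModuleCat.ofHom (Ideal.Quotient.factorₐ A (Ideal.pow_le_self (I := IsLocalRing.maximalIdeal A)
        (Nat.succ_ne_zero n))).toLinearMap :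
        ModuleCat.of A (A ⧸ IsLocalRing.maximalIdeal A ^ (n + 1)) ⟶
          ModuleCat.of A (A ⧸ IsLocalRing.maximalIdeal A)) := by
      rw [ModuleCat.epi_iff_surjective]
      intro y
      obtain ⟨a, rfl⟩ := Ideal.Quotient.mk_surjective y
      exact ⟨Ideal.Quotient.mk _ a, rfl⟩
    exact (ModuleCat.epi_iff_surjective _).mp (h.preserves _)
  rintro ⟨n₀, h⟩
  rw [FCx40.preservesEpi_iff_surjective_residue hP hpq]
  refine (FCx40.map_surjective_iff hpq _ hres).mpr fun x'' hx'' => ?_
  have := (hP p).1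
  have := (hP (p - 1)).1
  set d := (P.d p (p - 1)).hom with hd
  set m := IsLocalRing.maximalIdeal A with hm
  obtain ⟨k, hk⟩ := Ideal.exists_pow_inf_eq_pow_smul m (LinearMap.range d)
  let n := max n₀ k
  have hsur : Function.Surjective (ModuleCat.ofHom (Ideal.Quotient.factorₐ A (Ideal.pow_le_self (I := m)
        (Nat.succ_ne_zero n))).toLinearMap :
      ModuleCat.of A (A ⧸ m ^ (n + 1)) ⟶ ModuleCat.of A (A ⧸ m)).hom := fun y => by
    obtain ⟨a, rfl⟩ := Ideal.Quotient.mk_surjective y
    exact ⟨Ideal.Quotient.mk _ a, rfl⟩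
  obtain ⟨x', hx', hx'm⟩ := (FCx40.map_surjective_iff hpq _ hsur).mp (h n (le_max_left _ _)) x'' hx''
  obtain ⟨x, hx⟩ := (TensorProduct.tensorQuotEquivQuotSMul (P.X p) (m ^ (n + 1))).symm.surjective x'
  obtain ⟨x, rfl⟩ := Submodule.Quotient.mk_surjective _ x
  rw [TensorProduct.tensorQuotEquivQuotSMul_symm_mk] at hx
  subst hx
  have hdx : d x ∈ m ^ (n + 1) • (⊤ : Submodule A (P.X (p - 1))) := by
    have h2 : TensorProduct.tensorQuotEquivQuotSMul (P.X (p - 1)) (m ^ (n + 1)) (d x ⊗ₜ[A] 1) = 0 :=
      (congrArg _ hx').trans (map_zero _)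
    rw [← map_one (Ideal.Quotient.mk (m ^ (n + 1))), TensorProduct.tensorQuotEquivQuotSMul_tmul_mk, one_smul] at h2
    exact (Submodule.Quotient.mk_eq_zero _).mp h2
  have hmem : d x ∈ m • LinearMap.range d := by
    have h3 : d x ∈ m ^ (n + 1 - k) • (m ^ k • ⊤ ⊓ LinearMap.range d) := by
      rw [← hk (n + 1) (by omega)]
      exact ⟨hdx, LinearMap.mem_range_self _ _⟩
    exact Submodule.smul_mono (Ideal.pow_le_self (by omega)) inf_le_right h3
  rw [LinearMap.range_eq_map, ← Submodule.map_smul''] at hmem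
  obtain ⟨w, hw, hw'⟩ := hmem
  have hw0 : w ⊗ₜ[A] (1 : A ⧸ m) = 0 := by
    apply (TensorProduct.tensorQuotEquivQuotSMul (P.X p) m).injective
    rw [← map_one (Ideal.Quotient.mk m), TensorProduct.tensorQuotEquivQuotSMul_tmul_mk, one_smul, map_zero]
    exact (Submodule.Quotient.mk_eq_zero _).mpr hw
  refine ⟨(x - w) ⊗ₜ[A] (1 : A), ?_, ?_⟩
  · show d.rTensor A _ = 0
    rw [LinearMap.rTensor_tmul, map_sub, hw', sub_self, TensorProduct.zero_tmul]
  · rw [← hx'm]
    show (Algebra.linearMap A (A ⧸ m)).lTensor _ ((x - w) ⊗ₜ[A] (1 : A)) =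
      (Ideal.Quotient.factorₐ A _).toLinearMap.lTensor _ (x ⊗ₜ[A] (1 : A ⧸ m ^ (n + 1)))
    rw [LinearMap.lTensor_tmul, LinearMap.lTensor_tmul, Algebra.linearMap_apply, map_one, TensorProduct.sub_tmul,
      hw0, sub_zero]
    rfl

end Groth.Agent.S4490
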