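import Groth.Statements.S2156
import Groth.Agent.Open62.SmoothFibre
import Groth.Agent.Unr55.StalkCrit
import Groth.Agent.S0386

set_option autoImplicit false
universe u
open CategoryTheory AlgebraicGeometry
open Mor

namespace Groth.Agent.S2156

/-- Let `f : X → S` be locally of finite presentation and `x ∈ X` with image `s`. Then `f` is smooth at
`x` if and only if `O_{S,s} → O_{X,x}` is flat and the fibre `X_s → Spec κ(s)` is smooth at the
point corresponding to `x`. -/
theorem result {X S : Scheme.{u}} (f : X ⟶ S) [LocallyOfFinitePresentation f] (x : X)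
    [LocallyOfFinitePresentation (f.fiberToSpecResidueField (f.base x))] :
    x ∈ f.smoothLocus ↔
      (f.stalkMap x).hom.Flat ∧ f.asFiber x ∈ (f.fiberToSpecResidueField (f.base x)).smoothLocus := by
  haveI : ∀ s : S, LocallyOfFinitePresentation (f.fiberToSpecResidueField s) := fun s =>
    MorphismProperty.pullback_snd _ _ ‹LocallyOfFinitePresentation f›
  constructor
  · intro hx
    obtain ⟨U, hxU, hU⟩ := (Unr55.exists_smooth_iff f x).2 hx
    haveI := hU
    refine ⟨(Unr55.stalkMap_iff_restrict f RingHom.Flat.respectsIso U ⟨x, hxU⟩).mpr (Flat.stalkMap _ _), ?_⟩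
    exact Open62.preimage_smoothLocus_le (IsPullback.of_hasPullback f (S.fromSpecResidueField (f x)))
      (show f.fiberι (f x) (f.asFiber x) ∈ f.smoothLocus by rw [f.fiberι_asFiber x]; exact hx)
  · rintro ⟨hfl, hfib⟩
    let U : X.Opens := ⟨_, S0386.result f⟩
    haveI : Flat (U.ι ≫ f) := (Flat.iff_flat_stalkMap (U.ι ≫ f)).2 fun y =>
      (Unr55.stalkMap_iff_restrict f RingHom.Flat.respectsIso U y).mp y.2
    have h1 : (⟨x, hfl⟩ : U) ∈ Open62.fibreSmooth (U.ι ≫ f) := by
      rw [Open62.fibreSmooth_openImmersion_comp U.ι f]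
      exact (Open62.mem_fibreSmooth_iff f x).2 hfib
    rw [Open62.fibreSmooth_of_flat (U.ι ≫ f)] at h1
    rw [← Scheme.Hom.preimage_smoothLocus_eq] at h1
    exact h1

end Groth.Agent.S2156
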