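import Groth.Statements.S1592
import Groth.Agent.Node12.Etale

set_option autoImplicit false
set_option backward.isDefEq.respectTransparency.types false
universe u
open CategoryTheory CategoryTheory.Limits AlgebraicGeometry
open Curves

namespace Groth.Agent.S1592

/-- If f : X → S is at-worst-nodal of relative dimension one and g : Y → X is étale, then g ≫ f is
at-worst-nodal of relative dimension one. -/
theorem result {X Y S : Scheme.{u}} (f : X ⟶ S) (hf : Curv2.IsNodalFamily f) (g : Y ⟶ X) [Etale g] :
    Curv2.IsNodalFamily (g ≫ f) := by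
  obtain ⟨hflat, hlfp, hfib⟩ := hf
  refine ⟨inferInstance, inferInstance, fun s => ?_⟩
  obtain ⟨hequi, hnod⟩ := hfib s
  let F := f.fiber s
  let G := (g ≫ f).fiber s
  let iF : F.Over (Spec (CommRingCat.of (S.residueField s))) := ⟨f.fiberToSpecResidueField s⟩
  let iG : G.Over (Spec (CommRingCat.of (S.residueField s))) := ⟨(g ≫ f).fiberToSpecResidueField s⟩
  have hF : LocallyOfFiniteType (F ↘ Spec (CommRingCat.of (S.residueField s))) :=
    (inferInstance : LocallyOfFiniteType (pullback.snd f (S.fromSpecResidueField s)))
  let π : G ⟶ F := pullback.lift (pullback.fst (g ≫ f) (S.fromSpecResidueField s) ≫ g)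
    (pullback.snd (g ≫ f) (S.fromSpecResidueField s)) ((Category.assoc _ _ _).trans pullback.condition)
  have hsq : IsPullback (pullback.fst (g ≫ f) (S.fromSpecResidueField s)) π g (pullback.fst f (S.fromSpecResidueField s)) := by
    refine IsPullback.of_bot ?_ ?_ (IsPullback.of_hasPullback f (S.fromSpecResidueField s))
    · have e : π ≫ pullback.snd f (S.fromSpecResidueField s) = pullback.snd (g ≫ f) (S.fromSpecResidueField s) :=
        pullback.lift_snd _ _ _
      exact e.symm ▸ IsPullback.of_hasPullback (g ≫ f) (S.fromSpecResidueField s)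
    · exact (pullback.lift_fst _ _ _).symm
  have : Etale π := MorphismProperty.of_isPullback (P := @Etale) hsq ‹Etale g›
  exact Groth.Agent.Node12.atWorstNodal_of_etale (S.residueField s) F hequi hnod π (pullback.lift_snd _ _ _)

end Groth.Agent.S1592
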