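import Groth.Statements.S1593
import Groth.Agent.Node12.Descent
import Groth.Agent.Alg80.FPDescentScheme
import Groth.Agent.Desc59.FlatPure

set_option autoImplicit false
set_option backward.isDefEq.respectTransparency.types false
universe u
open CategoryTheory CategoryTheory.Limits AlgebraicGeometry
open Curves

namespace Groth.Agent.S1593

/-- Being an at-worst-nodal family of curves is étale local on the source: let f : X → S be a morphism
and g_i : U_i → X a jointly surjective family of étale morphisms. If every composite g_i ≫ f is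
at-worst-nodal of relative dimension one, then so is f. -/
theorem result {X S : Scheme.{u}} (f : X ⟶ S) (ι : Type u) (U : ι → Scheme.{u})
    (g : ∀ i, U i ⟶ X) [∀ i, Etale (g i)] (hsurj : ∀ x : X, ∃ i, x ∈ Set.range (g i).base)
    (h : ∀ i, Curv2.IsNodalFamily (g i ≫ f)) : Curv2.IsNodalFamily f := by
  let p : (∐ U) ⟶ X := Sigma.desc g
  have hpe : Etale p := IsZariskiLocalAtSource.sigmaDesc fun i => inferInstance
  have hps : Surjective p := Surjective.sigmaDesc_of_union_range_eq_univ
    (Set.eq_univ_of_forall fun x => Set.mem_iUnion.2 (hsurj x))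
  have hpf : p ≫ f = Sigma.desc fun i => g i ≫ f := Sigma.hom_ext _ _ fun i => by simp [p]
  have : ∀ i, Flat (g i ≫ f) := fun i => (h i).1
  have : Flat (p ≫ f) := hpf ▸ IsZariskiLocalAtSource.sigmaDesc fun i => (h i).1
  have : LocallyOfFinitePresentation (p ≫ f) := hpf ▸ IsZariskiLocalAtSource.sigmaDesc fun i => (h i).2.1
  have hflat : Flat f := Desc59.FlatPure.flat_of_flat_comp_of_factor p f p (𝟙 _) (Category.id_comp _)
  have hlfp : LocallyOfFinitePresentation f := Alg80.lfp_of_comp p f
  refine ⟨hflat, hlfp, fun s => ?_⟩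
  let iF : (f.fiber s).Over (Spec (CommRingCat.of (S.residueField s))) := ⟨f.fiberToSpecResidueField s⟩
  have hF : LocallyOfFiniteType ((f.fiber s) ↘ Spec (CommRingCat.of (S.residueField s))) :=
    (inferInstance : LocallyOfFiniteType (pullback.snd f (S.fromSpecResidueField s)))
  let π : ∀ i, (g i ≫ f).fiber s ⟶ f.fiber s := fun i =>
    pullback.lift (pullback.fst (g i ≫ f) (S.fromSpecResidueField s) ≫ g i)
      (pullback.snd (g i ≫ f) (S.fromSpecResidueField s)) ((Category.assoc _ _ _).trans pullback.condition)
  have hsq : ∀ i, IsPullback (pullback.fst (g i ≫ f) (S.fromSpecResidueField s)) (π i) (g i)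
      (pullback.fst f (S.fromSpecResidueField s)) := fun i => by
    refine IsPullback.of_bot ?_ ?_ (IsPullback.of_hasPullback f (S.fromSpecResidueField s))
    · have e : π i ≫ pullback.snd f (S.fromSpecResidueField s) = pullback.snd (g i ≫ f) (S.fromSpecResidueField s) :=
        pullback.lift_snd _ _ _
      exact e.symm ▸ IsPullback.of_hasPullback (g i ≫ f) (S.fromSpecResidueField s)
    · exact (pullback.lift_fst _ _ _).symm
  have : ∀ i, Etale (π i) := fun i => MorphismProperty.of_isPullback (P := @Etale) (hsq i) inferInstance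
  refine Groth.Agent.Node12.atWorstNodal_of_etale_cover (S.residueField s) (f.fiber s) _ π (fun z => ?_)
    (fun i => ((h i).2.2 s).1) (fun i => ?_)
  · obtain ⟨i, w, hw⟩ := hsurj (pullback.fst f (S.fromSpecResidueField s) z)
    obtain ⟨t, -, ht⟩ := Scheme.exists_preimage_of_isPullback (hsq i) w z hw
    exact ⟨i, t, ht⟩
  · rw [show π i ≫ ((f.fiber s) ↘ Spec (CommRingCat.of (S.residueField s))) =
      (g i ≫ f).fiberToSpecResidueField s from pullback.lift_snd _ _ _]
    exact ((h i).2.2 s).2

end Groth.Agent.S1593
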