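import Groth.Statements.S1595
import Groth.Agent.Node12.Descent
import Groth.Agent.Desc59.EtaleDim

set_option autoImplicit false
set_option backward.isDefEq.respectTransparency.types false
universe u
open CategoryTheory CategoryTheory.Limits AlgebraicGeometry
open Curves

namespace Groth.Agent.S1595

/-- If S' → S is étale and f : X → S' is at-worst-nodal of relative dimension one, then the composite X
→ S is at-worst-nodal of relative dimension one. -/
theorem result {X S S' : Scheme.{u}} (e : S' ⟶ S) [Etale e] (f : X ⟶ S') (hf : Curv2.IsNodalFamily f) :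
    Curv2.IsNodalFamily (f ≫ e) := by
  obtain ⟨hflat, hlfp, hfib⟩ := hf
  refine ⟨inferInstance, inferInstance, fun s => ?_⟩
  let k := S.residueField s
  let G := (f ≫ e).fiber s
  let iG : G.Over (Spec (CommRingCat.of k)) := ⟨(f ≫ e).fiberToSpecResidueField s⟩
  have hG : LocallyOfFiniteType (G ↘ Spec (CommRingCat.of k)) :=
    (inferInstance : LocallyOfFiniteType (pullback.snd (f ≫ e) (S.fromSpecResidueField s)))
  have key : ∀ s' : S', e s' = s → ∃ φ : f.fiber s' ⟶ G, Etale φ ∧ φ ≫ (f ≫ e).fiberι s = f.fiberι s' ∧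
      (@Curv2.AtWorstNodal k _ (f.fiber s') ⟨φ ≫ (G ↘ Spec (CommRingCat.of k))⟩) := by
    rintro s' rfl
    let φ : f.fiber s' ⟶ (f ≫ e).fiber (e s') := pullback.lift (f.fiberι s')
      (f.fiberToSpecResidueField s' ≫ Spec.map (e.residueFieldMap s')) (by
        rw [Category.assoc, Scheme.Hom.SpecMap_residueFieldMap_fromSpecResidueField]
        exact (Category.assoc _ _ _).symm.trans ((congrArg (· ≫ e) pullback.condition).trans (Category.assoc _ _ _)))
    have h1 : φ ≫ (f ≫ e).fiberι (e s') = f.fiberι s' := pullback.lift_fst _ _ _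
    have h2 : φ ≫ (f ≫ e).fiberToSpecResidueField (e s') =
        f.fiberToSpecResidueField s' ≫ Spec.map (e.residueFieldMap s') := pullback.lift_snd _ _ _
    refine ⟨φ, Desc59.EtaleDim.etale_fiberMap (f ≫ e) f (𝟙 X) e (by simp) s' φ (by simpa using h1) h2, h1, ?_⟩
    let _ : Algebra (S.residueField (e s')) (S'.residueField s') := (e.residueFieldMap s').hom.toAlgebra
    have : FiniteDimensional (S.residueField (e s')) (S'.residueField s') :=
      Desc59.EtaleDim.finite_residueFieldMap e s'
    have : Algebra.IsSeparable (S.residueField (e s')) (S'.residueField s') := inferInstanceAs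
      (Algebra.IsSeparable (S.residueField (e.base s')) (S'.residueField s'))
    have : Etale (Spec.map (CommRingCat.ofHom (algebraMap (S.residueField (e s')) (S'.residueField s')))) :=
      Desc59.EtaleDim.etale_specMap_residueFieldMap e s'
    let iF : (f.fiber s').Over (Spec (CommRingCat.of (S'.residueField s'))) := ⟨f.fiberToSpecResidueField s'⟩
    have hF : LocallyOfFiniteType ((f.fiber s') ↘ Spec (CommRingCat.of (S'.residueField s'))) :=
      (inferInstance : LocallyOfFiniteType (pullback.snd f (S'.fromSpecResidueField s')))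
    rw [show φ ≫ (G ↘ Spec (CommRingCat.of k)) = ((f.fiber s') ↘ Spec (CommRingCat.of (S'.residueField s'))) ≫
      Spec.map (CommRingCat.ofHom (algebraMap (S.residueField (e s')) (S'.residueField s'))) from h2]
    exact Groth.Agent.Node12.atWorstNodal_of_separable (S.residueField (e s')) (S'.residueField s') (f.fiber s')
      (hfib s').2
  choose φ hφe hφι hφn using fun s' : {s' : S' // e s' = s} => key s'.1 s'.2
  refine Groth.Agent.Node12.atWorstNodal_of_etale_cover k G _ φ (fun z => ?_) (fun i => (hfib i.1).1) hφn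
  have hz : e (f ((f ≫ e).fiberι s z)) = s := by
    have h1 : (f ≫ e).fiberι s z ∈ Set.range ((f ≫ e).fiberι s) := ⟨z, rfl⟩
    rw [Scheme.Hom.range_fiberι] at h1
    exact h1
  obtain ⟨w, hw⟩ : (f ≫ e).fiberι s z ∈ Set.range (f.fiberι (f ((f ≫ e).fiberι s z))) := by
    rw [Scheme.Hom.range_fiberι]; rfl
  refine ⟨⟨_, hz⟩, w, ((f ≫ e).fiberι s).isEmbedding.injective ?_⟩
  rw [← Scheme.Hom.comp_apply, hφι]
  exact hw

end Groth.Agent.S1595
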