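import Groth.Statements.S12080
import Mathlib.RingTheory.PicardGroup
import Mathlib.RingTheory.LocalProperties.FinitePresentation
import Mathlib.RingTheory.LocalProperties.Exactness
import Mathlib.RingTheory.Ideal.Maximal

set_option autoImplicit false
universe u
open TensorProduct
open CAlg

namespace Groth.Agent.S12080

open TensorProduct

/-- (1) ⇒ (2): let `M` be a finite locally free `R`-module of rank `1`, i.e. there is a set `s ⊆ R`
generating the unit ideal with `M_f ≅ R_f` as `R_f`-modules for every `f ∈ s`. Then the evaluation
map `Hom_R(M, R) ⊗_R M → R` is bijective, so `M` is invertible with inverse its dual. -/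
theorem result (R : Type u) [CommRing R] (M : Type u) [AddCommGroup M]
    [Module R M] (s : Set R) (hs : Ideal.span s = ⊤)
    (hfree : ∀ f ∈ s, Nonempty (LocalizedModule.Away f M ≃ₗ[Localization.Away f] Localization.Away f)) :
    Module.Invertible R M := by
  let e := fun r : s => (hfree r.1 r.2).some
  haveI : ∀ r : s, Module.FinitePresentation (Localization.Away r.1) (LocalizedModule.Away r.1 M) :=
    fun r => Module.FinitePresentation.of_equiv (e r).symm
  haveI : Module.FinitePresentation R M := Module.FinitePresentation.of_localizationSpan s hs this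
  have hswap : ∀ (g : Module.Dual R M) (x y : M), g x • y = g y • x := by
    intro g x y
    refine Module.eq_of_isLocalized_span s hs (fun r : s => LocalizedModule.Away r.1 M)
      (fun r => LocalizedModule.mkLinearMap (Submonoid.powers r.1) M) _ _ fun r => ?_
    let G : LocalizedModule.Away r.1 M →ₗ[Localization.Away r.1] Localization.Away r.1 :=
      LinearMap.extendScalarsOfIsLocalization (Submonoid.powers r.1) _ (IsLocalizedModule.map
        (Submonoid.powers r.1) (LocalizedModule.mkLinearMap _ M) (Algebra.linearMap R _) g)
    let mk := LocalizedModule.mkLinearMap (Submonoid.powers r.1) M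
    have hG : ∀ z, algebraMap R (Localization.Away r.1) (g z) = G (mk z) := fun z =>
      (IsLocalizedModule.map_apply _ (LocalizedModule.mkLinearMap _ M) (Algebra.linearMap R _) g z).symm
    have key : ∀ a b : LocalizedModule.Away r.1 M, G a • b = G b • a := by
      intro a b
      apply (e r).injective
      obtain ⟨a, rfl⟩ := (e r).symm.surjective a
      obtain ⟨b, rfl⟩ := (e r).symm.surjective b
      have ha : (e r).symm a = a • (e r).symm 1 := by rw [← map_smul, smul_eq_mul, mul_one]
      have hb : (e r).symm b = b • (e r).symm 1 := by rw [← map_smul, smul_eq_mul, mul_one]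
      rw [ha, hb]
      simp only [map_smul, LinearEquiv.apply_symm_apply, smul_eq_mul]
      ring
    show mk (g x • y) = mk (g y • x)
    rw [map_smul, map_smul, ← algebraMap_smul (Localization.Away r.1) (g x),
      ← algebraMap_smul (Localization.Away r.1) (g y), hG, hG]
    exact key _ _
  have hswap2 : ∀ (g ψ : Module.Dual R M) (y : M), ψ y • g = g y • ψ := fun g ψ y => by
    ext x
    have := congrArg ψ (hswap g x y)
    simp only [map_smul, smul_eq_mul, LinearMap.smul_apply] at this ⊢
    rw [mul_comm, this]
  have hsurj : Function.Surjective (contractLeft R M) := by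
    rw [← LinearMap.range_eq_top]
    by_contra hne
    obtain ⟨m, hm, hle⟩ := Ideal.exists_le_maximal (LinearMap.range (contractLeft R M)) hne
    obtain ⟨r, hr, hrm⟩ : ∃ r ∈ s, r ∉ m := by
      by_contra H
      push Not at H
      exact hm.ne_top (top_le_iff.1 (hs ▸ Ideal.span_le.2 H))
    let mk := LocalizedModule.mkLinearMap (Submonoid.powers r) M
    let φ : M →ₗ[R] Localization.Away r := ((e ⟨r, hr⟩).toLinearMap.restrictScalars R) ∘ₗ mk
    obtain ⟨ψ, t, hψ⟩ := Module.FinitePresentation.exists_lift_of_isLocalizedModule
      (S := Submonoid.powers r) (Algebra.linearMap R (Localization.Away r)) φ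
    obtain ⟨⟨x, u⟩, hxu⟩ := IsLocalizedModule.surj (Submonoid.powers r) mk
      ((e ⟨r, hr⟩).symm 1)
    have h1 : algebraMap R (Localization.Away r) (ψ x) =
        algebraMap R (Localization.Away r) ((t : R) * u) := by
      have h2 := LinearMap.congr_fun hψ x
      have h3 : φ x = algebraMap R (Localization.Away r) u := by
        show (e ⟨r, hr⟩) (mk x) = _
        rw [← hxu, Submonoid.smul_def, ← algebraMap_smul (Localization.Away r) (u : R), map_smul,
          LinearEquiv.apply_symm_apply, smul_eq_mul, mul_one]
      rw [LinearMap.comp_apply, LinearMap.smul_apply, h3, Submonoid.smul_def, Algebra.smul_def,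
        ← map_mul] at h2
      exact h2
    obtain ⟨v, hv⟩ := (IsLocalization.eq_iff_exists (Submonoid.powers r) _).1 h1
    have hmem : (v : R) * ψ x ∈ m :=
      m.mul_mem_left _ (hle ⟨ψ ⊗ₜ x, contractLeft_apply ψ x⟩)
    rw [hv] at hmem
    obtain ⟨i, hi⟩ := (v * (t * u)).2
    apply hrm
    apply hm.isPrime.mem_of_pow_mem i
    rw [show r ^ i = _ from hi]
    exact hmem
  refine ⟨⟨?_, hsurj⟩⟩
  obtain ⟨t, ht⟩ := hsurj 1
  have hgy : ∀ (g : Module.Dual R M) (y : M), g ⊗ₜ[R] y = g y • t := by
    intro g y
    have : ∀ w : Module.Dual R M ⊗[R] M, contractLeft R M w • (g ⊗ₜ[R] y) = g y • w := by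
      intro w
      induction w using TensorProduct.induction_on with
      | zero => simp
      | add a b ha hb => rw [map_add, add_smul, ha, hb, smul_add]
      | tmul ψ x =>
        rw [contractLeft_apply, ← TensorProduct.tmul_smul, hswap ψ x y, TensorProduct.tmul_smul,
          TensorProduct.smul_tmul', hswap2, ← TensorProduct.smul_tmul']
    rw [← this t, ht, one_smul]
  have hall : ∀ w, w = contractLeft R M w • t := by
    intro w
    induction w using TensorProduct.induction_on with
    | zero => simp
    | add a b ha hb => rw [map_add, add_smul, ← ha, ← hb]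
    | tmul g y => rw [contractLeft_apply, hgy]
  intro a b hab
  rw [hall a, hab, ← hall b]

end Groth.Agent.S12080
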