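import Groth.Statements.S4851
import Groth.Agent.Fib62.InjCokerScheme
import Groth.Agent.Props58.LocFree.FP

set_option autoImplicit false
universe u
open EGA43

open Groth.Agent AlgebraicGeometry CategoryTheory Limits

namespace Groth.Agent.S4851

open AlgebraicGeometry CategoryTheory Limits in
/-- Let f : X ⟶ Y be locally of finite presentation, F and F' quasi-coherent O_X-modules of finite
presentation and u : F' ⟶ F a homomorphism. Then the set of points x of X at which the stalk map u_x
is injective and Coker u is f-flat at x is open in X. (No flatness hypothesis on F is made; the form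
of this openness statement in which F is moreover assumed f-flat is a special case.) -/
theorem result {X Y : Scheme.{u}} (f : X ⟶ Y)
    [LocallyOfFinitePresentation f] (F F' : X.Modules) [Coh.IsQCoh F] [Coh.IsQCoh F']
    (hF : CohB1.IsFP F) (hF' : CohB1.IsFP F') (u : F' ⟶ F) :
    IsOpen {x : X | Function.Injective ((TopCat.Presheaf.stalkFunctor Ab x).map (Scheme.Modules.Hom.mapPresheaf u)) ∧
      FlatMod.IsFlatOverAt f (cokernel u) x} := by
  haveI : F.IsQuasicoherent := ‹Coh.IsQCoh F›
  haveI : F'.IsQuasicoherent := ‹Coh.IsQCoh F'›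
  haveI := hF
  haveI := hF'
  rw [isOpen_iff_forall_mem_open]
  intro x hx
  obtain ⟨V, hV, hxV, -⟩ := exists_isAffineOpen_mem_and_subset (X := Y) (x := f x) (U := ⊤) trivial
  obtain ⟨U, hU, hxU, e⟩ := exists_isAffineOpen_mem_and_subset (X := X) (x := x) (U := f ⁻¹ᵁ V) hxV
  letI : Algebra Γ(Y, V) Γ(X, U) := (f.appLE V U e).hom.toAlgebra
  letI : Module Γ(Y, V) Γ(F, U) := Module.compHom _ (f.appLE V U e).hom
  letI : Module Γ(Y, V) Γ(F', U) := Module.compHom _ (f.appLE V U e).hom
  haveI : IsScalarTower Γ(Y, V) Γ(X, U) Γ(F, U) := IsScalarTower.of_algebraMap_smul fun _ _ => rfl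
  haveI : IsScalarTower Γ(Y, V) Γ(X, U) Γ(F', U) := IsScalarTower.of_algebraMap_smul fun _ _ => rfl
  haveI : Algebra.FinitePresentation Γ(Y, V) Γ(X, U) := f.finitePresentation_appLE hV hU e
  haveI := Props58.LocFree.finitePresentation_sections F hU
  haveI := Props58.LocFree.finitePresentation_sections F' hU
  have key := fun (y : X) (hy : y ∈ U) => Fib62.stalk_facts f u e hU hV (QC70.isLocAt_of_isQuasicoherent F hU)
    (QC70.isLocAt_of_isQuasicoherent F' hU) hy
  refine ⟨Subtype.val '' ((fun y : U => hU.primeIdealOf y) ⁻¹' {P : PrimeSpectrum Γ(X, U) |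
    Fib62.InjAt (Fib62.appLinear u U) P ∧ Module.Flat Γ(Y, V)
      (TensorProduct Γ(X, U) (Localization.AtPrime P.asIdeal) (Γ(F, U) ⧸ LinearMap.range (Fib62.appLinear u U)))}), ?_, ?_, ?_⟩
  · rintro _ ⟨⟨y, hy⟩, hq, rfl⟩
    exact ⟨(key y hy).1.mpr hq.1, (key y hy).2.1.mpr hq.2⟩
  · refine U.2.isOpenMap_subtype_val _ ((Fib62.isOpen_injAt_flat_coker (A := Γ(Y, V)) _).preimage ?_)
    exact hU.isoSpec.hom.continuous
  · exact ⟨⟨x, hxU⟩, ⟨(key x hxU).1.mp hx.1, (key x hxU).2.1.mp hx.2⟩, rfl⟩

end Groth.Agent.S4851
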