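import Groth.Statements.S4850
import Groth.Agent.Fib62.InjCokerScheme
import Groth.Agent.Props58.LocFree.FP

set_option autoImplicit false
universe u
open EGA43

open Groth.Agent AlgebraicGeometry CategoryTheory Limits

namespace Groth.Agent.S4850

open AlgebraicGeometry CategoryTheory Limits in
/-- Equivalence of a: and b)): let f : X ⟶ Y be locally of finite presentation, F and F' quasi-coherent
O_X-modules of finite presentation, u : F' ⟶ F a homomorphism and x a point with y = f x, such that
F is f-flat at x. Then the stalk map u_x is injective and Coker u is f-flat at x, if and only if u_x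
induces an injective map F'_x / m_y F'_x → F_x / m_y F_x. The second condition is written out: an
element of F'_x whose image under u_x lies in m_y F_x already lies in m_y F'_x. (The vanishing of
the stalk (Ker u)_x is expressed as injectivity of u_x.) -/
theorem result {X Y : Scheme.{u}} (f : X ⟶ Y)
    [LocallyOfFinitePresentation f] (F F' : X.Modules) [Coh.IsQCoh F] [Coh.IsQCoh F']
    (hF : CohB1.IsFP F) (hF' : CohB1.IsFP F') (u : F' ⟶ F) (x : X) (hflat : FlatMod.IsFlatOverAt f F x) :
    letI J : Ideal ↑(X.presheaf.stalk x) :=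
      Ideal.map (f.stalkMap x).hom (IsLocalRing.maximalIdeal ↑(Y.presheaf.stalk (f x)))
    letI ux := (TopCat.Presheaf.stalkFunctor Ab x).map (Scheme.Modules.Hom.mapPresheaf u)
    (Function.Injective ux ∧ FlatMod.IsFlatOverAt f (cokernel u) x) ↔
      ∀ m : ↑(F'.presheaf.stalk x),
        ux m ∈ (J • (⊤ : Submodule ↑(X.presheaf.stalk x) ↑(F.presheaf.stalk x))) →
          m ∈ (J • (⊤ : Submodule ↑(X.presheaf.stalk x) ↑(F'.presheaf.stalk x))) := by
  haveI : F.IsQuasicoherent := ‹Coh.IsQCoh F›
  haveI : F'.IsQuasicoherent := ‹Coh.IsQCoh F'›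
  haveI := hF
  haveI := hF'
  obtain ⟨V, hV, hxV, -⟩ := exists_isAffineOpen_mem_and_subset (X := Y) (x := f x) (U := ⊤) trivial
  obtain ⟨U, hU, hxU, e⟩ := exists_isAffineOpen_mem_and_subset (X := X) (x := x) (U := f ⁻¹ᵁ V) hxV
  letI : Algebra Γ(Y, V) Γ(X, U) := (f.appLE V U e).hom.toAlgebra
  letI : Module Γ(Y, V) Γ(F, U) := Module.compHom _ (f.appLE V U e).hom
  letI : Module Γ(Y, V) Γ(F', U) := Module.compHom _ (f.appLE V U e).hom
  haveI : IsScalarTower Γ(Y, V) Γ(X, U) Γ(F, U) := IsScalarTower.of_algebraMap_smul fun _ _ => rfl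
  haveI : IsScalarTower Γ(Y, V) Γ(X, U) Γ(F', U) := IsScalarTower.of_algebraMap_smul fun _ _ => rfl
  haveI : Algebra.FinitePresentation Γ(Y, V) Γ(X, U) := f.finitePresentation_appLE hV hU e
  haveI := Props58.LocFree.finitePresentation_sections F hU
  haveI := Props58.LocFree.finitePresentation_sections F' hU
  have key := fun (y : X) (hy : y ∈ U) => Fib62.stalk_facts f u e hU hV (QC70.isLocAt_of_isQuasicoherent F hU)
    (QC70.isLocAt_of_isQuasicoherent F' hU) hy
  obtain ⟨h1, h2, h3, h4⟩ := key x hxU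
  refine ⟨fun h => h4.mpr (Fib62.injFib_of_injAt (A := Γ(Y, V)) _ _ (h1.mp h.1) (h2.mp h.2)), fun h => ?_⟩
  obtain ⟨a, b⟩ := Fib62.injAt_and_flat_coker_of_injFib (A := Γ(Y, V)) _ _ (h3.mp hflat) (h4.mp h)
  exact ⟨h1.mpr a, h2.mpr b⟩

end Groth.Agent.S4850
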