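import Groth.Statements.S0796
import Groth.Agent.Coh69.ProperOver
import Groth.Agent.QC70.CohOps
import Groth.Agent.QC70.PushClosed

set_option autoImplicit false
universe u
open Coherent

namespace Groth.Agent.S0796

open CategoryTheory AlgebraicGeometry in
/-- Part (2), through the usual criterion for Serre subcategories. Let S be locally Noetherian and f : X
→ S locally of finite type. For a short exact sequence 0 → F₁ → F₂ → F₃ → 0 of coherent O_X-modules,
the support of F₂ is proper over S if and only if the supports of F₁ and F₃ are. -/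
theorem result {X S : Scheme.{u}} (f : X ⟶ S) [LocallyOfFiniteType f]
    [IsLocallyNoetherian S] (E : ShortComplex X.Modules) (hE : E.ShortExact)
    (h₁ : Coh.IsCoh E.X₁) (h₂ : Coh.IsCoh E.X₂) (h₃ : Coh.IsCoh E.X₃) :
    ClSub.IsProperOver f (CohB1.support E.X₂) ↔
      ClSub.IsProperOver f (CohB1.support E.X₁) ∧ ClSub.IsProperOver f (CohB1.support E.X₃) := by
  haveI := hE.mono_f
  haveI := hE.epi_g
  haveI := h₁.2
  haveI := h₂.2
  haveI := h₃.2
  refine ⟨fun h => ⟨Groth.Agent.Coh69.PO.mono h (Groth.Agent.QC70.isClosed_support E.X₁)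
      (Groth.Agent.QC70.mem_support_of_mono E.f),
    Groth.Agent.Coh69.PO.mono h (Groth.Agent.QC70.isClosed_support E.X₃)
      (Groth.Agent.QC70.mem_support_of_epi E.g)⟩, fun ⟨a, b⟩ => ?_⟩
  refine Groth.Agent.Coh69.PO.mono (Groth.Agent.Coh69.PO.union (ι := Bool)
    (Z := fun k => cond k (CohB1.support E.X₁) (CohB1.support E.X₃)) (fun k => by cases k; exacts [b, a]))
    (Groth.Agent.QC70.isClosed_support E.X₂) fun x hx => ?_
  by_contra hn
  have hn1 : Subsingleton (E.X₁.presheaf.stalk x) := Groth.Agent.QC70.notMem_support_iff.mp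
    fun h => hn (Set.mem_iUnion.mpr ⟨true, h⟩)
  have hn3 : Subsingleton (E.X₃.presheaf.stalk x) := Groth.Agent.QC70.notMem_support_iff.mp
    fun h => hn (Set.mem_iUnion.mpr ⟨false, h⟩)
  refine hx (subsingleton_of_forall_eq 0 fun e => ?_)
  obtain ⟨a', rfl⟩ := Groth.Agent.QC70.stalkMapM_exact E hE.exact x e (hn3.elim _ _)
  rw [hn1.elim a' 0]
  exact (Groth.Agent.QC70.stalkLinear E.f x).map_zero

end Groth.Agent.S0796
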