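import Groth.Prelude.Def_W4c5quivmodgenus0Quiv
import Mathlib

/-! Semistability for the point quivers. -/

set_option linter.unusedSectionVars false

namespace Groth.Agent.PtQuivH

open PtQuiv Module

variable {K : Type*} [Field K] {ι : Type*} [Fintype ι]

theorem line_or (L : Submodule K (Fin 2 → K)) :
    L = ⊥ ∨ L = ⊤ ∨ ∃ v : Fin 2 → K, v ≠ 0 ∧ L = K ∙ v := by
  by_cases h0 : L = ⊥
  · exact Or.inl h0
  by_cases h1 : L = ⊤
  · exact Or.inr (Or.inl h1)
  obtain ⟨v, hv, hv0⟩ := Submodule.exists_mem_ne_zero_of_ne_bot h0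
  refine Or.inr (Or.inr ⟨v, hv0, (Submodule.eq_of_le_of_finrank_le ?_ ?_).symm⟩)
  · rwa [Submodule.span_singleton_le_iff_mem]
  · rw [finrank_span_singleton hv0]
    have := Submodule.finrank_lt h1
    rw [finrank_fin_fun] at this
    omega

theorem wt_bot (θ : ι → ℚ) (I : Finset ι) : QWt K (-1) θ ⊥ I = ∑ i ∈ I, θ i := by
  simp [QWt]

theorem wt_top (θ : ι → ℚ) (I : Finset ι) :
    QWt K (-1) θ (⊤ : Submodule K (Fin 2 → K)) I = -2 + ∑ i ∈ I, θ i := by
  simp [QWt]

theorem wt_line (θ : ι → ℚ) {v : Fin 2 → K} (hv : v ≠ 0) (I : Finset ι) :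
    QWt K (-1) θ (K ∙ v) I = -1 + ∑ i ∈ I, θ i := by
  simp [QWt, finrank_span_singleton hv]

theorem qSemistable_iff (s : ι → (Fin 2 → K)) (θ : ι → ℚ) (h0 : ∀ i, 0 ≤ θ i)
    (h2 : ∑ i, θ i = 2) :
    QSemistable (-1) θ s ↔
      (∀ i, s i = 0 → θ i = 0) ∧
      ∀ (J : Finset ι) (v : Fin 2 → K), (∀ i ∈ J, s i ∈ K ∙ v) → ∑ i ∈ J, θ i ≤ 1 := by
  constructor
  · intro h
    have hz : ∀ i, s i = 0 → θ i = 0 := fun i hi => by
      have := h.2 ⊥ {i} (fun j hj => by simp_all)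
      rw [wt_bot, Finset.sum_singleton] at this
      exact le_antisymm this (h0 i)
    refine ⟨hz, fun J v hJ => ?_⟩
    by_cases hv : v = 0
    · subst hv
      have := Finset.sum_eq_zero (s := J) (f := θ) (fun i hi => hz i (by simpa using hJ i hi))
      linarith
    · have := h.2 (K ∙ v) J hJ
      rw [wt_line θ hv] at this
      linarith
  · rintro ⟨hz, hl⟩
    refine ⟨by linarith, fun L I hLI => ?_⟩
    rcases line_or L with rfl | rfl | ⟨v, hv, rfl⟩
    · rw [wt_bot]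
      exact (Finset.sum_eq_zero fun i hi => hz i (by simpa using hLI i hi)).le
    · rw [wt_top]
      have := Finset.sum_le_sum_of_subset_of_nonneg (Finset.subset_univ I) fun i _ _ => h0 i
      linarith
    · rw [wt_line θ hv]
      linarith [hl I v hLI]

theorem qStable_iff (s : ι → (Fin 2 → K)) (θ : ι → ℚ) (h0 : ∀ i, 0 ≤ θ i)
    (h2 : ∑ i, θ i = 2) :
    QStable (-1) θ s ↔
      (∀ i, s i ≠ 0) ∧ (∀ i, 0 < θ i) ∧
      ∀ (J : Finset ι) (v : Fin 2 → K), (∀ i ∈ J, s i ∈ K ∙ v) → ∑ i ∈ J, θ i < 1 := by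
  classical
  constructor
  · intro h
    obtain ⟨hz, hl⟩ := (qSemistable_iff s θ h0 h2).mp h.1
    have hs : ∀ i, s i ≠ 0 := fun i hi => by
      rcases h.2 ⊥ {i} (fun j hj => by simp_all) (by simp [wt_bot, hz i hi]) with ⟨-, h'⟩ | ⟨h', -⟩
      · simp at h'
      · exact bot_ne_top h'
    refine ⟨hs, fun i => (h0 i).lt_of_ne' fun hi => ?_, fun J v hJ => ?_⟩
    · have hw : QWt K (-1) θ (⊤ : Submodule K (Fin 2 → K)) (Finset.univ.erase i) = 0 := by
        rw [wt_top, Finset.sum_erase Finset.univ hi, h2]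
        norm_num
      rcases h.2 ⊤ _ (fun j _ => Submodule.mem_top) hw with ⟨h', -⟩ | ⟨-, h'⟩
      · exact bot_ne_top h'.symm
      · simpa using Finset.ext_iff.mp h' i
    · refine (hl J v hJ).lt_of_ne fun he => ?_
      by_cases hv : v = 0
      · subst hv
        have : J = ∅ := Finset.eq_empty_of_forall_notMem fun i hi => hs i (by simpa using hJ i hi)
        simp [this] at he
      · rcases h.2 _ J hJ (by rw [wt_line θ hv, he]; norm_num) with ⟨h', -⟩ | ⟨h', -⟩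
        · exact hv (by simpa using h')
        · have := finrank_span_singleton (K := K) hv
          rw [h', finrank_top, finrank_fin_fun] at this
          omega
  · rintro ⟨hs, hpos, hl⟩
    refine ⟨(qSemistable_iff s θ h0 h2).mpr
      ⟨fun i hi => absurd hi (hs i), fun J v hJ => (hl J v hJ).le⟩, fun L I hLI hw => ?_⟩
    rcases line_or L with rfl | rfl | ⟨v, hv, rfl⟩
    · exact Or.inl ⟨rfl, Finset.eq_empty_of_forall_notMem
        fun i hi => hs i (by simpa using hLI i hi)⟩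
    · refine Or.inr ⟨rfl, ?_⟩
      rw [wt_top] at hw
      by_contra hI
      obtain ⟨i, hi⟩ : ∃ i, i ∉ I := by simpa [Finset.eq_univ_iff_forall] using hI
      have := Finset.sum_le_sum_of_subset_of_nonneg
        (Finset.subset_univ (insert i I)) fun i _ _ => h0 i
      rw [Finset.sum_insert hi] at this
      linarith [hpos i]
    · rw [wt_line θ hv] at hw
      linarith [hl I v hLI]

theorem pwt_eq (η : Fin 2 → ℚ) (θ : ι → ℚ) (U : Fin 2 → Submodule K K) (I : Finset ι) :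
    PWt K η θ U I =
      η 0 * (finrank K (U 0) : ℚ) + η 1 * (finrank K (U 1) : ℚ) + ∑ i ∈ I, θ i := by
  simp [PWt]

theorem bot_or_top (U : Submodule K K) : U = ⊥ ∨ U = ⊤ := eq_bot_or_eq_top U

theorem fr_bot : (finrank K (⊥ : Submodule K K) : ℚ) = 0 := by rw [finrank_bot]; simp

theorem fr_top : (finrank K (⊤ : Submodule K K) : ℚ) = 1 := by rw [finrank_top, finrank_self]; simp

theorem tb : (⊤ : Submodule K K) ≠ ⊥ := top_ne_bot

theorem pwt_mk (η : Fin 2 → ℚ) (θ : ι → ℚ) (A B : Submodule K K) (I : Finset ι) :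
    PWt K η θ ![A, B] I =
      η 0 * (finrank K A : ℚ) + η 1 * (finrank K B : ℚ) + ∑ i ∈ I, θ i := by
  rw [pwt_eq]; rfl

theorem mem_bb {x : Fin 2 → K} (hx : x = 0) : ∀ k, x k ∈ (![⊥, ⊥] : Fin 2 → Submodule K K) k :=
  Fin.forall_fin_two.mpr ⟨(Submodule.mem_bot K).mpr (by simp [hx]), (Submodule.mem_bot K).mpr (by simp [hx])⟩

theorem mem_tb {x : Fin 2 → K} (hx : x 1 = 0) : ∀ k, x k ∈ (![⊤, ⊥] : Fin 2 → Submodule K K) k :=
  Fin.forall_fin_two.mpr ⟨Submodule.mem_top, (Submodule.mem_bot K).mpr hx⟩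

theorem mem_bt {x : Fin 2 → K} (hx : x 0 = 0) : ∀ k, x k ∈ (![⊥, ⊤] : Fin 2 → Submodule K K) k :=
  Fin.forall_fin_two.mpr ⟨(Submodule.mem_bot K).mpr hx, Submodule.mem_top⟩

theorem mem_tt (x : Fin 2 → K) : ∀ k, x k ∈ (![⊤, ⊤] : Fin 2 → Submodule K K) k :=
  Fin.forall_fin_two.mpr ⟨Submodule.mem_top, Submodule.mem_top⟩

theorem pair_cases (U : Fin 2 → Submodule K K) :
    (U 0 = ⊥ ∨ U 0 = ⊤) ∧ (U 1 = ⊥ ∨ U 1 = ⊤) := ⟨bot_or_top _, bot_or_top _⟩

theorem pSemistable_iff (η : Fin 2 → ℚ) (θ : ι → ℚ) (t : ι → (Fin 2 → K)) (h0 : ∀ i, 0 ≤ θ i)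
    (ht : η 0 + η 1 + ∑ i, θ i = 0) :
    PSemistable η θ t ↔
      (∀ i, t i = 0 → θ i = 0) ∧
      (∀ J : Finset ι, (∀ i ∈ J, t i 1 = 0) → η 0 + ∑ i ∈ J, θ i ≤ 0) ∧
      (∀ J : Finset ι, (∀ i ∈ J, t i 0 = 0) → η 1 + ∑ i ∈ J, θ i ≤ 0) := by
  constructor
  · intro h
    refine ⟨fun i hi => ?_, fun J hJ => ?_, fun J hJ => ?_⟩
    · have := h.2 ![⊥, ⊥] {i} (fun j hj => mem_bb (by simp_all))
      exact le_antisymm (by simpa [pwt_mk, fr_bot, fr_top] using this) (h0 i)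
    · have := h.2 ![⊤, ⊥] J (fun j hj => mem_tb (hJ j hj))
      simpa [pwt_mk, fr_bot, fr_top] using this
    · have := h.2 ![⊥, ⊤] J (fun j hj => mem_bt (hJ j hj))
      simpa [pwt_mk, fr_bot, fr_top] using this
  · rintro ⟨hz, ha, hb⟩
    refine ⟨by simpa using ht, fun U I hU => ?_⟩
    obtain ⟨h1 | h1, h2 | h2⟩ := pair_cases U
    · rw [pwt_eq, h1, h2]
      simp only [fr_bot, mul_zero, zero_add]
      refine (Finset.sum_eq_zero fun i hi => hz i (funext fun k => ?_)).le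
      fin_cases k
      · simpa [h1] using hU i hi 0
      · simpa [h2] using hU i hi 1
    · rw [pwt_eq, h1, h2]
      simpa [fr_bot, fr_top] using hb I fun i hi => by simpa [h1] using hU i hi 0
    · rw [pwt_eq, h1, h2]
      simpa [fr_bot, fr_top] using ha I fun i hi => by simpa [h2] using hU i hi 1
    · rw [pwt_eq, h1, h2]
      have := Finset.sum_le_sum_of_subset_of_nonneg (Finset.subset_univ I) fun i _ _ => h0 i
      simp only [fr_top, mul_one]
      linarith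

theorem pStable_iff (η : Fin 2 → ℚ) (θ : ι → ℚ) (t : ι → (Fin 2 → K)) (h0 : ∀ i, 0 ≤ θ i)
    (ht : η 0 + η 1 + ∑ i, θ i = 0) :
    PStable η θ t ↔
      (∀ i, t i ≠ 0) ∧ (∀ i, 0 < θ i) ∧
      (∀ J : Finset ι, (∀ i ∈ J, t i 1 = 0) → η 0 + ∑ i ∈ J, θ i < 0) ∧
      (∀ J : Finset ι, (∀ i ∈ J, t i 0 = 0) → η 1 + ∑ i ∈ J, θ i < 0) := by
  haveI : DecidableEq ι := Classical.decEq _
  constructor
  · intro h
    obtain ⟨hz, ha, hb⟩ := (pSemistable_iff η θ t h0 ht).mp h.1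
    have hnz : ∀ i, t i ≠ 0 := fun i hi => by
      rcases h.2 ![⊥, ⊥] {i} (fun j hj => mem_bb (by simp_all))
        (by simp [pwt_mk, fr_bot, hz i hi]) with ⟨-, h'⟩ | ⟨h', -⟩
      · simp at h'
      · exact tb (congrFun h' 0).symm
    refine ⟨hnz, fun i => (h0 i).lt_of_ne' fun hi => ?_, fun J hJ => ?_, fun J hJ => ?_⟩
    · rcases h.2 ![⊤, ⊤] (Finset.univ.erase i) (fun j hj => mem_tt _)
        (by simp [pwt_mk, fr_top, Finset.sum_erase Finset.univ hi]; linarith) with ⟨h', -⟩ | ⟨-, h'⟩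
      · exact tb (congrFun h' 0)
      · simpa using Finset.ext_iff.mp h' i
    · refine (ha J hJ).lt_of_ne fun he => ?_
      rcases h.2 ![⊤, ⊥] J (fun j hj => mem_tb (hJ j hj))
        (by simp [pwt_mk, fr_bot, fr_top, he]) with ⟨h', -⟩ | ⟨h', -⟩
      · exact tb (congrFun h' 0)
      · exact tb (congrFun h' 1).symm
    · refine (hb J hJ).lt_of_ne fun he => ?_
      rcases h.2 ![⊥, ⊤] J (fun j hj => mem_bt (hJ j hj))
        (by simp [pwt_mk, fr_bot, fr_top, he]) with ⟨h', -⟩ | ⟨h', -⟩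
      · exact tb (congrFun h' 1)
      · exact tb (congrFun h' 0).symm
  · rintro ⟨hnz, hpos, ha, hb⟩
    refine ⟨(pSemistable_iff η θ t h0 ht).mpr ⟨fun i hi => absurd hi (hnz i),
      fun J hJ => (ha J hJ).le, fun J hJ => (hb J hJ).le⟩, fun U I hU hw => ?_⟩
    obtain ⟨h1 | h1, h2 | h2⟩ := pair_cases U
    · refine Or.inl ⟨funext fun k => ?_, Finset.eq_empty_of_forall_notMem fun i hi => hnz i ?_⟩
      · fin_cases k <;> assumption
      · funext k
        fin_cases k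
        · simpa [h1] using hU i hi 0
        · simpa [h2] using hU i hi 1
    · rw [pwt_eq, h1, h2] at hw
      have := hb I fun i hi => by simpa [h1] using hU i hi 0
      simp only [fr_bot, fr_top] at hw
      linarith
    · rw [pwt_eq, h1, h2] at hw
      have := ha I fun i hi => by simpa [h2] using hU i hi 1
      simp only [fr_bot, fr_top] at hw
      linarith
    · refine Or.inr ⟨funext fun k => by fin_cases k <;> assumption, ?_⟩
      rw [pwt_eq, h1, h2] at hw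
      simp only [fr_top, mul_one] at hw
      by_contra hI
      obtain ⟨i, hi⟩ : ∃ i, i ∉ I := by simpa [Finset.eq_univ_iff_forall] using hI
      have := Finset.sum_le_sum_of_subset_of_nonneg
        (Finset.subset_univ (insert i I)) fun i _ _ => h0 i
      rw [Finset.sum_insert hi] at this
      linarith [hpos i]

/-! Reduction from the quiver `Q` to the quiver `P`. -/

section Reduction

variable [DecidableEq ι] {a b : ι} {s : ι → (Fin 2 → K)}

theorem sum_rest (hab : a ≠ b) (θ : ι → ℚ) :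
    ∑ i : {i : ι // i ≠ a ∧ i ≠ b}, θ i.1 = ∑ i, θ i - θ a - θ b := by
  have h : (Finset.univ.filter fun i : ι => i ≠ a ∧ i ≠ b) = (Finset.univ.erase a).erase b := by
    ext i; simp [and_comm]
  rw [← Finset.sum_subtype (Finset.univ.filter fun i : ι => i ≠ a ∧ i ≠ b) (fun i => by simp) θ, h,
    Finset.sum_erase_eq_sub (by simp [hab.symm]), Finset.sum_erase_eq_sub (Finset.mem_univ a)]

theorem exists_coeff (hli : LinearIndependent K ![s a, s b]) (x : Fin 2 → K) :
    ∃ t : Fin 2 → K, x = t 0 • s a + t 1 • s b := by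
  let B := basisOfLinearIndependentOfCardEqFinrank hli (by simp)
  refine ⟨fun k => B.repr x k, ?_⟩
  have h := (B.sum_repr x).symm
  simpa [Fin.sum_univ_two, B] using h

theorem coeff_unique (hli : LinearIndependent K ![s a, s b]) {p q p' q' : K}
    (h : p • s a + q • s b = p' • s a + q' • s b) : p = p' ∧ q = q' :=
  hli.eq_of_pair h

theorem mem_span_left (hli : LinearIndependent K ![s a, s b]) {x : Fin 2 → K} {p q : K}
    (hx : x = p • s a + q • s b) : x ∈ K ∙ s a ↔ q = 0 := by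
  constructor
  · intro h
    obtain ⟨c, hc⟩ := Submodule.mem_span_singleton.mp h
    have := coeff_unique hli (p := c) (q := 0) (p' := p) (q' := q) (by rw [← hx, hc]; simp)
    exact this.2.symm
  · rintro rfl
    exact Submodule.mem_span_singleton.mpr ⟨p, by simp [hx]⟩

theorem mem_span_right (hli : LinearIndependent K ![s a, s b]) {x : Fin 2 → K} {p q : K}
    (hx : x = p • s a + q • s b) : x ∈ K ∙ s b ↔ p = 0 := by
  constructor
  · intro h
    obtain ⟨c, hc⟩ := Submodule.mem_span_singleton.mp h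
    have := coeff_unique hli (p := 0) (q := c) (p' := p) (q' := q) (by rw [← hx, hc]; simp)
    exact this.1.symm
  · rintro rfl
    exact Submodule.mem_span_singleton.mpr ⟨q, by simp [hx]⟩

theorem linearIndependent_of_lines (θ : ι → ℚ) (hab : a ≠ b) (hθ : 1 < θ a + θ b)
    (hl : ∀ (J : Finset ι) (v : Fin 2 → K), (∀ i ∈ J, s i ∈ K ∙ v) → ∑ i ∈ J, θ i ≤ 1) :
    LinearIndependent K ![s a, s b] := by
  rw [LinearIndependent.pair_iff]
  intro p q hpq
  by_contra hne
  have key : ∃ v, s a ∈ K ∙ v ∧ s b ∈ K ∙ v := by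
    by_cases hp : p = 0
    · have hq : q ≠ 0 := fun h => hne ⟨hp, h⟩
      refine ⟨s a, Submodule.mem_span_singleton_self _, ?_⟩
      simp [hp, hq] at hpq
      simp [hpq]
    · refine ⟨s b, Submodule.mem_span_singleton.mpr ⟨-(p⁻¹ * q), ?_⟩,
        Submodule.mem_span_singleton_self _⟩
      rw [add_eq_zero_iff_eq_neg] at hpq
      have h2 := congrArg (fun x => p⁻¹ • x) hpq
      simp [smul_smul, inv_mul_cancel₀ hp] at h2
      rw [neg_smul]
      exact h2.symm
  obtain ⟨v, ha, hb⟩ := key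
  have := hl {a, b} v (by simp [ha, hb])
  rw [Finset.sum_pair hab] at this
  linarith

/-- Splitting a set of indices spanning a line. -/
theorem line_bound (hab : a ≠ b) (hli : LinearIndependent K ![s a, s b]) (θ : ι → ℚ)
    (h0 : ∀ i, 0 ≤ θ i) (h2 : ∑ i, θ i = 2) (hθ : 1 < θ a + θ b)
    (t : {i : ι // i ≠ a ∧ i ≠ b} → (Fin 2 → K))
    (ht : ∀ i, s i.1 = t i 0 • s a + t i 1 • s b) (R : ℚ → Prop)
    (hR : ∀ x, x < 1 → R x)
    (hA : ∀ J : Finset {i : ι // i ≠ a ∧ i ≠ b},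
      (∀ i ∈ J, t i 1 = 0) → R (θ a + ∑ i ∈ J, θ i.1))
    (hB : ∀ J : Finset {i : ι // i ≠ a ∧ i ≠ b},
      (∀ i ∈ J, t i 0 = 0) → R (θ b + ∑ i ∈ J, θ i.1))
    (J : Finset ι) (v : Fin 2 → K) (hJ : ∀ i ∈ J, s i ∈ K ∙ v) : R (∑ i ∈ J, θ i) := by
  have hsa : s a ≠ 0 := hli.ne_zero 0
  have hsb : s b ≠ 0 := hli.ne_zero 1
  have hba : s b ∉ K ∙ s a := fun h => one_ne_zero ((mem_span_left hli (p := (0 : K)) (q := 1)
    (by simp)).mp h)
  let J' := J.subtype fun i => i ≠ a ∧ i ≠ b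
  have hsplit : ∑ i ∈ J, θ i =
      (if a ∈ J then θ a else 0) + (if b ∈ J then θ b else 0) + ∑ i ∈ J', θ i.1 := by
    rw [Finset.sum_subtype_eq_sum_filter]
    rw [← Finset.sum_filter_add_sum_filter_not J fun i => i ≠ a ∧ i ≠ b, add_comm]
    congr 1
    have : J.filter (fun i => ¬(i ≠ a ∧ i ≠ b)) = J.filter (fun i => i = a) ∪ J.filter (fun i => i = b) := by
      ext i; simp; tauto
    rw [this, Finset.sum_union (by
      rw [Finset.disjoint_filter]; rintro i - rfl; exact hab)]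
    rw [Finset.filter_eq', Finset.filter_eq']
    split_ifs <;> simp
  rw [hsplit]
  have spanEq : ∀ {w : Fin 2 → K}, w ≠ 0 → w ∈ K ∙ v → (K ∙ v : Submodule K _) = K ∙ w := by
    intro w hw hwv
    obtain ⟨c, rfl⟩ := Submodule.mem_span_singleton.mp hwv
    exact (Submodule.span_singleton_smul_eq
      (isUnit_iff_ne_zero.mpr (fun h => hw (by simp [h]))) v).symm
  by_cases haJ : a ∈ J
  · have hv := spanEq hsa (hJ a haJ)
    have hbJ : b ∉ J := fun h => hba (hv ▸ hJ b h)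
    rw [if_pos haJ, if_neg hbJ, add_zero]
    refine hA J' fun i hi => (mem_span_left hli (ht i)).mp (hv ▸ hJ i.1 ?_)
    exact (Finset.mem_subtype.mp hi)
  · by_cases hbJ : b ∈ J
    · have hv := spanEq hsb (hJ b hbJ)
      rw [if_neg haJ, if_pos hbJ, zero_add]
      refine hB J' fun i hi => (mem_span_right hli (ht i)).mp (hv ▸ hJ i.1 ?_)
      exact (Finset.mem_subtype.mp hi)
    · rw [if_neg haJ, if_neg hbJ, add_zero, zero_add]
      refine hR _ ?_
      have h1 := Finset.sum_le_sum_of_subset_of_nonneg (Finset.subset_univ J')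
        (f := fun i : {i : ι // i ≠ a ∧ i ≠ b} => θ i.1) fun i _ _ => h0 i.1
      rw [sum_rest hab θ, h2] at h1
      linarith

theorem ptotal (hab : a ≠ b) (θ : ι → ℚ) (h2 : ∑ i, θ i = 2) (_hθ' : θ a + θ b < 2) :
    (![(2 - θ a - θ b)⁻¹ * (θ a - 1), (2 - θ a - θ b)⁻¹ * (θ b - 1)] : Fin 2 → ℚ) 0 +
      (![(2 - θ a - θ b)⁻¹ * (θ a - 1), (2 - θ a - θ b)⁻¹ * (θ b - 1)] : Fin 2 → ℚ) 1 +
      ∑ i : {i : ι // i ≠ a ∧ i ≠ b}, (2 - θ a - θ b)⁻¹ * θ i.1 = 0 := by
  rw [← Finset.mul_sum, sum_rest hab θ, h2]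
  simp only [Matrix.cons_val_zero, Matrix.cons_val_one]
  ring

/-- The sum over a set of other indices together with one marked index. -/
theorem sum_insert_map (θ : ι → ℚ) (x : ι) (hx : x = a ∨ x = b)
    (J : Finset {i : ι // i ≠ a ∧ i ≠ b}) :
    ∑ i ∈ insert x (J.map (Function.Embedding.subtype _)), θ i = θ x + ∑ i ∈ J, θ i.1 := by
  rw [Finset.sum_insert, Finset.sum_map]
  · rfl
  · intro h
    obtain ⟨i, -, rfl⟩ := Finset.mem_map.mp h
    rcases hx with h' | h'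
    · exact i.2.1 h'
    · exact i.2.2 h'

end Reduction

end Groth.Agent.PtQuivH
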