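import Groth.Statements.S4755
import Groth.Agent.Ega11.FibreBaseChange
import Groth.Agent.EGA4H10.CMCompletion
-- import your own Groth.Agent.* helpers here

set_option autoImplicit false
universe u
open EGA4

namespace Groth.Agent.S4755

/-- For the property 'Cohen–Macaulay', case of a local ring: if the formal fibres of a Noetherian local
ring A are Cohen–Macaulay, then so are the formal fibres of A/I for every proper ideal I of A. -/
theorem result (A : Type u) [CommRing A] [IsNoetherianRing A] [IsLocalRing A]
    (hA : EGA4.HasCMFormalFibres A) (I : Ideal A) [Nontrivial (A ⧸ I)] :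
    EGA4.HasCMFormalFibres (A ⧸ I) := by
  obtain ⟨hs, ⟨φ⟩⟩ := Groth.Agent.Ega11.FibreBaseChange.exists_cpl_quotient A I
  have := Groth.Agent.EGA4H10.isNoetherianRing_cpl (A := A)
  exact fun p _ => Groth.Agent.Ega11.FibreBaseChange.isCohenMacaulayRing_fiber hs φ p (hA _)

end Groth.Agent.S4755
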