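import Groth.Statements.S6302
import Mathlib

set_option autoImplicit false
set_option linter.style.haveILetI false
set_option linter.style.longLine false
universe u
open CAlg

namespace Groth.Agent.S6302

open scoped TensorProduct

/-- Let 0 → M₁ → M₂ → M₃ → 0 be a short exact sequence of R-modules with M₃ of finite presentation. If
the sequence is universally exact (its first map is universally injective) then it is split: M₂ → M₃
admits a section. (The converse, split implies universally exact, is elementary and not stated.) -/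
theorem result {R : Type u} [CommRing R] {M₁ M₂ M₃ : Type u} [AddCommGroup M₁] [Module R M₁] [AddCommGroup M₂] [Module R M₂] [AddCommGroup M₃] [Module R M₃] [Module.FinitePresentation R M₃] (f : M₁ →ₗ[R] M₂) (g : M₂ →ₗ[R] M₃) (hexact : Function.Exact f g) (hg : Function.Surjective g) (hf : CAlgX.UniversallyInjective R f) : ∃ s : M₃ →ₗ[R] M₂, g.comp s = LinearMap.id := by
  classical
  obtain ⟨n, K, e, hK⟩ := Module.FinitePresentation.exists_fin R M₃
  obtain ⟨m, v, hv⟩ := Submodule.fg_iff_exists_fin_generating_family.1 hK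
  let π : (Fin n → R) →ₗ[R] M₃ := e.symm.toLinearMap ∘ₗ K.mkQ
  obtain ⟨φ, hφ⟩ := Module.projective_lifting_property g π hg
  have hπv : ∀ i, π (v i) = 0 := fun i => by
    show e.symm (K.mkQ (v i)) = 0
    rw [Submodule.mkQ_apply, (Submodule.Quotient.mk_eq_zero K).2 (hv ▸ Submodule.subset_span ⟨i, rfl⟩), map_zero]
  have hx : ∀ i, ∃ a, f a = φ (v i) := fun i => (hexact _).1 (by
    rw [← LinearMap.comp_apply, hφ, hπv])
  choose a ha using hx
  let T : (Fin n → R) →ₗ[R] (Fin m → R) := Matrix.mulVecLin (Matrix.of v)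
  let Q := (Fin m → R) ⧸ LinearMap.range T
  let ξ : M₁ ⊗[R] Q := ∑ i, a i ⊗ₜ Submodule.Quotient.mk (Pi.single i 1)
  have hξ : f.rTensor Q ξ = 0 := by
    simp only [ξ, map_sum, LinearMap.rTensor_tmul, ha]
    have hφv : ∀ i, φ (v i) = ∑ j, v i j • φ (Pi.single j 1) := fun i => by
      conv_lhs => rw [pi_eq_sum_univ' (v i)]
      simp [map_sum, map_smul]
    simp only [hφv, TensorProduct.sum_tmul, TensorProduct.smul_tmul]
    rw [Finset.sum_comm]
    refine Finset.sum_eq_zero fun j _ => ?_
    rw [← TensorProduct.tmul_sum]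
    convert TensorProduct.tmul_zero Q (φ (Pi.single j 1))
    simp only [← Submodule.mkQ_apply, ← map_smul, ← map_sum]
    rw [Submodule.mkQ_apply, Submodule.Quotient.mk_eq_zero]
    refine ⟨Pi.single j 1, ?_⟩
    ext i
    simp [T, Matrix.mulVec, dotProduct, Pi.single_apply, Finset.sum_apply]
  have hξ0 : ξ = 0 := hf Q (hξ.trans (map_zero _).symm)
  let η : M₁ ⊗[R] (Fin m → R) := ∑ i, a i ⊗ₜ Pi.single i 1
  have hη : η ∈ LinearMap.range (T.lTensor M₁) := by
    rw [LinearMap.mem_range]
    exact (lTensor_exact M₁ T.exact_map_mkQ_range (Submodule.mkQ_surjective _) η).1 (by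
      rw [← hξ0]; simp [η, ξ, map_sum])
  obtain ⟨ζ, hζ⟩ := hη
  let E := fun k => TensorProduct.piScalarRight R R M₁ (Fin k)
  let z : Fin n → M₁ := E n ζ
  have key : ∀ (ζ : M₁ ⊗[R] (Fin n → R)) (i : Fin m), E m (T.lTensor M₁ ζ) i = ∑ j, v i j • E n ζ j := by
    intro ζ i
    induction ζ with
    | zero => simp
    | add p q hp hq =>
      simp only [map_add, Pi.add_apply, hp, hq, smul_add, Finset.sum_add_distrib]
    | tmul w r =>
      simp [E, T, Matrix.mulVec, dotProduct, Finset.sum_smul, mul_smul]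
  have hz : ∀ i, ∑ j, v i j • z j = a i := fun i => by
    rw [← key, hζ]
    simp [η, E, Pi.single_apply]
  let ψ : (Fin n → R) →ₗ[R] M₁ := Fintype.linearCombination R z
  have hker : K ≤ LinearMap.ker (φ - f ∘ₗ ψ) := by
    rw [← hv, Submodule.span_le]
    rintro _ ⟨i, rfl⟩
    rw [SetLike.mem_coe, LinearMap.mem_ker, LinearMap.sub_apply, LinearMap.comp_apply, ← ha i]
    rw [show ψ (v i) = a i from (Fintype.linearCombination_apply R z (v i)).trans (hz i), sub_self]
  refine ⟨(K.liftQ (φ - f ∘ₗ ψ) hker) ∘ₗ e.toLinearMap, LinearMap.ext fun y => ?_⟩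
  obtain ⟨w, hw⟩ := Submodule.Quotient.mk_surjective K (e y)
  rw [LinearMap.comp_apply, LinearMap.comp_apply, LinearEquiv.coe_coe, ← hw, Submodule.liftQ_apply, LinearMap.sub_apply,
    map_sub, LinearMap.comp_apply, hexact.apply_apply_eq_zero, sub_zero]
  rw [← LinearMap.comp_apply g φ, hφ]
  show e.symm (Submodule.Quotient.mk w) = y
  rw [hw, LinearEquiv.symm_apply_apply]

end Groth.Agent.S6302
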