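import Groth.Statements.S11158
import Groth.Agent.QC70.UnitChain

set_option autoImplicit false
set_option backward.isDefEq.respectTransparency.types false
universe u
open CategoryTheory CategoryTheory.Limits AlgebraicGeometry
attribute [local instance] HasDerivedCategory.standard
open Coherent

namespace Groth.Agent.S11158

/-- Let X be a locally Noetherian scheme and j : U ⟶ X an open immersion from an affine scheme. Then the
O_X-module j_! O_U (extension by zero of the structure sheaf of U) is a Noetherian object: every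
increasing sequence of subobjects of j_! O_U in the category of O_X-modules is eventually constant. -/
theorem result {U X : Scheme.{u}} [IsLocallyNoetherian X]
    [IsAffine U] (j : U ⟶ X) [IsOpenImmersion j]
    (c : ℕ →o Subobject (CxOX.extZeroUnit j)) :
    ∃ n : ℕ, ∀ m : ℕ, n ≤ m → c n = c m := by
  haveI : IsLocallyNoetherian U := LocallyOfFiniteType.isLocallyNoetherian j
  haveI : IsNoetherian U := { }
  let R := Scheme.Modules.restrictFunctor j
  let η := (CxOX.extZeroAdj j).unit.app (Coh.structureModule U)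
  let ι : ∀ n, R.obj (Subobject.underlying.obj (c n)) ⟶ Groth.Agent.QC70.unitMod U :=
    fun n => R.map (c n).arrow ≫ inv η
  obtain ⟨n, hn⟩ := Groth.Agent.QC70.exists_stationary _ ι (fun n u => by
    rintro _ ⟨e, rfl⟩
    refine ⟨Groth.Agent.QC70.stalkMapM (R.map (Subobject.ofLE _ _ (c.mono (Nat.le_succ n)))) u e, ?_⟩
    refine (Groth.Agent.QC70.stalkMapM_comp _ _ u e).symm.trans ?_
    change Groth.Agent.QC70.stalkMapM (R.map (Subobject.ofLE _ _ (c.mono (Nat.le_succ n))) ≫
      R.map (c (n + 1)).arrow ≫ inv η) u e = Groth.Agent.QC70.stalkMapM (ι n) u e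
    rw [← Functor.map_comp_assoc, Subobject.ofLE_arrow])
  refine ⟨n, fun m hm => Groth.Agent.QC70.subobject_eq_of_stalk (c.mono hm) fun x => ?_⟩
  by_cases hx : x ∈ Set.range j
  · obtain ⟨u, rfl⟩ := hx
    rintro _ ⟨e, rfl⟩
    obtain ⟨e', rfl⟩ := (ConcreteCategory.bijective_of_isIso
      ((Scheme.Modules.restrictStalkNatIso j u).hom.app _)).2 e
    obtain ⟨d, hd⟩ := hn m hm u ⟨e', rfl⟩
    refine ⟨(Scheme.Modules.restrictStalkNatIso j u).hom.app _ d, ?_⟩
    change Groth.Agent.QC70.stalkMapM (c n).arrow (j u) _ =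
      Groth.Agent.QC70.stalkMapM (c m).arrow (j u) _
    rw [← Groth.Agent.QC70.stalkMapM_restrict_conj, ← Groth.Agent.QC70.stalkMapM_restrict_conj]
    refine congrArg _ (Groth.Agent.QC70.injective_stalkMapM_of_mono (inv η) u ?_)
    rw [← Groth.Agent.QC70.stalkMapM_comp, ← Groth.Agent.QC70.stalkMapM_comp]
    exact hd
  · haveI := Groth.Agent.QC70.subsingleton_stalk_extZero j (Coh.structureModule U) hx
    rintro _ ⟨e, rfl⟩
    exact ⟨0, Subsingleton.elim _ _⟩

end Groth.Agent.S11158
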