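import Groth.Statements.S7268
import Groth.Agent.QCohPush72.UnitQ
import Groth.Agent.QCohPush72.AffineUnit
import Groth.Agent.DCX42.TildePC
import Groth.Agent.TildePull72.Basic

set_option autoImplicit false
universe u
open CategoryTheory CategoryTheory.Limits AlgebraicGeometry
attribute [local instance] HasDerivedCategory.standard
open Perf

namespace Groth.Agent.S7268

/-- Let A → B be a ring map and f : X = Spec B ⟶ Y = Spec A the corresponding morphism of affine
schemes. Assuming Rf_* exists on the unbounded derived category (and tilde is recorded as exact over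
A and over B), the square formed by D(B) ⟶ D(A) (restriction of scalars), the tilde functors D(B) ⟶
D_QCoh(O_X), D(A) ⟶ D_QCoh(O_Y) and Rf_* commutes: the functors M ↦ Rf_*(M~) and M ↦ (M_A)~ from
D(B) to D(O_Y) are isomorphic (existence of a natural isomorphism only). -/
theorem result {A B : Type u} [CommRing A] [CommRing B] (φ : A →+* B)
    [PreservesFiniteLimits (tilde.functor (CommRingCat.of A))] [PreservesFiniteLimits (tilde.functor (CommRingCat.of B))]
    [DCoh.HasRpush (Spec.map (CommRingCat.ofHom φ))] :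
    Nonempty (DCoh.tildeD (CommRingCat.of B) ⋙ DCoh.Rpush (Spec.map (CommRingCat.ofHom φ)) ≅
      DRing.restrictD φ ⋙ DCoh.tildeD (CommRingCat.of A)) := by
  let R := CommRingCat.of A
  let S := CommRingCat.of B
  let f := Spec.map (CommRingCat.ofHom φ)
  let TB := tilde.functor S
  let TA := tilde.functor R
  let G := Scheme.Modules.pushforward f
  haveI : TB.Additive := DCX42.additive_tilde_functor S
  haveI : TA.Additive := DCX42.additive_tilde_functor R
  haveI : PreservesFiniteColimits TB := DCX42.preservesFiniteColimits_tilde_functor S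
  haveI : PreservesFiniteColimits TA := DCX42.preservesFiniteColimits_tilde_functor R
  let res := ModuleCat.restrictScalars.{u} φ
  let η : TB ⋙ G ⋙ moduleSpecΓFunctor (R := R) ≅ res :=
    Functor.isoWhiskerLeft TB (TildePull72.pushforwardΓIso (CommRingCat.ofHom φ)) ≪≫
      (Functor.associator _ _ _).symm ≪≫ Functor.isoWhiskerRight (tilde.toTildeΓNatIso (R := S)).symm res ≪≫
      res.leftUnitor
  let ε : (TB ⋙ G ⋙ moduleSpecΓFunctor (R := R)) ⋙ TA ⟶ TB ⋙ G :=
    (Functor.associator _ _ _).hom ≫ Functor.whiskerLeft TB ((Functor.associator _ _ _).hom ≫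
      Functor.whiskerLeft G (tilde.adjunction (R := R)).counit ≫ G.rightUnitor.hom)
  haveI : ∀ N, IsIso (ε.app N) := fun N => by
    haveI : (TB.obj N).IsQuasicoherent := inferInstanceAs (tilde N).IsQuasicoherent
    haveI : IsIso ((Scheme.Modules.fromTildeΓ (R := S) (TB.obj N))) := isIso_fromTildeΓ_iff.2 ⟨N, ⟨Iso.refl _⟩⟩
    have hI : IsIso ((Scheme.Modules.fromTildeΓ (R := R) (G.obj (TB.obj N)))) := isIso_fromTildeΓ_pushforward (CommRingCat.ofHom φ) (TB.obj N)
    have e : ε.app N = (Scheme.Modules.fromTildeΓ (R := R) (G.obj (TB.obj N))) := by simp [ε]; rfl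
    rw [e]
    exact hI
  haveI := NatIso.isIso_of_isIso_app ε
  let θ : TB ⋙ G ≅ res ⋙ TA := (asIso ε).symm ≪≫ Functor.isoWhiskerRight η TA
  let W := HomologicalComplex.quasiIso (ModuleCat.{u} S) (ComplexShape.up ℤ)
  let C1 := (TB.mapHomologicalComplex (ComplexShape.up ℤ) ⋙ G.mapHomologicalComplex (ComplexShape.up ℤ)) ⋙
    DerivedCategory.Q
  let C2 := (res.mapHomologicalComplex (ComplexShape.up ℤ) ⋙ TA.mapHomologicalComplex (ComplexShape.up ℤ)) ⋙
    DerivedCategory.Q
  let u₀ : C1 ⟶ DerivedCategory.Q ⋙ (DCoh.tildeD S ⋙ DCoh.Rpush f) :=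
    { app := fun M => (QCohPush72.unitQ' f ((TB.mapHomologicalComplex (ComplexShape.up ℤ)).obj M)) ≫
        (DCoh.Rpush f).map (TB.mapDerivedCategoryFactors.inv.app M)
      naturality := fun M N g => by
        refine (Category.assoc _ _ _).symm.trans ((congrArg (· ≫ _) (QCohPush72.unitQ'_natural f ((TB.mapHomologicalComplex (ComplexShape.up ℤ)).map g))).trans ?_)
        refine (Category.assoc _ _ _).trans (Eq.trans (congrArg (QCohPush72.unitQ' f _ ≫ ·) ?_) (Category.assoc _ _ _).symm)
        refine ((DCoh.Rpush f).map_comp _ _).symm.trans (Eq.trans ?_ ((DCoh.Rpush f).map_comp _ _))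
        exact congrArg (DCoh.Rpush f).map (TB.mapDerivedCategoryFactors.inv.naturality g) }
  haveI : ∀ M, IsIso (u₀.app M) := fun M => by
    have := QCohPush72.isIso_unit_affineHom f ((TB.mapHomologicalComplex (ComplexShape.up ℤ)).obj M)
      (fun n => inferInstanceAs (tilde (M.X n)).IsQuasicoherent)
    exact @IsIso.comp_isIso _ _ _ _ _ _ _ this inferInstance
  haveI := NatIso.isIso_of_isIso_app u₀
  letI : Localization.Lifting DerivedCategory.Q W C1 (DCoh.tildeD S ⋙ DCoh.Rpush f) := ⟨(asIso u₀).symm⟩
  letI : Localization.Lifting DerivedCategory.Q W C2 (DRing.restrictD φ ⋙ DCoh.tildeD R) :=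
    ⟨(Functor.associator _ _ _).symm ≪≫ Functor.isoWhiskerRight (res.mapDerivedCategoryFactors) _ ≪≫
      Functor.associator _ _ _ ≪≫ Functor.isoWhiskerLeft _ TA.mapDerivedCategoryFactors ≪≫
      (Functor.associator _ _ _).symm⟩
  exact ⟨Localization.liftNatIso DerivedCategory.Q W C1 C2 _ _
    (Functor.isoWhiskerRight (NatIso.ofComponents
      (fun M => HomologicalComplex.Hom.isoOfComponents (fun n => θ.app (M.X n))
        (fun n k _ => (θ.hom.naturality (M.d n k)).symm))
      (fun {M N} g => HomologicalComplex.hom_ext _ _ fun n => θ.hom.naturality (g.f n)) :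
      TB.mapHomologicalComplex (ComplexShape.up ℤ) ⋙ G.mapHomologicalComplex (ComplexShape.up ℤ) ≅
        res.mapHomologicalComplex (ComplexShape.up ℤ) ⋙ TA.mapHomologicalComplex (ComplexShape.up ℤ)) _)⟩

end Groth.Agent.S7268
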