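import Groth.Statements.S4457
import Groth.Agent.RB70.AcycPush
import Groth.Agent.Coh69.RelVanish
import Groth.Agent.Coh69.RpushQCoh
import Groth.Agent.Coh69.Grothendieck
import Groth.Agent.GSS45.SchemeSS

set_option autoImplicit false
set_option backward.isDefEq.respectTransparency.types false
universe u
open Coherent

namespace Groth.Agent.S4457

open AlgebraicGeometry CategoryTheory in
/-- Let f : X → Y be a separated quasi-compact morphism, g : Y → Z an affine morphism and F a
quasi-coherent O_X-module. Then for every p ≥ 0, R^p (g ∘ f)_* F is isomorphic to g_*(R^p f_* F)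
(higher direct images and direct image of the underlying abelian sheaves). The source shows that the
canonical comparison map is an isomorphism; only the existence of an isomorphism is asserted here. -/
theorem result {X Y Z : Scheme.{u}} (f : X ⟶ Y) (g : Y ⟶ Z)
    [IsSeparated f] [QuasiCompact f] [IsAffineHom g] (F : X.Modules) [Coh.IsQCoh F] (p : ℕ) :
    Nonempty ((Coh.RpushAb (f ≫ g) p).obj (Coh.toAb F) ≅
      (Coh.pushAb g).obj ((Coh.RpushAb f p).obj (Coh.toAb F))) := by
  open Groth.Agent Groth.Agent.Coh69 CategoryTheory.Limits in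
    classical
    haveI : F.IsQuasicoherent := ‹Coh.IsQCoh F›
    let R := injectiveResolution (Coh.toAb F)
    let K := ((Coh.pushAb f).mapHomologicalComplex (ComplexShape.up ℕ)).obj R.cocomplex
    let B : Set (TopologicalSpace.Opens Z) := {V | IsAffineOpen (X := Z) V}
    have hK : ∀ n, RB70.PushAcyclic g.base B (K.X n) := fun n =>
      haveI := R.injective n
      @RB70.PushAcyclic.of_injective _ _ _ _ _ (pushSh_injective f.base (R.cocomplex.X n))
    have hH : ∀ n, RB70.PushAcyclic g.base B (K.homology n) := fun n => by
      obtain ⟨e⟩ := GSS45.nonempty_toAb_Rpush f F n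
      haveI := isQuasicoherent_rpush f F n
      exact RB70.PushAcyclic.of_iso (e ≪≫ R.isoRightDerivedObj (Coh.pushAb f) n)
        fun V (hV : IsAffineOpen (X := Z) V) q =>
          qcoh_subsingleton_HE ((Coh.Rpush f n).obj F) (V := g ⁻¹ᵁ V) (hV.preimage g) q
    obtain ⟨e⟩ := RB70.nonempty_homology_push_iso g.base Z.isBasis_affineOpens K hK hH p
    exact ⟨R.isoRightDerivedObj (Coh.pushAb f ⋙ Coh.pushAb g) p ≪≫ e ≪≫
      (Coh.pushAb g).mapIso (R.isoRightDerivedObj (Coh.pushAb f) p).symm⟩

end Groth.Agent.S4457
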