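import Groth.Statements.S4513
import Groth.Agent.Sep12.Basic

set_option autoImplicit false
universe u
open EGA41 TensorProduct KaehlerDifferential

namespace Groth.Agent.S4513

/-- A copy of the dual numbers, carrying a twisted algebra structure. -/
def Tw (L : Type u) := TrivSqZeroExt L L

noncomputable instance (L : Type u) [CommRing L] : CommRing (Tw L) :=
  inferInstanceAs (CommRing (TrivSqZeroExt L L))

open IsLocalRing in
/-- Let A be a Noetherian local ring and k a field mapping to A such that A is formally smooth over k
for the adic topology of its maximal ideal (k discrete). Then every field K with k → K → A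
(compatible ring maps) is a separable extension of k, i.e. K is geometrically reduced over k. -/
theorem result {k A K : Type u} [Field k] [CommRing A]
    [IsLocalRing A] [IsNoetherianRing A] [Algebra k A] (h : CAlgX.IsAdicFormallySmooth k A (maximalIdeal A))
    [Field K] [Algebra k K] [Algebra K A] [IsScalarTower k K A] :
    Algebra.IsGeometricallyReduced k K := by
  rw [Groth.Agent.Sep12.isGeometricallyReduced_iff_injective,
    Groth.Agent.Sep12.injective_iff_derivation_extends]
  intro D
  let L := ResidueField A
  let φ : k →+* Tw L :=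
    { toFun := fun a => (TrivSqZeroExt.inl (algebraMap k L a) + TrivSqZeroExt.inr (algebraMap K L (D a)) : TrivSqZeroExt L L)
      map_one' := by
        show (_ : TrivSqZeroExt L L) = 1
        ext <;> simp
      map_mul' := fun a b => by
        show (_ : TrivSqZeroExt L L) = ((_ : TrivSqZeroExt L L) * (_ : TrivSqZeroExt L L))
        ext
        · simp
        · simp [D.leibniz, Algebra.smul_def, ← IsScalarTower.algebraMap_apply]
          ring
      map_zero' := by
        show (_ : TrivSqZeroExt L L) = 0
        ext <;> simp
      map_add' := fun a b => by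
        show (_ : TrivSqZeroExt L L) = ((_ : TrivSqZeroExt L L) + (_ : TrivSqZeroExt L L))
        ext <;> simp <;> abel }
  let := φ.toAlgebra
  let π : Tw L →+* L := (TrivSqZeroExt.fstHom L L L).toRingHom
  let s : L →+* Tw L := TrivSqZeroExt.inlHom L L
  let J : Ideal (Tw L) := RingHom.ker π
  have hJ : J ^ 2 = ⊥ := by
    rw [pow_two, eq_bot_iff, Ideal.mul_le]
    intro x hx y hy
    have key : ∀ u v : TrivSqZeroExt L L, u.fst = 0 → v.fst = 0 → u * v = 0 := fun u v hu hv => by
      ext <;> simp [hu, hv]
    exact key x y hx hy
  let ψ : A →ₐ[k] Tw L ⧸ J :=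
    { toRingHom := (Ideal.Quotient.mk J).comp (s.comp (residue A))
      commutes' := fun a => by
        show Ideal.Quotient.mk J (s (residue A (algebraMap k A a))) = Ideal.Quotient.mk J (φ a)
        rw [Ideal.Quotient.eq]
        show TrivSqZeroExt.fst ((TrivSqZeroExt.inl _ : TrivSqZeroExt L L) - (TrivSqZeroExt.inl _ + TrivSqZeroExt.inr _)) = 0
        simp
        rw [sub_eq_zero]
        rfl }
  obtain ⟨χ, hχ⟩ := h (Tw L) J hJ ψ ⟨1, fun x hx => by
    show Ideal.Quotient.mk J (s (residue A x)) = 0
    rw [pow_one] at hx
    rw [residue_eq_zero_iff x |>.mpr hx, map_zero, map_zero]⟩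
  let χ' : A → TrivSqZeroExt L L := χ
  have hfst : ∀ a, (χ' a).fst = residue A a := by
    intro a
    have := AlgHom.congr_fun hχ a
    have h2 : χ a - s (residue A a) ∈ J := Ideal.Quotient.eq.mp this
    have h3 : ((χ' a) - (TrivSqZeroExt.inl (residue A a))).fst = 0 := h2
    simpa [sub_eq_zero] using h3
  obtain ⟨r, hr⟩ := (Algebra.linearMap K L).exists_leftInverse_of_injective
    (LinearMap.ker_eq_bot.mpr (algebraMap K L).injective)
  have hr' : ∀ c, r (algebraMap K L c) = c := fun c => LinearMap.congr_fun hr c
  let d : K → L := fun x => (χ' (algebraMap K A x)).snd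
  have dmul : ∀ x y, d (x * y) = x • d y + y • d x := by
    intro x y
    show (χ (algebraMap K A (x * y)) : TrivSqZeroExt L L).snd = _
    rw [map_mul, map_mul]
    show ((χ' (algebraMap K A x)) * (χ' (algebraMap K A y))).snd = _
    rw [TrivSqZeroExt.snd_mul, hfst, hfst, op_smul_eq_smul, Algebra.smul_def x, Algebra.smul_def y]
    rfl
  let D' : Derivation ℤ K K := Derivation.mk'
    (r.toAddMonoidHom.comp (AddMonoidHom.mk' d (fun x y => by
      show (χ (algebraMap K A (x + y)) : TrivSqZeroExt L L).snd = _
      rw [map_add, map_add]; rfl))).toIntLinearMap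
    (fun x y => by
      show r (d (x * y)) = x • r (d y) + y • r (d x)
      rw [dmul, map_add, map_smul, map_smul])
  refine ⟨D', fun a => ?_⟩
  show r (d (algebraMap k K a)) = D a
  have : d (algebraMap k K a) = algebraMap K L (D a) := by
    show (χ (algebraMap K A (algebraMap k K a)) : TrivSqZeroExt L L).snd = _
    rw [← IsScalarTower.algebraMap_apply, AlgHom.commutes]
    show (TrivSqZeroExt.inl (algebraMap k L a) + TrivSqZeroExt.inr (algebraMap K L (D a)) : TrivSqZeroExt L L).snd = _
    simp
  rw [this, hr']

end Groth.Agent.S4513
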