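import Groth.Statements.S8446
import Groth.Agent.RedPts82.RankOneGeom
import Groth.Agent.RedPts82.GaNoTorus
import Groth.Agent.Grp57.Morph
-- import your own Groth.Agent.* helpers here

set_option autoImplicit false
universe u
open CategoryTheory MonoidalCategory CartesianMonoidalCategory MonObj GrpObj AlgebraicGeometry CategoryTheory.Limits
open Red
open Groth.Agent.RedPts82

namespace Groth.Agent.S8446

/-- Let G be a reductive S-group, i : T ⟶ G a maximal torus, α a character of T non-trivial on every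
geometric fibre, and p₊, p₋ : 𝔾_a ⟶ G monomorphisms of groups normalised by T with multipliers α and
α⁻¹ such that 𝔾_a ×_S T ×_S 𝔾_a ⟶ G, (y, t, x) ↦ p₋(y) i(t) p₊(x), is an open immersion (a rank-one
system: G has semisimple rank 1 and p₊, p₋ trivialise the root groups of α and -α). Then on no
geometric fibre of S do the images of p₊ and p₋ commute: for every s there are points x, y of 𝔾_a
with values in some scheme over the geometric point at s such that p₊(x) p₋(y) ≠ p₋(y) p₊(x). -/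
theorem result (S : Scheme.{u}) (G T : Over S) [GrpObj G] [GrpObj T] (i : T ⟶ G) [IsMonHom i] [Mono i] (hG : Red.IsReductive G) (hTm : Red.IsMaximalTorus i)
    (α : T ⟶ Red.Gm S) [IsMonHom α] (hα : ∀ s : S, (Over.pullback (Red.geomPt s)).map α ≠ 1)
    (pp pm : Red.Ga S ⟶ G) [IsMonHom pp] [Mono pp] [IsMonHom pm] [Mono pm]
    (hpp : ∀ (X : Over S) (t : X ⟶ T) (x : X ⟶ Red.Ga S), ∃ x' : X ⟶ Red.Ga S,
      x' ≫ pp = (t ≫ i) * (x ≫ pp) * (t ≫ i)⁻¹ ∧ Red.gaFn x' = Red.gmFn (t ≫ α) * Red.gaFn x)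
    (hpm : ∀ (X : Over S) (t : X ⟶ T) (y : X ⟶ Red.Ga S), ∃ y' : X ⟶ Red.Ga S,
      y' ≫ pm = (t ≫ i) * (y ≫ pm) * (t ≫ i)⁻¹ ∧ Red.gaFn y' * Red.gmFn (t ≫ α) = Red.gaFn y)
    (hΩ : IsOpenImmersion (((pm ⊗ₘ i) ⊗ₘ pp) ≫ (μ[G] ▷ G) ≫ μ[G]).left) (s : S) :
    ∃ (X : Over (Spec (CommRingCat.of (AlgebraicClosure (S.residueField s)))))
      (x y : X ⟶ Red.bc (Red.geomPt s) (Red.Ga S)),
      (x ≫ (Over.pullback (Red.geomPt s)).map pp) * (y ≫ (Over.pullback (Red.geomPt s)).map pm) ≠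
        (y ≫ (Over.pullback (Red.geomPt s)).map pm) * (x ≫ (Over.pullback (Red.geomPt s)).map pp) := by
  classical
  by_contra hne
  simp only [not_exists, ne_eq, not_not] at hne
  let K := AlgebraicClosure (S.residueField s)
  let g : Spec (CommRingCat.of K) ⟶ S := Red.geomPt s
  have H : BC G T i α pp pm := ⟨‹_›, ‹_›, ‹_›, ‹_›, hTm.2.2.1, hpp, hpm, hα, hΩ⟩
  -- the two root groups commute on points over the geometric point
  have hcomm : ∀ (Z : Over S) (k : Z.left ⟶ Spec (CommRingCat.of K)), k ≫ g = Z.hom →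
      ∀ x y : Z ⟶ Red.Ga S, (x ≫ pp) * (y ≫ pm) = (y ≫ pm) * (x ≫ pp) := by
    intro Z k hk x y
    let W : Over (Spec (CommRingCat.of K)) := Over.mk k
    let e : (Over.map g).obj W ≅ Z := Over.isoMk (Iso.refl _) (by
      show 𝟙 _ ≫ Z.hom = k ≫ g
      rw [Category.id_comp, hk])
    have := congrArg (toBase g) (hne W (ofBase g (e.hom ≫ x)) (ofBase g (e.hom ≫ y)))
    rw [toBase_mul, toBase_mul, toBase_comp_map, toBase_comp_map, toBase_ofBase, toBase_ofBase,
      Category.assoc, Category.assoc, ← MonObj.comp_mul, ← MonObj.comp_mul] at this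
    exact (cancel_epi e.hom).mp this
  -- so the first one is normal there
  have hnormal : ∀ (Z : Over S) (k : Z.left ⟶ Spec (CommRingCat.of K)), k ≫ g = Z.hom →
      ∀ (h : Z ⟶ G) (x : Z ⟶ Red.Ga S), ∃ z : Z ⟶ Red.Ga S, z ≫ pp = h * (x ≫ pp) * h⁻¹ := by
    intro Z k hk h x
    obtain ⟨Z', q, y, y', t, t', a, a', hf, hs, e⟩ := H.exists_cell_div hG h
    have hk' : (q.left ≫ k) ≫ g = Z'.hom := by rw [Category.assoc, hk]; exact Over.w q
    have hconj : ∀ (y a : Z' ⟶ Red.Ga S) (t : Z' ⟶ T) (x : Z' ⟶ Red.Ga S), ∃ z : Z' ⟶ Red.Ga S,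
        z ≫ pp = ((y ≫ pm) * (t ≫ i) * (a ≫ pp)) * (x ≫ pp) *
          ((y ≫ pm) * (t ≫ i) * (a ≫ pp))⁻¹ := by
      intro y a t x
      obtain ⟨z, hz, -⟩ := hpp Z' t x
      refine ⟨z, ?_⟩
      have hax : (a ≫ pp) * (x ≫ pp) = (x ≫ pp) * (a ≫ pp) := by
        rw [← MonObj.mul_comp a x pp, ← MonObj.mul_comp x a pp, ga_comm]
      have hyz := hcomm Z' (q.left ≫ k) hk' z y
      calc z ≫ pp = (y ≫ pm) * (z ≫ pp) * (y ≫ pm)⁻¹ := by rw [← hyz, mul_inv_cancel_right]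
        _ = (y ≫ pm) * ((t ≫ i) * ((a ≫ pp) * (x ≫ pp) * (a ≫ pp)⁻¹) * (t ≫ i)⁻¹) *
            (y ≫ pm)⁻¹ := by rw [hax, mul_inv_cancel_right, hz]
        _ = _ := by group
    have hconj' : ∀ (y a : Z' ⟶ Red.Ga S) (t : Z' ⟶ T) (x : Z' ⟶ Red.Ga S), ∃ z : Z' ⟶ Red.Ga S,
        z ≫ pp = ((y ≫ pm) * (t ≫ i) * (a ≫ pp))⁻¹ * (x ≫ pp) *
          ((y ≫ pm) * (t ≫ i) * (a ≫ pp)) := by
      intro y a t x
      obtain ⟨z, hz, -⟩ := hpp Z' t⁻¹ x
      refine ⟨z, ?_⟩
      rw [GrpObj.inv_comp t i, _root_.inv_inv] at hz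
      have hyx := hcomm Z' (q.left ≫ k) hk' x y
      have haz : (a ≫ pp) * (z ≫ pp) = (z ≫ pp) * (a ≫ pp) := by
        rw [← MonObj.mul_comp a z pp, ← MonObj.mul_comp z a pp, ga_comm]
      calc z ≫ pp = (a ≫ pp)⁻¹ * (z ≫ pp) * (a ≫ pp) := by
            rw [_root_.mul_assoc, ← haz, inv_mul_cancel_left]
        _ = (a ≫ pp)⁻¹ * ((t ≫ i)⁻¹ * ((y ≫ pm)⁻¹ * ((x ≫ pp) * (y ≫ pm))) * (t ≫ i)) *
            (a ≫ pp) := by rw [hyx, inv_mul_cancel_left, hz]
        _ = _ := by group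
    obtain ⟨z₁, hz₁⟩ := hconj' y' a' t' (q ≫ x)
    obtain ⟨z₂, hz₂⟩ := hconj y a t z₁
    have hz : z₂ ≫ pp = q ≫ (h * (x ≫ pp) * h⁻¹) := by
      rw [MonObj.comp_mul, MonObj.comp_mul, GrpObj.comp_inv, ← Category.assoc, e, hz₂, hz₁]
      group
    have hin : InCell i pp pm (h * (x ≫ pp) * h⁻¹) := by
      refine InCell.of_surjective q hs ?_
      rw [← hz]
      have h1 := inCell_mk i pp pm (1 : Z' ⟶ Red.Ga S) 1 z₂
      rwa [MonObj.one_comp pm, MonObj.one_comp i, _root_.one_mul, _root_.one_mul] at h1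
    obtain ⟨y₀, t₀, x₀, h₀⟩ := H.exists_of_inCell hin
    have e3 : ((q ≫ y₀) ≫ pm) * ((q ≫ t₀) ≫ i) * ((q ≫ x₀) ≫ pp) =
        ((1 : Z' ⟶ Red.Ga S) ≫ pm) * ((1 : Z' ⟶ T) ≫ i) * (z₂ ≫ pp) := by
      rw [MonObj.one_comp pm, MonObj.one_comp i, _root_.one_mul, _root_.one_mul, hz, h₀,
        MonObj.comp_mul, MonObj.comp_mul]
      simp only [Category.assoc]
    obtain ⟨ey, et, -⟩ := H.inj e3
    have := epi_of_flat_surjective q hf hs
    have ey' : y₀ = 1 := by rw [← cancel_epi q, ey, MonObj.comp_one]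
    have et' : t₀ = 1 := by rw [← cancel_epi q, et, MonObj.comp_one]
    exact ⟨x₀, by rw [h₀, ey', et', MonObj.one_comp pm, MonObj.one_comp i, _root_.one_mul,
      _root_.one_mul]⟩
  -- its base change is a closed normal subgroup
  let i₀ := (Over.pullback g).map pp
  have : Mono i₀ := inferInstance
  obtain ⟨hGaff, hGsm, hGconn, hGred⟩ := hG.2.2 s
  obtain ⟨γ, hγm, hγi⟩ := exists_ga_iso g
  obtain ⟨hUsm, hUconn⟩ := polyGa_base_facts K (Red.bc g (Red.Ga S)) (asIso γ)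
  have hsec : IsImmersion pp.left := by
    have := H.hΩ
    let σ : Red.Ga S ⟶ (Red.Ga S ⊗ T) ⊗ Red.Ga S := lift (lift 1 1) (𝟙 _)
    have hσ : pp = σ ≫ cell i pp pm := by
      rw [cell_lift, MonObj.one_comp pm, MonObj.one_comp i, _root_.one_mul, _root_.one_mul,
        Category.id_comp]
    have : IsAffineHom T.hom := isTorus_isAffineHom hTm.2.2.1
    have : IsSeparated (Red.Ga S).hom := by
      show IsSeparated (pullback.snd _ _)
      exact MorphismProperty.pullback_snd (P := @IsSeparated) _ _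
        (inferInstanceAs (IsSeparated (Spec.map (CommRingCat.ofHom
          (algebraMap (ULift.{u} ℤ) (SymmetricAlgebra (ULift.{u} ℤ) (ULift.{u} ℤ)))))))
    have hA : IsSeparated ((Red.Ga S ⊗ T).hom) := by
      show IsSeparated (pullback.fst _ _ ≫ (Red.Ga S).hom)
      infer_instance
    have : IsClosedImmersion σ.left := by
      have : IsClosedImmersion (σ.left ≫ (snd (Red.Ga S ⊗ T) (Red.Ga S)).left) := by
        rw [← Over.comp_left, lift_snd]
        exact inferInstanceAs (IsClosedImmersion (𝟙 _))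
      have : IsSeparated (snd (Red.Ga S ⊗ T) (Red.Ga S)).left := by
        show IsSeparated (pullback.snd _ _)
        infer_instance
      exact IsClosedImmersion.of_comp σ.left (snd (Red.Ga S ⊗ T) (Red.Ga S)).left
    rw [hσ, Over.comp_left]
    infer_instance
  have hi₀ : IsImmersion i₀.left := MorphismProperty.overPullbackMap (P := @IsImmersion) _ _ hsec
  have hcl : IsClosedImmersion i₀.left :=
    IsClosedImmersion.of_isPreimmersion _
      (Groth.Agent.Grp57.isClosed_range_of_isLocallyClosed i₀ i₀.left.isLocallyClosed_range)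
  refine not_isTrivialGrp_Ga K _ (asIso γ) (hGred _ i₀ hcl hUsm hUconn ?_ (hasNoSubtorus_bc_Ga g))
  intro W h n
  obtain ⟨z, hz⟩ := hnormal ((Over.map g).obj W) W.hom rfl (toBase g h) (toBase g n)
  refine ⟨ofBase g z, ?_⟩
  apply toBase_injective g
  rw [toBase_mul, toBase_mul, toBase_comp_map, toBase_comp_map, toBase_ofBase, hz]
  congr 1
  apply eq_inv_of_mul_eq_one_right
  rw [← toBase_mul, mul_inv_cancel, toBase_one]

end Groth.Agent.S8446
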