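import Groth.Statements.S5421
import Groth.Agent.RedPts82.DSChar
import Groth.Agent.Desc59.FlatPure
import Mathlib.AlgebraicGeometry.PullbackCarrier
import Mathlib.FieldTheory.IsAlgClosed.AlgebraicClosure

set_option autoImplicit false
universe u
open CategoryTheory MonoidalCategory CartesianMonoidalCategory MonObj GrpObj AlgebraicGeometry CategoryTheory.Limits
open Red

open Groth.Agent.RedPts82

namespace Groth.Agent.S5421

theorem map_left_fst {S S' : Scheme.{u}} (g : S' ⟶ S) {T P : Over S} (α : T ⟶ P) :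
    ((Over.pullback g).map α).left ≫ pullback.fst P.hom g = pullback.fst T.hom g ≫ α.left :=
  pullback.lift_fst _ _ _

theorem flat_surjective_of_cover {X Y : Scheme.{u}} (a : X ⟶ Y)
    (h : ∀ x : X, ∃ W : X.Opens, x ∈ W ∧ Flat (W.ι ≫ a))
    (hs : ∀ y : Y, ∃ x, a x = y) : Flat a ∧ Surjective a := by
  choose W hW hflat using h
  refine ⟨?_, ⟨hs⟩⟩
  have hcov : TopologicalSpace.IsOpenCover W := by
    rw [TopologicalSpace.IsOpenCover, eq_top_iff]
    exact fun x _ => TopologicalSpace.Opens.mem_iSup.mpr ⟨x, hW x⟩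
  have : IsZariskiLocalAtSource @Flat.{u} := HasRingHomProperty.instIsZariskiLocalAtSource
  exact IsZariskiLocalAtSource.of_openCover (X.openCoverOfIsOpenCover W hcov) hflat

/-- A homomorphism of the diagonalisable group of a free module to the multiplicative group,
nowhere trivial, is flat and surjective. -/
theorem flat_surjective_ds {U : Scheme.{u}} {r : ℕ} (β : Red.DS U (Fin r → ℤ) ⟶ Red.Gm U) [IsMonHom β]
    (hβ : ∀ V : U.Opens, (V : Set U).Nonempty → ¬ Kills V.ι β) :
    Flat β.left ∧ Surjective β.left := by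
  choose V hV m hm using fun v : U => exists_chi_nhd β v
  have hne : ∀ v, m v ≠ 0 := by
    intro v hm0
    refine hβ (V v) ⟨v, hV v⟩ fun Z h hh t => ?_
    rw [hm v Z h hh t, hm0, comp_chi_zero]
  have hfs := fun v => chi_flat_surjective (S := U) (hne v)
  let W : U → (Red.DS U (Fin r → ℤ)).left.Opens :=
    fun v => (Red.DS U (Fin r → ℤ)).hom ⁻¹ᵁ V v
  have heq : ∀ v, (W v).ι ≫ β.left = (W v).ι ≫ (Red.chi U (m v)).left := by
    intro v
    let Z : Over U := Over.mk ((W v).ι ≫ (Red.DS U (Fin r → ℤ)).hom)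
    have e := hm v Z ((Red.DS U (Fin r → ℤ)).hom ∣_ V v) (morphismRestrict_ι _ _)
      (Over.homMk (W v).ι rfl)
    exact congrArg CommaMorphism.left e
  refine flat_surjective_of_cover _ (fun x => ⟨W ((Red.DS U (Fin r → ℤ)).hom x), hV _, ?_⟩) ?_
  · rw [heq]
    have := (hfs ((Red.DS U (Fin r → ℤ)).hom x)).1
    infer_instance
  · intro y
    obtain ⟨x, hx⟩ := (hfs ((Red.Gm U).hom y)).2.1 y
    have hbase : (Red.DS U (Fin r → ℤ)).hom x = (Red.Gm U).hom y := by
      rw [← hx, ← Scheme.Hom.comp_apply]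
      exact congrArg (fun k => k x) (Over.w (Red.chi U (m ((Red.Gm U).hom y)))).symm
    have hxW : x ∈ W ((Red.Gm U).hom y) := by
      show (Red.DS U (Fin r → ℤ)).hom x ∈ V _
      rw [hbase]
      exact hV _
    refine ⟨x, ?_⟩
    have := congrArg (fun k => k ⟨x, hxW⟩) (heq ((Red.Gm U).hom y))
    simp only [Scheme.Hom.comp_apply] at this
    exact this.trans hx

theorem exists_gm_iso {S U : Scheme.{u}} (g : U ⟶ S) :
    ∃ (γ : Red.bc g (Red.Gm S) ⟶ Red.Gm U) (_ : IsMonHom γ), IsIso γ := by
  obtain ⟨γ, hγ⟩ := gmFn_surjective (S := U) (X := Red.bc g (Red.Gm S))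
    (gmFn_isUnit (toBase g (𝟙 (Red.bc g (Red.Gm S)))))
  have key : ∀ (X : Over U) (x : X ⟶ Red.bc g (Red.Gm S)),
      (Red.gmFn (x ≫ γ) : Γ(X.left, ⊤)) = Red.gmFn (toBase g x) := by
    intro X x
    rw [gmFn_comp, hγ]
    conv_rhs => rw [show x = x ≫ 𝟙 _ from (Category.comp_id x).symm, toBase_comp, gmFn_comp]
    rfl
  obtain ⟨δ, hδ⟩ := gmFn_surjective (S := S) (X := (Over.map g).obj (Red.Gm U))
    (gmFn_isUnit (𝟙 (Red.Gm U)))
  refine ⟨γ, isMonHom_of_points γ fun X x y => gmFn_injective ?_, ?_⟩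
  · rw [gmFn_mul, key, key, key, toBase_mul, gmFn_mul]
  · have h1 : ofBase g δ ≫ γ = 𝟙 _ := by
      apply gmFn_injective
      rw [key, toBase_ofBase, hδ]
    have h2 : Mono γ := ⟨fun {X} x y h => toBase_injective g (gmFn_injective (by
      have := congrArg (fun k => Red.gmFn k) h
      simpa only [key] using this))⟩
    exact ⟨ofBase g δ, by rw [← cancel_mono γ, Category.assoc, h1, Category.comp_id, Category.id_comp], h1⟩

theorem result (S : Scheme.{u}) (T : Over S) [GrpObj T] (hT : Red.IsTorus T) (α : T ⟶ Red.Gm S) [IsMonHom α] :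
    ((∀ s : S, (Over.pullback (Red.geomPt s)).map α ≠ 1) ↔
      (∀ (S' : Scheme.{u}) (g : S' ⟶ S), Nonempty ↥S' → (Over.pullback g).map α ≠ 1)) ∧
    ((∀ s : S, (Over.pullback (Red.geomPt s)).map α ≠ 1) ↔ (Flat α.left ∧ Surjective α.left)) := by
  simp only [ne_eq, pullback_map_eq_one_iff]
  refine ⟨⟨fun h S' g ⟨s'⟩ hk => h _ (hk.geomPt s'), fun h s hk => h _ _ inferInstance hk⟩, ⟨?_, ?_⟩⟩
  · intro h
    obtain ⟨S', f, hf, hs, -, hloc⟩ := hT
    choose U hU r hr using hloc
    have hcov : TopologicalSpace.IsOpenCover U := by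
      rw [TopologicalSpace.IsOpenCover, eq_top_iff]
      exact fun x _ => TopologicalSpace.Opens.mem_iSup.mpr ⟨x, hU x⟩
    have hchart : ∀ v, Flat ((Over.pullback ((U v).ι ≫ f)).map α).left ∧
        Surjective ((Over.pullback ((U v).ι ≫ f)).map α).left := by
      intro v
      obtain ⟨e⟩ := hr v
      obtain ⟨γ, hγm, hγi⟩ := exists_gm_iso ((U v).ι ≫ f)
      let e' : Red.bc ((U v).ι ≫ f) T ≅ Red.DS (U v : Scheme.{u}) (Fin (r v) → ℤ) :=
        (Grp.forget _).mapIso e
      have : IsMonHom e'.inv := e.inv.hom.isMonHom_hom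
      let β := e'.inv ≫ (Over.pullback ((U v).ι ≫ f)).map α ≫ γ
      have hβ : ∀ V : (U v : Scheme.{u}).Opens, (V : Set (U v : Scheme.{u})).Nonempty →
          ¬ Kills V.ι β := by
        intro V ⟨p, hp⟩ hk
        refine h _ (Kills.geomPt (g := V.ι ≫ (U v).ι ≫ f) ?_ ⟨p, hp⟩)
        intro Z k hk' t
        let W : Over (U v : Scheme.{u}) := Over.mk (k ≫ V.ι)
        let q : (Over.map ((U v).ι ≫ f)).obj W ≅ Z :=
          Over.isoMk (Iso.refl _) (by
            show 𝟙 _ ≫ Z.hom = (k ≫ V.ι) ≫ (U v).ι ≫ f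
            rw [Category.id_comp, ← hk', Category.assoc])
        let x : W ⟶ Red.bc ((U v).ι ≫ f) T := ofBase _ (q.hom ≫ t)
        have hx := hk W k rfl (x ≫ e'.hom)
        have hx' : x ≫ (Over.pullback ((U v).ι ≫ f)).map α = 1 := by
          rw [← cancel_mono γ, MonObj.one_comp γ, ← hx]
          simp only [β, Category.assoc, e'.hom_inv_id_assoc]
        have := toBase_comp_map ((U v).ι ≫ f) x α
        rw [hx', toBase_ofBase, toBase_one, Category.assoc] at this
        rw [← cancel_epi q.hom, MonObj.comp_one]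
        exact this.symm
      obtain ⟨h1, h2⟩ := flat_surjective_ds β hβ
      have heq : ((Over.pullback ((U v).ι ≫ f)).map α).left = e'.hom.left ≫ β.left ≫ (inv γ).left := by
        simp only [β, ← Over.comp_left, Category.assoc, IsIso.hom_inv_id, Category.comp_id,
          e'.hom_inv_id_assoc]
      rw [heq]
      have : IsIso e'.hom.left := inferInstanceAs (IsIso ((Over.forget _).map e'.hom))
      have : IsIso (inv γ).left := inferInstanceAs (IsIso ((Over.forget _).map (inv γ)))
      exact ⟨inferInstance, inferInstance⟩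
    constructor
    · -- flatness descends along the projection from the charts
      let p : pullback T.hom f ⟶ T.left := pullback.fst _ _
      have : Flat (p ≫ α.left) := by
        have : IsZariskiLocalAtSource @Flat.{u} := HasRingHomProperty.instIsZariskiLocalAtSource
        refine IsZariskiLocalAtSource.of_openCover (P := @Flat.{u})
          ((S'.openCoverOfIsOpenCover U hcov).pullback₁ (pullback.snd T.hom f)) fun (v : S') => ?_
        change Flat (pullback.fst (pullback.snd T.hom f) (U v).ι ≫ p ≫ α.left)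
        have heq : pullback.fst (pullback.snd T.hom f) (U v).ι ≫ p ≫ α.left =
            (pullbackLeftPullbackSndIso T.hom f (U v).ι).hom ≫
              ((Over.pullback ((U v).ι ≫ f)).map α).left ≫ pullback.fst (Red.Gm S).hom _ := by
          rw [map_left_fst, pullbackLeftPullbackSndIso_hom_fst_assoc]
        rw [heq]
        have := (hchart v).1
        infer_instance
      exact Groth.Agent.Desc59.FlatPure.flat_of_flat_comp_of_factor p α.left p (𝟙 _)
        (Category.id_comp p)
    · refine ⟨fun y => ?_⟩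
      obtain ⟨s', hs'⟩ := hs.1 ((Red.Gm S).hom y)
      obtain ⟨y', hy₁, -⟩ := Scheme.Pullback.exists_preimage_pullback
        (f := (Red.Gm S).hom) (g := (U s').ι ≫ f) y ⟨s', hU s'⟩ hs'.symm
      obtain ⟨x', hx'⟩ := (hchart s').2.1 y'
      refine ⟨pullback.fst T.hom ((U s').ι ≫ f) x', ?_⟩
      rw [← hy₁, ← hx', ← Scheme.Hom.comp_apply]
      exact congrArg (fun k => k x') (map_left_fst ((U s').ι ≫ f) α).symm
  · rintro ⟨h1, h2⟩ s hk
    have hone := (pullback_map_eq_one_iff (Red.geomPt s) α).mpr hk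
    have : Epi ((Over.pullback (Red.geomPt s)).map α) := by
      have : Flat ((Over.pullback (Red.geomPt s)).map α).left :=
        MorphismProperty.overPullbackMap (P := @Flat) _ _ h1
      have : Surjective ((Over.pullback (Red.geomPt s)).map α).left :=
        MorphismProperty.overPullbackMap (P := @Surjective) _ _ h2
      have : Epi ((Over.pullback (Red.geomPt s)).map α).left := Flat.epi_of_flat_of_surjective _
      exact (Over.forget _).epi_of_epi_map this
    have hid : (𝟙 (Red.bc (Red.geomPt s) (Red.Gm S))) = 1 := by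
      rw [← cancel_epi ((Over.pullback (Red.geomPt s)).map α), Category.comp_id, MonObj.comp_one, hone]
    let K := AlgebraicClosure (S.residueField s)
    let W : Over (Spec (CommRingCat.of K)) := Over.mk (𝟙 _)
    classical
    obtain ⟨a, ha0, ha1⟩ : ∃ a : K, a ≠ 0 ∧ a ≠ 1 := by
      have : Infinite K := IsAlgClosed.instInfinite
      obtain ⟨a, ha⟩ := Infinite.exists_notMem_finset ({0, 1} : Finset K)
      exact ⟨a, by simpa using ha⟩
    let ι' : K →+* Γ(((Over.map (Red.geomPt s)).obj W).left, ⊤) :=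
      (Scheme.ΓSpecIso (CommRingCat.of K)).inv.hom
    obtain ⟨t, ht⟩ := gmFn_surjective (S := S) (X := (Over.map (Red.geomPt s)).obj W)
      ((Ne.isUnit ha0).map ι')
    have ht1 : t = 1 := by
      have : ofBase (Red.geomPt s) t = 1 := by
        rw [← Category.comp_id (ofBase (Red.geomPt s) t), hid, MonObj.comp_one]
      rw [← toBase_ofBase (Red.geomPt s) t, this, toBase_one]
    rw [ht1, gmFn_one] at ht
    exact ha1 ((Scheme.ΓSpecIso (CommRingCat.of K)).commRingCatIsoToRingEquiv.symm.injective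
      (ht.symm.trans (map_one _).symm))

end Groth.Agent.S5421
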