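import Groth.Statements.S6874
import Groth.Agent.TF3.Bidual

set_option autoImplicit false
universe u
open TensorProduct
open CAlg

namespace Groth.Agent.S6874

/-- For a flat ring map `R → R'` between Noetherian domains and a finite reflexive `R`-module `M`, the
base change `R' ⊗_R M` is a (finite) reflexive `R'`-module. -/
theorem result (R R' : Type u) [CommRing R] [IsDomain R]
    [IsNoetherianRing R] [CommRing R'] [IsDomain R'] [IsNoetherianRing R'] [Algebra R R'] [Module.Flat R R']
    (M : Type u) [AddCommGroup M] [Module R M] [Module.Finite R M] [Module.IsReflexive R M] :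
    Module.IsReflexive R' (R' ⊗[R] M) := by
  have : Module.IsTorsionFree R M := inferInstance
  obtain ⟨n, f, hf, htf⟩ := Groth.Agent.TF3.exists_reflexive_presentation (R := R) (M := M)
  let T := (Fin n → R) ⧸ LinearMap.range f
  obtain ⟨k, g, hg⟩ := Groth.Agent.TF3.exists_injective_of_torsionFree (R := R) (M := T)
  have : Module.IsTorsionFree R' (R' ⊗[R] T) :=
    Groth.Agent.TF3.isTorsionFree_of_injective
      ((TensorProduct.piScalarRight R R' R' (Fin k)).toLinearMap ∘ₗ g.baseChange R')
      ((TensorProduct.piScalarRight R R' R' (Fin k)).injective.comp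
        (Module.Flat.lTensor_preserves_injective_linearMap g hg))
  have : Module.IsReflexive R' (R' ⊗[R] (Fin n → R)) :=
    Module.equiv (TensorProduct.piScalarRight R R' R' (Fin n)).symm
  exact Groth.Agent.TF3.isReflexive_of_exact (f.baseChange R')
    ((LinearMap.range f).mkQ.baseChange R')
    (Module.Flat.lTensor_preserves_injective_linearMap f hf)
    (lTensor_exact R' (LinearMap.exact_map_mkQ_range f) (Submodule.mkQ_surjective _))

end Groth.Agent.S6874
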