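import Groth.Statements.S1348
import Groth.Agent.FlatMor66.SliceScheme

set_option autoImplicit false
universe u
open FlatMor

namespace Groth.Agent.S1348

open AlgebraicGeometry CategoryTheory Limits in
/-- Let f be locally of finite presentation and flat at a point x with image s, and let h be an element
of the maximal ideal of the local ring at x whose image in the local ring of the fibre (the local
ring at x modulo the ideal generated by the maximal ideal at s) is a nonzerodivisor. Then there is
an affine open neighbourhood U of x and a nonzerodivisor of its coordinate ring with germ h at x (so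
its zero locus is an effective Cartier divisor of U through x) whose zero scheme is flat and locally
of finite presentation over the base. -/
theorem result {X S : Scheme.{u}} (f : X ⟶ S) [LocallyOfFinitePresentation f] (x : X)
    (hflat : (f.stalkMap x).hom.Flat) (h : X.presheaf.stalk x) (hm : h ∈ IsLocalRing.maximalIdeal (X.presheaf.stalk x))
    (hreg : Ideal.Quotient.mk (Ideal.map (f.stalkMap x).hom (IsLocalRing.maximalIdeal (S.presheaf.stalk (f x)))) h ∈
      nonZeroDivisors (X.presheaf.stalk x ⧸ Ideal.map (f.stalkMap x).hom (IsLocalRing.maximalIdeal (S.presheaf.stalk (f x))))) :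
    ∃ (U : X.Opens) (hU : IsAffineOpen U) (hx : x ∈ U) (h' : Γ(X, U)), X.presheaf.germ U x hx h' = h ∧ h' ∈ nonZeroDivisors Γ(X, U) ∧
      Flat (Spec.map (CommRingCat.ofHom (Ideal.Quotient.mk (Ideal.span {h'}))) ≫ hU.fromSpec ≫ f) ∧
      LocallyOfFinitePresentation (Spec.map (CommRingCat.ofHom (Ideal.Quotient.mk (Ideal.span {h'}))) ≫ hU.fromSpec ≫ f) := by
  have hr : RingTheory.Sequence.IsWeaklyRegular
      (X.presheaf.stalk x ⧸ Ideal.map (f.stalkMap x).hom (IsLocalRing.maximalIdeal (S.presheaf.stalk (f x))))
      ([h].map (Ideal.Quotient.mk (Ideal.map (f.stalkMap x).hom (IsLocalRing.maximalIdeal (S.presheaf.stalk (f x)))))) := by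
    rw [List.map_singleton, RingTheory.Sequence.isWeaklyRegular_cons_iff]
    exact ⟨fun a b hab => (mul_cancel_left_mem_nonZeroDivisors hreg).1 hab,
      RingTheory.Sequence.IsWeaklyRegular.nil _ _⟩
  obtain ⟨V, hV, U, hU, hx, e, hs', hgerm, hpoly⟩ :=
    Groth.Agent.FlatMor66.exists_slice f x hflat [h] (fun a ha => by rwa [List.mem_singleton.1 ha]) hr
  obtain ⟨hwr, hfl, hfp⟩ := Groth.Agent.FlatMor66.slice_props f hV hU e hs' hpoly
  obtain ⟨h', rfl, hh⟩ := List.map_eq_singleton_iff.1 hgerm
  rw [Ideal.ofList_singleton] at hfl hfp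
  refine ⟨U, hU, hx, h', hh, ?_, hfl, hfp⟩
  have hreg' := ((RingTheory.Sequence.isWeaklyRegular_cons_iff _ _ _).1 hwr).1
  exact mem_nonZeroDivisors_iff_left.2 fun z hz => hreg'.right_eq_zero_of_smul hz

end Groth.Agent.S1348
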