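import Groth.Statements.S1522
import Groth.Agent.Crv77.TwistSection
import Groth.Agent.VarCurve.AlgClosedConst

set_option autoImplicit false
universe u
open CategoryTheory CategoryTheory.Limits AlgebraicGeometry
open Variety

namespace Groth.Agent.S1522

/-- On a proper curve over an algebraically closed field with g the dimension of H^1 of the structure
sheaf, every invertible module of degree at least 2g - 1 has H^1 equal to zero. -/
theorem result (k : Type u) [Field k] [IsAlgClosed k] (X : Scheme.{u}) [X.Over (Spec (CommRingCat.of k))]
    [IsIntegral X] [IsProper (X ↘ (Spec (CommRingCat.of k)))] (hdim : topologicalKrullDim X = 1)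
    (L : X.Modules) (hL : PicF.IsInvertible L)
    (hdeg : 2 * (Curv2.genus k X : ℤ) - 1 ≤ Curv2.deg k X L 1) :
    Subsingleton (Coh.HH X L 1) := by
  have := Crv77.isNoetherian_of_proper k X
  exact (Crv77.curveCoh_of_proper k X hdim.le).h1_eq_zero_of_deg_gt hdim (VarCurve.finrank_h0_eq_one k X) hL
    (by omega)

end Groth.Agent.S1522
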