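import Groth.Statements.S6295
import Mathlib
import Groth.Agent.CAlgH2.Minimal

set_option autoImplicit false
set_option linter.style.haveILetI false
set_option linter.style.longLine false
universe u
open CAlg

namespace Groth.Agent.S6295

/-- Let R be a reduced ring. Then every localization R_p at a minimal prime p is a field and the map R →
∏_{p minimal} R_p is injective (so R is a subring of a product of fields); moreover the set of
zerodivisors of R is the union of the minimal primes. -/
theorem result (R : Type u) [CommRing R] [IsReduced R] : (∀ p : PrimeSpectrum R, p.asIdeal ∈ minimalPrimes R → IsField (Localization.AtPrime p.asIdeal)) ∧ Function.Injective (algebraMap R (∀ p : {p : PrimeSpectrum R // p.asIdeal ∈ minimalPrimes R}, Localization.AtPrime p.1.asIdeal)) ∧ (∀ x : R, x ∉ nonZeroDivisors R ↔ ∃ p ∈ minimalPrimes R, x ∈ p) := by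
  refine ⟨fun p hp => ?_, ?_, fun x => ⟨fun hx => ?_, fun ⟨p, hp, hxp⟩ hx => notMem_nonZeroDivisors_of_mem_mem_minimalPrimes hxp hp hx⟩⟩
  · refine ⟨exists_pair_ne _, mul_comm, fun {a} ha => ?_⟩
    rcases CAlgH2.isUnit_or_isNilpotent_localization hp a with h | h
    · exact h.exists_right_inv
    · exact absurd h.eq_zero ha
  · rw [injective_iff_map_eq_zero]
    intro x hx
    by_contra hne
    have : x ∉ nilradical R := fun h => hne (IsNilpotent.eq_zero h)
    rw [nilradical, ← Ideal.sInf_minimalPrimes, Ideal.mem_sInf] at this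
    push Not at this
    obtain ⟨P, hP, hxP⟩ := this
    haveI := hP.1.1
    have h0 := congrFun hx ⟨⟨P, hP.1.1⟩, hP⟩
    rw [Pi.algebraMap_apply, Pi.zero_apply, IsLocalization.map_eq_zero_iff P.primeCompl] at h0
    obtain ⟨⟨c, hc⟩, h0⟩ := h0
    exact (hP.1.1.mem_or_mem (h0.symm ▸ P.zero_mem : c * x ∈ P)).elim hc hxP
  · rw [mem_nonZeroDivisors_iff_right] at hx
    push Not at hx
    obtain ⟨y, hxy, hy⟩ := hx
    have : y ∉ nilradical R := fun h => hy (IsNilpotent.eq_zero h)
    rw [nilradical, ← Ideal.sInf_minimalPrimes, Ideal.mem_sInf] at this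
    push Not at this
    obtain ⟨P, hP, hyP⟩ := this
    exact ⟨P, hP, (hP.1.1.mem_or_mem (hxy.symm ▸ P.zero_mem : y * x ∈ P)).resolve_left hyP⟩

end Groth.Agent.S6295
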