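import Groth.Statements.S0009
import Groth.Agent.Serre69.Criterion

set_option autoImplicit false
universe u
open Coherent

namespace Groth.Agent.S0009

open AlgebraicGeometry CategoryTheory in
/-- If X is quasi-compact and H^1 vanishes for every quasi-coherent submodule of the structure sheaf,
then X is affine. A quasi-coherent sheaf of ideals is modelled as a quasi-coherent module with a
monomorphism into the structure sheaf. -/
theorem result (X : Scheme.{u}) [CompactSpace X]
    (h : ∀ (I : X.Modules) (i : I ⟶ Coh.structureModule X), Mono i →
      Coh.IsQCoh I → Subsingleton (Coh.HH X I 1)) : IsAffine X := by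
  refine Groth.Agent.Serre69.isAffine_of_liftsIdeals fun K j hj hK => Groth.Agent.Serre69.Lifts.of_subsingleton_H1 (h K j hj hK)

end Groth.Agent.S0009
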