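import Groth.Statements.S0018
import Groth.Agent.Div89.FreeStalks

set_option autoImplicit false
universe u
open Coherent

namespace Groth.Agent.S0018

open AlgebraicGeometry in
/-- On a locally Noetherian scheme an O_X-module is quasi-coherent of finite type if and only if it is
of finite presentation. (Either condition is what 'coherent' means there.) -/
theorem result (X : Scheme.{u}) [IsLocallyNoetherian X] (M : X.Modules) :
    Coh.IsCoh M ↔ CohB1.IsFP M := by
  refine ⟨fun h => Groth.Agent.Div89.isFP_of_isCoh h, fun h => ?_⟩
  have : SheafOfModules.IsFinitePresentation (R := X.ringCatSheaf) M := h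
  exact ⟨inferInstance, inferInstance⟩

end Groth.Agent.S0018
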