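import Groth.Statements.S0037
import Groth.Agent.Coh69.RelVanish
import Groth.Agent.TopCoh49.StalkRpush
import Mathlib.AlgebraicGeometry.ZariskisMainTheorem

set_option autoImplicit false
set_option backward.isDefEq.respectTransparency.types false
universe u
open Coherent

namespace Groth.Agent.S0037

open AlgebraicGeometry CategoryTheory in
/-- Let Y be locally Noetherian, f : X → Y proper and y a point whose fibre f⁻¹{y} is finite. Then for
every coherent F on X and every p > 0 the stalk of R^p f_* F at y vanishes. -/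
theorem result {X Y : Scheme.{u}} (f : X ⟶ Y) [IsProper f]
    [IsLocallyNoetherian Y] (y : Y) (hy : (f.base ⁻¹' {y}).Finite) (M : X.Modules) (hM : Coh.IsCoh M)
    (p : ℕ) (hp : 0 < p) :
    Limits.IsZero (TopCat.Presheaf.stalk ((Coh.RpushAb f p).obj (Coh.toAb M)).obj y) := by
  obtain ⟨V, hyV, hfin⟩ := exists_isFinite_morphismRestrict_of_finite_preimage_singleton f y hy
  haveI : M.IsQuasicoherent := hM.1
  haveI := hfin
  obtain ⟨q, rfl⟩ : ∃ q, p = q + 1 := ⟨p - 1, by omega⟩
  haveI hiso := TopCat.Presheaf.stalkFunctor_map_unit_toSheafify_isIso y AddCommGrpCat.{u}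
    (Groth.Agent.TopCoh49.hPre f.base (Coh.toAb M) (q + 1))
  refine Limits.IsZero.of_iso ?_ ((TopCat.Presheaf.stalkFunctor AddCommGrpCat.{u} y).mapIso
    ((sheafToPresheaf _ _).mapIso (Groth.Agent.TopCoh49.RpushIso f.base (Coh.toAb M) (q + 1))) ≪≫
      (@asIso _ _ _ _ _ hiso).symm)
  refine @AddCommGrpCat.isZero_of_subsingleton _ (subsingleton_of_forall_eq 0 fun e => ?_)
  obtain ⟨U, hyU, s, rfl⟩ := TopCat.Presheaf.exists_germ_eq _ e
  obtain ⟨W, hW, hyW, hWUV⟩ := exists_isAffineOpen_mem_and_subset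
    (x := y) (U := U ⊓ V) ⟨hyU, hyV⟩
  have hWV : W ≤ V := fun z hz => (hWUV hz).2
  have hWU : W ≤ U := fun z hz => (hWUV hz).1
  have haff : IsAffineOpen (f ⁻¹ᵁ W) := by
    have h1 : IsAffineOpen (V.ι ⁻¹ᵁ W) :=
      hW.preimage_of_isOpenImmersion V.ι (by simpa using hWV)
    have h2 := (h1.preimage (f ∣_ V)).image_of_isOpenImmersion (f ⁻¹ᵁ V).ι
    rwa [← Scheme.Hom.comp_preimage, morphismRestrict_ι, Scheme.Hom.comp_preimage,
      Scheme.Hom.image_preimage_eq_opensRange_inf, Scheme.Opens.opensRange_ι,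
      inf_eq_right.mpr (f.preimage_mono hWV)] at h2
  haveI : Subsingleton ((Groth.Agent.TopCoh49.hPre f.base (Coh.toAb M) (q + 1)).obj (Opposite.op W)) :=
    Groth.Agent.Coh69.qcoh_subsingleton_HE M haff q
  rw [← TopCat.Presheaf.germ_res_apply _ (homOfLE hWU) y hyW s]
  exact (congrArg _ (Subsingleton.elim _ 0)).trans (map_zero _)

end Groth.Agent.S0037
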