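import Groth.Statements.S0038
import Groth.Agent.Serre71.ProjFinite

set_option autoImplicit false
universe u
open Coherent

namespace Groth.Agent.S0038

open AlgebraicGeometry in
/-- For a Noetherian ring R and a coherent module F on P^n_R, every H^i(P^n_R, F) is a finitely
generated R-module. -/
theorem result (n : ℕ) (R : Type u) [CommRing R] [IsNoetherianRing R]
    (M : (CohB1.ProjSpace n R).Modules) (hM : Coh.IsCoh M) (i : ℕ) :
    Module.Finite R (Coh.HH (CohB1.ProjSpace n R) M i) := by
  haveI : IsProper (CohB1.ProjSpace n R ↘ Spec (CommRingCat.of R)) :=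
    Groth.Agent.Serre71.isProper_projSpace n R
  exact Groth.Agent.Serre71.finite_hh_of_isProper R M hM i

end Groth.Agent.S0038
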