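import Groth.Statements.S0049
import Groth.Agent.Coh69.Devissage1

set_option autoImplicit false
set_option backward.isDefEq.respectTransparency.types false
universe u
open Coherent

namespace Groth.Agent.S0049

open AlgebraicGeometry CategoryTheory TopologicalSpace Groth.Agent.QC70 in
/-- On a Noetherian scheme, if the support of a coherent module F is the union of closed sets Z and Z',
there is a short exact sequence 0 → G' → F → G → 0 of coherent modules with G' supported in Z' and G
supported in Z. -/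
theorem result (X : Scheme.{u}) [IsNoetherian X] (M : X.Modules) (hM : Coh.IsCoh M)
    (Z Z' : Set X) (hZ : IsClosed Z) (hZ' : IsClosed Z') (h : CohB1.support M = Z ∪ Z') :
    ∃ S : ShortComplex X.Modules, S.ShortExact ∧ Nonempty (S.X₂ ≅ M) ∧ Coh.IsCoh S.X₁ ∧ Coh.IsCoh S.X₃ ∧
      CohB1.support S.X₁ ⊆ Z' ∧ CohB1.support S.X₃ ⊆ Z := by
  let Y : Closeds X := ⟨Z ∪ Z', hZ.union hZ'⟩
  let Y₁ : Closeds X := ⟨Z, hZ⟩
  let Y₂ : Closeds X := ⟨Z', hZ'⟩
  let I := Scheme.IdealSheafData.vanishingIdeal Y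
  let I₁ := Scheme.IdealSheafData.vanishingIdeal Y₁
  let I₂ := Scheme.IdealSheafData.vanishingIdeal Y₂
  have hI : (I.support : Set X) = Y := Scheme.IdealSheafData.coe_support_vanishingIdeal Y
  have hI₁ : (I₁.support : Set X) = Y₁ := Scheme.IdealSheafData.coe_support_vanishingIdeal Y₁
  have hI₂ : (I₂.support : Set X) = Y₂ := Scheme.IdealSheafData.coe_support_vanishingIdeal Y₂
  have hle : I₁ * I₂ ≤ I := by
    refine Scheme.IdealSheafData.le_support_iff_le_vanishingIdeal.mp ?_
    rw [Scheme.IdealSheafData.support_mul]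
    intro x hx
    rw [← SetLike.mem_coe, Closeds.coe_sup, hI₁, hI₂]
    exact hx
  haveI := hM.1
  haveI := hM.2
  obtain ⟨n, hn⟩ := QCSupp72.exists_pow_smul_sections_eq_zero M I (h.le.trans hI.ge)
  let J := I₁ ^ (n + 1)
  have hkill : ∀ (W : X.affineOpens) (a : Γ(X, W.1)), a ∈ I₂.ideal W ^ (n + 1) →
      ∀ t : Γ((Dual3.idealMul J).obj M, W.1), a • t = 0 := by
    intro W a ha t
    refine smul_idealMul_eq_zero J W ha (fun b hb s => hn W b ?_ s) t
    rw [show J.ideal W = I₁.ideal W ^ (n + 1) from rfl, ← mul_pow, mul_comm] at hb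
    exact Ideal.pow_le_pow_right (Nat.le_succ n) (Ideal.pow_right_mono (hle W) _ hb)
  haveI := isQuasicoherent_idealMul J M
  refine ⟨quotSC J M, quotSC_shortExact J M, ⟨Iso.refl _⟩, isCoh_idealMul J hM, isCoh_quot J hM,
    (support_subset_of_killed I₂ hkill).trans hI₂.le, (support_quot_subset_right J M).trans ?_⟩
  rw [Scheme.IdealSheafData.support_pow_succ, hI₁]
  exact subset_rfl

end Groth.Agent.S0049
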