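import Groth.Statements.S0064
import Mathlib.AlgebraicGeometry.Morphisms.FormallyUnramified
import Mathlib.AlgebraicGeometry.Noetherian

set_option autoImplicit false
open CategoryTheory CategoryTheory.Limits AlgebraicGeometry Opposite
universe u
open EtBase

namespace Groth.Agent.S0064

/-- Let S be a Noetherian scheme, X → S a quasi-compact, separated, unramified morphism (formally
unramified and locally of finite type), and Y a Noetherian scheme with a morphism Y → S. Then there
are only finitely many S-morphisms Y → X. The published statement does not assume X → S separated;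
it is stated here in the separated case. -/
theorem result {X S Y : Scheme.{u}} [IsNoetherian S] [IsNoetherian Y]
    (π : X ⟶ S) [FormallyUnramified π] [LocallyOfFiniteType π] [QuasiCompact π] [IsSeparated π]
    (h : Y ⟶ S) : Set.Finite {f : Y ⟶ X | f ≫ π = h} := by
  let W := pullback π h
  let p : W ⟶ Y := pullback.snd π h
  have : LocallyOfFiniteType p := inferInstance
  have : FormallyUnramified p := MorphismProperty.pullback_snd (P := @FormallyUnramified.{u}) π h ‹_›
  have : IsSeparated p := MorphismProperty.pullback_snd (P := @IsSeparated) π h ‹_›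
  have : IsLocallyNoetherian W := LocallyOfFiniteType.isLocallyNoetherian p
  have : CompactSpace W := QuasiCompact.compactSpace_of_compactSpace p
  have : IsNoetherian W := ⟨⟩
  have hclop : (Set.univ : Set (TopologicalSpace.Clopens W)).Finite := by
    have hf := TopologicalSpace.NoetherianSpace.finite_irreducibleComponents (α := W)
    refine Set.Finite.of_finite_image (f := fun C => {T ∈ irreducibleComponents W | T ⊆ (C : Set W)})
      (hf.finite_subsets.subset ?_) fun C _ D _ hCD => ?_
    · rintro _ ⟨C, -, rfl⟩
      exact Set.sep_subset _ _
    · have key : ∀ (C : TopologicalSpace.Clopens W) (w : W), w ∈ C ↔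
          irreducibleComponent w ∈ {T ∈ irreducibleComponents W | T ⊆ (C : Set W)} := by
        intro C w
        refine ⟨fun hw => ⟨irreducibleComponent_mem_irreducibleComponents w, ?_⟩,
          fun h' => h'.2 mem_irreducibleComponent⟩
        exact isIrreducible_irreducibleComponent.isConnected.isPreconnected.subset_isClopen C.isClopen
          ⟨w, mem_irreducibleComponent, hw⟩
      exact SetLike.ext fun w => (key C w).trans ((iff_of_eq (congrArg (irreducibleComponent w ∈ ·) hCD)).trans (key D w).symm)
  have himm : ∀ s : Y ⟶ W, s ≫ p = 𝟙 Y → IsOpenImmersion s ∧ IsClosedImmersion s := by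
    intro s hs
    let gr : Y ⟶ pullback (s ≫ p) p := pullback.lift (𝟙 Y) s (by simp)
    have hg : s = gr ≫ pullback.snd (s ≫ p) p := (pullback.lift_snd _ _ _).symm
    have : IsIso (s ≫ p) := by rw [hs]; infer_instance
    have h1 : IsOpenImmersion gr := MorphismProperty.of_isPullback (P := @IsOpenImmersion)
      (pullback_lift_diagonal_isPullback s p) inferInstance
    have h2 : IsClosedImmersion gr := MorphismProperty.of_isPullback (P := @IsClosedImmersion)
      (pullback_lift_diagonal_isPullback s p) IsSeparated.diagonal_isClosedImmersion
    exact ⟨by rw [hg]; infer_instance, by rw [hg]; infer_instance⟩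
  let sec : {f : Y ⟶ X | f ≫ π = h} → (Y ⟶ W) := fun f => pullback.lift f.1 (𝟙 Y) (f.2.trans (Category.id_comp h).symm)
  have hsec : ∀ f, sec f ≫ p = 𝟙 Y := fun f => pullback.lift_snd _ _ _
  let img : {f : Y ⟶ X | f ≫ π = h} → TopologicalSpace.Clopens W := fun f =>
    ⟨Set.range (sec f), (@Scheme.Hom.isClosedEmbedding _ _ (sec f) (himm _ (hsec f)).2).isClosed_range,
      (@Scheme.Hom.isOpenEmbedding _ _ (sec f) (himm _ (hsec f)).1).isOpen_range⟩
  have hinj : Function.Injective img := by
    intro f g hfg
    have hr : Set.range (sec f) = Set.range (sec g) := congrArg (fun C : TopologicalSpace.Clopens W => (C : Set W)) hfg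
    have := (himm _ (hsec g)).1
    let l := IsOpenImmersion.lift (sec g) (sec f) hr.le
    have hl : l ≫ sec g = sec f := IsOpenImmersion.lift_fac _ _ _
    have hl1 : l = 𝟙 Y := by
      have := congrArg (· ≫ p) hl
      simpa only [Category.assoc, hsec, Category.comp_id] using this
    rw [hl1, Category.id_comp] at hl
    have := congrArg (· ≫ pullback.fst π h) hl
    simp only [sec, pullback.lift_fst] at this
    exact Subtype.ext this.symm
  have : Finite (TopologicalSpace.Clopens W) := Set.finite_univ_iff.1 hclop
  have : Finite {f : Y ⟶ X | f ≫ π = h} := Finite.of_injective img hinj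
  exact Set.toFinite _

end Groth.Agent.S0064
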