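import Groth.Statements.S0076
import Groth.Agent.Unr55.TopInv
import Mathlib.AlgebraicGeometry.Morphisms.Integral

set_option autoImplicit false
open CategoryTheory CategoryTheory.Limits AlgebraicGeometry Opposite
universe u
open EtBase

namespace Groth.Agent.S0076

set_option backward.isDefEq.respectTransparency.types false in
/-- For X étale over S and any S-scheme Y, base change along an integral, universally injective,
surjective S' → S gives a bijection between S-morphisms Y → X and S'-morphisms of the base changes. -/
theorem result {S S' : Scheme.{u}} (g : S' ⟶ S) [IsIntegralHom g] [UniversallyInjective g]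
    [Surjective g] (X Y : Over S) [AlgebraicGeometry.Etale X.hom] :
    Function.Bijective (fun φ : Y ⟶ X => (Over.pullback g).map φ) := by
  have : UniversallyInjective (pullback.fst Y.hom g) :=
    MorphismProperty.pullback_fst (P := @UniversallyInjective) _ _ inferInstance
  have : IsIntegralHom (pullback.fst Y.hom g) :=
    MorphismProperty.pullback_fst (P := @IsIntegralHom) _ _ inferInstance
  exact Groth.Agent.Unr55.pullback_map_bijective g X Y
    (Groth.Agent.Unr55.isUnivHomeo_of_universallyClosed _)

end Groth.Agent.S0076
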