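import Groth.Statements.S0093
import Groth.Agent.Unr55.GabberMain

set_option autoImplicit false
open CategoryTheory CategoryTheory.Limits AlgebraicGeometry Opposite
universe u
open EtBase

namespace Groth.Agent.S0093

theorem specNormal {R : Type u} [CommRing R] [IsDomain R] [IsIntegrallyClosed R]
    (x : Spec (CommRingCat.of R)) : IsIntegrallyClosed ((Spec (CommRingCat.of R)).presheaf.stalk x) := by
  let _ : Algebra R ((Spec (CommRingCat.of R)).presheaf.stalk x) := (StructureSheaf.toStalk R x).hom.toAlgebra
  have : IsLocalization.AtPrime ((Spec (CommRingCat.of R)).presheaf.stalk x) x.asIdeal :=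
    StructureSheaf.IsLocalization.to_stalk R x
  exact isIntegrallyClosed_of_isLocalization _ x.asIdeal.primeCompl
    x.asIdeal.primeCompl_le_nonZeroDivisors

theorem specSepClosed {R L : Type u} [CommRing R] [IsDomain R] [Field L] [Algebra R L]
    [IsFractionRing R L] [IsAlgClosed L] : IsSepClosed (Spec (CommRingCat.of R)).functionField := by
  let K := (Spec (CommRingCat.of R)).functionField
  let _ : Algebra R K := instAlgebraCarrierFunctionFieldSpec (CommRingCat.of R)
  have : IsFractionRing R K := functionField_isFractionRing_of_affine (CommRingCat.of R)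
  have : IsAlgClosed K :=
    IsAlgClosed.of_ringEquiv L K (IsLocalization.algEquiv (nonZeroDivisors R) L K).toRingEquiv
  infer_instance

/-- Part (1) — every affine scheme admits an integral surjective morphism from a scheme all of whose
closed subschemes have vanishing positive-degree étale cohomology with finite constant coefficients. -/
theorem result (X : Scheme.{u}) [IsAffine X] :
    ∃ (X' : Scheme.{u}) (π : X' ⟶ X) (_ : IsIntegralHom π) (_ : Surjective π),
      ∀ (Z' : Scheme.{u}) (i : Z' ⟶ X') (_ : IsClosedImmersion i)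
        (M : Type) (_ : AddCommGroup M) (_ : Finite M) (q : ℕ), 1 ≤ q →
        Subsingleton (EtCoh.H Z' (EtCoh.const Z' M) q) := by
  let A := Γ(X, ⊤)
  let P : CommRingCat.{u} := CommRingCat.of (MvPolynomial A ℤ)
  let φ : P ⟶ A := CommRingCat.ofHom (MvPolynomial.eval₂Hom (Int.castRingHom A) id)
  have hφ : Function.Surjective φ.hom := fun a => ⟨MvPolynomial.X a, MvPolynomial.eval₂Hom_X' _ _ _⟩
  let L := AlgebraicClosure (FractionRing (MvPolynomial A ℤ))
  let C := integralClosure (MvPolynomial A ℤ) L
  have : Algebra.IsAlgebraic (MvPolynomial A ℤ) L :=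
    IsFractionRing.comap_isAlgebraic_iff.mpr
      (inferInstance : Algebra.IsAlgebraic (FractionRing (MvPolynomial A ℤ)) L)
  have hinj : Function.Injective (algebraMap (MvPolynomial A ℤ) L) := by
    rw [IsScalarTower.algebraMap_eq (MvPolynomial A ℤ) (FractionRing (MvPolynomial A ℤ)) L]
    exact (algebraMap (FractionRing (MvPolynomial A ℤ)) L).injective.comp (IsFractionRing.injective _ _)
  have : IsFractionRing C L :=
    integralClosure.isFractionRing_of_algebraic fun x hx => hinj (hx.trans (map_zero _).symm)
  have : IsIntegrallyClosed C := (IsIntegrallyClosed.integralClosure_eq_bot_iff L).mp integralClosure_idem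
  let R : CommRingCat.{u} := CommRingCat.of C
  have hN : ∀ x : Spec R, IsIntegrallyClosed ((Spec R).presheaf.stalk x) := specNormal
  have : IsSepClosed (Spec R).functionField := specSepClosed (L := L)
  let f : Spec R ⟶ Spec P := Spec.map (CommRingCat.ofHom (algebraMap (MvPolynomial A ℤ) C))
  have : IsIntegralHom f := IsIntegralHom.SpecMap_iff.2
    (algebraMap_isIntegral_iff.2 inferInstance)
  have : Surjective f := ⟨fun p => by
    have hCi : Function.Injective (algebraMap (MvPolynomial A ℤ) C) := fun a b h =>
      hinj (congrArg Subtype.val h)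
    obtain ⟨Q, -, hQ, hQp⟩ := Ideal.exists_ideal_over_prime_of_isIntegral p.asIdeal (⊥ : Ideal C)
      (by rw [← RingHom.ker_eq_comap_bot, (RingHom.injective_iff_ker_eq_bot _).1 hCi]; exact bot_le)
    exact ⟨⟨Q, hQ⟩, PrimeSpectrum.ext hQp⟩⟩
  let g : X ⟶ Spec P := X.isoSpec.hom ≫ Spec.map φ
  have : IsClosedImmersion (Spec.map φ) := IsClosedImmersion.spec_of_surjective _ hφ
  refine ⟨pullback g f, pullback.fst g f, inferInstance, inferInstance, ?_⟩
  intro Z' i hi M _ _ q hq
  obtain ⟨p, rfl⟩ : ∃ p, q = p + 1 := ⟨q - 1, by omega⟩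
  exact Unr55.GabberEt.subsingleton_H hN (i ≫ pullback.snd g f) M p

end Groth.Agent.S0093
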