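import Groth.Statements.S0096
import Groth.Agent.Unr55.EtLocalFinite
import Groth.Agent.Unr55.AffineBC

set_option autoImplicit false
open CategoryTheory CategoryTheory.Limits AlgebraicGeometry Opposite
universe u
open EtBase

namespace Groth.Agent.S0096

open TensorProduct

set_option backward.isDefEq.respectTransparency.types false in
/-- A finite unramified morphism becomes, after base change to a suitable étale neighbourhood of any
point of the base, a finite disjoint union of closed immersions. -/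
theorem result {X S : Scheme.{u}} (f : X ⟶ S) [IsFinite f] [FormallyUnramified f] (s : S) :
    ∃ (U : Scheme.{u}) (g : U ⟶ S) (_ : AlgebraicGeometry.Etale g) (u : U) (_ : g.base u = s)
      (n : ℕ) (V : Fin n → Scheme.{u}) (c : ∀ j, V j ⟶ U) (_ : ∀ j, IsClosedImmersion (c j))
      (e : (∐ V) ≅ pullback f g), ∀ j, Sigma.ι V j ≫ e.hom ≫ pullback.snd f g = c j := by
  obtain ⟨V, hV, hsV, -⟩ :=
    exists_isAffineOpen_mem_and_subset (U := (⊤ : S.Opens)) (x := s) trivial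
  have hU : IsAffineOpen (f ⁻¹ᵁ V) := hV.preimage f
  let : Algebra Γ(S, V) Γ(X, f ⁻¹ᵁ V) := (f.app V).hom.toAlgebra
  have : Module.Finite Γ(S, V) Γ(X, f ⁻¹ᵁ V) := IsFinite.finite_app f V hV
  have : Algebra.FormallyUnramified Γ(S, V) Γ(X, f ⁻¹ᵁ V) := by
    have h := HasRingHomProperty.appLE @FormallyUnramified f ‹_› ⟨V, hV⟩ ⟨f ⁻¹ᵁ V, hU⟩ le_rfl
    rw [← Scheme.Hom.app_eq_appLE] at h
    exact h
  have : Algebra.Unramified Γ(S, V) Γ(X, f ⁻¹ᵁ V) := ⟨inferInstance, inferInstance⟩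
  obtain ⟨R', _, _, hR', p', _, hp', n, e, he, hsur⟩ :=
    Unr55.exists_etale_completeSplitting (R := Γ(S, V)) (S := Γ(X, f ⁻¹ᵁ V))
      (hV.primeIdealOf ⟨s, hsV⟩).asIdeal
  let φ : Γ(S, V) ⟶ CommRingCat.of R' := CommRingCat.ofHom (algebraMap Γ(S, V) R')
  have : AlgebraicGeometry.Etale (Spec.map φ) :=
    (HasRingHomProperty.Spec_iff (P := @AlgebraicGeometry.Etale)).mpr
      (RingHom.etale_algebraMap.mpr hR')
  let u : Spec (CommRingCat.of R') := ⟨p', inferInstance⟩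
  have hu : (Spec.map φ).base u = hV.primeIdealOf ⟨s, hsV⟩ := PrimeSpectrum.ext hp'.over.symm
  have H := Unr55.isPullback_affineBC f hV hU φ _ _
    (CommRingCat.isPushout_tensorProduct Γ(S, V) R' Γ(X, f ⁻¹ᵁ V))
  have he' : CompleteOrthogonalIdempotents (e ∘ (Equiv.ulift.{u} : ULift.{u} (Fin n) ≃ Fin n)) :=
    (CompleteOrthogonalIdempotents.equiv _).mpr he
  let A : Fin n → CommRingCat := fun j ↦
    CommRingCat.of ((R' ⊗[Γ(S, V)] Γ(X, f ⁻¹ᵁ V)) ⧸ Ideal.span {1 - e j})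
  let A' : ULift.{u} (Fin n) → CommRingCat := fun j ↦ A j.down
  let ψ := (RingEquiv.ofBijective _ he'.bijective_pi).toCommRingCatIso
  let re : (∐ fun j ↦ Spec (A j)) ≅ ∐ fun j ↦ Spec (A' j) :=
    (Sigma.reindex Equiv.ulift.{u} fun j ↦ Spec (A j)).symm
  have hre : ∀ j, Sigma.ι (fun j ↦ Spec (A j)) j ≫ re.hom =
      Sigma.ι (fun j ↦ Spec (A' j)) ⟨j⟩ := fun j ↦ by
    rw [Iso.symm_hom, Iso.comp_inv_eq]
    exact (Sigma.ι_reindex_hom (Equiv.ulift.{u}) (fun j ↦ Spec (A j)) (ULift.up j)).symm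
  refine ⟨_, Spec.map φ ≫ hV.fromSpec, inferInstance, u, ?_, n, fun j ↦ Spec (A j),
    fun j ↦ Spec.map (CommRingCat.ofHom (algebraMap R' (A j))),
    fun j ↦ IsClosedImmersion.spec_of_surjective _ (hsur j),
    re ≪≫ asIso (sigmaSpec A') ≪≫ (Scheme.Spec.mapIso ψ.op) ≪≫ H.isoPullback, fun j ↦ ?_⟩
  · rw [Scheme.Hom.comp_apply, hu]
    exact hV.fromSpec_primeIdealOf ⟨s, hsV⟩
  · simp only [Iso.trans_hom, asIso_hom, Category.assoc, IsPullback.isoPullback_hom_snd]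
    rw [reassoc_of% hre j, ι_sigmaSpec_assoc]
    simp only [Functor.mapIso_hom, Iso.op_hom, Scheme.Spec_map, Quiver.Hom.unop_op, ← Spec.map_comp]
    rfl

end Groth.Agent.S0096
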