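import Groth.Statements.S0098
import Groth.Agent.Unr55.OnePoint
import Mathlib.AlgebraicGeometry.Morphisms.FlatMono

set_option autoImplicit false
open CategoryTheory CategoryTheory.Limits AlgebraicGeometry Opposite
universe u
open EtBase

namespace Groth.Agent.S0098

set_option backward.isDefEq.respectTransparency.types false in
/-- A finite étale morphism whose fibre over a point s is a single point with the same residue field is
an isomorphism over an open neighbourhood of s. -/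
theorem result {X S : Scheme.{u}} (f : X ⟶ S) [IsFinite f] [AlgebraicGeometry.Etale f] (s : S) (x : X)
    (hx : f.base ⁻¹' {s} = {x}) (hκ : Function.Surjective (f.residueFieldMap x)) :
    ∃ U : S.Opens, s ∈ U ∧ IsIso (f ∣_ U) := by
  obtain ⟨U, hsU, hU⟩ :=
    Groth.Agent.Unr55.exists_isClosedImmersion_morphismRestrict f s x hx hκ
  have hfx : f x = s := (Set.ext_iff.mp hx x).mpr rfl
  have : IsOpenImmersion (f ∣_ U) := IsOpenImmersion.of_flat_of_mono _
  have hxU : x ∈ f ⁻¹ᵁ U := show f x ∈ U from hfx ▸ hsU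
  let V := (f ∣_ U).opensRange
  refine ⟨U.ι ''ᵁ V, ⟨⟨s, hsU⟩, ⟨⟨x, hxU⟩, Subtype.ext ?_⟩, rfl⟩, ?_⟩
  · exact (congr($(morphismRestrict_ι f U) ⟨x, hxU⟩)).trans hfx
  have hV : IsOpenImmersion ((f ∣_ U) ∣_ V) := IsZariskiLocalAtTarget.restrict ‹_› V
  have : Surjective ((f ∣_ U) ∣_ V) := ⟨fun ⟨y, z, hz⟩ ↦
    ⟨⟨z, z, rfl⟩, Subtype.ext ((congr($(morphismRestrict_ι (f ∣_ U) V) ⟨z, z, rfl⟩)).trans hz)⟩⟩
  have : IsIso ((f ∣_ U) ∣_ V) := (isIso_iff_isOpenImmersion_and_surjective _).mpr ⟨hV, this⟩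
  exact ((MorphismProperty.isomorphisms Scheme).arrow_mk_iso_iff
    (morphismRestrictRestrict f U V)).mp this

end Groth.Agent.S0098
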