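import Groth.Statements.S0103
import Groth.Agent.Unr55.Et.ArtinSchreierEt
import Groth.Agent.Unr55.Et.GaAffine

set_option autoImplicit false
open CategoryTheory CategoryTheory.Limits AlgebraicGeometry Opposite
universe u
open EtBase

namespace Groth.Agent.S0103

/-- Let S be an affine scheme whose ring of global sections has prime characteristic p. Then the étale
cohomology H^q(S, Z/p) with constant Z/p coefficients vanishes for every q ≥ 2. -/
theorem result (S : Scheme.{u}) [IsAffine S] (p : ℕ) [Fact p.Prime] [CharP Γ(S, ⊤) p]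
    (q : ℕ) (hq : 2 ≤ q) : Subsingleton (EtCoh.H S (EtCoh.const S (ZMod p)) q) := by
  have hp : (p : Γ(S, ⊤)) = 0 := CharP.cast_eq_zero _ p
  have hS := Groth.Agent.Unr55.EtAS.shortExact_seq hp
  obtain ⟨r, rfl⟩ := Nat.exists_eq_add_of_le hq
  have h1 := Groth.Agent.Unr55.EtaleAff.H_Ga_subsingleton S (1 + r) (by omega)
  have h2 := Groth.Agent.Unr55.EtaleAff.H_Ga_subsingleton S (2 + r) (by omega)
  constructor
  suffices ∀ x : EtCoh.H S (EtCoh.const S (ZMod p)) (2 + r), x = 0 from fun a b => by rw [this a, this b]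
  intro x
  obtain ⟨y, hy⟩ := CategoryTheory.Abelian.Ext.covariant_sequence_exact₁ _ hS x (Subsingleton.elim _ _)
    (show (1 + r) + 1 = 2 + r by omega)
  rw [← hy, Subsingleton.elim y 0, CategoryTheory.Abelian.Ext.zero_comp]

end Groth.Agent.S0103
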