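import Groth.Statements.S0105
import Groth.Agent.Unr55.Et.LocConstTriv

set_option autoImplicit false
open CategoryTheory CategoryTheory.Limits AlgebraicGeometry Opposite
universe u
open EtBase

namespace Groth.Agent.S0105

/-- On a connected scheme X, a finite locally constant abelian sheaf F on the small étale site is, étale
locally, constant with one and the same finite group everywhere: there are a finite abelian group M
and an étale covering (U_i) of X such that the restriction of F to every U_i is isomorphic to the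
constant sheaf with value M. (The published statement covers arbitrary locally constant sheaves of
modules; stated here for finite locally constant abelian sheaves.) -/
theorem result {X : Scheme.{u}} [ConnectedSpace X] (F : EtCoh.Ab X) (h : EtCoh.IsFiniteLocallyConstant F) :
    ∃ (M : Type) (_ : AddCommGroup M) (_ : Finite M) (ι : Type u) (U : ι → X.Etale), EtCoh.Covers U ∧
      ∀ i, Nonempty (EtCoh.restr F (U i) ≅
        (constantSheaf (X.smallEtaleTopology.over (U i)) AddCommGrpCat.{u + 1}).obj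
          (AddCommGrpCat.of (ULift.{u + 1} M))) := by
  obtain ⟨ι, U, hU, hF⟩ := h
  choose M iM hM hψ using hF
  let A : ι → AddCommGrpCat.{u + 1} := fun i =>
    letI := iM i
    AddCommGrpCat.of (ULift.{u + 1} (M i))
  have hA : ∀ i, Finite (A i) := fun i =>
    letI := iM i
    haveI := hM i
    inferInstanceAs (Finite (ULift.{u + 1} (M i)))
  let ψ : ∀ i, Groth.Agent.Unr55.LC.Triv F (U i) (A i) := fun i => .ofConst (hψ i).some
  let O : ι → X.Opens := fun i => ⟨Set.range (U i).hom.base,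
    haveI : Etale (U i).hom := (U i).prop
    (U i).hom.isOpenMap.isOpen_range⟩
  have key : ∀ i j (x : X), x ∈ O i → x ∈ O j → Nonempty (A i ≃+ A j) := by
    rintro i j x ⟨p, hp⟩ ⟨q, hq⟩
    obtain ⟨W, a, b, w, -, -⟩ := Groth.Agent.Unr55.LC.exists_overlap (hp.trans hq.symm)
    have := hA i
    have := hA j
    exact Groth.Agent.Unr55.LC.nonempty_addEquiv_of_overlap (ψ i) (ψ j) a b w
  obtain ⟨x₀⟩ := (inferInstance : Nonempty X)
  obtain ⟨i₀, p₀, hp₀⟩ := hU x₀
  let good : ι → Prop := fun i => Nonempty (A i₀ ≃+ A i)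
  let T : Set X := {x | ∃ i, good i ∧ x ∈ O i}
  have hT : IsClopen T := by
    refine ⟨isOpen_compl_iff.1 (isOpen_iff_forall_mem_open.2 fun x hx => ?_),
      isOpen_iff_forall_mem_open.2 fun x ⟨i, hi, hxi⟩ => ⟨O i, fun y hy => ⟨i, hi, hy⟩, (O i).2, hxi⟩⟩
    obtain ⟨j, q, hq⟩ := hU x
    refine ⟨O j, fun y hy ⟨i, hi, hyi⟩ => hx ⟨j, ?_, q, hq⟩, (O j).2, q, hq⟩
    obtain ⟨e⟩ := key i j y hyi hy
    obtain ⟨e'⟩ := hi
    exact ⟨e'.trans e⟩
  have hx₀ : x₀ ∈ T := ⟨i₀, ⟨AddEquiv.refl _⟩, p₀, hp₀⟩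
  have hTu : T = Set.univ := hT.eq_univ ⟨x₀, hx₀⟩
  refine ⟨M i₀, iM i₀, hM i₀, {i // good i}, fun i => U i.1, fun x => ?_, fun i => ?_⟩
  · obtain ⟨i, hi, p, hp⟩ := (hTu.symm ▸ Set.mem_univ x : x ∈ T)
    exact ⟨⟨i, hi⟩, p, hp⟩
  · exact ⟨(hψ i.1).some ≪≫ (constantSheaf _ _).mapIso
      (AddEquiv.toAddCommGrpIso (X := A i.1) (Y := A i₀) i.2.some.symm)⟩

end Groth.Agent.S0105
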