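import Groth.Statements.S0135
import Groth.Agent.Cons51.Descent

set_option autoImplicit false
universe u
open CategoryTheory CategoryTheory.Limits AlgebraicGeometry Opposite
open EtPBC

namespace Groth.Agent.S0135

/-- (2): for f : X -> Y a surjective morphism of quasi-compact quasi-separated schemes and F an abelian
sheaf on Y_et, F is constructible iff f^* F is. -/
theorem result {X Y : Scheme.{u}} [CompactSpace X] [QuasiSeparatedSpace X]
    [CompactSpace Y] [QuasiSeparatedSpace Y] (f : X ⟶ Y) [Surjective f] [EtCoh.BCCont f]
    (F : EtCoh.Ab Y) :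
    EtPBC.IsConstructible F ↔ EtPBC.IsConstructible ((EtCoh.pull f).obj F) := by
  refine ⟨fun h => Groth.Agent.Cons51.isConstructible_pull f h,
    fun h => Groth.Agent.Cons51.isConstructible_of_pull f (fun V hV => ?_) h⟩
  have : QuasiCompact f := by
    have : QuasiCompact (f ≫ terminal.from Y) := by rw [terminal.comp_from]; infer_instance
    exact QuasiCompact.of_comp f (terminal.from Y)
  have : CompactSpace (f ⁻¹ᵁ V).toScheme := isCompact_iff_compactSpace.1 (f.isCompact_preimage hV.isCompact)
  have : Surjective (f ∣_ V) :=
    MorphismProperty.of_isPullback (isPullback_morphismRestrict f V).flip inferInstance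
  exact ⟨_, (f ⁻¹ᵁ V).ι, f ∣_ V, inferInstance, quasiSeparatedSpace_of_quasiSeparated (f ⁻¹ᵁ V).ι, this,
    (isPullback_morphismRestrict f V).w.symm⟩

end Groth.Agent.S0135
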