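import Groth.Statements.S0143
import Groth.Agent.Cons51.Embed

set_option autoImplicit false
universe u
open CategoryTheory CategoryTheory.Limits AlgebraicGeometry Opposite
open EtPBC

namespace Groth.Agent.S0143

/-- (2): for X Noetherian and F a constructible abelian sheaf on X_et there are finitely many finite
morphisms f_i : Y_i -> X and finite abelian groups M_i and an injective map F -> ⊕ f_{i,*} M_i. (The
source's refinement on the shape of the Y_i is not stated.) -/
theorem result (X : Scheme.{u}) [IsNoetherian X]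
    (F : EtCoh.Ab X) (hF : EtPBC.IsConstructible F) :
    ∃ (n : ℕ) (Y : Fin n → Scheme.{u}) (f : ∀ i, Y i ⟶ X) (_ : ∀ i, IsFinite (f i))
      (M : Fin n → Type) (_ : ∀ i, AddCommGroup (M i)) (_ : ∀ i, Finite (M i)),
      ∀ [∀ i, EtCoh.BCCont (f i)],
      ∃ (ι : F ⟶ ⨁ fun i => (EtCoh.push (f i)).obj (EtCoh.const (Y i) (M i))), Mono ι := by
  obtain ⟨n, Y, f, hf, hfp, M, hM, hMf, ι, hι⟩ := Groth.Agent.Cons51.exists_embedding hF
  exact ⟨n, Y, f, hf, M, hM, hMf, fun {_} => ⟨ι, hι⟩⟩

end Groth.Agent.S0143
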