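import Groth.Statements.S0151
import Groth.Agent.CdP50.AllPrimes

set_option autoImplicit false
universe u
open CategoryTheory CategoryTheory.Limits AlgebraicGeometry Opposite
open EtPBC

namespace Groth.Agent.S0151

/-- (2): if cd(K) is finite and X is of finite type over K then cd(X) is finite. -/
theorem result (K : Type u) [Field K] (X : Scheme.{u})
    (a : X ⟶ Spec (CommRingCat.of K)) [LocallyOfFiniteType a] [QuasiCompact a]
    (e : ℕ) (hK : EtCoh.CohDimLE (Spec (CommRingCat.of K)) e) :
    ∃ d : ℕ, EtCoh.CohDimLE X d := by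
  have : IsLocallyNoetherian X := LocallyOfFiniteType.isLocallyNoetherian a
  have : CompactSpace X := QuasiCompact.compactSpace_of_compactSpace a
  have : IsNoetherian X := {}
  obtain ⟨n, hn⟩ := CdP50.exists_dim_le a
  exact ⟨2 * n + e, CdP50.cohDimLE_of_forall_prime fun ℓ hℓ =>
    CdP50.cohDimLEAt_of_finiteType a hℓ (CdP50.cohDimLEAt_of_cohDimLE hK hℓ) hn⟩

end Groth.Agent.S0151
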