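import Groth.Statements.S0155
-- import your own Groth.Agent.* helpers here
import Groth.Agent.Cons51.ProperBC0

set_option autoImplicit false
universe u
open CategoryTheory CategoryTheory.Limits AlgebraicGeometry Opposite
open EtPBC

namespace Groth.Agent.S0155

/-- Let f : X ⟶ Y be a proper morphism of schemes, ȳ : Spec Ω ⟶ Y a geometric point (Ω a separably
closed field) and F an abelian sheaf on the small étale site of X. Then the stalk (f_* F)_ȳ is
isomorphic to the group of global sections Γ(X_ȳ, F|X_ȳ) of the pullback of F to the geometric fibre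
X_ȳ = X ×_Y Spec Ω. The published statement is stronger: it asserts that the canonical map is
bijective (for sheaves of sets as well); only the existence of an isomorphism of abelian groups is
asserted here. -/
theorem result {X Y : Scheme.{u}} (f : X ⟶ Y) [IsProper f] [EtCoh.BCCont f]
    {Ω : Type u} [Field Ω] [IsSepClosed Ω] (ξ : Spec (CommRingCat.of Ω) ⟶ Y)
    [EtCoh.BCCont (pullback.fst f ξ)] (F : EtCoh.Ab X) :
    Nonempty ((EtCoh.stalk ξ).obj ((EtCoh.push f).obj F) ≅
      ((EtCoh.pull (pullback.fst f ξ)).obj F).obj.obj (op (EtCoh.top (pullback f ξ)))) := by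
  have := Groth.Agent.Cons51.isIso_baseChange0_proper f ξ (pullback.snd f ξ) (pullback.fst f ξ)
    (IsPullback.of_hasPullback f ξ) F
  let G := (EtCoh.pull (pullback.fst f ξ)).obj F
  let A := (EtCoh.push (pullback.snd f ξ)).obj G
  have h1 := Groth.Agent.Unr55.EtSh.theta_bijective ξ (𝟙 _) ((EtCoh.push f).obj F)
  have : IsIso (Groth.Agent.Unr55.EtSh.theta ξ (𝟙 _) ((EtCoh.push f).obj F)) :=
    (ConcreteCategory.isIso_iff_bijective _).2 h1
  let e0 : (EtCoh.stalk ξ).obj ((EtCoh.push f).obj F) ≅ (EtCoh.stalk (𝟙 _ ≫ ξ)).obj ((EtCoh.push f).obj F) :=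
    eqToIso (by rw [Category.id_comp])
  have hg := Groth.Agent.Cons51.germ_top_bijective_id A
  exact ⟨e0 ≪≫ asIso (Groth.Agent.Unr55.EtSh.theta ξ (𝟙 _) _) ≪≫
    (EtCoh.stalk (𝟙 _)).mapIso (asIso (EtCoh.baseChange0 f ξ (pullback.snd f ξ) (pullback.fst f ξ)
      (IsPullback.of_hasPullback f ξ).w F)) ≪≫
    (AddEquiv.toAddCommGrpIso (AddEquiv.ofBijective _ hg)).symm ≪≫
    G.obj.mapIso (Groth.Agent.Cons51.bcTopIso (pullback.snd f ξ)).op.symm⟩

end Groth.Agent.S0155
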