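import Groth.Statements.S0156
-- import your own Groth.Agent.* helpers here
import Groth.Agent.PBC51.BaseChange

set_option autoImplicit false
universe u
open CategoryTheory CategoryTheory.Limits AlgebraicGeometry Opposite
open EtPBC

namespace Groth.Agent.S0156

/-- (1): f : X -> Y proper, ybar : Spec Ω -> Y a geometric point, F a torsion abelian sheaf on X_et:
(R^n f_* F)_ybar is isomorphic to H^n(X_ybar, F|X_ybar) with X_ybar = X x_Y Spec Ω. The source
identifies them via the base change map; we state existence of an isomorphism (weaker). -/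
theorem result {X Y : Scheme.{u}} (f : X ⟶ Y) [IsProper f] [EtCoh.BCCont f]
    {Ω : Type u} [Field Ω] [IsSepClosed Ω] (ξ : Spec (CommRingCat.of Ω) ⟶ Y)
    [EtCoh.BCCont (pullback.fst f ξ)] (F : EtCoh.Ab X) (hF : EtCoh.IsTorsion F) (n : ℕ) :
    Nonempty ((EtCoh.stalk ξ).obj ((EtCoh.Rpush f n).obj F) ≅
      AddCommGrpCat.of (EtCoh.H (pullback f ξ) ((EtCoh.pull (pullback.fst f ξ)).obj F) n)) :=
  Groth.Agent.PBC51.nonempty_stalk_Rpush_proper f ξ F hF n

end Groth.Agent.S0156
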