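import Groth.Statements.S0158
-- import your own Groth.Agent.* helpers here
import Groth.Agent.PBC51.ModInj

set_option autoImplicit false
universe u
open CategoryTheory CategoryTheory.Limits AlgebraicGeometry Opposite
open EtPBC

namespace Groth.Agent.S0158

/-- For a proper morphism f : X → Y the following are equivalent: (1) cohomology commutes with base
change for f, i.e. for every cartesian square with g : Y' → Y, g' : X' → X, f' : X' → Y' and every
torsion abelian sheaf F on X_ét there are isomorphisms g^* R^q f_* F ≅ R^q f'_* g'^* F; (2) for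
every prime ℓ, every sheaf I of ℤ/ℓ-modules on X_ét which is injective among sheaves of ℤ/ℓ-modules,
and every cartesian square as above, R^q f'_*(g'^* I) = 0 for q > 0. Injectivity among sheaves of
ℤ/ℓ-modules is spelled out as the extension property against monomorphisms of sheaves killed by ℓ.
Condition (1) is used in its abstract-isomorphism form; the published proof shows that (2) yields
the canonical base change isomorphisms. -/
theorem result {X Y : Scheme.{u}} (f : X ⟶ Y) [IsProper f] [EtCoh.BCCont f] :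
    EtPBC.CohCommutesWithBC f ↔
      ∀ (ℓ : ℕ), ℓ.Prime → ∀ (I : EtCoh.Ab X), EtCoh.KilledBy ℓ I →
        (∀ (G : EtCoh.Ab X), EtCoh.KilledBy ℓ G → ∀ (a : G ⟶ I) {G' : EtCoh.Ab X} (m : G ⟶ G'),
            EtCoh.KilledBy ℓ G' → Mono m → ∃ b : G' ⟶ I, m ≫ b = a) →
        ∀ ⦃X' Y' : Scheme.{u}⦄ (f' : X' ⟶ Y') (g' : X' ⟶ X) (g : Y' ⟶ Y)
          [EtCoh.BCCont f'] [EtCoh.BCCont g'], IsPullback g' f' f g →
          ∀ q : ℕ, 0 < q → IsZero ((EtCoh.Rpush f' q).obj ((EtCoh.pull g').obj I)) := by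
  refine ⟨fun _ ℓ hℓ I hI hinj X' Y' f' g' g _ _ h q hq => ?_,
    fun _ _ _ f' b' b _ _ _ h F hF q => Groth.Agent.PBC51.nonempty_bc f b f' b' h q F hF⟩
  obtain ⟨q, rfl⟩ := Nat.exists_eq_add_one.2 hq
  have hT : EtCoh.IsTorsion I := fun U s x =>
    ⟨U, 𝟙 U, ⟨x, rfl⟩, isOfFinAddOrder_iff_nsmul_eq_zero.2 ⟨ℓ, hℓ.pos, by rw [← map_nsmul, hI U s, map_zero]⟩⟩
  obtain ⟨e⟩ := Groth.Agent.PBC51.nonempty_bc f g f' g' h (q + 1) I hT
  exact IsZero.of_iso (Functor.map_isZero _
    (Groth.Agent.PBC51.isZero_Rpush_of_modInjective f hℓ.pos I hI hinj q)) e.symm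

end Groth.Agent.S0158
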