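import Groth.Statements.S0164
-- import your own Groth.Agent.* helpers here
import Groth.Agent.EtBC48.Sets
import Groth.Agent.CohProp4.Main

set_option autoImplicit false
universe u
open CategoryTheory CategoryTheory.Limits AlgebraicGeometry Opposite
open EtPBC

namespace Groth.Agent.S0164

/-- Let k be a separably closed field and S = Spec k. Let f : X → S be any morphism, g : T → S
quasi-compact and quasi-separated, and Y = X ×_S T with projections h : Y → X and e : Y → T. Then
for every abelian sheaf F on T_ét the base change map f^* g_* F → h_* e^* F is an isomorphism. (The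
published statement is for sheaves of sets; it is stated here for abelian sheaves.) -/
theorem result {k : Type u} [Field k] [IsSepClosed k]
    {X Y T : Scheme.{u}} (f : X ⟶ Spec (CommRingCat.of k)) (g : T ⟶ Spec (CommRingCat.of k))
    [QuasiCompact g] [QuasiSeparated g] (h : Y ⟶ X) (e : Y ⟶ T) (hc : IsPullback e h g f)
    [EtCoh.BCCont f] [EtCoh.BCCont g] [EtCoh.BCCont h] [EtCoh.BCCont e] (F : EtCoh.Ab T) :
    IsIso (EtCoh.baseChange0 g f h e hc.w F) := by
  have h1 : IsIso (EtBC.baseChange0Sh g f h e hc.w ((Groth.Agent.EtBC48.toSets T).obj F)) :=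
    Groth.Agent.CohProp4.isIso_baseChange0Sh g f h e hc _
  have := Groth.Agent.EtBC48.isIso_pullToSets f ((EtCoh.push g).obj F)
  have := Groth.Agent.EtBC48.isIso_pullToSets e F
  have h2 : IsIso (Groth.Agent.EtBC48.bc0 (Type (u + 1)) g f h e hc.w ((Groth.Agent.EtBC48.toSets T).obj F)) := h1
  have h3 : IsIso (Groth.Agent.EtBC48.pullToSets f ((EtCoh.push g).obj F) ≫
      (Groth.Agent.EtBC48.toSets X).map (Groth.Agent.EtBC48.bc0 AddCommGrpCat.{u + 1} g f h e hc.w F)) := by
    rw [← Groth.Agent.EtBC48.bc0_toSets g f h e hc.w F]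
    exact @IsIso.comp_isIso _ _ _ _ _ _ _ h2 (@Functor.map_isIso _ _ _ _ _ _ (EtDesc.pushSh h) _ (Groth.Agent.EtBC48.isIso_pullToSets e F))
  have h4 := IsIso.of_isIso_comp_left (Groth.Agent.EtBC48.pullToSets f ((EtCoh.push g).obj F))
    ((Groth.Agent.EtBC48.toSets X).map (Groth.Agent.EtBC48.bc0 AddCommGrpCat.{u + 1} g f h e hc.w F))
  exact @isIso_of_reflects_iso _ _ _ _ _ _ (EtCoh.baseChange0 g f h e hc.w F) (Groth.Agent.EtBC48.toSets X) h4 _

end Groth.Agent.S0164
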