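import Groth.Statements.S0166
-- import your own Groth.Agent.* helpers here
import Groth.Agent.PBC51.BaseChange

set_option autoImplicit false
universe u
open CategoryTheory CategoryTheory.Limits AlgebraicGeometry Opposite
open EtPBC

namespace Groth.Agent.S0166

/-- K/k an extension of separably closed fields, X proper over k, F torsion abelian on X_et: H^q(X, F) ≅
H^q(X_K, F|X_K). The source shows the pullback map is an isomorphism as a special case of proper
base change; we state existence of an isomorphism (weaker). -/
theorem result {k K : Type u} [Field k] [IsSepClosed k] [Field K]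
    [IsSepClosed K] (i : k →+* K) (X : Scheme.{u}) (a : X ⟶ Spec (CommRingCat.of k)) [IsProper a]
    [EtCoh.BCCont (pullback.fst a (Spec.map (CommRingCat.ofHom i)))]
    (F : EtCoh.Ab X) (hF : EtCoh.IsTorsion F) (q : ℕ) :
    Nonempty (EtCoh.H X F q ≃+
      EtCoh.H (pullback a (Spec.map (CommRingCat.ofHom i)))
        ((EtCoh.pull (pullback.fst a (Spec.map (CommRingCat.ofHom i)))).obj F) q) :=
  Groth.Agent.PBC51.nonempty_H_fieldExt a _ F hF q

end Groth.Agent.S0166
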