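import Mathlib
import Groth.Statements.S0170
import Groth.Agent.EtStrat51.Decomp
open scoped TensorProduct

set_option autoImplicit false
universe u
open CategoryTheory CategoryTheory.Limits AlgebraicGeometry Opposite
open EtPBC

namespace Groth.Agent.S0170

/-- For f : Y -> X quasi-finite and of finite presentation with X and Y affine, one can find an affine
X' mapping onto X such that the base change Y' = X' x_X Y contains a closed subscheme Z' with the
same underlying space (a thickening) for which the composite Z' -> Y' -> X' is finite etale. -/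
theorem result {Y X : Scheme.{u}} [IsAffine X] [IsAffine Y] (f : Y ⟶ X)
    [LocallyQuasiFinite f] [LocallyOfFinitePresentation f] :
    ∃ (X' : Scheme.{u}) (_ : IsAffine X') (a : X' ⟶ X) (_ : Surjective a) (Z' : Scheme.{u})
      (c : Z' ⟶ pullback a f) (_ : IsClosedImmersion c) (_ : Surjective c),
      IsFinite (c ≫ pullback.fst a f) ∧ Etale (c ≫ pullback.fst a f) := by
  letI : Algebra Γ(X, ⊤) Γ(Y, ⊤) := f.appTop.hom.toAlgebra
  haveI : Algebra.FinitePresentation Γ(X, ⊤) Γ(Y, ⊤) := by
    have h : f.appTop.hom.FinitePresentation := HasRingHomProperty.appTop @LocallyOfFinitePresentation f inferInstance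
    exact h
  haveI : Algebra.QuasiFinite Γ(X, ⊤) Γ(Y, ⊤) := by
    have h : f.appTop.hom.QuasiFinite := HasRingHomProperty.appTop @LocallyQuasiFinite f inferInstance
    exact h
  obtain ⟨R, _, _, Z, _, _, Ψ, hsurj, hfin, het, hΨ, hker⟩ :=
    Groth.Agent.EtStrat51.exists_decomposition (A := Γ(X, ⊤)) (B := Γ(Y, ⊤))
  let a : Spec (CommRingCat.of R) ⟶ X :=
    Spec.map (CommRingCat.ofHom (algebraMap Γ(X, ⊤) R)) ≫ X.isoSpec.inv
  haveI : Surjective (Spec.map (CommRingCat.ofHom (algebraMap Γ(X, ⊤) R))) := ⟨hsurj⟩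
  haveI : Surjective a := inferInstance
  have hf : f ≫ X.isoSpec.hom = Y.isoSpec.hom ≫ Spec.map (CommRingCat.ofHom (algebraMap Γ(X, ⊤) Γ(Y, ⊤))) := by
    exact (Scheme.isoSpec_hom_naturality f).symm
  have H := (AlgebraicGeometry.isPullback_SpecMap_of_isPushout _ _ _ _
    (CommRingCat.isPushout_tensorProduct Γ(X, ⊤) R Γ(Y, ⊤))).of_iso (Iso.refl _) (Iso.refl _)
    Y.isoSpec.symm X.isoSpec.symm
    (fst' := Spec.map (CommRingCat.ofHom (algebraMap R (R ⊗[Γ(X, ⊤)] Γ(Y, ⊤)))))
    (snd' := Spec.map (CommRingCat.ofHom (Algebra.TensorProduct.includeRight.toRingHom)) ≫ Y.isoSpec.inv)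
    (f' := a) (g' := f) (by simp) (by simp)
    (by simp [a]) (by
      rw [Iso.symm_hom, Iso.symm_hom, ← cancel_mono X.isoSpec.hom, Category.assoc, Category.assoc,
        Iso.inv_hom_id, Category.comp_id, hf, Iso.inv_hom_id_assoc])
  let ψ : Spec (CommRingCat.of Z) ⟶ Spec (CommRingCat.of (R ⊗[Γ(X, ⊤)] Γ(Y, ⊤))) :=
    Spec.map (CommRingCat.ofHom Ψ.toRingHom)
  haveI : IsClosedImmersion ψ := IsClosedImmersion.spec_of_surjective _ hΨ
  haveI : Surjective ψ := ⟨fun Q => by
    have hQ : Q ∈ Set.range (PrimeSpectrum.comap Ψ.toRingHom) := by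
      rw [range_comap_of_surjective _ _ hΨ]
      exact fun x hx => hker _ Q.2 hx
    exact hQ⟩
  refine ⟨Spec (CommRingCat.of R), inferInstance, a, inferInstance, Spec (CommRingCat.of Z),
    ψ ≫ H.isoPullback.hom, inferInstance, inferInstance, ?_⟩
  have e : (ψ ≫ H.isoPullback.hom) ≫ pullback.fst a f =
      Spec.map (CommRingCat.ofHom (algebraMap R Z)) := by
    rw [Category.assoc, H.isoPullback_hom_fst]
    simp only [Iso.refl_hom, Category.comp_id, Category.id_comp, ψ]
    rw [← Spec.map_comp]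
    congr 1
    ext r
    exact Ψ.commutes r
  rw [e]
  exact ⟨(IsFinite.SpecMap_iff _).2 (RingHom.finite_algebraMap.2 hfin),
    (HasRingHomProperty.Spec_iff (P := @Etale)).2 (RingHom.etale_algebraMap.2 het)⟩

end Groth.Agent.S0170
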