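import Groth.Statements.S0175
import Groth.Agent.Unr55.Et.ClosedPush
import Groth.Agent.Unr55.Et.Push
import Groth.Agent.Cons51.Supp
import Groth.Agent.EtCore45.Stalks

set_option autoImplicit false
universe u
open CategoryTheory CategoryTheory.Limits AlgebraicGeometry Opposite
open EtPBC
open Groth.Agent.Unr55.EtSh
set_option backward.isDefEq.respectTransparency.types false

namespace Groth.Agent.S0175


theorem pushStalk_open {U X : Scheme.{u}} (j : U ⟶ X) [IsOpenImmersion j] {Ω : Type u} [Field Ω] [IsSepClosed Ω]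
    (ξ : Spec (CommRingCat.of Ω) ⟶ U) (F : EtCoh.Ab U) : Function.Bijective (pushStalkMap j ξ F) :=
  pushStalkMap_bijective j ξ (dominated_of_isOpenImmersion j ξ) (openRefined_of_isOpenImmersion j ξ) F

theorem mem_range_of_not_mem {Z X U : Scheme.{u}} (i : Z ⟶ X) (j : U ⟶ X)
    (hZU : Set.range j = (Set.range i)ᶜ) {x : X} (h : x ∉ Set.range i) : x ∈ Set.range j := hZU.ge h

/-- Let i : Z → X be a closed immersion of schemes with open complement j : U → X, and I an injective
abelian sheaf on X_ét. Then the subsheaf H_Z(I) of sections supported on Z (the kernel of I → j_*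
j^* I), viewed on Z_ét via i^*, is an injective abelian sheaf on Z_ét. -/
theorem result {Z X U : Scheme.{u}} (i : Z ⟶ X) [IsClosedImmersion i]
    (j : U ⟶ X) [IsOpenImmersion j] (hZU : Set.range j = (Set.range i)ᶜ)
    [EtCoh.BCCont i] [EtCoh.BCCont j] (I : EtCoh.Ab X) [Injective I] :
    Injective ((EtCoh.pull i).obj (kernel ((EtCoh.pullPushAdj j).unit.app I))) := by
  set η := (EtCoh.pullPushAdj j).unit.app I with hη
  -- the kernel lives on `Z`
  have hz : ∀ (Ω : Type u) [Field Ω] [IsSepClosed Ω] (ξ : Spec (CommRingCat.of Ω) ⟶ X),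
      ξ default ∉ Set.range i → IsZero ((EtCoh.stalk ξ).obj (kernel η)) := by
    intro Ω _ _ ξ hξ
    obtain ⟨ζ, rfl⟩ : ∃ ζ, ζ ≫ j = ξ := ⟨IsOpenImmersion.lift j ξ (by
      rintro _ ⟨a, rfl⟩
      rw [Subsingleton.elim a default]
      exact mem_range_of_not_mem i j hZU hξ), IsOpenImmersion.lift_fac _ _ _⟩
    refine @AddCommGrpCat.isZero_of_subsingleton _ (subsingleton_of_forall_eq 0 fun a => ?_)
    apply (AddCommGrpCat.mono_iff_injective ((EtCoh.stalk (ζ ≫ j)).map (kernel.ι η))).1 inferInstance
    apply (unit_stalk_bijective j ζ I (pushStalk_open j ζ _)).1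
    rw [map_zero, map_zero, ← ConcreteCategory.comp_apply, ← Functor.map_comp, ← hη, kernel.condition,
      Functor.map_zero]
    rfl
  have hiso : IsIso ((EtCoh.pullPushAdj i).unit.app (kernel η)) := by
    refine isIso_of_stalks _ fun K _ _ ξ => ?_
    by_cases hξ : ξ default ∈ Set.range i
    · obtain ⟨ζ, rfl⟩ := exists_point_lift i ξ hξ
      exact unit_stalk_bijective i ζ _ (pushStalkMap_bijective_closed i ζ _)
    · have h2 := isZero_stalk_push_of_disjoint i ((EtCoh.pull i).obj (kernel η)) ξ
        i.isClosedEmbedding.isClosed_range hξ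
      exact ⟨fun a b _ => (AddCommGrpCat.subsingleton_of_isZero (hz K ξ hξ)).elim a b,
        fun b => ⟨0, (AddCommGrpCat.subsingleton_of_isZero h2).elim _ b⟩⟩
  obtain ⟨hfull, hfaith⟩ := push_closed_full_faithful i
  have : PreservesLimitsOfSize.{0, 0} (EtCoh.push i) := (EtCoh.pullPushAdj i).rightAdjoint_preservesLimits
  let e := asIso ((EtCoh.pullPushAdj i).unit.app (kernel η))
  refine ⟨fun {A B} g f hf => ?_⟩
  have : Mono ((EtCoh.push i).map f) := inferInstance
  let h := Injective.factorThru ((EtCoh.push i).map g ≫ e.inv ≫ kernel.ι η) ((EtCoh.push i).map f)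
  have hh : h ≫ η = 0 := by
    apply ((EtCoh.pullPushAdj j).homEquiv _ _).symm.injective
    have hB : IsZero ((EtCoh.pull j).obj ((EtCoh.push i).obj B)) := by
      refine EtCore45.isZero_of_stalks _ fun K _ _ ζ => ?_
      refine (isZero_stalk_push_of_disjoint i B (ζ ≫ j) i.isClosedEmbedding.isClosed_range ?_).of_iso
        ((stalkPullIso j ζ).app _)
      exact hZU.le ⟨ζ default, (Scheme.Hom.comp_apply _ _ _).symm⟩
    exact hB.eq_of_src _ _
  obtain ⟨k, hk⟩ := (EtCoh.push i).map_surjective (kernel.lift η h hh ≫ e.hom)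
  refine ⟨k, (EtCoh.push i).map_injective ?_⟩
  rw [Functor.map_comp, hk, ← Category.assoc, ← Iso.eq_comp_inv, ← cancel_mono (kernel.ι η),
    Category.assoc, kernel.lift_ι, Injective.comp_factorThru, Category.assoc]

end Groth.Agent.S0175
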