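import Groth.Statements.S0179
import Groth.Agent.Spec91.WLocal
import Mathlib.Order.Disjointed

set_option autoImplicit false
universe u
open EtPBC

namespace Groth.Agent.S0179

/-- For a spectral space X with set of closed points X_0, the following are equivalent: (1) any open
cover of X admits a refinement by finitely many pairwise disjoint open-and-closed pieces; (2) the
map from X_0 to the space of connected components pi_0(X) is a bijection. -/
theorem result (X : Type u) [TopologicalSpace X] [SpectralSpace X] :
    (∀ (ι : Type u) (U : ι → Set X), (∀ i, IsOpen (U i)) → (⋃ i, U i) = Set.univ →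
      ∃ (n : ℕ) (V : Fin n → Set X), (∀ k, IsClopen (V k)) ∧
        Pairwise (fun k l => Disjoint (V k) (V l)) ∧ (⋃ k, V k) = Set.univ ∧ ∀ k, ∃ i, V k ⊆ U i) ↔
    Function.Bijective (fun x : {x : X // IsClosed ({x} : Set X)} => _root_.ConnectedComponents.mk x.1) := by
  constructor
  · intro h
    refine ⟨fun a b hab => ?_, Groth.Agent.Spec91.surjective_closedPoints_components⟩
    by_contra hne
    obtain ⟨n, V, hV, -, hcov, href⟩ := h (ULift.{u} Bool)
      (fun i => if i.down then ({a.1} : Set X)ᶜ else ({b.1} : Set X)ᶜ)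
      (fun i => by
        rcases i with ⟨_ | _⟩
        · exact b.2.isOpen_compl
        · exact a.2.isOpen_compl)
      (Set.eq_univ_of_forall fun x => Set.mem_iUnion.2 <| by
        by_cases hx : x = a.1
        · exact ⟨⟨false⟩, fun hb => hne (Subtype.ext (hx ▸ hb))⟩
        · exact ⟨⟨true⟩, hx⟩)
    obtain ⟨k, hk⟩ := Set.mem_iUnion.1 (hcov ▸ Set.mem_univ a.1)
    have hb : b.1 ∈ V k :=
      (hV k).connectedComponent_subset hk (_root_.ConnectedComponents.coe_eq_coe'.1 hab.symm)
    obtain ⟨⟨i⟩, hi⟩ := href k
    cases i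
    · exact hi hb rfl
    · exact hi hk rfl
  · intro hbij ι U hU hcov
    have key : ∀ x : X, ∃ W : Set X, IsClopen W ∧ x ∈ W ∧ ∃ i, W ⊆ U i := by
      intro x
      obtain ⟨⟨c, hc⟩, hcx⟩ := hbij.2 (_root_.ConnectedComponents.mk x)
      obtain ⟨i, hi⟩ := Set.mem_iUnion.1 (hcov ▸ Set.mem_univ c)
      have hsub : connectedComponent x ⊆ U i := by
        intro y hy
        obtain ⟨z, hz, hyz⟩ := Groth.Agent.Spec91.exists_closed_specialization y
        have hzc : _root_.ConnectedComponents.mk z = _root_.ConnectedComponents.mk c := by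
          rw [show _root_.ConnectedComponents.mk c = _root_.ConnectedComponents.mk x from hcx,
            _root_.ConnectedComponents.coe_eq_coe']
          exact hyz.mem_closed isClosed_connectedComponent hy
        have : (⟨z, hz⟩ : {x : X // IsClosed ({x} : Set X)}) = ⟨c, hc⟩ := hbij.1 hzc
        exact hyz.mem_open (hU i) (Subtype.mk_eq_mk.1 this ▸ hi)
      obtain ⟨W, hW, hxW, hWd⟩ := Groth.Agent.Spec91.exists_isClopen_disjoint x
        (hU i).isClosed_compl.isCompact (by
          rw [← Groth.Agent.Spec91.connectedComponent_eq_iInter]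
          exact Set.disjoint_left.2 fun y hy hy' => hy (hsub hy'))
      exact ⟨W, hW, hxW, i, fun y hy => by_contra fun hne => hWd.le_bot ⟨hne, hy⟩⟩
    choose W hW hxW i hWU using key
    obtain ⟨t, ht⟩ := isCompact_univ.elim_finite_subcover W (fun x => (hW x).2)
      fun x _ => Set.mem_iUnion.2 ⟨x, hxW x⟩
    let e := t.equivFin.symm
    refine ⟨t.card, disjointed fun k => W (e k), fun k => ?_, disjoint_disjointed _, ?_,
      fun k => ⟨i (e k), (disjointed_le _ k).trans (hWU _)⟩⟩
    · exact disjointedRec (fun {s i} hs => hs.inter (hW _).compl) (hW _)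
    · rw [iUnion_disjointed]
      refine Set.eq_univ_of_forall fun x => ?_
      obtain ⟨y, hy, hxy⟩ := Set.mem_iUnion₂.1 (ht (Set.mem_univ x))
      exact Set.mem_iUnion.2 ⟨t.equivFin ⟨y, hy⟩, by simpa [e] using hxy⟩

end Groth.Agent.S0179
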