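import Groth.Statements.S0181
import Groth.Agent.Cons51.Compact

set_option autoImplicit false
universe u
open CategoryTheory CategoryTheory.Limits AlgebraicGeometry Opposite
open EtPBC

namespace Groth.Agent.S0181

/-- (2): on a quasi-compact quasi-separated X, if F = colim F_j is a filtered colimit of constructible
abelian sheaves and F is itself constructible, then the ind-object (F_j) is essentially constant
with value F: there are i and s : F -> F_i splitting F_i -> F such that for every j the transition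
F_j -> F_k, for some k beyond i and j, equals F_j -> F -> F_i -> F_k. -/
theorem result (X : Scheme.{u}) [CompactSpace X] [QuasiSeparatedSpace X]
    {J : Type u} [SmallCategory J] [IsFiltered J] (D : J ⥤ EtCoh.Ab X)
    (c : Cocone D) (hc : IsColimit c)
    (hD : ∀ j, EtPBC.IsConstructible (D.obj j)) (hF : EtPBC.IsConstructible c.pt) :
    ∃ (i : J) (s : c.pt ⟶ D.obj i), s ≫ c.ι.app i = 𝟙 c.pt ∧
      ∀ j : J, ∃ (k : J) (a : i ⟶ k) (b : j ⟶ k), D.map b = c.ι.app j ≫ s ≫ D.map a := by
  have hp := fun (G : EtCoh.Ab X) (hG : EtPBC.IsConstructible G) =>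
    haveI := Groth.Agent.Cons51.preservesColimitsOfShape_coyoneda_small hG J
    isColimitOfPreserves (coyoneda.obj (op G)) hc
  obtain ⟨i, s, hs⟩ := Types.jointly_surjective_of_isColimit (hp _ hF) (𝟙 c.pt)
  refine ⟨i, s, hs, fun j => ?_⟩
  have hs' : s ≫ c.ι.app i = 𝟙 c.pt := hs
  let a := IsFiltered.leftToMax i j
  let b := IsFiltered.rightToMax i j
  obtain ⟨k, f, hf⟩ := (Types.FilteredColimit.isColimit_eq_iff' (hp _ (hD j))
    (D.map b : D.obj j ⟶ D.obj (IsFiltered.max i j)) (c.ι.app j ≫ s ≫ D.map a)).1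
    (show D.map b ≫ c.ι.app _ = (c.ι.app j ≫ s ≫ D.map a) ≫ c.ι.app _ by
      simp only [Category.assoc, c.w, hs']; exact (Category.comp_id _).symm)
  have hf' : D.map b ≫ D.map f = (c.ι.app j ≫ s ≫ D.map a) ≫ D.map f := hf
  refine ⟨k, a ≫ f, b ≫ f, ?_⟩
  simp only [Functor.map_comp, hf', Category.assoc]

end Groth.Agent.S0181
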