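import Groth.Statements.S0183
import Groth.Agent.Germs91.Change
import Groth.Agent.Germs91.Constructible

set_option autoImplicit false
universe u
open CategoryTheory CategoryTheory.Limits AlgebraicGeometry Opposite
open EtPBC

namespace Groth.Agent.S0183

/-- Suppose A -> B identifies local rings (A_p -> B_q bijective for every prime q of B over p). Then B
can be enlarged along a faithfully flat ind-Zariski extension B' so that B' is already ind-Zariski
over A; ind-Zariski means: a filtered colimit of local isomorphisms in the sense of Mathlib's
Algebra.IsLocalIso (Zariski-locally on the source a standard open immersion). -/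
theorem result (A B : Type u) [CommRing A] [CommRing B] [Algebra A B]
    (h : EtPBC.IdentifiesLocalRings A B) :
    ∃ (B' : Type u) (_ : CommRing B') (_ : Algebra B B') (_ : Algebra A B') (_ : IsScalarTower A B B'),
      Module.FaithfullyFlat B B' ∧ EtPBC.IsIndZariski B B' ∧ EtPBC.IsIndZariski A B' := by
  obtain ⟨e⟩ := Groth.Agent.Germs91.nonempty_algEquiv_below (A := A) (Groth.Agent.Germs91.consPt B)
    (Groth.Agent.Germs91.consPt_clopen B) h
  have hS : ∀ a : A, IsOpen {t | a ∈ Groth.Agent.Germs91.pc (Groth.Agent.Germs91.below (A := A)
      (Groth.Agent.Germs91.consPt B)) t} :=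
    fun a => (Groth.Agent.Germs91.consPt_clopen B (algebraMap A B a)).2
  exact ⟨Groth.Agent.Germs91.WLoc B, inferInstance, inferInstance, inferInstance, inferInstance,
    Groth.Agent.Germs91.faithfullyFlat_wLoc B,
    Groth.Agent.Germs91.isIndZariski_germ _ (Groth.Agent.Germs91.pc_open _ (Groth.Agent.Germs91.consPt_clopen B)),
    Groth.Agent.Ind91.isIndZariski_of_algEquiv e (Groth.Agent.Germs91.isIndZariski_germ _ hS)⟩

end Groth.Agent.S0183
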