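import Groth.Statements.S0190
import Groth.Agent.Csa25.Basic
-- import your own Groth.Agent.* helpers here

set_option autoImplicit false
universe u v w
open scoped TensorProduct
open Curves

namespace Groth.Agent.S0190

/-- The tensor product of a simple algebra with a finite central simple algebra is simple. -/
theorem result (k : Type u) [Field k] (A : Type v) [Ring A] [Algebra k A]
    [IsSimpleRing A] (A' : Type w) [Ring A'] [Algebra k A']
    [Algebra.IsCentral k A'] [IsSimpleRing A'] [FiniteDimensional k A'] :
    IsSimpleRing (A ⊗[k] A') := by
  have : IsSimpleRing (A' ⊗[k] A) := Groth.Agent.Csa25.isSimpleRing_tensor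
  exact .of_ringEquiv (Algebra.TensorProduct.comm k A' A).toRingEquiv this

end Groth.Agent.S0190
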