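import Groth.Statements.S0203
import Groth.Agent.CdP50.AllPrimes

set_option autoImplicit false
universe u
open CategoryTheory CategoryTheory.Limits AlgebraicGeometry
open Curves

namespace Groth.Agent.S0203

/-- A separated finite type scheme of dimension at most one over an algebraically closed field has étale
cohomological dimension at most two for torsion abelian sheaves. -/
theorem result (k : Type u) [Field k] [IsAlgClosed k] (X : Scheme.{u})
    (f : X ⟶ Spec (CommRingCat.of k)) [IsSeparated f] [LocallyOfFiniteType f] [QuasiCompact f]
    (hdim : topologicalKrullDim X ≤ 1) : EtCoh.CohDimLE X 2 := by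
  have : IsLocallyNoetherian X := LocallyOfFiniteType.isLocallyNoetherian f
  have : CompactSpace X := QuasiCompact.compactSpace_of_compactSpace f
  have : IsNoetherian X := {}
  exact CdP50.cohDimLE_of_forall_prime (fun ℓ hℓ => CdP50.cohDimLEAt_of_finiteType f hℓ (n := 1)
    (fun G hG b hb => CdP50.cohDimLEAt_sepClosed k ℓ G hG b hb) (by exact_mod_cast hdim))

end Groth.Agent.S0203
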