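import Groth.Statements.S0215
import Groth.Agent.Crv77.Const

set_option autoImplicit false
set_option linter.style.haveILetI false
universe u
open CategoryTheory CategoryTheory.Limits AlgebraicGeometry TopologicalSpace
open Curves

namespace Groth.Agent.S0215

/-- For a connected reduced scheme locally of finite type over a field k with finitely many irreducible
components, in which every global function integral over k is a constant, the group of invertible
global functions modulo nonzero constants is finitely generated. -/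
theorem result (k : Type u) [Field k] (X : Scheme.{u}) (f : X ⟶ Spec (CommRingCat.of k))
    [LocallyOfFiniteType f] [IsReduced X] [ConnectedSpace X] (hirr : (irreducibleComponents (X : Type u)).Finite)
    (hint : ∀ x : Γ(X, ⊤), (f.appTop.hom.comp (Scheme.ΓSpecIso (CommRingCat.of k)).inv.hom).IsIntegralElem x →
      x ∈ Set.range (f.appTop.hom.comp (Scheme.ΓSpecIso (CommRingCat.of k)).inv.hom)) :
    Group.FG ((Γ(X, ⊤))ˣ ⧸ (Units.map ((f.appTop.hom.comp (Scheme.ΓSpecIso (CommRingCat.of k)).inv.hom : k →+* Γ(X, ⊤)) : k →* Γ(X, ⊤))).range) := by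
  classical
  let ρ : k →+* Γ(X, ⊤) := Crv77.constMap f
  -- one affine integral open inside each component
  have hV : ∀ Z : irreducibleComponents (X : Type u), ∃ V : X.Opens, IsAffineOpen V ∧
      (V : Set X).Nonempty ∧ (V : Set X) ⊆ (Z : Set X) := by
    rintro ⟨Z, hZ⟩
    have hZirr : IsIrreducible Z := hZ.1
    let O : Set X := (⋃ W ∈ irreducibleComponents (X : Type u) \ {Z}, W)ᶜ
    have hO : IsOpen O := ((hirr.subset Set.sdiff_subset).isClosed_biUnion fun W hW =>
      isClosed_of_mem_irreducibleComponents W hW.1).isOpen_compl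
    have hOZ : O ⊆ Z := fun p hp => by
      by_contra hpZ
      refine hp (Set.mem_iUnion₂.2 ⟨irreducibleComponent p,
        ⟨irreducibleComponent_mem_irreducibleComponents p, fun h => hpZ ?_⟩, mem_irreducibleComponent⟩)
      rw [Set.mem_singleton_iff] at h
      exact h ▸ mem_irreducibleComponent
    have hne : O.Nonempty := by
      by_contra h
      rw [Set.not_nonempty_iff_eq_empty, Set.compl_empty_iff] at h
      obtain ⟨t, ht, hZt⟩ := isIrreducible_iff_sUnion_isClosed.1 hZirr
        ((hirr.subset Set.sdiff_subset : (irreducibleComponents (X : Type u) \ {Z}).Finite).toFinset)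
        (fun W hW => by
          rw [Set.Finite.mem_toFinset] at hW
          exact isClosed_of_mem_irreducibleComponents W hW.1)
        (fun p _ => by
          obtain ⟨W, hW, hp⟩ := Set.mem_iUnion₂.1 (h.ge (Set.mem_univ p))
          exact ⟨W, (Set.Finite.mem_toFinset _).2 hW, hp⟩)
      rw [Set.Finite.mem_toFinset] at ht
      exact ht.2 (Set.Subset.antisymm (hZ.2 ht.1.1 hZt) hZt)
    obtain ⟨p, hp⟩ := hne
    obtain ⟨V, hV, hpV, hVO⟩ := exists_isAffineOpen_mem_and_subset (x := p) (U := ⟨O, hO⟩) hp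
    exact ⟨V, hV, ⟨p, hpV⟩, fun q hq => hOZ (hVO hq)⟩
  choose V hVaff hVne hVsub using hV
  have hdense : ∀ p : X, p ∈ closure (⋃ Z, (V Z : Set X)) := by
    intro p
    let Z : irreducibleComponents (X : Type u) :=
      ⟨irreducibleComponent p, irreducibleComponent_mem_irreducibleComponents p⟩
    have h : (Z : Set X) ⊆ closure (V Z : Set X) := by
      have := subset_closure_inter_of_isPreirreducible_of_isOpen Z.2.1.2 (V Z).2
        (by obtain ⟨q, hq⟩ := hVne Z; exact ⟨q, hVsub Z hq, hq⟩)
      exact this.trans (closure_mono Set.inter_subset_right)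
    exact closure_mono (Set.subset_iUnion (fun Z => (V Z : Set X)) Z) (h mem_irreducibleComponent)
  have hdom : ∀ Z, IsDomain Γ(X, V Z) := by
    intro Z
    have hirrV : IsIrreducible (V Z : Set X) := by
      refine ⟨hVne Z, fun A B hA hB ⟨a, haV, haA⟩ ⟨b, hbV, hbB⟩ => ?_⟩
      obtain ⟨c, hc, hcA, hcB⟩ := Z.2.1.2 (A ∩ (V Z : Set X)) (B ∩ (V Z : Set X))
        (hA.inter (V Z).2) (hB.inter (V Z).2)
        ⟨a, hVsub Z haV, haA, haV⟩ ⟨b, hVsub Z hbV, hbB, hbV⟩
      exact ⟨c, hcA.2, hcA.1, hcB.1⟩
    have : IrreducibleSpace (V Z).toScheme := Subtype.irreducibleSpace hirrV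
    have : IsReduced (V Z).toScheme := isReduced_of_isOpenImmersion (V Z).ι
    have := isIntegral_of_irreducibleSpace_of_isReduced (V Z).toScheme
    exact ((V Z).topIso.commRingCatIsoToRingEquiv.isDomain_iff).1 inferInstance
  let res : ∀ Z, Γ(X, ⊤) →+* Γ(X, V Z) := fun Z =>
    (X.presheaf.map (homOfLE (le_top (a := V Z))).op).hom
  have hu : ∀ Z, ∃ (ι : Type u) (_ : Finite ι) (φ : Γ(X, V Z)ˣ →* Multiplicative (ι → ℤ)),
      ∀ u, φ u = 1 → ((res Z).comp ρ).IsIntegralElem (u : Γ(X, V Z)) := by
    intro Z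
    letI : Algebra k Γ(X, V Z) := ((res Z).comp ρ).toAlgebra
    have : Algebra.FiniteType k Γ(X, V Z) := Crv77.constMap_res_finiteType f (hVaff Z)
    have := hdom Z
    exact Crv77.exists_units_hom k Γ(X, V Z)
  choose ι hι φ hφ using hu
  have := hirr.to_subtype
  have := Fintype.ofFinite (irreducibleComponents (X : Type u))
  let T := Σ Z, ι Z
  let Φ : Γ(X, ⊤)ˣ →* Multiplicative (T → ℤ) :=
    { toFun := fun u => Multiplicative.ofAdd fun t =>
        (φ t.1 (Units.map (res t.1).toMonoidHom u)).toAdd t.2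
      map_one' := by ext t; simp
      map_mul' := fun u v => by ext t; simp }
  have hker : Φ.ker ≤ (Units.map (ρ : k →* Γ(X, ⊤))).range := by
    intro u hu
    have hint : ∀ Z, ∃ q : Polynomial k, q.Monic ∧
        q.eval₂ ((res Z).comp ρ) (res Z u) = 0 := by
      intro Z
      refine hφ Z (Units.map (res Z).toMonoidHom u) ?_
      apply Multiplicative.toAdd.injective
      funext i
      exact congrFun (congrArg Multiplicative.toAdd (MonoidHom.mem_ker.1 hu)) ⟨Z, i⟩
    choose q hq hq0 using hint
    have hQ : (∏ Z, q Z).eval₂ ρ (u : Γ(X, ⊤)) = 0 := by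
      refine (AlgebraicGeometry.basicOpen_eq_bot_iff _).1 (SetLike.coe_injective ?_)
      refine Set.eq_empty_of_forall_notMem fun p hp => ?_
      obtain ⟨z, hz, hzV⟩ := mem_closure_iff.1 (hdense p) _ (X.basicOpen _).2 hp
      obtain ⟨Z, hzZ⟩ := Set.mem_iUnion.1 hzV
      have h0 : res Z ((∏ Z, q Z).eval₂ ρ (u : Γ(X, ⊤))) = 0 := by
        rw [Polynomial.hom_eval₂, Polynomial.eval₂_finsetProd]
        exact Finset.prod_eq_zero (Finset.mem_univ Z) (hq0 Z)
      have h1 : z ∈ X.basicOpen (res Z ((∏ Z, q Z).eval₂ ρ (u : Γ(X, ⊤)))) := by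
        rw [Scheme.basicOpen_res]
        exact ⟨hzZ, hz⟩
      rw [h0, Scheme.basicOpen_zero] at h1
      exact h1
    obtain ⟨c, hc⟩ := hint (u : Γ(X, ⊤))
      ⟨_, Polynomial.monic_prod_of_monic _ _ fun Z _ => hq Z, hQ⟩
    have : Nontrivial Γ(X, ⊤) := by
      obtain ⟨p⟩ : Nonempty X := inferInstance
      exact (X.Γevaluation p).hom.domain_nontrivial
    have hc0 : c ≠ 0 := by
      rintro rfl
      rw [map_zero] at hc
      exact u.ne_zero hc.symm
    exact ⟨Units.mk0 c hc0, Units.ext hc⟩
  -- the image in a lattice is finitely generated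
  have hfg : Group.FG Φ.range := by
    refine (Group.fg_iff_subgroup_fg _).2 ((Subgroup.fg_iff_add_fg _).2 ?_)
    rw [← AddSubgroup.toIntSubmodule_toAddSubgroup Φ.range.toAddSubgroup,
      ← Submodule.fg_iff_addSubgroup_fg]
    have : IsNoetherian ℤ (Additive (Multiplicative (T → ℤ))) :=
      isNoetherian_of_linearEquiv (AddEquiv.additiveMultiplicative (T → ℤ)).symm.toIntLinearEquiv
    exact IsNoetherian.noetherian _
  have := (QuotientGroup.quotientKerEquivRange Φ).symm
  have hfg' : Group.FG (Γ(X, ⊤)ˣ ⧸ Φ.ker) :=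
    Group.fg_of_surjective (f := this.toMonoidHom) this.surjective
  exact Group.fg_of_surjective (f := QuotientGroup.map Φ.ker _ (MonoidHom.id _) hker) (by
    intro a
    obtain ⟨b, rfl⟩ := QuotientGroup.mk_surjective a
    exact ⟨QuotientGroup.mk b, rfl⟩)

end Groth.Agent.S0215
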