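import Groth.Statements.S0218
import Mathlib.RingTheory.AdjoinRoot

-- import your own Groth.Agent.* helpers here

set_option autoImplicit false
universe u
open Curves

namespace Groth.Agent.S0218

/-- Over an algebraically closed field k, a commutative k-algebra with exactly two k-subalgebras is
isomorphic to k × k or to the dual numbers over k. -/
theorem result (k : Type u) [Field k] [IsAlgClosed k] (A : Type u) [CommRing A] [Algebra k A]
    (h : Nat.card (Subalgebra k A) = 2) :
    Nonempty (A ≃ₐ[k] (k × k)) ∨ Nonempty (A ≃ₐ[k] DualNumber k) := by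
  classical
  obtain ⟨s, t, hst, hst'⟩ := Nat.card_eq_two_iff.1 h
  have hall : ∀ S : Subalgebra k A, S = ⊥ ∨ S = ⊤ := by
    have hne : (⊥ : Subalgebra k A) ≠ ⊤ := by
      intro he
      have : Subsingleton (Subalgebra k A) := subsingleton_of_bot_eq_top he
      exact hst (Subsingleton.elim _ _)
    intro S
    have h2 : ∀ x : Subalgebra k A, x = s ∨ x = t := fun x => by
      have hx : x ∈ ({s, t} : Set (Subalgebra k A)) := hst' ▸ Set.mem_univ x
      simpa using hx
    rcases h2 S with r | r <;> rcases h2 ⊥ with b | b <;> rcases h2 ⊤ with c | c <;>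
      simp_all
  have hne : (⊥ : Subalgebra k A) ≠ ⊤ := fun he => by
    have : Subsingleton (Subalgebra k A) := subsingleton_of_bot_eq_top he
    exact hst (Subsingleton.elim _ _)
  obtain ⟨a, ha⟩ : ∃ a : A, a ∉ (⊥ : Subalgebra k A) := by
    by_contra hc
    push Not at hc
    exact hne (le_antisymm bot_le fun x _ => hc x)
  have hgen : ∀ x : A, x ∉ (⊥ : Subalgebra k A) → Algebra.adjoin k {x} = ⊤ := fun x hx =>
    (hall _).resolve_left fun he => hx (he ▸ Algebra.self_mem_adjoin_singleton k x)
  let φ : Polynomial k →ₐ[k] A := Polynomial.aeval a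
  have hφ : Function.Surjective φ := by
    rw [← AlgHom.range_eq_top, ← Algebra.adjoin_singleton_eq_range_aeval]
    exact hgen a ha
  obtain ⟨p, hp⟩ : ∃ p, RingHom.ker φ = Ideal.span {p} := ⟨_, (Ideal.span_singleton_generator _).symm⟩
  have hker : ∀ q, φ q = 0 ↔ p ∣ q := fun q => by
    rw [← Ideal.mem_span_singleton, ← hp, RingHom.mem_ker]
  -- `k + (image of q)` is a subalgebra
  let sub : Polynomial k → Subalgebra k A := fun q =>
    { carrier := {x | ∃ (c : k) (r : Polynomial k), x = φ (Polynomial.C c + q * r)}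
      mul_mem' := by
        rintro _ _ ⟨c, r, rfl⟩ ⟨c', r', rfl⟩
        refine ⟨c * c', Polynomial.C c * r' + r * Polynomial.C c' + q * r * r', ?_⟩
        rw [← map_mul]; congr 1; rw [map_mul]; ring
      one_mem' := ⟨1, 0, by simp⟩
      add_mem' := by
        rintro _ _ ⟨c, r, rfl⟩ ⟨c', r', rfl⟩
        exact ⟨c + c', r + r', by rw [← map_add]; congr 1; rw [map_add]; ring⟩
      zero_mem' := ⟨0, 0, by simp⟩
      algebraMap_mem' := fun c => ⟨c, 0, by simp [φ]⟩ }
  have hbot : ∀ x : A, x ∈ (⊥ : Subalgebra k A) → ∃ c : k, x = φ (Polynomial.C c) := fun x hx => by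
    obtain ⟨c, rfl⟩ := Algebra.mem_bot.1 hx
    exact ⟨c, by simp [φ]⟩
  -- no polynomial of degree two properly divides `p`
  have key : ∀ q : Polynomial k, q.natDegree = 2 → q ∣ p → p ∣ q := by
    intro q hq2 hqp
    rcases hall (sub q) with hs | hs
    · obtain ⟨c, hc⟩ := hbot (φ q) (hs ▸ (⟨0, 1, by simp⟩ : φ q ∈ sub q))
      have h1 : p ∣ q - Polynomial.C c := (hker _).1 (by rw [map_sub, hc, sub_self])
      have h2 : q ∣ Polynomial.C c := (dvd_sub_self_left (a := q)).1 (dvd_trans hqp h1)
      have : c = 0 := by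
        by_contra hc0
        have := Polynomial.natDegree_le_of_dvd h2 (by simpa using hc0)
        rw [hq2, Polynomial.natDegree_C] at this; omega
      simpa [this] using h1
    · exfalso
      obtain ⟨c, r, hcr⟩ : φ Polynomial.X ∈ sub q := hs ▸ trivial
      have h1 : p ∣ Polynomial.X - (Polynomial.C c + q * r) := (hker _).1 (by rw [map_sub, hcr, sub_self])
      have h2 : q ∣ Polynomial.X - Polynomial.C c := by
        have e : Polynomial.X - Polynomial.C c = (Polynomial.X - (Polynomial.C c + q * r)) + q * r := by ring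
        rw [e]; exact dvd_add (dvd_trans hqp h1) (dvd_mul_right q r)
      have := Polynomial.natDegree_le_of_dvd h2 (Polynomial.X_sub_C_ne_zero c)
      rw [hq2, Polynomial.natDegree_X_sub_C] at this; omega
  have hp0 : p ≠ 0 := by
    intro h0
    have := key (Polynomial.X ^ 2) (Polynomial.natDegree_X_pow 2) (h0 ▸ dvd_zero _)
    rw [h0, zero_dvd_iff] at this
    exact pow_ne_zero 2 Polynomial.X_ne_zero this
  have hp2 : 2 ≤ p.natDegree := by
    by_contra hlt
    have hdeg : (Polynomial.X %ₘ (p * Polynomial.C p.leadingCoeff⁻¹)).natDegree = 0 ∨ p.natDegree = 0 := by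
      rcases Nat.eq_zero_or_pos p.natDegree with h0 | h0
      · exact Or.inr h0
      · left
        have hm : (p * Polynomial.C p.leadingCoeff⁻¹).Monic := Polynomial.monic_mul_leadingCoeff_inv hp0
        have hd : (p * Polynomial.C p.leadingCoeff⁻¹).natDegree = p.natDegree :=
          Polynomial.natDegree_mul_C (by simpa using hp0)
        have := Polynomial.natDegree_modByMonic_lt Polynomial.X hm (fun he => by simp [he] at hd; omega)
        omega
    apply ha
    rcases hdeg with hdeg | hdeg
    · obtain ⟨c, hc⟩ := Polynomial.natDegree_eq_zero.1 hdeg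
      have : φ Polynomial.X = φ (Polynomial.C c) := by
        rw [hc]
        conv_lhs => rw [← Polynomial.modByMonic_add_div Polynomial.X (p * Polynomial.C p.leadingCoeff⁻¹)]
        rw [map_add, map_mul, map_mul, (hker p).2 dvd_rfl]; simp
      simp only [φ, Polynomial.aeval_X, Polynomial.aeval_C] at this
      exact Algebra.mem_bot.2 ⟨c, this.symm⟩
    · obtain ⟨c, hc⟩ := Polynomial.natDegree_eq_zero.1 hdeg
      have h1 : φ 1 = 0 := (hker 1).2 (by
        rw [← hc]
        exact (Polynomial.isUnit_C.2 (IsUnit.mk0 c fun h0 => hp0 (by rw [← hc, h0, map_zero]))).dvd)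
      have : Subsingleton A := subsingleton_of_zero_eq_one (by simpa using h1.symm)
      exact Algebra.mem_bot.2 ⟨0, Subsingleton.elim _ _⟩
  obtain ⟨α, hα⟩ := IsAlgClosed.exists_root p (fun hd => by
    have : p.natDegree = 0 := Polynomial.natDegree_eq_of_degree_eq_some hd
    omega)
  obtain ⟨p₁, rfl⟩ := Polynomial.dvd_iff_isRoot.2 hα
  obtain ⟨β, hβ⟩ := IsAlgClosed.exists_root p₁ (fun hd => by
    have : p₁.natDegree = 0 := Polynomial.natDegree_eq_of_degree_eq_some hd
    rw [Polynomial.natDegree_mul (Polynomial.X_sub_C_ne_zero α) (right_ne_zero_of_mul hp0),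
      Polynomial.natDegree_X_sub_C, this] at hp2
    omega)
  obtain ⟨p₂, rfl⟩ := Polynomial.dvd_iff_isRoot.2 hβ
  set q := (Polynomial.X - Polynomial.C α) * (Polynomial.X - Polynomial.C β)
  have hq2 : q.natDegree = 2 := by
    rw [Polynomial.natDegree_mul (Polynomial.X_sub_C_ne_zero α) (Polynomial.X_sub_C_ne_zero β)]; simp
  have hqp : q ∣ (Polynomial.X - Polynomial.C α) * ((Polynomial.X - Polynomial.C β) * p₂) :=
    ⟨p₂, by ring⟩
  have hpq := key q hq2 hqp
  have hkerq : ∀ r, φ r = 0 ↔ q ∣ r := fun r =>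
    ⟨fun h0 => dvd_trans hqp ((hker r).1 h0), fun hd => (hker r).2 (dvd_trans hpq hd)⟩
  have hX : ∀ (B : Type u) [CommRing B] [Algebra k B] (ψ : Polynomial k →ₐ[k] B),
      Function.Surjective ψ → (∀ r, ψ r = 0 ↔ q ∣ r) → Nonempty (A ≃ₐ[k] B) := by
    intro B _ _ ψ hψ hk
    have e1 := Ideal.quotientKerAlgEquivOfSurjective hφ
    have e2 := Ideal.quotientKerAlgEquivOfSurjective hψ
    have : RingHom.ker φ = RingHom.ker ψ := Ideal.ext fun r => by
      rw [RingHom.mem_ker, RingHom.mem_ker, hk, hkerq]
    exact ⟨e1.symm.trans ((Ideal.quotientEquivAlgOfEq k this).trans e2)⟩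
  by_cases hαβ : α = β
  · right
    refine hX (DualNumber k) (Polynomial.aeval (algebraMap k (DualNumber k) α + DualNumber.eps)) ?_ ?_
    · intro z
      refine ⟨Polynomial.C z.fst + Polynomial.C z.snd * (Polynomial.X - Polynomial.C α), ?_⟩
      ext <;> simp [TrivSqZeroExt.algebraMap_eq_inl]
    · intro r
      have hq : q = (Polynomial.X - Polynomial.C α) ^ 2 := by rw [sq]; simp [q, hαβ]
      rw [hq]
      set L := Polynomial.X - Polynomial.C α
      have hLm : L.Monic := Polynomial.monic_X_sub_C α
      have hL2 : (L ^ 2).Monic := hLm.pow 2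
      have hev : Polynomial.aeval (algebraMap k (DualNumber k) α + DualNumber.eps) (L ^ 2) = 0 := by
        simp [L, sq]
      constructor
      · intro h0
        rw [← Polynomial.modByMonic_eq_zero_iff_dvd hL2]
        have hd : (r %ₘ L ^ 2).degree ≤ 1 := by
          have h1 := Polynomial.degree_modByMonic_lt r hL2
          rw [Polynomial.degree_pow, Polynomial.degree_X_sub_C] at h1
          refine (Polynomial.natDegree_le_iff_degree_le (n := 1)).1 ?_
          by_cases h0 : r %ₘ L ^ 2 = 0
          · simp [h0]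
          · have := (Polynomial.natDegree_lt_iff_degree_lt h0).2 (show (r %ₘ L ^ 2).degree < ((2 : ℕ) : WithBot ℕ) by simpa using h1)
            omega
        have h2 : Polynomial.aeval (algebraMap k (DualNumber k) α + DualNumber.eps) (r %ₘ L ^ 2) = 0 := by
          rw [← Polynomial.modByMonic_add_div r (L ^ 2), map_add, map_mul, hev, zero_mul, add_zero] at h0
          exact h0
        rw [Polynomial.eq_X_add_C_of_degree_le_one hd] at h2 ⊢
        have hf := congr_arg TrivSqZeroExt.fst h2
        have hs := congr_arg TrivSqZeroExt.snd h2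
        simp [TrivSqZeroExt.algebraMap_eq_inl] at hf hs
        simp [hs] at hf
        simp [hf, hs]
      · rintro ⟨r', rfl⟩
        rw [map_mul, hev, zero_mul]
  · left
    refine hX (k × k) (Polynomial.aeval (α, β)) ?_ ?_
    · intro z
      have hne : α - β ≠ 0 := sub_ne_zero.2 hαβ
      refine ⟨Polynomial.C ((z.1 - z.2) / (α - β)) * (Polynomial.X - Polynomial.C β) + Polynomial.C z.2, ?_⟩
      ext <;> simp [Polynomial.aeval_prod_apply]
      field_simp
      ring
    · intro r
      rw [Polynomial.aeval_prod_apply, Prod.ext_iff]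
      simp only [Prod.fst_zero, Prod.snd_zero, Polynomial.coe_aeval_eq_eval]
      constructor
      · rintro ⟨h1, h2⟩
        exact IsCoprime.mul_dvd (Polynomial.isCoprime_X_sub_C_of_isUnit_sub (sub_ne_zero.2 hαβ).isUnit)
          (Polynomial.dvd_iff_isRoot.2 h1) (Polynomial.dvd_iff_isRoot.2 h2)
      · rintro ⟨r', rfl⟩
        simp [q]

end Groth.Agent.S0218
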