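import Groth.Statements.S0219
import Groth.Agent.Crv77.Basic
import Mathlib.AlgebraicGeometry.ZariskisMainTheorem

set_option autoImplicit false
universe u
open CategoryTheory CategoryTheory.Limits AlgebraicGeometry TopologicalSpace
open Curves

namespace Groth.Agent.S0219

/-- A morphism over a field from a proper scheme of dimension at most one to a separated scheme, which
does not contract any one-dimensional irreducible component to a point, is finite. -/
theorem result (k : Type u) [Field k] (X Y : Scheme.{u}) (p : X ⟶ Spec (CommRingCat.of k)) (q : Y ⟶ Spec (CommRingCat.of k))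
    [IsProper p] [IsSeparated q] (f : X ⟶ Y) (hf : f ≫ q = p) (hdim : topologicalKrullDim X ≤ 1)
    (h : ∀ Z ∈ irreducibleComponents (X : Type u), topologicalKrullDim Z = 1 → (f.base '' Z).Nontrivial) :
    IsFinite f := by
  have : IsProper (f ≫ q) := hf.symm ▸ (inferInstance : IsProper p)
  have : IsProper f := IsProper.of_comp f q
  have : IsLocallyNoetherian X := LocallyOfFiniteType.isLocallyNoetherian p
  have : CompactSpace X := QuasiCompact.compactSpace_of_compactSpace p
  have : IsNoetherian X := {}
  have hfin : ∀ y, (f ⁻¹' {y}).Finite := by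
    intro y
    have hcomp : (irreducibleComponents (X : Type u)).Finite :=
      TopologicalSpace.NoetherianSpace.finite_irreducibleComponents
    refine (hcomp.biUnion (t := fun Z => f ⁻¹' {y} ∩ Z) fun Z hZ => ?_).subset fun x hx =>
      Set.mem_biUnion (irreducibleComponent_mem_irreducibleComponents x)
        ⟨hx, mem_irreducibleComponent⟩
    have hZc : IsClosed Z := isClosed_of_mem_irreducibleComponents Z hZ
    obtain ⟨ζ, hζ⟩ := QuasiSober.sober hZ.1 hZc
    by_cases hall : f ⁻¹' {y} ∩ Z ⊆ {ζ}
    · exact (Set.finite_singleton ζ).subset hall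
    obtain ⟨z, ⟨hzy, hzZ⟩, hzζ⟩ := Set.not_subset.1 hall
    have hzζ' : z ≠ ζ := hzζ
    have hzs : ζ ⤳ z := hζ.specializes hzZ
    have hcl : IsClosed ({y} : Set Y) := by
      have := f.isClosedMap _ (Crv77.isClosed_singleton_of_generalization hdim hzs hzζ')
      rwa [Set.image_singleton, show f z = y from hzy] at this
    refine Crv77.finite_of_isClosed hdim ((hcl.preimage f.continuous).inter hZc) fun w hw =>
      ⟨ζ, hζ.specializes hw.2, fun hwζ => ?_⟩
    have hdim1 : topologicalKrullDim Z = 1 := by
      refine le_antisymm ((Topology.IsInducing.subtypeVal.topologicalKrullDim_le).trans hdim) ?_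
      let e : Z → TopologicalSpace.IrreducibleCloseds Z := fun y =>
        ⟨closure {y}, isIrreducible_singleton.closure, isClosed_closure⟩
      have hlt : e ⟨z, hzZ⟩ < e ⟨ζ, hζ.mem⟩ := by
        refine lt_of_le_of_ne (Specializes.closure_subset ?_) fun he => hzζ' (congrArg Subtype.val
          (Inseparable.eq (inseparable_iff_closure_eq.2 (congrArg SetLike.coe he))))
        exact (subtype_specializes_iff _ _).2 hzs
      exact Order.LTSeries.length_le_krullDim ((RelSeries.singleton _ (e ⟨z, hzZ⟩)).snoc (e ⟨ζ, hζ.mem⟩) (by simpa using hlt))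
    obtain ⟨a, ⟨ua, hua, rfl⟩, b, ⟨ub, hub, rfl⟩, hab⟩ := h Z hZ hdim1
    have key : ∀ u ∈ Z, f u = y := fun u hu => by
      have h2 : f ζ ⤳ f u := (hζ.specializes hu).map f.continuous
      rw [show f ζ = y from hwζ ▸ hw.1] at h2
      exact hcl.closure_eq.le (specializes_iff_mem_closure.1 h2)
    exact hab ((key ua hua).trans (key ub hub).symm)
  have : LocallyQuasiFinite f := LocallyQuasiFinite.of_finite_preimage_singleton f hfin
  exact IsFinite.of_isProper_of_locallyQuasiFinite f

end Groth.Agent.S0219
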