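import Groth.Statements.S0220
import Groth.Agent.Crv77.Basic
import Groth.Agent.FlatMor68.DedekindFlat

set_option autoImplicit false
universe u
open CategoryTheory CategoryTheory.Limits AlgebraicGeometry TopologicalSpace
open Curves

namespace Groth.Agent.S0220

/-- A nonconstant morphism between curves over a field (integral, separated, finite type, dimension one)
whose target has integrally closed local domains is flat. -/
theorem result (k : Type u) [Field k] (X Y : Scheme.{u}) (p : X ⟶ Spec (CommRingCat.of k)) (q : Y ⟶ Spec (CommRingCat.of k))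
    [IsIntegral X] [IsIntegral Y] [IsSeparated p] [IsSeparated q] [LocallyOfFiniteType p] [LocallyOfFiniteType q]
    [QuasiCompact p] [QuasiCompact q] (hX : topologicalKrullDim X = 1) (hY : topologicalKrullDim Y = 1)
    (hN : ∀ y : Y, IsDomain (Y.presheaf.stalk y) ∧ IsIntegrallyClosed (Y.presheaf.stalk y))
    (f : X ⟶ Y) (hf : f ≫ q = p) (hnc : (Set.range f.base).Nontrivial) :
    Flat f := by
  have : IsLocallyNoetherian Y := LocallyOfFiniteType.isLocallyNoetherian q
  have e : f (genericPoint X) = genericPoint Y := by
    by_contra he
    obtain ⟨a, ⟨ua, rfl⟩, b, ⟨ub, rfl⟩, hab⟩ := hnc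
    have key : ∀ u : X, f u = f (genericPoint X) := fun u =>
      (Crv77.isClosed_singleton hY.le he).closure_eq.le
        (specializes_iff_mem_closure.1 ((genericPoint_specializes u).map f.continuous))
    exact hab ((key ua).trans (key ub).symm)
  refine (FlatMor68.DedekindFlat.flat_iff_nzd f fun y => ?_).2 fun x a ha s hs => ?_
  · have := (hN y).2
    exact ⟨(hN y).1, (Crv77.valuationRing_stalk hY.le y).1⟩
  · rcases mul_eq_zero.1 hs with h0 | h0
    · exact absurd (Crv77.stalkMap_injective f e x (h0.trans (map_zero _).symm)) ha
    · exact h0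

end Groth.Agent.S0220
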