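import Groth.Statements.S0226
import Groth.Agent.Ega11.RegLocal
import Mathlib.RingTheory.DiscreteValuationRing.TFAE

-- import your own Groth.Agent.* helpers here

set_option autoImplicit false
universe u
open Curves

namespace Groth.Agent.S0226

open IsLocalRing



/-- In a regular local ring of dimension two, an ideal inside the maximal ideal with reduced quotient is
zero, the maximal ideal, or principal. -/
theorem result (A : Type u) [CommRing A] [IsRegularLocalRing A] (hdim : ringKrullDim A = 2)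
    (I : Ideal A) (hI : I ≤ IsLocalRing.maximalIdeal A) [IsReduced (A ⧸ I)] :
    I = ⊥ ∨ I = IsLocalRing.maximalIdeal A ∨ ∃ f ∈ IsLocalRing.maximalIdeal A, f ≠ 0 ∧ I = Ideal.span {f} := by
  by_cases hI0 : I = ⊥
  · exact Or.inl hI0
  by_cases hIm : I = IsLocalRing.maximalIdeal A
  · exact Or.inr (Or.inl hIm)
  refine Or.inr (Or.inr ?_)
  have hdom : IsDomain A := Groth.Agent.Ega11.RegLocal.isDomain A
  set m := maximalIdeal A with hm
  have hrad : I.IsRadical := (Ideal.isRadical_iff_quotient_reduced I).2 inferInstance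
  have hmin : (I.minimalPrimes).Finite := Ideal.finite_minimalPrimes_of_isNoetherianRing A I
  have hm2 : ¬ m ≤ m ^ 2 := by
    intro h
    have hbot : m = ⊥ := Submodule.eq_bot_of_le_smul_of_le_jacobson_bot m m (IsNoetherian.noetherian m)
      (by rwa [smul_eq_mul, ← pow_two]) (maximalIdeal_le_jacobson ⊥)
    have hz := ringKrullDim_eq_zero_of_isField (IsLocalRing.isField_iff_maximalIdeal_eq.2 hbot)
    rw [hdim] at hz
    norm_num at hz
  have hne : ∀ P ∈ I.minimalPrimes, ¬ m ≤ P := by
    intro P hP hmP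
    apply hIm
    have hPm : P = m := le_antisymm (le_maximalIdeal hP.1.1.ne_top) hmP
    refine le_antisymm hI ?_
    rw [← hrad.radical, Ideal.radical_eq_sInf]
    refine le_sInf fun Q hQ => ?_
    exact (hPm ▸ hP).2 ⟨hQ.2, hQ.1⟩ (le_maximalIdeal hQ.2.ne_top)
  obtain ⟨x, hxm, hx2, hxP⟩ : ∃ x ∈ m, x ∉ m ^ 2 ∧ ∀ P ∈ I.minimalPrimes, x ∉ P := by
    by_contra hall
    push Not at hall
    classical
    let S : Finset (Ideal A) := insert (m ^ 2) hmin.toFinset
    have hsub : (m : Set A) ⊆ ⋃ P ∈ (↑S : Set (Ideal A)), (P : Set A) := by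
      intro x hx
      by_cases hx2 : x ∈ m ^ 2
      · exact Set.mem_biUnion (x := m ^ 2) (by simp [S]) hx2
      · obtain ⟨P, hP, hxP⟩ := hall x hx hx2
        exact Set.mem_biUnion (x := P) (by simp [S, hP]) hxP
    obtain ⟨P, hP, hmP⟩ := (Ideal.subset_union_prime (s := S) (f := id) (m ^ 2) (m ^ 2) (by
      intro P hP h1 _
      rcases Finset.mem_insert.1 hP with rfl | hP
      · exact absurd rfl h1
      · exact ((Set.Finite.mem_toFinset _).1 hP).1.1)).1 (by simpa using hsub)
    rcases Finset.mem_insert.1 hP with rfl | hP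
    · exact hm2 hmP
    · exact hne P ((Set.Finite.mem_toFinset _).1 hP) hmP
  obtain ⟨hreg, hd1⟩ := Groth.Agent.Ega11.RegLocal.regular_quotient hxm hx2
  set D := A ⧸ Ideal.span {x}
  have : IsDomain D := Groth.Agent.Ega11.RegLocal.isDomain D
  have hD1 : ringKrullDim D = 1 := by
    rw [hdim] at hd1
    generalize ringKrullDim D = d at hd1
    induction d with
    | bot => simp at hd1
    | coe d =>
      have h : d + 1 = 2 := WithBot.coe_injective hd1
      have : d = 1 := by
        induction d using ENat.recTopCoe with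
        | top => simp at h
        | coe a =>
          have h' : a + 1 = 2 := by exact_mod_cast h
          have : a = 1 := by omega
          rw [this]; rfl
      rw [this]; rfl
  have hpr : IsPrincipalIdealRing D := by
    have hsf := IsRegularLocalRing.spanFinrank_maximalIdeal (R := D)
    rw [hD1] at hsf
    have hsp : (maximalIdeal D).spanFinrank = 1 := by exact_mod_cast hsf
    obtain ⟨g, hg⟩ := ((Submodule.spanFinrank_eq_one_iff (maximalIdeal D)).1 hsp).1
    exact ((tfae_of_isNoetherianRing_of_isLocalRing_of_isDomain (R := D)).out 4 0 :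
      (maximalIdeal D).IsPrincipal ↔ IsPrincipalIdealRing D).1 ⟨⟨g, hg⟩⟩
  obtain ⟨fbar, hf⟩ := (hpr.principal (I.map (Ideal.Quotient.mk (Ideal.span {x})))).1
  obtain ⟨f, hfI, hff⟩ : ∃ f ∈ I, Ideal.Quotient.mk (Ideal.span {x}) f = fbar :=
    (Ideal.mem_map_iff_of_surjective _ Ideal.Quotient.mk_surjective).1
      (hf ▸ Submodule.mem_span_singleton_self fbar)
  have hsat : ∀ a, x * a ∈ I → a ∈ I := by
    intro a ha
    rw [← hrad.radical, Ideal.radical_eq_sInf]
    have hmem : ∀ P ∈ I.minimalPrimes, a ∈ P := fun P hP =>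
      (hP.1.1.mem_or_mem (hP.1.2 ha)).resolve_left (hxP P hP)
    refine Submodule.mem_sInf.2 fun Q hQ => ?_
    have := hQ.2
    obtain ⟨P, hP, hPQ⟩ := Ideal.exists_minimalPrimes_le hQ.1
    exact hPQ (hmem P hP)
  have hle : I ≤ Ideal.span {f} ⊔ m • I := by
    intro i hi
    have : Ideal.Quotient.mk (Ideal.span {x}) i ∈ Ideal.span {fbar} := by
      have h := Ideal.mem_map_of_mem (Ideal.Quotient.mk (Ideal.span {x})) hi
      rw [hf] at h
      exact h
    obtain ⟨c, hc⟩ := Ideal.mem_span_singleton'.1 this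
    obtain ⟨c, rfl⟩ := Ideal.Quotient.mk_surjective c
    rw [← hff, ← map_mul, Ideal.Quotient.mk_eq_mk_iff_sub_mem] at hc
    obtain ⟨d, hd⟩ := Ideal.mem_span_singleton.1 hc
    have hdI : d ∈ I := hsat d (hd ▸ I.sub_mem (I.mul_mem_left _ hfI) hi)
    rw [show i = c * f + (-(x * d)) by rw [← hd]; ring]
    exact Submodule.add_mem_sup (Ideal.mem_span_singleton'.2 ⟨c, rfl⟩)
      (neg_mem (Submodule.smul_mem_smul hxm hdI))
  have hIf : I = Ideal.span {f} := le_antisymm
    (Submodule.le_of_le_smul_of_le_jacobson_bot (IsNoetherian.noetherian I) (maximalIdeal_le_jacobson ⊥) hle)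
    ((Ideal.span_singleton_le_iff_mem _).2 hfI)
  exact ⟨f, hI hfI, fun h0 => hI0 (by rw [hIf, h0, Ideal.span_singleton_zero]), hIf⟩

end Groth.Agent.S0226
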