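import Groth.Statements.S0232
import Groth.Agent.S7671
import Groth.Agent.Crv77.H0Count
import Groth.Agent.RigDesc25.Classes

set_option autoImplicit false
universe u
open CategoryTheory CategoryTheory.Limits AlgebraicGeometry
open Curves

set_option backward.isDefEq.respectTransparency false

namespace Groth.Agent.S0232

/-- For a quasi-compact quasi-separated scheme X over a field k with finite-dimensional H^0(X, O_X), an
invertible module on X that becomes trivial after base change to a field extension k' is already
trivial (injectivity of Pic(X) → Pic(X_{k'}), stated on classes without a group structure). The base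
change is given as any pullback square. -/
theorem result (k : Type u) [Field k] (X : Scheme.{u}) [X.Over (Spec (CommRingCat.of k))]
    [CompactSpace X] [QuasiSeparatedSpace X]
    (hfin : Module.Finite k (Coh.HH X (Coh.structureModule X) 0))
    (k' : Type u) [Field k'] [Algebra k k'] (X' : Scheme.{u}) (g : X' ⟶ X) (q : X' ⟶ Spec (CommRingCat.of k'))
    (hpb : IsPullback g q (X ↘ Spec (CommRingCat.of k)) (Spec.map (CommRingCat.ofHom (algebraMap k k'))))
    (L : X.Modules) (hL : PicF.IsInvertible L) (htriv : PicF.IsTrivialCl (PicF.pullCl g (PicF.cl L))) :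
    PicF.IsTrivialCl (PicF.cl L) := by
  open Groth.Agent in
  let b := Spec.map (CommRingCat.ofHom (algebraMap k k'))
  let p := X ↘ Spec (CommRingCat.of k)
  obtain ⟨e₁⟩ := RigDesc25.nonempty_iso_of_cl htriv
  let φ := hpb.isoPullback
  have hg : φ.inv ≫ g = pullback.fst p b := IsPullback.isoPullback_inv_fst hpb
  have htriv' : Nonempty ((Scheme.Modules.pullback (pullback.fst p b)).obj L ≅ Coh.structureModule (pullback p b)) := by
    refine ⟨eqToIso (by rw [hg]) ≪≫ ((Scheme.Modules.pullbackComp φ.inv g).app L).symm ≪≫
      (Scheme.Modules.pullback φ.inv).mapIso e₁ ≪≫ PicLoc.pullbackStructureIso φ.inv⟩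
  have hsl : Finite (MaximalSpectrum Γ(X, ⊤)) := by
    let := Crv77.topAlg k X
    have : Module.Finite k Γ(X, ⊤) := Module.Finite.equiv (Crv77.secAlg k X)
    have : IsArtinianRing Γ(X, ⊤) := IsArtinianRing.of_finite k _
    infer_instance
  obtain ⟨e⟩ := S7671.result k k' X p hsl L hL htriv'
  exact Quot.sound ⟨e⟩

end Groth.Agent.S0232
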