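import Groth.Statements.S0235
import Groth.Agent.Amp73.Gen
import Groth.Agent.Mero90.Triv
import Mathlib.AlgebraicGeometry.Morphisms.QuasiFinite

set_option autoImplicit false
universe u
open CategoryTheory CategoryTheory.Limits AlgebraicGeometry TopologicalSpace
open Curves Groth.Agent Groth.Agent.Var76.LineBundle

namespace Groth.Agent.S0235

lemma exists_frame_nhds {X : Scheme.{u}} {L : X.Modules} (hL : PicF.IsInvertible L) {W : X.Opens}
    (m : Γ(L, W)) (y : W) (hy : Mero90.IsGen (L.presheaf.germ W y.1 y.2 m)) :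
    ∃ (V : X.Opens) (hV : V ≤ W), y.1 ∈ V ∧ IsFrame L V (res L hV m) := by
  obtain ⟨U, hyU, e, he⟩ := Mero90.exists_frame' hL y.1
  obtain ⟨c, hc⟩ := (he (U ⊓ W) inf_le_left).2 (res L inf_le_right m)
  have hyO : y.1 ∈ U ⊓ W := ⟨hyU, y.2⟩
  have hgerm : L.presheaf.germ W y.1 y.2 m =
      X.presheaf.germ (U ⊓ W) y.1 hyO c • L.presheaf.germ U y.1 hyU e := by
    have := congrArg (L.presheaf.germ (U ⊓ W) y.1 hyO) hc
    rw [Mero.germ_smul, TopCat.Presheaf.germ_res_apply, TopCat.Presheaf.germ_res_apply] at this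
    exact this.symm
  have hcu : IsUnit (X.presheaf.germ (U ⊓ W) y.1 hyO c) := by
    obtain ⟨p, hp⟩ := hy.2 (L.presheaf.germ U y.1 hyU e)
    dsimp only at hp
    rw [hgerm, smul_smul] at hp
    exact IsUnit.of_mul_eq_one p ((Mero90.isGen_germ he ⟨y.1, hyU⟩).1 (by
      dsimp only
      rw [one_smul, mul_comm]
      exact hp))
  have hle : X.basicOpen c ≤ U ⊓ W := X.basicOpen_le c
  refine ⟨X.basicOpen c, hle.trans inf_le_right, (X.mem_basicOpen c y.1 hyO).mpr hcu, ?_⟩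
  have h1 : res L (hle.trans inf_le_right) m = Var76.ZeroScheme.fres hle c • res L (hle.trans inf_le_left) e := by
    have := congrArg (res L hle) hc
    dsimp only at this
    rw [res_smul, res_res, res_res] at this
    exact this.symm
  rw [h1]
  exact (Amp73.isFrame_smul_iff (he.res (hle.trans inf_le_left)) _).2
    (RingedSpace.isUnit_res_basicOpen _ c)

/-- For a finite morphism π : X → Y and an invertible module L on X, every point y of Y has an open
neighbourhood V such that L is trivial on the preimage of V. -/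
theorem result {X Y : Scheme.{u}} (π : X ⟶ Y) [IsFinite π]
    (L : X.Modules) (hL : PicF.IsInvertible L) (y : Y) :
    ∃ V : Y.Opens, y ∈ V ∧ Nonempty (L.restrict (π ⁻¹ᵁ V).ι ≅ Coh.structureModule (↑(π ⁻¹ᵁ V))) := by
  classical
  obtain ⟨V₀, hV₀, hyV₀, -⟩ := exists_isAffineOpen_mem_and_subset
    (x := y) (U := (⊤ : Y.Opens)) trivial
  have hW : IsAffineOpen (π ⁻¹ᵁ V₀) := hV₀.preimage π
  have hfin : (π ⁻¹' {y}).Finite := π.finite_preimage_singleton y
  obtain ⟨m, hm⟩ := Mero90.exists_gen_finite hL hW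
    ((hfin.preimage Subtype.val_injective.injOn).toFinset)
  let G : X.Opens := ⨆ x : {x : ↥(π ⁻¹ᵁ V₀) // Mero90.IsGen (L.presheaf.germ _ x.1 x.2 m)},
    (exists_frame_nhds hL m x.1 x.2).choose
  have hGle : G ≤ π ⁻¹ᵁ V₀ := iSup_le fun x => (exists_frame_nhds hL m x.1 x.2).choose_spec.1
  have hfib : ∀ x : X, π x = y → x ∈ G := by
    intro x hx
    have hxW : x ∈ π ⁻¹ᵁ V₀ := by
      show π x ∈ V₀
      rw [hx]; exact hyV₀
    have hgen := hm ⟨x, hxW⟩ ((Set.Finite.mem_toFinset _).2 (show π x ∈ ({y} : Set Y) from hx))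
    exact Opens.mem_iSup.2 ⟨⟨⟨x, hxW⟩, hgen⟩,
      (exists_frame_nhds hL m ⟨x, hxW⟩ hgen).choose_spec.2.1⟩
  let V : Y.Opens := V₀ ⊓ ⟨(π '' (G : Set X)ᶜ)ᶜ,
    (π.isClosedMap _ G.2.isClosed_compl).isOpen_compl⟩
  refine ⟨V, ⟨hyV₀, fun ⟨x, hx, hxy⟩ => hx (hfib x hxy)⟩, ?_⟩
  have hVG : π ⁻¹ᵁ V ≤ G := fun x hx => by_contra fun h => hx.2 ⟨x, h, rfl⟩
  have hframe : IsFrame L G (res L hGle m) := by
    refine Amp73.isFrame_of_locally _ fun x hx => ?_
    obtain ⟨i, hi⟩ := Opens.mem_iSup.1 hx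
    obtain ⟨h1, h2, h3⟩ := (exists_frame_nhds hL m i.1 i.2).choose_spec
    refine ⟨_, le_iSup (fun j : {x : ↥(π ⁻¹ᵁ V₀) // Mero90.IsGen (L.presheaf.germ _ x.1 x.2 m)} =>
      (exists_frame_nhds hL m j.1 j.2).choose) i, hi, ?_⟩
    rw [res_res]
    exact h3
  exact EGA73.nonempty_restrict_iso_unit L _ _ (hframe.res hVG)

end Groth.Agent.S0235
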