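import Groth.Statements.S0253
import Groth.Agent.SepCl83.Basic

set_option autoImplicit false
universe u
open Pi1

namespace Groth.Agent.S0253

open AlgebraicGeometry CategoryTheory CategoryTheory.Limits in
/-- Let A be an integrally closed domain whose fraction field is separably closed. Then the residue
field at any nonzero prime ideal of A is algebraically closed. -/
theorem result (A : Type u) [CommRing A] [IsDomain A] [IsIntegrallyClosed A] [IsSepClosed (FractionRing A)]
    (p : Ideal A) [p.IsPrime] (hp : p ≠ ⊥) : IsAlgClosed p.ResidueField := by
  let Ap := Localization.AtPrime p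
  have hle : p.primeCompl ≤ nonZeroDivisors A := p.primeCompl_le_nonZeroDivisors
  have : IsIntegrallyClosed Ap := isIntegrallyClosed_of_isLocalization Ap p.primeCompl hle
  let : Algebra Ap (FractionRing A) :=
    IsLocalization.localizationAlgebraOfSubmonoidLe Ap (FractionRing A) p.primeCompl
      (nonZeroDivisors A) hle
  have : IsScalarTower A Ap (FractionRing A) :=
    IsLocalization.localization_isScalarTower_of_submonoid_le Ap (FractionRing A) p.primeCompl
      (nonZeroDivisors A) hle
  have : IsFractionRing Ap (FractionRing A) :=
    IsFractionRing.isFractionRing_of_isDomain_of_isLocalization p.primeCompl Ap (FractionRing A)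
  have : IsDomain Ap := IsLocalization.isDomain_localization hle
  refine Groth.Agent.SepCl83.isAlgClosed_residueField (A := Ap) (FractionRing A) fun h ↦ hp ?_
  rw [← Localization.AtPrime.under_maximalIdeal (I := p), h]
  exact Ideal.comap_bot_of_injective _ (IsLocalization.injective Ap hle)

end Groth.Agent.S0253
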