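import Groth.Statements.S0263
import Groth.Agent.FEt83.DepthSections

set_option autoImplicit false
universe u
open Pi1

namespace Groth.Agent.S0263

set_option backward.isDefEq.respectTransparency.types false in
open AlgebraicGeometry CategoryTheory CategoryTheory.Limits in
/-- Let A be a Noetherian local ring of depth at least 2 and V a finite étale cover of the punctured
spectrum of A which is isomorphic to the restriction of some finite étale cover of Spec A. Then the
ring of global sections Γ(V, O_V) is finite and étale over A, via the ring map A → Γ(V, O_V) induced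
by the composite V → Spec A. (Only this implication of the published statement is asserted here; its
converse is not.) -/
theorem result (A : Type u) [CommRing A] [IsNoetherianRing A] [IsLocalRing A] (hA : (2 : ℕ∞) ≤ LocCoh.depth A A)
    (V : FEt.Cat (FEt.puncturedSpec A : Scheme.{u}))
    (hV : ∃ Y : FEt.Cat (Spec (CommRingCat.of A)),
      Nonempty ((FEt.restrict (FEt.puncturedSpec A).ι).obj Y ≅ V)) :
    ((Scheme.ΓSpecIso (CommRingCat.of A)).inv ≫ (V.hom ≫ (FEt.puncturedSpec A).ι).appTop).hom.Finite ∧
    ((Scheme.ΓSpecIso (CommRingCat.of A)).inv ≫ (V.hom ≫ (FEt.puncturedSpec A).ι).appTop).hom.Etale := by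
  obtain ⟨Y, ⟨e⟩⟩ := hV
  have : IsFinite Y.hom := Y.prop.1
  have : Etale Y.hom := Y.prop.2
  let j := pullback.fst Y.hom (FEt.puncturedSpec A).ι
  have hstalk : ∀ x, x ∉ FEt.puncturedSpec A → (2 : ℕ∞) ≤ LocCoh.depth
      ((Spec (CommRingCat.of A)).presheaf.stalk x) ((Spec (CommRingCat.of A)).presheaf.stalk x) := by
    intro x hx
    obtain rfl : x = IsLocalRing.closedPoint A := not_not.mp hx
    exact hA.trans (Groth.Agent.FEt83.depth_stalk_closedPoint A).ge
  have : IsLocallyNoetherian Y.left :=
    @LocallyOfFiniteType.isLocallyNoetherian _ (Spec (CommRingCat.of A)) Y.hom inferInstance inferInstance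
  have hj : Function.Bijective j.appTop := by
    have key := @Groth.Agent.FEt83.appTop_bijective_of_depth Y.left _ ‹_› j inferInstance
    refine key fun y hy => ?_
    refine (hstalk _ fun hU => hy ?_).trans (@Groth.Agent.FEt83.depth_stalk_of_etale (Spec (CommRingCat.of A)) Y.left inferInstance Y.hom inferInstance y).ge
    obtain ⟨z, hz⟩ := Groth.Agent.FEt83.exists_point Y (f := (FEt.puncturedSpec A).ι) (y := y)
      (x := ⟨Y.hom y, hU⟩) rfl
    exact ⟨z, hz⟩
  have hw : V.hom ≫ (FEt.puncturedSpec A).ι = e.inv.left ≫ j ≫ Y.hom := by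
    simp only [j]
    refine Eq.trans ?_ (congrArg (e.inv.left ≫ ·) (pullback.condition (f := Y.hom) (g := (FEt.puncturedSpec A).ι)).symm)
    refine Eq.trans ?_ (Category.assoc _ _ _)
    exact congrArg (· ≫ (FEt.puncturedSpec A).ι) (Groth.Agent.FEt83.w_left e.inv).symm
  have he : IsIso e.inv.left :=
    ⟨e.hom.left, congrArg (fun k => k.left) e.inv_hom_id, congrArg (fun k => k.left) e.hom_inv_id⟩
  have hb : Function.Bijective (j.appTop ≫ e.inv.left.appTop) := by
    have : IsIso e.inv.left.appTop := inferInstanceAs (IsIso (e.inv.left.app ⊤))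
    exact (ConcreteCategory.bijective_of_isIso e.inv.left.appTop).comp hj
  obtain ⟨hfin, het⟩ := Groth.Agent.FEt83.finite_etale_app Y.prop
    (isAffineOpen_top (Spec (CommRingCat.of A)))
  have hi := ConcreteCategory.bijective_of_isIso (Scheme.ΓSpecIso (CommRingCat.of A)).inv
  rw [hw, Scheme.Hom.comp_appTop, Scheme.Hom.comp_appTop, Category.assoc (Scheme.Hom.appTop Y.hom)]
  constructor
  · exact (RingHom.Finite.comp (RingHom.Finite.of_surjective _ hb.2) hfin).comp
      (RingHom.Finite.of_surjective _ hi.2)
  · exact RingHom.Etale.stableUnderComposition _ _ (RingHom.Etale.of_bijective hi)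
      (RingHom.Etale.stableUnderComposition _ _ het (RingHom.Etale.of_bijective hb))

end Groth.Agent.S0263
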