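import Groth.Statements.S0264
import Groth.Agent.FEt83.FullFaithful

set_option autoImplicit false
universe u
open Pi1

namespace Groth.Agent.S0264

open AlgebraicGeometry CategoryTheory CategoryTheory.Limits in
/-- Functor form of the surjectivity part of the homotopy exact sequence: Let f : X -> S be flat, proper
and locally of finite presentation with S connected, such that for every algebraically closed field
Ω and every geometric point Spec Ω -> S the fibre X ×_S Spec Ω is connected and reduced. Then the
restriction functor FEt.restrict f, pulling back finite etale covers along f, is full and faithful. -/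
theorem result {X S : Scheme.{u}} (f : X ⟶ S) [IsProper f] [Flat f] [LocallyOfFinitePresentation f]
    [ConnectedSpace S]
    (hfib : ∀ (Ω : Type u) [Field Ω] [IsAlgClosed Ω] (s : Spec (CommRingCat.of Ω) ⟶ S),
      ConnectedSpace ↥(pullback f s) ∧ IsReduced (pullback f s)) :
    (FEt.restrict f).Full ∧ (FEt.restrict f).Faithful := by
  have hsurj : ∀ s : S, s ∈ Set.range f := fun s => by
    let t : Spec (CommRingCat.of (AlgebraicClosure (S.residueField s))) ⟶ S :=
      Spec.map (CommRingCat.ofHom (algebraMap (S.residueField s) (AlgebraicClosure (S.residueField s)))) ≫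
        S.fromSpecResidueField s
    obtain ⟨z⟩ := (hfib _ t).1.toNonempty
    refine ⟨pullback.fst f t z, ?_⟩
    rw [← Scheme.Hom.comp_apply, pullback.condition, Scheme.Hom.comp_apply]
    exact S.fromSpecResidueField_apply s _
  have hm : FEt83.MeetsClopens f := FEt83.meetsClopens_of_components fun x =>
    ⟨x, mem_connectedComponent, hsurj x⟩
  have hl : FEt83.LiftsClopens f := by
    intro Y C₀ hC
    let pr := pullback.fst Y.hom f
    haveI : IsProper pr := MorphismProperty.pullback_fst _ _ ‹IsProper f›
    have hfibre : ∀ z, _root_.IsPreconnected (pr ⁻¹' {z}) ∧ (pr ⁻¹' {z}).Nonempty := fun z => by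
      let t : Spec (CommRingCat.of (AlgebraicClosure (Y.left.residueField z))) ⟶ Y.left :=
        Spec.map (CommRingCat.ofHom (algebraMap (Y.left.residueField z) (AlgebraicClosure (Y.left.residueField z)))) ≫
          Y.left.fromSpecResidueField z
      have h1 : IsPullback (pullback.fst pr t ≫ pullback.snd Y.hom f) (pullback.snd pr t) f (t ≫ Y.hom) :=
        (IsPullback.of_hasPullback pr t).paste_horiz (IsPullback.of_hasPullback Y.hom f).flip
      haveI := (hfib _ (t ≫ Y.hom)).1
      haveI : ConnectedSpace ↥(pullback pr t) :=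
        h1.isoPullback.inv.homeomorph.surjective.connectedSpace h1.isoPullback.inv.continuous
      have ht : Set.range t = {z} := by
        refine Set.Subset.antisymm ?_ ?_
        · rintro _ ⟨p, rfl⟩
          exact Y.left.fromSpecResidueField_apply z _
        · intro z' hz'
          obtain ⟨p⟩ : Nonempty (Spec (CommRingCat.of (AlgebraicClosure (Y.left.residueField z)))) := ⟨(⊥ : PrimeSpectrum _)⟩
          exact ⟨p, (Y.left.fromSpecResidueField_apply z _).trans (Set.mem_singleton_iff.1 hz').symm⟩
      have hr : Set.range (pullback.fst pr t) = pr ⁻¹' {z} := by rw [Scheme.Pullback.range_fst, ht]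
      rw [← hr]
      exact ⟨(isConnected_range (pullback.fst pr t).continuous).isPreconnected, Set.range_nonempty _⟩
    have hsat : ∀ z, pr ⁻¹' {z} ⊆ C₀ ∨ pr ⁻¹' {z} ⊆ C₀ᶜ := fun z => by
      by_contra hcon
      rw [not_or, Set.not_subset, Set.not_subset] at hcon
      obtain ⟨⟨a, ha, ha'⟩, b, hb, hb'⟩ := hcon
      exact ha' ((hfibre z).1.subset_isClopen hC ⟨b, hb, not_not.1 hb'⟩ ha)
    refine ⟨pr '' C₀, ⟨pr.isClosedMap _ hC.1, ?_⟩, ?_⟩
    · have : (pr '' C₀)ᶜ = pr '' C₀ᶜ := by
        ext z
        refine ⟨fun h => ?_, ?_⟩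
        · obtain ⟨w, hw⟩ := (hfibre z).2
          exact ⟨w, fun h' => h ⟨w, h', hw⟩, hw⟩
        · rintro ⟨w, hw, rfl⟩ ⟨v, hv, hvw⟩
          rcases hsat (pr w) with h' | h'
          · exact hw (h' rfl)
          · exact h' hvw hv
      rw [← isClosed_compl_iff, this]
      exact pr.isClosedMap _ hC.2.isClosed_compl
    · ext w
      refine ⟨?_, fun h => ⟨w, h, rfl⟩⟩
      rintro ⟨v, hv, hvw⟩
      rcases hsat (pr w) with h' | h'
      · exact h' rfl
      · exact absurd hv (h' hvw)
  exact ⟨FEt83.full_of_lifts hm hl, FEt83.faithful_of_meets hm⟩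

end Groth.Agent.S0264
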