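import Groth.Statements.S0265
import Groth.Agent.FEt83.ConnOfFF
import Groth.Agent.Unr55.Rigid
import Groth.Agent.Stein58.SteinFactor
import Groth.Agent.S0264
import Groth.Agent.S3701
import Groth.Agent.S7179

set_option autoImplicit false
universe u
open Pi1

namespace Groth.Agent.S0265

open AlgebraicGeometry CategoryTheory CategoryTheory.Limits in
set_option backward.isDefEq.respectTransparency.types false in
/-- A finite etale map with connected source having a section is an isomorphism. -/
theorem isIso_of_section {P Q : Scheme.{u}} (p : P ⟶ Q) [IsFinite p] [Etale p] [ConnectedSpace P]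
    [Nonempty Q] (σ : Q ⟶ P) (h : σ ≫ p = 𝟙 Q) : IsIso p := by
  obtain ⟨W, hW, hmem, hcl⟩ := Unr55.exists_eqLocus p (p ≫ σ) (𝟙 P) (by
    rw [Category.assoc, h, Category.comp_id, Category.id_comp])
  have hr : Set.range σ ⊆ W := hmem σ (by rw [reassoc_of% h, Category.comp_id])
  have htop : W = ⊤ := TopologicalSpace.Opens.ext
    (IsClopen.eq_univ ⟨hcl inferInstance, W.2⟩ ((Set.range_nonempty _).mono hr))
  subst htop
  exact ⟨σ, (cancel_epi (Scheme.topIso P).hom).mp hW, h⟩


open AlgebraicGeometry CategoryTheory CategoryTheory.Limits in
/-- (Exactness of the homotopy sequence of etale fundamental groups at the middle term, in functor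
form.) Let f : X -> S be flat, proper and of finite presentation with connected reduced geometric
fibres, S connected. If Y is a connected finite etale cover of X which admits a section over some
geometric fibre of f, then Y is isomorphic to the pullback along f of a finite etale cover of S. -/
theorem result {X S : Scheme.{u}} (f : X ⟶ S) [IsProper f] [Flat f] [LocallyOfFinitePresentation f]
    [ConnectedSpace S]
    (hfib : ∀ (Ω : Type u) [Field Ω] [IsAlgClosed Ω] (s : Spec (CommRingCat.of Ω) ⟶ S),
      ConnectedSpace ↥(pullback f s) ∧ IsReduced (pullback f s))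
    (Y : FEt.Cat X) [ConnectedSpace Y.left] (Ω : Type u) [Field Ω] [IsAlgClosed Ω]
    (s : Spec (CommRingCat.of Ω) ⟶ S) (σ : pullback f s ⟶ Y.left)
    (hσ : σ ≫ Y.hom = pullback.fst f s) :
    (FEt.restrict f).essImage Y := by
  let g : Y.left ⟶ S := Y.hom ≫ f
  have : IsProper g := MorphismProperty.comp_mem (W := @IsProper) _ _ inferInstance inferInstance
  have : Flat g := MorphismProperty.comp_mem (W := @Flat) _ _ inferInstance inferInstance
  have : LocallyOfFinitePresentation g :=
    MorphismProperty.comp_mem (W := @LocallyOfFinitePresentation) _ _ inferInstance inferInstance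
  have hred : ∀ (K : Type u) [Field K] [IsAlgClosed K] (t : Spec (CommRingCat.of K) ⟶ S),
      IsReduced (pullback g t) := fun K _ _ t => by
    let a : pullback g t ⟶ pullback f t := pullback.map g t f t Y.hom (𝟙 _) (𝟙 _) (by simp [g]) (by simp)
    have hsq : IsPullback (pullback.fst g t) a Y.hom (pullback.fst f t) := by
      refine IsPullback.of_bot ?_ (pullback.lift_fst _ _ _).symm (IsPullback.of_hasPullback f t)
      rw [pullback.lift_snd, Category.comp_id]
      exact IsPullback.of_hasPullback g t
    have : Etale a := MorphismProperty.of_isPullback hsq (inferInstanceAs (Etale Y.hom))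
    have := (hfib K t).2
    exact S7179.result a
  obtain ⟨hfin, het⟩ := S3701.result g hred
  let h := g.fromNormalization
  let T : FEt.Cat S := MorphismProperty.Over.mk ⊤ h ⟨hfin, het⟩
  let θ : Y.left ⟶ pullback h f := pullback.lift g.toNormalization Y.hom (by simp [h, g])
  have hθfst : θ ≫ pullback.fst h f = g.toNormalization := pullback.lift_fst _ _ _
  have hθsnd : θ ≫ pullback.snd h f = Y.hom := pullback.lift_snd _ _ _
  have hθ : FEt.prop θ := by
    have h1 : FEt.prop (θ ≫ pullback.snd h f) := by rw [hθsnd]; exact Y.prop
    exact MorphismProperty.of_postcomp (W := FEt.prop.{u}) (W' := FEt.prop.{u}) θ (pullback.snd h f)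
      (MorphismProperty.pullback_snd (P := FEt.prop.{u}) _ _ T.prop) h1
  have : IsFinite θ := hθ.1
  have : Etale θ := hθ.2
  have : GeometricallyConnected g.toNormalization := Stein58.geometricallyConnected_toNormalization g
  -- the intermediate cover is connected
  have : ConnectedSpace g.normalization := by
    have hd : DenseRange g.toNormalization := IsDominant.denseRange
    have hc : _root_.IsConnected (closure (Set.range g.toNormalization)) :=
      (isConnected_range g.toNormalization.continuous).closure
    rw [hd.closure_range] at hc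
    exact connectedSpace_iff_univ.mpr hc
  let q := pullback.fst h f
  have : IsProper q := MorphismProperty.pullback_fst _ _ ‹_›
  have : Flat q := MorphismProperty.pullback_fst _ _ ‹_›
  have : LocallyOfFinitePresentation q := MorphismProperty.pullback_fst _ _ ‹_›
  have hfib' : ∀ (K : Type u) [Field K] [IsAlgClosed K] (t : Spec (CommRingCat.of K) ⟶ g.normalization),
      ConnectedSpace ↥(pullback q t) ∧ IsReduced (pullback q t) := fun K _ _ t => by
    have h1 : IsPullback (pullback.fst q t ≫ pullback.snd h f) (pullback.snd q t) f (t ≫ h) :=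
      (IsPullback.of_hasPullback q t).paste_horiz (IsPullback.of_hasPullback h f).flip
    have := (hfib K (t ≫ h)).1
    have := (hfib K (t ≫ h)).2
    exact ⟨h1.isoPullback.inv.homeomorph.surjective.connectedSpace h1.isoPullback.inv.continuous,
      isReduced_of_isOpenImmersion h1.isoPullback.hom⟩
  have : ConnectedSpace ↥(pullback h f) := FEt83.connectedSpace_of_ff q (S0264.result q hfib')
  -- a geometric point of the fibre
  obtain ⟨z⟩ := (hfib Ω s).1.toNonempty
  let κ := (pullback f s).residueField z
  let K := AlgebraicClosure κ
  let zK : Spec (CommRingCat.of K) ⟶ pullback f s :=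
    Spec.map (CommRingCat.ofHom (algebraMap κ K)) ≫ (pullback f s).fromSpecResidueField z
  let sK : Spec (CommRingCat.of K) ⟶ S := zK ≫ pullback.snd f s ≫ s
  let Xs := pullback f sK
  have : ConnectedSpace ↥Xs := (hfib K sK).1
  let cK : Xs ⟶ pullback f s := pullback.lift (pullback.fst f sK) (pullback.snd f sK ≫ zK ≫ pullback.snd f s) (by
    simp only [Category.assoc]; exact pullback.condition)
  let σK : Xs ⟶ Y.left := cK ≫ σ
  have hσK : σK ≫ Y.hom = pullback.fst f sK := by
    rw [Category.assoc, hσ, pullback.lift_fst]
  let rK : Spec (CommRingCat.of K) ⟶ Xs := pullback.lift (zK ≫ pullback.fst f s) (𝟙 _) (by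
    simp only [Category.assoc, Category.id_comp, sK, pullback.condition])
  let s' : Spec (CommRingCat.of K) ⟶ g.normalization := rK ≫ σK ≫ g.toNormalization
  have hs' : s' ≫ h = sK := by
    simp only [s', h, Category.assoc, Scheme.Hom.toNormalization_fromNormalization, g, reassoc_of% hσK]
    rw [pullback.condition, pullback.lift_snd_assoc, Category.id_comp]
  -- the section lies over the constant point
  have hrig : σK ≫ g.toNormalization = pullback.snd f sK ≫ s' := by
    have w : (σK ≫ g.toNormalization) ≫ h = (pullback.snd f sK ≫ s') ≫ h := by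
      simp only [h, Category.assoc, Scheme.Hom.toNormalization_fromNormalization, g, reassoc_of% hσK]
      rw [pullback.condition, hs']
    obtain ⟨W, hW, hmem, hcl⟩ := Unr55.exists_eqLocus h _ _ w
    have hrW : Set.range rK ⊆ W := hmem rK (by rw [pullback.lift_snd_assoc, Category.id_comp])
    have htop : W = ⊤ := TopologicalSpace.Opens.ext
      (IsClopen.eq_univ ⟨hcl inferInstance, W.2⟩ ((Set.range_nonempty _).mono hrW))
    subst htop
    exact (cancel_epi (Scheme.topIso Xs).hom).mp hW
  let Ys := pullback g.toNormalization s'
  have : ConnectedSpace ↥Ys := by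
    exact GeometricallyConnected.connectedSpace_of_subsingleton (pullback.snd g.toNormalization s')
  let j : Xs ⟶ pullback h f := pullback.lift (pullback.snd f sK ≫ s') (pullback.fst f sK) (by
    rw [Category.assoc, hs', pullback.condition])
  let θs : Ys ⟶ Xs := pullback.lift (pullback.fst _ _ ≫ Y.hom) (pullback.snd _ _) (by
    rw [Category.assoc, ← hs', ← pullback.condition_assoc]
    simp [h, g])
  have hsqj : IsPullback j (pullback.snd f sK) q s' := by
    refine IsPullback.of_right (h₁₂ := pullback.snd h f) (v₁₃ := f) (h₂₂ := h) ?_
      (pullback.lift_fst _ _ _) (IsPullback.of_hasPullback h f).flip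
    rw [pullback.lift_snd, hs']
    exact IsPullback.of_hasPullback f sK
  have hsqθ : IsPullback (pullback.fst g.toNormalization s') θs θ j := by
    refine IsPullback.of_bot ?_ ?_ hsqj
    · rw [pullback.lift_snd, hθfst]
      exact IsPullback.of_hasPullback g.toNormalization s'
    · apply pullback.hom_ext
      · rw [Category.assoc, hθfst, Category.assoc, pullback.lift_fst, pullback.condition]
        rw [pullback.lift_snd_assoc]
      · rw [Category.assoc, hθsnd, Category.assoc, pullback.lift_snd, pullback.lift_fst]
  have : IsFinite θs := MorphismProperty.of_isPullback hsqθ ‹IsFinite θ›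
  have : Etale θs := MorphismProperty.of_isPullback hsqθ ‹Etale θ›
  have : Nonempty ↥Xs := ⟨rK default⟩
  have : IsIso θs := isIso_of_section θs (pullback.lift σK (pullback.snd f sK) hrig) (by
    apply pullback.hom_ext
    · rw [Category.assoc, pullback.lift_fst, pullback.lift_fst_assoc, hσK, Category.id_comp]
    · rw [Category.assoc, pullback.lift_snd, pullback.lift_snd, Category.id_comp])
  have : IsIso θ := by
    rw [Scheme.Hom.isIso_iff_finrank_eq]
    funext x
    have hc := (Scheme.Hom.isLocallyConstant_finrank θ).apply_eq_of_isPreconnected isPreconnected_univ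
      (Set.mem_univ x) (Set.mem_univ (j (rK default)))
    rw [hc, ← Scheme.Hom.finrank_of_isPullback (f := θ) (g := j) (pullback.fst g.toNormalization s') θs hsqθ,
      Scheme.Hom.finrank_eq_one_of_isIso]
    rfl
  have hI : IsIso θ := this
  exact ⟨T, ⟨(MorphismProperty.Over.isoMk (@asIso _ _ _ _ θ hI) hθsnd : Y ≅ (FEt.restrict f).obj T).symm⟩⟩

end Groth.Agent.S0265
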