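import Groth.Statements.S0267
import Groth.Agent.GalCat83.Whisker

set_option autoImplicit false
universe u v
open Pi1

namespace Groth.Agent.S0267

open CategoryTheory CategoryTheory.Limits in
/-- For an exact functor H between Galois categories, H is fully faithful exactly when it carries
connected objects to connected objects (both are equivalent to surjectivity of the induced map on
fundamental groups). -/
theorem result {C : Type u} [Category.{v} C]
    [GaloisCategory C] {D : Type u} [Category.{v} D] [GaloisCategory D]
    (H : C ⥤ D) [PreservesFiniteLimits H] [PreservesFiniteColimits H] :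
    (H.Full ∧ H.Faithful) ↔
      ∀ X : C, PreGaloisCategory.IsConnected X → PreGaloisCategory.IsConnected (H.obj X) := by
  let F' := PreGaloisCategory.GaloisCategory.getFiberFunctor D
  have : PreservesFiniteLimits (H ⋙ F') := comp_preservesFiniteLimits H F'
  have : PreservesFiniteCoproducts (H ⋙ F') :=
    ⟨fun n ↦ comp_preservesColimitsOfShape H F'⟩
  have : (H ⋙ F').PreservesEpimorphisms := ⟨fun f hf ↦ F'.map_epi (H.map f)⟩
  obtain ⟨e⟩ := Groth.Agent.GalCat83.nonempty_iso_of_nonempty_galois
    (F := PreGaloisCategory.GaloisCategory.getFiberFunctor C) (F' := H ⋙ F') fun A hA ↦ by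
      have : PreGaloisCategory.IsConnected A := hA.toIsConnected
      exact Groth.Agent.GalCat83.nonempty_of_preservesEpimorphisms A
  have := Groth.Agent.GalCat83.fiberFunctor_ofIso e.symm
  exact Groth.Agent.GalCat83.full_faithful_iff_preservesConnected H F'

end Groth.Agent.S0267
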