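import Groth.Statements.S0269
import Groth.Agent.FEt83.FieldSplit

set_option autoImplicit false
universe u
open Pi1

namespace Groth.Agent.S0269

set_option backward.isDefEq.respectTransparency.types false in
open AlgebraicGeometry CategoryTheory CategoryTheory.Limits Groth.Agent.FEt83 in
/-- Functor form of the injectivity of pi_1(X_{kbar}) -> pi_1(X): Let X be quasi-compact and
quasi-separated over a field k with X_{kbar} connected. Every finite etale cover of X_{kbar} admits
an open and closed immersion, over X_{kbar}, into the base change of some finite etale cover of X. -/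
theorem result (k : Type u) [Field k] {X : Scheme.{u}} (f : X ⟶ Spec (CommRingCat.of k)) [CompactSpace X]
    [QuasiSeparatedSpace X]
    [ConnectedSpace ↥(pullback f (Spec.map (CommRingCat.ofHom (algebraMap k (AlgebraicClosure k)))))]
    (V : FEt.Cat (pullback f (Spec.map (CommRingCat.ofHom (algebraMap k (AlgebraicClosure k)))))) :
    ∃ (U : FEt.Cat X) (ι : V ⟶ (FEt.restrict (pullback.fst f (Spec.map (CommRingCat.ofHom (algebraMap k (AlgebraicClosure k)))))).obj U),
      IsOpenImmersion ι.left ∧ IsClosedImmersion ι.left := by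
  have : IsFinite V.hom := V.prop.1
  have : Etale V.hom := V.prop.2
  obtain ⟨L, _, _, _, _, e, VL, v, hv, h1, h2, ⟨φ⟩⟩ := exists_separable_stage f V
  let U : FEt.Cat X := MorphismProperty.Over.mk ⊤ (VL.hom ≫ pullback.fst f _)
    (FEt.prop.{u}.comp_mem _ _ VL.prop (isFinite_etale_fst f L).2)
  let p := pullback.fst f (toBar k)
  let a : pullback VL.hom e ⟶ pullback U.hom p :=
    pullback.lift (pullback.fst VL.hom e) (pullback.snd VL.hom e) (by
      show pullback.fst VL.hom e ≫ VL.hom ≫ pullback.fst f _ = pullback.snd VL.hom e ≫ pullback.fst f _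
      rw [← Category.assoc, pullback.condition, Category.assoc, h1])
  have : Mono a := ⟨fun g g' hh => pullback.hom_ext
    ((congrArg (g ≫ ·) (pullback.lift_fst _ _ _).symm).trans ((Category.assoc _ _ _).symm.trans
      ((congrArg (· ≫ pullback.fst U.hom p) hh).trans ((Category.assoc _ _ _).trans
        (congrArg (g' ≫ ·) (pullback.lift_fst _ _ _))))))
    ((congrArg (g ≫ ·) (pullback.lift_snd _ _ _).symm).trans ((Category.assoc _ _ _).symm.trans
      ((congrArg (· ≫ pullback.snd U.hom p) hh).trans ((Category.assoc _ _ _).trans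
        (congrArg (g' ≫ ·) (pullback.lift_snd _ _ _))))))⟩
  let r : (FEt.restrict e).obj VL ⟶ (FEt.restrict p).obj U :=
    MorphismProperty.Over.homMk a (pullback.lift_snd _ _ _)
  have : IsIso φ.inv.left :=
    ⟨φ.hom.left, congrArg (fun q => q.left) φ.inv_hom_id, congrArg (fun q => q.left) φ.hom_inv_id⟩
  have : Mono r.left := ‹Mono a›
  have : Mono (φ.inv ≫ r).left := inferInstanceAs (Mono (φ.inv.left ≫ r.left))
  obtain ⟨_, _⟩ := isFinite_left (φ.inv ≫ r)
  exact ⟨U, φ.inv ≫ r, IsOpenImmersion.of_flat_of_mono _,
    (IsClosedImmersion.iff_isFinite_and_mono _).mpr ⟨inferInstance, inferInstance⟩⟩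

end Groth.Agent.S0269
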