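import Groth.Statements.S0270
import Groth.Agent.FEt83.FieldSplit

set_option autoImplicit false
universe u
open Pi1

namespace Groth.Agent.S0270

set_option backward.isDefEq.respectTransparency.types false in
open AlgebraicGeometry CategoryTheory CategoryTheory.Limits Groth.Agent.FEt83 in
/-- (Exactness of the homotopy sequence of etale fundamental groups at pi_1(X), in functor form.) Let X
be quasi-compact and quasi-separated over a field k with X_{kbar} connected, kbar an algebraic
closure of k. If a finite etale cover U of X becomes completely split (a disjoint union of copies of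
X_{kbar}) after base change to kbar, then there are a finite etale k-scheme V and an X-morphism from
V x_k X to U which is surjective. -/
theorem result (k : Type u) [Field k] {X : Scheme.{u}} (f : X ⟶ Spec (CommRingCat.of k)) [CompactSpace X]
    [QuasiSeparatedSpace X]
    [ConnectedSpace ↥(pullback f (Spec.map (CommRingCat.ofHom (algebraMap k (AlgebraicClosure k)))))]
    (U : FEt.Cat X) (hU : Pi1.IsSplit ((FEt.restrict (pullback.fst f (Spec.map (CommRingCat.ofHom (algebraMap k (AlgebraicClosure k)))))).obj U)) :
    ∃ (V : FEt.Cat (Spec (CommRingCat.of k))) (e : (FEt.restrict f).obj V ⟶ U), Surjective e.left := by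
  obtain ⟨ι, _, e, he⟩ := hU
  let p := pullback.fst f (toBar k)
  let s : ι → (pullback f (toBar k) ⟶ U.left) := fun i =>
    Sigma.ι (fun _ : ι => pullback f (toBar k)) i ≫ e.inv ≫ pullback.fst U.hom p
  have hs : ∀ i, s i ≫ U.hom = p := fun i => by
    have h := congrArg (· ≫ p) (he i)
    simp only [Category.assoc, Category.id_comp] at h
    simp only [s, Category.assoc]
    exact (congrArg (fun q => Sigma.ι (fun _ : ι => pullback f (toBar k)) i ≫ e.inv ≫ q)
      pullback.condition).trans h
  choose A T c hc using fun i => exists_constant_hom f U (s i) (hs i)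
  have := preservesFiniteColimits_restrict f
  have : Fintype ι := Fintype.ofFinite ι
  let hcol := isColimitOfHasCoproductOfPreservesColimit (FEt.restrict f) A
  let E := Cofan.IsColimit.desc hcol T
  refine ⟨∐ A, E, ⟨fun y => ?_⟩⟩
  have : Surjective (toBar k) := specMap_surjective_field _
  have : Surjective p := MorphismProperty.pullback_fst (P := @Surjective) _ _ inferInstance
  obtain ⟨x, hx⟩ := p.surjective (U.hom y)
  obtain ⟨z, hz⟩ := exists_point U hx.symm
  obtain ⟨i, w, hw⟩ := (sigmaOpenCover fun _ : ι => pullback f (toBar k)).exists_eq (e.hom z)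
  have hy : s i w = y := by
    have hw' : e.inv (Sigma.ι (fun _ : ι => pullback f (toBar k)) i w) = z :=
      (congrArg e.inv hw).trans ((Scheme.Hom.comp_apply e.hom e.inv z).symm.trans
        congr($(e.hom_inv_id) z))
    show (Sigma.ι _ i ≫ e.inv ≫ pullback.fst U.hom p) w = y
    exact (Scheme.Hom.comp_apply _ _ _).trans ((Scheme.Hom.comp_apply _ _ _).trans
      ((congrArg (pullback.fst U.hom p) hw').trans hz))
  let m := (FEt.restrict f).map (Sigma.ι A i) ≫ E
  have hm : m = T i := Cofan.IsColimit.fac hcol T i
  refine ⟨((FEt.restrict f).map (Sigma.ι A i)).left (c i w), ?_⟩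
  have h2 : m.left (c i w) = y := by
    rw [hm, ← hy, ← hc i, Scheme.Hom.comp_apply]
  exact (Scheme.Hom.comp_apply _ _ _).symm.trans h2

end Groth.Agent.S0270
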