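import Groth.Statements.S0273
import Groth.Agent.Pure83.SmoothDepthPurity

set_option autoImplicit false
universe u
open Pi1

namespace Groth.Agent.S0273

open AlgebraicGeometry CategoryTheory CategoryTheory.Limits in
/-- Let f : X -> S be smooth with S Noetherian and U an open of X such that U contains the whole fibre
over every point of S whose local ring has depth at most 1, and U is dense in every fibre. Then
restricting finite etale covers from X to U is an equivalence of categories. -/
theorem result {X S : Scheme.{u}} (f : X ⟶ S) [Smooth f] [IsNoetherian S] (U : X.Opens)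
    (h3 : ∀ s : S, LocCoh.depth (S.presheaf.stalk s) (S.presheaf.stalk s) ≤ 1 → f.base ⁻¹' {s} ⊆ (U : Set X))
    (h4 : ∀ s : S, f.base ⁻¹' {s} ⊆ closure ((U : Set X) ∩ f.base ⁻¹' {s})) :
    (FEt.restrict U.ι).IsEquivalence := by
  refine Pure83.isEquivalence_of_smooth_depth_two f U (fun x hx => ?_) fun x hx => ?_
  · have h : ¬ LocCoh.depth (S.presheaf.stalk (f x)) (S.presheaf.stalk (f x)) ≤ 1 := fun h => hx (h3 _ h rfl)
    simpa [one_add_one_eq_two] using Order.add_one_le_of_lt (not_le.mp h)
  · have : Smooth (f.fiberToSpecResidueField (f x)) :=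
      inferInstanceAs (Smooth (pullback.snd f (S.fromSpecResidueField (f x))))
    have : IsLocallyNoetherian (f.fiber (f x)) :=
      LocallyOfFiniteType.isLocallyNoetherian (f.fiberToSpecResidueField (f x))
    obtain ⟨n, hn⟩ := CAlg9.CIT.exists_dim_eq (CInt.fiberStalk f x)
    by_contra hc
    have h0 : ringKrullDim ((f.fiber (f x)).presheaf.stalk (f.asFiber x)) = 0 := by
      have hn0 : n = 0 := by
        by_contra hne
        exact hc (by rw [hn]; exact_mod_cast Nat.one_le_iff_ne_zero.mpr hne)
      subst hn0
      exact hn.trans Nat.cast_zero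
    refine hx ?_
    rw [← f.fiberι_asFiber x]
    refine Pure83.mem_of_mem_closure_of_dim_zero ((f.fiberι (f x)) ⁻¹ᵁ U) (f.asFiber x) ?_ h0
    have hemb := (f.fiberι (f x)).isEmbedding
    rw [hemb.closure_eq_preimage_closure_image]
    rw [Set.mem_preimage, f.fiberι_asFiber x]
    refine closure_mono ?_ (h4 (f x) rfl)
    rintro y ⟨hyU, hy⟩
    obtain ⟨w, rfl⟩ : y ∈ Set.range (f.fiberι (f x)) := by rw [f.range_fiberι]; exact hy
    exact ⟨w, hyU, rfl⟩

end Groth.Agent.S0273
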