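import Groth.Statements.S0286
import Mathlib.FieldTheory.IsPerfectClosure
import Groth.Agent.S0289

set_option autoImplicit false
universe u
open Pi1

namespace Groth.Agent.S0286

set_option backward.isDefEq.respectTransparency.types false in
open AlgebraicGeometry CategoryTheory CategoryTheory.Limits in
/-- For a scheme X over a field k of characteristic p (p a prime), pulling back finite étale covers
along the projection X ×_{Spec k} Spec(k^perf) → X, where k^perf is the perfect closure of k, is an
equivalence of categories. -/
theorem result (k : Type u) [Field k] (p : ℕ) [Fact p.Prime] [CharP k p] {X : Scheme.{u}}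
    (f : X ⟶ Spec (CommRingCat.of k)) :
    (FEt.restrict (pullback.fst f
      (Spec.map (CommRingCat.ofHom (PerfectClosure.of k p))))).IsEquivalence := by
  let i := PerfectClosure.of k p
  have hint : IsIntegralHom (Spec.map (CommRingCat.ofHom i)) := by
    rw [IsIntegralHom.SpecMap_iff]
    intro x
    obtain ⟨n, y, hy⟩ := IsPRadical.pow_mem i p x
    refine ⟨Polynomial.X ^ (p ^ n) - Polynomial.C y, Polynomial.monic_X_pow_sub_C y
      (pow_pos (Fact.out : p.Prime).pos n).ne', ?_⟩
    simp [i, ← hy]
  have : UniversallyInjective (Spec.map (CommRingCat.ofHom i)) := by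
    refine ((tfae_universallyInjective (Spec.map (CommRingCat.ofHom i))).out 0 1).mpr ?_
    intro K _ g₁ g₂ h
    obtain ⟨a, rfl⟩ := Spec.map_surjective g₁
    obtain ⟨b, rfl⟩ := Spec.map_surjective g₂
    replace h := Spec.map_injective ((Spec.map_comp _ _).trans (h.trans (Spec.map_comp _ _).symm))
    congr 1
    ext x
    obtain ⟨n, y, hy⟩ := IsPRadical.pow_mem i p x
    have : CharP K p := charP_of_injective_ringHom (a.hom.comp i).injective p
    refine iterateFrobenius_inj K p n ?_
    rw [iterateFrobenius_def, iterateFrobenius_def, ← map_pow, ← map_pow, ← hy]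
    exact congr($h y)
  have : Surjective (Spec.map (CommRingCat.ofHom i)) :=
    ⟨fun x => ⟨(inferInstance : Nonempty (Spec (CommRingCat.of (PerfectClosure k p)))).some,
      Subsingleton.elim (α := PrimeSpectrum k) _ _⟩⟩
  have : IsIntegralHom (pullback.fst f (Spec.map (CommRingCat.ofHom i))) :=
    MorphismProperty.pullback_fst (P := @IsIntegralHom) _ _ hint
  have : UniversallyInjective (pullback.fst f (Spec.map (CommRingCat.ofHom i))) :=
    MorphismProperty.pullback_fst (P := @UniversallyInjective) _ _ inferInstance
  have : Surjective (pullback.fst f (Spec.map (CommRingCat.ofHom i))) :=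
    MorphismProperty.pullback_fst (P := @Surjective) _ _ inferInstance
  exact Groth.Agent.S0289.result _

end Groth.Agent.S0286
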