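import Groth.Statements.S0291
import Groth.Agent.FEt83.DepthSections

set_option autoImplicit false
universe u
open Pi1

namespace Groth.Agent.S0291

set_option backward.isDefEq.respectTransparency.types false in
open AlgebraicGeometry CategoryTheory CategoryTheory.Limits in
/-- Let A be a Noetherian local ring and B a finite A-algebra such that the local rings of Spec B at all
closed points have depth at least 2. Then restriction from global sections of Spec B to sections
over the preimage of the punctured spectrum of A is an isomorphism. -/
theorem result (A B : Type u) [CommRing A] [IsNoetherianRing A] [IsLocalRing A] [CommRing B] [Algebra A B]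
    [Module.Finite A B]
    (h : ∀ (m : Ideal B) (_ : m.IsMaximal), (2 : ℕ∞) ≤ LocCoh.depth (Localization.AtPrime m) (Localization.AtPrime m)) :
    IsIso ((Spec (CommRingCat.of B)).presheaf.map (homOfLE (le_top :
      Spec.map (CommRingCat.ofHom (algebraMap A B)) ⁻¹ᵁ FEt.puncturedSpec A ≤ ⊤)).op) := by
  have : IsNoetherianRing B := IsNoetherianRing.of_finite A B
  let V := Spec.map (CommRingCat.ofHom (algebraMap A B)) ⁻¹ᵁ FEt.puncturedSpec A
  have key : ∀ W : (Spec (CommRingCat.of B)).Opens, W = V →
      Function.Bijective ((Spec (CommRingCat.of B)).presheaf.map (homOfLE (le_top : W ≤ ⊤)).op) →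
      IsIso ((Spec (CommRingCat.of B)).presheaf.map (homOfLE (le_top : V ≤ ⊤)).op) := by
    rintro W rfl hb
    exact (ConcreteCategory.isIso_iff_bijective _).mpr hb
  refine key _ V.ι_image_top (Groth.Agent.FEt83.appTop_bijective_of_depth V.ι fun x hx => ?_)
  rw [Scheme.Opens.range_ι] at hx
  have hc : Spec.map (CommRingCat.ofHom (algebraMap A B)) x = IsLocalRing.closedPoint A :=
    not_not.mp hx
  have hmax : x.asIdeal.IsMaximal := by
    refine Ideal.isMaximal_of_isIntegral_of_isMaximal_comap (R := A) x.asIdeal ?_
    have h1 : Ideal.comap (algebraMap A B) x.asIdeal = IsLocalRing.maximalIdeal A :=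
      congrArg PrimeSpectrum.asIdeal hc
    rw [h1]
    exact IsLocalRing.maximalIdeal.isMaximal A
  exact (h x.asIdeal hmax).trans (Groth.Agent.FEt83.depth_stalk_Spec B x).ge

end Groth.Agent.S0291
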