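import Mathlib.AlgebraicGeometry.Morphisms.Etale
import Groth.Statements.S0293
import Groth.Agent.EGA4Alg4.Depth
import Groth.Agent.FEt83.FlatPurity

set_option autoImplicit false
universe u
open Pi1

namespace Groth.Agent.S0293

set_option backward.isDefEq.respectTransparency.types false in
open AlgebraicGeometry CategoryTheory CategoryTheory.Limits TensorProduct in
/-- Let X be a locally Noetherian scheme, U ⊆ X an open subset such that the local rings of X at points
outside U have depth at least 2, and π : Y → X a finite morphism which is étale over U and such that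
the local rings of Y at points outside the preimage of U have depth at least 2. Then π is étale if
and only if it is flat. -/
theorem result {X : Scheme.{u}} [IsLocallyNoetherian X] (U : X.Opens)
    (hU : ∀ x : X, x ∉ U → (2 : ℕ∞) ≤ LocCoh.depth (X.presheaf.stalk x) (X.presheaf.stalk x)) {Y : Scheme.{u}} (π : Y ⟶ X)
    [IsFinite π] [Etale (pullback.snd π U.ι)]
    (hY : ∀ y : Y, π.base y ∉ U → (2 : ℕ∞) ≤ LocCoh.depth (Y.presheaf.stalk y) (Y.presheaf.stalk y)) :
    Etale π ↔ Flat π := by
  refine ⟨fun h => inferInstance, fun hflat => ?_⟩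
  rw [IsZariskiLocalAtTarget.iff_of_openCover (P := @Etale) X.affineCover]
  intro i
  let f := X.affineCover.f i
  show Etale (pullback.snd π f)
  have : IsAffine (X.affineCover.X i) := inferInstance
  have hV : IsAffineOpen f.opensRange := isAffineOpen_opensRange f
  have key : Etale (π ∣_ f.opensRange) := by
    set V := f.opensRange
    let _ : Algebra Γ(X, V) Γ(Y, π ⁻¹ᵁ V) := (π.app V).hom.toAlgebra
    have : IsNoetherianRing Γ(X, V) := IsLocallyNoetherian.component_noetherian ⟨V, hV⟩
    have : Module.Finite Γ(X, V) Γ(Y, π ⁻¹ᵁ V) :=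
      RingHom.finite_algebraMap.mp (IsFinite.finite_app π V hV)
    have : Module.Flat Γ(X, V) Γ(Y, π ⁻¹ᵁ V) := by
      have := HasRingHomProperty.appLE @Flat π hflat ⟨V, hV⟩ ⟨π ⁻¹ᵁ V, hV.preimage π⟩ le_rfl
      rw [← Scheme.Hom.app_eq_appLE] at this
      exact RingHom.flat_algebraMap_iff.mp this
    have sq : IsPullback (hV.preimage π).fromSpec (Spec.map (π.app V)) π hV.fromSpec := by
      refine (IsOpenImmersion.isPullback _ _ _ _ ?_ ?_).flip
      · rw [Scheme.Hom.app_eq_appLE]
        exact (IsAffineOpen.SpecMap_appLE_fromSpec π hV (hV.preimage π) le_rfl).symm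
      · rw [hV.opensRange_fromSpec, (hV.preimage π).opensRange_fromSpec]
    have hB : Algebra.Etale Γ(X, V) Γ(Y, π ⁻¹ᵁ V) := by
      refine Groth.Agent.FEt83.etale_of_flat_of_codim_one fun p hp => ?_
      let x := hV.fromSpec ⟨p, hp⟩
      by_cases hx : x ∈ U
      · right
        let k := Spec.map (CommRingCat.ofHom (algebraMap Γ(X, V) p.ResidueField))
        have hk : Set.range (k ≫ hV.fromSpec) ⊆ Set.range U.ι := by
          rintro _ ⟨t, rfl⟩
          rw [Scheme.Opens.range_ι, Scheme.Hom.comp_apply]
          have : k t = (⟨p, hp⟩ : PrimeSpectrum Γ(X, V)) := PrimeSpectrum.ext (by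
            show Ideal.comap (algebraMap Γ(X, V) p.ResidueField) (t : PrimeSpectrum p.ResidueField).asIdeal = p
            rw [show (t : PrimeSpectrum p.ResidueField).asIdeal = ⊥ from
              Subsingleton.elim (α := PrimeSpectrum p.ResidueField) t ⊥ ▸ rfl]
            exact Ideal.ker_algebraMap_residueField p)
          rw [this]
          exact hx
        let c := IsOpenImmersion.lift U.ι (k ≫ hV.fromSpec) hk
        have sq2 := (isPullback_SpecMap_of_isPushout _ _ _ _
          (CommRingCat.isPushout_tensorProduct Γ(X, V) p.ResidueField Γ(Y, π ⁻¹ᵁ V))).flip.paste_horiz sq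
        rw [show k ≫ hV.fromSpec = c ≫ U.ι from (IsOpenImmersion.lift_fac _ _ _).symm] at sq2
        have : Etale (Spec.map (CommRingCat.ofHom (algebraMap p.ResidueField
            (p.ResidueField ⊗[Γ(X, V)] Γ(Y, π ⁻¹ᵁ V))))) :=
          MorphismProperty.of_isPullback (IsPullback.of_right' sq2
            (IsPullback.of_hasPullback π U.ι)) inferInstance
        exact RingHom.etale_algebraMap.mp ((HasRingHomProperty.Spec_iff (P := @Etale)).mp this)
      · left
        have : Nontrivial (X.presheaf.stalk x) := inferInstance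
        have h2 := (WithBot.coe_le_coe.mpr (hU x hx)).trans
          ((Groth.Agent.EGA4Alg4.depth_le_supportDim).trans (Module.supportDim_le_ringKrullDim _ _))
        let _ := X.presheaf.algebra_section_stalk (⟨x, by
          have : x ∈ Set.range hV.fromSpec := ⟨_, rfl⟩
          rwa [hV.range_fromSpec] at this⟩ : V)
        have : IsLocalization.AtPrime (X.presheaf.stalk x) p := hV.isLocalization_stalk' ⟨p, hp⟩ (by
          have : x ∈ Set.range hV.fromSpec := ⟨_, rfl⟩
          rwa [hV.range_fromSpec] at this)
        exact h2.trans_eq (ringKrullDim_eq_of_ringEquiv (IsLocalization.algEquiv p.primeCompl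
          (X.presheaf.stalk x) (Localization.AtPrime p)).toRingEquiv)
    have : Etale (Spec.map (π.app V)) :=
      (HasRingHomProperty.Spec_iff (P := @Etale)).mpr (RingHom.etale_algebraMap.mpr hB)
    have sq' := (isPullback_morphismRestrict π V)
    have hYV : IsAffineOpen (π ⁻¹ᵁ V) := hV.preimage π
    have e : (hYV.isoSpec.hom ≫ Spec.map (π.app V)) = π ∣_ V ≫ hV.isoSpec.hom := by
      rw [← cancel_mono hV.fromSpec, Category.assoc, Category.assoc, ← sq.w,
        IsAffineOpen.isoSpec_hom_fromSpec_assoc, IsAffineOpen.isoSpec_hom_fromSpec, morphismRestrict_ι]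
    rw [show π ∣_ V = (hYV.isoSpec.hom ≫ Spec.map (π.app V)) ≫ hV.isoSpec.inv by
      rw [e, Category.assoc, Iso.hom_inv_id, Category.comp_id]]
    infer_instance
  exact (MorphismProperty.arrow_mk_iso_iff @Etale (morphismRestrictOpensRange π f)).mp key

end Groth.Agent.S0293
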