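import Groth.Statements.S0316
import Groth.Agent.InjHull18.Dual


set_option autoImplicit false
universe u v
open Matlis

namespace Groth.Agent.S0316

/-- Over a complete Noetherian local ring with E an injective hull of the residue field, the E-dual of a
finite module is Artinian and the evaluation map into the double E-dual is bijective. -/
theorem result (R : Type u) [CommRing R] [IsLocalRing R] [IsNoetherianRing R] [IsAdicComplete (IsLocalRing.maximalIdeal R) R] (E : Type u) [AddCommGroup E] [Module R E] (f : IsLocalRing.ResidueField R →ₗ[R] E) (hf : InjHull.IsInjectiveHull f) (M : Type u) [AddCommGroup M] [Module R M] [Module.Finite R M] : IsArtinian R (M →ₗ[R] E) ∧ Function.Bijective (LinearMap.applyₗ : M →ₗ[R] (M →ₗ[R] E) →ₗ[R] E) := by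
  have := InjHull18.isArtinian_hull (m := IsLocalRing.maximalIdeal R) (f := f) hf
  refine ⟨InjHull18.isArtinian_linearMap M, (injective_iff_map_eq_zero _).2 fun x hx => ?_,
    InjHull18.applyₗ_surjective_of_finite (m := IsLocalRing.maximalIdeal R) (f := f) hf⟩
  by_contra hx0
  obtain ⟨φ, hφ⟩ := InjHull18.exists_map_ne_zero_local hf hx0
  exact hφ (LinearMap.congr_fun hx φ)

end Groth.Agent.S0316
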