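import Groth.Statements.S0318
import Groth.Agent.LC17.IDepth

set_option autoImplicit false
universe u v
open LocCoh

namespace Groth.Agent.S0318

/-- Part (1): =(3): for a finite module M over a Noetherian ring and an ideal I with IM ≠ M, the I-depth
of M is the least degree in which the local cohomology of M with support in I is nonzero. -/
theorem result (R : Type u) [CommRing R] [IsNoetherianRing R] (I : Ideal R) (M : Type u) [AddCommGroup M] [Module R M] [Module.Finite R M] (hIM : I • (⊤ : Submodule R M) ≠ ⊤) (n : ℕ) : LocCoh.idealDepth I M = n ↔ ((∀ i : ℕ, i < n → Subsingleton (LocCoh.H I i M)) ∧ Nontrivial (LocCoh.H I n M)) := by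
  have h1 := Groth.Agent.LC17.natCast_le_idealDepth_iff I M n
  have h2 := Groth.Agent.LC17.natCast_le_idealDepth_iff I M (n + 1)
  constructor
  · intro h
    refine ⟨h1.mp h.ge, not_subsingleton_iff_nontrivial.mp fun hs => ?_⟩
    have h3 := h2.mpr fun i hi => (Nat.lt_succ_iff_lt_or_eq.mp hi).elim (h1.mp h.ge i) fun e => e ▸ hs
    rw [h, Nat.cast_le] at h3
    exact Nat.not_succ_le_self n h3
  · rintro ⟨h, hn⟩
    refine le_antisymm ?_ (h1.mpr h)
    by_contra hlt
    rw [not_le] at hlt
    have h3 : ((n + 1 : ℕ) : ℕ∞) ≤ LocCoh.idealDepth I M := by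
      push_cast
      exact (ENat.add_one_le_iff (ENat.natCast_ne_top n)).mpr hlt
    exact (not_subsingleton_iff_nontrivial.mpr hn) (h2.mp h3 n (Nat.lt_succ_self n))

end Groth.Agent.S0318
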