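import Groth.Statements.S0329
import Groth.Agent.LC15.Finiteness

set_option autoImplicit false
universe u v
open LocCoh

namespace Groth.Agent.S0329

/-- Part (1): ⇔(2) with T = V(I) (Faltings): for a finite module M over a Noetherian ring, the local
cohomology modules H^i_I(M) for i ≤ n are all finitely generated exactly when some ideal J with I
contained in the radical of J kills all of them. -/
theorem result (R : Type u) [CommRing R] [IsNoetherianRing R] (I : Ideal R) (M : Type u) [AddCommGroup M] [Module R M] [Module.Finite R M] (n : ℕ) : (∀ i : ℕ, i ≤ n → Module.Finite R (LocCoh.H I i M)) ↔ ∃ J : Ideal R, I ≤ J.radical ∧ ∀ i : ℕ, i ≤ n → ∀ a ∈ J, ∀ x : LocCoh.H I i M, a • x = 0 := by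
  constructor
  · intro h
    choose k hk using fun i : Fin (n + 1) =>
      (haveI := h i (Nat.lt_succ_iff.1 i.2); Groth.Agent.LC15.exists_pow_smul_H_eq_zero I (i := (i : ℕ)) (M := M))
    refine ⟨I ^ (Finset.univ.sup k), fun a ha => ⟨_, Ideal.pow_mem_pow ha _⟩, fun i hi a ha x => ?_⟩
    exact hk ⟨i, Nat.lt_succ_iff.2 hi⟩ a
      (Ideal.pow_le_pow_right (Finset.le_sup (Finset.mem_univ _)) ha) x
  · rintro ⟨J, hJ, hkill⟩ i hi
    obtain ⟨k, hk⟩ := Ideal.exists_pow_le_of_le_radical_of_fg hJ (IsNoetherian.noetherian I)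
    exact Groth.Agent.LC15.finite_H_of_annihilated I i M k
      fun j hj a ha x => hkill j (hj.trans hi) a (hk ha) x

end Groth.Agent.S0329
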