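import Groth.Statements.S0338
import Groth.Agent.LC15.FrobRegular

set_option autoImplicit false
universe u v
open CategoryTheory
open LocCoh

namespace Groth.Agent.S0338

/-- Over a regular local ring of prime characteristic p, let M be a module killed elementwise by powers
of the maximal ideal and isomorphic to its own base change along Frobenius; then M is isomorphic to
a (possibly infinite) sum of copies of E, where E is an injective hull of the residue field. -/
theorem result (p : ℕ) [Fact p.Prime] (R : Type u) [CommRing R] [IsRegularLocalRing R] [CharP R p] (E : Type u) [AddCommGroup E] [Module R E] (f : IsLocalRing.ResidueField R →ₗ[R] E) (hf : InjHull.IsInjectiveHull f) (M : Type u) [AddCommGroup M] [Module R M] (hM : LocCoh.IsPowerTorsion (IsLocalRing.maximalIdeal R) M) (h : Nonempty ((ModuleCat.extendScalars (frobenius R p)).obj (ModuleCat.of R M) ≅ ModuleCat.of R M)) : ∃ ι : Type u, Nonempty (M ≃ₗ[R] (ι →₀ E)) := by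
  classical
  obtain ⟨iso⟩ := h
  haveI := Groth.Agent.LC15.FrobRegular.flat p R
  obtain ⟨g, hg⟩ := Groth.Agent.S11359.result R (FrobAlg.Twist p R)
    (Groth.Agent.LC15.FrobRegular.gor_fibre p R) (Groth.Agent.LC15.FrobRegular.isArtinian_fibre p R) E f hf
  have hE := Groth.Agent.LC15.FrobStable.isFixed_hull (FrobAlg.toTwist p R).symm hf g hg
  have hMf : Groth.Agent.LC15.FrobStable.IsFixed (FrobAlg.toTwist p R).symm M := by
    let φ : TensorProduct R (FrobAlg.Twist p R) M ≃+ M := iso.toLinearEquiv.toAddEquiv
    refine ⟨φ, fun b z => ?_⟩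
    exact iso.toLinearEquiv.map_smul ((FrobAlg.toTwist p R).symm b) z
  refine Groth.Agent.LC15.FrobStable.exists_equiv_finsupp (FrobAlg.toTwist p R).symm (fun x hx => ?_) hf hE M hM hMf
  rw [FrobAlg.algebraMap_twist, RingEquiv.symm_apply_apply]
  exact Ideal.pow_le_pow_right (Fact.out : p.Prime).two_le (Ideal.pow_mem_pow hx p)

end Groth.Agent.S0338
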