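import Groth.Statements.S0357
import Groth.Agent.Licht93.Top
-- import your own Groth.Agent.* helpers here

set_option autoImplicit false
universe u v
open CategoryTheory AlgebraicGeometry
open Dual

namespace Groth.Agent.S0357

/-- (1)⇔(3): let X be nonempty, separated and of finite type over a field, of dimension d. Then H^d(X,
F) vanishes for every coherent F exactly when no irreducible closed subscheme of X of dimension d is
proper over the field. ((3) is phrased with irreducible closed subschemes of dimension d, which are
the same as irreducible components of dimension d.) -/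
theorem result (k : Type u) [Field k] (X : Scheme.{u}) (f : X ⟶ Spec (CommRingCat.of k)) [IsSeparated f] [LocallyOfFiniteType f] [QuasiCompact f] [Nonempty X] (d : ℕ) (hd : topologicalKrullDim X = d) : (∀ M : X.Modules, Coh.IsCoh M → Subsingleton (Coh.HH X M d)) ↔ ∀ (Z : Scheme.{u}) (i : Z ⟶ X) [IsClosedImmersion i] [IrreducibleSpace Z], topologicalKrullDim Z = d → ¬ IsProper (i ≫ f) := by
  constructor
  · intro h Z i _ _ hZ hp
    obtain ⟨W, c, hc, hW, hdim⟩ := Groth.Agent.Licht93.Top.exists_reduction (Z := Z)
    haveI := hc; haveI := hW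
    haveI : IsProper ((c ≫ i) ≫ f) := by
      rw [Category.assoc]; infer_instance
    haveI : IsLocallyNoetherian X := LocallyOfFiniteType.isLocallyNoetherian f
    obtain ⟨G, hG, hns⟩ := Groth.Agent.Licht93.Top.exists_coh ((c ≫ i) ≫ f) d (hdim.trans hZ)
    haveI := hG.1
    obtain ⟨e⟩ := Groth.Agent.Coh69.nonempty_hh_push (c ≫ i) G d
    haveI := h _ (Groth.Agent.QC70.isCoh_pushforward (c ≫ i) G hG)
    exact hns e.toEquiv.subsingleton
  · intro h M hM
    refine Groth.Agent.Licht93.Top.subsingleton_coh f d (fun Z i _ _ => ?_) M hM
    exact ⟨Groth.Agent.Licht93.Top.dim_le_of_closed i hd, fun hZ => h Z i hZ⟩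

end Groth.Agent.S0357
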