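import Groth.Statements.S0359
import Groth.Agent.LC15.Spread
import Groth.Agent.LC17.DepthLoc

set_option autoImplicit false
universe u v
open LocCoh

namespace Groth.Agent.S0359

/-- For a finite module M over a Noetherian ring and a prime p with depth(M_p) = e finite, there is a
basic open neighbourhood of p in V(p) on which the depth of the localizations of M is at least e,
and it exceeds e at all but finitely many of those primes. -/
theorem result (R : Type u) [CommRing R] [IsNoetherianRing R] (M : Type u) [AddCommGroup M] [Module R M] [Module.Finite R M] (p : Ideal R) [p.IsPrime] (e : ℕ) (he : LocCoh.depth (Localization.AtPrime p) (LocalizedModule p.primeCompl M) = e) : ∃ f : R, f ∉ p ∧ (∀ (q : Ideal R) [q.IsPrime], p ≤ q → f ∉ q → (e : ℕ∞) ≤ LocCoh.depth (Localization.AtPrime q) (LocalizedModule q.primeCompl M)) ∧ {q : PrimeSpectrum R | p ≤ q.asIdeal ∧ f ∉ q.asIdeal ∧ LocCoh.depth (Localization.AtPrime q.asIdeal) (LocalizedModule q.asIdeal.primeCompl M) = e}.Finite := by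
  classical
  obtain ⟨f, hf, T, hT, hlow, htop⟩ := Groth.Agent.LC15.Spread.exists_spread p.primeCompl p e M
    ((Groth.Agent.LC17.natCast_le_depth_loc_iff p e).mp he.ge)
  have hge : ∀ (q : Ideal R) [q.IsPrime], p ≤ q → f ∉ q →
      (e : ℕ∞) ≤ LocCoh.depth (Localization.AtPrime q) (LocalizedModule q.primeCompl M) := by
    intro q _ hpq hfq
    refine le_trans ((Groth.Agent.LC17.natCast_le_idealDepth_loc_iff q.primeCompl p e M).mpr (hlow q.primeCompl hfq)) ?_
    exact Groth.Agent.LC17.idealDepth_mono (le_of_le_of_eq (Ideal.map_mono hpq)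
      (Localization.AtPrime.map_eq_maximalIdeal (I := q)))
  refine ⟨f, hf, hge, (hT.preimage (f := fun q : PrimeSpectrum R => q.asIdeal)
    fun a _ b _ h => PrimeSpectrum.ext h).subset ?_⟩
  rintro q ⟨hpq, hfq, hq⟩
  refine htop q.asIdeal hpq hfq fun hall => ?_
  have h1 := (Groth.Agent.LC17.natCast_le_depth_loc_iff (M := M) q.asIdeal (e + 1)).mpr hall
  rw [hq, Nat.cast_le] at h1
  omega

end Groth.Agent.S0359
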