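import Groth.Statements.S0370
import Groth.Agent.DR39.CMLocus

set_option autoImplicit false
universe u v
open CategoryTheory
attribute [local instance] HasDerivedCategory.standard
open Dual

namespace Groth.Agent.S0370

/-- A Noetherian ring admitting a finite module which, placed in degree 0, is a dualizing complex, is
Cohen–Macaulay. -/
theorem result (A : Type u) [CommRing A] [IsNoetherianRing A] (W : Type u) [AddCommGroup W] [Module A W] [Module.Finite A W] (h : Dual.IsDualizing A (Dual.inD A W)) : LocCoh.IsCohenMacaulayRing A := by
  exact DR39.isCohenMacaulayRing_of_single_degree h (n := 0) fun i hi => by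
    rcases lt_or_gt_of_ne hi with h' | h'
    · haveI : (Dual.inD A W).IsGE 0 :=
        inferInstanceAs (((DerivedCategory.singleFunctor (ModuleCat.{u} A) 0).obj (ModuleCat.of A W)).IsGE 0)
      exact DerivedCategory.isZero_of_isGE _ 0 i h'
    · exact DR39.acyc_inD W h' i le_rfl

end Groth.Agent.S0370
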