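import Groth.Statements.S0380
import Groth.Agent.LC15.CdBC

set_option autoImplicit false
universe u v
open LocCoh

namespace Groth.Agent.S0380

/-- Local cohomology with support in I vanishes above degree d on all modules exactly when, for every
prime p, local cohomology over A_p with support in I A_p vanishes above degree d on all A_p-modules. -/
theorem result (R : Type u) [CommRing R] [IsNoetherianRing R] (I : Ideal R) (d : ℕ) : LocCoh.CdLE R I d ↔ ∀ (p : Ideal R) [p.IsPrime], LocCoh.CdLE (Localization.AtPrime p) (I.map (algebraMap R (Localization.AtPrime p))) d := by
  exact ⟨fun h p _ => Groth.Agent.LC15.cdLE_map h, Groth.Agent.LC15.cdLE_of_localizations⟩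

end Groth.Agent.S0380
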