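import Groth.Statements.S0382
import Groth.Agent.Grp57.NotEtale
import Mathlib.AlgebraicGeometry.Group.Smooth
import Mathlib.AlgebraicGeometry.Group.Abelian

set_option autoImplicit false
universe u v
open CategoryTheory MonoidalCategory CartesianMonoidalCategory MonObj GrpObj AlgebraicGeometry
open GrpSch

namespace Groth.Agent.S0382

/-- On an abelian variety of positive dimension over a field K (a proper, geometrically integral group
scheme over K), multiplication by an integer d is étale exactly when d is nonzero in K.
Multiplication by d is written as the d-th power of the identity morphism in the group Hom(A, A),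
whose multiplication is pointwise, induced by the group structure of A. -/
theorem result (K : Type u) [Field K] (A : Over (Spec (CommRingCat.of K))) [GrpObj A] [IsProper A.hom] [GeometricallyIntegral A.hom] (hA : 0 < topologicalKrullDim A.left) (d : ℤ) : Etale ((𝟙 A ^ d).left) ↔ ((d : K) ≠ 0) := by
  haveI : LocallyOfFiniteType A.hom := inferInstance
  haveI : GrpObj (Over.mk A.hom) := inferInstanceAs (GrpObj A)
  haveI : Smooth A.hom := smooth_of_grpObj A.hom
  haveI := isCommMonObj_of_isProper_of_geometricallyIntegral A
  exact ⟨fun h => Grp57.ne_zero_of_etale_zpow A hA d h, fun h => Grp57.etale_zpow A d h⟩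

end Groth.Agent.S0382
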