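import Groth.Statements.S0394
import Groth.Agent.FlatCrit65.FreeFibre

set_option autoImplicit false
universe u
open FlatMor

namespace Groth.Agent.S0394

open TensorProduct in
/-- For a local homomorphism R → S of Noetherian local rings and a nonzero finite S-module M flat over R
whose fibre M/mM is free over S/mS (m the maximal ideal of R), M is free over S and S is flat over
R. -/
theorem result {R S M : Type u} [CommRing R] [CommRing S] [IsLocalRing R] [IsLocalRing S] [IsNoetherianRing R] [IsNoetherianRing S] [Algebra R S] [IsLocalHom (algebraMap R S)]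
    [AddCommGroup M] [Module R M] [Module S M] [IsScalarTower R S M] [Module.Finite S M] [Nontrivial M] [Module.Flat R M]
    (h : Module.Free (S ⧸ ((IsLocalRing.maximalIdeal R).map (algebraMap R S))) ((S ⧸ ((IsLocalRing.maximalIdeal R).map (algebraMap R S))) ⊗[S] M)) :
    Module.Free S M ∧ Module.Flat R S := by
  have hm : (IsLocalRing.maximalIdeal R).map (algebraMap R S) ≤ Ideal.jacobson ⊥ := by
    rw [IsLocalRing.jacobson_eq_maximalIdeal ⊥ bot_ne_top, Ideal.map_le_iff_le_comap]
    exact fun x hx hu => hx (isUnit_of_map_unit (algebraMap R S) x hu)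
  have : Nontrivial (S ⧸ (IsLocalRing.maximalIdeal R).map (algebraMap R S)) := by
    refine Ideal.Quotient.nontrivial_iff.mpr (ne_top_of_le_ne_top ?_ hm)
    rw [IsLocalRing.jacobson_eq_maximalIdeal ⊥ bot_ne_top]
    exact (IsLocalRing.maximalIdeal.isMaximal S).ne_top
  have := Groth.Agent.FlatCrit65.free_of_free_fibre (R := R) _ hm h
  exact ⟨this, Groth.Agent.FlatCrit65.flat_of_free (M := M)⟩

end Groth.Agent.S0394
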