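import Groth.Statements.S0401
import Mathlib

set_option autoImplicit false
set_option linter.style.haveILetI false
set_option linter.style.longLine false
universe u
open FlatMor

namespace Groth.Agent.S0401

/-- For a finite type ring map R → S quasi-finite at a prime q lying over p, the dimension of S_q is at
most the dimension of R_p. -/
theorem result {R S : Type u} [CommRing R] [CommRing S] [Algebra R S] [Algebra.FiniteType R S] (q : Ideal S) [q.IsPrime] [Algebra.QuasiFiniteAt R q] :
    ringKrullDim (Localization.AtPrime q) ≤ ringKrullDim (Localization.AtPrime (q.under R)) := by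
--- body
  haveI : Algebra.QuasiFinite R (Localization.AtPrime q) := ‹Algebra.QuasiFiniteAt R q›
  let f : Localization.AtPrime (q.under R) →+* Localization.AtPrime q :=
    Localization.localRingHom (q.under R) q (algebraMap R S) rfl
  refine Order.krullDim_le_of_strictMono (PrimeSpectrum.comap f) fun a b hab => ?_
  refine lt_of_le_of_ne (Ideal.comap_mono hab.le) fun he => hab.ne ?_
  refine PrimeSpectrum.ext (Algebra.QuasiFinite.eq_of_le_of_under_eq (R := R) a.asIdeal b.asIdeal hab.le ?_)
  ext x
  have hx := SetLike.ext_iff.1 (congrArg PrimeSpectrum.asIdeal he) (algebraMap R _ x)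
  simp only [PrimeSpectrum.comap_asIdeal, Ideal.mem_comap, f, Localization.localRingHom_to_map] at hx
  simpa only [Ideal.under_def, Ideal.mem_comap, IsScalarTower.algebraMap_apply R S (Localization.AtPrime q)] using hx

end Groth.Agent.S0401
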