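import Groth.Statements.S0403
import Groth.Agent.E4O.FibreComp

set_option autoImplicit false
universe u
open FlatMor

namespace Groth.Agent.S0403

open AlgebraicGeometry CategoryTheory Limits in
/-- For a proper morphism the dimension of the fibre is an upper semicontinuous function on the target:
for every bound the set of points whose fibre has dimension at most that bound is open. -/
theorem result {X S : Scheme.{u}} (f : X ⟶ S) [IsProper f] (c : WithBot ℕ∞) :
    IsOpen {s : S | topologicalKrullDim (f.fiber s) ≤ c} := by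
  rw [← isClosed_compl_iff]
  have key : {s : S | topologicalKrullDim (f.fiber s) ≤ c}ᶜ =
      f '' {x : X | ¬ (FlatMor.fibreDimAt f x ≤ c)} := by
    ext s
    constructor
    · intro hs
      have : ¬ ∀ x, f x = s → ((Groth.Agent.E4O.fdeg f x : ℕ) : WithBot ℕ∞) ≤ c := fun h =>
        hs ((Groth.Agent.E4O.dim_fiber_le_iff f s c).2 h)
      push Not at this
      obtain ⟨x, hx, hlt⟩ := this
      exact ⟨x, not_le.2 (hlt.trans_le
        (Groth.Agent.E4O.fdeg_le_fibreDimAt specializes_rfl rfl)), hx⟩
    · rintro ⟨x, hx, rfl⟩ hle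
      exact hx ((Groth.Agent.E4O.fibreDimAt_le_dim_fiber f x).trans hle)
  rw [key]
  refine f.isClosedMap _ (isOpen_compl_iff.1 (isOpen_iff_forall_mem_open.2 fun x hx => ?_))
  obtain ⟨U, hxU, hU⟩ := Groth.Agent.E4O.exists_open_forall_fibreDimAt_le f x
  exact ⟨U, fun x' hx' h => h ((hU x' hx').trans (not_not.1 hx)), U.isOpen, hxU⟩

end Groth.Agent.S0403
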