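import Groth.Statements.S0405
import Groth.Agent.FlatCrit65.Point.Domain

set_option autoImplicit false
universe u
open FlatMor

namespace Groth.Agent.S0405

/-- Raynaud–Gruson: over a domain R, a finite module over a finite type R-algebra S that is flat over R
is finitely presented as an S-module. -/
theorem result {R S M : Type u} [CommRing R] [IsDomain R] [CommRing S] [Algebra R S] [Algebra.FiniteType R S]
    [AddCommGroup M] [Module S M] [Module R M] [IsScalarTower R S M] [Module.Finite S M] [Module.Flat R M] :
    Module.FinitePresentation S M := by
  obtain ⟨n, φ, hφ⟩ := Algebra.FiniteType.iff_quotient_mvPolynomial''.mp (inferInstance : Algebra.FiniteType R S)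
  letI : Algebra (MvPolynomial (Fin n) R) S := φ.toAlgebra
  haveI : IsScalarTower R (MvPolynomial (Fin n) R) S :=
    IsScalarTower.of_algebraMap_eq fun r => (φ.commutes r).symm
  haveI : Module.Finite (MvPolynomial (Fin n) R) S :=
    Module.Finite.of_surjective (Algebra.linearMap (MvPolynomial (Fin n) R) S) hφ
  letI : Module (MvPolynomial (Fin n) R) M := Module.compHom M (algebraMap (MvPolynomial (Fin n) R) S)
  haveI : IsScalarTower (MvPolynomial (Fin n) R) S M :=
    IsScalarTower.of_algebraMap_smul fun _ _ => rfl
  haveI : IsScalarTower R (MvPolynomial (Fin n) R) M :=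
    IsScalarTower.of_algebraMap_smul fun r m => by
      show algebraMap (MvPolynomial (Fin n) R) S (algebraMap R _ r) • m = r • m
      rw [← IsScalarTower.algebraMap_apply, algebraMap_smul]
  haveI : Module.Finite (MvPolynomial (Fin n) R) M := Module.Finite.trans S M
  haveI := Groth.Agent.FlatCrit65.finitePresentation_domain R (MvPolynomial (Fin n) R) M
  exact Groth.Agent.FlatCrit65.finitePresentation_of_finite_algebra (A := MvPolynomial (Fin n) R) M

end Groth.Agent.S0405
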