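import Groth.Statements.S0411
import Groth.Agent.LimTop61.ZmtFactor
import Groth.Agent.Grpd80.InvAffine

set_option autoImplicit false
universe u
open FlatMor

namespace Groth.Agent.S0411

open AlgebraicGeometry CategoryTheory Limits in
/-- For a separated, locally quasi-finite morphism (locally of finite type with discrete fibres) to an
affine scheme, every finite set of points of the source lies in an affine open. -/
theorem result {X Y : Scheme.{u}} (f : X ⟶ Y) [IsAffine Y] [IsSeparated f] [LocallyQuasiFinite f] [LocallyOfFiniteType f] (T : Finset ↑X) :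
    ∃ U : X.Opens, IsAffineOpen U ∧ ∀ x ∈ T, x ∈ U := by
  classical
  choose V hV hxV using fun x : X => (show ∃ V : X.Opens, IsAffineOpen V ∧ x ∈ V from by
    obtain ⟨_, ⟨V, hV, rfl⟩, hx, -⟩ := X.isBasis_affineOpens.exists_subset_of_mem_open (Set.mem_univ x) isOpen_univ
    exact ⟨V, hV, hx⟩)
  let W : X.Opens := ⨆ x : T, V x.1
  have hW : IsCompact (W : Set X) := by
    simp only [W, TopologicalSpace.Opens.coe_iSup]
    exact isCompact_iUnion fun x => (hV x.1).isCompact
  have : CompactSpace W.toScheme := isCompact_iff_compactSpace.mp hW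
  let f' : W.toScheme ⟶ Y := W.ι ≫ f
  have : QuasiCompact f' := (quasiCompact_iff_compactSpace f').mpr inferInstance
  obtain ⟨Z, j, π, hj, -, -, hπ, hjπ⟩ := Groth.Agent.LimTop61.exists_openImmersion_finite f'
  have : IsAffine Z := isAffine_of_isAffineHom π
  obtain ⟨g, hg, hTg⟩ := Groth.Agent.Grpd80.exists_basicOpen_of_finite (isAffineOpen_top Z) (O := j.opensRange)
    (T := j '' (W.ι ⁻¹' (T : Set X))) ((T.finite_toSet.preimage W.ι.isOpenEmbedding.injective.injOn).image j)
    (Set.subset_univ _) (Set.image_subset_range _ _)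
  refine ⟨W.ι ''ᵁ (j ⁻¹ᵁ Z.basicOpen g), ?_, fun x hx => ?_⟩
  · exact (((isAffineOpen_top Z).basicOpen g).preimage_of_isOpenImmersion j hg).image_of_isOpenImmersion W.ι
  · have hxW : x ∈ W := TopologicalSpace.Opens.mem_iSup.2 ⟨⟨x, hx⟩, hxV x⟩
    exact ⟨⟨x, hxW⟩, hTg ⟨⟨x, hxW⟩, hx, rfl⟩, rfl⟩

end Groth.Agent.S0411
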