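import Groth.Statements.S0415
import Groth.Agent.UH57.Basic
import Mathlib.AlgebraicGeometry.Morphisms.Integral
import Mathlib.AlgebraicGeometry.Morphisms.Affine

set_option autoImplicit false
universe u
open FlatMor

namespace Groth.Agent.S0415

open AlgebraicGeometry CategoryTheory Limits in
/-- A morphism of schemes is a universal homeomorphism if and only if it is integral, universally
injective and surjective. -/
theorem result {X Y : Scheme.{u}} (f : X ⟶ Y) :
    FlatMor.IsUnivHomeo f ↔ IsIntegralHom f ∧ UniversallyInjective f ∧ Surjective f := by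
  rw [Groth.Agent.UH57.isUnivHomeo_iff']
  refine ⟨fun ⟨h1, h2, h3⟩ => ⟨?_, h2, h3⟩, fun ⟨h1, h2, h3⟩ => ⟨inferInstance, h2, h3⟩⟩
  rw [IsIntegralHom.iff_universallyClosed_and_isAffineHom]
  refine ⟨h1, isAffineHom_of_isInducing f ?_ f.isClosedMap.isClosed_range⟩
  exact (Topology.IsClosedEmbedding.of_continuous_injective_isClosedMap f.continuous f.injective
    f.isClosedMap).isInducing

end Groth.Agent.S0415
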