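import Groth.Statements.S0416
import Groth.Agent.S0415
import Groth.Agent.UH57.Basic
import Mathlib.AlgebraicGeometry.Morphisms.Separated
import Mathlib.AlgebraicGeometry.Morphisms.Proper

set_option autoImplicit false
universe u
open FlatMor

namespace Groth.Agent.S0416

open AlgebraicGeometry CategoryTheory Limits in
/-- When a composite of two morphisms is a universal homeomorphism and so is either factor, the
remaining factor is a universal homeomorphism as well. -/
theorem result {X Y Z : Scheme.{u}} (g : X ⟶ Y) (h : Y ⟶ Z) :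
    (FlatMor.IsUnivHomeo (g ≫ h) → FlatMor.IsUnivHomeo g → FlatMor.IsUnivHomeo h) ∧
    (FlatMor.IsUnivHomeo (g ≫ h) → FlatMor.IsUnivHomeo h → FlatMor.IsUnivHomeo g) := by
  have hUI : ∀ {X Y : Scheme.{u}} (f : X ⟶ Y), FlatMor.IsUnivHomeo f →
      UniversallyClosed f ∧ UniversallyInjective f ∧ Surjective f :=
    fun f hf => (Groth.Agent.UH57.isUnivHomeo_iff' f).mp hf
  constructor
  · intro hgh hg
    intro Y' Z' p q h' hp
    have : IsPullback (pullback.fst p g) (pullback.snd p g) p g := IsPullback.of_hasPullback p g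
    have h1 := hg _ _ _ this
    have h2 : IsHomeomorph (pullback.fst p g ≫ h' : _ ⟶ Z') :=
      hgh _ _ _ (this.paste_horiz hp)
    refine isHomeomorph_iff_continuous_isClosedMap_bijective.2 ⟨h'.continuous, fun C hC => ?_, ?_, ?_⟩
    · have := h2.isClosedMap _ (hC.preimage h1.continuous)
      rwa [Scheme.Hom.comp_base, TopCat.coe_comp, Set.image_comp,
        Set.image_preimage_eq C h1.surjective] at this
    · exact Function.Injective.of_comp_right h2.injective h1.surjective
    · exact Function.Surjective.of_comp h2.surjective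
  · intro hgh hh
    obtain ⟨a1, a2, a3⟩ := hUI _ hgh
    obtain ⟨b1, b2, b3⟩ := hUI _ hh
    have : IsIntegralHom h := ((Groth.Agent.S0415.result h).mp hh).1
    refine (Groth.Agent.UH57.isUnivHomeo_iff' g).mpr
      ⟨UniversallyClosed.of_comp_of_isSeparated g h, ?_, ⟨?_⟩⟩
    · refine ⟨fun X' Y' i₁ i₂ g' hp => ?_⟩
      have hl := IsPullback.of_hasPullback (i₂ ≫ h) (g ≫ h)
      let s : X' ⟶ pullback (i₂ ≫ h) (g ≫ h) := pullback.lift g' i₁ (by rw [hp.w_assoc])
      have hs1 : s ≫ pullback.fst _ _ = g' := pullback.lift_fst _ _ _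
      have hs2 : s ≫ pullback.snd _ _ = i₁ := pullback.lift_snd _ _ _
      have hs : Mono s := by
        constructor
        intro W u v huv
        apply hp.hom_ext
        · rw [← hs1, reassoc_of% huv]
        · rw [← hs2, reassoc_of% huv]
      have hg' : g' = s ≫ pullback.fst _ _ := hs1.symm
      have h1 : Function.Injective (pullback.fst (i₂ ≫ h) (g ≫ h)) :=
        a2.universally_injective _ _ _ hl
      rw [hg']
      exact h1.comp s.injective
    · intro y
      obtain ⟨x, hx⟩ := a3.surj (h y)
      exact ⟨x, h.injective hx⟩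

end Groth.Agent.S0416
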