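import Groth.Statements.S0418
import Groth.Agent.FrobAlg54.RadicialPow
import Mathlib.NumberTheory.Basic

set_option autoImplicit false
universe u
open FlatMor

namespace Groth.Agent.S0418

theorem bound {A B : Type u} [CommRing A] [CommRing B] [Algebra A B] (p : ℕ) (hint : Algebra.IsIntegral A B)
    (hloc : ∀ b : B, ∃ (n : ℕ) (a : A), (p : B) ^ n * b = algebraMap A B a) (c : B) :
    ∃ K : ℕ, ∀ y ∈ Algebra.adjoin A ({c} : Set B), (p : B) ^ K * y ∈ (algebraMap A B).range := by
  obtain ⟨G, hG⟩ := (hint.isIntegral c).fg_adjoin_singleton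
  choose e g he using hloc
  refine ⟨G.sup e, fun y hy => ?_⟩
  change y ∈ Subalgebra.toSubmodule (Algebra.adjoin A {c}) at hy
  rw [← hG] at hy
  induction hy using Submodule.span_induction with
  | mem z hz =>
    rw [← Nat.sub_add_cancel (Finset.le_sup hz : e z ≤ G.sup e), pow_add, mul_assoc, he]
    exact ⟨(p : A) ^ (G.sup e - e z) * g z, by rw [map_mul, map_pow, map_natCast]⟩
  | zero => rw [mul_zero]; exact zero_mem _
  | add u v _ _ hu hv => rw [mul_add]; exact add_mem hu hv
  | smul r u _ hu => rw [Algebra.smul_def, mul_left_comm]; exact mul_mem ⟨r, rfl⟩ hu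

theorem main {A B : Type u} [CommRing A] [CommRing B] [Algebra A B] (p : ℕ) (hp : p.Prime)
    (hloc : ∀ b : B, ∃ (n : ℕ) (a : A), (p : B) ^ n * b = algebraMap A B a) :
    (Algebra.IsIntegral A B ∧ Groth.Agent.UH57.RI A B ∧ RingHom.ker (algebraMap A B) ≤ nilradical A) ↔
      (∀ a ∈ RingHom.ker (algebraMap A B), IsNilpotent a) ∧
        ∀ b : B, ∃ n : ℕ, (p ^ n : B) * b ∈ (algebraMap A B).range ∧ b ^ (p ^ n) ∈ (algebraMap A B).range := by
  classical
  haveI : Fact p.Prime := ⟨hp⟩
  constructor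
  · rintro ⟨hint, hri, hker⟩
    refine ⟨fun a ha => mem_nilradical.1 (hker ha), fun b => ?_⟩
    let J : Ideal B := Ideal.span {(p : B)}
    let I : Ideal A := J.comap (algebraMap A B)
    by_cases hJ : J = ⊤
    · have hu : IsUnit (p : B) := Ideal.span_singleton_eq_top.1 hJ
      obtain ⟨c, hc⟩ := hu.exists_left_inv
      haveI := hint
      obtain ⟨n, a, ha⟩ := hloc b
      obtain ⟨k, hk⟩ := bound p hint hloc c
      have hb : b ∈ (algebraMap A B).range := by
        have : b = ((p : B) ^ k * c ^ (n + k)) * algebraMap A B a := by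
          rw [← ha, ← mul_assoc, mul_assoc ((p : B) ^ k), mul_comm (c ^ (n + k)), ← mul_assoc, ← pow_add,
            add_comm k n, ← mul_pow, mul_comm (p : B), hc, one_pow, one_mul]
        rw [this]
        exact mul_mem (hk _ (pow_mem (Algebra.self_mem_adjoin_singleton A c) _)) ⟨a, rfl⟩
      exact ⟨0, by simpa using hb, by simpa using hb⟩
    haveI : Nontrivial (B ⧸ J) := Ideal.Quotient.nontrivial_iff.2 hJ
    haveI : CharP (B ⧸ J) p := by
      refine (CharP.charP_iff_prime_eq_zero hp).2 ?_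
      rw [← map_natCast (Ideal.Quotient.mk J)]
      exact Ideal.Quotient.eq_zero_iff_mem.2 (Ideal.mem_span_singleton_self _)
    let f := Ideal.quotientMap J (algebraMap A B) (le_refl I)
    letI : Algebra (A ⧸ I) (B ⧸ J) := f.toAlgebra
    have hf : ∀ a, algebraMap (A ⧸ I) (B ⧸ J) (Ideal.Quotient.mk I a) = Ideal.Quotient.mk J (algebraMap A B a) :=
      fun a => Ideal.quotientMap_mk
    have hintq : Algebra.IsIntegral (A ⧸ I) (B ⧸ J) := by
      refine ⟨fun y => ?_⟩
      obtain ⟨y, rfl⟩ := Ideal.Quotient.mk_surjective y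
      obtain ⟨P, hP, hPy⟩ := hint.isIntegral y
      refine ⟨P.map (Ideal.Quotient.mk I), hP.map _, ?_⟩
      rw [Polynomial.eval₂_map, show (algebraMap (A ⧸ I) (B ⧸ J)).comp (Ideal.Quotient.mk I) =
        (Ideal.Quotient.mk J).comp (algebraMap A B) from RingHom.ext hf, ← Polynomial.hom_eval₂, hPy, map_zero]
    have hker0 : RingHom.ker (algebraMap (A ⧸ I) (B ⧸ J)) ≤ nilradical (A ⧸ I) := fun y hy => by
      have : y = 0 := (Ideal.quotientMap_injective (I := J) (f := algebraMap A B)) ((RingHom.mem_ker.1 hy).trans (map_zero f).symm)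
      rw [this]; exact zero_mem _
    have hriq : Groth.Agent.UH57.RI (A ⧸ I) (B ⧸ J) := by
      refine ⟨fun Q1 Q2 h => ?_, fun Q hQ y => ?_⟩
      · have h' := hri.1 (a₁ := PrimeSpectrum.comap (Ideal.Quotient.mk J) Q1)
          (a₂ := PrimeSpectrum.comap (Ideal.Quotient.mk J) Q2) (by
            ext a
            have := SetLike.ext_iff.1 (congrArg PrimeSpectrum.asIdeal h) (Ideal.Quotient.mk I a)
            simpa [hf] using this)
        ext y
        obtain ⟨y, rfl⟩ := Ideal.Quotient.mk_surjective y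
        exact SetLike.ext_iff.1 (congrArg PrimeSpectrum.asIdeal h') y
      · obtain ⟨y, rfl⟩ := Ideal.Quotient.mk_surjective y
        obtain ⟨a, s, hs, hh⟩ := hri.2 (Q.comap (Ideal.Quotient.mk J)) (hQ.comap _) y
        refine ⟨Ideal.Quotient.mk I a, Ideal.Quotient.mk I s, by rwa [hf], ?_⟩
        rw [hf, hf]
        rcases hh with hh | ⟨l, n, hl, hlQ, hh⟩
        · refine .inl ?_
          rw [← map_mul, ← map_sub]; exact hh
        · refine .inr ⟨l, n, hl, ?_, ?_⟩
          · rw [← map_natCast (Ideal.Quotient.mk J)]; exact hlQ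
          · rw [← map_pow, ← map_mul, ← map_sub]; exact hh
    obtain ⟨m, a, ha⟩ := Groth.Agent.FrobAlg54.exists_pow_mem_of_radicial (p := p) hintq hriq hker0
      (Ideal.Quotient.mk J b)
    obtain ⟨a, rfl⟩ := Ideal.Quotient.mk_surjective a
    rw [hf, ← map_pow, Ideal.Quotient.eq, Ideal.mem_span_singleton'] at ha
    obtain ⟨b', hb'⟩ := ha
    let C := Algebra.adjoin A ({b'} : Set B)
    obtain ⟨K, hK⟩ : ∃ K : ℕ, ∀ y ∈ C, (p : B) ^ K * y ∈ (algebraMap A B).range := bound p hint hloc b'
    obtain ⟨n, hn⟩ := hloc b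
    refine ⟨max n (m + K), ?_, ?_⟩
    · obtain ⟨a0, ha0⟩ := hn
      refine ⟨(p : A) ^ (max n (m + K) - n) * a0, ?_⟩
      rw [map_mul, map_pow, map_natCast, ← ha0, ← mul_assoc, ← pow_add, Nat.sub_add_cancel (le_max_left _ _)]
    · let c : C := ⟨b', Algebra.self_mem_adjoin_singleton A b'⟩
      have hbC : b ^ p ^ m ∈ C := by
        have e : b ^ p ^ m = algebraMap A B a + b' * (p : B) := by linear_combination -hb'
        rw [e]
        exact add_mem (Subalgebra.algebraMap_mem _ _) (mul_mem c.2 (natCast_mem C p))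
      obtain ⟨w, hw⟩ := dvd_sub_pow_of_dvd_sub (R := C) (p := p) (a := (⟨b ^ p ^ m, hbC⟩ : C)) (b := algebraMap A C a)
        (show (p : C) ∣ (⟨b ^ p ^ m, hbC⟩ : C) - algebraMap A C a from ⟨c, Subtype.ext (by simp only [AddSubgroupClass.coe_sub, MulMemClass.coe_mul, Subalgebra.coe_algebraMap]; simp [c]; linear_combination -hb')⟩) K
      have hw' : (b ^ p ^ m) ^ p ^ K = algebraMap A B a ^ p ^ K + (p : B) ^ K * ((p : B) * (w : B)) := by
        have := congrArg Subtype.val hw
        push_cast at this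
        rw [pow_succ] at this
        linear_combination this
      have hmem : (b ^ p ^ m) ^ p ^ K ∈ (algebraMap A B).range := by
        rw [hw']
        exact add_mem (pow_mem (RingHom.mem_range_self (algebraMap A B) a) _) (hK _ (mul_mem (natCast_mem C p) w.2))
      rw [← pow_mul, ← pow_add] at hmem
      obtain ⟨j, hj⟩ := Nat.exists_eq_add_of_le (le_max_right n (m + K))
      rw [hj, pow_add p _ j, pow_mul]
      exact pow_mem hmem _
  · rintro ⟨hnil, hb⟩
    refine ⟨⟨fun b => ?_⟩, ⟨fun Q1 Q2 h => ?_, fun Q hQ b => ?_⟩, fun a ha => mem_nilradical.2 (hnil a ha)⟩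
    · obtain ⟨n, -, a, ha⟩ := hb b
      exact IsIntegral.of_pow (pow_pos hp.pos n) (ha ▸ isIntegral_algebraMap)
    · ext b
      obtain ⟨n, -, a, ha⟩ := hb b
      rw [← Q1.2.pow_mem_iff_mem _ (pow_pos hp.pos n), ← Q2.2.pow_mem_iff_mem _ (pow_pos hp.pos n), ← ha]
      exact SetLike.ext_iff.1 (congrArg PrimeSpectrum.asIdeal h) a
    · obtain ⟨n, ⟨a, ha⟩, a', ha'⟩ := hb b
      by_cases hpQ : (p : B) ∈ Q
      · refine ⟨a', 1, by rw [map_one]; exact fun h => hQ.ne_top ((Q.eq_top_iff_one).2 h), .inr ⟨p, n, hp, hpQ, ?_⟩⟩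
        rw [map_one, one_mul, ha', sub_self]; exact zero_mem _
      · refine ⟨a, (p : A) ^ n, ?_, .inl ?_⟩
        · rw [map_pow, map_natCast]; exact fun h => hpQ (hQ.mem_of_pow_mem _ h)
        · rw [map_pow, map_natCast, ha, sub_self]; exact zero_mem _

open AlgebraicGeometry in
/-- For a prime number p and a ring map A → B that becomes an isomorphism after inverting p, Spec B →
Spec A is a universal homeomorphism if and only if the kernel consists of nilpotents and every
element of B has some p-power multiple and p-power power in the image. -/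
theorem result {A B : Type u} [CommRing A] [CommRing B] (φ : A →+* B) (p : ℕ) (hp : p.Prime)
    (h : Function.Bijective (Localization.awayMap φ (p : A))) :
    FlatMor.IsUnivHomeo (Spec.map (CommRingCat.ofHom φ)) ↔
      (∀ a ∈ RingHom.ker φ, IsNilpotent a) ∧ ∀ b : B, ∃ n : ℕ, (p ^ n : B) * b ∈ φ.range ∧ b ^ (p ^ n) ∈ φ.range := by
  algebraize [φ]
  rw [show φ = algebraMap A B from rfl, Groth.Agent.UH57.isUnivHomeo_iff]
  refine main p hp fun b => ?_
  obtain ⟨w, hw⟩ := h.2 (algebraMap B (Localization.Away (φ (p : A))) b)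
  obtain ⟨n, a, ha⟩ := IsLocalization.Away.surj (p : A) w
  have e := congrArg (Localization.awayMap φ (p : A)) ha
  simp only [map_mul, map_pow, Localization.awayMap, IsLocalization.Away.map, IsLocalization.map_eq] at e
  simp only [Localization.awayMap, IsLocalization.Away.map] at hw
  rw [hw, ← map_pow, ← map_mul] at e
  obtain ⟨⟨_, k, rfl⟩, hk⟩ := (IsLocalization.eq_iff_exists (Submonoid.powers (φ (p : A))) _).1 e
  refine ⟨k + n, (p : A) ^ k * a, ?_⟩
  rw [show algebraMap A B = φ from rfl, map_mul, map_pow, map_natCast] at *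
  simp only [map_natCast] at hk
  linear_combination hk

end Groth.Agent.S0418
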