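import Groth.Statements.S0422
import Groth.Agent.FlatMor68.FibreNil

set_option autoImplicit false
universe u
open FlatMor

namespace Groth.Agent.S0422

open TensorProduct in
/-- Fibrewise criterion of flatness modulo a locally nilpotent ideal: let R → S be of finite type, S' an
S-algebra which is of finite presentation over R, I an ideal of R all of whose elements are
nilpotent, and M a finitely presented S'-module which is flat over R and such that M/IM is flat over
S/IS. Then M is flat over S. (The published statement also asserts flatness over R of suitable
localizations of S; that part is not stated here.) -/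
theorem result {R S S' M : Type u} [CommRing R] [CommRing S] [CommRing S'] [Algebra R S] [Algebra S S'] [Algebra R S'] [IsScalarTower R S S']
    [Algebra.FiniteType R S] [Algebra.FinitePresentation R S'] (I : Ideal R) (hI : ∀ a ∈ I, IsNilpotent a)
    [AddCommGroup M] [Module S' M] [Module S M] [Module R M] [IsScalarTower S S' M] [IsScalarTower R S M]
    [Module.FinitePresentation S' M] [Module.Flat R M]
    (h : Module.Flat (S ⧸ I.map (algebraMap R S)) ((S ⧸ I.map (algebraMap R S)) ⊗[S] M)) : Module.Flat S M := by
  exact (haveI : IsScalarTower R S' M := IsScalarTower.of_algebraMap_smul (fun r m => by rw [IsScalarTower.algebraMap_apply R S S', algebraMap_smul, algebraMap_smul]); FlatMor68.FibreNil.flat_of_flat_mod_nil (A := R) (B := S) (C := S') I hI M h)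

end Groth.Agent.S0422
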