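import Groth.Statements.S0423
import Groth.Agent.FlatMor67.FlatDiag
import Groth.Agent.FlatMor67.FlatMul
import Mathlib.RingTheory.Ideal.Pure
import Mathlib.AlgebraicGeometry.Morphisms.FormallyUnramified
import Mathlib.AlgebraicGeometry.Morphisms.WeaklyEtale

set_option autoImplicit false
universe u
open FlatMor

namespace Groth.Agent.S0423

open AlgebraicGeometry CategoryTheory Limits in
/-- A weakly étale morphism of schemes (flat with flat diagonal) is formally unramified. -/
theorem result {X Y : Scheme.{u}} (f : X ⟶ Y) [WeaklyEtale f] : FormallyUnramified f := by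
  refine ⟨fun {V} hV {U} hU e => ?_⟩
  algebraize [(f.appLE V U e).hom]
  refine ⟨?_⟩
  have hflat := Groth.Agent.FlatMor67.flat_lmul'_appLE
    (show Flat (pullback.diagonal f) from inferInstance) hU hV e
  have hp : (KaehlerDifferential.ideal Γ(Y, V) Γ(X, U)).Pure :=
    Groth.Agent.FlatMor67.pure_ker_lmul' hflat
  exact (Ideal.cotangent_subsingleton_iff _).mpr (@Ideal.isIdempotentElem_of_pure _ _ _ hp)

end Groth.Agent.S0423
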