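import Groth.Statements.S0428
import Groth.Agent.FlatCrit65.Point.Domain
import Groth.Agent.FlatCrit65.Pullback

set_option autoImplicit false
universe u
open FlatMor

namespace Groth.Agent.S0428

/-- Let R be a domain, S an R-algebra of finite type and M a finite S-module. Then the set of primes q
of S such that the localization M_q is flat over R is open in Spec S. (The published statement
assumes only that R has finitely many weakly associated primes, which a domain has, and also
describes the module over principal opens inside this set; neither refinement is stated here.) -/
theorem result {R S M : Type u} [CommRing R] [IsDomain R] [CommRing S] [Algebra R S] [Algebra.FiniteType R S]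
    [AddCommGroup M] [Module S M] [Module R M] [IsScalarTower R S M] [Module.Finite S M] :
    IsOpen {q : PrimeSpectrum S | Module.Flat R (LocalizedModule q.asIdeal.primeCompl M)} := by
  obtain ⟨n, φ, hφ⟩ := Algebra.FiniteType.iff_quotient_mvPolynomial''.mp (inferInstance : Algebra.FiniteType R S)
  algebraize [φ.toRingHom]
  have : IsScalarTower R (MvPolynomial (Fin n) R) S :=
    IsScalarTower.of_algebraMap_eq fun r => (φ.commutes r).symm
  have : Module.Finite (MvPolynomial (Fin n) R) S :=
    Module.Finite.of_surjective (Algebra.linearMap (MvPolynomial (Fin n) R) S) hφ
  let _ : Module (MvPolynomial (Fin n) R) M := Module.compHom M (algebraMap (MvPolynomial (Fin n) R) S)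
  have : IsScalarTower (MvPolynomial (Fin n) R) S M :=
    IsScalarTower.of_algebraMap_smul fun _ _ => rfl
  have : IsScalarTower R (MvPolynomial (Fin n) R) M :=
    IsScalarTower.of_algebraMap_smul fun r m => by
      show algebraMap (MvPolynomial (Fin n) R) S (algebraMap R _ r) • m = r • m
      rw [← IsScalarTower.algebraMap_apply, algebraMap_smul]
  have : Module.Finite (MvPolynomial (Fin n) R) M := Module.Finite.trans S M
  have h := (Groth.Agent.FlatCrit65.isOpen_flat_locus_domain R (MvPolynomial (Fin n) R) M).preimage
    (PrimeSpectrum.continuous_comap (algebraMap (MvPolynomial (Fin n) R) S))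
  convert h using 1
  ext q
  exact Groth.Agent.FlatCrit65.flat_localized_comap_iff (A := MvPolynomial (Fin n) R) hφ q.asIdeal

end Groth.Agent.S0428
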