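import Groth.Statements.S0435
import Groth.Agent.Sk62.GeomRedFibre

set_option backward.isDefEq.respectTransparency false

universe w

open CategoryTheory CategoryTheory.Limits AlgebraicGeometry in
theorem Groth.Agent.S0435.geometricallyReduced_iff_forall {k : Type w} [Field k] {Z : Scheme.{w}}
    (g : Z ⟶ Spec (CommRingCat.of k)) : GeometricallyReduced g ↔ ∀ z, FBase.IsGeomReducedAt g z := by
  rw [geometricallyReduced_iff, geometrically_iff_of_commRing_of_isClosedUnderIsomorphisms]
  refine ⟨fun H z K _ _ x' _ => ?_, fun H K _ _ => ?_⟩
  · have : IsReduced (FBase.bc g K) := H K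
    exact inferInstance
  · have : ∀ x, _root_.IsReduced ((FBase.bc g K).presheaf.stalk x) := fun x => H _ K x rfl
    exact (isReduced_of_isReduced_stalk _ : IsReduced (FBase.bc g K))

set_option autoImplicit false
universe u
open FlatMor

namespace Groth.Agent.S0435

open AlgebraicGeometry CategoryTheory Limits in
/-- For a flat proper morphism of finite presentation, the points of the target whose fibre is
geometrically reduced form an open subset. -/
theorem result {X Y : Scheme.{u}} (f : X ⟶ Y) [Flat f] [IsProper f] [LocallyOfFinitePresentation f] :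
    IsOpen {y : ↑Y | GeometricallyReduced (f.fiberToSpecResidueField y)} := by
  have key : {y : ↑Y | GeometricallyReduced (f.fiberToSpecResidueField y)} =
      (f '' {x : X | FBase.IsGeomReducedAt (f.fiberToSpecResidueField (f x)) (f.asFiber x)}ᶜ)ᶜ := by
    ext y
    rw [Set.mem_ofPred_eq, geometricallyReduced_iff_forall]
    constructor
    · rintro H ⟨x, hx, rfl⟩
      exact hx (H _)
    · intro H w
      have hy : f (f.fiberι y w) = y := E4O.apply_fiberι f _ w
      have aux : ∀ x, f.fiberι y w = x → f x = y → FBase.IsGeomReducedAt (f.fiberToSpecResidueField y) w := by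
        intro x hw hx
        subst hx
        rw [(f.fiberι (f x)).isEmbedding.injective (hw.trans (f.fiberι_asFiber x).symm)]
        by_contra h
        exact H ⟨x, h, rfl⟩
      exact aux _ rfl hy
  rw [key]
  exact (f.isClosedMap _ (Sk62.isOpen_isGeomReducedAt_fibre f).isClosed_compl).isOpen_compl

end Groth.Agent.S0435
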