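import Groth.Statements.S0443
import Mathlib.AlgebraicGeometry.Morphisms.Finite
import Mathlib.RingTheory.Ideal.GoingUp
import Mathlib.AlgebraicGeometry.AffineScheme

set_option autoImplicit false
universe u
open FlatMor

namespace Groth.Agent.S0443

open AlgebraicGeometry CategoryTheory Limits in
/-- For a finite morphism π : X → Y and a point x of X that is the only point of its fibre, the induced
homomorphism of local rings O_{Y,π(x)} → O_{X,x} is finite. (The published lemma has further parts,
not stated here.) -/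
theorem result {X Y : Scheme.{u}} (π : X ⟶ Y) [IsFinite π] (x : X) (hx : ∀ x' : ↑X, π x' = π x → x' = x) :
    (π.stalkMap x).hom.Finite := by
  classical
  obtain ⟨_, ⟨V, hV, rfl⟩, hxV, -⟩ :=
    Y.isBasis_affineOpens.exists_subset_of_mem_open (Set.mem_univ (π x)) isOpen_univ
  let U : X.Opens := π ⁻¹ᵁ V
  have hU : IsAffineOpen U := hV.preimage π
  have hxU : x ∈ U := hxV
  have hfin : (π.appLE V U le_rfl).hom.Finite := by
    rw [← π.app_eq_appLE]
    exact IsFinite.finite_app π V hV
  algebraize [(π.appLE V U le_rfl).hom]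
  set p := (hV.primeIdealOf ⟨π x, hxV⟩).asIdeal with hp
  set q := (hU.primeIdealOf ⟨x, hxU⟩).asIdeal with hq
  have hpq : q.comap (algebraMap Γ(Y, V) Γ(X, U)) = p :=
    congrArg PrimeSpectrum.asIdeal
      (IsAffineOpen.comap_primeIdealOf_appLE (f := π) V hV U hU le_rfl hxU)
  have : q.LiesOver p := ⟨hpq.symm⟩
  have huniq : p.primesOver Γ(X, U) = {q} := by
    ext Q
    constructor
    · rintro ⟨hQ, ⟨hQp⟩⟩
      let z : Spec Γ(X, U) := (⟨Q, hQ⟩ : PrimeSpectrum Γ(X, U))
      have h1 : π (hU.fromSpec z) = π x := by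
        rw [← Scheme.Hom.comp_apply, ← hV.SpecMap_appLE_fromSpec π hU le_rfl,
          Scheme.Hom.comp_apply]
        have h2 : Spec.map (π.appLE V U le_rfl) z = hV.primeIdealOf ⟨π x, hxV⟩ :=
          PrimeSpectrum.ext hQp.symm
        rw [h2, hV.fromSpec_primeIdealOf]
      have h3 : hU.fromSpec z = hU.fromSpec (hU.primeIdealOf ⟨x, hxU⟩) := by
        rw [hU.fromSpec_primeIdealOf]
        exact hx _ h1
      exact congrArg PrimeSpectrum.asIdeal (hU.fromSpec.isOpenEmbedding.injective h3)
    · rintro rfl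
      exact ⟨inferInstance, inferInstance⟩
  let := TopCat.Presheaf.algebra_section_stalk Y.presheaf ⟨π x, hxV⟩
  have := hV.isLocalization_stalk ⟨π x, hxV⟩
  let := TopCat.Presheaf.algebra_section_stalk X.presheaf ⟨x, hxU⟩
  have := hU.isLocalization_stalk ⟨x, hxU⟩
  obtain ⟨G, hG⟩ := Module.Finite.fg_top (R := Γ(Y, V)) (M := Γ(X, U))
  let φ := π.stalkMap x
  have hg : ∀ a : Γ(Y, V), X.presheaf.germ U x hxU (π.appLE V U le_rfl a) =
      φ (Y.presheaf.germ V (π x) hxV a) := fun a => by
    refine Eq.trans ?_ (Scheme.Hom.germ_stalkMap_apply π V x hxV a).symm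
    exact TopCat.Presheaf.germ_res_apply X.presheaf (homOfLE le_rfl) x hxU _
  letI : Algebra (Y.presheaf.stalk (π x)) (X.presheaf.stalk x) := φ.hom.toAlgebra
  refine (⟨⟨G.image (fun g => X.presheaf.germ U x hxU g), eq_top_iff.mpr ?_⟩⟩ :
    Module.Finite (Y.presheaf.stalk (π x)) (X.presheaf.stalk x))
  intro w _
  obtain ⟨⟨b, c, hc⟩, hw⟩ := IsLocalization.surj q.primeCompl w
  obtain ⟨r, hr, d, hd⟩ :=
    Ideal.exists_notMem_dvd_algebraMap_of_primesOver_eq_singleton huniq c hc
  have hru : IsUnit (Y.presheaf.germ V (π x) hxV r) :=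
    IsLocalization.map_units (Y.presheaf.stalk (π x)) (⟨r, hr⟩ : p.primeCompl)
  have key : ∀ b : Γ(X, U), X.presheaf.germ U x hxU b ∈
      Submodule.span (Y.presheaf.stalk (π x))
        ((G.image fun g => X.presheaf.germ U x hxU g : Finset _) : Set (X.presheaf.stalk x)) := by
    intro b
    have hb : b ∈ Submodule.span Γ(Y, V) (G : Set Γ(X, U)) := hG ▸ Submodule.mem_top
    induction hb using Submodule.span_induction with
    | mem g hg' => exact Submodule.subset_span (Finset.mem_image_of_mem _ hg')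
    | zero => simp
    | add u v _ _ hu hv => rw [map_add]; exact add_mem hu hv
    | smul a u _ hu =>
      rw [Algebra.smul_def, map_mul]
      have h := Submodule.smul_mem _ (Y.presheaf.germ V (π x) hxV a) hu
      rw [Algebra.smul_def] at h
      rwa [show X.presheaf.germ U x hxU (algebraMap Γ(Y, V) Γ(X, U) a) =
        algebraMap (Y.presheaf.stalk (π x)) (X.presheaf.stalk x)
          (Y.presheaf.germ V (π x) hxV a) from hg a]
  have h1 : algebraMap (Y.presheaf.stalk (π x)) (X.presheaf.stalk x)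
      (Y.presheaf.germ V (π x) hxV r) * w = X.presheaf.germ U x hxU (d * b) := by
    rw [show algebraMap (Y.presheaf.stalk (π x)) (X.presheaf.stalk x)
      (Y.presheaf.germ V (π x) hxV r) = X.presheaf.germ U x hxU (algebraMap Γ(Y, V) Γ(X, U) r)
      from (hg r).symm, hd, map_mul, map_mul]
    rw [mul_comm (X.presheaf.germ U x hxU c), mul_assoc, mul_comm _ w]
    exact congrArg _ hw
  have h2 := Submodule.smul_mem _ (hru.unit⁻¹ : (Y.presheaf.stalk (π x))ˣ).val (key (d * b))
  rw [← h1, Algebra.smul_def, ← mul_assoc, ← map_mul, IsUnit.val_inv_mul, map_one, one_mul] at h2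
  exact h2

end Groth.Agent.S0443
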