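import Groth.Statements.S4932
import Groth.Agent.E4O.ValDim
import Groth.Agent.E4O.FibreComp

set_option autoImplicit false
open CategoryTheory AlgebraicGeometry
universe u v w
open EGA43

namespace Groth.Agent.S4932

/-- Let A be a valuation ring (not necessarily discrete), X an irreducible scheme and f : X ⟶ Spec A a
dominant morphism of finite type. If the fibre X_0 of f over the closed point is nonempty, then dim
X_0 = dim X_1, where X_1 is the fibre over the generic point. -/
theorem result {A : Type u} [CommRing A] [IsDomain A]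
    [ValuationRing A] {X : Scheme.{u}} [IrreducibleSpace X] (f : X ⟶ Spec (CommRingCat.of A))
    [LocallyOfFiniteType f] [QuasiCompact f] [IsDominant f]
    (h0 : Nonempty ↥(f.fiber (IsLocalRing.closedPoint A))) :
    topologicalKrullDim ↥(f.fiber (IsLocalRing.closedPoint A)) =
      topologicalKrullDim ↥(f.fiber (genericPoint (Spec (CommRingCat.of A)))) := by
  let ξ := genericPoint X
  have hξ : ∀ z : X, ξ ⤳ z := genericPoint_specializes
  let η := genericPoint (Spec (CommRingCat.of A))
  have hfξ : f ξ = η := by
    refine (Specializes.antisymm ?_ (genericPoint_specializes _)).eq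
    refine specializes_iff_mem_closure.2 ?_
    have : closure ({f ξ} : Set (Spec (CommRingCat.of A))) = Set.univ := by
      refine Set.eq_univ_of_univ_subset ?_
      rw [← f.denseRange.closure_range]
      refine closure_minimal ?_ isClosed_closure
      rintro _ ⟨t, rfl⟩
      exact specializes_iff_mem_closure.1 ((hξ t).map f.continuous)
    rw [this]; trivial
  obtain ⟨z₀⟩ := h0
  obtain ⟨z, hz, hfz, hzmax, -, -⟩ := Groth.Agent.E4O.exists_isFibreMax_specializes f
    (f.fiberι _ z₀)
  replace hfz := hfz.trans (Groth.Agent.E4O.apply_fiberι f _ z₀)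
  have hlow : Groth.Agent.E4O.fdeg f ξ ≤ Groth.Agent.E4O.fdeg f z := by
    have := Groth.Agent.E4O.fdeg_le_fibreDimAt_of_specializes (f := f) (hξ z)
    rw [Groth.Agent.E4O.fibreDimAt_eq_fdeg hzmax] at this
    exact_mod_cast this
  refine le_antisymm ?_ ?_
  · refine (Groth.Agent.E4O.dim_fiber_le_iff f _ _).2 fun x hx => ?_
    refine le_trans ?_ (hfξ ▸ Groth.Agent.E4O.le_dim_fiber f ξ)
    exact_mod_cast Groth.Agent.E4O.fdeg_le_of_specializes_of_valuationRing f (hξ x) hx
  · refine (Groth.Agent.E4O.dim_fiber_le_iff f _ _).2 fun x hx => ?_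
    refine le_trans ?_ (hfz ▸ Groth.Agent.E4O.le_dim_fiber f z)
    exact_mod_cast (Groth.Agent.E4O.fdeg_le (hξ x) (hfξ.trans hx.symm)).trans hlow

end Groth.Agent.S4932
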