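import Groth.Statements.S0444
import Groth.Agent.S4932
open CategoryTheory CategoryTheory.Limits AlgebraicGeometry
set_option backward.isDefEq.respectTransparency.types false

set_option autoImplicit false
universe u
open FlatMor

theorem Groth.Agent.S0444.dim_tensor_eq_fiber {R S K : Type u} [CommRing R] [CommRing S] [Field K] [Algebra R S] [Algebra R K]
    [IsPreimmersion (Spec.map (CommRingCat.ofHom (algebraMap R K)))] (s : Spec (CommRingCat.of R))
    (hs : PrimeSpectrum.comap (algebraMap R K) (IsLocalRing.closedPoint K) = s) :
    ringKrullDim (TensorProduct R K S) =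
      topologicalKrullDim ↥((Spec.map (CommRingCat.ofHom (algebraMap R S))).fiber s) := by
  rw [← PrimeSpectrum.topologicalKrullDim_eq_ringKrullDim]
  let f := Spec.map (CommRingCat.ofHom (algebraMap R S))
  let e := Spec.map (CommRingCat.ofHom (algebraMap R K))
  let P := pullback e f
  have hr : Set.range (pullback.snd e f) = f ⁻¹' {s} := by
    rw [Scheme.Pullback.range_snd]
    have : Set.range e = {s} := by
      refine Set.eq_singleton_iff_unique_mem.2 ⟨⟨_, hs⟩, ?_⟩
      rintro _ ⟨p, rfl⟩
      rw [Subsingleton.elim p (IsLocalRing.closedPoint K)]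
      exact hs
    rw [this]
  let h : P ≃ₜ ↥(f.fiber s) := ((pullback.snd e f).isEmbedding.toHomeomorph.trans
    (Homeomorph.setCongr hr)).trans (f.fiberHomeo s).symm
  let h' : Spec (CommRingCat.of (TensorProduct R K S)) ≃ₜ P := Scheme.homeoOfIso (pullbackSpecIso R K S).symm
  exact IsHomeomorph.topologicalKrullDim_eq _ (h'.trans h).isHomeomorph

namespace Groth.Agent.S0444

open TensorProduct in
/-- Let R be a valuation ring with residue field κ and fraction field K, and S a domain of finite type
over R with R → S injective. If the special fibre κ ⊗_R S is nonzero, then its Krull dimension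
equals the Krull dimension of the generic fibre K ⊗_R S. (The published statement also asserts that
the special fibre is equidimensional; that is not stated here.) -/
theorem result {R S : Type u} [CommRing R] [IsDomain R] [ValuationRing R] [CommRing S] [IsDomain S] [Algebra R S]
    (hinj : Function.Injective (algebraMap R S)) [Algebra.FiniteType R S]
    [Nontrivial (IsLocalRing.ResidueField R ⊗[R] S)] :
    ringKrullDim (IsLocalRing.ResidueField R ⊗[R] S) = ringKrullDim (FractionRing R ⊗[R] S) := by
  let f := Spec.map (CommRingCat.ofHom (algebraMap R S))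
  haveI : IsDomain (CommRingCat.of S) := inferInstanceAs (IsDomain S)
  haveI : IrreducibleSpace (Spec (CommRingCat.of S)) := inferInstance
  haveI : LocallyOfFiniteType f := by
    rw [HasRingHomProperty.Spec_iff (P := @LocallyOfFiniteType)]
    exact RingHom.finiteType_algebraMap.2 inferInstance
  haveI : QuasiCompact f := inferInstance
  haveI : IsDominant f := by
    exact ⟨(PrimeSpectrum.denseRange_comap_iff_ker_le_nilRadical _).2 (((RingHom.injective_iff_ker_eq_bot _).1 hinj).le.trans bot_le)⟩
  haveI : IsPreimmersion (Spec.map (CommRingCat.ofHom (algebraMap R (IsLocalRing.ResidueField R)))) :=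
    haveI := IsClosedImmersion.spec_of_surjective (CommRingCat.ofHom (algebraMap R (IsLocalRing.ResidueField R))) IsLocalRing.residue_surjective
    inferInstance
  haveI : IsPreimmersion (Spec.map (CommRingCat.ofHom (algebraMap R (FractionRing R)))) :=
    IsPreimmersion.of_isLocalization (nonZeroDivisors R)
  have h0 : PrimeSpectrum.comap (algebraMap R (IsLocalRing.ResidueField R)) (IsLocalRing.closedPoint _) =
      IsLocalRing.closedPoint R := by
    haveI : IsLocalHom (algebraMap R (IsLocalRing.ResidueField R)) := inferInstanceAs (IsLocalHom (IsLocalRing.residue R))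
    exact IsLocalRing.comap_closedPoint _
  have h1 : PrimeSpectrum.comap (algebraMap R (FractionRing R)) (IsLocalRing.closedPoint _) =
      genericPoint (Spec (CommRingCat.of R)) := by
    rw [genericPoint_eq_bot_of_affine]
    refine PrimeSpectrum.ext ?_
    show (IsLocalRing.maximalIdeal (FractionRing R)).comap (algebraMap R _) = ⊥
    rw [IsLocalRing.maximalIdeal_eq_bot, ← RingHom.ker_eq_comap_bot,
      (RingHom.injective_iff_ker_eq_bot _).1 (IsFractionRing.injective R (FractionRing R))]
  rw [dim_tensor_eq_fiber _ h0, dim_tensor_eq_fiber _ h1]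
  refine Groth.Agent.S4932.result f ?_
  obtain ⟨p⟩ := (inferInstance : Nonempty (PrimeSpectrum (TensorProduct R (IsLocalRing.ResidueField R) S)))
  refine ⟨((f.fiberHomeo _).symm ⟨PrimeSpectrum.comap Algebra.TensorProduct.includeRight.toRingHom p, ?_⟩)⟩
  show PrimeSpectrum.comap (algebraMap R S) _ = _
  rw [← PrimeSpectrum.comap_comp_apply, AlgHom.toRingHom_eq_coe, AlgHom.comp_algebraMap,
    IsScalarTower.algebraMap_eq R (IsLocalRing.ResidueField R) (TensorProduct R _ S), PrimeSpectrum.comap_comp_apply,
    Subsingleton.elim (PrimeSpectrum.comap (algebraMap (IsLocalRing.ResidueField R) _) p) (IsLocalRing.closedPoint _)]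
  exact h0

end Groth.Agent.S0444
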