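import Groth.Statements.S0447
import Groth.Agent.RG29.GeomIntProj

set_option autoImplicit false
universe u
open FlatMor

namespace Groth.Agent.S0447

open AlgebraicGeometry CategoryTheory Limits in
/-- For a flat morphism of finite presentation between affine schemes whose fibres are geometrically
integral, the coordinate ring of the source is a projective module over that of the target. -/
theorem result {X S : Scheme.{u}} (f : X ⟶ S) [IsAffine X] [IsAffine S] [Flat f] [LocallyOfFinitePresentation f] [GeometricallyIntegral f] :
    @Module.Projective Γ(S, ⊤) _ Γ(X, ⊤) _ (f.appTop).hom.toAlgebra.toModule := by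
  let φ := f.appTop
  have heq : Spec.map φ = X.isoSpec.inv ≫ f ≫ S.isoSpec.hom := by
    rw [← Scheme.isoSpec_hom_naturality, Iso.inv_hom_id_assoc]
  letI : Algebra Γ(S, ⊤) Γ(X, ⊤) := φ.hom.toAlgebra
  have hint : FlatCA.GeomIntegralFibres Γ(S, ⊤) Γ(X, ⊤) := by
    show GeometricallyIntegral (Spec.map φ)
    rw [heq]
    exact (MorphismProperty.cancel_left_of_respectsIso @GeometricallyIntegral _ _).2
      ((MorphismProperty.cancel_right_of_respectsIso @GeometricallyIntegral _ _).2 inferInstance)
  haveI : Module.Flat Γ(S, ⊤) Γ(X, ⊤) := by
    have : φ.hom.Flat := HasRingHomProperty.appTop (P := @Flat) f inferInstance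
    exact this
  haveI : Algebra.FinitePresentation Γ(S, ⊤) Γ(X, ⊤) := by
    have : φ.hom.FinitePresentation := HasRingHomProperty.appTop (P := @LocallyOfFinitePresentation) f inferInstance
    exact this
  exact Groth.Agent.RG29.projective_of_geomIntegral hint

end Groth.Agent.S0447
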