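import Groth.Statements.S0448
import Groth.Agent.FlatCrit65.UnivInj

set_option autoImplicit false
universe u
open FlatMor

namespace Groth.Agent.S0448

open TensorProduct in
/-- Over a local ring, a linear map from a projective module to a flat module which is injective modulo
the maximal ideal is universally injective (injective after tensoring with any module). -/
theorem result {R M N : Type u} [CommRing R] [IsLocalRing R] [AddCommGroup M] [Module R M] [Module.Projective R M]
    [AddCommGroup N] [Module R N] [Module.Flat R N] (u : M →ₗ[R] N)
    (h : Function.Injective (LinearMap.lTensor (IsLocalRing.ResidueField R) u)) :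
    ∀ (Q : Type u) [AddCommGroup Q] [Module R Q], Function.Injective (LinearMap.rTensor Q u) := by
  intro Q _ _
  exact (LinearMap.lTensor_inj_iff_rTensor_inj _ _).mp
    (Groth.Agent.FlatCrit65.lTensor_injective_of_projective u h Q)

end Groth.Agent.S0448
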