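import Groth.Statements.S0451
import Groth.Agent.FlatCrit65.Point.Dense

set_option autoImplicit false
universe u
open FlatMor

namespace Groth.Agent.S0451

open AlgebraicGeometry CategoryTheory Limits in
/-- A flat morphism locally of finite type which is locally of finite presentation over a quasi-compact
scheme-theoretically dense open of the target is locally of finite presentation. -/
theorem result {X S : Scheme.{u}} (f : X ⟶ S) [LocallyOfFiniteType f] [Flat f] (U : S.Opens)
    [QuasiCompact U.ι] [IsSchemeTheoreticallyDominant U.ι] [LocallyOfFinitePresentation (f ∣_ U)] : LocallyOfFinitePresentation f := by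
  refine ⟨fun {W} hW {V} hV e => ?_⟩
  have htrans : ∀ {W₁ W₂ : S.Opens} {V₁ V₂ : X.Opens} (e₁ : V₁ ≤ f ⁻¹ᵁ W₁) (e₂ : V₂ ≤ f ⁻¹ᵁ W₂),
      W₁ = W₂ → V₁ = V₂ → (f.appLE W₁ V₁ e₁).hom.FinitePresentation →
      (f.appLE W₂ V₂ e₂).hom.FinitePresentation := by
    rintro W₁ W₂ V₁ V₂ e₁ e₂ rfl rfl h
    exact h
  have hrest : ∀ {W' : S.Opens} (hW' : IsAffineOpen W') {V' : X.Opens} (hV' : IsAffineOpen V')
      (e' : V' ≤ f ⁻¹ᵁ W'), W' ≤ U → (f.appLE W' V' e').hom.FinitePresentation := by
    intro W' hW' V' hV' e' hle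
    have hleV : V' ≤ f ⁻¹ᵁ U := e'.trans (f.preimage_mono hle)
    have h := (f ∣_ U).finitePresentation_appLE
      (hW'.preimage_of_isOpenImmersion U.ι (by simpa using hle))
      (hV'.preimage_of_isOpenImmersion (f ⁻¹ᵁ U).ι (by simpa using hleV))
      (fun x hx => by
        show U.ι ((f ∣_ U) x) ∈ W'
        rw [← Scheme.Hom.comp_apply, morphismRestrict_ι, Scheme.Hom.comp_apply]
        exact e' hx)
    rw [morphismRestrict_appLE] at h
    refine htrans _ _ ?_ ?_ h
    · rw [Scheme.Hom.image_preimage_eq_opensRange_inf, Scheme.Opens.opensRange_ι]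
      exact inf_eq_right.mpr hle
    · rw [Scheme.Hom.image_preimage_eq_opensRange_inf, Scheme.Opens.opensRange_ι]
      exact inf_eq_right.mpr hleV
  have hcompact : IsCompact ((U ⊓ W : S.Opens) : Set S) := by
    have h1 := (U.ι.isCompact_preimage hW.isCompact).image U.ι.continuous
    convert h1 using 1
    ext x
    simp only [TopologicalSpace.Opens.coe_inf, Set.mem_inter_iff, SetLike.mem_coe, Set.mem_image, Set.mem_preimage]
    exact ⟨fun h => ⟨⟨x, h.1⟩, h.2, rfl⟩, by rintro ⟨y, hy, rfl⟩; exact ⟨y.2, hy⟩⟩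
  choose r hr hxr using fun x : {x : S // x ∈ U ⊓ W} => hW.exists_basicOpen_le ⟨x.1, x.2.1⟩ x.2.2
  obtain ⟨t, ht⟩ := hcompact.elim_finite_subcover (fun x => (S.basicOpen (r x) : Set S))
    (fun x => (S.basicOpen (r x)).isOpen) (fun x hx => Set.mem_iUnion.mpr ⟨⟨x, hx⟩, hxr _⟩)
  have hflat := Flat.flat_appLE f hW hV e
  have hft := LocallyOfFiniteType.finiteType_appLE f hW hV e
  algebraize [(f.appLE W V e).hom]
  let φ : Fin t.card → Γ(S, W) := fun i => r (t.equivFin.symm i)
  have hloc : ∀ i, IsLocalization.Away (algebraMap Γ(S, W) Γ(X, V) (φ i)) Γ(X, X.basicOpen (f.appLE W V e (φ i))) :=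
    fun i => hV.isLocalization_basicOpen _
  refine Groth.Agent.FlatCrit65.finitePresentation_algebra_of_dense φ ?_
    (fun i => Γ(X, X.basicOpen (f.appLE W V e (φ i)))) ?_
  · intro c hc
    have hres : ∀ x ∈ t, S.presheaf.map (homOfLE (S.basicOpen_le (r x))).op c = 0 := by
      intro x hx
      obtain ⟨m, hm⟩ := hc (t.equivFin ⟨x, hx⟩)
      simp only [φ, Equiv.symm_apply_apply] at hm
      have := hW.isLocalization_basicOpen (r x)
      exact (IsLocalization.map_eq_zero_iff (Submonoid.powers (r x)) Γ(S, S.basicOpen (r x)) c).mpr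
        ⟨⟨_, m, rfl⟩, hm⟩
    apply U.ι.app_injective W
    rw [map_zero]
    refine U.toScheme.IsSheaf.section_ext fun y hy => ?_
    obtain ⟨x, hxt, hyx⟩ := Set.mem_iUnion₂.mp (ht (show U.ι y ∈ ((U ⊓ W : S.Opens) : Set S) from ⟨y.2, hy⟩))
    refine ⟨U.ι ⁻¹ᵁ S.basicOpen (r x), U.ι.preimage_mono (S.basicOpen_le _), hyx, ?_⟩
    rw [map_zero, ← ConcreteCategory.comp_apply]
    refine (ConcreteCategory.congr_hom (U.ι.naturality (homOfLE (S.basicOpen_le (r x))).op).symm c).trans ?_
    rw [ConcreteCategory.comp_apply, hres x hxt, map_zero]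
  · intro i
    have := hW.isLocalization_basicOpen (φ i)
    have e' : X.basicOpen (f.appLE W V e (φ i)) ≤ f ⁻¹ᵁ S.basicOpen (φ i) := by
      rw [Scheme.basicOpen_appLE]; exact inf_le_right
    have h1 := hrest (hW.basicOpen (φ i)) (hV.basicOpen _) e' (hr _)
    have h2 : (S.presheaf.map (homOfLE (S.basicOpen_le (φ i))).op).hom.FinitePresentation :=
      RingHom.finitePresentation_algebraMap.mpr (IsLocalization.Away.finitePresentation (φ i))
    have h3 := h1.comp h2
    rw [← CommRingCat.hom_comp, f.map_appLE] at h3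
    show ((X.presheaf.map (homOfLE (X.basicOpen_le _)).op).hom.comp (f.appLE W V e).hom).FinitePresentation
    rw [← CommRingCat.hom_comp, f.appLE_map]
    exact h3

end Groth.Agent.S0451
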