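import Groth.Statements.S0471
import Groth.Agent.TopCoh49.Soft
import Mathlib.Topology.Separation.Profinite

set_option autoImplicit false
universe u
open CategoryTheory
open CohTop

namespace Groth.Agent.S0471

/-- If X is profinite (compact, Hausdorff, totally disconnected), then H^(p+1)(X, F) = 0 for every
abelian sheaf F. -/
theorem result {X : TopCat.{u}} [CompactSpace X] [T2Space X] [TotallyDisconnectedSpace X]
    (F : CohTop.Ab X) (p : ℕ) : Subsingleton (CohTop.H F (p + 1)) := by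
  refine Groth.Agent.TopCoh49.subsingleton_H_of_isSoft p F fun K hK W hW s => ?_
  have hloc : ∀ z ∈ K, ∃ V : Set X, IsClopen V ∧ z ∈ V ∧ V ⊆ (W : Set X) := fun z hz => by
    obtain ⟨V, hV, hzV, hVW⟩ := compact_exists_isClopen_in_isOpen W.2 (hW hz)
    exact ⟨V, hV, hzV, hVW⟩
  choose! V hV hzV hVW using hloc
  obtain ⟨t, htK, hcov⟩ := hK.elim_nhds_subcover V fun z hz => (hV z hz).2.mem_nhds (hzV z hz)
  have hC : IsClopen (⋃ z ∈ t, V z) := t.finite_toSet.isClopen_biUnion fun z hz => hV z (htK z hz)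
  let A : TopologicalSpace.Opens X := ⟨_, hC.2⟩
  let B : TopologicalSpace.Opens X := ⟨_, hC.compl.2⟩
  have hAW : A ≤ W := Set.iUnion₂_subset fun z hz => hVW z (htK z hz)
  obtain ⟨c, hc, -⟩ := Groth.Agent.TopCoh49.exists_glue₂ F (U := A) (V := B)
    (Groth.Agent.TopCoh49.rs F.obj hAW s) 0
    (Groth.Agent.TopCoh49.eq_of_germ_eq F fun x hx => absurd hx.1 hx.2)
  have hle : (⊤ : TopologicalSpace.Opens X) ≤ A ⊔ B := fun x _ => em (x ∈ (A : Set X))
  refine ⟨Groth.Agent.TopCoh49.rs F.obj hle c, A, hAW, hcov, ?_⟩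
  exact (Groth.Agent.TopCoh49.rs_rs F.obj hle le_top c).trans hc

end Groth.Agent.S0471
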