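import Groth.Statements.S0480
import Mathlib.Algebra.Homology.HomotopyCategory.MappingCone
import Mathlib.Algebra.Homology.HomotopyCategory.Pretriangulated

set_option autoImplicit false
universe v u
open CategoryTheory
open CohDer

namespace Groth.Agent.S0480

open CategoryTheory.Limits in
/-- In an abelian category, if the product of a family of K-injective cochain complexes exists (it is
then the termwise product), it is again K-injective. -/
theorem result {A : Type u} [Category.{v} A] [Abelian A] {T : Type v} (I : T → CochainComplex A ℤ)
    [HasProduct I] (h : ∀ t, (I t).IsKInjective) : (∏ᶜ I).IsKInjective := by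
  refine ⟨fun {K} f hK => ?_⟩
  have hid : Homotopy (CochainComplex.mappingCone.inr (𝟙 K)) 0 :=
    (Homotopy.ofEq (Category.comp_id _).symm).trans
      (((CochainComplex.mappingCone.homotopyToZeroOfId K).compLeft
        (CochainComplex.mappingCone.inr (𝟙 K))).trans (Homotopy.ofEq (by simp)))
  replace h := fun t => ((h t).nonempty_homotopy_zero (f ≫ Pi.π I t) hK).some
  let g : CochainComplex.mappingCone (𝟙 K) ⟶ ∏ᶜ I := Pi.lift fun t =>
    CochainComplex.mappingCone.desc (𝟙 K) ((CochainComplex.HomComplex.Cochain.equivHomotopy _ _) (h t)).1
      (f ≫ Pi.π I t) (by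
        have := ((CochainComplex.HomComplex.Cochain.equivHomotopy _ _) (h t)).2
        simp only [CochainComplex.HomComplex.Cochain.ofHom_zero, add_zero] at this
        rw [Category.id_comp]
        exact this.symm)
  refine ⟨(Homotopy.ofEq ?_).trans ((hid.compRight g).trans (Homotopy.ofEq (by simp)))⟩
  apply Pi.hom_ext
  intro t
  simp [g]

end Groth.Agent.S0480
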