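import Groth.Statements.S0481


set_option autoImplicit false
universe v u
open CategoryTheory
open CohDer

namespace Groth.Agent.S0481

open CategoryTheory.Limits in
/-- Let u : A ⥤ B be right adjoint to an exact additive functor w : B ⥤ A between abelian categories.
Then u applied termwise sends K-injective complexes to K-injective complexes. -/
theorem result {A : Type u} [Category.{v} A] [Abelian A]
    {B : Type u} [Category.{v} B] [Abelian B] (u : A ⥤ B) (w : B ⥤ A) (adj : w ⊣ u)
    [u.Additive] [w.Additive] [PreservesFiniteLimits w] [PreservesFiniteColimits w]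
    (I : CochainComplex A ℤ) (h : I.IsKInjective) :
    CochainComplex.IsKInjective ((u.mapHomologicalComplex (ComplexShape.up ℤ)).obj I) := by
  refine ⟨fun {K} f hK => ?_⟩
  let w' := w.mapHomologicalComplex (ComplexShape.up ℤ)
  let u' := u.mapHomologicalComplex (ComplexShape.up ℤ)
  have hwK : (w'.obj K).Acyclic := fun n =>
    ShortComplex.exact_of_iso (Iso.refl _) ((hK n).map w)
  let g : w'.obj K ⟶ I :=
    { f := fun n => (adj.homEquiv _ _).symm (f.f n)
      comm' := fun i j _ => by
        change (adj.homEquiv _ _).symm (f.f i) ≫ I.d i j = w.map (K.d i j) ≫ (adj.homEquiv _ _).symm (f.f j)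
        rw [← adj.homEquiv_naturality_left_symm, ← adj.homEquiv_naturality_right_symm]
        exact congrArg _ (f.comm i j) }
  obtain ⟨hg⟩ := h.nonempty_homotopy_zero g hwK
  let η : K ⟶ u'.obj (w'.obj K) := (NatTrans.mapHomologicalComplex adj.unit (ComplexShape.up ℤ)).app K ≫
    𝟙 _
  refine ⟨(Homotopy.ofEq ?_).trans (((u.mapHomotopy hg).compLeft η).trans (Homotopy.ofEq (by simp)))⟩
  ext n
  change f.f n = (adj.unit.app _ ≫ 𝟙 _) ≫ u.map (g.f n)
  rw [Category.comp_id]
  exact ((adj.homEquiv _ _).apply_symm_apply (f.f n)).symm.trans (Adjunction.homEquiv_unit _ _ _ _)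

end Groth.Agent.S0481
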