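import Groth.Statements.S0490
import Groth.Agent.CohDer42.Orth

set_option autoImplicit false
universe v u
open CategoryTheory
open CohDer

namespace Groth.Agent.S0490
open CategoryTheory.Category CategoryTheory.Limits CategoryTheory.Pretriangulated

open CategoryTheory.Pretriangulated in
/-- Let A be a full triangulated subcategory of a pretriangulated category D (an object property
containing zero, stable under shifts and closed under extensions). The inclusion A → D is a left
adjoint (i.e. has a right adjoint) if and only if every object X of D fits in a distinguished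
triangle A → X → B → A[1] with A in the subcategory and B right orthogonal to it. (The source's
further conclusions about saturation are not asserted.) -/
theorem result {D : Type u} [Category.{v} D] [Preadditive D] [Limits.HasZeroObject D] [HasShift D ℤ]
    [∀ n : ℤ, (shiftFunctor D n).Additive] [Pretriangulated D]
    (P : ObjectProperty D) [P.IsTriangulated] :
    P.ι.IsLeftAdjoint ↔ ∀ X : D, ∃ (A B : D) (f : A ⟶ X) (g : X ⟶ B) (h : B ⟶ (shiftFunctor D (1 : ℤ)).obj A),
      Triangle.mk f g h ∈ distinguishedTriangles ∧ P A ∧ P.rightOrthogonal B := by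
  constructor
  · intro hι X
    let adj := Adjunction.ofIsLeftAdjoint P.ι
    let G := P.ι.rightAdjoint
    obtain ⟨B, g, h, hT⟩ := distinguished_cocone_triangle (adj.counit.app X)
    refine ⟨(G.obj X).obj, B, adj.counit.app X, g, h, hT, (G.obj X).property, ?_⟩
    refine (Groth.Agent.CohDer42.rightOrthogonal_third_iff P _ hT).2 fun A hA => ?_
    have hb := (adj.homEquiv ⟨A, hA⟩ X).symm.bijective
    refine ⟨fun u₁ u₂ e => ?_, fun v => ?_⟩
    · have := @hb.1 (P.homMk u₁) (P.homMk u₂) (by
        simp only [Adjunction.homEquiv_counit]
        exact e)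
      exact congrArg InducedCategory.Hom.hom this
    · obtain ⟨u, hu⟩ := hb.2 v
      exact ⟨u.hom, by rw [← hu, Adjunction.homEquiv_counit]; rfl⟩
  · intro H
    choose A B f g h hT hA hB using H
    have hbij := fun X (Y : P.FullSubcategory) =>
      (Groth.Agent.CohDer42.rightOrthogonal_third_iff P _ (hT X)).1 (hB X) Y.obj Y.property
    let e : ∀ (Y : P.FullSubcategory) (X : D), (P.ι.obj Y ⟶ X) ≃ (Y ⟶ ⟨A X, hA X⟩) := fun Y X =>
      ((Equiv.ofBijective _ (hbij X Y)).symm).trans
        ⟨fun u => P.homMk u, fun u => u.hom, fun _ => rfl, fun _ => rfl⟩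
    have he : ∀ X' X Y q r, e X' Y (P.ι.map q ≫ r) = q ≫ e X Y r := by
      intro X' X Y q r
      apply ObjectProperty.hom_ext
      apply (hbij Y X').1
      change _ = (q.hom ≫ _) ≫ f Y
      rw [Category.assoc]
      exact ((Equiv.ofBijective _ (hbij Y X')).apply_symm_apply _).trans
        (congrArg (q.hom ≫ ·) ((Equiv.ofBijective _ (hbij Y X)).apply_symm_apply r).symm)
    exact (Adjunction.adjunctionOfEquivRight e he).isLeftAdjoint

end Groth.Agent.S0490
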