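import Groth.Statements.S0905
import Groth.Agent.SiteCoh.Free

set_option autoImplicit false
universe u
open CategoryTheory
open CohSite

namespace Groth.Agent.S0905

open Opposite CategoryTheory.Limits CategoryTheory.Abelian

lemma surjective_app {C : Type u} [SmallCategory C] {J : GrothendieckTopology C}
    {U : C} (hU : CohSite.IsWeaklyContractible J U) {F G : Sheaf J AddCommGrpCat.{u}}
    (g : F ⟶ G) [Epi g] : Function.Surjective (g.hom.app (op U)) := by
  have : Sheaf.IsLocallySurjective g := (Sheaf.isLocallySurjective_iff_epi' AddCommGrpCat.{u} g).2 ‹_›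
  exact hU _ _ ((sheafCompose J (forget AddCommGrpCat.{u})).map g) inferInstance

lemma hu_subsingleton {C : Type u} [SmallCategory C] {J : GrothendieckTopology C}
    {U : C} (hU : CohSite.IsWeaklyContractible J U) (p : ℕ) :
    ∀ F : Sheaf J AddCommGrpCat.{u}, Subsingleton (Ext (CohCx.freeSheaf J U) F (p + 1)) := by
  induction p with
  | zero =>
    intro F
    have hS := SiteCoh.injSES_shortExact F
    have : Subsingleton (Ext.{u} (CohCx.freeSheaf J U) (SiteCoh.injSES F).X₂ (0 + 1)) :=
      Ext.subsingleton_of_injective _ (Injective.under F) 0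
    refine ⟨fun x y => ?_⟩
    suffices h : ∀ ξ : Ext.{u} (CohCx.freeSheaf J U) F (0 + 1), ξ = 0 by rw [h x, h y]
    intro ξ
    obtain ⟨s, rfl⟩ := SiteCoh.exists_comp_extClass hS (CohCx.freeSheaf J U) 0 ξ
    obtain ⟨t, rfl⟩ := (SiteCoh.hu0Equiv (SiteCoh.injSES F).X₃ U).symm.surjective s
    obtain ⟨w, rfl⟩ := surjective_app hU (SiteCoh.injSES F).g t
    rw [← SiteCoh.hu0Equiv_symm_comp_mk₀, Ext.comp_assoc _ _ _ (add_zero 0) (zero_add 1) (by omega),
      hS.comp_extClass, Ext.comp_zero]
  | succ n ih =>
    intro F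
    have hS := SiteCoh.injSES_shortExact F
    have : Subsingleton (Ext.{u} (CohCx.freeSheaf J U) (SiteCoh.injSES F).X₂ (n + 1 + 1)) :=
      Ext.subsingleton_of_injective _ (Injective.under F) (n + 1)
    refine ⟨fun x y => ?_⟩
    suffices h : ∀ ξ : Ext.{u} (CohCx.freeSheaf J U) F (n + 1 + 1), ξ = 0 by rw [h x, h y]
    intro ξ
    obtain ⟨s, rfl⟩ := SiteCoh.exists_comp_extClass hS (CohCx.freeSheaf J U) (n + 1) ξ
    have := ih (SiteCoh.injSES F).X₃
    rw [Subsingleton.elim s 0, Ext.zero_comp]

open Opposite CategoryTheory.Limits in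
/-- Parts (1) and (2), for a weakly contractible object U of a site (one over which every epimorphism of
sheaves of sets is surjective on sections): (1) the functor F ↦ F(U) from abelian sheaves to abelian
groups preserves finite colimits (it is exact, finite limits being automatic), and (2) H^p(U, F) = 0
for every abelian sheaf F and every p > 0. (Part (3) about torsors is not included.) -/
theorem result {C : Type u} [SmallCategory C] (J : GrothendieckTopology C)
    (U : C) (hU : CohSite.IsWeaklyContractible J U) :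
    PreservesFiniteColimits (sheafToPresheaf J AddCommGrpCat.{u} ⋙ (evaluation Cᵒᵖ AddCommGrpCat.{u}).obj (op U)) ∧
    ∀ (F : Sheaf J AddCommGrpCat.{u}) (p : ℕ), Subsingleton (CohSite.HU F (p + 1) U) := by
  refine ⟨(Functor.preservesFiniteColimits_iff_forall_exact_map_and_epi _).2 fun S hS =>
    ⟨hS.exact.map_of_mono_of_preservesKernel _ hS.mono_f inferInstance,
      (AddCommGrpCat.epi_iff_surjective _).2 (have := hS.epi_g; surjective_app hU S.g)⟩,
    fun F p => hu_subsingleton hU p F⟩

end Groth.Agent.S0905
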