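import Groth.Statements.S0492
import Mathlib.Algebra.Homology.ShortComplex.ExactFunctor
import Mathlib.CategoryTheory.Sites.EpiMono
import Mathlib.CategoryTheory.Limits.Types.Limits
import Groth.Agent.S0905

set_option autoImplicit false
universe u
open CategoryTheory
open CohSite

namespace Groth.Agent.S0492

open CategoryTheory.Limits in
/-- Part (4), for sheaves of abelian groups: let B be a set of weakly contractible objects of a small
site such that every object admits a covering family by members of B. Then products in the category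
of abelian sheaves are exact (Grothendieck's AB4*). -/
theorem result {C : Type u} [SmallCategory C] (J : GrothendieckTopology C)
    (B : Set C) (hB : ∀ U ∈ B, CohSite.IsWeaklyContractible J U)
    (hcov : ∀ V : C, ∃ (ι : Type u) (U : ι → C) (f : ∀ i, U i ⟶ V), (∀ i, U i ∈ B) ∧ Sieve.ofArrows U f ∈ J V) :
    AB4Star (Sheaf J AddCommGrpCat.{u}) := by
  constructor
  intro α
  constructor
  have : (lim : (Discrete α ⥤ Sheaf J AddCommGrpCat.{u}) ⥤ Sheaf J AddCommGrpCat.{u}).Additive :=
    ⟨fun {X Y f g} => limit.hom_ext fun j => by simp [Preadditive.add_comp]⟩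
  rw [Functor.preservesFiniteColimits_iff_forall_exact_map_and_epi]
  intro S hS
  have := hS.mono_f
  refine ⟨hS.exact.map_of_mono_of_preservesKernel _ hS.mono_f inferInstance, ?_⟩
  have hepi := hS.epi_g
  have : Sheaf.IsLocallySurjective (lim.map S.g) := by
    constructor
    intro V s
    obtain ⟨ι, U, f, hU, hcovV⟩ := hcov V
    refine J.superset_covering (fun W g hg => ?_) hcovV
    obtain ⟨i, a, rfl⟩ := (Sieve.mem_ofArrows_iff _ _ _).1 hg
    let ev := sheafToPresheaf J AddCommGrpCat.{u} ⋙ (evaluation Cᵒᵖ AddCommGrpCat.{u}).obj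
      (Opposite.op (U i)) ⋙ forget AddCommGrpCat.{u}
    let t : (lim.obj S.X₃).obj.obj (Opposite.op (U i)) := (lim.obj S.X₃).obj.map (f i).op s
    have hs : ∀ j : Discrete α, Function.Surjective ((S.g.app j).hom.app (Opposite.op (U i))) :=
      fun j =>
        have : Epi (S.g.app j) := (NatTrans.epi_iff_epi_app S.g).1 hepi j
        Groth.Agent.S0905.surjective_app (hB _ (hU i)) (S.g.app j)
    choose x hx using fun j => hs j ((limit.π S.X₃ j).hom.app (Opposite.op (U i)) t)
    let xs : (S.X₂ ⋙ ev).sections := ⟨x, fun {j j'} h => by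
      obtain ⟨j⟩ := j
      obtain ⟨j'⟩ := j'
      obtain rfl : j = j' := Discrete.eq_of_hom h
      rw [Subsingleton.elim h (𝟙 _), CategoryTheory.Functor.map_id]
      rfl⟩
    obtain ⟨w, hw⟩ : ∃ w : (lim.obj S.X₂).obj.obj (Opposite.op (U i)),
        (lim.map S.g).hom.app (Opposite.op (U i)) w = t := by
      refine ⟨(Types.isLimitEquivSections (isLimitOfPreserves ev (limit.isLimit S.X₂))).symm xs, ?_⟩
      apply (Types.isLimitEquivSections (isLimitOfPreserves ev (limit.isLimit S.X₃))).injective
      refine Subtype.ext (funext fun j => ?_)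
      refine Eq.trans (ConcreteCategory.congr_hom (NatTrans.congr_app (congrArg InducedCategory.Hom.hom
        (limMap_π S.g j)) (Opposite.op (U i)))
        ((Types.isLimitEquivSections (isLimitOfPreserves ev (limit.isLimit S.X₂))).symm xs)) ?_
      refine Eq.trans ?_ (hx j)
      exact congrArg ((S.g.app j).hom.app (Opposite.op (U i)))
        (Types.isLimitEquivSections_symm_apply (isLimitOfPreserves ev (limit.isLimit S.X₂)) xs j)
    refine ⟨(lim.obj S.X₂).obj.map a.op w, ?_⟩
    refine (NatTrans.naturality_apply (lim.map S.g).hom a.op w).trans ?_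
    refine (congrArg ((lim.obj S.X₃).obj.map a.op) hw).trans ?_
    exact (ConcreteCategory.congr_hom ((lim.obj S.X₃).obj.map_comp (f i).op a.op) s).symm
  infer_instance

end Groth.Agent.S0492
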