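import Groth.Statements.S0495
import Groth.Agent.Hensel20.Local

set_option autoImplicit false
universe u
open Hensel

namespace Groth.Agent.S0495

/-- A local ring whose Krull dimension is zero is henselian. -/
theorem result (R : Type u) [CommRing R] [IsLocalRing R]
    (h : ringKrullDim R = 0) : HenselianLocalRing R := by
  have hnil : ∀ x ∈ IsLocalRing.maximalIdeal R, IsNilpotent x := by
    intro x hx
    have : Ring.KrullDimLE 0 R := (Ring.krullDimLE_iff).mpr (le_of_eq h)
    rw [← mem_nilradical, Ring.KrullDimLE.nilradical_eq_maximalIdeal]
    exact hx
  have := Hensel20.henselianRing_of_nilpotent hnil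
  exact Hensel20.henselianLocalRing_of_henselianRing R

end Groth.Agent.S0495
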