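import Groth.Statements.S0498
import Groth.Agent.Hensel20.Criteria

set_option autoImplicit false
universe u
open Hensel

namespace Groth.Agent.S0498

/-- Over a henselian local ring, a simple root in the residue field of the reduction of an arbitrary
polynomial (monic or not) lifts to a root in the ring. -/
theorem result (R : Type u) [CommRing R] [HenselianLocalRing R]
    (f : Polynomial R) (a₀ : IsLocalRing.ResidueField R)
    (h₁ : Polynomial.eval₂ (IsLocalRing.residue R) a₀ f = 0)
    (h₂ : Polynomial.eval₂ (IsLocalRing.residue R) a₀ (Polynomial.derivative f) ≠ 0) :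
    ∃ a : R, Polynomial.IsRoot f a ∧ IsLocalRing.residue R a = a₀ := by
  obtain ⟨h₀, hh₀⟩ : (Polynomial.X - Polynomial.C a₀) ∣ f.map (IsLocalRing.residue R) := by
    rw [Polynomial.dvd_iff_isRoot, Polynomial.IsRoot.def, Polynomial.eval_map]
    exact h₁
  have hne : h₀.eval a₀ ≠ 0 := by
    have := congrArg (fun p => Polynomial.eval a₀ (Polynomial.derivative p)) hh₀
    simp only [Polynomial.derivative_map, Polynomial.eval_map] at this
    intro hz
    exact h₂ (by rw [this]; simp [hz])
  have hc : IsCoprime (Polynomial.X - Polynomial.C a₀) h₀ := by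
    refine (Polynomial.irreducible_X_sub_C a₀).coprime_iff_not_dvd.mpr ?_
    rw [Polynomial.dvd_iff_isRoot]
    exact hne
  obtain ⟨g, h, hgh, hgm, hgmap, -⟩ := Hensel20.exists_factor_lift
    (I := IsLocalRing.maximalIdeal R) f _ h₀ (Polynomial.monic_X_sub_C a₀) hc hh₀
  replace hgmap : g.map (IsLocalRing.residue R) = Polynomial.X - Polynomial.C a₀ := hgmap
  have hdeg : g.natDegree = 1 := by
    rw [← hgm.natDegree_map (IsLocalRing.residue R)]
    exact (congrArg Polynomial.natDegree hgmap).trans (Polynomial.natDegree_X_sub_C a₀)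
  refine ⟨-g.coeff 0, ?_, ?_⟩
  · rw [hgh, Polynomial.IsRoot.def, Polynomial.eval_mul, hgm.eq_X_add_C hdeg]; simp
  · have := congrArg (fun p => Polynomial.coeff p 0) hgmap
    simp only [Polynomial.coeff_map] at this
    rw [map_neg]
    refine (congrArg Neg.neg (show IsLocalRing.residue R (g.coeff 0) = -a₀ from ?_)).trans
      (neg_neg a₀)
    exact this.trans (by simp)

end Groth.Agent.S0498
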