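import Groth.Statements.S0504
import Groth.Agent.Hensel20.LocalFiniteAux

set_option autoImplicit false
universe u
open Hensel

namespace Groth.Agent.S0504

/-- A finite-type algebra `S` over a henselian local ring `R` contains an idempotent `e` such that
`S/(1-e)` is finitely generated as an `R`-module and `R → S/(e)` is quasi-finite at no prime lying
over the maximal ideal of `R`. -/
theorem result (R : Type u) [CommRing R] [HenselianLocalRing R]
    (S : Type u) [CommRing S] [Algebra R S] [Algebra.FiniteType R S] :
    ∃ e : S, IsIdempotentElem e ∧ Module.Finite R (S ⧸ Ideal.span ({1 - e} : Set S)) ∧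
      ∀ (q : Ideal (S ⧸ Ideal.span ({e} : Set S))) [q.IsPrime],
        q.LiesOver (IsLocalRing.maximalIdeal R) → ¬ Algebra.QuasiFiniteAt R q := by
  classical
  let Z := Hensel20.finite_quasiFinite_points (R := R) (S := S)
  obtain ⟨e, he, hfg, hmem⟩ := Hensel20.exists_split_points (R := R) Z.toFinset fun q hq => by
    simpa [Z] using hq
  refine ⟨e, he, Hensel20.finite_quotient_of_fg e hfg, fun q _ hq hqf => ?_⟩
  have := hq
  obtain ⟨hP, hPqf⟩ := Hensel20.quasiFiniteAt_comap_of_idempotent (R := R) e he q
  have := hqf
  refine (hmem _ inferInstance hP).mpr ?_ ?_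
  · rw [Set.Finite.mem_toFinset]
    exact ⟨inferInstance, hP, hPqf⟩
  · rw [Ideal.mem_comap, Ideal.Quotient.eq_zero_iff_mem.mpr (Ideal.mem_span_singleton_self _)]
    exact zero_mem _

end Groth.Agent.S0504
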