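import Groth.Statements.S0517
import Groth.Agent.Henz21.LocalLift
import Groth.Agent.Hensel20.SepClosedPoint

set_option autoImplicit false
universe u
open Hensel

namespace Groth.Agent.S0517

/-- Given strictly henselian local rings `R` and `S`, a local ring map `φ` between them, and a square
system of `n` polynomial equations in `n` unknowns over `R` whose quotient algebra is étale over
`R`, applying `φ` coordinatewise matches the solutions of the system in `Rⁿ` bijectively with the
solutions of the transported system in `Sⁿ`. -/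
theorem result (R : Type u) [CommRing R]
    [HenselianLocalRing R] [IsSepClosed (IsLocalRing.ResidueField R)] (S : Type u) [CommRing S]
    [HenselianLocalRing S] [IsSepClosed (IsLocalRing.ResidueField S)] (φ : R →+* S) [IsLocalHom φ] (n : ℕ)
    (P : Fin n → MvPolynomial (Fin n) R)
    [Algebra.Etale R (MvPolynomial (Fin n) R ⧸ Ideal.span (Set.range P))] :
    Set.BijOn (fun r : Fin n → R => φ ∘ r)
      {r : Fin n → R | ∀ i, MvPolynomial.eval r (P i) = 0}
      {s : Fin n → S | ∀ i, MvPolynomial.eval s (MvPolynomial.map φ (P i)) = 0} := by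
  let Q := MvPolynomial (Fin n) R ⧸ Ideal.span (Set.range P)
  let _ : Algebra R S := φ.toAlgebra
  have hsol : ∀ (T : Type u) [CommRing T] [Algebra R T] (t : Fin n → T),
      (∀ i, MvPolynomial.aeval t (P i) = 0) →
      ∃ g : Q →ₐ[R] T, ∀ j, g (Ideal.Quotient.mk _ (MvPolynomial.X j)) = t j := by
    intro T _ _ t ht
    refine ⟨Ideal.Quotient.liftₐ _ (MvPolynomial.aeval t) (fun a ha => ?_),
      fun j => MvPolynomial.aeval_X t j⟩
    suffices Ideal.span (Set.range P) ≤ RingHom.ker (MvPolynomial.aeval (R := R) t) from this ha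
    rw [Ideal.span_le]
    rintro _ ⟨i, rfl⟩
    exact ht i
  have hg : ∀ (T : Type u) [CommRing T] [Algebra R T] (g : Q →ₐ[R] T) i,
      MvPolynomial.aeval (fun j => g (Ideal.Quotient.mk _ (MvPolynomial.X j))) (P i) = 0 := by
    intro T _ _ g i
    have h1 : MvPolynomial.aeval (fun j => g (Ideal.Quotient.mk _ (MvPolynomial.X j))) =
        g.comp (Ideal.Quotient.mkₐ R _) := MvPolynomial.algHom_ext fun j => by
        simp
        rfl
    rw [h1, AlgHom.comp_apply, Ideal.Quotient.mkₐ_eq_mk,
      Ideal.Quotient.eq_zero_iff_mem.mpr (Ideal.subset_span (Set.mem_range_self i)), map_zero]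
  have hext : ∀ (T : Type u) [CommRing T] [Algebra R T] (g g' : Q →ₐ[R] T),
      (∀ j, g (Ideal.Quotient.mk _ (MvPolynomial.X j)) =
        g' (Ideal.Quotient.mk _ (MvPolynomial.X j))) → g = g' := fun T _ _ g g' h =>
    Ideal.Quotient.algHom_ext _ (MvPolynomial.algHom_ext h)
  have hev : ∀ (r : Fin n → R) i, MvPolynomial.aeval r (P i) = MvPolynomial.eval r (P i) :=
    fun r i => rfl
  have hevS : ∀ (s : Fin n → S) i,
      MvPolynomial.aeval s (P i) = MvPolynomial.eval s (MvPolynomial.map φ (P i)) := fun s i => by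
    rw [MvPolynomial.eval_map]; rfl
  have : IsLocalHom (algebraMap R (IsLocalRing.ResidueField S)) := by
    rw [IsScalarTower.algebraMap_eq R S (IsLocalRing.ResidueField S),
      IsLocalRing.ResidueField.algebraMap_eq]
    have : IsLocalHom (algebraMap R S) := ‹IsLocalHom φ›
    exact RingHom.isLocalHom_comp _ _
  refine ⟨fun r hr i => ?_, fun r hr r' hr' h => ?_, fun s hs => ?_⟩
  · rw [← hevS]
    change MvPolynomial.aeval (algebraMap R S ∘ r) (P i) = 0
    rw [MvPolynomial.aeval_algebraMap_apply, hev, hr i, map_zero]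
  · obtain ⟨g, hgj⟩ := hsol R r hr
    obtain ⟨g', hgj'⟩ := hsol R r' hr'
    obtain ⟨g₀, -, hu⟩ := Henz21.existsUnique_lift (T := R)
      ((IsScalarTower.toAlgHom R R (IsLocalRing.ResidueField R)).comp g)
    have : g = g' := by
      rw [hu g rfl, hu g' (hext _ _ _ fun j => ?_)]
      simp only [AlgHom.comp_apply, hgj, hgj']
      change IsLocalRing.residue R (r' j) = IsLocalRing.residue R (r j)
      rw [← sub_eq_zero, ← map_sub, IsLocalRing.residue_eq_zero_iff]
      have h0 : φ (r' j - r j) = 0 := by rw [map_sub, sub_eq_zero]; exact (congrFun h j).symm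
      intro hu
      exact not_isUnit_zero (h0 ▸ hu.map φ)
    funext j
    rw [← hgj, ← hgj', this]
  · obtain ⟨g, hgj⟩ := hsol S s (fun i => (hevS s i).trans (hs i))
    let σ : Q →ₐ[R] IsLocalRing.ResidueField S :=
      (IsScalarTower.toAlgHom R S (IsLocalRing.ResidueField S)).comp g
    choose c hc using fun j : Fin n =>
      Hensel20.mem_range_of_unramified_of_isSepClosed σ (Ideal.Quotient.mk _ (MvPolynomial.X j))
    have hc0 : ∀ i, MvPolynomial.aeval
        (fun j => algebraMap R (IsLocalRing.ResidueField R) (c j)) (P i) = 0 := by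
      intro i
      have h1 := hg (IsLocalRing.ResidueField S) σ i
      simp only [hc] at h1
      change MvPolynomial.aeval (algebraMap R (IsLocalRing.ResidueField S) ∘ c) (P i) = 0 at h1
      change MvPolynomial.aeval (algebraMap R (IsLocalRing.ResidueField R) ∘ c) (P i) = 0
      rw [MvPolynomial.aeval_algebraMap_apply] at h1 ⊢
      rw [IsLocalRing.ResidueField.algebraMap_eq, IsLocalRing.residue_eq_zero_iff]
      exact fun hu => not_isUnit_zero (h1 ▸ hu.map (algebraMap R (IsLocalRing.ResidueField S)))
    obtain ⟨σ₀, hσ₀⟩ := hsol (IsLocalRing.ResidueField R) _ hc0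
    obtain ⟨τ, hτ, -⟩ := Henz21.existsUnique_lift (T := R) σ₀
    refine ⟨fun j => τ (Ideal.Quotient.mk _ (MvPolynomial.X j)), fun i => hg R τ i, ?_⟩
    obtain ⟨g₀, -, hu⟩ := Henz21.existsUnique_lift (T := S) σ
    have h2 : (Algebra.ofId R S).comp τ = g := by
      rw [hu g rfl, hu ((Algebra.ofId R S).comp τ) (hext _ _ _ fun j => ?_)]
      rw [hc]
      have := DFunLike.congr_fun hτ (Ideal.Quotient.mk _ (MvPolynomial.X j))
      rw [hσ₀] at this
      change IsLocalRing.residue R _ = IsLocalRing.residue R (c j) at this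
      rw [← sub_eq_zero, ← map_sub, IsLocalRing.residue_eq_zero_iff] at this
      change IsLocalRing.residue S (φ _) = IsLocalRing.residue S (φ (c j))
      rw [← sub_eq_zero, ← map_sub, ← map_sub, IsLocalRing.residue_eq_zero_iff]
      exact map_nonunit φ _ this
    funext j
    exact (DFunLike.congr_fun h2 _).trans (hgj j)

end Groth.Agent.S0517
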