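import Groth.Statements.S0524
import Groth.Agent.Hensel20.PairApi

set_option autoImplicit false
universe u
open Hensel

namespace Groth.Agent.S0524

/-- (1) iff (5) with the uniqueness complement: `A` is Henselian at `I` exactly when `I` lies in the
Jacobson radical and, for every `n ≥ 1` and every polynomial `p` of degree at most `n` with all
coefficients in `I`, the polynomial `Tⁿ(T-1) + p` has exactly one root congruent to `1` modulo `I`. -/
theorem result (A : Type u) [CommRing A] (I : Ideal A) :
    HenselianRing A I ↔ (I ≤ Ideal.jacobson ⊥ ∧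
      ∀ (n : ℕ), 0 < n → ∀ p : Polynomial A, p.natDegree ≤ n → (∀ i, p.coeff i ∈ I) →
        ∃! α : A, α - 1 ∈ I ∧
          Polynomial.IsRoot (Polynomial.X ^ n * (Polynomial.X - 1) + p) α) := by
  constructor
  · intro hA
    refine ⟨hA.jac, fun n hn p hp hpI => ?_⟩
    set P := Polynomial.X ^ n * (Polynomial.X - 1) + p
    have hmap : P.map (Ideal.Quotient.mk I) = Polynomial.X ^ n * (Polynomial.X - 1) := by
      have : p.map (Ideal.Quotient.mk I) = 0 := Polynomial.ext fun i => by
        simp [Ideal.Quotient.eq_zero_iff_mem.mpr (hpI i)]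
      simp [P, this]
    have hmon : P.Monic := by
      nontriviality A
      refine Polynomial.Monic.add_of_left
        ((Polynomial.monic_X_pow n).mul (Polynomial.monic_X_sub_C 1)) ?_
      refine lt_of_le_of_lt (Polynomial.natDegree_le_iff_degree_le.mp hp) ?_
      have h1 : (Polynomial.X - 1 : Polynomial A) = Polynomial.X - Polynomial.C 1 := by simp
      rw [Polynomial.degree_mul' (by simp [h1]), Polynomial.degree_X_pow, h1,
        Polynomial.degree_X_sub_C]
      exact_mod_cast Nat.lt_succ_self n
    obtain ⟨k, rfl⟩ := Nat.exists_eq_add_one.mpr hn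
    obtain ⟨α, hα, hα1⟩ := Hensel20.hasGabberRoots_of_henselianRing (I := I) k P hmon hmap
    refine ⟨α, ⟨hα1, hα⟩, fun β hβ => ?_⟩
    refine (Hensel20.root_unique hA.jac hα hβ.2 ?_ ?_).symm
    · simpa using sub_mem hβ.1 hα1
    · have hd : Ideal.Quotient.mk I (P.derivative.eval α) = 1 := by
        have := congrArg (fun q => Polynomial.eval (Ideal.Quotient.mk I α)
          (Polynomial.derivative q)) hmap
        simp only [Polynomial.derivative_map, Polynomial.eval_map_apply] at this
        have hmk : Ideal.Quotient.mk I α = 1 := by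
          rw [← map_one (Ideal.Quotient.mk I), Ideal.Quotient.mk_eq_mk_iff_sub_mem]; exact hα1
        rw [this, hmk]
        simp
      exact Hensel20.isUnit_of_sub_one_mem hA.jac
        ((Ideal.Quotient.mk_eq_mk_iff_sub_mem _ _).mp (by rw [hd, map_one]))
  · rintro ⟨hI, h⟩
    refine Hensel20.henselianRing_of_hasGabberRoots hI fun n P hP hmap => ?_
    by_cases htop : I = ⊤
    · have : Subsingleton A := subsingleton_of_zero_eq_one (isUnit_zero_iff.mp
        (Hensel20.isUnit_of_sub_one_mem hI (a := (0 : A)) (by simp [htop])))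
      exact ⟨1, Subsingleton.elim _ _, by simp⟩
    have : Nontrivial (A ⧸ I) := Ideal.Quotient.nontrivial_iff.mpr htop
    have : Nontrivial A := (Ideal.Quotient.mk I).domain_nontrivial
    set p := P - Polynomial.X ^ (n + 1) * (Polynomial.X - 1)
    have hpI : ∀ i, p.coeff i ∈ I := fun i => by
      rw [← Ideal.Quotient.eq_zero_iff_mem, ← Polynomial.coeff_map]
      simp [p, hmap]
    have hdeg : P.natDegree = n + 2 := by
      rw [← hP.natDegree_map (Ideal.Quotient.mk I), hmap, ← Polynomial.C_1,
        (Polynomial.monic_X_pow _).natDegree_mul (Polynomial.monic_X_sub_C _),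
        Polynomial.natDegree_X_pow, Polynomial.natDegree_X_sub_C]
    have hp : p.natDegree ≤ n + 1 := by
      rw [Polynomial.natDegree_le_iff_coeff_eq_zero]
      intro N hN
      rcases eq_or_lt_of_le (Nat.succ_le_of_lt hN) with rfl | hN'
      · have : P.coeff (n + 2) = 1 := hdeg ▸ hP.coeff_natDegree
        simp [p, mul_sub, this, ← pow_succ, Polynomial.coeff_X_pow]
      · rw [Polynomial.coeff_eq_zero_of_natDegree_lt]
        refine lt_of_le_of_lt ((Polynomial.natDegree_sub_le _ _).trans (max_le hdeg.le ?_)) hN'
        rw [← Polynomial.C_1, (Polynomial.monic_X_pow _).natDegree_mul (Polynomial.monic_X_sub_C _),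
          Polynomial.natDegree_X_pow, Polynomial.natDegree_X_sub_C]
    obtain ⟨α, ⟨hα1, hα⟩, -⟩ := h (n + 1) n.succ_pos p hp hpI
    exact ⟨α, by simpa [p] using hα, hα1⟩

end Groth.Agent.S0524
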