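import Groth.Statements.S0529
import Groth.Agent.Hensel20.PairApi
import Mathlib.Algebra.Group.Pi.Units

set_option autoImplicit false
universe u
open Hensel

namespace Groth.Agent.S0529

/-- A product of rings, with the product ideal, is Henselian exactly when every factor is Henselian at
its ideal. -/
theorem result (J : Type u) (A : J → Type u) [∀ j, CommRing (A j)]
    (I : ∀ j, Ideal (A j)) :
    HenselianRing (∀ j, A j) (⨅ j, Ideal.comap (Pi.evalRingHom A j) (I j)) ↔
      ∀ j, HenselianRing (A j) (I j) := by
  classical
  let K : Ideal (∀ j, A j) := ⨅ j, Ideal.comap (Pi.evalRingHom A j) (I j)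
  have hK : ∀ x, x ∈ K ↔ ∀ j, x j ∈ I j := fun x => by simp [K, Submodule.mem_iInf]
  constructor
  · intro h j
    let := (Pi.evalRingHom A j).toAlgebra
    have hsurj : Function.Surjective (algebraMap (∀ j, A j) (A j)) := fun x =>
      ⟨Function.update 0 j x, Function.update_self j x 0⟩
    have : Module.Finite (∀ j, A j) (A j) :=
      Module.Finite.of_surjective (Algebra.linearMap (∀ j, A j) (A j)) hsurj
    have h' := Hensel20.henselianRing_of_integral (I := K) (A j)
    have hmap : K.map (algebraMap (∀ j, A j) (A j)) = I j := by
      refine le_antisymm (Ideal.map_le_iff_le_comap.mpr fun x hx => (hK x).mp hx j) fun x hx => ?_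
      rw [show x = algebraMap (∀ j, A j) (A j) (Function.update 0 j x) from
        (Function.update_self j x (0 : ∀ j, A j)).symm]
      refine Ideal.mem_map_of_mem _ ((hK _).mpr fun i => ?_)
      rcases eq_or_ne i j with rfl | hij
      · simpa using hx
      · simp [hij]
    rwa [hmap] at h'
  · intro h
    refine ⟨fun x hx => ?_, fun f hf a h1 h2 => ?_⟩
    · rw [Ideal.mem_jacobson_bot]
      intro y
      rw [Pi.isUnit_iff]
      intro j
      exact Ideal.mem_jacobson_bot.mp ((h j).jac ((hK x).mp hx j)) (y j)
    · have hroot : ∀ j, ∃ r : A j, (f.map (Pi.evalRingHom A j)).IsRoot r ∧ r - a j ∈ I j := by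
        intro j
        refine (h j).is_henselian _ (hf.map _) (a j) ?_ ?_
        · rw [show a j = Pi.evalRingHom A j a from rfl, Polynomial.eval_map_apply]
          exact (hK _).mp h1 j
        · rw [Polynomial.derivative_map, show a j = Pi.evalRingHom A j a from rfl,
            Polynomial.eval_map_apply]
          have := h2.map (Ideal.quotientMap (I j) (Pi.evalRingHom A j)
            (show K ≤ _ from fun x hx => (hK x).mp hx j))
          rwa [Ideal.quotientMap_mk] at this
      choose r hr hr' using hroot
      refine ⟨r, funext fun j => ?_, (hK _).mpr hr'⟩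
      have := hr j
      rw [Polynomial.IsRoot.def, show r j = Pi.evalRingHom A j r from rfl,
        Polynomial.eval_map_apply] at this
      exact this

end Groth.Agent.S0529
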