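import Groth.Statements.S0530
import Groth.Agent.Hensel20.MonicCriteria

set_option autoImplicit false
universe u
open Hensel

namespace Groth.Agent.S0530

/-- If `A` is Henselian at `I` and `p` is a prime ideal of `A`, then the spectrum of `A/(p + I)` is
connected. -/
theorem result (A : Type u) [CommRing A] (I : Ideal A) [HenselianRing A I]
    (p : Ideal A) [p.IsPrime] : ConnectedSpace (PrimeSpectrum (A ⧸ p ⊔ I)) := by
  have : HenselianRing (A ⧸ p) (I.map (algebraMap A (A ⧸ p))) :=
    Hensel20.henselianRing_of_integral (A ⧸ p)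
  let e : (A ⧸ p) ⧸ I.map (algebraMap A (A ⧸ p)) ≃+* A ⧸ p ⊔ I :=
    DoubleQuot.quotQuotEquivQuotSup p I
  have hne : Nontrivial (A ⧸ p ⊔ I) := by
    refine Ideal.Quotient.nontrivial_iff.mpr fun htop => ?_
    obtain ⟨M, hM, hpM⟩ := Ideal.exists_le_maximal p ‹p.IsPrime›.ne_top
    exact hM.ne_top (top_le_iff.mp (htop ▸ sup_le hpM
      ((HenselianRing.jac (I := I)).trans (sInf_le ⟨bot_le, hM⟩))))
  have hidem : ∀ ε : A ⧸ p ⊔ I, IsIdempotentElem ε → ε = 0 ∨ ε = 1 := by
    intro ε hε
    obtain ⟨c, hc, hce⟩ := (Hensel20.idempotents_bijOn (I := I) (B := A ⧸ p)).surjOn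
      (hε.map e.symm)
    rcases IsIdempotentElem.iff_eq_zero_or_one.mp hc with rfl | rfl
    · left; apply e.symm.injective; rw [← hce]; simp
    · right; apply e.symm.injective; rw [← hce]; simp
  rw [connectedSpace_iff_clopen]
  refine ⟨inferInstance, fun s hs => ?_⟩
  obtain ⟨ε, hε, rfl⟩ := PrimeSpectrum.isClopen_iff.mp hs
  rcases hidem ε hε with rfl | rfl
  · left; simp
  · right; simp

end Groth.Agent.S0530
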