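import Groth.Statements.S0531
import Groth.Agent.Hensel20.PairApi

set_option autoImplicit false
universe u
open Hensel

namespace Groth.Agent.S0531

/-- Every ring has a largest ideal at which it is Henselian. -/
theorem result (A : Type u) [CommRing A] :
    ∃ I : Ideal A, HenselianRing A I ∧ ∀ J : Ideal A, HenselianRing A J → J ≤ I := by
  classical
  let S : Set (Ideal A) := {J | HenselianRing A J}
  have hbot : (⊥ : Ideal A) ∈ S :=
    Hensel20.henselianRing_of_nilpotent (fun x hx => ⟨1, by simpa using hx⟩)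
  have hsup : ∀ I ∈ S, ∀ J ∈ S, I ⊔ J ∈ S := fun I hI J hJ => by
    have : HenselianRing A I := hI
    have : HenselianRing A J := hJ
    have hq : HenselianRing (A ⧸ I) ((I ⊔ J).map (Ideal.Quotient.mk I)) := by
      rw [Ideal.map_sup, Ideal.map_quotient_self, bot_sup_eq]
      exact Hensel20.henselianRing_of_integral (I := J) (A ⧸ I)
    exact Hensel20.henselianRing_of_le_of_quotient le_sup_left
  have hdir : DirectedOn (· ≤ ·) S := fun I hI J hJ =>
    ⟨I ⊔ J, hsup I hI J hJ, le_sup_left, le_sup_right⟩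
  refine ⟨sSup S, ⟨sSup_le fun J hJ => ?_, fun f hf a₀ h1 h2 => ?_⟩, fun J hJ => le_sSup hJ⟩
  · exact (hJ : HenselianRing A J).jac
  · obtain ⟨J₁, hJ₁, h1'⟩ := (Submodule.mem_sSup_of_directed ⟨⊥, hbot⟩ hdir).mp h1
    obtain ⟨c, hc⟩ := h2.exists_left_inv
    obtain ⟨c, rfl⟩ := Ideal.Quotient.mk_surjective c
    rw [← map_mul, ← map_one (Ideal.Quotient.mk (sSup S)),
      Ideal.Quotient.mk_eq_mk_iff_sub_mem] at hc
    obtain ⟨J₂, hJ₂, hc'⟩ := (Submodule.mem_sSup_of_directed ⟨⊥, hbot⟩ hdir).mp hc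
    obtain ⟨J, hJ, hJ1, hJ2⟩ := hdir J₁ hJ₁ J₂ hJ₂
    obtain ⟨a, ha, haJ⟩ := (hJ : HenselianRing A J).is_henselian f hf a₀ (hJ1 h1') (by
      refine isUnit_of_mul_isUnit_right (x := Ideal.Quotient.mk J c) ?_
      rw [← map_mul, (Ideal.Quotient.mk_eq_mk_iff_sub_mem _ _).mpr (hJ2 hc'), map_one]
      exact isUnit_one)
    exact ⟨a, ha, le_sSup hJ haJ⟩

end Groth.Agent.S0531
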