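import Groth.Statements.S0544
import Mathlib

set_option autoImplicit false
universe u
open CAlg

namespace Groth.Agent.S0544

/-- Let `R` be complete with respect to an ideal `I` and `M` an `R`-module which is `I`-adically
separated and such that `M/IM` is finitely generated. Then `M` is a finitely generated `R`-module. -/
theorem result (R : Type u) [CommRing R]
    (I : Ideal R) [IsAdicComplete I R] (M : Type u) [AddCommGroup M] [Module R M] [IsHausdorff I M]
    (h : Module.Finite R (M ⧸ (I • ⊤ : Submodule R M))) : Module.Finite R M := by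
  obtain ⟨n, g, hg⟩ := Module.Finite.exists_fin' R (M ⧸ (I • ⊤ : Submodule R M))
  obtain ⟨f, hf⟩ := Module.projective_lifting_property (Submodule.mkQ (I • ⊤ : Submodule R M)) g
    (Submodule.mkQ_surjective _)
  have : IsPrecomplete I (Fin n → R) := ⟨fun c hc => by
    have hcoord : ∀ (m : ℕ) (x : Fin n → R), x ∈ (I ^ m • ⊤ : Submodule R (Fin n → R)) →
        ∀ i, x i ∈ (I ^ m • ⊤ : Submodule R R) := fun m x hx i =>
      Submodule.smul_top_le_comap_smul_top (I ^ m) (LinearMap.proj i) hx
    choose L hL using fun i => IsPrecomplete.prec (inferInstanceAs (IsPrecomplete I R))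
      (f := fun m => c m i) (fun {a b} hab => SModEq.sub_mem.mpr
        (hcoord a _ (SModEq.sub_mem.mp (hc hab)) i))
    refine ⟨L, fun m => SModEq.sub_mem.mpr ?_⟩
    rw [pi_eq_sum_univ' (c m - L)]
    refine Submodule.sum_mem _ fun i _ => ?_
    have := SModEq.sub_mem.mp (hL i m)
    rw [smul_eq_mul, Ideal.mul_top] at this
    exact Submodule.smul_mem_smul this trivial⟩
  have : Function.Surjective f := surjective_of_mkQ_comp_surjective (I := I) (by rw [hf]; exact hg)
  exact Module.Finite.of_surjective f this

end Groth.Agent.S0544
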