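import Groth.Statements.S0557
import Mathlib
import Groth.Agent.VarDim1.KrullAkizuki

set_option autoImplicit false
universe u
open CAlg

namespace Groth.Agent.S0557
open Groth.Agent.VarDim1

lemma length_quot_smulRange_le_pi {R : Type u} [CommRing R] [IsDomain R] [IsNoetherianRing R]
    [Ring.KrullDimLE 1 R] (K : Type u) [Field K] [Algebra R K] [IsFractionRing R K] (r : ℕ)
    (M : Submodule R (Fin r → K)) (a : R) (ha : a ≠ 0) :
    Module.length R (M ⧸ smulRange R M a) ≤ r * Ring.ord R a := by
  induction r with
  | zero =>
    have : Subsingleton M := Subsingleton.intro fun x y => Subtype.ext (Subsingleton.elim _ _)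
    simp [Module.length_eq_zero]
  | succ r ih =>
    let p : M →ₗ[R] K := (LinearMap.proj 0).comp M.subtype
    let N : Submodule R (Fin r → K) :=
      (LinearMap.ker p).map ((LinearMap.funLeft R K Fin.succ).comp M.subtype)
    have hp : Module.length R (LinearMap.range p ⧸ smulRange R (LinearMap.range p) a) ≤
        1 * Ring.ord R a := by
      have := length_quot_smulRange_le K (A := R) (M := LinearMap.range p) (L := K)
        (LinearMap.range p).subtype Subtype.val_injective a ha
      simpa using this
    have hlift : ∀ y : N, ∃ x : M, p x = 0 ∧ ∀ i : Fin r, (x : Fin (r + 1) → K) i.succ = (y : Fin r → K) i := by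
      rintro ⟨_, x, hx, rfl⟩
      exact ⟨x, hx, fun i => rfl⟩
    choose ξ hξ hξ' using hlift
    have huniq : ∀ x x' : M, p x = p x' →
        (∀ i : Fin r, (x : Fin (r + 1) → K) i.succ = (x' : Fin (r + 1) → K) i.succ) → x = x' := by
      intro x x' h0 hs
      ext i
      exact Fin.cases h0 hs i
    let ι : N →ₗ[R] M :=
      { toFun := ξ
        map_add' := fun y z => huniq _ _ (by rw [map_add, hξ, hξ, hξ, zero_add]) fun i => by
          simp [hξ']
        map_smul' := fun c y => huniq _ _ (by simp [hξ]) fun i => by simp [hξ'] }
    let f : (N ⧸ smulRange R N a) →ₗ[R] (M ⧸ smulRange R M a) :=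
      Submodule.mapQ _ _ ι (by rintro _ ⟨y, rfl⟩; exact ⟨ι y, (map_smul ι a y).symm⟩)
    let g : (M ⧸ smulRange R M a) →ₗ[R] (LinearMap.range p ⧸ smulRange R (LinearMap.range p) a) :=
      Submodule.mapQ _ _ p.rangeRestrict (by
        rintro _ ⟨y, rfl⟩; exact ⟨p.rangeRestrict y, (map_smul _ a y).symm⟩)
    have hle : LinearMap.ker g ≤ LinearMap.range f := by
      intro x hx
      obtain ⟨x, rfl⟩ := Submodule.Quotient.mk_surjective _ x
      have hx' : p.rangeRestrict x ∈ smulRange R _ a := (Submodule.Quotient.mk_eq_zero _).mp hx
      obtain ⟨⟨_, y, rfl⟩, hy⟩ := hx'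
      have hxy : p (x - a • y) = 0 := by
        have := congrArg Subtype.val hy
        simp only [LinearMap.lsmul_apply] at this
        rw [map_sub, map_smul, sub_eq_zero]
        exact this.symm
      let n : N := ⟨_, Submodule.mem_map_of_mem (f := (LinearMap.funLeft R K Fin.succ).comp M.subtype)
        (show x - a • y ∈ LinearMap.ker p from hxy)⟩
      refine ⟨Submodule.Quotient.mk n, ?_⟩
      have : ι n = x - a • y := huniq _ _ ((hξ n).trans hxy.symm) fun i => hξ' n i
      show Submodule.Quotient.mk (ι n) = _
      rw [this, Submodule.Quotient.eq]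
      exact ⟨-y, by simp⟩
    calc Module.length R (M ⧸ smulRange R M a)
        = Module.length R (LinearMap.ker g) + Module.length R (LinearMap.range g) :=
          Module.length_eq_add_of_exact (LinearMap.ker g).subtype g.rangeRestrict
            Subtype.val_injective g.surjective_rangeRestrict (fun x => by
              rw [Submodule.coe_subtype, Subtype.range_coe_subtype]
              exact ⟨fun h => congrArg Subtype.val h, fun h => Subtype.ext h⟩)
      _ ≤ Module.length R (N ⧸ smulRange R N a) + 1 * Ring.ord R a := by
          refine add_le_add ?_ ?_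
          · exact (Module.length_le_of_injective (Submodule.inclusion hle)
              (Submodule.inclusion_injective _)).trans
              (Module.length_le_of_surjective f.rangeRestrict f.surjective_rangeRestrict)
          · exact (Module.length_le_of_injective (Submodule.subtype _)
              Subtype.val_injective).trans hp
      _ ≤ r * Ring.ord R a + 1 * Ring.ord R a := add_le_add (ih N) le_rfl
      _ = _ := by push_cast; ring

/-- Let `R` be a Noetherian local domain of dimension one with fraction field `K`, `M` an `R`-submodule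
of `K^r`, and `x` a nonzero element of `R`. Then `R/xR` has finite length and the length of `M/xM`
is at most `r` times the length of `R/xR`. -/
theorem result (R : Type u) [CommRing R] [IsDomain R]
    [IsNoetherianRing R] [IsLocalRing R] (hdim : ringKrullDim R = 1) (K : Type u) [Field K]
    [Algebra R K] [IsFractionRing R K] (r : ℕ) (M : Submodule R (Fin r → K)) (x : R) (hx : x ≠ 0) :
    Module.length R (R ⧸ Ideal.span ({x} : Set R)) ≠ ⊤ ∧
      Module.length R (M ⧸ (Ideal.span ({x} : Set R) • (⊤ : Submodule R M))) ≤
        r * Module.length R (R ⧸ Ideal.span ({x} : Set R)) := by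
  have : Ring.KrullDimLE 1 R := Ring.krullDimLE_iff.mpr (le_of_eq hdim)
  refine ⟨Ring.ord_ne_top (mem_nonZeroDivisors_of_ne_zero hx), ?_⟩
  have h : (Ideal.span ({x} : Set R) • (⊤ : Submodule R M)) = smulRange R M x := by
    ext y
    rw [mem_smulRange, Submodule.ideal_span_singleton_smul]
    exact ⟨fun ⟨z, _, h⟩ => ⟨z, h⟩, fun ⟨z, h⟩ => ⟨z, trivial, h⟩⟩
  rw [h]
  exact length_quot_smulRange_le_pi K r M x hx

end Groth.Agent.S0557
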