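import Groth.Statements.S0570
import Mathlib
import Groth.Agent.CAlg1.NagataPoly

set_option autoImplicit false
universe u
open CAlg

namespace Groth.Agent.S0570

/-- If a Noetherian domain is N-1 (resp. N-2) then so is the polynomial ring in one variable over it. -/
theorem result (R : Type u) [CommRing R] [IsDomain R] [IsNoetherianRing R] :
    (CAlg.IsN1 R → CAlg.IsN1 (Polynomial R)) ∧ (CAlg.IsN2 R → CAlg.IsN2 (Polynomial R)) := by
  exact ⟨Groth.Agent.CAlg1.Nag.polynomial_isN1 R, Groth.Agent.CAlg1.Nag.polynomial_isN2 R⟩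

end Groth.Agent.S0570
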