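import Groth.Statements.S0573
import Mathlib
import Groth.Agent.CAlg1.NagataTheorem

set_option autoImplicit false
universe u
open CAlg

namespace Groth.Agent.S0573

/-- Stated for finite type rather than essentially finite type algebras: if `R` is a Nagata ring and `S`
a reduced `R`-algebra of finite type, then the integral closure of `R` in `S` is a finitely
generated `R`-module. -/
theorem result (R : Type u) [CommRing R] (hR : CAlg.IsNagata R)
    (S : Type u) [CommRing S] [IsReduced S] [Algebra R S] [Algebra.FiniteType R S] :
    Module.Finite R (integralClosure R S) := by
  exact Groth.Agent.CAlg1.Nag.finite_integralClosure_reduced hR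

end Groth.Agent.S0573
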