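import Groth.Statements.S0577
import Mathlib
import Groth.Agent.CAlg1.NagataRoot

set_option autoImplicit false
universe u
open CAlg

namespace Groth.Agent.S0577

/-- Let `A` be a Noetherian local domain of prime characteristic `p` which is a Nagata ring. If `a ∈ A`
has a `p`-th root in the completion of `A`, then it has a `p`-th root in `A`. -/
theorem result (A : Type u) [CommRing A] [IsDomain A]
    [IsLocalRing A] (hA : CAlg.IsNagata A) (p : ℕ) [Fact p.Prime] [CharP A p] (a : A)
    (h : ∃ α : AdicCompletion (IsLocalRing.maximalIdeal A) A,
      α ^ p = algebraMap A (AdicCompletion (IsLocalRing.maximalIdeal A) A) a) :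
    ∃ b : A, b ^ p = a := by
  exact Groth.Agent.CAlg1.Nag.exists_pth_root hA p a h

end Groth.Agent.S0577
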