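import Groth.Statements.S0584
import Groth.Agent.FlatMor67.ProjDescent

set_option autoImplicit false
universe u
open scoped Classical
open CAlg

namespace Groth.Agent.S0584

/-- Projectivity of a module is equivalent to the conjunction of three conditions — flatness, the
Mittag-Leffler property, and being an internal direct sum of countably generated submodules. -/
theorem result (R : Type u) [CommRing R] (M : Type u)
    [AddCommGroup M] [Module R M] :
    Module.Projective R M ↔ (Module.Flat R M ∧ CAlg.IsMittagLeffler R M ∧
      ∃ (ι : Type u) (N : ι → Submodule R M), DirectSum.IsInternal N ∧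
        ∀ i, CAlg.IsCountablyGenerated R (N i)) := by
  classical
  constructor
  · intro _
    obtain ⟨κ, L, h1, h2, h3⟩ := FlatMor67.exists_countable_decomposition (R := R) M
    refine ⟨inferInstance, FlatMor67.ml_of_projective M, κ, L, ?_, h3⟩
    convert (DirectSum.isInternal_submodule_iff_iSupIndep_and_iSup_eq_top L).mpr ⟨h1, h2⟩
  · rintro ⟨hflat, hml, ι, N, hN, hc⟩
    have h := (DirectSum.isInternal_submodule_iff_iSupIndep_and_iSup_eq_top N).mp (by convert hN)
    refine FlatMor67.projective_of_iSupIndep N h.1 h.2 fun i => ?_
    let e : DirectSum ι (fun i => N i) ≃ₗ[R] M :=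
      LinearEquiv.ofBijective (DirectSum.coeLinearMap N)
        ((DirectSum.isInternal_submodule_iff_iSupIndep_and_iSup_eq_top N).mpr h)
    let r : M →ₗ[R] N i := DirectSum.component R ι (fun i => N i) i ∘ₗ e.symm.toLinearMap
    have hr : r ∘ₗ (N i).subtype = LinearMap.id := by
      refine LinearMap.ext fun x => ?_
      have : e.symm (x : M) = DirectSum.lof R ι (fun i => N i) i x := by
        rw [LinearEquiv.symm_apply_eq]
        exact (DirectSum.coeLinearMap_of N i x).symm
      show DirectSum.component R ι (fun i => N i) i (e.symm (x : M)) = x
      rw [this, DirectSum.component.lof_self]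
    have hui : CAlgX.UniversallyInjective R (N i).subtype := fun Q _ _ =>
      Function.LeftInverse.injective (g := r.rTensor Q) fun x => by
        rw [← LinearMap.rTensor_comp_apply, hr, LinearMap.rTensor_id_apply]
    haveI : Module.Flat R (N i) := Module.Flat.of_retract (N i).subtype r hr
    exact FlatMor67.projective_of_flat_ml_countable _ (ML3.ml_of_univInj _ hui hml) (hc i)

end Groth.Agent.S0584
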