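import Groth.Statements.S0598
import Groth.Agent.EGA4H10.CompleteGRing

set_option autoImplicit false
universe u
open CAlg

namespace Groth.Agent.S0598

/-- A Noetherian local ring complete with respect to its maximal ideal is a G-ring. -/
theorem result (R : Type u) [CommRing R] [IsLocalRing R] [IsNoetherianRing R]
    [IsAdicComplete (IsLocalRing.maximalIdeal R) R] : CAlg.IsGRing R := by
  exact Groth.Agent.EGA4H10.isGRing_of_complete R

end Groth.Agent.S0598
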