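import Groth.Statements.S0619
import Groth.Agent.CrvFF30.Weil


set_option autoImplicit false
universe u
open AlgebraicGeometry CategoryTheory
open Zeta

namespace Groth.Agent.S0619

/-- For a geometrically connected smooth proper curve of genus g over a finite field k with q elements
and a finite extension k' of degree n, |#C(k') − (qⁿ + 1)| ≤ 2g·q^(n/2). -/
theorem result {k : Type u} [Field k] [Finite k] {C : Scheme.{u}}
    (f : C ⟶ Spec (CommRingCat.of k)) (hC : Curve.IsSmoothProperCurve k C f)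
    [GeometricallyIrreducible f] (g : ℕ)
    (hg : Nat.card (Coh.HH C (Coh.structureModule C) 1) = Nat.card k ^ g)
    (k' : Type u) [Field k'] [Algebra k k'] [Finite k'] :
    |(SgaExt.pointCount f k' : ℝ) - ((Nat.card k : ℝ) ^ Module.finrank k k' + 1)| ≤
      2 * g * (Nat.card k : ℝ) ^ ((Module.finrank k k' : ℝ) / 2) := by
  obtain ⟨α, -, hn, -, hF⟩ := CrvFF30.weil_curve f hC g hg
  set n := Module.finrank k k' with hdef
  have h1 := hF k'
  have hnorm : ∀ i, ‖α i ^ n‖ = (Nat.card k : ℝ) ^ ((n : ℝ) / 2) := fun i => by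
    rw [norm_pow, ← Real.sqrt_sq (norm_nonneg (α i)), hn i, Real.sqrt_eq_rpow,
      ← Real.rpow_natCast, ← Real.rpow_mul (Nat.cast_nonneg _)]
    ring_nf
  have h2 : (((SgaExt.pointCount f k' : ℝ) - ((Nat.card k : ℝ) ^ n + 1) : ℝ) : ℂ) = -∑ i, α i ^ n := by
    push_cast
    rw [h1]
    ring
  rw [← Real.norm_eq_abs, ← Complex.norm_real, h2, norm_neg]
  refine (norm_sum_le _ _).trans (le_of_eq ?_)
  rw [Finset.sum_congr rfl fun i _ => hnorm i, Finset.sum_const, Finset.card_univ, Fintype.card_fin,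
    nsmul_eq_mul]
  push_cast
  ring

end Groth.Agent.S0619
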