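import Groth.Statements.S0634
import Groth.Agent.EtCore45.Vanish

set_option autoImplicit false
open CategoryTheory CategoryTheory.Limits AlgebraicGeometry Opposite
universe u
open EtCore

namespace Groth.Agent.S0634

/-- For an abelian sheaf F on the small etale site of S and two global sections s, t there is an open W
of S such that a morphism f : T -> S has image inside W if and only if the pullbacks of s and t
along f (images under the adjunction unit, as sections of the pullback sheaf over T) coincide. -/
theorem result {S : Scheme.{u}} (F : EtCoh.Ab S) (s t : EtCoh.sect F (EtCoh.top S)) :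
    ∃ W : S.Opens, ∀ (T : Scheme.{u}) (f : T ⟶ S),
      Set.range f.base ⊆ (W : Set S) ↔
        ((EtCoh.pullPushAdj f).unit.app F).hom.app (op (EtCoh.top S)) s =
          ((EtCoh.pullPushAdj f).unit.app F).hom.app (op (EtCoh.top S)) t :=
  ⟨Groth.Agent.Unr55.EtSh.vanishing F (s - t), fun T f => by
    rw [← sub_eq_zero (a := ((EtCoh.pullPushAdj f).unit.app F).hom.app (op (EtCoh.top S)) s), ← map_sub]
    exact (Groth.Agent.EtCore45.unit_app_eq_zero_iff f F (s - t)).symm⟩

end Groth.Agent.S0634
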