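import Groth.Statements.S0640
import Groth.Agent.EtCore45.HpullBij

set_option autoImplicit false
open CategoryTheory CategoryTheory.Limits AlgebraicGeometry Opposite
universe u
open EtCore

namespace Groth.Agent.S0640

/-- Let k -> k' be a homomorphism between separably closed fields, X a proper scheme over k of dimension
at most 1 and F a torsion abelian sheaf on the small etale site of X. Then for every q ≥ 0 the
pullback map from H^q(X, F) to H^q of the base change of X to k' with coefficients in the pulled
back sheaf is bijective. (Exactness of pullback of abelian sheaves, which always holds, is carried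
as an instance hypothesis.) -/
theorem result (k : Type u) [Field k] [IsSepClosed k] (X : Scheme.{u})
    (f : X ⟶ Spec (CommRingCat.of k)) [IsProper f]
    (hdim : topologicalKrullDim X ≤ 1) (F : EtCoh.Ab X) (hF : EtCoh.IsTorsion F)
    (k' : Type u) [Field k'] [IsSepClosed k'] (φ : k →+* k')
    [PreservesFiniteLimits (EtCoh.pull (pullback.fst f (Spec.map (CommRingCat.ofHom φ))))] (q : ℕ) :
    Function.Bijective (EtCore.Hpull (pullback.fst f (Spec.map (CommRingCat.ofHom φ))) F q) :=
  Groth.Agent.EtCore45.bijective_Hpull_fieldExt f _ F hF q

end Groth.Agent.S0640
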