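import Groth.Statements.S0641
import Groth.Agent.PBC51.Henselian
import Groth.Agent.EtCore45.ConstTorsion

set_option autoImplicit false
open CategoryTheory CategoryTheory.Limits AlgebraicGeometry Opposite
universe u
open EtCore

namespace Groth.Agent.S0641

/-- Let A be a henselian local ring, X proper over Spec A, X_0 the closed fibre (base change to the
residue field) and M a finite abelian group. Then the pullback map from H^1(X, M) to H^1 of X_0 with
coefficients in the pullback of the constant sheaf M is bijective. (Exactness of pullback of abelian
sheaves, which always holds, is carried as an instance hypothesis.) -/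
theorem result (A : Type u) [CommRing A] [HenselianLocalRing A]
    (X : Scheme.{u}) (f : X ⟶ Spec (CommRingCat.of A)) [IsProper f] (M : Type) [AddCommGroup M] [Finite M]
    [PreservesFiniteLimits (EtCoh.pull (pullback.fst f
      (Spec.map (CommRingCat.ofHom (IsLocalRing.residue A)))))] :
    Function.Bijective (EtCore.Hpull (pullback.fst f (Spec.map (CommRingCat.ofHom (IsLocalRing.residue A))))
      (EtCoh.const X M) 1) :=
  Groth.Agent.PBC51.bijective_Hpull_henselian A f _ (Groth.Agent.EtCore45.isTorsion_const X M) 1

end Groth.Agent.S0641
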