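import Groth.Statements.S0643
import Mathlib.RingTheory.AdjoinRoot
import Mathlib.Tactic.LinearCombination

set_option autoImplicit false
universe u
open EtCore

namespace Groth.Agent.S0643

open Polynomial in
/-- Let A be a ring, assumed nonzero here (the published statement does not say so; over the zero ring
no polynomial has positive degree in Lean's sense), and a, b elements generating the unit ideal such
that some positive power of a is congruent to 1 modulo b. Then there is a monic polynomial P of
positive degree over A such that in B = A[y]/(P) the element a - b y is a unit. -/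
theorem result (A : Type u) [CommRing A] [Nontrivial A] (a b : A) (hab : IsCoprime a b)
    (hroot : ∃ n : ℕ, 0 < n ∧ a ^ n - 1 ∈ Ideal.span ({b} : Set A)) :
    ∃ P : A[X], P.Monic ∧ 0 < P.natDegree ∧
      IsUnit (algebraMap A (AdjoinRoot P) a - algebraMap A (AdjoinRoot P) b * AdjoinRoot.root P) := by
  obtain ⟨n, hn, hmem⟩ := hroot
  obtain ⟨c, hc⟩ := Ideal.mem_span_singleton'.1 hmem
  obtain ⟨x, w, hxw⟩ := hab
  -- coefficients of the homogeneous correction term
  let e : ℕ → A := fun i => -c * (x ^ i * w ^ (n - 1 - i) * (n - 1).choose i)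
  have hone : ∑ i ∈ Finset.range n, e i * a ^ i * b ^ (n - 1 - i) = -c := by
    have h := (add_pow (x * a) (w * b) (n - 1))
    rw [hxw, one_pow, Nat.sub_add_cancel hn] at h
    calc _ = ∑ i ∈ Finset.range n, -c * ((x * a) ^ i * (w * b) ^ (n - 1 - i) * (n - 1).choose i) :=
          Finset.sum_congr rfl fun i _ => by simp only [e, mul_pow]; ring
      _ = -c := by rw [← Finset.mul_sum, ← h, mul_one]
  let Q : A[X] := ∑ i ∈ Finset.range n, C (e i) * X ^ i
  have hQ : Q.degree < (n : WithBot ℕ) := by
    refine (degree_sum_le _ _).trans_lt ((Finset.sup_lt_iff (WithBot.bot_lt_coe n)).2 fun i hi => ?_)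
    exact (degree_C_mul_X_pow_le i (e i)).trans_lt (WithBot.coe_lt_coe.2 (Finset.mem_range.1 hi))
  refine ⟨X ^ n + Q, monic_X_pow_add hQ, ?_, ?_⟩
  · rw [natDegree_eq_of_degree_eq_some (n := n)]
    · exact hn
    · rw [degree_add_eq_left_of_degree_lt (by rwa [degree_X_pow]), degree_X_pow]
  · set P := X ^ n + Q
    set a' := algebraMap A (AdjoinRoot P) a
    set b' := algebraMap A (AdjoinRoot P) b
    set y := AdjoinRoot.root P
    let e' : ℕ → AdjoinRoot P := fun i => algebraMap A (AdjoinRoot P) (e i)
    have h0 : y ^ n + ∑ i ∈ Finset.range n, e' i * y ^ i = 0 := by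
      have h := AdjoinRoot.eval₂_root P
      simp only [P, Q, eval₂_add, eval₂_X_pow, eval₂_finsetSum, eval₂_mul, eval₂_C] at h
      exact h
    have h1 : a' ^ n + ∑ i ∈ Finset.range n, e' i * a' ^ i * b' ^ (n - i) = 1 := by
      have : a ^ n + ∑ i ∈ Finset.range n, e i * a ^ i * b ^ (n - i) = 1 := by
        calc _ = a ^ n + (∑ i ∈ Finset.range n, e i * a ^ i * b ^ (n - 1 - i)) * b := by
              rw [Finset.sum_mul]
              congr 1
              refine Finset.sum_congr rfl fun i hi => ?_
              rw [show n - i = n - 1 - i + 1 by have := Finset.mem_range.1 hi; omega, pow_succ]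
              ring
          _ = 1 := by rw [hone, neg_mul, hc]; ring
      simpa [e', a', b', map_sum] using congrArg (algebraMap A (AdjoinRoot P)) this
    refine isUnit_of_dvd_one ?_
    have hrew : (1 : AdjoinRoot P) = (a' ^ n - (b' * y) ^ n) +
        ∑ i ∈ Finset.range n, e' i * b' ^ (n - i) * (a' ^ i - (b' * y) ^ i) := by
      have h2 : ∑ i ∈ Finset.range n, e' i * b' ^ (n - i) * (b' * y) ^ i =
          b' ^ n * ∑ i ∈ Finset.range n, e' i * y ^ i := by
        rw [Finset.mul_sum]
        refine Finset.sum_congr rfl fun i hi => ?_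
        conv_rhs => rw [← Nat.sub_add_cancel (Finset.mem_range.1 hi).le, pow_add]
        ring
      have h3 : ∑ i ∈ Finset.range n, e' i * b' ^ (n - i) * (a' ^ i - (b' * y) ^ i) =
          (∑ i ∈ Finset.range n, e' i * a' ^ i * b' ^ (n - i)) -
            ∑ i ∈ Finset.range n, e' i * b' ^ (n - i) * (b' * y) ^ i := by
        rw [← Finset.sum_sub_distrib]
        exact Finset.sum_congr rfl fun i _ => by ring
      rw [h3, h2, mul_pow]
      linear_combination (-1 : AdjoinRoot P) * h1 + b' ^ n * h0
    rw [hrew]
    exact dvd_add (sub_dvd_pow_sub_pow _ _ _)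
      (Finset.dvd_sum fun i _ => Dvd.dvd.mul_left (sub_dvd_pow_sub_pow _ _ _) _)

end Groth.Agent.S0643
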