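import Groth.Statements.S0676
import Groth.Agent.Ind91.Lift
import Groth.Agent.Ind91.Prod

set_option autoImplicit false
open CategoryTheory CategoryTheory.Limits AlgebraicGeometry Opposite Topology
universe u
open ProEtW

namespace Groth.Agent.S0676

/-- If every faithfully flat etale A-algebra has an A-algebra retraction, then the same holds for the
quotient ring A/I for every ideal I. -/
theorem result (A : Type u) [CommRing A]
    (h : ProEtW.HasEtaleRetractions A) (I : Ideal A) :
    ProEtW.HasEtaleRetractions (A ⧸ I) := by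
  intro B _ _ hff het
  let : Algebra A B := ((algebraMap (A ⧸ I) B).comp (algebraMap A (A ⧸ I))).toAlgebra
  have : IsScalarTower A (A ⧸ I) B := IsScalarTower.of_algebraMap_eq' rfl
  obtain ⟨W, _, _, π, hW, hπ, hker⟩ := Groth.Agent.Ind91.exists_etale_lift A I B
  obtain ⟨t, ht, hff', het'⟩ := Groth.Agent.Ind91.exists_cover A I W (fun p hp => by
    have hp' : p ∈ Set.range (PrimeSpectrum.comap (Ideal.Quotient.mk I)) := by
      rwa [range_comap_of_surjective _ _ Ideal.Quotient.mk_surjective, Ideal.mk_ker]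
    obtain ⟨p', rfl⟩ := hp'
    obtain ⟨q, rfl⟩ := PrimeSpectrum.comap_surjective_of_faithfullyFlat (B := B) p'
    refine ⟨PrimeSpectrum.comap π.toRingHom q, ?_⟩
    rw [← Ideal.Quotient.algebraMap_eq, ← PrimeSpectrum.comap_comp_apply,
      ← PrimeSpectrum.comap_comp_apply, AlgHom.toRingHom_eq_coe, AlgHom.comp_algebraMap, ← IsScalarTower.algebraMap_eq])
  obtain ⟨r⟩ := h _ hff' het'
  obtain ⟨ρ, -⟩ := Groth.Agent.Ind91.exists_retraction_mod A I W t ht r
  have hk : RingHom.ker π ≤ RingHom.ker ρ := by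
    rw [hker, Ideal.map_le_iff_le_comap]
    intro a ha
    rw [Ideal.mem_comap, RingHom.mem_ker, AlgHom.commutes, Ideal.Quotient.algebraMap_eq,
      Ideal.Quotient.eq_zero_iff_mem.2 ha]
  let g : B →+* A ⧸ I := RingHom.liftOfSurjective π.toRingHom hπ ⟨ρ.toRingHom, hk⟩
  have hg : ∀ w, g (π w) = ρ w := fun w =>
    RingHom.liftOfRightInverse_comp_apply π.toRingHom _ _ ⟨ρ.toRingHom, hk⟩ w
  refine ⟨{ g with commutes' := fun a => ?_ }⟩
  obtain ⟨a, rfl⟩ := Ideal.Quotient.mk_surjective a
  show g (algebraMap (A ⧸ I) B (algebraMap A (A ⧸ I) a)) = _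
  rw [← IsScalarTower.algebraMap_apply, ← π.commutes a, hg, ρ.commutes]
  rfl

end Groth.Agent.S0676
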