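import Groth.Statements.S0691
import Groth.Agent.Shriek20.ProperLqf

set_option autoImplicit false
open CategoryTheory CategoryTheory.Limits AlgebraicGeometry Opposite
universe u
open EtShriek

namespace Groth.Agent.S0691

/-- Let f : X → Y and g : X → Z be morphisms which are separated, locally of finite type and locally
quasi-finite, and h : Y → Z a proper morphism with g = h ∘ f. Then for every torsion abelian sheaf F
on X_ét the direct image with proper support g_!F is isomorphic to h_*(f_!F), and R^q h_*(f_!F) = 0
for every q > 0. (This is the case of a single torsion sheaf placed in degree 0, read on cohomology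
sheaves, of a published statement about complexes; only the existence of an isomorphism is asserted,
where the published one is canonical.) -/
theorem result {X Y Z : Scheme.{u}} (f : X ⟶ Y) (h : Y ⟶ Z) (g : X ⟶ Z)
    (w : g = f ≫ h) [IsSeparated f] [LocallyOfFiniteType f] [LocallyQuasiFinite f] [IsSeparated g] [LocallyOfFiniteType g] [LocallyQuasiFinite g]
    [IsProper h] (F : EtCoh.Ab X) (hF : EtCoh.IsTorsion F) :
    Nonempty ((EtShriek.lowerShriek g).obj F ≅ (EtCoh.push h).obj ((EtShriek.lowerShriek f).obj F)) ∧
      ∀ q : ℕ, 0 < q → IsZero ((EtCoh.Rpush h q).obj ((EtShriek.lowerShriek f).obj F)) := by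
  subst w
  refine ⟨⟨(EtSupp91.lowerShriekComp f h).app F ≪≫ (EtSupp91.lowerShriekIsoPush h).app _⟩, fun q hq => ?_⟩
  obtain ⟨q, rfl⟩ := Nat.exists_eq_add_one.2 hq
  exact Shriek20.isZero_Rpush_lowerShriek f h hF q

end Groth.Agent.S0691
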