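import Groth.Statements.S0695
import Groth.Agent.Germs91.WCover
import Groth.Agent.Germs91.WRetract

set_option autoImplicit false
open CategoryTheory CategoryTheory.Limits AlgebraicGeometry Opposite Topology
universe u
open ProEtW

namespace Groth.Agent.S0695

/-- For every ring A there is a faithfully flat ind-Zariski A-algebra A_w with w-local spectrum such
that for every A-algebra B whose spectrum is w-local there is exactly one A-algebra map A_w -> B for
which Spec B -> Spec A_w is w-local. -/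
theorem result (A : Type u) [CommRing A] :
    ∃ (Aw : Type u) (_ : CommRing Aw) (_ : Algebra A Aw),
      Module.FaithfullyFlat A Aw ∧ EtPBC.IsIndZariski A Aw ∧ ProEtW.IsWLocal (PrimeSpectrum Aw) ∧
      ∀ (B : Type u) [CommRing B] [Algebra A B], ProEtW.IsWLocal (PrimeSpectrum B) →
        ∃! φ : Aw →ₐ[A] B, ProEtW.IsWLocalMap (PrimeSpectrum.comap φ.toRingHom) := by
  classical
  have hP := Groth.Agent.Germs91.consPt_clopen A
  set P := Groth.Agent.Germs91.consPt A
  have hS := Groth.Agent.Germs91.pc_open P hP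
  let Aw := Groth.Agent.Germs91.WLoc A
  have hbij := Groth.Agent.Germs91.bijOn_closedPoints P hP (WithTopology.ofTopology_injective _)
  have hie := Groth.Agent.Germs91.isIndZariski_germ _ hS
  refine ⟨Aw, inferInstance, inferInstance, ?_, hie, Groth.Agent.Germs91.isWLocal P hP, ?_⟩
  · have := Groth.Agent.Ind91.flat_of_isIndEtale (Groth.Agent.Ind91.isIndEtale_of_isIndZariski hie)
    refine Module.FaithfullyFlat.of_comap_surjective fun x => ?_
    obtain ⟨q, -, hq⟩ := hbij.2.2 ⟨WithTopology.toTopology _ x, rfl⟩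
    exact ⟨q, hq⟩
  intro B _ _ hB
  obtain ⟨_, _, _⟩ := Groth.Agent.Spec91.closedPoints_profinite hB.2.1
  set PB : Groth.Agent.Germs91.CP B → PrimeSpectrum B := fun t => t.1
  have hPB := Groth.Agent.Germs91.cp_clopen hB
  let s : Groth.Agent.Germs91.CP B → Groth.Agent.Germs91.ConsSpec A := fun t =>
    WithTopology.toTopology _ (PrimeSpectrum.comap (algebraMap A B) (PB t))
  let ψ : Groth.Agent.Germs91.ConsSpec A → (A → Bool) := fun t a => decide (a ∈ (P t).asIdeal)
  have hbool : ∀ {X : Type u} [TopologicalSpace X] (S : Set X) (f : X → Bool),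
      IsClopen S → (∀ x, f x = false ↔ x ∈ S) → Continuous f := by
    intro X _ S f hS hf
    refine continuous_discrete_rng.2 fun b => ?_
    cases b
    · rw [show f ⁻¹' {false} = S from Set.ext hf]; exact hS.2
    · rw [show f ⁻¹' {true} = Sᶜ from Set.ext fun x => by
        rw [Set.mem_preimage, Set.mem_singleton_iff, Set.mem_compl_iff, ← hf x]; simp]
      exact hS.1.isOpen_compl
  have hψ : IsClosedEmbedding ψ := Continuous.isClosedEmbedding
    (continuous_pi fun a => hbool _ _ (hP a) fun t => decide_eq_false_iff_not)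
    fun t t' h => WithTopology.ofTopology_injective _ (PrimeSpectrum.ext (Ideal.ext fun a =>
      decide_eq_decide.1 (congrFun h a)))
  have hs : Continuous s := hψ.isInducing.continuous_iff.2
    (continuous_pi fun a => hbool _ _ (hPB (algebraMap A B a)) fun t => decide_eq_false_iff_not)
  let L : ∀ t, Groth.Agent.Germs91.Stalk (Groth.Agent.Germs91.pc P) (s t) →ₐ[A]
      Groth.Agent.Germs91.Stalk (Groth.Agent.Germs91.pc PB) t := fun t =>
    { Localization.localRingHom (P (s t)).asIdeal (PB t).asIdeal (algebraMap A B) rfl with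
      commutes' := fun a => by
        rw [IsScalarTower.algebraMap_apply A B (Groth.Agent.Germs91.Stalk (Groth.Agent.Germs91.pc PB) t)]
        exact Localization.localRingHom_to_map (P (s t)).asIdeal (PB t).asIdeal (algebraMap A B) rfl a }
  have hLloc : ∀ t x, IsUnit (L t x) → IsUnit x := fun t x hx =>
    (Localization.isLocalHom_localRingHom (P (s t)).asIdeal (PB t).asIdeal (algebraMap A B) rfl).1 x hx
  let F : Aw →ₐ[A] ∀ t, Groth.Agent.Germs91.Stalk (Groth.Agent.Germs91.pc PB) t :=
    AlgHom.pi fun t => (L t).comp (Groth.Agent.Germs91.ev _ (s t))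
  have hF : ∀ x, F x ∈ (Groth.Agent.Germs91.germs (Groth.Agent.Germs91.pc PB)).restrictScalars A := by
    intro x t
    obtain ⟨U, hU, htU, a, g, hag⟩ := x.2 (s t)
    refine ⟨s ⁻¹' U, hU.preimage hs, htU, algebraMap A B a, algebraMap A B g,
      fun r hr => ⟨(hag (s r) hr).1, ?_⟩⟩
    have h := congrArg (L r) (hag (s r) hr).2
    rw [map_mul, AlgHom.commutes, AlgHom.commutes] at h
    rw [← IsScalarTower.algebraMap_apply, ← IsScalarTower.algebraMap_apply]
    exact h
  have hbB := Groth.Agent.Germs91.bijective_algebraMap_germ hB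
  let eB : B ≃ₐ[A] Groth.Agent.Germs91.Germ (Groth.Agent.Germs91.pc PB) :=
    (AlgEquiv.ofBijective (Algebra.ofId B _) hbB).restrictScalars A
  let φ : Aw →ₐ[A] B := eB.symm.toAlgHom.comp (F.codRestrict _ hF)
  have hφ : ∀ x t, algebraMap B (Groth.Agent.Germs91.Stalk (Groth.Agent.Germs91.pc PB) t) (φ x) =
      L t (Groth.Agent.Germs91.ev _ (s t) x) := by
    intro x t
    rw [← AlgHom.commutes (Groth.Agent.Germs91.ev (Groth.Agent.Germs91.pc PB) t) (φ x)]
    show Groth.Agent.Germs91.ev _ t (eB (eB.symm _)) = _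
    rw [AlgEquiv.apply_symm_apply]
    rfl
  have hclosed : ∀ M : PrimeSpectrum B, IsClosed ({M} : Set (PrimeSpectrum B)) →
      IsClosed ({PrimeSpectrum.comap φ.toRingHom M} : Set (PrimeSpectrum Aw)) := by
    intro M hM
    let t : Groth.Agent.Germs91.CP B := ⟨M, hM⟩
    have : PrimeSpectrum.comap φ.toRingHom M = Groth.Agent.Germs91.closedPt P (s t) := by
      refine PrimeSpectrum.ext (Ideal.ext fun x => ?_)
      rw [Groth.Agent.Germs91.mem_closedPt]
      show φ x ∈ (PB t).asIdeal ↔ _
      rw [← IsLocalization.AtPrime.to_map_mem_maximal_iff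
        (Groth.Agent.Germs91.Stalk (Groth.Agent.Germs91.pc PB) t) (PB t).asIdeal (φ x),
        IsLocalRing.mem_maximalIdeal, mem_nonunits_iff, hφ]
      exact not_congr ⟨hLloc t _, fun h => h.map (L t)⟩
    rw [this]
    exact (Groth.Agent.Germs91.isClosed_iff P hP _).2 (by rw [Groth.Agent.Germs91.pt_closedPt P hP])
  have hspec : IsSpectralMap (PrimeSpectrum.comap φ.toRingHom) := by
    refine ⟨PrimeSpectrum.continuous_comap _, fun U hUo hUc => ?_⟩
    obtain ⟨T, hT⟩ := PrimeSpectrum.isCompact_isOpen_iff.1 ⟨hUc, hUo⟩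
    rw [← hT, Set.preimage_compl, PrimeSpectrum.preimage_comap_zeroLocus]
    exact (PrimeSpectrum.isCompact_isOpen_iff.2 ⟨T.image φ.toRingHom, by simp⟩).1
  refine ⟨φ, ⟨hspec, hclosed⟩, fun φ' hφ' => ?_⟩
  refine AlgHom.ext fun x => hbB.1 (Groth.Agent.Germs91.ext_ev _ fun t => ?_)
  rw [AlgHom.commutes, AlgHom.commutes, hφ]
  obtain ⟨hc, hcl⟩ : PrimeSpectrum.comap φ'.toRingHom (PB t) =
      Groth.Agent.Germs91.closedPt P (s t) ∧ True := by
    refine ⟨hbij.2.1 (hφ'.2 _ t.2)
      ((Groth.Agent.Germs91.isClosed_iff P hP _).2 (by rw [Groth.Agent.Germs91.pt_closedPt P hP])) ?_, trivial⟩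
    rw [Groth.Agent.Germs91.comap_closedPt, ← PrimeSpectrum.comap_comp_apply,
      AlgHom.toRingHom_eq_coe, AlgHom.comp_algebraMap]
  set h' : Aw →ₐ[A] Groth.Agent.Germs91.Stalk (Groth.Agent.Germs91.pc PB) t :=
    (IsScalarTower.toAlgHom A B _).comp φ'
  show h' x = _
  have hunit : ∀ y, IsUnit (Groth.Agent.Germs91.ev _ (s t) y) → IsUnit (h' y) := by
    intro y hy
    refine (IsLocalization.AtPrime.isUnit_to_map_iff
      (Groth.Agent.Germs91.Stalk (Groth.Agent.Germs91.pc PB) t) (PB t).asIdeal (φ' y)).2 fun hmem => ?_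
    have : y ∈ (Groth.Agent.Germs91.closedPt P (s t)).asIdeal := hc ▸ hmem
    exact (Groth.Agent.Germs91.mem_closedPt P).1 this hy
  have hker : ∀ y, Groth.Agent.Germs91.ev _ (s t) y = 0 → h' y = 0 := by
    intro y hy
    obtain ⟨U, hU, htU, hz⟩ := Groth.Agent.Germs91.eventually_eq _ hS (y.2 (s t))
      ((Groth.Agent.Germs91.germs _).zero_mem (s t)) hy
    obtain ⟨V, hV, htV, hVU⟩ := compact_exists_isClopen_in_isOpen hU htU
    obtain ⟨e, he1, he0⟩ := Groth.Agent.Germs91.exists_indicator (Groth.Agent.Germs91.pc P) hV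
    have hey : y * e = 0 := Groth.Agent.Germs91.ext_ev _ fun r => by
      rw [map_mul, map_zero]
      by_cases hr : r ∈ V
      · rw [show Groth.Agent.Germs91.ev _ r y = 0 from hz r (hVU hr), zero_mul]
      · rw [he0 r hr, mul_zero]
    have h0 := congrArg h' hey
    rw [map_mul, map_zero] at h0
    exact (hunit e (by rw [he1 _ htV]; exact isUnit_one)).mul_left_eq_zero.1 h0
  obtain ⟨a, ⟨g, hg⟩, hag⟩ := IsLocalization.exists_mk'_eq (Groth.Agent.Germs91.pc P (s t))
    (Groth.Agent.Germs91.ev (Groth.Agent.Germs91.pc P) (s t) x)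
  have hgx : Groth.Agent.Germs91.ev _ (s t) (algebraMap A Aw g * x - algebraMap A Aw a) = 0 := by
    rw [map_sub, map_mul, AlgHom.commutes, AlgHom.commutes, ← hag, sub_eq_zero]
    exact IsLocalization.mk'_spec' _ a (⟨g, hg⟩ : Groth.Agent.Germs91.pc P (s t))
  have h1 := hker _ hgx
  rw [map_sub, map_mul, AlgHom.commutes, AlgHom.commutes, sub_eq_zero] at h1
  have h2 : L t (algebraMap A _ g) * L t (Groth.Agent.Germs91.ev _ (s t) x) = L t (algebraMap A _ a) := by
    rw [← map_mul, ← hag]
    exact congrArg (L t) (IsLocalization.mk'_spec' _ a (⟨g, hg⟩ : Groth.Agent.Germs91.pc P (s t)))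
  rw [AlgHom.commutes, AlgHom.commutes] at h2
  have hu : IsUnit (algebraMap A (Groth.Agent.Germs91.Stalk (Groth.Agent.Germs91.pc PB) t) g) := by
    rw [IsScalarTower.algebraMap_apply A B]
    exact IsLocalization.map_units _ (⟨algebraMap A B g, hg⟩ : Groth.Agent.Germs91.pc PB t)
  exact hu.mul_left_cancel (h1.trans h2.symm)

end Groth.Agent.S0695
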