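import Groth.Statements.S0696
import Groth.Agent.Germs91.Constructible

set_option autoImplicit false
open CategoryTheory CategoryTheory.Limits AlgebraicGeometry Opposite Topology
universe u
open ProEtW

namespace Groth.Agent.S0696

/-- Every ring A admits a faithfully flat ind-Zariski extension B whose spectrum is w-local with
extremally disconnected space of connected components. -/
theorem result (A : Type u) [CommRing A] :
    ∃ (B : Type u) (_ : CommRing B) (_ : Algebra A B),
      Module.FaithfullyFlat A B ∧ EtPBC.IsIndZariski A B ∧ ProEtW.IsWLocal (PrimeSpectrum B) ∧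
        ExtremallyDisconnected (_root_.ConnectedComponents (PrimeSpectrum B)) := by
  obtain ⟨e, -⟩ := Groth.Agent.Germs91.exists_components_homeo (Groth.Agent.Germs91.edPt A)
    (Groth.Agent.Germs91.edPt_clopen A)
  have hed : ExtremallyDisconnected (Groth.Agent.Germs91.EDSpec A) :=
    CompactT2.Projective.extremallyDisconnected (Groth.Agent.Germs91.projective_ultrafilter _)
  refine ⟨Groth.Agent.Germs91.Germ (Groth.Agent.Germs91.pc (Groth.Agent.Germs91.edPt A)),
    inferInstance, inferInstance,
    Groth.Agent.Germs91.faithfullyFlat_germ _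
      (Groth.Agent.Germs91.pc_open _ (Groth.Agent.Germs91.edPt_clopen A)) ?_,
    Groth.Agent.Germs91.isIndZariski_germ _
      (Groth.Agent.Germs91.pc_open _ (Groth.Agent.Germs91.edPt_clopen A)),
    Groth.Agent.Germs91.isWLocal _ (Groth.Agent.Germs91.edPt_clopen A), ?_⟩
  · intro x
    obtain ⟨t, rfl⟩ := Groth.Agent.Germs91.edPt_surjective A x
    exact ⟨t, disjoint_compl_left⟩
  · exact extremallyDisconnected_of_homeo e.symm

end Groth.Agent.S0696
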