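import Groth.Statements.S0698
import Groth.Agent.Ind91.ZarLoc
import Groth.Agent.Spec91.Component
import Mathlib.RingTheory.Spectrum.Prime.Topology

set_option autoImplicit false
open CategoryTheory CategoryTheory.Limits AlgebraicGeometry Opposite Topology
universe u
open ProEtW

namespace Groth.Agent.S0698

/-- Let A be a ring, X = Spec A and T a closed subset of pi_0(X). Then A has an ind-Zariski quotient
ring B (the map A -> B is surjective) whose spectrum maps homeomorphically onto the preimage of T in
X. -/
theorem result (A : Type u) [CommRing A]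
    (T : Set (_root_.ConnectedComponents (PrimeSpectrum A))) (hT : IsClosed T) :
    ∃ (B : Type u) (_ : CommRing B) (_ : Algebra A B),
      EtPBC.IsIndZariski A B ∧ Function.Surjective (algebraMap A B) ∧
      Topology.IsEmbedding (PrimeSpectrum.comap (algebraMap A B)) ∧
      Set.range (PrimeSpectrum.comap (algebraMap A B)) = _root_.ConnectedComponents.mk ⁻¹' T := by
  classical
  let S : Submonoid A :=
    { carrier := {f | IsIdempotentElem f ∧ ∀ y : PrimeSpectrum A,
        _root_.ConnectedComponents.mk y ∈ T → f ∉ y.asIdeal}
      one_mem' := ⟨IsIdempotentElem.one, fun y _ h => y.isPrime.ne_top ((Ideal.eq_top_iff_one _).2 h)⟩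
      mul_mem' := fun hf hg => ⟨hf.1.mul hg.1,
        fun y hy h => (y.isPrime.mem_or_mem h).elim (hf.2 y hy) (hg.2 y hy)⟩ }
  refine ⟨Localization S, inferInstance, inferInstance,
    Groth.Agent.Ind91.isIndZariski_of_isLocalization A _ S, fun b => ?_,
    PrimeSpectrum.localization_comap_isEmbedding _ S, ?_⟩
  · obtain ⟨a, f, rfl⟩ := IsLocalization.exists_mk'_eq S b
    refine ⟨a, ?_⟩
    have hone : algebraMap A (Localization S) f = 1 := by
      refine (IsLocalization.map_units (Localization S) f).mul_left_cancel ?_
      rw [← map_mul, f.2.1.eq, mul_one]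
    rw [IsLocalization.eq_mk'_iff_mul_eq, hone, mul_one]
  · rw [PrimeSpectrum.localization_comap_range _ S]
    ext x
    constructor
    · intro hx
      by_contra hne
      obtain ⟨e, he, hex, hy⟩ := Groth.Agent.Spec91.exists_idempotent_separating_closed hT hne
      exact Set.disjoint_left.1 hx (show e ∈ S from ⟨he, hy⟩) hex
    · intro hx
      exact Set.disjoint_left.2 fun f hf hfx => hf.2 x hx hfx

end Groth.Agent.S0698
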