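import Groth.Statements.S0699
import Groth.Agent.Germs91.Change
import Groth.Agent.Germs91.WRetract

set_option autoImplicit false
open CategoryTheory CategoryTheory.Limits AlgebraicGeometry Opposite Topology
universe u
open ProEtW

namespace Groth.Agent.S0699

/-- Let A -> B identify local rings, with Spec A and Spec B w-local, Spec B -> Spec A w-local, and
pi_0(Spec B) -> pi_0(Spec A) bijective. Then A -> B is bijective. -/
theorem result (A B : Type u) [CommRing A] [CommRing B]
    [Algebra A B] (h1 : EtPBC.IdentifiesLocalRings A B) (h2 : ProEtW.IsWLocal (PrimeSpectrum A))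
    (h3 : ProEtW.IsWLocal (PrimeSpectrum B))
    (h4 : ProEtW.IsWLocalMap (PrimeSpectrum.comap (algebraMap A B)))
    (h5 : Function.Bijective
      (PrimeSpectrum.continuous_comap (algebraMap A B)).connectedComponentsMap) :
    Function.Bijective (algebraMap A B) := by
  classical
  haveI := h2.1
  haveI := h3.1
  obtain ⟨_, _, _⟩ := Groth.Agent.Spec91.closedPoints_profinite h2.2.1
  obtain ⟨_, _, _⟩ := Groth.Agent.Spec91.closedPoints_profinite h3.2.1
  let PB : Groth.Agent.Germs91.CP B → PrimeSpectrum B := Subtype.val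
  let f : Groth.Agent.Germs91.CP B → Groth.Agent.Germs91.CP A := fun q =>
    ⟨PrimeSpectrum.comap (algebraMap A B) q.1, h4.2 q.1 q.2⟩
  have hf : Continuous f :=
    ((PrimeSpectrum.continuous_comap _).comp continuous_subtype_val).subtype_mk _
  have hbA := Groth.Agent.Spec91.bijective_closedPoints_components h2.2.1 h2.2.2
  have hbB := Groth.Agent.Spec91.bijective_closedPoints_components h3.2.1 h3.2.2
  have hfb : Function.Bijective f := (Function.Bijective.of_comp_iff' hbA f).1 (h5.comp hbB)
  let hh := Continuous.homeoOfEquivCompactToT2 (f := Equiv.ofBijective f hfb) hf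
  let Q : Groth.Agent.Germs91.CP A → PrimeSpectrum A := fun t =>
    PrimeSpectrum.comap (algebraMap A B) (PB (hh.symm t))
  have hQ : Q = fun t : Groth.Agent.Germs91.CP A => t.1 :=
    funext fun t => congrArg Subtype.val (hh.apply_symm_apply t)
  have hbQ : Function.Bijective (algebraMap A (Groth.Agent.Germs91.Germ (Groth.Agent.Germs91.pc Q))) := by
    rw [hQ]; exact Groth.Agent.Germs91.bijective_algebraMap_germ h2
  obtain ⟨e⟩ := Groth.Agent.Germs91.nonempty_algEquiv_below (A := A) PB (Groth.Agent.Germs91.cp_clopen h3) h1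
  have hbP : Function.Bijective (algebraMap A
      (Groth.Agent.Germs91.Germ (Groth.Agent.Germs91.pc (Groth.Agent.Germs91.below (A := A) PB)))) := by
    refine ⟨fun a a' hae => hbQ.1 (Groth.Agent.Germs91.ext_ev _ fun t => ?_), fun x => ?_⟩
    · have := congrArg (Groth.Agent.Germs91.ev (Groth.Agent.Germs91.pc
        (Groth.Agent.Germs91.below (A := A) PB)) (hh.symm t)) hae
      rw [AlgHom.commutes, AlgHom.commutes] at this
      rw [AlgHom.commutes, AlgHom.commutes]
      exact this
    · have hy : (fun t => x.1 (hh.symm t)) ∈ Groth.Agent.Germs91.germs (Groth.Agent.Germs91.pc Q) := fun t => by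
        obtain ⟨U, hU, htU, a, g, hag⟩ := x.2 (hh.symm t)
        exact ⟨hh.symm ⁻¹' U, hU.preimage hh.symm.continuous, htU, a, g, fun s hs => hag _ hs⟩
      obtain ⟨a, ha⟩ := hbQ.2 ⟨_, hy⟩
      refine ⟨a, Groth.Agent.Germs91.ext_ev _ fun q => ?_⟩
      obtain ⟨t, rfl⟩ := hh.symm.surjective q
      exact congrFun (congrArg Subtype.val ha) t
  have hfac : algebraMap A (Groth.Agent.Germs91.Germ (Groth.Agent.Germs91.pc PB)) =
      (algebraMap B (Groth.Agent.Germs91.Germ (Groth.Agent.Germs91.pc PB))).comp (algebraMap A B) :=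
    IsScalarTower.algebraMap_eq A B _
  have he : Function.Bijective (algebraMap A (Groth.Agent.Germs91.Germ (Groth.Agent.Germs91.pc PB))) := by
    have : algebraMap A (Groth.Agent.Germs91.Germ (Groth.Agent.Germs91.pc PB)) = e.toRingEquiv.toRingHom.comp
        (algebraMap A _) := RingHom.ext fun a => (e.commutes a).symm
    rw [this]
    exact e.bijective.comp hbP
  rw [hfac, RingHom.coe_comp] at he
  exact (Function.Bijective.of_comp_iff' (Groth.Agent.Germs91.bijective_algebraMap_germ h3) _).1 he

end Groth.Agent.S0699
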