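import Groth.Statements.S0702
import Groth.Agent.Spec91.Basic
import Mathlib.RingTheory.Algebraic.Integral
import Mathlib.RingTheory.IntegralClosure.IntegralRestrict

set_option autoImplicit false
open CategoryTheory CategoryTheory.Limits AlgebraicGeometry Opposite Topology
universe u
open ProEtW

namespace Groth.Agent.S0702

/-- Let Spec A be profinite and A -> B induce algebraic extensions of residue fields at all primes. Then
Spec B is profinite. -/
theorem result (A B : Type u) [CommRing A] [CommRing B]
    [Algebra A B] [T2Space (PrimeSpectrum A)] [TotallyDisconnectedSpace (PrimeSpectrum A)]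
    (h : ProEtW.AlgebraicResidueExtensions A B) :
    ProEtW.IsProfinite (PrimeSpectrum B) := by
  have hmax : ∀ q : PrimeSpectrum B, IsClosed ({q} : Set (PrimeSpectrum B)) := fun q => by
    rw [PrimeSpectrum.isClosed_singleton_iff_isMaximal]
    have hp : (q.asIdeal.comap (algebraMap A B)).IsMaximal :=
      (PrimeSpectrum.isClosed_singleton_iff_isMaximal (PrimeSpectrum.comap (algebraMap A B) q)).1
        isClosed_singleton
    letI := Ideal.Quotient.field (q.asIdeal.comap (algebraMap A B))
    have : Algebra.IsAlgebraic (A ⧸ q.asIdeal.comap (algebraMap A B)) (B ⧸ q.asIdeal) := h q.asIdeal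
    have hint : Algebra.IsIntegral (A ⧸ q.asIdeal.comap (algebraMap A B)) (B ⧸ q.asIdeal) :=
      inferInstance
    exact Ideal.Quotient.maximal_of_isField _
      (isField_of_isIntegral_of_isField' (Field.toIsField (A ⧸ q.asIdeal.comap (algebraMap A B))))
  obtain ⟨h2, htd⟩ := Groth.Agent.Spec91.t2Space_of_forall_isClosed hmax
  exact ⟨inferInstance, h2, htd⟩

end Groth.Agent.S0702
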