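import Groth.Statements.S0704
import Groth.Agent.Spec91.Prod

set_option autoImplicit false
open Topology
universe u
open ProEtW

namespace Groth.Agent.S0704

/-- With X, T, g and the fibre product Y of X and T over pi_0(X) as in the first part, if X is moreover
w-local then Y is w-local, the projection Y -> X is w-local, and the closed points of Y are exactly
the points mapping to closed points of X. -/
theorem result (X T : Type u) [TopologicalSpace X]
    [TopologicalSpace T] [CompactSpace T] [T2Space T] [TotallyDisconnectedSpace T]
    (hX : ProEtW.IsWLocal X) (g : C(T, _root_.ConnectedComponents X)) :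
    ProEtW.IsWLocal {p : X × T // _root_.ConnectedComponents.mk p.1 = g p.2} ∧
      ProEtW.IsWLocalMap (fun y : {p : X × T // _root_.ConnectedComponents.mk p.1 = g p.2} => y.1.1) ∧
      ProEtW.closedPoints {p : X × T // _root_.ConnectedComponents.mk p.1 = g p.2} =
        (fun y : {p : X × T // _root_.ConnectedComponents.mk p.1 = g p.2} => y.1.1) ⁻¹' ProEtW.closedPoints X := by
  obtain ⟨hs, h0, huniq⟩ := hX
  have hcl := Groth.Agent.Spec91.isClosed_singleton_piPullback g
  have heq : ProEtW.closedPoints {p : X × T // _root_.ConnectedComponents.mk p.1 = g p.2} =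
      (fun y : {p : X × T // _root_.ConnectedComponents.mk p.1 = g p.2} => y.1.1) ⁻¹'
        ProEtW.closedPoints X := Set.ext fun y => hcl y
  refine ⟨⟨Groth.Agent.Spec91.spectralSpace_piPullback g, ?_,
    Groth.Agent.Spec91.exists_unique_closed_specialization g huniq⟩,
    ⟨Groth.Agent.Spec91.isSpectralMap_fst_piPullback g, fun y hy => (hcl y).1 hy⟩, heq⟩
  have h0' : IsClosed (ProEtW.closedPoints X) := h0
  exact show IsClosed (ProEtW.closedPoints {p : X × T // _root_.ConnectedComponents.mk p.1 = g p.2})
    from heq ▸ h0'.preimage (continuous_fst.comp continuous_subtype_val)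

end Groth.Agent.S0704
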