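import Groth.Statements.S0706
import Mathlib.RingTheory.Spectrum.Prime.Topology

set_option autoImplicit false
open CategoryTheory CategoryTheory.Limits AlgebraicGeometry Opposite Topology
universe u
open ProEtW

namespace Groth.Agent.S0706

/-- Let f be an element and I an ideal of A, and Z the intersection of D(f) and V(I) in Spec A. There is
a multiplicative subset S of A for which the image of Spec(S^{-1}A) in Spec A consists precisely of
the points having a specialization in Z. -/
theorem result (A : Type u) [CommRing A] (f : A) (I : Ideal A) :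
    ∃ S : Submonoid A,
      Set.range (PrimeSpectrum.comap (algebraMap A (Localization S))) =
        {x | ∃ z : PrimeSpectrum A,
          z ∈ (PrimeSpectrum.basicOpen f : Set (PrimeSpectrum A)) ∩ PrimeSpectrum.zeroLocus I ∧ x ⤳ z} := by
  let Z := {z : PrimeSpectrum A |
    z ∈ (PrimeSpectrum.basicOpen f : Set (PrimeSpectrum A)) ∩ PrimeSpectrum.zeroLocus I}
  let S : Submonoid A :=
    { carrier := {a | ∀ z ∈ Z, a ∉ z.asIdeal}
      one_mem' := fun z _ => z.isPrime.one_notMem
      mul_mem' := fun ha hb z hz => z.isPrime.mul_notMem (ha z hz) (hb z hz) }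
  refine ⟨S, ?_⟩
  rw [PrimeSpectrum.localization_comap_range (Localization S) S]
  ext x
  simp only [Set.mem_ofPred_eq]
  refine ⟨fun hx => ?_, fun ⟨z, hz, hxz⟩ => Set.disjoint_left.2 fun a ha hax =>
    ha z hz ((PrimeSpectrum.le_iff_specializes x z).2 hxz hax)⟩
  by_contra hne
  push Not at hne
  have hrad : f ∈ (x.asIdeal ⊔ I).radical := by
    rw [Ideal.radical_eq_sInf, Submodule.mem_sInf]
    intro J ⟨hJ, hJp⟩
    by_contra hf
    exact hne ⟨J, hJp⟩ ⟨hf, SetLike.coe_subset_coe.2 (le_sup_right.trans hJ)⟩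
      ((PrimeSpectrum.le_iff_specializes x ⟨J, hJp⟩).1 ((le_sup_left (b := I)).trans hJ : x.asIdeal ≤ J))
  obtain ⟨n, hn⟩ := hrad
  obtain ⟨a, ha, i, hi, hai⟩ := Submodule.mem_sup.1 hn
  refine Set.disjoint_left.1 hx (show a ∈ S from fun z hz hz' => hz.1 ?_) ha
  exact z.isPrime.mem_of_pow_mem n (hai ▸ add_mem hz' (hz.2 hi))

end Groth.Agent.S0706
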