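import Groth.Statements.S0707
import Groth.Agent.S0677
import Groth.Agent.Ind91.ZarLoc
import Groth.Agent.S14620

set_option autoImplicit false
open CategoryTheory CategoryTheory.Limits AlgebraicGeometry Opposite Topology
universe u
open ProEtW

namespace Groth.Agent.S0707

/-- Let A be w-contractible, E a finite set of elements of A with zero set Z in Spec A, and B a
localization of A at a multiplicative subset S such that the image of Spec B → Spec A is precisely
the set of points of Spec A specializing to some point of Z. Then B is w-contractible. -/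
theorem result (A B : Type u) [CommRing A] [CommRing B]
    [Algebra A B] (S : Submonoid A) [IsLocalization S B] (E : Finset A)
    (hB : Set.range (PrimeSpectrum.comap (algebraMap A B)) =
      {x | ∃ z : PrimeSpectrum A, z ∈ PrimeSpectrum.zeroLocus (R := A) E ∧ x ⤳ z})
    (hA : EtPBC.IsWContractible A) : EtPBC.IsWContractible B := by
  classical
  obtain ⟨hw, hed, hsh⟩ := (Groth.Agent.S0677.result A).1 hA
  haveI := hw.1
  obtain ⟨_, _, _⟩ := Groth.Agent.Spec91.closedPoints_profinite hw.2.1
  let Z : Set (Groth.Agent.Germs91.CP A) := {t | ∀ e ∈ E, e ∈ t.1.asIdeal}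
  have hZ : IsClopen Z := by
    have : Z = ⋂ e ∈ E, {t : Groth.Agent.Germs91.CP A | e ∉ t.1.asIdeal}ᶜ := by ext t; simp [Z]
    rw [this]
    exact isClopen_biInter_finset fun e _ => (Groth.Agent.Germs91.cp_clopen hw e).compl
  obtain ⟨e0, he0, hin, hout⟩ := Groth.Agent.Germs91.exists_idempotent_of_clopen hw hZ
  have hrange : Set.range (PrimeSpectrum.comap (algebraMap A B)) =
      (PrimeSpectrum.basicOpen e0 : Set (PrimeSpectrum A)) := by
    rw [hB]
    ext x
    constructor
    · rintro ⟨z, hzE, hxz⟩
      obtain ⟨w, hw', hzw⟩ := Groth.Agent.Spec91.exists_closed_specialization z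
      exact (hxz.trans hzw).mem_open (PrimeSpectrum.basicOpen e0).2
        (hin ⟨w, hw'⟩ fun e he => (PrimeSpectrum.le_iff_specializes _ _).2 hzw (hzE he))
    · intro hx
      obtain ⟨w, hw', hxw⟩ := Groth.Agent.Spec91.exists_closed_specialization x
      refine ⟨w, fun e he => ?_, hxw⟩
      by_contra hew
      have h1 : e0 ∈ w.asIdeal := hout ⟨w, hw'⟩ fun h => hew (h e he)
      have h2 : e0 * (1 - e0) ∈ x.asIdeal := by
        rw [mul_sub, mul_one, he0.eq, sub_self]; exact x.asIdeal.zero_mem
      exact w.isPrime.ne_top ((Ideal.eq_top_iff_one _).2 (by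
        simpa using add_mem h1 ((PrimeSpectrum.le_iff_specializes _ _).2 hxw
          ((x.isPrime.mem_or_mem h2).resolve_left hx))))
  have hmemB : ∀ q : PrimeSpectrum B, e0 ∉ (PrimeSpectrum.comap (algebraMap A B) q).asIdeal := fun q => by
    have h : PrimeSpectrum.comap (algebraMap A B) q ∈ (PrimeSpectrum.basicOpen e0 : Set (PrimeSpectrum A)) :=
      hrange ▸ Set.mem_range_self q
    exact h
  have he1 : algebraMap A B e0 = 1 := by
    have hu : IsUnit (algebraMap A B e0) := by
      by_contra h
      obtain ⟨M, hM, heM⟩ := exists_max_ideal_of_mem_nonunits h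
      exact hmemB ⟨M, hM.isPrime⟩ heM
    exact hu.mul_left_cancel (by rw [← map_mul, he0.eq, mul_one])
  have hsurj : Function.Surjective (algebraMap A B) := by
    intro b
    obtain ⟨a, s, rfl⟩ := IsLocalization.exists_mk'_eq S b
    have hrad : e0 ∈ (Ideal.span {(s : A)}).radical := by
      rw [Ideal.radical_eq_sInf, Submodule.mem_sInf]
      rintro J ⟨hJ, hJp⟩
      by_contra hne
      obtain ⟨q, hq⟩ : (⟨J, hJp⟩ : PrimeSpectrum A) ∈ Set.range (PrimeSpectrum.comap (algebraMap A B)) := by
        rw [hrange]; exact hne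
      exact q.isPrime.ne_top (Ideal.eq_top_of_isUnit_mem _
        (show algebraMap A B s ∈ q.asIdeal from
          (congrArg PrimeSpectrum.asIdeal hq).ge (hJ (Ideal.mem_span_singleton_self _)))
        (IsLocalization.map_units B s))
    obtain ⟨n, hn⟩ := hrad
    obtain ⟨c, hc⟩ := Ideal.mem_span_singleton'.1 hn
    refine ⟨a * c, ?_⟩
    rw [IsLocalization.eq_mk'_iff_mul_eq, ← map_mul, mul_assoc, hc, map_mul, map_pow, he1, one_pow, mul_one]
  have hemb := PrimeSpectrum.isClosedEmbedding_comap_of_surjective _ (algebraMap A B) hsurj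
  have hwB := Groth.Agent.Spec91.isWLocal_of_isClosedEmbedding hemb hw
  haveI := hwB.1
  haveI := hed
  haveI : ExtremallyDisconnected (Groth.Agent.Germs91.CP A) := by
    haveI := Groth.Agent.Spec91.t2Space_connectedComponents (X := PrimeSpectrum A)
    exact extremallyDisconnected_of_homeo (Continuous.homeoOfEquivCompactToT2
      (f := Equiv.ofBijective _ (Groth.Agent.Spec91.bijective_closedPoints_components hw.2.1 hw.2.2))
      (ConnectedComponents.continuous_coe.comp continuous_subtype_val)).symm
  obtain ⟨_, _, _⟩ := Groth.Agent.Spec91.closedPoints_profinite hwB.2.1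
  have hcl : ∀ q : PrimeSpectrum B, IsClosed ({q} : Set (PrimeSpectrum B)) ↔
      IsClosed ({PrimeSpectrum.comap (algebraMap A B) q} : Set (PrimeSpectrum A)) := fun q => by
    rw [hemb.isClosed_iff_image_isClosed, Set.image_singleton]
  let f : Groth.Agent.Germs91.CP B → Z := fun q =>
    ⟨⟨PrimeSpectrum.comap (algebraMap A B) q.1, (hcl q.1).1 q.2⟩, by
      by_contra h
      exact hmemB q.1 (hout _ h)⟩
  have hfb : Function.Bijective f := by
    refine ⟨fun q q' h => Subtype.ext (hemb.injective (congrArg (fun z : Z => z.1.1) h)), fun z => ?_⟩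
    obtain ⟨q, hq⟩ : z.1.1 ∈ Set.range (PrimeSpectrum.comap (algebraMap A B)) := by
      rw [hrange]; exact hin z.1 z.2
    exact ⟨⟨q, (hcl q).2 (by rw [hq]; exact z.1.2)⟩, Subtype.ext (Subtype.ext hq)⟩
  haveI : ExtremallyDisconnected Z := ⟨fun U hU => by
    rw [hZ.2.isOpenEmbedding_subtypeVal.isInducing.closure_eq_preimage_closure_image]
    exact (ExtremallyDisconnected.open_closure _
      (hZ.2.isOpenMap_subtype_val U hU)).preimage continuous_subtype_val⟩
  haveI : ExtremallyDisconnected (Groth.Agent.Germs91.CP B) := extremallyDisconnected_of_homeo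
    (Continuous.homeoOfEquivCompactToT2 (f := Equiv.ofBijective f hfb)
      ((((PrimeSpectrum.continuous_comap _).comp continuous_subtype_val).subtype_mk _).subtype_mk _)).symm
  haveI := Groth.Agent.Spec91.t2Space_connectedComponents (X := PrimeSpectrum B)
  refine (Groth.Agent.S0677.result B).2 ⟨hwB, extremallyDisconnected_of_homeo
    (Continuous.homeoOfEquivCompactToT2
      (f := Equiv.ofBijective _ (Groth.Agent.Spec91.bijective_closedPoints_components hwB.2.1 hwB.2.2))
      (ConnectedComponents.continuous_coe.comp continuous_subtype_val)), fun M hM => ?_⟩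
  haveI : (M.comap (algebraMap A B)).IsMaximal := Ideal.comap_isMaximal_of_surjective _ hsurj
  let e := RingEquiv.ofBijective _
    (Groth.Agent.Ind91.identifiesLocalRings_of_isIndZariski
      (Groth.Agent.Ind91.isIndZariski_of_isLocalization A B S) ⟨M, hM.isPrime⟩)
  haveI : IsLocalHom e.toRingHom := IsLocalHom.mk fun x hx => (MulEquiv.isUnit_map e.toMulEquiv).1 hx
  exact Groth.Agent.S14620.result e.toRingHom (RingHom.Finite.of_surjective _ e.surjective)
    (hsh (M.comap (algebraMap A B)))

end Groth.Agent.S0707
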