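import Groth.Statements.S0708
import Groth.Agent.Ind91.Loc
import Groth.Agent.S0676
import Mathlib.RingTheory.Localization.Ideal

set_option autoImplicit false
open CategoryTheory CategoryTheory.Limits AlgebraicGeometry Opposite Topology
universe u
open ProEtW
open scoped TensorProduct

namespace Groth.Agent.S0708

/-- Let A be a ring all of whose faithfully flat etale algebras have retractions, I an ideal with zero
set Z, and B a localization of A at a multiplicative subset such that the image of Spec B → Spec A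
is precisely the set of points of Spec A specializing to some point of Z. Then every faithfully flat
etale B-algebra has a retraction. -/
theorem result (A B : Type u) [CommRing A] [CommRing B]
    [Algebra A B] (S : Submonoid A) [IsLocalization S B] (I : Ideal A)
    (hB : Set.range (PrimeSpectrum.comap (algebraMap A B)) =
      {x | ∃ z : PrimeSpectrum A, z ∈ PrimeSpectrum.zeroLocus (R := A) I ∧ x ⤳ z})
    (hA : ProEtW.HasEtaleRetractions A) : ProEtW.HasEtaleRetractions B := by
  intro B' _ _ hff het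
  have hz : ∀ z ∈ PrimeSpectrum.zeroLocus (R := A) I,
      z ∈ Set.range (PrimeSpectrum.comap (algebraMap A B)) :=
    fun z hz => by rw [hB]; exact ⟨z, hz, specializes_refl z⟩
  have hSI : ∀ s : S, IsUnit (Algebra.ofId A (A ⧸ I) s) := fun ⟨s, hs⟩ => by
    by_contra hn
    obtain ⟨M, hM, hsM⟩ := exists_max_ideal_of_mem_nonunits hn
    obtain ⟨M', hM'⟩ := hz ⟨M.comap (Ideal.Quotient.mk I), hM.isPrime.comap _⟩ (fun a ha => by
      show Ideal.Quotient.mk I a ∈ M
      rw [Ideal.Quotient.eq_zero_iff_mem.2 ha]; exact M.zero_mem)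
    exact M'.isPrime.ne_top (Ideal.eq_top_of_isUnit_mem _
      (show algebraMap A B s ∈ M'.asIdeal by
        rw [← Ideal.mem_comap, ← PrimeSpectrum.comap_asIdeal, hM']; exact hsM)
      (IsLocalization.map_units B (⟨s, hs⟩ : S)))
  let σ : B →ₐ[A] A ⧸ I := IsLocalization.liftAlgHom hSI
  have hjac : ∀ b : B, σ b = 0 → b ∈ (⊥ : Ideal B).jacobson := by
    intro b hb
    obtain ⟨a, s, rfl⟩ := IsLocalization.exists_mk'_eq S b
    have ha : a ∈ I := by
      rw [← Ideal.Quotient.eq_zero_iff_mem, ← Ideal.Quotient.algebraMap_eq, ← σ.commutes,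
        ← IsLocalization.mk'_spec B a s, map_mul, hb, zero_mul]
    refine Submodule.mem_sInf.2 fun M ⟨_, hM⟩ => ?_
    obtain ⟨z, hzI, hxz⟩ : PrimeSpectrum.comap (algebraMap A B) ⟨M, hM.isPrime⟩ ∈
        {x | ∃ z : PrimeSpectrum A, z ∈ PrimeSpectrum.zeroLocus (R := A) I ∧ x ⤳ z} := by
      rw [← hB]; exact Set.mem_range_self _
    obtain ⟨M', rfl⟩ := hz z hzI
    have hle : M ≤ M'.asIdeal := by
      rw [← IsLocalization.map_comap S B M, Ideal.map_le_iff_le_comap]
      exact (PrimeSpectrum.le_iff_specializes _ _).2 hxz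
    rw [hM.eq_of_le M'.isPrime.ne_top hle, IsLocalization.mk'_eq_mul_mk'_one]
    exact Ideal.mul_mem_right _ _ (hzI ha)
  -- a section modulo `I`
  let : Algebra B (A ⧸ I) := σ.toRingHom.toAlgebra
  obtain ⟨τ⟩ := Groth.Agent.S0676.result A hA I ((A ⧸ I) ⊗[B] B') inferInstance inferInstance
  let : Algebra A B' := ((algebraMap B B').comp (algebraMap A B)).toAlgebra
  have : IsScalarTower A B B' := IsScalarTower.of_algebraMap_eq' rfl
  let τ₀ : B' →+* A ⧸ I :=
    τ.toRingHom.comp (Algebra.TensorProduct.includeRight : B' →ₐ[B] (A ⧸ I) ⊗[B] B').toRingHom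
  have hτ₀ : ∀ b, τ₀ (algebraMap B B' b) = σ b := fun b => by
    show τ (Algebra.TensorProduct.includeRight (R := B) (A := A ⧸ I) (algebraMap B B' b)) = σ b
    rw [AlgHom.commutes, Algebra.TensorProduct.algebraMap_apply]
    exact (τ.commutes _).trans rfl
  let τ' : B' →ₐ[A] A ⧸ I := { τ₀ with commutes' := fun a => (hτ₀ _).trans (σ.commutes a) }
  -- descend to an etale algebra over `A`
  obtain ⟨A₀, B₀, _, _, hfg, _, ⟨ε⟩⟩ := Algebra.Etale.exists_subalgebra_fg ℤ B B'
  obtain ⟨W₁, _, _, _, _, _, _, _⟩ := Groth.Agent.Ind91.exists_etale_through_subring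
    (Groth.Agent.Ind91.isIndEtale_of_isLocalization A B S) A₀ hfg
  have : Algebra.Etale A (W₁ ⊗[A₀] B₀) := Algebra.Etale.comp A W₁ (W₁ ⊗[A₀] B₀)
  let j : W₁ ⊗[A₀] B₀ →ₐ[A] B' := (ε.symm.toAlgHom.restrictScalars A).comp
    ((Algebra.TensorProduct.map (Algebra.ofId W₁ B) (AlgHom.id A₀ B₀)).restrictScalars A)
  have hj : ∀ w : W₁, j (w ⊗ₜ 1) = algebraMap B B' (algebraMap W₁ B w) := fun w => by
    show ε.symm (algebraMap W₁ B w ⊗ₜ[A₀] (1 : B₀)) = _
    exact ε.symm.commutes (algebraMap W₁ B w)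
  obtain ⟨c, hc, hcuniq⟩ := Groth.Agent.Ind91.exists_isolating_element I (τ'.comp j)
  let W := Localization.Away c
  have hcu : ∀ y : Submonoid.powers c, IsUnit ((τ'.comp j) y) := fun ⟨_, k, hk⟩ => by
    subst hk
    simp [map_pow, show τ' (j c) = 1 from hc]
  let ψ : W →ₐ[A] A ⧸ I := IsLocalization.liftAlgHom hcu
  obtain ⟨t, ht, hff', het'⟩ := Groth.Agent.Ind91.exists_cover A I W (fun p hp => by
    have hp' : p ∈ Set.range (PrimeSpectrum.comap (algebraMap A (A ⧸ I))) := by
      rw [Ideal.Quotient.algebraMap_eq, range_comap_of_surjective _ _ Ideal.Quotient.mk_surjective,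
        Ideal.mk_ker]
      exact hp
    obtain ⟨p', rfl⟩ := hp'
    exact ⟨PrimeSpectrum.comap ψ.toRingHom p', by
      rw [← PrimeSpectrum.comap_comp_apply, AlgHom.toRingHom_eq_coe, AlgHom.comp_algebraMap]⟩)
  obtain ⟨r⟩ := hA _ hff' het'
  obtain ⟨ρ, hρ⟩ := Groth.Agent.Ind91.exists_retraction_mod A I W t ht r
  let toW : W₁ ⊗[A₀] B₀ →ₐ[A] W := IsScalarTower.toAlgHom A _ W
  have hρ' : ρ.comp toW = τ'.comp j :=
    hcuniq _ ((IsLocalization.Away.algebraMap_isUnit c).map ρ)
  let g := (Algebra.ofId A B).comp r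
  have hg : ∀ x y, σ (g (x, y)) = ρ x := fun x y => by
    show σ (algebraMap A B (r (x, y))) = ρ x
    rw [σ.commutes, ← hρ x y]; rfl
  have h1 : g (1, 0) = 1 := by
    have hu : IsUnit (g (1, 0)) := Ideal.isUnit_of_sub_one_mem_jacobson_bot _
      (hjac _ (by rw [map_sub, hg, map_one, map_one, sub_self]))
    exact hu.mul_left_cancel (b := g (1, 0)) (c := 1) (by rw [← map_mul]; simp)
  let g₀ : W →ₐ[A] B := AlgHom.ofLinearMap (g.toLinearMap.comp (LinearMap.inl A W _)) h1
    fun x y => by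
      show g (x * y, 0) = g (x, 0) * g (y, 0)
      rw [← map_mul]; simp
  let v := g₀.comp toW
  have hv : ∀ x, σ (v x) = τ' (j x) := fun x => by
    show σ (g (toW x, 0)) = _
    rw [hg]; exact AlgHom.congr_fun hρ' x
  have heq : v.comp Algebra.TensorProduct.includeLeft = IsScalarTower.toAlgHom A W₁ B :=
    Groth.Agent.Ind91.ext_of_jacobson _ _ fun w => hjac _ (by
      rw [map_sub, AlgHom.comp_apply, hv]
      show τ' (j (w ⊗ₜ 1)) - σ (algebraMap W₁ B w) = 0
      rw [hj]; exact sub_eq_zero.2 (hτ₀ _))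
  let d : B₀ →ₐ[A₀] B :=
    { v.toRingHom.comp (Algebra.TensorProduct.includeRight :
          B₀ →ₐ[A₀] W₁ ⊗[A₀] B₀).toRingHom with
      commutes' := fun a => by
        show v (Algebra.TensorProduct.includeRight (R := A₀) (A := W₁) (algebraMap A₀ B₀ a)) = _
        rw [AlgHom.commutes, Algebra.TensorProduct.algebraMap_apply]
        refine (AlgHom.congr_fun heq (algebraMap A₀ W₁ a)).trans ?_
        exact (IsScalarTower.algebraMap_apply A₀ W₁ B a).symm }
  exact ⟨(Algebra.TensorProduct.lift (Algebra.ofId B B) d fun _ _ => Commute.all _ _).comp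
    ε.toAlgHom⟩

end Groth.Agent.S0708
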