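import Groth.Statements.S0713
import Groth.Agent.ProEt91.Cover

set_option autoImplicit false
open CategoryTheory CategoryTheory.Limits AlgebraicGeometry Opposite
universe u
open ProEtS

namespace Groth.Agent.S0713

/-- Every object U of the small pro-étale site X_proét of a scheme X admits a covering {V → U} by a
single weakly contractible object V. -/
theorem result {X : Scheme.{u}} (U : X.ProEt) :
    ∃ (V : X.ProEt) (g : V ⟶ U),
      Sieve.generate (Presieve.singleton g) ∈ Scheme.ProEt.topology X U ∧ ProEtS.IsWC V := by
  obtain ⟨V, g, hg, -, hwc⟩ := Groth.Agent.ProEt91.exists_single U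
    (fun i : U.left.affineOpens => i.1) (fun i => i.2) fun x => by
      obtain ⟨_, ⟨W, hW, rfl⟩, hx, -⟩ :=
        U.left.isBasis_affineOpens.exists_subset_of_mem_open (a := x) (Set.mem_univ x) isOpen_univ
      exact ⟨⟨W, hW⟩, hx⟩
  exact ⟨V, g, hg, hwc⟩

end Groth.Agent.S0713
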