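import Groth.Statements.S0745
import Groth.Agent.Mod48.FppfVanish
import Groth.Agent.Mod48.FppfFiniteBC

set_option autoImplicit false
open CategoryTheory CategoryTheory.Limits AlgebraicGeometry Opposite
universe u
open EtFppf

namespace Groth.Agent.S0745

/-- For a finite morphism f : X -> Y and an abelian sheaf F on X_et, for every i the sheaves a_Y^{-1}
(R^i f_{small,*} F) and R^i f_{big,fppf,*} (a_X^{-1} F) are isomorphic (existence; continuity
binders assumed). -/
theorem result {X Y : Scheme.{u}} (f : X ⟶ Y) [IsFinite f] [EtFppf.ACont X]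
    [EtFppf.ACont Y] (F : EtCoh.Ab X) (i : ℕ) :
    Nonempty ((EtFppf.aPull Y).obj ((EtCoh.Rpush f i).obj F) ≅
      (EtFppf.RpushBig f i).obj ((EtFppf.aPull X).obj F)) := by
  cases i with
  | zero =>
    have := (EtCoh.pullPushAdj f).rightAdjoint_preservesLimits
    have : PreservesFiniteLimits (EtFppf.pushBig f) :=
      haveI : PreservesLimitsOfSize.{0, 0} (EtFppf.pushBig f) :=
        (Mod48.fResAdj f).rightAdjoint_preservesLimits
      PreservesLimitsOfSize.preservesFiniteLimits _
    have := Mod48.isIso_bcMapF f F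
    exact ⟨(EtFppf.aPull Y).mapIso ((EtCoh.push f).rightDerivedZeroIsoSelf.app F) ≪≫
      asIso (Mod48.bcMapF f F) ≪≫ ((EtFppf.pushBig f).rightDerivedZeroIsoSelf.app _).symm⟩
  | succ n =>
    have := (EtFppf.aAdj Y).left_adjoint_additive
    refine ⟨((EtFppf.aPull Y).map_isZero (Unr55.EtSh.isZero_Rpush_of_finite f F (n + 1) (by omega))).iso
      (Mod48.isZero_rightDerived_of_kill (Over.pullback f) _ n fun V ξ => ?_)⟩
    refine ⟨{ arrows := fun W g => Mod48.resX ((Over.pullback f).map g) ξ = 0
              downward_closed := fun {W W' g} hg k => by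
                rw [Functor.map_comp, Mod48.resX_comp, hg]; exact Mod48.resX_zero _ },
      Mod48.mem_J_of_etale _ fun x => ?_, fun W g hg => hg⟩
    obtain ⟨W₀, g, w, hg, hw, hz⟩ :=
      Mod48.exists_psi_eq_zero f ξ (Mod48.acy_aPull (n + 1) X F (n + 1) (by omega) le_rfl _ ξ) x
    exact ⟨W₀, g, w, hz, hg, hw⟩

end Groth.Agent.S0745
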