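import Groth.Statements.S0757
import Groth.Agent.ProEt91.WC

set_option autoImplicit false
open CategoryTheory CategoryTheory.Limits AlgebraicGeometry Opposite
universe u
open ProEtS

namespace Groth.Agent.S0757

/-- For an affine object U of the small pro-etale site of X: the ring of functions of U is
w-contractible if and only if every covering sieve of U contains the inclusions of the pieces of
some finite decomposition of U into pairwise disjoint open and closed subschemes. -/
theorem result {X : Scheme.{u}} (U : X.ProEt)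
    [IsAffine U.left] :
    EtPBC.IsWContractible ↥(Γ(U.left, ⊤)) ↔
      ∀ R ∈ Scheme.ProEt.topology X U, ∃ (n : ℕ) (W : Fin n → U.left.Opens),
        (∀ k, IsClopen ((W k : Set ↥U.left))) ∧
        Pairwise (fun k l => Disjoint (W k : Set ↥U.left) (W l)) ∧ (⋃ k, (W k : Set ↥U.left)) = Set.univ ∧
        ∀ k, R.arrows (MorphismProperty.Over.homMk (W k).ι : Scheme.ProEt.mk ((W k).ι ≫ U.hom) ⟶ U) := by
  constructor
  · intro h R hR
    obtain ⟨n, W, hW, hk⟩ := Groth.Agent.ProEt91.exists_decomp U h hR
    refine ⟨n, fun k => W ⟨k⟩, fun k => ⟨?_, (W ⟨k⟩).2⟩,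
      fun k l hkl => hW.disj (fun e => hkl (congrArg ULift.down e)), ?_, fun k => hk ⟨k⟩⟩
    · rw [← isOpen_compl_iff]
      have : ((W ⟨k⟩ : Set ↥U.left))ᶜ = ⋃ l : {l : Fin n // l ≠ k}, (W ⟨l.1⟩ : Set ↥U.left) := by
        ext x
        simp only [Set.mem_compl_iff, Set.mem_iUnion]
        refine ⟨fun hx => ?_, fun ⟨l, hl⟩ hx =>
          Set.disjoint_left.1 (hW.disj (fun e => l.2 (congrArg ULift.down e))) hl hx⟩
        obtain ⟨⟨l⟩, hl⟩ := hW.cover x
        exact ⟨⟨l, fun e => hx (e ▸ hl)⟩, hl⟩
      rw [this]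
      exact isOpen_iUnion fun l => (W ⟨l.1⟩).2
    · refine Set.eq_univ_of_forall fun x => ?_
      obtain ⟨⟨l⟩, hl⟩ := hW.cover x
      exact Set.mem_iUnion.2 ⟨l, hl⟩
  · intro h
    refine Groth.Agent.ProEt91.isWContractible_of_sections U fun {V} f _ _ => ?_
    obtain ⟨n, W, -, hdisj, hcov, hk⟩ := h _ (Groth.Agent.ProEt91.singleton_mem f)
    have hW : Groth.Agent.ProEt91.Decomp U (fun k : ULift.{u} (Fin n) => W k.down) :=
      ⟨fun k l hkl => hdisj (fun e => hkl (ULift.ext _ _ e)), fun x => by
        obtain ⟨k, hk⟩ := Set.mem_iUnion.1 (hcov.ge (Set.mem_univ x))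
        exact ⟨⟨k⟩, hk⟩⟩
    choose Z a g hg hfac using hk
    have hsec : ∀ k : ULift.{u} (Fin n), ∃ b : Groth.Agent.ProEt91.openObj U (W k.down) ⟶ V,
        b ≫ f = Groth.Agent.ProEt91.openHom U (W k.down) := by
      intro k
      have h1 := hfac k.down
      cases hg k.down
      exact ⟨a k.down, h1⟩
    choose b hb using hsec
    obtain ⟨s, hs⟩ := Groth.Agent.ProEt91.exists_glueHom hW fun k => (b k).left
    have hcomp : s ≫ f.left = 𝟙 U.left := by
      obtain ⟨t, ht⟩ := Groth.Agent.ProEt91.exists_glueHom hW fun k => (W k.down).ι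
      refine Scheme.Cover.hom_ext (Scheme.openCoverOfIsOpenCover U.left (fun k : ULift.{u} (Fin n) => W k.down)
        (by
          rw [TopologicalSpace.IsOpenCover, eq_top_iff]
          intro x _
          exact TopologicalSpace.Opens.mem_iSup.2 (hW.cover x))) _ _ fun k => ?_
      show (W k.down).ι ≫ s ≫ f.left = (W k.down).ι ≫ 𝟙 U.left
      rw [← Category.assoc, hs k, Category.comp_id]
      exact congrArg CommaMorphism.left (congrArg MorphismProperty.Comma.Hom.toCommaMorphism (hb k))
    refine ⟨MorphismProperty.Over.homMk s ?_, MorphismProperty.Over.Hom.ext hcomp⟩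
    show s ≫ V.hom = U.hom
    rw [← MorphismProperty.Over.w f, ← Category.assoc, hcomp]
    exact Category.id_comp _

end Groth.Agent.S0757
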