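import Groth.Statements.S0765
import Groth.Agent.DerTele91.ProEt
import Groth.Agent.DerTele91.Derived


set_option autoImplicit false
open CategoryTheory CategoryTheory.Limits AlgebraicGeometry Opposite
universe u
attribute [local instance] HasDerivedCategory.standard
open ProEtDC

namespace Groth.Agent.S0765

/-- For a Noetherian ring L (value universe) and an ideal I, an object K of the derived category of
sheaves of L-modules on X_proet is derived complete if and only if every cohomology sheaf H^p(K) is
derived complete. -/
theorem result (X : Scheme.{u}) (Λ : Type (u + 1)) [CommRing Λ]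
    [IsNoetherianRing Λ] (I : Ideal Λ) (K : ProEtDC.DP Λ X) :
    ProEtDC.IsDC Λ I K ↔ ∀ p : ℤ, ProEtDC.IsDCSheaf Λ I (ProEtDC.HDP K p) := by
  refine ⟨fun h p => (DerTele91.isDCSheaf_iff I _).2 fun f hf =>
      DerTele91.isTele_of_gen (DerTele91.gen Λ) (DerTele91.hgen Λ) fun i => ?_,
    fun h U f hf n => ?_⟩
  · have := DerTele91.projective_cExt Λ i.2
    exact DerTele91.tBij_of_vanish (fun m => (DerTele91.cExt Λ i.1).map (DerTele91.ell f m))
      (fun m => by rw [← DerTele91.cExt_map_smul, DerTele91.ell_succ]) (DerTele91.huniv_locExt i.1 f)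
      (h i.1 f hf) p
  · obtain ⟨g, hg⟩ := DerTele91.smul_cExt_inv U f
    exact DerTele91.subsingleton_of_isTele (fun p => (DerTele91.isDCSheaf_iff I _).1 (h p) f hf) g hg n

end Groth.Agent.S0765
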