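import Groth.Statements.S0777
import Groth.Agent.DerTele91.TopConst


set_option autoImplicit false
open CategoryTheory CategoryTheory.Limits AlgebraicGeometry Opposite
universe u
open ProEtDC

namespace Groth.Agent.S0777

/-- Let X be an affine scheme whose ring of functions is w-contractible (a weakly contractible affine),
L a Noetherian ring (value universe), I an ideal generated by a_1, ..., a_r, and F a sheaf of
L-modules on X_proet which is derived complete with respect to I and such that F/IF (the cokernel of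
F^r -> F, (s_k) |-> sum a_k s_k) is a locally constant sheaf of finite presentation. Then for some t
there is an epimorphism (L^)^t -> F from a finite direct sum of copies of the completed constant
sheaf. -/
theorem result (X : Scheme.{u}) [IsAffine X]
    (hX : EtPBC.IsWContractible ↥(Γ(X, ⊤))) (Λ : Type (u + 1)) [CommRing Λ] [IsNoetherianRing Λ]
    {r : ℕ} (a : Fin r → Λ) (F : EtModW.ModP Λ X)
    (hF : ProEtDC.IsDCSheaf Λ (Ideal.span (Set.range a)) F)
    (hq : EtModW.IsFPLocConstP Λ (cokernel (ProEtDC.gensMap Λ a F))) :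
    ∃ (t : ℕ) (φ : (⨁ fun _ : Fin t => ProEtDC.lambdaHat Λ X (Ideal.span (Set.range a))) ⟶ F), Epi φ := by
  classical
  let _ := HasDerivedCategory.standard (EtModW.ModP Λ X)
  let T := ProEtS.topP X
  let I : Ideal Λ := Ideal.span (Set.range a)
  have hI : I = Ideal.span {x | x ∈ List.ofFn a} := by
    refine congrArg Ideal.span (Set.ext fun x => ?_)
    exact (List.mem_ofFn).symm
  let π := cokernel.π (ProEtDC.gensMap Λ a F)
  obtain ⟨t, s, hs⟩ := DerTele91.exists_generators hX (cokernel (ProEtDC.gensMap Λ a F)) hq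
  have : IsAffine T.left := ‹IsAffine X›
  have hTwc : ProEtS.IsWC T := ProEt91.isWC_of_refines (ProEt91.refines_of_isWContractible T hX)
  have := DerTele91.projective_cExt Λ hTwc
  have hlift : ∀ q, ∃ x : F.obj.obj (op T), (π.hom.app (op T)).hom x = q := fun q => by
    refine ⟨DerTele91.elemE Λ T F (Projective.factorThru ((DerTele91.elemE Λ T _).symm q) π), ?_⟩
    rw [← DerTele91.elemE_naturality, Projective.factorThru_comp, LinearEquiv.apply_symm_apply]
  choose x hx using fun j => hlift (s j)
  let φ : Fin t → ((DerTele91.cE Λ X).obj (ModuleCat.of Λ Λ) ⟶ F) := fun j =>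
    (DerTele91.topE Λ _ F).symm (ModuleCat.ofHom (LinearMap.toSpanSingleton Λ _ (x j)))
  have hT : ∀ b ∈ List.ofFn a, DerTele91.IsTele b F := fun b hb =>
    (DerTele91.isDCSheaf_iff I F).1 hF b (Ideal.subset_span (List.mem_ofFn.1 hb))
  choose ψ hψ using fun j =>
    DerTele91.exists_extension (DerTele91.cE Λ X) (List.ofFn a) I hI hT (φ j)
  let Ψ : (⨁ fun _ : Fin t => ProEtDC.lambdaHat Λ X I) ⟶ F := biproduct.desc fun j => ψ j
  refine ⟨t, Ψ, ?_⟩
  have hsum : ProEtDC.IsDCSheaf Λ I (⨁ fun _ : Fin t => ProEtDC.lambdaHat Λ X I) :=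
    (DerTele91.isDCSheaf_iff I _).2 fun f hf => DerTele91.isTele_of_isLimit (biproduct.isLimit _)
      fun _ => (DerTele91.isDCSheaf_iff I _).1 (S0776.result X Λ I) f hf
  have hC : ProEtDC.IsDCSheaf Λ I (cokernel Ψ) := ((S0763.result X Λ I).1 _ _ Ψ hsum hF).2
  have hz : IsZero (cokernel Ψ) := S0766.result X Λ a _ hC (Preadditive.epi_of_cancel_zero _ fun {Z} h hh => by
    have hcomm : ∀ k, ProEtDC.smulHom Λ F (a k) ≫ cokernel.π Ψ ≫ h = 0 := fun k => by
      have e1 : ProEtDC.smulHom Λ (cokernel Ψ) (a k) ≫ h = 0 := by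
        simpa using (congrArg (biproduct.ι (fun _ : Fin r => cokernel Ψ) k ≫ ·) hh)
      rw [show ProEtDC.smulHom Λ F (a k) = a k • 𝟙 F from rfl, Linear.smul_comp, Category.id_comp,
        ← Linear.comp_smul]
      rw [show ProEtDC.smulHom Λ (cokernel Ψ) (a k) = a k • 𝟙 _ from rfl, Linear.smul_comp,
        Category.id_comp] at e1
      rw [e1, comp_zero]
    have hg : ProEtDC.gensMap Λ a F ≫ cokernel.π Ψ ≫ h = 0 := biproduct.hom_ext' _ _ fun k => by
      rw [biproduct.ι_desc_assoc, comp_zero, hcomm]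
    have hd : cokernel.desc _ _ hg = 0 := hs Z _ fun j => by
      rw [← hx j]
      have h0 : φ j ≫ cokernel.π Ψ ≫ h = 0 := by
        have e2 : ψ j ≫ cokernel.π Ψ = 0 :=
          (congrArg (· ≫ cokernel.π Ψ) (biproduct.ι_desc (fun j => ψ j) j)).symm.trans
            ((Category.assoc _ _ _).trans ((congrArg (_ ≫ ·) (cokernel.condition Ψ)).trans comp_zero))
        rw [← hψ j, Category.assoc]
        refine (congrArg (_ ≫ ·) ((reassoc_of% e2) h)).trans ?_
        simp
      have h1 := congrArg (DerTele91.topE Λ _ Z) h0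
      rw [DerTele91.topE_comp, map_zero, LinearEquiv.apply_symm_apply] at h1
      have h2 := congr($h1 (1 : Λ))
      change ((cokernel.π Ψ ≫ h).hom.app (op T)).hom ((1 : Λ) • x j) = 0 at h2
      rw [one_smul, ← cokernel.π_desc _ _ hg] at h2
      exact h2
    rw [← cancel_epi (cokernel.π Ψ), comp_zero, ← cokernel.π_desc _ _ hg, hd, comp_zero])
  exact Preadditive.epi_of_isZero_cokernel Ψ hz

end Groth.Agent.S0777
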