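import Groth.Statements.S0778
import Groth.Agent.Germs91.WContract
import Groth.Agent.S0678
import Groth.Agent.S0675

set_option autoImplicit false
open CategoryTheory CategoryTheory.Limits AlgebraicGeometry Opposite Topology
universe u
open ProEtW

namespace Groth.Agent.S0778

/-- A ring A is w-contractible (retractions for faithfully flat weakly etale algebras) if and only if
every faithfully flat ind-etale A-algebra has an A-algebra retraction. -/
theorem result (A : Type u) [CommRing A] :
    EtPBC.IsWContractible A ↔ ProEtW.HasIndEtaleRetractions A := by
  constructor
  · exact Groth.Agent.Germs91.hasIndEtaleRetractions_of_isWContractible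
  · intro h
    have hZ : ProEtW.HasIndZariskiRetractions A := fun B _ _ hff hB =>
      h B hff (Groth.Agent.Ind91.isIndEtale_of_isIndZariski hB)
    have hE : ProEtW.HasEtaleRetractions A := fun B _ _ hff hB =>
      h B hff (Groth.Agent.Ind91.isIndEtale_of_etale A B)
    obtain ⟨hw, hed⟩ := (Groth.Agent.S0678.result A).1 hZ
    haveI := hed
    exact Groth.Agent.Germs91.isWContractible_of_strictlyHenselian hw
      fun m _ => Groth.Agent.S0675.result A hE m

end Groth.Agent.S0778
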