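import Groth.Statements.S0787
import Groth.Agent.Coh69.ProperOver

set_option autoImplicit false
universe u
open Coherent

namespace Groth.Agent.S0787

open CategoryTheory AlgebraicGeometry in
/-- Let f : X → S be locally of finite type and Z ⊆ X a closed subset. Then Z with its reduced induced
structure is proper over S if and only if some closed subscheme of X with underlying set Z is proper
over S, if and only if every closed subscheme of X with underlying set Z is proper over S. -/
theorem result {X S : Scheme.{u}} (f : X ⟶ S) [LocallyOfFiniteType f]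
    (Z : Set X) (hZ : IsClosed Z) :
    (ClSub.IsProperOver f Z ↔ ∃ (T : Scheme.{u}) (i : T ⟶ X), IsClosedImmersion i ∧
        Set.range ⇑i = Z ∧ IsProper (i ≫ f)) ∧
    (ClSub.IsProperOver f Z ↔ ∀ (T : Scheme.{u}) (i : T ⟶ X), IsClosedImmersion i →
        Set.range ⇑i = Z → IsProper (i ≫ f)) := by
  refine ⟨⟨fun h => ?_, fun ⟨T, i, hi, hr, hp⟩ => (Groth.Agent.Coh69.PO.iff_of_range i hr).mpr hp⟩,
    ⟨fun h T i hi hr => (Groth.Agent.Coh69.PO.iff_of_range i hr).mp h, fun h => ⟨hZ, ?_⟩⟩⟩
  · obtain ⟨R, i, hi, -, hr, hp⟩ := Groth.Agent.Coh69.PO.exists_model h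
    exact ⟨R, i, hi, hr, hp⟩
  · exact h _ _ inferInstance (Groth.Agent.SchBasics.range_vanishingIdeal_subschemeι _)

end Groth.Agent.S0787
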