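import Groth.Statements.S0800
import Groth.Agent.SiteCoh.RpushColim
import Groth.Agent.Coh69.ColimCohRel

set_option autoImplicit false
set_option backward.isDefEq.respectTransparency.types false
universe u
open Coherent

namespace Groth.Agent.S0800

open CategoryTheory CategoryTheory.Limits AlgebraicGeometry in
/-- Let f : X → S be quasi-compact and quasi-separated. Then for every p the higher direct image functor
R^p f_* on abelian sheaves (on the underlying spaces) preserves filtered colimits. -/
theorem result {X S : Scheme.{u}} (f : X ⟶ S) [QuasiCompact f]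
    [QuasiSeparated f] (p : ℕ) (J : Type u) [SmallCategory J] [IsFiltered J] :
    PreservesColimitsOfShape J (Coh.RpushAb f p) := by
  haveI : (TopologicalSpace.Opens.map f.base).IsContinuous (Opens.grothendieckTopology S)
      (Opens.grothendieckTopology X) := inferInstance
  refine ⟨fun {F} => ?_⟩
  haveI : PrespectralSpace X.toTopCat := PrespectralSpace.of_isTopologicalBasis
    X.isBasis_affineOpens (by rintro _ ⟨U, hU, rfl⟩; exact hU.isCompact)
  have := Groth.Agent.SiteCoh.rpush_preservesColimit (J := Opens.grothendieckTopology X)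
    (K := Opens.grothendieckTopology S) (TopologicalSpace.Opens.map f.base) F p fun V => by
      refine ⟨{W : S.affineOpens // W.1 ≤ V}, fun W => W.1.1, fun W => homOfLE W.2, ?_, fun W => ?_⟩
      · intro x hx
        obtain ⟨W, hW, hxW, hWV⟩ := exists_isAffineOpen_mem_and_subset hx
        exact ⟨W, homOfLE hWV, Sieve.ofArrows_mk (fun W : {W : S.affineOpens // W.1 ≤ V} => W.1.1)
          (fun W => homOfLE W.2) ⟨⟨W, hW⟩, hWV⟩, hxW⟩
      · haveI : QuasiSeparatedSpace (W.1.1 : S.Opens) := by
          haveI : IsAffine (W.1.1 : S.Opens) := W.1.2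
          infer_instance
        haveI : QuasiSeparatedSpace (f ⁻¹ᵁ W.1.1 : X.Opens) :=
          quasiSeparatedSpace_of_quasiSeparated (f ∣_ W.1.1)
        have hqs : IsQuasiSeparated ((f ⁻¹ᵁ W.1.1 : X.Opens) : Set X) :=
          (isQuasiSeparated_iff_quasiSeparatedSpace _ (f ⁻¹ᵁ W.1.1).isOpen).mpr ‹_›
        have hcol := Groth.Agent.Coh69.ColimRel.colim_HU (I := J) (X := X.toTopCat) (f ⁻¹ᵁ W.1.1)
          (fun A B hA hB => ⟨hqs A.carrier B.carrier hA.2 A.isOpen hA.1 hB.2 B.isOpen hB.1, inf_le_left.trans hA.2⟩)
          (U := (TopologicalSpace.Opens.map f.base).obj W.1.1)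
          (QuasiCompact.isCompact_preimage (f := f) _ W.1.1.isOpen W.1.2.isCompact) le_rfl p
        exact hcol.preservesColimit
  exact this

end Groth.Agent.S0800
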