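import Groth.Statements.S0805
import Groth.Agent.S0804
import Groth.Agent.AlgSec27.Extend

set_option autoImplicit false
universe u
open CategoryTheory
attribute [local instance] HasDerivedCategory.standard
open Formal2

namespace Groth.Agent.S0805

open AlgebraicGeometry in
/-- Let I ⊆ 𝔞 be ideals of a Noetherian ring A which is complete for the I-adic topology and admits a
dualizing complex, let d bound the cohomological dimension of I, let U = Spec A ∖ V(𝔞), and let M be
a finite A-module. Assume the following dimension condition on the associated primes of M: for every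
associated prime 𝔭 of M lying in U, not containing I, and such that V(𝔭) ∩ V(I) ⊄ V(𝔞), and for
every prime 𝔮 ⊇ 𝔭 containing 𝔞, one has dim (A/𝔭)_𝔮 > d + 1. Assume moreover that M_𝔭 has depth at
least 2 for every prime 𝔭 in U such that V(𝔭) ∩ V(I) ⊆ V(𝔞). Then, for the coherent module M~ on U
attached to M, the canonical map from the sections of M~ over U to the limit of the sections of
(M/I^nM)~ over U is bijective. -/
theorem result (A : Type u) [CommRing A] [IsNoetherianRing A]
    (I 𝔞 : Ideal A) (hI : I ≤ 𝔞) [IsAdicComplete I A] (hω : ∃ ω : Dual.D A, Dual.IsDualizing A ω)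
    (d : ℕ) (hd : LocCoh.CdLE A I d) (M : Type u) [AddCommGroup M] [Module A M] [Module.Finite A M]
    (h₂ : ∀ p ∈ associatedPrimes A M, ¬ 𝔞 ≤ p → ¬ I ≤ p →
      (∃ r : Ideal A, r.IsPrime ∧ p ≤ r ∧ I ≤ r ∧ ¬ 𝔞 ≤ r) →
        ∀ (q : Ideal A) [q.IsPrime], p ≤ q → 𝔞 ≤ q → ((d + 1 : ℕ) : WithBot ℕ∞) < Formal2.dimBetween A p q)
    (h₃ : ∀ (p : Ideal A) [p.IsPrime], ¬ 𝔞 ≤ p →
      (∀ (r : Ideal A), r.IsPrime → p ≤ r → I ≤ r → 𝔞 ≤ r) →
        (2 : ℕ∞) ≤ LocCoh.depth (Localization.AtPrime p) (LocalizedModule p.primeCompl M)) :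
    Formal2.FormalCohBijective A I M 0 (LocCoh.puncturedOpen A 𝔞) := by
  obtain ⟨hinj, hsurj⟩ := (Groth.Agent.Frac27.formalCohColimBijective_iff I M _).1
    (Groth.Agent.S0804.result A I 𝔞 hI hω d hd M h₂)
  let U : TopologicalSpace.Opens (PrimeSpectrum A) := LocCoh.puncturedOpen A 𝔞
  have hdep : ∀ (W : TopologicalSpace.Opens (PrimeSpectrum A)), Groth.Agent.Frac27.Adm I U W →
      ∀ p : PrimeSpectrum A, p ∈ U → p ∉ W →
        (2 : ℕ∞) ≤ LocCoh.depth (Localization.AtPrime p.asIdeal) (LocalizedModule p.asIdeal.primeCompl M) :=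
    fun W hW p hpU hpW => h₃ p.asIdeal hpU fun r hr hpr hIr => by
      by_contra har
      exact hpW (((PrimeSpectrum.le_iff_specializes p ⟨r, hr⟩).1 hpr).mem_open W.isOpen (hW.2 ⟨r, hr⟩ har hIr))
  refine ⟨fun x x' hxx => ?_, fun y hy => ?_⟩
  · refine (Groth.Agent.Frac27.e0 M U).injective (sub_eq_zero.1 ?_)
    obtain ⟨W, hW, h0⟩ := hinj U Groth.Agent.Frac27.admissible_self
      (Groth.Agent.Frac27.e0 M U x - Groth.Agent.Frac27.e0 M U x') fun n => by
        rw [map_sub, sub_eq_zero]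
        exact (Groth.Agent.Frac27.e0_map _ _).symm.trans
          ((congrArg (Groth.Agent.Frac27.e0 _ U) (hxx n)).trans (Groth.Agent.Frac27.e0_map _ _))
    exact Groth.Agent.AlgSec27.sres_injective_of_depth (hdep W hW.1) hW.2 h0
  · obtain ⟨W, hW, t, ht⟩ := hsurj (fun n => Groth.Agent.Frac27.e0 _ U (y n)) fun n =>
      (Groth.Agent.Frac27.e0_map _ _).symm.trans (congrArg (Groth.Agent.Frac27.e0 _ U) (hy n))
    obtain ⟨s, hs⟩ := Groth.Agent.AlgSec27.exists_sres_eq_of_depth (hdep W hW) hW.1 t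
    refine ⟨(Groth.Agent.Frac27.e0 M U).symm s, fun n => (Groth.Agent.Frac27.e0 _ U).injective ?_⟩
    refine (Groth.Agent.Frac27.e0_map _ _).trans (Groth.Agent.Frac27.ext_of_admissible hW ?_)
    rw [(Groth.Agent.Frac27.e0 M U).apply_symm_apply, ← Groth.Agent.Frac27.smap_sres, hs]
    exact (ht n).symm

end Groth.Agent.S0805
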