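import Groth.Statements.S0813
import Groth.Agent.PicCompl27.Basic

set_option autoImplicit false
universe u
open Formal2

namespace Groth.Agent.S0813

open CategoryTheory AlgebraicGeometry in
/-- Let (A, 𝔪) be a Noetherian local ring of depth at least 2, A^ its 𝔪-adic completion, U the punctured
spectrum of A and U^ its preimage in Spec A^ (the punctured spectrum of A^). Then an invertible
O_U-module whose pullback to U^ is trivial is trivial. -/
theorem result (A : Type u) [CommRing A] [IsNoetherianRing A]
    [IsLocalRing A] (hdepth : (2 : ℕ∞) ≤ LocCoh.depth A A) :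
    Formal2.PicPullbackInjective
      (Spec.map (CommRingCat.ofHom (algebraMap A (AdicCompletion (IsLocalRing.maximalIdeal A) A))) ∣_
        FEt.puncturedSpec A) := by
  exact PicCompl27.nonempty_iso_of_pullback A (algebraMap A (AdicCompletion (IsLocalRing.maximalIdeal A) A))
    ((RingHom.faithfullyFlat_algebraMap_iff).mpr (CAlg1.Nag.faithfullyFlat_completion A)) hdepth

end Groth.Agent.S0813
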