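import Groth.Statements.S0815
import Groth.Agent.S0814
import Groth.Agent.S0376
import Groth.Agent.CAlg1.Complete
import Groth.Agent.AlgSec27.CdDim

set_option autoImplicit false
universe u
open Formal2

namespace Groth.Agent.S0815

open CategoryTheory AlgebraicGeometry in
/-- Let (A, 𝔪) be a complete Noetherian local ring, I a proper ideal, e a bound for the cohomological
dimension of I, and Z ⊆ V(I) a closed subset of Spec A. Assume that dim Z + e + 1 < dim A/𝔭 for
every minimal prime 𝔭 of A, and that dim Z + e < dim Z' for every closed subset Z' of Spec A whose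
complement is not connected (the empty complement counts as not connected). Then V(I) ∖ Z is
connected, in particular nonempty. -/
theorem result (A : Type u) [CommRing A] [IsNoetherianRing A] [IsLocalRing A]
    [IsAdicComplete (IsLocalRing.maximalIdeal A) A] (I : Ideal A) (hI : I ≠ ⊤) (e : ℕ) (he : LocCoh.CdLE A I e)
    (Z : Set (PrimeSpectrum A)) (hZ : IsClosed Z) (hZI : Z ⊆ PrimeSpectrum.zeroLocus (I : Set A))
    (hdim : ∀ p ∈ minimalPrimes A, topologicalKrullDim Z + ((e + 1 : ℕ) : WithBot ℕ∞) < ringKrullDim (A ⧸ p))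
    (hc : ∀ Z' : Set (PrimeSpectrum A), IsClosed Z' → ¬ _root_.IsConnected Z'ᶜ →
      topologicalKrullDim Z + ((e : ℕ) : WithBot ℕ∞) < topologicalKrullDim Z') :
    _root_.IsConnected (PrimeSpectrum.zeroLocus (I : Set A) \ Z) := by
  obtain ⟨J, rfl⟩ := (PrimeSpectrum.isClosed_iff_zeroLocus_ideal Z).1 hZ
  let 𝔞 : Ideal A := J ⊔ I
  have h𝔞 : PrimeSpectrum.zeroLocus (𝔞 : Set A) = PrimeSpectrum.zeroLocus (J : Set A) := by
    rw [PrimeSpectrum.zeroLocus_sup]
    exact Set.inter_eq_left.2 hZI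
  rw [← h𝔞] at hdim hc hZI ⊢
  have key : ∀ p : PrimeSpectrum A,
      PrimeSpectrum.zeroLocus (I : Set A) ∩ PrimeSpectrum.zeroLocus (p.asIdeal : Set A) ⊆
        PrimeSpectrum.zeroLocus (𝔞 : Set A) →
      ringKrullDim (A ⧸ p.asIdeal) ≤ topologicalKrullDim (PrimeSpectrum.zeroLocus (𝔞 : Set A)) + (e : WithBot ℕ∞) := by
    intro p hp
    obtain ⟨s, t, hs, ht, hts⟩ := Groth.Agent.AlgSec27.dim_le_cd_add hI he p.asIdeal
    have h1 : (s : WithBot ℕ∞) ≤ ringKrullDim (A ⧸ 𝔞) := by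
      rw [← hs]
      refine Groth.Agent.AlgSec27.dim_le_of_forall fun r hr => ?_
      exact Groth.Agent.AlgSec27.ringKrullDim_quotient_mono
        (hp ⟨le_sup_left.trans hr, le_sup_right.trans hr⟩)
    rw [ht, Groth.Agent.AlgSec27.topologicalKrullDim_zeroLocus]
    calc ((t : ℕ) : WithBot ℕ∞) ≤ ((s + e : ℕ) : WithBot ℕ∞) := Nat.cast_le.2 (by omega)
      _ = (s : WithBot ℕ∞) + (e : WithBot ℕ∞) := Nat.cast_add _ _
      _ ≤ _ := add_le_add h1 le_rfl
  haveI : IsAdicComplete I A := Groth.Agent.CAlg1.isAdicComplete_of_le (IsLocalRing.le_maximalIdeal hI)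
    (IsNoetherian.noetherian I)
  refine ⟨?_, Groth.Agent.S0814.result A I 𝔞 le_sup_right (Groth.Agent.S0376.result A) e he ?_ ?_⟩
  · by_contra hne
    rw [Set.not_nonempty_iff_eq_empty, Set.sdiff_eq_empty] at hne
    obtain ⟨p, hp, -⟩ := Ideal.exists_minimalPrimes_le (I := (⊥ : Ideal A)) (J := IsLocalRing.maximalIdeal A) bot_le
    have h1 := key ⟨p, hp.1.1⟩ (Set.inter_subset_left.trans hne)
    have h2 := hdim p hp
    rw [Nat.cast_add, Nat.cast_one, ← add_assoc] at h2
    exact (h2.trans_le h1).not_ge (le_add_of_nonneg_right zero_le_one)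
  · intro p hp _ q hq hpq h𝔞q
    obtain ⟨ω, hω⟩ := Groth.Agent.S0376.result A
    exact Groth.Agent.AlgSec27.lt_dimBetween hω (p := ⟨p, hp.1.1⟩) (q := ⟨q, hq⟩) hpq
      ((Groth.Agent.AlgSec27.ringKrullDim_quotient_mono h𝔞q).trans
        (Groth.Agent.AlgSec27.topologicalKrullDim_zeroLocus 𝔞).ge) (hdim p hp)
  · intro V hV _ hsub
    by_contra hcon
    have h1 := hc Vᶜ hV.isClosed_compl (by rwa [compl_compl])
    obtain ⟨J', hJ'⟩ := (PrimeSpectrum.isClosed_iff_zeroLocus_ideal _).1 hV.isClosed_compl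
    rw [hJ', Groth.Agent.AlgSec27.topologicalKrullDim_zeroLocus J'] at h1
    refine h1.not_ge (Groth.Agent.AlgSec27.dim_le_of_forall fun p hp => key p fun r hr => ?_)
    by_contra hr'
    have hrJ : r ∈ Vᶜ := hJ' ▸ (hp.trans hr.2 : J' ≤ r.asIdeal)
    exact hrJ (hsub ⟨hr.1, hr'⟩)

end Groth.Agent.S0815
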