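import Groth.Statements.S0819
import Groth.Agent.Coh69.DevissageGen

set_option autoImplicit false
universe u
open Coherent

namespace Groth.Agent.S0819

open CategoryTheory AlgebraicGeometry in
/-- Let X be a Noetherian scheme, Z₀ ⊆ X an irreducible closed subset with generic point ξ, and P an
isomorphism-invariant property of O_X-modules such that: (1) in every short exact sequence of
coherent modules supported in Z₀, P for two of the terms implies P for the third; (2) P holds for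
i_* I whenever i : Z → X is an integral closed subscheme with i(Z) a proper subset of Z₀ and I ⊆ O_Z
is a quasi-coherent ideal sheaf; (3) there is a coherent G with support exactly Z₀, stalk at ξ
isomorphic to the residue field over the local ring, and P(G). Then P holds for every coherent
module whose support is contained in Z₀. -/
theorem result (X : Scheme.{u}) [IsNoetherian X]
    (Z₀ : Set X) (hZ₀ : IsClosed Z₀) (hirr : IsIrreducible Z₀) (ξ : X) (hξ : ξ ∈ Z₀ ∧ closure {ξ} = Z₀)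
    (P : X.Modules → Prop) (hP : ∀ M N : X.Modules, Nonempty (M ≅ N) → P M → P N)
    (h₁ : ∀ S : ShortComplex X.Modules, S.ShortExact → Coh.IsCoh S.X₁ → Coh.IsCoh S.X₂ → Coh.IsCoh S.X₃ →
      CohB1.support S.X₂ ⊆ Z₀ →
      (P S.X₁ → P S.X₂ → P S.X₃) ∧ (P S.X₁ → P S.X₃ → P S.X₂) ∧ (P S.X₂ → P S.X₃ → P S.X₁))
    (h₂ : ∀ (Z : Scheme.{u}) (i : Z ⟶ X), IsClosedImmersion i → IsIntegral Z →
      Set.range ⇑i ⊆ Z₀ → Set.range ⇑i ≠ Z₀ →
      ∀ (I : Z.Modules) (ι : I ⟶ Coh.structureModule Z), Mono ι → Coh.IsQCoh I →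
        P ((Coh.push i).obj I))
    (h₃ : ∃ G : X.Modules, Coh.IsCoh G ∧ CohB1.support G = Z₀ ∧
      Nonempty (↑(G.presheaf.stalk ξ) ≃ₗ[X.presheaf.stalk ξ] IsLocalRing.ResidueField (X.presheaf.stalk ξ)) ∧ P G)
    (M : X.Modules) (hM : Coh.IsCoh M) (hsupp : CohB1.support M ⊆ Z₀) : P M := by
  classical
  obtain ⟨G, hG, hGs, ⟨e⟩, hPG⟩ := h₃
  have hP' : ∀ A B : X.Modules, Nonempty (A ≅ B) → (CohB1.support A ⊆ Z₀ → P A) →
      (CohB1.support B ⊆ Z₀ → P B) := fun A B ⟨i⟩ hA hB =>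
    hP A B ⟨i⟩ (hA ((Groth.Agent.Coh69.support_subset_of_iso i.symm).trans hB))
  have h0 : ∀ N : X.Modules, CategoryTheory.Limits.IsZero N → CohB1.support N ⊆ Z₀ → P N := by
    intro N hN _
    let S := ShortComplex.mk (hN.to_ G) (𝟙 G) (hN.eq_of_src _ _)
    have hS : S.ShortExact :=
      { exact := (S.exact_iff_mono (hN.eq_of_src _ _)).mpr (inferInstanceAs (Mono (𝟙 _)))
        mono_f := ⟨fun g h _ => hN.eq_of_tgt g h⟩
        epi_g := inferInstanceAs (Epi (𝟙 _)) }
    exact (h₁ S hS (Groth.Agent.QC70.isCoh_of_isZero hN) hG hG hGs.le).2.2 hPG hPG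
  refine Groth.Agent.Coh69.devissage (fun A => CohB1.support A ⊆ Z₀ → P A) hP' h0 ?_ Z₀ hZ₀ ?_ M hM
    hsupp hsupp
  · intro S hS a b c p1 p3 hs
    have := hS.mono_f
    have := hS.epi_g
    exact (h₁ S hS a b c hs).2.1 (p1 ((Groth.Agent.QC70.mem_support_of_mono S.f).trans hs))
      (p3 ((Groth.Agent.QC70.mem_support_of_epi S.g).trans hs))
  intro y hy IH
  have hcl : closure {y} ⊆ Z₀ := hZ₀.closure_subset_iff.mpr (Set.singleton_subset_iff.mpr hy)
  have hsub : ∀ S : ShortComplex X.Modules, S.ShortExact → Coh.IsCoh S.X₁ → Coh.IsCoh S.X₂ →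
      Coh.IsCoh S.X₃ → CohB1.support S.X₂ ⊆ closure {y} → (CohB1.support S.X₂ ⊆ Z₀ → P S.X₂) →
      (CohB1.support S.X₃ ⊆ Z₀ → P S.X₃) → CohB1.support S.X₁ ⊆ Z₀ → P S.X₁ := by
    intro S hS a b c hs p2 p3 _
    have := hS.epi_g
    exact (h₁ S hS a b c (hs.trans hcl)).2.2 (p2 (hs.trans hcl))
      (p3 ((Groth.Agent.QC70.mem_support_of_epi S.g).trans (hs.trans hcl)))
  by_cases hyξ : y = ξ
  · subst hyξ
    exact Groth.Agent.Coh69.genAt1_of_prop _ _ hsub IH G hG (hGs.le.trans hξ.2.ge)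
      (Groth.Agent.Coh69.killed_cyclic_of_residue e) fun _ => hPG
  · obtain ⟨Z, i, hi, hZ, hr, rfl⟩ := Groth.Agent.QC70.exists_integral_closed y
    have hne : Set.range i ≠ Z₀ := fun h => hyξ ((isGenericPoint_def.mpr (hr.symm.trans h)).eq
      (isGenericPoint_def.mpr hξ.2))
    exact Groth.Agent.Coh69.genAt1_of_ideals _ i fun I ι hι hI _ _ =>
      h₂ Z i hi hZ (hr.le.trans hcl) hne I ι hι hI

end Groth.Agent.S0819
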