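import Groth.Statements.S0825
import Groth.Agent.LC16.DTH

set_option autoImplicit false
universe u
open scoped BigOperators
open LocCoh

namespace Groth.Agent.S0825

/-- Let A be a Noetherian ring and I the ideal generated by f_1, …, f_r, with cohomological dimension
exactly 1. Then there are c ≥ 1 and A-linear maps φ_j : I^c → A such that x = Σ_j f_j φ_j(x) for
every x ∈ I^c. -/
theorem result (A : Type u) [CommRing A] [IsNoetherianRing A] (r : ℕ) (f : Fin r → A)
    (h₁ : LocCoh.CdLE A (Ideal.span (Set.range f)) 1) (h₀ : ¬ LocCoh.CdLE A (Ideal.span (Set.range f)) 0) :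
    ∃ (c : ℕ) (φ : Fin r → (↥(Ideal.span (Set.range f) ^ (c + 1)) →ₗ[A] A)),
      ∀ x : ↥(Ideal.span (Set.range f) ^ (c + 1)), (x : A) = ∑ j, f j * φ j x := by
  classical
  let I := Ideal.span (Set.range f)
  have hI : ∀ j, f j ∈ I := fun j => Ideal.subset_span ⟨j, rfl⟩
  let p : (Fin r → A) →ₗ[A] ↥I :=
    LinearMap.codRestrict I (∑ j, f j • LinearMap.proj j) fun v => by
      simp only [LinearMap.sum_apply, LinearMap.smul_apply, LinearMap.proj_apply, smul_eq_mul]
      exact I.sum_mem fun j _ => I.mul_mem_right _ (hI j)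
  have hp : Function.Surjective p := fun x => by
    obtain ⟨v, hv⟩ := (Ideal.mem_span_range_iff_exists_fun).1 x.2
    exact ⟨v, Subtype.ext (by simp [p, LinearMap.sum_apply, mul_comm, ← hv])⟩
  let i1 : ↥(I ^ 1) →ₗ[A] ↥I := Submodule.inclusion (le_of_eq (pow_one I))
  obtain ⟨w, hw⟩ := (Groth.Agent.LC16.DT.rightExact_iff_cdLE.2 h₁) _ _ p hp
    (Groth.Agent.LC16.DT.inc I ↥I 1 i1)
  obtain ⟨t, g, rfl⟩ := Groth.Agent.LC16.DT.inc_surjective w
  rw [Groth.Agent.LC16.DT.map_inc,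
    ← Groth.Agent.LC16.DT.inc_res (le_max_left t 1) (p ∘ₗ g),
    ← Groth.Agent.LC16.DT.inc_res (le_max_right t 1) i1, ← sub_eq_zero, ← map_sub,
    Groth.Agent.LC16.DT.inc_eq_zero_iff] at hw
  obtain ⟨k, hk, hk0⟩ := hw
  have ht : I ^ (k + 1) ≤ I ^ t := Ideal.pow_le_pow_right (by omega)
  refine ⟨k, fun j => LinearMap.proj j ∘ₗ g ∘ₗ Submodule.inclusion ht, fun x => ?_⟩
  have hx : x.1 ∈ I ^ k := Ideal.pow_le_pow_right (Nat.le_succ k) x.2
  have h := congrArg (fun z : ↥I => z.1) (sub_eq_zero.1 (LinearMap.congr_fun hk0 ⟨x.1, hx⟩))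
  refine h.symm.trans ?_
  simp [p, LinearMap.sum_apply, Groth.Agent.LC16.DT.res_apply]
  rfl

end Groth.Agent.S0825
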