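import Groth.Statements.S0826
import Groth.Agent.Formal27.LimAcyclic

set_option autoImplicit false
universe u
open Formal2

namespace Groth.Agent.S0826
open CategoryTheory CategoryTheory.Limits AlgebraicGeometry Opposite

open CategoryTheory CategoryTheory.Limits AlgebraicGeometry in
/-- Part (2), for the ideal sheaf generated by an ideal I of a base ring A. Let X be a scheme over Spec
A and (G_n) an inverse system of quasi-coherent O_X-modules with G_n killed by I^(n+1) and G_n =
G_{n+1}/I^(n+1)G_{n+1} (indices shifted by one). Then the limit O_X-module lim G_n has vanishing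
cohomology in positive degrees over every affine open of X. -/
theorem result (A : Type u) [CommRing A] (I : Ideal A) (X : Scheme.{u})
    [X.Over (Spec (CommRingCat.of A))] (G : ℕᵒᵖ ⥤ X.Modules) (hG : Formal2.IsQCohFormal I G)
    (U : X.Opens) (hU : IsAffineOpen U) (p : ℕ) (hp : 0 < p) :
    Subsingleton (Coh.HHon X (limit G) U p) := by
  haveI : IsAffine (U : Scheme.{u}) := hU
  obtain ⟨n, rfl⟩ : ∃ n, p = n + 1 := ⟨p - 1, by omega⟩
  let R := Scheme.Modules.restrictFunctor U.ι
  haveI := Formal27.isIso_post_restrict G U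
  let e : (limit G).restrict U.ι ≅ limit (G ⋙ R) := asIso (limit.post G R)
  have hq : ∀ k : ℕ, ((G ⋙ R).obj (op k)).IsQuasicoherent := fun k => by
    haveI := hG.1 k
    exact inferInstanceAs ((G.obj (op k)).restrict U.ι).IsQuasicoherent
  have he : ∀ k, Epi (Formal27.tr (G ⋙ R) k) := fun k => by
    obtain ⟨h, hiso⟩ := hG.2.2 k
    haveI : Epi (Formal27.tr G k) := by
      rw [show Formal27.tr G k = cokernel.π _ ≫ cokernel.desc _ _ h from (cokernel.π_desc _ _ _).symm]
      infer_instance
    exact inferInstanceAs (Epi (R.map (Formal27.tr G k)))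
  haveI := Formal27.subsingleton_HE_limit (G ⋙ R) hq he (isAffineOpen_top (U : Scheme.{u})) n
  haveI : Subsingleton (Coh.HH (U : Scheme.{u}) (limit (G ⋙ R)) (n + 1)) :=
    (Coh69.hhEquiv (limit (G ⋙ R)) (n + 1)).toEquiv.subsingleton
  let ψ := (SheafOfModules.toSheaf _).mapIso e
  refine ⟨fun x y => ?_⟩
  have h := congrArg (Sheaf.H.map ψ.inv (n + 1)) (Subsingleton.elim (α := Coh.HH (U : Scheme.{u}) (limit (G ⋙ R)) (n + 1))
    (Sheaf.H.map ψ.hom (n + 1) x) (Sheaf.H.map ψ.hom (n + 1) y))
  rwa [← Sheaf.H.map_comp_apply, ← Sheaf.H.map_comp_apply, Iso.hom_inv_id, Sheaf.H.map_id_apply,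
    Sheaf.H.map_id_apply] at h

end Groth.Agent.S0826
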