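import Groth.Statements.S0834
import Groth.Agent.Algz14.KerSys

set_option autoImplicit false
universe u
open Formal2

namespace Groth.Agent.S0834

open CategoryTheory CategoryTheory.Limits AlgebraicGeometry in
/-- Let A be a ring, I ⊆ A an ideal and X a Noetherian scheme over Spec A. Then the full subcategory of
inverse systems of 𝒪_X-modules formed by the coherent formal modules for the ideal sheaf I·𝒪_X has
kernels. (This is the kernel half of the statement that this category is abelian; cokernels are
componentwise, and abelianness itself is not asserted here.) -/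
theorem result (A : Type u) [CommRing A] (I : Ideal A) (X : Scheme.{u})
    [X.Over (Spec (CommRingCat.of A))] [IsNoetherian X] : HasKernels (Formal2.CohFormalCat I X) := by
  refine ⟨fun {P Q} f => ?_⟩
  obtain ⟨K, ι, hK, hι, hu⟩ := Algz14.KerSys.exists_kernel (I := I) f.hom P.property Q.property
  let K' : Formal2.CohFormalCat I X := ⟨K, hK⟩
  let ι' : K' ⟶ P := ObjectProperty.homMk ι
  refine HasLimit.mk ⟨KernelFork.ofι ι' (ObjectProperty.hom_ext _ hι), ?_⟩
  refine KernelFork.IsLimit.ofι _ _ (fun {W'} g eq' => ObjectProperty.homMk ((hu W'.obj W'.property).1 g.hom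
      (congrArg (fun t => t.hom) eq')).choose) (fun {W'} g eq' => ?_) (fun {W'} g eq' m hm => ?_)
  · exact ObjectProperty.hom_ext _ ((hu W'.obj W'.property).1 g.hom (congrArg (fun t => t.hom) eq')).choose_spec
  · refine ObjectProperty.hom_ext _ ?_
    have h1 := ((hu W'.obj W'.property).1 g.hom (congrArg (fun t => t.hom) eq')).choose_spec
    have h2 : m.hom ≫ ι = g.hom := congrArg (fun t => t.hom) hm
    refine sub_eq_zero.1 ((hu W'.obj W'.property).2 _ ?_)
    rw [Preadditive.sub_comp]
    exact sub_eq_zero.2 (h2.trans h1.symm)

end Groth.Agent.S0834
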