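import Groth.Statements.S0856
import Groth.Agent.SiteMod.Injective

set_option autoImplicit false
universe u
open CategoryTheory
open CohSite

namespace Groth.Agent.S0856

open Opposite in
/-- Let (C, O) be a ringed site, a : U' -> U a monomorphism of C and I an injective sheaf of O-modules.
Then the restriction map I(U) -> I(U') is surjective. -/
theorem result {C : Type u} [SmallCategory C]
    {J : GrothendieckTopology C} (O : Sheaf J RingCat.{u}) (I : SheafOfModules.{u} O) [Injective I]
    {U U' : C} (a : U' ⟶ U) [Mono a] : Function.Surjective (I.val.map a.op) := by
  exact Groth.Agent.SiteMod.restriction_surjective O I a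

end Groth.Agent.S0856
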