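import Groth.Statements.S0857
import Groth.Agent.SiteCoh.Free

set_option autoImplicit false
universe u
open CategoryTheory
open CohSite

namespace Groth.Agent.S0857

set_option backward.isDefEq.respectTransparency false in
set_option backward.isDefEq.respectTransparency.types false in
open Opposite CategoryTheory.Limits CategoryTheory.Abelian in
/-- For a family of abelian sheaves F_i on a site and an object U, the map H^1(U, ∏ F_i) -> ∏ H^1(U,
F_i) induced by the projections is injective. (The degree-zero part of the published statement, that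
sections of a product are the product of sections, is not restated.) -/
theorem result {C : Type u} [SmallCategory C] {J : GrothendieckTopology C}
    {I : Type u} (F : I → Sheaf J AddCommGrpCat.{u}) (U : C) :
    Function.Injective (fun (x : CohSite.HU (∏ᶜ F) 1 U) (i : I) =>
      (((Sheaf.cohomologyPresheafFunctor J 1).map (Limits.Pi.π F i)).app (op U)).hom x) := by
  suffices key : ∀ x : Ext (CohCx.freeSheaf J U) (∏ᶜ F) 1,
      (∀ i, x.comp (Ext.mk₀ (Limits.Pi.π F i)) (add_zero 1) = 0) → x = 0 by
    intro x y h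
    rw [← sub_eq_zero]
    refine key _ fun i => ?_
    have := congrFun h i
    rw [← sub_eq_zero] at this
    exact (map_sub ((Abelian.Ext.mk₀ (Limits.Pi.π F i)).postcomp (CohCx.freeSheaf J U) (add_zero 1)) x y).trans
      this
  intro x hx
  let α : ∀ i, F i ⟶ Injective.under (F i) := fun i => Injective.ι (F i)
  let β : ∀ i, Injective.under (F i) ⟶ cokernel (α i) := fun i => cokernel.π (α i)
  have : ∀ i, Mono (α i) := fun i => inferInstance
  let S : ShortComplex (Sheaf J AddCommGrpCat.{u}) :=
    ShortComplex.mk (Limits.Pi.map α) (cokernel.π (Limits.Pi.map α)) (cokernel.condition _)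
  have hS : S.ShortExact :=
    { exact := ShortComplex.exact_of_g_is_cokernel _ (cokernelIsCokernel (Limits.Pi.map α))
      mono_f := inferInstanceAs (Mono (Limits.Pi.map α))
      epi_g := inferInstanceAs (Epi (cokernel.π _)) }
  have w : Limits.Pi.map α ≫ Limits.Pi.map β = 0 := Limits.Pi.hom_ext _ _ fun i => by
    rw [Category.assoc, Limits.Pi.map_π, Limits.Pi.map_π_assoc, cokernel.condition, comp_zero, zero_comp]
  have hm : ∀ i, Mono (Groth.Agent.SiteCoh.injSES (F i)).f :=
    fun i => (Groth.Agent.SiteCoh.injSES_shortExact (F i)).mono_f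
  have hk : (ShortComplex.mk (Limits.Pi.map α) (Limits.Pi.map β) w).Exact := by
    refine ShortComplex.exact_of_f_is_kernel _ (KernelFork.IsLimit.ofι _ _ (fun g hg =>
      Limits.Pi.lift fun i => (Groth.Agent.SiteCoh.injSES_shortExact (F i)).exact.lift
        (g ≫ Limits.Pi.π _ i) (by
          change (g ≫ Limits.Pi.π _ i) ≫ β i = 0
          rw [Category.assoc, ← Limits.Pi.map_π β i, ← Category.assoc, hg, zero_comp])) ?_ ?_)
    · intro W g hg
      refine Limits.Pi.hom_ext _ _ fun i => ?_
      rw [Category.assoc, Limits.Pi.map_π, Limits.Pi.lift_π_assoc]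
      exact (Groth.Agent.SiteCoh.injSES_shortExact (F i)).exact.lift_f _ _
    · intro W g hg m hm
      refine (cancel_mono (Limits.Pi.map α)).1 (Limits.Pi.hom_ext _ _ fun i => ?_)
      rw [hm]
      dsimp only
      rw [Category.assoc, Limits.Pi.map_π, Limits.Pi.lift_π_assoc]
      exact ((Groth.Agent.SiteCoh.injSES_shortExact (F i)).exact.lift_f _ _).symm
  have : Mono (cokernel.desc (Limits.Pi.map α) (Limits.Pi.map β) w) := hk.mono_cokernelDesc
  have : Subsingleton (Abelian.Ext.{u} (CohCx.freeSheaf J U) S.X₂ (0 + 1)) :=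
    Abelian.Ext.subsingleton_of_injective _ (∏ᶜ fun i => Injective.under (F i)) 0
  obtain ⟨c', rfl⟩ := Groth.Agent.SiteCoh.exists_comp_extClass hS (CohCx.freeSheaf J U) 0 x
  obtain ⟨c, rfl⟩ := (Abelian.Ext.mk₀_bijective _ _).2 c'
  let φ : ∀ i, S ⟶ Groth.Agent.SiteCoh.injSES (F i) := fun i =>
    { τ₁ := Limits.Pi.π F i
      τ₂ := Limits.Pi.π (fun i => Injective.under (F i)) i
      τ₃ := cokernel.desc (Limits.Pi.map α) (Limits.Pi.π _ i ≫ β i)
        (by rw [Limits.Pi.map_π_assoc, cokernel.condition, comp_zero])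
      comm₁₂ := (Limits.Pi.map_π α i).symm
      comm₂₃ := (cokernel.π_desc _ _ _).symm }
  have hlift : ∀ i, ∃ t : CohCx.freeSheaf J U ⟶ Injective.under (F i), t ≫ β i = c ≫ (φ i).τ₃ := by
    intro i
    have h := hx i
    rw [Abelian.Ext.comp_assoc_of_third_deg_zero,
      ShortComplex.ShortExact.extClass_naturality hS (Groth.Agent.SiteCoh.injSES_shortExact (F i)) (φ i),
      ← Abelian.Ext.comp_assoc_of_second_deg_zero, Abelian.Ext.mk₀_comp_mk₀] at h
    obtain ⟨t', ht⟩ := Abelian.Ext.covariant_sequence_exact₃ _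
      (Groth.Agent.SiteCoh.injSES_shortExact (F i)) _ rfl h
    obtain ⟨t, rfl⟩ := (Abelian.Ext.mk₀_bijective _ _).2 t'
    rw [Abelian.Ext.mk₀_comp_mk₀] at ht
    exact ⟨t, (Abelian.Ext.mk₀_bijective _ _).1 ht⟩
  choose t ht using hlift
  have hc : Limits.Pi.lift t ≫ S.g = c := by
    refine (cancel_mono (cokernel.desc (Limits.Pi.map α) (Limits.Pi.map β) w)).1 (Limits.Pi.hom_ext _ _ fun i => ?_)
    have e : cokernel.desc (Limits.Pi.map α) (Limits.Pi.map β) w ≫ Limits.Pi.π _ i = (φ i).τ₃ := by
      rw [← cancel_epi (cokernel.π (Limits.Pi.map α)), cokernel.π_desc_assoc, Limits.Pi.map_π]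
      exact (cokernel.π_desc _ _ _).symm
    simp only [Category.assoc]
    rw [e, ← ht i]
    refine (congrArg (fun m => Limits.Pi.lift t ≫ m) (cokernel.π_desc _ _ _)).trans ?_
    rw [Limits.Pi.lift_π_assoc]
  rw [← hc, ← Abelian.Ext.mk₀_comp_mk₀, Abelian.Ext.comp_assoc_of_second_deg_zero, hS.comp_extClass,
    Abelian.Ext.comp_zero]

end Groth.Agent.S0857
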