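import Groth.Statements.S0884
import Groth.Agent.SpecVan49.Stalk

set_option autoImplicit false
universe u
open CategoryTheory
open CohTop

namespace Groth.Agent.S0884

open TopologicalSpace in
/-- Let f : X -> Y be a spectral map of spectral spaces, y a point of Y, E ⊆ Y the set of points
specializing to y, and F an abelian sheaf on X. Then the stalk (R^p f_* F)_y is isomorphic to
H^p(f^{-1}(E), F|_{f^{-1}(E)}), the cohomology of the pullback of F to the subspace f^{-1}(E). -/
theorem result {X Y : TopCat.{u}} [SpectralSpace X] [SpectralSpace Y]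
    (f : X ⟶ Y) (hf : IsSpectralMap f) (y : Y) (F : CohTop.Ab X) (p : ℕ) :
    Nonempty (CohTop.stalk ((CohTop.Rpush f p).obj F) y ≃+
      CohTop.H ((CohTop.pull (TopCat.ofHom ⟨Subtype.val, continuous_subtype_val⟩ :
          TopCat.of {x : X | y ∈ closure {f x}} ⟶ X)).obj F) p) := by
    exact Groth.Agent.SpecVan49.stalk_Rpush_spectral f hf y F p

end Groth.Agent.S0884
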