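import Groth.Statements.S0894
import Groth.Agent.Hyper50.Sections

set_option autoImplicit false
universe u
open CategoryTheory
open Hyper

namespace Groth.Agent.S0894

open Opposite in
/-- For a hypercovering K of an object X of a site with fibre products (a simplicial semi-representable
object over X; coskeleta are assumed to exist): (1) for each n the family K_n is a covering of X,
and (2) every face map d_i : K_{n+1} -> K_n is a covering morphism of semi-representable objects. -/
theorem result {C : Type u} [SmallCategory C] [Limits.HasPullbacks C]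
    (J : GrothendieckTopology C) (X : C) (K : SimplicialObject (Limits.FormalCoproduct.{u} (Over X)))
    [∀ (n : ℕ) (F : (SimplexCategory.Truncated n)ᵒᵖ ⥤ Limits.FormalCoproduct.{u} (Over X)),
      (SimplexCategory.Truncated.inclusion n).op.HasRightKanExtension F]
    (hK : Hyper.IsHypercovering J X K) :
    (∀ n : ℕ, Sieve.ofArrows (fun i => ((K.obj (op (SimplexCategory.mk n))).obj i).left)
      (fun i => ((K.obj (op (SimplexCategory.mk n))).obj i).hom) ∈ J X) ∧
    ∀ (n : ℕ) (i : Fin (n + 2)), Hyper.IsSRCovering (J.over X) (K.δ i) := by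
  refine ⟨fun n => J.superset_covering ?_ hK.1, fun n i => ?_⟩
  · rintro V w hw
    rw [Sieve.mem_ofArrows_iff] at hw ⊢
    obtain ⟨j, a, ha⟩ := hw
    let s := K.map (SimplexCategory.const (SimplexCategory.mk n) (SimplexCategory.mk 0) 0).op
    refine ⟨s.f j, a ≫ (s.φ j).left, ?_⟩
    rw [Category.assoc, Over.w (s.φ j)]
    exact ha
  · rw [Groth.Agent.Hyper50.isSRCovering_iff]
    refine Presheaf.isLocallySurjective_of_surjective _ _ fun U y => ?_
    rcases Fin.eq_castSucc_or_eq_last i with ⟨k, rfl⟩ | rfl
    · refine ⟨(Groth.Agent.Hyper50.Pts.map (K.σ k)).app U y, ?_⟩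
      rw [← ConcreteCategory.comp_apply, ← NatTrans.comp_app, ← Functor.map_comp, K.δ_comp_σ_self]
      simp
    · refine ⟨(Groth.Agent.Hyper50.Pts.map (K.σ (Fin.last n))).app U y, ?_⟩
      have h := K.δ_comp_σ_succ (i := Fin.last n)
      rw [Fin.succ_last] at h
      rw [← ConcreteCategory.comp_apply, ← NatTrans.comp_app, ← Functor.map_comp, h]
      simp

end Groth.Agent.S0894
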