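import Groth.Statements.S0896
import Groth.Agent.Hyper50.ExistFin
import Groth.Agent.Hyper50.ExistBig
import Groth.Agent.Hyper50.IffHyp
import Mathlib.CategoryTheory.Limits.Constructions.FiniteProductsOfBinaryProducts
import Mathlib.CategoryTheory.Limits.Constructions.Over.Basic

set_option autoImplicit false
universe u
open CategoryTheory
open Hyper

namespace Groth.Agent.S0896

open Opposite CategoryTheory.Limits in
/-- Let C be a site with fibre products and B a class of objects such that (2) every object X has a
finite covering {U_i -> X} with all U_i in B, and (3) adding one more morphism U -> X with U in B to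
such a finite covering again gives a covering. Then every object X has a hypercovering K such that
each K_n is a finite family of objects of B over X. -/
theorem result {C : Type u} [SmallCategory C] [HasPullbacks C]
    (J : GrothendieckTopology C) (B : Set C)
    (h2 : ∀ X : C, ∃ (ι : Type u) (_ : Finite ι) (U : ι → C) (f : ∀ i, U i ⟶ X),
      Sieve.ofArrows U f ∈ J X ∧ ∀ i, U i ∈ B)
    (h3 : ∀ (X : C) (ι : Type u) [Finite ι] (U : ι → C) (f : ∀ i, U i ⟶ X),
      Sieve.ofArrows U f ∈ J X → (∀ i, U i ∈ B) → ∀ (V : C) (g : V ⟶ X), V ∈ B →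
      Sieve.ofArrows (Option.elim' V U) (fun o => Option.rec g f o) ∈ J X)
    (X : C) [∀ (n : ℕ) (F : (SimplexCategory.Truncated n)ᵒᵖ ⥤ Limits.FormalCoproduct.{u} (Over X)),
      (SimplexCategory.Truncated.inclusion n).op.HasRightKanExtension F] :
    ∃ K : SimplicialObject (FormalCoproduct.{u} (Over X)), Hyper.IsHypercovering J X K ∧
      ∀ n : ℕ, Finite (K.obj (op (SimplexCategory.mk n))).I ∧
        ∀ i, ((K.obj (op (SimplexCategory.mk n))).obj i).left ∈ B := by
  choose ι hι V f hf hV using h2
  have hp : HasFiniteProducts (Over X) := hasFiniteProducts_of_has_binary_and_terminal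
  have he : HasEqualizers (Over X) := hasEqualizers_of_hasPullbacks_and_binary_products
  let B' := Groth.Agent.Hyper50.finBuilder (J.over X)
    ⟨ι X, fun i => Over.mk (f X i)⟩ (hι X)
    (fun U => ⟨(Sieve.overEquiv U).symm (Sieve.pullback U.hom (Sieve.ofArrows (V X) (f X))),
      J.overEquiv_symm_mem_over _ _ (J.pullback_stable U.hom (hf X)), fun W g hg => by
        rw [Sieve.overEquiv_symm_iff, Sieve.pullback_apply, Sieve.mem_ofArrows_iff] at hg
        obtain ⟨i, a, ha⟩ := hg
        exact ⟨i, ⟨Over.homMk a (ha.symm.trans (Over.w g))⟩⟩⟩)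
    (fun U : Over X => ι U.left) (fun U => hι U.left)
    (fun U i => Over.mk (f U.left i ≫ U.hom)) (fun U i => Over.homMk (f U.left i))
    (fun U => by
      refine (J.over X).superset_covering (fun W g hg => ?_)
        (J.overEquiv_symm_mem_over U _ (hf U.left))
      rw [Sieve.overEquiv_symm_iff, Sieve.mem_ofArrows_iff] at hg
      obtain ⟨i, a, ha⟩ := hg
      rw [Sieve.mem_ofArrows_iff]
      refine ⟨i, Over.homMk a ?_, Over.OverMorphism.ext ha⟩
      show a ≫ f U.left i ≫ U.hom = W.hom
      rw [← reassoc_of% ha, Over.w])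
  refine ⟨B'.hyp, (Groth.Agent.Hyper50.isHypercovering_iff J X _).2 B'.isHyp_hyp, fun n =>
    ⟨B'.finite_hyp trivial _, fun i => ?_⟩⟩
  exact B'.prop_hyp (fun W => W.left ∈ B) (fun j => hV X j) (fun _ _ _ x => hV _ x.2) _ i

end Groth.Agent.S0896
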