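import Groth.Statements.S0898
import Groth.Agent.Hyper50.Sections
import Groth.Agent.Hyper50.LocSurj

set_option autoImplicit false
universe u
open CategoryTheory
open Hyper

namespace Groth.Agent.S0898

open CategoryTheory.Limits in
/-- Parts (1) and (2), about covering morphisms between semi-representable objects (formal coproducts)
of a site: (1) the composite of two covering morphisms is a covering, and (2) for a site with fibre
products, the base change of a covering K -> L along any L' -> L (which exists) is a covering L' x_L
K -> L'. -/
theorem result {C : Type u} [SmallCategory C] (J : GrothendieckTopology C) :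
    (∀ {K L M : FormalCoproduct.{u} C} (f : K ⟶ L) (g : L ⟶ M),
      Hyper.IsSRCovering J f → Hyper.IsSRCovering J g → Hyper.IsSRCovering J (f ≫ g)) ∧
    (∀ [HasPullbacks C] {K L L' : FormalCoproduct.{u} C} (f : K ⟶ L) (g : L' ⟶ L),
      Hyper.IsSRCovering J f → HasPullback g f ∧ ∀ [HasPullback g f], Hyper.IsSRCovering J (pullback.fst g f)) := by
  refine ⟨fun f g hf hg => ?_, ?_⟩
  · rw [Groth.Agent.Hyper50.isSRCovering_iff] at hf hg ⊢
    rw [Functor.map_comp]
    infer_instance
  · intro _ K L L' f g hf
    refine ⟨inferInstance, ?_⟩
    intro _
    rw [Groth.Agent.Hyper50.isSRCovering_iff] at hf ⊢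
    exact Groth.Agent.Hyper50.isLocallySurjective_of_isPullback J
      ((IsPullback.of_hasPullback g f).map Groth.Agent.Hyper50.Pts)

end Groth.Agent.S0898
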