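import Groth.Statements.S0901
import Groth.Agent.TopCoh49.CechFlasque

set_option autoImplicit false
universe u
open CategoryTheory
open CohTop

namespace Groth.Agent.S0901

open TopologicalSpace Opposite CategoryTheory.Limits in
/-- Let F be an abelian sheaf on X and U_i a family of opens with union U. Assume that for every union
U' of opens of the form U_{i_0} ∩ ... ∩ U_{i_p} the restriction map F(U) -> F(U') is surjective.
Then the Cech cohomology of F with respect to the family vanishes in all positive degrees. -/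
theorem result {X : TopCat.{u}} (F : CohTop.Ab X)
    {ι : Type u} (U : ι → Opens X)
    (h : ∀ (κ : Type u) (a : κ → Σ p : ℕ, Fin (p + 1) → ι),
      Function.Surjective (F.obj.map (homOfLE
        (iSup_le fun k => (iInf_le _ ⟨0, Nat.succ_pos _⟩).trans (le_iSup U ((a k).2 ⟨0, Nat.succ_pos _⟩)) :
          (⨆ k, ⨅ j, U ((a k).2 j)) ≤ iSup U)).op)) (p : ℕ) :
    IsZero (CohTop.cechH F.obj U (p + 1)) := by
  let 𝒮 : Set (Opens X) := {V | ∃ (κ : Type u) (a : κ → Σ q : ℕ, Fin (q + 1) → ι), V = ⨆ k, ⨅ j, U ((a k).2 j)}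
  refine Groth.Agent.TopCoh49.isZero_cechH_of_surjective U F 𝒮 ?_ ?_ ?_ ?_ p
  · rintro _ ⟨κ₁, a, rfl⟩ _ ⟨κ₂, b, rfl⟩
    refine ⟨κ₁ × κ₂, fun k => ⟨(a k.1).1 + (b k.2).1 + 1, fun j =>
      Fin.append (a k.1).2 (b k.2).2 (Fin.cast (by omega) j)⟩, ?_⟩
    rw [iSup_inf_iSup]
    refine iSup_congr fun k => ?_
    dsimp only
    apply le_antisymm
    · refine le_iInf fun j => ?_
      generalize Fin.cast _ j = j'
      induction j' using Fin.addCases with
      | left i => rw [Fin.append_left]; exact inf_le_left.trans (iInf_le _ i)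
      | right i => rw [Fin.append_right]; exact inf_le_right.trans (iInf_le _ i)
    · refine le_inf (le_iInf fun i => ?_) (le_iInf fun i => ?_)
      · refine (iInf_le _ (Fin.cast (by omega) (Fin.castAdd ((b k.2).1 + 1) i))).trans ?_
        rw [Fin.cast_cast, Fin.cast_eq_self, Fin.append_left]
      · refine (iInf_le _ (Fin.cast (by omega) (Fin.natAdd ((a k.1).1 + 1) i))).trans ?_
        rw [Fin.cast_cast, Fin.cast_eq_self, Fin.append_right]
  · intro T hT
    choose κ a ha using fun V : T => hT V.2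
    refine ⟨Σ V : T, κ V, fun k => a k.1 k.2, ?_⟩
    rw [sSup_eq_iSup', iSup_sigma]
    exact iSup_congr ha
  · intro i
    exact ⟨PUnit, fun _ => ⟨0, fun _ => i⟩, by rw [iSup_const]; dsimp only; rw [iInf_const]⟩
  · rintro V ⟨κ, a, rfl⟩ V' hV' hle hle' s
    obtain ⟨t, ht⟩ := h κ a s
    refine ⟨F.obj.map (homOfLE hle').op t, ?_⟩
    rw [← ConcreteCategory.comp_apply, ← F.obj.map_comp]
    exact ht

end Groth.Agent.S0901
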