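import Groth.Statements.S0907
import Groth.Agent.Hyper50.ExistBig
import Groth.Agent.Hyper50.IffHyp

set_option autoImplicit false
universe u
open CategoryTheory
open Hyper

namespace Groth.Agent.S0907

open TopologicalSpace Opposite CategoryTheory.Limits in
/-- Phrased in the site of opens of X, with X the top open: let B be a basis for the topology of X. Then
there is a hypercovering K of X such that every open occurring in every K_n belongs to B. -/
theorem result {X : TopCat.{u}} (B : Set (Opens X)) (hB : Opens.IsBasis B)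
    [∀ (n : ℕ) (F : (SimplexCategory.Truncated n)ᵒᵖ ⥤ Limits.FormalCoproduct.{u} (Over (⊤ : Opens X))),
      (SimplexCategory.Truncated.inclusion n).op.HasRightKanExtension F] :
    ∃ K : SimplicialObject (FormalCoproduct.{u} (Over (⊤ : Opens X))),
      Hyper.IsHypercovering (Opens.grothendieckTopology X) ⊤ K ∧
      ∀ (n : ℕ) (i : (K.obj (op (SimplexCategory.mk n))).I),
        ((K.obj (op (SimplexCategory.mk n))).obj i).left ∈ B := by
  obtain ⟨K, hK, hP⟩ := Groth.Agent.Hyper50.exists_isHyp ((Opens.grothendieckTopology X).over ⊤)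
    (fun W => W.left ∈ B)
    (Groth.Agent.Hyper50.over_cover (Opens.grothendieckTopology X) ⊤ B fun U => by
      refine ⟨Sieve.ofArrows (fun W : {W : Opens X // W ∈ B ∧ W ≤ U} => W.1) (fun W => homOfLE W.2.2),
        fun x hx => ?_, fun V g hg => ?_⟩
      · obtain ⟨W, hW, hxW, hWU⟩ := Opens.isBasis_iff_nbhd.1 hB hx
        exact ⟨W, homOfLE hWU, Sieve.ofArrows_mk _ _ (⟨W, hW, hWU⟩ : {W : Opens X // W ∈ B ∧ W ≤ U}), hxW⟩
      · rw [Sieve.mem_ofArrows_iff] at hg
        obtain ⟨W, a, ha⟩ := hg
        exact ⟨W.1, a, _, W.2.1, ha.symm⟩)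
  exact ⟨K, (Groth.Agent.Hyper50.isHypercovering_iff _ _ K).2 hK, fun n i => hP _ i⟩

end Groth.Agent.S0907
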