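import Groth.Statements.S0919
import Mathlib.CategoryTheory.Adjunction.AdjointFunctorTheorems
import Mathlib.CategoryTheory.Abelian.GrothendieckCategory.Subobject

set_option autoImplicit false
universe v u
open CategoryTheory
open CohDer

namespace Groth.Agent.S0919
open CategoryTheory.Limits Opposite

open CategoryTheory.Limits in
/-- Let A be a Grothendieck abelian category and F a contravariant functor from A to sets (a functor on
the opposite category). Then F is representable if and only if F turns all small colimits of A into
limits, i.e. preserves small limits as a functor on the opposite category. -/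
theorem result {A : Type u} [Category.{v} A] [Abelian A]
    [IsGrothendieckAbelian.{v} A] (F : Aᵒᵖ ⥤ Type v) :
    F.IsRepresentable ↔ PreservesLimitsOfSize.{v, v} F := by
  constructor
  · intro h
    infer_instance
  · intro h
    have hP : (ObjectProperty.singleton (op (separator A))).IsCoseparating :=
      (isCoseparator_op_iff (separator A)).2 (isSeparator_separator A)
    have : F.IsRightAdjoint := isRightAdjoint_of_preservesLimits_of_isCoseparating hP F
    let adj := Adjunction.ofIsRightAdjoint F
    let e : ∀ T : Type v, (PUnit.{v+1} ⟶ T) ≃ T := fun T =>
      { toFun := fun f => f PUnit.unit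
        invFun := fun x => TypeCat.ofHom fun _ => x
        left_inv := fun f => rfl
        right_inv := fun x => rfl }
    exact ⟨_, ⟨{
      homEquiv := fun {X} => ((opEquiv _ (op X)).symm.trans
        (adj.homEquiv PUnit.{v+1} (op X))).trans (e _)
      homEquiv_comp := fun {X Y} f g => by
        change (adj.homEquiv _ _ (g.op ≫ f.op)) PUnit.unit = _
        rw [Adjunction.homEquiv_naturality_right]
        rfl }⟩⟩

end Groth.Agent.S0919
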