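import Groth.Statements.S0923
import Groth.Agent.DCX42.Perfect
import Groth.Agent.QC70.ExtCoh

set_option autoImplicit false
universe u
open CategoryTheory
attribute [local instance] HasDerivedCategory.standard
open DCoh

namespace Groth.Agent.S0923

open AlgebraicGeometry CategoryTheory.Limits in
/-- On a scheme X, an object E of D(𝒪_X) is perfect if and only if every point has an open neighbourhood
V such that the restriction to V of any complex representing E is isomorphic in D(𝒪_V) to a bounded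
complex each of whose terms is isomorphic to a finite free 𝒪_V-module. (The published statement is
for ringed spaces whose stalks are local rings and lists further equivalent conditions; here X is a
scheme and only this equivalence is stated.) -/
theorem result {X : Scheme.{u}} (E : DCoh.D X) :
    DCoh.IsPerfect E ↔ ∀ x : X, ∃ V : X.Opens, x ∈ V ∧
      ∀ F : CochainComplex X.Modules ℤ, Nonempty (DCoh.toD X F ≅ E) →
        ∃ (P : CochainComplex (V : Scheme.{u}).Modules ℤ) (a b : ℤ), DCoh.VanishesOutside P a b ∧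
          (∀ i : ℤ, ∃ n : ℕ, Nonempty (P.X i ≅ FlatMod.freeMod (V : Scheme.{u}) n)) ∧
          Nonempty (DerivedCategory.Q.obj ((DCoh.restrictCx V).obj F) ≅ DerivedCategory.Q.obj P) := by
  rw [DCX42.isPerfect_iff]
  refine ⟨fun h x => ?_, fun h x => ?_⟩
  · obtain ⟨V, hx, P₀, hP₀, ⟨e⟩⟩ := h x
    obtain ⟨W, hxW, hW⟩ := DCX42.exists_termFree hP₀ ⟨x, hx⟩
    obtain ⟨T, hxT, P, a, b, hv, hf, ⟨e'⟩⟩ := DCX42.exists_open_of_pieces
      (P := fun {S} A => ∃ (P : CochainComplex S.Modules ℤ) (a b : ℤ), DCoh.VanishesOutside P a b ∧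
        DCX42.IsTermFree P ∧ Nonempty (A ≅ DerivedCategory.Q.obj P))
      (fun ⟨P, a, b, hv, hf, ⟨i⟩⟩ k => ⟨P, a, b, hv, hf, ⟨k.symm ≪≫ i⟩⟩)
      (fun j _ ⟨P, a, b, hv, hf, ⟨i⟩⟩ => ⟨(DCX42.resCx j).obj P, a, b,
        fun k hk => (Scheme.Modules.restrictFunctor j).map_isZero (hv k hk), hf.restrict j,
        ⟨(DCX42.resD j).mapIso i ≪≫ DCX42.resQ j P⟩⟩) E V W hx hxW (by
          obtain ⟨a, b, hv⟩ := hP₀.1
          exact ⟨(DCX42.resCx W.ι).obj P₀, a, b,
            fun k hk => (Scheme.Modules.restrictFunctor W.ι).map_isZero (hv k hk), hW,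
            ⟨(DCX42.resD W.ι).mapIso e ≪≫ DCX42.resQ W.ι P₀⟩⟩)
    exact ⟨T, hxT, fun F ⟨i⟩ => ⟨P, a, b, hv, hf,
      ⟨(DCX42.resQ T.ι F).symm ≪≫ (DCX42.resD T.ι).mapIso i ≪≫ e'⟩⟩⟩
  · obtain ⟨V, hx, hV⟩ := h x
    obtain ⟨P, a, b, hv, hf, ⟨i⟩⟩ := hV _ ⟨DCX42.rep E⟩
    refine ⟨V, hx, P, ⟨⟨a, b, hv⟩, fun k => ?_⟩,
      ⟨(DCX42.resD V.ι).mapIso (DCX42.rep E).symm ≪≫ DCX42.resQ V.ι _ ≪≫ i⟩⟩
    obtain ⟨n, ⟨k'⟩⟩ := hf k
    exact DCX42.isFinLocFree_of_iso k'.symm (QC70.isFinLocFree_freeMod _ n)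

end Groth.Agent.S0923
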