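import Groth.Statements.S0926
import Groth.Agent.TopCoh49.Irred
import Mathlib.CategoryTheory.Subobject.Limits
import Mathlib.RingTheory.Int.Basic
import Mathlib.GroupTheory.Archimedean
import Mathlib.Algebra.Group.Subgroup.ZPowers.Basic

set_option autoImplicit false
universe u
open CategoryTheory
open CohTop

namespace Groth.Agent.S0926

open Opposite

open TopologicalSpace CategoryTheory.Limits in
/-- Let X be an irreducible topological space and H an abelian subsheaf of the constant sheaf Z (given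
by a monomorphism ι). Then there are a nonempty open U and an integer d such that over U the
subsheaf H coincides with the image of multiplication by d on the constant sheaf: the images of ι|_U
and of (d · id)|_U agree as subobjects of the constant sheaf on U. -/
theorem result {X : TopCat.{u}} [IrreducibleSpace X]
    (H : CohTop.Ab X) (ι : H ⟶ CohTop.const X (ULift.{u} ℤ)) [Mono ι] :
    ∃ (U : Opens X) (d : ℤ), U ≠ ⊥ ∧
      imageSubobject ((CohTop.restrFunctor U).map ι) =
        imageSubobject ((CohTop.restrFunctor U).map (d • 𝟙 (CohTop.const X (ULift.{u} ℤ)))) := by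
  classical
  let C := CohTop.const X (ULift.{u} ℤ)
  let T := Groth.Agent.TopCoh49.toIrr (X := X) (ULift.{u} ℤ)
  let val : ∀ (V : Opens X), (V : Set X).Nonempty → (C.obj.obj (op V) →+ ℤ) := fun V hV =>
    AddMonoidHom.mk' (fun c => ((T.hom.app (op V) c : PLift (V : Set X).Nonempty → ULift.{u} ℤ) ⟨hV⟩).down)
      (fun a b => congrArg (fun s : PLift (V : Set X).Nonempty → ULift.{u} ℤ => (s ⟨hV⟩).down) (map_add (T.hom.app (op V)).hom a b))
  have val_res : ∀ {V W : Opens X} (i : W ≤ V) (hW : (W : Set X).Nonempty) (c : C.obj.obj (op V)),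
      val W hW (C.obj.map (homOfLE i).op c) = val V (hW.mono i) c := fun {V W} i hW c =>
    congrArg (fun s : PLift (W : Set X).Nonempty → ULift.{u} ℤ => (s ⟨hW⟩).down)
      (ConcreteCategory.congr_hom (T.hom.naturality (homOfLE i).op) c)
  have val_inj : ∀ (V : Opens X) (c c' : C.obj.obj (op V)),
      (∀ hV, val V hV c = val V hV c') → c = c' := by
    intro V c c' h
    refine Function.LeftInverse.injective (g := (Groth.Agent.TopCoh49.fromIrr (X := X) (ULift.{u} ℤ)).hom.app (op V))
      (fun z => ConcreteCategory.congr_hom (NatTrans.congr_app (congrArg (fun φ => φ.hom)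
        (Groth.Agent.TopCoh49.toIrr_fromIrr (X := X) (ULift.{u} ℤ))) (op V)) z) ?_
    funext hV
    exact ULift.down_injective (h hV.down)
  let sec : ∀ (V : Opens X), H.obj.obj (op V) →+ C.obj.obj (op V) := fun V => (ι.hom.app (op V)).hom
  have sec_res : ∀ {V W : Opens X} (i : W ≤ V) (h : H.obj.obj (op V)),
      sec W (H.obj.map (homOfLE i).op h) = C.obj.map (homOfLE i).op (sec V h) :=
    fun i h => ConcreteCategory.congr_hom (ι.hom.naturality (homOfLE i).op) h
  let K : AddSubgroup ℤ :=
    { carrier := {z | ∃ (V : Opens X) (hV : (V : Set X).Nonempty) (h : H.obj.obj (op V)), val V hV (sec V h) = z}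
      zero_mem' := ⟨⊤, ⟨Classical.arbitrary X, trivial⟩, 0, by simp⟩
      add_mem' := by
        rintro _ _ ⟨V, hV, h, rfl⟩ ⟨W, hW, h', rfl⟩
        obtain ⟨x, -, hx₁, hx₂⟩ := (IrreducibleSpace.isIrreducible_univ X).isPreirreducible _ _ V.2 W.2
          (by simpa using hV) (by simpa using hW)
        exact ⟨V ⊓ W, ⟨x, hx₁, hx₂⟩, H.obj.map (homOfLE (inf_le_left : V ⊓ W ≤ V)).op h +
          H.obj.map (homOfLE (inf_le_right : V ⊓ W ≤ W)).op h', by
          rw [map_add, map_add, sec_res, sec_res]; exact congrArg₂ (· + ·) (val_res _ _ _) (val_res _ _ _)⟩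
      neg_mem' := by
        rintro _ ⟨V, hV, h, rfl⟩
        exact ⟨V, hV, -h, by simp⟩ }
  obtain ⟨d, hd⟩ := Int.subgroup_cyclic K
  obtain ⟨U, hU, h₀, hh₀⟩ := (hd ▸ AddSubgroup.subset_closure (Set.mem_singleton d) : d ∈ K)
  have hdvd : ∀ (V : Opens X) (hV : (V : Set X).Nonempty) (h : H.obj.obj (op V)), d ∣ val V hV (sec V h) := by
    intro V hV h
    have : val V hV (sec V h) ∈ AddSubgroup.closure ({d} : Set ℤ) := hd ▸ (⟨V, hV, h, rfl⟩ : _ ∈ K)
    obtain ⟨k, hk⟩ := AddSubgroup.mem_closure_singleton.1 this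
    exact ⟨k, by rw [← hk, smul_eq_mul, mul_comm]⟩
  refine ⟨U, d, fun e => ?_, ?_⟩
  · obtain ⟨x, hx⟩ := hU
    rw [e] at hx
    exact hx
  have hle : ∀ W : Opens (TopCat.of U), Groth.Agent.TopCoh49.imOpen U W ≤ U := by
    rintro W _ ⟨z, -, rfl⟩
    exact z.2
  let aV : ∀ (V : Opens X), V ≤ U → (C.obj.obj (op V) →+ H.obj.obj (op V)) := fun V hVU =>
    if hV : (V : Set X).Nonempty then
      AddMonoidHom.mk' (fun c => val V hV c • H.obj.map (homOfLE hVU).op h₀)
        (fun c c' => by rw [map_add, add_smul])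
    else 0
  let bV : ∀ (V : Opens X), (H.obj.obj (op V) →+ C.obj.obj (op V)) := fun V =>
    if hV : (V : Set X).Nonempty then
      AddMonoidHom.mk' (fun h => C.obj.map (homOfLE le_top).op
        (Groth.Agent.TopCoh49.constSec (X := X) (ULift.{u} ℤ) ⟨val V hV (sec V h) / d⟩)) (fun h h' => by
        simp only [map_add, Int.add_ediv_of_dvd_left (hdvd _ hV h)]
        exact (congrArg _ (map_add (Groth.Agent.TopCoh49.constSec (X := X) (ULift.{u} ℤ)).hom
          (⟨val V hV (sec V h) / d⟩ : ULift.{u} ℤ) (⟨val V hV (sec V h') / d⟩ : ULift.{u} ℤ))).trans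
          (map_add _ _ _))
    else 0
  have aV_eq : ∀ (V : Opens X) (hVU : V ≤ U) (hV : (V : Set X).Nonempty) (c : C.obj.obj (op V)),
      aV V hVU c = val V hV c • H.obj.map (homOfLE hVU).op h₀ := fun V hVU hV c => by
    simp only [aV, dif_pos hV]
    rfl
  have bV_eq : ∀ (V : Opens X) (hV : (V : Set X).Nonempty) (h : H.obj.obj (op V)),
      bV V h = C.obj.map (homOfLE le_top).op
        (Groth.Agent.TopCoh49.constSec (X := X) (ULift.{u} ℤ) ⟨val V hV (sec V h) / d⟩) := fun V hV h => by
    simp only [bV, dif_pos hV]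
    rfl
  have bot_sub : ∀ (G : CohTop.Ab X) (V : Opens X), ¬(V : Set X).Nonempty → Subsingleton (G.obj.obj (op V)) :=
    fun G V hV => by
      have he : V = ⊥ := eq_bot_iff.2 fun x hx => (hV ⟨x, hx⟩).elim
      exact he ▸ Groth.Agent.TopCoh49.subsingleton_sections_bot G
  let a : CohTop.restr C U ⟶ CohTop.restr H U :=
    ⟨{ app := fun W => AddCommGrpCat.ofHom (aV (Groth.Agent.TopCoh49.imOpen U W.unop) (hle W.unop))
       naturality := fun W W' i => by
        ext c
        have hle' : Groth.Agent.TopCoh49.imOpen U W'.unop ≤ Groth.Agent.TopCoh49.imOpen U W.unop :=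
          Set.image_mono (leOfHom i.unop)
        change aV _ _ (C.obj.map (homOfLE hle').op c) = H.obj.map (homOfLE hle').op (aV _ _ c)
        by_cases hW : (Groth.Agent.TopCoh49.imOpen U W'.unop : Set X).Nonempty
        · refine (aV_eq _ _ hW _).trans ?_
          refine Eq.trans ?_ (congrArg _ (aV_eq _ (hle W.unop) (hW.mono hle') c)).symm
          rw [map_zsmul]
          exact congrArg₂ (fun (n : ℤ) x => n • x) (val_res hle' hW c)
            (Groth.Agent.TopCoh49.rs_rs H.obj (hle W.unop) hle' h₀).symm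
        · exact (bot_sub H _ hW).elim _ _ }⟩
  let b : CohTop.restr H U ⟶ CohTop.restr C U :=
    ⟨{ app := fun W => AddCommGrpCat.ofHom (bV (Groth.Agent.TopCoh49.imOpen U W.unop))
       naturality := fun W W' i => by
        ext h
        have hle' : Groth.Agent.TopCoh49.imOpen U W'.unop ≤ Groth.Agent.TopCoh49.imOpen U W.unop :=
          Set.image_mono (leOfHom i.unop)
        change bV _ (H.obj.map (homOfLE hle').op h) = C.obj.map (homOfLE hle').op (bV _ h)
        by_cases hW : (Groth.Agent.TopCoh49.imOpen U W'.unop : Set X).Nonempty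
        · refine (bV_eq _ hW _).trans ?_
          refine Eq.trans ?_ (congrArg _ (bV_eq _ (hW.mono hle') h)).symm
          refine (congrArg (fun n : ℤ => C.obj.map (homOfLE le_top).op
            (Groth.Agent.TopCoh49.constSec (X := X) (ULift.{u} ℤ) ⟨n / d⟩))
            ((congrArg _ (sec_res hle' h)).trans (val_res hle' hW _))).trans ?_
          exact (Groth.Agent.TopCoh49.rs_rs C.obj le_top hle' _).symm
        · exact (bot_sub C _ hW).elim _ _ }⟩
  have hval_const : ∀ (V : Opens X) (hV : (V : Set X).Nonempty) (n : ℤ),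
      val V hV (C.obj.map (homOfLE le_top).op (Groth.Agent.TopCoh49.constSec (X := X) (ULift.{u} ℤ) ⟨n⟩)) = n :=
    fun V hV n => (val_res le_top hV _).trans (congrArg (fun s : PLift ((⊤ : Opens X) : Set X).Nonempty → ULift.{u} ℤ =>
      (s ⟨hV.mono (fun _ _ => trivial)⟩).down) (Groth.Agent.TopCoh49.toIrr_constSec (ULift.{u} ℤ) ⟨n⟩))
  have ha : a ≫ (CohTop.restrFunctor U).map ι = (CohTop.restrFunctor U).map (d • 𝟙 C) := by
    ext W c
    refine val_inj _ _ _ fun hV => ?_
    change val _ hV (sec _ (aV _ _ c)) = val _ hV (d • c)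
    have hV' : (Groth.Agent.TopCoh49.imOpen U W.unop : Set X).Nonempty := hV
    change val (Groth.Agent.TopCoh49.imOpen U W.unop) hV' (sec _ (aV _ (hle W.unop) c)) = val _ hV' (d • c)
    refine (congrArg (fun z => val _ hV' (sec _ z)) (aV_eq _ (hle W.unop) hV' c)).trans ?_
    rw [map_zsmul, map_zsmul]
    refine Eq.trans ?_ (map_zsmul (val (Groth.Agent.TopCoh49.imOpen U W.unop) hV') d c).symm
    refine (congrArg (_ • ·) ((congrArg _ (sec_res (hle W.unop) h₀)).trans (val_res (hle W.unop) hV' _))).trans ?_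
    rw [smul_eq_mul, smul_eq_mul, mul_comm]
    exact congrArg (· * _) hh₀
  have hb : b ≫ (CohTop.restrFunctor U).map (d • 𝟙 C) = (CohTop.restrFunctor U).map ι := by
    ext W h
    refine val_inj _ _ _ fun hV => ?_
    have hV' : (Groth.Agent.TopCoh49.imOpen U W.unop : Set X).Nonempty := hV
    change val (Groth.Agent.TopCoh49.imOpen U W.unop) hV' (d • (bV _ h)) = val _ hV' (sec _ h)
    refine (map_zsmul (val (Groth.Agent.TopCoh49.imOpen U W.unop) hV') d _).trans ?_
    refine (congrArg (d • ·) ((congrArg _ (bV_eq _ hV' h)).trans (hval_const _ hV' _))).trans ?_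
    rw [smul_eq_mul, Int.mul_ediv_cancel' (hdvd _ hV' h)]
  refine le_antisymm (imageSubobject_le _ (b ≫ factorThruImageSubobject _) ?_)
    (imageSubobject_le _ (a ≫ factorThruImageSubobject _) ?_)
  · rw [Category.assoc, imageSubobject_arrow_comp, hb]
  · rw [Category.assoc, imageSubobject_arrow_comp, ha]

end Groth.Agent.S0926
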