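import Groth.Statements.S0927
import Groth.Agent.Formal27.QuasiAffine
import Groth.Agent.EGA73.Tensor
import Groth.Agent.Cyc90.Dev.DualPull
import Groth.Agent.RB70.PushHom
import Groth.Agent.Mod48.DerivedPrecomp
import Groth.Agent.Mod48.LocalCohIso
import Groth.Agent.Strict99.Basic
import Groth.Prelude.Def_PicGrp

set_option autoImplicit false
set_option maxSynthPendingDepth 6
set_option linter.style.haveILetI false
set_option backward.isDefEq.respectTransparency.types false
universe u
open CategoryTheory
open Coh

namespace Groth.Agent.S0927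

open AlgebraicGeometry CategoryTheory.Limits in
/-- Projection formula, for schemes and one degree at a time: let f : X → Y be a morphism of schemes, F
an O_X-module and E a finite locally free O_Y-module. Then for every q the O_Y-module E ⊗ R^q f_* F
is isomorphic to R^q f_* (f^* E ⊗ F). The higher direct images are the right derived functors of
f_*, under the instance argument recording that O_X-modules have injective resolutions. (The
published statement treats ringed spaces and also gives a version for bounded-below complexes.) -/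
theorem result {X Y : Scheme.{u}} (f : X ⟶ Y) [HasInjectiveResolutions X.Modules]
    (F : X.Modules) (E : Y.Modules) (hE : FlatMod.IsFinLocFree E) (q : ℕ) :
    Nonempty (CohB1.tensorMod E ((Coh.Rpush f q).obj F) ≅
      (Coh.Rpush f q).obj (CohB1.tensorMod ((Scheme.Modules.pullback f).obj E) F)) := by
  have hA := Groth.Agent.Formal27.isFinLocFree_dualMod hE
  let A' : X.Modules := (Scheme.Modules.pullback f).obj (QC70.dualMod E)
  have hA' : FlatMod.IsFinLocFree A' := Groth.Agent.Strict99.isFinLocFree_pullback f hA
  let T := Groth.Agent.QC70.homFunctor (Groth.Agent.QC70.dualMod E)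
  let T' := Groth.Agent.QC70.homFunctor A'
  haveI : T.Additive := (Groth.Agent.QC70.homModAdj _).right_adjoint_additive
  haveI : T'.Additive := (Groth.Agent.QC70.homModAdj _).right_adjoint_additive
  haveI : T.PreservesHomology := Groth.Agent.QC70.preservesHomology_homFunctor hA
  haveI : T'.PreservesHomology := Groth.Agent.QC70.preservesHomology_homFunctor hA'
  haveI : Limits.PreservesFiniteLimits T' := T'.preservesFiniteLimits_of_preservesHomology
  haveI : Limits.PreservesFiniteColimits T' := T'.preservesFiniteColimits_of_preservesHomology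
  let P := Scheme.Modules.pushforward f
  let e : (Coh.Rpush f q).obj (T'.obj F) ≅ T.obj ((Coh.Rpush f q).obj F) :=
    ((Groth.Agent.Mod48.rightDerivedPrecompIso T'
      (fun I hI => @Groth.Agent.QC70.injective_homMod X A' hA' I hI) P q).app F).symm ≪≫
      (Groth.Agent.Mod48.rightDerivedNatIso (Groth.Agent.RB70.pushHom f (Groth.Agent.QC70.dualMod E)) q).app F ≪≫
      (Groth.Agent.SiteCoh.rightDerivedCompExactIso P T q).app F
  haveI := Groth.Agent.Formal27.isIso_bidual hE
  haveI := Groth.Agent.Cyc90.Dev.isIso_dualPullHom f hA
  let d : Groth.Agent.QC70.dualMod A' ≅ (Scheme.Modules.pullback f).obj E :=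
    (asIso (Groth.Agent.Cyc90.Dev.dualPullHom f hA)).symm ≪≫
      (Scheme.Modules.pullback f).mapIso (asIso (Groth.Agent.Formal27.bidual E)).symm
  obtain ⟨t⟩ := Groth.Agent.QC70.nonempty_tensor_dual_iso hA ((Coh.Rpush f q).obj F)
  obtain ⟨t'⟩ := Groth.Agent.QC70.nonempty_tensor_dual_iso hA' F
  exact ⟨Groth.Agent.EGA73.tensComm _ _ ≪≫
    PicGrp.tensorModIso (Iso.refl _) (asIso (Groth.Agent.Formal27.bidual E)) ≪≫ t ≪≫ e.symm ≪≫
    (Coh.Rpush f q).mapIso (t'.symm ≪≫ PicGrp.tensorModIso (Iso.refl F) d ≪≫ Groth.Agent.EGA73.tensComm _ _)⟩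

end Groth.Agent.S0927
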