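import Groth.Statements.S0928
import Groth.Agent.CohDer42.InjEmb
import Mathlib.CategoryTheory.Abelian.GrothendieckAxioms.Sheaf
import Mathlib.CategoryTheory.Abelian.GrothendieckAxioms.FunctorCategory
import Mathlib.Algebra.Category.Grp.AB
import Mathlib.CategoryTheory.Generator.Presheaf

set_option autoImplicit false
universe u
open CategoryTheory
open CohDer

namespace Groth.Agent.S0928
open CategoryTheory.Limits Groth.Agent.CohDer42

/-- On a small category C the category of presheaves of abelian groups has functorial injective
embeddings: there are an endofunctor J of the presheaf category and a natural transformation from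
the identity to J with each component a monomorphism into an injective presheaf. -/
theorem result {C : Type u} [SmallCategory C] :
    ∃ (J : (Cᵒᵖ ⥤ AddCommGrpCat.{u}) ⥤ (Cᵒᵖ ⥤ AddCommGrpCat.{u})) (j : 𝟭 _ ⟶ J),
      ∀ F : Cᵒᵖ ⥤ AddCommGrpCat.{u}, Injective (J.obj F) ∧ Mono (j.app F) := by
  have : HasSeparator (Cᵒᵖ ⥤ AddCommGrpCat.{u}) := by infer_instance
  have : AB5OfSize.{u, u} (Cᵒᵖ ⥤ AddCommGrpCat.{u}) := ⟨fun K _ _ => inferInstance⟩
  have : IsGrothendieckAbelian.{u} (Cᵒᵖ ⥤ AddCommGrpCat.{u}) := { }
  exact exists_functorial_injective_embedding _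

end Groth.Agent.S0928
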