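import Groth.Statements.S0930
import Groth.Agent.S12541
import Groth.Agent.TopCoh49.Rpush

set_option autoImplicit false
universe u
open CategoryTheory
attribute [local instance] HasDerivedCategory.standard
open CohTop

namespace Groth.Agent.S0930

/-- For continuous maps f : X -> Y and g : Y -> Z, the composite of the right derived functors Rf_* :
D^+(X) -> D^+(Y) and Rg_* : D^+(Y) -> D^+(Z) is isomorphic to R(g ∘ f)_* (existence of an
isomorphism of functors between bounded below derived categories). -/
theorem result {X Y Z : TopCat.{u}} (f : X ⟶ Y) (g : Y ⟶ Z) :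
    Nonempty ((CohTop.push f).rightDerivedFunctorPlus ⋙ (CohTop.push g).rightDerivedFunctorPlus ≅
      (CohTop.push (f ≫ g)).rightDerivedFunctorPlus) := by
    have hlim : ∀ {A B : TopCat.{u}} (k : A ⟶ B), Limits.PreservesFiniteLimits (CohTop.push k) := fun k =>
      haveI : Limits.PreservesLimitsOfSize.{0, 0} (CohTop.push k) :=
        (TopCat.Sheaf.pullbackPushforwardAdjunction AddCommGrpCat.{u} k).rightAdjoint_preservesLimits
      Limits.PreservesLimitsOfSize.preservesFiniteLimits _
    have := hlim f
    have := hlim g
    have h := Groth.Agent.S12541.result (CohTop.push f) (CohTop.push g) fun I hI => by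
      have := Groth.Agent.TopCoh49.injective_push f I hI
      exact (Groth.Agent.RFPlus43.isIso_unitK_iff (CohTop.push g) _).1
        (Groth.Agent.RFPlus43.isAc_of_injective (CohTop.push g) ((CohTop.push f).obj I))
    have key : ∀ (α : (CohTop.push f ⋙ CohTop.push g).mapHomotopyCategoryPlus ⋙ DerivedCategory.Plus.Qh ⟶
      DerivedCategory.Plus.Qh ⋙ (CohTop.push f).rightDerivedFunctorPlus ⋙ (CohTop.push g).rightDerivedFunctorPlus),
      ((CohTop.push f).rightDerivedFunctorPlus ⋙ (CohTop.push g).rightDerivedFunctorPlus).IsRightDerivedFunctor α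
        (HomotopyCategory.Plus.quasiIso _) →
      Nonempty ((CohTop.push f).rightDerivedFunctorPlus ⋙ (CohTop.push g).rightDerivedFunctorPlus ≅
        (CohTop.push f ⋙ CohTop.push g).rightDerivedFunctorPlus) := fun α hα =>
      ⟨Functor.rightDerivedUnique _ _ α (CohTop.push f ⋙ CohTop.push g).rightDerivedFunctorPlusUnit
        (HomotopyCategory.Plus.quasiIso _)⟩
    exact key _ h

end Groth.Agent.S0930
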