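import Groth.Statements.S0931
import Groth.Agent.Fib44.DerivedPoints
import Groth.Agent.SiteCoh.Free
import Mathlib.CategoryTheory.Sites.Limits

set_option autoImplicit false
universe u
open CategoryTheory
open CohSite

namespace Groth.Agent.S0931

open CategoryTheory.Limits Opposite Groth.Agent.Fib44

variable {C : Type u} [SmallCategory C] {J : GrothendieckTopology C}
  [HasDerivedCategory.{u} (Sheaf J AddCommGrpCat.{u})]
  (K : DerivedCategory (Sheaf J AddCommGrpCat.{u})) (q : ℤ)

/-- The identification of the shifted zeroth cohomology. -/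
noncomputable def shH : (DerivedCategory.homologyFunctor (Sheaf J AddCommGrpCat.{u}) 0).obj
    ((shiftFunctor (DerivedCategory (Sheaf J AddCommGrpCat.{u})) q).obj K) ≅ CohCx.HD K q :=
  ((DerivedCategory.homologyFunctor (Sheaf J AddCommGrpCat.{u}) 0).shiftIso q 0 q (by simp)).app K

/-- The section attached to a morphism. -/
noncomputable def secθ {V : C}
    (φ : DPoints.pt (CohCx.freeSheaf J V) ⟶ (shiftFunctor (DerivedCategory (Sheaf J AddCommGrpCat.{u})) q).obj K) :
    (CohCx.HD K q).obj.obj (op V) :=
  SiteCoh.homAddEquivSec V (CohCx.HD K q) (DPoints.θ φ ≫ (shH K q).hom)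

lemma secθ_res {V W : C} (g : W ⟶ V)
    (φ : DPoints.pt (CohCx.freeSheaf J V) ⟶ (shiftFunctor (DerivedCategory (Sheaf J AddCommGrpCat.{u})) q).obj K) :
    secθ K q (DerivedCategory.Q.map (DPoints.S0.map (CohCx.freeSheafMap J g)) ≫ φ) =
      (CohCx.HD K q).obj.map g.op (secθ K q φ) := by
  rw [secθ, secθ, DPoints.θ_pre, Category.assoc, SiteCoh.homAddEquivSec_freeSheafMap_comp]

/-- The comparison map of presheaves. -/
noncomputable def cmp : CohCx.HDUPresheaf K q ⟶ (CohCx.HD K q).obj where
  app V := AddCommGrpCat.ofHom (AddMonoidHom.mk' (fun φ => secθ K q (V := V.unop) φ) fun φ ψ => by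
    change secθ K q (V := V.unop) (φ + ψ) = _
    simp only [secθ]
    erw [DPoints.θ_add]
    rw [Preadditive.add_comp, map_add])
  naturality V W g := by
    ext φ
    exact secθ_res K q g.unop φ

lemma cmp_locallySurjective : Presheaf.IsLocallySurjective J (cmp K q) where
  imageSieve_mem {V} s := by
    obtain ⟨P', p, hp, φ, hφ⟩ := DPoints.exists_lift
      ((SiteCoh.homAddEquivSec V (CohCx.HD K q)).symm s ≫ (shH K q).inv)
    have : Sheaf.IsLocallySurjective p := (Sheaf.isLocallySurjective_iff_epi' AddCommGrpCat.{u} p).2 hp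
    refine J.superset_covering (fun W g hg => ?_) (Presheaf.imageSieve_mem J p.hom (SiteCoh.freeSec J V))
    obtain ⟨t, ht⟩ := hg
    have hcomp : (SiteCoh.homAddEquivSec W P').symm t ≫ p = CohCx.freeSheafMap J g := by
      apply (SiteCoh.homAddEquivSec W _).injective
      rw [SiteCoh.homAddEquivSec_comp, AddEquiv.apply_symm_apply]
      refine ht.trans ?_
      rw [SiteCoh.homAddEquivSec_apply, SiteCoh.freeSheafMap_freeSec]
    refine ⟨DerivedCategory.Q.map (DPoints.S0.map ((SiteCoh.homAddEquivSec W P').symm t)) ≫ φ, ?_⟩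
    change secθ K q _ = _
    simp only [secθ]
    refine (congrArg (fun e => SiteCoh.homAddEquivSec W (CohCx.HD K q) (e ≫ (shH K q).hom))
      (DPoints.θ_pre ((SiteCoh.homAddEquivSec W P').symm t) φ)).trans ?_
    rw [hφ, reassoc_of% hcomp]
    simp only [Category.assoc, Iso.inv_hom_id, Category.comp_id]
    rw [SiteCoh.homAddEquivSec_freeSheafMap_comp, AddEquiv.apply_symm_apply]

lemma cmp_locallyInjective : Presheaf.IsLocallyInjective J (cmp K q) where
  equalizerSieve_mem {V} x y h := by
    let φ : DPoints.pt (CohCx.freeSheaf J V.unop) ⟶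
        (shiftFunctor (DerivedCategory (Sheaf J AddCommGrpCat.{u})) q).obj K := x - y
    have h0 : DPoints.θ φ = 0 := by
      rw [← cancel_mono (shH K q).hom, zero_comp]
      apply (SiteCoh.homAddEquivSec V.unop _).injective
      rw [map_zero]
      have : ((cmp K q).app V).hom (x - y) = 0 := by rw [map_sub]; exact sub_eq_zero.2 h
      exact this
    obtain ⟨P', p, hp, hk⟩ := DPoints.exists_kill φ h0
    have : Sheaf.IsLocallySurjective p := (Sheaf.isLocallySurjective_iff_epi' AddCommGrpCat.{u} p).2 hp
    refine J.superset_covering (fun W g hg => ?_)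
      (Presheaf.imageSieve_mem J p.hom (SiteCoh.freeSec J V.unop))
    obtain ⟨t, ht⟩ := hg
    have hcomp : (SiteCoh.homAddEquivSec W P').symm t ≫ p = CohCx.freeSheafMap J g := by
      apply (SiteCoh.homAddEquivSec W _).injective
      rw [SiteCoh.homAddEquivSec_comp, AddEquiv.apply_symm_apply]
      refine ht.trans ?_
      rw [SiteCoh.homAddEquivSec_apply, SiteCoh.freeSheafMap_freeSec]
    have h1 : DerivedCategory.Q.map (DPoints.S0.map (CohCx.freeSheafMap J g)) ≫ φ = 0 := by
      rw [← hcomp, Functor.map_comp, Functor.map_comp, Category.assoc, hk, comp_zero]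
    exact sub_eq_zero.1 ((Preadditive.comp_sub (DerivedCategory.Q.map (DPoints.S0.map (CohCx.freeSheafMap J g))) x y).symm.trans h1)

/-- Let K be an object of the derived category of abelian sheaves on a site and q an integer. Then the
sheafification of the presheaf U ↦ H^q(U, K) is isomorphic to the q-th cohomology sheaf H^q(K). -/
theorem result {C : Type u} [SmallCategory C] {J : GrothendieckTopology C}
    [HasDerivedCategory.{u} (Sheaf J AddCommGrpCat.{u})] (K : DerivedCategory (Sheaf J AddCommGrpCat.{u}))
    (q : ℤ) :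
    Nonempty ((presheafToSheaf J AddCommGrpCat.{u}).obj (CohCx.HDUPresheaf K q) ≅ CohCx.HD K q) := by
  have := cmp_locallyInjective K q
  have := cmp_locallySurjective K q
  have : IsIso ((presheafToSheaf J AddCommGrpCat.{u}).map (cmp K q)) :=
    (J.W_iff _).1 (J.W_of_isLocallyBijective _)
  exact ⟨asIso ((presheafToSheaf J AddCommGrpCat.{u}).map (cmp K q)) ≪≫
    (asIso (sheafificationAdjunction J AddCommGrpCat.{u}).counit).app (CohCx.HD K q)⟩

end Groth.Agent.S0931
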