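import Groth.Statements.S0934
import Groth.Agent.LF71.Restrict

set_option autoImplicit false
universe u
open CategoryTheory
open Coh

namespace Groth.Agent.S0934

open AlgebraicGeometry in
/-- Schemes; E finite locally free, which on a scheme is locally the same as a direct summand of a
finite free module: let p : G -> F be an epimorphism of O_X-modules and φ : E -> F a morphism with E
finite locally free. Then every point has an open neighbourhood V and a morphism ψ : E|_V -> G|_V
with ψ ≫ p|_V = φ|_V. -/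
theorem result {X : Scheme.{u}} {E F G : X.Modules} (p : G ⟶ F) [Epi p] (φ : E ⟶ F)
    (hE : FlatMod.IsFinLocFree E) (x : X) :
    ∃ (V : X.Opens) (ψ : E.restrict V.ι ⟶ G.restrict V.ι), x ∈ V ∧
      ψ ≫ (Scheme.Modules.restrictFunctor V.ι).map p = (Scheme.Modules.restrictFunctor V.ι).map φ := by
  obtain ⟨U, n, hxU, ⟨e⟩⟩ := hE x
  let g : ∀ _ : Fin n, Coh.structureModule U.toScheme ⟶ F.restrict U.ι := fun i =>
    Limits.Sigma.ι (fun _ : Fin n => Coh.structureModule U.toScheme) i ≫ e.inv ≫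
      (Scheme.Modules.restrictFunctor U.ι).map φ
  let s : Fin n → Γ(F, U.ι ''ᵁ ⊤) := fun i => (g i).app ⊤ (QC70.toUnit 1)
  have hxs : x ∈ U.ι ''ᵁ ⊤ := U.ι_image_top.ge hxU
  choose W hW t hxW ht using fun i => QC70.exists_local_lift p (s i) (p := x) hxs
  let V : X.Opens := U ⊓ ⨅ i, W i
  have hVU : V ≤ U := inf_le_left
  have hxV : x ∈ V := by
    refine ⟨hxU, ?_⟩
    have hopen : IsOpen (⋂ i, (W i : Set X)) := isOpen_iInter_of_finite fun i => (W i).2
    exact (le_iInf fun i y hy => Set.mem_iInter.1 hy i : (⟨_, hopen⟩ : X.Opens) ≤ ⨅ i, W i)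
      (Set.mem_iInter.2 hxW)
  let j := X.homOfLE hVU
  let R := Scheme.Modules.restrictFunctor j
  let η : Scheme.Modules.restrictFunctor V.ι ≅ Scheme.Modules.restrictFunctor U.ι ⋙ R :=
    Scheme.Modules.restrictFunctorCongr (X.homOfLE_ι hVU).symm ≪≫
      Scheme.Modules.restrictFunctorComp j U.ι
  have hle : ∀ i, U.ι ''ᵁ (j ''ᵁ ⊤) ≤ W i := fun i => by
    have e1 : U.ι ''ᵁ (j ''ᵁ ⊤) = V := by
      rw [← Scheme.Hom.comp_image]; simp [j]
    rw [e1]
    exact inf_le_right.trans (iInf_le _ i)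
  let tV : ∀ i, Γ(R.obj (G.restrict U.ι), ⊤) := fun i => QC70.res G (hle i) (t i)
  let ψ₀ : R.obj (E.restrict U.ι) ⟶ R.obj (G.restrict U.ι) :=
    R.map e.hom ≫ (LF71.restrictFree j n).hom ≫
      Limits.Sigma.desc (fun i => EGA73.unitHom (R.obj (G.restrict U.ι)) (tV i))
  have hψ₀ : ψ₀ ≫ R.map ((Scheme.Modules.restrictFunctor U.ι).map p) =
      R.map ((Scheme.Modules.restrictFunctor U.ι).map φ) := by
    rw [← cancel_epi (R.map e.inv), ← cancel_epi (LF71.restrictFree j n).inv]
    simp only [ψ₀, ← R.map_comp_assoc, Category.assoc, Iso.inv_hom_id, CategoryTheory.Functor.map_id,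
      Category.id_comp, Iso.inv_hom_id_assoc]
    refine Limits.Sigma.hom_ext _ _ fun i => ?_
    have hR : Limits.Sigma.ι (fun _ : Fin n => Coh.structureModule V.toScheme) i ≫
        (LF71.restrictFree j n).inv = (Scheme.Modules.restrictUnitIso j).inv ≫
          R.map (Limits.Sigma.ι (fun _ : Fin n => Coh.structureModule U.toScheme) i) := by
      rw [Iso.comp_inv_eq, Category.assoc, LF71.map_ι_restrictFree, Iso.inv_hom_id_assoc]
    rw [Limits.Sigma.ι_desc_assoc, reassoc_of% hR]
    simp only [← R.map_comp]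
    refine LF71.unit_hom_ext _ _ (Eq.trans ?_ (LF71.restrictUnitIso_inv_one j (g i)).symm)
    change p.app (U.ι ''ᵁ (j ''ᵁ ⊤)) ((EGA73.unitHom (R.obj (G.restrict U.ι)) (tV i)).app ⊤
      (QC70.toUnit 1)) = _
    rw [EGA73.unitHom_app]
    refine (congrArg (p.app (U.ι ''ᵁ (j ''ᵁ ⊤)))
      ((one_smul Γ(V.toScheme, ⊤) (QC70.res (R.obj (G.restrict U.ι)) le_top (tV i))).trans ?_)).trans
      ((QC70.app_res p (hle i) (t i)).trans ((congrArg _ (ht i)).trans ?_))
    · exact QC70.res_self (M := R.obj (G.restrict U.ι)) (tV i)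
    · exact QC70.res_res (hW i) (hle i) (s i)
  refine ⟨V, η.hom.app E ≫ ψ₀ ≫ η.inv.app G, hxV, ?_⟩
  have hn := η.inv.naturality p
  simp only [Category.assoc, Functor.comp_map] at hn ⊢
  rw [← hn, reassoc_of% hψ₀]
  have hn' := η.inv.naturality φ
  simp only [Functor.comp_map] at hn'
  rw [hn', ← Category.assoc, Iso.hom_inv_id_app, Category.id_comp]


end Groth.Agent.S0934
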