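import Groth.Statements.S0946
import Groth.Agent.TopCoh49.Continuity

set_option autoImplicit false
universe u
open CategoryTheory
open CohTop

namespace Groth.Agent.S0946

open TopologicalSpace Opposite CategoryTheory.Limits in
/-- Take a quasi-compact subset Z of a topological space X whose points are pairwise separated by
disjoint opens of X, and an abelian sheaf F on X. For every p the group H^p(Z, F|_Z) (cohomology of
the pullback of F to the subspace Z) is isomorphic to the colimit of the groups H^p(U, F) over the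
open neighbourhoods U of Z (existence of an isomorphism with the colimit of the cohomology presheaf
restricted to the opens containing Z). -/
theorem result {X : TopCat.{u}} (Z : Set X) (hZ : IsCompact Z)
    (hsep : ∀ x ∈ Z, ∀ y ∈ Z, x ≠ y → ∃ U V : Opens X, x ∈ U ∧ y ∈ V ∧ Disjoint U V)
    (F : CohTop.Ab X) (p : ℕ) :
    Nonempty ((colimit (ObjectProperty.ι (fun U : (Opens X)ᵒᵖ => Z ⊆ (U.unop : Set X)) ⋙
        (Sheaf.cohomologyPresheafFunctor (Opens.grothendieckTopology X) p).obj F) : AddCommGrpCat.{u}) ≃+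
      CohTop.H ((CohTop.pull (TopCat.ofHom ⟨Subtype.val, continuous_subtype_val⟩ : TopCat.of Z ⟶ X)).obj F) p) := by
  let i : TopCat.of Z ⟶ X := TopCat.ofHom ⟨Subtype.val, continuous_subtype_val⟩
  have : CompactSpace Z := isCompact_iff_compactSpace.1 hZ
  have hsepX : Groth.Agent.TopCoh49.SepPts Z := fun x hx y hy hxy => by
    obtain ⟨U, V, hxU, hyV, hd⟩ := hsep x hx y hy hxy
    exact Filter.disjoint_of_disjoint_of_mem (TopologicalSpace.Opens.coe_disjoint.2 hd) (U.2.mem_nhds hxU) (V.2.mem_nhds hyV)
  have hrange : Set.range i = Z := Subtype.range_coe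
  have : T2Space Z := t2Space_iff_disjoint_nhds.2 fun x y hxy => by
    simp only [nhds_induced]
    exact Filter.disjoint_comap (hsepX x x.2 y y.2 fun e => hxy (Subtype.ext e))
  have hc := Groth.Agent.TopCoh49.pullE_continuity_compact i Topology.IsEmbedding.subtypeVal (hrange.symm ▸ hsepX) p F
  let S := ObjectProperty.FullSubcategory (fun U : (Opens X)ᵒᵖ => Z ⊆ (U.unop : Set X))
  have : Nonempty S := ⟨⟨op ⊤, fun _ _ => trivial⟩⟩
  have : IsFiltered S :=
    { cocone_objs := fun A B => ⟨⟨op (A.obj.unop ⊓ B.obj.unop), Set.subset_inter A.property B.property⟩,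
        ObjectProperty.homMk (homOfLE inf_le_left).op, ObjectProperty.homMk (homOfLE inf_le_right).op, trivial⟩
      cocone_maps := fun A B f g => ⟨B, 𝟙 B, by
        congr 1
        exact InducedCategory.hom_ext (Quiver.Hom.unop_inj (Subsingleton.elim _ _))⟩ }
  refine Groth.Agent.TopCoh49.nonempty_addEquiv_colimit _ _
    (fun U => (Groth.Agent.TopCoh49.HEquivTop _ p).symm.toAddMonoidHom.comp
      (Groth.Agent.TopCoh49.pullE i F p (Groth.Agent.TopCoh49.top_le_map i (hrange.le.trans U.property))))
    (fun {U V} f x => congrArg (Groth.Agent.TopCoh49.HEquivTop _ p).symm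
      ((congrArg _ (Groth.Agent.TopCoh49.cohPre_map F p f.hom x)).trans
        (Groth.Agent.TopCoh49.pullE_eres i F p (leOfHom f.hom.unop)
          (Groth.Agent.TopCoh49.top_le_map i (hrange.le.trans V.property)) x))) ?_ ?_
  · intro y
    obtain ⟨U, h, x, hx⟩ := hc.1 (Groth.Agent.TopCoh49.HEquivTop _ p y)
    exact ⟨⟨op U, hrange.symm.le.trans h⟩, x,
      (congrArg (Groth.Agent.TopCoh49.HEquivTop _ p).symm hx).trans (AddEquiv.symm_apply_apply _ y)⟩
  · intro U x hx
    obtain ⟨V, hVU, hV, h0⟩ := hc.2 U.obj.unop (hrange.le.trans U.property) x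
      ((map_eq_zero_iff _ (Groth.Agent.TopCoh49.HEquivTop _ p).symm.injective).1 hx)
    exact ⟨⟨op V, hrange.symm.le.trans hV⟩, ObjectProperty.homMk (homOfLE hVU).op,
      (Groth.Agent.TopCoh49.cohPre_map F p (homOfLE hVU).op x).trans h0⟩

end Groth.Agent.S0946
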