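import Groth.Statements.S0961
import Groth.Agent.DPF49.PerfectMain
import Groth.Agent.DPF49.Symm
import Groth.Agent.DCX42.MVTri

set_option autoImplicit false
universe u
open CategoryTheory
attribute [local instance] HasDerivedCategory.standard
open DCoh

namespace Groth.Agent.S0961

open AlgebraicGeometry in
/-- Schemes; K given by a K-flat complex P representing a perfect object, so that Lf^*K is f^*P: for f :
X -> Y, E in D(O_X) and such a P there is an isomorphism Rf_* E ⊗^L P ≅ Rf_*(E ⊗^L f^* P). The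
derived functors are taken under their existence binders. -/
theorem result {X Y : Scheme.{u}} (f : X ⟶ Y) [DCoh.HasRpush f] (P : CochainComplex Y.Modules ℤ)
    (hP : DCoh.IsKFlat P) (hperf : DCoh.IsPerfect (DerivedCategory.Q.obj P))
    [DCoh.HasLTensorCx P] [DCoh.HasLTensorCx (((Scheme.Modules.pullback f).mapHomologicalComplex (ComplexShape.up ℤ)).obj P)] (E : DCoh.D X) :
    Nonempty ((DCoh.LTensorCx P).obj ((DCoh.Rpush f).obj E) ≅
      (DCoh.Rpush f).obj ((DCoh.LTensorCx (((Scheme.Modules.pullback f).mapHomologicalComplex (ComplexShape.up ℤ)).obj P)).obj E)) := by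
    let q := (Scheme.Modules.pullback f).mapHomologicalComplex (ComplexShape.up ℤ)
    haveI := DCK91.hasLpull f
    obtain ⟨I, hI, ⟨eI⟩⟩ := DCX42.exists_kinj E
    haveI := DPF49.hasLTensor I
    haveI := DPF49.hasLTensor ((DPF49.pC f).obj I)
    obtain ⟨τ, hτ⟩ := DPF49.exists_projTrans f I
    haveI := DPF49.isIso_projTrans_of_perfect f I hI τ hτ hperf
    obtain ⟨a⟩ := DCX42.nonempty_Rpush_model f I hI
    obtain ⟨l⟩ := DCK91.nonempty_lpullIso f P hP
    obtain ⟨s₁⟩ := DPF49.nonempty_ltensor_symm P ((DPF49.pC f).obj I)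
    obtain ⟨s₂⟩ := DPF49.nonempty_ltensor_symm I (q.obj P)
    exact ⟨(DCoh.LTensorCx P).mapIso ((DCoh.Rpush f).mapIso eI.symm ≪≫ a) ≪≫ s₁ ≪≫
      asIso (τ.app (DerivedCategory.Q.obj P)) ≪≫
      (DCoh.Rpush f).mapIso ((DCoh.LTensorCx I).mapIso l ≪≫ s₂ ≪≫ (DCoh.LTensorCx (q.obj P)).mapIso eI)⟩

end Groth.Agent.S0961
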