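import Groth.Statements.S0966
import Groth.Agent.DPF49.Kinj

set_option autoImplicit false
universe u
open CategoryTheory
attribute [local instance] HasDerivedCategory.standard
open DCoh

namespace Groth.Agent.S0966

open AlgebraicGeometry in
/-- Schemes, f a closed immersion; K given by a K-flat complex P so that Lf^*K is f^*P: for E in D(O_X)
there is an isomorphism Rf_* E ⊗^L P ≅ Rf_*(E ⊗^L f^* P), with no perfectness assumption on P. The
derived functors are taken under their existence binders. -/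
theorem result {X Y : Scheme.{u}} (f : X ⟶ Y) [IsClosedImmersion f] [DCoh.HasRpush f]
    (P : CochainComplex Y.Modules ℤ) (hP : DCoh.IsKFlat P)
    [DCoh.HasLTensorCx P] [DCoh.HasLTensorCx (((Scheme.Modules.pullback f).mapHomologicalComplex (ComplexShape.up ℤ)).obj P)] (E : DCoh.D X) :
    Nonempty ((DCoh.LTensorCx P).obj ((DCoh.Rpush f).obj E) ≅
      (DCoh.Rpush f).obj ((DCoh.LTensorCx (((Scheme.Modules.pullback f).mapHomologicalComplex (ComplexShape.up ℤ)).obj P)).obj E)) := by
    let q := (Scheme.Modules.pullback f).mapHomologicalComplex (ComplexShape.up ℤ)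
    let p := (Scheme.Modules.pushforward f).mapHomologicalComplex (ComplexShape.up ℤ)
    have := GSS45.ClosedHom.preservesFiniteLimits_pushforward f
    have := GSS45.ClosedHom.preservesFiniteColimits_pushforward f
    haveI : ∀ J : Type, Limits.PreservesColimitsOfShape (Discrete J) (Scheme.Modules.pushforward f) := fun J =>
      Limits.preservesColimitsOfShape_of_equiv (Discrete.equivalence (Equiv.ulift.{u} (α := J))) _
    obtain ⟨I, hI, ⟨e⟩⟩ := DCX42.exists_kinj E
    obtain ⟨a⟩ := DCX42.nonempty_Rpush_model f I hI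
    obtain ⟨b⟩ := DCK91.nonempty_ltcIso P hP (p.obj I)
    obtain ⟨c⟩ := DCK91.nonempty_ltcIso (q.obj P) (DCK91.isKFlat_pullback f P hP) I
    let T : CochainComplex X.Modules ℤ := (DCoh.tensorCx.obj I).obj (q.obj P)
    obtain ⟨J, hJ, ⟨eJ⟩⟩ := DCX42.exists_kinj (DerivedCategory.Q.obj T)
    obtain ⟨φ, hφ⟩ := DPF49.exists_map_kinj eJ.symm hJ
    obtain ⟨d⟩ := DCX42.nonempty_Rpush_model f J hJ
    haveI : IsIso (DerivedCategory.Q.map φ) := hφ.symm ▸ inferInstance
    refine ⟨(DCoh.LTensorCx P).mapIso ((DCoh.Rpush f).mapIso e.symm ≪≫ a) ≪≫ b ≪≫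
      DerivedCategory.Q.mapIso (@asIso _ _ _ _ (DPF49.projCx f I P) (DPF49.isIso_projCx f (DPF49.isIso_projHom f) I P)) ≪≫ @asIso _ _ _ _ (DerivedCategory.Q.map (p.map φ)) (DPF49.isIso_Q_map_push f φ inferInstance) ≪≫
      d.symm ≪≫ (DCoh.Rpush f).mapIso (eJ ≪≫ c.symm ≪≫ (DCoh.LTensorCx (q.obj P)).mapIso e)⟩

end Groth.Agent.S0966
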