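import Groth.Statements.S0972
import Groth.Agent.CohDer42.DimShift

set_option autoImplicit false
universe v u
open CategoryTheory CategoryTheory.Limits
open CohDer

namespace Groth.Agent.S0972

/-- Let d assign to each object of an abelian category a value in ℕ∞, invariant under isomorphism, such
that every object embeds into an object with d = 0, d of a binary biproduct is at most the maximum
of the d of the summands, and in a short exact sequence 0 → X₁ → X₂ → X₃ → 0 one has d(X₃) ≤
max(d(X₁) - 1, d(X₂)). If K is a cochain complex with all d(Kⁿ) finite (the source allows the value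
∞; we state the finite case) and n + d(Kⁿ) tending to -∞ as n → -∞, then K maps quasi-isomorphically
to a complex L all of whose terms have d = 0. -/
theorem result {A : Type u} [Category.{v} A] [Abelian A] (d : A → ℕ∞) (hiso : ∀ ⦃X Y : A⦄, Nonempty (X ≅ Y) → d X = d Y)
    (h1 : ∀ X : A, ∃ (Y : A) (ι : X ⟶ Y), Mono ι ∧ d Y = 0)
    (h2 : ∀ X Y : A, d (X ⊞ Y) ≤ max (d X) (d Y))
    (h3 : ∀ S : ShortComplex A, S.ShortExact → d S.X₃ ≤ max (d S.X₁ - 1) (d S.X₂))
    (K : CochainComplex A ℤ) (hfin : ∀ n : ℤ, d (K.X n) ≠ ⊤)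
    (hK : ∀ m : ℤ, ∃ N : ℤ, ∀ n : ℤ, n ≤ N → ∃ k : ℕ, d (K.X n) = k ∧ n + k ≤ m) :
    ∃ (L : CochainComplex A ℤ) (f : K ⟶ L), QuasiIso f ∧ ∀ n, d (L.X n) = 0 := by
  choose Y i hi hY using h1
  let Y' : A → A := fun X => if d X = 0 then X else Y X
  let i' : ∀ X, X ⟶ Y' X := fun X =>
    if h : d X = 0 then eqToHom (if_pos h).symm else i X ≫ eqToHom (if_neg h).symm
  have hi' : ∀ X, Mono (i' X) := fun X => by
    have := hi X
    simp only [i']
    split <;> infer_instance
  have hY' : ∀ X, d (Y' X) = 0 := fun X => by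
    by_cases h : d X = 0
    · simp only [Y', if_pos h, h]
    · simp only [Y', if_neg h, hY]
  have hid : ∀ X, d X = 0 → IsIso (i' X) := fun X h => by
    simp only [i', dif_pos h]
    infer_instance
  obtain ⟨L, f, hf, hL⟩ := Groth.Agent.CohDer42.DimShift.exists_resolution_of_bound ⟨Y', i', hi'⟩ K d
    hY' h2 h3 hid hK
  refine ⟨L, f, hf, fun n => (hL n).elim id ?_⟩
  rintro ⟨k, hk, he⟩
  exact (hiso he).symm.trans hk

end Groth.Agent.S0972
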