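import Groth.Statements.S0973
import Groth.Agent.DC43.Trunc
import Groth.Agent.Mod48.Devissage

set_option autoImplicit false
universe w v u
open CategoryTheory CategoryTheory.Limits
open CohDer

namespace Groth.Agent.S0973
open CategoryTheory.Limits

section
variable {A : Type u} [Category.{v} A] [Abelian A] [HasDerivedCategory.{w} A]

local notation "τ" => (DerivedCategory.TStructure.t (C := A))

lemma shifted_zero (i j : ℤ) (p : ℕ) (hp : (p : ℤ) = i - j + 1) (M N : A)
    (h : ∀ f : (DerivedCategory.singleFunctor A 0).obj M ⟶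
      ((DerivedCategory.singleFunctor A 0).obj N)⟦(p : ℤ)⟧, f = 0)
    (g : (DerivedCategory.singleFunctor A i).obj M ⟶
      ((DerivedCategory.singleFunctor A j).obj N)⟦(1 : ℤ)⟧) : g = 0 := by
  let eM : ((DerivedCategory.singleFunctor A i).obj M)⟦i⟧ ≅ (DerivedCategory.singleFunctor A 0).obj M :=
    ((DerivedCategory.singleFunctors A).shiftIso i 0 i (add_zero i)).app M
  let eN : ((DerivedCategory.singleFunctor A j).obj N)⟦j⟧ ≅ (DerivedCategory.singleFunctor A 0).obj N :=
    ((DerivedCategory.singleFunctors A).shiftIso j 0 j (add_zero j)).app N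
  let e : (((DerivedCategory.singleFunctor A j).obj N)⟦(1 : ℤ)⟧)⟦i⟧ ≅
      ((DerivedCategory.singleFunctor A 0).obj N)⟦(p : ℤ)⟧ :=
    ((shiftFunctorAdd' (DerivedCategory A) 1 i (1 + i) rfl).app _).symm ≪≫
      (shiftFunctorAdd' (DerivedCategory A) j (p : ℤ) (1 + i) (by omega)).app _ ≪≫
      (shiftFunctor (DerivedCategory A) (p : ℤ)).mapIso eN
  apply (shiftFunctor (DerivedCategory A) i).map_injective
  rw [← cancel_mono e.hom, ← cancel_epi eM.inv, Functor.map_zero, zero_comp, comp_zero]
  exact h _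

lemma vanish_bounded (i : ℤ) (M : A) (a : ℤ) (Y : DerivedCategory A)
    (hge : (τ).IsGE Y a) (hle : (τ).IsLE Y (i - 1))
    (h : ∀ (j : ℤ) (p : ℕ), j < i → 2 ≤ p →
      ∀ f : (DerivedCategory.singleFunctor A 0).obj M ⟶
        ((DerivedCategory.singleFunctor A 0).obj ((DerivedCategory.homologyFunctor A j).obj Y))⟦(p : ℤ)⟧, f = 0)
    (g : (DerivedCategory.singleFunctor A i).obj M ⟶ Y⟦(1 : ℤ)⟧) : g = 0 := by
  let P : ObjectProperty (DerivedCategory A) := fun Z =>
    ∀ g : (DerivedCategory.singleFunctor A i).obj M ⟶ Z⟦(1 : ℤ)⟧, g = 0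
  have : P.IsClosedUnderIsomorphisms := ⟨fun {Z Z'} e hZ g => by
    rw [← cancel_mono ((shiftFunctor (DerivedCategory A) (1 : ℤ)).map e.inv), zero_comp]
    exact hZ _⟩
  refine Mod48.bounded_induction P (fun Z hZ g => ((shiftFunctor (DerivedCategory A) (1 : ℤ)).map_isZero hZ).eq_of_tgt _ _)
    (fun T hT h₁ h₃ g => ?_) (i - a).toNat a Y hge ((τ).isLE_of_le Y (i - 1) _ (by omega))
    (fun q g => ?_) g
  · obtain ⟨e, rfl⟩ := Pretriangulated.Triangle.coyoneda_exact₂ _
      (Pretriangulated.Triangle.shift_distinguished T hT 1) g (h₃ _)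
    rw [show e = 0 from h₁ e]; exact zero_comp
  · by_cases hq : q < i
    · exact shifted_zero i q (i - q + 1).toNat (by omega) M _
        (h q (i - q + 1).toNat hq (by omega)) g
    · exact ((shiftFunctor (DerivedCategory A) (1 : ℤ)).map_isZero ((DerivedCategory.singleFunctor A q).map_isZero
        (DerivedCategory.isZero_of_isLE Y (i - 1) q (by omega)))).eq_of_tgt _ _

lemma exists_component (K : DerivedCategory A) (a i : ℤ) (hge : (τ).IsGE K a)
    (hExt : ∀ (j : ℤ) (p : ℕ), j < i → 2 ≤ p →
      ∀ f : (DerivedCategory.singleFunctor A 0).obj ((DerivedCategory.homologyFunctor A i).obj K) ⟶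
        ((DerivedCategory.singleFunctor A 0).obj ((DerivedCategory.homologyFunctor A j).obj K))⟦(p : ℤ)⟧, f = 0) :
    ∃ φ : (DerivedCategory.singleFunctor A i).obj ((DerivedCategory.homologyFunctor A i).obj K) ⟶ K,
      IsIso ((DerivedCategory.homologyFunctor A i).map φ) := by
  let W := ((τ).truncLT (i + 1)).obj K
  let ι : W ⟶ K := ((τ).truncLTι (i + 1)).app K
  have hι : ∀ j, j ≤ i → IsIso ((DerivedCategory.homologyFunctor A j).map ι) := fun j hj =>
    DC43.isIso_homology_truncLTι K (i + 1) j (by omega)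
  have hWle : (τ).IsLE W i := (τ).isLE_truncLT_obj _ _ _ (by omega)
  have hWge : (τ).IsGE W a := inferInstanceAs ((τ).IsGE (((τ).truncLT (i + 1)).obj K) a)
  let G := ((τ).truncGE i).obj W
  have hGge : (τ).IsGE G i := inferInstanceAs ((τ).IsGE (((τ).truncGE i).obj W) i)
  have hGle : (τ).IsLE G i := inferInstanceAs ((τ).IsLE (((τ).truncGE i).obj W) i)
  obtain ⟨M, ⟨e⟩⟩ := DerivedCategory.exists_iso_singleFunctor_obj_of_isGE_of_isLE G i
  have := hι i le_rfl
  have hπ := DC43.isIso_homology_truncGEπ W i i le_rfl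
  let eM : M ≅ (DerivedCategory.homologyFunctor A i).obj K :=
    ((DerivedCategory.singleFunctorCompHomologyFunctorIso A i).app M).symm ≪≫
      (DerivedCategory.homologyFunctor A i).mapIso e.symm ≪≫
      (@asIso _ _ _ _ _ hπ).symm ≪≫
      @asIso _ _ _ _ ((DerivedCategory.homologyFunctor A i).map ι) (hι i le_rfl)
  let e' : (DerivedCategory.singleFunctor A i).obj ((DerivedCategory.homologyFunctor A i).obj K) ≅ G :=
    (DerivedCategory.singleFunctor A i).mapIso eM.symm ≪≫ e.symm
  let δ := ((τ).triangleLTGE i).obj W |>.mor₃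
  have hδ : e'.hom ≫ δ = 0 := by
    refine vanish_bounded i _ a (((τ).truncLT i).obj W)
      (inferInstanceAs ((τ).IsGE (((τ).truncLT i).obj W) a))
      ((τ).isLE_truncLT_obj _ _ _ (by omega)) (fun j p hj hp f => ?_) _
    have := hι j hj.le
    have := DC43.isIso_homology_truncLTι W i j hj
    let ej : (DerivedCategory.homologyFunctor A j).obj (((τ).truncLT i).obj W) ≅
        (DerivedCategory.homologyFunctor A j).obj K :=
      asIso ((DerivedCategory.homologyFunctor A j).map (((τ).truncLTι i).app W)) ≪≫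
        asIso ((DerivedCategory.homologyFunctor A j).map ι)
    rw [← cancel_mono ((shiftFunctor (DerivedCategory A) (p : ℤ)).map
      ((DerivedCategory.singleFunctor A 0).map ej.hom)), zero_comp]
    exact hExt j p hj hp _
  obtain ⟨s, hs⟩ := Pretriangulated.Triangle.coyoneda_exact₃ _ ((τ).triangleLTGE_distinguished i W) e'.hom hδ
  refine ⟨s ≫ ι, ?_⟩
  have h1 : IsIso ((DerivedCategory.homologyFunctor A i).map s ≫
      (DerivedCategory.homologyFunctor A i).map (((τ).truncGEπ i).app W)) := by
    rw [← Functor.map_comp]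
    change IsIso ((DerivedCategory.homologyFunctor A i).map (s ≫ (((τ).triangleLTGE i).obj W).mor₂))
    rw [← hs]
    exact Functor.map_isIso _ _
  have : IsIso ((DerivedCategory.homologyFunctor A i).map s) :=
    @IsIso.of_isIso_comp_right _ _ _ _ _ _ _ hπ h1
  rw [Functor.map_comp]
  exact @IsIso.comp_isIso _ _ _ _ _ _ _ this (hι i le_rfl)

end

/-- Let K be an object of the derived category of an abelian category with cohomology concentrated in
degrees a, …, b. Suppose that for all i > j and p ≥ 2 every morphism H^i(K) ⟶ H^j(K)[p] in the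
derived category (an element of Ext^p) vanishes. Then K splits: it is isomorphic to ⨁_{a ≤ i ≤ b}
Hⁱ(K)[-i]. -/
theorem result {A : Type u} [Category.{v} A] [Abelian A] [HasDerivedCategory.{w} A]
    (K : DerivedCategory A) (a b : ℤ) [K.IsGE a] [K.IsLE b]
    (hExt : ∀ (i j : ℤ) (p : ℕ), j < i → 2 ≤ p →
      ∀ f : (DerivedCategory.singleFunctor A 0).obj ((DerivedCategory.homologyFunctor A i).obj K) ⟶
        ((DerivedCategory.singleFunctor A 0).obj ((DerivedCategory.homologyFunctor A j).obj K))⟦(p : ℤ)⟧, f = 0)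
    [HasBiproduct (fun i : Finset.Icc a b => (DerivedCategory.singleFunctor A (i : ℤ)).obj ((DerivedCategory.homologyFunctor A (i : ℤ)).obj K))] :
    Nonempty (K ≅ ⨁ (fun i : Finset.Icc a b => (DerivedCategory.singleFunctor A (i : ℤ)).obj ((DerivedCategory.homologyFunctor A (i : ℤ)).obj K))) := by
  classical
  let f : Finset.Icc a b → DerivedCategory A := fun i =>
    (DerivedCategory.singleFunctor A (i : ℤ)).obj ((DerivedCategory.homologyFunctor A (i : ℤ)).obj K)
  choose φ hφ using fun i : Finset.Icc a b =>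
    exists_component K a (i : ℤ) (inferInstance : K.IsGE a) (fun j p hj hp => hExt _ j p hj hp)
  let Φ : (⨁ f) ⟶ K := biproduct.desc φ
  suffices IsIso Φ from ⟨(asIso Φ).symm⟩
  rw [DerivedCategory.isIso_iff]
  intro m
  let H := DerivedCategory.homologyFunctor A m
  have hz : ∀ i : Finset.Icc a b, (i : ℤ) ≠ m → H.map (biproduct.π f i) = 0 := fun i hi => by
    refine IsZero.eq_of_tgt ?_ _ _
    rcases lt_or_gt_of_ne hi with h | h
    · exact DerivedCategory.isZero_of_isLE (f i) (i : ℤ) m h
    · exact DerivedCategory.isZero_of_isGE (f i) (i : ℤ) m h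
  have hid : ∑ i, H.map (biproduct.π f i) ≫ H.map (biproduct.ι f i) = 𝟙 (H.obj (⨁ f)) := by
    simp only [← Functor.map_comp, ← Functor.map_sum, biproduct.total, CategoryTheory.Functor.map_id]
  by_cases hm : m ∈ Finset.Icc a b
  · let i₀ : Finset.Icc a b := ⟨m, hm⟩
    rw [Finset.sum_eq_single i₀ (fun i _ hi => by
      rw [hz i (fun h => hi (Subtype.ext h)), zero_comp]) (fun h => absurd (Finset.mem_univ _) h)] at hid
    have : IsIso (H.map (biproduct.ι f i₀)) :=
      ⟨H.map (biproduct.π f i₀), by rw [← Functor.map_comp, biproduct.ι_π_self, CategoryTheory.Functor.map_id], hid⟩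
    have : IsIso (H.map (biproduct.ι f i₀) ≫ H.map Φ) := by
      rw [← Functor.map_comp, biproduct.ι_desc]
      exact hφ i₀
    exact IsIso.of_isIso_comp_left (H.map (biproduct.ι f i₀)) (H.map Φ)
  · rw [Finset.sum_eq_zero (fun i _ => by
      rw [hz i (fun h => hm (h ▸ i.2)), zero_comp])] at hid
    have h1 : IsZero (H.obj (⨁ f)) := (IsZero.iff_id_eq_zero _).2 hid.symm
    have h2 : IsZero (H.obj K) := by
      rw [Finset.mem_Icc, not_and_or, not_le, not_le] at hm
      rcases hm with h | h
      · exact DerivedCategory.isZero_of_isGE K a m h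
      · exact DerivedCategory.isZero_of_isLE K b m h
    exact ⟨0, h1.eq_of_src _ _, h2.eq_of_src _ _⟩

end Groth.Agent.S0973
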