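import Groth.Statements.S6585
import Mathlib.CategoryTheory.Triangulated.Orthogonal

set_option autoImplicit false
universe v u
open CategoryTheory CategoryTheory.Limits
open CohDer

namespace Groth.Agent.S6585
open CategoryTheory.Category CategoryTheory.Limits CategoryTheory.Pretriangulated

open CategoryTheory.Pretriangulated in
/-- Let D be a triangulated category and E, K objects of D. Then Hom(E, K⟦i⟧) = 0 for all integers i if
and only if Hom(E', K) = 0 for every E' in ⟨E⟩, the smallest strictly full saturated triangulated
subcategory of D containing E (the objects obtained from E by shifts, finite direct sums, direct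
summands and extensions). -/
theorem result {D : Type u} [Category.{v} D] [Preadditive D] [HasZeroObject D] [HasShift D ℤ]
    [∀ n : ℤ, (shiftFunctor D n).Additive] [Pretriangulated D] [IsTriangulated D]
    (E K : D) :
    (∀ (i : ℤ) (f : E ⟶ (shiftFunctor D i).obj K), f = 0) ↔
      ∀ (E' : D), (ObjectProperty.singleton E).triangEnvelope E' → ∀ f : E' ⟶ K, f = 0 := by
  constructor
  · intro h E' hE'
    let R : ObjectProperty D := fun Y => ∃ i : ℤ, Nonempty (Y ≅ (shiftFunctor D i).obj K)
    have : R.IsStableUnderShift ℤ := ⟨fun a => ⟨fun Y ⟨i, ⟨e⟩⟩ => ⟨i + a,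
      ⟨(shiftFunctor D a).mapIso e ≪≫ ((shiftFunctorAdd D i a).app K).symm⟩⟩⟩⟩
    have : (ObjectProperty.leftOrthogonal R).IsStableUnderRetracts := ⟨fun {X Y} r hY Z f hZ => by
      rw [← Category.id_comp f, ← r.retract, Category.assoc, hY (r.r ≫ f) hZ, comp_zero]⟩
    have hle : (ObjectProperty.singleton E).triangEnvelope ≤ (ObjectProperty.leftOrthogonal R) := by
      rw [ObjectProperty.triangEnvelope_le_iff]
      intro X hX
      obtain rfl : E = X := by simpa using hX
      rintro Y f ⟨i, ⟨e⟩⟩
      rw [← cancel_mono e.hom, h i (f ≫ e.hom), zero_comp]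
    exact fun f => hle _ hE' f ⟨0, ⟨((shiftFunctorZero D ℤ).app K).symm⟩⟩
  · intro h i f
    have hE : (ObjectProperty.singleton E).triangEnvelope E :=
      ObjectProperty.le_triangEnvelope _ _ (by simp)
    have := h _ ((ObjectProperty.singleton E).triangEnvelope.le_shift (-i) _ hE)
      (f⟦-i⟧' ≫ (shiftFunctorCompIsoId D i (-i) (add_neg_cancel i)).hom.app K)
    apply (shiftFunctor D (-i)).map_injective
    rw [Functor.map_zero]
    exact (cancel_mono ((shiftFunctorCompIsoId D i (-i) (add_neg_cancel i)).hom.app K)).1
      (this.trans zero_comp.symm)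

end Groth.Agent.S6585
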