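import Groth.Statements.S0983


set_option autoImplicit false
universe v u
open CategoryTheory
open CohDer

namespace Groth.Agent.S0983
open CategoryTheory.Preadditive CategoryTheory.Category

open CategoryTheory.Pretriangulated in
/-- In a triangulated category, a commutative square f ≫ v = u ≫ f' (with f : X ⟶ Y, f' : X' ⟶ Y', u : X
⟶ X', v : Y ⟶ Y') extends to a diagram with three distinguished rows (X, Y, Z), (X', Y', Z'), (X'',
Y'', Z'') and three distinguished columns (X, X', X''), (Y, Y', Y''), (Z, Z', Z''), in which all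
squares commute except the one formed by the third morphisms of the last row and last column, which
anticommutes; the fourth row and column are the shifts of the first ones. -/
theorem result {D : Type u} [Category.{v} D] [Preadditive D] [Limits.HasZeroObject D] [HasShift D ℤ]
    [∀ n : ℤ, (shiftFunctor D n).Additive] [Pretriangulated D] [IsTriangulated D]
    {X Y X' Y' : D} (f : X ⟶ Y) (f' : X' ⟶ Y') (u : X ⟶ X') (v : Y ⟶ Y') (comm : f ≫ v = u ≫ f') :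
    ∃ (Z Z' X'' Y'' Z'' : D) (g : Y ⟶ Z) (h : Z ⟶ (shiftFunctor D (1 : ℤ)).obj X)
      (g' : Y' ⟶ Z') (h' : Z' ⟶ (shiftFunctor D (1 : ℤ)).obj X')
      (f'' : X'' ⟶ Y'') (g'' : Y'' ⟶ Z'') (h'' : Z'' ⟶ (shiftFunctor D (1 : ℤ)).obj X'')
      (u' : X' ⟶ X'') (u'' : X'' ⟶ (shiftFunctor D (1 : ℤ)).obj X)
      (v' : Y' ⟶ Y'') (v'' : Y'' ⟶ (shiftFunctor D (1 : ℤ)).obj Y)
      (w : Z ⟶ Z') (w' : Z' ⟶ Z'') (w'' : Z'' ⟶ (shiftFunctor D (1 : ℤ)).obj Z),
      Triangle.mk f g h ∈ distinguishedTriangles ∧ Triangle.mk f' g' h' ∈ distinguishedTriangles ∧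
      Triangle.mk f'' g'' h'' ∈ distinguishedTriangles ∧
      Triangle.mk u u' u'' ∈ distinguishedTriangles ∧ Triangle.mk v v' v'' ∈ distinguishedTriangles ∧
      Triangle.mk w w' w'' ∈ distinguishedTriangles ∧
      g ≫ w = v ≫ g' ∧ h ≫ (shiftFunctor D (1 : ℤ)).map u = w ≫ h' ∧
      f' ≫ v' = u' ≫ f'' ∧ g' ≫ w' = v' ≫ g'' ∧ h' ≫ (shiftFunctor D (1 : ℤ)).map u' = w' ≫ h'' ∧
      f'' ≫ v'' = u'' ≫ (shiftFunctor D (1 : ℤ)).map f ∧ g'' ≫ w'' = v'' ≫ (shiftFunctor D (1 : ℤ)).map g ∧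
      h'' ≫ (shiftFunctor D (1 : ℤ)).map u'' = -(w'' ≫ (shiftFunctor D (1 : ℤ)).map h) := by
  obtain ⟨Z, g, h, hf⟩ := Pretriangulated.distinguished_cocone_triangle f
  obtain ⟨Z', g', h', hf'⟩ := Pretriangulated.distinguished_cocone_triangle f'
  obtain ⟨X'', u', u'', hu⟩ := Pretriangulated.distinguished_cocone_triangle u
  obtain ⟨Y'', v', v'', hv⟩ := Pretriangulated.distinguished_cocone_triangle v
  obtain ⟨W, a, b, hd⟩ := Pretriangulated.distinguished_cocone_triangle (f ≫ v)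
  obtain ⟨m1, m3, c1, c2, c3, c4, t1⟩ := Triangulated.someOctahedron rfl hf hv hd
  obtain ⟨n1, n3, d1, d2, d3, d4, t2⟩ := Triangulated.someOctahedron comm.symm hu hf' hd
  obtain ⟨Z'', w', w'', hw⟩ := Pretriangulated.distinguished_cocone_triangle (m1 ≫ n3)
  have t2' : Triangle.mk n3 (h' ≫ u'⟦(1 : ℤ)⟧') (-n1⟦(1 : ℤ)⟧') ∈ distinguishedTriangles :=
    rot_of_distTriang _ t2
  obtain ⟨p1, p3, e1, e2, e3, e4, t3⟩ := Triangulated.someOctahedron rfl t1 t2' hw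
  refine ⟨Z, Z', X'', Y'', Z'', g, h, g', h', n1 ≫ m3, p1, p3, u', u'', v', v'',
    m1 ≫ n3, w', w'', hf, hf', ?_, hu, hv, hw, ?_, ?_, ?_, ?_, ?_, ?_, ?_, ?_⟩
  · rw [rotate_distinguished_triangle]
    refine isomorphic_distinguished _ t3 _ (Triangle.isoMk _ _ (Iso.refl _) (Iso.refl _) (Iso.refl _)
      ((comp_id _).trans (id_comp _).symm) ((comp_id _).trans (id_comp _).symm) ?_)
    change (-(n1 ≫ m3)⟦(1 : ℤ)⟧') ≫ (𝟙 Y'')⟦(1 : ℤ)⟧' = 𝟙 _ ≫ (-n1⟦(1 : ℤ)⟧') ≫ m3⟦(1 : ℤ)⟧'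
    rw [CategoryTheory.Functor.map_id, comp_id, id_comp, Functor.map_comp, neg_comp]
  · rw [← assoc, c1, assoc, d3]
  · rw [← c2, assoc, assoc, d4]
  · rw [← c3, ← assoc u', d1, assoc]
  · rw [← d3, ← c3, assoc, assoc, e1]
  · exact e3.symm
  · rw [assoc, ← c4, ← assoc, d2]
  · exact e2
  · rw [← c2, Functor.map_comp, ← assoc w'', e4, comp_neg, neg_comp, neg_neg,
      ← d2, Functor.map_comp, assoc]

end Groth.Agent.S0983
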