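import Groth.Statements.S0987
import Groth.Agent.KDer46.Hom

set_option autoImplicit false
universe w v u
open CategoryTheory CategoryTheory.Limits
open KZero

namespace Groth.Agent.S0987

/-- For an abelian category A there is an isomorphism between K₀(A) and K₀ of the bounded derived
category D^b(A) (objects of D(A) with bounded cohomology, with the distinguished triangles of D(A))
which sends the class of an object X to the class of X placed in degree 0. -/
theorem result (A : Type u) [Category.{v} A] [Abelian A] [HasDerivedCategory.{w} A] :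
    ∃ φ : KZero.K0 A ≃+ KZero.K0tr (fun X : DerivedCategory A => ∃ a b : ℤ, X.IsGE a ∧ X.IsLE b),
      ∀ X : A, φ (KZero.cl X) =
        KZero.clTr (fun X : DerivedCategory A => ∃ a b : ℤ, X.IsGE a ∧ X.IsLE b) ((DerivedCategory.singleFunctor A 0).obj X) := by
  have hT : Groth.Agent.KDer46.Good (⊤ : ObjectProperty A) (fun X : DerivedCategory A => ∃ a b : ℤ, X.IsGE a ∧ X.IsLE b) :=
    { iso := fun e h => (Groth.Agent.KDer46.pbd_iso (P := ⊤) e ⟨fun _ => trivial, h⟩).2
      zero := fun h => (Groth.Agent.KDer46.pbd_zero (P := ⊤) h).2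
      shift := fun X n h => (Groth.Agent.KDer46.pbd_shift (P := ⊤) X n ⟨fun _ => trivial, h⟩).2
      single := fun X _ => (Groth.Agent.KDer46.pbd_single (P := ⊤) X trivial).2
      obj₁ := fun Δ hΔ h₂ h₃ =>
        (Groth.Agent.KDer46.pbd_obj₁ (P := ⊤) Δ hΔ ⟨fun _ => trivial, h₂⟩ ⟨fun _ => trivial, h₃⟩).2
      homology := fun _ _ _ => trivial
      bounded := fun _ h => h }
  obtain ⟨φ, hφ⟩ := Groth.Agent.KDer46.exists_equiv hT
  refine ⟨(Groth.Agent.KDer46.k0EquivTop (C := A)).trans φ, fun X => ?_⟩
  exact (congrArg φ (Groth.Agent.KDer46.k0EquivTop_cl X)).trans (hφ X trivial)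

end Groth.Agent.S0987
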