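import Groth.Statements.S0988
import Groth.Agent.QC70.InjEnvelope
import Groth.Agent.QC70.InjStalk
-- import your own Groth.Agent.* helpers here

set_option autoImplicit false
universe u
open CategoryTheory AlgebraicGeometry Opposite
open Perf

namespace Groth.Agent.S0988

/-- Let X be a Noetherian scheme and J an injective object of the category QCoh(O_X) of quasi-coherent
O_X-modules (the full subcategory of all O_X-modules). Then J is flasque: for opens U ⊆ V of X the
restriction map J(V) → J(U) is surjective. -/
theorem result (X : Scheme.{u}) [IsNoetherian X]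
    (J : ObjectProperty.FullSubcategory (fun M : X.Modules => Coh.IsQCoh M)) (hJ : Injective J)
    (U V : X.Opens) (hUV : U ≤ V) :
    Function.Surjective (J.obj.val.map (homOfLE hUV).op).hom := by
  haveI : J.obj.IsQuasicoherent := J.property
  obtain ⟨H, e, he, hH, hHinj⟩ := QC70.exists_qcoh_injective_hull J.obj
  haveI := hHinj
  haveI := he
  let ι := (fun M : X.Modules => Coh.IsQCoh M)
  let H' : ObjectProperty.FullSubcategory ι := ⟨H, hH⟩
  let e' : J ⟶ H' := ObjectProperty.homMk e
  haveI : Mono e' := (ObjectProperty.ι ι).mono_of_mono_map (show Mono ((ObjectProperty.ι ι).map e') from he)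
  let r : H' ⟶ J := Injective.factorThru (𝟙 J) e'
  have hr : e' ≫ r = 𝟙 J := Injective.comp_factorThru _ _
  have hr' : e ≫ r.hom = 𝟙 J.obj := congrArg InducedCategory.Hom.hom hr
  intro s
  obtain ⟨t, ht⟩ := QC70.restriction_surjective_of_injective H hUV (e.app U s)
  refine ⟨r.hom.app V t, ?_⟩
  show QC70.res J.obj hUV (r.hom.app V t) = s
  rw [← QC70.app_res, ht]
  exact congr((Scheme.Modules.Hom.app $hr' U) s)

end Groth.Agent.S0988
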