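import Groth.Statements.S0989
import Mathlib.Algebra.Homology.DerivedCategory.HomologySequence
import Mathlib.CategoryTheory.Triangulated.Subcategory
import Mathlib.CategoryTheory.Abelian.Refinements

set_option autoImplicit false
universe w v u
open CategoryTheory CategoryTheory.Limits
open CohDer

namespace Groth.Agent.S0989
open CategoryTheory.Limits
open scoped ZeroObject

/-- Let P be a weak Serre class in an abelian category A: P is closed under isomorphisms, holds for a
zero object, and whenever X₀ → X₁ → X₂ → X₃ → X₄ is exact with P holding for X₀, X₁, X₃, X₄ it holds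
for X₂. Then the class of objects of the derived category all of whose cohomology objects satisfy P
is a triangulated subcategory (contains zero, stable under shifts, closed under extensions) which is
moreover closed under retracts (saturated). -/
theorem result {A : Type u} [Category.{v} A] [Abelian A] [HasDerivedCategory.{w} A]
    (P : ObjectProperty A) [P.IsClosedUnderIsomorphisms] (h0 : ∃ Z : A, IsZero Z ∧ P Z)
    (hP : ∀ S : ComposableArrows A 4, S.Exact → P (S.obj 0) → P (S.obj 1) → P (S.obj 3) → P (S.obj 4) → P (S.obj 2)) :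
    ObjectProperty.IsTriangulated (fun X : DerivedCategory A => ∀ n : ℤ, P ((DerivedCategory.homologyFunctor A n).obj X)) ∧
    ObjectProperty.IsStableUnderRetracts (fun X : DerivedCategory A => ∀ n : ℤ, P ((DerivedCategory.homologyFunctor A n).obj X)) := by
  obtain ⟨Z, hZ, hPZ⟩ := h0
  have hz : ∀ X : A, IsZero X → P X := fun X hX => P.prop_of_iso (hZ.iso hX) hPZ
  have five : ∀ {a₀ a₁ a₂ a₃ a₄ : A} (f₀ : a₀ ⟶ a₁) (f₁ : a₁ ⟶ a₂) (f₂ : a₂ ⟶ a₃) (f₃ : a₃ ⟶ a₄)
      (w₀ : f₀ ≫ f₁ = 0) (w₁ : f₁ ≫ f₂ = 0) (w₂ : f₂ ≫ f₃ = 0),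
      (ShortComplex.mk f₀ f₁ w₀).Exact → (ShortComplex.mk f₁ f₂ w₁).Exact →
      (ShortComplex.mk f₂ f₃ w₂).Exact → P a₀ → P a₁ → P a₃ → P a₄ → P a₂ := by
    intro a₀ a₁ a₂ a₃ a₄ f₀ f₁ f₂ f₃ w₀ w₁ w₂ e₀ e₁ e₂ p₀ p₁ p₃ p₄
    exact hP (ComposableArrows.mk₄ f₀ f₁ f₂ f₃)
      (ComposableArrows.exact_of_δ₀ e₀.exact_toComposableArrows
        (ComposableArrows.exact_of_δ₀ e₁.exact_toComposableArrows e₂.exact_toComposableArrows))
      p₀ p₁ p₃ p₄
  refine ⟨?_, ⟨?_⟩⟩
  · exact
      { exists_zero := ⟨0, isZero_zero _, fun n =>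
          hz _ ((DerivedCategory.homologyFunctor A n).map_isZero (isZero_zero _))⟩
        isStableUnderShiftBy := fun a => ⟨fun X hX n => P.prop_of_iso
          (((DerivedCategory.homologyFunctor A 0).shiftIso a n (a + n) rfl).app X).symm (hX (a + n))⟩
        ext₂' := fun T hT h₁ h₃ => ObjectProperty.le_isoClosure _ _ fun n =>
          five _ _ _ _ _ _ _
            (DerivedCategory.HomologySequence.exact₁ T hT (n - 1) n)
            (DerivedCategory.HomologySequence.exact₂ T hT n)
            (DerivedCategory.HomologySequence.exact₃ T hT n (n + 1))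
            (h₃ (n - 1)) (h₁ n) (h₃ n) (h₁ (n + 1)) }
  · intro X Y h hY n
    let H := DerivedCategory.homologyFunctor A n
    have hir : H.map h.i ≫ H.map h.r = 𝟙 _ := by rw [← Functor.map_comp, h.retract, H.map_id]
    have w₀ : (𝟙 (H.obj Y) - H.map h.r ≫ H.map h.i) ≫ H.map h.r = 0 := by
      simp [hir]
    have : Epi (H.map h.r) := epi_of_epi_fac hir
    refine five (𝟙 (H.obj Y) - H.map h.r ≫ H.map h.i) (H.map h.r) (0 : H.obj X ⟶ Z) (0 : Z ⟶ Z) w₀
      comp_zero comp_zero ?_ ?_ ?_ (hY n) (hY n) hPZ hPZ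
    · rw [ShortComplex.exact_iff_exact_up_to_refinements]
      intro T x hx
      exact ⟨T, 𝟙 T, inferInstance, x, by
        dsimp at hx ⊢
        simp [reassoc_of% hx]⟩
    · exact (ShortComplex.exact_iff_epi _ rfl).2 inferInstance
    · exact ShortComplex.exact_of_isZero_X₂ _ hZ

end Groth.Agent.S0989
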