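import Groth.Statements.S0990
import Groth.Agent.CohDer42.LiftCx
import Mathlib.CategoryTheory.Abelian.SerreClass.Localization

set_option autoImplicit false
universe w w' v v' u u'
open CategoryTheory CategoryTheory.Limits
open CohDer

namespace Groth.Agent.S0990

/-- Let P be a Serre class in an abelian category A and let L : A ⥤ Q be a model of the quotient A/P,
i.e. an exact functor to an abelian category which is a localization at the morphisms whose kernel
and cokernel satisfy P. Then the induced functor on derived categories D(A) ⥤ D(Q) is essentially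
surjective. -/
theorem result {A : Type u} [Category.{v} A] [Abelian A] [HasDerivedCategory.{w} A]
    (P : ObjectProperty A) [P.IsSerreClass]
    {Q : Type u'} [Category.{v'} Q] [Abelian Q] [HasDerivedCategory.{w'} Q]
    (L : A ⥤ Q) [L.IsLocalization P.isoModSerre] [L.Additive] [PreservesFiniteLimits L] [PreservesFiniteColimits L] :
    L.mapDerivedCategory.EssSurj := by
  refine ⟨fun Z => ?_⟩
  obtain ⟨X, ⟨eX⟩⟩ : ∃ X : CochainComplex Q ℤ, Nonempty (DerivedCategory.Q.obj X ≅ Z) :=
    ⟨_, ⟨DerivedCategory.Q.objObjPreimageIso Z⟩⟩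
  obtain ⟨M, ⟨eM⟩⟩ := Groth.Agent.CohDer42.LiftCx.exists_lift L P.isoModSerre X
  exact ⟨DerivedCategory.Q.obj M,
    ⟨L.mapDerivedCategoryFactors.app M ≪≫ DerivedCategory.Q.mapIso eM ≪≫ eX⟩⟩

end Groth.Agent.S0990
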