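import Groth.Statements.S0992
import Mathlib.Algebra.Homology.HomologicalComplexLimits
import Mathlib.Algebra.Category.Grp.Limits
import Mathlib.Algebra.Homology.ShortComplex.Ab

set_option autoImplicit false
universe w
open CategoryTheory CategoryTheory.Limits Opposite
open CohDer

namespace Groth.Agent.S0992
open CategoryTheory.Limits Opposite

section
variable {I : Type w} [LinearOrder I] [WellFoundedLT I] (K : Iᵒᵖ ⥤ CochainComplex AddCommGrpCat.{w} ℤ)

noncomputable def mp {γ δ : I} (h : γ ≤ δ) (n : ℤ) : (K.obj (op δ)).X n →+ (K.obj (op γ)).X n :=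
  ((K.map (homOfLE h).op).f n).hom

noncomputable def dd (γ : I) (n m : ℤ) : (K.obj (op γ)).X n →+ (K.obj (op γ)).X m :=
  ((K.obj (op γ)).d n m).hom

lemma mp_mp {γ δ ε : I} (h : γ ≤ δ) (h' : δ ≤ ε) (n : ℤ) (x : (K.obj (op ε)).X n) :
    mp K h n (mp K h' n x) = mp K (h.trans h') n x := by
  simp only [mp]
  have : (homOfLE (h.trans h')).op = (homOfLE h').op ≫ (homOfLE h).op := rfl
  rw [this, K.map_comp, HomologicalComplex.comp_f, AddCommGrpCat.hom_comp]
  rfl

lemma mp_rfl {γ : I} (n : ℤ) (x : (K.obj (op γ)).X n) : mp K (le_refl γ) n x = x := by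
  simp only [mp]
  have : (homOfLE (le_refl γ)).op = 𝟙 (op γ) := rfl
  rw [this, K.map_id, HomologicalComplex.id_f]
  rfl

lemma dd_mp {γ δ : I} (h : γ ≤ δ) (n m : ℤ) (x : (K.obj (op δ)).X n) :
    dd K γ n m (mp K h n x) = mp K h m (dd K δ n m x) := by
  exact congrArg (fun f => (AddCommGrpCat.Hom.hom f) x) ((K.map (homOfLE h).op).comm n m)

lemma dd_dd (γ : I) (n m k : ℤ) (x : (K.obj (op γ)).X n) : dd K γ m k (dd K γ n m x) = 0 := by
  exact congrArg (fun f => (AddCommGrpCat.Hom.hom f) x) ((K.obj (op γ)).d_comp_d n m k)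

/-- families on a downward closed set of indices which are compatible -/
def Compat (S : Set I) (n : ℤ) (x : ∀ γ, (K.obj (op γ)).X n) : Prop :=
  ∀ γ δ (h : γ ≤ δ), δ ∈ S → mp K h n (x δ) = x γ

/-- every compatible family of cycles on `S` has a compatible family of primitives -/
def Acy (S : Set I) : Prop :=
  ∀ (n : ℤ) (x : ∀ γ, (K.obj (op γ)).X n), Compat K S n x → (∀ γ ∈ S, dd K γ n (n + 1) (x γ) = 0) →
    ∃ y : ∀ γ, (K.obj (op γ)).X (n - 1), Compat K S (n - 1) y ∧ ∀ γ ∈ S, dd K γ (n - 1) n (y γ) = x γ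

variable (hex : ∀ (β : I) (n : ℤ) (x : (K.obj (op β)).X n), dd K β n (n + 1) x = 0 →
    ∃ y, dd K β (n - 1) n y = x)
  (hlift : ∀ (β : I) (n : ℤ) (x : ∀ γ, (K.obj (op γ)).X n), Compat K (Set.Iio β) n x →
    ∃ y : (K.obj (op β)).X n, ∀ γ (h : γ < β), mp K h.le n y = x γ)

include hex hlift in
lemma extend (β : I) (hA : Acy K (Set.Iio β)) (n : ℤ) (x : (K.obj (op β)).X n)
    (hx : dd K β n (n + 1) x = 0) (y : ∀ γ, (K.obj (op γ)).X (n - 1))
    (hy : Compat K (Set.Iio β) (n - 1) y)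
    (hyx : ∀ γ (h : γ < β), dd K γ (n - 1) n (y γ) = mp K h.le n x) :
    ∃ z, dd K β (n - 1) n z = x ∧ ∀ γ (h : γ < β), mp K h.le (n - 1) z = y γ := by
  classical
  obtain ⟨z, hz⟩ := hlift β (n - 1) y hy
  obtain ⟨u, hu⟩ := hex β n (x - dd K β (n - 1) n z) (by rw [map_sub, hx, dd_dd, sub_zero])
  let v : ∀ γ, (K.obj (op γ)).X (n - 1) := fun γ =>
    if h : γ < β then mp K h.le (n - 1) u else 0
  have hv : Compat K (Set.Iio β) (n - 1) v := fun γ δ h hδ => by
    have hδ' : δ < β := hδ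
    simp only [v, dif_pos hδ', dif_pos (h.trans_lt hδ'), mp_mp]
  obtain ⟨t, ht, htv⟩ := hA (n - 1) v hv (fun γ hγ => by
    have hγ' : γ < β := hγ
    simp only [v, dif_pos hγ']
    have := hyx γ hγ'
    rw [← hz γ hγ', dd_mp] at this
    rw [sub_add_cancel, dd_mp, hu, map_sub, this, sub_self])
  obtain ⟨t', ht'⟩ := hlift β (n - 1 - 1) t ht
  refine ⟨z + (u - dd K β (n - 1 - 1) (n - 1) t'), ?_, fun γ hγ => ?_⟩
  · rw [map_add, map_sub, dd_dd, sub_zero, hu, add_sub_cancel]
  · rw [map_add, map_sub, hz γ hγ, ← dd_mp, ht' γ hγ, htv γ hγ]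
    simp only [v, dif_pos hγ, sub_self, add_zero]

include hex hlift in
lemma acy_of_forall (S : Set I) (hS : ∀ γ δ, γ ≤ δ → δ ∈ S → γ ∈ S)
    (hA : ∀ δ ∈ S, Acy K (Set.Iio δ)) : Acy K S := by
  classical
  intro n x hx hc
  let good : ∀ δ, (∀ γ, γ < δ → (K.obj (op γ)).X (n - 1)) → (K.obj (op δ)).X (n - 1) → Prop :=
    fun δ prev z => dd K δ (n - 1) n z = x δ ∧ ∀ γ (h : γ < δ), mp K h.le (n - 1) z = prev γ h
  let step : ∀ δ, (∀ γ, γ < δ → (K.obj (op γ)).X (n - 1)) → (K.obj (op δ)).X (n - 1) :=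
    fun δ prev => if h : ∃ z, good δ prev z then h.choose else 0
  let y : ∀ δ, (K.obj (op δ)).X (n - 1) := wellFounded_lt.fix step
  have key : ∀ δ, δ ∈ S → good δ (fun γ _ => y γ) (y δ) := by
    intro δ
    induction δ using WellFoundedLT.induction with
    | _ δ ih =>
      intro hδ
      have hcompat : Compat K (Set.Iio δ) (n - 1) y := by
        intro γ γ' h hγ'
        rcases h.eq_or_lt with rfl | h'
        · exact mp_rfl K _ _
        · exact (ih γ' hγ' (hS _ _ (le_of_lt hγ') hδ)).2 γ h'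
      have hex' : ∃ z, good δ (fun γ _ => y γ) z :=
        extend K hex hlift δ (hA δ hδ) n (x δ) (hc δ hδ) y hcompat (fun γ h => by
          rw [(ih γ h (hS _ _ h.le hδ)).1, hx γ δ h.le hδ])
      have hy : y δ = step δ (fun γ _ => y γ) := wellFounded_lt.fix_eq step δ
      rw [hy]
      simp only [step, dif_pos hex']
      exact hex'.choose_spec
  refine ⟨y, fun γ δ h hδ => ?_, fun δ hδ => (key δ hδ).1⟩
  rcases h.eq_or_lt with rfl | h'
  · exact mp_rfl K _ _
  · exact (key δ hδ).2 γ h'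

include hex hlift in
lemma acy_univ : Acy K Set.univ := by
  refine acy_of_forall K hex hlift _ (fun _ _ _ _ => trivial) fun δ _ => ?_
  induction δ using WellFoundedLT.induction with
  | _ δ ih =>
    exact acy_of_forall K hex hlift _ (fun _ _ h h' => lt_of_le_of_lt h h') fun γ hγ => ih γ hγ trivial

end

/-- Let I be a well-ordered type and K : Iᵒᵖ ⥤ CochainComplex Ab an inverse system of acyclic complexes
of abelian groups such that for every β and every degree n, each family of elements of the Kⁿ_γ (γ <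
β) compatible under the transition maps lifts to an element of Kⁿ_β (i.e. Kⁿ_β → lim_{γ<β} Kⁿ_γ is
surjective). Then the limit complex lim K is acyclic. -/
theorem result {I : Type w} [LinearOrder I] [WellFoundedLT I]
    (K : Iᵒᵖ ⥤ CochainComplex AddCommGrpCat.{w} ℤ)
    (hac : ∀ (β : I) (n : ℤ), (K.obj (op β)).ExactAt n)
    (hsurj : ∀ (β : I) (n : ℤ) (x : ∀ γ : {γ : I // γ < β}, (K.obj (op γ.1)).X n),
      (∀ (γ γ' : {γ : I // γ < β}) (h : γ.1 ≤ γ'.1), ((K.map (homOfLE h).op).f n).hom (x γ') = x γ) →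
      ∃ y : (K.obj (op β)).X n, ∀ γ : {γ : I // γ < β}, ((K.map (homOfLE γ.2.le).op).f n).hom y = x γ)
    (n : ℤ) : (limit K).ExactAt n := by
  classical
  have hex : ∀ (β : I) (n : ℤ) (x : (K.obj (op β)).X n), dd K β n (n + 1) x = 0 →
      ∃ y, dd K β (n - 1) n y = x := fun β n x hx => by
    have h := hac β n
    rw [HomologicalComplex.exactAt_iff' _ (n - 1) n (n + 1) (by simp) (by simp),
      ShortComplex.ab_exact_iff] at h
    exact h x hx
  have hlift : ∀ (β : I) (n : ℤ) (x : ∀ γ, (K.obj (op γ)).X n), Compat K (Set.Iio β) n x →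
      ∃ y : (K.obj (op β)).X n, ∀ γ (h : γ < β), mp K h.le n y = x γ := fun β n x hx => by
    obtain ⟨y, hy⟩ := hsurj β n (fun γ => x γ.1) (fun γ γ' h => hx γ.1 γ'.1 h γ'.2)
    exact ⟨y, fun γ h => hy ⟨γ, h⟩⟩
  have hl : ∀ m : ℤ, IsLimit ((HomologicalComplex.eval AddCommGrpCat.{w} (ComplexShape.up ℤ) m ⋙
      forget AddCommGrpCat.{w}).mapCone (limit.cone K)) := fun m =>
    isLimitOfPreserves _ (limit.isLimit K)
  rw [HomologicalComplex.exactAt_iff' _ (n - 1) n (n + 1) (by simp) (by simp),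
    ShortComplex.ab_exact_iff]
  intro x hx
  let fam : ∀ γ, (K.obj (op γ)).X n := fun γ => ((limit.π K (op γ)).f n).hom x
  have hcomm : ∀ γ (a b : ℤ) (z : (limit K).X a),
      dd K γ a b (((limit.π K (op γ)).f a).hom z) = ((limit.π K (op γ)).f b).hom (((limit K).d a b).hom z) :=
    fun γ a b z => congrArg (fun f => (AddCommGrpCat.Hom.hom f) z) ((limit.π K (op γ)).comm a b)
  obtain ⟨y, hy, hyx⟩ := acy_univ K hex hlift n fam
    (fun γ δ h _ => congrArg (fun (f : limit K ⟶ K.obj (op γ)) => ((f.f n).hom x))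
      (limit.w K (homOfLE h).op))
    (fun γ _ => by
      change dd K γ n (n + 1) (((limit.π K (op γ)).f n).hom x) = 0
      rw [hcomm γ n (n + 1) x]
      exact (congrArg _ hx).trans (map_zero _))
  refine ⟨(Types.isLimitEquivSections (hl (n - 1))).symm
    ⟨fun j => y j.unop, fun {j j'} g => hy j'.unop j.unop (leOfHom g.unop) trivial⟩, ?_⟩
  apply (Types.isLimitEquivSections (hl n)).injective
  apply Subtype.ext
  funext j
  obtain ⟨γ⟩ := j
  refine (hcomm γ (n - 1) n _).symm.trans (Eq.trans ?_ (hyx γ trivial))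
  exact congrArg (dd K γ (n - 1) n) (Types.isLimitEquivSections_symm_apply (hl (n - 1)) _ (op γ))

end Groth.Agent.S0992
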