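import Groth.Statements.S10002
import Groth.Agent.SpQC86.PushQC
import Groth.Agent.SpPts86.Separation

set_option autoImplicit false
set_option backward.isDefEq.respectTransparency false
universe u
open CategoryTheory CategoryTheory.Limits AlgebraicGeometry Opposite
open AlgSp

namespace Groth.Agent.S10002

/-- For a morphism f : X ⟶ Y of algebraic spaces that is representable by schemes, quasi-compact and
quasi-separated, the direct image f_* carries quasi-coherent O_X-modules on the small etale site to
quasi-coherent O_Y-modules. (The published statement is for an arbitrary quasi-compact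
quasi-separated morphism of algebraic spaces; the direct image functor between the small etale sites
with scheme charts is available only for representable f, which is the case stated.) -/
theorem result {S : Scheme.{u}} {X Y : AlgSp.Space S} (f : X ⟶ Y)
    (hf : AlgSp.Representable f.hom) (hqc : AlgSp.IsQuasiCompactMor f.hom) (hqs : AlgSp.IsQuasiSeparatedMor f.hom)
    (F : AlgSp.ModEt X.obj) [F.IsQuasicoherent] :
    ((AlgSp.pushModEt hf).obj F).IsQuasicoherent := by
  refine SpQC86.isQuasicoherent_of_good _ fun E hE => fun E' g hE' => ?_
  haveI := hE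
  haveI := hE'
  have sq := AlgSp.EtOver.isPullback_bcObj hf E
  haveI : CompactSpace (AlgSp.Points ((AlgSp.yon S).obj E.obj.left)) := SpPts86.compactSpace_points_yon E.obj.left
  haveI : CompactSpace (AlgSp.Points ((AlgSp.yon S).obj ((AlgSp.EtOver.bc hf).obj E).obj.left)) :=
    SpPts86.compactSpace_of_isQuasiCompactMor hqc (AlgSp.IsAlgSpace.yon_obj E.obj.left) sq
  haveI : CompactSpace ↥((AlgSp.EtOver.bc hf).obj E).obj.left.left :=
    (AlgSp.Points.schemeHomeo ((AlgSp.EtOver.bc hf).obj E).obj.left).symm.compactSpace
  have hqs' : AlgSp.RepWith @QuasiSeparated f.hom := by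
    rw [quasiSeparated_eq_diagonal_is_quasiCompact]
    exact (SpPts86.repWith_diagonal_iff @QuasiCompact X.property.diag hf).1 hqs
  haveI : QuasiSeparated (hf.snd E.obj.hom).left := hqs'.property _ _ _ sq
  haveI : QuasiSeparatedSpace ↥((AlgSp.EtOver.bc hf).obj E).obj.left.left :=
    quasiSeparatedSpace_of_quasiSeparated (hf.snd E.obj.hom).left
  exact SpQC86.goodM_push hf g F

end Groth.Agent.S10002
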