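import Groth.Statements.S10005
import Groth.Agent.SpPts86.EvSepSp
import Groth.Agent.SpPts86.FieldSeparated
import Groth.Agent.SpPts86.PieceEtale

set_option autoImplicit false
universe u
open CategoryTheory CategoryTheory.Limits AlgebraicGeometry
open AlgSp

namespace Groth.Agent.S10005

/-- Let `S` be a quasi-separated scheme and `X` the limit, in fppf sheaves over `S`, of a cofiltered
system `(X_i)` of quasi-compact algebraic spaces over `S`, each quasi-separated over `S`, whose
transition maps are affine. If `X` is separated over `S`, then `X_i` is separated over `S` for some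
`i`. (The published statement uses absolute separatedness and quasi-separatedness and puts no
condition on `S`; this row assumes `S` quasi-separated and takes both notions over `S`, which gives
the same quasi-separatedness and, when `S` is separated, the same separatedness.) -/
theorem result (S : Scheme.{u}) [QuasiSeparatedSpace S] {I : Type u} [SmallCategory I] [IsCofiltered I]
    (D : I ⥤ AlgSp.Sp S) (hD : ∀ i, AlgSp.IsAlgSpace (D.obj i))
    (hDa : ∀ (i j : I) (φ : i ⟶ j), AlgSp.IsAffineMor (D.map φ))
    (hqc : ∀ i, AlgSp.IsQuasiCompactSp (D.obj i)) (hqs : ∀ i, AlgSp.IsQuasiSeparatedSp (D.obj i))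
    (c : Cone D) (hc : IsLimit c)
    (hX : AlgSp.IsSeparatedSp c.pt) : ∃ i, AlgSp.IsSeparatedSp (D.obj i) := by
  let T : AlgSp.Sp S := (AlgSp.yon S).obj (Over.mk (𝟙 S))
  have hT : IsTerminal T := IsTerminal.isTerminalObj (AlgSp.yon S) _ Over.mkIdTerminal
  haveI : IsIso (Limits.diag T) := ⟨prod.fst, prod.lift_fst _ _, by
    apply Limits.prod.hom_ext <;> exact hT.hom_ext _ _⟩
  let t : D ⟶ (Functor.const I).obj T :=
    { app := fun i => hT.from (D.obj i), naturality := fun i j φ => hT.hom_ext _ _ }
  obtain ⟨i₀, h⟩ := SpPts86.eventually_separated t hD (AlgSp.IsAlgSpace.yon_obj _) hDa hc (hT.from c.pt)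
    (fun i => hT.hom_ext _ _) hqc hqs (MorphismProperty.of_isIso (AlgSp.RepWith @QuasiCompact) (Limits.diag T))
    (SpPts86.repWith_diagonal hX)
  exact ⟨i₀, SpPts86.isSeparatedSp_of_diagonal (t.app i₀) (h i₀ (𝟙 i₀))
    (MorphismProperty.of_isIso (AlgSp.RepWith @IsClosedImmersion) (Limits.diag T))⟩

end Groth.Agent.S10005
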