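import Groth.Statements.S10008
import Groth.Agent.SpPts86.Compact
import Groth.Agent.SpPts86.FiniteCrit
import Mathlib.AlgebraicGeometry.AffineTransitionLimit

set_option autoImplicit false
universe u
open CategoryTheory CategoryTheory.Limits AlgebraicGeometry
open AlgSp

namespace Groth.Agent.S10008

/-- Let `X` be the limit, in fppf sheaves over `S`, of a cofiltered system `(X_i)` of algebraic spaces
over `S` whose transition maps are affine. If every `X_i` is quasi-compact and has at least one
point, then `X` has a point. -/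
theorem result (S : Scheme.{u}) {I : Type u} [SmallCategory I] [IsCofiltered I]
    (D : I ⥤ AlgSp.Sp S) (hD : ∀ i, AlgSp.IsAlgSpace (D.obj i))
    (hDa : ∀ (i j : I) (φ : i ⟶ j), AlgSp.IsAffineMor (D.map φ))
    (c : Cone D) (hc : IsLimit c)
    (hqc : ∀ i, AlgSp.IsQuasiCompactSp (D.obj i)) (hne : ∀ i, Nonempty (AlgSp.Points (D.obj i))) :
    Nonempty (AlgSp.Points c.pt) := by
  classical
  obtain ⟨i₀⟩ := IsCofiltered.nonempty (C := I)
  haveI := (SpPts86.isQuasiCompactSp_iff_compactSpace (hD i₀)).1 (hqc i₀)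
  obtain ⟨U₀, x, hU₀, hxe, hxs⟩ := SpPts86.exists_affine_chart_of_compactSpace (hD i₀)
  have hsq := fun k : Over i₀ => hDa k.left i₀ k.hom hU₀ x
  choose W w fst sq hW using hsq
  have hmap : ∀ {k l : Over i₀} (φ : k ⟶ l), ∃ e : W k ⟶ W l,
      (AlgSp.yon S).map e ≫ fst l = fst k ≫ D.map φ.left ∧ e ≫ w l = w k := by
    intro k l φ
    obtain ⟨e, he⟩ := (AlgSp.yon S).map_surjective ((sq l).lift (fst k ≫ D.map φ.left) ((AlgSp.yon S).map (w k))
      (by rw [Category.assoc, ← Functor.map_comp, Over.w φ, (sq k).w]))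
    exact ⟨e, by rw [he, (sq l).lift_fst],
      (AlgSp.yon S).map_injective (by rw [Functor.map_comp, he, (sq l).lift_snd])⟩
  choose e he₁ he₂ using @hmap
  have hext : ∀ {l : Over i₀} {A : Over S} (a b : A ⟶ W l),
      (AlgSp.yon S).map a ≫ fst l = (AlgSp.yon S).map b ≫ fst l → a ≫ w l = b ≫ w l → a = b :=
    fun {l} A a b h1 h2 => (AlgSp.yon S).map_injective ((sq l).hom_ext h1
      (by rw [← Functor.map_comp, ← Functor.map_comp, h2]))
  let E : Over i₀ ⥤ AffineScheme.{u} :=
    { obj := fun k => AffineScheme.mk (W k).left (hW k)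
      map := fun φ => AffineScheme.ofHom (X := (W _).left) (Y := (W _).left) (e φ).left
      map_id := fun k => by
        have : e (𝟙 k) = 𝟙 (W k) := hext _ _
          (by rw [he₁, Over.id_left, CategoryTheory.Functor.map_id, Category.comp_id,
            CategoryTheory.Functor.map_id, Category.id_comp])
          (by rw [he₂, Category.id_comp])
        apply AffineScheme.forgetToScheme.map_injective
        exact congrArg CommaMorphism.left this
      map_comp := fun {a b d} φ ψ => by
        have : e (φ ≫ ψ) = e φ ≫ e ψ := hext _ _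
          (by rw [he₁, Functor.map_comp, Category.assoc, he₁, ← Category.assoc, he₁, Category.assoc,
            ← Functor.map_comp, Over.comp_left])
          (by rw [he₂, Category.assoc, he₂, he₂])
        apply AffineScheme.forgetToScheme.map_injective
        exact congrArg CommaMorphism.left this }
  let E' : Over i₀ ⥤ Scheme.{u} := E ⋙ AffineScheme.forgetToScheme
  haveI hne' : ∀ k, Nonempty (E'.obj k) := fun k => by
    obtain ⟨y⟩ := hne k.left
    obtain ⟨u₀, hu₀⟩ := SpPts86.surjective_ofPt hxs (AlgSp.Points.map (D.map k.hom) y)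
    obtain ⟨z, -, -⟩ := SpPts86.exists_of_isPullback (sq k) y (AlgSp.Points.ofScheme U₀ u₀)
      (by rw [← AlgSp.Points.ofPt_eq_map_ofScheme, hu₀])
    exact ⟨(AlgSp.Points.schemeEquiv (W k)).symm z⟩
  haveI : ∀ k, IsAffine (E'.obj k) := fun k => hW k
  haveI : ∀ {k l} (φ : k ⟶ l), IsAffineHom (E'.map φ) := fun φ => inferInstance
  haveI : ∀ k, CompactSpace (E'.obj k) := fun k => inferInstance
  let cE : Cone E' := AffineScheme.forgetToScheme.mapCone (limit.cone E)
  obtain ⟨u⟩ := Scheme.nonempty_of_isLimit E' cE (isLimitOfPreserves _ (limit.isLimit E))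
  let K := cE.pt.fromSpecResidueField u
  let t : Over i₀ := Over.mk (𝟙 i₀)
  let str : Spec (cE.pt.residueField u) ⟶ S := K ≫ cE.π.app t ≫ (W t).hom
  have hstr : ∀ k, (K ≫ cE.π.app k) ≫ (W k).hom = str := fun k => by
    have hk := cE.w (Over.homMk k.hom (by simp [t]) : k ⟶ t)
    show (K ≫ cE.π.app k) ≫ (W k).hom = K ≫ cE.π.app t ≫ (W t).hom
    rw [← hk, ← Over.w (e (Over.homMk k.hom (by simp [t]) : k ⟶ t))]
    simp only [Category.assoc]
    rfl
  let p : ∀ k, Over.mk str ⟶ W k := fun k => Over.homMk (K ≫ cE.π.app k) (hstr k)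
  have hp : ∀ {k l} (φ : k ⟶ l), p k ≫ e φ = p l := fun {k l} φ => by
    ext1
    rw [Over.comp_left]
    show (K ≫ cE.π.app k) ≫ (e φ).left = K ≫ cE.π.app l
    rw [← cE.w φ, Category.assoc]
    rfl
  let cD : Cone (Over.forget i₀ ⋙ D) :=
    { pt := (AlgSp.yon S).obj (Over.mk str)
      π := { app := fun k => (AlgSp.yon S).map (p k) ≫ fst k
             naturality := fun k l φ => by
              have h2 : (AlgSp.yon S).map (p l) ≫ fst l = ((AlgSp.yon S).map (p k) ≫ fst k) ≫ D.map φ.left := by
                rw [← hp φ, Functor.map_comp, Category.assoc, he₁ φ, Category.assoc]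
              exact (Category.id_comp _).trans h2 } }
  let cD' : Cone D := (Functor.Initial.extendCone (F := Over.forget i₀)).obj cD
  exact ⟨AlgSp.Points.map (hc.lift cD') (AlgSp.Points.ofScheme (Over.mk str) (IsLocalRing.closedPoint _))⟩

end Groth.Agent.S10008
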