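import Groth.Statements.S9960
import Groth.Agent.SpPts86.LocPMore
import Groth.Agent.SpPts86.QCMor
import Groth.Agent.SpFP87.SourceInst
import Groth.Agent.SpPts86.DiagProps
import Groth.Agent.SpPts86.HasAtMorBC

set_option autoImplicit false
universe u
open CategoryTheory CategoryTheory.Limits AlgebraicGeometry
open AlgSp

namespace Groth.Agent.S9960

/-- The diagonal of a morphism locally of finite type is locally of finite presentation, and of finite
presentation when the morphism is also quasi-separated. -/
theorem result {S : Scheme.{u}} {X Y : AlgSp.Space S} (f : X ⟶ Y)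
    (hf : AlgSp.LocP @LocallyOfFiniteType f.hom) :
    AlgSp.LocP @LocallyOfFinitePresentation (pullback.diagonal f.hom) ∧
    (AlgSp.IsQuasiSeparatedMor f.hom → AlgSp.IsFinitePresentationMor (pullback.diagonal f.hom)) := by
  have sq := IsPullback.of_hasPullback f.hom f.hom
  have hP := SpFP87.isAlgSpace_of_isPullback sq X.property X.property Y.property.diag
  have hfst : AlgSp.LocP @LocallyOfFiniteType (pullback.fst f.hom f.hom) :=
    SpFP87.locP_baseChange sq.flip X.property Y.property X.property hf
  have h1 : AlgSp.LocP @LocallyOfFinitePresentation (pullback.diagonal f.hom) := by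
    refine SpPts86.locP_of_comp (P := @LocallyOfFinitePresentation) (Q := @LocallyOfFiniteType)
      (R := @LocallyOfFinitePresentation) (fun a b h1 h2 => SpPts86.lfp_of_comp a b)
      X.property hP X.property ?_ hfst
    rw [pullback.diagonal_fst]
    intro U V p q h hp hq w
    rw [Category.comp_id] at w
    have : Etale h.left := by
      obtain ⟨R, t, s, sqR⟩ := SpFP87.exists_isPullback_yon X.property.diag p q
      obtain ⟨e, he⟩ := (AlgSp.yon S).map_surjective (sqR.lift (𝟙 _) ((AlgSp.yon S).map h) (by rw [Category.id_comp]; exact w))
      have et : e ≫ t = 𝟙 U := (AlgSp.yon S).map_injective (by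
        rw [Functor.map_comp, he, sqR.lift_fst, CategoryTheory.Functor.map_id])
      have es : e ≫ s = h := (AlgSp.yon S).map_injective (by rw [Functor.map_comp, he, sqR.lift_snd])
      have : Etale s.left := SpFP87.etale_snd_of_isPullback sqR hp
      have : Etale t.left := SpFP87.etale_snd_of_isPullback sqR.flip hq
      have : Etale (e.left ≫ t.left) := by
        rw [← Over.comp_left, et]; exact inferInstanceAs (Etale (𝟙 U.left))
      have : Etale e.left := Etale.of_comp e.left t.left
      rw [← es, Over.comp_left]
      infer_instance
    infer_instance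
  refine ⟨h1, fun hqs => ⟨h1, ?_, ?_⟩⟩
  · exact SpPts86.isQuasiCompactMor_of_repWith hP hqs
  · have : IsIso (pullback.diagonal (pullback.diagonal f.hom)) := inferInstance
    exact MorphismProperty.of_isIso (AlgSp.RepWith @QuasiCompact) _

end Groth.Agent.S9960
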