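import Groth.Statements.S10482
import Groth.Agent.SpFP87.OverField
import Mathlib.AlgebraicGeometry.Morphisms.QuasiFinite

set_option autoImplicit false
universe u
open CategoryTheory CategoryTheory.Limits AlgebraicGeometry Topology TopologicalSpace
open AlgSp

namespace Groth.Agent.S10482

/-- (1) ⇔ (2): let k be a field and X an algebraic space over k. Then X is locally quasi-finite over k
if and only if X is locally of finite type over k of dimension at most 0. (The published statement
says dimension 0; dimension at most 0 is used so that the empty space, whose dimension is the bottom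
element, is covered by both sides.) -/
theorem result (k : Type u) [Field k] (X : AlgSp.Space (Spec (CommRingCat.of k))) (p : X.obj ⟶ (AlgSp.yon (Spec (CommRingCat.of k))).obj (Over.mk (𝟙 _))) :
    AlgSp.LocP (@LocallyQuasiFinite ⊓ @LocallyOfFiniteType : MorphismProperty Scheme.{u}) p ↔ AlgSp.LocP @LocallyOfFiniteType p ∧ AlgSp.dim X.obj ≤ 0 := by
  haveI : MorphismProperty.ContainsIdentities (@Etale : MorphismProperty Scheme.{u}) := ⟨fun _ => inferInstance⟩
  haveI : Subsingleton ↥(Spec (CommRingCat.of k)) := inferInstanceAs (Subsingleton (PrimeSpectrum k))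
  constructor
  · intro h
    refine ⟨fun U V a b g ha hb w => (h a b g ha hb w).2, iSup_le (α := WithBot ℕ∞) fun U => iSup_le fun a => iSup_le fun ha => ?_⟩
    obtain ⟨g, hg⟩ := (yon _).map_surjective (a ≫ p)
    haveI : LocallyQuasiFinite g.left := (h a (𝟙 _) g ha (repWith_id _ _) (by rw [Category.comp_id]; exact hg.symm)).1
    haveI : DiscreteTopology ↥U.left := isDiscrete_univ_iff.1 <| by
      let y : ↥(Spec (CommRingCat.of k)) := (Classical.arbitrary (PrimeSpectrum k) :)
      have hu : (Set.univ : Set ↥U.left) = g.left ⁻¹' {(y :)} :=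
        Set.ext fun x => ⟨fun _ => @Subsingleton.elim _ ‹Subsingleton ↥(Spec (CommRingCat.of k))› (g.left x) y, fun _ => trivial⟩
      rw [hu]
      exact g.left.isDiscrete_preimage_singleton y
    exact topologicalKrullDim_zero_of_discreteTopology _
  · rintro ⟨hl, hd⟩ U V a b g ha hb w
    haveI : LocallyOfFiniteType g.left := hl a b g ha hb w
    obtain ⟨_, _⟩ := Groth.Agent.SpFP87.chart_over_field p hl ha
    haveI := Groth.Agent.SpFP87.discreteTopology_of_dim_le_zero
      ((le_iSup_of_le (α := WithBot ℕ∞) U (le_iSup_of_le a (le_iSup_of_le ha le_rfl)) :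
        topologicalKrullDim ↥U.left ≤ dim X.obj).trans hd)
    refine ⟨locallyQuasiFinite_iff_isDiscrete_preimage_singleton.2 fun y => ?_, inferInstance⟩
    exact (isDiscrete_univ_iff.2 inferInstance).mono (Set.subset_univ _)

end Groth.Agent.S10482
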