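import Groth.Statements.S10045
import Groth.Agent.SpFP87.ThickScheme
import Groth.Agent.SpPts86.RedFactor
import Groth.Agent.SpPts86.Compact

set_option autoImplicit false
set_option backward.isDefEq.respectTransparency false
universe u
open CategoryTheory CategoryTheory.Limits AlgebraicGeometry Topology TopologicalSpace
open AlgSp Groth.Agent.SpPts86 Groth.Agent.SpFP87

namespace Groth.Agent.S10045

/-- Let `X` be an algebraic space over `S` and `X_red ⟶ X` its reduction (the reduced closed subspace
with the same points). If `X_red` is a scheme, then `X` is a scheme. -/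
theorem result (S : Scheme.{u}) (X Z : AlgSp.Space S) (i : Z ⟶ X)
    (hi : AlgSp.IsRedInduced Set.univ i.hom) (hZ : Z.obj.obj.IsRepresentable) : X.obj.obj.IsRepresentable := by
  obtain ⟨T, ⟨r⟩⟩ := hZ.has_representation
  have hth : IsThickMor i.hom := SpPts86.repWith_inf hi.1
    ((repWith_surjective_iff hi.1.rep).2 fun x => hi.2.1.ge (Set.mem_univ x))
  obtain ⟨T', ⟨e⟩⟩ := exists_scheme_of_thick hth X.property (isoOfRepresentableBy r)
  exact ⟨T', ⟨representableByOfIso e⟩⟩

end Groth.Agent.S10045
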