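import Groth.Statements.S10067
import Groth.Agent.SpPts86.LimPres

set_option autoImplicit false
universe u
open CategoryTheory CategoryTheory.Limits AlgebraicGeometry
open AlgSp

namespace Groth.Agent.S10067

/-- A transformation `a : F ⟶ G` of presheaves of sets on schemes over `S` is relatively limit
preserving if and only if, for every directed limit `T = lim T_i` of affine schemes over `S` (with
`T` affine), the square formed by `colim F(T_i) → F(T)`, `colim G(T_i) → G(T)` and the two maps
induced by `a` is cartesian in sets. -/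
theorem result (S : Scheme.{u}) {F G : AlgSp.PSp S} (a : F ⟶ G) :
    AlgSp.IsRelLimitPreserving a ↔
      ∀ ⦃I : Type u⦄ [SmallCategory I] [IsCofiltered I] (D : I ⥤ Over S) (c : Cone D),
        IsLimit ((Over.forget S).mapCone c) → (∀ i, IsAffine (D.obj i).left) → IsAffine c.pt.left →
          IsPullback (colimMap (Functor.whiskerLeft D.op a)) (colimit.desc (D.op ⋙ F) (F.mapCocone c.op))
            (colimit.desc (D.op ⋙ G) (G.mapCocone c.op)) (a.app (Opposite.op c.pt)) := by
  rw [SpPts86.isRelLimitPreserving_iff_relLP]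
  constructor
  · intro h I _ _ D c hc hD hT
    obtain ⟨hs, hi⟩ := h D c hc hD hT
    have e1 : ∀ (i : Iᵒᵖ) (x : (D.op ⋙ F).obj i),
        colimMap (Functor.whiskerLeft D.op a) (colimit.ι (D.op ⋙ F) i x) =
          colimit.ι (D.op ⋙ G) i (a.app _ x) := fun i x =>
      ConcreteCategory.congr_hom (ι_colimMap (Functor.whiskerLeft D.op a) i) x
    have e2 : ∀ (K : AlgSp.PSp S) (i : Iᵒᵖ) (x : (D.op ⋙ K).obj i),
        colimit.desc (D.op ⋙ K) (K.mapCocone c.op) (colimit.ι (D.op ⋙ K) i x) =
          K.map (c.π.app i.unop).op x := fun K i x =>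
      ConcreteCategory.congr_hom (colimit.ι_desc (K.mapCocone c.op) i) x
    refine (Types.isPullback_iff _ _ _ _).2 ⟨?_, fun z z' ⟨h1, h2⟩ => ?_, fun η x e => ?_⟩
    · apply colimit.hom_ext
      intro i
      rw [ι_colimMap_assoc, colimit.ι_desc, colimit.ι_desc_assoc]
      exact (a.naturality _).symm
    · obtain ⟨i, x, rfl⟩ := Types.jointly_surjective' z
      obtain ⟨i', x', rfl⟩ := Types.jointly_surjective' z'
      rw [e1, e1] at h1
      rw [e2, e2] at h2
      obtain ⟨k, f, g, hk⟩ := (Types.FilteredColimit.colimit_eq_iff _).1 h1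
      obtain ⟨j, p, hp⟩ := hi k.unop (F.map (D.map f.unop).op x) (F.map (D.map g.unop).op x')
        (by rw [NatTrans.naturality_apply a, NatTrans.naturality_apply a]; exact hk)
        (by
          rw [SpPts86.map_map_eq _ _ _ (c.w f.unop), SpPts86.map_map_eq _ _ _ (c.w g.unop)]
          exact h2)
      refine (Types.FilteredColimit.colimit_eq_iff _).2 ⟨Opposite.op j, f ≫ p.op, g ≫ p.op, ?_⟩
      rw [(D.op ⋙ F).map_comp, (D.op ⋙ F).map_comp]
      exact hp
    · obtain ⟨i, y, rfl⟩ := Types.jointly_surjective' η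
      rw [e2] at e
      obtain ⟨j, f, x', h1, h2⟩ := hs i.unop x y e.symm
      refine ⟨colimit.ι (D.op ⋙ F) (Opposite.op j) x', ?_, (e2 F _ x').trans h2⟩
      rw [e1]
      refine (Types.FilteredColimit.colimit_eq_iff _).2
        ⟨Opposite.op j, 𝟙 _, f.op, ?_⟩
      rw [CategoryTheory.Functor.map_id]
      exact h1
  · intro h I _ _ D c hc hD hT
    have sq := h D c hc hD hT
    have e1 : ∀ (i : Iᵒᵖ) (x : (D.op ⋙ F).obj i),
        colimMap (Functor.whiskerLeft D.op a) (colimit.ι (D.op ⋙ F) i x) =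
          colimit.ι (D.op ⋙ G) i (a.app _ x) := fun i x =>
      ConcreteCategory.congr_hom (ι_colimMap (Functor.whiskerLeft D.op a) i) x
    have e2 : ∀ (K : AlgSp.PSp S) (i : Iᵒᵖ) (x : (D.op ⋙ K).obj i),
        colimit.desc (D.op ⋙ K) (K.mapCocone c.op) (colimit.ι (D.op ⋙ K) i x) =
          K.map (c.π.app i.unop).op x := fun K i x =>
      ConcreteCategory.congr_hom (colimit.ι_desc (K.mapCocone c.op) i) x
    refine ⟨fun i x y hx => ?_, fun i x x' hx e => ?_⟩
    · obtain ⟨z, hz1, hz2⟩ := Types.exists_of_isPullback sq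
        (colimit.ι (D.op ⋙ G) (Opposite.op i) y) x ((e2 G _ y).trans hx.symm)
      obtain ⟨k, x', rfl⟩ := Types.jointly_surjective' z
      rw [e1] at hz1
      rw [e2] at hz2
      obtain ⟨l, f, g, hl⟩ := (Types.FilteredColimit.colimit_eq_iff _).1 hz1
      refine ⟨l.unop, g.unop, F.map (D.map f.unop).op x', ?_, ?_⟩
      · rw [NatTrans.naturality_apply a]; exact hl
      · rw [SpPts86.map_map_eq _ _ _ (c.w f.unop)]; exact hz2
    · have key : colimit.ι (D.op ⋙ F) (Opposite.op i) x = colimit.ι (D.op ⋙ F) (Opposite.op i) x' :=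
        Types.ext_of_isPullback sq ((e1 _ x).trans ((congrArg _ hx).trans (e1 _ x').symm)) ((e2 F _ x).trans (e.trans (e2 F _ x').symm))
      obtain ⟨k, f, g, hk⟩ := (Types.FilteredColimit.colimit_eq_iff _).1 key
      refine ⟨(IsFiltered.coeq f g).unop, (f ≫ IsFiltered.coeqHom f g).unop, ?_⟩
      have hg := congrArg ((D.op ⋙ F).map (IsFiltered.coeqHom f g)) hk
      simp only [← Functor.map_comp_apply] at hg
      rw [← IsFiltered.coeq_condition] at hg
      exact hg

end Groth.Agent.S10067
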