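import Groth.Statements.S10077
import Groth.Agent.SpPts86.LfpColim

set_option autoImplicit false
universe u
open CategoryTheory CategoryTheory.Limits AlgebraicGeometry
open AlgSp
set_option backward.isDefEq.respectTransparency false
set_option linter.style.haveILetI false

namespace Groth.Agent.S10077

/-- A morphism `f : X ⟶ Y` of algebraic spaces over `S` is locally of finite presentation if and only if
for every directed limit `T = lim T_i` of algebraic spaces over `S`, each quasi-compact and
quasi-separated over `S`, with affine transition maps, the square formed by `colim Mor(T_i, X) →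
Mor(T, X)`, `colim Mor(T_i, Y) → Mor(T, Y)` and composition with `f` is cartesian in sets. (The
published statement allows any base scheme and uses absolute quasi-separatedness; this row assumes
the base quasi-separated, over which quasi-separatedness relative to the base is the absolute
notion.) -/
theorem result (S : Scheme.{u}) [QuasiSeparatedSpace S]
    {X Y : AlgSp.Space S} (f : X ⟶ Y) :
    AlgSp.LocP @LocallyOfFinitePresentation f.hom ↔
      ∀ ⦃I : Type u⦄ [SmallCategory I] [IsCofiltered I] (D : I ⥤ AlgSp.Sp S),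
        (∀ i, AlgSp.IsAlgSpace (D.obj i)) → (∀ (i j : I) (φ : i ⟶ j), AlgSp.IsAffineMor (D.map φ)) →
        (∀ i, AlgSp.IsQuasiCompactSp (D.obj i)) → (∀ i, AlgSp.IsQuasiSeparatedSp (D.obj i)) →
        ∀ (c : Cone D) (_ : IsLimit c),
          IsPullback (colimMap (Functor.whiskerLeft D.op (yoneda.map f.hom)))
            (colimit.desc (D.op ⋙ yoneda.obj X.obj) ((yoneda.obj X.obj).mapCocone c.op))
            (colimit.desc (D.op ⋙ yoneda.obj Y.obj) ((yoneda.obj Y.obj).mapCocone c.op))
            ((yoneda.map f.hom).app (Opposite.op c.pt)) := by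
  have e1 : ∀ {I : Type u} [SmallCategory I] (D : I ⥤ AlgSp.Sp S) (i : Iᵒᵖ) (x : (D.op ⋙ yoneda.obj X.obj).obj i),
      colimMap (Functor.whiskerLeft D.op (yoneda.map f.hom)) (colimit.ι (D.op ⋙ yoneda.obj X.obj) i x) =
        colimit.ι (D.op ⋙ yoneda.obj Y.obj) i (x ≫ f.hom) := fun D i x =>
    ConcreteCategory.congr_hom (ι_colimMap (Functor.whiskerLeft D.op (yoneda.map f.hom)) i) x
  have e2 : ∀ {I : Type u} [SmallCategory I] (D : I ⥤ AlgSp.Sp S) (c : Cone D) (K : AlgSp.Sp S) (i : Iᵒᵖ)
      (x : (D.op ⋙ yoneda.obj K).obj i),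
      colimit.desc (D.op ⋙ yoneda.obj K) ((yoneda.obj K).mapCocone c.op) (colimit.ι (D.op ⋙ yoneda.obj K) i x) =
        c.π.app i.unop ≫ x := fun D c K i x =>
    ConcreteCategory.congr_hom (colimit.ι_desc ((yoneda.obj K).mapCocone c.op) i) x
  constructor
  · intro hf I _ _ D hD hDa hqc hqs c hc
    have hr := SpPts86.relLP_of_isRelLimitPreserving _
      (SpPts86.isRelLimitPreserving_of_locP_lfp X.property Y.property f.hom hf)
    refine (Types.isPullback_iff _ _ _ _).2 ⟨?_, fun z z' ⟨h1, h2⟩ => ?_, fun η x e => ?_⟩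
    · apply colimit.hom_ext
      intro i
      rw [ι_colimMap_assoc, colimit.ι_desc, colimit.ι_desc_assoc]
      ext x
      exact (Category.assoc _ _ _).symm
    · obtain ⟨i, x, rfl⟩ := Types.jointly_surjective' z
      obtain ⟨i', x', rfl⟩ := Types.jointly_surjective' z'
      rw [e1, e1] at h1
      rw [e2, e2] at h2
      obtain ⟨k, a, b, hk⟩ := (Types.FilteredColimit.colimit_eq_iff _).1 h1
      obtain ⟨j, p, hp⟩ := SpPts86.colim_hom_inj hr hD hDa hqc hc (D.map a.unop ≫ x) (D.map b.unop ≫ x')
        ((Category.assoc _ _ _).trans (Eq.trans hk (Category.assoc (D.map b.unop) x' f.hom).symm))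
        (by rw [← Category.assoc, ← Category.assoc, c.w, c.w]; exact h2)
      refine (Types.FilteredColimit.colimit_eq_iff _).2 ⟨Opposite.op j, a ≫ p.op, b ≫ p.op, ?_⟩
      rw [(D.op ⋙ yoneda.obj X.obj).map_comp, (D.op ⋙ yoneda.obj X.obj).map_comp]
      exact hp
    · obtain ⟨i, y, rfl⟩ := Types.jointly_surjective' η
      rw [e2] at e
      obtain ⟨j, φ, x', h1, h2⟩ := SpPts86.colim_hom_surj hr hD hDa hqc hc hqs x (i := i.unop) y e.symm
      refine ⟨colimit.ι (D.op ⋙ yoneda.obj X.obj) (Opposite.op j) x', ?_, (e2 D c X.obj _ x').trans h1⟩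
      rw [e1]
      refine (Types.FilteredColimit.colimit_eq_iff _).2 ⟨Opposite.op j, 𝟙 _, φ.op, ?_⟩
      rw [CategoryTheory.Functor.map_id]
      exact h2
  · intro h
    refine SpPts86.locP_lfp_of_lifts X.property Y.property f.hom fun I _ _ D c hc hD hT x i y e => ?_
    haveI : IsConnected I := IsCofiltered.isConnected _
    let hl : IsLimit c := isLimitOfReflects (Over.forget S) hc
    have sq := h (D ⋙ AlgSp.yon S) (fun j => IsAlgSpace.yon_obj _)
      (fun j k φ => SpPts86.isAffineMor_of_repWith ((repWith_yon_map_iff _ _).2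
        (haveI := hD j; haveI := hD k; isAffineHom_of_isAffine _)))
      (fun j => haveI := hD j; SpPts86.isQuasiCompactSp_yon _)
      (fun j => haveI := hD j; (repWith_diag_yon_iff _ _).2
        (inferInstance : QuasiSeparated (D.obj j).hom).quasiCompact_diagonal)
      ((AlgSp.yon S).mapCone c) (isLimitOfPreserves (AlgSp.yon S) hl)
    obtain ⟨z, hz1, hz2⟩ := Types.exists_of_isPullback sq
      (colimit.ι ((D ⋙ AlgSp.yon S).op ⋙ yoneda.obj Y.obj) (Opposite.op i) y) x ((e2 (D ⋙ AlgSp.yon S) ((AlgSp.yon S).mapCone c) Y.obj (Opposite.op i) y).trans e.symm)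
    obtain ⟨k, x', rfl⟩ := Types.jointly_surjective' z
    rw [e1] at hz1
    rw [e2] at hz2
    obtain ⟨l, a, b, hl'⟩ := (Types.FilteredColimit.colimit_eq_iff _).1 hz1
    refine ⟨l.unop, b.unop, (D ⋙ AlgSp.yon S).map a.unop ≫ x', ?_, (Category.assoc _ _ _).trans hl'⟩
    refine Eq.trans ?_ hz2
    exact (Category.assoc _ _ _).symm.trans (congrArg (· ≫ x') (((AlgSp.yon S).mapCone c).w a.unop))

end Groth.Agent.S10077
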