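import Groth.Statements.S10084
import Groth.Agent.SpQC86.SubFamIdeal
import Groth.Agent.SpProper61.Induction

set_option autoImplicit false
universe u
open CategoryTheory CategoryTheory.Limits AlgebraicGeometry Opposite
open AlgSp

namespace Groth.Agent.S10084

/-- Let `S` be a quasi-separated scheme, `X` an algebraic space over `S`, quasi-compact and
quasi-separated over `S`, and `j : U ⟶ X` an open subspace. Then `U` is quasi-compact exactly when
there are a quasi-coherent sheaf of ideals `I` of finite type on the small etale site of `X`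
(finitely generated ideal of sections on every affine object) and a closed subspace `Z ⟶ X` cut out
by `I` whose points are exactly the points of `X` outside the image of `U`. (The further equivalent
condition that `j` is quasi-compact is not included.) (The published statement allows any base
scheme and uses absolute quasi-separatedness; this row assumes the base quasi-separated, over which
quasi-separatedness relative to the base is the absolute notion.) -/
theorem result {S : Scheme.{u}} [QuasiSeparatedSpace ↥S] (X : AlgSp.Space S)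
    (hqc : AlgSp.IsQuasiCompactSp X.obj) (hqs : AlgSp.IsQuasiSeparatedSp X.obj)
    (U : AlgSp.Space S) (j : U ⟶ X) (hj : AlgSp.RepWith @IsOpenImmersion j.hom) :
    AlgSp.IsQuasiCompactSp U.obj ↔
      ∃ (I : AlgSp.IdealEt X.obj), I.IsQCoh ∧
        (∀ (E : AlgSp.EtOver X.obj) (hE : IsAffine E.obj.left.left), (I.ideal E hE).FG) ∧
        ∃ (Z : AlgSp.Space S) (i : Z ⟶ X), AlgSp.IsCutOutBy I i.hom ∧
          Set.range (AlgSp.Points.map i.hom) = (Set.range (AlgSp.Points.map j.hom))ᶜ := by
  haveI hXc := Groth.Agent.SpPts86.compactSpace_points_of_isQuasiCompactSp hqc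
  obtain ⟨V, p, hV, hp, hps⟩ := Groth.Agent.SpPts86.exists_affine_chart_of_compactSpace X.property
  let A : AlgSp.EtOver X.obj := AlgSp.EtOver.mk p hp
  haveI : IsAffine A.obj.left.left := hV
  constructor
  · intro hU
    haveI := Groth.Agent.SpPts86.compactSpace_points_of_isQuasiCompactSp hU
    obtain ⟨I, hI, hfg, hz⟩ := Groth.Agent.SpQC86.exists_ideal_of_qc_open hqc hqs
      (Groth.Agent.SpPts86.isOpen_range_map hj) (isCompact_range (AlgSp.Points.continuous_map j.hom))
    obtain ⟨Z, i, hZ, hcut⟩ := Groth.Agent.SpPts86.exists_isCutOutBy X.property I hI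
    refine ⟨I, hI, hfg, ⟨Z, hZ⟩, ObjectProperty.homMk i, hcut, ?_⟩
    obtain ⟨hi, hiI⟩ := hcut
    ext x
    obtain ⟨t, rfl⟩ := Groth.Agent.SpPts86.surjective_ofPt hps x
    change t ∈ AlgSp.Points.ofPt A.obj.hom ⁻¹' Set.range (AlgSp.Points.map i) ↔ _
    rw [Groth.Agent.SpQC86.preimage_range_of_repWith hi A, hiI, hz A hV]
    rfl
  · rintro ⟨I, -, hfg, Z, i, ⟨hi, hiI⟩, hr⟩
    refine Groth.Agent.SpProper61.isQuasiCompactSp_of_isCompact_range U.property hj ?_
    have h : IsCompact (AlgSp.Points.ofPt A.obj.hom ⁻¹' Set.range (AlgSp.Points.map j.hom)) := by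
      obtain ⟨s, hs⟩ := hfg A hV
      have h1 : AlgSp.Points.ofPt A.obj.hom ⁻¹' Set.range (AlgSp.Points.map j.hom) =
          ⋃ a ∈ s, (A.obj.left.left.basicOpen a : Set ↥A.obj.left.left) := by
        rw [← compl_compl (Set.range (AlgSp.Points.map j.hom)), ← hr, Set.preimage_compl,
          Groth.Agent.SpQC86.preimage_range_of_repWith hi A, hiI, ← hs]
        ext v
        simp only [Scheme.zeroLocus_span, Set.mem_compl_iff, Scheme.mem_zeroLocus_iff, SetLike.mem_coe,
          Set.mem_iUnion, not_forall, not_not]
      rw [h1]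
      exact s.isCompact_biUnion fun a _ => ((isAffineOpen_top A.obj.left.left).basicOpen a).isCompact
    have := h.image (AlgSp.Points.continuous_ofPt A.obj.hom)
    rwa [Set.image_preimage_eq _ (show Function.Surjective (AlgSp.Points.ofPt A.obj.hom) from
      Groth.Agent.SpPts86.surjective_ofPt hps)] at this

end Groth.Agent.S10084
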