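import Groth.Statements.S10094
import Groth.Agent.AlgSt88.RepBySp

set_option autoImplicit false
universe u
open CategoryTheory CategoryTheory.Limits AlgebraicGeometry
open AlgSp

namespace Groth.Agent.S10094

/-- If `a₁ : F₁ ⟶ G₁` and `a₂ : F₂ ⟶ G₂` are maps of presheaves of sets on schemes over `S`
representable by algebraic spaces, then so is `a₁ × a₂ : F₁ × F₂ ⟶ G₁ × G₂`. -/
theorem result (S : Scheme.{u}) (F₁ G₁ F₂ G₂ : AlgSp.PSp S) (a₁ : F₁ ⟶ G₁) (a₂ : F₂ ⟶ G₂)
    (h₁ : AlgSp.RepBySp a₁) (h₂ : AlgSp.RepBySp a₂) : AlgSp.RepBySp (prod.map a₁ a₂) := by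
  have h2' : IsPullback (prod.snd : G₁ ⨯ F₂ ⟶ F₂) (prod.map (𝟙 G₁) a₂) a₂ prod.snd :=
    IsPullback.mk' (by simp) (fun T x y e1 e2 => Limits.prod.hom_ext
      (by simpa using congrArg (· ≫ prod.fst) e2) e1)
      fun T x y w => ⟨prod.lift (y ≫ prod.fst) x, prod.lift_snd _ _, by
        apply Limits.prod.hom_ext
        · rw [Category.assoc, prod.map_fst, Category.comp_id]
          exact prod.lift_fst _ _
        · rw [Category.assoc, prod.map_snd, ← Category.assoc]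
          exact (congrArg (· ≫ a₂) (prod.lift_snd _ _)).trans w⟩
  have e : prod.map a₁ a₂ = prod.map a₁ (𝟙 F₂) ≫ prod.map (𝟙 G₁) a₂ := by simp
  rw [e]
  exact Groth.Agent.AlgSt88.repBySp_comp
    (Groth.Agent.AlgSt88.repBySp_of_isPullback (IsPullback.of_prod_fst_with_id a₁ F₂) h₁)
    (Groth.Agent.AlgSt88.repBySp_of_isPullback h2' h₂)

end Groth.Agent.S10094
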