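import Groth.Statements.S10097
import Groth.Agent.AlgSt88.RepBySp

set_option autoImplicit false
universe u
open CategoryTheory CategoryTheory.Limits AlgebraicGeometry
open AlgSp

namespace Groth.Agent.S10097

/-- (1) ⇔ (2): for a presheaf of sets `F` on schemes over `S`, the diagonal `F ⟶ F × F` is representable
by algebraic spaces if and only if every map `h_T ⟶ F` from a scheme `T` over `S` is representable
by algebraic spaces. -/
theorem result (S : Scheme.{u}) (F : AlgSp.PSp S) :
    AlgSp.RepBySp (Limits.diag F) ↔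
      ∀ (T : Over S) (ξ : (AlgSp.pyon S).obj T ⟶ F), AlgSp.RepBySp ξ := by
  constructor
  · intro h T ξ U η P fst snd sq
    let W := T ⨯ U
    let p₁ : (pyon S).obj W ⟶ (pyon S).obj T := (pyon S).map prod.fst
    let p₂ : (pyon S).obj W ⟶ (pyon S).obj U := (pyon S).map prod.snd
    have hW : IsLimit (BinaryFan.mk p₁ p₂) :=
      mapIsLimitOfPreservesOfIsLimit (pyon S) prod.fst prod.snd (prodIsProd T U)
    let l : P ⟶ (pyon S).obj W := hW.lift (BinaryFan.mk fst snd)
    have hl₁ : l ≫ p₁ = fst := hW.fac (BinaryFan.mk fst snd) ⟨WalkingPair.left⟩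
    have hl₂ : l ≫ p₂ = snd := hW.fac (BinaryFan.mk fst snd) ⟨WalkingPair.right⟩
    refine h (prod.lift (p₁ ≫ ξ) (p₂ ≫ η)) (fst ≫ ξ) l (IsPullback.mk' ?_ ?_ ?_)
    · apply Limits.prod.hom_ext
      · simp only [Category.assoc, prod.lift_fst, Category.comp_id, reassoc_of% hl₁]
      · simp only [Category.assoc, prod.lift_snd, Category.comp_id, reassoc_of% hl₂]
        exact sq.w
    · intro Q x y _ e
      exact sq.hom_ext (by rw [← hl₁, reassoc_of% e]) (by rw [← hl₂, reassoc_of% e])
    · intro Q x y w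
      have w1 := congrArg (· ≫ prod.fst) w
      have w2 := congrArg (· ≫ prod.snd) w
      simp only [Category.assoc, prod.lift_fst, prod.lift_snd, Category.comp_id] at w1 w2
      refine ⟨sq.lift (y ≫ p₁) (y ≫ p₂) (by rw [Category.assoc, Category.assoc, ← w1, ← w2]), ?_, ?_⟩
      · rw [sq.lift_fst_assoc, Category.assoc, w1]
      · exact BinaryFan.IsLimit.hom_ext hW
          (show (_ ≫ l) ≫ p₁ = y ≫ p₁ by rw [Category.assoc, hl₁, sq.lift_fst])
          (show (_ ≫ l) ≫ p₂ = y ≫ p₂ by rw [Category.assoc, hl₂, sq.lift_snd])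
  · intro h U ξ F' fst snd sq
    let ξ₁ := ξ ≫ (prod.fst : F ⨯ F ⟶ F)
    let ξ₂ := ξ ≫ (prod.snd : F ⨯ F ⟶ F)
    obtain ⟨hP, hA⟩ := h U ξ₁ ξ₂ _ _ (IsPullback.of_hasPullback ξ₁ ξ₂)
    let W := U ⨯ U
    let p₁ : (pyon S).obj W ⟶ (pyon S).obj U := (pyon S).map prod.fst
    let p₂ : (pyon S).obj W ⟶ (pyon S).obj U := (pyon S).map prod.snd
    have hW : IsLimit (BinaryFan.mk p₁ p₂) :=
      mapIsLimitOfPreservesOfIsLimit (pyon S) prod.fst prod.snd (prodIsProd U U)
    let Δ : U ⟶ W := prod.lift (𝟙 U) (𝟙 U)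
    have hΔ₁ : (pyon S).map Δ ≫ p₁ = 𝟙 _ := by
      rw [← Functor.map_comp, prod.lift_fst, CategoryTheory.Functor.map_id]
    have hΔ₂ : (pyon S).map Δ ≫ p₂ = 𝟙 _ := by
      rw [← Functor.map_comp, prod.lift_snd, CategoryTheory.Functor.map_id]
    let c := BinaryFan.mk (pullback.fst ξ₁ ξ₂) (pullback.snd ξ₁ ξ₂)
    let j : pullback ξ₁ ξ₂ ⟶ (pyon S).obj W := hW.lift c
    have hj₁ : j ≫ p₁ = pullback.fst _ _ := hW.fac c ⟨WalkingPair.left⟩
    have hj₂ : j ≫ p₂ = pullback.snd _ _ := hW.fac c ⟨WalkingPair.right⟩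
    have w1 : fst = snd ≫ ξ₁ := by
      have := congrArg (· ≫ prod.fst) sq.w
      simp only [Category.assoc, prod.lift_fst, Category.comp_id] at this
      exact this
    have w2 : fst = snd ≫ ξ₂ := by
      have := congrArg (· ≫ prod.snd) sq.w
      simp only [Category.assoc, prod.lift_snd, Category.comp_id] at this
      exact this
    have sq' : IsPullback (pullback.lift snd snd (w1.symm.trans w2)) snd j ((pyon S).map Δ) := by
      refine IsPullback.mk' ?_ ?_ ?_
      · refine BinaryFan.IsLimit.hom_ext hW ?_ ?_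
        · change (_ ≫ j) ≫ p₁ = (_ ≫ (pyon S).map Δ) ≫ p₁
          rw [Category.assoc, hj₁, pullback.lift_fst, Category.assoc, hΔ₁, Category.comp_id]
        · change (_ ≫ j) ≫ p₂ = (_ ≫ (pyon S).map Δ) ≫ p₂
          rw [Category.assoc, hj₂, pullback.lift_snd, Category.assoc, hΔ₂, Category.comp_id]
      · intro Q x y _ e
        exact sq.hom_ext (by rw [w1, reassoc_of% e]) e
      · intro Q x y w
        have h1 : x ≫ pullback.fst ξ₁ ξ₂ = y := by
          rw [← hj₁, reassoc_of% w, hΔ₁, Category.comp_id]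
        have h2 : x ≫ pullback.snd ξ₁ ξ₂ = y := by
          rw [← hj₂, reassoc_of% w, hΔ₂, Category.comp_id]
        have h12 : y ≫ ξ₁ = y ≫ ξ₂ := by
          conv_lhs => rw [← h1, Category.assoc, pullback.condition, reassoc_of% h2]
        refine ⟨sq.lift (y ≫ ξ₁) y ?_, ?_, sq.lift_snd _ _ _⟩
        · apply Limits.prod.hom_ext
          · simp only [Category.assoc, prod.lift_fst, Category.comp_id]
            rfl
          · simp only [Category.assoc, prod.lift_snd, Category.comp_id]
            exact h12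
        · apply pullback.hom_ext
          · rw [Category.assoc, pullback.lift_fst, sq.lift_snd, h1]
          · rw [Category.assoc, pullback.lift_snd, sq.lift_snd, h2]
    let P : Sp S := ⟨_, hP⟩
    let j' : P ⟶ (yon S).obj W := ObjectProperty.homMk j
    have hF' : Presheaf.IsSheaf (AlgSp.J S) F' :=
      AlgSp.isSheaf_of_isPullback (F := P) (G := (yon S).obj W) (H := (yon S).obj U) sq'
    let Q : Sp S := ⟨F', hF'⟩
    let a' : Q ⟶ P := ObjectProperty.homMk (pullback.lift snd snd (w1.symm.trans w2))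
    let b' : Q ⟶ (yon S).obj U := ObjectProperty.homMk snd
    have sqS : IsPullback a' b' j' ((yon S).map Δ) :=
      IsPullback.of_map_of_faithful (sheafToPresheaf (AlgSp.J S) (Type (u + 1))) sq'
    exact ⟨hF', Groth.Agent.SpFP87.isAlgSpace_of_isPullback sqS
      hA (IsAlgSpace.yon_obj U) (IsAlgSpace.yon_obj W).diag⟩

end Groth.Agent.S10097
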