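import Groth.Statements.S10100
import Groth.Agent.SpPts86.LqfSep

set_option autoImplicit false
universe u
open CategoryTheory CategoryTheory.Limits AlgebraicGeometry
open AlgSp

namespace Groth.Agent.S10100

/-- Let `F` be a presheaf of sets on schemes over `S`, `X` a scheme over `S` and `h_X ⟶ F` a map which
is representable by algebraic spaces and locally quasi-finite. Then `h_X ⟶ F` is representable by
schemes. -/
theorem result (S : Scheme.{u}) (F : AlgSp.PSp S) (X : Over S)
    (p : (AlgSp.pyon S).obj X ⟶ F)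
    (hp : AlgSp.RepBySpWith (AlgSp.LocP (@LocallyQuasiFinite ⊓ @LocallyOfFiniteType)) p) :
    (AlgSp.pyon S).relativelyRepresentable p := by
  intro T g
  have sq := IsPullback.of_hasPullback p g
  obtain ⟨hsh, hA, hQ⟩ := hp g (pullback.fst p g) (pullback.snd p g) sq
  let P : Sp S := ⟨pullback p g, hsh⟩
  let a : P ⟶ (yon S).obj X := ObjectProperty.homMk (pullback.fst p g)
  let b : P ⟶ (yon S).obj T := ObjectProperty.homMk (pullback.snd p g)
  let W := X ⨯ T
  let m : P ⟶ (yon S).obj W := prod.lift a b ≫ inv (prodComparison (yon S) X T)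
  have hm₁ : m ≫ (yon S).map (prod.fst : X ⨯ T ⟶ X) = a := by
    rw [Category.assoc, inv_prodComparison_map_fst]
    exact prod.lift_fst a b
  have hm₂ : m ≫ (yon S).map (prod.snd : X ⨯ T ⟶ T) = b := by
    rw [Category.assoc, inv_prodComparison_map_snd]
    exact prod.lift_snd a b
  have : Mono m := ⟨fun {Z} x y e => by
    have h1 : x ≫ a = y ≫ a := by rw [← hm₁, reassoc_of% e]
    have h2 : x ≫ b = y ≫ b := by rw [← hm₂, reassoc_of% e]
    apply CategoryTheory.Sheaf.hom_ext
    exact sq.hom_ext (congrArg InducedCategory.Hom.hom h1) (congrArg InducedCategory.Hom.hom h2)⟩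
  have hqm : LocP (@LocallyQuasiFinite ⊓ @LocallyOfFiniteType) m := fun U V c d h hc hd w => by
    obtain ⟨d₀, rfl⟩ := (yon S).map_surjective d
    have hP := hQ c (𝟙 _) (h ≫ d₀ ≫ prod.snd) hc (repWith_id _ T) (by
      change c ≫ b = _
      rw [← hm₂, reassoc_of% w, Category.comp_id, Functor.map_comp, Functor.map_comp])
    have h1 : LocallyQuasiFinite (h.left ≫ (d₀.left ≫ (prod.snd : W ⟶ T).left)) := hP.1
    have h2 : LocallyOfFiniteType (h.left ≫ (d₀.left ≫ (prod.snd : W ⟶ T).left)) := hP.2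
    exact ⟨LocallyQuasiFinite.of_comp h.left (d₀.left ≫ (prod.snd : W ⟶ T).left),
      locallyOfFiniteType_of_comp h.left (d₀.left ≫ (prod.snd : W ⟶ T).left)⟩
  obtain ⟨Z, ⟨e⟩⟩ := Groth.Agent.SpPts86.exists_iso_of_lqf_separated (hA : IsAlgSpace P)
    (Groth.Agent.SpPts86.isSeparatedMor_of_mono m) hqm
  obtain ⟨s, hs⟩ := (yon S).map_surjective (e.hom ≫ b)
  let i : (pyon S).obj Z ≅ pullback p g := (sheafToPresheaf (AlgSp.J S) _).mapIso e
  refine ⟨Z, s, i.hom ≫ pullback.fst p g, IsPullback.of_iso sq i.symm (Iso.refl _) (Iso.refl _) (Iso.refl _)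
    (by simp) ?_ (by simp) (by simp)⟩
  have hs' : (pyon S).map s = i.hom ≫ pullback.snd p g :=
    congrArg (fun k : (yon S).obj Z ⟶ (yon S).obj T => k.hom) hs
  simp [hs']

end Groth.Agent.S10100
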