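import Groth.Statements.S10101
import Groth.Agent.SpPts86.Boot
import Groth.Agent.SpPts86.Props
import Groth.Agent.SpPts86.EtaleMor

set_option autoImplicit false
universe u
open CategoryTheory CategoryTheory.Limits AlgebraicGeometry
open AlgSp

namespace Groth.Agent.S10101

/-- Let `F` be an fppf sheaf of sets over `S` and `X ⟶ F` a map from an algebraic space that is
surjective, etale and representable by algebraic spaces. It follows that `F` is an algebraic space.
(The published statement also gives an equivalent set of conditions in which the diagonal of `F` is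
representable by algebraic spaces; this row uses the form with the map representable by algebraic
spaces.) -/
theorem result (S : Scheme.{u}) (F : AlgSp.Sp S) (X : AlgSp.Space S)
    (p : X.obj ⟶ F) (hp : AlgSp.RepBySpWith (AlgSp.IsSurjectiveMor ⊓ AlgSp.IsEtaleMor) p.hom) :
    AlgSp.IsAlgSpace F := by
  obtain ⟨U, a, ha, has⟩ := X.property.atlas
  have h : AlgSp.RepBySpWith (AlgSp.IsSurjectiveMor ⊓ AlgSp.LocP @Etale) p.hom := by
    rw [repBySpWith_hom_iff] at hp ⊢
    intro T ξ F' fst snd sq
    obtain ⟨h1, h2, h3⟩ := hp ξ fst snd sq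
    exact ⟨h1, h2, Groth.Agent.SpPts86.locP_etale_of_isEtaleMor h3⟩
  have hfp : AlgSp.RepBySpWith (Groth.Agent.SpPts86.fppfSp S) p.hom := by
    rw [repBySpWith_hom_iff] at h ⊢
    intro T ξ F' fst snd sq
    obtain ⟨h1, h2, h3⟩ := h ξ fst snd sq
    exact ⟨h1, ⟨h2, Groth.Agent.SpFP87.LocP.of_le (fun _ _ f hf => by haveI := hf; exact (inferInstance : Flat f)) h3⟩,
      Groth.Agent.SpFP87.LocP.of_le (fun _ _ f hf => by haveI := hf; exact (inferInstance : LocallyOfFinitePresentation f)) h3⟩
  have hd := Groth.Agent.SpPts86.representable_diag_of_fppf_cover X.property p hfp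
  have hrep : Representable (a ≫ p) := Functor.relativelyRepresentable.of_diag hd _
  have hE : AlgSp.RepBySpWith (AlgSp.LocP @Etale) p.hom := by
    rw [repBySpWith_hom_iff] at h ⊢
    intro T ξ F' fst snd sq
    exact ⟨(h ξ fst snd sq).1, (h ξ fst snd sq).2.2⟩
  refine ⟨hd, U, a ≫ p, Groth.Agent.SpPts86.repWith_comp_chart X.property ha hE hrep, ?_⟩
  refine (Groth.Agent.SpPts86.repWith_surjective_iff hrep).2 fun y => ?_
  obtain ⟨T, g, z, rfl, -⟩ := Groth.Agent.SpPts86.exists_ofPt_eq y
  have sq := IsPullback.of_hasPullback p g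
  obtain ⟨x, hx⟩ := ((repBySpWith_hom_iff _ p).1 h g _ _ sq).2.1 (Points.schemeHomeo T z)
  obtain ⟨w, hw⟩ := Groth.Agent.SpPts86.surjective_ofPt has (Points.map (pullback.fst p g) x)
  obtain ⟨w', hw'⟩ : ∃ w', Points.map a w' = Points.map (pullback.fst p g) x :=
    ⟨Points.schemeHomeo U w, by rw [← hw, Points.ofPt_eq_map_ofScheme]; rfl⟩
  refine ⟨w', ?_⟩
  rw [Points.map_comp, hw', ← Points.map_comp, sq.w, Points.map_comp, hx,
    Points.ofPt_eq_map_ofScheme]
  rfl

end Groth.Agent.S10101
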