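import Groth.Statements.S10105
import Groth.Agent.SpPts86.CoverDescent

set_option autoImplicit false
universe u
open CategoryTheory CategoryTheory.Limits AlgebraicGeometry
open AlgSp

namespace Groth.Agent.S10105

/-- Let `F` be an fppf sheaf of sets over `S` and `{S_i ⟶ S}` an fppf covering. If every `h_{S_i} × F`
is an algebraic space and the coproduct `∐ h_{S_i} × F` (in sheaves) is an algebraic space, then `F`
is an algebraic space: being an algebraic space is fppf local on the base. -/
theorem result (S : Scheme.{u}) (F : AlgSp.Sp S) {ι : Type u} (Si : ι → Over S)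
    (hfl : ∀ i, Flat (Si i).hom) (hfp : ∀ i, LocallyOfFinitePresentation (Si i).hom)
    (hsurj : ∀ x : ↥S, ∃ (i : ι) (y : ↥(Si i).left), (Si i).hom.base y = x)
    (halg : ∀ i, AlgSp.IsAlgSpace ((AlgSp.yon S).obj (Si i) ⨯ F))
    (c : Cofan (fun i => (AlgSp.yon S).obj (Si i) ⨯ F)) (hc : IsColimit c) (hcop : AlgSp.IsAlgSpace c.pt) :
    AlgSp.IsAlgSpace F := by
  let T : Over S := Over.mk (𝟙 S)
  have hT : IsTerminal T := Over.mkIdTerminal
  have hyT : IsTerminal ((AlgSp.yon S).obj T) := hT.isTerminalObj (AlgSp.yon S) T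
  refine SpPts86.isAlgSpace_of_fppf_local (AlgSp.IsAlgSpace.yon_obj T) (fun i => (AlgSp.yon S).obj (Si i))
    (fun i => AlgSp.IsAlgSpace.yon_obj _) (fun i => (AlgSp.yon S).map (hT.from _)) ⟨fun i => ?_, fun x => ?_⟩
    (hyT.from F) fun i => ?_
  · have e : (hT.from (Si i)).left = (Si i).hom := by
      have := Over.w (hT.from (Si i))
      exact (Category.comp_id _).symm.trans this
    exact ⟨(SpFP87.locP_yon_map_iff _).2 (e ▸ hfl i), (SpFP87.locP_yon_map_iff _).2 (e ▸ hfp i)⟩
  · obtain ⟨i, y, hy⟩ := hsurj (AlgSp.Points.toScheme T x)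
    refine ⟨i, AlgSp.Points.ofScheme (Si i) y, ?_⟩
    rw [← AlgSp.Points.ofPt_eq_map_ofScheme, SpPts86.ofPt_yon_map]
    refine (congrArg _ ?_).trans (AlgSp.Points.ofScheme_toScheme T x)
    have := Over.w (hT.from (Si i))
    rw [← hy, ← (Category.comp_id (hT.from (Si i)).left).symm.trans this]
  · refine (halg i).of_iso (IsPullback.isoPullback (fst := (Limits.prod.snd : (AlgSp.yon S).obj (Si i) ⨯ F ⟶ _))
      (snd := Limits.prod.fst) ?_)
    exact IsPullback.of_isLimit (PullbackCone.IsLimit.mk (hyT.hom_ext _ _)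
      (fun c => Limits.prod.lift c.snd c.fst) (fun c => Limits.prod.lift_snd _ _) (fun c => Limits.prod.lift_fst _ _)
      fun c m h₁ h₂ => Limits.prod.hom_ext (h₂.trans (Limits.prod.lift_fst _ _).symm) (h₁.trans (Limits.prod.lift_snd _ _).symm))

end Groth.Agent.S10105
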