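import Groth.Statements.S10106
import Groth.Agent.SpPts86.BootSpace

set_option autoImplicit false
universe u
open CategoryTheory CategoryTheory.Limits AlgebraicGeometry
open AlgSp

namespace Groth.Agent.S10106

/-- Let `a : F ⟶ G` and `b : G ⟶ H` be maps of fppf sheaves of sets over `S` where `a` is flat,
surjective, locally of finite presentation and representable by algebraic spaces, and the composite
`a ≫ b` is representable by algebraic spaces. Then so is `b`. -/
theorem result (S : Scheme.{u}) (F G H : AlgSp.Sp S) (a : F ⟶ G) (b : G ⟶ H)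
    (ha : AlgSp.RepBySpWith (AlgSp.IsSurjectiveMor ⊓ AlgSp.LocP @Flat ⊓ AlgSp.LocP @LocallyOfFinitePresentation) a.hom) (hab : AlgSp.RepBySp (a ≫ b).hom) :
    AlgSp.RepBySp b.hom := by
  refine (AlgSp.repBySp_hom_iff b).2 fun T ξ P fst snd sq => ?_
  have hP := (AlgSp.repBySp_hom_iff (a ≫ b)).1 hab ξ _ _ (IsPullback.of_hasPullback (a ≫ b) ξ)
  let l : pullback (a ≫ b) ξ ⟶ P := sq.lift (pullback.fst (a ≫ b) ξ ≫ a) (pullback.snd (a ≫ b) ξ)
    (by rw [Category.assoc]; exact pullback.condition)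
  have sql : IsPullback (pullback.fst (a ≫ b) ξ) l a fst :=
    (IsPullback.of_bot (by rw [sq.lift_snd]; exact IsPullback.of_hasPullback (a ≫ b) ξ)
      (sq.lift_fst _ _ _).symm sq)
  refine SpPts86.isAlgSpace_of_fppf_cover hP l ((AlgSp.repBySpWith_hom_iff _ l).2 fun T' ξ' F' f' s' sq' => ?_)
  exact (AlgSp.repBySpWith_hom_iff _ a).1 ha (ξ' ≫ fst) _ _ (sq'.paste_horiz sql)

end Groth.Agent.S10106
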