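import Groth.Statements.S10108
import Groth.Agent.SpPts86.EtaleSheaf

set_option autoImplicit false
universe u
open CategoryTheory CategoryTheory.Limits AlgebraicGeometry
open AlgSp

namespace Groth.Agent.S10108

/-- A presheaf of sets on schemes over `S` which is a sheaf for the etale topology, has diagonal
representable by schemes, and receives a representable surjective etale map from a scheme over `S`,
is an algebraic space (in particular an fppf sheaf): algebraic spaces defined with the etale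
topology are the same as with the fppf topology. -/
theorem result (S : Scheme.{u}) (F : AlgSp.PSp S)
    (h1 : Presheaf.IsSheaf (QuotSh.J Scheme.etalePrecoverage S) F)
    (h2 : (AlgSp.pyon S).relativelyRepresentable (Limits.diag F))
    (U : Over S) (p : (AlgSp.pyon S).obj U ⟶ F)
    (h3 : (MorphismProperty.inverseImage @Etale (Over.forget S)).relative (AlgSp.pyon S) p ∧
      (MorphismProperty.inverseImage @Surjective (Over.forget S)).relative (AlgSp.pyon S) p) :
    AlgSp.IsAlgSpaceP F := by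
  refine SpPts86.isAlgSpaceP_of_smooth_cover (X := (AlgSp.yon S).obj U) h1 (AlgSp.IsAlgSpace.yon_obj U) p
    fun T ξ F' fst snd sq => ?_
  obtain ⟨⟨hrep, he⟩, ⟨-, hs⟩⟩ := h3
  let e := sq.isoIsPullback _ _ (hrep.isPullback ξ)
  have hF' : Presheaf.IsSheaf (AlgSp.J S) F' :=
    (Presheaf.isSheaf_of_iso_iff e).2 ((AlgSp.yon S).obj _).property
  let e' : (⟨F', hF'⟩ : AlgSp.Sp S) ≅ (AlgSp.yon S).obj (hrep.pullback ξ) :=
    (fullyFaithfulSheafToPresheaf (AlgSp.J S) _).preimageIso e
  have hA : AlgSp.IsAlgSpace (⟨F', hF'⟩ : AlgSp.Sp S) := (AlgSp.IsAlgSpace.yon_obj _).of_iso e'.symm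
  have hsnd : (ObjectProperty.homMk snd : (⟨F', hF'⟩ : AlgSp.Sp S) ⟶ (AlgSp.yon S).obj T) =
      e'.hom ≫ (AlgSp.yon S).map (hrep.snd ξ) :=
    ObjectProperty.hom_ext _ (sq.isoIsPullback_hom_snd _ _ (hrep.isPullback ξ)).symm
  refine ⟨hF', hA, ?_, ?_⟩
  · have hv : AlgSp.RepWith @Surjective ((AlgSp.yon S).map (hrep.snd ξ)) :=
      (AlgSp.repWith_yon_map_iff _ _).2 (hs ξ _ _ (hrep.isPullback ξ))
    intro y
    obtain ⟨x, hx⟩ := (SpPts86.repWith_surjective_iff hv.rep).1 hv y
    refine ⟨AlgSp.Points.map e'.inv x, ?_⟩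
    rw [hsnd, ← AlgSp.Points.map_comp, Iso.inv_hom_id_assoc, hx]
  · rw [hsnd]
    have : Etale (hrep.snd ξ).left := he ξ _ _ (hrep.isPullback ξ)
    have h0 : Smooth (hrep.snd ξ).left := inferInstance
    exact SpFP87.locP_comp hA (AlgSp.IsAlgSpace.yon_obj _) (AlgSp.IsAlgSpace.yon_obj T)
      (SpFP87.LocP.of_le (fun _ _ f hf => by haveI := hf; exact inferInstance)
        (SpFP87.locP_of_isIso (P := @Etale) _ hA (AlgSp.IsAlgSpace.yon_obj _))) ((SpFP87.locP_yon_map_iff _).2 h0)

end Groth.Agent.S10108
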