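import Groth.Statements.S10115
import Groth.Agent.SpPts86.GrpdSp

set_option autoImplicit false
universe u
open CategoryTheory CategoryTheory.Limits AlgebraicGeometry
open AlgSp AlgSp.GroupoidSp

namespace Groth.Agent.S10115

/-- For a groupoid `(U, R, s, t, c)` in algebraic spaces over `B`, let `(U', R', s', t', c')` be its
restriction along a morphism `g : U' ⟶ U` over `B`. Then `U'/R' ⟶ U/R` is injective; if the
composite `h : U' ×_{g, U, t} R ⟶ R ⟶ U` of the projection with `s` is a surjection of fppf sheaves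
(for instance if `g` is), then it is bijective. -/
theorem result (S : Scheme.{u}) (B : AlgSp.Sp S) (hB : AlgSp.IsAlgSpace B)
    (G G' : AlgSp.GroupoidSp B) (hU : AlgSp.IsAlgSpace G.U) (hR : AlgSp.IsAlgSpace G.R)
    (hU' : AlgSp.IsAlgSpace G'.U) (hR' : AlgSp.IsAlgSpace G'.R) (φ : AlgSp.GroupoidSp.Hom G' G)
    (hφ : φ.IsRestriction) (ψ : G'.quot ⟶ G.quot) (hψ : G'.quotπ ≫ ψ = φ.fU ≫ G.quotπ) :
    Mono ψ ∧ (Epi (pullback.snd φ.fU G.t ≫ G.s) → IsIso ψ) := by
  have hsq := Groth.Agent.SpPts86.isPullback_of_restriction φ hφ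
  have hpre := Groth.Agent.SpPts86.isPreEqvRelSp_grpd G
  have hm := Groth.Agent.SpPts86.mono_quot_restrict hpre hsq ψ hψ
  refine ⟨hm, fun hh => ?_⟩
  haveI : Mono ψ := hm
  refine Groth.Agent.SpFP87.isIso_of_mono_of_locLift ψ
    (Groth.Agent.SpFP87.LocLift.of_comp (q := pullback.fst φ.fU G.t ≫ G'.quotπ) ?_)
  have e : (pullback.fst φ.fU G.t ≫ G'.quotπ) ≫ ψ = (pullback.snd φ.fU G.t ≫ G.s) ≫ G.quotπ := by
    rw [Category.assoc, hψ, ← Category.assoc, pullback.condition, Category.assoc, Category.assoc]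
    exact congrArg (pullback.snd φ.fU G.t ≫ ·) (quotSp_condition G.s G.t).symm
  rw [e]
  exact Groth.Agent.SpPts86.locLift_comp Groth.Agent.SpPts86.locLift_of_epi
    (Groth.Agent.SpPts86.locLift_quotSpπ G.s G.t)

end Groth.Agent.S10115
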