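import Groth.Statements.S10116
import Groth.Agent.SpPts86.QCMor
import Groth.Agent.SpPts86.Graph
import Groth.Agent.SpPts86.DiagCrit
import Groth.Agent.SpFP87.Basic
import Mathlib.CategoryTheory.Monoidal.Cartesian.Grp
-- import your own Groth.Agent.* helpers here

set_option autoImplicit false
universe u
open CategoryTheory CategoryTheory.Limits AlgebraicGeometry MonoidalCategory MonObj
open AlgSp

namespace Groth.Agent.S10116

/-- Let `G` be a group algebraic space over an algebraic space `B` with unit `e : B ⟶ G`. Then `G ⟶ B`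
is separated if and only if `e` is a closed immersion, quasi-separated if and only if `e` is
quasi-compact, and if `G ⟶ B` is locally separated then `e` is an immersion. (The published
statement makes the last part an equivalence as well; this row states only that a locally separated
`G ⟶ B` has `e` an immersion.) -/
theorem result (S : Scheme.{u}) (B : AlgSp.Sp S) (hB : AlgSp.IsAlgSpace B)
    (G : Over B) [GrpObj G] (hG : AlgSp.IsAlgSpace G.left) :
    (AlgSp.IsSeparatedMor G.hom ↔ AlgSp.RepWith @IsClosedImmersion (η[G]).left) ∧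
      (AlgSp.IsQuasiSeparatedMor G.hom ↔ AlgSp.IsQuasiCompactMor (η[G]).left) ∧
      (AlgSp.IsLocallySeparatedMor G.hom → AlgSp.RepWith @IsImmersion (η[G]).left) := by
  open MonoidalCategory CartesianMonoidalCategory MonObj GrpObj in
  let σ : G ⊗ G ⟶ G := (fst G G)⁻¹ * snd G G
  let Δ : G ⟶ G ⊗ G := lift (𝟙 G) (𝟙 G)
  have hσ : ∀ {T : Over B} (x y : T ⟶ G), lift x y ≫ σ = x⁻¹ * y := fun x y => by
    simp only [σ, MonObj.comp_mul, GrpObj.comp_inv, lift_fst, lift_snd]
  have h1 : ∀ {T : Over B} (c : T ⟶ 𝟙_ (Over B)), c ≫ η[G] = (1 : T ⟶ G) := fun c => by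
    rw [toUnit_unique c (toUnit _)]; rfl
  have sqA : IsPullback (toUnit G) Δ η[G] σ := by
    have w : toUnit G ≫ η[G] = Δ ≫ σ := by rw [hσ, inv_mul_cancel, h1]
    refine ⟨⟨w⟩, ⟨PullbackCone.IsLimit.mk w (fun c => c.snd ≫ fst G G) (fun c => toUnit_unique _ _)
      (fun c => ?_) (fun c m _ h2 => ?_)⟩⟩
    · have hc : c.snd ≫ σ = 1 := by rw [← c.condition, h1]
      rw [show c.snd = lift (c.snd ≫ fst G G) (c.snd ≫ snd G G) by ext <;> simp, hσ] at hc
      rw [inv_mul_eq_one] at hc
      apply hom_ext <;> simp [Δ, hc]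
    · rw [← h2]; simp [Δ]
  have sqB : IsPullback η[G] η[G] (lift (𝟙 G) (1 : G ⟶ G)) Δ := by
    have w : η[G] ≫ lift (𝟙 G) (1 : G ⟶ G) = η[G] ≫ Δ := by
      apply hom_ext
      · rw [Category.assoc, Category.assoc, lift_fst, lift_fst]
      · rw [Category.assoc, Category.assoc, lift_snd, lift_snd, MonObj.comp_one, Category.comp_id,
          ← h1 (𝟙 _), Category.id_comp]
    refine ⟨⟨w⟩, ⟨PullbackCone.IsLimit.mk w (fun c => toUnit c.pt) (fun c => ?_) (fun c => ?_)
      (fun c m _ _ => toUnit_unique _ _)⟩⟩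
    · have e1 := c.condition =≫ fst G G
      have e2 := c.condition =≫ snd G G
      simp [Δ, MonObj.comp_one] at e1 e2
      rw [h1, e1, ← e2]
    · have e2 := c.condition =≫ snd G G
      simp [Δ, MonObj.comp_one] at e2
      rw [h1, ← e2]
  have sA : IsPullback (toUnit G).left Δ.left (η[G]).left σ.left := sqA.map (Over.forget B)
  have sB : IsPullback (η[G]).left (η[G]).left (lift (𝟙 G) (1 : G ⟶ G)).left Δ.left := sqB.map (Over.forget B)
  have hΔ : Δ.left = pullback.diagonal G.hom := by
    apply pullback.hom_ext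
    · rw [pullback.diagonal_fst]; exact pullback.lift_fst (f := G.hom) (g := G.hom) (𝟙 G.left) (𝟙 G.left) rfl
    · rw [pullback.diagonal_snd]; exact pullback.lift_snd (f := G.hom) (g := G.hom) (𝟙 G.left) (𝟙 G.left) rfl
  rw [hΔ] at sA sB
  have hGG : IsAlgSpace (pullback G.hom G.hom) := Groth.Agent.SpFP87.isAlgSpace_pullback G.hom G.hom hG hG hB
  have hrep : Representable (pullback.diagonal G.hom) := Groth.Agent.SpPts86.representable_diagonal hG.diag G.hom
  have key : ∀ (P : MorphismProperty Scheme.{u}) [P.IsStableUnderBaseChange],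
      RepWith P (pullback.diagonal G.hom) ↔ RepWith P (η[G]).left := fun P _ =>
    ⟨fun h => (AlgSp.repWith_isStableUnderBaseChange P).of_isPullback sB.flip h,
      fun h => (AlgSp.repWith_isStableUnderBaseChange P).of_isPullback sA h⟩
  refine ⟨key @IsClosedImmersion, ⟨fun h => ?_, fun h => ?_⟩, fun h => (key @IsImmersion).1 h⟩
  · exact Groth.Agent.SpPts86.isQuasiCompactMor_of_repWith hG ((key @QuasiCompact).1 h)
  · exact Groth.Agent.SpPts86.repWith_quasiCompact_of_isQuasiCompactMor hrep
      (Groth.Agent.SpPts86.isQuasiCompactMor_baseChange h sA)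

end Groth.Agent.S10116
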