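import Groth.Statements.S10117
import Groth.Agent.SpFP87.Basic
import Mathlib.CategoryTheory.Monoidal.Cartesian.Grp

set_option autoImplicit false
universe u
open CategoryTheory CategoryTheory.Limits AlgebraicGeometry MonoidalCategory MonObj
open AlgSp AlgSp.GAction

namespace Groth.Agent.S10117

/-- If a group algebraic space `G` over `B` acts freely on an algebraic space `X` over `B`, then `G ×_B
X ⟶ X ×_B X`, `(g, x) ↦ (g x, x)`, is a monomorphism. (The published statement is an equivalence;
this row states only the direction from free to monomorphism.) -/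
theorem result (S : Scheme.{u}) (B : AlgSp.Sp S) (hB : AlgSp.IsAlgSpace B)
    (G X : Over B) [GrpObj G] (hG : AlgSp.IsAlgSpace G.left) (hX : AlgSp.IsAlgSpace X.left)
    (a : AlgSp.GAction G X) (ha : a.IsFree) :
    Mono (CartesianMonoidalCategory.lift a.act (CartesianMonoidalCategory.snd G X)).left := by
  have key : ∀ (Z : Over B) (g₁ g₂ : Z ⟶ G) (x : Z ⟶ X),
      CartesianMonoidalCategory.lift (g₁ * g₂) x ≫ a.act =
        CartesianMonoidalCategory.lift g₁ (CartesianMonoidalCategory.lift g₂ x ≫ a.act) ≫ a.act :=
    fun Z g₁ g₂ x => by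
      have h := congrArg
        (CartesianMonoidalCategory.lift (CartesianMonoidalCategory.lift g₁ g₂) x ≫ ·) a.mul_act
      rw [← Category.assoc, CartesianMonoidalCategory.lift_whiskerRight,
        ← Category.assoc, CartesianMonoidalCategory.lift_lift_associator_hom,
        ← Category.assoc, CartesianMonoidalCategory.lift_whiskerLeft] at h
      exact h
  have one : ∀ (Z : Over B) (x : Z ⟶ X), CartesianMonoidalCategory.lift (1 : Z ⟶ G) x ≫ a.act = x :=
    fun Z x => by
      have h := congrArg
        (CartesianMonoidalCategory.lift (CartesianMonoidalCategory.toUnit Z) x ≫ ·) a.one_act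
      rw [← Category.assoc, CartesianMonoidalCategory.lift_whiskerRight] at h
      exact h.trans (CartesianMonoidalCategory.lift_leftUnitor_hom _ _)
  refine SpFP87.mono_of_probe fun T p q e => ?_
  let β := p ≫ (G ⊗ X).hom
  have hβ : q ≫ (G ⊗ X).hom = β := by
    have w := Over.w (CartesianMonoidalCategory.lift a.act (CartesianMonoidalCategory.snd G X))
    simp only [β, ← w, reassoc_of% e]
  let P : Over.mk β ⟶ G ⊗ X := Over.homMk p rfl
  let Q : Over.mk β ⟶ G ⊗ X := Over.homMk q hβ
  suffices P = Q from congrArg CommaMorphism.left this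
  have e' : P ≫ CartesianMonoidalCategory.lift a.act (CartesianMonoidalCategory.snd G X) =
      Q ≫ CartesianMonoidalCategory.lift a.act (CartesianMonoidalCategory.snd G X) :=
    Over.OverMorphism.ext e
  rw [CartesianMonoidalCategory.comp_lift, CartesianMonoidalCategory.comp_lift] at e'
  have e1 := congrArg (· ≫ CartesianMonoidalCategory.fst _ _) e'
  have e2 := congrArg (· ≫ CartesianMonoidalCategory.snd _ _) e'
  simp only [CartesianMonoidalCategory.lift_fst, CartesianMonoidalCategory.lift_snd] at e1 e2
  obtain ⟨g, x, hP⟩ : ∃ g x, P = CartesianMonoidalCategory.lift g x :=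
    ⟨P ≫ CartesianMonoidalCategory.fst _ _, P ≫ CartesianMonoidalCategory.snd _ _, by simp⟩
  obtain ⟨g', x', hQ⟩ : ∃ g x, Q = CartesianMonoidalCategory.lift g x :=
    ⟨Q ≫ CartesianMonoidalCategory.fst _ _, Q ≫ CartesianMonoidalCategory.snd _ _, by simp⟩
  rw [hP, hQ] at e1 e2 ⊢
  simp only [CartesianMonoidalCategory.lift_snd] at e2
  subst e2
  have h1 : CartesianMonoidalCategory.lift (g'⁻¹ * g) x ≫ a.act = x := by
    rw [key, e1, ← key, inv_mul_cancel, one]
  have h2 : g'⁻¹ * g = 1 := ha β _ x h1
  rw [inv_mul_eq_one.1 h2]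

end Groth.Agent.S10117
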