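import Groth.Statements.S10121
import Groth.Agent.SpPts86.Basic

set_option autoImplicit false
universe u
open CategoryTheory CategoryTheory.Limits AlgebraicGeometry
open AlgSp

namespace Groth.Agent.S10121

/-- For a pre-equivalence relation `s, t : R ⟶ U` of algebraic spaces, the relation on points of `U`
given by `x ∼ y` when some point `r` of `R` has `t(r) = x` and `s(r) = y` is an equivalence relation
on `|U|`. -/
theorem result (S : Scheme.{u}) (R U : AlgSp.Sp S)
    (hR : AlgSp.IsAlgSpace R) (hU : AlgSp.IsAlgSpace U) (s t : R ⟶ U) (h : AlgSp.IsPreEqvRelSp s t) :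
    _root_.Equivalence (fun x y : AlgSp.Points U =>
      ∃ r : AlgSp.Points R, AlgSp.Points.map t r = x ∧ AlgSp.Points.map s r = y) := by
  refine ⟨fun x => ?_, ?_, ?_⟩
  · obtain ⟨T, g, p, rfl, -⟩ := SpPts86.exists_ofPt_eq x
    obtain ⟨r, h1, h2⟩ := (h T).refl g
    exact ⟨Points.ofPt r p, by rw [Points.map_ofPt, h1], by rw [Points.map_ofPt, h2]⟩
  · rintro x y ⟨z, rfl, rfl⟩
    obtain ⟨T, g, p, rfl, -⟩ := SpPts86.exists_ofPt_eq z
    obtain ⟨r, h1, h2⟩ := (h T).symm (x := g ≫ t) (y := g ≫ s) ⟨g, rfl, rfl⟩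
    exact ⟨Points.ofPt r p, by rw [Points.map_ofPt, h1, Points.map_ofPt],
      by rw [Points.map_ofPt, h2, Points.map_ofPt]⟩
  · rintro x y z ⟨a, rfl, hy⟩ ⟨b, hy', rfl⟩
    obtain ⟨w, rfl, rfl⟩ := SpPts86.exists_of_isPullback (IsPullback.of_hasPullback s t) a b
      (hy.trans hy'.symm)
    obtain ⟨T, g, p, rfl, -⟩ := SpPts86.exists_ofPt_eq w
    simp only [Points.map_ofPt]
    obtain ⟨r, h1, h2⟩ := (h T).trans (x := (g ≫ pullback.fst s t) ≫ t)
      (y := (g ≫ pullback.fst s t) ≫ s) (z := (g ≫ pullback.snd s t) ≫ s) ⟨_, rfl, rfl⟩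
      ⟨g ≫ pullback.snd s t, by simp only [Category.assoc, pullback.condition], rfl⟩
    exact ⟨Points.ofPt r p, by rw [Points.map_ofPt, h1], by rw [Points.map_ofPt, h2]⟩

end Groth.Agent.S10121
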