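import Groth.Statements.S10122
import Groth.Agent.SpPts86.QCMor
import Groth.Agent.SpPts86.Graph
import Groth.Agent.SpPts86.Separation
import Groth.Agent.SpFP87.Basic
-- import your own Groth.Agent.* helpers here

set_option autoImplicit false
universe u
open CategoryTheory CategoryTheory.Limits AlgebraicGeometry
open AlgSp AlgSp.GroupoidSp

namespace Groth.Agent.S10122

/-- Let `(U, R, s, t, c)` be a groupoid in algebraic spaces over `B` with stabilizer `G ⟶ U` and unit
section `e : U ⟶ G`. Then (1) `j : R ⟶ U ×_B U` is separated iff `G ⟶ U` is separated iff `e` is a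
closed immersion; (3) `j` is quasi-separated iff `G ⟶ U` is quasi-separated iff `e` is
quasi-compact; (2) if `j` or `G ⟶ U` is locally separated then `e` is an immersion. The unit section
is written as any morphism `U ⟶ G` lifting the identity `e : U ⟶ R` of the groupoid. (The published
part (2) is a three-way equivalence; this row states only that `j` locally separated, or `G ⟶ U`
locally separated, implies that `e` is an immersion.) -/
theorem result (S : Scheme.{u}) (B : AlgSp.Sp S) (hB : AlgSp.IsAlgSpace B)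
    (G : AlgSp.GroupoidSp B) (hU : AlgSp.IsAlgSpace G.U) (hR : AlgSp.IsAlgSpace G.R)
    (eG : G.U ⟶ G.stabilizer) (heG : eG ≫ G.stabilizerι = G.e) :
    ((AlgSp.IsSeparatedMor G.j ↔ AlgSp.IsSeparatedMor G.stabilizerToU) ∧
        (AlgSp.IsSeparatedMor G.j ↔ AlgSp.RepWith @IsClosedImmersion eG)) ∧
      ((AlgSp.IsQuasiSeparatedMor G.j ↔ AlgSp.IsQuasiSeparatedMor G.stabilizerToU) ∧
        (AlgSp.IsQuasiSeparatedMor G.j ↔ AlgSp.IsQuasiCompactMor eG)) ∧
      ((AlgSp.IsLocallySeparatedMor G.j → AlgSp.RepWith @IsImmersion eG) ∧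
        (AlgSp.IsLocallySeparatedMor G.stabilizerToU → AlgSp.RepWith @IsImmersion eG)) := by
  unfold GroupoidSp.stabilizer GroupoidSp.stabilizerι GroupoidSp.stabilizerToU at *
  have hdiag : ∀ {F F' : Sp S} (h : AlgSp.IsAlgSpace F) (f : F ⟶ F'), Representable (pullback.diagonal f) :=
    fun h f => Groth.Agent.SpPts86.representable_diagonal h.diag f
  have hι : (pullback.fst G.j G.diag) ≫ G.t = (pullback.snd G.j G.diag) := by
    have h := congrArg (· ≫ pullback.fst G.pU G.pU) (pullback.condition (f := G.j) (g := G.diag))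
    simp only [GroupoidSp.stabilizerι, GroupoidSp.stabilizerToU, GroupoidSp.diag, Category.assoc,
      GroupoidSp.j_fst, pullback.lift_fst, Category.comp_id] at h ⊢
    exact h
  have hsec : eG ≫ (pullback.snd G.j G.diag) = 𝟙 G.U := by
    rw [← hι, ← Category.assoc, heG, G.e_t]
  have hc : (pullback.fst G.j G.j ≫ G.t = pullback.snd G.j G.j ≫ G.t) ∧
      pullback.fst G.j G.j ≫ G.s = pullback.snd G.j G.j ≫ G.s := by
    have h1 := congrArg (· ≫ pullback.fst G.pU G.pU) (pullback.condition (f := G.j) (g := G.j))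
    have h2 := congrArg (· ≫ pullback.snd G.pU G.pU) (pullback.condition (f := G.j) (g := G.j))
    simp only [Category.assoc, GroupoidSp.j_fst, GroupoidSp.j_snd] at h1 h2
    exact ⟨h1, h2⟩
  have hci : pullback.fst G.j G.j ≫ G.s = (pullback.snd G.j G.j ≫ G.i) ≫ G.t := by
    rw [Category.assoc, G.i_t, hc.2]
  have hl : ∀ {T T' : Sp S} (m : T ⟶ T') (a b : T' ⟶ G.R) (w : a ≫ G.s = b ≫ G.t) (a' b' : T ⟶ G.R)
      (w' : a' ≫ G.s = b' ≫ G.t), m ≫ a = a' → m ≫ b = b' → m ≫ pullback.lift a b w = pullback.lift a' b' w' := by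
    intro T T' m a b w a' b' w' h1 h2
    apply pullback.hom_ext
    · rw [Category.assoc, pullback.lift_fst, pullback.lift_fst, h1]
    · rw [Category.assoc, pullback.lift_snd, pullback.lift_snd, h2]
  let γ : pullback G.j G.j ⟶ G.R := pullback.lift _ _ hci ≫ G.c
  have hγ : γ ≫ G.j = (pullback.fst G.j G.j ≫ G.t) ≫ G.diag := by
    apply pullback.hom_ext
    · simp only [Category.assoc, GroupoidSp.j_fst, GroupoidSp.diag, pullback.lift_fst, Category.comp_id]
      exact G.comp_t _ _ hci
    · simp only [Category.assoc, GroupoidSp.j_snd, GroupoidSp.diag, pullback.lift_snd, Category.comp_id]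
      rw [G.comp_s _ _ hci, Category.assoc, G.i_s, hc.1]
  let σ : pullback G.j G.j ⟶ pullback G.j G.diag := pullback.lift γ _ hγ
  have sq : IsPullback G.t (pullback.diagonal G.j) eG σ := by
    have hΔ : pullback.diagonal G.j ≫ γ = G.t ≫ G.e := by
      have e : pullback.diagonal G.j ≫ pullback.lift _ _ hci =
          pullback.lift (𝟙 G.R) (𝟙 G.R ≫ G.i) (by rw [Category.id_comp, Category.id_comp, G.i_t]) :=
        hl _ _ _ hci _ _ _ (pullback.diagonal_fst _) (by rw [← Category.assoc, pullback.diagonal_snd])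
      rw [← Category.assoc, e, G.comp_i (𝟙 G.R), Category.id_comp]
    have w : G.t ≫ eG = pullback.diagonal G.j ≫ σ := by
      apply pullback.hom_ext
      · rw [Category.assoc, Category.assoc, pullback.lift_fst, hΔ]
        exact congrArg (G.t ≫ ·) heG
      · rw [Category.assoc, Category.assoc, pullback.lift_snd, pullback.diagonal_fst_assoc]
        exact (congrArg (G.t ≫ ·) hsec).trans (Category.comp_id _)
    refine ⟨⟨w⟩, ⟨PullbackCone.IsLimit.mk w (fun c => c.snd ≫ pullback.fst G.j G.j) (fun c => ?_) (fun c => ?_)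
      (fun c m _ hm => ?_)⟩⟩
    · have h1 := congrArg (· ≫ (pullback.snd G.j G.diag)) c.condition
      simp only [Category.assoc, hsec, Category.comp_id] at h1
      rw [h1]
      show _ = c.snd ≫ σ ≫ pullback.snd _ _
      rw [pullback.lift_snd, Category.assoc]
    · have h1 := congrArg (· ≫ (pullback.snd G.j G.diag)) c.condition
      simp only [Category.assoc, hsec, Category.comp_id] at h1
      have h1' : c.fst = c.snd ≫ pullback.fst G.j G.j ≫ G.t := by
        refine h1.trans ?_
        show c.snd ≫ σ ≫ pullback.snd _ _ = _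
        rw [pullback.lift_snd]
      have h2 := congrArg (· ≫ (pullback.fst G.j G.diag)) c.condition
      simp only [Category.assoc, heG] at h2
      have h2' : c.fst ≫ G.e = c.snd ≫ pullback.lift _ _ hci ≫ G.c := by
        refine h2.trans ?_
        show c.snd ≫ σ ≫ pullback.fst _ _ = _
        rw [pullback.lift_fst]
      let α := c.snd ≫ pullback.fst G.j G.j
      let β := c.snd ≫ pullback.snd G.j G.j
      have ht : α ≫ G.t = β ≫ G.t := by simp only [α, β, Category.assoc, hc.1]
      have hs : α ≫ G.s = β ≫ G.s := by simp only [α, β, Category.assoc, hc.2]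
      have h₁ : α ≫ G.s = (β ≫ G.i) ≫ G.t := by simp only [α, β, Category.assoc, G.i_t, hc.2]
      have h₂ : (β ≫ G.i) ≫ G.s = β ≫ G.t := by rw [Category.assoc, G.i_s]
      have hab : pullback.lift α (β ≫ G.i) h₁ ≫ G.c = β ≫ G.t ≫ G.e := by
        rw [← hl c.snd _ _ hci α (β ≫ G.i) h₁ rfl (Category.assoc _ _ _).symm, Category.assoc, ← h2', h1', ← Category.assoc c.snd]
        simp only [← Category.assoc] at ht ⊢
        exact congrArg (· ≫ G.e) ht
      have h := G.assoc α (β ≫ G.i) β h₁ h₂
      simp only [hab, G.i_comp, G.e_comp] at h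
      have h3 : α = β := by
        refine ((G.comp_e α).symm.trans ?_).trans h.symm
        congr 1
        apply pullback.hom_ext
        · simp only [pullback.lift_fst]
        · simp only [pullback.lift_snd, ← Category.assoc, hs]
      apply pullback.hom_ext
      · simp only [Category.assoc, pullback.diagonal_fst, Category.comp_id]
      · simp only [Category.assoc, pullback.diagonal_snd, Category.comp_id]
        exact h3
    · rw [← hm, Category.assoc, pullback.diagonal_fst, Category.comp_id]
  have sqS : IsPullback (pullback.fst G.j G.diag) (pullback.diagonal (pullback.snd G.j G.diag)) (pullback.diagonal G.j) _ :=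
    Groth.Agent.SpPts86.isPullback_diagonal_baseChange (IsPullback.of_hasPullback G.j G.diag)
  have sqE := Groth.Agent.SpPts86.isPullback_section hsec
  have key : ∀ (P : MorphismProperty Scheme.{u}) [P.IsStableUnderBaseChange],
      (RepWith P (pullback.diagonal G.j) → RepWith P (pullback.diagonal (pullback.snd G.j G.diag))) ∧
      (RepWith P (pullback.diagonal (pullback.snd G.j G.diag)) → RepWith P eG) ∧
      (RepWith P eG → RepWith P (pullback.diagonal G.j)) := fun P _ =>
    ⟨fun h => (AlgSp.repWith_isStableUnderBaseChange P).of_isPullback sqS h,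
      fun h => (AlgSp.repWith_isStableUnderBaseChange P).of_isPullback sqE h,
      fun h => (AlgSp.repWith_isStableUnderBaseChange P).of_isPullback sq h⟩
  obtain ⟨a1, a2, a3⟩ := key @IsClosedImmersion
  obtain ⟨b1, b2, b3⟩ := key @QuasiCompact
  obtain ⟨c1, c2, -⟩ := key @IsImmersion
  have hP : AlgSp.IsAlgSpace (pullback G.pU G.pU) := Groth.Agent.SpFP87.isAlgSpace_pullback _ _ hU hU hB
  have hSt : AlgSp.IsAlgSpace (pullback G.j G.diag) := Groth.Agent.SpFP87.isAlgSpace_pullback _ _ hR hU hP
  have q3 : AlgSp.IsQuasiCompactMor eG → AlgSp.IsQuasiSeparatedMor G.j := fun h =>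
    Groth.Agent.SpPts86.repWith_quasiCompact_of_isQuasiCompactMor (hdiag hR G.j)
      (Groth.Agent.SpPts86.isQuasiCompactMor_baseChange h sq)
  have q2 : AlgSp.IsQuasiSeparatedMor (pullback.snd G.j G.diag) → AlgSp.IsQuasiCompactMor eG := fun h =>
    Groth.Agent.SpPts86.isQuasiCompactMor_of_repWith hSt (b2 h)
  exact ⟨⟨⟨a1, fun h => a3 (a2 h)⟩, fun h => a2 (a1 h), a3⟩, ⟨⟨b1, fun h => q3 (q2 h)⟩, fun h => q2 (b1 h), q3⟩,
    fun h => c2 (c1 h), c2⟩

end Groth.Agent.S10122
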