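import Groth.Statements.S10124


set_option autoImplicit false
universe u
open CategoryTheory CategoryTheory.Limits AlgebraicGeometry
open AlgSp AlgSp.GroupoidSp

namespace Groth.Agent.S10124

/-- Let `(U, R, s, t, c)` be a groupoid in algebraic spaces over `B`, `K` a field and `r, r' : Spec K ⟶
R` with `t ∘ r = t ∘ r'`; put `u = s ∘ r`, `u' = s ∘ r'`. Then the fibres `Spec K ×_{u, U, s} R` and
`Spec K ×_{u', U, s} R` are isomorphic as spaces over `Spec K` (existence of an isomorphism over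
`Spec K`). -/
theorem result (S : Scheme.{u}) (B : AlgSp.Sp S) (hB : AlgSp.IsAlgSpace B)
    (G : AlgSp.GroupoidSp B) (hU : AlgSp.IsAlgSpace G.U) (hR : AlgSp.IsAlgSpace G.R)
    (K : Type u) [Field K] (σ : Spec (CommRingCat.of K) ⟶ S)
    (r r' : (AlgSp.yon S).obj (Over.mk σ) ⟶ G.R) (h : r ≫ G.t = r' ≫ G.t) :
    Nonempty (Over.mk (pullback.fst (r ≫ G.s) G.s) ≅ Over.mk (pullback.fst (r' ≫ G.s) G.s)) := by
  let mul : ∀ {T : AlgSp.Sp S} (α β : T ⟶ G.R), α ≫ G.s = β ≫ G.t → (T ⟶ G.R) :=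
    fun α β w => pullback.lift α β w ≫ G.c
  have mul_congr : ∀ {T : AlgSp.Sp S} {α α' β β' : T ⟶ G.R} (w : α ≫ G.s = β ≫ G.t)
      (w' : α' ≫ G.s = β' ≫ G.t), α = α' → β = β' → mul α β w = mul α' β' w' := by
    intro T α α' β β' w w' h1 h2; subst h1 h2; rfl
  have comp_mul : ∀ {T T' : AlgSp.Sp S} (f : T ⟶ T') (α β : T' ⟶ G.R) (w : α ≫ G.s = β ≫ G.t),
      f ≫ mul α β w = mul (f ≫ α) (f ≫ β) (by rw [Category.assoc, Category.assoc, w]) := by
    intro T T' f α β w
    simp only [mul]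
    rw [← Category.assoc]
    congr 1
    apply pullback.hom_ext
    · rw [Category.assoc, pullback.lift_fst, pullback.lift_fst]
    · rw [Category.assoc, pullback.lift_snd, pullback.lift_snd]
  have cancel : ∀ {T : AlgSp.Sp S} (x β γ : T ⟶ G.R) (w₁ : x ≫ G.s = β ≫ G.t)
      (w₂ : mul x β w₁ ≫ G.s = γ ≫ G.t) (w₃ : β ≫ G.s = γ ≫ G.t)
      (_ : mul β γ w₃ = β ≫ G.t ≫ G.e), mul (mul x β w₁) γ w₂ = x := by
    intro T x β γ w₁ w₂ w₃ hh
    change pullback.lift (pullback.lift x β w₁ ≫ G.c) γ _ ≫ G.c = x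
    rw [G.assoc x β γ w₁ w₃]
    refine (mul_congr _ (by rw [Category.assoc, Category.assoc, G.e_t, Category.comp_id])
      rfl (hh.trans ?_)).trans (G.comp_e x)
    rw [← Category.assoc, ← w₁, Category.assoc]
  have key : ∀ (p q : (AlgSp.yon S).obj (Over.mk σ) ⟶ G.R), p ≫ G.t = q ≫ G.t →
      ∃ F : pullback (p ≫ G.s) G.s ⟶ pullback (q ≫ G.s) G.s,
        F ≫ pullback.fst _ _ = pullback.fst _ _ ∧
        ∃ w w', F ≫ pullback.snd _ _ = mul (mul (pullback.snd (p ≫ G.s) G.s)
          (pullback.fst _ _ ≫ p ≫ G.i) w) (pullback.fst _ _ ≫ q) w' := by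
    intro p q e
    have w : pullback.snd (p ≫ G.s) G.s ≫ G.s = (pullback.fst _ _ ≫ p ≫ G.i) ≫ G.t := by
      simp only [Category.assoc, G.i_t, ← pullback.condition]
    have w' : mul _ _ w ≫ G.s = (pullback.fst (p ≫ G.s) G.s ≫ q) ≫ G.t := by
      simp only [mul, G.comp_s]
      simp only [Category.assoc, G.i_s, e]
    refine ⟨pullback.lift (pullback.fst _ _) (mul _ _ w') ?_, pullback.lift_fst _ _ _, w, w',
      pullback.lift_snd _ _ _⟩
    simp only [mul, G.comp_s, Category.assoc]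
  have inv : ∀ (p q : (AlgSp.yon S).obj (Over.mk σ) ⟶ G.R) (e : p ≫ G.t = q ≫ G.t),
      (key p q e).choose ≫ (key q p e.symm).choose = 𝟙 _ := by
    intro p q e
    obtain ⟨hF1, w, w', hF2⟩ := (key p q e).choose_spec
    obtain ⟨hG1, v, v', hG2⟩ := (key q p e.symm).choose_spec
    apply pullback.hom_ext
    · rw [Category.assoc, hG1, hF1, Category.id_comp]
    · rw [Category.assoc, hG2, Category.id_comp, comp_mul]
      have ea : (key p q e).choose ≫ pullback.fst (q ≫ G.s) G.s ≫ p = pullback.fst (p ≫ G.s) G.s ≫ p := by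
        rw [← Category.assoc, hF1]
      have eb : (key p q e).choose ≫ pullback.fst (q ≫ G.s) G.s ≫ q ≫ G.i =
          (pullback.fst (p ≫ G.s) G.s ≫ q) ≫ G.i := by
        rw [← Category.assoc, hF1, Category.assoc]
      have hin : (key p q e).choose ≫ mul _ _ v =
          mul (pullback.snd (p ≫ G.s) G.s) (pullback.fst (p ≫ G.s) G.s ≫ p ≫ G.i) w := by
        rw [comp_mul]
        refine (mul_congr _ (by
          simp only [mul, G.comp_s]; simp only [Category.assoc, G.i_t, G.i_s]) hF2 eb).trans ?_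
        exact cancel _ _ _ w' _ (by rw [Category.assoc _ G.i G.t, G.i_t]) (G.comp_i _)
      refine (mul_congr _ (by simp only [mul, G.comp_s]; simp only [Category.assoc, G.i_s]) hin ea).trans ?_
      refine cancel _ _ _ w _ (by simp only [Category.assoc, G.i_s]) ?_
      refine (mul_congr _ (by rw [Category.assoc, G.i_s]) (Category.assoc _ _ _).symm rfl).trans ?_
      refine (G.i_comp _).trans ?_
      simp only [Category.assoc, ← G.i_t]
  exact ⟨Over.isoMk ⟨(key r r' h).choose, (key r' r h.symm).choose, inv r r' h, inv r' r h.symm⟩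
    (key r r' h).choose_spec.1⟩

end Groth.Agent.S10124
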