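import Groth.Statements.S10126
import Groth.Agent.SpPts86.FieldRestrict

set_option autoImplicit false
universe u
open CategoryTheory CategoryTheory.Limits AlgebraicGeometry
open AlgSp AlgSp.GroupoidSp

namespace Groth.Agent.S10126

/-- Let `(U, R, s, t, c)` be a groupoid in algebraic spaces over `B` whose object space is `U = Spec k`,
with `k` a field. Then the composition `c : R ×_{s, U, t} R ⟶ R` is flat and universally open. -/
theorem result (S : Scheme.{u}) (B : AlgSp.Sp S) (hB : AlgSp.IsAlgSpace B)
    (G : AlgSp.GroupoidSp B) (hR : AlgSp.IsAlgSpace G.R) (k : Type u) [Field k]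
    (σ : Spec (CommRingCat.of k) ⟶ S) (eU : G.U ≅ (AlgSp.yon S).obj (Over.mk σ)) :
    AlgSp.LocP @Flat G.c ∧ AlgSp.IsUnivOpenMor G.c := by
  haveI : Subsingleton ↥(Over.mk σ : Over S).left := inferInstanceAs (Subsingleton (PrimeSpectrum k))
  haveI : IsIntegral (Over.mk σ : Over S).left := inferInstanceAs (IsIntegral (Spec (CommRingCat.of k)))
  exact SpPts86.flat_univOpen_grpd_comp G hR eU

end Groth.Agent.S10126
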