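import Groth.Statements.S10127
import Groth.Agent.SpPts86.FieldSeparated
import Groth.Agent.S10116

set_option autoImplicit false
universe u
open CategoryTheory CategoryTheory.Limits AlgebraicGeometry MonoidalCategory MonObj
open AlgSp

namespace Groth.Agent.S10127

/-- A group algebraic space over a field `k` which is a decent algebraic space is separated. (The
published situation allows any base scheme `S` with `k` a field over `S`; this row takes `S = Spec
k`.) -/
theorem result (k : Type u) [Field k]
    (G : Over ((AlgSp.yon (Spec (CommRingCat.of k))).obj (Over.mk (𝟙 _)))) [GrpObj G]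
    (hG : AlgSp.IsAlgSpace G.left) (hd : AlgSp.IsDecent G.left) : AlgSp.IsSeparatedSp G.left := by
  haveI : IsAffine (Over.mk (𝟙 (Spec (CommRingCat.of k))) : Over (Spec (CommRingCat.of k))).left :=
    inferInstanceAs (IsAffine (Spec (CommRingCat.of k)))
  have h1 := SpPts86.section_closedImmersion (k := k) hG hd G.hom (e := (MonObj.one : _ ⟶ G).left)
    (Over.w (MonObj.one : _ ⟶ G))
  exact SpPts86.isSeparatedSp_of_diagonal G.hom
    ((S10116.result _ _ (AlgSp.IsAlgSpace.yon_obj _) G hG).1.2 h1) SpPts86.isSeparatedSp_spec

end Groth.Agent.S10127
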