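import Groth.Statements.S10133
import Groth.Agent.SpPts86.FieldUnibranch

set_option autoImplicit false
universe u
open CategoryTheory CategoryTheory.Limits AlgebraicGeometry MonoidalCategory MonObj
open AlgSp

namespace Groth.Agent.S10133

/-- A group algebraic space over a field is geometrically unibranch. (The published situation allows any
base scheme `S` with `k` a field over `S`; this row takes `S = Spec k`.) -/
theorem result (k : Type u) [Field k]
    (G : Over ((AlgSp.yon (Spec (CommRingCat.of k))).obj (Over.mk (𝟙 _)))) [GrpObj G] (hG : AlgSp.IsAlgSpace G.left) (x : AlgSp.Points G.left) :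
    AlgSp.HasAt (fun U u => Brnch.numGeomBranchesAt U u = 1) G.left x := by
  exact SpPts86.hasAt_geomUnibranch hG (SpPts86.hasTernary_grp G) x

end Groth.Agent.S10133
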