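import Groth.Statements.S10135
import Groth.Agent.SpPts86.FieldDim
import Groth.Agent.SpPts86.GrpdSp

set_option autoImplicit false
universe u
open CategoryTheory CategoryTheory.Limits AlgebraicGeometry
open AlgSp AlgSp.GroupoidSp
set_option backward.isDefEq.respectTransparency false

namespace Groth.Agent.S10135

/-- For a groupoid in algebraic spaces `(U, R, s, t, c)` over `B` with `U = Spec k` and `s, t` locally
of finite type, `dim_r(R) = dim(R)` for every point `r` of `R`. -/
theorem result (S : Scheme.{u}) (B : AlgSp.Sp S) (hB : AlgSp.IsAlgSpace B)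
    (G : AlgSp.GroupoidSp B) (hR : AlgSp.IsAlgSpace G.R) (k : Type u) [Field k]
    (σ : Spec (CommRingCat.of k) ⟶ S) (eU : G.U ≅ (AlgSp.yon S).obj (Over.mk σ))
    (hs : AlgSp.LocP @LocallyOfFiniteType G.s) (ht : AlgSp.LocP @LocallyOfFiniteType G.t) (r : AlgSp.Points G.R) :
    AlgSp.HasAt (fun V v => FlatMor.localDim ↥V v = AlgSp.dim G.R) G.R r := by
  exact SpPts86.hasAt_localDim_dim hR (s := G.s ≫ eU.hom) (t := G.t ≫ eU.hom) (e := eU.inv ≫ G.e)
    (p₁ := pullback.fst G.s G.t) (p₂ := pullback.snd G.s G.t) (c := G.c)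
    (by rw [Category.assoc, ← Category.assoc G.e, G.e_s, Category.id_comp, Iso.inv_hom_id])
    (SpPts86.lftTo_of_locP hs eU)
    ((IsPullback.of_hasPullback G.s G.t).of_iso (Iso.refl _) (Iso.refl _) (Iso.refl _) eU
      (by simp) (by simp) (by simp) (by simp))
    ((SpPts86.isPullback_comp G).of_iso (Iso.refl _) (Iso.refl _) (Iso.refl _) eU
      (by simp) (by simp) (by simp) (by simp))
    (fun {T} α l h1 h2 => by
      have w : (α ≫ G.t ≫ G.e) ≫ G.s = α ≫ G.t := by
        rw [Category.assoc, Category.assoc, G.e_s, Category.comp_id]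
      have : l = pullback.lift (α ≫ G.t ≫ G.e) α w := pullback.hom_ext
        (by rw [pullback.lift_fst, h1]; simp)
        (by rw [pullback.lift_snd, h2])
      rw [this]
      exact G.e_comp α) r

end Groth.Agent.S10135
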