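import Groth.Statements.S10139
import Groth.Agent.SpPts86.SliceCover
import Groth.Agent.SpPts86.QuotRestrict

set_option autoImplicit false
universe u
open CategoryTheory CategoryTheory.Limits AlgebraicGeometry
open AlgSp

namespace Groth.Agent.S10139

/-- Take an equivalence relation `j : R ⟶ U ×_S U` of schemes over `S`, with `s, t` flat and locally of
finite presentation. Then there exist an equivalence relation `j' : R' ⟶ U' ×_S U'` on schemes over
`S` with `s', t'` flat, locally of finite presentation and locally quasi-finite, and a morphism `U'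
⟶ U` mapping `R'` into `R` which induces an isomorphism of fppf quotient sheaves `U'/R' ⟶ U/R`. -/
theorem result (S : Scheme.{u}) {R U : Over S} (s t : R ⟶ U)
    (h : AlgSp.IsEqvRel s t) [Flat s.left] [LocallyOfFinitePresentation s.left]
    [Flat t.left] [LocallyOfFinitePresentation t.left] :
    ∃ (R' U' : Over S) (s' t' : R' ⟶ U') (g : U' ⟶ U) (r : R' ⟶ R)
      (ψ : QuotSh.quot Scheme.fppfPrecoverage s' t' ⟶ QuotSh.quot Scheme.fppfPrecoverage s t),
      AlgSp.IsEqvRel s' t' ∧ r ≫ s = s' ≫ g ∧ r ≫ t = t' ≫ g ∧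
      Flat s'.left ∧ LocallyOfFinitePresentation s'.left ∧ LocallyQuasiFinite s'.left ∧
      Flat t'.left ∧ LocallyOfFinitePresentation t'.left ∧ LocallyQuasiFinite t'.left ∧
      QuotSh.quotπ Scheme.fppfPrecoverage s' t' ≫ ψ = QuotSh.repMap Scheme.fppfPrecoverage g ≫ QuotSh.quotπ Scheme.fppfPrecoverage s t ∧ IsIso ψ := by
  have hK := SpPts86.quotMap_kernelPair h
  obtain ⟨U', R', s', t', g, hl, sq, h1, h2, h3, h4, h5, h6⟩ :=
    SpPts86.exists_lqf_cover (SpPts86.locLift_quotMap s t) hK
  have hE := SpPts86.isEqvRel_of_isPullback sq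
  obtain ⟨r, hr⟩ := (AlgSp.yon S).map_surjective
    (hK.lift ((AlgSp.yon S).map (t' ≫ g)) ((AlgSp.yon S).map (s' ≫ g))
      (by simpa only [Functor.map_comp, Category.assoc] using sq.w))
  have hrt : r ≫ t = t' ≫ g := (AlgSp.yon S).map_injective (by rw [Functor.map_comp, hr, hK.lift_fst])
  have hrs : r ≫ s = s' ≫ g := (AlgSp.yon S).map_injective (by rw [Functor.map_comp, hr, hK.lift_snd])
  have hK' := SpPts86.quotMap_kernelPair hE
  obtain ⟨c₁⟩ := SpPts86.isColimit_cofork (SpPts86.locLift_quotMap s' t') hK'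
  obtain ⟨c₂⟩ := SpPts86.isColimit_cofork hl sq
  let e := c₁.coconePointUniqueUpToIso c₂
  have he : SpPts86.quotMap s' t' ≫ e.hom = (AlgSp.yon S).map g ≫ SpPts86.quotMap s t :=
    c₁.comp_coconePointUniqueUpToIso_hom c₂ WalkingParallelPair.one
  refine ⟨R', U', s', t', g, r, e.hom, hE, hrs, hrt, h1, h2, h3, h4, h5, h6, ?_, inferInstance⟩
  exact (cancel_epi (QuotSh.repIsoUliftYoneda Scheme.fppfPrecoverage U').inv).1
    ((Category.assoc _ _ _).symm.trans (he.trans (SpPts86.repMap_quotπ_eq s t g).symm))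

end Groth.Agent.S10139
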