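import Groth.Statements.S10149
import Groth.Agent.LinTop27.Basic

set_option autoImplicit false
universe u v
open LinTop

namespace Groth.Agent.S10149

/-- In a linearly topologized ring B the ideal of topologically nilpotent elements is closed. Moreover,
if φ : A → B is a continuous homomorphism of linearly topologized rings and I is an ideal of A
consisting of topologically nilpotent elements, then every element of the closure of the ideal φ(I)B
is topologically nilpotent. -/
theorem result
    (A : Type u) [CommRing A] [TopologicalSpace A] [IsTopologicalRing A] [IsLinearTopology A A]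
    (B : Type v) [CommRing B] [TopologicalSpace B] [IsTopologicalRing B] [IsLinearTopology B B] :
    IsClosed ((topologicalNilradical B : Ideal B) : Set B) ∧
      ∀ (φ : A →+* B), Continuous φ → ∀ I : Ideal A, (∀ f ∈ I, IsTopologicallyNilpotent f) →
        ∀ g ∈ (I.map φ).closure, IsTopologicallyNilpotent g := by
  have hcl : IsClosed ((topologicalNilradical B : Ideal B) : Set B) := by
    refine isClosed_of_closure_subset fun x hx => ?_
    refine (IsLinearTopology.hasBasis_open_ideal.tendsto_right_iff).mpr fun J hJ => ?_
    have hmem : {y : B | x - y ∈ J} ∈ nhds x :=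
      (hJ.preimage (continuous_const.sub continuous_id)).mem_nhds (by simp)
    obtain ⟨y, hxy, hy⟩ := mem_closure_iff_nhds.mp hx _ hmem
    have hy' : ∀ᶠ n in Filter.atTop, y ^ n ∈ J :=
      (IsTopologicallyNilpotent.mem_topologicalNilradical_iff.mp hy).eventually_mem
        (LinTop27.mem_nhds_zero hJ)
    filter_upwards [hy'] with n hn
    have h1 : x ^ n - y ^ n ∈ J := J.mem_of_dvd (sub_dvd_pow_sub_pow x y n) hxy
    simpa using J.add_mem h1 hn
  refine ⟨hcl, fun φ hφ I hI g hg => ?_⟩
  have hle : I.map φ ≤ topologicalNilradical B := Ideal.map_le_iff_le_comap.mpr fun f hf => (hI f hf).map hφ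
  have := closure_minimal (SetLike.coe_subset_coe.mpr hle) hcl hg
  exact this

end Groth.Agent.S10149
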