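import Groth.Statements.S10150
import Groth.Agent.Lin28.Ideals
-- import your own Groth.Agent.* helpers here

set_option autoImplicit false
universe u v
open LinTop

namespace Groth.Agent.S10150

/-- Let φ : A → B be a continuous ring homomorphism between weakly pre-admissible linearly topologized
rings. Then φ is taut if and only if, for each weak ideal of definition I of A, the closure of the
ideal generated by φ(I) is again a weak ideal of definition, now of B, and every neighbourhood of 0
in B contains one of these closures. (The published statement takes A and B weakly admissible, that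
is, moreover Hausdorff and complete; completeness plays no role and this row omits it.) -/
theorem result
    (A : Type u) [CommRing A] [TopologicalSpace A] [IsTopologicalRing A] [IsLinearTopology A A]
    (B : Type v) [CommRing B] [TopologicalSpace B] [IsTopologicalRing B] [IsLinearTopology B B]
    (hA : LinTop.IsWeaklyPreadmissible A) (hB : LinTop.IsWeaklyPreadmissible B)
    (φ : A →+* B) (hφ : Continuous φ) :
    LinTop.IsTaut φ ↔
      ((∀ I : Ideal A, LinTop.IsWeakIdealOfDefinition A I →
          LinTop.IsWeakIdealOfDefinition B (I.map φ).closure) ∧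
        ∀ U ∈ nhds (0 : B), ∃ I : Ideal A, LinTop.IsWeakIdealOfDefinition A I ∧
          ((I.map φ).closure : Set B) ⊆ U) := by
  constructor
  · intro h
    refine ⟨fun I hI => ⟨Lin28.taut_isOpen h hI.1, Lin28.topologicallyNilpotent_of_mem_closure ?_⟩,
      fun U hU => ?_⟩
    · intro f hf
      have : I.map φ ≤ topologicalNilradical B := Ideal.map_le_iff_le_comap.2 fun x hx =>
        IsTopologicallyNilpotent.mem_topologicalNilradical_iff.2 ((hI.2 x hx).map hφ)
      exact IsTopologicallyNilpotent.mem_topologicalNilradical_iff.1 (this hf)
    · obtain ⟨W, hWo, hW⟩ := hA.2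
      obtain ⟨I, hIo, hI⟩ := h.2.2 U hU
      exact ⟨I ⊓ W, ⟨Lin28.isOpen_inf hIo hWo, fun f hf => hW f hf.2⟩, fun x hx =>
        hI (Lin28.closure_mono_ideal (Ideal.map_mono inf_le_left) hx)⟩
  · rintro ⟨h1, -⟩
    obtain ⟨W, hWo, hW⟩ := hA.2
    refine Lin28.isTaut_of_isOpen_closure φ hφ fun I hI => ?_
    have := h1 (I ⊓ W) ⟨Lin28.isOpen_inf hI hWo, fun f hf => hW f hf.2⟩
    exact Lin28.isOpen_mono (Lin28.closure_mono_ideal (Ideal.map_mono inf_le_left)) this.1

end Groth.Agent.S10150
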