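import Groth.Statements.S10152
import Groth.Agent.Lin28.Ideals
-- import your own Groth.Agent.* helpers here

set_option autoImplicit false
universe u v
open LinTop

namespace Groth.Agent.S10152

/-- Let φ : A → B be a taut homomorphism of linearly topologized rings. If A has a countable fundamental
system of open ideals, then so does B (equivalently, the neighbourhood filters of 0 are countably
generated). -/
theorem result
    (A : Type u) [CommRing A] [TopologicalSpace A] [IsTopologicalRing A] [IsLinearTopology A A]
    (B : Type v) [CommRing B] [TopologicalSpace B] [IsTopologicalRing B] [IsLinearTopology B B]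
    (φ : A →+* B) (hφ : LinTop.IsTaut φ) (hA : (nhds (0 : A)).IsCountablyGenerated) :
    (nhds (0 : B)).IsCountablyGenerated := by
  obtain ⟨W, -, hWo, hWb⟩ := Lin28.exists_antitone_open_ideals hA
  have hb : (nhds (0 : B)).HasBasis (fun _ : ℕ => True)
      fun n => (((W n).map φ).closure : Set B) := by
    refine ⟨fun U => ⟨fun hU => ?_, fun ⟨n, _, hn⟩ => Filter.mem_of_superset
      (Lin28.mem_nhds_of_isOpen (Lin28.taut_isOpen hφ (hWo n))) hn⟩⟩
    obtain ⟨V, hV, hVU⟩ := hφ.2.2 U hU
    obtain ⟨n, hn⟩ := hWb _ (Lin28.mem_nhds_of_isOpen hV)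
    exact ⟨n, trivial, fun x hx => hVU (Lin28.closure_mono_ideal (Ideal.map_mono hn) hx)⟩
  exact hb.isCountablyGenerated

end Groth.Agent.S10152
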