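import Groth.Statements.S10155
import Groth.Agent.Lin28.Compl
-- import your own Groth.Agent.* helpers here

set_option autoImplicit false
universe u v
open LinTop

namespace Groth.Agent.S10155

/-- Let φ : A → B be a taut homomorphism of linearly topologized rings with dense image. Assume A is
Hausdorff and complete with a countable fundamental system of open ideals and B is Hausdorff. Then φ
is surjective and open, so that B is the quotient of A by the closed ideal ker φ with the quotient
topology, and B is complete. -/
theorem result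
    (A : Type u) [CommRing A] [UniformSpace A] [IsUniformAddGroup A] [IsTopologicalRing A]
    [IsLinearTopology A A] [T2Space A] [CompleteSpace A] (hA : (nhds (0 : A)).IsCountablyGenerated)
    (B : Type v) [CommRing B] [UniformSpace B] [IsUniformAddGroup B] [IsTopologicalRing B]
    [IsLinearTopology B B] [T2Space B]
    (φ : A →+* B) (hφ : LinTop.IsTaut φ) (hd : DenseRange φ) :
    Function.Surjective φ ∧ IsOpenQuotientMap φ ∧ CompleteSpace B := by
  obtain ⟨W, hW, hWo, hWb⟩ := Lin28.exists_antitone_open_ideals hA
  have hJ : ∀ n, closure (φ '' (W n : Set A)) ∈ nhds (0 : B) := fun n =>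
    Filter.mem_of_superset (Lin28.mem_nhds_of_isOpen (Lin28.taut_isOpen hφ (hWo n)))
      (closure_minimal (Lin28.map_le_closure_image φ hd _) isClosed_closure)
  have hJb : ∀ s ∈ nhds (0 : B), ∃ n, closure (φ '' (W n : Set A)) ⊆ s := by
    intro s hs
    obtain ⟨I, hIo, hI⟩ := hφ.2.2 s hs
    obtain ⟨n, hn⟩ := hWb _ (Lin28.mem_nhds_of_isOpen hIo)
    refine ⟨n, fun y hy => hI (closure_mono ?_ hy)⟩
    rintro _ ⟨a, ha, rfl⟩
    exact Ideal.mem_map_of_mem φ (hn ha)
  have h1 := Lin28.surjective_openMap_of_closure_image φ.toAddMonoidHom hφ.1 hd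
    (fun n => (W n).toAddSubgroup) (fun a b h => hW h)
    (fun n => Lin28.isClosed_of_isOpen (hWo n)) hWb hJ hJb
  refine ⟨h1.1, ⟨h1.1, hφ.1, h1.2⟩, ?_⟩
  have h2 := Lin28.surjective_openMap_of_closure_image
    ((UniformSpace.Completion.toCompl : B →+ UniformSpace.Completion B).comp φ.toAddMonoidHom)
    ((UniformSpace.Completion.continuous_coe B).comp hφ.1)
    (UniformSpace.Completion.denseRange_coe.comp hd (UniformSpace.Completion.continuous_coe B))
    (fun n => (W n).toAddSubgroup) (fun a b h => hW h)
    (fun n => Lin28.isClosed_of_isOpen (hWo n)) hWb ?_ ?_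
  · rw [completeSpace_iff_isComplete_range (UniformSpace.Completion.isUniformInducing_coe B)]
    have hr : Set.range ((↑) : B → UniformSpace.Completion B) = Set.univ := by
      refine Set.eq_univ_of_forall fun y => ?_
      obtain ⟨a, ha⟩ := h2.1 y
      exact ⟨φ a, ha⟩
    rw [hr]
    exact complete_univ
  · intro n
    refine Filter.mem_of_superset (Lin28.completion_closure_mem_nhds (hJ n))
      (closure_minimal ?_ isClosed_closure)
    rintro _ ⟨y, hy, rfl⟩
    refine map_mem_closure (UniformSpace.Completion.continuous_coe B) hy ?_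
    rintro _ ⟨a, ha, rfl⟩
    exact ⟨a, ha, rfl⟩
  · intro s hs
    obtain ⟨n, hn⟩ := Lin28.completion_basis (fun n => closure (φ '' (W n : Set A))) hJb hs
    refine ⟨n, fun y hy => hn (closure_mono ?_ hy)⟩
    rintro _ ⟨a, ha, rfl⟩
    exact ⟨φ a, subset_closure ⟨a, ha, rfl⟩, rfl⟩

end Groth.Agent.S10155
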