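import Groth.Statements.S10156
import Groth.Agent.Lin28.Ideals
-- import your own Groth.Agent.* helpers here

set_option autoImplicit false
universe u v w
open LinTop

namespace Groth.Agent.S10156

/-- Given pre-adic rings A, B, C and continuous ring maps ψ : B → C and φ : A → B, adicness of the
composite A → C implies that ψ is adic. -/
theorem result
    (A : Type u) [CommRing A] [TopologicalSpace A] [IsTopologicalRing A] (hA : LinTop.IsPreadic A)
    (B : Type v) [CommRing B] [TopologicalSpace B] [IsTopologicalRing B] (hB : LinTop.IsPreadic B)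
    (C : Type w) [CommRing C] [TopologicalSpace C] [IsTopologicalRing C] (hC : LinTop.IsPreadic C)
    (φ : A →+* B) (ψ : B →+* C) (hφ : Continuous φ) (hψ : Continuous ψ)
    (h : LinTop.IsAdicHom (ψ.comp φ)) : LinTop.IsAdicHom ψ := by
  have := Lin28.isPreadic_linearTopology hC
  obtain ⟨I, hI, hIC⟩ := h
  obtain ⟨J, hJ⟩ := hB
  have hJd := Lin28.isIdealOfDefinition_of_isAdic hJ
  refine ⟨J, hJd, isAdic_iff.2 ⟨fun n => ?_, fun s hs => ?_⟩⟩
  · obtain ⟨m, -, hm⟩ := hI.2 _ (Lin28.mem_nhds_of_isOpen (I := J.comap φ) (hJd.1.preimage hφ))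
    refine Lin28.isOpen_mono ?_ ((isAdic_iff.1 hIC).1 (m * n))
    rw [pow_mul, ← Ideal.map_pow, ← Ideal.map_map]
    exact Ideal.pow_right_mono
      (Ideal.map_mono (Ideal.map_le_iff_le_comap.2 fun x hx => hm hx)) n
  · obtain ⟨V, hV, hVs⟩ := Lin28.exists_open_ideal hs
    obtain ⟨n, -, hn⟩ := hJd.2 _ (Lin28.mem_nhds_of_isOpen (I := V.comap ψ) (hV.preimage hψ))
    refine ⟨n, fun x hx => hVs ?_⟩
    rw [← Ideal.map_pow] at hx
    exact Ideal.map_le_iff_le_comap.2 (fun y hy => hn hy) hx

end Groth.Agent.S10156
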