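import Groth.Statements.S10157
import Groth.Agent.Lin28.Ideals
-- import your own Groth.Agent.* helpers here

set_option autoImplicit false
universe u v
open LinTop

namespace Groth.Agent.S10157

/-- A continuous adic homomorphism φ : A → B between pre-adic topological rings is taut. -/
theorem result
    (A : Type u) [CommRing A] [TopologicalSpace A] [IsTopologicalRing A] (hA : LinTop.IsPreadic A)
    (B : Type v) [CommRing B] [TopologicalSpace B] [IsTopologicalRing B] (hB : LinTop.IsPreadic B)
    (φ : A →+* B) (hφ : Continuous φ) (h : LinTop.IsAdicHom φ) : LinTop.IsTaut φ := by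
  have := Lin28.isPreadic_linearTopology hB
  obtain ⟨I, hI, hIB⟩ := h
  refine Lin28.isTaut_of_isOpen_closure φ hφ fun U hU => ?_
  obtain ⟨m, -, hm⟩ := hI.2 _ (Lin28.mem_nhds_of_isOpen hU)
  refine Lin28.isOpen_mono ?_ ((isAdic_iff.1 hIB).1 m)
  rw [← Ideal.map_pow]
  exact (Ideal.map_mono fun x hx => hm hx).trans (Lin28.le_closure _)

end Groth.Agent.S10157
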