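import Groth.Statements.S10163
import Groth.Agent.Lin28.Ideals
import Groth.Agent.Lin28.Surj
-- import your own Groth.Agent.* helpers here

set_option autoImplicit false
universe u
open LinTop

namespace Groth.Agent.S10163

/-- Let A be Hausdorff, complete and linearly topologized, and I a finitely generated ideal whose powers
I^n all have open closures, these closures forming a basis of neighbourhoods of 0. Then A carries
the I-adic topology; in particular A is adic with I as a finitely generated ideal of definition. -/
theorem result
    (A : Type u) [CommRing A] [UniformSpace A] [IsUniformAddGroup A] [IsTopologicalRing A] [IsLinearTopology A A] [T2Space A] [CompleteSpace A]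
    (I : Ideal A) (hfg : I.FG) (hopen : ∀ n : ℕ, IsOpen (closure ((I ^ n : Ideal A) : Set A)))
    (hbasis : ∀ U ∈ nhds (0 : A), ∃ n : ℕ, closure ((I ^ n : Ideal A) : Set A) ⊆ U) :
    IsAdic I := by
  let F : ℕ → Ideal A := fun k => (I ^ k).closure
  have hF : Antitone F := fun a b h => Lin28.closure_mono_ideal (Ideal.pow_le_pow_right h)
  have hle : ∀ n k, I ^ n • F k ≤ F (n + k) := by
    intro n k
    rw [smul_eq_mul]
    show I ^ n * (I ^ k).closure ≤ (I ^ (n + k)).closure
    rw [pow_add]
    exact (Ideal.mul_mono (Lin28.le_closure _) le_rfl).trans (Lin28.closure_mul_le _ _)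
  have hge : ∀ n k, (F (n + k) : Set A) ⊆ closure ((I ^ n • F k : Ideal A) : Set A) := by
    intro n k
    refine closure_mono fun x hx => ?_
    rw [SetLike.mem_coe, pow_add] at hx
    rw [smul_eq_mul]
    exact Ideal.mul_mono le_rfl (Lin28.le_closure _) hx
  refine isAdic_iff.2 ⟨fun n => ?_, fun s hs => ?_⟩
  · have h := Lin28.closure_smul_eq (I ^ n) (Submodule.FG.pow hfg n) F hF
      (fun k => Lin28.isClosed_closure_ideal _) (fun s hs => hbasis s hs)
      (fun k => Filter.mem_of_superset ((hopen (n + k)).mem_nhds (subset_closure (zero_mem _)))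
        (hge n k))
      (fun s hs => by
        obtain ⟨m, hm⟩ := hbasis s hs
        refine ⟨m, fun x hx => hm ?_⟩
        exact hF (Nat.le_add_left m n)
          (closure_minimal (fun y hy => hle n m hy) (Lin28.isClosed_closure_ideal _) hx)) 0
    have h0 : I ^ n • F 0 = I ^ n := by
      rw [smul_eq_mul]
      refine le_antisymm Ideal.mul_le_left (le_of_eq_of_le (mul_one _).symm
        (Ideal.mul_mono le_rfl ?_))
      exact le_trans (le_of_eq (pow_zero I).symm) (Lin28.le_closure _)
    rw [h0] at h
    rw [← h]
    exact hopen n
  · obtain ⟨n, hn⟩ := hbasis s hs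
    exact ⟨n, fun x hx => hn (subset_closure hx)⟩

end Groth.Agent.S10163
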