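import Groth.Statements.S10158
import Groth.Agent.Lin28.Ideals
import Groth.Agent.Lin28.Surj
import Groth.Agent.S10163
-- import your own Groth.Agent.* helpers here

set_option autoImplicit false
universe u v
open LinTop

namespace Groth.Agent.S10158

/-- Let φ : A → B be a taut homomorphism of linearly topologized rings. Assume A is pre-adic with a
finitely generated ideal of definition I and B is Hausdorff and complete. Then the topology of B is
the φ(I)B-adic topology; in particular B is adic with a finitely generated ideal of definition and φ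
is adic. -/
theorem result
    (A : Type u) [CommRing A] [TopologicalSpace A] [IsTopologicalRing A] (hA : LinTop.IsPreadic A)
    (I : Ideal A) (hI : LinTop.IsIdealOfDefinition A I) (hfg : I.FG)
    (B : Type v) [CommRing B] [UniformSpace B] [IsUniformAddGroup B] [IsTopologicalRing B]
    [IsLinearTopology B B] [T2Space B] [CompleteSpace B]
    (φ : A →+* B) (hφ : LinTop.IsTaut φ) :
    IsAdic (I.map φ) := by
  refine S10163.result B (I.map φ) (hfg.map φ) (fun n => ?_) fun U hU => ?_
  · rw [← Ideal.map_pow]
    exact hφ.2.1 _ (Lin28.isOpen_pow_of_isPreadic hA hI.1 n)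
  · obtain ⟨V, hV, hVU⟩ := Lin28.exists_open_ideal hU
    obtain ⟨n, -, hn⟩ := hI.2 _ (Lin28.mem_nhds_of_isOpen (I := V.comap φ) (hV.preimage hφ.1))
    refine ⟨n, fun x hx => hVU ?_⟩
    refine closure_minimal (fun y hy => ?_) (Lin28.isClosed_of_isOpen hV) hx
    rw [← Ideal.map_pow] at hy
    exact Ideal.map_le_iff_le_comap.2 (fun z hz => hn hz) hy

end Groth.Agent.S10158
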