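import Groth.Statements.S10159
import Groth.Agent.Lin28.Ideals
-- import your own Groth.Agent.* helpers here

set_option autoImplicit false
universe u
open LinTop

namespace Groth.Agent.S10159

/-- For a ring A carrying a linear topology, the following four conditions are equivalent: (1) A is
weakly pre-adic; (2) there exist a pre-adic topological ring A' and a taut continuous ring
homomorphism A' → A (A' is taken in the universe of A, which suffices since A with an adic topology
serves); (3) A has an ideal of definition, and for at least one ideal of definition I every closure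
cl(I^n) with n ≥ 1 is open; (4) A has an ideal of definition, and for each of its ideals of
definition I every closure cl(I^n) with n ≥ 1 is open. -/
theorem result
    (A : Type u) [CommRing A] [TopologicalSpace A] [IsTopologicalRing A] [IsLinearTopology A A] :
    List.TFAE [LinTop.IsWeaklyPreadic A,
      ∃ (A' : Type u) (_ : CommRing A') (_ : TopologicalSpace A') (_ : IsTopologicalRing A')
        (φ : A' →+* A), LinTop.IsPreadic A' ∧ LinTop.IsTaut φ,
      LinTop.IsPreadmissible A ∧ ∃ I : Ideal A, LinTop.IsIdealOfDefinition A I ∧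
        ∀ n : ℕ, 0 < n → IsOpen (closure ((I ^ n : Ideal A) : Set A)),
      LinTop.IsPreadmissible A ∧ ∀ I : Ideal A, LinTop.IsIdealOfDefinition A I →
        ∀ n : ℕ, 0 < n → IsOpen (closure ((I ^ n : Ideal A) : Set A))] := by
  tfae_have 1 → 3 := by
    intro h
    obtain ⟨I, hI⟩ := Lin28.exists_weakAdic h
    exact ⟨Lin28.isPreadmissible_of_isWeaklyPreadic h, I, hI.1, fun n _ => by
      simpa using hI.2 n⟩
  tfae_have 3 → 4 := by
    rintro ⟨hp, I, hI, hI'⟩
    have hw : Lin28.WeakAdic I := ⟨hI, fun n => by
      rcases Nat.eq_zero_or_pos n with rfl | hn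
      · exact Lin28.isOpen_mono ((le_top.trans_eq ((pow_zero I).trans Ideal.one_eq_top).symm).trans
          (Lin28.le_closure _)) hI.1
      · simpa using hI' n hn⟩
    refine ⟨hp, fun J hJ n _ => ?_⟩
    simpa using (Lin28.weakAdic_of_isIdealOfDefinition
      (Lin28.isWeaklyPreadic_of_weakAdic hw) hJ).2 n
  tfae_have 4 → 1 := by
    rintro ⟨⟨-, I, hI⟩, h⟩
    refine Lin28.isWeaklyPreadic_of_weakAdic (I := I) ⟨hI, fun n => ?_⟩
    rcases Nat.eq_zero_or_pos n with rfl | hn
    · exact Lin28.isOpen_mono ((le_top.trans_eq ((pow_zero I).trans Ideal.one_eq_top).symm).trans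
        (Lin28.le_closure _)) hI.1
    · simpa using h I hI n hn
  tfae_have 1 → 2 := by
    intro h
    obtain ⟨I, hI⟩ := Lin28.exists_weakAdic h
    have hlin : @IsLinearTopology A A _ _ _ I.adicTopology := I.isLinearTopology
    refine ⟨A, inferInstance, I.adicTopology,
      @NonarchimedeanRing.toIsTopologicalRing _ _ I.adicTopology I.nonarchimedean, RingHom.id A,
      ⟨I, rfl⟩, ?_⟩
    refine @Lin28.isTaut_of_isOpen_closure A _ I.adicTopology A _ _ _ _ (RingHom.id A) ?_ ?_
    · refine @Continuous.mk A A I.adicTopology _ _ (fun s hs => ?_)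
      rw [@isOpen_iff_mem_nhds A I.adicTopology]
      intro x hx
      have h0 : (fun y => x + y) ⁻¹' s ∈ nhds (0 : A) := by
        apply (continuous_const_add x).continuousAt.preimage_mem_nhds
        simpa using hs.mem_nhds hx
      obtain ⟨n, -, hn⟩ := hI.1.2 _ h0
      refine (I.hasBasis_nhds_adic x).mem_iff.2 ⟨n, trivial, ?_⟩
      rintro _ ⟨y, hy, rfl⟩
      exact hn hy
    · intro J hJ
      have hJ0 : (J : Set A) ∈ @nhds A I.adicTopology 0 :=
        (@isOpen_iff_mem_nhds A I.adicTopology _).1 hJ 0 J.zero_mem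
      obtain ⟨n, -, hn⟩ := I.hasBasis_nhds_zero_adic.mem_iff.1 hJ0
      rw [Ideal.map_id]
      exact Lin28.isOpen_mono (Lin28.closure_mono_ideal fun x hx => hn hx) (hI.2 n)
  tfae_have 2 → 1 := by
    rintro ⟨A', _, _, _, φ, ⟨I, hI⟩, hφ⟩
    exact Lin28.isWeaklyPreadic_of_weakAdic (Lin28.weakAdic_map hφ (I := I)
      ⟨Lin28.isIdealOfDefinition_of_isAdic hI, fun n =>
        Lin28.isOpen_mono (Lin28.le_closure _) ((isAdic_iff.1 hI).1 n)⟩)
  tfae_finish

end Groth.Agent.S10159
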