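import Groth.Statements.S10160
import Groth.Agent.Lin28.Ideals
-- import your own Groth.Agent.* helpers here

set_option autoImplicit false
universe u
open LinTop

namespace Groth.Agent.S10160

/-- A weakly adic topological ring is admissible and has a countable fundamental system of open ideals. -/
theorem result
    (A : Type u) [CommRing A] [UniformSpace A] [IsUniformAddGroup A] [IsTopologicalRing A] (hA : LinTop.IsWeaklyAdic A) :
    LinTop.IsAdmissible A ∧ (nhds (0 : A)).IsCountablyGenerated := by
  obtain ⟨h, ht, hc⟩ := hA
  exact ⟨⟨Lin28.isPreadmissible_of_isWeaklyPreadic h, ht, hc⟩,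
    Lin28.isCountablyGenerated_of_isWeaklyPreadic h⟩

end Groth.Agent.S10160
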