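import Groth.Statements.S10164
import Groth.Agent.Lin28.Ideals
import Groth.Agent.S10163
-- import your own Groth.Agent.* helpers here

set_option autoImplicit false
universe u
open LinTop

namespace Groth.Agent.S10164

/-- Let A be weakly adic and I an ideal of definition of A with I/I₂ finitely generated, where I₂
denotes the closure of I^2 (here: I maps onto a finitely generated ideal of A/I₂). Then A is adic,
and some finitely generated ideal of A is an ideal of definition. -/
theorem result
    (A : Type u) [CommRing A] [UniformSpace A] [IsUniformAddGroup A] [IsTopologicalRing A] (hA : LinTop.IsWeaklyAdic A)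
    (I : Ideal A) (hI : LinTop.IsIdealOfDefinition A I)
    (hfg : (I.map (Ideal.Quotient.mk ((I ^ 2).closure))).FG) :
    LinTop.IsAdicRing A ∧ ∃ J : Ideal A, LinTop.IsIdealOfDefinition A J ∧ J.FG := by
  obtain ⟨hw, ht, hc⟩ := hA
  have := hw.1
  have hI' := Lin28.weakAdic_of_isIdealOfDefinition hw hI
  obtain ⟨s, hs⟩ := hfg
  have hlift : ∀ y ∈ s, ∃ x ∈ I, Ideal.Quotient.mk ((I ^ 2).closure) x = y := fun y hy =>
    (Ideal.mem_map_iff_of_surjective _ Ideal.Quotient.mk_surjective).1
      (hs ▸ Ideal.subset_span hy)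
  choose g hgI hg using hlift
  classical
  let t : Finset A := s.attach.image fun y => g y.1 y.2
  let J : Ideal A := Ideal.span (t : Set A)
  have hJI : J ≤ I := by
    refine Ideal.span_le.2 fun x hx => ?_
    obtain ⟨y, -, rfl⟩ := Finset.mem_image.1 hx
    exact hgI y.1 y.2
  have hstep : I ≤ J ⊔ (I ^ 2).closure := by
    intro x hx
    have h1 : Ideal.Quotient.mk ((I ^ 2).closure) x ∈
        J.map (Ideal.Quotient.mk ((I ^ 2).closure)) := by
      refine (Ideal.span_le.2 ?_) (hs ▸ Ideal.mem_map_of_mem _ hx : _ ∈ Ideal.span (s : Set _))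
      intro y hy
      rw [← hg y hy]
      exact Ideal.mem_map_of_mem _ (Ideal.subset_span
        (Finset.mem_image.2 ⟨⟨y, hy⟩, Finset.mem_attach _ _, rfl⟩))
    rw [← Ideal.mk_ker (I := (I ^ 2).closure), ← Ideal.comap_map_of_surjective' _
      Ideal.Quotient.mk_surjective]
    exact h1
  have hk : ∀ k, (I ^ (k + 1)).closure ≤ J ⊔ (I ^ (k + 2)).closure := by
    intro k
    refine Lin28.closure_le_of_isClosed ?_
      (Lin28.isClosed_of_isOpen (Lin28.isOpen_mono le_sup_right (hI'.2 _)))
    calc I ^ (k + 1) = I ^ k * I := pow_succ I k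
      _ ≤ I ^ k * (J ⊔ (I ^ 2).closure) := Ideal.mul_mono le_rfl hstep
      _ ≤ J ⊔ (I ^ (k + 2)).closure := by
        rw [Ideal.mul_sup, pow_add I k 2]
        exact sup_le_sup Ideal.mul_le_right
          ((Ideal.mul_mono (Lin28.le_closure _) le_rfl).trans (Lin28.closure_mul_le _ _))
  have hall : ∀ k, I ≤ J ⊔ (I ^ (k + 1)).closure := by
    intro k
    induction k with
    | zero => rw [pow_one]; exact (Lin28.le_closure I).trans le_sup_right
    | succ k ih => exact ih.trans (sup_le le_sup_left (hk k))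
  have hIJ : I ≤ J.closure := by
    intro x hx
    refine Lin28.mem_closure_of_forall_sup fun V hV => ?_
    obtain ⟨n, hn⟩ := Lin28.weakAdic_basis hI (Lin28.mem_nhds_of_isOpen hV)
    exact sup_le_sup_left ((Lin28.closure_mono_ideal
      (Ideal.pow_le_pow_right (Nat.le_succ n))).trans hn) J (hall n hx)
  have hJ : IsAdic J := by
    refine S10163.result A J ⟨t, rfl⟩ (fun n => ?_) fun U hU => ?_
    · have : IsOpen ((J ^ n).closure : Set A) := by
        refine Lin28.isOpen_mono ?_ (hI'.2 n)
        refine (Lin28.closure_mono_ideal ((Ideal.pow_right_mono hIJ n).trans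
          (Lin28.closure_pow_le _ _))).trans ?_
        exact Lin28.closure_le_of_isClosed le_rfl (Lin28.isClosed_closure_ideal _)
      simpa using this
    · obtain ⟨n, hn⟩ := Lin28.weakAdic_basis hI hU
      exact ⟨n, fun x hx => hn (Lin28.closure_mono_ideal (Ideal.pow_right_mono hJI n) hx)⟩
  exact ⟨⟨⟨J, hJ⟩, ht, hc⟩, J, Lin28.isIdealOfDefinition_of_isAdic hJ, ⟨t, rfl⟩⟩

end Groth.Agent.S10164
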