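import Groth.Statements.S10167
import Groth.Agent.Lin28.Ideals
-- import your own Groth.Agent.* helpers here

set_option autoImplicit false
universe u v
open LinTop

namespace Groth.Agent.S10167

/-- Let φ : A → B be a taut homomorphism of linearly topologized rings such that for every open ideal I
of A the induced ring map A/I → B/J, where J denotes the closure of φ(I)B, is faithfully flat. If B
has a weak ideal of definition (B is weakly pre-admissible), then so does A. -/
theorem result
    (A : Type u) [CommRing A] [TopologicalSpace A] [IsTopologicalRing A] [IsLinearTopology A A]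
    (B : Type v) [CommRing B] [TopologicalSpace B] [IsTopologicalRing B] [IsLinearTopology B B]
    (φ : A →+* B) (hφ : LinTop.IsTautFFlat φ) (hB : LinTop.IsWeaklyPreadmissible B) :
    LinTop.IsWeaklyPreadmissible A := by
  obtain ⟨-, W, hWo, hW⟩ := hB
  refine ⟨inferInstance, W.comap φ, hWo.preimage hφ.1.1, fun f hf => ?_⟩
  rw [IsTopologicallyNilpotent, (Lin28.tautFFlat_isInducing hφ).tendsto_nhds_iff, map_zero]
  simpa [IsTopologicallyNilpotent, Function.comp_def, map_pow] using hW _ hf

end Groth.Agent.S10167
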