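import Groth.Statements.S10168
import Groth.Agent.Lin28.Ideals
-- import your own Groth.Agent.* helpers here

set_option autoImplicit false
universe u v
open LinTop

namespace Groth.Agent.S10168

/-- Let φ : A → B be a taut homomorphism of linearly topologized rings such that for every open ideal I
of A, with J the closure of φ(I)B, the induced map A/I → B/J is faithfully flat. If B is
pre-admissible, then A is pre-admissible. -/
theorem result
    (A : Type u) [CommRing A] [TopologicalSpace A] [IsTopologicalRing A] [IsLinearTopology A A]
    (B : Type v) [CommRing B] [TopologicalSpace B] [IsTopologicalRing B] [IsLinearTopology B B]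
    (φ : A →+* B) (hφ : LinTop.IsTautFFlat φ) (hB : LinTop.IsPreadmissible B) :
    LinTop.IsPreadmissible A := by
  obtain ⟨-, W, hWo, hW⟩ := hB
  refine ⟨inferInstance, W.comap φ, hWo.preimage hφ.1.1, fun U hU => ?_⟩
  rw [(Lin28.tautFFlat_isInducing hφ).nhds_eq_comap, map_zero, Filter.mem_comap] at hU
  obtain ⟨t, ht, htU⟩ := hU
  obtain ⟨n, hn0, hn⟩ := hW t ht
  exact ⟨n, hn0, fun x hx => htU (hn (Ideal.le_comap_pow φ n hx))⟩

end Groth.Agent.S10168
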