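import Groth.Statements.S10169
import Groth.Agent.Lin28.Ideals
-- import your own Groth.Agent.* helpers here

set_option autoImplicit false
universe u v
open LinTop

namespace Groth.Agent.S10169

/-- Let φ : A → B be a taut homomorphism of linearly topologized rings such that for every open ideal I
of A the induced ring map A/I → B/J, where J denotes the closure of φ(I)B, is faithfully flat. Weak
pre-adicness then descends: when B is weakly pre-adic, A is as well. -/
theorem result
    (A : Type u) [CommRing A] [TopologicalSpace A] [IsTopologicalRing A] [IsLinearTopology A A]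
    (B : Type v) [CommRing B] [TopologicalSpace B] [IsTopologicalRing B] [IsLinearTopology B B]
    (φ : A →+* B) (hφ : LinTop.IsTautFFlat φ) (hB : LinTop.IsWeaklyPreadic B) :
    LinTop.IsWeaklyPreadic A := by
  obtain ⟨W, hW⟩ := Lin28.exists_weakAdic hB
  refine Lin28.isWeaklyPreadic_of_weakAdic (I := W.comap φ) ⟨⟨hW.1.1.preimage hφ.1.1, fun U hU => ?_⟩,
    Lin28.tautFFlat_weakAdic hφ hW _ (Lin28.taut_isOpen hφ.1 (hW.1.1.preimage hφ.1.1))⟩
  rw [(Lin28.tautFFlat_isInducing hφ).nhds_eq_comap, map_zero, Filter.mem_comap] at hU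
  obtain ⟨t, ht, htU⟩ := hU
  obtain ⟨n, hn0, hn⟩ := hW.1.2 t ht
  exact ⟨n, hn0, fun x hx => htU (hn (Ideal.le_comap_pow φ n hx))⟩

end Groth.Agent.S10169
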