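import Groth.Statements.S10170
import Groth.Agent.Lin28.Ideals
import Groth.Agent.S10163
-- import your own Groth.Agent.* helpers here

set_option autoImplicit false
universe u v
open LinTop

namespace Groth.Agent.S10170

/-- Let φ : A → B be a taut homomorphism of linearly topologized rings such that for every open ideal I
of A the induced ring map A/I → B/J, where J denotes the closure of φ(I)B, is faithfully flat.
Suppose A is Hausdorff and complete, and B is adic with some finitely generated ideal of definition.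
Then A is adic, and some finitely generated ideal of A is an ideal of definition. -/
theorem result
    (A : Type u) [CommRing A] [UniformSpace A] [IsUniformAddGroup A] [IsTopologicalRing A] [IsLinearTopology A A] [T2Space A] [CompleteSpace A]
    (B : Type v) [CommRing B] [UniformSpace B] [IsUniformAddGroup B] [IsTopologicalRing B] (hB : LinTop.IsAdicRing B)
    (hJ : ∃ J : Ideal B, LinTop.IsIdealOfDefinition B J ∧ J.FG)
    (φ : A →+* B) (hφ : LinTop.IsTautFFlat φ) :
    LinTop.IsAdicRing A ∧ ∃ I : Ideal A, LinTop.IsIdealOfDefinition A I ∧ I.FG := by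
  obtain ⟨hBp, hBt, hBc⟩ := hB
  have := Lin28.isPreadic_linearTopology hBp
  obtain ⟨J, hJd, hJfg⟩ := hJ
  have hJo := Lin28.isOpen_pow_of_isPreadic hBp hJd.1
  have hJw : Lin28.WeakAdic J := ⟨hJd, fun n => Lin28.isOpen_mono (Lin28.le_closure _) (hJo n)⟩
  set I : Ideal A := J.comap φ with hIdef
  have hIo : IsOpen (I : Set A) := hJd.1.preimage hφ.1.1
  obtain ⟨m, -, hm⟩ := hJd.2 _ (Lin28.mem_nhds_of_isOpen (Lin28.taut_isOpen hφ.1 hIo))
  have hle : J ^ m ≤ I.map φ ⊔ J ^ (m + 1) := fun x hx =>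
    Lin28.closure_le_sup _ (hJo (m + 1)) (hm hx)
  obtain ⟨s, hs⟩ := Submodule.FG.pow hJfg m
  classical
  have hfin : ∀ y ∈ s, ∃ t : Finset A, ((t : Set A) ⊆ I) ∧
      y ∈ (Ideal.span (t : Set A)).map φ ⊔ J ^ (m + 1) := by
    intro y hy
    obtain ⟨a, ha, b, hb, rfl⟩ := Submodule.mem_sup.1 (hle (le_of_eq hs (Submodule.subset_span hy)))
    rw [Ideal.map] at ha
    obtain ⟨u, hu, hau⟩ := Submodule.mem_span_finite_of_mem_span ha
    obtain ⟨t, htI, htu⟩ := Finset.subset_set_image_iff.1 hu
    refine ⟨t, htI, Submodule.add_mem_sup ?_ hb⟩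
    rw [Ideal.map_span, ← Finset.coe_image, htu]
    exact hau
  choose t htI hts using hfin
  let T : Finset A := s.attach.biUnion fun y => t y.1 y.2
  let L : Ideal A := Ideal.span (T : Set A)
  have hLI : L ≤ I := Ideal.span_le.2 fun x hx => by
    obtain ⟨y, -, hxy⟩ := Finset.mem_biUnion.1 hx
    exact htI y.1 y.2 hxy
  have hstep : J ^ m ≤ L.map φ ⊔ J ^ (m + 1) := by
    rw [← hs]
    refine Ideal.span_le.2 fun y hy => ?_
    refine (?_ : _ ≤ L.map φ ⊔ J ^ (m + 1)) (hts y hy)
    refine sup_le (le_trans (Ideal.map_mono (Ideal.span_mono ?_)) le_sup_left) le_sup_right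
    intro x hx
    exact Finset.mem_biUnion.2 ⟨⟨y, hy⟩, Finset.mem_attach _ _, hx⟩
  have hk : ∀ k, J ^ m ≤ L.map φ ⊔ J ^ (m + k) := by
    intro k
    induction k with
    | zero => exact le_sup_right
    | succ k ih =>
      refine ih.trans (sup_le le_sup_left ?_)
      calc J ^ (m + k) = J ^ k * J ^ m := by rw [← pow_add, add_comm]
        _ ≤ J ^ k * (L.map φ ⊔ J ^ (m + 1)) := Ideal.mul_mono le_rfl hstep
        _ ≤ _ := by
          rw [Ideal.mul_sup]
          refine sup_le_sup Ideal.mul_le_right (le_of_eq ?_)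
          rw [← pow_add]; congr 1; omega
  have hLo : IsOpen ((L.map φ).closure : Set B) := by
    refine Lin28.isOpen_mono ?_ (hJo m)
    intro x hx
    refine Lin28.mem_closure_of_forall_sup fun V hV => ?_
    obtain ⟨n, -, hn⟩ := hJd.2 _ (Lin28.mem_nhds_of_isOpen hV)
    exact sup_le_sup_left ((Ideal.pow_le_pow_right (Nat.le_add_left n m)).trans
      fun y hy => hn hy) _ (hk n hx)
  have hL : IsAdic L := by
    refine S10163.result A L ⟨T, rfl⟩
      (fun n => by simpa using Lin28.tautFFlat_weakAdic hφ hJw L hLo n) fun U hU => ?_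
    obtain ⟨K, hK, hKU⟩ := Lin28.exists_open_ideal hU
    obtain ⟨n, -, hn⟩ := hJd.2 _ (Lin28.mem_nhds_of_isOpen (Lin28.taut_isOpen hφ.1 hK))
    refine ⟨n, fun x hx => hKU (closure_minimal (fun y hy => ?_) (Lin28.isClosed_of_isOpen hK) hx)⟩
    show y ∈ K
    rw [← Lin28.tautFFlat_comap hφ hK]
    exact hn (Ideal.le_comap_pow φ n (Ideal.pow_right_mono hLI n hy))
  exact ⟨⟨⟨L, hL⟩, inferInstance, inferInstance⟩, L,
    Lin28.isIdealOfDefinition_of_isAdic hL, ⟨T, rfl⟩⟩

end Groth.Agent.S10170
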