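import Groth.Statements.S10171
import Groth.Agent.Lin28.Compl
-- import your own Groth.Agent.* helpers here

set_option autoImplicit false
universe u v
open LinTop

namespace Groth.Agent.S10171

/-- Let M be a linearly topologized module over a ring R and N a submodule. Write M^ for the separated
completion of M and (M/N)^ for that of M/N (quotient topology, additive uniform structure). Then the
kernel of the induced map M^ → (M/N)^ is the closure of the image of N in M^; that closure is the
completion of N, so this is the exactness of 0 → N^ → M^ → (M/N)^ at M^. -/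
theorem result
    {R : Type u} [Ring R] {M : Type v} [AddCommGroup M] [Module R M] [UniformSpace M]
    [IsUniformAddGroup M] [IsLinearTopology R M] (N : Submodule R M) :
    (@UniformSpace.Completion.map M _ (M ⧸ N.toAddSubgroup)
        (IsTopologicalAddGroup.rightUniformSpace (M ⧸ N.toAddSubgroup))
        (QuotientAddGroup.mk' N.toAddSubgroup)) ⁻¹' {0} =
      closure (Set.range (fun n : N => ((n : M) : UniformSpace.Completion M))) := by
  letI := IsTopologicalAddGroup.rightUniformSpace (M ⧸ N.toAddSubgroup)
  haveI : IsUniformAddGroup (M ⧸ N.toAddSubgroup) := isUniformAddGroup_of_addCommGroup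
  let q := QuotientAddGroup.mk' N.toAddSubgroup
  have hq : Continuous q := QuotientAddGroup.continuous_mk
  let Q := q.completion hq
  show Q ⁻¹' {0} = _
  apply Set.Subset.antisymm
  · intro x hx
    rw [mem_closure_iff_nhds]
    intro t ht
    have h0 : (fun z => x + z) ⁻¹' t ∈ nhds (0 : UniformSpace.Completion M) := by
      apply (continuous_const_add x).continuousAt.preimage_mem_nhds
      simpa using ht
    have hsub : Filter.Tendsto
        (fun p : UniformSpace.Completion M × UniformSpace.Completion M => p.1 - p.2)
        (nhds (0, 0)) (nhds 0) := by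
      have h : Continuous fun p : UniformSpace.Completion M × UniformSpace.Completion M =>
          p.1 - p.2 := by fun_prop
      simpa using h.tendsto ((0 : UniformSpace.Completion M), (0 : UniformSpace.Completion M))
    have h00 := hsub h0
    rw [Filter.mem_map, nhds_prod_eq, Filter.mem_prod_same_iff] at h00
    obtain ⟨W, hW, hWW⟩ := h00
    have hU : ((↑) : M → UniformSpace.Completion M) ⁻¹' W ∈ nhds (0 : M) := by
      apply (UniformSpace.Completion.continuous_coe M).continuousAt.preimage_mem_nhds
      rwa [UniformSpace.Completion.coe_zero]
    have hqU : q '' (((↑) : M → UniformSpace.Completion M) ⁻¹' W) ∈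
        nhds (0 : M ⧸ N.toAddSubgroup) := by
      have := (QuotientAddGroup.isOpenMap_coe (N := N.toAddSubgroup)).image_mem_nhds hU
      simpa [q] using this
    rw [(UniformSpace.Completion.isDenseInducing_coe).nhds_eq_comap,
      UniformSpace.Completion.coe_zero, Filter.mem_comap] at hqU
    obtain ⟨V, hV, hVq⟩ := hqU
    have hm : {y | y - x ∈ Q ⁻¹' V ∩ W} ∈ nhds x := by
      have hQ : Q ⁻¹' V ∩ W ∈ nhds (0 : UniformSpace.Completion M) := by
        refine Filter.inter_mem (?_) hW
        apply (q.continuous_completion hq).continuousAt.preimage_mem_nhds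
        rwa [map_zero]
      apply (continuous_id.sub continuous_const).continuousAt.preimage_mem_nhds
      simpa using hQ
    obtain ⟨m, hm1, hm2⟩ : ∃ m : M, Q ((m : UniformSpace.Completion M) - x) ∈ V ∧
        (m : UniformSpace.Completion M) - x ∈ W := by
      obtain ⟨y, hy, m, rfl⟩ := mem_closure_iff_nhds.1
        (UniformSpace.Completion.denseRange_coe x) _ hm
      exact ⟨m, hy.1, hy.2⟩
    have hx0 : Q x = 0 := hx
    rw [map_sub, hx0, sub_zero, AddMonoidHom.completion_coe] at hm1
    obtain ⟨u, hu, hum⟩ := hVq hm1
    have hn : m - u ∈ N := by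
      have : q (m - u) = 0 := by rw [map_sub, hum, sub_self]
      exact (QuotientAddGroup.eq_zero_iff _).1 this
    refine ⟨((m - u : M) : UniformSpace.Completion M), ?_, ⟨⟨m - u, hn⟩, rfl⟩⟩
    have := hWW (Set.mk_mem_prod hm2 hu)
    rw [UniformSpace.Completion.coe_sub]
    have he : x + ((m : UniformSpace.Completion M) - x - (u : UniformSpace.Completion M)) =
        (m : UniformSpace.Completion M) - u := by abel
    rw [← he]
    exact this
  · refine closure_minimal ?_ (isClosed_singleton.preimage (q.continuous_completion hq))
    rintro _ ⟨n, rfl⟩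
    show Q _ = 0
    rw [AddMonoidHom.completion_coe]
    have : q (n : M) = 0 := (QuotientAddGroup.eq_zero_iff _).2 n.2
    rw [this, UniformSpace.Completion.coe_zero]

end Groth.Agent.S10171
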