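import Groth.Statements.S10172
import Groth.Agent.Lin28.Compl
-- import your own Groth.Agent.* helpers here

set_option autoImplicit false
universe u v
open LinTop

namespace Groth.Agent.S10172

/-- Let M be a linearly topologized module over a ring R having a countable fundamental system of
neighbourhoods of 0, and N a submodule. With M^ and (M/N)^ the separated completions of M and of M/N
(quotient topology, additive uniform structure), the induced map M^ → (M/N)^ is surjective and open
(so, its kernel being the completion of N, the sequence 0 → N^ → M^ → (M/N)^ → 0 is exact). -/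
theorem result
    {R : Type u} [Ring R] {M : Type v} [AddCommGroup M] [Module R M] [UniformSpace M]
    [IsUniformAddGroup M] [IsLinearTopology R M] (hc : (nhds (0 : M)).IsCountablyGenerated)
    (N : Submodule R M) :
    Function.Surjective (@UniformSpace.Completion.map M _ (M ⧸ N.toAddSubgroup)
        (IsTopologicalAddGroup.rightUniformSpace (M ⧸ N.toAddSubgroup))
        (QuotientAddGroup.mk' N.toAddSubgroup)) ∧
      IsOpenMap (@UniformSpace.Completion.map M _ (M ⧸ N.toAddSubgroup)
        (IsTopologicalAddGroup.rightUniformSpace (M ⧸ N.toAddSubgroup))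
        (QuotientAddGroup.mk' N.toAddSubgroup)) := by
  letI := IsTopologicalAddGroup.rightUniformSpace (M ⧸ N.toAddSubgroup)
  haveI : IsUniformAddGroup (M ⧸ N.toAddSubgroup) := isUniformAddGroup_of_addCommGroup
  let q := QuotientAddGroup.mk' N.toAddSubgroup
  have hq : Continuous q := QuotientAddGroup.continuous_mk
  let Q := q.completion hq
  show Function.Surjective Q ∧ IsOpenMap Q
  obtain ⟨x, hx⟩ := (nhds (0 : M)).exists_antitone_basis
  choose V hVo hVx using fun n =>
    (IsLinearTopology.hasBasis_open_submodule R (M := M)).mem_iff.1 (hx.1.mem_of_mem (i := n) trivial)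
  let W : ℕ → Submodule R M := fun n => (Finset.range (n + 1)).inf V
  have hWo : ∀ n, (SetLike.coe (W n)) ∈ nhds (0 : M) := by
    intro n
    show (SetLike.coe ((Finset.range (n + 1)).inf V)) ∈ nhds (0 : M)
    induction (Finset.range (n + 1)) using Finset.induction with
    | empty => simp
    | insert a s _ ih =>
      rw [Finset.inf_insert, Submodule.coe_inf]
      exact Filter.inter_mem ((hVo a).mem_nhds (zero_mem _)) ih
  have hWb : ∀ t ∈ nhds (0 : M), ∃ n, (SetLike.coe (W n)) ⊆ t := by
    intro t ht
    obtain ⟨n, -, hn⟩ := hx.1.mem_iff.1 ht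
    exact ⟨n, fun y hy => hn (hVx n ((Finset.inf_le (Finset.self_mem_range_succ n) :
      W n ≤ V n) hy))⟩
  have hW : Antitone W := fun a b h => Finset.inf_mono (Finset.range_mono (by omega))
  let U : ℕ → AddSubgroup (UniformSpace.Completion M) := fun n =>
    ((W n).toAddSubgroup.map UniformSpace.Completion.toCompl).topologicalClosure
  have hUcoe : ∀ n, (U n : Set (UniformSpace.Completion M)) =
      closure (((↑) : M → UniformSpace.Completion M) '' (SetLike.coe (W n))) := fun n => rfl
  refine Lin28.surjective_openMap_of_closure_image Q (q.continuous_completion hq) ?_ U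
    (fun a b h => by
      intro y hy
      rw [← SetLike.mem_coe, hUcoe] at hy ⊢
      exact closure_mono (Set.image_mono (hW h)) hy)
    (fun n => by rw [hUcoe]; exact isClosed_closure)
    (fun s hs => by
      obtain ⟨n, hn⟩ := Lin28.completion_basis (fun n => SetLike.coe (W n)) hWb hs
      exact ⟨n, by rw [hUcoe]; exact hn⟩) ?_ ?_
  · have : DenseRange (Q ∘ ((↑) : M → UniformSpace.Completion M)) := by
      have e : Q ∘ ((↑) : M → UniformSpace.Completion M) =
          ((↑) : (M ⧸ N.toAddSubgroup) → _) ∘ q := funext fun m => q.completion_coe hq m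
      rw [e]
      exact UniformSpace.Completion.denseRange_coe.comp
        (QuotientAddGroup.mk'_surjective _).denseRange (UniformSpace.Completion.continuous_coe _)
    exact this.mono (Set.range_comp_subset_range _ _)
  · intro n
    have h1 : q '' SetLike.coe (W n) ∈ nhds (0 : M ⧸ N.toAddSubgroup) := by
      have := (QuotientAddGroup.isOpenMap_coe (N := N.toAddSubgroup)).image_mem_nhds (hWo n)
      simpa [q] using this
    refine Filter.mem_of_superset (Lin28.completion_closure_mem_nhds h1) (closure_mono ?_)
    rintro _ ⟨_, ⟨m, hm, rfl⟩, rfl⟩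
    exact ⟨(m : UniformSpace.Completion M), subset_closure ⟨m, hm, rfl⟩, q.completion_coe hq m⟩
  · intro s hs
    obtain ⟨n, hn⟩ := Lin28.completion_basis (fun n => q '' SetLike.coe (W n)) (fun t ht => by
      have : q ⁻¹' t ∈ nhds (0 : M) := by
        apply hq.continuousAt.preimage_mem_nhds
        rwa [map_zero]
      obtain ⟨n, hn⟩ := hWb _ this
      exact ⟨n, Set.image_subset_iff.2 hn⟩) hs
    refine ⟨n, (closure_minimal ?_ isClosed_closure).trans hn⟩
    rintro _ ⟨y, hy, rfl⟩
    refine map_mem_closure (q.continuous_completion hq) hy ?_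
    rintro _ ⟨m, hm, rfl⟩
    exact ⟨q m, ⟨m, hm, rfl⟩, (q.completion_coe hq m).symm⟩

end Groth.Agent.S10172
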