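import Groth.Statements.S10173
import Groth.Agent.Lin28.Compl
-- import your own Groth.Agent.* helpers here

set_option autoImplicit false
universe u v
open LinTop

namespace Groth.Agent.S10173

/-- Let R be a commutative ring, I a finitely generated ideal and M a topological R-module (additive
uniform structure, each scalar acting uniformly continuously) having an open submodule M' whose
topology is the I-adic one, i.e. the I^n M' are open in M and form a fundamental system of
neighbourhoods of 0. Then the separated completion M^ has an open submodule whose topology is I-adic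
in the same sense, and for every n ≥ 1 the map M → M^/I^n M^ is surjective with kernel I^n M,
identifying M^/I^n M^ with M/I^n M. -/
theorem result
    {R : Type u} [CommRing R] (I : Ideal R) (hI : I.FG)
    {M : Type v} [AddCommGroup M] [Module R M] [UniformSpace M] [IsUniformAddGroup M]
    [UniformContinuousConstSMul R M]
    (M' : Submodule R M) (hopen : ∀ n : ℕ, IsOpen ((I ^ n • M' : Submodule R M) : Set M))
    (hbasis : ∀ U ∈ nhds (0 : M), ∃ n : ℕ, ((I ^ n • M' : Submodule R M) : Set M) ⊆ U) :
    (∃ M'' : Submodule R (UniformSpace.Completion M),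
        (∀ n : ℕ, IsOpen ((I ^ n • M'' : Submodule R (UniformSpace.Completion M)) :
          Set (UniformSpace.Completion M))) ∧
        ∀ U ∈ nhds (0 : UniformSpace.Completion M), ∃ n : ℕ,
          ((I ^ n • M'' : Submodule R (UniformSpace.Completion M)) :
            Set (UniformSpace.Completion M)) ⊆ U) ∧
      ∀ n : ℕ, 0 < n →
        Function.Surjective ((QuotientAddGroup.mk' (I ^ n • ⊤ : Submodule R (UniformSpace.Completion M)).toAddSubgroup).comp
          (UniformSpace.Completion.toCompl : M →+ UniformSpace.Completion M)) ∧
        ((QuotientAddGroup.mk' (I ^ n • ⊤ : Submodule R (UniformSpace.Completion M)).toAddSubgroup).comp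
          (UniformSpace.Completion.toCompl : M →+ UniformSpace.Completion M)).ker = (I ^ n • ⊤ : Submodule R M).toAddSubgroup := by
  let L : M →ₗ[R] UniformSpace.Completion M :=
    { toFun := ((↑) : M → UniformSpace.Completion M)
      map_add' := UniformSpace.Completion.coe_add
      map_smul' := UniformSpace.Completion.coe_smul }
  let F : ℕ → Submodule R (UniformSpace.Completion M) := fun k =>
    ((I ^ k • M').map L).topologicalClosure
  have hFcoe : ∀ k, (SetLike.coe (F k)) =
      closure (((↑) : M → UniformSpace.Completion M) '' (SetLike.coe (I ^ k • M'))) := fun k => rfl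
  have hF : Antitone F := fun a b h => Submodule.topologicalClosure_mono
    (Submodule.map_mono (Submodule.smul_mono_left (Ideal.pow_le_pow_right h)))
  have hFnhd : ∀ k, SetLike.coe (F k) ∈ nhds (0 : UniformSpace.Completion M) := fun k => by
    rw [hFcoe]
    exact Lin28.completion_closure_mem_nhds ((hopen k).mem_nhds (zero_mem _))
  have hFb : ∀ s ∈ nhds (0 : UniformSpace.Completion M), ∃ k, SetLike.coe (F k) ⊆ s := fun s hs =>
    Lin28.completion_basis (fun k => SetLike.coe (I ^ k • M')) hbasis hs
  have hle : ∀ n k, I ^ n • F k ≤ F (n + k) := by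
    intro n k
    refine Submodule.smul_le.2 fun a ha x hx => ?_
    refine map_mem_closure (continuous_const_smul a) hx ?_
    rintro _ ⟨y, hy, rfl⟩
    refine ⟨a • y, ?_, L.map_smul a y⟩
    rw [pow_add, ← smul_eq_mul, Submodule.smul_assoc]
    exact Submodule.smul_mem_smul ha hy
  have hge : ∀ n k, SetLike.coe (F (n + k)) ⊆
      closure (SetLike.coe (I ^ n • F k)) := by
    intro n k
    refine closure_mono ?_
    show SetLike.coe ((I ^ (n + k) • M').map L) ⊆ SetLike.coe (I ^ n • F k)
    refine SetLike.coe_subset_coe.2 ?_
    rw [pow_add, ← smul_eq_mul, Submodule.smul_assoc, Submodule.map_smul'']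
    exact Submodule.smul_mono le_rfl (Submodule.le_topologicalClosure _)
  have heq : ∀ n, I ^ n • F 0 = F n := by
    intro n
    have h := Lin28.closure_smul_eq (I ^ n) (Submodule.FG.pow hI n) F hF
      (fun k => Submodule.isClosed_topologicalClosure _) hFb
      (fun k => Filter.mem_of_superset (hFnhd (n + k)) (hge n k))
      (fun s hs => by
        obtain ⟨m, hm⟩ := hFb s hs
        refine ⟨m, (closure_minimal (SetLike.coe_subset_coe.2 ((hle n m).trans
          (hF (Nat.le_add_left m n)))) (Submodule.isClosed_topologicalClosure _)).trans hm⟩) 0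
    refine le_antisymm (hle n 0) ?_
    intro x hx
    rw [← SetLike.mem_coe, ← h]
    exact hge n 0 hx
  refine ⟨⟨F 0, fun n => ?_, fun U hU => ?_⟩, fun n _ => ⟨?_, ?_⟩⟩
  · rw [heq]
    exact AddSubgroup.isOpen_of_mem_nhds (F n).toAddSubgroup (hFnhd n)
  · obtain ⟨n, hn⟩ := hFb U hU
    exact ⟨n, by rw [heq]; exact hn⟩
  · intro y
    obtain ⟨x, rfl⟩ := QuotientAddGroup.mk'_surjective _ y
    have h1 : {z | x - z ∈ F n} ∈ nhds x := by
      apply (continuous_const.sub continuous_id).continuousAt.preimage_mem_nhds
      simpa using hFnhd n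
    obtain ⟨z, hz, m, rfl⟩ := mem_closure_iff_nhds.1
      (UniformSpace.Completion.denseRange_coe x) _ h1
    refine ⟨m, QuotientAddGroup.eq_iff_sub_mem.2 ?_⟩
    have hz' : x - (m : UniformSpace.Completion M) ∈
        (I ^ n • ⊤ : Submodule R (UniformSpace.Completion M)) :=
      Submodule.smul_mono le_rfl le_top ((heq n).ge hz)
    have := neg_mem hz'
    rwa [neg_sub] at this
  · ext m
    rw [AddMonoidHom.mem_ker, AddMonoidHom.comp_apply, QuotientAddGroup.mk'_apply,
      QuotientAddGroup.eq_zero_iff]
    show L m ∈ (I ^ n • ⊤ : Submodule R (UniformSpace.Completion M)) ↔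
      m ∈ (I ^ n • ⊤ : Submodule R M)
    constructor
    · intro hm
      have htop : (⊤ : Submodule R (UniformSpace.Completion M)) ≤ LinearMap.range L ⊔ F 0 := by
        intro x _
        have h1 : {z | x - z ∈ F 0} ∈ nhds x := by
          apply (continuous_const.sub continuous_id).continuousAt.preimage_mem_nhds
          simpa using hFnhd 0
        obtain ⟨z, hz, m, rfl⟩ := mem_closure_iff_nhds.1
          (UniformSpace.Completion.denseRange_coe x) _ h1
        exact Submodule.mem_sup.2 ⟨L m, ⟨m, rfl⟩, _, hz, add_sub_cancel _ _⟩
      have hsup := Submodule.smul_mono (le_refl (I ^ n)) htop hm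
      rw [Submodule.smul_sup, heq, ← Submodule.map_top, ← Submodule.map_smul'',
        Submodule.mem_sup] at hsup
      obtain ⟨_, ⟨m₁, hm₁, rfl⟩, j, hj, hjm⟩ := hsup
      have hj' : m - m₁ ∈ closure (SetLike.coe (I ^ n • M')) := by
        rw [(UniformSpace.Completion.isDenseInducing_coe).isInducing.closure_eq_preimage_closure_image,
          Set.mem_preimage, ← hFcoe]
        show L (m - m₁) ∈ F n
        rw [map_sub, ← hjm, add_sub_cancel_left]
        exact hj
      have hcl : IsClosed (SetLike.coe (I ^ n • M')) :=
        AddSubgroup.isClosed_of_isOpen (I ^ n • M').toAddSubgroup (hopen n)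
      rw [hcl.closure_eq] at hj'
      have := Submodule.add_mem _ (Submodule.smul_mono le_rfl le_top hj') hm₁
      rwa [sub_add_cancel] at this
    · intro hm
      have h1 : L m ∈ (I ^ n • ⊤ : Submodule R M).map L := Submodule.mem_map_of_mem hm
      rw [Submodule.map_smul''] at h1
      exact Submodule.smul_mono le_rfl le_top h1

end Groth.Agent.S10173
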