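import Groth.Statements.S10183
import Groth.Agent.SpPts86.Charts
import Groth.Agent.SpFP87.EtLocInst
import Mathlib.AlgebraicGeometry.Morphisms.QuasiFinite

set_option autoImplicit false
universe u
open CategoryTheory CategoryTheory.Limits AlgebraicGeometry Topology TopologicalSpace
open AlgSp

namespace Groth.Agent.S10183

/-- Let X be an algebraic space over a scheme S, a : h_U ⟶ X a representable etale map from a scheme U
over S, and R a scheme over S with h_R = h_U ×_X h_U whose two projections s, t : R ⟶ U are
quasi-compact (for instance if a is quasi-compact). Then the maps |U| → |X| and |R| → |X| have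
finite fibres. -/
theorem result {S : Scheme.{u}} (X : AlgSp.Space S) {R U : Over S}
    (a : (AlgSp.yon S).obj U ⟶ X.obj) (ha : AlgSp.RepWith @Etale a) (s t : R ⟶ U)
    (hR : IsPullback ((AlgSp.yon S).map t) ((AlgSp.yon S).map s) a a)
    [QuasiCompact s.left] [QuasiCompact t.left] (x : AlgSp.Points X.obj) :
    (AlgSp.Points.ofPt a ⁻¹' {x}).Finite ∧
      (AlgSp.Points.ofPt ((AlgSp.yon S).map t ≫ a) ⁻¹' {x}).Finite := by
  have hts : Etale t.left := Groth.Agent.SpFP87.etale_snd_of_isPullback hR.flip ha
  have key : (AlgSp.Points.ofPt a ⁻¹' {x}).Finite := by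
    rcases (AlgSp.Points.ofPt a ⁻¹' {x}).eq_empty_or_nonempty with he | ⟨u₀, hu₀⟩
    · rw [he]; exact Set.finite_empty
    · have : LocallyQuasiFinite t.left := Groth.Agent.SpFP87.etale_locallyQuasiFinite _ hts
      refine ((t.left.finite_preimage_singleton u₀).image s.left).subset fun u hu => ?_
      obtain ⟨r, hr1, hr2⟩ := Groth.Agent.SpPts86.exists_pt_common_chart hR u₀ u
        ((Set.mem_singleton_iff.1 hu₀).trans (Set.mem_singleton_iff.1 hu).symm)
      exact ⟨r, hr1, hr2⟩
  refine ⟨key, ?_⟩
  have : LocallyQuasiFinite t.left := Groth.Agent.SpFP87.etale_locallyQuasiFinite _ hts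
  refine Set.Finite.subset (key.preimage' fun u _ => t.left.finite_preimage_singleton u) fun r hr => ?_
  have hr' : AlgSp.Points.ofPt ((AlgSp.yon S).map t ≫ a) r = x := hr
  rw [Groth.Agent.SpPts86.ofPt_comp] at hr'
  exact hr'

end Groth.Agent.S10183
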