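import Groth.Statements.S10188
import Groth.Agent.SpPts86.Charts

set_option autoImplicit false
universe u
open CategoryTheory CategoryTheory.Limits AlgebraicGeometry Topology TopologicalSpace
open AlgSp

namespace Groth.Agent.S10188

/-- Let P be a property of schemes that is local in the etale topology (for every scheme V and every
etale covering family of V, V has P if and only if all members have P), and let X be an algebraic
space over a scheme S. Then X has P etale locally (some surjective etale chart from a scheme with P)
if and only if every scheme admitting a representable etale map to X has P. -/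
theorem result {S : Scheme.{u}} (P : Scheme.{u} → Prop)
    (hP : ∀ (V : Scheme.{u}) (𝒰 : Scheme.Cover.{u} (Scheme.precoverage @Etale) V), P V ↔ ∀ i, P (𝒰.X i))
    (X : AlgSp.Space S) :
    AlgSp.EtaleLocally P X.obj ↔
      ∀ (U : Over S) (a : (AlgSp.yon S).obj U ⟶ X.obj), AlgSp.RepWith @Etale a → P U.left := by
  constructor
  · rintro ⟨U₀, p, hp, hps, hP0⟩ U a ha
    obtain ⟨W, q, r, hq, hr, sq, -, hrs, -⟩ :=
      Groth.Agent.SpPts86.exists_common_chart X.property hp ha
    have hcov : P W.left := by
      let 𝒰 : Scheme.Cover.{u} (Scheme.precoverage @Etale) U₀.left :=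
        Scheme.Cover.mkOfCovers (ULift.{u} Bool) (fun b => bif b.down then W.left else U₀.left)
          (fun b => match b with
            | ⟨true⟩ => q.left
            | ⟨false⟩ => 𝟙 U₀.left)
          (fun x => ⟨⟨false⟩, x, rfl⟩)
          (fun b => match b with
            | ⟨true⟩ => hq
            | ⟨false⟩ => (inferInstance : Etale (𝟙 U₀.left)))
      exact (hP _ 𝒰).1 hP0 ⟨true⟩
    let 𝒱 : Scheme.Cover.{u} (Scheme.precoverage @Etale) U.left :=
      Scheme.Cover.mkOfCovers PUnit.{u+1} (fun _ => W.left) (fun _ => r.left)
        (fun x => ⟨⟨⟩, (hrs hps).surj x⟩) (fun _ => hr)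
    exact (hP _ 𝒱).2 fun _ => hcov
  · intro h
    obtain ⟨U, p, hp, hps⟩ := X.property.atlas
    exact ⟨U, p, hp, hps, h U p hp⟩

end Groth.Agent.S10188
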