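import Groth.Statements.S10191
import Groth.Agent.SpPts86.Subspace

set_option autoImplicit false
universe u
open CategoryTheory CategoryTheory.Limits AlgebraicGeometry Topology TopologicalSpace
open AlgSp

namespace Groth.Agent.S10191

/-- Let i : Z ⟶ X be an immersion of algebraic spaces over a scheme S (a morphism representable by
immersions of schemes). Then |i| : |Z| → |X| is a homeomorphism onto its image, and this image is a
locally closed subset of |X|. -/
theorem result {S : Scheme.{u}} {Z X : AlgSp.Space S} (i : Z ⟶ X)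
    (hi : AlgSp.RepWith @IsImmersion i.hom) :
    IsEmbedding (AlgSp.Points.map i.hom) ∧ IsLocallyClosed (Set.range (AlgSp.Points.map i.hom)) := by
  have := SpPts86.mono_of_repWith_le SpPts86.isImmersion_le_monomorphisms hi
  obtain ⟨U, p, he, hs⟩ := X.property.atlas
  obtain ⟨V, snd, fst, sq⟩ := hi.1 p
  have hsnd : IsImmersion snd.left := hi.2 p fst snd sq
  have hq := SpPts86.isOpenQuotientMap_ofPt he hs
  refine ⟨⟨⟨?_⟩, SpPts86.injective_map_of_mono _⟩, ?_⟩
  · refine le_antisymm (AlgSp.Points.continuous_map i.hom).le_induced fun O hO => ?_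
    obtain ⟨O', hO', hO''⟩ := (Scheme.Hom.isEmbedding snd.left).isInducing.isOpen_iff.1
      (hO.preimage (AlgSp.Points.continuous_ofPt fst))
    refine isOpen_induced_iff.2 ⟨AlgSp.Points.ofPt p '' O', hq.isOpenMap _ hO', ?_⟩
    ext z
    constructor
    · rintro ⟨w, hw, e⟩
      obtain ⟨v, rfl, rfl⟩ := SpPts86.exists_pt_of_isPullback sq z w e.symm
      have : v ∈ AlgSp.Points.ofPt fst ⁻¹' O := hO'' ▸ hw
      exact this
    · intro hz
      obtain ⟨w, e⟩ := hq.surjective (AlgSp.Points.map i.hom z)
      obtain ⟨v, rfl, rfl⟩ := SpPts86.exists_pt_of_isPullback sq z w e.symm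
      have : v ∈ snd.left ⁻¹' O' := hO''.symm ▸ hz
      exact ⟨_, this, e⟩
  · have h := SpPts86.preimage_ofPt_range_map sq
    have hl : IsLocallyClosed (Set.range snd.left) := snd.left.isLocallyClosed_range
    rw [← h, isLocallyClosed_iff_isOpen_coborder, coborder_preimage hq.isOpenMap hq.continuous,
      hq.isQuotientMap.isOpen_preimage] at hl
    exact isLocallyClosed_iff_isOpen_coborder.2 hl

end Groth.Agent.S10191
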