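import Groth.Statements.S10193
import Groth.Agent.SpPts86.Quot
import Groth.Agent.SpPts86.Subspace

set_option autoImplicit false
universe u
open CategoryTheory CategoryTheory.Limits AlgebraicGeometry Topology TopologicalSpace
open AlgSp

namespace Groth.Agent.S10193

/-- Let X, Y be algebraic spaces over a scheme S, i : Z ⟶ X a closed subspace (a morphism representable
by closed immersions) and assume Y is reduced. Then a morphism f : Y ⟶ X factors through Z if and
only if |f|(|Y|) is contained in |Z|. -/
theorem result {S : Scheme.{u}} {X Y Z : AlgSp.Space S}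
    (i : Z ⟶ X) (hi : AlgSp.RepWith @IsClosedImmersion i.hom) (hY : AlgSp.IsReducedSp Y.obj) (f : Y ⟶ X) :
    (∃ g : Y ⟶ Z, g ≫ i = f) ↔
      Set.range (AlgSp.Points.map f.hom) ⊆ Set.range (AlgSp.Points.map i.hom) := by
  constructor
  · rintro ⟨g, rfl⟩ - ⟨y, rfl⟩
    exact ⟨AlgSp.Points.map g.hom y, (AlgSp.Points.map_comp g.hom i.hom y).symm⟩
  intro h
  have : Mono i.hom := Groth.Agent.SpPts86.mono_of_repWith_le
    Groth.Agent.SpPts86.isClosedImmersion_le_monomorphisms hi
  obtain ⟨U, p, hp, hps, hU⟩ := hY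
  obtain ⟨V, snd, fst, sq⟩ := hi.rep (p ≫ f.hom)
  have : IsClosedImmersion snd.left := hi.property _ fst snd sq
  have hsurj : Surjective snd.left := ⟨fun t => by
    have hmem : AlgSp.Points.ofPt (p ≫ f.hom) t ∈ Set.range (AlgSp.Points.map i.hom) :=
      h ⟨_, AlgSp.Points.map_ofPt p f.hom t⟩
    rwa [← Set.mem_preimage, Groth.Agent.SpPts86.preimage_ofPt_range_map sq] at hmem⟩
  have : IsIso snd.left := isIso_of_isClosedImmersion_of_surjective snd.left
  have : IsIso ((Over.forget S).map snd) := inferInstanceAs (IsIso snd.left)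
  have : IsIso snd := isIso_of_reflects_iso snd (Over.forget S)
  have he : ((AlgSp.yon S).map (inv snd) ≫ fst) ≫ i.hom = p ≫ f.hom := by
    rw [Category.assoc, sq.w, ← Category.assoc, ← Functor.map_comp, IsIso.inv_hom_id,
      CategoryTheory.Functor.map_id, Category.id_comp]
  have hl := Groth.Agent.SpFP87.locLift_of_atlas hp hps
  obtain ⟨d, hd⟩ := Groth.Agent.SpPts86.exists_desc hl ((AlgSp.yon S).map (inv snd) ≫ fst)
    (fun W l l' e => by
      rw [← cancel_mono i.hom]
      simp only [Category.assoc] at he ⊢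
      rw [he, ← Category.assoc, ← Category.assoc, e])
  have := hl.epi
  refine ⟨ObjectProperty.homMk d, ObjectProperty.hom_ext _ ?_⟩
  change d ≫ i.hom = f.hom
  rw [← cancel_epi p, ← Category.assoc, hd, he]

end Groth.Agent.S10193
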