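import Groth.Statements.S10196
import Groth.Agent.SpPts86.Subspace
import Groth.Agent.SpPts86.EqvRel

set_option autoImplicit false
universe u
open CategoryTheory CategoryTheory.Limits AlgebraicGeometry Topology TopologicalSpace
open AlgSp

namespace Groth.Agent.S10196

/-- Let X be an algebraic space over a scheme S, a : h_U ⟶ X a representable etale map from a scheme U
over S, and X' ⟶ X the open subspace whose image in |X| is the (open) image of U. Then a factors
through a representable etale and surjective a' : h_U ⟶ X', and if R is a scheme over S with h_R =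
h_U ×_X h_U then also h_R = h_U ×_{X'} h_U and (U, R, a') is a presentation of X'. -/
theorem result {S : Scheme.{u}} {X X' : AlgSp.Space S} {U : Over S}
    (a : (AlgSp.yon S).obj U ⟶ X.obj) (ha : AlgSp.RepWith @Etale a)
    (j : X' ⟶ X) (hj : AlgSp.RepWith @IsOpenImmersion j.hom)
    (himage : Set.range (AlgSp.Points.map j.hom) = Set.range (AlgSp.Points.ofPt a)) :
    ∃ a' : (AlgSp.yon S).obj U ⟶ X'.obj, a' ≫ j.hom = a ∧ AlgSp.RepWith @Etale a' ∧ AlgSp.RepWith @Surjective a' ∧
      ∀ (R : Over S) (s t : R ⟶ U), IsPullback ((AlgSp.yon S).map t) ((AlgSp.yon S).map s) a a →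
        AlgSp.IsPresentation s t a' := by
  have := SpPts86.mono_of_repWith_le SpPts86.isOpenImmersion_le_monomorphisms hj
  obtain ⟨a', ha'⟩ := SpPts86.exists_factor_of_range_subset hj a
    (by rw [SpPts86.range_map_yon, himage])
  subst ha'
  have he : AlgSp.RepWith @Etale a' := SpPts86.repWith_of_comp_mono j.hom ha
  have hs : AlgSp.RepWith @Surjective a' := by
    refine SpPts86.repWith_surjective_of_surjective_ofPt he.1 fun x => ?_
    obtain ⟨t, ht⟩ := himage.le ⟨x, rfl⟩
    refine ⟨t, SpPts86.injective_map_of_mono j.hom ?_⟩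
    rw [AlgSp.Points.map_ofPt, ht]
  refine ⟨a', rfl, he, hs, fun R s t sq => ?_⟩
  exact ⟨SpPts86.isEtaleEqvRel_of_isPullback he (SpPts86.isPullback_of_mono_comp j.hom sq), he, hs,
    SpPts86.isPullback_of_mono_comp j.hom sq⟩

end Groth.Agent.S10196
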