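import Groth.Statements.S10197
import Groth.Agent.SpPts86.ZarGlue
import Groth.Agent.SpPts86.Subspace
import Groth.Agent.SpPts86.LqfSep
import Groth.Agent.SpPts86.Compact

set_option autoImplicit false
universe u
open CategoryTheory CategoryTheory.Limits AlgebraicGeometry Topology TopologicalSpace
open AlgSp

namespace Groth.Agent.S10197

/-- An algebraic space X over a scheme S has a largest open subspace which is a scheme: there is an open
subspace X' ⟶ X whose underlying sheaf is representable by a scheme over S, through which every open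
subspace of X with representable underlying sheaf factors. -/
theorem result {S : Scheme.{u}} (X : AlgSp.Space S) :
    ∃ (X' : AlgSp.Space S) (j : X' ⟶ X), AlgSp.RepWith @IsOpenImmersion j.hom ∧ X'.obj.obj.IsRepresentable ∧
      ∀ (X'' : AlgSp.Space S) (j'' : X'' ⟶ X), AlgSp.RepWith @IsOpenImmersion j''.hom →
        X''.obj.obj.IsRepresentable → ∃ k : X'' ⟶ X', k ≫ j = j'' := by
  classical
  let W : Set (AlgSp.Points X.obj) :=
    {x | ∃ (V : Over S) (j : (yon S).obj V ⟶ X.obj), RepWith @IsOpenImmersion j ∧ x ∈ Set.range (Points.map j)}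
  have hW : IsOpen W := by
    rw [isOpen_iff_forall_mem_open]
    rintro x ⟨V, j, hj, hx⟩
    exact ⟨_, fun y hy => ⟨V, j, hj, hy⟩, Groth.Agent.SpPts86.isOpen_range_map hj, hx⟩
  have hι := Groth.Agent.SpPts86.repWith_restrictι (F := X.obj) hW
  obtain ⟨U, p, hp, hps⟩ := X.2.atlas
  let ι := {u : ↥U.left // Points.ofPt p u ∈ W}
  choose V j hj hx using fun i : ι => i.2
  have hk : ∀ i, ∃ k : (yon S).obj (V i) ⟶ Groth.Agent.SpPts86.restrictSheaf X.obj W,
      k ≫ Groth.Agent.SpPts86.restrictι X.obj W = j i := fun i =>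
    Groth.Agent.SpPts86.exists_factor_of_range_subset hι (j i) (by
      rw [Groth.Agent.SpPts86.range_map_restrictι hW]
      exact fun y hy => ⟨V i, j i, hj i, hy⟩)
  choose k hk using hk
  have hkO : ∀ i, RepWith @IsOpenImmersion (k i) := fun i =>
    (AlgSp.repWith_isStableUnderBaseChange _).of_isPullback
      (IsPullback.of_isLimit (PullbackCone.IsLimit.mk
        (show 𝟙 _ ≫ j i = k i ≫ Groth.Agent.SpPts86.restrictι X.obj W by rw [Category.id_comp, hk])
        (fun c => c.fst) (fun c => by simp) (fun c => by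
          rw [← cancel_mono (Groth.Agent.SpPts86.restrictι X.obj W), Category.assoc, hk]
          exact c.condition) (fun c m hm _ => by simpa using hm))) (hj i)
  obtain ⟨Z, ⟨e⟩⟩ := Groth.Agent.SpPts86.exists_iso_of_open_cover V k hkO (fun y => by
    have hy : Points.map (Groth.Agent.SpPts86.restrictι X.obj W) y ∈ W :=
      (Groth.Agent.SpPts86.range_map_restrictι hW).le ⟨y, rfl⟩
    obtain ⟨u, hu⟩ := Groth.Agent.SpPts86.surjective_ofPt hps (Points.map (Groth.Agent.SpPts86.restrictι X.obj W) y)
    obtain ⟨v, hv⟩ := hx ⟨u, by rw [hu]; exact hy⟩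
    obtain ⟨w, rfl⟩ := (Points.schemeHomeo _).surjective v
    refine ⟨⟨u, by rw [hu]; exact hy⟩, w,
      Groth.Agent.SpPts86.injective_map_of_mono (Groth.Agent.SpPts86.restrictι X.obj W) ?_⟩
    rw [Points.map_ofPt, hk, Points.ofPt_eq_map_ofScheme]
    exact hv.trans hu)
  refine ⟨⟨_, Groth.Agent.SpPts86.isAlgSpace_restrictSheaf X.2 hW⟩,
    ObjectProperty.homMk (Groth.Agent.SpPts86.restrictι X.obj W), hι,
    Groth.Agent.SpPts86.isRepresentable_of_iso e, fun X'' j'' hj'' hrep => ?_⟩
  obtain ⟨V', ⟨r⟩⟩ := hrep.has_representation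
  have hj' : RepWith @IsOpenImmersion ((AlgSp.isoOfRepresentableBy r).hom ≫ j''.hom) := by
    rwa [MorphismProperty.cancel_left_of_respectsIso (RepWith @IsOpenImmersion)]
  obtain ⟨g, hg⟩ := Groth.Agent.SpPts86.exists_factor_of_range_subset hι j''.hom (by
    rw [Groth.Agent.SpPts86.range_map_restrictι hW]
    rintro - ⟨x, rfl⟩
    refine ⟨V', _, hj', Points.map (AlgSp.isoOfRepresentableBy r).inv x, ?_⟩
    rw [← Points.map_comp, Iso.inv_hom_id_assoc])
  exact ⟨ObjectProperty.homMk g, ObjectProperty.hom_ext _ hg⟩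

end Groth.Agent.S10197
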