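import Groth.Statements.S10214
import Groth.Agent.SpPts86.AffineCharts

set_option autoImplicit false
universe u
open CategoryTheory CategoryTheory.Limits AlgebraicGeometry Topology TopologicalSpace
open AlgSp

namespace Groth.Agent.S10214

/-- Every algebraic space X over a scheme S has a Zariski covering by open subspaces X_i such that each
X_i has a surjective etale map from an affine scheme; moreover the affine schemes may be taken to
map into affine opens of S. -/
theorem result {S : Scheme.{u}} (X : AlgSp.Space S) :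
    ∃ (ι : Type u) (Xi : ι → AlgSp.Space S) (j : ∀ i, Xi i ⟶ X),
      AlgSp.IsZarCover (fun i => (Xi i).obj) (fun i => (j i).hom) ∧
        ∀ i, ∃ (U : Over S) (p : (AlgSp.yon S).obj U ⟶ (Xi i).obj), IsAffine U.left ∧
          AlgSp.RepWith @Etale p ∧ AlgSp.RepWith @Surjective p ∧
          ∃ W : S.Opens, IsAffineOpen W ∧ ∀ v : ↥U.left, U.hom v ∈ W := by
  obtain ⟨U, p, hp, hps⟩ := X.property.atlas
  let ι := Groth.Agent.SpPts86.GoodOpens U
  have hop : ∀ V : ι, IsOpen (AlgSp.Points.ofPt p '' (V.1.1 : Set ↥U.left)) := fun V =>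
    Groth.Agent.SpPts86.isOpenMap_ofPt hp _ V.1.1.isOpen
  refine ⟨ι, fun V => ⟨_, Groth.Agent.SpPts86.isAlgSpace_restrictSheaf X.property (hop V)⟩,
    fun V => ObjectProperty.homMk (Groth.Agent.SpPts86.restrictι X.obj _),
    ⟨fun V => Groth.Agent.SpPts86.repWith_restrictι (hop V), fun x => ?_⟩, fun V => ?_⟩
  · obtain ⟨t, rfl⟩ := Groth.Agent.SpPts86.surjective_ofPt hps x
    obtain ⟨V, hV⟩ := Groth.Agent.SpPts86.exists_goodOpens U t
    refine ⟨V, ?_⟩
    refine Set.mem_of_eq_of_mem rfl ((Groth.Agent.SpPts86.range_map_restrictι (hop V)).ge ?_)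
    exact ⟨t, hV, rfl⟩
  · obtain ⟨q, hq, hqs⟩ := Groth.Agent.SpPts86.exists_restrict_chart X.property hp V.1.1
    obtain ⟨W, hW, hVW⟩ := V.2
    exact ⟨_, q, V.1.2, hq, hqs, W, hW, fun v => hVW _ v.2⟩

end Groth.Agent.S10214
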