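import Groth.Statements.S10198
import Groth.Agent.SpFP87.Basic
import Groth.Agent.S10214
import Groth.Agent.S10182
import Groth.Agent.SpPts86.DiagCrit
import Groth.Agent.SpPts86.Subspace
-- import your own Groth.Agent.* helpers here

set_option autoImplicit false
universe u
open CategoryTheory CategoryTheory.Limits AlgebraicGeometry Topology TopologicalSpace
open AlgSp

namespace Groth.Agent.S10198

/-- (1) if and only if (3): for an algebraic space X over a scheme S, X is Zariski locally
quasi-separated over S (it has a Zariski covering by open subspaces whose diagonals over S are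
quasi-compact) if and only if X has a Zariski covering by open subspaces each of which admits a
quasi-compact, etale, surjective map from an affine scheme. Since the second condition does not
mention S, being Zariski locally quasi-separated does not depend on the base. -/
theorem result {S : Scheme.{u}} (X : AlgSp.Space S) :
    (∃ (ι : Type u) (Xi : ι → AlgSp.Space S) (j : ∀ i, Xi i ⟶ X),
        AlgSp.IsZarCover (fun i => (Xi i).obj) (fun i => (j i).hom) ∧ ∀ i, AlgSp.IsQuasiSeparatedSp (Xi i).obj) ↔
      (∃ (ι : Type u) (Xi : ι → AlgSp.Space S) (j : ∀ i, Xi i ⟶ X),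
        AlgSp.IsZarCover (fun i => (Xi i).obj) (fun i => (j i).hom) ∧
          ∀ i, ∃ (U : Over S) (p : (AlgSp.yon S).obj U ⟶ (Xi i).obj), IsAffine U.left ∧
            AlgSp.RepWith @QuasiCompact p ∧ AlgSp.RepWith @Etale p ∧ AlgSp.RepWith @Surjective p) := by
  classical
  constructor
  · rintro ⟨ι, Xi, j, ⟨hj, hjs⟩, hqs⟩
    choose κ Xik k hk U p hU hp hps W hW hUW using fun i => Groth.Agent.S10214.result (Xi i)
    refine ⟨Σ i, κ i, fun r => Xik r.1 r.2, fun r => k r.1 r.2 ≫ j r.1, ⟨fun r => ?_, fun x => ?_⟩, fun r => ?_⟩
    · show RepWith @IsOpenImmersion ((k r.1 r.2).hom ≫ (j r.1).hom)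
      exact MorphismProperty.comp_mem _ _ _ ((hk r.1).1 r.2) (hj r.1)
    · obtain ⟨i, y, rfl⟩ := hjs x
      obtain ⟨l, z, rfl⟩ := (hk i).2 y
      exact ⟨⟨i, l⟩, z, Points.map_comp ((k i l).hom) ((j i).hom) z⟩
    · obtain ⟨i, l⟩ := r
      refine ⟨U i l, p i l, hU i l, ?_, hp i l, hps i l⟩
      have hrepr : Functor.relativelyRepresentable (yon S) (p i l) := (hp i l).1
      refine ⟨hrepr, fun V T g fst snd sq => ?_⟩
      haveI : Mono (k i l).hom := Groth.Agent.SpPts86.mono_of_repWith_le
        Groth.Agent.SpPts86.isOpenImmersion_le_monomorphisms ((hk i).1 l)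
      obtain ⟨fst', hfst'⟩ := (yon S).map_surjective fst
      subst hfst'
      have sq' : IsPullback ((yon S).map fst') ((yon S).map snd) (p i l ≫ (k i l).hom) (g ≫ (k i l).hom) :=
        IsPullback.of_isLimit (PullbackCone.isLimitOfCompMono (p i l) g (k i l).hom _ sq.isLimit)
      have hqc : QuasiCompact (Groth.Agent.SpPts86.schLift fst' snd) :=
        Groth.Agent.SpPts86.schLift_of_repWith_diag @QuasiCompact (hqs i) sq'
      have hsurj : Surjective snd.left := (hps i l).2 g _ _ sq
      have hTW : Set.range V.hom ⊆ Set.range (W i l).ι := by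
        rintro _ ⟨t, rfl⟩
        obtain ⟨v, hv⟩ := hsurj.surj t
        rw [Scheme.Opens.range_ι, ← hv]
        have h1 := congrArg (fun m : T.left ⟶ S => m v) (Over.w snd)
        have h2 := congrArg (fun m : T.left ⟶ S => m v) (Over.w fst')
        simp only [Scheme.Hom.comp_apply] at h1 h2
        rw [h1, ← h2]
        exact hUW i l _
      have : QuasiCompact (pullback.snd (U i l).hom V.hom) := by
        haveI : IsAffine (U i l).left := hU i l
        haveI : IsAffine (W i l : Scheme.{u}) := hW i l
        have hu : Set.range (U i l).hom ⊆ Set.range (W i l).ι := by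
          rintro _ ⟨w, rfl⟩; rw [Scheme.Opens.range_ι]; exact hUW i l w
        let u := IsOpenImmersion.lift (W i l).ι (U i l).hom hu
        let v := IsOpenImmersion.lift (W i l).ι V.hom hTW
        haveI : QuasiCompact u := inferInstance
        have hb : IsPullback (pullback.fst u v) (pullback.snd u v) (u ≫ (W i l).ι) (v ≫ (W i l).ι) :=
          IsPullback.of_isLimit (PullbackCone.isLimitOfCompMono u v (W i l).ι _ (pullbackIsPullback u v))
        simp only [u, v, IsOpenImmersion.lift_fac] at hb
        rw [← hb.isoPullback_inv_snd]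
        infer_instance
      have e : snd.left = Groth.Agent.SpPts86.schLift fst' snd ≫ pullback.snd (U i l).hom V.hom :=
        (Groth.Agent.SpPts86.schLift_snd fst' snd).symm
      show QuasiCompact snd.left
      rw [e]
      infer_instance
  · rintro ⟨ι, Xi, j, hj, h⟩
    refine ⟨ι, Xi, j, hj, fun i => ?_⟩
    obtain ⟨U, p, hU, hqc, hp, hps⟩ := h i
    obtain ⟨R, t, s, sq⟩ := Groth.Agent.SpFP87.exists_isPullback_yon (Xi i).property.diag p p
    haveI := hU
    haveI : QuasiCompact t.left := hqc.2 p _ _ sq.flip
    exact Groth.Agent.S10182.result (Xi i) p hp hps s t sq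

end Groth.Agent.S10198
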