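import Groth.Statements.S10201
import Groth.Agent.SpFP87.QsSp
import Groth.Agent.SpFP87.Sober
import Groth.Agent.SpFP87.DecentPts
import Groth.Agent.SpPts86.Compact
import Groth.Agent.SpPts86.Charts
import Groth.Agent.SpFP87.Basic
import Groth.Agent.S10185
-- import your own Groth.Agent.* helpers here

set_option autoImplicit false
universe u
open CategoryTheory CategoryTheory.Limits AlgebraicGeometry Topology TopologicalSpace
open AlgSp

namespace Groth.Agent.S10201

/-- Let S be a quasi-separated scheme and X a quasi-compact algebraic space over S whose diagonal over S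
is quasi-compact. Then |X| is a spectral space. (The published statement assumes X quasi-separated
in the absolute sense; over a quasi-separated base that is the same as quasi-separated over S, while
for S quasi-compact and not quasi-separated the space h_S is quasi-compact with quasi-compact
diagonal over S and |h_S| = |S| is not spectral.) -/
theorem result {S : Scheme.{u}} [QuasiSeparatedSpace ↥S]
    (X : AlgSp.Space S) (hqc : AlgSp.IsQuasiCompactSp X.obj) (hqs : AlgSp.IsQuasiSeparatedSp X.obj) :
    SpectralSpace (AlgSp.Points X.obj) := by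
  classical
  have hd : AlgSp.IsDecent X.obj := Groth.Agent.SpFP87.isDecent_of_qsSp X.property hqs
  haveI := Groth.Agent.SpFP87.t0Space_points X.property hd
  haveI := Groth.Agent.SpFP87.quasiSober_points X.property hd
  haveI := Groth.Agent.SpPts86.compactSpace_points_of_isQuasiCompactSp hqc
  haveI : PrespectralSpace (Points X.obj) := by
    refine .of_isTopologicalBasis (B := {V : Set (Points X.obj) | IsOpen V ∧ IsCompact V})
      (TopologicalSpace.isTopologicalBasis_of_isOpen_of_nhds (fun V hV => hV.1) fun x W hx hW => ?_) (fun V hV => hV.2)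
    obtain ⟨V, h1, h2, h3, h4⟩ := Groth.Agent.SpPts86.exists_isOpen_isCompact_nhd X.property hW hx
    exact ⟨V, ⟨h1, h2⟩, h3, h4⟩
  obtain ⟨U, p, hU, hp, hps⟩ := Groth.Agent.SpPts86.exists_affine_chart_of_compactSpace X.property
  haveI := hU
  obtain ⟨R, s, t, sq⟩ := Groth.Agent.SpFP87.exists_isPullback_yon X.property.diag p p
  haveI : CompactSpace ↥R.left := Groth.Agent.S10185.result X hqs U U R p p s t sq
  haveI : QuasiCompact s.left :=
    HasAffineProperty.iff_of_isAffine (P := @QuasiCompact) |>.mpr inferInstance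
  have key : ∀ K : Set (Points X.obj), IsOpen K → IsCompact K → IsCompact (Points.ofPt p ⁻¹' K) := by
    intro K hK hKc
    let O : {A : U.left.affineOpens // (A.1 : Set ↥U.left) ⊆ Points.ofPt p ⁻¹' K} → Set (Points X.obj) :=
      fun A => Points.ofPt p '' (A.1.1 : Set ↥U.left)
    have hcov : K ⊆ ⋃ A, O A := by
      intro x hx
      obtain ⟨u, rfl⟩ := Groth.Agent.SpPts86.surjective_ofPt hps x
      obtain ⟨A, hA, huA, hAK⟩ := exists_isAffineOpen_mem_and_subset
        (U := ⟨_, hK.preimage (Points.continuous_ofPt p)⟩) (x := u) hx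
      exact Set.mem_iUnion.2 ⟨⟨⟨A, hA⟩, hAK⟩, u, huA, rfl⟩
    obtain ⟨T, hT⟩ := hKc.elim_finite_subcover O
      (fun A => Groth.Agent.SpPts86.isOpenMap_ofPt hp _ A.1.1.isOpen) hcov
    let A : Set ↥U.left := ⋃ V ∈ T, (V.1.1 : Set ↥U.left)
    have hAc : IsCompact A := T.isCompact_biUnion fun V _ => V.1.2.isCompact
    have hAo : IsOpen A := isOpen_biUnion fun V _ => V.1.1.isOpen
    have hsc : IsCompact (s.left ⁻¹' A) := s.left.isCompact_preimage (U := ⟨A, hAo⟩) hAc
    convert hsc.image t.left.continuous using 1
    ext u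
    constructor
    · intro hu
      obtain ⟨V, hV, a, ha, hau⟩ := Set.mem_iUnion₂.1 (hT hu)
      obtain ⟨r, hr1, hr2⟩ := Groth.Agent.SpPts86.exists_pt_common_chart sq a u hau
      exact ⟨r, show s.left r ∈ A from hr1 ▸ Set.mem_biUnion hV ha, hr2⟩
    · rintro ⟨r, hr, rfl⟩
      obtain ⟨V, -, hV⟩ := Set.mem_iUnion₂.1 hr
      show Points.ofPt p (t.left r) ∈ K
      rw [← Groth.Agent.SpPts86.ofPt_comp t p r, ← sq.w, Groth.Agent.SpPts86.ofPt_comp]
      exact V.2 hV
  haveI : QuasiSeparatedSpace (Points X.obj) := by
    refine ⟨fun K L hK hKc hL hLc => ?_⟩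
    have : IsCompact (Points.ofPt p ⁻¹' K ∩ Points.ofPt p ⁻¹' L) :=
      QuasiSeparatedSpace.inter_isCompact _ _ (hK.preimage (Points.continuous_ofPt p)) (key K hK hKc)
        (hL.preimage (Points.continuous_ofPt p)) (key L hL hLc)
    rw [← Set.preimage_inter] at this
    have h2 := this.image (Points.continuous_ofPt p)
    rwa [Set.image_preimage_eq _ (Groth.Agent.SpPts86.surjective_ofPt hps)] at h2
  exact {}

end Groth.Agent.S10201
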