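import Groth.Statements.S10213
import Groth.Agent.SpPts86.AffineCharts

set_option autoImplicit false
universe u
open CategoryTheory CategoryTheory.Limits AlgebraicGeometry Topology TopologicalSpace
open AlgSp

namespace Groth.Agent.S10213

/-- For an algebraic space X over a scheme S there is a surjective etale map h_U ⟶ X where U is a
disjoint union of affine schemes, each of which maps into an affine open of S. -/
theorem result {S : Scheme.{u}} (X : AlgSp.Space S) :
    ∃ (ι : Type u) (V : ι → Scheme.{u}) (_ : ∀ i, IsAffine (V i)) (q : (∐ V) ⟶ S)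
      (p : (AlgSp.yon S).obj (Over.mk q) ⟶ X.obj),
      AlgSp.RepWith @Etale p ∧ AlgSp.RepWith @Surjective p ∧
        ∀ i, ∃ W : S.Opens, IsAffineOpen W ∧ ∀ v : ↥(V i), (Sigma.ι V i ≫ q) v ∈ W := by
  obtain ⟨U, p, hp, hps⟩ := X.property.atlas
  let ι := Groth.Agent.SpPts86.GoodOpens U
  let O : ι → U.left.Opens := fun V => V.1.1
  refine ⟨ι, fun V => (O V).toScheme, fun V => V.1.2,
    (Groth.Agent.SpPts86.sigmaOpens U O).hom, _,
    (Groth.Agent.SpPts86.sigmaOpens_chart hp O fun x => ?_).1,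
    (Groth.Agent.SpPts86.sigmaOpens_chart hp O fun x => ?_).2, fun V => ?_⟩
  pick_goal 3
  · obtain ⟨W, hW, hVW⟩ := V.2
    refine ⟨W, hW, fun v => ?_⟩
    have : Sigma.ι (fun V => (O V).toScheme) V ≫ (Groth.Agent.SpPts86.sigmaOpens U O).hom =
        (O V).ι ≫ U.hom := Sigma.ι_desc _ _
    rw [this]
    exact hVW _ v.2
  all_goals
    obtain ⟨t, rfl⟩ := Groth.Agent.SpPts86.surjective_ofPt hps x
    obtain ⟨V, hV⟩ := Groth.Agent.SpPts86.exists_goodOpens U t
    exact ⟨V, t, hV, rfl⟩

end Groth.Agent.S10213
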