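import Groth.Statements.S10215
import Groth.Agent.SpPts86.Charts
import Groth.Agent.SpPts86.MonoField

set_option autoImplicit false
universe u
open CategoryTheory CategoryTheory.Limits AlgebraicGeometry Topology TopologicalSpace
open AlgSp

namespace Groth.Agent.S10215

/-- Let X be an algebraic space over a scheme S and p : Spec K ⟶ X, q : Spec L ⟶ X morphisms from
spectra of fields over S which determine the same point of |X|, with p a monomorphism. Then q
factors uniquely through p. -/
theorem result {S : Scheme.{u}} (X : AlgSp.Space S) (p q : AlgSp.FieldPt X.obj)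
    (h : AlgSp.Points.mk p = AlgSp.Points.mk q) [Mono p.toHom] :
    ∃! c : q.pt ⟶ p.pt, (AlgSp.yon S).map c ≫ p.toHom = q.toHom := by
  obtain ⟨W, a, b, sq⟩ := Groth.Agent.SpFP87.exists_isPullback_yon X.property.diag q.toHom p.toHom
  obtain ⟨w, -, -⟩ := Groth.Agent.SpPts86.exists_pt_of_isPullback' sq
    (IsLocalRing.closedPoint q.K : ↥q.pt.left) (IsLocalRing.closedPoint p.K : ↥p.pt.left)
    ((AlgSp.Points.ofPt_toHom q _).trans (h.symm.trans (AlgSp.Points.ofPt_toHom p _).symm))
  have hm : Mono ((AlgSp.yon S).map a) :=
    (MorphismProperty.monomorphisms _).of_isPullback sq.flip (inferInstanceAs (Mono p.toHom))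
  have : Mono a := (AlgSp.yon S).mono_of_mono_map (f := a) hm
  have hal : Mono a.left := Over.mono_left_of_mono a
  have : Mono (a.left : W.left ⟶ Spec (CommRingCat.of q.K)) := hal
  have : Nonempty W.left := ⟨w⟩
  have : IsIso (a.left : W.left ⟶ Spec (CommRingCat.of q.K)) :=
    Groth.Agent.SpPts86.isIso_of_mono_spec_field _
  have : IsIso ((Over.forget S).map a) := this
  have : IsIso a := isIso_of_reflects_iso a (Over.forget S)
  refine ⟨inv a ≫ b, ?_, fun c hc => ?_⟩
  · show (AlgSp.yon S).map (inv a ≫ b) ≫ p.toHom = q.toHom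
    rw [Functor.map_comp, Category.assoc, ← sq.w, ← Category.assoc, ← Functor.map_comp,
      IsIso.inv_hom_id, CategoryTheory.Functor.map_id, Category.id_comp]
  · apply (AlgSp.yon S).map_injective
    rw [← cancel_mono p.toHom, hc, Functor.map_comp, Category.assoc, ← sq.w, ← Category.assoc,
      ← Functor.map_comp, IsIso.inv_hom_id, CategoryTheory.Functor.map_id, Category.id_comp]

end Groth.Agent.S10215
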