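import Groth.Statements.S10220
import Groth.Agent.SpPts86.EtStalk

set_option autoImplicit false
universe u
open CategoryTheory CategoryTheory.Limits AlgebraicGeometry Topology TopologicalSpace
open AlgSp

namespace Groth.Agent.S10220

/-- Let X be an algebraic space over a scheme S and a : F ⟶ G a map of sheaves of sets on the small
etale site of X. Then a is injective (a monomorphism) if and only if the induced map on stalks F_x̄
→ G_x̄ is injective for every geometric point x̄ of X, and a is surjective (an epimorphism of
sheaves) if and only if all these stalk maps are surjective. -/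
theorem result {S : Scheme.{u}} (X : AlgSp.Space S) {F G : AlgSp.EtSh X.obj (Type (u + 1))} (a : F ⟶ G) :
    (Mono a ↔ ∀ p : AlgSp.FieldPt X.obj, p.IsGeometric →
        Function.Injective ((AlgSp.stalkEtFunctor (Type (u + 1)) p).map a)) ∧
    (Epi a ↔ ∀ p : AlgSp.FieldPt X.obj, p.IsGeometric →
        Function.Surjective ((AlgSp.stalkEtFunctor (Type (u + 1)) p).map a)) := by
  refine ⟨⟨fun h p hp => ?_, fun h => ?_⟩, ⟨fun h p hp => ?_, fun h => ?_⟩⟩
  · exact (mono_iff_injective _).1 ((SpPts86.etPoint p X.property hp).sheafFiber.map_mono a)
  · exact Sheaf.mono_of_injective a fun E =>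
      SpPts86.app_injective_of_stalks X.property a (fun p hp => h p hp) E.unop
  · have : Sheaf.IsLocallySurjective a := (Sheaf.isLocallySurjective_iff_epi a).2 h
    exact (SpPts86.etPoint p X.property hp).toPresheafFiber_map_surjective a.hom
  · have : Sheaf.IsLocallySurjective a :=
      SpPts86.isLocallySurjective_of_stalks X.property a.hom (fun p hp => h p hp)
    exact (Sheaf.isLocallySurjective_iff_epi a).1 this

end Groth.Agent.S10220
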