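import Groth.Statements.S10222
import Groth.Agent.SpFP87.Reduced

set_option autoImplicit false
universe u
open CategoryTheory CategoryTheory.Limits AlgebraicGeometry Topology TopologicalSpace
open AlgSp

namespace Groth.Agent.S10222

/-- (1) if and only if (2): an algebraic space X over a scheme S is reduced if and only if at each x ∈
|X| the local ring of X is reduced, the latter meaning that for some scheme U, some representable
etale h_U ⟶ X and some point u of U mapping to x, the local ring of U at u is reduced. (The
assertions about global sections in the published statement are not part of this row.) -/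
theorem result {S : Scheme.{u}} (X : AlgSp.Space S) :
    AlgSp.IsReducedSp X.obj ↔
      ∀ x : AlgSp.Points X.obj, AlgSp.HasAt (fun U u => _root_.IsReduced ↥(U.presheaf.stalk u)) X.obj x := by
  constructor
  · intro h x
    obtain ⟨U, p, hp, hps, hU⟩ := h
    obtain ⟨u, rfl⟩ := SpPts86.surjective_ofPt hps x
    have := hU
    exact ⟨U, p, u, hp, rfl, inferInstance⟩
  · intro h
    obtain ⟨U, p, hp, hps⟩ := X.property.atlas
    refine ⟨U, p, hp, hps, ?_⟩
    suffices ∀ u : U.left, _root_.IsReduced (U.left.presheaf.stalk u) from
      isReduced_of_isReduced_stalk U.left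
    intro u
    obtain ⟨V, b, v, hb, hbv, hv⟩ := h (AlgSp.Points.ofPt p u)
    obtain ⟨W, q, r, sq⟩ := SpFP87.exists_isPullback_yon X.property.diag b p
    obtain ⟨w, hw1, hw2⟩ := SpPts86.exists_pt_of_isPullback' sq v u hbv
    have : Etale q.left := (repWith_yon_map_iff _ _).1
      ((repWith_isStableUnderBaseChange _).of_isPullback sq.flip hp)
    have : Etale r.left := (repWith_yon_map_iff _ _).1
      ((repWith_isStableUnderBaseChange _).of_isPullback sq hb)
    rw [← hw1] at hv
    rw [← hw2]
    exact (Unr55.isReduced_stalk_iff_of_etale r.left w).1 ((Unr55.isReduced_stalk_iff_of_etale q.left w).2 hv)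

end Groth.Agent.S10222
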