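import Groth.Statements.S10223
import Groth.Agent.SpPts86.EtStalkProps

set_option autoImplicit false
universe u
open CategoryTheory CategoryTheory.Limits AlgebraicGeometry Topology TopologicalSpace
open AlgSp

namespace Groth.Agent.S10223

/-- Let X be an algebraic space over a scheme S and x̄ a geometric point of X. Then the etale local ring
of X at x̄ (the stalk at x̄ of the structure sheaf of the small etale site) is a strictly henselian
local ring. (The published statement identifies this ring with the strict henselisation of the local
ring of any etale neighbourhood (U, ū) at the image point of ū; this row records the resulting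
property of the ring, not the identification.) -/
theorem result {S : Scheme.{u}} (X : AlgSp.Space S) (p : AlgSp.FieldPt X.obj)
    (hp : p.IsGeometric) :
    IsLocalRing ↥(AlgSp.OEtStalk p) ∧ EtCoh.IsStrictlyHenselianLocalRing ↥(AlgSp.OEtStalk p) := by
  obtain ⟨h, h'⟩ := SpPts86.isStrictlyHenselian_oEtStalk X.property hp
  exact ⟨h.toIsLocalRing, h, h'⟩

end Groth.Agent.S10223
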