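import Groth.Statements.S10227
import Groth.Agent.SpPts86.EtBranch

set_option autoImplicit false
universe u
open CategoryTheory CategoryTheory.Limits AlgebraicGeometry Topology TopologicalSpace
open AlgSp

namespace Groth.Agent.S10227

/-- (1) ⇔ (4) ⇔ (5): let X be an algebraic space over a scheme S and x ∈ |X|. The following are
equivalent: for every scheme U, every etale h_U ⟶ X and every point u of U over x, the local ring of
U at u has a unique minimal prime; for every such (U, u), the local ring of U at u is geometrically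
unibranch; for every geometric point x̄ over x, the etale local ring of X at x̄ has a unique minimal
prime. -/
theorem result {S : Scheme.{u}} (X : AlgSp.Space S) (x : AlgSp.Points X.obj) :
    ((∀ (U : Over S) (a : (AlgSp.yon S).obj U ⟶ X.obj) (u : ↥U.left),
        AlgSp.RepWith @Etale a → AlgSp.Points.ofPt a u = x → CAlgX.HasUniqueMinimalPrime ↥(U.left.presheaf.stalk u)) ↔
      (∀ (U : Over S) (a : (AlgSp.yon S).obj U ⟶ X.obj) (u : ↥U.left),
        AlgSp.RepWith @Etale a → AlgSp.Points.ofPt a u = x → CAlg2.IsGeomUnibranch ↥(U.left.presheaf.stalk u))) ∧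
    ((∀ (U : Over S) (a : (AlgSp.yon S).obj U ⟶ X.obj) (u : ↥U.left),
        AlgSp.RepWith @Etale a → AlgSp.Points.ofPt a u = x → CAlgX.HasUniqueMinimalPrime ↥(U.left.presheaf.stalk u)) ↔
      ∀ p : AlgSp.FieldPt X.obj, p.IsGeometric → AlgSp.Points.mk p = x →
        CAlgX.HasUniqueMinimalPrime ↥(AlgSp.OEtStalk p)) := by
  have k : ∀ p : AlgSp.FieldPt X.obj, p.IsGeometric → AlgSp.Points.mk p = x →
      ∀ (U : Over S) (a : (AlgSp.yon S).obj U ⟶ X.obj) (u : ↥U.left),
      AlgSp.RepWith @Etale a → AlgSp.Points.ofPt a u = x →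
        (CAlg2.IsGeomUnibranch ↥(U.left.presheaf.stalk u) ↔ (nilradical ↥(AlgSp.OEtStalk p)).IsPrime) ∧
        ((nilradical ↥(AlgSp.OEtStalk p)).IsPrime → (nilradical ↥(U.left.presheaf.stalk u)).IsPrime) :=
    fun p hp hx U a u ha hu => SpPts86.geomUnibranch_iff_oEtStalk X.property hp ha u (hu.trans hx.symm)
  obtain ⟨p₀, hp₀, hx₀⟩ := SpPts86.exists_geometric_point X.property x
  have h13 : (∀ (U : Over S) (a : (AlgSp.yon S).obj U ⟶ X.obj) (u : ↥U.left),
      AlgSp.RepWith @Etale a → AlgSp.Points.ofPt a u = x → CAlgX.HasUniqueMinimalPrime ↥(U.left.presheaf.stalk u)) →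
      ∀ p : AlgSp.FieldPt X.obj, p.IsGeometric → AlgSp.Points.mk p = x → (nilradical ↥(AlgSp.OEtStalk p)).IsPrime :=
    fun h p hp hx => SpPts86.isPrime_nilradical_oEtStalk X.property hp fun U a u ha hu =>
      SpPts86.ump_iff_nilradical.1 (h U a u ha (hu.trans hx))
  refine ⟨⟨fun h U a u ha hu => (k p₀ hp₀ hx₀ U a u ha hu).1.2 (h13 h p₀ hp₀ hx₀), fun h U a u ha hu => ?_⟩,
    ⟨fun h p hp hx => SpPts86.ump_iff_nilradical.2 (h13 h p hp hx), fun h U a u ha hu => ?_⟩⟩
  · exact SpPts86.ump_iff_nilradical.2 ((k p₀ hp₀ hx₀ U a u ha hu).2 ((k p₀ hp₀ hx₀ U a u ha hu).1.1 (h U a u ha hu)))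
  · exact SpPts86.ump_iff_nilradical.2 ((k p₀ hp₀ hx₀ U a u ha hu).2 (SpPts86.ump_iff_nilradical.1 (h p₀ hp₀ hx₀)))

end Groth.Agent.S10227
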