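import Groth.Statements.S10228
import Groth.Agent.SpPts86.Coprod
import Groth.Agent.SpPts86.Compact

set_option autoImplicit false
universe u
open CategoryTheory CategoryTheory.Limits AlgebraicGeometry Topology TopologicalSpace
open AlgSp

namespace Groth.Agent.S10228

/-- An algebraic space that is the coproduct of finitely many quasi-compact algebraic spaces is
quasi-compact: if X_i (i in a finite type) are quasi-compact algebraic spaces over a scheme S and
the underlying sheaf of the algebraic space X is a coproduct of the underlying sheaves of the X_i
(given by a colimit cofan of fppf sheaves whose cone point is the sheaf of X), then X is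
quasi-compact. -/
theorem result {S : Scheme.{u}} {ι : Type u} [Finite ι] (Xi : ι → AlgSp.Space S)
    (X : AlgSp.Space S) (c : Cofan fun i => (Xi i).obj) (hc : IsColimit c) (hX : c.pt = X.obj)
    (hqc : ∀ i, AlgSp.IsQuasiCompactSp (Xi i).obj) :
    AlgSp.IsQuasiCompactSp X.obj := by
  rw [Groth.Agent.SpPts86.isQuasiCompactSp_iff_compactSpace X.2, ← hX]
  have := fun i => (Groth.Agent.SpPts86.compactSpace_points_of_isQuasiCompactSp (hqc i))
  constructor
  have e : (Set.univ : Set (AlgSp.Points c.pt)) = ⋃ i, Set.range (Points.map (c.inj i)) :=
    (Set.eq_univ_of_forall fun x => by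
      obtain ⟨i, hi⟩ := Groth.Agent.SpPts86.exists_mem_range_cofan_inj hc x
      exact Set.mem_iUnion.2 ⟨i, hi⟩).symm
  rw [e]
  exact isCompact_iUnion fun i => @isCompact_range _ _ _ _ (this i) _ (Points.continuous_map _)

end Groth.Agent.S10228
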