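import Groth.Statements.S10230
import Groth.Agent.SpPts86.Basic
import Groth.Agent.SpFP87.LocP

set_option autoImplicit false
universe u
open CategoryTheory CategoryTheory.Limits AlgebraicGeometry Topology TopologicalSpace
open AlgSp

namespace Groth.Agent.S10230

/-- Let X be an algebraic space over a scheme S and F a subsheaf of the final object of the small etale
topos of X, i.e. a sheaf of sets all of whose section sets have at most one element. Then there is a
unique open W of |X| with F = h_W: for every U etale over X, F(U) is nonempty if and only if U ⟶ X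
maps |U| into W. -/
theorem result {S : Scheme.{u}} (X : AlgSp.Space S)
    (F : AlgSp.EtSh X.obj (Type (u + 1))) (hF : ∀ E : AlgSp.EtOver X.obj, Subsingleton (F.obj.obj (Opposite.op E))) :
    ∃! W : Set (AlgSp.Points X.obj), IsOpen W ∧
      ∀ E : AlgSp.EtOver X.obj, Nonempty (F.obj.obj (Opposite.op E)) ↔ Set.range (AlgSp.Points.ofPt E.obj.hom) ⊆ W := by
  have sh := (isSheaf_iff_isSheaf_of_type _ _).1 F.property
  have hres : ∀ {E' E : AlgSp.EtOver X.obj} (g : E' ⟶ E), Nonempty (F.obj.obj (Opposite.op E)) →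
      Nonempty (F.obj.obj (Opposite.op E')) := fun g ⟨s⟩ => ⟨F.obj.map g.op s⟩
  let W : Set (AlgSp.Points X.obj) := {x | ∃ E : AlgSp.EtOver X.obj,
    Nonempty (F.obj.obj (Opposite.op E)) ∧ x ∈ Set.range (AlgSp.Points.ofPt E.obj.hom)}
  have hWo : IsOpen W := by
    refine isOpen_iff_forall_mem_open.2 fun x hx => ?_
    obtain ⟨E, hE, hx⟩ := hx
    exact ⟨_, fun y hy => ⟨E, hE, hy⟩, (SpPts86.isOpenMap_ofPt E.property).isOpen_range, hx⟩
  have hW : ∀ E : AlgSp.EtOver X.obj,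
      Nonempty (F.obj.obj (Opposite.op E)) ↔ Set.range (AlgSp.Points.ofPt E.obj.hom) ⊆ W := by
    refine fun E => ⟨fun hE y hy => ⟨E, hE, hy⟩, fun h => ?_⟩
    choose E' hE' u' hu' using fun u : ↥E.obj.left.left => h ⟨u, rfl⟩
    choose V fst snd sq using fun u : ↥E.obj.left.left =>
      SpFP87.exists_isPullback_yon X.property.diag (E' u).obj.hom E.obj.hom
    let Z : ↥E.obj.left.left → AlgSp.EtOver X.obj := fun u =>
      AlgSp.EtOver.mk ((AlgSp.yon S).map (snd u) ≫ E.obj.hom)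
        ((AlgSp.repWith_isMultiplicative (S := S) @Etale).comp_mem _ _
          ((AlgSp.repWith_yon_map_iff _ _).2 (SpFP87.etale_snd_of_isPullback (sq u) (E' u).property)) E.property)
    let π : ∀ u, Z u ⟶ E := fun u => AlgSp.EtOver.homMk (snd u) rfl
    have hcov := AlgSp.ofArrows_mem_etTop Z π (fun u => by
      obtain ⟨v, -, hv⟩ := SpPts86.exists_pt_of_isPullback' (sq u) (u' u) u (hu' u)
      exact ⟨u, v, hv⟩)
    have hne : ∀ u, Nonempty (F.obj.obj (Opposite.op (Z u))) := fun u =>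
      hres (AlgSp.EtOver.homMk (fst u) (sq u).w : Z u ⟶ E' u) (hE' u)
    have hs := (Presieve.isSheafFor_iff_generate _).2 (sh _ hcov)
    obtain ⟨t, -⟩ := (Presieve.isSheafFor_arrows_iff _ _).1 hs (fun u => (hne u).some)
      (fun i j T gi gj _ => @Subsingleton.elim _ (hF T) _ _)
    exact ⟨t⟩
  refine ⟨W, ⟨hWo, hW⟩, ?_⟩
  rintro W₁ ⟨hW₁o, hW₁⟩
  refine Set.Subset.antisymm (fun x hx => ?_) (fun x ⟨E, hE, hx⟩ => (hW₁ E).1 hE hx)
  obtain ⟨U, p, hp, hps⟩ := X.property.atlas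
  obtain ⟨u, rfl⟩ := SpPts86.surjective_ofPt hps x
  let O : U.left.Opens := ⟨_, hW₁o.preimage (AlgSp.Points.continuous_ofPt p)⟩
  let U₁ : Over S := Over.mk (O.ι ≫ U.hom)
  let j : U₁ ⟶ U := Over.homMk O.ι rfl
  have hj : AlgSp.RepWith @Etale ((AlgSp.yon S).map j ≫ p) :=
    (AlgSp.repWith_isMultiplicative (S := S) @Etale).comp_mem _ _
      ((AlgSp.repWith_yon_map_iff _ _).2 (inferInstanceAs (Etale O.ι))) hp
  let E : AlgSp.EtOver X.obj := AlgSp.EtOver.mk ((AlgSp.yon S).map j ≫ p) hj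
  have hsub : Set.range (AlgSp.Points.ofPt E.obj.hom) ⊆ W₁ := by
    rintro _ ⟨z, rfl⟩
    show AlgSp.Points.ofPt ((AlgSp.yon S).map j ≫ p) z ∈ W₁
    rw [SpPts86.ofPt_comp]
    exact z.2
  exact ⟨E, (hW₁ E).2 hsub, (⟨u, hx⟩ : O.toScheme), SpPts86.ofPt_comp j p (⟨u, hx⟩ : O.toScheme)⟩

end Groth.Agent.S10230
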