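import Groth.Statements.S10231
import Groth.Agent.SpPts86.EtStalkProps

set_option autoImplicit false
universe u
open CategoryTheory CategoryTheory.Limits AlgebraicGeometry Topology TopologicalSpace
open AlgSp

namespace Groth.Agent.S10231

/-- Let X be a locally Noetherian algebraic space over a scheme S. Then X is regular (etale locally a
regular scheme: some surjective etale chart from a locally Noetherian scheme all of whose local
rings are regular) if and only if every etale local ring of X at a geometric point is a regular
local ring. -/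
theorem result {S : Scheme.{u}} (X : AlgSp.Space S) (hX : AlgSp.IsLocNoethSp X.obj) :
    AlgSp.EtaleLocally (fun U => IsLocallyNoetherian U ∧ ∀ u : ↥U, IsRegularLocalRing ↥(U.presheaf.stalk u)) X.obj ↔
      ∀ p : AlgSp.FieldPt X.obj, p.IsGeometric → IsRegularLocalRing ↥(AlgSp.OEtStalk p) := by
  constructor
  · rintro ⟨U, a, ha, has, hU, hr⟩ p hp
    obtain ⟨u, hu⟩ := SpPts86.surjective_ofPt has (AlgSp.Points.mk p)
    exact (SpPts86.oEtStalk_props X.property hp ha u hu).2.2.2.2 (hr u)
  · intro h
    obtain ⟨U, a, ha, has, hU⟩ := hX
    refine ⟨U, a, ha, has, hU, fun u => ?_⟩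
    obtain ⟨p, l, hp, -, hx⟩ := SpPts86.exists_geometric_lift (AlgSp.EtOver.mk a ha) u
    exact (SpPts86.oEtStalk_props X.property hp ha u hx.symm).2.2.2.1 (h p hp)

end Groth.Agent.S10231
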