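import Groth.Statements.S10233
import Groth.Agent.SpPts86.InvImm

set_option autoImplicit false
universe u
open CategoryTheory CategoryTheory.Limits AlgebraicGeometry Topology TopologicalSpace
open AlgSp

namespace Groth.Agent.S10233

/-- Let X be an algebraic space over a scheme S with a presentation (U, R, s, t, p), and let i' : Z' ⟶ U
be an immersion of schemes that is R-invariant, meaning that one locally closed subscheme R' of R is
at the same time the inverse image of Z' under s and under t. Then Z' descends to a locally closed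
subspace of X: there is a morphism of algebraic spaces i : Z ⟶ X representable by immersions
together with a map h_{Z'} ⟶ Z making h_{Z'} the fibre product Z ×_X h_U; moreover i is a closed
(resp. open) immersion when i' is. -/
theorem result {S : Scheme.{u}} (X : AlgSp.Space S) {R U : Over S} (s t : R ⟶ U)
    (p : (AlgSp.yon S).obj U ⟶ X.obj) (hp : AlgSp.IsPresentation s t p)
    {Z' R' : Scheme.{u}} (i' : Z' ⟶ U.left) [IsImmersion i'] (k : R' ⟶ R.left) (s' t' : R' ⟶ Z')
    (hs : IsPullback k s' s.left i') (ht : IsPullback k t' t.left i') :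
    ∃ (Z : AlgSp.Space S) (i : Z ⟶ X) (q : (AlgSp.yon S).obj (Over.mk (i' ≫ U.hom)) ⟶ Z.obj),
      AlgSp.RepWith @IsImmersion i.hom ∧
      IsPullback q ((AlgSp.yon S).map (Over.homMk i' rfl : Over.mk (i' ≫ U.hom) ⟶ U)) i.hom p ∧
      (IsClosedImmersion i' → AlgSp.RepWith @IsClosedImmersion i.hom) ∧
      (IsOpenImmersion i' → AlgSp.RepWith @IsOpenImmersion i.hom) := by
  haveI : Mono i' := inferInstance
  let U' : Over S := Over.mk (i' ≫ U.hom)
  let g : U' ⟶ U := Over.homMk i' rfl
  let R'o : Over S := Over.mk (k ≫ R.hom)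
  let r : R'o ⟶ R := Over.homMk k rfl
  let s'' : R'o ⟶ U' := Over.homMk s' (by
    show s' ≫ i' ≫ U.hom = k ≫ R.hom
    rw [← Category.assoc, ← hs.w, Category.assoc, Over.w s])
  let t'' : R'o ⟶ U' := Over.homMk t' (by
    show t' ≫ i' ≫ U.hom = k ≫ R.hom
    rw [← Category.assoc, ← ht.w, Category.assoc, Over.w t])
  haveI : Mono g.left := ‹Mono i'›
  haveI : Mono g := Over.mono_of_mono_left g
  have hs' : IsPullback r s'' s g := IsPullback.of_map (Over.forget S) (Over.OverMorphism.ext hs.w) hs
  have ht' : IsPullback r t'' t g := IsPullback.of_map (Over.forget S) (Over.OverMorphism.ext ht.w) ht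
  obtain ⟨Z, i, q, hZ, sq⟩ := SpPts86.exists_invariant_descent hs' ht' hp
  haveI : IsImmersion g.left := ‹IsImmersion i'›
  refine ⟨⟨Z, hZ⟩, ObjectProperty.homMk i, q, SpPts86.repWith_isImmersion_of_chart hp.etale hp.surjective sq, sq,
    fun h => ?_, fun h => ?_⟩
  · haveI : IsClosedImmersion g.left := h
    exact SpPts86.repWith_isClosedImmersion_of_cover (SpFP87.locLift_of_atlas hp.etale hp.surjective) sq
  · haveI : IsOpenImmersion g.left := h
    exact SpPts86.repWith_isOpenImmersion_of_chart hp.etale hp.surjective sq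

end Groth.Agent.S10233
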