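import Groth.Statements.S10234
import Groth.Agent.SpPts86.EtaleMor

set_option autoImplicit false
universe u
open CategoryTheory CategoryTheory.Limits AlgebraicGeometry Topology TopologicalSpace
open AlgSp

namespace Groth.Agent.S10234

/-- Suppose f : X ⟶ Y is a morphism of algebraic spaces over a scheme S that is etale. Then the functor
j : X_etale ⟶ Y_etale, (U ⟶ X) ↦ (U ⟶ X ⟶ Y), is continuous and cocontinuous for the etale
topologies. (The identification of the associated morphism of topoi with f_small, and the resulting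
formula for inverse images, are not part of this row.) -/
theorem result {S : Scheme.{u}} {X Y : AlgSp.Space S} (f : X ⟶ Y)
    (hf : AlgSp.IsEtaleMor f.hom) :
    (AlgSp.EtOver.postcomp f.hom hf).IsContinuous (AlgSp.etTop X.obj) (AlgSp.etTop Y.obj) ∧
      (AlgSp.EtOver.postcomp f.hom hf).IsCocontinuous (AlgSp.etTop X.obj) (AlgSp.etTop Y.obj) := by
  have hpres : PreservesLimitsOfShape WalkingCospan (AlgSp.EtOver.postcomp f.hom hf) := by
    have key : ∀ {E₁ E₂ E₀ : AlgSp.EtOver X.obj} (g₁ : E₁ ⟶ E₀) (g₂ : E₂ ⟶ E₀),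
        PreservesLimit (cospan g₁ g₂) (AlgSp.EtOver.postcomp f.hom hf) := fun {E₁ E₂ E₀} g₁ g₂ => by
      refine preservesLimit_of_preserves_limit_cone (AlgSp.EtOver.pullbackIsLimit g₁ g₂)
        ((isLimitMapConePullbackConeEquiv _ _).symm ?_)
      refine PullbackCone.IsLimit.mk _
        (fun s => AlgSp.EtOver.homMk
          (pullback.lift s.fst.hom.left s.snd.hom.left (congrArg (fun k => k.hom.left) s.condition)) ?_)
        (fun s => AlgSp.EtOver.hom_ext _ _ (pullback.lift_fst _ _ _))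
        (fun s => AlgSp.EtOver.hom_ext _ _ (pullback.lift_snd _ _ _))
        (fun s m h₁ h₂ => AlgSp.EtOver.hom_ext _ _ (pullback.hom_ext
          ((congrArg (fun k => k.hom.left) h₁).trans (pullback.lift_fst _ _ _).symm)
          ((congrArg (fun k => k.hom.left) h₂).trans (pullback.lift_snd _ _ _).symm)))
      change (AlgSp.yon S).map _ ≫ ((AlgSp.yon S).map (pullback.fst g₁.hom.left g₂.hom.left) ≫ E₁.obj.hom) ≫ f.hom =
        s.pt.obj.hom
      rw [Category.assoc, ← Functor.map_comp_assoc, pullback.lift_fst]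
      exact AlgSp.EtOver.w s.fst
    exact ⟨fun {K} => preservesLimit_of_iso_diagram _ (diagramIsoCospan K).symm⟩
  refine ⟨?_, ⟨fun {E R} hR => ?_⟩⟩
  · refine Functor.isContinuous_toGrothendieck_of_pullbacksPreservedBy _ _ _ fun E R hR => ?_
    obtain ⟨ι, Z, π, rfl⟩ := Presieve.exists_eq_ofArrows R
    rw [Precoverage.mem_comap_iff, Presieve.map_ofArrows]
    exact (AlgSp.ofArrows_mem_etPre_iff _ _).2 ((AlgSp.ofArrows_mem_etPre_iff Z π).1 hR)
  · obtain ⟨R₀, hR₀, hle⟩ := Precoverage.mem_toGrothendieck_iff_of_isStableUnderComposition.1 hR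
    obtain ⟨ι, Z, π, rfl⟩ := Presieve.exists_eq_ofArrows R₀
    let Z' : ι → AlgSp.EtOver X.obj := fun i => AlgSp.EtOver.mk ((AlgSp.yon S).map (π i).hom.left ≫ E.obj.hom)
      ((AlgSp.repWith_isMultiplicative (S := S) @Etale).comp_mem _ _
        ((AlgSp.repWith_yon_map_iff _ _).2 (AlgSp.EtOver.etale_left (π i))) E.property)
    let g : ∀ i, Z' i ⟶ E := fun i => AlgSp.EtOver.homMk (π i).hom.left rfl
    refine GrothendieckTopology.superset_covering _ ?_
      (AlgSp.ofArrows_mem_etTop Z' g ((AlgSp.ofArrows_mem_etPre_iff Z π).1 hR₀))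
    rw [Sieve.generate_le_iff]
    rintro _ _ ⟨i⟩
    show R ((AlgSp.EtOver.postcomp f.hom hf).map (g i))
    let j : (AlgSp.EtOver.postcomp f.hom hf).obj (Z' i) ⟶ Z i := AlgSp.EtOver.homMk (𝟙 _) (by
      change (AlgSp.yon S).map (𝟙 _) ≫ (Z i).obj.hom = ((AlgSp.yon S).map (π i).hom.left ≫ E.obj.hom) ≫ f.hom
      rw [CategoryTheory.Functor.map_id, Category.id_comp, Category.assoc, ← AlgSp.EtOver.w (π i)]
      rfl)
    rw [show (AlgSp.EtOver.postcomp f.hom hf).map (g i) = j ≫ π i from
      AlgSp.EtOver.hom_ext _ _ (Category.id_comp _).symm]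
    exact R.downward_closed (hle _ _ ⟨i⟩) j

end Groth.Agent.S10234
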