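import Groth.Statements.S10236
import Groth.Agent.GIT36.Quot.Fppf
import Groth.Agent.Grpd80.QuotSheaf

set_option autoImplicit false
universe u
open CategoryTheory CategoryTheory.Limits AlgebraicGeometry Topology TopologicalSpace
open AlgSp

namespace Groth.Agent.S10236

/-- Let (U, R, s, t, c) be a groupoid scheme over a scheme S with s, t finite locally free and j = (t,
s) an equivalence relation, such that in each nonempty closed subset of U some point has its whole
equivalence class inside an affine open of U; let U ⟶ M be a finite locally free morphism over S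
with R = U ×_M U (the square with t, s cartesian) such that h_M is the quotient of h_U by h_R ⇉ h_U
in fppf sheaves. Then (1) if U ⟶ S is quasi-separated so is M ⟶ S; (2) if U is quasi-separated so is
M; (3) if U ⟶ S is separated so is M ⟶ S; (4) if U is separated so is M. -/
theorem result {S : Scheme.{u}} (G : Grpd.GroupoidScheme S)
    (hs : Mor2.IsFinLocFree G.s) (ht : Mor2.IsFinLocFree G.t)
    (heq : AlgSp.IsEqvRel (Over.homMk G.s G.s_over : Over.mk G.pR ⟶ Over.mk G.pU) (Over.homMk G.t G.t_over : Over.mk G.pR ⟶ Over.mk G.pU))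
    (h3 : ∀ Z : Set ↥G.U, IsClosed Z → Z.Nonempty →
      ∃ u ∈ Z, ∃ W : G.U.Opens, IsAffineOpen W ∧ ∀ r : ↥G.R, G.s r = u → G.t r ∈ W)
    (M : Over S) (m : Over.mk G.pU ⟶ M) (hm : Mor2.IsFinLocFree m.left) (hR : IsPullback G.t G.s m.left m.left)
    (hq : QuotSh.IsQuotient Scheme.fppfPrecoverage (Over.homMk G.s G.s_over : Over.mk G.pR ⟶ Over.mk G.pU) (Over.homMk G.t G.t_over : Over.mk G.pR ⟶ Over.mk G.pU) m) :
    (QuasiSeparated G.pU → QuasiSeparated M.hom) ∧ (QuasiSeparatedSpace ↥G.U → QuasiSeparatedSpace ↥M.left) ∧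
      (IsSeparated G.pU → IsSeparated M.hom) ∧ (G.U.IsSeparated → M.left.IsSeparated) := by
  obtain ⟨hm1, -, -⟩ := hm
  haveI : Surjective m.left := by
    obtain ⟨w, hiso⟩ := hq
    let iX := QuotSh.repIsoUliftYoneda Scheme.fppfPrecoverage (Over.mk G.pU)
    let iY := QuotSh.repIsoUliftYoneda Scheme.fppfPrecoverage M
    have e : (AlgSp.yon S).map m = iX.inv ≫ (QuotSh.quotπ Scheme.fppfPrecoverage _ _ ≫
        QuotSh.quotDesc Scheme.fppfPrecoverage m w) ≫ iY.hom := by
      rw [Iso.eq_inv_comp, show QuotSh.quotπ Scheme.fppfPrecoverage _ _ ≫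
        QuotSh.quotDesc Scheme.fppfPrecoverage m w = _ from coequalizer.π_desc _ _]
      exact (Grpd80.repMap_comp_iso m).symm
    haveI := hiso
    have : Epi (QuotSh.quotπ Scheme.fppfPrecoverage
        (Over.homMk G.s G.s_over : Over.mk G.pR ⟶ Over.mk G.pU) (Over.homMk G.t G.t_over)) := coequalizer.π_epi
    have : Epi ((AlgSp.yon S).map m) := by rw [e]; infer_instance
    obtain ⟨W, c, l, hc, hl⟩ := SpPts86.locLift_of_epi (b := (AlgSp.yon S).map m) M (𝟙 _)
    obtain ⟨l, rfl⟩ := (AlgSp.yon S).map_surjective l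
    have hlc : l ≫ m = c := (AlgSp.yon S).map_injective (by rw [Functor.map_comp, hl, Category.comp_id])
    haveI := ((SpFP87.fppfSurj_iff _).mp hc).1
    refine ⟨fun y => ?_⟩
    obtain ⟨x, hx⟩ := c.left.surjective y
    exact ⟨l.left x, by rw [← Scheme.Hom.comp_apply, ← Over.comp_left, hlc, hx]⟩
  have key : ∀ {X Y Z : Scheme.{u}} (f : X ⟶ Y) [IsFinite f] [Surjective f] (g : Y ⟶ Z),
      (QuasiSeparated (f ≫ g) → QuasiSeparated g) ∧ (IsSeparated (f ≫ g) → IsSeparated g) := by
    intro X Y Z f _ _ g
    let φ := pullback.map (f ≫ g) (f ≫ g) g g f f (𝟙 Z) (by simp) (by simp)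
    haveI : IsFinite φ := MorphismProperty.pullback_map (P := @IsFinite) ‹IsFinite f› ‹IsFinite f› rfl rfl
    have e : f ≫ pullback.diagonal g = pullback.diagonal (f ≫ g) ≫ φ := by
      apply pullback.hom_ext
      · simp only [Category.assoc, pullback.diagonal_fst, Category.comp_id, φ, pullback.map]
        exact ((pullback.diagonal (f ≫ g)) ≫= pullback.lift_fst _ _ _).trans (pullback.diagonal_fst_assoc _ _) |>.symm
      · simp only [Category.assoc, pullback.diagonal_snd, Category.comp_id, φ, pullback.map]
        exact ((pullback.diagonal (f ≫ g)) ≫= pullback.lift_snd _ _ _).trans (pullback.diagonal_snd_assoc _ _) |>.symm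
    constructor
    · intro h
      refine ⟨(quasiCompact_iff _).2 fun K hKo hK => ?_⟩
      have h1 : IsCompact ((f ≫ pullback.diagonal g).base ⁻¹' K) := by
        rw [e]
        exact QuasiCompact.isCompact_preimage K hKo hK
      have h2 := h1.image f.continuous
      rwa [Scheme.Hom.comp_base, TopCat.coe_comp, Set.preimage_comp, Set.image_preimage_eq _ f.surjective] at h2
    · intro h
      refine (isSeparated_iff g).2 (IsClosedImmersion.of_isPreimmersion _ ?_)
      have h1 : Set.range (f ≫ pullback.diagonal g).base = Set.range (pullback.diagonal g).base := by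
        rw [Scheme.Hom.comp_base, TopCat.coe_comp]
        exact f.surjective.range_comp _
      show IsClosed (Set.range (pullback.diagonal g).base)
      rw [← h1, e, Scheme.Hom.comp_base, TopCat.coe_comp, Set.range_comp]
      exact φ.isClosedMap _ (pullback.diagonal (f ≫ g)).isClosedEmbedding.isClosed_range
  let m' : G.U ⟶ M.left := m.left
  haveI : IsFinite m' := hm1
  haveI : Surjective m' := ‹Surjective m.left›
  have hw : m' ≫ M.hom = G.pU := Over.w m
  refine ⟨fun h => (key m' M.hom).1 (hw.symm ▸ h), fun h => ?_, fun h => (key m' M.hom).2 (hw.symm ▸ h), fun h => ?_⟩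
  · rw [quasiSeparatedSpace_iff_quasiSeparated] at h ⊢
    exact (key m' (terminal.from M.left)).1 (by rwa [terminal.comp_from])
  · haveI := h.1
    exact ⟨(key m' (terminal.from M.left)).2 (by rw [terminal.comp_from]; infer_instance)⟩

end Groth.Agent.S10236
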