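import Groth.Statements.S1024
import Mathlib.CategoryTheory.Limits.Shapes.RegularMono
import Mathlib.CategoryTheory.Abelian.Basic

set_option autoImplicit false
universe v u u'
open CategoryTheory Opposite
open CohDer

namespace Groth.Agent.S1024
open CategoryTheory.Category CategoryTheory.Limits

/-- Let u : A ⥤ B be a functor between abelian categories and P a family of objects of B such that each
object of B receives an epimorphism from some member of P, and such that for every member Pᵢ there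
is an object Q of A with Hom_A(Q, -) ≅ Hom_B(Pᵢ, u(-)) naturally. Then u is a right adjoint (has a
left adjoint). -/
theorem result {A : Type u} [Category.{v} A] [Abelian A] {B : Type u'} [Category.{v} B] [Abelian B]
    (u : A ⥤ B) {ι : Type*} (P : ι → B)
    (h1 : ∀ X : B, ∃ (i : ι) (π : P i ⟶ X), Epi π)
    (h2 : ∀ i : ι, ∃ Q : A, Nonempty (coyoneda.obj (op Q) ≅ u ⋙ coyoneda.obj (op (P i)))) :
    u.IsRightAdjoint := by
  have hdiag : ∀ i, ∃ (Q : A) (η : P i ⟶ u.obj Q), ∀ Z : A,
      Function.Bijective (fun a : Q ⟶ Z => η ≫ u.map a) := fun i => by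
    obtain ⟨Q, ⟨e⟩⟩ := h2 i
    refine ⟨Q, e.hom.app Q (𝟙 Q), fun Z => ?_⟩
    have : (fun a : Q ⟶ Z => e.hom.app Q (𝟙 Q) ≫ u.map a) = e.hom.app Z := by
      funext a
      simpa using (ConcreteCategory.congr_hom (e.hom.naturality a) (𝟙 Q)).symm
    rw [this]
    exact (e.app Z).toEquiv.bijective
  choose Q η hη using hdiag
  have hX : ∀ X : B, ∃ (F : A) (ν : X ⟶ u.obj F), ∀ Z : A,
      Function.Bijective (fun a : F ⟶ Z => ν ≫ u.map a) := fun X => by
    obtain ⟨i, π, hπ⟩ := h1 X
    obtain ⟨j, ρ, hρ⟩ := h1 (pullback π π)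
    obtain ⟨p, hp⟩ := (hη j (Q i)).2 ((ρ ≫ pullback.fst π π) ≫ η i)
    obtain ⟨q, hq⟩ := (hη j (Q i)).2 ((ρ ≫ pullback.snd π π) ≫ η i)
    dsimp only at hp hq
    have hker : ∀ {W : B} (k : P i ⟶ W), pullback.fst π π ≫ k = pullback.snd π π ≫ k →
        kernel.ι π ≫ k = 0 := fun k hk => by
      have := pullback.lift (kernel.ι π) 0 (by simp) ≫= hk
      rwa [pullback.lift_fst_assoc, pullback.lift_snd_assoc, zero_comp] at this
    have hpq : ∀ (Z : A) (a : Q i ⟶ Z), p ≫ a = q ≫ a ↔
        pullback.fst π π ≫ η i ≫ u.map a = pullback.snd π π ≫ η i ≫ u.map a := fun Z a => by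
      rw [← (hη j Z).1.eq_iff, Functor.map_comp, Functor.map_comp, reassoc_of% hp, reassoc_of% hq,
        cancel_epi ρ]
    let c := coequalizer.π p q
    let ν : X ⟶ u.obj (coequalizer p q) :=
      Abelian.epiDesc π (η i ≫ u.map c) (hker _ ((hpq _ c).1 (coequalizer.condition p q)))
    have hν : π ≫ ν = η i ≫ u.map c := Abelian.comp_epiDesc _ _ _
    refine ⟨_, ν, fun Z => ⟨fun a b e => ?_, fun v => ?_⟩⟩
    · apply coequalizer.hom_ext
      apply (hη i Z).1
      dsimp only at e ⊢
      rw [Functor.map_comp, Functor.map_comp, ← reassoc_of% hν, ← reassoc_of% hν, e]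
    · obtain ⟨a, ha⟩ := (hη i Z).2 (π ≫ v)
      dsimp only at ha
      have ha' : p ≫ a = q ≫ a := (hpq Z a).2 (by rw [ha, ← assoc, pullback.condition, assoc])
      refine ⟨coequalizer.desc a ha', ?_⟩
      dsimp only
      rw [← cancel_epi π, reassoc_of% hν, ← Functor.map_comp, coequalizer.π_desc, ha]
  choose F ν hν using hX
  exact (Adjunction.adjunctionOfEquivLeft (G := u) (fun X Z => Equiv.ofBijective _ (hν X Z))
    (fun X Y Y' g h => by simp)).isRightAdjoint

end Groth.Agent.S1024
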