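import Groth.Statements.S10242
import Groth.Agent.SpFP87.Reduced

set_option autoImplicit false
universe u
open CategoryTheory CategoryTheory.Limits AlgebraicGeometry Topology TopologicalSpace
open AlgSp

namespace Groth.Agent.S10242

/-- Let X be a reduced algebraic space over a scheme S. Then the ring of global sections of the
structure sheaf of X (on the small etale site) is reduced, and if a global section f satisfies X =
V(f), meaning that its restriction to every scheme U etale over X has empty non-vanishing locus
D(f|_U), then f = 0. -/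
theorem result {S : Scheme.{u}} (X : AlgSp.Space S) (hX : AlgSp.IsReducedSp X.obj) :
    _root_.IsReduced ↥(AlgSp.gsectEt (AlgSp.OEt X.obj)) ∧
      ∀ f : ↥(AlgSp.gsectEt (AlgSp.OEt X.obj)),
        (∀ E : AlgSp.EtOver X.obj,
            E.obj.left.left.basicOpen ((limit.π (AlgSp.OEt X.obj).obj (Opposite.op E)) f).down = ⊥) →
          f = 0 := by
  have hred : ∀ E : AlgSp.EtOver X.obj, IsReduced E.obj.left.left :=
    fun E => SpFP87.isReduced_chart X.property hX E.property
  have hext : ∀ f : ↥(AlgSp.gsectEt (AlgSp.OEt X.obj)),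
      (∀ E : AlgSp.EtOver X.obj, ((limit.π (AlgSp.OEt X.obj).obj (Opposite.op E)) f).down = 0) → f = 0 := fun f h =>
    Concrete.limit_ext _ _ _ (fun j => by
      rw [map_zero]
      exact ULift.ext _ _ (h j.unop))
  refine ⟨⟨fun f hf => hext f fun E => ?_⟩, fun f hf => hext f fun E => ?_⟩
  · have := hred E
    exact IsNilpotent.eq_zero (R := Γ(E.obj.left.left, ⊤)) ((hf.map (limit.π (AlgSp.OEt X.obj).obj (Opposite.op E)).hom).map
      (ULift.ringEquiv : ULift.{u+1} Γ(E.obj.left.left, ⊤) ≃+* Γ(E.obj.left.left, ⊤)).toRingHom)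
  · have := hred E
    exact (AlgebraicGeometry.basicOpen_eq_bot_iff (X := E.obj.left.left) _).1 (hf E)

end Groth.Agent.S10242
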