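import Groth.Statements.S10246
import Groth.Agent.SpPts86.Quot
import Groth.Agent.SpPts86.Compact
import Groth.Agent.SpFP87.LocP

set_option autoImplicit false
set_option backward.isDefEq.respectTransparency false
set_option linter.style.haveILetI false
universe u
open CategoryTheory CategoryTheory.Limits AlgebraicGeometry
open AlgSp

namespace Groth.Agent.S10246

/-- Let X be an algebraic space over a terminal base scheme (so that morphisms over the base are all
morphisms) and T an affine scheme. Then f ↦ f♯ is a bijection from morphisms X ⟶ T to ring maps Γ(T,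
O_T) ⟶ Γ(X, O_X), where Γ(X, O_X) is the ring of global sections of the structure sheaf on the small
etale site and f♯ is characterised by: for every scheme U etale over X, following f♯ by the
restriction Γ(X, O_X) ⟶ Γ(U, O_U) gives the map on global sections of the induced morphism U ⟶ T. -/
theorem result {S : Scheme.{u}} (hS : IsTerminal S) (X : AlgSp.Space S)
    (T : Over S) [IsAffine T.left] (φ : Γ(T.left, ⊤) →+* ↥(AlgSp.gsectEt (AlgSp.OEt X.obj))) :
    ∃! f : X.obj ⟶ (AlgSp.yon S).obj T,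
      ∀ (E : AlgSp.EtOver X.obj) (r : Γ(T.left, ⊤)),
        ((limit.π (AlgSp.OEt X.obj).obj (Opposite.op E)) (φ r)).down =
          ((AlgSp.yon S).preimage (E.obj.hom ≫ f)).left.appTop r := by
  let π : ∀ E : EtOver X.obj, ↥(gsectEt (OEt X.obj)) →+* Γ(E.obj.left.left, ⊤) := fun E =>
    ULift.ringEquiv.toRingHom.comp (limit.π (OEt X.obj).obj (Opposite.op E)).hom
  let ψ : ∀ E : EtOver X.obj, Γ(T.left, ⊤) →+* Γ(E.obj.left.left, ⊤) := fun E => (π E).comp φ
  have hψ : ∀ {E E' : EtOver X.obj} (g : E ⟶ E') (r : Γ(T.left, ⊤)),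
      ψ E r = g.hom.left.left.appTop (ψ E' r) := fun {E E'} g r =>
    (congrArg ULift.down (ConcreteCategory.congr_hom (limit.w (OEt X.obj).obj g.op) (φ r))).symm
  let G : ∀ E : EtOver X.obj, E.obj.left ⟶ T := fun E =>
    Over.homMk (E.obj.left.left.toSpecΓ ≫ Spec.map (CommRingCat.ofHom (ψ E)) ≫ T.left.isoSpec.inv)
      (hS.hom_ext _ _)
  have hG : ∀ (E : EtOver X.obj) (r : Γ(T.left, ⊤)), (G E).left.appTop r = ψ E r := by
    intro E r
    have : (G E).left.appTop = CommRingCat.ofHom (ψ E) := by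
      simp [G, Scheme.isoSpec, Scheme.toSpecΓ_appTop]
      congr 1
      exact (Scheme.toSpecΓ_appTop _).symm
    rw [this]
    rfl
  have key : ∀ {E : EtOver X.obj} {g : E.obj.left ⟶ T}, (∀ r, g.left.appTop r = ψ E r) → g = G E :=
    fun {E g} h => Over.OverMorphism.ext (ext_of_isAffine (CommRingCat.hom_ext (RingHom.ext fun r =>
      (h r).trans (hG E r).symm)))
  have hnat : ∀ {E E' : EtOver X.obj} (g : E ⟶ E'), g.hom.left ≫ G E' = G E := fun {E E'} g => key fun r => by
    rw [Over.comp_left, Scheme.Hom.comp_appTop]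
    show g.hom.left.left.appTop ((G E').left.appTop r) = _
    rw [hG, ← hψ]
  obtain ⟨U, p, hpe, hps⟩ := X.property.atlas
  let EU : EtOver X.obj := EtOver.mk p hpe
  have hker : ∀ (W : Over S) (l l' : W ⟶ U), (yon S).map l ≫ p = (yon S).map l' ≫ p →
      (yon S).map l ≫ (yon S).map (G EU) = (yon S).map l' ≫ (yon S).map (G EU) := by
    intro W l l' h
    obtain ⟨R, r₂, r₁', sqR⟩ := hpe.rep p
    obtain ⟨r₁, rfl⟩ := (yon S).map_surjective r₁'
    have hr : RepWith @Etale ((yon S).map r₁ ≫ p) := by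
      haveI : Etale r₁.left := hpe.property p ((yon S).map r₂) r₁ sqR.flip
      exact SpPts86.repWith_etale_comp r₁ hpe
    let ER : EtOver X.obj := EtOver.mk ((yon S).map r₁ ≫ p) hr
    let g₁ : ER ⟶ EU := EtOver.homMk r₁ rfl
    let g₂ : ER ⟶ EU := EtOver.homMk r₂ sqR.w.symm
    have e : r₁ ≫ G EU = r₂ ≫ G EU := (hnat g₁).trans (hnat g₂).symm
    obtain ⟨τ, hτ⟩ := (yon S).map_surjective (sqR.lift ((yon S).map l) ((yon S).map l') h)
    rw [← sqR.lift_fst _ _ h, ← hτ, ← Functor.map_comp, ← Functor.map_comp, Category.assoc, e]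
    rw [Functor.map_comp, Functor.map_comp, ← Category.assoc, hτ, sqR.lift_snd]
  obtain ⟨f, hf⟩ := SpPts86.exists_desc (SpFP87.locLift_of_atlas hpe hps) _ hker
  have hfE : ∀ E : EtOver X.obj, E.obj.hom ≫ f = (yon S).map (G E) := by
    intro E
    obtain ⟨P, s, r', sq⟩ := hpe.rep E.obj.hom
    obtain ⟨r, rfl⟩ := (yon S).map_surjective r'
    haveI : Etale s.left := hpe.property _ _ _ sq
    haveI : Surjective s.left := hps.property _ _ _ sq
    let EP : EtOver X.obj := EtOver.mk ((yon S).map s ≫ E.obj.hom) (SpPts86.repWith_etale_comp s E.property)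
    let g₁ : EP ⟶ EU := EtOver.homMk r sq.w
    let g₂ : EP ⟶ E := EtOver.homMk s rfl
    refine SpFP87.cover_hom_ext s (SpFP87.etale_surjective_le_fppfSurj _ ⟨inferInstance, inferInstance⟩) ?_
    rw [← Category.assoc, ← sq.w, Category.assoc, hf, ← Functor.map_comp, ← Functor.map_comp]
    exact congrArg (yon S).map ((hnat g₁).trans (hnat g₂).symm)
  refine ⟨f, fun E r => ?_, fun f' hf' => ?_⟩
  · rw [hfE E, Functor.preimage_map, hG]
    rfl
  · haveI := (SpFP87.locLift_of_atlas hpe hps).epi
    refine (cancel_epi p).1 ?_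
    rw [hf, ← (yon S).map_preimage (p ≫ f')]
    exact congrArg (yon S).map (key (E := EU) fun r => (hf' EU r).symm)

end Groth.Agent.S10246
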