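import Groth.Statements.S10247
import Groth.Agent.SpPts86.Basic
import Groth.Agent.SpFP87.LocP

set_option autoImplicit false
universe u
open CategoryTheory CategoryTheory.Limits AlgebraicGeometry Topology TopologicalSpace
open AlgSp

namespace Groth.Agent.S10247

/-- Let X be an algebraic space over a scheme S. Together with its structure sheaf O_X, the small etale
site of X is a locally ringed site: for every scheme U etale over X and every global function f on U
there is a covering sieve of U in the small etale site along each of whose arrows f or 1 - f pulls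
back to a unit, and whenever 0 = 1 holds in the ring of global functions of U the empty sieve covers
U. -/
theorem result {S : Scheme.{u}} (X : AlgSp.Space S) :
    ModSite.IsLocallyRinged (AlgSp.etTop X.obj) (AlgSp.OEt X.obj) := by
  refine ⟨fun E f => ?_, fun E h => ?_⟩
  · let f₀ : Γ(E.obj.left.left, ⊤) := f.down
    let g₀ : Bool → Γ(E.obj.left.left, ⊤) := fun b => cond b f₀ (1 - f₀)
    let O : Bool → E.obj.left.left.Opens := fun b => E.obj.left.left.basicOpen (g₀ b)
    let U₁ : Bool → Over S := fun b => Over.mk ((O b).ι ≫ E.obj.left.hom)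
    let j : ∀ b, U₁ b ⟶ E.obj.left := fun b => Over.homMk (O b).ι rfl
    let Z : Bool → AlgSp.EtOver X.obj := fun b => AlgSp.EtOver.mk ((AlgSp.yon S).map (j b) ≫ E.obj.hom)
      ((AlgSp.repWith_isMultiplicative (S := S) @Etale).comp_mem _ _
        ((AlgSp.repWith_yon_map_iff _ _).2 (inferInstanceAs (Etale (O b).ι))) E.property)
    let π : ∀ b, Z b ⟶ E := fun b => AlgSp.EtOver.homMk (j b) rfl
    have hcov := AlgSp.ofArrows_mem_etTop Z π (fun x => by
      rcases IsLocalRing.isUnit_or_isUnit_one_sub_self
        (E.obj.left.left.presheaf.germ ⊤ x trivial f₀) with h | h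
      · exact ⟨true, (⟨x, (Scheme.mem_basicOpen_top _ f₀ x).2 h⟩ : (O true).toScheme), rfl⟩
      · refine ⟨false, (⟨x, (Scheme.mem_basicOpen_top _ (1 - f₀) x).2 ?_⟩ : (O false).toScheme), rfl⟩
        rwa [map_sub, map_one])
    have hu : ∀ b, IsUnit ((O b).ι.appTop (g₀ b)) := fun b => by
      apply RingedSpace.isUnit_of_isUnit_germ
      intro x _
      have hx : x ∈ (O b).toScheme.basicOpen ((O b).ι.appTop (g₀ b)) := by
        rw [← Scheme.preimage_basicOpen_top]; exact x.2
      exact (Scheme.mem_basicOpen_top _ _ x).1 hx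
    refine ⟨_, hcov, fun V g hg => ?_⟩
    obtain ⟨_, k, _, ⟨b⟩, rfl⟩ := hg
    have key : IsUnit ((k ≫ π b).hom.left.left.appTop (g₀ b)) := by
      show IsUnit ((k.hom.left.left ≫ (O b).ι).appTop (g₀ b))
      rw [Scheme.Hom.comp_appTop]
      exact (hu b).map k.hom.left.left.appTop.hom
    have h2 := key.map (ULift.ringEquiv : ULift.{u+1} Γ(V.obj.left.left, ⊤) ≃+* Γ(V.obj.left.left, ⊤)).symm
    cases b
    · exact Or.inr h2
    · exact Or.inl h2
  · have he : IsEmpty ↥E.obj.left.left := ⟨fun x => by
      have h1 : (0 : Γ(E.obj.left.left, ⊤)) = 1 := congrArg ULift.down h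
      have := congrArg (E.obj.left.left.presheaf.germ ⊤ x trivial) h1
      rw [map_zero, map_one] at this
      exact zero_ne_one this⟩
    refine GrothendieckTopology.superset_covering _ ?_
      (AlgSp.ofArrows_mem_etTop (ι := PEmpty.{1}) (fun i => i.elim) (fun i => i.elim) (fun x => he.elim x))
    rw [Sieve.generate_le_iff]
    rintro _ _ ⟨i⟩
    exact i.elim

end Groth.Agent.S10247
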