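import Groth.Statements.S10254
import Groth.Agent.SpPts86.EtStalk

set_option autoImplicit false
universe u
open CategoryTheory CategoryTheory.Limits AlgebraicGeometry Topology TopologicalSpace
open AlgSp

namespace Groth.Agent.S10254

/-- On the small etale site with scheme objects: let X be an algebraic space over a scheme S, F an
abelian sheaf on the small etale site of X, U an object of that site and σ ∈ F(U). Then there is an
open subset W of U such that: for every morphism φ : V ⟶ U of the site, σ|_V = 0 if and only if φ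
maps V into W (in particular W is the largest open subscheme of U on which σ restricts to zero); and
for every geometric point x̄ of X and every lift ū of x̄ to U, the image of σ in the stalk F_x̄
through the etale neighbourhood (U, ū) vanishes if and only if the point of U under ū lies in W.
(The published statement is for abelian sheaves on the site of algebraic spaces etale over X; this
row is its restriction to the site of schemes etale over X, where V ranges over schemes.) -/
theorem result {S : Scheme.{u}} (X : AlgSp.Space S) (F : AlgSp.AbEt X.obj)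
    (U : AlgSp.EtOver X.obj) (σ : ↥(F.obj.obj (Opposite.op U))) :
    ∃ W : TopologicalSpace.Opens ↥U.obj.left.left,
      (∀ (V : AlgSp.EtOver X.obj) (φ : V ⟶ U),
          (F.obj.map φ.op).hom σ = 0 ↔ Set.range (fun v => φ.hom.left.left v) ⊆ (W : Set ↥U.obj.left.left)) ∧
      (∀ p : AlgSp.FieldPt X.obj, p.IsGeometric → ∀ l : (AlgSp.FieldPt.liftsTo p).obj U,
          (AlgSp.stalkEtι p F ⟨U, l⟩).hom σ = 0 ↔ l.1.left (IsLocalRing.closedPoint p.K) ∈ W) := by
  let W : TopologicalSpace.Opens ↥U.obj.left.left :=
    ⟨{u | ∃ (V : AlgSp.EtOver X.obj) (φ : V ⟶ U), (F.obj.map φ.op).hom σ = 0 ∧ u ∈ Set.range φ.hom.left.left}, by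
      refine isOpen_iff_forall_mem_open.2 ?_
      rintro u ⟨V, φ, e, hu⟩
      have := AlgSp.EtOver.etale_left φ
      exact ⟨_, fun u' hu' => ⟨V, φ, e, hu'⟩, φ.hom.left.left.isOpenMap.isOpen_range, hu⟩⟩
  refine ⟨W, fun V φ => ⟨fun e => fun u hu => ⟨V, φ, e, hu⟩, fun h => ?_⟩, fun p hp l => ?_⟩
  · refine (SpPts86.eq_of_locally_eq F (F.obj.map φ.op σ) 0 fun v => ?_).trans rfl
    obtain ⟨p, l, hp, hv, -⟩ := SpPts86.exists_geometric_lift V v
    subst hv
    refine (SpPts86.germ_eq_iff X.property hp F.obj l _ _).1 ?_
    obtain ⟨V', ψ, e, hu⟩ := h ⟨l.1.left (IsLocalRing.closedPoint p.K), rfl⟩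
    rw [map_zero, GrothendieckTopology.Point.toPresheafFiber_w_apply,
      ← map_zero ((SpPts86.etPoint p X.property hp).toPresheafFiber U _ F.obj).hom]
    exact (SpPts86.germ_eq_iff X.property hp F.obj _ σ 0).2 ⟨V', ψ, e.trans (map_zero (F.obj.map ψ.op).hom).symm, hu⟩
  · let Φ := SpPts86.etPoint p X.property hp
    show (Φ.toPresheafFiber U l F.obj).hom σ = 0 ↔ _
    rw [← map_zero (Φ.toPresheafFiber U l F.obj).hom]
    refine (SpPts86.germ_eq_iff X.property hp F.obj l σ 0).trans ?_
    constructor
    · rintro ⟨V, g, e, hu⟩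
      exact ⟨V, g, e.trans (map_zero (F.obj.map g.op).hom), hu⟩
    · rintro ⟨V, g, e, hu⟩
      exact ⟨V, g, e.trans (map_zero (F.obj.map g.op).hom).symm, hu⟩

end Groth.Agent.S10254
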