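import Groth.Statements.S10256
import Groth.Agent.SpPts86.EtStalk

set_option autoImplicit false
universe u
open CategoryTheory CategoryTheory.Limits AlgebraicGeometry Topology TopologicalSpace
open AlgSp

namespace Groth.Agent.S10256

/-- Let X be an algebraic space over a scheme S, F an abelian sheaf on the small etale site of X and x ∈
|X|. Then x lies in the support of F, in the sense that the stalk F_x̄ is nonzero for some geometric
point x̄ over x, if and only if x is the image of a point u of some U etale over X lying in the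
support of some section σ ∈ F(U), i.e. such that σ does not restrict to zero on any V ⟶ U whose
image contains u. (The published definition of the support allows any, equivalently some, geometric
point over x; this row uses the existential form and does not assert that the two readings agree.) -/
theorem result {S : Scheme.{u}} (X : AlgSp.Space S) (F : AlgSp.AbEt X.obj)
    (x : AlgSp.Points X.obj) :
    (∃ p : AlgSp.FieldPt X.obj, p.IsGeometric ∧ AlgSp.Points.mk p = x ∧ ¬ IsZero (AlgSp.stalkEt p F)) ↔
      ∃ (U : AlgSp.EtOver X.obj) (σ : ↥(F.obj.obj (Opposite.op U))) (u : ↥U.obj.left.left),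
        AlgSp.Points.ofPt U.obj.hom u = x ∧
          ∀ (V : AlgSp.EtOver X.obj) (φ : V ⟶ U), (F.obj.map φ.op).hom σ = 0 →
            u ∉ Set.range (fun v => φ.hom.left.left v) := by
  constructor
  · rintro ⟨p, hp, rfl, h⟩
    let Φ := SpPts86.etPoint p X.property hp
    obtain ⟨z, hz⟩ : ∃ z : ↥(Φ.presheafFiber.obj F.obj), z ≠ 0 := by
      by_contra hc
      push Not at hc
      exact h (@AddCommGrpCat.isZero_of_subsingleton (Φ.presheafFiber.obj F.obj) ⟨fun a b => (hc a).trans (hc b).symm⟩)
    obtain ⟨U, (l : (AlgSp.FieldPt.liftsTo p).obj U), σ, rfl⟩ := Φ.toPresheafFiber_jointly_surjective z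
    refine ⟨U, σ, l.1.left (IsLocalRing.closedPoint p.K), (SpPts86.mk_eq_of_lift p l).symm,
      fun V φ e hu => hz ?_⟩
    rw [← map_zero (Φ.toPresheafFiber U l F.obj).hom]
    exact (SpPts86.germ_eq_iff X.property hp F.obj l σ 0).2
      ⟨V, φ, e.trans (map_zero (F.obj.map φ.op).hom).symm, hu⟩
  · rintro ⟨U, σ, u, rfl, h⟩
    obtain ⟨p, l, hp, hv, hx⟩ := SpPts86.exists_geometric_lift U u
    refine ⟨p, hp, hx, fun hz => ?_⟩
    let Φ := SpPts86.etPoint p X.property hp
    have hs : Subsingleton ↥(Φ.presheafFiber.obj F.obj) := AddCommGrpCat.subsingleton_of_isZero hz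
    obtain ⟨V, φ, e, hu⟩ := (SpPts86.germ_eq_iff X.property hp F.obj l σ 0).1 (@Subsingleton.elim _ hs _ _)
    exact h V φ (e.trans (map_zero (F.obj.map φ.op).hom)) (hv ▸ hu)

end Groth.Agent.S10256
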