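import Groth.Statements.S10257
import Groth.Agent.SpPts86.EtStalk

set_option autoImplicit false
universe u
open CategoryTheory CategoryTheory.Limits AlgebraicGeometry Topology TopologicalSpace
open AlgSp

namespace Groth.Agent.S10257

/-- Let X be an algebraic space over a scheme S and O' a sheaf of commutative rings on the small etale
site of X. Then the support of O', the set of points x ∈ |X| such that the stalk O'_x̄ is not the
zero ring for some geometric point x̄ over x, is closed in |X|. (The published definition of the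
support allows any, equivalently some, geometric point over x; this row uses the existential form
and does not assert that the two readings agree.) -/
theorem result {S : Scheme.{u}} (X : AlgSp.Space S)
    (O' : AlgSp.EtSh X.obj CommRingCat.{u + 1}) :
    IsClosed {x : AlgSp.Points X.obj |
      ∃ p : AlgSp.FieldPt X.obj, p.IsGeometric ∧ AlgSp.Points.mk p = x ∧ Nontrivial ↥(AlgSp.stalkEt p O')} := by
  rw [← isOpen_compl_iff]
  refine isOpen_iff_forall_mem_open.2 fun x hx => ?_
  obtain ⟨p, hp, rfl⟩ := SpPts86.exists_geometric_point X.property x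
  let Φ := SpPts86.etPoint p X.property hp
  have hs : Subsingleton ↥(Φ.presheafFiber.obj O'.obj) :=
    not_nontrivial_iff_subsingleton.1 fun hn => hx ⟨p, hp, rfl, hn⟩
  obtain ⟨⟨E, (l : (AlgSp.FieldPt.liftsTo p).obj E)⟩⟩ := Φ.isCofiltered.nonempty
  obtain ⟨V, g, e, hu⟩ := (SpPts86.germ_eq_iff X.property hp O'.obj l 1 0).1 (@Subsingleton.elim _ hs _ _)
  obtain ⟨w, hw⟩ := hu
  refine ⟨Set.range (AlgSp.Points.ofPt V.obj.hom), ?_, (SpPts86.isOpenMap_ofPt V.property).isOpen_range, w, ?_⟩
  · rintro _ ⟨t, rfl⟩ ⟨q, hq, hqx, hn⟩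
    obtain ⟨m, hm, -⟩ := SpPts86.exists_lift_of_etale V.property q hq t hqx.symm
    let Ψ := SpPts86.etPoint q X.property hq
    have h10 : (1 : ↥(Ψ.presheafFiber.obj O'.obj)) = 0 := by
      rw [← map_one (Ψ.toPresheafFiber V ⟨m, hm⟩ O'.obj).hom, ← map_zero (Ψ.toPresheafFiber V ⟨m, hm⟩ O'.obj).hom]
      rw [map_one, map_zero] at e
      exact congrArg _ e
    have : Nontrivial ↥(Ψ.presheafFiber.obj O'.obj) := hn
    exact one_ne_zero h10
  · rw [SpPts86.mk_eq_of_lift p l, ← hw, ← SpPts86.ofPt_comp, AlgSp.EtOver.w g]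

end Groth.Agent.S10257
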