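import Groth.Statements.S10260
import Groth.Agent.SpPts86.LqfSep
import Groth.Agent.SpFP87.EtLocInst

set_option autoImplicit false
universe u
open CategoryTheory CategoryTheory.Limits AlgebraicGeometry
open AlgSp Groth.Agent.SpFP87

namespace Groth.Agent.S10260

/-- A locally quasi-finite separated morphism of algebraic spaces is representable by schemes. -/
theorem result {S : Scheme.{u}} {X Y : AlgSp.Space S} (f : X ⟶ Y)
    (hqf : AlgSp.LocP (@LocallyQuasiFinite ⊓ @LocallyOfFiniteType) f.hom) (hsep : AlgSp.IsSeparatedMor f.hom) :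
    AlgSp.Representable f.hom := by
  refine Groth.Agent.SpPts86.representable_of_affine fun T _ g => ?_
  have sq := IsPullback.of_hasPullback f.hom g
  have hP := isAlgSpace_of_isPullback sq X.property (IsAlgSpace.yon_obj T) Y.property.diag
  obtain ⟨Z, ⟨e⟩⟩ := Groth.Agent.SpPts86.exists_iso_of_lqf_separated hP
    (f := pullback.snd f.hom g)
    ((repWith_isStableUnderBaseChange _).of_isPullback
      (Groth.Agent.SpPts86.isPullback_diagonal_baseChange sq) hsep)
    (Groth.Agent.SpFP87.locP_baseChange sq X.property Y.property (IsAlgSpace.yon_obj T) hqf)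
  obtain ⟨s, hs⟩ := (yon S).map_surjective (e.hom ≫ pullback.snd f.hom g)
  exact ⟨Z, s, e.hom ≫ pullback.fst f.hom g, IsPullback.of_iso sq e.symm (Iso.refl _) (Iso.refl _) (Iso.refl _)
    (by simp) (by simp [hs]) (by simp) (by simp)⟩

end Groth.Agent.S10260
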