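import Groth.Statements.S10261
import Groth.Agent.SpPts86.UnramDiag

set_option autoImplicit false
universe u
open CategoryTheory CategoryTheory.Limits AlgebraicGeometry
open AlgSp

namespace Groth.Agent.S10261

/-- An etale and universally injective morphism of algebraic spaces is an open immersion. -/
theorem result {S : Scheme.{u}} {X Y : AlgSp.Space S}
    (f : X ⟶ Y) (het : AlgSp.IsEtaleMor f.hom) (hinj : AlgSp.IsUnivInjectiveMor f.hom) :
    AlgSp.RepWith @IsOpenImmersion f.hom := by
  have key := Groth.Agent.SpPts86.locP_etale_of_isEtaleMor het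
  have hu : AlgSp.LocP (@LocallyOfFiniteType ⊓ @FormallyUnramified) f.hom :=
    Groth.Agent.SpFP87.LocP.of_le (fun _ _ g hg => by haveI := hg; exact ⟨inferInstance, inferInstance⟩) key
  have := Groth.Agent.SpPts86.isIso_diagonal_of_unramified_univInjective X.2 Y.2 hu hinj
  have : Mono f.hom := (pullback.isIso_diagonal_iff f.hom).1 this
  refine MorphismProperty.relative.of_exists fun T g => ?_
  have sq := IsPullback.of_hasPullback f.hom g
  have hQ := Groth.Agent.SpFP87.isAlgSpace_of_isPullback sq X.2 (IsAlgSpace.yon_obj T) Y.2.diag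
  have he : AlgSp.LocP @Etale (pullback.snd f.hom g) :=
    Groth.Agent.SpFP87.locP_baseChange sq X.2 Y.2 (IsAlgSpace.yon_obj T) key
  obtain ⟨Z, ⟨e⟩⟩ := Groth.Agent.SpPts86.exists_iso_of_mono hQ (pullback.snd f.hom g)
    (Groth.Agent.SpFP87.LocP.of_le (fun _ _ g hg => by haveI := hg; exact inferInstance) he)
  obtain ⟨s, hs⟩ := (yon S).map_surjective (e.hom ≫ pullback.snd f.hom g)
  refine ⟨Z, e.hom ≫ pullback.fst f.hom g, s,
    IsPullback.of_iso sq e.symm (Iso.refl _) (Iso.refl _) (Iso.refl _)
      (by simp) (by simp [hs]) (by simp) (by simp), ?_⟩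
  have hm : Mono ((yon S).map s) := by rw [hs]; infer_instance
  have : Mono s := (yon S).mono_of_mono_map hm
  have := Groth.Agent.SpPts86.mono_left_of_mono s
  have hE : RepWith @Etale e.hom := MorphismProperty.relative.of_exists fun A g => by
    obtain ⟨φ, hφ⟩ := (yon S).map_surjective (g ≫ e.inv)
    exact ⟨A, (yon S).map φ, 𝟙 A, IsPullback.of_vert_isIso ⟨by simp [hφ]⟩,
      (inferInstance : Etale (𝟙 A.left))⟩
  have : Etale s.left := Groth.Agent.SpPts86.locP_apply he hE hs.symm
  exact IsOpenImmersion.of_flat_of_mono s.left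

end Groth.Agent.S10261
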