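import Groth.Statements.S10266
import Groth.Agent.SpPts86.EtaleMor

set_option autoImplicit false
universe u
open CategoryTheory CategoryTheory.Limits AlgebraicGeometry
open AlgSp

namespace Groth.Agent.S10266

/-- A morphism of algebraic spaces that is locally of finite presentation, flat and unramified is etale. -/
theorem result {S : Scheme.{u}} {X Y : AlgSp.Space S} (f : X ⟶ Y)
    (h1 : AlgSp.LocP @LocallyOfFinitePresentation f.hom) (h2 : AlgSp.LocP @Flat f.hom)
    (h3 : AlgSp.LocP (@LocallyOfFiniteType ⊓ @FormallyUnramified) f.hom) :
    AlgSp.IsEtaleMor f.hom := by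
  refine Groth.Agent.SpPts86.isEtaleMor_of_locP_etale Y.2 fun U V a b h ha hb w => ?_
  have := h1 a b h ha hb w
  have := h2 a b h ha hb w
  have : FormallyUnramified h.left := (h3 a b h ha hb w).2
  exact Etale.of_formallyUnramified_of_flat _

end Groth.Agent.S10266
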