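import Groth.Statements.S10269
import Groth.Agent.SpPts86.FiniteCrit

set_option autoImplicit false
universe u
open CategoryTheory CategoryTheory.Limits AlgebraicGeometry
open AlgSp

namespace Groth.Agent.S10269

/-- A finite morphism of algebraic spaces is integral; an integral morphism locally of finite type is
finite. -/
theorem result {S : Scheme.{u}} {X Y : AlgSp.Space S} (f : X ⟶ Y) :
    (AlgSp.IsFiniteMor f.hom → AlgSp.IsIntegralMor f.hom) ∧
    (AlgSp.IsIntegralMor f.hom → AlgSp.LocP @LocallyOfFiniteType f.hom → AlgSp.IsFiniteMor f.hom) := by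
  have := SpPts86.lft_descends.{u}
  refine ⟨fun h => (SpPts86.isIntegralMor_iff f.hom).2 (SpPts86.repWith_mono
      (fun _ _ g hg => by have : IsFinite g := hg; exact inferInstance) ((SpPts86.isFiniteMor_iff f.hom).1 h)),
    fun h hl => ?_⟩
  have h' := (SpPts86.isIntegralMor_iff f.hom).1 h
  refine (SpPts86.isFiniteMor_iff f.hom).2 (SpPts86.repWith_le_inf (fun g h1 h2 =>
    (IsFinite.iff_isIntegralHom_and_locallyOfFiniteType g).2 ⟨h1, h2⟩) h'
    (SpFP87.repWith_of_locP Y.property h'.rep hl))

end Groth.Agent.S10269
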