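import Groth.Statements.S10272
import Groth.Agent.SpPts86.FiniteCrit
import Groth.Agent.SpPts86.ProperCrit

set_option autoImplicit false
universe u
open CategoryTheory CategoryTheory.Limits AlgebraicGeometry
open AlgSp

namespace Groth.Agent.S10272

/-- If g is separated and the composite of f and g is finite (resp. integral) then f is finite (resp.
integral). -/
theorem result {S : Scheme.{u}} {X Y Z : AlgSp.Space S} (f : X ⟶ Y) (g : Y ⟶ Z)
    (hg : AlgSp.IsSeparatedMor g.hom) :
    (AlgSp.IsFiniteMor (f ≫ g).hom → AlgSp.IsFiniteMor f.hom) ∧
    (AlgSp.IsIntegralMor (f ≫ g).hom → AlgSp.IsIntegralMor f.hom) := by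
  constructor
  · intro h
    have h' := (SpPts86.isFiniteMor_iff_affine_proper' _ X.property Z.property).1 h
    exact (SpPts86.isFiniteMor_iff_affine_proper' f.hom X.property Y.property).2
      ⟨SpPts86.isAffineMor_of_comp_separated hg h'.1,
        SpPts86.proper_over_separated X.property Y.property Z.property rfl hg h'.2⟩
  · intro h
    have h' := (SpPts86.isIntegralMor_iff_affine_univClosed' _ X.property Z.property).1 h
    exact (SpPts86.isIntegralMor_iff_affine_univClosed' f.hom X.property Y.property).2
      ⟨SpPts86.isAffineMor_of_comp_separated hg h'.1,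
        (SpPts86.univClosed_over_separated X.property Y.property Z.property rfl hg h'.2).1⟩

end Groth.Agent.S10272
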