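import Groth.Statements.S10273
import Groth.Agent.SpPts86.Proper
import Groth.Agent.S9903
import Groth.Agent.S9923

set_option autoImplicit false
universe u
open CategoryTheory CategoryTheory.Limits AlgebraicGeometry
open AlgSp

namespace Groth.Agent.S10273

/-- (1) ⇔ (3): properness of a morphism of algebraic spaces can be tested after base change to affine
schemes over the target. -/
theorem result {S : Scheme.{u}} {X Y : AlgSp.Space S} (f : X ⟶ Y) :
    AlgSp.IsProperMor f.hom ↔
      ∀ (Z : Over S), IsAffine Z.left → ∀ (g : (AlgSp.yon S).obj Z ⟶ Y.obj) (P : AlgSp.Sp S) (fst : P ⟶ X.obj)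
        (snd : P ⟶ (AlgSp.yon S).obj Z), IsPullback fst snd f.hom g → AlgSp.IsProperMor snd := by
  refine ⟨fun h Z _ g P fst snd sq =>
    SpPts86.isProperMor_baseChange X.property Y.property (AlgSp.IsAlgSpace.yon_obj Z) h sq, fun h => ?_⟩
  refine ⟨(S9903.result f).1.2 fun Z hZ g P fst snd sq => (h Z hZ g P fst snd sq).1,
    SpPts86.isFiniteTypeMor_of_affine X.property Y.property fun T hT g W fst snd sq => (h T hT g W fst snd sq).2.1,
    (S9923.result f).2 fun Z hZ g P fst snd sq => ?_⟩
  exact (h Z hZ g P fst snd sq).2.2 (AlgSp.IsAlgSpace.yon_obj Z) (𝟙 _) (𝟙 _) snd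
    (IsPullback.of_horiz_isIso ⟨by simp⟩)

end Groth.Agent.S10273
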