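import Groth.Statements.S10274
import Groth.Agent.SpPts86.Proper
import Groth.Agent.S9904
import Groth.Agent.S9924
import Groth.Agent.SpPts86.EtaleMor
import Groth.Agent.SpFP87.FpqcBase
import Groth.Agent.S9918

set_option autoImplicit false
universe u
open CategoryTheory CategoryTheory.Limits AlgebraicGeometry
open AlgSp

namespace Groth.Agent.S10274

/-- (4) ⇒ (1): properness of a morphism of algebraic spaces descends along a surjective etale base
change from a scheme. -/
theorem result {S : Scheme.{u}} {X Y : AlgSp.Space S} (f : X ⟶ Y) (V : Over S)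
    (p : (AlgSp.yon S).obj V ⟶ Y.obj) (hp : AlgSp.RepWith @Etale p) (hps : AlgSp.RepWith @Surjective p)
    {P : AlgSp.Sp S} (fst : P ⟶ X.obj) (snd : P ⟶ (AlgSp.yon S).obj V) (sq : IsPullback fst snd f.hom p)
    (h : AlgSp.IsProperMor snd) : AlgSp.IsProperMor f.hom := by
  have hP : AlgSp.IsAlgSpace P :=
    SpFP87.isAlgSpace_of_isPullback sq X.property (AlgSp.IsAlgSpace.yon_obj V) Y.property.diag
  refine ⟨(S9904.result f V p hp hps fst snd sq).1 h.1,
    ⟨SpFP87.locP_of_atlas_baseChange sq X.property Y.property hp hps h.2.1.1, ?_⟩,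
    S9924.result f V p hp hps fst snd sq h.2.2⟩
  exact S9918.result (Y' := ⟨(AlgSp.yon S).obj V, AlgSp.IsAlgSpace.yon_obj V⟩) (X' := ⟨P, hP⟩)
    f ⟨p⟩ ⟨fst⟩ ⟨snd⟩ sq (SpPts86.isEtaleMor_of_repWith_etale hp)
    (SpPts86.isSurjectiveMor_of_repWith hps) h.2.1.2

end Groth.Agent.S10274
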