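import Groth.Statements.S10280
import Groth.Agent.SpPts86.ProperCrit
import Groth.Agent.S10277

set_option autoImplicit false
universe u
open CategoryTheory CategoryTheory.Limits AlgebraicGeometry
open AlgSp

namespace Groth.Agent.S10280

/-- F is separated if and only if its diagonal is universally closed, if and only if its diagonal is
proper. -/
theorem result {S : Scheme.{u}} {X Y : AlgSp.Space S} (f : X ⟶ Y) :
    (AlgSp.IsSeparatedMor f.hom ↔ AlgSp.IsUnivClosedMor (pullback.diagonal f.hom)) ∧
    (AlgSp.IsSeparatedMor f.hom ↔ AlgSp.IsProperMor (pullback.diagonal f.hom)) := by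
  have hP : AlgSp.IsAlgSpace (pullback f.hom f.hom) :=
    SpFP87.isAlgSpace_of_isPullback (IsPullback.of_hasPullback f.hom f.hom) X.property X.property Y.property.diag
  have fwd : AlgSp.IsSeparatedMor f.hom → AlgSp.IsProperMor (pullback.diagonal f.hom) := fun h =>
    S10277.result (X := X) (Y := ⟨_, hP⟩) ⟨pullback.diagonal f.hom⟩ h
  exact ⟨⟨fun h => (fwd h).2.2, SpPts86.isSeparatedMor_of_diag_univClosed X.property Y.property⟩,
    ⟨fwd, fun h => SpPts86.isSeparatedMor_of_diag_univClosed X.property Y.property h.2.2⟩⟩

end Groth.Agent.S10280
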