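import Groth.Statements.S9958
import Groth.Agent.SpPts86.LocPMore

set_option autoImplicit false
universe u
open CategoryTheory CategoryTheory.Limits AlgebraicGeometry
open AlgSp

namespace Groth.Agent.S9958

/-- Over a locally Noetherian algebraic space, locally of finite type implies locally of finite
presentation. -/
theorem result {S : Scheme.{u}} {X Y : AlgSp.Space S} (f : X ⟶ Y)
    (hY : AlgSp.IsLocNoethSp Y.obj) (hf : AlgSp.LocP @LocallyOfFiniteType f.hom) :
    AlgSp.LocP @LocallyOfFinitePresentation f.hom := by
  obtain ⟨V, b, hb, hbs, hV⟩ := hY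
  obtain ⟨U, a, k, ha, has, w⟩ := SpFP87.exists_compatible_chart f.hom X.property Y.property.diag hb hbs
  have : LocallyOfFiniteType k.left := hf a b k ha hb w
  exact SpFP87.locP_of_chart X.property.diag Y.property.diag ha has hb w (SpPts86.lfp_of_lft k.left)

end Groth.Agent.S9958
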