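import Groth.Statements.S10294
import Groth.Agent.SpPts86.FiniteCrit
import Groth.Agent.S9958

set_option autoImplicit false
universe u
open CategoryTheory CategoryTheory.Limits AlgebraicGeometry
open AlgSp

namespace Groth.Agent.S10294

/-- Finite locally free is the same as finite, flat and locally of finite presentation; over a locally
Noetherian target it is the same as finite and flat. -/
theorem result {S : Scheme.{u}} {X Y : AlgSp.Space S} (f : X ⟶ Y) :
    (AlgSp.IsFinLocFreeMor f.hom ↔
      (AlgSp.IsFiniteMor f.hom ∧ AlgSp.LocP @Flat f.hom ∧ AlgSp.LocP @LocallyOfFinitePresentation f.hom)) ∧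
    (AlgSp.IsLocNoethSp Y.obj →
      (AlgSp.IsFinLocFreeMor f.hom ↔ (AlgSp.IsFiniteMor f.hom ∧ AlgSp.LocP @Flat f.hom))) := by
  have := SpPts86.flat_descends.{u}
  have := SpPts86.lfp_descends.{u}
  have key : AlgSp.IsFinLocFreeMor f.hom ↔ (AlgSp.IsFiniteMor f.hom ∧ AlgSp.LocP @Flat f.hom ∧
      AlgSp.LocP @LocallyOfFinitePresentation f.hom) := by
    constructor
    · intro h
      exact ⟨(SpPts86.isFiniteMor_iff f.hom).2 (SpPts86.repWith_mono (fun _ _ g hg => hg.1) h),
        SpFP87.locP_of_repWith X.property.diag Y.property (SpPts86.repWith_mono (fun _ _ g hg => hg.2.1) h),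
        SpFP87.locP_of_repWith X.property.diag Y.property (SpPts86.repWith_mono (fun _ _ g hg => hg.2.2) h)⟩
    · rintro ⟨h1, h2, h3⟩
      have h' := (SpPts86.isFiniteMor_iff f.hom).1 h1
      exact ⟨h'.rep, fun _ _ g p s sq => ⟨h'.property g p s sq,
        (SpFP87.repWith_of_locP Y.property h'.rep h2).property g p s sq,
        (SpFP87.repWith_of_locP Y.property h'.rep h3).property g p s sq⟩⟩
  refine ⟨key, fun hY => ⟨fun h => ⟨(key.1 h).1, (key.1 h).2.1⟩, fun h => key.2 ⟨h.1, h.2, ?_⟩⟩⟩
  exact S9958.result f hY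
    ((SpPts86.isFiniteMor_iff_affine_proper' f.hom X.property Y.property).1 h.1).2.2.1.1

end Groth.Agent.S10294
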