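import Groth.Statements.S10295
import Groth.Agent.SpFP87.NormExists

set_option autoImplicit false
universe u
open CategoryTheory CategoryTheory.Limits AlgebraicGeometry
open AlgSp

namespace Groth.Agent.S10295

/-- A quasi-compact quasi-separated morphism Y -> X of algebraic spaces factors through an integral
morphism X' -> X which is initial among factorizations through integral morphisms from algebraic
spaces. -/
theorem result {S : Scheme.{u}} {Y X : AlgSp.Space S} (f : Y ⟶ X)
    (hqc : AlgSp.IsQuasiCompactMor f.hom) (hqs : AlgSp.IsQuasiSeparatedMor f.hom) :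
    ∃ (X' : AlgSp.Space S) (ν : X' ⟶ X) (f' : Y ⟶ X'), AlgSp.IsRelNormalization f.hom ν.hom f'.hom := by
  obtain ⟨X', ν, f', hX', hn, -⟩ := SpFP87.exists_normalization_smoothUniv X.property Y.property f.hom hqc hqs
  exact ⟨⟨X', hX'⟩, ⟨ν⟩, ⟨f'⟩, hn⟩

end Groth.Agent.S10295
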