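import Groth.Statements.S10301
import Groth.Agent.SpPts86.UnivTop
import Groth.Agent.SpPts86.UnivInj
import Groth.Agent.SpPts86.Basic

set_option autoImplicit false
universe u
open CategoryTheory CategoryTheory.Limits AlgebraicGeometry
open AlgSp

namespace Groth.Agent.S10301

/-- For a representable morphism of algebraic spaces, being a universal homeomorphism in the
representable sense agrees with inducing homeomorphisms on points after every base change. -/
theorem result {S : Scheme.{u}} {X Y : AlgSp.Space S} (f : X ⟶ Y)
    (hf : AlgSp.Representable f.hom) :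
    AlgSp.RepWith FlatMor.IsUnivHomeo f.hom ↔ AlgSp.IsUnivHomeoMor f.hom := by
  have uo : FlatMor.IsUnivHomeo ≤ (@UniversallyOpen : MorphismProperty Scheme.{u}) := fun _ _ g hg => by
    rw [UniversallyOpen.eq]
    exact MorphismProperty.universally_mono (fun _ _ _ h => h.isOpenMap) _ hg
  have ui : FlatMor.IsUnivHomeo ≤ (@UniversallyInjective : MorphismProperty Scheme.{u}) := fun _ _ g hg =>
    ⟨MorphismProperty.universally_mono (fun _ _ _ h => h.bijective.injective) _ hg⟩
  constructor
  · intro h Z Z' hZ g fst snd sq
    have h' := (AlgSp.repWith_isStableUnderBaseChange _).of_isPullback sq h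
    refine ⟨AlgSp.Points.continuous_map snd,
      SpPts86.isOpenMap_map_of_repWith (SpPts86.repWith_mono uo h'),
      SpPts86.injective_map_of_repWith (SpPts86.repWith_mono ui h'), fun y => ?_⟩
    obtain ⟨T, k, t, rfl, -⟩ := SpPts86.exists_ofPt_eq y
    obtain ⟨V, s, p, sqV⟩ := h'.rep k
    have hs : IsHomeomorph s.left := MorphismProperty.universally_le _ _ (h'.property k p s sqV)
    obtain ⟨v, rfl⟩ := hs.bijective.surjective t
    exact ⟨_, SpPts86.map_ofPt_fst sqV v⟩
  · intro h
    refine ⟨hf, fun T V g p s sq => ?_⟩
    refine SpPts86.universally_of_repr (R := AlgebraicGeometry.topologically fun f => IsHomeomorph f)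
      (f := f.hom) ?_ sq
    intro T' V' g p s sq'
    have h1 : IsHomeomorph (AlgSp.Points.map ((AlgSp.yon S).map s)) :=
      h (AlgSp.IsAlgSpace.yon_obj T') g p _ sq'
    have h2 := ((AlgSp.Points.schemeHomeo T').symm.isHomeomorph.comp h1).comp
      (AlgSp.Points.schemeHomeo V').isHomeomorph
    show IsHomeomorph s.left
    convert h2 using 1
    funext t
    simp only [Function.comp_apply, AlgSp.Points.map_yon_map_eq, Homeomorph.symm_apply_apply]

end Groth.Agent.S10301
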