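import Groth.Statements.S10304
import Groth.Agent.SpPts86.LocFinComp

set_option autoImplicit false
universe u
open CategoryTheory CategoryTheory.Limits AlgebraicGeometry
open AlgSp

namespace Groth.Agent.S10304

/-- Equivalent forms of the condition that the schemes etale over X have locally finitely many
irreducible components: one etale surjective chart, every etale chart, finiteness of codimension-0
points of quasi-compact spaces etale over X, finiteness of irreducible components of such spaces. -/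
theorem result {S : Scheme.{u}} (X : AlgSp.Space S) :
    (AlgSp.EtaleLocally (fun U => ∀ W : U.Opens, IsCompact (W : Set ↥U) → (irreducibleComponents ↥W).Finite) X.obj ↔
      ∀ (U : Over S) (a : (AlgSp.yon S).obj U ⟶ X.obj), AlgSp.RepWith @Etale a →
        ∀ W : U.left.Opens, IsCompact (W : Set ↥U.left) → (irreducibleComponents ↥W).Finite) ∧
    (AlgSp.EtaleLocally (fun U => ∀ W : U.Opens, IsCompact (W : Set ↥U) → (irreducibleComponents ↥W).Finite) X.obj ↔
      ∀ (Y : AlgSp.Space S) (g : Y ⟶ X), AlgSp.IsEtaleMor g.hom → AlgSp.IsQuasiCompactSp Y.obj →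
        {y : AlgSp.Points Y.obj |
          AlgSp.HasAt (fun U u => ringKrullDim ↥(U.presheaf.stalk u) = 0) Y.obj y}.Finite) ∧
    (AlgSp.EtaleLocally (fun U => ∀ W : U.Opens, IsCompact (W : Set ↥U) → (irreducibleComponents ↥W).Finite) X.obj ↔
      ∀ (Y : AlgSp.Space S) (g : Y ⟶ X), AlgSp.IsEtaleMor g.hom → AlgSp.IsQuasiCompactSp Y.obj →
        (irreducibleComponents (AlgSp.Points Y.obj)).Finite) := by
  have fwd : AlgSp.EtaleLocally (fun U => ∀ W : U.Opens, IsCompact (W : Set ↥U) → (irreducibleComponents ↥W).Finite) X.obj →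
      ∀ (Y : AlgSp.Space S) (g : Y ⟶ X), AlgSp.IsEtaleMor g.hom → AlgSp.IsQuasiCompactSp Y.obj →
        ∃ (U : Over S) (p : (AlgSp.yon S).obj U ⟶ Y.obj), AlgSp.RepWith @Etale p ∧
          AlgSp.RepWith @Surjective p ∧ (irreducibleComponents ↥U.left).Finite := by
    rintro h Y g hg ⟨U, p, hp, hps, hU⟩
    exact ⟨U, p, hp, hps, (SpPts86.locFinComp_chart X.property h (hg p hp)).finite_top⟩
  have back : ∀ Q : AlgSp.Space S → Prop,
      (∀ T : Over S, Q ⟨(AlgSp.yon S).obj T, AlgSp.IsAlgSpace.yon_obj T⟩ → (irreducibleComponents ↥T.left).Finite) →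
      (∀ (Y : AlgSp.Space S) (g : Y ⟶ X), AlgSp.IsEtaleMor g.hom → AlgSp.IsQuasiCompactSp Y.obj → Q Y) →
        ∀ (U : Over S) (a : (AlgSp.yon S).obj U ⟶ X.obj), AlgSp.RepWith @Etale a →
          ∀ W : U.left.Opens, IsCompact (W : Set ↥U.left) → (irreducibleComponents ↥W).Finite := by
    intro Q hQ H U a ha W hW
    let T : Over S := Over.mk (W.ι ≫ U.hom)
    let i : T ⟶ U := Over.homMk W.ι rfl
    have : CompactSpace ↥T.left := isCompact_iff_compactSpace.1 hW
    have : Etale i.left := inferInstanceAs (Etale W.ι)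
    exact hQ T (H _ (ObjectProperty.homMk ((AlgSp.yon S).map i ≫ a))
      (SpPts86.isEtaleMor_of_repWith_etale (SpPts86.repWith_etale_comp i ha)) (SpPts86.isQuasiCompactSp_yon T))
  have toLoc : (∀ (U : Over S) (a : (AlgSp.yon S).obj U ⟶ X.obj), AlgSp.RepWith @Etale a →
      ∀ W : U.left.Opens, IsCompact (W : Set ↥U.left) → (irreducibleComponents ↥W).Finite) →
      AlgSp.EtaleLocally (fun U => ∀ W : U.Opens, IsCompact (W : Set ↥U) → (irreducibleComponents ↥W).Finite) X.obj :=
    fun H => by
      obtain ⟨U, a, ha, has⟩ := X.property.atlas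
      exact ⟨U, a, ha, has, H U a ha⟩
  refine ⟨⟨fun h U a ha => SpPts86.locFinComp_chart X.property h ha, toLoc⟩,
    ⟨fun h Y g hg hq => ?_, fun H => toLoc (back (fun Y => {y : AlgSp.Points Y.obj |
      AlgSp.HasAt (fun U u => ringKrullDim ↥(U.presheaf.stalk u) = 0) Y.obj y}.Finite) (fun T hT => ?_) H)⟩,
    ⟨fun h Y g hg hq => ?_, fun H => toLoc (back (fun Y => (irreducibleComponents (AlgSp.Points Y.obj)).Finite)
      (fun T hT => ?_) H)⟩⟩
  · obtain ⟨U, p, hp, hps, hU⟩ := fwd h Y g hg hq
    exact SpPts86.finite_codimZero_points Y.property hp hps hU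
  · refine SpPts86.finite_irreducibleComponents_of_finite_max ?_
    refine Set.Finite.of_finite_image (f := AlgSp.Points.ofScheme T) (hT.subset ?_)
      (AlgSp.Points.schemeHomeo T).injective.injOn
    rintro _ ⟨t, ht, rfl⟩
    refine ⟨T, 𝟙 _, t, AlgSp.repWith_id _ T, ?_, (SpFP87.dim_stalk_eq_zero_iff t).2 ht⟩
    rw [AlgSp.Points.ofPt_eq_map_ofScheme, AlgSp.Points.map_id]
  · obtain ⟨U, p, hp, hps, hU⟩ := fwd h Y g hg hq
    exact SpPts86.finite_irreducibleComponents_of_surjective (AlgSp.Points.continuous_ofPt p)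
      (SpPts86.surjective_ofPt hps) hU
  · exact SpPts86.finite_irreducibleComponents_of_surjective
      (AlgSp.Points.schemeHomeo T).symm.continuous (AlgSp.Points.schemeHomeo T).symm.surjective hT

end Groth.Agent.S10304
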