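import Groth.Statements.S10310
import Groth.Agent.SpPts86.RelDim

set_option autoImplicit false
universe u
open CategoryTheory CategoryTheory.Limits AlgebraicGeometry
open AlgSp

namespace Groth.Agent.S10310

/-- A morphism locally of finite type is locally quasi-finite if and only if it has relative dimension 0
at every point. -/
theorem result {S : Scheme.{u}} {X Y : AlgSp.Space S} (f : X ⟶ Y)
    (hf : AlgSp.LocP @LocallyOfFiniteType f.hom) :
    AlgSp.LocP (@LocallyQuasiFinite ⊓ @LocallyOfFiniteType) f.hom ↔
      ∀ x : AlgSp.Points X.obj, AlgSp.HasAtMor (fun _ _ h u => FlatMor.fibreDimAt h u = 0) f.hom x := by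
  refine ⟨fun H x => ?_, fun H U V a b h ha hb w => ⟨?_, hf a b h ha hb w⟩⟩
  · obtain ⟨U, V, a, b, h, u, ha, hb, w, hu⟩ := SpPts86.exists_diagram_through X.property Y.property f.hom x
    obtain ⟨_, _⟩ := H a b h ha hb w
    exact ⟨U, V, a, b, h, u, ha, hb, w, hu, SpPts86.fibreDimAt_eq_zero_of_lqf h.left u⟩
  · have := hf a b h ha hb w
    exact SpPts86.locallyQuasiFinite_of_fibreDimAt h.left fun u =>
      SpPts86.forall_diagram_of_hasAtMor X.property Y.property (SpPts86.etInv_fibreDim (· = 0))
        (H (Points.ofPt a u)) ha hb w rfl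

end Groth.Agent.S10310
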