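import Groth.Statements.S10312
import Groth.Agent.SpPts86.UnramLocusBC

set_option autoImplicit false
universe u
open CategoryTheory CategoryTheory.Limits AlgebraicGeometry
open AlgSp

namespace Groth.Agent.S10312

/-- For X -> Y over Z with X -> Z locally of finite type, the locus where X -> Y is unramified is an
open subset of |X| whose formation commutes with base change along any Z' -> Z. -/
theorem result {S : Scheme.{u}} {X Y Z Z' Y' X' : AlgSp.Space S} (f : X ⟶ Y)
    (p : X ⟶ Z) (q : Y ⟶ Z) (comm : f ≫ q = p) (hp : AlgSp.LocP @LocallyOfFiniteType p.hom) (g : Z' ⟶ Z)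
    (a : Y' ⟶ Y) (q' : Y' ⟶ Z') (sq1 : IsPullback a.hom q'.hom q.hom g.hom)
    (b : X' ⟶ X) (f' : X' ⟶ Y') (sq2 : IsPullback b.hom f'.hom f.hom a.hom) :
    IsOpen {x : AlgSp.Points X.obj | AlgSp.HasAtMor (fun U _ h u => ∃ W : U.Opens, u ∈ W ∧ LocallyOfFiniteType (W.ι ≫ h) ∧ FormallyUnramified (W.ι ≫ h)) f.hom x} ∧
    {x' : AlgSp.Points X'.obj | AlgSp.HasAtMor (fun U _ h u => ∃ W : U.Opens, u ∈ W ∧ LocallyOfFiniteType (W.ι ≫ h) ∧ FormallyUnramified (W.ι ≫ h)) f'.hom x'} =
      AlgSp.Points.map b.hom ⁻¹' {x : AlgSp.Points X.obj | AlgSp.HasAtMor (fun U _ h u => ∃ W : U.Opens, u ∈ W ∧ LocallyOfFiniteType (W.ι ≫ h) ∧ FormallyUnramified (W.ι ≫ h)) f.hom x} := by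
  have hf : AlgSp.LocP @LocallyOfFiniteType f.hom := by
    obtain ⟨W, c, hc, hcs⟩ := Z.property.atlas
    obtain ⟨V, v, k, hv, hvs, wv⟩ := SpFP87.exists_compatible_chart q.hom Y.property Z.property.diag hc hcs
    obtain ⟨U, t, h, ht, hts, wt⟩ := SpFP87.exists_compatible_chart f.hom X.property Y.property.diag hv hvs
    refine SpFP87.locP_of_chart X.property.diag Y.property.diag ht hts hv wt ?_
    have hp' : LocallyOfFiniteType (h ≫ k).left := hp t c (h ≫ k) ht hc (by
      rw [← comm]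
      show t ≫ f.hom ≫ q.hom = _
      rw [← Category.assoc, wt, Category.assoc, wv, Functor.map_comp, Category.assoc])
    have : LocallyOfFiniteType (h.left ≫ k.left) := by rwa [← Over.comp_left]
    exact locallyOfFiniteType_of_comp h.left k.left
  refine ⟨isOpen_iff_forall_mem_open.2 fun x hx => ?_, Set.ext fun x' => ?_⟩
  · obtain ⟨U, V, t, v, h, u, ht, hv, w, rfl, W, hu, hW⟩ := hx
    refine ⟨Points.ofPt t '' (W : Set ↥U.left), ?_, SpPts86.isOpenMap_ofPt ht _ W.isOpen, ⟨u, hu, rfl⟩⟩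
    rintro _ ⟨s, hs, rfl⟩
    exact ⟨U, V, t, v, h, s, ht, hv, w, rfl, W, hs, hW⟩
  · exact SpPts86.hasAtMor_baseChange_iff @LocallyOfFiniteType
      (SpPts86.etInv_nearPt (@LocallyOfFiniteType ⊓ @FormallyUnramified : MorphismProperty Scheme.{u}))
      (fun p q f g sq hf u => SpPts86.nearPt_unramified_baseChange_iff p q f g sq hf u)
      sq2 X.property Y.property Y'.property hf x'

end Groth.Agent.S10312
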