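import Groth.Statements.S10313
import Groth.Agent.SpPts86.RelDim
import Groth.Agent.SpPts86.HasAtMorBC
import Groth.Agent.SpPts86.LocPNear
import Groth.Agent.S10308

set_option autoImplicit false
universe u
open CategoryTheory CategoryTheory.Limits AlgebraicGeometry
open AlgSp

namespace Groth.Agent.S10313

/-- For f locally of finite type there is an open subspace of X on which f is locally quasi-finite,
outside of which the relative dimension is at least 1, and whose formation commutes with base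
change. -/
theorem result {S : Scheme.{u}} {X Y : AlgSp.Space S} (f : X ⟶ Y)
    (hf : AlgSp.LocP @LocallyOfFiniteType f.hom) :
    ∃ (X' : AlgSp.Space S) (j : X' ⟶ X), AlgSp.RepWith @IsOpenImmersion j.hom ∧
      AlgSp.LocP (@LocallyQuasiFinite ⊓ @LocallyOfFiniteType) (j ≫ f).hom ∧
      (∀ x : AlgSp.Points X.obj, x ∉ Set.range (AlgSp.Points.map j.hom) →
        AlgSp.HasAtMor (fun _ _ h u => 1 ≤ FlatMor.fibreDimAt h u) f.hom x) ∧
      ∀ (Y'' X'' : AlgSp.Space S) (g : Y'' ⟶ Y) (b : X'' ⟶ X) (f'' : X'' ⟶ Y''),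
        IsPullback b.hom f''.hom f.hom g.hom → ∀ x'' : AlgSp.Points X''.obj,
          AlgSp.Points.map b.hom x'' ∈ Set.range (AlgSp.Points.map j.hom) ↔ AlgSp.HasAtMor (fun U _ h u => ∃ W : U.Opens, u ∈ W ∧ LocallyQuasiFinite (W.ι ≫ h) ∧ LocallyOfFiniteType (W.ι ≫ h)) f''.hom x'' := by
  let O : Set (AlgSp.Points X.obj) := {x | AlgSp.HasAtMor
    (fun _ _ h u => FlatMor.fibreDimAt h u ≤ ((0 : ℕ) : WithBot ℕ∞)) f.hom x}
  have hO : IsOpen O := S10308.result f hf 0
  let X' : AlgSp.Space S := ⟨SpPts86.restrictSheaf X.obj O, SpPts86.isAlgSpace_restrictSheaf X.property hO⟩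
  let j : X' ⟶ X := ObjectProperty.homMk (SpPts86.restrictι X.obj O)
  have hj : AlgSp.RepWith @IsOpenImmersion j.hom := SpPts86.repWith_restrictι hO
  have hr : Set.range (AlgSp.Points.map j.hom) = O := SpPts86.range_map_restrictι hO
  have hje : AlgSp.RepWith @Etale j.hom :=
    SpPts86.repWith_mono (fun _ _ g (_ : IsOpenImmersion g) => (inferInstance : Etale g)) hj
  refine ⟨X', j, hj, fun U V a b h ha hb w => ?_, fun x hx => ?_, fun Y'' X'' g b f'' sq x'' => ?_⟩
  · have ha' := SpPts86.isEtaleMor_of_repWith_etale hje a ha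
    have w' : (a ≫ j.hom) ≫ f.hom = (yon S).map h ≫ b := by rw [Category.assoc]; exact w
    have := hf (a ≫ j.hom) b h ha' hb w'
    refine ⟨SpPts86.locallyQuasiFinite_of_fibreDimAt h.left fun u => ?_, this⟩
    have hm : Points.ofPt (a ≫ j.hom) u ∈ O := by
      rw [← hr]
      exact ⟨Points.ofPt a u, by rw [Points.map_ofPt]⟩
    have h0 : FlatMor.fibreDimAt h.left u ≤ ((0 : ℕ) : WithBot ℕ∞) :=
      SpPts86.forall_diagram_of_hasAtMor X.property Y.property
        (Q := fun _ _ h u => FlatMor.fibreDimAt h u ≤ ((0 : ℕ) : WithBot ℕ∞))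
        (SpPts86.etInv_fibreDim (· ≤ ((0 : ℕ) : WithBot ℕ∞))) hm ha' hb w' rfl
    obtain ⟨z, -, -, hz, -⟩ := E4O.exists_fibreDimAt_eq h.left u
    rw [hz, Nat.cast_le] at h0
    rw [hz, Nat.le_zero.1 h0]
    rfl
  · rw [hr] at hx
    obtain ⟨U, V, a, b, h, u, ha, hb, w, hu⟩ := SpPts86.exists_diagram_through X.property Y.property f.hom x
    refine ⟨U, V, a, b, h, u, ha, hb, w, hu, ?_⟩
    have := hf a b h ha hb w
    obtain ⟨z, -, -, hz, -⟩ := E4O.exists_fibreDimAt_eq h.left u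
    show (1 : WithBot ℕ∞) ≤ _
    rw [hz]
    have : E4O.fdeg h.left z ≠ 0 := fun e => hx ⟨U, V, a, b, h, u, ha, hb, w, hu, by
      show FlatMor.fibreDimAt h.left u ≤ _
      rw [hz, e]⟩
    exact_mod_cast Nat.one_le_iff_ne_zero.2 this
  · have hf'' : AlgSp.LocP @LocallyOfFiniteType f''.hom :=
      SpFP87.locP_baseChange sq X.property Y.property Y''.property hf
    rw [hr]
    refine (SpPts86.hasAtMor_fibreDim_baseChange (· ≤ ((0 : ℕ) : WithBot ℕ∞)) sq X.property Y.property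
      Y''.property hf x'').symm.trans ⟨?_, ?_⟩
    · rintro ⟨U, V, a, b, h, u, ha, hb, w, hu, hd⟩
      have := hf'' a b h ha hb w
      exact ⟨U, V, a, b, h, u, ha, hb, w, hu, (SpPts86.nearPt_lqf_iff h.left u).2 hd⟩
    · rintro ⟨U, V, a, b, h, u, ha, hb, w, hu, hd⟩
      have := hf'' a b h ha hb w
      exact ⟨U, V, a, b, h, u, ha, hb, w, hu, (SpPts86.nearPt_lqf_iff h.left u).1 hd⟩

end Groth.Agent.S10313
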