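import Groth.Statements.S9359
import Groth.Agent.FlatMor68.FibreStalk
import Groth.Agent.VarGal.LocalDim
import Groth.Agent.TopDim50.Basic
import Groth.Agent.Ega11.SchemeDimFormula
import Mathlib.AlgebraicGeometry.Properties
import Mathlib.AlgebraicGeometry.Morphisms.UniversallyOpen
import Mathlib.AlgebraicGeometry.Morphisms.Flat
import Mathlib.RingTheory.Ideal.GoingDown

set_option autoImplicit false
universe u
open FibDim

namespace Groth.Agent.S9359

section
open AlgebraicGeometry CategoryTheory IsLocalRing TopologicalSpace Order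

variable {X Y : Scheme.{u}}

theorem dim_opens (U : X.Opens) :
    topologicalKrullDim (U : Set X) = ⨆ z : U, ringKrullDim (X.presheaf.stalk z.1) := by
  refine le_antisymm ?_ (iSup_le fun z => ?_)
  · rw [show topologicalKrullDim (U : Set X) = topologicalKrullDim (U : Scheme.{u}) from rfl,
      topologicalKrullDim, Order.krullDim_eq_of_orderIso irreducibleSetEquivPoints]
    refine iSup_le fun l => ?_
    refine le_trans ?_ (le_iSup (fun z : U => ringKrullDim (X.presheaf.stalk z.1)) l.head)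
    refine le_trans (WithBot.coe_le_coe.mpr (Order.length_le_coheight_head (p := l))) ?_
    rw [← coheight_eq_of_isOpenImmersion U.ι (x := l.head), ← ringKrullDim_stalk_eq_coheight]
    exact le_rfl
  · rw [show topologicalKrullDim (U : Set X) = topologicalKrullDim (U : Scheme.{u}) from rfl,
      topologicalKrullDim, Order.krullDim_eq_of_orderIso irreducibleSetEquivPoints,
      ringKrullDim_stalk_eq_coheight, show z.1 = U.ι z from rfl, coheight_eq_of_isOpenImmersion]
    exact Order.coheight_le_krullDim _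

theorem dim_stalk_eq_add [IsLocallyNoetherian X] [IsLocallyNoetherian Y] (f : X ⟶ Y) [Flat f]
    (y : Y) (z : f.fiber y) :
    ringKrullDim (X.presheaf.stalk (f.fiberι y z)) =
      ringKrullDim (Y.presheaf.stalk (f (f.fiberι y z))) +
        ringKrullDim ((f.fiber y).presheaf.stalk z) := by
  rw [← ringKrullDim_eq_of_ringEquiv (Groth.Agent.FlatMor68.FibreStalk.fibreStalkEquiv f y z)]
  algebraize [(f.stalkMap (f.fiberι y z)).hom]
  let R := Y.presheaf.stalk (f (f.fiberι y z))
  let S := X.presheaf.stalk (f.fiberι y z)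
  have : Module.Flat R S := Flat.stalkMap f _
  let p := maximalIdeal R
  let P := maximalIdeal S
  let φ := (f.stalkMap (f.fiberι y z)).hom
  have hcomap : P.comap φ = p := maximalIdeal_comap φ
  have : P.LiesOver p := ⟨hcomap.symm⟩
  rw [← maximalIdeal_height_eq_ringKrullDim (R := S), ← maximalIdeal_height_eq_ringKrullDim (R := R),
    Ideal.height_eq_height_add_of_liesOver_of_hasGoingDown p P]
  have hle : p.map φ ≤ P := Ideal.map_le_iff_le_comap.mpr hcomap.ge
  have : Nontrivial (S ⧸ p.map φ) :=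
    Ideal.Quotient.nontrivial_iff.mpr fun h => (maximalIdeal.isMaximal S).ne_top (top_le_iff.mp (h ▸ hle))
  have : IsLocalRing (S ⧸ p.map φ) :=
    IsLocalRing.of_surjective' (Ideal.Quotient.mk _) Ideal.Quotient.mk_surjective
  have hP : P.map (Ideal.Quotient.mk (p.map φ)) = maximalIdeal (S ⧸ p.map φ) :=
    IsLocalRing.map_maximalIdeal_of_surjective (Ideal.Quotient.mk _) Ideal.Quotient.mk_surjective
  rw [WithBot.coe_add]
  congr 1
  rw [← maximalIdeal_height_eq_ringKrullDim (R := S ⧸ p.map φ), ← hP]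
  rfl

theorem fibre_stalk_le (f : X ⟶ Y) {d : ℕ} {y : Y}
    (hd : ∀ T ∈ irreducibleComponents ↥(f.fiber y), topologicalKrullDim T = d) (z : f.fiber y) :
    ringKrullDim ((f.fiber y).presheaf.stalk z) ≤ (d : WithBot ℕ∞) := by
  refine le_trans ?_ (le_of_eq_of_le (TopDim50.dim_eq_iSup_irreducibleComponents (X := f.fiber y))
    (iSup₂_le fun T hT => (hd T hT).le))
  rw [ringKrullDim_stalk_eq_coheight, topologicalKrullDim,
    Order.krullDim_eq_of_orderIso irreducibleSetEquivPoints]
  exact Order.coheight_le_krullDim z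

theorem fibre_stalk_ge (f : X ⟶ Y) [LocallyOfFiniteType f] {d : ℕ} {y : Y}
    (hd : ∀ T ∈ irreducibleComponents ↥(f.fiber y), topologicalKrullDim T = d) (z : f.fiber y)
    (hz : IsClosed ({z} : Set (f.fiber y))) :
    (d : WithBot ℕ∞) ≤ ringKrullDim ((f.fiber y).presheaf.stalk z) := by
  let g : f.fiber y ⟶ Spec (CommRingCat.of (Y.residueField y : Type u)) :=
    f.fiberToSpecResidueField y
  have : LocallyOfFiniteType g := inferInstanceAs (LocallyOfFiniteType (Limits.pullback.snd _ _))
  have h0 := Groth.Agent.VarGal.localDim_eq_tdegN_add g z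
  rw [Groth.Agent.VarGal.tdegN_eq_zero_of_isClosed g hz, Nat.cast_zero, zero_add] at h0
  rw [← h0]
  obtain ⟨η, hη⟩ := QuasiSober.sober (irreducibleComponent_mem_irreducibleComponents z).1
    isClosed_irreducibleComponent
  have hηz : η ⤳ z := hη.specializes mem_irreducibleComponent
  have h1 := hd _ (irreducibleComponent_mem_irreducibleComponents z)
  rw [← hη.def, Groth.Agent.WC97.topologicalKrullDim_closure g] at h1
  calc (d : WithBot ℕ∞) = (WC97.tdegN g η : WithBot ℕ∞) := h1.symm
    _ ≤ FlatMor.localDim (f.fiber y) η := by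
      rw [Groth.Agent.VarGal.localDim_eq_tdegN_add g η]
      conv_lhs => rw [← add_zero (WC97.tdegN g η : WithBot ℕ∞)]
      exact add_le_add le_rfl ringKrullDim_nonneg_of_nontrivial
    _ ≤ _ := le_iInf fun ⟨U, hU⟩ => iInf_le_of_le ⟨U, hηz.mem_open U.isOpen hU⟩ le_rfl

theorem dim_opens_eq_add [IsLocallyNoetherian X] [IsLocallyNoetherian Y] (f : X ⟶ Y) [Flat f]
    [LocallyOfFiniteType f] {d : ℕ}
    (hd : ∀ y : Y, ∀ T ∈ irreducibleComponents ↥(f.fiber y), topologicalKrullDim T = d)
    (U : X.Opens) (V : Y.Opens) (hUV : f '' (U : Set X) = (V : Set Y)) :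
    topologicalKrullDim (U : Set X) = topologicalKrullDim (V : Set Y) + (d : WithBot ℕ∞) := by
  rw [dim_opens, dim_opens]
  refine le_antisymm (iSup_le fun ⟨x, hx⟩ => ?_) ?_
  · obtain ⟨z, hz⟩ : ∃ z, f.fiberι (f x) z = x := ⟨f.asFiber x, f.fiberι_asFiber x⟩
    have h := dim_stalk_eq_add f (f x) z
    rw [hz] at h
    rw [h]
    exact add_le_add (le_iSup (fun w : V => ringKrullDim (Y.presheaf.stalk w.1))
      ⟨f x, hUV.le ⟨x, hx, rfl⟩⟩) (fibre_stalk_le f (hd (f x)) z)
  · have key : ∀ y : V, ringKrullDim (Y.presheaf.stalk y.1) + (d : WithBot ℕ∞) ≤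
        ⨆ z : U, ringKrullDim (X.presheaf.stalk z.1) := by
      rintro ⟨y, hy⟩
      obtain ⟨x, hx, rfl⟩ := hUV.ge hy
      let g := f.fiberToSpecResidueField (f x)
      have : LocallyOfFiniteType g :=
        inferInstanceAs (LocallyOfFiniteType (Limits.pullback.snd _ _))
      have : JacobsonSpace (f.fiber (f x)) := LocallyOfFiniteType.jacobsonSpace g
      obtain ⟨z, hzU, hz⟩ := nonempty_inter_closedPoints (X := f.fiber (f x))
        (Z := (f.fiberι (f x)) ⁻¹' (U : Set X))
        ⟨f.asFiber x, show f.fiberι (f x) (f.asFiber x) ∈ U from (f.fiberι_asFiber x).symm ▸ hx⟩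
        (U.isOpen.preimage (f.fiberι (f x)).continuous).isLocallyClosed
      refine le_trans ?_ (le_iSup (fun w : U => ringKrullDim (X.presheaf.stalk w.1))
        ⟨f.fiberι (f x) z, hzU⟩)
      rw [dim_stalk_eq_add f (f x) z]
      have hzy : f (f.fiberι (f x) z) = f x := by
        have : f.fiberι (f x) z ∈ f ⁻¹' {f x} := f.range_fiberι (f x) ▸ ⟨z, rfl⟩
        exact this
      refine add_le_add ?_ (fibre_stalk_ge f (hd (f x)) z hz)
      rw [hzy]
    exact Groth.Agent.Ega11.SchemeDimFormula.iSup_add_le _ d _ key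

end

open AlgebraicGeometry CategoryTheory in
/-- Let f : X → Y be flat, locally of finite type and of relative dimension d, with X and Y locally
Noetherian. Then dim_x(X) = dim_y(Y) + d for every x ∈ X with image y. -/
theorem result {X Y : Scheme.{u}} [IsLocallyNoetherian X] [IsLocallyNoetherian Y] (f : X ⟶ Y)
    [Flat f] [LocallyOfFiniteType f] (d : ℕ) (hd : Cyc.HasRelDim f d) (x : X) :
    FlatMor.localDim ↑X x = FlatMor.localDim ↑Y (f.base x) + (d : WithBot ℕ∞) := by
  have : UniversallyOpen f := inferInstance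
  refine le_antisymm ?_ (le_iInf fun ⟨U, hU⟩ => ?_)
  · obtain ⟨V, hV, hVeq⟩ := Groth.Agent.TopDim50.exists_localDim_eq (X := Y) (f.base x)
    rw [hVeq]
    refine le_trans (iInf_le_of_le ⟨f ⁻¹ᵁ V, hV⟩ le_rfl) ?_
    have hopen : IsOpen (f '' ((f ⁻¹ᵁ V : X.Opens) : Set X)) := f.isOpenMap _ (f ⁻¹ᵁ V).isOpen
    refine (dim_opens_eq_add f hd (f ⁻¹ᵁ V) ⟨_, hopen⟩ rfl).le.trans ?_
    exact add_le_add (Groth.Agent.TopDim50.dim_mono (Set.image_preimage_subset _ _)) le_rfl
  · have hopen : IsOpen (f '' (U : Set X)) := f.isOpenMap _ U.isOpen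
    refine le_trans ?_ (dim_opens_eq_add f hd U ⟨_, hopen⟩ rfl).ge
    exact add_le_add (iInf_le_of_le ⟨⟨_, hopen⟩, x, hU, rfl⟩ le_rfl) le_rfl

end Groth.Agent.S9359
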