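import Groth.Statements.S9364
import Groth.Agent.RelGCI94.SyntProperty

set_option autoImplicit false
universe u
open Synt

namespace Groth.Agent.S9364

open AlgebraicGeometry CategoryTheory Limits Groth.Agent.RelGCI94

theorem syntomicProp_iff_appLE {X Y : Scheme.{u}} (f : X ⟶ Y) {V : Y.Opens} (hV : IsAffineOpen V)
    {U : X.Opens} (hU : IsAffineOpen U) (e : U ≤ f ⁻¹ᵁ V) :
    syntomicProp (f.resLE V U e) ↔ SyntomicHom (f.appLE V U e).hom := by
  have : IsAffine (V : Scheme.{u}) := hV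
  have : IsAffine (U : Scheme.{u}) := hU
  rw [HasRingHomProperty.iff_of_isAffine (P := syntomicProp.{u})]
  have : (RingHom.toMorphismProperty (fun {R S} [CommRing R] [CommRing S] => @SyntomicHom R S _ _)).RespectsIso :=
    RingHom.toMorphismProperty_respectsIso_iff.mp syntomicHom_isLocal.respectsIso
  exact MorphismProperty.arrow_mk_iso_iff (RingHom.toMorphismProperty (fun {R S} [CommRing R] [CommRing S] => @SyntomicHom R S _ _))
    (arrowResLEAppIso f V U e)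

/-- near a syntomic point, into a given affine open -/
theorem exists_syntomic_affine {X S : Scheme.{u}} (f : X ⟶ S) (x : X) (h : Synt.IsSyntomicAt f x)
    {V : S.Opens} (hV : IsAffineOpen V) (hx : f x ∈ V) :
    ∃ (U : X.Opens) (_ : IsAffineOpen U) (e : U ≤ f ⁻¹ᵁ V), x ∈ U ∧ SyntomicHom (f.appLE V U e).hom := by
  obtain ⟨U₀, V₀, e₀, hx₀, hs⟩ := h
  obtain ⟨W, hW, hxW, hWle⟩ := exists_isAffineOpen_mem_and_subset (U := U₀.1 ⊓ f ⁻¹ᵁ V) (x := x) ⟨hx₀, hx⟩
  refine ⟨W, hW, fun y hy => (hWle hy).2, hxW, ?_⟩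
  have hP : syntomicProp (f.resLE V₀.1 U₀.1 e₀) := (syntomicProp_iff_appLE f V₀.2 U₀.2 e₀).2 hs
  have hg : syntomicProp (W.ι ≫ f) := by
    have h1 : syntomicProp (f.resLE V₀.1 U₀.1 e₀ ≫ V₀.1.ι) :=
      (HasRingHomProperty.respects_isOpenImmersion (P := syntomicProp.{u}) syntomicHom_source).postcomp
        V₀.1.ι inferInstance _ hP
    rw [Scheme.Hom.resLE_comp_ι] at h1
    have h2 := IsZariskiLocalAtSource.comp h1 (X.homOfLE (fun y hy => (hWle hy).1 : W ≤ U₀.1))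
    rwa [← Category.assoc, Scheme.homOfLE_ι] at h2
  rw [← syntomicProp_iff_appLE f hV hW]
  have hb : f.resLE V W (fun y hy => (hWle hy).2) ≫ V.ι = W.ι ≫ f := Scheme.Hom.resLE_comp_ι ..
  refine IsZariskiLocalAtTarget.of_isPullback (P := syntomicProp.{u}) (iY := V.ι) (iX := 𝟙 _) (f := W.ι ≫ f) ?_ hg
  exact ⟨⟨by rw [Category.id_comp]; exact hb.symm⟩, ⟨PullbackCone.IsLimit.mk _ (fun s => s.fst)
    (fun s => Category.comp_id _) (fun s => by
      rw [← cancel_mono V.ι, Category.assoc, hb]; exact s.condition)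
    (fun s m h₁ _ => by simpa using h₁)⟩⟩

/-- an arrow isomorphic to a standard one -/
theorem syntomicProp_of_standard {X S : Scheme.{u}} (f : X ⟶ S) (h : Synt.IsStandardSyntomic f) :
    syntomicProp f := by
  obtain ⟨R, _, n, c, F, hF, e₁, e₂, he⟩ := h
  refine ((syntomicProp.{u}).arrow_mk_iso_iff (Arrow.isoMk e₁ e₂ he)).2 ?_
  exact (HasRingHomProperty.Spec_iff (P := syntomicProp.{u})).2 (syntomicHom_algebraMap.2 (isSyntomic_relGCIRing R n c F hF))

theorem standard_nhd {X S : Scheme.{u}} (f : X ⟶ S) (x : X) (V : S.affineOpens) (hV : f x ∈ V.1) :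
    Synt.IsSyntomicAt f x ↔
      ∃ (U : X.affineOpens) (e : U.1 ≤ f ⁻¹ᵁ V.1), x ∈ U.1 ∧ Synt.IsStandardSyntomic (f.resLE V.1 U.1 e) := by
  refine ⟨fun h => ?_, fun ⟨U, e, hx, hs⟩ =>
    ⟨U, V, e, hx, (syntomicProp_iff_appLE f V.2 U.2 e).1 (syntomicProp_of_standard _ hs)⟩⟩
  obtain ⟨W, hW, e, hxW, hs⟩ := exists_syntomic_affine f x h V.2 hV
  let := (f.appLE V.1 W e).hom.toAlgebra
  obtain ⟨a, ha, n, c, F, hF, ⟨ε⟩⟩ := exists_relGCI_at (R := Γ(S, V.1)) (S := Γ(X, W))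
    (syntomicHom_algebraMap.1 hs) (hW.primeIdealOf ⟨x, hxW⟩).asIdeal
  have hxU : x ∈ X.basicOpen a := by
    have : hW.primeIdealOf ⟨x, hxW⟩ ∈ hW.fromSpec ⁻¹ᵁ X.basicOpen a := by
      rw [hW.fromSpec_preimage_basicOpen]; exact ha
    have h2 : hW.fromSpec (hW.primeIdealOf ⟨x, hxW⟩) ∈ X.basicOpen a := this
    rwa [hW.fromSpec_primeIdealOf] at h2
  have e' : X.basicOpen a ≤ f ⁻¹ᵁ V.1 := (X.basicOpen_le a).trans e
  refine ⟨⟨X.basicOpen a, hW.basicOpen a⟩, e', hxU, ?_⟩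
  let := (f.appLE V.1 (X.basicOpen a) e').hom.toAlgebra
  have : IsScalarTower Γ(S, V.1) Γ(X, W) Γ(X, X.basicOpen a) := IsScalarTower.of_algebraMap_eq' (by
    rw [RingHom.algebraMap_toAlgebra, RingHom.algebraMap_toAlgebra, RingHom.algebraMap_toAlgebra,
      ← CommRingCat.hom_comp, Scheme.Hom.appLE_map])
  have : IsLocalization.Away a Γ(X, X.basicOpen a) := hW.isLocalization_basicOpen a
  let ε' : Γ(X, X.basicOpen a) ≃ₐ[Γ(S, V.1)] Synt.RelGCIRing Γ(S, V.1) n c F :=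
    ((IsLocalization.algEquiv (Submonoid.powers a) Γ(X, X.basicOpen a) (Localization.Away a)).restrictScalars _).trans ε
  have : IsAffine (X.basicOpen a : Scheme.{u}) := hW.basicOpen a
  have : IsAffine (V.1 : Scheme.{u}) := V.2
  refine ⟨Γ(S, V.1), inferInstance, n, c, F, hF,
    (hW.basicOpen a).isoSpec ≪≫ Scheme.Spec.mapIso (RingEquiv.toCommRingCatIso ε'.toRingEquiv).symm.op,
    V.2.isoSpec, ?_⟩
  have hcomm : CommRingCat.ofHom (algebraMap Γ(S, V.1) (Synt.RelGCIRing Γ(S, V.1) n c F)) ≫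
      (RingEquiv.toCommRingCatIso ε'.toRingEquiv).inv = f.appLE V.1 (X.basicOpen a) e' :=
    CommRingCat.hom_ext (RingHom.ext fun r => ε'.symm.commutes r)
  simp only [Iso.trans_hom, Functor.mapIso_hom, Iso.op_hom, Scheme.Spec_map, Quiver.Hom.unop_op, Iso.symm_hom,
    Category.assoc, ← Spec.map_comp, hcomm, IsAffineOpen.isoSpec_hom]
  have hVa : IsAffineOpen V.1 := V.2
  show _ = _ ≫ hVa.isoSpec.hom
  rw [← cancel_mono hVa.fromSpec, Category.assoc, Category.assoc, IsAffineOpen.isoSpec_hom, hVa.toSpecΓ_fromSpec, Scheme.Hom.resLE_comp_ι,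
    IsAffineOpen.SpecMap_appLE_fromSpec f hVa (hW.basicOpen a), ← Category.assoc, (hW.basicOpen a).toSpecΓ_fromSpec]

open AlgebraicGeometry CategoryTheory in
/-- Let f : X → S, x ∈ X and V ⊆ S an affine open neighbourhood of f x. Then f is syntomic at x if and
only if some affine open U ∋ x with f(U) ⊆ V has f|_U : U → V standard syntomic. -/
theorem result {X S : Scheme.{u}} (f : X ⟶ S) (x : X) (V : S.affineOpens)
    (hV : f.base x ∈ V.1) :
    Synt.IsSyntomicAt f x ↔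
      ∃ (U : X.affineOpens) (e : U.1 ≤ f ⁻¹ᵁ V.1), x ∈ U.1 ∧ Synt.IsStandardSyntomic (f.resLE V.1 U.1 e) := by
  exact standard_nhd f x V hV

end Groth.Agent.S9364
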