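import Groth.Statements.S9367
import Groth.Agent.S9364
import Groth.Agent.RelGCI94.FibreDim

set_option autoImplicit false
universe u
open Synt

namespace Groth.Agent.S9367

open AlgebraicGeometry CategoryTheory in
/-- If f : X → S is syntomic, then x ↦ dim_x(X_{f x}) is locally constant on X. -/
theorem result {X S : Scheme.{u}} (f : X ⟶ S) (hf : Synt.IsSyntomicMor f) :
    IsLocallyConstant (fun x : ↑X => FlatMor.fibreDimAt f x) := by
  refine (IsLocallyConstant.iff_exists_open _).2 fun x => ?_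
  obtain ⟨V, hV, hxV, -⟩ := exists_isAffineOpen_mem_and_subset (U := (⊤ : S.Opens)) (x := f.base x) trivial
  obtain ⟨U, e, hxU, R, _, n, c, F, hF, e₁, e₂, he⟩ := (Groth.Agent.S9364.result f x ⟨V, hV⟩ hxV).1 (hf x)
  refine ⟨(U.1 : Set X), U.1.isOpen, hxU, ?_⟩
  have key : ∀ y ∈ U.1, FlatMor.fibreDimAt f y = ((n - c : ℕ) : WithBot ℕ∞) := fun y hy => by
    have comm : (e₁.inv ≫ U.1.ι) ≫ f =
        Spec.map (CommRingCat.ofHom (algebraMap R (Synt.RelGCIRing R n c F))) ≫ e₂.inv ≫ V.ι := by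
      rw [Category.assoc, Iso.inv_comp_eq, reassoc_of% he, Iso.hom_inv_id_assoc, Scheme.Hom.resLE_comp_ι]
    have h := Groth.Agent.RelGCI94.fibreDimAt_chart F hF f (e₁.inv ≫ U.1.ι) (e₂.inv ≫ V.ι) comm (e₁.hom ⟨y, hy⟩)
    have hpt : (e₁.inv ≫ U.1.ι) (e₁.hom ⟨y, hy⟩) = y := by
      show (e₁.hom ≫ e₁.inv ≫ U.1.ι) ⟨y, hy⟩ = y
      rw [Iso.hom_inv_id_assoc]; rfl
    rwa [hpt] at h
  exact fun y hy => (key y hy).trans (key x hxU).symm

end Groth.Agent.S9367
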