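import Groth.Statements.S10314
import Groth.Agent.SpPts86.LocalDimFlat

set_option autoImplicit false
universe u
open CategoryTheory CategoryTheory.Limits AlgebraicGeometry
open AlgSp

namespace Groth.Agent.S10314

/-- For a flat morphism locally of finite type of relative dimension d between locally Noetherian
algebraic spaces, the dimension of X at a point equals the dimension of Y at the image point plus d. -/
theorem result {S : Scheme.{u}} {X Y : AlgSp.Space S} (f : X ⟶ Y)
    (hX : AlgSp.IsLocNoethSp X.obj) (hY : AlgSp.IsLocNoethSp Y.obj) (hf : AlgSp.LocP @Flat f.hom)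
    (hf' : AlgSp.LocP @LocallyOfFiniteType f.hom) (d : ℕ)
    (hd : ∀ x : AlgSp.Points X.obj, AlgSp.HasAtMor (fun _ _ h u => FlatMor.fibreDimAt h u = (d : WithBot ℕ∞)) f.hom x)
    (x : AlgSp.Points X.obj) (dX dY : WithBot ℕ∞) (hx : AlgSp.HasAt (fun U u => FlatMor.localDim ↥U u = dX) X.obj x)
    (hy : AlgSp.HasAt (fun U u => FlatMor.localDim ↥U u = dY) Y.obj (AlgSp.Points.map f.hom x)) :
    dX = dY + (d : WithBot ℕ∞) := by
  obtain ⟨U, V, a, b, h, u, ha, hb, w, hu⟩ := SpPts86.exists_diagram_through X.property Y.property f.hom x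
  have := hf a b h ha hb w
  have := hf' a b h ha hb w
  have := SpFP87.isLocallyNoetherian_chart X.property hX ha
  have := SpFP87.isLocallyNoetherian_chart Y.property hY hb
  have hd' : ∀ t, FlatMor.fibreDimAt h.left t = (d : WithBot ℕ∞) := fun t =>
    SpPts86.forall_diagram_of_hasAtMor X.property Y.property (SpPts86.etInv_fibreDim (· = (d : WithBot ℕ∞)))
      (hd (AlgSp.Points.ofPt a t)) ha hb w rfl
  have hv : AlgSp.Points.ofPt b (h.left u) = AlgSp.Points.map f.hom x := by
    rw [← hu, AlgSp.Points.map_ofPt, w, SpPts86.ofPt_comp]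
  rw [← SpPts86.forall_chart_of_hasAt X.property (fun g hg t => SpPts86.invariant_localDim dX g hg t) hx ha hu,
    ← SpPts86.forall_chart_of_hasAt Y.property (fun g hg t => SpPts86.invariant_localDim dY g hg t) hy hb hv]
  exact S9359.result h.left d (SpPts86.hasRelDim_of_fibreDimAt h.left d hd') u

end Groth.Agent.S10314
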