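import Groth.Statements.S10316
import Groth.Agent.SpPts86.ResTrdeg
import Groth.Agent.VarGal.QFPoint

set_option autoImplicit false
universe u
open CategoryTheory CategoryTheory.Limits AlgebraicGeometry
open AlgSp

namespace Groth.Agent.S10316

/-- For X -> Y locally quasi-finite and Y -> Z locally of finite type, the transcendence degree of x
over Z equals that of its image y over Z. -/
theorem result {S : Scheme.{u}} {X Y Z : AlgSp.Space S} (f : X ⟶ Y) (g : Y ⟶ Z)
    (hf : AlgSp.LocP (@LocallyQuasiFinite ⊓ @LocallyOfFiniteType) f.hom) (hg : AlgSp.LocP @LocallyOfFiniteType g.hom)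
    (x : AlgSp.Points X.obj) (r : Cardinal.{u}) :
    AlgSp.HasAtMor (fun _ _ h u => Dual3.resTrdeg h u = r) (f ≫ g).hom x ↔
      AlgSp.HasAtMor (fun _ _ h u => Dual3.resTrdeg h u = r) g.hom (AlgSp.Points.map f.hom x) := by
  obtain ⟨U, V, W, a, b, c, h, k, u, ha, hb, hc, w, w', w'', hu, hv⟩ :=
    SpPts86.exists_diagram_comp X.property Y.property Z.property f.hom g.hom x
  obtain ⟨_, _⟩ := hf a b h ha hb w
  have e : Dual3.resTrdeg (h ≫ k).left u = Dual3.resTrdeg k.left (h.left u) := by
    rw [Over.comp_left, SpPts86.resTrdeg_comp, SpPts86.resTrdeg_eq_fdeg h.left,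
      VarGal.fdeg_eq_zero_of_quasiFiniteAt h.left (h.left.quasiFiniteAt u), Nat.cast_zero, zero_add]
  constructor
  · intro H
    refine ⟨V, W, b, c, k, h.left u, hb, hc, w', hv, ?_⟩
    show Dual3.resTrdeg k.left (h.left u) = r
    rw [← e]
    exact SpPts86.forall_diagram_of_hasAtMor X.property Z.property (SpPts86.etInv_resTrdeg (· = r)) H ha hc w'' hu
  · intro H
    refine ⟨U, W, a, c, h ≫ k, u, ha, hc, w'', hu, ?_⟩
    show Dual3.resTrdeg (h ≫ k).left u = r
    rw [e]
    exact SpPts86.forall_diagram_of_hasAtMor Y.property Z.property (SpPts86.etInv_resTrdeg (· = r)) H hb hc w' hv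

end Groth.Agent.S10316
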