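import Groth.Statements.S10318
import Groth.Agent.SpPts86.ResTrdeg
import Groth.Agent.E4O.QuasiSectionEquidim

set_option autoImplicit false
universe u
open CategoryTheory CategoryTheory.Limits AlgebraicGeometry
open AlgSp

namespace Groth.Agent.S10318

/-- Over a Jacobson algebraic space, a finite type point of a space locally of finite type over it has
transcendence degree 0 over its image. -/
theorem result {S : Scheme.{u}} {X Y : AlgSp.Space S} (f : X ⟶ Y)
    (hf : AlgSp.LocP @LocallyOfFiniteType f.hom) (hY : AlgSp.EtaleLocally (fun U => JacobsonSpace ↥U) Y.obj)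
    (x : AlgSp.Points X.obj) (hx : AlgSp.HasAt (fun U u => IsClosed ({u} : Set ↥U)) X.obj x) :
    AlgSp.HasAtMor (fun _ _ h u => Dual3.resTrdeg h u = 0) f.hom x := by
  obtain ⟨U', a', u', ha', hu', hc⟩ := hx
  obtain ⟨U, V, a, b, h, u, ha, hb, w, hu⟩ := SpPts86.exists_diagram_through X.property Y.property f.hom x
  obtain ⟨W, p, q, hp, hq, sq, -, -, hWa⟩ := SpPts86.exists_common_chart X.property ha ha'
  obtain ⟨z, hz1, hz2⟩ := SpPts86.exists_pt_common_chart sq u u' (hu.trans hu'.symm)
  have := hf a b h ha hb w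
  have hW : (((AlgSp.yon S).map p) ≫ a) ≫ f.hom = (AlgSp.yon S).map (p ≫ h) ≫ b := by
    rw [Category.assoc, w, Functor.map_comp, Category.assoc]
  have : LocallyOfFiniteType (p ≫ h).left := hf _ b (p ≫ h) hWa hb hW
  refine ⟨W, V, (AlgSp.yon S).map p ≫ a, b, p ≫ h, z, hWa, hb, hW, ?_, ?_⟩
  · rw [SpPts86.ofPt_comp, hz1, hu]
  show Dual3.resTrdeg (p ≫ h).left z = 0
  rw [SpPts86.resTrdeg_eq_fdeg, E4O.fdeg_eq_zero_of_closed_in_fibre, Nat.cast_zero]
  intro z' _ hsp
  have := hsp.map q.left.continuous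
  rw [hz2] at this
  exact (Desc59.EtaleDim.discrete_fibre q.left hsp (hz2.trans (this.mem_closed hc rfl).symm)).symm

end Groth.Agent.S10318
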