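import Groth.Statements.S10319
import Groth.Agent.SpPts86.ResTrdeg

set_option autoImplicit false
universe u
open CategoryTheory CategoryTheory.Limits AlgebraicGeometry
open AlgSp

namespace Groth.Agent.S10319

/-- Transcendence degrees at a point add up along a composition of morphisms locally of finite type. -/
theorem result {S : Scheme.{u}} {X Y Z : AlgSp.Space S} (f : X ⟶ Y) (g : Y ⟶ Z)
    (hf : AlgSp.LocP @LocallyOfFiniteType f.hom) (hg : AlgSp.LocP @LocallyOfFiniteType g.hom)
    (x : AlgSp.Points X.obj) (r₁ r₂ : Cardinal.{u})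
    (h1 : AlgSp.HasAtMor (fun _ _ h u => Dual3.resTrdeg h u = r₁) f.hom x)
    (h2 : AlgSp.HasAtMor (fun _ _ h u => Dual3.resTrdeg h u = r₂) g.hom (AlgSp.Points.map f.hom x)) :
    AlgSp.HasAtMor (fun _ _ h u => Dual3.resTrdeg h u = r₁ + r₂) (f ≫ g).hom x := by
  obtain ⟨U, V, W, a, b, c, h, k, u, ha, hb, hc, w, w', w'', hu, hv⟩ :=
    SpPts86.exists_diagram_comp X.property Y.property Z.property f.hom g.hom x
  refine ⟨U, W, a, c, h ≫ k, u, ha, hc, w'', hu, ?_⟩
  show Dual3.resTrdeg (h ≫ k).left u = r₁ + r₂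
  rw [Over.comp_left, SpPts86.resTrdeg_comp,
    SpPts86.forall_diagram_of_hasAtMor X.property Y.property (SpPts86.etInv_resTrdeg (· = r₁)) h1 ha hb w hu,
    SpPts86.forall_diagram_of_hasAtMor Y.property Z.property (SpPts86.etInv_resTrdeg (· = r₂)) h2 hb hc w' hv]

end Groth.Agent.S10319
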