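import Groth.Statements.S10321
import Groth.Agent.S10259
import Groth.Agent.SpProper61.Induction

set_option autoImplicit false
universe u
open CategoryTheory CategoryTheory.Limits AlgebraicGeometry
open AlgSp

namespace Groth.Agent.S10321

/-- Let X be separated and locally quasi-finite over an affine scheme T, let T' -> T be etale with T'
affine, and let V' be an open subspace of T' ×_T X that is quasi-affine over T'. Then V' maps onto a
quasi-compact open subspace of X that is itself a scheme. -/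
theorem result {S : Scheme.{u}} {T T' : Over S} [IsAffine T.left]
    [IsAffine T'.left] (e : T' ⟶ T) [Etale e.left] {X P V' : AlgSp.Space S} (f : X ⟶ (AlgSp.ofScheme S).obj T)
    (hsep : AlgSp.IsSeparatedMor f.hom) (hqf : AlgSp.LocP (@LocallyQuasiFinite ⊓ @LocallyOfFiniteType) f.hom)
    (p1 : P ⟶ (AlgSp.ofScheme S).obj T') (p2 : P ⟶ X)
    (sq : IsPullback p2.hom p1.hom f.hom ((AlgSp.yon S).map e)) (j : V' ⟶ P)
    (hj : AlgSp.RepWith @IsOpenImmersion j.hom) (hqa : AlgSp.IsQuasiAffineMor (j ≫ p1).hom) :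
    ∃ (W : Over S) (i : (AlgSp.yon S).obj W ⟶ X.obj), AlgSp.RepWith @IsOpenImmersion i ∧ CompactSpace ↥W.left ∧
      Set.range (AlgSp.Points.map i) = Set.range (AlgSp.Points.map (j ≫ p2).hom) := by
  have hM : X.obj.obj.IsRepresentable := Groth.Agent.S10259.result T X f hqf hsep
  obtain ⟨M, ⟨rep⟩⟩ := hM.has_representation
  let φ : (AlgSp.yon S).obj M ≅ X.obj := AlgSp.isoOfRepresentableBy rep
  obtain ⟨W₀, i₀, fst, sq₀, hW₀⟩ := hqa (Z := T') inferInstance (𝟙 _)
  have : IsIso fst := sq₀.isIso_fst_of_isIso (inst := IsIso.id _)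
  obtain ⟨ψ, hψ⟩ := (AlgSp.yon S).map_surjective (fst ≫ (j ≫ p2).hom ≫ φ.inv)
  have he : AlgSp.RepWith @Etale p2.hom :=
    (AlgSp.repWith_isStableUnderBaseChange (@Etale : MorphismProperty Scheme.{u})).of_isPullback sq.flip
      ((AlgSp.repWith_yon_map_iff _ e).2 inferInstance)
  have hje : AlgSp.RepWith @Etale (fst ≫ (j ≫ p2).hom ≫ φ.inv) := by
    refine (MorphismProperty.cancel_left_of_respectsIso (AlgSp.RepWith @Etale) fst _).2 ?_
    refine (MorphismProperty.cancel_right_of_respectsIso (AlgSp.RepWith @Etale) _ φ.inv).2 ?_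
    exact (AlgSp.repWith_isMultiplicative (S := S) @Etale).comp_mem _ _
      (Groth.Agent.SpPts86.repWith_mono (fun _ _ g (_ : IsOpenImmersion g) => (inferInstance : Etale g)) hj) he
  rw [← hψ, AlgSp.repWith_yon_map_iff] at hje
  have : Etale ψ.left := hje
  have := hW₀
  have hc : IsCompact (Set.range ψ.left) := isCompact_range ψ.left.continuous
  let O : M.left.Opens := ⟨Set.range ψ.left, ψ.left.isOpenMap.isOpen_range⟩
  let W : Over S := Over.mk (O.ι ≫ M.hom)
  let ι : W ⟶ M := Over.homMk O.ι rfl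
  refine ⟨W, (AlgSp.yon S).map ι ≫ φ.hom, ?_, isCompact_iff_compactSpace.1 hc, ?_⟩
  · exact (MorphismProperty.cancel_right_of_respectsIso (AlgSp.RepWith @IsOpenImmersion) _ φ.hom).2
      ((AlgSp.repWith_yon_map_iff _ ι).2 (inferInstanceAs (IsOpenImmersion O.ι)))
  · have hr : ∀ {A : Over S} (m : A ⟶ M), Set.range (AlgSp.Points.map ((AlgSp.yon S).map m)) =
        AlgSp.Points.schemeHomeo M '' Set.range m.left := fun {A} m => by
      rw [← Set.range_comp, ← (AlgSp.Points.schemeHomeo A).surjective.range_comp]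
      exact congrArg Set.range (funext fun v => Groth.Agent.SpProper61.map_yon_ofScheme m v)
    have hl : (j ≫ p2).hom = (inv fst ≫ (AlgSp.yon S).map ψ) ≫ φ.hom := by
      rw [hψ]; simp
    rw [hl, Groth.Agent.SpProper61.range_map_comp, Groth.Agent.SpProper61.range_map_comp,
      Groth.Agent.SpProper61.range_map_comp, hr, show Set.range ι.left = (O : Set ↥M.left) from O.range_ι,
      show Set.range (AlgSp.Points.map (inv fst)) = Set.univ from Set.eq_univ_of_forall fun x =>
        ⟨AlgSp.Points.map fst x, by rw [← AlgSp.Points.map_comp, IsIso.hom_inv_id, AlgSp.Points.map_id]⟩,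
      Set.image_univ, hr]
    rfl

end Groth.Agent.S10321
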