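import Groth.Statements.S10323
import Groth.Agent.SpPts86.DimFormula

set_option autoImplicit false
universe u
open CategoryTheory CategoryTheory.Limits AlgebraicGeometry
open AlgSp

namespace Groth.Agent.S10323

/-- For Y locally Noetherian and f locally of finite type, the dimension of the local ring of X at x is
at most the dimension of the local ring of Y at the image point plus E minus the transcendence
degree of x over its image, where E bounds the transcendence degrees of the codimension-0 points
specializing to x. -/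
theorem result {S : Scheme.{u}} {X Y : AlgSp.Space S} (f : X ⟶ Y)
    (hY : AlgSp.IsLocNoethSp Y.obj) (hf : AlgSp.LocP @LocallyOfFiniteType f.hom) (x : AlgSp.Points X.obj)
    (E : Cardinal.{u})
    (hE : ∀ ξ : AlgSp.Points X.obj, ξ ⤳ x → AlgSp.HasAt (fun U u => ringKrullDim ↥(U.presheaf.stalk u) = 0) X.obj ξ →
      ∀ s : Cardinal.{u}, AlgSp.HasAtMor (fun _ _ h u => Dual3.resTrdeg h u = s) f.hom ξ → s ≤ E)
    (a b : WithBot ℕ∞) (r : Cardinal.{u})
    (ha : AlgSp.HasAt (fun U u => ringKrullDim ↥(U.presheaf.stalk u) = a) X.obj x)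
    (hb : AlgSp.HasAt (fun U u => ringKrullDim ↥(U.presheaf.stalk u) = b) Y.obj (AlgSp.Points.map f.hom x))
    (hr : AlgSp.HasAtMor (fun _ _ h u => Dual3.resTrdeg h u = r) f.hom x) :
    a + ((Cardinal.toENat r : ℕ∞) : WithBot ℕ∞) ≤ b + ((Cardinal.toENat E : ℕ∞) : WithBot ℕ∞) := by
  obtain ⟨U, V, p, q, h, u, hp, hq, w, hu, hr⟩ := hr
  have hv : AlgSp.Points.ofPt q (h.left u) = AlgSp.Points.map f.hom x := by
    rw [← hu, AlgSp.Points.map_ofPt, w, SpPts86.ofPt_comp]
  rw [← SpPts86.forall_chart_of_hasAt X.property (fun g hg t => SpPts86.invariant_stalkDim a g hg t) ha hp hu,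
    ← SpPts86.forall_chart_of_hasAt Y.property (fun g hg t => SpPts86.invariant_stalkDim b g hg t) hb hq hv,
    ← hr]
  exact SpPts86.stalk_dim_add_le_of_bound X.property Y.property hY hf hE hp hq w hu

end Groth.Agent.S10323
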