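import Groth.Statements.S10324
import Groth.Agent.SpPts86.DimFormula
import Groth.Agent.Ega11.SchemeDimFormula

set_option autoImplicit false
universe u
open CategoryTheory CategoryTheory.Limits AlgebraicGeometry
open AlgSp

namespace Groth.Agent.S10324

/-- For Y locally Noetherian and f : X -> Y locally of finite type, dim X ≤ dim Y + E where E bounds the
transcendence degrees over Y of the codimension-0 points of X. -/
theorem result {S : Scheme.{u}} {X Y : AlgSp.Space S} (f : X ⟶ Y)
    (hY : AlgSp.IsLocNoethSp Y.obj) (hf : AlgSp.LocP @LocallyOfFiniteType f.hom) (E : Cardinal.{u})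
    (hE : ∀ ξ : AlgSp.Points X.obj, AlgSp.HasAt (fun U u => ringKrullDim ↥(U.presheaf.stalk u) = 0) X.obj ξ → ∀ s : Cardinal.{u}, AlgSp.HasAtMor (fun _ _ h u => Dual3.resTrdeg h u = s) f.hom ξ → s ≤ E) :
    AlgSp.dim X.obj ≤ AlgSp.dim Y.obj + ((Cardinal.toENat E : ℕ∞) : WithBot ℕ∞) := by
  refine iSup_le fun U => iSup₂_le fun a ha => Ega11.SchemeDimFormula.dim_le_of_stalk _ fun u => ?_
  obtain ⟨U', V, a', b, h, u', ha', hb, w, hu'⟩ :=
    SpPts86.exists_diagram_through X.property Y.property f.hom (AlgSp.Points.ofPt a u)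
  have e : ringKrullDim ↥(U'.left.presheaf.stalk u') = ringKrullDim ↥(U.left.presheaf.stalk u) :=
    SpPts86.forall_chart_of_hasAt X.property
      (fun g hg t => SpPts86.invariant_stalkDim (ringKrullDim ↥(U.left.presheaf.stalk u)) g hg t)
      ⟨U, a, u, ha, rfl, rfl⟩ ha' hu'
  rw [← e]
  refine le_trans (le_add_of_nonneg_right (WithBot.coe_le_coe.2 zero_le'))
    ((SpPts86.stalk_dim_add_le_of_bound X.property Y.property hY hf (fun ξ _ => hE ξ) ha' hb w hu').trans
      (add_le_add ?_ le_rfl))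
  exact (Ega11.SchemeDimFormula.stalk_dim_le _ _).trans
    (le_iSup_of_le V (le_iSup₂ (f := fun (b : (AlgSp.yon S).obj V ⟶ Y.obj) (_ : AlgSp.RepWith @Etale b) =>
      topologicalKrullDim ↥V.left) b hb))

end Groth.Agent.S10324
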