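import Groth.Statements.S10327
import Groth.Agent.SpPts86.ValClosed

set_option autoImplicit false
universe u
open CategoryTheory CategoryTheory.Limits AlgebraicGeometry
open AlgSp

namespace Groth.Agent.S10327

/-- For f quasi-compact and quasi-separated, f is separated and universally closed if and only if the
valuative criterion holds, if and only if every valuative square has a unique lift. -/
theorem result {S : Scheme.{u}} {X Y : AlgSp.Space S} (f : X ⟶ Y)
    (hqc : AlgSp.IsQuasiCompactMor f.hom) (hqs : AlgSp.IsQuasiSeparatedMor f.hom) :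
    ((AlgSp.IsSeparatedMor f.hom ∧ AlgSp.IsUnivClosedMor f.hom) ↔ AlgSp.VC f.hom) ∧
    ((AlgSp.IsSeparatedMor f.hom ∧ AlgSp.IsUnivClosedMor f.hom) ↔
      (AlgSp.UniqVC f.hom ∧ AlgSp.ExistVCStrict f.hom)) := by
  have h1 : (AlgSp.IsSeparatedMor f.hom ∧ AlgSp.IsUnivClosedMor f.hom) ↔ AlgSp.VC f.hom :=
    ⟨fun ⟨hs, hc⟩ => ⟨SpPts86.uniqVC_of_isSeparatedMor hs,
        SpPts86.existVC_of_univClosed X.property Y.property hqs hc⟩,
      fun ⟨hu, he⟩ => ⟨SpPts86.isSeparatedMor_of_uniqVC X.property Y.property hqs hu,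
        SpPts86.isUnivClosedMor_of_existVC hqc he⟩⟩
  refine ⟨h1, h1.trans ⟨fun ⟨hu, he⟩ => ⟨hu, ?_⟩, fun ⟨hu, he⟩ => ⟨hu, SpPts86.existVC_of_existVCStrict he⟩⟩⟩
  exact (SpPts86.existVC_iff_strict_of_separated X.property Y.property
    (SpPts86.isSeparatedMor_of_uniqVC X.property Y.property hqs hu)).1 he

end Groth.Agent.S10327
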