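import Groth.Statements.S10328
import Groth.Agent.SpPts86.ResTrdeg
import Groth.Agent.S9354

set_option autoImplicit false
universe u
open CategoryTheory CategoryTheory.Limits AlgebraicGeometry
open AlgSp

namespace Groth.Agent.S10328

/-- The relative dimension of a composite at a point is at most the sum of the relative dimensions, with
equality when the first morphism is flat at the point. (The published part (2) allows more generally
flatness of a fibre of X -> Y over a field point of Z; only the case f flat at x is stated.) -/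
theorem result {S : Scheme.{u}} {X Y Z : AlgSp.Space S} (f : X ⟶ Y) (g : Y ⟶ Z)
    (hf : AlgSp.LocP @LocallyOfFiniteType f.hom) (hg : AlgSp.LocP @LocallyOfFiniteType g.hom)
    (x : AlgSp.Points X.obj) (a b : WithBot ℕ∞)
    (ha : AlgSp.HasAtMor (fun _ _ h u => FlatMor.fibreDimAt h u = a) f.hom x)
    (hb : AlgSp.HasAtMor (fun _ _ h u => FlatMor.fibreDimAt h u = b) g.hom (AlgSp.Points.map f.hom x)) :
    AlgSp.HasAtMor (fun _ _ h u => FlatMor.fibreDimAt h u ≤ a + b) (f ≫ g).hom x ∧
    (AlgSp.IsFlatAtMor f.hom x → AlgSp.HasAtMor (fun _ _ h u => FlatMor.fibreDimAt h u = a + b) (f ≫ g).hom x) := by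
  obtain ⟨U, V, W, p, q, r, h, k, u, hp, hq, hr, w, w', w'', hu, hv⟩ :=
    SpPts86.exists_diagram_comp X.property Y.property Z.property f.hom g.hom x
  have := hf p q h hp hq w
  have := hg q r k hq hr w'
  have ha' := SpPts86.forall_diagram_of_hasAtMor X.property Y.property (SpPts86.etInv_fibreDim (· = a)) ha hp hq w hu
  have hb' := SpPts86.forall_diagram_of_hasAtMor Y.property Z.property (SpPts86.etInv_fibreDim (· = b)) hb hq hr w' hv
  obtain ⟨h1, h2⟩ := S9354.result h.left k.left u
  refine ⟨⟨U, W, p, r, h ≫ k, u, hp, hr, w'', hu, ?_⟩, fun hflat =>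
    ⟨U, W, p, r, h ≫ k, u, hp, hr, w'', hu, ?_⟩⟩
  · show FlatMor.fibreDimAt (h ≫ k).left u ≤ a + b
    rw [← ha', ← hb', Over.comp_left]
    exact h1
  · show FlatMor.fibreDimAt (h ≫ k).left u = a + b
    rw [← ha', ← hb', Over.comp_left]
    exact h2 (hflat p q h u hp hq w hu)

end Groth.Agent.S10328
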