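import Groth.Statements.S10329
import Groth.Agent.S10313

set_option autoImplicit false
universe u
open CategoryTheory CategoryTheory.Limits AlgebraicGeometry
open AlgSp

namespace Groth.Agent.S10329

/-- If the fibre of a morphism locally of finite type has dimension 0 at a point, then the morphism is
locally quasi-finite on some open subspace containing the image of that point. -/
theorem result {S : Scheme.{u}} {X Y F : AlgSp.Space S} (f : X ⟶ Y)
    (hf : AlgSp.LocP @LocallyOfFiniteType f.hom) (k : Type u) [Field k] (str : Spec (.of k) ⟶ S)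
    (y : (AlgSp.yon S).obj (Over.mk str) ⟶ Y.obj) (p : F ⟶ X) (q : F.obj ⟶ (AlgSp.yon S).obj (Over.mk str))
    (sq : IsPullback p.hom q f.hom y) (z : AlgSp.Points F.obj)
    (hz : AlgSp.HasAt (fun U u => FlatMor.localDim ↥U u = 0) F.obj z) :
    ∃ (X' : AlgSp.Space S) (j : X' ⟶ X), AlgSp.RepWith @IsOpenImmersion j.hom ∧
      AlgSp.Points.map p.hom z ∈ Set.range (AlgSp.Points.map j.hom) ∧
      AlgSp.LocP (@LocallyQuasiFinite ⊓ @LocallyOfFiniteType) (j ≫ f).hom := by
  obtain ⟨X', j, hj, hlqf, hout, -⟩ := S10313.result f hf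
  refine ⟨X', j, hj, ?_, hlqf⟩
  by_contra hx
  obtain ⟨U, c, u, hc, hu, hd⟩ := hz
  let K : CategoryTheory.Over S := Over.mk str
  let K' : AlgSp.Space S := ⟨(AlgSp.yon S).obj K, AlgSp.IsAlgSpace.yon_obj K⟩
  let h : U ⟶ K := (AlgSp.yon S).preimage (c ≫ q)
  have hid : AlgSp.RepWith @Etale (𝟙 ((AlgSp.yon S).obj K)) :=
    AlgSp.repWith_isMultiplicative (S := S) @Etale |>.id_mem _
  have hq : AlgSp.HasAtMor (fun _ _ h u => FlatMor.fibreDimAt h u = 0) q z := by
    refine ⟨U, K, c, 𝟙 _, h, u, hc, hid, by rw [Category.comp_id, Functor.map_preimage], hu, ?_⟩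
    have : Subsingleton ↥K.left := inferInstanceAs (Subsingleton (PrimeSpectrum k))
    have huniv : h.left ⁻¹' {h.left u} = Set.univ := Set.eq_univ_of_forall fun t => Subsingleton.elim _ _
    show FlatMor.fibreDimAt h.left u = 0
    rw [E4O.fibreDimAt_eq_localDim,
      E4O.localDim_eq_of_homeomorph ((Homeomorph.setCongr huniv).trans (Homeomorph.Set.univ _))]
    exact hd
  have h0 := (SpPts86.hasAtMor_fibreDim_baseChange (· = 0) sq X.property Y.property K'.property hf z).1 hq
  obtain ⟨U', V', a', b', h', u', ha', hb', w', hu', hd'⟩ := h0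
  have h1 := SpPts86.forall_diagram_of_hasAtMor X.property Y.property (SpPts86.etInv_fibreDim (1 ≤ ·))
    (hout _ hx) ha' hb' w' hu'
  rw [hd'] at h1
  exact not_lt.2 h1 zero_lt_one

end Groth.Agent.S10329
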