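import Groth.Statements.S10334
import Groth.Agent.SpPts86.EtPushImage

set_option autoImplicit false
universe u
open CategoryTheory CategoryTheory.Limits AlgebraicGeometry Opposite
open AlgSp
set_option backward.isDefEq.respectTransparency false
set_option linter.style.haveILetI false

namespace Groth.Agent.S10334

/-- Let f : Y -> X be an integral, universally injective morphism of algebraic spaces over S. A sheaf of
sets on the small etale site of X is isomorphic to a pushforward f_*F if and only if its value is a
one-element set on every etale scheme over X whose image misses f(|Y|); an abelian sheaf is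
isomorphic to a pushforward if and only if its value is zero on every such scheme. (The published
statement says 'restriction to the complement of f(|Y|) is a final object' and 'support contained in
f(|Y|)'; both conditions are written out on the etale schemes over the complement.) -/
theorem result {S : Scheme.{u}} {Y X : AlgSp.Space S} (f : Y ⟶ X)
    (hi : AlgSp.RepWith @IsIntegralHom f.hom) (hu : AlgSp.IsUnivInjectiveMor f.hom) :
    (∀ G : AlgSp.EtSh X.obj (Type (u + 1)),
      (AlgSp.pushEt hi.1 (Type (u + 1))).essImage G ↔
        ∀ E : AlgSp.EtOver X.obj,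
          Disjoint (Set.range (AlgSp.Points.map E.obj.hom)) (Set.range (AlgSp.Points.map f.hom)) →
            Nonempty (Unique (G.obj.obj (op E)))) ∧
    (∀ G : AlgSp.AbEt X.obj,
      (AlgSp.pushEt hi.1 AddCommGrpCat.{u + 1}).essImage G ↔
        ∀ E : AlgSp.EtOver X.obj,
          Disjoint (Set.range (AlgSp.Points.map E.obj.hom)) (Set.range (AlgSp.Points.map f.hom)) →
            Subsingleton ↥(G.obj.obj (op E))) := by
  have hr := SpPts86.repWith_intUI hi hu
  haveI : HasLimitsOfSize.{u, u + 1} (Type (u + 1)) := hasLimitsOfSizeShrink.{u, u + 1, u + 1, u + 1} _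
  haveI : HasLimitsOfSize.{u, u + 1} AddCommGrpCat.{u + 1} := hasLimitsOfSizeShrink.{u, u + 1, u + 1, u + 1} _
  refine ⟨fun G => (SpPts86.essImage_pushEt_iff hi.1 hr X.property G).trans (forall₂_congr fun E _ => ?_),
    fun G => (SpPts86.essImage_pushEt_iff hi.1 hr X.property G).trans (forall₂_congr fun E _ => ?_)⟩
  · exact ⟨fun ⟨t⟩ => ⟨(Types.isTerminalEquivUnique _) t⟩, fun ⟨t⟩ => ⟨(Types.isTerminalEquivUnique _).symm t⟩⟩
  · refine ⟨fun ⟨t⟩ => ?_, fun h => ?_⟩
    · exact AddCommGrpCat.subsingleton_of_isZero
        ((isZero_zero AddCommGrpCat.{u + 1}).of_iso (t.uniqueUpToIso HasZeroObject.zeroIsTerminal))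
    · exact ⟨(AddCommGrpCat.isZero_of_subsingleton _).isTerminal⟩

end Groth.Agent.S10334
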