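import Groth.Statements.S10335
import Groth.Agent.SpPts86.FibreStalkBC

set_option autoImplicit false
universe u
open CategoryTheory CategoryTheory.Limits AlgebraicGeometry
open AlgSp

namespace Groth.Agent.S10335

theorem withBot_le_of_add_eq {e e' : WithBot ℕ∞} {n n' : ℕ} (h : e' + ((n' : ℕ∞) : WithBot ℕ∞) = e + ((n : ℕ∞) : WithBot ℕ∞)) (hn : n' ≤ n) : e ≤ e' := by
  induction e using WithBot.recBotCoe with
  | bot => exact bot_le
  | coe a =>
    induction e' using WithBot.recBotCoe with
    | bot => exact absurd h (by rw [WithBot.bot_add, ← WithBot.coe_add]; exact WithBot.bot_ne_coe)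
    | coe a' =>
      rw [← WithBot.coe_add, ← WithBot.coe_add, WithBot.coe_inj] at h
      have h' : a + (n : ℕ∞) ≤ a' + n := h ▸ add_le_add le_rfl (by exact_mod_cast hn)
      exact WithBot.coe_le_coe.2 ((ENat.add_le_add_iff_right (ENat.natCast_ne_top n)).1 h')

theorem withBot_cancel {e e' : WithBot ℕ∞} {n : ℕ} (h : e' + ((n : ℕ∞) : WithBot ℕ∞) = e + ((n : ℕ∞) : WithBot ℕ∞)) : e' = e :=
  le_antisymm (withBot_le_of_add_eq h.symm le_rfl) (withBot_le_of_add_eq h le_rfl)

/-- In a base change square of algebraic spaces with f : X -> Y locally of finite type and f' : X' -> Y'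
its base change along g : Y' -> Y, take a point x' of X' over x. The fibre of f' has a local ring at
x' whose dimension exceeds the corresponding dimension for the fibre of f at x by exactly the
transcendence degree of x over f(x) minus that of x' over f'(x'), and this excess is never negative;
and for x in X and y' in Y' over the same point of Y some x' over both has excess zero. All four
quantities are read on some chart diagram through the point. -/
theorem result {S : Scheme.{u}} {X Y Y' X' : AlgSp.Space S} (f : X ⟶ Y) (g : Y' ⟶ Y)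
    (g' : X' ⟶ X) (f' : X' ⟶ Y') (sq : IsPullback g'.hom f'.hom f.hom g.hom)
    (hf : AlgSp.LocP @LocallyOfFiniteType f.hom) :
    (∀ (x' : AlgSp.Points X'.obj) (e e' : WithBot ℕ∞) (r r' : Cardinal.{u}),
      AlgSp.HasAtMor (fun _ _ h u => ringKrullDim ↥((h.fiber (h u)).presheaf.stalk (h.asFiber u)) = e) f.hom
          (AlgSp.Points.map g'.hom x') →
      AlgSp.HasAtMor (fun _ _ h u => Dual3.resTrdeg h u = r) f.hom (AlgSp.Points.map g'.hom x') →
      AlgSp.HasAtMor (fun _ _ h u => ringKrullDim ↥((h.fiber (h u)).presheaf.stalk (h.asFiber u)) = e') f'.hom x' →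
      AlgSp.HasAtMor (fun _ _ h u => Dual3.resTrdeg h u = r') f'.hom x' →
        e' + ((Cardinal.toENat r' : ℕ∞) : WithBot ℕ∞) = e + ((Cardinal.toENat r : ℕ∞) : WithBot ℕ∞) ∧ e ≤ e') ∧
    (∀ (x : AlgSp.Points X.obj) (y' : AlgSp.Points Y'.obj) (e : WithBot ℕ∞),
      AlgSp.Points.map f.hom x = AlgSp.Points.map g.hom y' →
      AlgSp.HasAtMor (fun _ _ h u => ringKrullDim ↥((h.fiber (h u)).presheaf.stalk (h.asFiber u)) = e) f.hom x →
        ∃ x' : AlgSp.Points X'.obj, AlgSp.Points.map g'.hom x' = x ∧ AlgSp.Points.map f'.hom x' = y' ∧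
          AlgSp.HasAtMor (fun _ _ h u => ringKrullDim ↥((h.fiber (h u)).presheaf.stalk (h.asFiber u)) = e)
            f'.hom x') := by
  refine ⟨fun x' e e' r r' he hr he' hr' => ?_, fun x y' e hxy he => ?_⟩
  · have hf' : AlgSp.LocP @LocallyOfFiniteType f'.hom :=
      SpFP87.locP_baseChange sq X.property Y.property Y'.property hf
    obtain ⟨h1, n, rfl⟩ := SpPts86.hasAtMor_fibreDim_of_stalk X.property Y.property hf he hr
    obtain ⟨h2, n', rfl⟩ := SpPts86.hasAtMor_fibreDim_of_stalk X'.property Y'.property hf' he' hr'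
    have h3 := (SpPts86.hasAtMor_fibreDim_baseChange
      (· = e + ((Cardinal.toENat (n : Cardinal.{u}) : ℕ∞) : WithBot ℕ∞))
      sq X.property Y.property Y'.property hf x').2 h1
    obtain ⟨W, W', c, c', k, w₀, hc, hc', hw, hu, hd⟩ := h2
    have e2 : e' + ((Cardinal.toENat (n' : Cardinal.{u}) : ℕ∞) : WithBot ℕ∞) =
        e + ((Cardinal.toENat (n : Cardinal.{u}) : ℕ∞) : WithBot ℕ∞) :=
      hd.symm.trans (SpPts86.forall_diagram_of_hasAtMor X'.property Y'.property
        (SpPts86.etInv_fibreDim (· = e + ((Cardinal.toENat (n : Cardinal.{u}) : ℕ∞) : WithBot ℕ∞))) h3 hc hc' hw hu)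
    refine ⟨e2, ?_⟩
    obtain ⟨U, V, p, q, h, u, hp, hq, w, hu', hr2⟩ := hr
    have hle := SpPts86.hasAtMor_baseChange_of (Q := fun _ _ h u => Dual3.resTrdeg h u ≤ (n : Cardinal.{u}))
      @LocallyOfFiniteType (SpPts86.etInv_resTrdeg (· ≤ (n : Cardinal.{u})))
      (fun p q f g sq hf a hle => (SpPts86.resTrdeg_le_of_isPullback p q f g sq hf a).trans hle)
      sq X.property Y.property Y'.property hf x' ⟨U, V, p, q, h, u, hp, hq, w, hu', hr2.le⟩
    obtain ⟨W₂, W₂', d, d', k₂, w₂, hd₁, hd₂, hw₂, hu₂, hr2'⟩ := hr'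
    have hn := SpPts86.forall_diagram_of_hasAtMor X'.property Y'.property
      (SpPts86.etInv_resTrdeg (· ≤ (n : Cardinal.{u}))) hle hd₁ hd₂ hw₂ hu₂
    rw [hr2', Nat.cast_le] at hn
    simp only [Cardinal.toENat_nat] at e2
    exact withBot_le_of_add_eq e2 hn
  · obtain ⟨U, V, a, b, h, u, ha, hb, w, hu, he⟩ := he
    have sqg := IsPullback.of_hasPullback g.hom b
    have hP := SpFP87.isAlgSpace_of_isPullback sqg Y'.property (AlgSp.IsAlgSpace.yon_obj V) Y.property.diag
    obtain ⟨z, hz1, hz2⟩ := SpPts86.exists_of_isPullback sqg y' (AlgSp.Points.ofScheme V (h.left u)) (by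
      rw [← hxy, ← hu, AlgSp.Points.map_ofPt, w, SpPts86.ofPt_comp, ← AlgSp.Points.ofPt_eq_map_ofScheme])
    obtain ⟨V', p, hp, hps⟩ := hP.atlas
    obtain ⟨v', rfl⟩ := SpPts86.surjective_ofPt hps z
    let k : V' ⟶ V := (AlgSp.yon S).preimage (p ≫ pullback.snd g.hom b)
    have hb' : AlgSp.RepWith @Etale (p ≫ pullback.fst g.hom b) :=
      SpPts86.isEtaleMor_baseChange sqg.flip (AlgSp.IsAlgSpace.yon_obj V) Y.property Y'.property
        (SpPts86.isEtaleMor_of_repWith_etale hb) p hp
    have w' : (p ≫ pullback.fst g.hom b) ≫ g.hom = (AlgSp.yon S).map k ≫ b := by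
      rw [Functor.map_preimage, Category.assoc, Category.assoc, pullback.condition]
    have hv : h.left u = k.left v' := by
      refine (AlgSp.Points.schemeHomeo V).injective ?_
      rw [AlgSp.Points.map_ofPt, ← Functor.map_preimage (AlgSp.yon S) (p ≫ pullback.snd g.hom b),
        SpPts86.ofPt_yon_map] at hz2
      exact hz2.symm
    obtain ⟨W, c, s, t, hc, hw, hfst, hst, hdeg⟩ :=
      SpPts86.exists_baseChange_point sq Y.property hf ha hb hb' w w' u v' hv
    refine ⟨AlgSp.Points.ofPt c t, hfst.trans hu, ?_, W, V', c, _, s, t, hc, hb', hw, rfl, ?_⟩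
    · rw [AlgSp.Points.map_ofPt, hw, SpPts86.ofPt_comp, hst, ← hz1, AlgSp.Points.map_ofPt]
    · show ringKrullDim ↥((s.left.fiber (s.left t)).presheaf.stalk (s.left.asFiber t)) = e
      have := hf a b h ha hb w
      have : LocallyOfFiniteType s.left :=
        SpFP87.locP_baseChange sq X.property Y.property Y'.property hf c _ s hc hb' hw
      have h1 := (SpPts86.hasAtMor_fibreDim_baseChange (· = FlatMor.fibreDimAt h.left u) sq X.property Y.property
        Y'.property hf (AlgSp.Points.ofPt c t)).2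
        ⟨U, V, a, b, h, u, ha, hb, w, hfst.symm, rfl⟩
      have h2 := SpPts86.forall_diagram_of_hasAtMor X'.property Y'.property
        (SpPts86.etInv_fibreDim (· = FlatMor.fibreDimAt h.left u)) h1 hc hb' hw rfl
      rw [SpPts86.fibreDimAt_eq_stalk_add, SpPts86.fibreDimAt_eq_stalk_add, hdeg, he] at h2
      simp only [Cardinal.toENat_nat] at h2
      exact withBot_cancel h2

end Groth.Agent.S10335
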