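import Groth.Statements.S10342
import Groth.Agent.SpFP87.OverField
import Groth.Agent.SpFP87.DecentDim
import Groth.Agent.SpFP87.NoethDesc

set_option autoImplicit false
universe u
open CategoryTheory CategoryTheory.Limits AlgebraicGeometry Topology TopologicalSpace
open AlgSp

namespace Groth.Agent.S10342

/-- Let X be a locally Noetherian algebraic space over a scheme S and a : h_U ⟶ X a representable etale
map from a scheme U. If two points u, u' of U have the same image in |X| and u' specializes to u,
then u = u'. -/
theorem result {S : Scheme.{u}} (X : AlgSp.Space S)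
    (hX : AlgSp.IsLocNoethSp X.obj) {U : Over S} (a : (AlgSp.yon S).obj U ⟶ X.obj) (ha : AlgSp.RepWith @Etale a)
    (u u' : ↥U.left) (he : AlgSp.Points.ofPt a u = AlgSp.Points.ofPt a u') (hs : u' ⤳ u) : u = u' := by
  have := SpFP87.isLocallyNoetherian_chart X.property hX ha
  by_contra hne
  have h := SpFP87.dim_stalk_eq_of_ofPt_eq X.property ha ha he
  rw [ringKrullDim_stalk_eq_coheight, ringKrullDim_stalk_eq_coheight, WithBot.coe_inj] at h
  have hlt : u < u' := lt_iff_le_not_ge.2 ⟨hs, fun h2 => hne (Specializes.antisymm h2 hs).eq⟩
  have hfin : Order.coheight u < ⊤ := by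
    have := ringKrullDim_lt_top (R := U.left.presheaf.stalk u)
    rw [ringKrullDim_stalk_eq_coheight] at this
    exact WithBot.coe_lt_coe.1 this
  exact absurd h (ne_of_gt (Order.coheight_strictAnti hlt (h ▸ hfin)))

end Groth.Agent.S10342
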