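import Groth.Statements.S10358
import Groth.Agent.SpPts86.ClosedFieldPt

set_option autoImplicit false
universe u
open CategoryTheory CategoryTheory.Limits AlgebraicGeometry Topology TopologicalSpace
open AlgSp

namespace Groth.Agent.S10358

/-- Let S be a scheme, X a decent algebraic space over S, and Spec k ⟶ X a morphism over S from the
spectrum of a field whose image in S is a closed point s with k finite over κ(s) (Spec k ⟶ S written
through a ring map φ : κ(s) → k). Then Spec k ⟶ X is finite; if moreover φ is bijective (k = κ(s))
it is a closed immersion. -/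
theorem result {S : Scheme.{u}} (X : AlgSp.Space S)
    (hX : AlgSp.IsDecent X.obj) (s : ↥S) (hs : IsClosed ({s} : Set ↥S)) (k : Type u) [Field k]
    (φ : S.residueField s ⟶ CommRingCat.of k) (hφ : φ.hom.Finite)
    (p : (AlgSp.yon S).obj (Over.mk (Spec.map φ ≫ S.fromSpecResidueField s)) ⟶ X.obj) :
    AlgSp.RepWith @IsFinite p ∧
      (Function.Bijective φ.hom → AlgSp.RepWith @IsClosedImmersion p) := by
  have : IsClosedImmersion (S.fromSpecResidueField s) := isClosed_singleton_iff_isClosedImmersion.1 hs
  have hfin : IsFinite (Spec.map φ) := (IsFinite.SpecMap_iff _).2 hφ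
  let str := Spec.map φ ≫ S.fromSpecResidueField s
  obtain ⟨q, c, hq, rfl⟩ := SpPts86.exists_fac_closedImmersion_point X.property hX
    (inferInstanceAs (IsIntegralHom str)) p
  have : IsFinite str := inferInstanceAs (IsFinite (Spec.map φ ≫ S.fromSpecResidueField s))
  have hcw : c.left ≫ q.str = str := Over.w c
  have : IsAffine q.pt.left := inferInstanceAs (IsAffine (Spec _))
  have : IsSeparated q.str := SpPts86.isSeparated_hom_of_isAffine q.pt
  refine ⟨?_, fun hb => ?_⟩
  · have : IsFinite c.left := by
      have : IsFinite (c.left ≫ q.str) := hcw ▸ ‹IsFinite str›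
      exact IsFinite.of_comp c.left q.str
    exact MorphismProperty.comp_mem (W := AlgSp.RepWith (@IsFinite : MorphismProperty Scheme.{u})) _ _
      ((AlgSp.repWith_yon_map_iff _ _).2 this)
      (SpPts86.repWith_mono (fun _ _ f (_ : IsClosedImmersion f) => (inferInstance : IsFinite f)) hq)
  · have : IsClosedImmersion (Spec.map φ) := IsClosedImmersion.spec_of_surjective _ hb.2
    have : IsClosedImmersion c.left := by
      have : IsClosedImmersion (c.left ≫ q.str) := hcw ▸ inferInstanceAs (IsClosedImmersion (Spec.map φ ≫ S.fromSpecResidueField s))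
      exact IsClosedImmersion.of_comp c.left q.str
    exact MorphismProperty.comp_mem (W := AlgSp.RepWith (@IsClosedImmersion : MorphismProperty Scheme.{u})) _ _
      ((AlgSp.repWith_yon_map_iff _ _).2 this) hq

end Groth.Agent.S10358
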