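import Groth.Statements.S10365
import Groth.Agent.SpPts86.FieldCover

set_option autoImplicit false
universe u
open CategoryTheory CategoryTheory.Limits AlgebraicGeometry Topology TopologicalSpace
open AlgSp

namespace Groth.Agent.S10365

/-- Let Z be an algebraic space over a scheme S admitting a surjective flat morphism Spec k ⟶ Z from the
spectrum of a field. Then every morphism Spec k' ⟶ Z from the spectrum of a field is surjective and
flat. -/
theorem result {S : Scheme.{u}} (Z : AlgSp.Space S)
    (k : Type u) [Field k] (str : Spec (CommRingCat.of k) ⟶ S) (p : (AlgSp.yon S).obj (Over.mk str) ⟶ Z.obj)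
    (hpf : AlgSp.LocP @Flat p) (hps : AlgSp.IsSurjectiveMor p)
    (k' : Type u) [Field k'] (str' : Spec (CommRingCat.of k') ⟶ S) (q : (AlgSp.yon S).obj (Over.mk str') ⟶ Z.obj) :
    AlgSp.LocP @Flat q ∧ AlgSp.IsSurjectiveMor q := by
  have hsub := SpPts86.subsingleton_points_of_field hps
  obtain ⟨U, a, ha, hs⟩ := Z.property.atlas
  obtain ⟨M, c, -, hMf, hc, hcs⟩ := SpPts86.exists_flat_cover_chart Z.property hpf hps ha
  obtain ⟨M', b', c', sq'⟩ := SpFP87.exists_isPullback_yon Z.property.diag q a
  haveI : Etale b'.left := SpFP87.etale_snd_of_isPullback sq'.flip ha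
  have hb' : AlgSp.RepWith @Etale ((AlgSp.yon S).map b') := (AlgSp.repWith_yon_map_iff _ _).2 inferInstance
  have hb's : AlgSp.RepWith @Surjective ((AlgSp.yon S).map b') :=
    (AlgSp.repWith_isStableUnderBaseChange (@Surjective : MorphismProperty Scheme.{u})).of_isPullback sq'.flip hs
  refine ⟨SpFP87.locP_of_chart (AlgSp.IsAlgSpace.yon_obj _).diag Z.property.diag hb' hb's ha sq'.w
      (SpFP87.flat_to_field c'.left (SpPts86.isField_stalk_of_flat_surjective c.left hMf)), fun x => ?_⟩
  exact ⟨Points.ofScheme (Over.mk str') (IsLocalRing.closedPoint k'), Subsingleton.elim _ _⟩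

end Groth.Agent.S10365
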