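import Groth.Statements.S10366
import Groth.Agent.SpPts86.FieldCover

set_option autoImplicit false
universe u
open CategoryTheory CategoryTheory.Limits AlgebraicGeometry Topology TopologicalSpace
open AlgSp

namespace Groth.Agent.S10366

/-- (1) ⇔ (2): an algebraic space Z over a scheme S is reduced with |Z| a single point if and only if
there is a surjective flat morphism Spec k ⟶ Z from the spectrum of a field. -/
theorem result {S : Scheme.{u}} (Z : AlgSp.Space S) :
    (AlgSp.EtaleLocally (fun U => IsReduced U) Z.obj ∧ Nonempty (AlgSp.Points Z.obj) ∧ Subsingleton (AlgSp.Points Z.obj)) ↔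
      ∃ (k : Type u) (_ : Field k) (str : Spec (CommRingCat.of k) ⟶ S) (p : (AlgSp.yon S).obj (Over.mk str) ⟶ Z.obj),
        AlgSp.LocP @Flat p ∧ AlgSp.IsSurjectiveMor p := by
  constructor
  · rintro ⟨hr, ⟨z⟩, hsub⟩
    exact SpPts86.exists_flat_field_point_of_reduced Z.property hr z
  · rintro ⟨k, _, str, p, hfl, hps⟩
    obtain ⟨U, a, ha, hs⟩ := Z.property.atlas
    obtain ⟨M, c, hM, hMf, hc, hcs⟩ := SpPts86.exists_flat_cover_chart Z.property hfl hps ha
    refine ⟨⟨U, a, ha, hs, ?_⟩, ⟨Points.ofPt p (IsLocalRing.closedPoint k)⟩,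
      SpPts86.subsingleton_points_of_field hps⟩
    suffices ∀ z : ↥U.left, _root_.IsReduced (U.left.presheaf.stalk z) from isReduced_of_isReduced_stalk _
    intro z
    letI := (SpPts86.isField_stalk_of_flat_surjective c.left hMf z).toField
    infer_instance

end Groth.Agent.S10366
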