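import Groth.Statements.S10376
import Groth.Agent.SpFP87.NormExists
import Groth.Agent.SpFP87.ThickCart
import Groth.Agent.SpPts86.FiniteCrit
import Groth.Agent.SpPts86.QCMor
import Groth.Agent.SpProper61.FiniteFibreCodimZero

set_option autoImplicit false
set_option backward.isDefEq.respectTransparency false
universe u
open CategoryTheory CategoryTheory.Limits AlgebraicGeometry Topology TopologicalSpace
open AlgSp Groth.Agent.SpPts86 Groth.Agent.SpFP87 Groth.Agent.SpProper61

namespace Groth.Agent.S10376

/-- Let S be a scheme, Y and V algebraic spaces over S, j : V ⟶ Y a quasi-compact open immersion, and π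
: Z ⟶ V an integral morphism. Then one can find an integral morphism ν : Y' ⟶ Y for which Z is
isomorphic over V to the preimage in Y' of V: there is j' : Z ⟶ Y' making the square (j', π, ν, j)
cartesian. -/
theorem result {S : Scheme.{u}} {V Y Z : AlgSp.Space S} (j : V ⟶ Y)
    (hj : AlgSp.RepWith @IsOpenImmersion j.hom) (hjq : AlgSp.IsQuasiCompactMor j.hom) (π : Z ⟶ V)
    (hπ : AlgSp.IsIntegralMor π.hom) :
    ∃ (Y' : AlgSp.Space S) (ν : Y' ⟶ Y) (j' : Z ⟶ Y'), AlgSp.IsIntegralMor ν.hom ∧
      IsPullback j'.hom π.hom ν.hom j.hom := by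
  have hπr := (isIntegralMor_iff π.hom).1 hπ
  have : Mono j.hom := mono_of_repWith_le (fun _ _ k (hk : IsOpenImmersion k) => (inferInstance : Mono k)) hj
  have hle : (@IsIntegralHom : MorphismProperty Scheme.{u}) ≤ @IsSeparated := fun _ _ k (hk : IsIntegralHom k) =>
    (inferInstance : IsSeparated k)
  have hle' : (@IsIntegralHom : MorphismProperty Scheme.{u}) ≤ @QuasiCompact := fun _ _ k (hk : IsIntegralHom k) =>
    (inferInstance : QuasiCompact k)
  have hqcπ : IsQuasiCompactMor π.hom := isQuasiCompactMor_of_repWith V.property (repWith_mono hle' hπr)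
  have hqc := isQuasiCompactMor_comp V.property Y.property hqcπ hjq
  have hqsπ : IsQuasiSeparatedMor π.hom := repWith_mono (fun _ _ k (hk : IsClosedImmersion k) =>
    (inferInstance : QuasiCompact k)) (isSeparatedMor_of_repWith_le hle Z.property hπr)
  have hqs := isQuasiSeparatedMor_comp_aux hqsπ (isQuasiSeparatedMor_of_mono j.hom)
  obtain ⟨X', ν, f', hX', hn, -⟩ := exists_normalization_smoothUniv Y.property Z.property (π.hom ≫ j.hom) hqc hqs
  have hloc : LocP @Smooth j.hom := LocP.of_le (P := @Etale) (fun _ _ k (hk : Etale k) => (inferInstance : Smooth k))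
    (locP_of_repWith V.property.diag Y.property (repWith_mono (fun _ _ k (hk : IsOpenImmersion k) =>
      (inferInstance : Etale k)) hj))
  have sq2 := IsPullback.of_hasPullback ν j.hom
  have sq1 : IsPullback (𝟙 Z.obj) π.hom (π.hom ≫ j.hom) j.hom :=
    ⟨⟨Category.id_comp _⟩, ⟨PullbackCone.IsLimit.mk _ (fun s => s.fst) (fun s => Category.comp_id _)
      (fun s => (cancel_mono j.hom).1 (by rw [Category.assoc]; exact s.condition))
      (fun s m m1 _ => by simpa using m1)⟩⟩
  let f'T : Z.obj ⟶ pullback ν j.hom := pullback.lift f' π.hom hn.1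
  have hT := univBC_of_isRelNormalization Y.property Z.property hqc hqs hX' hn V.property hloc
    (𝟙 _) π.hom _ _ sq1 sq2 f'T (pullback.lift_snd _ _ _) (by rw [pullback.lift_fst, Category.id_comp])
  have hpull : IsAlgSpace (pullback ν j.hom) := isAlgSpace_of_isPullback sq2 hX' V.property Y.property.diag
  have htriv : IsRelNormalization π.hom π.hom (𝟙 Z.obj) :=
    ⟨Category.id_comp _, hπ, fun W _ q g _ hg => ⟨g, ⟨Category.id_comp _, hg⟩, fun m hm => by simpa using hm.1⟩⟩
  obtain ⟨e, e1, e2⟩ := exists_iso_of_isRelNormalization Z.property hpull htriv hT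
  refine ⟨⟨X', hX'⟩, ObjectProperty.homMk ν, ObjectProperty.homMk f', hn.2.1, ?_⟩
  show IsPullback f' π.hom ν j.hom
  refine sq2.of_iso e.symm (Iso.refl _) (Iso.refl _) (Iso.refl _) ?_ ?_ (by simp) (by simp)
  · simp only [Iso.refl_hom, Category.comp_id, Iso.symm_hom]
    rw [Iso.eq_inv_comp]
    simp only [Category.id_comp] at e2
    rw [e2, pullback.lift_fst]
  · simp only [Iso.refl_hom, Category.comp_id, Iso.symm_hom]
    rw [Iso.eq_inv_comp]
    exact e1

end Groth.Agent.S10376
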