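import Groth.Statements.S10384
import Groth.Agent.SpFP87.FieldQuot

set_option autoImplicit false
universe u
open CategoryTheory CategoryTheory.Limits AlgebraicGeometry Topology TopologicalSpace
open AlgSp

namespace Groth.Agent.S10384

/-- Let f : X ⟶ Y be a quasi-compact, etale and surjective morphism of algebraic spaces over a scheme S.
If X is decent then Y is decent. -/
theorem result {S : Scheme.{u}} {X Y : AlgSp.Space S} (f : X ⟶ Y)
    (hq : AlgSp.IsQuasiCompactMor f.hom) (he : AlgSp.IsEtaleMor f.hom) (hs : AlgSp.IsSurjectiveMor f.hom)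
    (hX : AlgSp.IsDecent X.obj) : AlgSp.IsDecent Y.obj := by
  intro y
  obtain ⟨x, rfl⟩ := hs y
  obtain ⟨p, hp, hm, hpq⟩ := hX x
  haveI := hm
  obtain ⟨q, hq1, hq2, hq3⟩ := Groth.Agent.SpFP87.exists_mono_point_of_qc_etale X.property Y.property f.hom hq he p
  exact ⟨q, hq1.trans (by rw [hp]), hq2, hq3 hpq⟩

end Groth.Agent.S10384
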