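import Groth.Statements.S10394
import Groth.Agent.SpFP87.DecentDim

set_option autoImplicit false
universe u
open CategoryTheory CategoryTheory.Limits AlgebraicGeometry Topology TopologicalSpace
open AlgSp

namespace Groth.Agent.S10394

/-- (1) ⇔ (4): let S be a scheme, X a decent algebraic space over S and x ∈ |X|. Then x is the generic
point of some irreducible component of |X| if and only if the local ring of X at x has dimension
zero (x is a codimension 0 point of X). -/
theorem result {S : Scheme.{u}} (X : AlgSp.Space S)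
    (hX : AlgSp.IsDecent X.obj) (x : AlgSp.Points X.obj) :
    (∃ T ∈ irreducibleComponents (AlgSp.Points X.obj), IsGenericPoint x T) ↔ AlgSp.HasAt (fun U u => ringKrullDim ↥(U.presheaf.stalk u) = 0) X.obj x := by
  obtain ⟨U, a, ha, has⟩ := X.property.atlas
  obtain ⟨u, rfl⟩ := Groth.Agent.SpPts86.surjective_ofPt has x
  have key := Groth.Agent.SpFP87.isGeneric_iff_forall_eq X.property X.property hX (𝟙 X.obj) ha has
    (by rw [Category.comp_id]; exact ha) u
  rw [key]
  constructor
  · exact fun h => ⟨U, a, u, ha, rfl, (Groth.Agent.SpFP87.dim_stalk_eq_zero_iff u).2 h⟩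
  · rintro ⟨V, b, v, hb, hv, hd⟩ w hw
    obtain ⟨R, p, q, _, _, sq, -, -, -⟩ := Groth.Agent.SpPts86.exists_common_chart X.property hb ha
    obtain ⟨r, hr1, hr2⟩ := Groth.Agent.SpPts86.exists_pt_common_chart sq v u hv
    obtain ⟨r', hr', hr'w⟩ := Flat.generalizingMap (f := q.left) (hr2.symm ▸ hw : w ⤳ q.left r)
    have h1 := (Groth.Agent.SpFP87.dim_stalk_eq_zero_iff v).1 hd (p.left r') (hr1 ▸ hr'.map p.left.continuous)
    haveI : LocallyQuasiFinite p.left := Groth.Agent.Unr55.locallyQuasiFinite_of_formallyUnramified _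
    have h2 := Groth.Agent.SpFP87.eq_of_specializes_of_locallyQuasiFinite p.left hr' (h1.trans hr1.symm)
    rw [← hr'w, h2, hr2]

end Groth.Agent.S10394
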