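import Groth.Statements.S10395
import Groth.Agent.SpFP87.DecentDim

set_option autoImplicit false
universe u
open CategoryTheory CategoryTheory.Limits AlgebraicGeometry Topology TopologicalSpace
open AlgSp

namespace Groth.Agent.S10395

/-- (1) ⇔ (2) ⇔ (3): let S be a scheme, X a decent algebraic space over S, and (Y, y) ⟶ (X, x) an etale
morphism of pointed algebraic spaces. Then the point y is a generic point of some irreducible
component of |Y| if and only if the point x is a generic point of some irreducible component of |X|. -/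
theorem result {S : Scheme.{u}} {X Y : AlgSp.Space S}
    (hX : AlgSp.IsDecent X.obj) (f : Y ⟶ X) (hf : AlgSp.IsEtaleMor f.hom) (y : AlgSp.Points Y.obj) :
    (∃ T ∈ irreducibleComponents (AlgSp.Points Y.obj), IsGenericPoint y T) ↔
      (∃ T ∈ irreducibleComponents (AlgSp.Points X.obj), IsGenericPoint (AlgSp.Points.map f.hom y) T) := by
  obtain ⟨V, a, ha, has⟩ := Y.property.atlas
  obtain ⟨v, rfl⟩ := Groth.Agent.SpPts86.surjective_ofPt has y
  have haf : RepWith @Etale (a ≫ f.hom) := hf a ha
  rw [Groth.Agent.SpFP87.isGeneric_iff_forall_eq Y.property X.property hX f.hom ha has haf v]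
  obtain ⟨U, b, hb, hbs⟩ := X.property.atlas
  obtain ⟨u, hu⟩ := Groth.Agent.SpPts86.surjective_ofPt hbs (Points.map f.hom (Points.ofPt a v))
  have key := Groth.Agent.SpFP87.isGeneric_iff_forall_eq X.property X.property hX (𝟙 X.obj) hb hbs
    (by rw [Category.comp_id]; exact hb) u
  rw [← hu, key]
  obtain ⟨R, p, q, _, _, sq, -, -, -⟩ := Groth.Agent.SpPts86.exists_common_chart X.property haf hb
  obtain ⟨r, hr1, hr2⟩ := Groth.Agent.SpPts86.exists_pt_common_chart sq v u ((Points.map_ofPt a f.hom v).symm.trans hu.symm)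
  haveI : LocallyQuasiFinite p.left := Groth.Agent.Unr55.locallyQuasiFinite_of_formallyUnramified _
  haveI : LocallyQuasiFinite q.left := Groth.Agent.Unr55.locallyQuasiFinite_of_formallyUnramified _
  constructor
  · intro h w hw
    obtain ⟨r', hr', hr'w⟩ := Flat.generalizingMap (f := q.left) (hr2.symm ▸ hw : w ⤳ q.left r)
    have h2 := Groth.Agent.SpFP87.eq_of_specializes_of_locallyQuasiFinite p.left hr'
      ((h _ (hr1 ▸ hr'.map p.left.continuous)).trans hr1.symm)
    rw [← hr'w, h2, hr2]
  · intro h w hw
    obtain ⟨r', hr', hr'w⟩ := Flat.generalizingMap (f := p.left) (hr1.symm ▸ hw : w ⤳ p.left r)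
    have h2 := Groth.Agent.SpFP87.eq_of_specializes_of_locallyQuasiFinite q.left hr'
      ((h _ (hr2 ▸ hr'.map q.left.continuous)).trans hr2.symm)
    rw [← hr'w, h2, hr1]

end Groth.Agent.S10395
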