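import Groth.Statements.S10412
import Groth.Agent.SpProper61.MonoLqf
import Groth.Agent.SpPts86.DiagDesc
import Groth.Agent.SpPts86.Compact
import Groth.Agent.SpPts86.EtaleMor

set_option autoImplicit false
universe u
open CategoryTheory CategoryTheory.Limits AlgebraicGeometry Topology TopologicalSpace
open AlgSp

namespace Groth.Agent.S10412

/-- For an algebraic space X over a scheme S the following are equivalent: (1) X has a Zariski covering
by open subspaces X_i, each X_i admitting a surjective, etale and quasi-compact morphism U_i ⟶ X_i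
with U_i a scheme; (2) there are etale morphisms U_i ⟶ X from schemes, jointly surjective, such that
for each i both projection morphisms from U_i ×_X U_i to U_i are quasi-compact. -/
theorem result {S : Scheme.{u}} (X : AlgSp.Space S) :
    (∃ (ι : Type u) (Xi : ι → AlgSp.Space S) (j : ∀ i, Xi i ⟶ X) (U : ι → Over S)
        (a : ∀ i, (AlgSp.yon S).obj (U i) ⟶ (Xi i).obj),
        AlgSp.IsZarCover (fun i => (Xi i).obj) (fun i => (j i).hom) ∧
          ∀ i, AlgSp.RepWith @Etale (a i) ∧ AlgSp.RepWith @Surjective (a i) ∧ AlgSp.RepWith @QuasiCompact (a i)) ↔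
      ∃ (ι : Type u) (U : ι → Over S) (φ : ∀ i, (AlgSp.yon S).obj (U i) ⟶ X.obj),
        (∀ i, AlgSp.RepWith @Etale (φ i)) ∧
          (∀ x : AlgSp.Points X.obj, ∃ (i : ι) (v : ↥(U i).left), AlgSp.Points.ofPt (φ i) v = x) ∧
          ∀ (i : ι) (R : Over S) (s t : R ⟶ U i), IsPullback ((AlgSp.yon S).map t) ((AlgSp.yon S).map s) (φ i) (φ i) →
            QuasiCompact s.left ∧ QuasiCompact t.left := by
  constructor
  · rintro ⟨ι, Xi, j, U, a, ⟨hj, hcov⟩, ha⟩
    refine ⟨ι, U, fun i => a i ≫ (j i).hom, fun i => MorphismProperty.comp_mem _ _ _ (ha i).1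
      (SpPts86.repWith_mono (fun _ _ g (_ : IsOpenImmersion g) => (inferInstance : Etale g)) (hj i)), fun x => ?_,
      fun i R s t sq => ?_⟩
    · obtain ⟨i, z, hz⟩ := hcov x
      obtain ⟨v, hv⟩ := SpPts86.surjective_ofPt (ha i).2.1 z
      exact ⟨i, v, by rw [← Points.map_ofPt, hv, hz]⟩
    · have : Mono (j i).hom := SpPts86.mono_of_repWith_le SpPts86.isOpenImmersion_le_monomorphisms (hj i)
      have sq' : IsPullback ((yon S).map t) ((yon S).map s) (a i) (a i) :=
        IsPullback.of_isLimit' ⟨(cancel_mono (j i).hom).1 (by simpa using sq.w)⟩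
          (PullbackCone.IsLimit.mk _
            (fun c => sq.lift c.fst c.snd (by simp only [← Category.assoc, c.condition]))
            (fun c => sq.lift_fst _ _ _) (fun c => sq.lift_snd _ _ _)
            (fun c l h1 h2 => sq.hom_ext (by rw [sq.lift_fst, h1]) (by rw [sq.lift_snd, h2])))
      exact ⟨(ha i).2.2.property _ _ _ sq', (ha i).2.2.property _ _ _ sq'.flip⟩
  · rintro ⟨ι, U, φ, he, hcov, hqc⟩
    have hW : ∀ i, IsOpen (Set.range (Points.ofPt (φ i))) := fun i => by
      rw [← Set.image_univ]; exact SpPts86.isOpenMap_ofPt (he i) _ isOpen_univ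
    let Xi : ι → Space S := fun i => ⟨SpPts86.restrictSheaf X.obj (Set.range (Points.ofPt (φ i))),
      SpPts86.isAlgSpace_restrictSheaf X.property (hW i)⟩
    let j : ∀ i, Xi i ⟶ X := fun i => ObjectProperty.homMk (SpPts86.restrictι X.obj _)
    have hj : ∀ i, RepWith @IsOpenImmersion (j i).hom := fun i => SpPts86.repWith_restrictι (hW i)
    have hfac : ∀ i, ∃ a : (yon S).obj (U i) ⟶ (Xi i).obj, a ≫ (j i).hom = φ i := fun i => by
      refine SpPts86.exists_factor_of_range_subset (hj i) _ ?_
      rw [show Set.range (Points.map (j i).hom) = _ from SpPts86.range_map_restrictι (hW i)]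
      rintro _ ⟨p, rfl⟩
      exact ⟨Points.toScheme (U i) p, by rw [Points.ofPt_eq_map_ofScheme, Points.ofScheme_toScheme]⟩
    choose a ha using hfac
    refine ⟨ι, Xi, j, U, a, ⟨hj, fun x => ?_⟩, fun i => ?_⟩
    · obtain ⟨i, v, rfl⟩ := hcov x
      exact ⟨i, Points.ofPt (a i) v, by rw [Points.map_ofPt, ha]⟩
    have hm : Mono (j i).hom := SpPts86.mono_of_repWith_le SpPts86.isOpenImmersion_le_monomorphisms (hj i)
    have hje : IsEtaleMor (j i).hom := SpPts86.isEtaleMor_of_repWith_etale
      (SpPts86.repWith_mono (fun _ _ g (_ : IsOpenImmersion g) => (inferInstance : Etale g)) (hj i))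
    have hrep : Representable (a i) := (Xi i).property.representable_from_yon _
    have hae : RepWith @Etale (a i) := SpPts86.repWith_etale_of_isEtaleMor (Xi i).property hrep
      (SpPts86.isEtaleMor_of_comp (Z := X.obj) (Xi i).property hje (ha i ▸ SpPts86.isEtaleMor_of_repWith_etale (he i)))
    have has : RepWith @Surjective (a i) := SpPts86.repWith_surjective_of_surjective_ofPt hrep fun z => by
      obtain ⟨v, hv⟩ : Points.map (j i).hom z ∈ Set.range (Points.ofPt (φ i)) :=
        (SpPts86.range_map_restrictι (hW i)).le ⟨z, rfl⟩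
      exact ⟨v, SpPts86.injective_map_of_mono (j i).hom (by rw [Points.map_ofPt, ha, hv])⟩
    obtain ⟨R, t, s, sq⟩ := SpFP87.exists_isPullback_yon (Xi i).property.diag (a i) (a i)
    have sqX : IsPullback ((yon S).map t) ((yon S).map s) (φ i) (φ i) := by
      rw [← ha i]
      exact SpProper61.isPullback_comp_mono sq _
    have hs : QuasiCompact s.left := (hqc i R s t sqX).1
    refine ⟨hae, has, ?_⟩
    have : MorphismProperty.DescendsAlong (@QuasiCompact : MorphismProperty Scheme.{u}) SpPts86.fppfMor :=
      SpPts86.quasiCompact_descends.{u}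
    have := SpPts86.isLocalAtTarget_fppf.{u} (@QuasiCompact : MorphismProperty Scheme.{u})
    exact SpPts86.repWith_of_locLift _ hrep (SpFP87.locLift_of_atlas hae has) sq
      ((repWith_yon_map_iff _ _).2 hs)

end Groth.Agent.S10412
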