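import Groth.Statements.S10414
import Groth.Agent.SpFP87.FieldMono
import Groth.Agent.SpFP87.Decent
open Groth.Agent.SpFP87 Groth.Agent.SpPts86

set_option autoImplicit false
universe u
open CategoryTheory CategoryTheory.Limits AlgebraicGeometry Topology TopologicalSpace
open AlgSp

namespace Groth.Agent.S10414

/-- Let S be a scheme, X an algebraic space over S, x ∈ |X|, and Z_x ⟶ X the residual space of x (a
monomorphism with image {x} from a space which admits a locally finitely presented, flat, surjective
morphism whose source is the spectrum of a field). Then Z_x is isomorphic to Spec k' for some field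
k' if and only if the point x is represented by some monomorphism Spec k ⟶ X. (The decent case, in
which the right side holds at every point, is not part of this row.) -/
theorem result {S : Scheme.{u}} (X : AlgSp.Space S) (x : AlgSp.Points X.obj)
    {Z : AlgSp.Space S} (i : Z ⟶ X) [Mono i.hom] (hi : Set.range (AlgSp.Points.map i.hom) = {x})
    (hZ : ∃ (k : Type u) (_ : Field k) (str : Spec (CommRingCat.of k) ⟶ S) (p : (AlgSp.yon S).obj (Over.mk str) ⟶ Z.obj),
        AlgSp.LocP @LocallyOfFinitePresentation p ∧ AlgSp.LocP @Flat p ∧ AlgSp.IsSurjectiveMor p) :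
    (∃ (k : Type u) (_ : Field k) (str : Spec (CommRingCat.of k) ⟶ S), Nonempty (Z.obj ≅ (AlgSp.yon S).obj (Over.mk str))) ↔
      ∃ p : AlgSp.FieldPt X.obj, AlgSp.Points.mk p = x ∧ Mono p.toHom := by
  constructor
  · rintro ⟨k, _, str, ⟨e⟩⟩
    let m : (yon S).obj (Over.mk str) ⟶ X.obj := e.inv ≫ i.hom
    have : Mono m := mono_comp _ _
    let w : ↥(Over.mk str).left := (Classical.arbitrary (PrimeSpectrum k) :)
    obtain ⟨p, hp, hm, -⟩ := exists_point_of_ofPt m w
    refine ⟨p, ?_, hm⟩
    have h := hi.le ⟨Points.ofPt e.inv w, rfl⟩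
    rw [Set.mem_singleton_iff, Points.map_ofPt] at h
    exact hp.trans h
  · rintro ⟨p, hp, hm⟩
    obtain ⟨k, _, str, q, h1, h2, h3⟩ := hZ
    have hpt := IsAlgSpace.yon_obj p.pt
    let P := pullback i.hom p.toHom
    have hP : IsAlgSpace P := isAlgSpace_pullback i.hom p.toHom Z.property hpt X.property
    obtain ⟨z, hz⟩ : x ∈ Set.range (Points.map i.hom) := hi.ge rfl
    obtain ⟨z', -, -⟩ := exists_of_isPullback (IsPullback.of_hasPullback i.hom p.toHom) z
      (Points.ofScheme p.pt (IsLocalRing.closedPoint p.K))
      (hz.trans (hp.symm.trans ((Points.ofPt_toHom p (IsLocalRing.closedPoint p.K)).symm.trans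
        (Points.ofPt_eq_map_ofScheme (T := p.pt) p.toHom (IsLocalRing.closedPoint p.K :)))))
    have : IsIso (pullback.snd i.hom p.toHom) := isIso_of_mono_to_field p.str hP _ z'
    let h : (yon S).obj p.pt ⟶ Z.obj := inv (pullback.snd i.hom p.toHom) ≫ pullback.fst i.hom p.toHom
    have hh : h ≫ i.hom = p.toHom := by
      simp only [h, Category.assoc, pullback.condition, IsIso.inv_hom_id_assoc]
    have : Mono (h ≫ i.hom) := hh ▸ hm
    have : Mono h := mono_of_mono h i.hom
    have : IsIso h := isIso_of_mono_to_fppf_field hpt Z.property h str q h1 h2 h3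
      (Points.ofScheme p.pt (IsLocalRing.closedPoint p.K))
    exact ⟨p.K, inferInstance, p.str, ⟨(asIso h).symm⟩⟩

end Groth.Agent.S10414
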