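import Groth.Statements.S10419
import Groth.Agent.SpProper61.Filtration
import Groth.Agent.SpProper61.RelCompact

set_option autoImplicit false
universe u
open CategoryTheory CategoryTheory.Limits AlgebraicGeometry Topology TopologicalSpace
open AlgSp

namespace Groth.Agent.S10419

/-- Let S be a scheme with quasi-separated underlying space and X an algebraic space over S that is
quasi-compact and quasi-separated (X quasi-separated over S). There are an integer n and open
subspaces X = U_1 ⊇ U_2 ⊇ ⋯ ⊇ U_{n+1} = ∅ such that, with T_p = U_p ∖ U_{p+1} (reduced induced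
structure), there is a quasi-compact separated scheme V_p with a surjective etale f_p : V_p ⟶ U_p
for which f_p⁻¹(T_p) ⟶ T_p is an isomorphism. -/
theorem result {S : Scheme.{u}} [QuasiSeparatedSpace ↥S] (X : AlgSp.Space S)
    (hqc : AlgSp.IsQuasiCompactSp X.obj) (hqs : AlgSp.IsQuasiSeparatedSp X.obj) :
    ∃ (n : ℕ) (Uo : ℕ → AlgSp.Space S) (j : ∀ p, Uo p ⟶ X) (k : ∀ p, Uo (p + 1) ⟶ Uo p)
      (T : ℕ → AlgSp.Space S) (i : ∀ p, T p ⟶ Uo p),
      (∀ p, AlgSp.RepWith @IsOpenImmersion (j p).hom) ∧ (∀ p, k p ≫ j p = j (p + 1)) ∧ IsIso (j 1) ∧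
      IsEmpty (AlgSp.Points (Uo (n + 1)).obj) ∧
      (∀ p, AlgSp.IsRedInduced (Set.range (AlgSp.Points.map (k p).hom))ᶜ (i p).hom) ∧
      (∀ p, 1 ≤ p → ∃ (V : Over S) (f : (AlgSp.yon S).obj V ⟶ (Uo p).obj), V.left.IsSeparated ∧ CompactSpace ↥V.left ∧
        AlgSp.RepWith @Etale f ∧ AlgSp.RepWith @Surjective f ∧
        ∀ (P : AlgSp.Sp S) (fst : P ⟶ (T p).obj) (snd : P ⟶ (AlgSp.yon S).obj V),
          IsPullback fst snd (i p).hom f → IsIso fst) := by
  have := Groth.Agent.SpPts86.compactSpace_points_of_isQuasiCompactSp hqc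
  obtain ⟨U, a, hU, ha, has⟩ := Groth.Agent.SpPts86.exists_affine_chart_of_compactSpace X.property
  obtain ⟨R, t, s, sq⟩ := Groth.Agent.SpFP87.exists_isPullback_yon X.property.diag a a
  have := Groth.Agent.SpProper61.compactSpace_relation_of_qs hqs sq
  obtain ⟨n, hn⟩ := Groth.Agent.SpProper61.exists_Uset_eq_empty ha sq
  obtain ⟨Uo, j, k, T, i, h1, h2, h3, h4, h5, h6, -⟩ := Groth.Agent.SpProper61.exists_filtration ha has
  refine ⟨n, Uo, j, k, T, i, h1, h2, h3, ⟨fun y => ?_⟩, h5, fun p hp => ?_⟩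
  · exact Set.eq_empty_iff_forall_notMem.1 ((h4 (n + 1)).trans hn) _ ⟨y, rfl⟩
  · obtain ⟨V, f, a1, hc, a2, a3, a4⟩ := h6 p hp
    exact ⟨V, f, a1, hc (Groth.Agent.SpProper61.repWith_quasiCompact_of_relation ha has sq), a2, a3, a4⟩

end Groth.Agent.S10419
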