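import Groth.Statements.S10422
import Mathlib.LinearAlgebra.Matrix.Rank
import Mathlib.RingTheory.Spectrum.Prime.Topology
import Groth.Prelude.Def_AlgSp2

set_option autoImplicit false
universe u
open Topology TopologicalSpace TensorProduct
open AlgSp

namespace Groth.Agent.S10422

/-- Let A be a ring, k a field, (p_n) a sequence of primes of A which are pairwise distinct, and k →
κ(p_n) field embeddings. Then the closure in Spec(A ⊗ A) of the image of ∐_{n ≠ m} Spec(κ(p_n) ⊗_k
κ(p_m)) meets the diagonal. Here κ(p_n) is any A-algebra K_n which is a field whose structure map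
has kernel p_n and whose elements are quotients of images of elements of A. -/
theorem result (A : Type u) [CommRing A] (k : Type u) [Field k]
    (p : ℕ → PrimeSpectrum A) (hp : Function.Injective p) (K : ℕ → Type u) [∀ n, Field (K n)]
    [∀ n, Algebra A (K n)] [∀ n, Algebra k (K n)]
    (hker : ∀ n, RingHom.ker (algebraMap A (K n)) = (p n).asIdeal)
    (hfrac : ∀ n (x : K n), ∃ a b : A, algebraMap A (K n) b ≠ 0 ∧ x * algebraMap A (K n) b = algebraMap A (K n) a) :
    (closure (⋃ (n : ℕ) (m : ℕ) (_ : n ≠ m),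
        Set.range (PrimeSpectrum.comap
          (Algebra.TensorProduct.lift
            ((Algebra.TensorProduct.includeLeft (R := k) (S := ℤ) (A := K n) (B := K m)).toRingHom.toIntAlgHom.comp
              (Algebra.ofId A (K n)).toRingHom.toIntAlgHom)
            ((Algebra.TensorProduct.includeRight (R := k) (A := K n) (B := K m)).toRingHom.toIntAlgHom.comp
              (Algebra.ofId A (K m)).toRingHom.toIntAlgHom)
            (fun _ _ => Commute.all _ _)).toRingHom)) ∩
      Set.range (PrimeSpectrum.comap (Algebra.TensorProduct.lmul' (S := A) ℤ).toRingHom)).Nonempty := by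
  classical
  set φ := fun n m => (Algebra.TensorProduct.lift
      ((Algebra.TensorProduct.includeLeft (R := k) (S := ℤ) (A := K n) (B := K m)).toRingHom.toIntAlgHom.comp
        (Algebra.ofId A (K n)).toRingHom.toIntAlgHom)
      ((Algebra.TensorProduct.includeRight (R := k) (A := K n) (B := K m)).toRingHom.toIntAlgHom.comp
        (Algebra.ofId A (K m)).toRingHom.toIntAlgHom)
      (fun _ _ => Commute.all _ _)).toRingHom with hφ
  by_contra hne
  rw [Set.not_nonempty_iff_eq_empty] at hne
  set T : Set (PrimeSpectrum (TensorProduct ℤ A A)) :=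
    ⋃ (n : ℕ) (m : ℕ) (_ : n ≠ m), Set.range (PrimeSpectrum.comap (φ n m)) with hT
  let μ := (Algebra.TensorProduct.lmul' (S := A) ℤ).toRingHom
  have hμ : Function.Surjective μ := fun a => ⟨a ⊗ₜ[ℤ] 1, by simp [μ]⟩
  rw [← PrimeSpectrum.zeroLocus_vanishingIdeal_eq_closure,
    range_comap_of_surjective _ μ hμ, ← PrimeSpectrum.zeroLocus_sup,
    PrimeSpectrum.zeroLocus_empty_iff_eq_top] at hne
  obtain ⟨z, hz, w, hw, hzw⟩ := Submodule.mem_sup.1 (hne ▸ Submodule.mem_top (x := (1 : TensorProduct ℤ A A)))
  have hμz : μ z = 1 := by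
    have h := congrArg μ hzw
    rwa [map_add, map_one, RingHom.mem_ker.1 hw, add_zero] at h
  obtain ⟨s, hs⟩ := TensorProduct.exists_finset z
  have amal : ∀ r : ℕ, ∃ (Ω : Type u) (_ : Field Ω) (c : k →+* Ω) (j : ∀ n, n ≤ r → (K n →+* Ω)),
      ∀ n h, (j n h).comp (algebraMap k (K n)) = c := by
    intro r
    induction r with
    | zero =>
      refine ⟨K 0, inferInstance, algebraMap k (K 0), fun n h => ?_, fun n h => ?_⟩
      · obtain rfl : n = 0 := Nat.le_zero.1 h
        exact RingHom.id _
      · obtain rfl : n = 0 := Nat.le_zero.1 h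
        rfl
    | succ r ih =>
      obtain ⟨Ω, _, c, j, hj⟩ := ih
      obtain ⟨Ω', _, i₁, i₂, hi⟩ := AlgSp.FieldPt.exists_amalgamation c (algebraMap k (K (r + 1)))
      refine ⟨Ω', inferInstance, i₁.comp c,
        fun n h => if h' : n ≤ r then i₁.comp (j n h') else
          (show n = r + 1 by omega) ▸ i₂, fun n h => ?_⟩
      by_cases h' : n ≤ r
      · simp only [dif_pos h', RingHom.comp_assoc, hj]
      · obtain rfl : n = r + 1 := by omega
        simp only [dif_neg h']
        exact hi.symm
  obtain ⟨Ω, _, c, j, hj⟩ := amal s.card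
  let e : Fin (s.card + 1) → A →+* Ω := fun n => (j n.1 (Nat.le_of_lt_succ n.2)).comp (algebraMap A (K n.1))
  have hpair : ∀ n m : Fin (s.card + 1), (∑ i ∈ s, e n i.1 * e m i.2) = if n = m then 1 else 0 := by
    intro n m
    split_ifs with h
    · subst h
      have h1 : e n (μ z) = 1 := by rw [hμz, map_one]
      rw [hs, map_sum, map_sum] at h1
      simpa [μ] using h1
    · letI := c.toAlgebra
      let fn : K n.1 →ₐ[k] Ω := { j n.1 (Nat.le_of_lt_succ n.2) with commutes' := fun x => RingHom.congr_fun (hj _ _) x }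
      let fm : K m.1 →ₐ[k] Ω := { j m.1 (Nat.le_of_lt_succ m.2) with commutes' := fun x => RingHom.congr_fun (hj _ _) x }
      let ψ := (Algebra.TensorProduct.lift fn fm (fun _ _ => Commute.all _ _)).toRingHom
      let Q : PrimeSpectrum (TensorProduct k (K n.1) (K m.1)) := ⟨RingHom.ker ψ, RingHom.ker_isPrime ψ⟩
      have hQ : PrimeSpectrum.comap (φ n.1 m.1) Q ∈ T :=
        Set.mem_iUnion.2 ⟨n.1, Set.mem_iUnion.2 ⟨m.1, Set.mem_iUnion.2 ⟨fun hh => h (Fin.ext hh), ⟨Q, rfl⟩⟩⟩⟩
      have h0 : ψ (φ n.1 m.1 z) = 0 := (PrimeSpectrum.mem_vanishingIdeal T z).1 hz _ hQ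
      rw [hs, map_sum, map_sum] at h0
      simpa [ψ, φ, fn, fm, e] using h0
  let M : Matrix (Fin (s.card + 1)) s Ω := fun n i => e n i.1.1
  let N : Matrix s (Fin (s.card + 1)) Ω := fun i m => e m i.1.2
  have hMN : M * N = 1 := by
    ext n m
    rw [Matrix.mul_apply, Matrix.one_apply, ← hpair]
    exact Finset.sum_coe_sort s (fun i => e n i.1 * e m i.2)
  have h1 := Matrix.rank_mul_le_left M N
  rw [hMN, Matrix.rank_one, Fintype.card_fin] at h1
  have h2 := M.rank_le_card_width
  rw [Fintype.card_coe] at h2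
  omega

end Groth.Agent.S10422
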