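import Groth.Statements.S1043


set_option autoImplicit false
universe v u
open CategoryTheory
open CohDer

namespace Groth.Agent.S1043
open CategoryTheory.Category CategoryTheory.Limits CategoryTheory.Pretriangulated

open CategoryTheory.Pretriangulated in
/-- Let φ, ψ : T ⟶ T' be two morphisms between distinguished triangles T = (X, Y, Z) and T' = (X', Y',
Z') of a pretriangulated category which agree on the first and third components. If one of the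
following holds — (1) Hom(Y, X') = 0; (2) Hom(Z, Y') = 0; (3) Hom(X, X') = 0 and Hom(Z, X') = 0; (4)
Hom(Z, X') = 0 and Hom(Z, Z') = 0; (5) Hom(X[1], Z') = 0 and Hom(Z, X') = 0 — then φ and ψ also
agree on the middle component. -/
theorem result {D : Type u} [Category.{v} D] [Preadditive D] [Limits.HasZeroObject D] [HasShift D ℤ]
    [∀ n : ℤ, (shiftFunctor D n).Additive] [Pretriangulated D]
    (T T' : Triangle D) (hT : T ∈ distinguishedTriangles) (hT' : T' ∈ distinguishedTriangles)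
    (φ ψ : T ⟶ T') (h₁ : φ.hom₁ = ψ.hom₁) (h₃ : φ.hom₃ = ψ.hom₃)
    (hc : (∀ u : T.obj₂ ⟶ T'.obj₁, u = 0) ∨ (∀ u : T.obj₃ ⟶ T'.obj₂, u = 0) ∨
      ((∀ u : T.obj₁ ⟶ T'.obj₁, u = 0) ∧ (∀ u : T.obj₃ ⟶ T'.obj₁, u = 0)) ∨
      ((∀ u : T.obj₃ ⟶ T'.obj₁, u = 0) ∧ (∀ u : T.obj₃ ⟶ T'.obj₃, u = 0)) ∨
      ((∀ u : (shiftFunctor D (1 : ℤ)).obj T.obj₁ ⟶ T'.obj₃, u = 0) ∧ (∀ u : T.obj₃ ⟶ T'.obj₁, u = 0))) :
    φ.hom₂ = ψ.hom₂ := by
  rw [← sub_eq_zero]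
  set d := φ.hom₂ - ψ.hom₂ with hd
  have hd₁ : T.mor₁ ≫ d = 0 := by
    rw [hd, Preadditive.comp_sub, φ.comm₁, ψ.comm₁, h₁, sub_self]
  have hd₂ : d ≫ T'.mor₂ = 0 := by
    rw [hd, Preadditive.sub_comp, ← φ.comm₂, ← ψ.comm₂, h₃, sub_self]
  obtain ⟨u, hu⟩ := T.yoneda_exact₂ hT d hd₁
  obtain ⟨v', hv⟩ := T'.coyoneda_exact₂ hT' d hd₂
  rcases hc with h | h | ⟨ha, hb⟩ | ⟨ha, hb⟩ | ⟨ha, hb⟩
  · rw [hv, h v', zero_comp]
  · rw [hu, h u, comp_zero]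
  · obtain ⟨w, hw⟩ := T.yoneda_exact₂ hT v' (ha _)
    rw [hv, hw, hb w, comp_zero, zero_comp]
  · obtain ⟨w, hw⟩ := T'.coyoneda_exact₂ hT' u (hb _)
    rw [hu, hw, ha w, zero_comp, comp_zero]
  · have h0 : T.mor₂ ≫ (u ≫ T'.mor₂) = 0 := by rw [← assoc, ← hu, hd₂]
    obtain ⟨w, hw⟩ := T.yoneda_exact₃ hT _ h0
    rw [ha w, comp_zero] at hw
    obtain ⟨t, ht⟩ := T'.coyoneda_exact₂ hT' u hw
    rw [hu, ht, hb t, zero_comp, comp_zero]

end Groth.Agent.S1043
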