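import Groth.Statements.S9678
import Groth.Agent.Birat57.Global

set_option autoImplicit false
set_option backward.isDefEq.respectTransparency.types false
universe u
open CategoryTheory CategoryTheory.Limits AlgebraicGeometry
open Mor

namespace Groth.Agent.S9678

/-- Suppose X and Y have finitely many irreducible components and f : X ⟶ Y is birational, i.e. f
restricts to a bijection between the generic points of the irreducible components of X and those of
Y and induces an isomorphism of local rings at every generic point of an irreducible component of X.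
Suppose moreover that Y is reduced and f is locally of finite type, or alternatively that f is
locally finitely presented. Then there are dense opens U ⊆ X and V ⊆ Y with f(U) ⊆ V such that the
restriction U ⟶ V of f is an isomorphism. -/
theorem result {X Y : Scheme.{u}} (f : X ⟶ Y)
    (hXfin : (irreducibleComponents ↥X).Finite) (hYfin : (irreducibleComponents ↥Y).Finite)
    (hbij : Set.BijOn (fun x : X => f.base x) {x : X | closure {x} ∈ irreducibleComponents ↥X}
      {y : Y | closure {y} ∈ irreducibleComponents ↥Y})
    (hiso : ∀ x : X, closure {x} ∈ irreducibleComponents ↥X → IsIso (f.stalkMap x))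
    (hf : (LocallyOfFiniteType f ∧ IsReduced Y) ∨ LocallyOfFinitePresentation f) :
    ∃ (U : X.Opens) (V : Y.Opens) (hUV : U ≤ f ⁻¹ᵁ V), Dense (U : Set ↥X) ∧ Dense (V : Set ↥Y) ∧
      IsIso (f.resLE V U hUV) := by
  have hbij' : Set.BijOn f {x | Norm57.IsMax' x} {y | Norm57.IsMax' y} := by
    simpa only [Norm57.isMax'_iff] using hbij
  have hiso' : ∀ x, Norm57.IsMax' x → IsIso (f.stalkMap x) := fun x hx =>
    hiso x (Norm57.isMax'_iff.mp hx)
  obtain ⟨U, hU, hUf⟩ := Birat57.exists_isOpenImmersion f hXfin hYfin hbij'
    (Birat57.hloc_of_or f hXfin hYfin hbij' hiso' hf)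
  obtain ⟨hUV, hres⟩ := Birat57.exists_isIso_resLE f (U := U)
  refine ⟨U, (U.ι ≫ f).opensRange, hUV, Birat57.dense_of_forall_isMax'_mem hU, ?_, hres⟩
  refine Birat57.dense_of_forall_isMax'_mem fun y hy => ?_
  obtain ⟨x, hx, rfl⟩ := hbij'.surjOn hy
  exact ⟨⟨x, hU x hx⟩, rfl⟩

end Groth.Agent.S9678
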