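import Groth.Statements.S10439
import Groth.Agent.SpFP87.Sober

set_option autoImplicit false
universe u
open CategoryTheory CategoryTheory.Limits AlgebraicGeometry Topology TopologicalSpace
open AlgSp

namespace Groth.Agent.S10439

/-- A birational morphism between decent algebraic spaces over a scheme S, each with only finitely many
irreducible components, is dominant: the image of |X| is dense in |Y|. -/
theorem result {S : Scheme.{u}} {X Y : AlgSp.Space S} (f : X ⟶ Y)
    (hX : AlgSp.IsDecent X.obj) (hY : AlgSp.IsDecent Y.obj)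
    (hXf : (irreducibleComponents (AlgSp.Points X.obj)).Finite)
    (hYf : (irreducibleComponents (AlgSp.Points Y.obj)).Finite)
    (hf : W4stk3decentspacesp2.IsBirational f.hom) : AlgSp.IsDominantMor f.hom := by
  haveI := Groth.Agent.SpFP87.quasiSober_points Y.property hY
  intro y
  obtain ⟨Z, hZ, hyZ⟩ : ∃ Z ∈ irreducibleComponents (AlgSp.Points Y.obj), y ∈ Z :=
    ⟨_, irreducibleComponent_mem_irreducibleComponents y, mem_irreducibleComponent⟩
  let η := genericPoints.ofComponent (⟨Z, hZ⟩ : irreducibleComponents (AlgSp.Points Y.obj))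
  obtain ⟨ξ, -, hξ⟩ := hf.bijOn.surjOn η.2
  have hcl : closure ({η.1} : Set (AlgSp.Points Y.obj)) = Z :=
    congrArg Subtype.val (genericPoints.component_ofComponent (⟨Z, hZ⟩ : irreducibleComponents (AlgSp.Points Y.obj)))
  exact closure_mono (t := Set.range (Points.map f.hom)) (Set.singleton_subset_iff.2 (Set.mem_range.2 ⟨ξ, hξ⟩)) (hcl.ge hyZ)

end Groth.Agent.S10439
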