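import Groth.Statements.S10441
import Groth.Agent.SpFP87.ElemBranch

set_option autoImplicit false
universe u
open CategoryTheory CategoryTheory.Limits AlgebraicGeometry Topology TopologicalSpace
open AlgSp

namespace Groth.Agent.S10441

/-- For a decent algebraic space X over a scheme S and x ∈ |X|, fix an elementary etale neighbourhood
(U₀, u₀) of (X, x) and a henselization R of O_{U₀, u₀} (a model of the henselian local ring at x).
The following are equivalent: (1) O_{U, u} has exactly one minimal prime whenever (U, u) is an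
elementary etale neighbourhood of (X, x); (2) a unique irreducible component of U passes through u
for all such (U, u); (3) O_{U, u} is unibranch for all such (U, u); (4) R has exactly one minimal
prime. -/
theorem result {S : Scheme.{u}} (X : AlgSp.Space S)
    (hX : AlgSp.IsDecent X.obj) (x : AlgSp.Points X.obj) {U₀ : Over S}
    (a₀ : (AlgSp.yon S).obj U₀ ⟶ X.obj) (u₀ : ↥U₀.left) (h₀ : AlgSp.IsElemEtaleNbhd a₀ u₀ x)
    (R : Type u) [CommRing R] [IsLocalRing R] [Algebra ↥(U₀.left.presheaf.stalk u₀) R]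
    [IsLocalHom (algebraMap ↥(U₀.left.presheaf.stalk u₀) R)] [Hensel.IsHenselization ↥(U₀.left.presheaf.stalk u₀) R] :
    ((∀ (U : Over S) (a : (AlgSp.yon S).obj U ⟶ X.obj) (u : ↥U.left), AlgSp.IsElemEtaleNbhd a u x →
        CAlgX.HasUniqueMinimalPrime ↥(U.left.presheaf.stalk u)) ↔
      (∀ (U : Over S) (a : (AlgSp.yon S).obj U ⟶ X.obj) (u : ↥U.left), AlgSp.IsElemEtaleNbhd a u x →
        {Z : Set ↥U.left | Z ∈ irreducibleComponents ↥U.left ∧ u ∈ Z}.encard = 1)) ∧
    ((∀ (U : Over S) (a : (AlgSp.yon S).obj U ⟶ X.obj) (u : ↥U.left), AlgSp.IsElemEtaleNbhd a u x →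
        {Z : Set ↥U.left | Z ∈ irreducibleComponents ↥U.left ∧ u ∈ Z}.encard = 1) ↔
      (∀ (U : Over S) (a : (AlgSp.yon S).obj U ⟶ X.obj) (u : ↥U.left), AlgSp.IsElemEtaleNbhd a u x →
        CAlg2.IsUnibranch ↥(U.left.presheaf.stalk u))) ∧
    ((∀ (U : Over S) (a : (AlgSp.yon S).obj U ⟶ X.obj) (u : ↥U.left), AlgSp.IsElemEtaleNbhd a u x →
        CAlg2.IsUnibranch ↥(U.left.presheaf.stalk u)) ↔ CAlgX.HasUniqueMinimalPrime R) := by
  open Groth.Agent.SpFP87.ElemBranch in
  have h1 := sup_iff h₀ X.property R 1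
  open Groth.Agent.SpFP87.ElemBranch in
  have h3 := branches_iff h₀ X.property R 1
  simp only [Groth.Agent.SpFP87.ElemBranch.encard_components,
    Groth.Agent.SpFP87.ElemBranch.hasUniqueMinimalPrime_iff]
  have c13 : (∀ (U : Over S) (a : (AlgSp.yon S).obj U ⟶ X.obj) (u : ↥U.left), AlgSp.IsElemEtaleNbhd a u x →
        (minimalPrimes ↥(U.left.presheaf.stalk u)).encard = 1) ↔ (minimalPrimes R).encard = 1 := by
    constructor
    · intro h
      exact h1.1 ⟨fun U a u hu => (h U a u hu).le, U₀, a₀, u₀, h₀, h U₀ a₀ u₀ h₀⟩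
    · intro h U a u hu
      refine le_antisymm ((h1.2 h).1 U a u hu) (Set.one_le_encard_iff_nonempty.2 ?_)
      obtain ⟨p, hp, -⟩ := Ideal.exists_minimalPrimes_le
        (bot_le : ⊥ ≤ IsLocalRing.maximalIdeal ↥(U.left.presheaf.stalk u))
      exact ⟨p, hp⟩
  have c34 : (∀ (U : Over S) (a : (AlgSp.yon S).obj U ⟶ X.obj) (u : ↥U.left), AlgSp.IsElemEtaleNbhd a u x →
        CAlg2.IsUnibranch ↥(U.left.presheaf.stalk u)) ↔ (minimalPrimes R).encard = 1 := by
    constructor
    · intro h
      exact ((Groth.Agent.SpFP87.ElemBranch.numBranchesAt_eq_card h₀ X rfl R h₀).symm).trans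
        ((Groth.Agent.S9235.result _).2 (h U₀ a₀ u₀ h₀))
    · intro h U a u hu
      exact (Groth.Agent.S9235.result _).1
        ((Groth.Agent.SpFP87.ElemBranch.numBranchesAt_eq_card h₀ X rfl R hu).trans h)
  exact ⟨trivial, c13.trans c34.symm, c34⟩

end Groth.Agent.S10441
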