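import Groth.Statements.S10444
import Groth.Agent.SpProper61.FibreConds

set_option autoImplicit false
universe u
open CategoryTheory CategoryTheory.Limits AlgebraicGeometry Topology TopologicalSpace
open AlgSp

namespace Groth.Agent.S10444

/-- Take f : X ⟶ Y locally of finite type between algebraic spaces over a scheme S, a field-valued point
Spec k ⟶ Y whose class y ∈ |Y| lies in the image of |f|, the fibre product X_k = Spec k ×_Y X, and
the fibre F = |f|⁻¹(y) ⊆ |X| with the induced topology. Numbering the conditions (1) F finite, (2) F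
discrete, (3) dim F = 0, (4) |X_k| finite, (5) |X_k| discrete, (6) dim |X_k| = 0, (7) dim X_k = 0,
(8) f quasi-finite at all points over y: (5) ⇔ (7) ⇔ (8); (5) ⇒ (6), with the converse when X_k is
decent; (4) ⇒ (5) when X_k is decent; (4) ⇒ (1); (2) ⇒ (3); if Y is decent then (2) ⇔ (5); if X and
Y are decent then (3) ⇒ (2) and (1) ⇒ (2). (The published statement asserts (5) ⇔ (6) for every f
and (2) ⇔ (3) whenever Y is decent, and does not exclude an empty fibre; for the quotient of the
affine line over a field of characteristic zero by an infinite cyclic group of translations, mapping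
to the point, the space of points is infinite and indiscrete, so (3) and (6) hold while (2) and (5)
fail, and for y outside the image (5) holds while (6) and (7) fail; hence the decency hypotheses on
those two converses and the hypothesis that y is in the image. Finiteness of |X_k| for an arbitrary
field k in the class of y is not derived here from (1).) -/
theorem result {S : Scheme.{u}} {X Y : AlgSp.Space S} (f : X ⟶ Y)
    (hf : AlgSp.LocP @LocallyOfFiniteType f.hom) (r : AlgSp.FieldPt Y.obj)
    (hy : AlgSp.Points.mk r ∈ Set.range (AlgSp.Points.map f.hom)) (Xk : AlgSp.Space S) (fst : Xk ⟶ X)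
    (snd : Xk.obj ⟶ (AlgSp.yon S).obj r.pt) (hsq : IsPullback fst.hom snd f.hom r.toHom) :
    (DiscreteTopology (AlgSp.Points Xk.obj) ↔ AlgSp.dim Xk.obj = 0) ∧
    (AlgSp.dim Xk.obj = 0 ↔
      ∀ x : AlgSp.Points X.obj, AlgSp.Points.map f.hom x = AlgSp.Points.mk r → AlgSp.HasAtMor (fun U _ h u => ∃ W : U.Opens, u ∈ W ∧ LocallyQuasiFinite (W.ι ≫ h) ∧ LocallyOfFiniteType (W.ι ≫ h)) f.hom x) ∧
    (DiscreteTopology (AlgSp.Points Xk.obj) → topologicalKrullDim (AlgSp.Points Xk.obj) = 0) ∧
    (AlgSp.IsDecent Xk.obj → topologicalKrullDim (AlgSp.Points Xk.obj) = 0 →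
      DiscreteTopology (AlgSp.Points Xk.obj)) ∧
    (AlgSp.IsDecent Xk.obj → Finite (AlgSp.Points Xk.obj) → DiscreteTopology (AlgSp.Points Xk.obj)) ∧
    (Finite (AlgSp.Points Xk.obj) → (AlgSp.Points.map f.hom ⁻¹' {AlgSp.Points.mk r}).Finite) ∧
    (DiscreteTopology ↥(AlgSp.Points.map f.hom ⁻¹' {AlgSp.Points.mk r}) → topologicalKrullDim ↥(AlgSp.Points.map f.hom ⁻¹' {AlgSp.Points.mk r}) = 0) ∧
    (AlgSp.IsDecent Y.obj → (DiscreteTopology ↥(AlgSp.Points.map f.hom ⁻¹' {AlgSp.Points.mk r}) ↔ DiscreteTopology (AlgSp.Points Xk.obj))) ∧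
    (AlgSp.IsDecent Y.obj → AlgSp.IsDecent X.obj →
      (topologicalKrullDim ↥(AlgSp.Points.map f.hom ⁻¹' {AlgSp.Points.mk r}) = 0 → DiscreteTopology ↥(AlgSp.Points.map f.hom ⁻¹' {AlgSp.Points.mk r})) ∧
        ((AlgSp.Points.map f.hom ⁻¹' {AlgSp.Points.mk r}).Finite → DiscreteTopology ↥(AlgSp.Points.map f.hom ⁻¹' {AlgSp.Points.mk r}))) := by
  have hl := Groth.Agent.SpFP87.locP_baseChange hsq X.property Y.property (IsAlgSpace.yon_obj _) hf
  obtain ⟨x₀, hx₀⟩ := hy
  obtain ⟨o₀, -⟩ := Groth.Agent.SpProper61.exists_point_of_fibre f r Xk fst snd hsq x₀ hx₀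
  have : Nonempty (AlgSp.Points Xk.obj) := ⟨o₀⟩
  obtain ⟨hd, hk, hfin⟩ := Groth.Agent.SpProper61.dim_zero_iff (k := r.K) Xk.property snd hl
  have hq : DiscreteTopology (AlgSp.Points Xk.obj) ↔
      ∀ x : AlgSp.Points X.obj, AlgSp.Points.map f.hom x = AlgSp.Points.mk r →
        AlgSp.HasAtMor Groth.Agent.SpProper61.QFAt f.hom x := by
    refine ⟨fun h x hx => ?_, fun H => discreteTopology_iff_isOpen_singleton.2 fun o =>
      (Groth.Agent.SpProper61.qfAt_iff_isolated f hf r Xk fst snd hsq o).1
        (H _ (Groth.Agent.SpProper61.map_fst_mem_fibre f r Xk fst snd hsq o))⟩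
    obtain ⟨o, rfl⟩ := Groth.Agent.SpProper61.exists_point_of_fibre f r Xk fst snd hsq x hx
    exact (Groth.Agent.SpProper61.qfAt_iff_isolated f hf r Xk fst snd hsq o).2 (isOpen_discrete _)
  refine ⟨hd, hd.symm.trans hq, fun h => ?_, hk, hfin, fun h => ?_, fun h => ?_, fun hY => ?_, fun hY hX => ?_⟩
  · exact le_antisymm (topologicalKrullDim_zero_of_discreteTopology _)
      (Order.krullDim_nonneg_iff.2 ⟨⟨closure {o₀}, isIrreducible_singleton.closure, isClosed_closure⟩⟩)
  · refine (Set.finite_range (AlgSp.Points.map fst.hom)).subset fun x hx => ?_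
    obtain ⟨o, ho⟩ := Groth.Agent.SpProper61.exists_point_of_fibre f r Xk fst snd hsq x hx
    exact ⟨o, ho⟩
  · exact le_antisymm (topologicalKrullDim_zero_of_discreteTopology _)
      (Order.krullDim_nonneg_iff.2 ⟨⟨closure {⟨x₀, hx₀⟩}, isIrreducible_singleton.closure, isClosed_closure⟩⟩)
  all_goals obtain ⟨p, Xp, sndp, e, hlp, hop, hdec⟩ := Groth.Agent.SpProper61.exists_fibre_homeo f hf hY r
  · rw [hq]
    constructor
    · intro h x hx
      obtain ⟨o, ho⟩ := e.surjective ⟨x, hx⟩
      have := (hop o).1 (by rw [← e.isOpen_image, Set.image_singleton]; exact isOpen_discrete _)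
      rwa [ho] at this
    · intro H
      have : DiscreteTopology (AlgSp.Points Xp.obj) :=
        discreteTopology_iff_isOpen_singleton.2 fun o => (hop o).2 (H _ (e o).2)
      exact e.symm.isEmbedding.discreteTopology
  · have : Nonempty (AlgSp.Points Xp.obj) := ⟨e.symm ⟨x₀, hx₀⟩⟩
    obtain ⟨-, hk', hfin'⟩ := Groth.Agent.SpProper61.dim_zero_iff (k := p.K) Xp.property sndp hlp
    refine ⟨fun h => ?_, fun h => ?_⟩
    · have := hk' (hdec hX) ((IsHomeomorph.topologicalKrullDim_eq e e.isHomeomorph).trans h)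
      exact e.symm.isEmbedding.discreteTopology
    · have := h.to_subtype
      have := hfin' (hdec hX) (Finite.of_equiv _ e.toEquiv.symm)
      exact e.symm.isEmbedding.discreteTopology

end Groth.Agent.S10444
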