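import Groth.Statements.S10475
import Groth.Agent.SpFP87.GeomRed

set_option autoImplicit false
universe u
open CategoryTheory CategoryTheory.Limits AlgebraicGeometry Topology TopologicalSpace
open AlgSp

namespace Groth.Agent.S10475

/-- Let k be a perfect field and X a reduced algebraic space over k. Then X is geometrically reduced
over k (geometrically reduced at every point). -/
theorem result (k : Type u) [Field k] [PerfectField k]
    (X : AlgSp.Space (Spec (CommRingCat.of k))) (hX : AlgSp.EtaleLocally (fun U => IsReduced U) X.obj) (x : AlgSp.Points X.obj) :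
    (∃ (U : Over (Spec (CommRingCat.of k))) (a : (AlgSp.yon (Spec (CommRingCat.of k))).obj U ⟶ X.obj) (u : ↥U.left),
      AlgSp.RepWith @Etale a ∧ AlgSp.Points.ofPt a u = x ∧ FBase.IsGeomReducedAt U.hom u) := by
  obtain ⟨U, a, ha, hs, hred⟩ := hX
  haveI := hred
  obtain ⟨u, rfl⟩ := Groth.Agent.SpPts86.surjective_ofPt hs x
  exact ⟨U, a, u, ha, rfl, Groth.Agent.SpFP87.isGeomReducedAt_of_isReduced U.hom u⟩

end Groth.Agent.S10475
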