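import Groth.Statements.S10489
import Groth.Agent.SpFP87.OverField
import Groth.Agent.Var76.RegKaehler

set_option autoImplicit false
universe u
open CategoryTheory CategoryTheory.Limits AlgebraicGeometry Groth.Agent.SpFP87 Topology TopologicalSpace
open AlgSp

namespace Groth.Agent.S10489

/-- Let k be a field and X an algebraic space which is smooth over k. Then X is regular as an algebraic
space. -/
theorem result (k : Type u) [Field k] (X : AlgSp.Space (Spec (CommRingCat.of k))) (p : X.obj ⟶ (AlgSp.yon (Spec (CommRingCat.of k))).obj (Over.mk (𝟙 _))) (hp : AlgSp.LocP @Smooth p) :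
    AlgSp.EtaleLocally (fun U => IsLocallyNoetherian U ∧ ∀ u : ↥U, IsRegularLocalRing ↥(U.presheaf.stalk u)) X.obj := by
  haveI : MorphismProperty.ContainsIdentities (@Etale : MorphismProperty Scheme.{u}) := ⟨fun _ => inferInstance⟩
  obtain ⟨U, a, ha, has⟩ := X.property.atlas
  obtain ⟨g, hg⟩ := (yon _).map_surjective (a ≫ p)
  haveI hs : Smooth g.left := hp a (𝟙 _) g ha (repWith_id _ _) (by rw [Category.comp_id]; exact hg.symm)
  haveI : Smooth U.hom := by
    rw [← Over.w g]; exact inferInstanceAs (Smooth (g.left ≫ 𝟙 _))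
  refine ⟨U, a, ha, has, LocallyOfFiniteType.isLocallyNoetherian U.hom, fun u => ?_⟩
  have hx : (U.hom.stalkMap u).hom.FormallySmooth :=
    Scheme.Hom.mem_smoothLocus.1 ((Scheme.Hom.smoothLocus_eq_top U.hom).ge trivial)
  have : IsRegularLocalRing ((Spec (CommRingCat.of k)).presheaf.stalk (U.hom u)) :=
    let y : PrimeSpectrum k := U.hom u
    (Groth.Agent.Var76.RegKaehler.regular_stalk_iff (CommRingCat.of k) y).2
      (IsRegularRing.isRegularLocalRing_localization y.asIdeal)
  exact (Groth.Agent.Unr55.isRegularLocalRing_stalk_iff_of_smooth U.hom u hx).2 this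

end Groth.Agent.S10489
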