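import Groth.Statements.S11166
import Groth.Agent.CohDer42.SubFF
import Groth.Agent.QCohPush72.Main
import Groth.Agent.QC70.InjEnvelope

set_option autoImplicit false
set_option backward.isDefEq.respectTransparency.types false
universe u
open CategoryTheory CategoryTheory.Limits AlgebraicGeometry
attribute [local instance] HasDerivedCategory.standard
open Coherent

namespace Groth.Agent.S11166

/-- For a locally Noetherian scheme X the natural functor D⁺(QCoh(X)) ⥤ D⁺_qc(O_X) is an equivalence:
granting that quasi-coherent modules form an abelian full subcategory of all O_X-modules with exact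
inclusion (instance hypotheses that always hold), the induced functor D(QCoh(X)) ⥤ D(O_X) is fully
faithful on cohomologically bounded below objects, and every object of D(O_X) with Hⁱ = 0 for i < a
and quasi-coherent cohomology sheaves is isomorphic to the image of an object of D(QCoh(X)) with Hⁱ
= 0 for i < a. -/
theorem result (X : Scheme.{u}) [IsLocallyNoetherian X]
    [ObjectProperty.ContainsZero (fun M : X.Modules => Coh.IsQCoh M)] [ObjectProperty.IsClosedUnderKernels (fun M : X.Modules => Coh.IsQCoh M)]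
    [ObjectProperty.IsClosedUnderCokernels (fun M : X.Modules => Coh.IsQCoh M)] [ObjectProperty.IsClosedUnderFiniteProducts (fun M : X.Modules => Coh.IsQCoh M)]
    [PreservesFiniteLimits (ObjectProperty.ι (fun M : X.Modules => Coh.IsQCoh M))] [PreservesFiniteColimits (ObjectProperty.ι (fun M : X.Modules => Coh.IsQCoh M))] :
    (∀ (M N : DerivedCategory (ObjectProperty.FullSubcategory (fun M : X.Modules => Coh.IsQCoh M))) (a b : ℤ), M.IsGE a → N.IsGE b →
        Function.Bijective (fun f : M ⟶ N => (ObjectProperty.ι (fun M : X.Modules => Coh.IsQCoh M)).mapDerivedCategory.map f)) ∧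
      ∀ (K : DCoh.D X) (a : ℤ), K.IsGE a → DCoh.IsQCohD K →
        ∃ M : DerivedCategory (ObjectProperty.FullSubcategory (fun M : X.Modules => Coh.IsQCoh M)), M.IsGE a ∧
          Nonempty ((ObjectProperty.ι (fun M : X.Modules => Coh.IsQCoh M)).mapDerivedCategory.obj M ≅ K) := by
  let P : ObjectProperty X.Modules := fun M => Coh.IsQCoh M
  have hess : ∀ M : X.Modules, P.ι.essImage M → Coh.IsQCoh M := fun M ⟨⟨N, hN⟩, ⟨e⟩⟩ =>
    Groth.Agent.QC70.isQuasicoherent_of_iso e hN
  have hmem : ∀ M : X.Modules, Coh.IsQCoh M → P.ι.essImage M := fun M hM => ⟨⟨M, hM⟩, ⟨Iso.refl _⟩⟩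
  have hext : ∀ S : ShortComplex X.Modules, S.ShortExact → P.ι.essImage S.X₁ → P.ι.essImage S.X₃ →
      P.ι.essImage S.X₂ := fun S hS h1 h3 => by
    haveI : S.X₁.IsQuasicoherent := hess _ h1
    haveI : S.X₃.IsQuasicoherent := hess _ h3
    exact hmem _ (Groth.Agent.QC70.isQuasicoherent_X₂ S hS)
  have hinj : ∀ M : P.FullSubcategory, ∃ (N : P.FullSubcategory) (i : M ⟶ N), Mono i ∧ Injective (P.ι.obj N) := by
    intro M
    haveI : M.obj.IsQuasicoherent := M.property
    obtain ⟨H, i, hi, hH, hI⟩ := Groth.Agent.QC70.exists_qcoh_injective_hull M.obj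
    refine ⟨⟨H, hH⟩, P.ι.preimage (X := M) (Y := ⟨H, hH⟩) i, ?_, hI⟩
    haveI : Mono (P.ι.map (P.ι.preimage (X := M) (Y := ⟨H, hH⟩) i)) := by rw [P.ι.map_preimage]; exact hi
    exact P.ι.mono_of_mono_map this
  refine ⟨fun M N a b _ hN => Groth.Agent.CohDer42.SubFF.bijective_isGE P.ι hinj M N b, fun K a ha hK => ?_⟩
  obtain ⟨K₀, _, ⟨e⟩⟩ := DerivedCategory.exists_iso_Q_obj_of_isGE K a
  obtain ⟨L, α, _, hL, _⟩ := Groth.Agent.CohDer42.exists_subResolution K₀
    (Groth.Agent.CohDer42.SubFF.subResHyp_essImage P.ι hext hinj) a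
    (fun i => P.ι.essImage.prop_of_iso ((DerivedCategory.homologyFunctor X.Modules i).mapIso e ≪≫
      (DerivedCategory.homologyFunctorFactors X.Modules i).app K₀) (hmem _ (hK i)))
  obtain ⟨I, ⟨eI⟩⟩ := Groth.Agent.CohDer42.SubFF.exists_lift_complex P.ι L (fun n => (hL n).1)
  have hI : I.IsStrictlyGE a := by
    rw [CochainComplex.isStrictlyGE_iff]
    intro i hi
    exact Groth.Agent.CohDer42.SubFF.isZero_of_isZero_map P.ι
      ((L.isZero_of_isStrictlyGE a i hi).of_iso ((HomologicalComplex.eval _ _ i).mapIso eI))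
  exact ⟨DerivedCategory.Q.obj I, (DerivedCategory.isGE_Q_obj_iff I a).2 inferInstance,
    ⟨P.ι.mapDerivedCategoryFactors.app I ≪≫ DerivedCategory.Q.mapIso eI ≪≫
      (asIso (DerivedCategory.Q.map α)).symm ≪≫ e.symm⟩⟩

end Groth.Agent.S11166
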