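import Groth.Statements.S1049
import Groth.Agent.PerfDesc24.CohQCoh
import Groth.Agent.PerfDesc24.MapDComp
import Groth.Agent.S11166
import Groth.Agent.QCGroth72.Category
-- import your own Groth.Agent.* helpers here

set_option autoImplicit false
universe u
open CategoryTheory CategoryTheory.Limits AlgebraicGeometry
attribute [local instance] HasDerivedCategory.standard
open Perf Groth.Agent.PerfDesc24 Groth.Agent.PerfDesc24.CohQCoh

namespace Groth.Agent.S1049

/-- Let X be a Noetherian scheme. Granting that coherent modules contain zero and are closed under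
kernels, cokernels and finite products in all O_X-modules, with exact inclusion (true on a
Noetherian scheme, carried as instance hypotheses; they make Coh(O_X) an abelian category), the
induced functor D(Coh(O_X)) ⥤ D(O_X) is fully faithful on bounded objects, and a bounded object of
D(O_X) with coherent cohomology sheaves is isomorphic to the image of a bounded object of
D(Coh(O_X)). -/
theorem result (X : Scheme.{u}) [IsNoetherian X]
    [ObjectProperty.ContainsZero (fun M : X.Modules => Coh.IsCoh M)] [ObjectProperty.IsClosedUnderKernels (fun M : X.Modules => Coh.IsCoh M)]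
    [ObjectProperty.IsClosedUnderCokernels (fun M : X.Modules => Coh.IsCoh M)] [ObjectProperty.IsClosedUnderFiniteProducts (fun M : X.Modules => Coh.IsCoh M)]
    [PreservesFiniteLimits (ObjectProperty.ι (fun M : X.Modules => Coh.IsCoh M))] [PreservesFiniteColimits (ObjectProperty.ι (fun M : X.Modules => Coh.IsCoh M))] :
    (∀ (M N : DerivedCategory (ObjectProperty.FullSubcategory (fun M : X.Modules => Coh.IsCoh M))) (a b : ℤ), M.IsGE a → M.IsLE b → N.IsGE a → N.IsLE b →
      Function.Bijective (fun φ : M ⟶ N => (ObjectProperty.ι (fun M : X.Modules => Coh.IsCoh M)).mapDerivedCategory.map φ)) ∧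
    ∀ (K : DCoh.D X) (a b : ℤ), K.IsGE a → K.IsLE b → DCoh.IsCohD K →
      ∃ M : DerivedCategory (ObjectProperty.FullSubcategory (fun M : X.Modules => Coh.IsCoh M)), M.IsGE a ∧ M.IsLE b ∧
        Nonempty ((ObjectProperty.ι (fun M : X.Modules => Coh.IsCoh M)).mapDerivedCategory.obj M ≅ K) := by

  haveI : (QP X).IsClosedUnderIsomorphisms := ⟨fun e h => QC70.isQuasicoherent_of_iso e h⟩
  haveI : (QP X).ContainsZero := inferInstanceAs (QCohCat.isQCoh X).ContainsZero
  haveI : (QP X).IsClosedUnderKernels := inferInstanceAs (QCohCat.isQCoh X).IsClosedUnderKernels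
  haveI : (QP X).IsClosedUnderCokernels := inferInstanceAs (QCohCat.isQCoh X).IsClosedUnderCokernels
  haveI : (QP X).IsClosedUnderFiniteProducts := inferInstanceAs (QCohCat.isQCoh X).IsClosedUnderFiniteProducts
  haveI := FTors27.preservesFiniteLimits_ι (QP X)
  haveI := FTors27.preservesFiniteColimits_ι (QP X)
  haveI : PreservesFiniteLimits (incl X ⋙ (QP X).ι) := inferInstanceAs (PreservesFiniteLimits (CP X).ι)
  haveI : PreservesFiniteColimits (incl X ⋙ (QP X).ι) := inferInstanceAs (PreservesFiniteColimits (CP X).ι)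
  haveI : PreservesFiniteLimits (incl X) :=
    ⟨fun J _ _ => preservesLimitsOfShape_of_reflects_of_preserves (incl X) (QP X).ι⟩
  haveI : PreservesFiniteColimits (incl X) :=
    ⟨fun J _ _ => preservesColimitsOfShape_of_reflects_of_preserves (incl X) (QP X).ι⟩
  let η := PerfDesc24.mapDComp (incl X) (QP X).ι (CP X).ι (ObjectProperty.liftCompιIso _ _ _)
  have hQ := S11166.result X
  have hC := equivalence X
  have hM : ∀ (M : DerivedCategory (CP X).FullSubcategory) (a : ℤ), M.IsGE a →
      ((incl X).mapDerivedCategory.obj M).IsGE a := fun M a h => by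
    rw [DerivedCategory.isGE_iff] at h ⊢
    exact fun i hi => isZero_homology_map (incl X) i M (h i hi)
  refine ⟨fun M N a b hMa hMb hNa hNb => ?_, fun K a b ha hb hK => ?_⟩
  · have h1 := hC.1 M N b hMb hNb
    have h2 := hQ.1 _ _ a a (hM M a hMa) (hM N a hNa)
    have h3 := ((Iso.homCongr (η.app M) (η.app N)).bijective.comp (h2.comp h1))
    convert h3 using 1
    funext φ
    simp only [Function.comp_apply, Iso.homCongr_apply, Iso.app_hom, Iso.app_inv]
    rw [← Functor.comp_map, η.hom.naturality, Iso.inv_hom_id_app_assoc]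
  · obtain ⟨Q', hQa, ⟨eQ⟩⟩ := hQ.2 K a ha (fun i => (hK i).1)
    have hQ' : ∀ i, Coh.IsCoh (((DerivedCategory.homologyFunctor (QP X).FullSubcategory i).obj Q').obj) := fun i =>
      QC70.isCoh_of_iso (((homologyIso (QP X).ι i).app Q').symm ≪≫
        (DerivedCategory.homologyFunctor _ i).mapIso eQ).symm (hK i)
    have hQb : Q'.IsLE b := by
      rw [DerivedCategory.isLE_iff]
      intro i hi
      refine CohDer42.SubFF.isZero_of_isZero_map (QP X).ι ?_
      exact (DerivedCategory.isZero_of_isLE K b i hi).of_iso
        (((homologyIso (QP X).ι i).app Q').symm ≪≫ (DerivedCategory.homologyFunctor _ i).mapIso eQ)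
    obtain ⟨M, hMb, ⟨e⟩⟩ := hC.2 Q' b hQb hQ'
    refine ⟨M, ?_, hMb, ⟨(η.app M).symm ≪≫ (QP X).ι.mapDerivedCategory.mapIso e ≪≫ eQ⟩⟩
    rw [DerivedCategory.isGE_iff]
    intro i hi
    refine CohDer42.SubFF.isZero_of_isZero_map (incl X) ?_
    rw [DerivedCategory.isGE_iff] at hQa
    exact ((hQa i hi).of_iso ((DerivedCategory.homologyFunctor _ i).mapIso e)).of_iso
      ((homologyIso (incl X) i).app M).symm

end Groth.Agent.S1049
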