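import Groth.Statements.S10494
import Groth.Agent.SpFP87.Reduced
import Groth.Agent.SpPts86.EtaleMor

set_option autoImplicit false
universe u
open CategoryTheory CategoryTheory.Limits AlgebraicGeometry Topology TopologicalSpace
open AlgSp

namespace Groth.Agent.S10494

/-- Let X be an integral algebraic space over a scheme S. Then Γ(X, O_X) is a domain. -/
theorem result {S : Scheme.{u}} (X : AlgSp.Space S)
    (hX : AlgSp.IsIntegralSp X.obj) : IsDomain ↥(AlgSp.gsectEt (AlgSp.OEt X.obj)) := by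
  obtain ⟨hred, -, hirr⟩ := hX
  haveI := hirr
  let π : ∀ E : EtOver X.obj, ↥(gsectEt (OEt X.obj)) →+* Γ(E.obj.left.left, ⊤) := fun E =>
    (ULift.ringEquiv).toRingHom.comp (limit.π (OEt X.obj).obj (Opposite.op E)).hom
  have hw : ∀ {E E' : EtOver X.obj} (g : E ⟶ E') (a), π E a = g.hom.left.left.appTop.hom (π E' a) := by
    intro E E' g a
    have h := ConcreteCategory.congr_hom (limit.w (OEt X.obj).obj g.op) a
    exact (congrArg ULift.down h).symm
  have hext : ∀ a b, (∀ E, π E a = π E b) → a = b := fun a b h =>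
    Concrete.limit_ext _ a b fun E => ULift.ext _ _ (h E.unop)
  have hne : ∀ a ≠ 0, ∃ (E : EtOver X.obj) (z : ↥E.obj.left.left), z ∈ E.obj.left.left.basicOpen (π E a) := by
    intro a ha
    by_contra hcon
    push Not at hcon
    refine ha (hext a 0 fun E => ?_)
    haveI := Groth.Agent.SpFP87.isReduced_chart X.property hred E.property
    rw [map_zero, ← basicOpen_eq_bot_iff]
    exact eq_bot_iff.2 fun z hz => (hcon E z hz).elim
  haveI : Nontrivial ↥(gsectEt (OEt X.obj)) := by
    obtain ⟨U, p, hp, hps⟩ := X.property.atlas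
    obtain ⟨u, -⟩ := Groth.Agent.SpPts86.surjective_ofPt hps (Classical.arbitrary (Points X.obj))
    haveI : Nonempty ↥(EtOver.mk p hp).obj.left.left := ⟨u⟩
    refine ⟨1, 0, fun h => ?_⟩
    have := congrArg (π (EtOver.mk p hp)) h
    rw [map_one, map_zero] at this
    have h2 := congrArg ((EtOver.mk p hp).obj.left.left.basicOpen) this
    rw [Scheme.basicOpen_of_isUnit _ isUnit_one, Scheme.basicOpen_zero] at h2
    exact (h2.le (show u ∈ ⊤ from trivial) : False)
  haveI : NoZeroDivisors ↥(gsectEt (OEt X.obj)) := by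
    refine ⟨fun {a b} hab => ?_⟩
    by_contra hcon
    push Not at hcon
    obtain ⟨E₁, u, hu⟩ := hne a hcon.1
    obtain ⟨E₂, v, hv⟩ := hne b hcon.2
    have ho : ∀ (E : EtOver X.obj) (c : Γ(E.obj.left.left, ⊤)),
        IsOpen (Points.ofPt E.obj.hom '' (E.obj.left.left.basicOpen c : Set ↥E.obj.left.left)) := fun E c =>
      Groth.Agent.SpPts86.isOpenMap_ofPt E.property _ (E.obj.left.left.basicOpen c).isOpen
    obtain ⟨x, -, ⟨u', hu', rfl⟩, ⟨v', hv', e⟩⟩ :=
      PreirreducibleSpace.isPreirreducible_univ (X := Points X.obj) _ _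
        (ho E₁ (π E₁ a)) (ho E₂ (π E₂ b)) ⟨_, trivial, u, hu, rfl⟩ ⟨_, trivial, v, hv, rfl⟩
    obtain ⟨W, q₁, q₂, sq⟩ := Groth.Agent.SpFP87.exists_isPullback_yon X.property.diag E₁.obj.hom E₂.obj.hom
    obtain ⟨z, hz₁, hz₂⟩ := Groth.Agent.SpPts86.exists_pt_of_isPullback' sq u' v' e.symm
    haveI : Etale q₁.left := Groth.Agent.SpFP87.etale_snd_of_isPullback sq.flip E₂.property
    let E : EtOver X.obj := EtOver.mk ((yon S).map q₁ ≫ E₁.obj.hom)
      (Groth.Agent.SpPts86.repWith_etale_comp q₁ E₁.property)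
    let g₁ : E ⟶ E₁ := EtOver.homMk q₁ rfl
    let g₂ : E ⟶ E₂ := EtOver.homMk q₂ sq.w.symm
    have h1 : z ∈ E.obj.left.left.basicOpen (π E a) := by
      rw [hw g₁ a, ← Scheme.Hom.preimage_basicOpen_top]
      show q₁.left z ∈ E₁.obj.left.left.basicOpen (π E₁ a)
      rw [hz₁]; exact hu'
    have h2 : z ∈ E.obj.left.left.basicOpen (π E b) := by
      rw [hw g₂ b, ← Scheme.Hom.preimage_basicOpen_top]
      show q₂.left z ∈ E₂.obj.left.left.basicOpen (π E₂ b)
      rw [hz₂]; exact hv'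
    have h3 : z ∈ E.obj.left.left.basicOpen (π E (a * b)) := by
      rw [map_mul, Scheme.basicOpen_mul]; exact ⟨h1, h2⟩
    rw [hab, map_zero, Scheme.basicOpen_zero] at h3
    exact (h3 : False)
  exact NoZeroDivisors.to_isDomain _

end Groth.Agent.S10494
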