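import Groth.Statements.S10509
import Groth.Agent.SpPts86.EtaleSheaf

set_option autoImplicit false
universe u
open CategoryTheory CategoryTheory.Limits AlgebraicGeometry
open AlgSp

namespace Groth.Agent.S10509

/-- A smooth covering of an algebraic space `X` over `S` by algebraic spaces can be refined by an etale
covering of `X` by algebraic spaces: there is an etale covering `{U_j ⟶ X}` each member of which
factors through some member of the given smooth covering. -/
theorem result {S : Scheme.{u}} (X : AlgSp.Space S) {ι : Type u}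
    (Xi : ι → AlgSp.Space S) (g : ∀ i, Xi i ⟶ X)
    (h : AlgSp.IsSmCover (fun i => (Xi i).obj) (fun i => (g i).hom)) :
    ∃ (κ : Type u) (U : κ → AlgSp.Space S) (c : ∀ j, U j ⟶ X),
      AlgSp.IsEtCover (fun j => (U j).obj) (fun j => (c j).hom) ∧
      ∀ j, ∃ (i : ι) (r : U j ⟶ Xi i), r ≫ g i = c j := by
  classical
  obtain ⟨T, a, ha, has⟩ := X.property.atlas
  have key : ∀ t : ↥T.left, ∃ (i : ι) (U : Over S) (c : U ⟶ T) (r : (yon S).obj U ⟶ (Xi i).obj) (s : ↥U.left),
      Etale c.left ∧ c.left s = t ∧ r ≫ (g i).hom = (yon S).map c ≫ a := by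
    intro t
    obtain ⟨i, y, hy⟩ := h.2 (Points.ofPt a t)
    let sq := IsPullback.of_hasPullback (g i).hom a
    have hK : IsAlgSpace (Limits.pullback (g i).hom a) :=
      Groth.Agent.SpFP87.isAlgSpace_pullback (g i).hom a (Xi i).property (IsAlgSpace.yon_obj T) X.property
    obtain ⟨V, b, hb, hbs⟩ := hK.atlas
    obtain ⟨v, hv⟩ := (yon S).map_surjective (b ≫ pullback.snd (g i).hom a)
    have hsm : LocP @Smooth (pullback.snd (g i).hom a) :=
      Groth.Agent.SpFP87.locP_baseChange sq (Xi i).property X.property (IsAlgSpace.yon_obj T) (h.1 i)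
    haveI : Smooth v.left := Groth.Agent.SpPts86.locP_apply hsm hb hv.symm
    obtain ⟨z, -, hz⟩ := Groth.Agent.SpPts86.exists_of_isPullback sq y (Points.ofScheme T t)
      (by rw [hy, Points.map_ofPt, Category.id_comp])
    obtain ⟨w, rfl⟩ := Groth.Agent.SpPts86.surjective_ofPt hbs z
    have hwt : v.left w = t := by
      rw [Points.map_ofPt, ← hv, Groth.Agent.SpPts86.ofPt_yon_map] at hz
      exact (Points.schemeHomeo T).injective hz
    obtain ⟨S', g', s', hge, hgs, hh, hh'⟩ := Groth.Agent.SpPts86.exists_etale_section v.left w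
    let c : Over.mk (g' ≫ T.hom) ⟶ T := Over.homMk g' rfl
    let l : Over.mk (g' ≫ T.hom) ⟶ V := Over.homMk hh (by
      change hh ≫ V.hom = g' ≫ T.hom
      rw [← Over.w v, reassoc_of% hh'])
    have hl : l ≫ v = c := Over.OverMorphism.ext hh'
    refine ⟨i, _, c, (yon S).map l ≫ b ≫ pullback.fst (g i).hom a, s', hge, hgs.trans hwt, ?_⟩
    rw [Category.assoc, Category.assoc, pullback.condition, ← Category.assoc b, ← hv,
      ← Functor.map_comp_assoc, hl]
  choose i U c r s hc hcs hr using key
  refine ⟨↥T.left, fun t => ⟨(yon S).obj (U t), IsAlgSpace.yon_obj _⟩,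
    fun t => ObjectProperty.homMk ((yon S).map (c t) ≫ a), ⟨fun t => ?_, fun x => ?_⟩,
    fun t => ⟨i t, ObjectProperty.homMk (r t), ObjectProperty.hom_ext _ (hr t)⟩⟩
  · haveI := hc t
    exact Groth.Agent.SpPts86.isEtaleMor_of_repWith_etale (Groth.Agent.SpPts86.repWith_etale_comp (c t) ha)
  · obtain ⟨t, rfl⟩ := Groth.Agent.SpPts86.surjective_ofPt has x
    refine ⟨t, Points.ofScheme (U t) (s t), ?_⟩
    rw [Points.map_ofPt, Category.id_comp]
    exact (Groth.Agent.SpPts86.ofPt_comp (c t) a (s t)).trans (by rw [hcs t])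

end Groth.Agent.S10509
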