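import Groth.Statements.S10514
import Groth.Agent.SpFP87.LocP
import Groth.Agent.SpFP87.Covers
import Groth.Agent.FlatMor67.FppfPh
-- import your own Groth.Agent.* helpers here

set_option autoImplicit false
universe u
open CategoryTheory CategoryTheory.Limits AlgebraicGeometry
open AlgSp

namespace Groth.Agent.S10514

/-- An fppf covering of an algebraic space `X` over `S` by algebraic spaces is a ph covering of `X`: its
members are locally of finite type and every morphism from an affine scheme `Z` to `X` admits a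
standard ph covering of `Z` whose members lift through members of the family. -/
theorem result {S : Scheme.{u}} (X : AlgSp.Space S) {ι : Type u}
    (Xi : ι → AlgSp.Space S) (g : ∀ i, Xi i ⟶ X)
    (h : AlgSp.IsFppfCover (fun i => (Xi i).obj) (fun i => (g i).hom)) :
    AlgSp.IsPhCover (fun i => (Xi i).obj) (fun i => (g i).hom) := by
  classical
  refine ⟨fun i => Groth.Agent.SpFP87.LocP.of_le (P := @LocallyOfFinitePresentation) (fun _ _ k hk => by
    haveI : LocallyOfFinitePresentation k := hk
    exact inferInstanceAs (LocallyOfFiniteType k)) (h.1 i).2, fun Z hZ z => ?_⟩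
  obtain ⟨V, c, l, hc, hsurj, hl⟩ :=
    Groth.Agent.SpFP87.exists_fppf_family _ _ X.property (fun i => (Xi i).property) h z
  haveI := hZ
  let E : PreZeroHypercover.{u} Z.left := ⟨ι, fun i => (V i).left, fun i => (c i).left⟩
  let e := Z.left.isoSpec
  obtain ⟨Y, π, hπ, hπs, hY⟩ := Groth.Agent.FlatMor67.FppfPh.exists_finite_refine E
    (fun i => (hc i).1) (fun i => (hc i).2)
    (fun t => by obtain ⟨i, v, hv⟩ := hsurj t; exact ⟨i, v, hv⟩) _ e.inv
  haveI := hπ
  haveI := hπs
  haveI : IsAffine Y := isAffine_of_isAffineHom π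
  choose W i m hyW hW hm using hY
  obtain ⟨t, ht⟩ := (CompactSpace.isCompact_univ (X := Y)).elim_finite_subcover (fun y => (W y : Set Y))
    (fun y => (W y).2) (fun y _ => Set.mem_iUnion.mpr ⟨y, hyW y⟩)
  let k := t.equivFin
  let F : PreZeroHypercover.{0} Z.left :=
    ⟨Fin t.card, fun j => (W (k.symm j).1).toScheme, fun j => (W (k.symm j).1).ι ≫ π ≫ e.inv⟩
  refine ⟨F, ⟨hZ, inferInstanceAs (Finite (Fin t.card)), fun j => hW _,
    ⟨Y, π ≫ e.inv, fun j => (W (k.symm j).1).ι, inferInstance, inferInstance, fun j => inferInstance, fun j => rfl,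
      fun y => ?_⟩⟩, fun j => ?_⟩
  · obtain ⟨y₀, hy₀, hy⟩ := Set.mem_iUnion₂.mp (ht (Set.mem_univ y))
    refine ⟨k ⟨y₀, hy₀⟩, ?_⟩
    rw [Scheme.Opens.range_ι, k.symm_apply_apply]
    exact hy
  · let y := (k.symm j).1
    have hw : m y ≫ (c (i y)).left = F.f j := hm y
    have hstr : m y ≫ (V (i y)).hom = F.f j ≫ Z.hom := by
      rw [← hw, Category.assoc, Over.w]
    let q : Over.mk (F.f j ≫ Z.hom) ⟶ V (i y) := Over.homMk (m y) hstr
    refine ⟨i y, (yon S).map q ≫ l (i y), ?_⟩
    refine (Category.assoc _ _ _).trans ((congrArg (fun t => (yon S).map q ≫ t) (hl (i y))).trans ?_)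
    refine (Category.assoc _ _ _).symm.trans ?_
    rw [← Functor.map_comp]
    congr 2
    exact Over.OverMorphism.ext hw

end Groth.Agent.S10514
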