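import Groth.Statements.S10515
import Groth.Agent.SpFP87.PhProper

set_option autoImplicit false
universe u
open CategoryTheory CategoryTheory.Limits AlgebraicGeometry
open AlgSp

namespace Groth.Agent.S10515

/-- A proper (separated, of finite type, universally closed) and surjective morphism `f : Y ⟶ X` of
algebraic spaces over `S` forms, on its own, a ph covering `{Y ⟶ X}` of `X`. -/
theorem result {S : Scheme.{u}} {X Y : AlgSp.Space S} (f : Y ⟶ X)
    (hf : AlgSp.IsProperMor f.hom) (hs : AlgSp.IsSurjectiveMor f.hom) :
    AlgSp.IsPhCover (fun _ : PUnit.{u + 1} => Y.obj) (fun _ => f.hom) := by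
  exact Groth.Agent.SpFP87.isPhCover_of_isProperMor f hf hs

end Groth.Agent.S10515
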