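import Groth.Statements.S10517
import Groth.Agent.HTop50.PhCover
import Groth.Agent.SpFP87.SmallLift
-- import your own Groth.Agent.* helpers here

set_option autoImplicit false
universe u
open CategoryTheory CategoryTheory.Limits AlgebraicGeometry
open AlgSp

namespace Groth.Agent.S10517

/-- If `{X_i ⟶ X}` is a ph covering of the algebraic space `X` by algebraic spaces and each `X_i` has a
ph covering `{X_ij ⟶ X_i}` by algebraic spaces, then the composites `X_ij ⟶ X_i ⟶ X`, indexed by the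
pairs `(i, j)`, form a ph covering of `X`. -/
theorem result {S : Scheme.{u}} (X : AlgSp.Space S) {ι : Type u}
    (Xi : ι → AlgSp.Space S) (g : ∀ i, Xi i ⟶ X) (κ : ι → Type u) (Xij : ∀ i, κ i → AlgSp.Space S)
    (gij : ∀ i j, Xij i j ⟶ Xi i)
    (h : AlgSp.IsPhCover (fun i => (Xi i).obj) (fun i => (g i).hom))
    (hij : ∀ i, AlgSp.IsPhCover (fun j => (Xij i j).obj) (fun j => (gij i j).hom)) :
    AlgSp.IsPhCover (fun r : Σ i, κ i => (Xij r.1 r.2).obj) (fun r => (gij r.1 r.2 ≫ g r.1).hom) := by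
  classical
  refine ⟨fun r => Groth.Agent.SpFP87.locP_comp (P := @LocallyOfFiniteType) (Xij r.1 r.2).property (Xi r.1).property
    X.property ((hij r.1).1 r.2) (h.1 r.1), fun Z hZ z => ?_⟩
  obtain ⟨F, hF, hFl⟩ := h.2 Z hZ z
  choose i l hl using hFl
  have hW : ∀ j, IsAffine (Over.mk (F.f j ≫ Z.hom)).left := fun j => hF.isAffine_obj j
  choose G hG hGl using fun j => (hij (i j)).2 (Over.mk (F.f j ≫ Z.hom)) (hW j) (l j)
  choose k m hm using hGl
  haveI := hZ
  obtain ⟨H, hH, ⟨φ⟩⟩ := (((Groth.Agent.HTop50.globRef_of_isStandardPh hF).locRef).bind fun j =>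
    (Groth.Agent.HTop50.globRef_of_isStandardPh (hG j)).locRef).globRef.exists_standardPh
  refine ⟨H, hH, fun a => ?_⟩
  let j := (φ.s₀ a).1
  let b := (φ.s₀ a).2
  have w : φ.h₀ a ≫ (G j).f b ≫ F.f j = H.f a := φ.w₀ a
  have key : ∀ {A B C : Over S} {P Q : Sp S} (q : A ⟶ B) (u : B ⟶ C) (v : C ⟶ Z) (t : A ⟶ Z)
      (m' : (yon S).obj B ⟶ P) (g' : P ⟶ Q) (l' : (yon S).obj C ⟶ Q) (g'' : Q ⟶ X.obj),
      q ≫ u ≫ v = t → m' ≫ g' = (yon S).map u ≫ l' → l' ≫ g'' = (yon S).map v ≫ z →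
      ((yon S).map q ≫ m') ≫ g' ≫ g'' = (yon S).map t ≫ z := by
    intro A B C P Q q u v t m' g' l' g'' e1 e2 e3
    rw [← e1, Functor.map_comp, Functor.map_comp, Category.assoc, ← Category.assoc m', e2]
    simp only [Category.assoc, e3]
  let q : Over.mk (H.f a ≫ Z.hom) ⟶ Over.mk ((G j).f b ≫ (Over.mk (F.f j ≫ Z.hom)).hom) :=
    Over.homMk (φ.h₀ a) (by
      show φ.h₀ a ≫ (G j).f b ≫ F.f j ≫ Z.hom = H.f a ≫ Z.hom
      rw [← w]; simp only [Category.assoc])
  exact ⟨⟨i j, k j b⟩, (yon S).map q ≫ m j b,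
    key q (Over.homMk ((G j).f b) rfl) (Over.homMk (F.f j) rfl) _ (m j b) _ (l j) _
      (Over.OverMorphism.ext w) (hm j b) (hl j)⟩

end Groth.Agent.S10517
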