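import Groth.Statements.S10554
import Groth.Agent.SpFP87.SourceInst
import Groth.Agent.SpFP87.EtaleMor

set_option autoImplicit false
universe u
open CategoryTheory CategoryTheory.Limits AlgebraicGeometry
open AlgSp

namespace Groth.Agent.S10554

/-- The property of morphisms of algebraic spaces over S given by f is etale (composition with every
representable etale map from a scheme is representable etale) is etale local on the source: for a
morphism f : X ⟶ Y of algebraic spaces and a etale covering of X by algebraic spaces X_i, f has the
property if and only if every composite X_i ⟶ X ⟶ Y has it. -/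
theorem result (S : Scheme.{u}) :
    AlgSp.IsLocalOnSource (AlgSp.IsEtCover (S := S)) AlgSp.IsEtaleMor := by
  haveI : IsZariskiLocalAtSource (@Etale.{u} : MorphismProperty Scheme.{u}) :=
    HasRingHomProperty.instIsZariskiLocalAtSource (Q := @RingHom.Etale)
  haveI := Groth.Agent.SpFP87.etLoc_isLocalAtSource_etale (@Etale.{u} : MorphismProperty Scheme.{u})
  intro ι X Xi g hX hXi hg Y f hY
  rw [Groth.Agent.SpFP87.isEtaleMor_iff_locP f hX hY]
  refine (Groth.Agent.SpFP87.isLocalOnSource_etale Xi g hX hXi hg f hY).trans ?_
  exact forall_congr' fun i => (Groth.Agent.SpFP87.isEtaleMor_iff_locP (g i ≫ f) (hXi i) hY).symm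

end Groth.Agent.S10554
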