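import Groth.Statements.S10561
import Groth.Agent.SpFP87.Reduced
import Groth.Agent.S9840

set_option autoImplicit false
universe u
open CategoryTheory CategoryTheory.Limits AlgebraicGeometry
open AlgSp

namespace Groth.Agent.S10561

/-- Let f : X ⟶ Y be a flat and surjective morphism of algebraic spaces over S. If X is reduced then Y
is reduced. -/
theorem result {S : Scheme.{u}} {X Y : AlgSp.Space S} (f : X ⟶ Y)
    (hfl : AlgSp.LocP @Flat f.hom) (hs : AlgSp.IsSurjectiveMor f.hom) (hX : AlgSp.IsReducedSp X.obj) :
    AlgSp.IsReducedSp Y.obj := by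
  obtain ⟨V, b, hb, hbs⟩ := Y.property.atlas
  obtain ⟨U, a, k, ha, w, -, hk⟩ :=
    Groth.Agent.SpFP87.exists_surjective_compatible_chart f.hom X.property Y.property hb
  haveI := Groth.Agent.SpFP87.isReduced_chart X.property hX ha
  haveI : Flat k.left := hfl a b k ha hb w
  haveI := hk hs
  exact ⟨V, b, hb, hbs, Groth.Agent.S9840.result k.left⟩

end Groth.Agent.S10561
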