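import Groth.Statements.S10563
import Groth.Agent.SpFP87.Regular

set_option autoImplicit false
universe u
open CategoryTheory CategoryTheory.Limits AlgebraicGeometry
open AlgSp

namespace Groth.Agent.S10563

/-- Let f : X ⟶ Y be a morphism of algebraic spaces over S which is locally of finite presentation, flat
and surjective. If X is regular (etale locally a locally Noetherian scheme all of whose local rings
are regular local rings) then Y is regular. -/
theorem result {S : Scheme.{u}} {X Y : AlgSp.Space S} (f : X ⟶ Y)
    (hfp : AlgSp.LocP @LocallyOfFinitePresentation f.hom) (hfl : AlgSp.LocP @Flat f.hom)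
    (hs : AlgSp.IsSurjectiveMor f.hom)
    (hX : AlgSp.EtaleLocally (fun U => IsLocallyNoetherian U ∧ ∀ u : ↥U, IsRegularLocalRing ↥(U.presheaf.stalk u)) X.obj) :
    AlgSp.EtaleLocally (fun U => IsLocallyNoetherian U ∧ ∀ u : ↥U, IsRegularLocalRing ↥(U.presheaf.stalk u)) Y.obj := by
  obtain ⟨V, b, hb, hbs⟩ := Y.property.atlas
  obtain ⟨U, a, k, ha, w, -, hk⟩ :=
    Groth.Agent.SpFP87.exists_surjective_compatible_chart f.hom X.property Y.property hb
  haveI : Flat k.left := hfl a b k ha hb w
  haveI : LocallyOfFinitePresentation k.left := hfp a b k ha hb w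
  haveI := hk hs
  exact ⟨V, b, hb, hbs, Groth.Agent.SpFP87.isRegularScheme_of_flat_lfp_surjective k.left
    (Groth.Agent.SpFP87.isRegularScheme_chart X.property hX ha)⟩

end Groth.Agent.S10563
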