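import Groth.Statements.S10564
import Groth.Agent.SpFP87.Reduced
import Groth.Agent.S9840

set_option autoImplicit false
universe u
open CategoryTheory CategoryTheory.Limits AlgebraicGeometry
open AlgSp

namespace Groth.Agent.S10564

/-- For a smooth morphism f : X ⟶ Y of algebraic spaces over S, reducedness of Y implies reducedness of
X, and when f is moreover surjective, reducedness of X implies reducedness of Y. -/
theorem result {S : Scheme.{u}} {X Y : AlgSp.Space S} (f : X ⟶ Y) (hf : AlgSp.LocP @Smooth f.hom) :
    (AlgSp.IsReducedSp Y.obj → AlgSp.IsReducedSp X.obj) ∧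
    (AlgSp.IsSurjectiveMor f.hom → AlgSp.IsReducedSp X.obj → AlgSp.IsReducedSp Y.obj) := by
  refine ⟨fun h => Groth.Agent.SpFP87.isReducedSp_of_smooth f.hom X.property Y.property hf h, fun hs hX => ?_⟩
  obtain ⟨V, b, hb, hbs⟩ := Y.property.atlas
  obtain ⟨U, a, k, ha, w, -, hk⟩ :=
    Groth.Agent.SpFP87.exists_surjective_compatible_chart f.hom X.property Y.property hb
  haveI := Groth.Agent.SpFP87.isReduced_chart X.property hX ha
  haveI : Smooth k.left := hf a b k ha hb w
  haveI := hk hs
  exact ⟨V, b, hb, hbs, Groth.Agent.S9840.result k.left⟩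

end Groth.Agent.S10564
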