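import Groth.Statements.S10579
import Groth.Agent.SpFP87.FinChow
import Groth.Agent.Ega11.UnibranchPoints

set_option autoImplicit false
universe u
open CategoryTheory CategoryTheory.Limits AlgebraicGeometry
open AlgSp

namespace Groth.Agent.S10579

/-- Let f : X ⟶ Y be a morphism of algebraic spaces over S and x ∈ |X|. If X is geometrically unibranch
at x and f is flat at x, then Y is geometrically unibranch at the image point f(x). Here an
algebraic space is geometrically unibranch at a point when for every etale chart from a scheme U and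
every point u of U over it the local ring of U at u is geometrically unibranch. -/
theorem result {S : Scheme.{u}} {X Y : AlgSp.Space S} (f : X ⟶ Y) (x : AlgSp.Points X.obj)
    (hf : AlgSp.IsFlatAtMor f.hom x)
    (hX : ∀ (U : Over S) (a : (AlgSp.yon S).obj U ⟶ X.obj) (v : ↥U.left), AlgSp.RepWith @Etale a →
      AlgSp.Points.ofPt a v = x → CAlg2.IsGeomUnibranch ↥(U.left.presheaf.stalk v))
    (V : Over S) (b : (AlgSp.yon S).obj V ⟶ Y.obj) (w : ↥V.left) (hb : AlgSp.RepWith @Etale b)
    (hw : AlgSp.Points.ofPt b w = AlgSp.Points.map f.hom x) :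
    CAlg2.IsGeomUnibranch ↥(V.left.presheaf.stalk w) := by
  set_option backward.isDefEq.respectTransparency false in
  obtain ⟨p, hp1, hp2⟩ := Groth.Agent.SpPts86.exists_of_isPullback (IsPullback.of_hasPullback f.hom b) x
    (Points.ofScheme V w) (by rw [← hw, Points.ofPt_eq_map_ofScheme b w])
  let P := pullback f.hom b
  have hP : IsAlgSpace P := Groth.Agent.SpFP87.isAlgSpace_pullback f.hom b X.property (IsAlgSpace.yon_obj V) Y.property
  obtain ⟨U, c, hce, hcs⟩ := hP.atlas
  obtain ⟨v, rfl⟩ := Groth.Agent.SpPts86.surjective_ofPt hcs p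
  obtain ⟨h, hh⟩ := (yon S).map_surjective (c ≫ pullback.snd f.hom b)
  have hae : RepWith @Etale (c ≫ pullback.fst f.hom b) :=
    MorphismProperty.comp_mem _ _ _ hce ((repWith_isStableUnderBaseChange _).of_isPullback (IsPullback.of_hasPullback f.hom b).flip hb)
  have hax : Points.ofPt (c ≫ pullback.fst f.hom b) v = x := by rw [← Points.map_ofPt]; exact hp1
  have hv : h.left v = w := by
    apply (Points.schemeHomeo V).injective
    exact (Points.map_yon_map_apply h v).symm.trans (by rw [hh, Points.map_comp]; rw [Points.ofPt_eq_map_ofScheme] at hp2; exact hp2)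
  have hflat := hf (c ≫ pullback.fst f.hom b) b h v hae hb
    (by rw [Category.assoc, pullback.condition, ← Category.assoc, ← hh]) hax
  have hU := hX U _ v hae hax
  subst hv
  letI := (h.left.stalkMap v).hom.toAlgebra
  haveI : IsLocalHom (algebraMap (V.left.presheaf.stalk (h.left v)) (U.left.presheaf.stalk v)) :=
    inferInstanceAs (IsLocalHom (h.left.stalkMap v).hom)
  haveI : Module.Flat (V.left.presheaf.stalk (h.left v)) (U.left.presheaf.stalk v) := hflat
  exact Groth.Agent.Ega11.UnibranchPoints.isGeomUnibranch_of_faithfullyFlat hU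

end Groth.Agent.S10579
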