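import Groth.Statements.S10582
import Groth.Agent.SpFP87.FpqcMono
import Groth.Agent.SpFP87.SourceInst
import Groth.Agent.SpPts86.Compact
import Groth.Agent.SpFP87.LocalST
import Groth.Agent.SpPts86.QCMor
open Groth.Agent.SpFP87 Groth.Agent.SpPts86

set_option autoImplicit false
universe u
open CategoryTheory CategoryTheory.Limits AlgebraicGeometry
open AlgSp

namespace Groth.Agent.S10582

/-- A monomorphism of algebraic spaces that is quasi-compact, flat and surjective is an isomorphism. -/
theorem result {S : Scheme.{u}} {X Y : AlgSp.Space S} (f : X ⟶ Y)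
    (hqc : AlgSp.IsQuasiCompactMor f.hom) (hflat : AlgSp.LocP @Flat f.hom) (hsurj : AlgSp.IsSurjectiveMor f.hom)
    [Mono f.hom] : IsIso f.hom := by
  have hX := X.property
  have hY := Y.property
  have hcov : IsFpqcCover (fun _ : PUnit.{u + 1} => X.obj) (fun _ => f.hom) := by
    refine ⟨fun _ => hflat, fun Z hZ h => ?_⟩
    have := hZ
    let P := pullback f.hom h
    have hP : IsAlgSpace P := isAlgSpace_pullback f.hom h hX (IsAlgSpace.yon_obj Z) hY
    have sq := IsPullback.of_hasPullback f.hom h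
    have : CompactSpace (Points P) := compactSpace_points_of_isQuasiCompactSp
      (hqc (IsAlgSpace.yon_obj Z) (have := compactSpace_points_yon Z; isQuasiCompactSp_of_compactSpace (IsAlgSpace.yon_obj Z)) h _ _ sq)
    obtain ⟨W, a, hW, ha, has⟩ := exists_affine_chart_of_compactSpace hP
    obtain ⟨c, hc⟩ := (yon S).map_surjective (a ≫ pullback.snd f.hom h)
    have hfl : Flat c.left := locP_baseChange sq hX hY (IsAlgSpace.yon_obj Z) hflat a (𝟙 _) c ha
      ((repWith_yon_map_iff _ (𝟙 Z)).2 (inferInstanceAs (Etale (𝟙 Z.left))) |> ((yon S).map_id Z ▸ ·)) (by rw [hc]; exact (Category.comp_id _).symm)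
    refine ⟨1, fun _ => W, fun _ => c, fun _ => hW, fun _ => hfl, fun z => ⟨0, ?_⟩,
      fun _ => ⟨PUnit.unit, a ≫ pullback.fst f.hom h, ?_⟩⟩
    · obtain ⟨y, hy⟩ := isSurjectiveMor_baseChange sq hsurj (Points.ofScheme Z z)
      obtain ⟨w, rfl⟩ := surjective_ofPt has y
      rw [Points.map_ofPt, ← hc, Groth.Agent.SpPts86.ofPt_yon_map] at hy
      exact ⟨w, (Points.schemeHomeo Z).injective hy⟩
    · rw [Category.assoc, sq.w, ← Category.assoc, ← hc]
  refine (isLocalOnBase_fpqc_isomorphisms (fun _ => X.obj) (fun _ => f.hom) hY (fun _ => hX) hcov f.hom hX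
    (fun _ => X.obj) (fun _ => 𝟙 _) (fun _ => 𝟙 _) (fun _ => hX) (fun _ => ?_)).2 (fun _ => ?_)
  · exact IsPullback.of_isLimit' ⟨rfl⟩ (PullbackCone.isLimitMkIdId f.hom)
  · exact inferInstanceAs (IsIso (𝟙 _))

end Groth.Agent.S10582
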