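import Groth.Statements.S10590
import Groth.Agent.SpFP87.ThickScheme
import Groth.Agent.SpFP87.ThickTop

set_option autoImplicit false
universe u
open CategoryTheory CategoryTheory.Limits AlgebraicGeometry
open AlgSp

namespace Groth.Agent.S10590

/-- Consider a morphism (f, f') from the thickening X ⊂ X' to the thickening Y ⊂ Y' of algebraic spaces
over S, meaning: i : X ⟶ X' and j : Y ⟶ Y' are thickenings (representable, every base change to a
scheme a surjective closed immersion) and i ≫ f' = f ≫ j. Then f is representable by schemes if and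
only if f' is. -/
theorem result {S : Scheme.{u}} {X X' Y Y' : AlgSp.Space S} (i : X ⟶ X') (j : Y ⟶ Y')
    (f : X ⟶ Y) (f' : X' ⟶ Y')
    (hi : AlgSp.IsThickMor i.hom)
    (hj : AlgSp.IsThickMor j.hom) (w : i ≫ f' = f ≫ j) :
    AlgSp.Representable f.hom ↔ AlgSp.Representable f'.hom := by
  constructor
  · intro hf T g
    obtain ⟨m, hm, -, -⟩ := Groth.Agent.SpFP87.exists_thick_baseChange_right (i := i.hom) (j := j.hom) hi hj
      (congrArg (·.hom) w) (IsPullback.of_hasPullback f'.hom g)
    obtain ⟨T₀, s₀, fst₀, sq₀⟩ := hj.1 g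
    let e₀ : (yon S).obj T₀ ≅ pullback j.hom g := sq₀.isoPullback
    obtain ⟨P, s, fst, sqP⟩ := hf (e₀.hom ≫ pullback.fst j.hom g)
    have sq' : IsPullback (pullback.fst f.hom (pullback.fst j.hom g))
        (pullback.snd f.hom (pullback.fst j.hom g) ≫ e₀.inv) f.hom (e₀.hom ≫ pullback.fst j.hom g) :=
      (IsPullback.of_hasPullback f.hom (pullback.fst j.hom g)).of_iso (Iso.refl _) (Iso.refl _) e₀.symm (Iso.refl _)
        (by simp) (by simp) (by simp) (by simp)
    have hP' := Groth.Agent.SpFP87.isAlgSpace_pullback f'.hom g X'.property (IsAlgSpace.yon_obj T) Y'.property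
    obtain ⟨T', ⟨e'⟩⟩ := Groth.Agent.SpFP87.exists_scheme_of_thick hm hP' (sqP.isoIsPullback _ _ sq')
    obtain ⟨s', hs'⟩ := (yon S).map_surjective (e'.hom ≫ pullback.snd f'.hom g)
    refine ⟨T', s', e'.hom ≫ pullback.fst f'.hom g, ?_⟩
    rw [hs']
    exact (IsPullback.of_hasPullback f'.hom g).of_iso e'.symm (Iso.refl _) (Iso.refl _) (Iso.refl _)
      (by simp) (by simp) (by simp) (by simp)
  · intro hf'
    haveI := Groth.Agent.SpFP87.mono_of_thick hj
    refine Groth.Agent.SpFP87.representable_of_comp_mono f.hom j.hom ?_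
    have e : f.hom ≫ j.hom = i.hom ≫ f'.hom := (congrArg (·.hom) w).symm
    rw [e]
    exact MorphismProperty.comp_mem _ _ _ hi.1 hf'

end Groth.Agent.S10590
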