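import Groth.Statements.S10596
import Groth.Agent.SpFP87.Deform

set_option autoImplicit false
universe u
open CategoryTheory CategoryTheory.Limits AlgebraicGeometry
open AlgSp

set_option backward.isDefEq.respectTransparency false

namespace Groth.Agent.S10596

/-- Let iB : B ⟶ B' be a finite order thickening of algebraic spaces over S (a thickening such that for
one n the (n+1)-st power of the ideal vanishes on every affine etale scheme chart), f' : X' ⟶ Y' a
morphism of algebraic spaces over B' (via g' : Y' ⟶ B') with X' flat over B', and f : X ⟶ Y, g : Y ⟶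
B its base change to B (both squares to iB cartesian, iX ≫ f' = f ≫ iY). Then f is locally of finite
type of relative dimension d, resp. flat, resp. locally of finite type, locally quasi-finite,
locally of finite presentation, smooth, unramified, etale, if and only if f' is (etale-local sense;
locally quasi-finite and unramified include locally of finite type). -/
theorem result {S : Scheme.{u}} {X X' Y Y' B B' : AlgSp.Space S} (iX : X ⟶ X') (iY : Y ⟶ Y') (iB : B ⟶ B')
    (f : X ⟶ Y) (f' : X' ⟶ Y') (g : Y ⟶ B) (g' : Y' ⟶ B')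
    (hcX : IsPullback iX.hom (f ≫ g).hom (f' ≫ g').hom iB.hom) (hcY : IsPullback iY.hom g.hom g'.hom iB.hom)
    (w : iX ≫ f' = f ≫ iY)
    (hB : AlgSp.IsFinThickMor iB.hom) (hflat : AlgSp.LocP @Flat (f' ≫ g').hom) (d : ℕ) :
    ((AlgSp.LocP @LocallyOfFiniteType f.hom ∧
        ∀ x, AlgSp.HasAtMor (fun _ _ h u => FlatMor.fibreDimAt h u = (d : WithBot ℕ∞)) f.hom x) ↔
      (AlgSp.LocP @LocallyOfFiniteType f'.hom ∧
        ∀ x', AlgSp.HasAtMor (fun _ _ h u => FlatMor.fibreDimAt h u = (d : WithBot ℕ∞)) f'.hom x')) ∧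
    (AlgSp.LocP @Flat f.hom ↔ AlgSp.LocP @Flat f'.hom) ∧
    (AlgSp.LocP @LocallyOfFiniteType f.hom ↔ AlgSp.LocP @LocallyOfFiniteType f'.hom) ∧
    (AlgSp.LocP (@LocallyQuasiFinite ⊓ @LocallyOfFiniteType) f.hom ↔
      AlgSp.LocP (@LocallyQuasiFinite ⊓ @LocallyOfFiniteType) f'.hom) ∧
    (AlgSp.LocP @LocallyOfFinitePresentation f.hom ↔ AlgSp.LocP @LocallyOfFinitePresentation f'.hom) ∧
    (AlgSp.LocP @Smooth f.hom ↔ AlgSp.LocP @Smooth f'.hom) ∧
    (AlgSp.LocP (@LocallyOfFiniteType ⊓ @FormallyUnramified) f.hom ↔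
      AlgSp.LocP (@LocallyOfFiniteType ⊓ @FormallyUnramified) f'.hom) ∧
    (AlgSp.IsEtaleMor f.hom ↔ AlgSp.IsEtaleMor f'.hom) := by
  have hX := X.property
  have hX' := X'.property
  have hY := Y.property
  have hY' := Y'.property
  have hB' := B'.property
  have hc := IsPullback.of_bot hcX (congrArg (·.hom) w) hcY
  have w0 : iX.hom ≫ f'.hom = f.hom ≫ iY.hom := congrArg (·.hom) w
  obtain ⟨n, ht, hn⟩ := hB
  have hK := Groth.Agent.SpFP87.condHolds_FO (f' := f'.hom) (g' := g'.hom) ⟨n, ht, hn⟩ hflat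
  have hd := @Groth.Agent.SpFP87.locP_deform _ _ _ _ _ _ _ _ _ _ _ _ _ _ _ hX' hY' hB' ht hcX hcY w0 hK
  have hl : AlgSp.LocP @LocallyOfFiniteType f.hom ↔ AlgSp.LocP @LocallyOfFiniteType f'.hom :=
    ⟨fun h => hd Groth.Agent.SpFP87.deformsFO_lft h, fun h => Groth.Agent.SpFP87.locP_baseChange hc hX' hY' hY h⟩
  refine ⟨?_, ⟨fun h => hd Groth.Agent.SpFP87.deformsFO_flat h, fun h => Groth.Agent.SpFP87.locP_baseChange hc hX' hY' hY h⟩, hl,
    ⟨fun h => hd Groth.Agent.SpFP87.deformsFO_lqf h, fun h => Groth.Agent.SpFP87.locP_baseChange hc hX' hY' hY h⟩,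
    ⟨fun h => hd Groth.Agent.SpFP87.deformsFO_lfp h, fun h => Groth.Agent.SpFP87.locP_baseChange hc hX' hY' hY h⟩,
    ⟨fun h => hd Groth.Agent.SpFP87.deformsFO_smooth h, fun h => Groth.Agent.SpFP87.locP_baseChange hc hX' hY' hY h⟩,
    ⟨fun h => hd Groth.Agent.SpFP87.deformsFO_unramified h, fun h => Groth.Agent.SpFP87.locP_baseChange hc hX' hY' hY h⟩, ?_⟩
  · have hi := Groth.Agent.SpFP87.thick_baseChange ht hcX.flip
    have key := fun h' => Groth.Agent.SpFP87.fibreDim_cart_iff hX' hY hY' hi hc h' (fun t => t = (d : WithBot ℕ∞))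
    exact ⟨fun h => ⟨hl.1 h.1, (key (hl.1 h.1)).1 h.2⟩, fun h => ⟨hl.2 h.1, (key h.1).2 h.2⟩⟩
  · rw [Groth.Agent.SpFP87.isEtaleMor_iff_locP _ hX hY, Groth.Agent.SpFP87.isEtaleMor_iff_locP _ hX' hY']
    exact ⟨fun h => hd Groth.Agent.SpFP87.deformsFO_etale h, fun h => Groth.Agent.SpFP87.locP_baseChange hc hX' hY' hY h⟩

end Groth.Agent.S10596
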