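import Groth.Statements.S10597
import Groth.Agent.SpFP87.Deform

set_option autoImplicit false
universe u
open CategoryTheory CategoryTheory.Limits AlgebraicGeometry
open AlgSp

set_option backward.isDefEq.respectTransparency false

namespace Groth.Agent.S10597

/-- Let iB : B ⟶ B' be a finite order thickening of algebraic spaces over S (a thickening such that for
one n the (n+1)-st power of the ideal vanishes on every affine etale scheme chart), f' : X' ⟶ Y' a
morphism of algebraic spaces over B' (via g' : Y' ⟶ B') with X' flat over B', and f : X ⟶ Y, g : Y ⟶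
B its base change to B (both squares to iB cartesian, iX ≫ f' = f ≫ iY). Then f is an isomorphism,
resp. an open immersion, resp. a monomorphism, resp. finite locally free, resp. finite locally free
of degree d, if and only if f' is. -/
theorem result {S : Scheme.{u}} {X X' Y Y' B B' : AlgSp.Space S} (iX : X ⟶ X') (iY : Y ⟶ Y') (iB : B ⟶ B')
    (f : X ⟶ Y) (f' : X' ⟶ Y') (g : Y ⟶ B) (g' : Y' ⟶ B')
    (hcX : IsPullback iX.hom (f ≫ g).hom (f' ≫ g').hom iB.hom) (hcY : IsPullback iY.hom g.hom g'.hom iB.hom)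
    (w : iX ≫ f' = f ≫ iY)
    (hB : AlgSp.IsFinThickMor iB.hom) (hflat : AlgSp.LocP @Flat (f' ≫ g').hom) :
    (IsIso f.hom ↔ IsIso f'.hom) ∧
    (AlgSp.RepWith @IsOpenImmersion f.hom ↔ AlgSp.RepWith @IsOpenImmersion f'.hom) ∧
    (Mono f.hom ↔ Mono f'.hom) ∧
    (AlgSp.IsFinLocFreeMor f.hom ↔ AlgSp.IsFinLocFreeMor f'.hom) ∧
    (∀ d : ℕ, AlgSp.IsFinLocFreeOfDegMor d f.hom ↔ AlgSp.IsFinLocFreeOfDegMor d f'.hom) := by
  have hX := X.property
  have hX' := X'.property
  have hY := Y.property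
  have hY' := Y'.property
  have hB' := B'.property
  have hc := IsPullback.of_bot hcX (congrArg (·.hom) w) hcY
  have w0 : iX.hom ≫ f'.hom = f.hom ≫ iY.hom := congrArg (·.hom) w
  obtain ⟨n, ht, hn⟩ := hB
  have hK := Groth.Agent.SpFP87.condHolds_FO (f' := f'.hom) (g' := g'.hom) ⟨n, ht, hn⟩ hflat
  have hKd := Groth.Agent.SpFP87.condHolds_FO_diag (f' := f'.hom) (g' := g'.hom) ⟨n, ht, hn⟩ hflat
  have hflf : AlgSp.IsFinLocFreeMor f.hom → AlgSp.IsFinLocFreeMor f'.hom := fun h =>
    Groth.Agent.SpFP87.finLocFree_deform hX hX' hY hY' hB' ht hcX hcY w0 hK Groth.Agent.SpFP87.deformsFO_flat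
      (Groth.Agent.SpFP87.locP_deform hX' hY' hB' ht hcX hcY w0 hK Groth.Agent.SpFP87.deformsFO_lfp)
      (fun h1 => (Groth.Agent.SpFP87.cart_global_iff hX hX' hY hY' (Groth.Agent.SpFP87.thick_baseChange ht hcX.flip)
        (Groth.Agent.SpFP87.thick_baseChange ht hcY.flip) hc
        (Groth.Agent.SpFP87.isFiniteType_of_repWith hX hY
          (fun _ _ φ hφ => by haveI : IsFinite φ := hφ; infer_instance) ((Groth.Agent.SpPts86.isFiniteMor_iff f.hom).1 h1))
        (Groth.Agent.SpFP87.locP_deform hX' hY' hB' ht hcX hcY w0 hK Groth.Agent.SpFP87.deformsFO_lft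
          (Groth.Agent.SpFP87.isFiniteType_of_repWith hX hY
            (fun _ _ φ hφ => by haveI : IsFinite φ := hφ; infer_instance) ((Groth.Agent.SpPts86.isFiniteMor_iff f.hom).1 h1)))).1.1 h1) h
  refine ⟨⟨fun h => ?ISO, fun h => MorphismProperty.of_isPullback (P := MorphismProperty.isomorphisms _) hc h⟩,
    ⟨fun h => ?OI, fun h => (AlgSp.repWith_isStableUnderBaseChange _).of_isPullback hc h⟩,
    ⟨fun h => ?MONO, fun h => MorphismProperty.of_isPullback (P := MorphismProperty.monomorphisms _) hc h⟩,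
    ⟨hflf, fun h => (AlgSp.repWith_isStableUnderBaseChange _).of_isPullback hc h⟩,
    fun d => ⟨fun h => ?DEG, fun h => (AlgSp.repWith_isStableUnderBaseChange _).of_isPullback hc h⟩⟩
  case ISO => exact Groth.Agent.SpFP87.isIso_deform hX hX' hY hY' hB' ht hcX hcY w0 hK hKd Groth.Agent.SpFP87.deformsFO_isomorphisms Groth.Agent.SpFP87.deformsFO_etale h
  case OI => exact Groth.Agent.SpFP87.openImmersion_deform hX hX' hY hY' hB' ht hcX hcY w0 hK hKd Groth.Agent.SpFP87.deformsFO_isomorphisms Groth.Agent.SpFP87.deformsFO_etale h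
  case MONO => exact Groth.Agent.SpFP87.mono_deform hX' hY' hB' ht hcX hcY w0 hKd Groth.Agent.SpFP87.deformsFO_isomorphisms h
  case DEG => exact Groth.Agent.SpFP87.finLocFreeOfDeg_of_cart (Groth.Agent.SpFP87.thick_baseChange ht hcY.flip) hc (hflf (Groth.Agent.SpPts86.repWith_mono (fun _ _ _ hφ => hφ.1) h)) h

end Groth.Agent.S10597
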