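import Groth.Statements.S10599
import Groth.Agent.SpFP87.Deform

set_option autoImplicit false
universe u
open CategoryTheory CategoryTheory.Limits AlgebraicGeometry
open AlgSp

set_option backward.isDefEq.respectTransparency false

namespace Groth.Agent.S10599

/-- Let iB : B ⟶ B' be a thickening of algebraic spaces over S (representable, every base change to a
scheme a surjective closed immersion), f' : X' ⟶ Y' a morphism of algebraic spaces over B' (via g' :
Y' ⟶ B') with Y' locally of finite type over B' and X' flat and locally of finite presentation over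
B', and f : X ⟶ Y, g : Y ⟶ B its base change to B (both squares to iB cartesian, iX ≫ f' = f ≫ iY).
Then f is locally of finite type of relative dimension d, resp. flat, resp. locally quasi-finite,
smooth, unramified, etale, if and only if f' is (etale-local sense; locally quasi-finite and
unramified include locally of finite type). -/
theorem result {S : Scheme.{u}} {X X' Y Y' B B' : AlgSp.Space S} (iX : X ⟶ X') (iY : Y ⟶ Y') (iB : B ⟶ B')
    (f : X ⟶ Y) (f' : X' ⟶ Y') (g : Y ⟶ B) (g' : Y' ⟶ B')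
    (hcX : IsPullback iX.hom (f ≫ g).hom (f' ≫ g').hom iB.hom) (hcY : IsPullback iY.hom g.hom g'.hom iB.hom)
    (w : iX ≫ f' = f ≫ iY)
    (hB : AlgSp.IsThickMor iB.hom)
    (hg' : AlgSp.LocP @LocallyOfFiniteType g'.hom)
    (hflat : AlgSp.LocP @Flat (f' ≫ g').hom) (hfp : AlgSp.LocP @LocallyOfFinitePresentation (f' ≫ g').hom) (d : ℕ) :
    ((AlgSp.LocP @LocallyOfFiniteType f.hom ∧
        ∀ x, AlgSp.HasAtMor (fun _ _ h u => FlatMor.fibreDimAt h u = (d : WithBot ℕ∞)) f.hom x) ↔
      (AlgSp.LocP @LocallyOfFiniteType f'.hom ∧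
        ∀ x', AlgSp.HasAtMor (fun _ _ h u => FlatMor.fibreDimAt h u = (d : WithBot ℕ∞)) f'.hom x')) ∧
    (AlgSp.LocP @Flat f.hom ↔ AlgSp.LocP @Flat f'.hom) ∧
    (AlgSp.LocP (@LocallyQuasiFinite ⊓ @LocallyOfFiniteType) f.hom ↔
      AlgSp.LocP (@LocallyQuasiFinite ⊓ @LocallyOfFiniteType) f'.hom) ∧
    (AlgSp.LocP @Smooth f.hom ↔ AlgSp.LocP @Smooth f'.hom) ∧
    (AlgSp.LocP (@LocallyOfFiniteType ⊓ @FormallyUnramified) f.hom ↔
      AlgSp.LocP (@LocallyOfFiniteType ⊓ @FormallyUnramified) f'.hom) ∧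
    (AlgSp.IsEtaleMor f.hom ↔ AlgSp.IsEtaleMor f'.hom) := by
  have hX := X.property
  have hX' := X'.property
  have hY := Y.property
  have hY' := Y'.property
  have hB' := B'.property
  have hc := IsPullback.of_bot hcX (congrArg (·.hom) w) hcY
  have w0 : iX.hom ≫ f'.hom = f.hom ≫ iY.hom := congrArg (·.hom) w
  have hK := Groth.Agent.SpFP87.condHolds_FP (iB := iB.hom) hg' hflat hfp
  have hd := @Groth.Agent.SpFP87.locP_deform _ _ _ _ _ _ _ _ _ _ _ _ _ _ _ hX' hY' hB' hB hcX hcY w0 hK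
  have hl' : AlgSp.LocP @LocallyOfFiniteType f'.hom :=
    Groth.Agent.SpFP87.LocP.of_le (fun _ _ φ hφ => by haveI : LocallyOfFinitePresentation φ := hφ; infer_instance)
      (Groth.Agent.SpFP87.lfp_deform_FP hX' hY' hB' hg' hfp)
  have hl : AlgSp.LocP @LocallyOfFiniteType f.hom := Groth.Agent.SpFP87.locP_baseChange hc hX' hY' hY hl'
  refine ⟨?_, ⟨fun h => hd Groth.Agent.SpFP87.deformsFP_flat h, fun h => Groth.Agent.SpFP87.locP_baseChange hc hX' hY' hY h⟩,
    ⟨fun h => hd Groth.Agent.SpFP87.deformsFP_lqf h, fun h => Groth.Agent.SpFP87.locP_baseChange hc hX' hY' hY h⟩,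
    ⟨fun h => hd Groth.Agent.SpFP87.deformsFP_smooth h, fun h => Groth.Agent.SpFP87.locP_baseChange hc hX' hY' hY h⟩,
    ⟨fun h => hd Groth.Agent.SpFP87.deformsFP_unramified h, fun h => Groth.Agent.SpFP87.locP_baseChange hc hX' hY' hY h⟩, ?_⟩
  · have key := Groth.Agent.SpFP87.fibreDim_cart_iff hX' hY hY' (Groth.Agent.SpFP87.thick_baseChange hB hcX.flip) hc hl'
      (fun t => t = (d : WithBot ℕ∞))
    exact ⟨fun h => ⟨hl', key.1 h.2⟩, fun h => ⟨hl, key.2 h.2⟩⟩
  · rw [Groth.Agent.SpFP87.isEtaleMor_iff_locP _ hX hY, Groth.Agent.SpFP87.isEtaleMor_iff_locP _ hX' hY']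
    exact ⟨fun h => hd Groth.Agent.SpFP87.deformsFP_etale h, fun h => Groth.Agent.SpFP87.locP_baseChange hc hX' hY' hY h⟩

end Groth.Agent.S10599
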