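import Groth.Statements.S10600
import Groth.Agent.SpFP87.Deform

set_option autoImplicit false
universe u
open CategoryTheory CategoryTheory.Limits AlgebraicGeometry
open AlgSp

set_option backward.isDefEq.respectTransparency false

namespace Groth.Agent.S10600

/-- Let iB : B ⟶ B' be a thickening of algebraic spaces over S (representable, every base change to a
scheme a surjective closed immersion), f' : X' ⟶ Y' a morphism of algebraic spaces over B' (via g' :
Y' ⟶ B') with Y' locally of finite type over B' and X' flat and locally of finite presentation over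
B', and f : X ⟶ Y, g : Y ⟶ B its base change to B (both squares to iB cartesian, iX ≫ f' = f ≫ iY).
Then f is an isomorphism, resp. an open immersion, resp. a monomorphism, resp. finite locally free,
resp. finite locally free of degree d, if and only if f' is. -/
theorem result {S : Scheme.{u}} {X X' Y Y' B B' : AlgSp.Space S} (iX : X ⟶ X') (iY : Y ⟶ Y') (iB : B ⟶ B')
    (f : X ⟶ Y) (f' : X' ⟶ Y') (g : Y ⟶ B) (g' : Y' ⟶ B')
    (hcX : IsPullback iX.hom (f ≫ g).hom (f' ≫ g').hom iB.hom) (hcY : IsPullback iY.hom g.hom g'.hom iB.hom)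
    (w : iX ≫ f' = f ≫ iY)
    (hB : AlgSp.IsThickMor iB.hom)
    (hg' : AlgSp.LocP @LocallyOfFiniteType g'.hom)
    (hflat : AlgSp.LocP @Flat (f' ≫ g').hom) (hfp : AlgSp.LocP @LocallyOfFinitePresentation (f' ≫ g').hom) :
    (IsIso f.hom ↔ IsIso f'.hom) ∧
    (AlgSp.RepWith @IsOpenImmersion f.hom ↔ AlgSp.RepWith @IsOpenImmersion f'.hom) ∧
    (Mono f.hom ↔ Mono f'.hom) ∧
    (AlgSp.IsFinLocFreeMor f.hom ↔ AlgSp.IsFinLocFreeMor f'.hom) ∧
    (∀ d : ℕ, AlgSp.IsFinLocFreeOfDegMor d f.hom ↔ AlgSp.IsFinLocFreeOfDegMor d f'.hom) := by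
  have hX := X.property
  have hX' := X'.property
  have hY := Y.property
  have hY' := Y'.property
  have hB' := B'.property
  have hc := IsPullback.of_bot hcX (congrArg (·.hom) w) hcY
  have w0 : iX.hom ≫ f'.hom = f.hom ≫ iY.hom := congrArg (·.hom) w
  have hK := Groth.Agent.SpFP87.condHolds_FP (iB := iB.hom) hg' hflat hfp
  have hKd := Groth.Agent.SpFP87.condHolds_FP_diag (iB := iB.hom) hX' hY' hB' hg' hflat hfp
  have hl := Groth.Agent.SpFP87.lfp_deform_FP hX' hY' hB' hg' hfp
  have hflf : AlgSp.IsFinLocFreeMor f.hom → AlgSp.IsFinLocFreeMor f'.hom := fun h =>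
    Groth.Agent.SpFP87.finLocFree_deform hX hX' hY hY' hB' hB hcX hcY w0 hK Groth.Agent.SpFP87.deformsFP_flat
      (fun _ => hl)
      (fun h1 => (Groth.Agent.SpFP87.cart_global_iff hX hX' hY hY' (Groth.Agent.SpFP87.thick_baseChange hB hcX.flip)
        (Groth.Agent.SpFP87.thick_baseChange hB hcY.flip) hc
        (Groth.Agent.SpFP87.isFiniteType_of_repWith hX hY
          (fun _ _ φ hφ => by haveI : IsFinite φ := hφ; infer_instance) ((Groth.Agent.SpPts86.isFiniteMor_iff f.hom).1 h1))
        (Groth.Agent.SpFP87.LocP.of_le (fun _ _ φ hφ => by haveI : LocallyOfFinitePresentation φ := hφ; infer_instance) hl)).1.1 h1) h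
  refine ⟨⟨fun h => ?ISO, fun h => MorphismProperty.of_isPullback (P := MorphismProperty.isomorphisms _) hc h⟩,
    ⟨fun h => ?OI, fun h => (AlgSp.repWith_isStableUnderBaseChange _).of_isPullback hc h⟩,
    ⟨fun h => ?MONO, fun h => MorphismProperty.of_isPullback (P := MorphismProperty.monomorphisms _) hc h⟩,
    ⟨hflf, fun h => (AlgSp.repWith_isStableUnderBaseChange _).of_isPullback hc h⟩,
    fun d => ⟨fun h => ?DEG, fun h => (AlgSp.repWith_isStableUnderBaseChange _).of_isPullback hc h⟩⟩
  case ISO => exact Groth.Agent.SpFP87.isIso_deform hX hX' hY hY' hB' hB hcX hcY w0 hK hKd Groth.Agent.SpFP87.deformsFP_isomorphisms Groth.Agent.SpFP87.deformsFP_etale h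
  case OI => exact Groth.Agent.SpFP87.openImmersion_deform hX hX' hY hY' hB' hB hcX hcY w0 hK hKd Groth.Agent.SpFP87.deformsFP_isomorphisms Groth.Agent.SpFP87.deformsFP_etale h
  case MONO => exact Groth.Agent.SpFP87.mono_deform hX' hY' hB' hB hcX hcY w0 hKd Groth.Agent.SpFP87.deformsFP_isomorphisms h
  case DEG => exact Groth.Agent.SpFP87.finLocFreeOfDeg_of_cart (Groth.Agent.SpFP87.thick_baseChange hB hcY.flip) hc (hflf (Groth.Agent.SpPts86.repWith_mono (fun _ _ _ hφ => hφ.1) h)) h

end Groth.Agent.S10600
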