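import Groth.Statements.S10603
import Groth.Agent.SpFP87.FibreDiagram

set_option autoImplicit false
universe u
open CategoryTheory CategoryTheory.Limits AlgebraicGeometry
open AlgSp

namespace Groth.Agent.S10603

/-- Let f : X ⟶ Y and h : Y ⟶ Z be morphisms of algebraic spaces over S. Suppose X is flat and locally
of finite presentation over Z, Y is locally of finite type over Z, and for every field K and every z
: Spec K ⟶ Z the base change X_z ⟶ Y_z of f is flat (fibres taken as pullback squares of fppf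
sheaves). Then f is flat; if moreover f is surjective, then h is flat. -/
theorem result {S : Scheme.{u}} {X Y Z : AlgSp.Space S} (f : X ⟶ Y) (h : Y ⟶ Z)
    (hfp : AlgSp.LocP @LocallyOfFinitePresentation (f ≫ h).hom) (hfl : AlgSp.LocP @Flat (f ≫ h).hom)
    (hft : AlgSp.LocP @LocallyOfFiniteType h.hom)
    (hfib : ∀ (K : Type u) [Field K] (sK : Spec (CommRingCat.of K) ⟶ S)
      (z : (AlgSp.yon S).obj (Over.mk sK) ⟶ Z.obj) (Xz Yz : AlgSp.Sp S)
      (pX : Xz ⟶ X.obj) (qX : Xz ⟶ (AlgSp.yon S).obj (Over.mk sK))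
      (pY : Yz ⟶ Y.obj) (qY : Yz ⟶ (AlgSp.yon S).obj (Over.mk sK)) (fz : Xz ⟶ Yz),
      IsPullback pX qX (f ≫ h).hom z → IsPullback pY qY h.hom z → fz ≫ pY = pX ≫ f.hom → fz ≫ qY = qX →
      AlgSp.LocP @Flat fz) :
    AlgSp.LocP @Flat f.hom ∧ (AlgSp.IsSurjectiveMor f.hom → AlgSp.LocP @Flat h.hom) := by
  obtain ⟨U, W, C, a, b, c, f', g', ha, has, hb, hbs, hc, w1, w2, hsur, hflat⟩ :=
    Groth.Agent.SpFP87.exists_fibre_diagram f.hom h.hom X.property Y.property Z.property hfib
  have w3 : a ≫ (f ≫ h).hom = (yon S).map (f' ≫ g') ≫ c := by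
    show a ≫ f.hom ≫ h.hom = _
    rw [reassoc_of% w1, w2, Functor.map_comp, Category.assoc]
  haveI hfp' : LocallyOfFinitePresentation (f'.left ≫ g'.left) := hfp a c (f' ≫ g') ha hc w3
  haveI hfl' : Flat (f'.left ≫ g'.left) := hfl a c (f' ≫ g') ha hc w3
  haveI hft' : LocallyOfFiniteType g'.left := hft b c g' hb hc w2
  have key : ∀ x, (g'.left.stalkMap (f'.left x)).hom.Flat ∧ (f'.left.stalkMap x).hom.Flat := fun x => by
    refine ((Groth.Agent.FlatMor66.critere_scheme f'.left g'.left).1 x).1 ⟨Flat.stalkMap _ x, ?_⟩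
    have := Groth.Agent.FlatMor67.FibreCrit.flat_fiberMap f'.left g'.left _ (hflat (g'.left (f'.left x)))
    exact Flat.stalkMap _ _
  have hff : Flat f'.left := (Flat.iff_flat_stalkMap _).2 fun x => (key x).2
  refine ⟨Groth.Agent.SpFP87.locP_of_chart X.property.diag Y.property.diag ha has hb w1 hff, fun hs => ?_⟩
  haveI := hsur hs
  have hgg : Flat g'.left := (Flat.iff_flat_stalkMap _).2 fun v => by
    obtain ⟨x, rfl⟩ := f'.left.surjective v
    exact (key x).1
  exact Groth.Agent.SpFP87.locP_of_chart Y.property.diag Z.property.diag hb hbs hc w2 hgg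

end Groth.Agent.S10603
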