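import Groth.Statements.S10610
import Groth.Agent.SpFP87.Deform

set_option autoImplicit false
universe u
open CategoryTheory CategoryTheory.Limits AlgebraicGeometry
open AlgSp

set_option backward.isDefEq.respectTransparency false

namespace Groth.Agent.S10610

/-- Let iB : B ⟶ B' be a finite order thickening of algebraic spaces over S (a thickening such that for
one n the (n+1)-st power of the ideal vanishes on every affine etale scheme chart), f' : X' ⟶ Y' a
morphism of algebraic spaces over B' (via g' : Y' ⟶ B') with X' flat over B', and f : X ⟶ Y, g : Y ⟶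
B its base change to B (both squares to iB cartesian, iX ≫ f' = f ≫ iY). Then f is finite if and
only if f' is finite. (The published statement lists eleven further properties with the same
equivalence: representable by schemes, quasi-compact, universally closed, separated,
quasi-separated, surjective, universally injective, affine, universally open, proper and integral.
Since iX and iY are again thickenings and X = Y ×_{Y'} X', those cases follow from the corresponding
statements for morphisms of thickenings and are not restated here.) -/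
theorem result {S : Scheme.{u}} {X X' Y Y' B B' : AlgSp.Space S} (iX : X ⟶ X') (iY : Y ⟶ Y') (iB : B ⟶ B')
    (f : X ⟶ Y) (f' : X' ⟶ Y') (g : Y ⟶ B) (g' : Y' ⟶ B')
    (hcX : IsPullback iX.hom (f ≫ g).hom (f' ≫ g').hom iB.hom) (hcY : IsPullback iY.hom g.hom g'.hom iB.hom)
    (w : iX ≫ f' = f ≫ iY)
    (hB : AlgSp.IsFinThickMor iB.hom) (hflat : AlgSp.LocP @Flat (f' ≫ g').hom) :
    (AlgSp.IsFiniteMor f.hom ↔ AlgSp.IsFiniteMor f'.hom) := by
  have hX := X.property
  have hX' := X'.property
  have hY := Y.property
  have hY' := Y'.property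
  have hB' := B'.property
  have hc := IsPullback.of_bot hcX (congrArg (·.hom) w) hcY
  have w0 : iX.hom ≫ f'.hom = f.hom ≫ iY.hom := congrArg (·.hom) w
  obtain ⟨n, ht, hn⟩ := hB
  have hK := Groth.Agent.SpFP87.condHolds_FO (f' := f'.hom) (g' := g'.hom) ⟨n, ht, hn⟩ hflat
  have hi := Groth.Agent.SpFP87.thick_baseChange ht hcX.flip
  have hj := Groth.Agent.SpFP87.thick_baseChange ht hcY.flip
  have hl : ∀ {A B : AlgSp.Space S} (e : A ⟶ B), AlgSp.IsFiniteMor e.hom → AlgSp.LocP @LocallyOfFiniteType e.hom :=
    fun {A B} e h => Groth.Agent.SpFP87.isFiniteType_of_repWith A.property B.property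
      (fun _ _ φ hφ => by haveI : IsFinite φ := hφ; infer_instance) ((Groth.Agent.SpPts86.isFiniteMor_iff e.hom).1 h)
  constructor
  · intro h
    exact (Groth.Agent.SpFP87.cart_global_iff hX hX' hY hY' hi hj hc (hl f h)
      (Groth.Agent.SpFP87.locP_deform hX' hY' hB' ht hcX hcY w0 hK Groth.Agent.SpFP87.deformsFO_lft (hl f h))).1.1 h
  · intro h
    exact (Groth.Agent.SpFP87.cart_global_iff hX hX' hY hY' hi hj hc
      (Groth.Agent.SpFP87.locP_baseChange hc hX' hY' hY (hl f' h)) (hl f' h)).1.2 h

end Groth.Agent.S10610
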