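import Groth.Statements.S10619
import Groth.Agent.SpFP87.Inf

set_option autoImplicit false
universe u
open CategoryTheory CategoryTheory.Limits AlgebraicGeometry
open AlgSp

namespace Groth.Agent.S10619

/-- A composition of formally smooth, resp. formally etale, resp. formally unramified morphisms of fppf
sheaves on (Sch/S) is again formally smooth, resp. formally etale, resp. formally unramified. (The
published statement is for transformations of arbitrary presheaves of sets on (Sch/S)_fppf; this row
takes fppf sheaves, the case of algebraic spaces.) -/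
theorem result {S : Scheme.{u}} {F G H : AlgSp.Sp S} (a : F ⟶ G) (b : G ⟶ H) :
    (AlgSp.IsFormallySmoothMor a → AlgSp.IsFormallySmoothMor b → AlgSp.IsFormallySmoothMor (a ≫ b)) ∧
    (AlgSp.IsFormallyEtaleMor a → AlgSp.IsFormallyEtaleMor b → AlgSp.IsFormallyEtaleMor (a ≫ b)) ∧
    (AlgSp.IsFormallyUnramifiedMor a → AlgSp.IsFormallyUnramifiedMor b → AlgSp.IsFormallyUnramifiedMor (a ≫ b)) := by
  open Groth.Agent.SpFP87 in
  exact ⟨isFormallySmoothMor_comp a b, fun ha hb => by
    rw [isFormallyEtaleMor_iff] at ha hb ⊢
    exact ⟨isFormallySmoothMor_comp a b ha.1 hb.1, isFormallyUnramifiedMor_comp a b ha.2 hb.2⟩,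
    isFormallyUnramifiedMor_comp a b⟩

end Groth.Agent.S10619
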