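import Groth.Statements.S10627
import Groth.Agent.SpFP87.InfCharts
import Groth.Agent.SpFP87.EtaleMor
import Groth.Agent.S1489

set_option autoImplicit false
universe u
open CategoryTheory CategoryTheory.Limits AlgebraicGeometry
open AlgSp

namespace Groth.Agent.S10627

/-- A morphism f : X ⟶ Y of algebraic spaces over S is etale if and only if it is locally of finite
presentation and formally etale (lifting sense). -/
theorem result {S : Scheme.{u}} {X Y : AlgSp.Space S} (f : X ⟶ Y) :
    AlgSp.IsEtaleMor f.hom ↔ AlgSp.LocP @LocallyOfFinitePresentation f.hom ∧ AlgSp.IsFormallyEtaleMor f.hom := by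
  open Groth.Agent.SpFP87 in
  rw [isEtaleMor_iff_locP f.hom X.property Y.property]
  refine ⟨fun hf => ⟨fun _ _ a b h ha hb w => ((Groth.Agent.S1489.result h.left).1 (hf a b h ha hb w)).1,
    Groth.Agent.SpFP87.etale_of_locP X.property Y.property fun _ _ a b h ha hb w =>
      ((Groth.Agent.S1489.result h.left).1 (hf a b h ha hb w)).2⟩, fun hf _ _ a b h ha hb w => ?_⟩
  exact (Groth.Agent.S1489.result h.left).2 ⟨hf.1 a b h ha hb w, Groth.Agent.SpFP87.chart_etale hf.2 ha hb w⟩

end Groth.Agent.S10627
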