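import Groth.Statements.S10638
import Groth.Agent.SpFP87.UnivThickExists
import Groth.Agent.S10627
set_option backward.isDefEq.respectTransparency false

set_option autoImplicit false
universe u
open CategoryTheory CategoryTheory.Limits AlgebraicGeometry
open AlgSp

namespace Groth.Agent.S10638

/-- Take a formally unramified morphism h : Z ⟶ X of algebraic spaces over S with universal first order
thickening (iZ : Z ⟶ Z', hZ' : Z' ⟶ X). Let v : V ⟶ Z and w : U ⟶ X be etale morphisms of algebraic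
spaces and ψ : V ⟶ U with ψ ≫ w = v ≫ h. Then ψ is formally unramified, and for a universal first
order thickening (iV : V ⟶ V', hV' : V' ⟶ U) of V over U, every e' : V' ⟶ Z' with iV ≫ e' = v ≫ iZ
and e' ≫ hZ' = hV' ≫ w (there is exactly one) is etale. (The published statement also identifies the
conormal sheaf of V over U with the restriction of that of Z over X; this row omits that clause.) -/
theorem result {S : Scheme.{u}} {Z X Z' V U V' : AlgSp.Space S} (h : Z ⟶ X)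
    (hh : AlgSp.IsFormallyUnramifiedMor h.hom) (iZ : Z ⟶ Z') (hZ' : Z' ⟶ X) (HZ : AlgSp.IsUnivFOThick h.hom iZ.hom hZ'.hom)
    (v : V ⟶ Z) (w : U ⟶ X) (hv : AlgSp.IsEtaleMor v.hom) (hw : AlgSp.IsEtaleMor w.hom) (ψ : V ⟶ U)
    (c : ψ ≫ w = v ≫ h) :
    AlgSp.IsFormallyUnramifiedMor ψ.hom ∧
    ∀ (iV : V ⟶ V') (hV' : V' ⟶ U), AlgSp.IsUnivFOThick ψ.hom iV.hom hV'.hom →
      ∀ e' : V' ⟶ Z', iV ≫ e' = v ≫ iZ → e' ≫ hZ' = hV' ≫ w → AlgSp.IsEtaleMor e'.hom := by
  open Groth.Agent.SpFP87 in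
  have hwF := ((Groth.Agent.S10627.result w).1 hw).2
  have hvF := ((Groth.Agent.S10627.result v).1 hv).2
  have c' : ψ.hom ≫ w.hom = v.hom ≫ h.hom := congrArg (·.hom) c
  refine ⟨isFormallyUnramifiedMor_of_comp ψ.hom w.hom (by
    rw [c']; exact isFormallyUnramifiedMor_comp _ _ ((isFormallyEtaleMor_iff _).1 hvF).2 hh),
    fun iV hV' HV e' he1 he2 => ?_⟩
  have hi : RepWith Groth.Agent.SpFP87.uhHom iZ.hom := Groth.Agent.SpPts86.repWith_mono (fun _ _ g hg => by
    haveI : IsClosedImmersion g := hg.1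
    exact ⟨⟨inferInstance, inferInstance⟩, hg.2⟩) HZ.1.1
  obtain ⟨V₁, a, i₁, hV₁, ha, sq⟩ := exists_descent_of_etale hi Z'.property Z.property V.property (b := v.hom) hv
  let V₁s : AlgSp.Space S := ⟨V₁, hV₁⟩
  let as : V₁s ⟶ Z' := ObjectProperty.homMk a
  have H1 : AlgSp.IsUnivFOThick (v.hom ≫ h.hom) i₁ (a ≫ hZ'.hom) :=
    isUnivFOThick_etale_baseChange HZ ha ((Groth.Agent.S10627.result as).1 ha).2 sq
  have H2 : AlgSp.IsUnivFOThick (v.hom ≫ h.hom) iV.hom (hV'.hom ≫ w.hom) := by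
    rw [← c']
    exact isUnivFOThick_comp_formallyEtale HV hwF
  obtain ⟨θ, ⟨hθ1, hθ2⟩, -⟩ := H1.2.2 V.property V'.property iV.hom (𝟙 _) (hV'.hom ≫ w.hom) H2.1
    (by rw [H2.2.1, Category.id_comp])
  obtain ⟨θ', ⟨hθ'1, hθ'2⟩, -⟩ := H2.2.2 V.property hV₁ i₁ (𝟙 _) (a ≫ hZ'.hom) H1.1
    (by rw [H1.2.1, Category.id_comp])
  rw [Category.id_comp] at hθ1 hθ'1
  haveI : IsIso θ := ⟨θ',
    (H2.2.2 V.property V'.property iV.hom (𝟙 _) _ H2.1 (by rw [H2.2.1, Category.id_comp])).unique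
      ⟨by rw [← Category.assoc, hθ1, hθ'1, Category.id_comp], by rw [Category.assoc, hθ'2, hθ2]⟩
      ⟨by simp, by simp⟩,
    (H1.2.2 V.property hV₁ i₁ (𝟙 _) _ H1.1 (by rw [H1.2.1, Category.id_comp])).unique
      ⟨by rw [← Category.assoc, hθ'1, hθ1, Category.id_comp], by rw [Category.assoc, hθ2, hθ'2]⟩
      ⟨by simp, by simp⟩⟩
  have he : θ ≫ a = e'.hom := by
    refine (HZ.2.2 V.property V'.property iV.hom v.hom (hV'.hom ≫ w.hom) H2.1 (by rw [H2.2.1])).unique ⟨?_, ?_⟩ ⟨?_, ?_⟩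
    · rw [← Category.assoc, hθ1, ← sq.w]
    · rw [Category.assoc, hθ2]
    · exact congrArg (·.hom) he1
    · exact congrArg (·.hom) he2
  rw [← he]
  haveI : MorphismProperty.ContainsIdentities (@Etale.{u} : MorphismProperty Scheme.{u}) :=
    ⟨fun _ => inferInstanceAs (Etale (𝟙 _))⟩
  exact Groth.Agent.SpPts86.isEtaleMor_comp
    ((Groth.Agent.SpPts86.isEtaleMor_iff_locP hV₁).2 (locP_of_isIso θ V'.property hV₁)) ha

end Groth.Agent.S10638
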