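import Groth.Statements.S10668
import Groth.Agent.LimTop61.LciNear

set_option backward.isDefEq.respectTransparency false
universe w

open CategoryTheory CategoryTheory.Limits AlgebraicGeometry AlgSp Groth.Agent.SpFP87 Groth.Agent.SpPts86 in
theorem Groth.Agent.S10668.exists_chart_pullback_over {S : Scheme.{w}} {X' Y' X Y : Sp S} {f : X ⟶ Y} {g : Y' ⟶ Y}
    {g' : X' ⟶ X} {f' : X' ⟶ Y'} (sq : IsPullback g' f' f g) (hX : IsAlgSpace X) (hY : IsAlgSpace Y)
    {V V' : Over S} {b : (yon S).obj V ⟶ Y} {b' : (yon S).obj V' ⟶ Y'} {k : V' ⟶ V}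
    (hb : RepWith @Etale b) (hb' : RepWith @Etale b') (hbs' : RepWith @Surjective b')
    (w : b' ≫ g = (yon S).map k ≫ b) :
    ∃ (U U' : Over S) (a : (yon S).obj U ⟶ X) (a' : (yon S).obj U' ⟶ X') (h : U ⟶ V) (n : U' ⟶ U) (h' : U' ⟶ V'),
      RepWith @Etale a ∧ RepWith @Etale a' ∧ RepWith @Surjective a' ∧ IsPullback n.left h'.left h.left k.left ∧
      a ≫ f = (yon S).map h ≫ b ∧ a' ≫ g' = (yon S).map n ≫ a ∧ a' ≫ f' = (yon S).map h' ≫ b' := by
  have sqP := IsPullback.of_hasPullback f b
  have hP := isAlgSpace_of_isPullback sqP hX (IsAlgSpace.yon_obj _) hY.diag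
  obtain ⟨U, α, hα, hαs⟩ := hP.atlas
  obtain ⟨h, hh⟩ := (yon S).map_surjective (α ≫ pullback.snd f b)
  have sqP' := IsPullback.of_hasPullback f' b'
  let φ : pullback f' b' ⟶ pullback f b :=
    sqP.lift (pullback.fst f' b' ≫ g') (pullback.snd f' b' ≫ (yon S).map k)
      (by rw [Category.assoc, sq.w, pullback.condition_assoc, w, Category.assoc])
  have hφ : IsPullback φ (pullback.snd f' b') (pullback.snd f b) ((yon S).map k) := by
    refine IsPullback.of_right ?_ (sqP.lift_snd _ _ _) sqP
    rw [sqP.lift_fst, ← w]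
    exact sqP'.paste_horiz sq
  have hW : IsPullback ((yon S).map (pullback.fst h k)) ((yon S).map (pullback.snd h k)) ((yon S).map h) ((yon S).map k) :=
    (IsPullback.of_hasPullback h k).map (yon S)
  let c₀ := hφ.lift ((yon S).map (pullback.fst h k) ≫ α) ((yon S).map (pullback.snd h k))
    (by rw [Category.assoc, ← hh]; exact hW.w)
  have hc₀ : IsPullback ((yon S).map (pullback.fst h k)) c₀ α φ := by
    refine IsPullback.of_bot ?_ (hφ.lift_fst _ _ _).symm hφ
    rw [hφ.lift_snd, ← hh]
    exact hW
  refine ⟨U, pullback h k, α ≫ pullback.fst f b, c₀ ≫ pullback.fst f' b', h, pullback.fst h k, pullback.snd h k,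
    (repWith_isMultiplicative (S := S) @Etale).comp_mem _ _ hα
      ((repWith_isStableUnderBaseChange _).of_isPullback sqP.flip hb),
    (repWith_isMultiplicative (S := S) @Etale).comp_mem _ _
      ((repWith_isStableUnderBaseChange _).of_isPullback hc₀ hα)
      ((repWith_isStableUnderBaseChange _).of_isPullback sqP'.flip hb'),
    (repWith_isMultiplicative (S := S) @Surjective).comp_mem _ _
      ((repWith_isStableUnderBaseChange _).of_isPullback hc₀ hαs)
      ((repWith_isStableUnderBaseChange _).of_isPullback sqP'.flip hbs'),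
    (IsPullback.of_hasPullback h k).map (Over.forget S),
    by rw [Category.assoc, pullback.condition, ← Category.assoc, ← hh], ?_,
    by rw [Category.assoc, pullback.condition, ← Category.assoc, hφ.lift_snd]⟩
  calc (c₀ ≫ pullback.fst f' b') ≫ g' = c₀ ≫ φ ≫ pullback.fst f b := by rw [sqP.lift_fst, Category.assoc]
    _ = _ := by rw [← Category.assoc, hφ.lift_fst, Category.assoc]

set_option autoImplicit false
universe u
open CategoryTheory CategoryTheory.Limits AlgebraicGeometry
open AlgSp

namespace Groth.Agent.S10668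

/-- For morphisms f : X ⟶ Y, p : X ⟶ Z and q : Y ⟶ Z of algebraic spaces over S with f ≫ q = p and p, q
both flat and locally of finite presentation, any morphism of algebraic spaces g : Z' ⟶ Z and any
base change f' : X' ⟶ Y' of f along g (pullback squares Y' = Y ×_Z Z', X' = X ×_Y Y'), the set of
points of |X'| at which f' is Koszul (a local complete intersection morphism on some open subspace
through the point) is the inverse image under |X'| ⟶ |X| of the set of points at which f is Koszul.
(The published statement also records that the points at which f is Koszul form an open subspace of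
X; with the open-neighbourhood form of being Koszul at a point used here that set is a union of
images of open subspaces, and this row states only its compatibility with base change.) -/
theorem result {S : Scheme.{u}} {X Y Z : AlgSp.Space S} (f : X ⟶ Y) (p : X ⟶ Z) (q : Y ⟶ Z) (hc : f ≫ q = p)
    (hp1 : AlgSp.LocP @Flat p.hom) (hp2 : AlgSp.LocP @LocallyOfFinitePresentation p.hom)
    (hq1 : AlgSp.LocP @Flat q.hom) (hq2 : AlgSp.LocP @LocallyOfFinitePresentation q.hom)
    {Z' Y' X' : AlgSp.Space S} (g : Z' ⟶ Z) (gY : Y' ⟶ Y) (q' : Y' ⟶ Z') (hY : IsPullback gY.hom q'.hom q.hom g.hom)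
    (gX : X' ⟶ X) (f' : X' ⟶ Y') (hX : IsPullback gX.hom f'.hom f.hom gY.hom) :
    {x' | AlgSp.LocPNear AlgSp.lci f'.hom x'} =
      AlgSp.Points.map gX.hom ⁻¹' {x | AlgSp.LocPNear AlgSp.lci f.hom x} := by
  have hpq : f.hom ≫ q.hom = p.hom := congrArg (fun e => e.hom) hc
  obtain ⟨A, C, C', W, b, c, c', bW, k, kg, m, k', hb, hc, hc', hbW, hbWs, sqW, wq, wg, wm, wk'⟩ :=
    LimTop61.exists_pullback_chart hY Y.property Z.property Z'.property
  obtain ⟨U, U', a, a', h, n, h', ha, ha', has', sqU, wf, wn, wh'⟩ :=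
    exists_chart_pullback_over hX X.property Y.property hb hbW hbWs wm
  ext x'
  obtain ⟨z, rfl⟩ := SpPts86.surjective_ofPt has' x'
  have hz : AlgSp.Points.map gX.hom (AlgSp.Points.ofPt a' z) = AlgSp.Points.ofPt a (n.left z) := by
    rw [AlgSp.Points.map_ofPt, wn, SpPts86.ofPt_comp]
  rw [Set.mem_ofPred_eq, Set.mem_preimage, hz, Set.mem_ofPred_eq,
    LimTop61.LciNear.locPNear_iff_chart X'.property Y'.property ha' hbW wh',
    LimTop61.LciNear.locPNear_iff_chart X.property Y.property ha hb wf,
    LimTop61.LciNear.nearPt_iff, LimTop61.LciNear.nearPt_iff]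
  have wp : a ≫ p.hom = (AlgSp.yon S).map (h ≫ k) ≫ c := by
    rw [← hpq, ← Category.assoc, wf, Category.assoc, wq, Functor.map_comp, Category.assoc]
  haveI : Flat (h.left ≫ k.left) := hp1 a c (h ≫ k) ha hc wp
  haveI : LocallyOfFinitePresentation (h.left ≫ k.left) := hp2 a c (h ≫ k) ha hc wp
  haveI : Flat k.left := hq1 b c k hb hc wq
  haveI : LocallyOfFinitePresentation k.left := hq2 b c k hb hc wq
  have H := (S1494.result h.left k.left).2 kg.left m.left k'.left sqW n.left h'.left (sqU.paste_vert sqW) sqU.w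
  exact Set.ext_iff.1 H z

end Groth.Agent.S10668
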