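import Groth.Statements.S10640
import Groth.Agent.SpFP87.Where

set_option autoImplicit false
universe u
open CategoryTheory CategoryTheory.Limits AlgebraicGeometry
open AlgSp

namespace Groth.Agent.S10640

/-- For morphisms f : X ⟶ Y, p : X ⟶ Z and q : Y ⟶ Z of algebraic spaces over S with f ≫ q = p, write XX
= X ×_Y X with projections pr0, pr1, and assume that p is closed and locally of finite type and that
the composite XX ⟶ X ⟶ Z (through pr1 and p) is closed as well. Then there is an open subspace W of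
Z with the following property: a morphism of algebraic spaces g : Z' ⟶ Z factors through W exactly
when the base change X' ⟶ Y' of f along g is unramified and universally injective. Here the base
change of f along g is any f' : X' ⟶ Y' obtained from pullback squares Y' = Y ×_Z Z' and X' = X ×_Y
Y' of algebraic spaces over S, and W ⊂ Z is given as a representable open immersion w : W ⟶ Z. -/
theorem result {S : Scheme.{u}} {X Y Z : AlgSp.Space S}
    (f : X ⟶ Y) (p : X ⟶ Z) (q : Y ⟶ Z) (hc : f ≫ q = p)
    (XX : AlgSp.Space S) (pr0 pr1 : XX ⟶ X) (hXX : IsPullback pr0.hom pr1.hom f.hom f.hom)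
    (hp1 : AlgSp.LocP @LocallyOfFiniteType p.hom) (hp2 : AlgSp.IsClosedMor p.hom)
    (hp3 : AlgSp.IsClosedMor (pr1 ≫ p).hom) :
    ∃ (W : AlgSp.Space S) (w : W ⟶ Z), AlgSp.RepWith @IsOpenImmersion w.hom ∧
      ∀ (Z' : AlgSp.Space S) (g : Z' ⟶ Z),
        (∃ k : Z' ⟶ W, k ≫ w = g) ↔
          ∀ (Y' : AlgSp.Space S) (gY : Y' ⟶ Y) (q' : Y' ⟶ Z'),
            IsPullback gY.hom q'.hom q.hom g.hom →
            ∀ (X' : AlgSp.Space S) (gX : X' ⟶ X) (f' : X' ⟶ Y'),
              IsPullback gX.hom f'.hom f.hom gY.hom →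
                (AlgSp.LocP (@LocallyOfFiniteType ⊓ @FormallyUnramified) f'.hom ∧ AlgSp.IsUnivInjectiveMor f'.hom) := by
  have hp4 : AlgSp.IsClosedMor (pullback.snd f.hom f.hom ≫ p.hom) := by
    have e : pullback.snd f.hom f.hom ≫ p.hom = hXX.isoPullback.inv ≫ (pr1.hom ≫ p.hom) := by
      rw [← Category.assoc, IsPullback.isoPullback_inv_snd]
    show IsClosedMap (AlgSp.Points.map _)
    rw [e, Groth.Agent.SpFP87.map_comp_eq]
    refine IsClosedMap.comp hp3 fun A hA => ?_
    convert hA.preimage (AlgSp.Points.continuous_map hXX.isoPullback.hom) using 1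
    ext x
    constructor
    · rintro ⟨a, ha, rfl⟩
      show AlgSp.Points.map hXX.isoPullback.hom (AlgSp.Points.map hXX.isoPullback.inv a) ∈ A
      rw [← AlgSp.Points.map_comp, Iso.inv_hom_id, AlgSp.Points.map_id]
      exact ha
    · intro hx
      refine ⟨_, hx, ?_⟩
      rw [← AlgSp.Points.map_comp, Iso.hom_inv_id, AlgSp.Points.map_id]
  obtain ⟨W, hW⟩ := Groth.Agent.SpFP87.exists_whereSet_unramified_univInjective hc hp1 hp2 hp4
  exact hW.exists_open

end Groth.Agent.S10640
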