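import Groth.Statements.S10647
import Groth.Agent.SpFP87.ModZMT
set_option backward.isDefEq.respectTransparency false

set_option autoImplicit false
universe u
open CategoryTheory CategoryTheory.Limits AlgebraicGeometry
open AlgSp

namespace Groth.Agent.S10647

/-- (Zariski's Main Theorem for algebraic spaces) a quasi-finite separated morphism f : X ⟶ Y of
algebraic spaces over S whose target Y is quasi-compact and quasi-separated factors as a
quasi-compact representable open immersion j : X ⟶ T followed by a finite morphism π : T ⟶ Y. (The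
published statement asks Y to be quasi-separated in the absolute sense and puts no condition on S;
this row assumes S quasi-separated and Y quasi-separated over S, which together imply it.) -/
theorem result {S : Scheme.{u}} [QuasiSeparatedSpace ↥S] {X Y : AlgSp.Space S} (f : X ⟶ Y)
    (hf1 : AlgSp.LocP (@LocallyQuasiFinite ⊓ @LocallyOfFiniteType) f.hom) (hf2 : AlgSp.IsQuasiCompactMor f.hom)
    (hf3 : AlgSp.IsSeparatedMor f.hom) (hY1 : AlgSp.IsQuasiCompactSp Y.obj) (hY2 : AlgSp.IsQuasiSeparatedSp Y.obj) :
    ∃ (T : AlgSp.Space S) (j : X ⟶ T) (π : T ⟶ Y), j ≫ π = f ∧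
      AlgSp.RepWith @IsOpenImmersion j.hom ∧ AlgSp.IsQuasiCompactMor j.hom ∧ AlgSp.IsFiniteMor π.hom := by
  have hqs : AlgSp.IsQuasiSeparatedMor f.hom :=
    SpPts86.repWith_mono (fun _ _ k (hk : IsClosedImmersion k) => inferInstance) hf3
  obtain ⟨Y', ν, f', hY', hn, -⟩ :=
    SpFP87.exists_normalization_smoothUniv Y.property X.property f.hom hf2 hqs
  obtain ⟨ho, hqc⟩ := SpFP87.openImmersion_toNormalization X.property Y.property hf1 hf2 hf3 hY' hn
  obtain ⟨T, π, j, hT, hjπ, hjo, hjq, hπ⟩ := SpFP87.ModSys.exists_finite_factor X.property Y.property hY1 hY2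
    hn.2.1 ho hqc (by rw [hn.1]; exact hf1)
  exact ⟨⟨T, hT⟩, ObjectProperty.homMk j, ObjectProperty.homMk π,
    InducedCategory.hom_ext (hjπ.trans hn.1), hjo, hjq, hπ⟩

end Groth.Agent.S10647
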