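import Groth.Statements.S10649
import Groth.Agent.SpPts86.FiniteCrit
import Groth.Agent.SpPts86.DiscreteFib
import Groth.Agent.SpPts86.Props
import Groth.Agent.S10260
import Groth.Agent.S9925

set_option autoImplicit false
universe u
open CategoryTheory CategoryTheory.Limits AlgebraicGeometry
open AlgSp

set_option backward.isDefEq.respectTransparency false

namespace Groth.Agent.S10649

/-- The following conditions on a morphism f : X ⟶ Y of algebraic spaces over S are equivalent: (1)
finiteness of f; (2) f is locally quasi-finite as well as proper (locally quasi-finite and locally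
of finite type etale locally); (3) f is proper and for every field k and every k-point Spec k ⟶ Y
the fibre X_k (any pullback of f along it in fppf sheaves) has discrete space of points; (4) f is
universally closed, separated and locally of finite type, and every such fibre X_k has discrete
space of points. -/
theorem result {S : Scheme.{u}} {X Y : AlgSp.Space S} (f : X ⟶ Y) :
    [AlgSp.IsFiniteMor f.hom,
      AlgSp.IsProperMor f.hom ∧ AlgSp.LocP (@LocallyQuasiFinite ⊓ @LocallyOfFiniteType) f.hom,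
      AlgSp.IsProperMor f.hom ∧
        ∀ (k : AlgSp.FieldPt Y.obj) (Xk : AlgSp.Sp S) (fst : Xk ⟶ X.obj) (snd : Xk ⟶ (AlgSp.yon S).obj k.pt),
          IsPullback fst snd f.hom k.toHom → DiscreteTopology (AlgSp.Points Xk),
      AlgSp.IsUnivClosedMor f.hom ∧ AlgSp.IsSeparatedMor f.hom ∧ AlgSp.LocP @LocallyOfFiniteType f.hom ∧
        ∀ (k : AlgSp.FieldPt Y.obj) (Xk : AlgSp.Sp S) (fst : Xk ⟶ X.obj) (snd : Xk ⟶ (AlgSp.yon S).obj k.pt),
          IsPullback fst snd f.hom k.toHom → DiscreteTopology (AlgSp.Points Xk)].TFAE := by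
  have hX := X.property
  have hY := Y.property
  have h12 : AlgSp.IsFiniteMor f.hom → AlgSp.IsProperMor f.hom ∧ AlgSp.LocP (@LocallyQuasiFinite ⊓ @LocallyOfFiniteType) f.hom := fun h => by
    refine ⟨((Groth.Agent.SpPts86.isFiniteMor_iff_affine_proper' f.hom hX hY).1 h).2, ?_⟩
    exact Groth.Agent.SpFP87.locP_of_repWith hX.diag hY (Groth.Agent.SpPts86.repWith_mono
      (fun _ _ g hg => by haveI : IsFinite g := hg; exact ⟨inferInstance, inferInstance⟩)
      ((Groth.Agent.SpPts86.isFiniteMor_iff f.hom).1 h))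
  tfae_have 1 → 2 := h12
  tfae_have 2 → 1 := fun ⟨hp, hq⟩ => by
    have hrep := Groth.Agent.S10260.result f hq hp.1
    haveI := Groth.Agent.SpPts86.lft_descends.{u}
    refine (Groth.Agent.SpPts86.isFiniteMor_iff f.hom).2 ⟨hrep, fun T V t fst snd sq => ?_⟩
    have hl : LocallyOfFiniteType snd.left :=
      (Groth.Agent.SpFP87.repWith_of_locP hY hrep hp.2.1.1).property t fst snd sq
    have hq' : LocallyQuasiFinite snd.left :=
      ((Groth.Agent.SpFP87.locP_yon_map_iff (P := (@LocallyQuasiFinite ⊓ @LocallyOfFiniteType : MorphismProperty Scheme.{u})) snd).1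
        (Groth.Agent.SpFP87.locP_baseChange sq hX hY (AlgSp.IsAlgSpace.yon_obj T) hq)).1
    have hs : IsSeparated snd.left :=
      ((Groth.Agent.S9905.result f hrep).1.1 hp.1).property t fst snd sq
    have hu : UniversallyClosed snd.left :=
      ((Groth.Agent.S9922.result f hrep).2 hp.2.2).property t fst snd sq
    haveI : IsProper snd.left := { }
    exact IsFinite.of_isProper_of_locallyQuasiFinite snd.left
  tfae_have 2 → 3 := fun ⟨hp, hq⟩ => ⟨hp, fun k Xk fst snd sq =>
    (Groth.Agent.SpPts86.locP_lqf_iff_discrete hX hY f.hom hp.2.1.1).1 hq k.K k.str k.toHom Xk fst snd sq⟩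
  tfae_have 3 → 4 := fun ⟨hp, hd⟩ => ⟨hp.2.2, hp.1, hp.2.1.1, hd⟩
  tfae_have 4 → 2 := fun ⟨hu, hs, hl, hd⟩ => by
    refine ⟨⟨hs, ⟨hl, Groth.Agent.S9925.result f hu⟩, hu⟩, (Groth.Agent.SpPts86.locP_lqf_iff_discrete hX hY f.hom hl).2 ?_⟩
    intro k _ str y P fst snd sq
    obtain ⟨v, rfl⟩ : ∃ v, (AlgSp.J S).uliftYonedaEquiv.symm v = y := ⟨_, Equiv.symm_apply_apply _ _⟩
    exact hd ⟨k, str, v⟩ P fst snd sq
  tfae_finish

end Groth.Agent.S10649
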