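import Groth.Statements.S10657
import Groth.Agent.SpFP87.ProjChow

set_option autoImplicit false
universe u
open CategoryTheory CategoryTheory.Limits AlgebraicGeometry
open AlgSp

namespace Groth.Agent.S10657

/-- (a variant of Chow's lemma) for a separated morphism f : X ⟶ Y of finite type between algebraic
spaces over S with Y quasi-compact and separated, there are, for some n, an algebraic space X', a
proper surjective morphism a : X' ⟶ X and a representable immersion of X' into projective n-space
over Y (the product of h applied to projective n-space over S with Y, in fppf sheaves) compatible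
with the projections to Y. (The published statement asks Y to be separated in the absolute sense and
puts no condition on S; this row assumes S separated and Y separated over S, which together imply
it.) -/
theorem result {S : Scheme.{u}} [S.IsSeparated] {X Y : AlgSp.Space S} (f : X ⟶ Y)
    (hY1 : AlgSp.IsQuasiCompactSp Y.obj) (hY2 : AlgSp.IsSeparatedSp Y.obj)
    (hf1 : AlgSp.IsSeparatedMor f.hom) (hf2 : AlgSp.IsFiniteTypeMor f.hom) :
    ∃ (n : ℕ) (X' : AlgSp.Space S) (a : X' ⟶ X)
      (b : X'.obj ⟶ (AlgSp.yon S).obj (Over.mk (CohB1.ProjSpaceOver.toBase n S)) ⨯ Y.obj),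
      b ≫ prod.snd = (a ≫ f).hom ∧
        AlgSp.IsProperMor a.hom ∧ AlgSp.IsSurjectiveMor a.hom ∧ AlgSp.RepWith @IsImmersion b := by
  exact Groth.Agent.SpFP87.chow_projective f hY1 hY2 hf1 hf2

end Groth.Agent.S10657
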