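import Groth.Statements.S1366
import Groth.Agent.Henz21.GabberClopen.ClopenProper
-- import your own Groth.Agent.* helpers here

set_option autoImplicit false
universe u
open FlatMor

namespace Groth.Agent.S1366

open AlgebraicGeometry CategoryTheory Limits in
/-- Let (A, I) be a henselian pair and X a separated scheme of finite type over Spec A, with X_0 its
base change to Spec (A/I). If Y is an open and closed subset of X_0 which (as an open subscheme) is
proper over Spec (A/I), then there is an open and closed subset W of X, proper over Spec A as an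
open subscheme, whose preimage in X_0 is exactly Y. -/
theorem result {A : Type u} [CommRing A] (I : Ideal A) [HenselianRing A I]
    {X : Scheme.{u}} (f : X ⟶ Spec (CommRingCat.of A)) [IsSeparated f] [LocallyOfFiniteType f] [QuasiCompact f]
    (Y : (pullback f (Spec.map (CommRingCat.ofHom (Ideal.Quotient.mk I)))).Opens) (hYc : IsClosed (Y : Set ↑(pullback f (Spec.map (CommRingCat.ofHom (Ideal.Quotient.mk I))))))
    (hYp : IsProper (Y.ι ≫ pullback.snd f (Spec.map (CommRingCat.ofHom (Ideal.Quotient.mk I))))) :
    ∃ W : X.Opens, IsClosed (W : Set ↑X) ∧ IsProper (W.ι ≫ f) ∧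
      pullback.fst f (Spec.map (CommRingCat.ofHom (Ideal.Quotient.mk I))) ⁻¹ᵁ W = Y := by
  let i₀ := pullback.fst f (Spec.map (CommRingCat.ofHom (Ideal.Quotient.mk I)))
  haveI : IsClosedImmersion (Spec.map (CommRingCat.ofHom (Ideal.Quotient.mk I))) :=
    IsClosedImmersion.spec_of_surjective _ Ideal.Quotient.mk_surjective
  have hr : Set.range i₀ = {x | I ≤ (f x).asIdeal} := by
    rw [Scheme.Pullback.range_fst]
    ext x
    rw [Set.mem_preimage]
    show f x ∈ Set.range (PrimeSpectrum.comap (Ideal.Quotient.mk I)) ↔ _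
    rw [range_comap_of_surjective _ (Ideal.Quotient.mk I) Ideal.Quotient.mk_surjective, Ideal.mk_ker]
    exact Iff.rfl
  have hinj : Function.Injective i₀ := i₀.isClosedEmbedding.injective
  have hrange : Set.range (Y.ι ≫ i₀) = i₀ '' (Y : Set _) := by
    rw [Scheme.Hom.comp_base, TopCat.coe_comp, Set.range_comp, Scheme.Opens.range_ι]
  have hp : IsProper ((Y.ι ≫ i₀) ≫ f) := by
    rw [Category.assoc, pullback.condition, ← Category.assoc]
    exact MorphismProperty.comp_mem _ _ _ hYp inferInstance
  obtain ⟨W, hWc, hWp, hYW, hNW⟩ := Groth.Agent.Henz21.GabberClopen.exists_clopen_lift_of_proper_part I f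
    (Y.ι ≫ i₀) hp (i₀.isClosedEmbedding.isClosedMap _ Y.isOpen.isClosed_compl)
    (by rw [hrange]; exact Set.disjoint_image_of_injective hinj disjoint_compl_right)
    (by rw [hrange, ← Set.image_union, Set.union_compl_self, Set.image_univ, hr])
  refine ⟨W, hWc, hWp, ?_⟩
  ext x
  refine ⟨fun hx => ?_, fun hx => hYW (hrange.ge ⟨x, hx, rfl⟩)⟩
  by_contra h
  exact Set.disjoint_left.1 hNW ⟨x, h, rfl⟩ hx

end Groth.Agent.S1366
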