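import Groth.Statements.S10658
import Groth.Agent.SpFP87.FinSplit
set_option backward.isDefEq.respectTransparency false

set_option autoImplicit false
universe u
open CategoryTheory CategoryTheory.Limits AlgebraicGeometry
open AlgSp

namespace Groth.Agent.S10658

/-- For a henselian pair (A, I), an algebraic space X which is separated and of finite type over Spec A
(structure morphism s to the terminal sheaf h_{Spec A}), X₀ = X ×_{Spec A} Spec (A/I) with inclusion
i₀ : X₀ ⟶ X, and Y ⊂ X₀ an open and closed subspace which is proper over Spec (A/I), there is an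
open and closed subspace W ⊂ X, proper over Spec A, whose base change to Spec (A/I) is Y: Y is the
pullback of W along i₀. -/
theorem result (A : Type u) [CommRing A] (I : Ideal A) [HenselianRing A I]
    {X X0 Y : AlgSp.Space (Spec (CommRingCat.of A))}
    (s : X.obj ⟶ (AlgSp.yon (Spec (CommRingCat.of A))).obj (Over.mk (𝟙 _)))
    (hs1 : AlgSp.IsSeparatedMor s) (hs2 : AlgSp.IsFiniteTypeMor s)
    (i0 : X0 ⟶ X)
    (s0 : X0.obj ⟶ (AlgSp.yon (Spec (CommRingCat.of A))).obj
      (Over.mk (Spec.map (CommRingCat.ofHom (Ideal.Quotient.mk I)))))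
    (hX0 : IsPullback i0.hom s0 s ((AlgSp.yon (Spec (CommRingCat.of A))).map
      (Over.homMk (Spec.map (CommRingCat.ofHom (Ideal.Quotient.mk I))) (Category.comp_id _) :
        Over.mk (Spec.map (CommRingCat.ofHom (Ideal.Quotient.mk I))) ⟶ Over.mk (𝟙 _))))
    (jY : Y ⟶ X0) (hY1 : AlgSp.RepWith @IsOpenImmersion jY.hom) (hY2 : AlgSp.RepWith @IsClosedImmersion jY.hom)
    (hY3 : AlgSp.IsProperMor (jY.hom ≫ s0)) :
    ∃ (W : AlgSp.Space (Spec (CommRingCat.of A))) (w : W ⟶ X) (k : Y ⟶ W),
      AlgSp.RepWith @IsOpenImmersion w.hom ∧ AlgSp.RepWith @IsClosedImmersion w.hom ∧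
        AlgSp.IsProperMor (w.hom ≫ s) ∧ IsPullback k.hom jY.hom w.hom i0.hom := by
  exact SpFP87.split_off_proper_part A I s hs1 hs2 i0 s0 hX0 jY hY1 hY2 hY3

end Groth.Agent.S10658
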