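import Groth.Statements.S10666
import Groth.Agent.SpPts86.EtaleMor
import Groth.Agent.SpFP87.LciEtale

set_option autoImplicit false
universe u
open CategoryTheory CategoryTheory.Limits AlgebraicGeometry
open AlgSp

namespace Groth.Agent.S10666

/-- For morphisms f : X ⟶ Y, p : X ⟶ Z, q : Y ⟶ Z of algebraic spaces over S with f ≫ q = p: if q is
smooth and p is a local complete intersection morphism, then so is f. -/
theorem result {S : Scheme.{u}} {X Y Z : AlgSp.Space S} (f : X ⟶ Y) (p : X ⟶ Z) (q : Y ⟶ Z) (hc : f ≫ q = p)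
    (hq : AlgSp.LocP @Smooth q.hom) (hp : AlgSp.IsLCIMor p.hom) :
    AlgSp.IsLCIMor f.hom := by
  intro U V a b h ha hb w
  obtain ⟨C, c, hce, hcs⟩ := Z.property.atlas
  obtain ⟨W, fW, sW, sqW⟩ := Groth.Agent.SpFP87.exists_isPullback_yon Z.property.diag (b ≫ q.hom) c
  have hWV : Etale fW.left := Groth.Agent.SpFP87.etale_snd_of_isPullback sqW.flip hce
  have hWs : Surjective fW.left := hcs.2 (b ≫ q.hom) _ _ sqW.flip
  have hWC : Smooth sW.left := hq ((yon S).map fW ≫ b) c sW
    (Groth.Agent.SpPts86.repWith_etale_comp fW hb) hce (by rw [Category.assoc]; exact sqW.w)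
  let U' : Over S := Limits.pullback fW h
  have hsq := (IsPullback.of_hasPullback fW h).map (Over.forget S)
  have hsE : Etale (pullback.snd fW h).left := MorphismProperty.of_isPullback (P := @Etale) hsq hWV
  have hU'W : Groth.Agent.FlatMor68.KoszulCalc.lciProp ((pullback.fst fW h).left ≫ sW.left) := by
    rw [← Groth.Agent.FlatMor68.KoszulCalc.forall_isKoszulAt_iff, ← Over.comp_left]
    refine hp ((yon S).map (pullback.snd fW h) ≫ a) c (pullback.fst fW h ≫ sW)
      (Groth.Agent.SpPts86.repWith_etale_comp (pullback.snd fW h) ha) hce ?_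
    have e1 : p.hom = f.hom ≫ q.hom := (congrArg (fun m => m.hom) hc).symm
    rw [e1, Category.assoc, reassoc_of% w, ← Functor.map_comp_assoc, ← pullback.condition,
      Functor.map_comp_assoc, Functor.map_comp_assoc, ← sqW.w]
  have h1 := Groth.Agent.FlatMor68.KoszulCalc.lciProp_of_comp_smooth _ sW.left hU'W
  show AlgSp.lci _
  rw [AlgSp.lci, Groth.Agent.FlatMor68.KoszulCalc.forall_isKoszulAt_iff]
  refine Groth.Agent.SpFP87.lciProp_of_etale_pullback fW.left h.left ?_
  have hsq' : IsPullback (pullback.fst fW h).left (pullback.snd fW h).left fW.left h.left := hsq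
  rw [← hsq'.isoPullback_inv_fst, Groth.Agent.FlatMor68.KoszulCalc.lciProp.cancel_left_of_respectsIso]
  exact h1

end Groth.Agent.S10666
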