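import Groth.Statements.S10665
import Groth.Agent.SpPts86.EtaleMor
import Groth.Agent.FlatMor68.KoszulCalc

set_option autoImplicit false
universe u
open CategoryTheory CategoryTheory.Limits AlgebraicGeometry
open AlgSp

namespace Groth.Agent.S10665

/-- A Koszul-regular immersion between algebraic spaces over S (representable, Koszul-regular immersion
on every etale scheme chart of the target) is a local complete intersection morphism (Koszul at
every point, etale locally on source and target). -/
theorem result {S : Scheme.{u}} {X Y : AlgSp.Space S} (i : X ⟶ Y) (hi : AlgSp.IsRegImmMor RegImm.Kind.koszul i.hom) :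
    AlgSp.IsLCIMor i.hom := by
  intro U V a b h ha hb w
  have sq := hi.1.isPullback b
  have hf : RepWith @Etale (hi.1.fst b) := by
    exact (AlgSp.repWith_isStableUnderBaseChange (S := S) @Etale).of_isPullback sq.flip hb
  have hs := hi.2 b (hi.1.fst b) (hi.1.snd b) hb sq
  obtain ⟨u, hu1, hu2⟩ : ∃ u : U ⟶ hi.1.pullback b, (yon S).map u ≫ hi.1.fst b = a ∧ u ≫ hi.1.snd b = h := by
    obtain ⟨l, hl⟩ := (yon S).map_surjective (sq.lift a ((yon S).map h) w)
    refine ⟨l, by rw [hl, IsPullback.lift_fst], (yon S).map_injective ?_⟩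
    rw [Functor.map_comp, hl, IsPullback.lift_snd]
  have hE := Groth.Agent.SpPts86.etale_of_comm ha hf hu1
  rw [← hu2, Over.comp_left]
  show AlgSp.lci _
  rw [AlgSp.lci, Groth.Agent.FlatMor68.KoszulCalc.forall_isKoszulAt_iff]
  exact Groth.Agent.FlatMor68.KoszulCalc.lciProp_comp _ _ (Groth.Agent.FlatMor68.KoszulCalc.lciProp_smooth _)
    (Groth.Agent.FlatMor68.KoszulCalc.lciProp_of_isRegularImmersion _ hs)

end Groth.Agent.S10665
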