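import Groth.Statements.S10669
import Groth.Agent.SpPts86.Charts
import Groth.Agent.SpPts86.Props
import Groth.Agent.SpFP87.Reduced
import Groth.Agent.LimTop61.ReducedSpecial
import Groth.Agent.S9840

namespace Groth.Agent.LimTop61.ReducedSp
open CategoryTheory CategoryTheory.Limits AlgebraicGeometry IsLocalRing

theorem isReduced_of_pullback_flat_surjective {X Y Z : Scheme} (f : X ⟶ Z) (g : Y ⟶ Z) [Flat g] [Surjective g]
    [IsReduced (pullback f g)] : IsReduced X :=
  Groth.Agent.S9840.result (pullback.fst f g)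

theorem isOpenImmersion_specFrac (R : Type*) [CommRing R] [IsDomain R] [IsDiscreteValuationRing R] :
    IsOpenImmersion (Spec.map (CommRingCat.ofHom (algebraMap R (FractionRing R)))) := by
  obtain ⟨π, hπ⟩ := IsDiscreteValuationRing.exists_irreducible R
  have : IsLocalization.Away π (FractionRing R) := by
    refine (IsLocalization.iff_of_le_of_exists_dvd (Submonoid.powers π) (nonZeroDivisors R) ?_ fun x hx => ?_).2
      inferInstance
    · exact Submonoid.powers_le.2 (mem_nonZeroDivisors_of_ne_zero hπ.ne_zero)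
    · obtain ⟨n, hn⟩ := IsDiscreteValuationRing.associated_pow_irreducible (nonZeroDivisors.ne_zero hx) hπ
      exact ⟨π ^ n, ⟨n, rfl⟩, hn.dvd⟩
  exact IsOpenImmersion.of_isLocalization π

end Groth.Agent.LimTop61.ReducedSp

set_option autoImplicit false
universe u
open CategoryTheory CategoryTheory.Limits AlgebraicGeometry
open AlgSp

namespace Groth.Agent.S10669

/-- For a discrete valuation ring R with residue field κ and fraction field K and an algebraic space X
over Spec R whose structure morphism s (to the terminal sheaf h_{Spec R}) is flat and proper: if the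
special fibre X ×_{Spec R} Spec κ is reduced (some etale surjective scheme chart is reduced), then X
is reduced and so is the generic fibre X ×_{Spec R} Spec K. -/
theorem result (R : Type u) [CommRing R] [IsDomain R] [IsDiscreteValuationRing R]
    {X : AlgSp.Space (Spec (CommRingCat.of R))}
    (s : X.obj ⟶ (AlgSp.yon (Spec (CommRingCat.of R))).obj (Over.mk (𝟙 _)))
    (hs1 : AlgSp.IsProperMor s) (hs2 : AlgSp.LocP @Flat s)
    (h0 : ∀ (X0 : AlgSp.Sp (Spec (CommRingCat.of R))) (fst : X0 ⟶ X.obj)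
      (snd : X0 ⟶ (AlgSp.yon (Spec (CommRingCat.of R))).obj
        (Over.mk (Spec.map (CommRingCat.ofHom (IsLocalRing.residue R))))),
      IsPullback fst snd s ((AlgSp.yon (Spec (CommRingCat.of R))).map
        (Over.homMk (Spec.map (CommRingCat.ofHom (IsLocalRing.residue R))) (Category.comp_id _) :
          Over.mk (Spec.map (CommRingCat.ofHom (IsLocalRing.residue R))) ⟶ Over.mk (𝟙 _))) →
      AlgSp.EtaleLocally (fun U => IsReduced U) X0) :
    AlgSp.EtaleLocally (fun U => IsReduced U) X.obj ∧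
      ∀ (Xη : AlgSp.Sp (Spec (CommRingCat.of R))) (fst : Xη ⟶ X.obj)
        (snd : Xη ⟶ (AlgSp.yon (Spec (CommRingCat.of R))).obj
          (Over.mk (Spec.map (CommRingCat.ofHom (algebraMap R (FractionRing R)))))),
        IsPullback fst snd s ((AlgSp.yon (Spec (CommRingCat.of R))).map
          (Over.homMk (Spec.map (CommRingCat.ofHom (algebraMap R (FractionRing R)))) (Category.comp_id _) :
            Over.mk (Spec.map (CommRingCat.ofHom (algebraMap R (FractionRing R)))) ⟶ Over.mk (𝟙 _))) →
        AlgSp.EtaleLocally (fun U => IsReduced U) Xη := by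
  classical
  let S₀ := Spec (CommRingCat.of R)
  let T₀ : Over S₀ := Over.mk (𝟙 S₀)
  let Tk : Over S₀ := Over.mk (Spec.map (CommRingCat.ofHom (IsLocalRing.residue R)))
  let jk : Tk ⟶ T₀ := Over.homMk (Spec.map (CommRingCat.ofHom (IsLocalRing.residue R))) (Category.comp_id _)
  have hid : AlgSp.RepWith @Etale (𝟙 ((AlgSp.yon S₀).obj T₀)) := by
    rw [← (AlgSp.yon S₀).map_id]
    exact (AlgSp.repWith_yon_map_iff (@Etale : MorphismProperty Scheme.{u}) (𝟙 T₀)).2 (by dsimp; infer_instance)
  obtain ⟨U, a, ha, has⟩ := X.property.atlas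
  obtain ⟨h, hh⟩ := (AlgSp.yon S₀).map_surjective (a ≫ s)
  have hw : a ≫ s = (AlgSp.yon S₀).map h ≫ 𝟙 _ := hh.symm.trans (Category.comp_id _).symm
  let f : U.left ⟶ S₀ := h.left
  haveI hfl : Flat f := hs2 a _ h ha hid hw
  haveI hlft : LocallyOfFiniteType f := hs1.2.1.1 a _ h ha hid hw
  haveI : IsNoetherianRing (CommRingCat.of R) := inferInstanceAs (IsNoetherianRing R)
  haveI : IsLocallyNoetherian U.left := LocallyOfFiniteType.isLocallyNoetherian f
  -- special fibre of the chart
  obtain ⟨X0, fst0, snd0, sq0⟩ : ∃ (X0 : AlgSp.Sp S₀) (fst : X0 ⟶ X.obj) (snd : X0 ⟶ (AlgSp.yon S₀).obj Tk),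
      IsPullback fst snd s ((AlgSp.yon S₀).map jk) := ⟨_, _, _, IsPullback.of_hasPullback _ _⟩
  have hX0 := Groth.Agent.SpFP87.isAlgSpace_of_isPullback sq0 X.property (AlgSp.IsAlgSpace.yon_obj _)
    (AlgSp.IsAlgSpace.yon_obj T₀).diag
  have hred0 := h0 X0 fst0 snd0 sq0
  obtain ⟨U0, q0, r0, sqU⟩ := Groth.Agent.SpFP87.exists_isPullback_yon (AlgSp.IsAlgSpace.yon_obj T₀).diag
    ((AlgSp.yon S₀).map h) ((AlgSp.yon S₀).map jk)
  have hU0 : IsReduced U0.left := by
    let a0 : (AlgSp.yon S₀).obj U0 ⟶ X0 := sq0.lift ((AlgSp.yon S₀).map q0 ≫ a) ((AlgSp.yon S₀).map r0)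
      (by rw [Category.assoc, ← hh]; exact sqU.w)
    have hsq : IsPullback ((AlgSp.yon S₀).map q0) a0 a fst0 := by
      refine IsPullback.of_bot ?_ (sq0.lift_fst _ _ _).symm sq0
      rw [sq0.lift_snd, ← hh]; exact sqU
    exact Groth.Agent.SpFP87.isReduced_chart hX0 hred0
      ((AlgSp.repWith_isStableUnderBaseChange (S := S₀) @Etale).of_isPullback hsq ha)
  have sqS : IsPullback q0.left r0.left f jk.left := Groth.Agent.SpFP87.isPullback_left sqU
  have hfib : IsReduced (f.fiber (IsLocalRing.closedPoint R)) := by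
    have hpt : jk.left (IsLocalRing.closedPoint (IsLocalRing.ResidueField R)) = IsLocalRing.closedPoint R := by
      refine PrimeSpectrum.ext ?_
      change (IsLocalRing.maximalIdeal (IsLocalRing.ResidueField R)).comap (IsLocalRing.residue R) = _
      rw [IsLocalRing.maximalIdeal_eq_bot, ← RingHom.ker_eq_comap_bot, IsLocalRing.ker_residue]
      rfl
    have hdesc := Scheme.descResidueField_stalkClosedPointTo_fromSpecResidueField
      (IsLocalRing.ResidueField R) S₀ jk.left
    obtain ⟨m, hm⟩ : ∃ m : Spec (CommRingCat.of (IsLocalRing.ResidueField R)) ⟶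
        Spec (S₀.residueField (jk.left (IsLocalRing.closedPoint (IsLocalRing.ResidueField R)))),
        m ≫ S₀.fromSpecResidueField _ = jk.left := ⟨_, hdesc⟩
    haveI : Flat m := by
      obtain ⟨φ, rfl⟩ := Spec.map_surjective m
      exact HasRingHomProperty.Spec_iff.2 (by
        let := φ.hom.toAlgebra
        exact (inferInstance : Module.Flat
          (S₀.residueField (jk.left (IsLocalRing.closedPoint (IsLocalRing.ResidueField R))))
          (IsLocalRing.ResidueField R)))
    haveI : Surjective m := ⟨fun x => ⟨IsLocalRing.closedPoint _, Subsingleton.elim _ _⟩⟩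
    rw [← hpt]
    have e := (IsPullback.of_hasPullback f (S₀.fromSpecResidueField
      (jk.left (IsLocalRing.closedPoint (IsLocalRing.ResidueField R)))))
    have sqP := IsPullback.of_hasPullback (pullback.snd f (S₀.fromSpecResidueField
      (jk.left (IsLocalRing.closedPoint (IsLocalRing.ResidueField R))))) m
    have big := sqP.paste_horiz e
    rw [hm] at big
    let i := big.isoIsPullback _ _ sqS
    exact @Groth.Agent.LimTop61.ReducedSp.isReduced_of_pullback_flat_surjective _ _ _
      (pullback.snd f (S₀.fromSpecResidueField _)) m ‹Flat m› ‹Surjective m› (@isReduced_of_isOpenImmersion _ _ i.hom (IsOpenImmersion.of_isIso i.hom) hU0)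
  -- every point specializes to a point of the closed fibre
  have hclosed : ∀ u : U.left, ∃ z : U.left, f z = IsLocalRing.closedPoint R ∧
      ∀ W : U.left.Opens, z ∈ W → ∃ u' ∈ W, AlgSp.Points.ofPt a u' = AlgSp.Points.ofPt a u := by
    intro u
    have hcl : IsClosedMap (AlgSp.Points.map s) :=
      hs1.2.2 (AlgSp.IsAlgSpace.yon_obj T₀) (𝟙 _) (𝟙 _) s (IsPullback.of_horiz_isIso ⟨by simp⟩)
    let C := AlgSp.Points.map s '' closure {AlgSp.Points.ofPt a u}
    have hC : IsClosed C := hcl _ isClosed_closure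
    have hCne : C.Nonempty := ⟨_, ⟨_, subset_closure rfl, rfl⟩⟩
    have hCc : AlgSp.Points.ofScheme T₀ (IsLocalRing.closedPoint R) ∈ C := by
      obtain ⟨c, hc⟩ := hCne
      obtain ⟨t, rfl⟩ := (AlgSp.Points.schemeHomeo T₀).surjective c
      exact ((IsLocalRing.specializes_closedPoint (R := R) t).map
        (AlgSp.Points.schemeHomeo T₀).continuous).mem_closed hC hc
    obtain ⟨x0, hx0, hx0s⟩ := hCc
    obtain ⟨z, rfl⟩ := Groth.Agent.SpPts86.surjective_ofPt has x0
    refine ⟨z, ?_, fun W hzW => ?_⟩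
    · apply (AlgSp.Points.schemeHomeo T₀).injective
      rw [AlgSp.Points.map_ofPt, ← hh, Groth.Agent.SpPts86.ofPt_yon_map] at hx0s
      exact hx0s
    · obtain ⟨x, hxW, hx⟩ := mem_closure_iff.1 hx0 _ (Groth.Agent.SpPts86.isOpenMap_ofPt ha W W.isOpen)
        ⟨z, hzW, rfl⟩
      obtain ⟨u', hu', rfl⟩ := hxW
      exact ⟨u', hu', hx⟩
  have hU : IsReduced U.left := by
    suffices hs : ∀ u : U.left, _root_.IsReduced (U.left.presheaf.stalk u) from isReduced_of_isReduced_stalk U.left
    intro u
    obtain ⟨z, hz, hW⟩ := hclosed u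
    haveI : _root_.IsReduced (U.left.presheaf.stalk z) := by
      obtain ⟨π, hπ⟩ := IsDiscreteValuationRing.exists_irreducible R
      obtain ⟨h1, h2, -⟩ := Groth.Agent.LimTop61.exists_uniformizer_stalk f hπ z hz
      exact Groth.Agent.Curves2.isReduced_of_quotient h1 h2
        (Groth.Agent.LimTop61.isReduced_quotient_stalk f hπ z hz hfib)
    obtain ⟨_, ⟨V, hV, rfl⟩, hzV, -⟩ :=
      U.left.isBasis_affineOpens.exists_subset_of_mem_open (Set.mem_univ z) isOpen_univ
    let := TopCat.Presheaf.algebra_section_stalk U.left.presheaf ⟨z, hzV⟩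
    haveI := hV.isLocalization_stalk ⟨z, hzV⟩
    haveI : IsNoetherianRing Γ(U.left, V) := IsLocallyNoetherian.component_noetherian ⟨V, hV⟩
    obtain ⟨s', hs'⟩ := (inferInstance : IsNoetherianRing Γ(U.left, V)).noetherian (nilradical Γ(U.left, V))
    have hkill : ∀ b ∈ nilradical Γ(U.left, V), ∃ t : (hV.primeIdealOf ⟨z, hzV⟩).asIdeal.primeCompl,
        (t : Γ(U.left, V)) * b = 0 := fun b hb =>
      (IsLocalization.map_eq_zero_iff _ (U.left.presheaf.stalk z) b).1
        (IsReduced.eq_zero _ ((mem_nilradical.1 hb).map _))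
    choose g hg using hkill
    let t : (hV.primeIdealOf ⟨z, hzV⟩).asIdeal.primeCompl :=
      ∏ b ∈ s'.attach, g b.1 (hs' ▸ Ideal.subset_span b.2)
    have ht : ∀ b ∈ nilradical Γ(U.left, V), (t : Γ(U.left, V)) * b = 0 := by
      intro b hb
      have : nilradical Γ(U.left, V) ≤ (⊥ : Ideal _).colon ({(t : Γ(U.left, V))} : Set _) := by
        rw [← hs']
        refine Submodule.span_le.2 fun c hc => Submodule.mem_colon.2 fun d hd => ?_
        rw [Set.mem_singleton_iff.1 hd, Submodule.mem_bot, smul_eq_mul, mul_comm]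
        have hdvd : g c (hs' ▸ Ideal.subset_span hc) ∣ t :=
          Finset.dvd_prod_of_mem (fun b : {x // x ∈ s'} => g b.1 (hs' ▸ Ideal.subset_span b.2)) (Finset.mem_attach _ ⟨c, hc⟩)
        obtain ⟨e, he⟩ := hdvd
        rw [he, Submonoid.coe_mul, mul_comm (g c _ : Γ(U.left, V)), mul_assoc, hg, mul_zero]
      have h5 := (Submodule.mem_bot _).1 (Submodule.mem_colon.1 (this hb) _ rfl)
      rw [smul_eq_mul, mul_comm] at h5
      exact h5
    have hzt : z ∈ U.left.basicOpen (t : Γ(U.left, V)) := by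
      rw [Scheme.mem_basicOpen _ _ _ hzV]
      exact IsLocalization.map_units (U.left.presheaf.stalk z) t
    obtain ⟨u', hu', huu⟩ := hW _ hzt
    have hu'red : _root_.IsReduced (U.left.presheaf.stalk u') := by
      have hu'V : u' ∈ V := U.left.basicOpen_le _ hu'
      letI := TopCat.Presheaf.algebra_section_stalk U.left.presheaf ⟨u', hu'V⟩
      haveI := hV.isLocalization_stalk ⟨u', hu'V⟩
      refine ⟨fun c ⟨n, hn⟩ => ?_⟩
      obtain ⟨b, w, rfl⟩ := IsLocalization.exists_mk'_eq (hV.primeIdealOf ⟨u', hu'V⟩).asIdeal.primeCompl c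
      rw [← IsLocalization.mk'_pow, IsLocalization.mk'_eq_zero_iff] at hn
      obtain ⟨m, hm⟩ := hn
      have hnil : (m : Γ(U.left, V)) * b ∈ nilradical Γ(U.left, V) := mem_nilradical.2 ⟨n + 1, by
        rw [mul_pow, pow_succ b, pow_succ (m : Γ(U.left, V))]
        calc _ = (m : Γ(U.left, V)) ^ n * b * ((m : Γ(U.left, V)) * b ^ n) := by ring
          _ = 0 := by rw [hm, mul_zero]⟩
      have htu : IsUnit (algebraMap Γ(U.left, V) (U.left.presheaf.stalk u') t) :=
        (Scheme.mem_basicOpen _ _ _ hu'V).1 hu'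
      have h0 := congrArg (algebraMap Γ(U.left, V) (U.left.presheaf.stalk u')) (ht _ hnil)
      rw [map_mul, map_zero, htu.mul_right_eq_zero, map_mul,
        (IsLocalization.map_units (U.left.presheaf.stalk u') m).mul_right_eq_zero] at h0
      rw [IsLocalization.mk'_eq_zero_iff]
      exact (IsLocalization.map_eq_zero_iff _ (U.left.presheaf.stalk u') b).1 h0
    obtain ⟨W, p, q, hp, hq, sqW, -⟩ := Groth.Agent.SpPts86.exists_common_chart X.property ha ha
    obtain ⟨w, hw1, hw2⟩ := Groth.Agent.SpPts86.exists_pt_common_chart sqW u' u huu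
    haveI := hp
    haveI := hq
    rw [← hw2, ← Groth.Agent.Unr55.isReduced_stalk_iff_of_etale q.left w,
      Groth.Agent.Unr55.isReduced_stalk_iff_of_etale p.left w, hw1]
    exact hu'red
  refine ⟨⟨U, a, ha, has, hU⟩, fun Xη fst snd sq => ?_⟩
  obtain ⟨Uη, q, r, sqη⟩ := Groth.Agent.SpFP87.exists_isPullback_yon (AlgSp.IsAlgSpace.yon_obj T₀).diag
    ((AlgSp.yon S₀).map h) ((AlgSp.yon S₀).map
      (Over.homMk (Spec.map (CommRingCat.ofHom (algebraMap R (FractionRing R)))) (Category.comp_id _) :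
        Over.mk (Spec.map (CommRingCat.ofHom (algebraMap R (FractionRing R)))) ⟶ T₀))
  let aη : (AlgSp.yon S₀).obj Uη ⟶ Xη := sq.lift ((AlgSp.yon S₀).map q ≫ a) ((AlgSp.yon S₀).map r)
    (by rw [Category.assoc, ← hh]; exact sqη.w)
  have hsq : IsPullback ((AlgSp.yon S₀).map q) aη a fst := by
    refine IsPullback.of_bot ?_ (sq.lift_fst _ _ _).symm sq
    rw [sq.lift_snd, ← hh]; exact sqη
  refine ⟨Uη, aη, (AlgSp.repWith_isStableUnderBaseChange (S := S₀) @Etale).of_isPullback hsq ha,
    (AlgSp.repWith_isStableUnderBaseChange (S := S₀) @Surjective).of_isPullback hsq has, ?_⟩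
  haveI := hU
  haveI : IsOpenImmersion q.left := MorphismProperty.of_isPullback (P := @IsOpenImmersion)
    (Groth.Agent.SpFP87.isPullback_left sqη).flip (Groth.Agent.LimTop61.ReducedSp.isOpenImmersion_specFrac R)
  exact isReduced_of_isOpenImmersion q.left

end Groth.Agent.S10669
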