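import Groth.Statements.S10670
import Groth.Agent.LimTop61.GorPt
import Groth.Agent.LimTop61.SpFibreDim
import Groth.Agent.FBase64.Geometric
import Mathlib.AlgebraicGeometry.Geometrically.Connected

set_option backward.isDefEq.respectTransparency false
set_option linter.style.haveILetI false

universe w

open CategoryTheory CategoryTheory.Limits AlgebraicGeometry AlgSp Groth.Agent.SpFP87 Groth.Agent.SpPts86

namespace Groth.Agent.S10670

variable {S : Scheme.{w}}

theorem card_eq_of_ext {k T : Over S} (c : T ⟶ k) [GeometricallyConnected c.left] [UniversallyOpen c.left]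
    {Q P : Sp S} (hQ : IsAlgSpace Q) (q : Q ⟶ (yon S).obj k) (p : P ⟶ (yon S).obj T) (pr : P ⟶ Q)
    (sq : IsPullback pr p q ((yon S).map c)) :
    ENat.card (_root_.ConnectedComponents (Points P)) = ENat.card (_root_.ConnectedComponents (Points Q)) := by
  obtain ⟨U, α, hα, hαs⟩ := hQ.atlas
  obtain ⟨s, hs⟩ := (yon S).map_surjective (α ≫ q)
  have hW : IsPullback ((yon S).map (pullback.fst s c)) ((yon S).map (pullback.snd s c)) ((yon S).map s)
      ((yon S).map c) := (IsPullback.of_hasPullback s c).map (yon S)
  let a' := sq.lift ((yon S).map (pullback.fst s c) ≫ α) ((yon S).map (pullback.snd s c))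
    (by rw [Category.assoc, ← hs]; exact hW.w)
  have ha' : IsPullback a' ((yon S).map (pullback.fst s c)) pr α := by
    refine (IsPullback.of_bot ?_ (sq.lift_fst _ _ _).symm sq).flip
    rw [sq.lift_snd, ← hs]
    exact hW
  have hr₁ : IsPullback (pullback.fst s c).left (pullback.snd s c).left s.left c.left :=
    (IsPullback.of_hasPullback s c).map (Over.forget S)
  haveI : GeometricallyConnected (pullback.fst s c).left := MorphismProperty.of_isPullback hr₁.flip inferInstance
  haveI : UniversallyOpen (pullback.fst s c).left := MorphismProperty.of_isPullback hr₁.flip inferInstance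
  have hsurj : Function.Surjective (Points.map pr) := fun z => by
    obtain ⟨u, rfl⟩ := surjective_ofPt hαs z
    obtain ⟨v, hv⟩ := (pullback.fst s c).left.surjective u
    exact ⟨Points.ofPt a' v, by rw [map_ofPt_fst ha' v, hv]⟩
  have hfib : ∀ z, _root_.IsConnected (Points.map pr ⁻¹' {z}) := fun z => by
    obtain ⟨u, rfl⟩ := surjective_ofPt hαs z
    have : Points.map pr ⁻¹' {Points.ofPt α u} = Points.ofPt a' '' ((pullback.fst s c).left ⁻¹' {u}) := by
      ext y
      constructor
      · intro hy
        obtain ⟨v, hv1, hv2⟩ := exists_pt_of_isPullback ha' y u hy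
        exact ⟨v, hv2, hv1⟩
      · rintro ⟨v, hv, rfl⟩
        rw [Set.mem_preimage, map_ofPt_fst ha' v, Set.mem_preimage.1 hv]
        rfl
    rw [this]
    exact ((pullback.fst s c).left.isConnected_preimage_singleton u).image _
      (Points.continuous_ofPt a').continuousOn
  have hopen : IsOpenMap (Points.map pr) := fun O hO => by
    rw [← (isOpenQuotientMap_ofPt hα hαs).isQuotientMap.isOpen_preimage, preimage_ofPt_image_map ha']
    exact (pullback.fst s c).left.isOpenMap _ (hO.preimage (Points.continuous_ofPt a'))
  exact ENat.card_congr ((hopen.isQuotientMap (Points.continuous_map pr) hsurj).isCoinducing.connectedComponentsHomeomorph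
    hfib).toEquiv

theorem geometricallyConnected_specMap {k L : Type w} [Field k] [Field L] [IsAlgClosed k]
    (c : Spec (CommRingCat.of L) ⟶ Spec (CommRingCat.of k)) : GeometricallyConnected c := by
  obtain ⟨φ, rfl⟩ := Spec.map_surjective c
  haveI : GeometricallyIrreducible (Spec.map φ) := FBase64.geometricallyIrreducible_specMap_of_isSepClosed φ.hom
  exact FBase64.geometricallyConnected_of_geometricallyIrreducible _

theorem card_points_eq_of_iso {P Q : Sp S} (e : P ≅ Q) :
    ENat.card (_root_.ConnectedComponents (Points P)) = ENat.card (_root_.ConnectedComponents (Points Q)) := by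
  let h : Points P ≃ₜ Points Q :=
    { toFun := Points.map e.hom
      invFun := Points.map e.inv
      left_inv := fun x => by rw [← Points.map_comp, e.hom_inv_id, Points.map_id]
      right_inv := fun x => by rw [← Points.map_comp, e.inv_hom_id, Points.map_id]
      continuous_toFun := Points.continuous_map _
      continuous_invFun := Points.continuous_map _ }
  exact ENat.card_congr
    { toFun := h.continuous.connectedComponentsMap
      invFun := h.symm.continuous.connectedComponentsMap
      left_inv := fun x => by
        obtain ⟨x, rfl⟩ := ConnectedComponents.surjective_coe x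
        simp [Continuous.connectedComponentsMap_mk]
      right_inv := fun x => by
        obtain ⟨x, rfl⟩ := ConnectedComponents.surjective_coe x
        simp [Continuous.connectedComponentsMap_mk] }

theorem yon_map_toHom {F : Sp S} {T : Over S} (p : FieldPt F) (a : T ⟶ p.pt) :
    (yon S).map a ≫ p.toHom = uE.symm (F.obj.map a.op p.val) :=
  GrothendieckTopology.uliftYonedaEquiv_symm_naturality_left _ _ _ _

end Groth.Agent.S10670

set_option autoImplicit false
universe u
open CategoryTheory CategoryTheory.Limits AlgebraicGeometry
open AlgSp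

namespace Groth.Agent.S10670

/-- For morphisms f : X ⟶ Y and g : Y' ⟶ Y between algebraic spaces over S, f' : X' ⟶ Y' the base change
of f along g, an algebraically closed field point k' of Y' and an algebraically closed field point k
of Y whose class in |Y| is the image of the class of k', the fibres X'_{k'} and X_k (pullbacks in
fppf sheaves) have the same number of connected components of their spaces of points, counted in ℕ∞.
With g the identity this says the number of geometric connected components of the fibre over a point
of |Y| is well defined. -/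
theorem result {S : Scheme.{u}} {X Y X' Y' : AlgSp.Space S} (f : X ⟶ Y) (g : Y' ⟶ Y) (gX : X' ⟶ X) (f' : X' ⟶ Y')
    (hsq : IsPullback gX.hom f'.hom f.hom g.hom)
    (k' : AlgSp.FieldPt Y'.obj) (hk' : k'.IsGeometric) (k : AlgSp.FieldPt Y.obj) (hk : k.IsGeometric)
    (hkk : AlgSp.Points.mk k = AlgSp.Points.map g.hom (AlgSp.Points.mk k'))
    (Xk' : AlgSp.Sp S) (a' : Xk' ⟶ X'.obj) (b' : Xk' ⟶ (AlgSp.yon S).obj k'.pt) (h' : IsPullback a' b' f'.hom k'.toHom)
    (Xk : AlgSp.Sp S) (a : Xk ⟶ X.obj) (b : Xk ⟶ (AlgSp.yon S).obj k.pt) (h : IsPullback a b f.hom k.toHom) :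
    ENat.card (_root_.ConnectedComponents (AlgSp.Points Xk')) = ENat.card (_root_.ConnectedComponents (AlgSp.Points Xk)) := by
  rw [show AlgSp.Points.map g.hom (AlgSp.Points.mk k') = AlgSp.Points.mk (k'.map g.hom) from rfl,
    AlgSp.Points.mk_eq_mk_iff] at hkk
  obtain ⟨Ω, _, w, c, c', hc⟩ := hkk
  have hcc : (AlgSp.yon S).map c ≫ k.toHom = ((AlgSp.yon S).map c' ≫ k'.toHom) ≫ g.hom := by
    have h1 : (AlgSp.yon S).map c' ≫ (k'.map g.hom).toHom = ((AlgSp.yon S).map c' ≫ k'.toHom) ≫ g.hom := by
      rw [LimTop61.fieldPt_toHom_map, Category.assoc]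
    rw [← h1, yon_map_toHom, yon_map_toHom]
    exact congrArg _ hc
  have hXk := SpFP87.isAlgSpace_of_isPullback h X.property (AlgSp.IsAlgSpace.yon_obj _) Y.property.diag
  have hXk' := SpFP87.isAlgSpace_of_isPullback h' X'.property (AlgSp.IsAlgSpace.yon_obj _) Y'.property.diag
  haveI : IsAlgClosed k.K := hk
  haveI : IsAlgClosed k'.K := hk'
  haveI : GeometricallyConnected c.left := geometricallyConnected_specMap (k := k.K) (L := Ω) c.left
  haveI : GeometricallyConnected c'.left := geometricallyConnected_specMap (k := k'.K) (L := Ω) c'.left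
  haveI : UniversallyOpen c.left :=
    (inferInstance : UniversallyOpen (show Spec (CommRingCat.of Ω) ⟶ Spec (CommRingCat.of k.K) from c.left))
  haveI : UniversallyOpen c'.left :=
    (inferInstance : UniversallyOpen (show Spec (CommRingCat.of Ω) ⟶ Spec (CommRingCat.of k'.K) from c'.left))
  have sq1 := IsPullback.of_hasPullback b ((AlgSp.yon S).map c)
  have sq2 := IsPullback.of_hasPullback b' ((AlgSp.yon S).map c')
  have big1 := sq1.paste_horiz h
  have big2 := sq2.paste_horiz (h'.paste_horiz hsq)
  rw [← Category.assoc ((AlgSp.yon S).map c'), ← hcc] at big2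
  rw [← card_eq_of_ext c hXk b _ _ sq1, ← card_eq_of_ext c' hXk' b' _ _ sq2]
  exact card_points_eq_of_iso (big2.isoIsPullback _ _ big1)

end Groth.Agent.S10670
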