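import Groth.Statements.S10680
import Groth.Agent.LimTop61.SpFibreDim

set_option autoImplicit false
universe u
open CategoryTheory CategoryTheory.Limits AlgebraicGeometry
open AlgSp

namespace Groth.Agent.S10680

/-- For a proper morphism f : X ⟶ Y between algebraic spaces over S the fibre dimension function on |Y|
is upper semi-continuous: for every d the set of y such that every fibre X_k over y (k a field point
in the class of y, X_k any pullback in fppf sheaves) has dimension less than d is open. -/
theorem result {S : Scheme.{u}} {X Y : AlgSp.Space S} (f : X ⟶ Y) (hf : AlgSp.IsProperMor f.hom) (d : WithBot ℕ∞) :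
    IsOpen {y : AlgSp.Points Y.obj | ∀ (k : AlgSp.FieldPt Y.obj), AlgSp.Points.mk k = y →
      ∀ (Xk : AlgSp.Sp S) (fst : Xk ⟶ X.obj) (snd : Xk ⟶ (AlgSp.yon S).obj k.pt),
        IsPullback fst snd f.hom k.toHom → AlgSp.dim Xk < d} := by
  have hl := hf.2.1.1
  have hcl := Groth.Agent.LimTop61.SpFibreDim.isClosedMap_of_isUnivClosedMor Y.property hf.2.2
  induction d using WithBot.recBotCoe with
  | bot =>
    rw [Groth.Agent.LimTop61.SpFibreDim.forall_fibre_iff (· < ⊥) (fun _ => False) fun k Xk a b sq => iff_false_intro not_lt_bot]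
    exact isOpen_empty
  | coe d => induction d using ENat.recTopCoe with
    | top =>
      rw [Groth.Agent.LimTop61.SpFibreDim.forall_fibre_iff (· < ((⊤ : ℕ∞) : WithBot ℕ∞)) (fun _ => True) fun k Xk a b sq => iff_true_intro (by
        obtain ⟨n, hn⟩ := Groth.Agent.LimTop61.SpFibreDim.exists_dim_le X.property Y.property hl hf.2.1.2 sq
        exact lt_of_le_of_lt hn (WithBot.coe_lt_coe.2 (ENat.natCast_lt_top n)))]
      exact isOpen_univ
    | coe n =>
      cases n with
      | zero =>
        simp only [Nat.cast_zero, WithBot.coe_zero, Groth.Agent.LimTop61.SpFibreDim.lt_zero_iff]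
        exact Groth.Agent.LimTop61.SpFibreDim.isOpen_le X.property Y.property hl hcl ⊥ WithBot.bot_ne_coe
      | succ m =>
        have hiff : ∀ x : WithBot ℕ∞, x < (((m + 1 : ℕ) : ℕ∞) : WithBot ℕ∞) ↔ x ≤ ((m : ℕ∞) : WithBot ℕ∞) :=
          fun x => Groth.Agent.LimTop61.SpFibreDim.lt_succ_iff x m
        simp only [hiff]
        exact Groth.Agent.LimTop61.SpFibreDim.isOpen_le X.property Y.property hl hcl _
          (fun h => ENat.natCast_ne_top m (WithBot.coe_injective h))

end Groth.Agent.S10680
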