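import Groth.Statements.S10682
import Groth.Agent.LimTop61.GeomRedFibres

set_option autoImplicit false
universe u
open CategoryTheory CategoryTheory.Limits AlgebraicGeometry
open AlgSp

namespace Groth.Agent.S10682

/-- For a flat proper morphism f : X ⟶ Y between algebraic spaces over S which is of finite
presentation, the set of points y of |Y| at which the fibre of f is geometrically reduced is open in
|Y|; here the fibre of f at y being geometrically reduced means: for every field point k of Y in the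
class of y and every field homomorphism k ⟶ k', the base change X_{k'} (pullback in fppf sheaves) is
reduced (some etale surjective scheme chart is reduced). -/
theorem result {S : Scheme.{u}} {X Y : AlgSp.Space S} (f : X ⟶ Y)
    (hf1 : AlgSp.LocP @Flat f.hom) (hf2 : AlgSp.IsProperMor f.hom) (hf3 : AlgSp.IsFinitePresentationMor f.hom) :
    IsOpen {y : AlgSp.Points Y.obj | ∀ (k : AlgSp.FieldPt Y.obj), AlgSp.Points.mk k = y →
        ∀ (k' : Type u) [Field k'] (φ : k.K →+* k') (Xk' : AlgSp.Sp S) (a : Xk' ⟶ X.obj)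
          (b : Xk' ⟶ (AlgSp.yon S).obj (Over.mk (Spec.map (CommRingCat.ofHom φ) ≫ k.str))),
          IsPullback a b f.hom ((AlgSp.yon S).map (Over.homMk (Spec.map (CommRingCat.ofHom φ)) rfl :
            Over.mk (Spec.map (CommRingCat.ofHom φ) ≫ k.str) ⟶ k.pt) ≫ k.toHom) →
          AlgSp.EtaleLocally (fun U => IsReduced U) Xk'} := by
  change IsOpen (LimTop61.GeomRedFibres.Good f)
  obtain ⟨V, b, hb, hbs⟩ := Y.property.atlas
  have hP := SpFP87.isAlgSpace_pullback f.hom b X.property (AlgSp.IsAlgSpace.yon_obj _) Y.property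
  obtain ⟨U, α, hα, hαs⟩ := hP.atlas
  obtain ⟨h, hh⟩ := (AlgSp.yon S).map_surjective (α ≫ pullback.snd f.hom b)
  have sqP := IsPullback.of_hasPullback f.hom b
  have haX : AlgSp.RepWith @Etale (α ≫ pullback.fst f.hom b) :=
    (AlgSp.repWith_isMultiplicative (S := S) @Etale).comp_mem _ _ hα
      ((AlgSp.repWith_isStableUnderBaseChange _).of_isPullback sqP.flip hb)
  have w : (α ≫ pullback.fst f.hom b) ≫ f.hom = (AlgSp.yon S).map h ≫ b := by
    rw [hh, Category.assoc, Category.assoc, pullback.condition]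
  haveI : Flat h.left := hf1 _ b h haX hb w
  haveI : LocallyOfFinitePresentation h.left := hf3.1 _ b h haX hb w
  let G : Set ↥U.left := {u | LimTop61.GeomRedFibres.GR h.left u}
  have hG : IsOpen G := Sk62.isOpen_isGeomReducedAt_fibre h.left
  let F : Set (AlgSp.Points (pullback f.hom b)) := (AlgSp.Points.ofPt α '' G)ᶜ
  have hF : IsClosed F := (SpPts86.isOpenMap_ofPt hα _ hG).isClosed_compl
  have hcl : IsClosedMap (AlgSp.Points.map (pullback.snd f.hom b)) :=
    hf2.2.2 (AlgSp.IsAlgSpace.yon_obj _) b _ _ sqP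
  rw [← (SpPts86.isOpenQuotientMap_ofPt hb hbs).isQuotientMap.isOpen_preimage]
  have : AlgSp.Points.ofPt b ⁻¹' LimTop61.GeomRedFibres.Good f =
      ((AlgSp.Points.schemeHomeo V) ⁻¹' (AlgSp.Points.map (pullback.snd f.hom b) '' F))ᶜ := by
    ext v
    rw [Set.mem_preimage, LimTop61.GeomRedFibres.mem_good_iff hα hαs hh v]
    refine ⟨fun H ⟨z, hz, hzv⟩ => ?_, fun H u hu => ?_⟩
    · obtain ⟨u, rfl⟩ := SpPts86.surjective_ofPt hαs z
      rw [AlgSp.Points.map_ofPt, ← hh, SpPts86.ofPt_yon_map] at hzv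
      exact hz ⟨u, H u ((AlgSp.Points.schemeHomeo V).injective hzv), rfl⟩
    · by_contra hu'
      refine H ⟨AlgSp.Points.ofPt α u, fun ⟨u', hu'G, e⟩ => hu' (LimTop61.GeomRedFibres.gr_congr hα hh e hu'G), ?_⟩
      rw [AlgSp.Points.map_ofPt, ← hh, SpPts86.ofPt_yon_map, hu]
      rfl
  rw [this]
  exact ((hcl _ hF).preimage (AlgSp.Points.schemeHomeo V).continuous).isOpen_compl

end Groth.Agent.S10682
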