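import Groth.Statements.S10683
import Groth.Agent.LimTop61.GeomRedFibres
import Groth.Agent.NearGen2.GeomReduced
import Groth.Agent.SpPts86.Compact

set_option autoImplicit false
universe u
open CategoryTheory CategoryTheory.Limits AlgebraicGeometry
open AlgSp

namespace Groth.Agent.S10683

/-- For a quasi-compact morphism f : X ⟶ Y between algebraic spaces over S which is locally of finite
presentation, the set E of points of |Y| at which the fibre of f is geometrically reduced is etale
locally constructible: for every affine scheme V with a representable etale a : h_V ⟶ Y, the inverse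
image of E in V is a constructible subset. Here the fibre of f at y being geometrically reduced
means: for every field point k of Y in the class of y and every field homomorphism k ⟶ k', the base
change X_{k'} (pullback in fppf sheaves) is reduced (some etale surjective scheme chart is reduced). -/
theorem result {S : Scheme.{u}} {X Y : AlgSp.Space S} (f : X ⟶ Y)
    (hf1 : AlgSp.IsQuasiCompactMor f.hom) (hf2 : AlgSp.LocP @LocallyOfFinitePresentation f.hom)
    (V : Over S) (hV : IsAffine V.left) (a : (AlgSp.yon S).obj V ⟶ Y.obj) (ha : AlgSp.RepWith @Etale a) :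
    Topology.IsConstructible ((AlgSp.Points.ofPt a) ⁻¹' {y : AlgSp.Points Y.obj | ∀ (k : AlgSp.FieldPt Y.obj), AlgSp.Points.mk k = y →
        ∀ (k' : Type u) [Field k'] (φ : k.K →+* k') (Xk' : AlgSp.Sp S) (a : Xk' ⟶ X.obj)
          (b : Xk' ⟶ (AlgSp.yon S).obj (Over.mk (Spec.map (CommRingCat.ofHom φ) ≫ k.str))),
          IsPullback a b f.hom ((AlgSp.yon S).map (Over.homMk (Spec.map (CommRingCat.ofHom φ)) rfl :
            Over.mk (Spec.map (CommRingCat.ofHom φ) ≫ k.str) ⟶ k.pt) ≫ k.toHom) →
          AlgSp.EtaleLocally (fun U => IsReduced U) Xk'}) := by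
  haveI := hV
  change Topology.IsConstructible ((AlgSp.Points.ofPt a) ⁻¹' LimTop61.GeomRedFibres.Good f)
  have hP := SpFP87.isAlgSpace_pullback f.hom a X.property (AlgSp.IsAlgSpace.yon_obj _) Y.property
  have sqP := IsPullback.of_hasPullback f.hom a
  haveI : CompactSpace ↥V.left := inferInstance
  haveI := SpPts86.compactSpace_points_yon V
  haveI := SpPts86.compactSpace_of_isQuasiCompactMor hf1 (AlgSp.IsAlgSpace.yon_obj V) sqP
  obtain ⟨U, α, hU, hα, hαs⟩ := SpPts86.exists_affine_chart_of_compactSpace hP
  haveI := hU
  obtain ⟨h, hh⟩ := (AlgSp.yon S).map_surjective (α ≫ pullback.snd f.hom a)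
  have haX : AlgSp.RepWith @Etale (α ≫ pullback.fst f.hom a) :=
    (AlgSp.repWith_isMultiplicative (S := S) @Etale).comp_mem _ _ hα
      ((AlgSp.repWith_isStableUnderBaseChange _).of_isPullback sqP.flip ha)
  have w : (α ≫ pullback.fst f.hom a) ≫ f.hom = (AlgSp.yon S).map h ≫ a := by
    rw [hh, Category.assoc, Category.assoc, pullback.condition]
  haveI : LocallyOfFinitePresentation h.left := hf2 _ a h haX ha w
  have hset : AlgSp.Points.ofPt a ⁻¹' LimTop61.GeomRedFibres.Good f =
      {v : ↥V.left | GeometricallyReduced (h.left.fiberToSpecResidueField v)} := by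
    ext v
    rw [Set.mem_preimage, LimTop61.GeomRedFibres.mem_good_iff hα hαs hh v, LimTop61.GeomRedFibres.gr_iff_fiber]
    exact (FBase64.geometricallyReduced_iff_forall _).symm
  rw [hset]
  exact (NearGen2.isLocallyConstructible_geomReduced h.left).isConstructible

end Groth.Agent.S10683
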