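import Groth.Statements.S10686
import Groth.Agent.S10561
import Groth.Agent.SpFP87.FpqcBase

set_option autoImplicit false
universe u
open CategoryTheory CategoryTheory.Limits AlgebraicGeometry
open AlgSp

namespace Groth.Agent.S10686

/-- For a morphism f : X ⟶ Y between algebraic spaces over S and a point y of |Y|, write X_k for the
fibre (pullback in fppf sheaves) over a field point k of Y and call X_k geometrically reduced when
for every field homomorphism k ⟶ k' the base change X_{k'} is reduced (some etale surjective scheme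
chart reduced). The following are equivalent: (1) X_k is geometrically reduced for some k in the
class of y; (2) X_k is geometrically reduced for every k in the class of y; (3) X_k is reduced for
every k in the class of y. -/
theorem result {S : Scheme.{u}} {X Y : AlgSp.Space S} (f : X ⟶ Y) (y : AlgSp.Points Y.obj) :
    [∃ (k : AlgSp.FieldPt Y.obj), AlgSp.Points.mk k = y ∧
        ∀ (k' : Type u) [Field k'] (φ : k.K →+* k') (Xk' : AlgSp.Sp S) (a : Xk' ⟶ X.obj)
          (b : Xk' ⟶ (AlgSp.yon S).obj (Over.mk (Spec.map (CommRingCat.ofHom φ) ≫ k.str))),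
          IsPullback a b f.hom ((AlgSp.yon S).map (Over.homMk (Spec.map (CommRingCat.ofHom φ)) rfl :
            Over.mk (Spec.map (CommRingCat.ofHom φ) ≫ k.str) ⟶ k.pt) ≫ k.toHom) →
          AlgSp.EtaleLocally (fun U => IsReduced U) Xk',
      ∀ (k : AlgSp.FieldPt Y.obj), AlgSp.Points.mk k = y →
        ∀ (k' : Type u) [Field k'] (φ : k.K →+* k') (Xk' : AlgSp.Sp S) (a : Xk' ⟶ X.obj)
          (b : Xk' ⟶ (AlgSp.yon S).obj (Over.mk (Spec.map (CommRingCat.ofHom φ) ≫ k.str))),
          IsPullback a b f.hom ((AlgSp.yon S).map (Over.homMk (Spec.map (CommRingCat.ofHom φ)) rfl :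
            Over.mk (Spec.map (CommRingCat.ofHom φ) ≫ k.str) ⟶ k.pt) ≫ k.toHom) →
          AlgSp.EtaleLocally (fun U => IsReduced U) Xk',
      ∀ (k : AlgSp.FieldPt Y.obj), AlgSp.Points.mk k = y →
        ∀ (Xk : AlgSp.Sp S) (a : Xk ⟶ X.obj) (b : Xk ⟶ (AlgSp.yon S).obj k.pt), IsPullback a b f.hom k.toHom →
          AlgSp.EtaleLocally (fun U => IsReduced U) Xk].TFAE := by
  tfae_have 3 → 2 := fun h k hk k' _ φ Xk' a b sq => by
    let d : (Over.mk (Spec.map (CommRingCat.ofHom φ) ≫ k.str) : Over S) ⟶ k.pt :=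
      Over.homMk (Spec.map (CommRingCat.ofHom φ)) rfl
    let k'' : AlgSp.FieldPt Y.obj :=
      ⟨k', Spec.map (CommRingCat.ofHom φ) ≫ k.str, Y.obj.obj.map d.op k.val⟩
    have h1 : k''.toHom = (AlgSp.yon S).map d ≫ k.toHom := by
      apply (AlgSp.J S).uliftYonedaEquiv.injective
      rw [AlgSp.FieldPt.uliftYonedaEquiv_toHom]
      exact (congrArg _ (AlgSp.FieldPt.uliftYonedaEquiv_toHom k).symm).trans ((AlgSp.J S).uliftYonedaEquiv_naturality k.toHom d)
    refine h k'' ((AlgSp.Points.sound ⟨k', inferInstance, _, 𝟙 _, d, ?_⟩).trans hk) Xk' a b (h1 ▸ sq)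
    rw [op_id, Functor.map_id_apply]
  tfae_have 2 → 1 := fun h => by
    obtain ⟨k, hk⟩ := AlgSp.Points.mk_surjective y
    exact ⟨k, hk, h k hk⟩
  tfae_have 1 → 3 := by
    rintro ⟨k, hk, h⟩ k₂ hk₂ Xk a b sq
    obtain ⟨Ω, _, w, c, d, hcd⟩ := AlgSp.Points.mk_eq_mk_iff.1 (hk.trans hk₂.symm)
    have hcd' : (AlgSp.yon S).map c ≫ k.toHom = (AlgSp.yon S).map d ≫ k₂.toHom := by
      apply (AlgSp.J S).uliftYonedaEquiv.injective
      rw [← GrothendieckTopology.uliftYonedaEquiv_naturality, ← GrothendieckTopology.uliftYonedaEquiv_naturality,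
        AlgSp.FieldPt.uliftYonedaEquiv_toHom, AlgSp.FieldPt.uliftYonedaEquiv_toHom]
      exact hcd
    have hXk := Groth.Agent.SpFP87.isAlgSpace_of_isPullback sq X.property (AlgSp.IsAlgSpace.yon_obj _) Y.property.diag
    have hXΩ := Groth.Agent.SpFP87.isAlgSpace_pullback b ((AlgSp.yon S).map d) hXk (AlgSp.IsAlgSpace.yon_obj _) (AlgSp.IsAlgSpace.yon_obj _)
    have sqΩ := IsPullback.of_hasPullback b ((AlgSp.yon S).map d)
    have big := sqΩ.paste_horiz sq
    rw [← hcd'] at big
    obtain ⟨φ, hφ⟩ := Spec.map_surjective c.left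
    have hw : Spec.map φ ≫ k.str = w := by rw [hφ]; exact Over.w c
    have hd : Flat d.left := by
      obtain ⟨ψ, hψ⟩ := Spec.map_surjective d.left
      have : Flat (Spec.map ψ) := HasRingHomProperty.Spec_iff.2 (by
        let := ψ.hom.toAlgebra
        exact (inferInstance : Module.Flat k₂.K Ω))
      exact hψ ▸ this
    subst hw
    have key : AlgSp.EtaleLocally (fun U => IsReduced U) (pullback b ((AlgSp.yon S).map d)) := by
      refine h Ω φ.hom _ (pullback.fst b ((AlgSp.yon S).map d) ≫ a) (pullback.snd b ((AlgSp.yon S).map d)) ?_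
      have hc : c = (Over.homMk (Spec.map (CommRingCat.ofHom φ.hom)) rfl :
          Over.mk (Spec.map (CommRingCat.ofHom φ.hom) ≫ k.str) ⟶ k.pt) := by
        ext : 1
        exact hφ.symm
      rw [hc] at big
      exact big
    have hfl : AlgSp.LocP @Flat (pullback.fst b ((AlgSp.yon S).map d)) :=
      Groth.Agent.SpFP87.locP_baseChange sqΩ.flip (AlgSp.IsAlgSpace.yon_obj _) (AlgSp.IsAlgSpace.yon_obj _) hXk
        ((Groth.Agent.SpFP87.locP_yon_map_iff _).2 hd)
    have hs : AlgSp.IsSurjectiveMor (pullback.fst b ((AlgSp.yon S).map d)) := by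
      refine Groth.Agent.SpFP87.isSurjectiveMor_baseChange sqΩ.flip fun z => ?_
      have : Subsingleton (AlgSp.Points ((AlgSp.yon S).obj k₂.pt)) :=
        haveI : Subsingleton ↥k₂.pt.left := inferInstanceAs (Subsingleton (PrimeSpectrum k₂.K))
        (AlgSp.Points.schemeEquiv k₂.pt).symm.subsingleton
      exact ⟨AlgSp.Points.ofScheme _ (IsLocalRing.closedPoint Ω), Subsingleton.elim _ _⟩
    exact Groth.Agent.S10561.result (X := ⟨_, hXΩ⟩) (Y := ⟨_, hXk⟩) (ObjectProperty.homMk (pullback.fst b ((AlgSp.yon S).map d)))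
      hfl hs key
  tfae_finish

end Groth.Agent.S10686
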