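import Groth.Statements.S10687
import Groth.Agent.LimTop61.GorPt
import Groth.Agent.S3627

set_option autoImplicit false
universe u
open CategoryTheory CategoryTheory.Limits AlgebraicGeometry
open AlgSp

namespace Groth.Agent.S10687

/-- For morphisms f : X ⟶ Y and g : Y ⟶ Z between algebraic spaces over S whose fibres, and those of f ≫
g, are locally Noetherian, and a point x of |X|: (1) if g is Gorenstein at the image of x and f is
Gorenstein at x itself, then so is f ≫ g at x; (2) if f ≫ g is Gorenstein at x and f is flat there,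
then f is Gorenstein at x and g at the image of x. Here f is Gorenstein at x when in every etale
chart diagram through x the top arrow is Gorenstein at the point over x (flat there, with Gorenstein
local ring of its fibre), and the fibres of a morphism are locally Noetherian when every fibre over
a field point (pullback in fppf sheaves) is a locally Noetherian algebraic space. -/
theorem result {S : Scheme.{u}} {X Y Z : AlgSp.Space S} (f : X ⟶ Y) (g : Y ⟶ Z)
    (hf : ∀ (k : AlgSp.FieldPt Y.obj) (Xk : AlgSp.Sp S) (a : Xk ⟶ X.obj) (b : Xk ⟶ (AlgSp.yon S).obj k.pt),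
        IsPullback a b f.hom k.toHom → AlgSp.IsLocNoethSp Xk)
    (hg : ∀ (k : AlgSp.FieldPt Z.obj) (Xk : AlgSp.Sp S) (a : Xk ⟶ Y.obj) (b : Xk ⟶ (AlgSp.yon S).obj k.pt),
        IsPullback a b g.hom k.toHom → AlgSp.IsLocNoethSp Xk)
    (hfg : ∀ (k : AlgSp.FieldPt Z.obj) (Xk : AlgSp.Sp S) (a : Xk ⟶ X.obj) (b : Xk ⟶ (AlgSp.yon S).obj k.pt),
        IsPullback a b (f ≫ g).hom k.toHom → AlgSp.IsLocNoethSp Xk)
    (x : AlgSp.Points X.obj) :
    (AlgSp.LocPAt (fun h u => Dual3.IsGorensteinAt h u) f.hom x → AlgSp.LocPAt (fun h u => Dual3.IsGorensteinAt h u) g.hom (AlgSp.Points.map f.hom x) →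
        AlgSp.LocPAt (fun h u => Dual3.IsGorensteinAt h u) (f ≫ g).hom x) ∧
      (AlgSp.LocPAt (fun h u => Dual3.IsGorensteinAt h u) (f ≫ g).hom x → AlgSp.IsFlatAtMor f.hom x →
        AlgSp.LocPAt (fun h u => Dual3.IsGorensteinAt h u) f.hom x ∧ AlgSp.LocPAt (fun h u => Dual3.IsGorensteinAt h u) g.hom (AlgSp.Points.map f.hom x)) := by
  obtain ⟨C, c, hc, hcs⟩ := Z.property.atlas
  obtain ⟨V, b, k, hb, hbs, wg⟩ := SpFP87.exists_compatible_chart g.hom Y.property Z.property.diag hc hcs
  obtain ⟨U, a, h, ha, has, wf⟩ := SpFP87.exists_compatible_chart f.hom X.property Y.property.diag hb hbs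
  obtain ⟨u, rfl⟩ := SpPts86.surjective_ofPt has x
  have w : a ≫ (f ≫ g).hom = (AlgSp.yon S).map (h ≫ k) ≫ c := by
    rw [ObjectProperty.FullSubcategory.comp_hom, ← Category.assoc, wf, Category.assoc, wg, Functor.map_comp,
      Category.assoc]
  have hmap : AlgSp.Points.map f.hom (AlgSp.Points.ofPt a u) = AlgSp.Points.ofPt b (h.left u) := by
    rw [AlgSp.Points.map_ofPt, wf, SpPts86.ofPt_comp]
  rw [hmap, LimTop61.locPAt_gor_iff_chart X.property Y.property hf ha hb wf u,
    LimTop61.locPAt_gor_iff_chart Y.property Z.property hg hb hc wg (h.left u),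
    LimTop61.locPAt_gor_iff_chart X.property Z.property hfg ha hc w u,
    SpFP87.isFlatAtMor_iff_chart X.property Y.property ha hb wf u]
  exact S3627.result _ _ _ h.left k.left
    (LimTop61.isLocallyNoetherian_fiber_chart X.property Y.property hf ha hb wf)
    (LimTop61.isLocallyNoetherian_fiber_chart Y.property Z.property hg hb hc wg)
    (LimTop61.isLocallyNoetherian_fiber_chart X.property Z.property hfg ha hc w) u

end Groth.Agent.S10687
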