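import Groth.Statements.S10688
import Groth.Agent.LimTop61.GorPt
import Groth.Agent.S3625

set_option autoImplicit false
universe u
open CategoryTheory CategoryTheory.Limits AlgebraicGeometry
open AlgSp

namespace Groth.Agent.S10688

/-- For a morphism f : X ⟶ Y between algebraic spaces over S with locally Noetherian fibres, g : Y' ⟶ Y
locally of finite type, f' : X' ⟶ Y' the base change (a pullback square of algebraic spaces) with
projection g' : X' ⟶ X, and x' a point of |X'| with image x: (1) if f is Gorenstein at x then so is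
f' at x'; (2) when f is flat at x, Gorensteinness of f' at x' implies that of f at x; (3) the same
conclusion holds if instead g is flat at the image of x' and f' is Gorenstein at x'. Here f is
Gorenstein at x when in every etale chart diagram through x the top arrow is Gorenstein at the point
over x (flat there, with Gorenstein local ring of its fibre), and the fibres of a morphism are
locally Noetherian when every fibre over a field point (pullback in fppf sheaves) is a locally
Noetherian algebraic space. -/
theorem result {S : Scheme.{u}} {X Y X' Y' : AlgSp.Space S} (f : X ⟶ Y) (g : Y' ⟶ Y) (g' : X' ⟶ X) (f' : X' ⟶ Y')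
    (hsq : IsPullback g'.hom f'.hom f.hom g.hom)
    (hf : ∀ (k : AlgSp.FieldPt Y.obj) (Xk : AlgSp.Sp S) (a : Xk ⟶ X.obj) (b : Xk ⟶ (AlgSp.yon S).obj k.pt),
        IsPullback a b f.hom k.toHom → AlgSp.IsLocNoethSp Xk)
    (hg : AlgSp.LocP @LocallyOfFiniteType g.hom) (x' : AlgSp.Points X'.obj) :
    (AlgSp.LocPAt (fun h u => Dual3.IsGorensteinAt h u) f.hom (AlgSp.Points.map g'.hom x') → AlgSp.LocPAt (fun h u => Dual3.IsGorensteinAt h u) f'.hom x') ∧
      (AlgSp.IsFlatAtMor f.hom (AlgSp.Points.map g'.hom x') → AlgSp.LocPAt (fun h u => Dual3.IsGorensteinAt h u) f'.hom x' →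
        AlgSp.LocPAt (fun h u => Dual3.IsGorensteinAt h u) f.hom (AlgSp.Points.map g'.hom x')) ∧
      (AlgSp.IsFlatAtMor g.hom (AlgSp.Points.map f'.hom x') → AlgSp.LocPAt (fun h u => Dual3.IsGorensteinAt h u) f'.hom x' →
        AlgSp.LocPAt (fun h u => Dual3.IsGorensteinAt h u) f.hom (AlgSp.Points.map g'.hom x')) := by
  obtain ⟨A, V, V', W, a, b, b', c, h, k, n, h', ha, hb, hb', hc, hcs, sq, w, wg, wn, wf'⟩ :=
    LimTop61.exists_pullback_chart hsq X.property Y.property Y'.property
  obtain ⟨z, rfl⟩ := SpPts86.surjective_ofPt hcs x'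
  haveI : LocallyOfFiniteType k.left := hg b' b k hb' hb wg
  have hfibA := LimTop61.isLocallyNoetherian_fiber_chart X.property Y.property hf ha hb w
  have hN' : LimTop61.FibresNoeth f'.hom := by
    intro p Q q₁ q₂ sqQ
    let p' : AlgSp.FieldPt Y.obj := AlgSp.FieldPt.map g.hom p
    refine hf p' Q (q₁ ≫ g'.hom) q₂ ?_
    rw [show p'.toHom = p.toHom ≫ g.hom from LimTop61.fieldPt_toHom_map g.hom p]
    exact sqQ.paste_horiz hsq
  have hz : AlgSp.Points.map g'.hom (AlgSp.Points.ofPt c z) = AlgSp.Points.ofPt a (n.left z) := by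
    rw [AlgSp.Points.map_ofPt, wn, SpPts86.ofPt_comp]
  have hz' : AlgSp.Points.map f'.hom (AlgSp.Points.ofPt c z) = AlgSp.Points.ofPt b' (h'.left z) := by
    rw [AlgSp.Points.map_ofPt, wf', SpPts86.ofPt_comp]
  rw [hz, hz', LimTop61.locPAt_gor_iff_chart X.property Y.property hf ha hb w,
    LimTop61.locPAt_gor_iff_chart X'.property Y'.property hN' hc hb' wf',
    SpFP87.isFlatAtMor_iff_chart X.property Y.property ha hb w,
    SpFP87.isFlatAtMor_iff_chart Y'.property Y.property hb' hb wg]
  exact S3625.result _ _ _ _ h.left k.left h'.left n.left sq hfibA z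

end Groth.Agent.S10688
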