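import Groth.Statements.S10690
import Groth.Agent.LimTop61.GorPt
import Mathlib.AlgebraicGeometry.Morphisms.Flat

set_option backward.isDefEq.respectTransparency false
universe w

open CategoryTheory CategoryTheory.Limits AlgebraicGeometry AlgSp in
theorem Groth.Agent.S10690.exists_fibre_chart {S : Scheme.{w}} {X Y : Sp S} {f : X ⟶ Y} {V A : Over S}
    {b : (yon S).obj V ⟶ Y} {α : (yon S).obj A ⟶ pullback f b} {h : A ⟶ V}
    (hα : RepWith @Etale α) (hαs : RepWith @Surjective α) (hh : (yon S).map h = α ≫ pullback.snd f b)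
    (v : ↥V.left) {Xv : Sp S} (a : Xv ⟶ X) (c : Xv ⟶ (yon S).obj (Over.mk (V.left.fromSpecResidueField v ≫ V.hom)))
    (hXv : IsPullback a c f ((yon S).map (Over.homMk (V.left.fromSpecResidueField v) rfl :
              Over.mk (V.left.fromSpecResidueField v ≫ V.hom) ⟶ V) ≫ b)) :
    ∃ (T : Over S) (_ : T.left = h.left.fiber v) (t : (yon S).obj T ⟶ Xv),
      RepWith @Etale t ∧ RepWith @Surjective t := by
  let j : Over.mk (V.left.fromSpecResidueField v ≫ V.hom) ⟶ V := Over.homMk (V.left.fromSpecResidueField v) rfl
  let T : Over S := Over.mk (h.left.fiberι v ≫ A.hom)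
  let n : T ⟶ A := Over.homMk (h.left.fiberι v) rfl
  let q : T ⟶ Over.mk (V.left.fromSpecResidueField v ≫ V.hom) := Over.homMk (h.left.fiberToSpecResidueField v) (by
    change pullback.snd h.left _ ≫ V.left.fromSpecResidueField v ≫ V.hom = pullback.fst h.left _ ≫ A.hom
    rw [← pullback.condition_assoc, Over.w h])
  have hT₀ : IsPullback n q h j :=
    IsPullback.of_map (Over.forget S) (Over.OverMorphism.ext pullback.condition)
      (IsPullback.of_hasPullback h.left (V.left.fromSpecResidueField v))
  have hT : IsPullback ((yon S).map n) ((yon S).map q) ((yon S).map h) ((yon S).map j) := hT₀.map (yon S)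
  have sqP := IsPullback.of_hasPullback f b
  let φ : Xv ⟶ pullback f b := sqP.lift a (c ≫ (yon S).map j) (by rw [hXv.w, Category.assoc])
  have hφ : IsPullback φ c (pullback.snd f b) ((yon S).map j) := by
    refine IsPullback.of_right ?_ (sqP.lift_snd _ _ _) sqP
    rw [sqP.lift_fst]
    exact hXv
  let t := hφ.lift ((yon S).map n ≫ α) ((yon S).map q) (by rw [Category.assoc, ← hh]; exact hT.w)
  have ht : IsPullback ((yon S).map n) t α φ := by
    refine IsPullback.of_bot ?_ (hφ.lift_fst _ _ _).symm hφ
    rw [hφ.lift_snd, ← hh]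
    exact hT
  exact ⟨T, rfl, t, (repWith_isStableUnderBaseChange _).of_isPullback ht hα,
    (repWith_isStableUnderBaseChange _).of_isPullback ht hαs⟩

set_option autoImplicit false
universe u
open CategoryTheory CategoryTheory.Limits AlgebraicGeometry
open AlgSp

namespace Groth.Agent.S10690

/-- For a morphism f : X ⟶ Y between algebraic spaces over S whose fibres are locally Noetherian, the
following are equivalent: (1) f is Gorenstein at every point of |X|; (2) f is flat and for some
scheme V with a representable etale surjective b : h_V ⟶ Y every fibre of X ×_Y V ⟶ V over a point v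
of V (pullback along the residue field point of v) is a Gorenstein algebraic space (some etale
surjective scheme chart is a Gorenstein scheme); (3) f is flat and the same holds for every scheme V
with a representable etale b : h_V ⟶ Y. Here f is Gorenstein at x when in every etale chart diagram
through x the top arrow is Gorenstein at the point over x (flat there, with Gorenstein local ring of
its fibre), and the fibres of a morphism are locally Noetherian when every fibre over a field point
(pullback in fppf sheaves) is a locally Noetherian algebraic space. (The published statement also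
characterises being Gorenstein at a single point through strict henselizations; that part is stated
separately and not included here.) -/
theorem result {S : Scheme.{u}} {X Y : AlgSp.Space S} (f : X ⟶ Y)
    (hf : ∀ (k : AlgSp.FieldPt Y.obj) (Xk : AlgSp.Sp S) (a : Xk ⟶ X.obj) (b : Xk ⟶ (AlgSp.yon S).obj k.pt),
        IsPullback a b f.hom k.toHom → AlgSp.IsLocNoethSp Xk) :
    [∀ x : AlgSp.Points X.obj, AlgSp.LocPAt (fun h u => Dual3.IsGorensteinAt h u) f.hom x,
      AlgSp.LocP @Flat f.hom ∧ ∃ (V : Over S) (b : (AlgSp.yon S).obj V ⟶ Y.obj),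
        AlgSp.RepWith @Etale b ∧ AlgSp.RepWith @Surjective b ∧
          ∀ (v : ↥V.left) (Xv : AlgSp.Sp S) (a : Xv ⟶ X.obj)
            (c : Xv ⟶ (AlgSp.yon S).obj (Over.mk (V.left.fromSpecResidueField v ≫ V.hom))),
            IsPullback a c f.hom ((AlgSp.yon S).map (Over.homMk (V.left.fromSpecResidueField v) rfl :
              Over.mk (V.left.fromSpecResidueField v ≫ V.hom) ⟶ V) ≫ b) →
            AlgSp.EtaleLocally Dual3.IsGorenstein Xv,
      AlgSp.LocP @Flat f.hom ∧ ∀ (V : Over S) (b : (AlgSp.yon S).obj V ⟶ Y.obj), AlgSp.RepWith @Etale b →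
          ∀ (v : ↥V.left) (Xv : AlgSp.Sp S) (a : Xv ⟶ X.obj)
            (c : Xv ⟶ (AlgSp.yon S).obj (Over.mk (V.left.fromSpecResidueField v ≫ V.hom))),
            IsPullback a c f.hom ((AlgSp.yon S).map (Over.homMk (V.left.fromSpecResidueField v) rfl :
              Over.mk (V.left.fromSpecResidueField v ≫ V.hom) ⟶ V) ≫ b) →
            AlgSp.EtaleLocally Dual3.IsGorenstein Xv].TFAE := by
  tfae_have 1 → 3 := by
    intro H
    refine ⟨fun U V a b h ha hb w => (Flat.iff_flat_stalkMap _).2 fun u => (H _ a b h u ha hb w rfl).1,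
      fun V b hb v Xv a c hXv => ?_⟩
    obtain ⟨A, α, h, hα, hαs, haA, hh, w, -⟩ := LimTop61.exists_chart_over X.property Y.property f.hom hb
    obtain ⟨T, hT, t, ht, hts⟩ := exists_fibre_chart hα hαs hh v a c hXv
    refine ⟨T, t, ht, hts, ?_⟩
    rw [hT]
    haveI := LimTop61.isLocallyNoetherian_fiber_chart X.property Y.property hf haA hb w v
    refine ⟨inferInstance, fun z => ?_⟩
    rw [An92.Gor.gor_fiber_iff h.left z rfl]
    exact ((An92.Gor.gorAt_iff h.left _).1 (H _ (α ≫ pullback.fst f.hom b) b h _ haA hb w rfl)).2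
  tfae_have 3 → 2 := fun H => by
    obtain ⟨V, b, hb, hbs⟩ := Y.property.atlas
    exact ⟨H.1, V, b, hb, hbs, H.2 V b hb⟩
  tfae_have 2 → 1 := by
    rintro ⟨hfl, V, b, hb, hbs, H⟩ x
    obtain ⟨v, hv⟩ := SpPts86.surjective_ofPt hbs (AlgSp.Points.map f.hom x)
    obtain ⟨A, α, h, hα, hαs, haA, hh, w, hpt⟩ := LimTop61.exists_chart_over X.property Y.property f.hom hb
    obtain ⟨u, rfl, huv⟩ := hpt x v hv.symm
    subst huv
    rw [LimTop61.locPAt_gor_iff_chart X.property Y.property hf haA hb w u]
    haveI : Flat h.left := hfl (α ≫ pullback.fst f.hom b) b h haA hb w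
    haveI := LimTop61.isLocallyNoetherian_fiber_chart X.property Y.property hf haA hb w (h.left u)
    let j : Over.mk (V.left.fromSpecResidueField (h.left u) ≫ V.hom) ⟶ V :=
      Over.homMk (V.left.fromSpecResidueField (h.left u)) rfl
    have hXv := IsPullback.of_hasPullback f.hom ((AlgSp.yon S).map j ≫ b)
    obtain ⟨T, hT, t, ht, hts⟩ := exists_fibre_chart hα hαs hh (h.left u) _ _ hXv
    obtain ⟨T', t', ht', hts', hG⟩ := H (h.left u) _ _ _ hXv
    have hXvs := SpFP87.isAlgSpace_pullback f.hom ((AlgSp.yon S).map j ≫ b) X.property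
      (AlgSp.IsAlgSpace.yon_obj _) Y.property
    obtain ⟨W, q, r, hq, hr, -, -, hrs, -⟩ := SpPts86.exists_common_chart hXvs ht' ht
    haveI := hq; haveI := hr; haveI := hrs hts'
    haveI := hG.1
    haveI : IsLocallyNoetherian T.left := hT ▸ inferInstance
    refine ⟨Flat.stalkMap h.left u, ?_⟩
    obtain ⟨z, hz⟩ : ∃ z : ↥T.left, HEq z (h.left.asFiber u) := ⟨cast (congrArg (fun W : Scheme => ↥W) hT.symm) _, cast_heq _ _⟩
    have hGT : LocCoh.IsGorensteinLocalRing (T.left.presheaf.stalk z) := by
      obtain ⟨w', rfl⟩ := r.left.surjective z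
      exact (LimTop61.gor_stalk_etale_iff r.left w').1 ((LimTop61.gor_stalk_etale_iff q.left w').2 (hG.2 _))
    revert z
    rw [hT]
    intro z hz hGT
    cases eq_of_heq hz
    exact hGT
  tfae_finish

end Groth.Agent.S10690
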