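import Groth.Prelude.Def_Dual3
import Mathlib.AlgebraicGeometry.Morphisms.Flat
import Mathlib.AlgebraicGeometry.Noetherian
import Groth.Agent.An92.Gor.FibreStalk

set_option autoImplicit false
universe u
open CategoryTheory CategoryTheory.Limits AlgebraicGeometry
attribute [local instance] HasDerivedCategory.standard
namespace Dual3
end Dual3
open Dual3

namespace Groth.Agent.S3624

/-- Let f : X → Y be a flat morphism of locally Noetherian schemes with X Gorenstein. Then f is a
Gorenstein morphism (flat with Gorenstein local rings of fibres at every point) and the local ring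
O_{Y, f(x)} is Gorenstein for every point x of X. -/
theorem result (X Y : Scheme.{u}) [IsLocallyNoetherian Y] (f : X ⟶ Y) [Flat f] (hX : Dual3.IsGorenstein X) : Dual3.IsGorensteinMor f ∧ ∀ x : X, LocCoh.IsGorensteinLocalRing (Y.presheaf.stalk (f x)) := by
  have := hX.1
  have key : ∀ x : X, LocCoh.IsGorensteinLocalRing (Y.presheaf.stalk (f x)) ∧ Dual3.IsGorensteinAt f x := by
    intro x
    let _ := (f.stalkMap x).hom.toAlgebra
    have : Module.Flat (Y.presheaf.stalk (f x)) (X.presheaf.stalk x) := Flat.stalkMap f x
    have : IsLocalHom (algebraMap (Y.presheaf.stalk (f x)) (X.presheaf.stalk x)) :=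
      inferInstanceAs (IsLocalHom (f.stalkMap x).hom)
    obtain ⟨h1, h2⟩ := (Gor18.gor_flat_iff (A := Y.presheaf.stalk (f x)) (B := X.presheaf.stalk x)).1 (hX.2 x)
    exact ⟨h1, (An92.Gor.gorAt_iff f x).2 ⟨Flat.stalkMap f x, h2⟩⟩
  exact ⟨fun x => (key x).2, fun x => (key x).1⟩

end Groth.Agent.S3624
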