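import Groth.Statements.S10691
import Groth.Agent.LimTop61.GorPt
import Groth.Agent.S3624
import Groth.Agent.Henz21.ShBranch
import Groth.Agent.Henz21.FaithfullyFlat

open CategoryTheory AlgebraicGeometry AlgSp in
theorem Groth.Agent.S10691.isGorenstein_chart {S : Scheme} {X : Sp S} (hX : IsAlgSpace X)
    (h1 : IsLocNoethSp X) (h2 : EtaleLocally Dual3.IsGorenstein X) {U : Over S} {a : (yon S).obj U ⟶ X}
    (ha : RepWith @Etale a) : Dual3.IsGorenstein U.left := by
  obtain ⟨U₀, p, hp, hps, hG⟩ := h2
  obtain ⟨W, q, r, hq, hr, -, -, hrs, -⟩ := SpPts86.exists_common_chart hX hp ha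
  have := hq; have := hr; have := hrs hps; have := hG.1
  have := SpFP87.isLocallyNoetherian_chart hX h1 ha
  refine ⟨inferInstance, fun z => ?_⟩
  obtain ⟨w, rfl⟩ := r.left.surjective z
  exact (LimTop61.gor_stalk_etale_iff r.left w).1 ((LimTop61.gor_stalk_etale_iff q.left w).2 (hG.2 _))

set_option autoImplicit false
universe u
open CategoryTheory CategoryTheory.Limits AlgebraicGeometry
open AlgSp

namespace Groth.Agent.S10691

/-- For locally Noetherian algebraic spaces X, Y over S and a flat morphism f : X ⟶ Y, with X Gorenstein
(some etale surjective scheme chart is a Gorenstein scheme): f is Gorenstein at every point of |X|,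
and for every point x of |X| the etale local ring of Y at a geometric point over f(x), presented as
a strict henselization R of the local ring of an etale scheme chart V of Y at a point v over f(x),
is a Gorenstein local ring. Here f is Gorenstein at x when in every etale chart diagram through x
the top arrow is Gorenstein at the point over x (flat there, with Gorenstein local ring of its
fibre), and the fibres of a morphism are locally Noetherian when every fibre over a field point
(pullback in fppf sheaves) is a locally Noetherian algebraic space. -/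
theorem result {S : Scheme.{u}} {X Y : AlgSp.Space S} (f : X ⟶ Y) (hf : AlgSp.LocP @Flat f.hom)
    (hX1 : AlgSp.IsLocNoethSp X.obj) (hY1 : AlgSp.IsLocNoethSp Y.obj)
    (hX2 : AlgSp.EtaleLocally Dual3.IsGorenstein X.obj) :
    (∀ x : AlgSp.Points X.obj, AlgSp.LocPAt (fun h u => Dual3.IsGorensteinAt h u) f.hom x) ∧
      ∀ (x : AlgSp.Points X.obj) (V : Over S) (b : (AlgSp.yon S).obj V ⟶ Y.obj), AlgSp.RepWith @Etale b →
        ∀ (v : ↥V.left), AlgSp.Points.ofPt b v = AlgSp.Points.map f.hom x →
          ∀ (R : Type u) [CommRing R] [IsLocalRing R] [Algebra ↥(V.left.presheaf.stalk v) R]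
            [IsLocalHom (algebraMap ↥(V.left.presheaf.stalk v) R)]
            [Hensel.IsStrictHenselization ↥(V.left.presheaf.stalk v) R],
            LocCoh.IsGorensteinLocalRing R := by
  refine ⟨fun x U V a b h u ha hb w hu => ?_, fun x V b hb v hv R _ _ _ _ _ => ?_⟩
  · haveI := SpFP87.isLocallyNoetherian_chart Y.property hY1 hb
    haveI : Flat h.left := hf a b h ha hb w
    exact (S3624.result _ _ h.left (isGorenstein_chart X.property hX1 hX2 ha)).1 u
  · obtain ⟨A, α, h, -, -, haA, -, w, hpt⟩ := LimTop61.exists_chart_over X.property Y.property f.hom hb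
    obtain ⟨u, -, huv⟩ := hpt x v hv.symm
    haveI := SpFP87.isLocallyNoetherian_chart Y.property hY1 hb
    haveI : Flat h.left := hf (α ≫ Limits.pullback.fst f.hom b) b h haA hb w
    have hG := (S3624.result _ _ h.left (isGorenstein_chart X.property hX1 hX2 haA)).2 u
    subst huv
    haveI : IsNoetherianRing R :=
      Henz21.isNoetherianRing_strictHenselization ↥(V.left.presheaf.stalk (h.left u)) R
    haveI := Henz21.strictHenselization_faithfullyFlat (R := ↥(V.left.presheaf.stalk (h.left u))) R
    refine (Gor18.gor_flat_iff (A := ↥(V.left.presheaf.stalk (h.left u))) (B := R)).2 ⟨hG, ?_⟩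
    rw [Henz21.strictHenselization_map_maximalIdeal]
    exact LimTop61.gor_field _ ((Ideal.Quotient.maximal_ideal_iff_isField_quotient _).1 inferInstance)

end Groth.Agent.S10691
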