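import Groth.Statements.S10692
import Groth.Agent.LimTop61.SpFibreDim

set_option autoImplicit false
universe u
open CategoryTheory CategoryTheory.Limits AlgebraicGeometry
open AlgSp

namespace Groth.Agent.S10692

/-- For a proper flat morphism f : X ⟶ Y between algebraic spaces over S which is of finite
presentation, the fibre dimension function on |Y| is locally constant: for every d the set of y such
that every fibre X_k over y (k a field point in the class of y, X_k any pullback in fppf sheaves)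
has dimension exactly d is open. -/
theorem result {S : Scheme.{u}} {X Y : AlgSp.Space S} (f : X ⟶ Y) (hf1 : AlgSp.IsProperMor f.hom)
    (hf2 : AlgSp.LocP @Flat f.hom) (hf3 : AlgSp.IsFinitePresentationMor f.hom) (d : WithBot ℕ∞) :
    IsOpen {y : AlgSp.Points Y.obj | ∀ (k : AlgSp.FieldPt Y.obj), AlgSp.Points.mk k = y →
      ∀ (Xk : AlgSp.Sp S) (fst : Xk ⟶ X.obj) (snd : Xk ⟶ (AlgSp.yon S).obj k.pt),
        IsPullback fst snd f.hom k.toHom → AlgSp.dim Xk = d} := by
  have hl := hf1.2.1.1
  have hcl := Groth.Agent.LimTop61.SpFibreDim.isClosedMap_of_isUnivClosedMor Y.property hf1.2.2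
  have hle := Groth.Agent.LimTop61.SpFibreDim.isOpen_le X.property Y.property hl hcl
  have hlt := Groth.Agent.LimTop61.SpFibreDim.isOpen_fibre_lt X.property Y.property hl hf2 hf3.1
  have key : ∀ (c e : WithBot ℕ∞), (∀ x, x = c ↔ e < x ∧ x ≤ c) →
      c ≠ ((⊤ : ℕ∞) : WithBot ℕ∞) →
      IsOpen {y : AlgSp.Points Y.obj | ∀ (k : AlgSp.FieldPt Y.obj), AlgSp.Points.mk k = y →
      ∀ (Xk : AlgSp.Sp S) (fst : Xk ⟶ X.obj) (snd : Xk ⟶ (AlgSp.yon S).obj k.pt),
        IsPullback fst snd f.hom k.toHom → AlgSp.dim Xk = c} := fun c e hce hc => by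
    convert (hlt e).inter (hle c hc) using 1
    ext y
    exact ⟨fun H => ⟨fun k hk Xk a b sq => ((hce _).1 (H k hk Xk a b sq)).1,
      fun k hk Xk a b sq => ((hce _).1 (H k hk Xk a b sq)).2⟩,
      fun H k hk Xk a b sq => (hce _).2 ⟨H.1 k hk Xk a b sq, H.2 k hk Xk a b sq⟩⟩
  induction d using WithBot.recBotCoe with
  | bot =>
    simp only [← le_bot_iff]
    exact hle ⊥ WithBot.bot_ne_coe
  | coe d => induction d using ENat.recTopCoe with
    | top =>
      rw [Groth.Agent.LimTop61.SpFibreDim.forall_fibre_iff (· = ((⊤ : ℕ∞) : WithBot ℕ∞)) (fun _ => False) fun k Xk a b sq => iff_false_intro (by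
        obtain ⟨n, hn⟩ := Groth.Agent.LimTop61.SpFibreDim.exists_dim_le X.property Y.property hl hf1.2.1.2 sq
        exact (lt_of_le_of_lt hn (WithBot.coe_lt_coe.2 (ENat.natCast_lt_top n))).ne)]
      exact isOpen_empty
    | coe n =>
      refine key _ (match n with | 0 => ⊥ | m + 1 => ((m : ℕ) : WithBot ℕ∞)) (fun x => ?_)
        (fun h => ENat.natCast_ne_top n (WithBot.coe_injective h))
      cases n with
      | zero =>
        refine ⟨fun h => ⟨h ▸ WithBot.bot_lt_coe _, h.le⟩, fun h => le_antisymm h.2 ?_⟩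
        obtain ⟨a, ha⟩ := WithBot.ne_bot_iff_exists.1 h.1.ne'
        rw [← ha]
        exact WithBot.coe_le_coe.2 bot_le
      | succ m =>
        have hiff : x < ((m + 1 : ℕ) : WithBot ℕ∞) ↔ x ≤ (m : WithBot ℕ∞) :=
          Groth.Agent.LimTop61.SpFibreDim.lt_succ_iff x m
        constructor
        · rintro rfl
          exact ⟨not_le.1 fun h => lt_irrefl _ (hiff.2 h), le_rfl⟩
        · rintro ⟨h1, h2⟩
          exact le_antisymm h2 (not_lt.1 fun h => h1.not_ge (hiff.1 h))

end Groth.Agent.S10692
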