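import Groth.Statements.S10704
import Groth.Agent.SpFP87.Covers
import Groth.Agent.SpPts86.QCMor
import Groth.Agent.SpPts86.Subspace
import Groth.Agent.LimTop61.FlatSemiLocal

set_option autoImplicit false
set_option linter.style.haveILetI false
universe u
open CategoryTheory CategoryTheory.Limits AlgebraicGeometry
open AlgSp

namespace Groth.Agent.S10704

/-- Let `f : Y → X` be a quasi-compact quasi-separated morphism of algebraic spaces over `S`, `i : Z →
X` a closed immersion of finite presentation such that `f⁻¹Z → Z` is an isomorphism and `f` is flat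
at every point of `|f⁻¹Z|`, and let `U ⊂ X` be the open subspace complementary to `Z`. Then there is
an fpqc covering `{X_k → X}` refining the family `{U → X, Y → X}`: every `X_k → X` factors through
`U` or through `Y`. -/
theorem result {S : Scheme.{u}} {X Y Z FZ U : AlgSp.Space S} (f : Y ⟶ X)
    (hqc : AlgSp.IsQuasiCompactMor f.hom) (hqs : AlgSp.IsQuasiSeparatedMor f.hom) (i : Z ⟶ X)
    (hi : AlgSp.RepWith @IsClosedImmersion i.hom) (hifp : AlgSp.LocP @LocallyOfFinitePresentation i.hom)
    (iY : FZ ⟶ Y) (fZ : FZ ⟶ Z) (hFZ : IsPullback iY.hom fZ.hom f.hom i.hom) [IsIso fZ]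
    (hflat : ∀ y ∈ Set.range (AlgSp.Points.map iY.hom), AlgSp.IsFlatAtMor f.hom y) (j : U ⟶ X)
    (hj : AlgSp.RepWith @IsOpenImmersion j.hom)
    (hU : Set.range (AlgSp.Points.map j.hom) = (Set.range (AlgSp.Points.map i.hom))ᶜ) :
    ∃ (ι : Type u) (W : ι → AlgSp.Space S) (w : ∀ k, W k ⟶ X),
      AlgSp.IsFpqcCover (fun k => (W k).obj) (fun k => (w k).hom) ∧
        ∀ k, (∃ l : W k ⟶ U, l ≫ j = w k) ∨ (∃ l : W k ⟶ Y, l ≫ f = w k) := by
  obtain ⟨A₀, a₀, ha₀, has₀⟩ := X.property.atlas
  let Wo : A₀.left.affineOpens → Over S := fun V => Over.mk (V.1.ι ≫ A₀.hom)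
  let w : ∀ V, (AlgSp.yon S).obj (Wo V) ⟶ X.obj := fun V =>
    (AlgSp.yon S).map (Over.homMk V.1.ι rfl : Wo V ⟶ A₀) ≫ a₀
  have hWaff : ∀ V, IsAffine (Wo V).left := fun V => V.2
  have hwet : ∀ V, AlgSp.RepWith @Etale (w V) := fun V =>
    (AlgSp.repWith_isMultiplicative (S := S) @Etale).comp_mem _ _
      ((AlgSp.repWith_yon_map_iff _ _).2 (inferInstanceAs (Etale V.1.ι))) ha₀
  have hwcov : ∀ x : AlgSp.Points X.obj, ∃ V, x ∈ Set.range (AlgSp.Points.map (w V)) := by
    intro x
    obtain ⟨t, rfl⟩ := SpPts86.surjective_ofPt has₀ x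
    obtain ⟨V, hV, htV, -⟩ := exists_isAffineOpen_mem_and_subset (x := t) (U := ⊤) (Set.mem_univ t)
    refine ⟨⟨V, hV⟩, ?_⟩
    rw [SpPts86.range_map_yon]
    exact ⟨⟨t, htV⟩, SpPts86.ofPt_comp _ _ _⟩
  -- for each affine chart a finite flat family of affine schemes refining it
  have key : ∀ V, ∃ (n : ℕ) (T : Fin n → Over S) (c : ∀ k, T k ⟶ Wo V),
      (∀ k, IsAffine (T k).left) ∧ (∀ k, Flat (c k).left) ∧
      (∀ z : ↥(Wo V).left, ∃ k, z ∈ Set.range (c k).left) ∧
      ∀ k, (∃ l : (AlgSp.yon S).obj (T k) ⟶ U.obj, l ≫ j.hom = (AlgSp.yon S).map (c k) ≫ w V) ∨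
        (∃ l : (AlgSp.yon S).obj (T k) ⟶ Y.obj, l ≫ f.hom = (AlgSp.yon S).map (c k) ≫ w V) := by
    intro V
    haveI := hWaff V
    obtain ⟨Zw, sndZ, fstZ, sqZ⟩ := hi.rep (w V)
    haveI : IsClosedImmersion sndZ.left := hi.property _ _ _ sqZ
    haveI : LocallyOfFinitePresentation sndZ.left :=
      AlgSp.locP_yon_map (SpFP87.locP_baseChange sqZ Z.property X.property (AlgSp.IsAlgSpace.yon_obj _) hifp)
    let K : Set ↥(Wo V).left := Set.range sndZ.left
    have hK : IsCompact Kᶜ := LimTop61.isCompact_compl_range sndZ.left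
    have hKo : IsOpen Kᶜ := sndZ.left.isClosedEmbedding.isClosed_range.isOpen_compl
    -- the base change of `f` to the chart
    have sqY := IsPullback.of_hasPullback f.hom (w V)
    have hYW : AlgSp.IsAlgSpace (pullback f.hom (w V)) :=
      SpFP87.isAlgSpace_pullback _ _ Y.property (AlgSp.IsAlgSpace.yon_obj _) X.property
    haveI := SpPts86.compactSpace_points_yon (Wo V)
    haveI := SpPts86.compactSpace_of_isQuasiCompactMor hqc (AlgSp.IsAlgSpace.yon_obj (Wo V)) sqY
    obtain ⟨B, p, hB, hp, hps⟩ := SpPts86.exists_affine_chart_of_compactSpace hYW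
    obtain ⟨h, hh⟩ := (AlgSp.yon S).map_surjective (p ≫ pullback.snd f.hom (w V))
    haveI := hB
    have hpf : AlgSp.RepWith @Etale (p ≫ pullback.fst f.hom (w V)) :=
      (AlgSp.repWith_isMultiplicative (S := S) @Etale).comp_mem _ _ hp
        ((AlgSp.repWith_isStableUnderBaseChange (@Etale : MorphismProperty Scheme.{u})).of_isPullback
          sqY.flip (hwet V))
    have hKB : ∀ b : ↥B.left, h.left b ∈ K → (Scheme.Hom.stalkMap h.left b).hom.Flat := by
      rintro b ⟨z, hz⟩
      refine hflat _ ?_ (p ≫ pullback.fst f.hom (w V)) (w V) h b hpf (hwet V)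
        (by rw [hh, Category.assoc, Category.assoc, pullback.condition]) rfl
      obtain ⟨q, hq, -⟩ := SpPts86.exists_of_isPullback hFZ
        (AlgSp.Points.ofPt (p ≫ pullback.fst f.hom (w V)) b) (AlgSp.Points.ofPt fstZ z) (by
          rw [AlgSp.Points.map_ofPt, AlgSp.Points.map_ofPt, sqZ.w, SpPts86.ofPt_comp, hz,
            Category.assoc, pullback.condition, ← Category.assoc, ← hh, SpPts86.ofPt_comp])
      exact ⟨q, hq⟩
    obtain ⟨B', g, hB', hgfl, hgK⟩ := LimTop61.exists_flat_semilocal h.left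
      (sndZ.left.isClosedEmbedding.isClosed_range.preimage h.left.continuous) hKB
    let Bo : Over S := Over.mk (g ≫ B.hom)
    let gB : Bo ⟶ B := Over.homMk g rfl
    -- affine opens covering the complement
    choose D hD hzD hDK using fun z : (Kᶜ : Set ↥(Wo V).left) =>
      exists_isAffineOpen_mem_and_subset (x := z.1) (U := ⟨Kᶜ, hKo⟩) z.2
    obtain ⟨t, ht⟩ := hK.elim_finite_subcover (fun z => ((D z : (Wo V).left.Opens) : Set ↥(Wo V).left))
      (fun z => (D z).isOpen) (fun z hz => Set.mem_iUnion.2 ⟨⟨z, hz⟩, hzD ⟨z, hz⟩⟩)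
    let T' : Option ↥t → Over S := fun k => k.elim Bo fun z => Over.mk ((D z.1).ι ≫ (Wo V).hom)
    let c' : ∀ k, T' k ⟶ Wo V := fun k => match k with
      | none => gB ≫ h
      | some z => Over.homMk (D z.1).ι rfl
    let e := (Fintype.equivFin (Option ↥t)).symm
    refine ⟨_, fun k => T' (e k), fun k => c' (e k), fun k => ?_, fun k => ?_, fun z => ?_, fun k => ?_⟩
    · dsimp only
      cases e k with
      | none => exact hB'
      | some z => exact hD z.1
    · dsimp only
      cases e k with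
      | none => exact hgfl
      | some z => exact (inferInstance : Flat (D z.1).ι)
    · have key : ∀ o, z ∈ Set.range (c' o).left → ∃ k, z ∈ Set.range (c' (e k)).left := fun o ho => by
        obtain ⟨k, rfl⟩ := e.surjective o
        exact ⟨k, ho⟩
      by_cases hz : z ∈ K
      · obtain ⟨s, hs⟩ := hz
        -- a point of `Z` over `z` comes from `FZ`
        obtain ⟨q, hq⟩ : ∃ q, AlgSp.Points.map fZ.hom q = AlgSp.Points.ofPt fstZ s := by
          refine ⟨AlgSp.Points.map (inv fZ).hom (AlgSp.Points.ofPt fstZ s), ?_⟩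
          rw [AlgSp.Points.map_ofPt, AlgSp.Points.map_ofPt, Category.assoc]
          congr 1
          rw [← ObjectProperty.FullSubcategory.comp_hom, IsIso.inv_hom_id]
          exact Category.comp_id _
        obtain ⟨y, hy⟩ : ∃ y, AlgSp.Points.map f.hom y = AlgSp.Points.ofPt (w V) z := by
          refine ⟨AlgSp.Points.map iY.hom q, ?_⟩
          rw [← AlgSp.Points.map_comp, hFZ.w, AlgSp.Points.map_comp, hq, AlgSp.Points.map_ofPt,
            sqZ.w, SpPts86.ofPt_comp, hs]
        obtain ⟨r, -, hr⟩ := SpPts86.exists_of_isPullback sqY y (AlgSp.Points.ofScheme _ z)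
          (hy.trans (AlgSp.Points.ofPt_eq_map_ofScheme _ _))
        obtain ⟨b, rfl⟩ := SpPts86.surjective_ofPt hps r
        rw [AlgSp.Points.map_ofPt, ← hh, SpPts86.ofPt_yon_map] at hr
        have hbz : h.left b = z := (AlgSp.Points.schemeHomeo (Wo V)).injective hr
        obtain ⟨b', hb'⟩ := hgK (show h.left b ∈ Set.range sndZ.left from ⟨s, hs.trans hbz.symm⟩)
        exact key none ⟨b', by subst hb'; exact hbz⟩
      · obtain ⟨z', hz', hzz⟩ := Set.mem_iUnion₂.1 (ht hz)
        exact key (some ⟨z', hz'⟩) ⟨⟨z, hzz⟩, rfl⟩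
    · dsimp only
      cases e k with
      | none =>
        refine Or.inr ⟨(AlgSp.yon S).map gB ≫ p ≫ pullback.fst f.hom (w V), ?_⟩
        change _ = (AlgSp.yon S).map (gB ≫ h) ≫ w V
        rw [Category.assoc, Category.assoc, pullback.condition, Functor.map_comp, Category.assoc,
          ← Category.assoc p, ← hh]
        rfl
      | some z =>
        refine Or.inl (SpPts86.exists_factor_of_range_subset hj _ ?_)
        rintro x ⟨y, rfl⟩
        rw [hU]
        rintro ⟨q, hq⟩
        obtain ⟨t', rfl⟩ := (AlgSp.Points.schemeHomeo _).surjective y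
        rw [AlgSp.Points.map_comp] at hq
        change AlgSp.Points.map i.hom q = AlgSp.Points.map (w V)
          (AlgSp.Points.map ((AlgSp.yon S).map (c' (some z))) (AlgSp.Points.ofScheme _ t')) at hq
        rw [← AlgSp.Points.ofPt_eq_map_ofScheme ((AlgSp.yon S).map (c' (some z))) t', SpPts86.ofPt_yon_map,
          ← AlgSp.Points.ofPt_eq_map_ofScheme] at hq
        obtain ⟨v, -, hv⟩ := SpPts86.exists_pt_of_isPullback sqZ q _ hq
        exact hDK z.1 t'.2 ⟨v, hv⟩
  choose n T c hT hcfl hcsurj hfac using key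
  refine ⟨Σ V, ULift.{u} (Fin (n V)), fun k => (AlgSp.ofScheme S).obj (T k.1 k.2.down),
    fun k => ObjectProperty.homMk ((AlgSp.yon S).map (c k.1 k.2.down) ≫ w k.1), ?_, fun k => ?_⟩
  · refine SpFP87.isFpqcCover_comp (fun V => (AlgSp.yon S).obj (Wo V)) w (fun V => ULift.{u} (Fin (n V)))
      (fun V k => (AlgSp.yon S).obj (T V k.down)) (fun V k => (AlgSp.yon S).map (c V k.down))
      X.property (fun V => AlgSp.IsAlgSpace.yon_obj _) (fun V k => AlgSp.IsAlgSpace.yon_obj _) ?_ ?_
    · refine SpFP87.isFpqcCover_of_isFppfCover _ _ X.property (fun V => AlgSp.IsAlgSpace.yon_obj _) ?_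
      refine ⟨fun V => ⟨?_, ?_⟩, hwcov⟩
      · exact SpFP87.locP_of_repWith (AlgSp.IsAlgSpace.yon_obj _).diag X.property
          (SpPts86.repWith_mono (fun _ _ f hf => SpFP87.EtLoc.of_etale f hf) (hwet V))
      · exact SpFP87.locP_of_repWith (AlgSp.IsAlgSpace.yon_obj _).diag X.property
          (SpPts86.repWith_mono (fun _ _ f hf => SpFP87.EtLoc.of_etale f hf) (hwet V))
    · intro V
      refine ⟨fun k => ?_, fun Q hQ q => ?_⟩
      · refine SpFP87.locP_of_repWith (AlgSp.IsAlgSpace.yon_obj _).diag (AlgSp.IsAlgSpace.yon_obj _) ?_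
        exact (AlgSp.repWith_yon_map_iff _ _).2 (hcfl V k.down)
      · obtain ⟨q', rfl⟩ := (AlgSp.yon S).map_surjective q
        haveI := hQ
        haveI := hWaff V
        have sq : ∀ k, IsPullback (pullback.fst q' (c V k)).left (pullback.snd q' (c V k)).left q'.left (c V k).left :=
          fun k => (IsPullback.of_hasPullback q' (c V k)).map (Over.forget S)
        refine ⟨n V, fun k => pullback q' (c V k), fun k => pullback.fst _ _, fun k => ?_, fun k => ?_,
          fun z => ?_, fun k => ⟨⟨k⟩, (AlgSp.yon S).map (pullback.snd _ _), ?_⟩⟩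
        · haveI := hT V k
          exact IsAffine.of_isIso (sq k).isoPullback.hom
        · exact MorphismProperty.of_isPullback (P := @Flat) (sq k).flip (hcfl V k)
        · obtain ⟨k, v, hv⟩ := hcsurj V (q'.left z)
          obtain ⟨r, hr, -⟩ := Scheme.exists_preimage_of_isPullback (sq k) z v hv.symm
          exact ⟨k, r, hr⟩
        · rw [← Functor.map_comp, ← Functor.map_comp, pullback.condition]
  · rcases hfac k.1 k.2.down with ⟨l, hl⟩ | ⟨l, hl⟩
    · exact Or.inl ⟨ObjectProperty.homMk l, ObjectProperty.hom_ext _ hl⟩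
    · exact Or.inr ⟨ObjectProperty.homMk l, ObjectProperty.hom_ext _ hl⟩

end Groth.Agent.S10704
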