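import Groth.Statements.S10705
import Groth.Agent.S10704
import Groth.Agent.S10532

open CategoryTheory CategoryTheory.Limits in
theorem Groth.Agent.S10705.isIso_snd_of_factor {C : Type*} [Category C] {X₁ X₂ Q Q₁ T P : C} {a : X₁ ⟶ X₂}
    {q : Q ⟶ X₂} {aQ : Q₁ ⟶ Q} {b : Q₁ ⟶ X₁} (h : IsPullback b aQ a q) [IsIso aQ]
    {fst : P ⟶ X₁} {snd : P ⟶ T} {t : T ⟶ X₂} (hP : IsPullback fst snd a t) (m : T ⟶ Q) (hm : m ≫ q = t) :
    IsIso snd := by
  have h' : IsPullback (h.lift fst (snd ≫ m) (by rw [Category.assoc, hm, hP.w])) snd aQ m := by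
    refine IsPullback.of_right ?_ (h.lift_snd _ _ _) h
    rw [h.lift_fst, hm]
    exact hP
  exact h'.isIso_snd_of_isIso

set_option autoImplicit false
universe u
open CategoryTheory CategoryTheory.Limits AlgebraicGeometry
open AlgSp

namespace Groth.Agent.S10705

/-- Let `f : Y → X` be a quasi-compact quasi-separated morphism of algebraic spaces over `S`, `i : Z →
X` a closed immersion of finite presentation such that `f⁻¹Z → Z` is an isomorphism and `f` is flat
at every point of `|f⁻¹Z|`, and let `U ⊂ X` be the open subspace complementary to `Z`. Let `a : X₁ →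
X₂` be a morphism of algebraic spaces over `X`. If the base change of `a` to `U` and the base change
of `a` to `Y` are isomorphisms, then `a` is an isomorphism: the formal glueing functor reflects
isomorphisms. -/
theorem result {S : Scheme.{u}} {X Y Z FZ U : AlgSp.Space S} (f : Y ⟶ X)
    (hqc : AlgSp.IsQuasiCompactMor f.hom) (hqs : AlgSp.IsQuasiSeparatedMor f.hom) (i : Z ⟶ X)
    (hi : AlgSp.RepWith @IsClosedImmersion i.hom) (hifp : AlgSp.LocP @LocallyOfFinitePresentation i.hom)
    (iY : FZ ⟶ Y) (fZ : FZ ⟶ Z) (hFZ : IsPullback iY.hom fZ.hom f.hom i.hom) [IsIso fZ]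
    (hflat : ∀ y ∈ Set.range (AlgSp.Points.map iY.hom), AlgSp.IsFlatAtMor f.hom y) (j : U ⟶ X)
    (hj : AlgSp.RepWith @IsOpenImmersion j.hom)
    (hU : Set.range (AlgSp.Points.map j.hom) = (Set.range (AlgSp.Points.map i.hom))ᶜ)
    {X₁ X₂ QU QU₁ QY QY₁ : AlgSp.Space S} (p₂ : X₂ ⟶ X) (a : X₁ ⟶ X₂)
    (qU : QU ⟶ X₂) (rU : QU ⟶ U) (hQU : IsPullback qU.hom rU.hom p₂.hom j.hom) (aU : QU₁ ⟶ QU)
    (bU : QU₁ ⟶ X₁) (hQU₁ : IsPullback bU.hom aU.hom a.hom qU.hom) [IsIso aU] (qY : QY ⟶ X₂) (rY : QY ⟶ Y)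
    (hQY : IsPullback qY.hom rY.hom p₂.hom f.hom) (aY : QY₁ ⟶ QY) (bY : QY₁ ⟶ X₁)
    (hQY₁ : IsPullback bY.hom aY.hom a.hom qY.hom) [IsIso aY] : IsIso a := by
  obtain ⟨ι, W, w, hcov, hfac⟩ := S10704.result f hqc hqs i hi hifp iY fZ hFZ hflat j hj hU
  let Q : ι → AlgSp.Sp S := fun k => pullback p₂.hom (w k).hom
  have hQ : ∀ k, AlgSp.IsAlgSpace (Q k) := fun k =>
    SpFP87.isAlgSpace_pullback _ _ X₂.property (W k).property X.property
  let q : ∀ k, Q k ⟶ X₂.obj := fun k => pullback.fst p₂.hom (w k).hom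
  have hcov₂ : AlgSp.IsFpqcCover Q q :=
    SpFP87.isFpqcCover_baseChange p₂.hom _ _ Q q (fun k => pullback.snd p₂.hom (w k).hom)
      (fun k => IsPullback.of_hasPullback _ _) X.property X₂.property (fun k => (W k).property) hcov
  haveI : IsIso aU.hom := inferInstanceAs (IsIso ((ObjectProperty.ι _).map aU))
  haveI : IsIso aY.hom := inferInstanceAs (IsIso ((ObjectProperty.ι _).map aY))
  have h : IsIso a.hom := by
    refine (S10532.result S Q q X₂.property hQ hcov₂ a.hom X₁.property (fun k => pullback a.hom (q k))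
      (fun k => pullback.snd _ _) (fun k => pullback.fst _ _)
      (fun k => SpFP87.isAlgSpace_pullback _ _ X₁.property (hQ k) X₂.property)
      (fun k => IsPullback.of_hasPullback _ _)).2 fun k => ?_
    rcases hfac k with ⟨l, hl⟩ | ⟨l, hl⟩
    · exact isIso_snd_of_factor hQU₁ (IsPullback.of_hasPullback a.hom (q k))
        (hQU.lift (q k) (pullback.snd p₂.hom (w k).hom ≫ l.hom)
          (by rw [Category.assoc, ← ObjectProperty.FullSubcategory.comp_hom, hl]; exact pullback.condition))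
        (hQU.lift_fst _ _ _)
    · exact isIso_snd_of_factor hQY₁ (IsPullback.of_hasPullback a.hom (q k))
        (hQY.lift (q k) (pullback.snd p₂.hom (w k).hom ≫ l.hom)
          (by rw [Category.assoc, ← ObjectProperty.FullSubcategory.comp_hom, hl]; exact pullback.condition))
        (hQY.lift_fst _ _ _)
  haveI : IsIso ((ObjectProperty.ι _).map a) := h
  exact isIso_of_fully_faithful (ObjectProperty.ι _) a

end Groth.Agent.S10705
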