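import Groth.Statements.S10707
import Groth.Agent.SpProper61.GlueEq

set_option autoImplicit false
universe u
open CategoryTheory CategoryTheory.Limits AlgebraicGeometry TensorProduct
open AlgSp

namespace Groth.Agent.S10707

/-- Let `(R → R', f)` be a glueing pair, `X = Spec R`, `U = Spec R_f`, `X' = Spec R'`, and let `Y`, `Z`
be algebraic spaces over `X` glueable for `(R → R', f)`. Two morphisms `a, b : Y → Z` over `X` whose
base changes to `U` agree and whose base changes to `X'` agree are equal. -/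
theorem result (R : Type u) [CommRing R] (R' : Type u) [CommRing R'] [Algebra R R']
    (f : R) (hRR' : EtGlue.IsGlueingPair R R' f) {Y Z YU YX' : AlgSp.Space (Spec (CommRingCat.of R))}
    (hY : (∀ (A : Type u) [CommRing A] [Algebra R A]
      (g : (AlgSp.yon (Spec (CommRingCat.of R))).obj (Over.mk (Spec.map (CommRingCat.ofHom (algebraMap R A))) : Over (Spec (CommRingCat.of R))) ⟶ Y.obj),
      AlgSp.RepWith @Etale g → EtGlue.IsGlueable R R' f A))
    (hZ : (∀ (A : Type u) [CommRing A] [Algebra R A]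
      (g : (AlgSp.yon (Spec (CommRingCat.of R))).obj (Over.mk (Spec.map (CommRingCat.ofHom (algebraMap R A))) : Over (Spec (CommRingCat.of R))) ⟶ Z.obj),
      AlgSp.RepWith @Etale g → EtGlue.IsGlueable R R' f A))
    (a b : Y ⟶ Z) (πZ : Z.obj ⟶ (AlgSp.yon (Spec (CommRingCat.of R))).obj (Over.mk (𝟙 _)))
    (inU : (Over.mk (Spec.map (CommRingCat.ofHom (algebraMap R (Localization.Away f)))) : Over (Spec (CommRingCat.of R))) ⟶ Over.mk (𝟙 _))
    (uY : YU ⟶ Y) (vY : YU.obj ⟶ (AlgSp.yon (Spec (CommRingCat.of R))).obj (Over.mk (Spec.map (CommRingCat.ofHom (algebraMap R (Localization.Away f)))) : Over (Spec (CommRingCat.of R))))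
    (hYU : IsPullback uY.hom vY (a.hom ≫ πZ) ((AlgSp.yon (Spec (CommRingCat.of R))).map inU))
    (inX' : (Over.mk (Spec.map (CommRingCat.ofHom (algebraMap R R'))) : Over (Spec (CommRingCat.of R))) ⟶ Over.mk (𝟙 _))
    (uY' : YX' ⟶ Y) (vY' : YX'.obj ⟶ (AlgSp.yon (Spec (CommRingCat.of R))).obj (Over.mk (Spec.map (CommRingCat.ofHom (algebraMap R R'))) : Over (Spec (CommRingCat.of R))))
    (hYX' : IsPullback uY'.hom vY' (a.hom ≫ πZ) ((AlgSp.yon (Spec (CommRingCat.of R))).map inX'))
    (haU : uY ≫ a = uY ≫ b) (haX' : uY' ≫ a = uY' ≫ b) : a = b := by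
  have hid : IsTerminal ((AlgSp.yon (Spec (CommRingCat.of R))).obj (Over.mk (𝟙 (Spec (CommRingCat.of R))))) :=
    IsTerminal.isTerminalObj (AlgSp.yon _) _ Over.mkIdTerminal
  refine ObjectProperty.hom_ext _ (Groth.Agent.SpProper61.GlueEq.eq_of_pieces hRR' Y.property Z.property hY a.hom b.hom
    fun A _ _ g => ?_)
  let mU : Localization.Away f →ₐ[R] Localization.Away (algebraMap R A f) :=
    { Localization.awayMap (algebraMap R A) f with
      commutes' := fun r => (IsLocalization.map_eq _ r).trans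
        (IsScalarTower.algebraMap_apply R A (Localization.Away (algebraMap R A f)) r).symm }
  refine ⟨?_, ?_⟩
  · obtain ⟨l, hl⟩ : ∃ l, l ≫ uY.hom = (AlgSp.yon _).map (Groth.Agent.SpProper61.GlueEq.affMap
        (IsScalarTower.toAlgHom R A (Localization.Away (algebraMap R A f)))) ≫ g :=
      ⟨hYU.lift _ ((AlgSp.yon _).map (Groth.Agent.SpProper61.GlueEq.affMap mU)) (hid.hom_ext _ _),
        hYU.lift_fst _ _ _⟩
    rw [← Category.assoc, ← hl, Category.assoc, ← Category.assoc _ g, ← hl, Category.assoc]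
    exact congrArg (fun h => l ≫ h.hom) haU
  · obtain ⟨l, hl⟩ : ∃ l, l ≫ uY'.hom = (AlgSp.yon _).map (Groth.Agent.SpProper61.GlueEq.affMap
        (Algebra.TensorProduct.includeRight : A →ₐ[R] TensorProduct R R' A)) ≫ g :=
      ⟨hYX'.lift _ ((AlgSp.yon _).map (Groth.Agent.SpProper61.GlueEq.affMap
          (Algebra.TensorProduct.includeLeft : R' →ₐ[R] TensorProduct R R' A))) (hid.hom_ext _ _),
        hYX'.lift_fst _ _ _⟩
    rw [← Category.assoc, ← hl, Category.assoc, ← Category.assoc _ g, ← hl, Category.assoc]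
    exact congrArg (fun h => l ≫ h.hom) haX'

end Groth.Agent.S10707
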