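import Groth.Statements.S10719
import Groth.Agent.SpFP87.FpqcSheaf

set_option autoImplicit false
open CategoryTheory CategoryTheory.Limits AlgebraicGeometry AlgSp

namespace Groth.Agent.S10719

variable {S : Scheme} {B : AlgSp.Space S} {I : Type*} [Category I]

noncomputable def pbObj {Q X P : Over B} (x : X ⟶ P) (q : Q ⟶ P) : Over B :=
  Over.mk (Y := (⟨pullback q.left.hom x.left.hom,
      SpFP87.isAlgSpace_pullback _ _ Q.left.property X.left.property P.left.property⟩ : AlgSp.Space S))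
    ((ObjectProperty.homMk (pullback.fst q.left.hom x.left.hom)) ≫ Q.hom)

noncomputable def pbFst {Q X P : Over B} (x : X ⟶ P) (q : Q ⟶ P) : pbObj x q ⟶ Q :=
  Over.homMk (ObjectProperty.homMk (pullback.fst q.left.hom x.left.hom)) rfl

noncomputable def pbSnd {Q X P : Over B} (x : X ⟶ P) (q : Q ⟶ P) : pbObj x q ⟶ X :=
  Over.homMk (ObjectProperty.homMk (pullback.snd q.left.hom x.left.hom)) (by
    refine ObjectProperty.hom_ext _ ?_
    change pullback.snd q.left.hom x.left.hom ≫ X.hom.hom = pullback.fst q.left.hom x.left.hom ≫ Q.hom.hom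
    rw [← Over.w x, ← Over.w q]
    change pullback.snd q.left.hom x.left.hom ≫ x.left.hom ≫ P.hom.hom =
      pullback.fst q.left.hom x.left.hom ≫ q.left.hom ≫ P.hom.hom
    rw [pullback.condition_assoc])

theorem hom_ext' {X Y : Over B} {a b : X ⟶ Y} (h : a.left.hom = b.left.hom) : a = b :=
  Over.OverMorphism.ext (ObjectProperty.hom_ext _ h)

theorem pb_cond {Q X P : Over B} (x : X ⟶ P) (q : Q ⟶ P) : pbFst x q ≫ q = pbSnd x q ≫ x :=
  hom_ext' pullback.condition

theorem pb_hom_ext {Q X P Z : Over B} (x : X ⟶ P) (q : Q ⟶ P) {a b : Z ⟶ pbObj x q}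
    (h₁ : a ≫ pbFst x q = b ≫ pbFst x q) (h₂ : a ≫ pbSnd x q = b ≫ pbSnd x q) : a = b :=
  hom_ext' (pullback.hom_ext congr(($h₁).left.hom) congr(($h₂).left.hom))

noncomputable def pbLift {Q X P Z : Over B} (x : X ⟶ P) (q : Q ⟶ P) (a : Z ⟶ Q) (b : Z ⟶ X)
    (h : a ≫ q = b ≫ x) : Z ⟶ pbObj x q :=
  Over.homMk (ObjectProperty.homMk (pullback.lift a.left.hom b.left.hom congr(($h).left.hom))) (by
    refine ObjectProperty.hom_ext _ ?_
    change pullback.lift a.left.hom b.left.hom _ ≫ pullback.fst q.left.hom x.left.hom ≫ Q.hom.hom = Z.hom.hom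
    rw [pullback.lift_fst_assoc, ← Over.w a]
    rfl)

theorem pbLift_fst {Q X P Z : Over B} (x : X ⟶ P) (q : Q ⟶ P) (a : Z ⟶ Q) (b : Z ⟶ X)
    (h : a ≫ q = b ≫ x) : pbLift x q a b h ≫ pbFst x q = a :=
  hom_ext' (pullback.lift_fst _ _ _)

theorem pbLift_snd {Q X P Z : Over B} (x : X ⟶ P) (q : Q ⟶ P) (a : Z ⟶ Q) (b : Z ⟶ X)
    (h : a ≫ q = b ≫ x) : pbLift x q a b h ≫ pbSnd x q = b :=
  hom_ext' (pullback.lift_snd _ _ _)

variable {D : I ⥤ Over B} (c : Cocone D) {Q : Over B} (q : Q ⟶ c.pt)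

theorem pbMapCond {i j : I} (k : i ⟶ j) : pbFst (c.ι.app i) q ≫ q = (pbSnd (c.ι.app i) q ≫ D.map k) ≫ c.ι.app j := by
  rw [Category.assoc, c.w, pb_cond]

noncomputable def pbFun : I ⥤ Over B where
  obj i := pbObj (c.ι.app i) q
  map {i j} k := pbLift _ q (pbFst _ q) (pbSnd _ q ≫ D.map k) (pbMapCond c q k)
  map_id i := pb_hom_ext _ _ (by rw [pbLift_fst, Category.id_comp])
    (by rw [pbLift_snd, D.map_id, Category.id_comp, Category.comp_id])
  map_comp {i j l} k k' := pb_hom_ext _ _ (by simp only [Category.assoc, pbLift_fst])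
    (by simp only [Category.assoc, pbLift_snd, D.map_comp]; rw [← Category.assoc, ← Category.assoc,
      pbLift_snd, Category.assoc])

noncomputable def pbProj : pbFun c q ⟶ D where
  app i := pbSnd (c.ι.app i) q
  naturality i j k := pbLift_snd _ _ _ _ (pbMapCond c q k)

noncomputable def pbCocone : pbFun c q ⟶ (Functor.const I).obj Q where
  app i := pbFst (c.ι.app i) q
  naturality i j k := (pbLift_fst _ _ _ _ (pbMapCond c q k)).trans (Category.comp_id _).symm

theorem pb_isPullback (i : I) : IsPullback ((pbCocone c q).app i).left.hom ((pbProj c q).app i).left.hom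
    q.left.hom (c.ι.app i).left.hom := IsPullback.of_hasPullback _ _

end Groth.Agent.S10719

set_option autoImplicit false
universe w v u
open CategoryTheory CategoryTheory.Limits AlgebraicGeometry
open AlgSp

namespace Groth.Agent.S10719

/-- Let `B` be an algebraic space over `S`, `D : I ⥤ Over B` a diagram of algebraic spaces over `B` with
a cocone `c`, and `{U_a → c.pt}` an fpqc covering (by algebraic spaces over `B`). If (1) for every
`a`, every cocone of cartesian squares `D_i ×_{c.pt} U_a → U_a` is a colimit in algebraic spaces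
over `B`, and (2) the same holds for every fibre product `U_a ×_{c.pt} U_b`, then `c` is a colimit
in algebraic spaces over `B`. -/
theorem result {S : Scheme.{u}} {B : AlgSp.Space S} {I : Type v} [Category.{w} I] (D : I ⥤ Over B)
    (c : Cocone D) {κ : Type u} (Ua : κ → Over B) (ua : ∀ a, Ua a ⟶ c.pt)
    (hcov : AlgSp.IsFpqcCover (fun a => (Ua a).left.obj) (fun a => (ua a).left.hom))
    (h₁ : ∀ (a : κ) (Da : I ⥤ Over B) (α : Da ⟶ D) (ι : Da ⟶ (Functor.const I).obj (Ua a)),
      (∀ i, IsPullback (ι.app i).left.hom (α.app i).left.hom (ua a).left.hom (c.ι.app i).left.hom) →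
        Nonempty (IsColimit (Cocone.mk (Ua a) ι)))
    (h₂ : ∀ (a b : κ) (Uab : Over B) (pa : Uab ⟶ Ua a) (pb : Uab ⟶ Ua b),
      IsPullback pa.left.hom pb.left.hom (ua a).left.hom (ua b).left.hom →
      ∀ (Dab : I ⥤ Over B) (α : Dab ⟶ D) (ι : Dab ⟶ (Functor.const I).obj Uab),
        (∀ i, IsPullback (ι.app i).left.hom (α.app i).left.hom (pa ≫ ua a).left.hom (c.ι.app i).left.hom) →
          Nonempty (IsColimit (Cocone.mk Uab ι))) :
    Nonempty (IsColimit c) := by
  have hbase : ∀ a, Nonempty (IsColimit (Cocone.mk (Ua a) (pbCocone c (ua a)))) := fun a =>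
    h₁ a _ (pbProj c (ua a)) _ (pb_isPullback c (ua a))
  let φ : ∀ (s : Cocone D) a, Ua a ⟶ s.pt := fun s a =>
    (hbase a).some.desc ⟨s.pt, pbProj c (ua a) ≫ s.ι⟩
  have hφ : ∀ s a i, pbFst (c.ι.app i) (ua a) ≫ φ s a = pbSnd (c.ι.app i) (ua a) ≫ s.ι.app i :=
    fun s a i => (hbase a).some.fac ⟨s.pt, pbProj c (ua a) ≫ s.ι⟩ i
  have hbi : ∀ (s : Cocone D) a b,
      pullback.fst (ua a).left.hom (ua b).left.hom ≫ (φ s a).left.hom =
        pullback.snd (ua a).left.hom (ua b).left.hom ≫ (φ s b).left.hom := by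
    intro s a b
    let Q := pbObj (ua b) (ua a)
    let pa : Q ⟶ Ua a := pbFst (ua b) (ua a)
    let pb : Q ⟶ Ua b := pbSnd (ua b) (ua a)
    obtain ⟨hq⟩ := h₂ a b Q pa pb (IsPullback.of_hasPullback _ _) _ (pbProj c (pa ≫ ua a))
      (pbCocone c (pa ≫ ua a)) (pb_isPullback c (pa ≫ ua a))
    have : pa ≫ φ s a = pb ≫ φ s b := by
      refine hq.hom_ext fun i => ?_
      change pbFst (c.ι.app i) (pa ≫ ua a) ≫ pa ≫ φ s a = pbFst (c.ι.app i) (pa ≫ ua a) ≫ pb ≫ φ s b
      let la : pbObj (c.ι.app i) (pa ≫ ua a) ⟶ pbObj (c.ι.app i) (ua a) :=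
        pbLift _ _ (pbFst _ _ ≫ pa) (pbSnd _ _) ((Category.assoc _ _ _).trans (pb_cond (c.ι.app i) (pa ≫ ua a)))
      let lb : pbObj (c.ι.app i) (pa ≫ ua a) ⟶ pbObj (c.ι.app i) (ua b) :=
        pbLift _ _ (pbFst _ _ ≫ pb) (pbSnd _ _) (by
          rw [Category.assoc]
          exact (congrArg (pbFst (c.ι.app i) (pa ≫ ua a) ≫ ·) (pb_cond (ua b) (ua a)).symm).trans
            (pb_cond (c.ι.app i) (pa ≫ ua a)))
      rw [← Category.assoc, ← Category.assoc, ← show la ≫ pbFst _ _ = _ from pbLift_fst _ _ _ _ _,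
        ← show lb ≫ pbFst _ _ = _ from pbLift_fst _ _ _ _ _, Category.assoc, Category.assoc, hφ, hφ,
        ← Category.assoc, ← Category.assoc, show la ≫ pbSnd _ _ = _ from pbLift_snd _ _ _ _ _,
        show lb ≫ pbSnd _ _ = _ from pbLift_snd _ _ _ _ _]
    exact congr(($this).left.hom)
  choose β hβ using fun s : Cocone D =>
    SpFP87.exists_desc_of_fpqcCover (bi := fun a => (φ s a).left.hom) (hbi s) s.pt.left.property hcov
  have hw : ∀ s, β s ≫ s.pt.hom.hom = c.pt.hom.hom := fun s =>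
    SpFP87.hom_ext_of_fpqcCover B.property hcov fun a => by
      rw [← Category.assoc, hβ]
      exact (congr(($(Over.w (φ s a))).hom)).trans (congr(($(Over.w (ua a))).hom)).symm
  refine ⟨{
    desc := fun s => Over.homMk (ObjectProperty.homMk (β s)) (ObjectProperty.hom_ext _ (hw s))
    fac := fun s i => hom_ext' ?_
    uniq := fun s m hm => hom_ext' ?_ }⟩
  · change (c.ι.app i).left.hom ≫ β s = (s.ι.app i).left.hom
    refine SpFP87.sp_hom_ext fun W l => ?_
    refine SpFP87.AgreeWith.unique (bi := fun a => (φ s a).left.hom) (z := l ≫ (c.ι.app i).left.hom)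
      s.pt.left.property hcov (fun W' k a l' hl' => ?_) (fun W' k a l' hl' => ?_)
    · dsimp only
      rw [← hβ s a, ← Category.assoc l', hl']
      simp only [Category.assoc]
    · dsimp only
      let m := pullback.lift (f := (ua a).left.hom) (g := (c.ι.app i).left.hom) l'
        ((AlgSp.yon S).map k ≫ l) (by rw [hl', Category.assoc])
      have e : pullback.fst (ua a).left.hom (c.ι.app i).left.hom ≫ (φ s a).left.hom =
          pullback.snd _ _ ≫ (s.ι.app i).left.hom := congr(($(hφ s a i)).left.hom)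
      rw [← pullback.lift_fst (f := (ua a).left.hom) (g := (c.ι.app i).left.hom) l'
        ((AlgSp.yon S).map k ≫ l) (by rw [hl', Category.assoc]), Category.assoc, e,
        pullback.lift_snd_assoc, Category.assoc]
  · refine SpFP87.hom_ext_of_fpqcCover s.pt.left.property hcov fun a => ?_
    change (ua a).left.hom ≫ m.left.hom = (ua a).left.hom ≫ β s
    rw [hβ]
    have : ua a ≫ m = φ s a := (hbase a).some.hom_ext fun i => by
      change pbFst (c.ι.app i) (ua a) ≫ ua a ≫ m = pbFst (c.ι.app i) (ua a) ≫ φ s a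
      rw [hφ, ← Category.assoc, pb_cond, Category.assoc, hm]
    exact congr(($this).left.hom)

end Groth.Agent.S10719
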