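import Groth.Statements.S1072
import Mathlib.CategoryTheory.Abelian.SerreClass.Localization
import Mathlib.CategoryTheory.Limits.Preserves.Opposites
import Groth.Agent.CatLoc45.Basic

set_option autoImplicit false
universe v v' u u'
open CategoryTheory CategoryTheory.Limits
open CohDer

namespace Groth.Agent.S1072
open CategoryTheory.Limits

section
variable {A : Type u} [Category.{v} A] [Abelian A] {D : Type u'} [Category.{v'} D] [Preadditive D]
  (L : A ⥤ D) [L.Additive] [PreservesFiniteLimits L] [PreservesFiniteColimits L]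

lemma exists_mono_arrow [L.mapArrow.EssSurj] {X Y : D} (g : X ⟶ Y) [Mono g] :
    ∃ (X' Y' : A) (f : X' ⟶ Y') (_ : Mono f), Nonempty (Arrow.mk (L.map f) ≅ Arrow.mk g) := by
  let e := L.mapArrow.objObjPreimageIso (Arrow.mk g)
  let f₀ := (L.mapArrow.objPreimage (Arrow.mk g)).hom
  have hm : Mono (L.map f₀) := ((MorphismProperty.monomorphisms D).arrow_iso_iff e).2 (.infer_property g)
  have hfac : L.map (Abelian.factorThruImage f₀) ≫ L.map (Abelian.image.ι f₀) = L.map f₀ := by
    rw [← L.map_comp, kernel.lift_ι]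
  have : Mono (L.map (Abelian.factorThruImage f₀)) := by
    have := hm
    rw [← hfac] at this
    exact mono_of_mono _ (L.map (Abelian.image.ι f₀))
  let hπ := normalEpiOfEpi (Abelian.factorThruImage f₀)
  have h0 : L.map hπ.g = 0 := by
    rw [← cancel_mono (L.map (Abelian.factorThruImage f₀)), zero_comp, ← L.map_comp, hπ.w, L.map_zero]
  have hc := (CokernelCofork.isColimitMapCoconeEquiv _ L).1 (isColimitOfPreserves L hπ.isColimit)
  obtain ⟨l, hl⟩ := CokernelCofork.IsColimit.desc' hc (𝟙 _) (by rw [h0, zero_comp])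
  have hl' : L.map (Abelian.factorThruImage f₀) ≫ l = 𝟙 _ := hl
  have : IsSplitMono (L.map (Abelian.factorThruImage f₀)) := IsSplitMono.mk' ⟨l, hl'⟩
  have : IsIso (L.map (Abelian.factorThruImage f₀)) := isIso_of_epi_of_isSplitMono _
  refine ⟨_, _, Abelian.image.ι f₀, inferInstance, ⟨Iso.symm ?_ ≪≫ e⟩⟩
  let i := asIso (L.map (Abelian.factorThruImage f₀))
  exact Arrow.isoMk i (Iso.refl _)
    (show L.map (Abelian.factorThruImage f₀) ≫ L.map (Abelian.image.ι f₀) = L.map f₀ ≫ 𝟙 _ by rw [hfac, Category.comp_id])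

lemma exists_epi_arrow [L.mapArrow.EssSurj] {X Y : D} (g : X ⟶ Y) [Epi g] :
    ∃ (X' Y' : A) (f : X' ⟶ Y') (_ : Epi f), Nonempty (Arrow.mk (L.map f) ≅ Arrow.mk g) := by
  let e := L.mapArrow.objObjPreimageIso (Arrow.mk g)
  let f₀ := (L.mapArrow.objPreimage (Arrow.mk g)).hom
  have hm : Epi (L.map f₀) := ((MorphismProperty.epimorphisms D).arrow_iso_iff e).2 (.infer_property g)
  have hfac : L.map (Abelian.factorThruImage f₀) ≫ L.map (Abelian.image.ι f₀) = L.map f₀ := by
    rw [← L.map_comp, kernel.lift_ι]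
  have : Epi (L.map (Abelian.image.ι f₀)) := by
    have := hm
    rw [← hfac] at this
    exact epi_of_epi (L.map (Abelian.factorThruImage f₀)) _
  let hι := normalMonoOfMono (Abelian.image.ι f₀)
  have h0 : L.map hι.g = 0 := by
    rw [← cancel_epi (L.map (Abelian.image.ι f₀)), comp_zero, ← L.map_comp, hι.w, L.map_zero]
  have hc := (KernelFork.isLimitMapConeEquiv _ L).1 (isLimitOfPreserves L hι.isLimit)
  obtain ⟨l, hl⟩ := KernelFork.IsLimit.lift' hc (𝟙 _) (by rw [h0, comp_zero])
  have hl' : l ≫ L.map (Abelian.image.ι f₀) = 𝟙 _ := hl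
  have : IsSplitEpi (L.map (Abelian.image.ι f₀)) := IsSplitEpi.mk' ⟨l, hl'⟩
  have : IsIso (L.map (Abelian.image.ι f₀)) := isIso_of_mono_of_isSplitEpi _
  refine ⟨_, _, Abelian.factorThruImage f₀, inferInstance, ⟨?_ ≪≫ e⟩⟩
  let i := asIso (L.map (Abelian.image.ι f₀))
  exact Arrow.isoMk (Iso.refl _) i
    (show 𝟙 _ ≫ L.map f₀ = L.map (Abelian.factorThruImage f₀) ≫ L.map (Abelian.image.ι f₀) by rw [hfac, Category.id_comp])

lemma abelian_nonempty [L.EssSurj] [L.mapArrow.EssSurj] : Nonempty (Abelian D) := by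
  have : HasFiniteProducts D := L.hasFiniteProducts_of_additive_of_essSurj
  have : HasKernels D := ⟨fun {_ _} f => by
    obtain ⟨g, ⟨e⟩⟩ := Functor.EssSurj.mem_essImage (F := L.mapArrow) (Arrow.mk f)
    have : HasLimit (parallelPair (L.map g.hom) 0) :=
      ⟨⟨⟨_, (KernelFork.isLimitMapConeEquiv _ L).1
        (isLimitOfPreserves L (kernelIsKernel g.hom))⟩⟩⟩
    exact hasLimit_of_iso (show parallelPair (L.map g.hom) 0 ≅ _ from
      parallelPair.ext (Arrow.leftFunc.mapIso e) (Arrow.rightFunc.mapIso e)
        (Arrow.w e.hom).symm (by simp))⟩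
  have : HasCokernels D := ⟨fun {_ _} f => by
    obtain ⟨g, ⟨e⟩⟩ := Functor.EssSurj.mem_essImage (F := L.mapArrow) (Arrow.mk f)
    have : HasColimit (parallelPair (L.map g.hom) 0) :=
      ⟨⟨⟨_, (CokernelCofork.isColimitMapCoconeEquiv _ L).1
        (isColimitOfPreserves L (cokernelIsCokernel g.hom))⟩⟩⟩
    exact hasColimit_of_iso (show _ ≅ parallelPair (L.map g.hom) 0 from
      parallelPair.ext (Arrow.leftFunc.mapIso e.symm) (Arrow.rightFunc.mapIso e.symm)
        (Arrow.w e.inv).symm (by simp))⟩
  have : IsNormalMonoCategory D := ⟨fun g _ => by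
    obtain ⟨X', Y', f, _, ⟨e⟩⟩ := exists_mono_arrow L g
    let hf' := normalMonoOfMono f
    refine ⟨NormalMono.ofArrowIso ?_ e⟩
    exact
      { Z := L.obj hf'.Z
        g := L.map hf'.g
        w := by rw [← L.map_comp]; simp [hf'.w]
        isLimit := (KernelFork.isLimitMapConeEquiv _ L).1 (isLimitOfPreserves L hf'.isLimit) }⟩
  have : IsNormalEpiCategory D := ⟨fun g _ => by
    obtain ⟨X', Y', f, _, ⟨e⟩⟩ := exists_epi_arrow L g
    let hf' := normalEpiOfEpi f
    refine ⟨NormalEpi.ofArrowIso ?_ e⟩
    exact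
      { W := L.obj hf'.W
        g := L.map hf'.g
        w := by rw [← L.map_comp]; simp [hf'.w]
        isColimit := (CokernelCofork.isColimitMapCoconeEquiv _ L).1
          (isColimitOfPreserves L hf'.isColimit) }⟩
  exact ⟨{}⟩

end

/-- Let A be an abelian category, W a class of morphisms admitting both left and right calculus of
fractions, and L : A ⥤ D a localization functor for W. Then D admits the structure of an abelian
category and L is exact (preserves finite limits and finite colimits). -/
theorem result {A : Type u} [Category.{v} A] [Abelian A]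
    (W : MorphismProperty A) [W.HasLeftCalculusOfFractions] [W.HasRightCalculusOfFractions]
    {D : Type u'} [Category.{v'} D] (L : A ⥤ D) [L.IsLocalization W] :
    Nonempty (Abelian D) ∧ PreservesFiniteLimits L ∧ PreservesFiniteColimits L := by
  have hc : PreservesFiniteColimits L := CatLoc45.preservesFiniteColimits W L
  have hco : PreservesFiniteColimits L.op := CatLoc45.preservesFiniteColimits W.op L.op
  have hl : PreservesFiniteLimits L := preservesFiniteLimits_of_op L
  refine ⟨?_, hl, hc⟩
  let : Preadditive D := Localization.preadditive L W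
  have : L.Additive := Localization.functor_additive L W
  have := Localization.essSurj L W
  have := Localization.essSurj_mapArrow L W
  exact abelian_nonempty L

end Groth.Agent.S1072
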