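import Groth.Statements.S10738
import Groth.Agent.SpQC61.IntegralPush

set_option autoImplicit false
universe u
open CategoryTheory CategoryTheory.Limits AlgebraicGeometry Opposite
open AlgSp

namespace Groth.Agent.S10738

/-- Let f : X ⟶ Y be an integral (for instance finite) morphism of algebraic spaces over S; such a
morphism is representable, and the representability is carried as a hypothesis. Then f_* on abelian
sheaves on the small etale sites is an exact functor (it preserves finite colimits, finite limits
being automatic) and R^p f_* F = 0 for every abelian sheaf F on X_et and every p > 0. -/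
theorem result {S : Scheme.{u}} {X Y : AlgSp.Space S} (f : X ⟶ Y)
    (hf : AlgSp.Representable f.hom) (hint : AlgSp.IsIntegralMor f.hom) :
    PreservesFiniteColimits (AlgSp.pushEt hf AddCommGrpCat.{u + 1}) ∧
      ∀ (p : ℕ), 0 < p → ∀ F : AlgSp.AbEt X.obj, IsZero ((AlgSp.RpushEt hf p).obj F) := by
  haveI : PreservesLimitsOfSize.{0, 0} (AlgSp.pushEt hf AddCommGrpCat.{u + 1}) :=
    (AlgSp.pullPushAdjEt hf AddCommGrpCat.{u + 1}).rightAdjoint_preservesLimits
  haveI : PreservesFiniteLimits (AlgSp.pushEt hf AddCommGrpCat.{u + 1}) := inferInstance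
  haveI := Groth.Agent.SpQC61.pushEt_preservesEpimorphisms hf hint
  refine ⟨?_, fun p hp F => ?_⟩
  · haveI : ∀ {A B : AlgSp.EtSh X.obj AddCommGrpCat.{u + 1}} (g : A ⟶ B),
        PreservesLimit (parallelPair g 0) (AlgSp.pushEt hf AddCommGrpCat.{u + 1}) := fun g => inferInstance
    haveI : (AlgSp.pushEt hf AddCommGrpCat.{u + 1}).PreservesHomology :=
      Functor.preservesHomology_of_preservesEpis_and_kernels _
    exact Functor.preservesFiniteColimits_of_preservesHomology _
  · obtain ⟨i, rfl⟩ : ∃ i, p = i + 1 := ⟨p - 1, by omega⟩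
    refine Groth.Agent.SpQC61.isZero_rightDerived_of_exactClass
      (F := AlgSp.pushEt hf AddCommGrpCat.{u + 1}) (P := fun _ => True)
      ⟨fun _ _ => trivial, fun _ _ _ _ => trivial, fun S hS _ _ => ?_⟩ trivial i
    haveI := hS.epi_g
    infer_instance

end Groth.Agent.S10738
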