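import Groth.Statements.S10747
import Groth.Agent.SpQC61.Noeth

set_option autoImplicit false
universe u
open CategoryTheory CategoryTheory.Limits AlgebraicGeometry Opposite
open AlgSp

namespace Groth.Agent.S10747

/-- Let X be a Noetherian algebraic space over S (quasi-compact, quasi-separated, locally Noetherian)
and M a coherent O_X-module on the small etale site of X (of finite presentation, X being locally
Noetherian). Then every increasing sequence N₁ ≤ N₂ ≤ … of subobjects of M whose underlying modules
are quasi-coherent is eventually constant. -/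
theorem result {S : Scheme.{u}} (X : AlgSp.Space S)
    (hqc : AlgSp.IsQuasiCompactSp X.obj) (hqs : AlgSp.IsQuasiSeparatedSp X.obj) (hN : AlgSp.IsLocNoethSp X.obj)
    (M : AlgSp.ModEt X.obj) [M.IsFinitePresentation] (N : ℕ →o Subobject M)
    (hq : ∀ n, (Subobject.underlying.obj (N n)).IsQuasicoherent) :
    ∃ n, ∀ m, n ≤ m → N m = N n := by
  classical
  obtain ⟨m, E, hE, hcov⟩ := SpQC61.exists_finite_affine_atlas X.property hqc
  let L : ∀ k, ℕ →o Submodule (SpQC61.Γt (E k)) (SpQC61.SectM M (E k)) := fun k =>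
    ⟨fun n => LinearMap.range (SpQC61.appM (N n).arrow (E k)), fun a b hab => by
      rintro _ ⟨x, rfl⟩
      exact ⟨SpQC61.appM (Subobject.ofLE _ _ (N.monotone hab)) (E k) x,
        congrArg (fun ψ => SpQC61.appM ψ (E k) x) (Subobject.ofLE_arrow (N.monotone hab))⟩⟩
  have hst : ∀ k, ∃ n, ∀ l, n ≤ l → L k n = L k l := fun k => by
    haveI := hE k
    haveI := SpQC61.isNoetherianRing_gamma X.property hN (E k)
    haveI := SpQC61.finite_sectM M (E k)
    exact monotone_stabilizes_iff_noetherian.mpr inferInstance (L k)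
  choose n₀ hn₀ using hst
  refine ⟨Finset.univ.sup n₀, fun l hl => ?_⟩
  haveI := hq l
  let ι := Subobject.ofLE _ _ (N.monotone hl)
  haveI : IsIso ι := SpQC61.isIso_of_surjective_cover ι E hE hcov fun k y => by
    have hy : SpQC61.appM (N l).arrow (E k) y ∈ L k (Finset.univ.sup n₀) :=
      ((hn₀ k _ ((Finset.le_sup (Finset.mem_univ k)).trans hl)).symm.trans
        (hn₀ k _ (Finset.le_sup (Finset.mem_univ k)))).le ⟨y, rfl⟩
    obtain ⟨x, hx⟩ := hy
    refine ⟨x, SpQC61.appM_injective (N l).arrow (E k) ?_⟩
    rw [← hx]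
    exact congrArg (fun ψ => SpQC61.appM ψ (E k) x) (Subobject.ofLE_arrow (N.monotone hl))
  exact (Subobject.eq_of_comm (asIso ι) (Subobject.ofLE_arrow (N.monotone hl))).symm

end Groth.Agent.S10747
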