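import Groth.Statements.S1075
import Groth.Agent.CohDer42.DerProd
import Groth.Agent.CohDer42.Res

set_option autoImplicit false
universe w v u
open CategoryTheory CategoryTheory.Limits
open CohDer

namespace Groth.Agent.S1075
open CategoryTheory.Limits Groth.Agent.CohDer42
open scoped ZeroObject
open HomologicalComplex

/-- In D(A), for A abelian with enough injectives and countable products, every sequence of
bounded-below objects has a product, so derived limits of such sequences exist. -/
theorem result {A : Type u} [Category.{v} A] [Abelian A] [HasDerivedCategory.{w} A]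
    [HasLimitsOfShape (Discrete ℕ) A] [EnoughInjectives A]
    (K : ℕ → DerivedCategory A) (hK : ∀ n, ∃ a : ℤ, (K n).IsGE a) : HasProduct K := by
  refine hasProduct_of_isKInjective K (fun n => ?_) (fun I => ?_)
  · obtain ⟨a, ha⟩ := hK n
    obtain ⟨M, e, hM⟩ := ha
    obtain ⟨L, f, h₁, h₂, h₃⟩ := exists_resolution' Injective (fun X => ⟨Injective.under X, Injective.ι X, inferInstance, inferInstance⟩) M
      ⟨0, isZero_zero A, inferInstance⟩ a (fun i hi => by
        have : M.IsGE a := inferInstance
        exact (exactAt_iff_isZero_homology M i).1 (M.exactAt_of_isGE a i hi))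
    exact ⟨L, CochainComplex.isKInjective_of_injective L a,
      ⟨e ≪≫ asIso (DerivedCategory.Q.map f)⟩⟩
  · exact inferInstance

end Groth.Agent.S1075
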