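import Groth.Statements.S10758
import Groth.Agent.SpQC61.StalkNbhd

set_option autoImplicit false
universe u
open CategoryTheory CategoryTheory.Limits AlgebraicGeometry Opposite
open AlgSp

namespace Groth.Agent.S10758

/-- Let X be a locally Noetherian algebraic space over S, φ : G ⟶ F a morphism of coherent O_X-modules
on the small etale site of X (of finite presentation, X being locally Noetherian) and x̄ a geometric
point of X. If the map φ_x̄ on stalks at x̄ (of the underlying abelian sheaves) is bijective, then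
there is an open subspace X' ⊂ X containing the image of x̄ such that φ|_{X'} is an isomorphism: φ
is bijective on sections over every scheme etale over X whose image in |X| lies in |X'|. -/
theorem result {S : Scheme.{u}} (X : AlgSp.Space S)
    (hX : AlgSp.IsLocNoethSp X.obj) {G F : AlgSp.ModEt X.obj} [G.IsFinitePresentation] [F.IsFinitePresentation]
    (φ : G ⟶ F) (xbar : AlgSp.FieldPt X.obj) (hx : xbar.IsGeometric)
    (hbij : IsIso ((AlgSp.stalkEtFunctor AddCommGrpCat.{u + 1} xbar).map ((AlgSp.toAbEt X.obj).map φ))) :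
    ∃ (X' : AlgSp.Space S) (j : X' ⟶ X), AlgSp.RepWith @IsOpenImmersion j.hom ∧
      AlgSp.Points.mk xbar ∈ Set.range (AlgSp.Points.map j.hom) ∧
        ∀ E : AlgSp.EtOver X.obj, Set.range (AlgSp.Points.ofPt E.obj.hom) ⊆ Set.range (AlgSp.Points.map j.hom) →
          IsIso (φ.val.app (op E)) := by
  obtain ⟨h₁, h₂⟩ := SpQC61.isFinitePresentation_kernel_cokernel X.property hX φ
  haveI := h₁
  haveI := h₂
  obtain ⟨O₁, hO₁, hxO₁, hzero₁⟩ := SpQC61.exists_open_vanish X.property (Limits.kernel φ) xbar hx
    (SpQC61.germsVanish_kernel X.property φ xbar hx (SpQC61.stalk_injective X.property φ xbar hx inferInstance))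
  obtain ⟨O₂, hO₂, hxO₂, hzero₂⟩ := SpQC61.exists_open_vanish X.property (Limits.cokernel φ) xbar hx
    (SpQC61.germsVanish_cokernel X.property φ xbar hx (SpQC61.stalk_surjective X.property φ xbar hx inferInstance))
  obtain ⟨X', j, hj, hr⟩ := SpQC61.exists_space_of_isOpen X (O₁ ∩ O₂) (hO₁.inter hO₂)
  refine ⟨X', j, hj, hr.symm ▸ ⟨hxO₁, hxO₂⟩, fun E hE => ?_⟩
  replace hE : Set.range (AlgSp.Points.ofPt E.obj.hom) ⊆ O₁ ∩ O₂ := hr ▸ hE
  refine (CategoryTheory.ConcreteCategory.isIso_iff_bijective _).mpr
    ⟨SpQC61.appM_injective_of_kernel φ E (hzero₁ E (hE.trans Set.inter_subset_left)), ?_⟩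
  exact SpQC61.appM_surjective_of_vanish φ (O₁ ∩ O₂)
    (fun E' h => hzero₁ E' (h.trans Set.inter_subset_left)) (fun E' h => hzero₂ E' (h.trans Set.inter_subset_right)) E hE

end Groth.Agent.S10758
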