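import Groth.Statements.S10762
import Groth.Agent.LimTop61.ProperImage

set_option autoImplicit false
universe u
open CategoryTheory CategoryTheory.Limits AlgebraicGeometry
open AlgSp

namespace Groth.Agent.S10762

/-- Let B be an algebraic space over S, let a : X ⟶ B and b : Y ⟶ B be locally of finite type with b
separated, and let f : X ⟶ Y be a morphism over B. If i : Z ⟶ X is a closed subspace with Z ⟶ B
proper, then the image of |Z| under |f| is a closed subset of |Y| which underlies a closed subspace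
Z' ⟶ Y with Z' ⟶ B proper. -/
theorem result {S : Scheme.{u}} {X Y B Z : AlgSp.Space S}
    (a : X ⟶ B) (b : Y ⟶ B) (f : X ⟶ Y) (hcomm : f ≫ b = a)
    (ha : AlgSp.LocP @LocallyOfFiniteType a.hom) (hb : AlgSp.LocP @LocallyOfFiniteType b.hom)
    (hbs : AlgSp.IsSeparatedMor b.hom)
    (i : Z ⟶ X) (hi : AlgSp.RepWith @IsClosedImmersion i.hom) (hZ : AlgSp.IsProperMor (i ≫ a).hom) :
    IsClosed (AlgSp.Points.map f.hom '' Set.range (AlgSp.Points.map i.hom)) ∧
      ∃ (Z' : AlgSp.Space S) (i' : Z' ⟶ Y), AlgSp.RepWith @IsClosedImmersion i'.hom ∧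
        Set.range (AlgSp.Points.map i'.hom) = AlgSp.Points.map f.hom '' Set.range (AlgSp.Points.map i.hom) ∧
        AlgSp.IsProperMor (i' ≫ b).hom := by
  have hc : (i ≫ f).hom ≫ b.hom = (i ≫ a).hom := by rw [← hcomm]; simp
  obtain ⟨hu, -⟩ := Groth.Agent.SpPts86.univClosed_over_separated Z.property Y.property B.property hc hbs hZ.2.2
  obtain ⟨h1, W, j, hj, hr, hp⟩ := Groth.Agent.LimTop61.ProperImage.exists_image (κ := Unit) (Z := fun _ => Z.obj)
    Y.property B.property hb (fun _ => Z.property) (fun _ => (i ≫ f).hom) (fun _ => hu)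
    (fun _ => by rw [hc]; exact hZ)
  have e : (⋃ _ : Unit, Set.range (AlgSp.Points.map (i ≫ f).hom)) =
      AlgSp.Points.map f.hom '' Set.range (AlgSp.Points.map i.hom) := by
    rw [Set.iUnion_const, ← Set.range_comp]
    congr 1
    funext z
    exact AlgSp.Points.map_comp _ _ _
  rw [e] at h1 hr
  exact ⟨h1, W, ObjectProperty.homMk j, hj, hr, hp⟩

end Groth.Agent.S10762
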