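import Groth.Statements.S10787
import Mathlib
import Groth.Agent.CAlg6.InjColim

set_option autoImplicit false
universe u
open CategoryTheory CategoryTheory.Limits
open CAlg
open Groth.Agent
open CategoryTheory CategoryTheory.Limits

namespace Groth.Agent.S10787

/-- Let A be a Noetherian ring and J an injective A-module (an injective object of QCoh of the affine
scheme Spec A, through the equivalence with A-modules). Then J is a filtered colimit of A-modules
each of which is a finite module over some Artinian A-algebra B, the A-module structure being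
restricted from B; these are the modules underlying pushforwards to Spec A of coherent sheaves on
spectra of Artinian rings. -/
theorem result (A : Type u) [CommRing A] [IsNoetherianRing A]
    (J : Type u) [AddCommGroup J] [Module A J] [Module.Injective A J] :
    ∃ (ι : Type u) (_ : SmallCategory ι) (_ : IsFiltered ι) (D : ι ⥤ ModuleCat.{u} A)
      (c : Cocone D) (_ : IsColimit c), Nonempty (c.pt ≅ ModuleCat.of A J) ∧
      ∀ i : ι, ∃ (B : Type u) (_ : CommRing B) (_ : Algebra A B) (_ : IsArtinianRing B)
        (_ : Module B (D.obj i)) (_ : IsScalarTower A B (D.obj i)), Module.Finite B (D.obj i) := by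
  classical
  obtain ⟨κ, E, hint, hE⟩ := InjHull18.exists_isInternal_indecomposable (R := A) (I := J) ‹Module.Injective A J›
  choose p hp φ hφ using fun k => InjHull18.exists_hull_of_indecomposable (hE k).1 (hE k).2
  have hbij : ∀ k, ∀ s ∉ p k, Function.Bijective (LinearMap.lsmul A (E k) s) := fun k s hs =>
    @InjHull18.smul_bijective_of_notMem A _ _ _ _ (p k) (hp k) (φ k) (hφ k) s hs
  have htor : ∀ k, ∀ x : E k, ∃ n : ℕ, ∀ a ∈ p k ^ n, a • x = 0 := fun k =>
    InjHull18.hull_isPowerTorsion (hφ k) (fun y => ⟨1, fun a ha => by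
      obtain ⟨y, rfl⟩ := Ideal.Quotient.mk_surjective y
      rw [Algebra.smul_def, Ideal.Quotient.algebraMap_eq, ← map_mul, Ideal.Quotient.eq_zero_iff_mem]
      exact Ideal.mul_mem_right _ _ (by simpa using ha)⟩)
  let fib : Finset (Σ k, E k) → ∀ k, Finset (E k) := fun F k => F.preimage (fun x : E k => (⟨k, x⟩ : Σ k, E k)) (fun x _ y _ h => eq_of_heq (Sigma.mk.inj h).2)
  let M : Finset (Σ k, E k) → ∀ k, Submodule A (E k) := fun F k =>
    @CAlg6.InjColim.sat A _ _ _ _ (p k) (hp k) (fib F k : Set (E k))
  let N : Finset (Σ k, E k) → Submodule A J := fun F => ⨆ k, (M F k).map (E k).subtype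
  have hN : Monotone N := fun F G h => iSup_mono fun k => Submodule.map_mono
    (@CAlg6.InjColim.sat_mono A _ _ _ _ (p k) (hp k) _ _ (fun x hx => Finset.mem_preimage.2 (h (Finset.mem_preimage.1 hx))))
  have hcov : ∀ z : J, ∃ F, z ∈ N F := by
    intro z
    have hz : z ∈ ⨆ k, E k := by rw [hint.submodule_iSup_eq_top]; trivial
    induction hz using Submodule.iSup_induction' with
    | mem k x hx =>
      refine ⟨{⟨k, ⟨x, hx⟩⟩}, Submodule.mem_iSup_of_mem k ⟨⟨x, hx⟩, ?_, rfl⟩⟩
      refine @CAlg6.InjColim.subset_sat A _ _ _ _ (p k) (hp k) _ _ ?_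
      show (⟨x, hx⟩ : E k) ∈ (fib _ k : Set (E k))
      exact Finset.mem_preimage.2 (Finset.mem_singleton_self _)
    | zero => exact ⟨∅, zero_mem _⟩
    | add a b _ _ ha hb =>
      obtain ⟨F, hF⟩ := ha
      obtain ⟨G, hG⟩ := hb
      exact ⟨F ∪ G, add_mem (hN Finset.subset_union_left hF) (hN Finset.subset_union_right hG)⟩
  refine ⟨Finset (Σ k, E k), inferInstance, inferInstance, CAlg6.InjColim.diagram J N hN,
    CAlg6.InjColim.cocone J N hN, CAlg6.InjColim.isColimit J N hN hcov, ⟨Iso.refl _⟩, fun F => ?_⟩
  let T : Finset κ := F.image Sigma.fst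
  have hB : ∀ k : T, ∃ (B : Type u) (_ : CommRing B) (_ : Algebra A B) (_ : IsArtinianRing B)
      (_ : Module B (M F k.1)) (_ : IsScalarTower A B (M F k.1)), Module.Finite B (M F k.1) := fun k =>
    @CAlg6.InjColim.exists_artinian A _ _ _ _ (p k.1) (hp k.1) _ (hbij k.1) (htor k.1) (fib F k.1)
  choose B cB aB artB modB towB finB using hB
  let f : ((k : T) → M F k.1) →ₗ[A] J :=
    ∑ k, ((E k.1).subtype.comp (M F k.1).subtype).comp (LinearMap.proj k)
  have hrange : LinearMap.range f = N F := by
    refine le_antisymm ?_ (iSup_le fun k => ?_)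
    · rintro _ ⟨x, rfl⟩
      simp only [f, LinearMap.sum_apply]
      exact Submodule.sum_mem _ fun k _ => Submodule.mem_iSup_of_mem k.1 ⟨_, (x k).2, rfl⟩
    · by_cases hk : k ∈ T
      · rintro _ ⟨y, hy, rfl⟩
        refine ⟨Pi.single ⟨k, hk⟩ ⟨y, hy⟩, ?_⟩
        simp only [f, LinearMap.sum_apply, LinearMap.comp_apply, LinearMap.proj_apply]
        rw [Finset.sum_eq_single ⟨k, hk⟩]
        · simp
        · intro j _ hj; simp [Pi.single_eq_of_ne hj]
        · simp
      · have hfib : (fib F k : Set (E k)) = ∅ := by
          ext x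
          simp only [fib, Finset.mem_coe, Set.mem_empty_iff_false, iff_false]
          exact fun hx => hk (Finset.mem_image.2 ⟨⟨k, x⟩, Finset.mem_preimage.1 hx, rfl⟩)
        have : M F k = ⊥ := by
          simp only [M, hfib]
          exact @CAlg6.InjColim.sat_empty A _ _ _ _ (p k) (hp k) fun s hs => (hbij k s hs).1
        rw [this, Submodule.map_bot]
        exact bot_le
  have hinj : Function.Injective f := by
    rw [injective_iff_map_eq_zero]
    intro x hx
    have h := iSupIndep_iff_finsetSum_eq_zero_imp_eq_zero (p := fun k => E k) |>.1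
      hint.submodule_iSupIndep T (fun k => if hk : k ∈ T then ((x ⟨k, hk⟩ : E k) : J) else 0)
      (fun k hk => by simp [hk]) (by
        rw [← Finset.sum_attach]
        simp only [f, LinearMap.sum_apply, LinearMap.comp_apply, LinearMap.proj_apply,
          Submodule.subtype_apply] at hx
        rw [← hx]
        exact Finset.sum_congr rfl fun k _ => by simp [k.2])
    funext k
    have := h k.1 k.2
    simp only [k.2, dite_true] at this
    exact Subtype.ext (Subtype.ext this)
  let e : ((k : T) → M F k.1) ≃ₗ[A] N F := (LinearEquiv.ofInjective f hinj).trans (LinearEquiv.ofEq _ _ hrange)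
  let _ : Module (∀ k, B k) ((k : T) → M F k.1) := Pi.module'
  have : IsScalarTower A (∀ k, B k) ((k : T) → M F k.1) :=
    ⟨fun a b x => funext fun k => smul_assoc a (b k) (x k)⟩
  have : Module.Finite (∀ k, B k) ((k : T) → M F k.1) := by
    choose G hG using fun k => (finB k).fg_top
    refine ⟨⟨Finset.univ.biUnion fun k => (G k).image (Pi.single k), eq_top_iff.2 fun x _ => ?_⟩⟩
    rw [← Finset.univ_sum_single x]
    refine Submodule.sum_mem _ fun k _ => ?_
    have key : ∀ y, Pi.single k y ∈ Submodule.span (∀ k, B k)
        (↑(Finset.univ.biUnion fun k => (G k).image (Pi.single k)) : Set ((k : T) → M F k.1)) := by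
      intro y
      have hy : y ∈ Submodule.span (B k) (G k : Set (M F k.1)) := (hG k).symm ▸ trivial
      induction hy using Submodule.span_induction with
      | mem y hy => exact Submodule.subset_span (Finset.mem_biUnion.2 ⟨k, Finset.mem_univ _, Finset.mem_image.2 ⟨y, hy, rfl⟩⟩)
      | zero => rw [Pi.single_zero]; exact zero_mem _
      | add a b _ _ ha hb => rw [Pi.single_add]; exact add_mem ha hb
      | smul c a _ ha =>
        have := Submodule.smul_mem (Submodule.span (∀ k, B k)
          (↑(Finset.univ.biUnion fun k => (G k).image (Pi.single k)) : Set ((k : T) → M F k.1))) (Pi.single k c) ha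
        convert this using 1
        funext j
        show _ = (Pi.single k c : ∀ k, B k) j • (Pi.single k a : (k : T) → M F k.1) j
        rcases eq_or_ne j k with rfl | h
        · simp
        · simp [Pi.single_eq_of_ne h]
    exact key _
  let eA : N F ≃+ ((k : T) → M F k.1) := e.symm.toAddEquiv
  let _ : Module (∀ k, B k) (N F) := eA.module _
  let eB : N F ≃ₗ[∀ k, B k] ((k : T) → M F k.1) :=
    { eA with
      map_smul' := fun b x => eA.apply_symm_apply (b • eA x) }
  have : IsScalarTower A (∀ k, B k) (N F) := ⟨fun a b x => eB.injective (by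
    rw [map_smul, smul_assoc]
    show _ = e.symm (a • (b • x))
    rw [map_smul]
    congr 1
    exact (map_smul eB b x).symm)⟩
  exact ⟨∀ k, B k, inferInstance, inferInstance, inferInstance, eA.module _,
    ‹IsScalarTower A (∀ k, B k) (N F)›, (Module.Finite.equiv eB.symm : Module.Finite (∀ k, B k) (N F))⟩

end Groth.Agent.S10787
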