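import Groth.Statements.S10794
import Groth.Agent.LimTop61.CartierDim

set_option autoImplicit false
universe u
open CategoryTheory CategoryTheory.Limits AlgebraicGeometry Topology TopologicalSpace
open AlgSp

namespace Groth.Agent.S10794

/-- Let X be an algebraic space over a scheme S, D ⟶ X an effective Cartier divisor (one-chart sense)
and x a point of |D|. If the dimension of X at the image of x is d, in the sense that some etale
scheme chart of X has local dimension d at a point over it, and d is finite, then the dimension of D
at x is strictly smaller: some etale scheme chart of D has local dimension less than d at a point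
over x. -/
theorem result {S : Scheme.{u}} (X D : AlgSp.Space S) (i : D ⟶ X)
    (hD : AlgSp.IsEffCartierSub i.hom) (x : AlgSp.Points D.obj) (d : WithBot ℕ∞)
    (hd : AlgSp.HasAt (fun U u => FlatMor.localDim ↥U u = d) X.obj (AlgSp.Points.map i.hom x)) (hfin : d ≠ ⊤) :
    AlgSp.HasAt (fun V v => FlatMor.localDim ↥V v < d) D.obj x := by
  obtain ⟨hi, V, φ, I, fst, hφ, hφs, sq, hI⟩ := hD
  have hfst := (AlgSp.repWith_isStableUnderBaseChange (S := S) @Etale).of_isPullback sq.flip hφ
  have hfsts := (AlgSp.repWith_isStableUnderBaseChange (S := S) @Surjective).of_isPullback sq.flip hφs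
  obtain ⟨w, rfl⟩ := Groth.Agent.SpPts86.surjective_ofPt hfsts x
  have e : AlgSp.Points.ofPt φ (I.subschemeι w) = AlgSp.Points.map i.hom (AlgSp.Points.ofPt fst w) := by
    rw [AlgSp.Points.map_ofPt, sq.w, Groth.Agent.SpPts86.ofPt_comp]
    rfl
  have hd' : FlatMor.localDim ↥V.left (I.subschemeι w) = d :=
    (Groth.Agent.SpPts86.hasAt_iff_forall_chart X.property (Q := fun U u => FlatMor.localDim ↥U u = d)
      (fun g hg a => Groth.Agent.SpPts86.invariant_localDim d g hg a) _).1 hd V φ _ hφ e
  exact ⟨_, fst, w, hfst, rfl, Groth.Agent.LimTop61.CartierDim.localDim_lt hI w d hd' hfin⟩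

end Groth.Agent.S10794
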