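import Groth.Statements.S10820
import Groth.Agent.VarGal.ProjDim

set_option autoImplicit false
universe u
open AlgebraicGeometry Topology TopologicalSpace
open Variety

namespace Groth.Agent.S10820

/-- For a field k, n ≥ 2 and a nonzero homogeneous polynomial f of degree d ≥ 1 in n + 1 variables, the
hypersurface V_+(f) in projective n-space over k (as a subspace of Proj of the polynomial ring
graded by degree) is connected and nonempty. -/
theorem result (k : Type u) [Field k] (n d : ℕ) (hn : 2 ≤ n)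
    (f : MvPolynomial (Fin (n + 1)) k) (hf : f.IsHomogeneous d) (hd : 0 < d) (hf0 : f ≠ 0) :
    IsConnected (ProjectiveSpectrum.zeroLocus (CohB1.polyGrading n k)
      ({f} : Set (MvPolynomial (Fin (n + 1)) k))) := by
  classical
  have key : ∀ z ∈ ProjectiveSpectrum.zeroLocus (CohB1.polyGrading n k) ({f} : Set (MvPolynomial (Fin (n + 1)) k)),
      ∃ g, g ∣ f ∧ Prime g ∧ g ∈ z.asHomogeneousIdeal.toIdeal := by
    intro z hz
    obtain ⟨u, hu⟩ := UniqueFactorizationMonoid.factors_prod hf0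
    obtain ⟨g, hgm, hgz⟩ := z.isPrime.multiset_prod_mem_iff_exists_mem _ |>.1
      ((z.isPrime.mem_or_mem (hu ▸ Set.singleton_subset_iff.1 hz : _ * (u : MvPolynomial (Fin (n + 1)) k) ∈ _)).resolve_right
        fun hh => z.isPrime.ne_top (Ideal.eq_top_of_isUnit_mem _ hh u.isUnit))
    exact ⟨g, UniqueFactorizationMonoid.dvd_of_mem_factors hgm, UniqueFactorizationMonoid.prime_of_factor g hgm, hgz⟩
  have hfv := VarGal.mem_vertexIdeal_of_isHomogeneous hf hd
  have mk : ∀ g, g ∣ f → Prime g → ∃ z : ProjectiveSpectrum (CohB1.polyGrading n k),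
      z.asHomogeneousIdeal.toIdeal = Ideal.span {g} ∧
      ProjectiveSpectrum.zeroLocus (CohB1.polyGrading n k) {g} = closure {z} := by
    intro g hg hgp
    obtain ⟨e, he⟩ := VarGal.exists_isHomogeneous_of_dvd hf hf0 hg
    let z := VarGal.mkPoint (Ideal.span {g}) (hq := (Ideal.span_singleton_prime hgp.ne_zero).2 hgp)
      (VarGal.isHomogeneous_span fun x (hx : x ∈ ({g} : Set _)) => ⟨e, hx ▸ he⟩)
      (by rw [VarGal.trdegQuot_span_prime hgp]; omega)
    exact ⟨z, rfl, Set.ext fun y =>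
      (VarGal.mem_zeroLocus_iff_span_le _ y).trans (ProjectiveSpectrum.le_iff_mem_closure _ z y)⟩
  have sub : ∀ g, g ∣ f → ProjectiveSpectrum.zeroLocus (CohB1.polyGrading n k) {g} ⊆
      ProjectiveSpectrum.zeroLocus (CohB1.polyGrading n k) {f} := fun g hg z hz =>
    Set.singleton_subset_iff.2 (Ideal.mem_of_dvd z.asHomogeneousIdeal.toIdeal hg (Set.singleton_subset_iff.1 hz))
  refine ⟨?_, isPreconnected_of_forall_pair fun x hx y hy => ?_⟩
  · obtain ⟨g, hgi, hg⟩ := WfDvdMonoid.exists_irreducible_factor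
      (fun hu => Ideal.IsMaximal.ne_top (I := VarGal.vertexIdeal k n) inferInstance (Ideal.eq_top_of_isUnit_mem _ hfv hu)) hf0
    obtain ⟨z, -, hz⟩ := mk g hg (UniqueFactorizationMonoid.irreducible_iff_prime.1 hgi)
    exact ⟨z, sub g hg (hz ▸ subset_closure rfl)⟩
  obtain ⟨g, hg, hgp, hgx⟩ := key x hx
  obtain ⟨g', hg', hgp', hgy⟩ := key y hy
  obtain ⟨a, ha, hVa⟩ := mk g hg hgp
  obtain ⟨b, hb, hVb⟩ := mk g' hg' hgp'
  refine ⟨ProjectiveSpectrum.zeroLocus _ {g} ∪ ProjectiveSpectrum.zeroLocus _ {g'},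
    Set.union_subset (sub g hg) (sub g' hg'), Or.inl (Set.singleton_subset_iff.2 hgx),
    Or.inr (Set.singleton_subset_iff.2 hgy), ?_⟩
  obtain ⟨e', he'⟩ := VarGal.exists_isHomogeneous_of_dvd hf hf0 hg'
  obtain ⟨c, hc⟩ := VarGal.exists_point_of_add_le a (Set.finite_singleton g')
    (fun x (hx : x ∈ ({g'} : Set _)) => ⟨e', hx ▸ he'⟩)
    (Set.singleton_subset_iff.2 (VarGal.le_vertexIdeal b.asHomogeneousIdeal.isHomogeneous b.isPrime.ne_top
      (hb.ge (Ideal.mem_span_singleton_self g'))))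
    (by rw [Set.ncard_singleton, VarGal.coneDim, ha, VarGal.trdegQuot_span_prime hgp]; omega)
  refine IsPreconnected.union c ?_ ?_ ?_ ?_
  · rw [hVa]; exact (ProjectiveSpectrum.le_iff_mem_closure _ a c).1 (le_sup_left.trans hc.1.2)
  · exact (VarGal.mem_zeroLocus_iff_span_le _ c).2 (le_sup_right.trans hc.1.2)
  · rw [hVa]; exact isPreconnected_singleton.closure
  · rw [hVb]; exact isPreconnected_singleton.closure

end Groth.Agent.S10820
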