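import Groth.Statements.S10821
import Groth.Agent.VarGal.ProjDim

set_option autoImplicit false
universe u
open AlgebraicGeometry Topology TopologicalSpace
open Variety

namespace Groth.Agent.S10821

/-- For a field k and an irreducible closed subset Z of projective n-space over k, Z has codimension 1
(the longest chain of irreducible closed subsets strictly above Z has length 1) if and only if Z is
the zero set V_+(f) of an irreducible homogeneous polynomial f in n + 1 variables. -/
theorem result (k : Type u) [Field k] (n : ℕ)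
    (Z : TopologicalSpace.IrreducibleCloseds (ProjectiveSpectrum (CohB1.polyGrading n k))) :
    Order.coheight Z = 1 ↔
      ∃ (d : ℕ) (f : MvPolynomial (Fin (n + 1)) k), f.IsHomogeneous d ∧ Irreducible f ∧
        (Z : Set (ProjectiveSpectrum (CohB1.polyGrading n k))) =
          ProjectiveSpectrum.zeroLocus (CohB1.polyGrading n k) ({f} : Set (MvPolynomial (Fin (n + 1)) k)) := by
  classical
  obtain ⟨p, hp⟩ := QuasiSober.sober Z.isIrreducible Z.isClosed
  have hp' : closure {p} = (Z : Set (ProjectiveSpectrum (CohB1.polyGrading n k))) := hp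
  obtain ⟨p₀, hp₀, huniv, -⟩ := VarGal.exists_genPoint (k := k) (n := n)
  have hmem : ∀ z, z ∈ (Z : Set (ProjectiveSpectrum (CohB1.polyGrading n k))) ↔
      p.asHomogeneousIdeal.toIdeal ≤ z.asHomogeneousIdeal.toIdeal := fun z => by
    rw [← hp']; exact (ProjectiveSpectrum.le_iff_mem_closure _ p z).symm
  let T : IrreducibleCloseds (ProjectiveSpectrum (CohB1.polyGrading n k)) :=
    ⟨closure {p₀}, isIrreducible_singleton.closure, isClosed_closure⟩
  have hT : ∀ Y : IrreducibleCloseds (ProjectiveSpectrum (CohB1.polyGrading n k)), Y ≤ T := fun Y z _ =>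
    huniv.ge trivial
  have hmax : ∀ Y : IrreducibleCloseds (ProjectiveSpectrum (CohB1.polyGrading n k)),
      IsMax Y → p₀ ∈ (Y : Set _) := fun Y hY => hY (hT Y) (subset_closure rfl)
  constructor
  · intro h1
    have hne : p.asHomogeneousIdeal.toIdeal ≠ ⊥ := by
      intro he
      have : IsMax Z := fun Y _ z _ => (hmem z).2 (by rw [he]; exact bot_le)
      rw [Order.coheight_eq_zero.2 this] at h1
      exact zero_ne_one h1
    obtain ⟨d, g, hgp, hg, hg0⟩ := VarGal.exists_homogeneous_ne_zero p.asHomogeneousIdeal.isHomogeneous hne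
    obtain ⟨u, hu⟩ := UniqueFactorizationMonoid.factors_prod hg0
    obtain ⟨f, hfm, hfp⟩ := p.isPrime.multiset_prod_mem_iff_exists_mem _ |>.1
      ((p.isPrime.mem_or_mem (hu ▸ hgp : _ * (u : MvPolynomial (Fin (n + 1)) k) ∈ _)).resolve_right
        fun hh => p.isPrime.ne_top (Ideal.eq_top_of_isUnit_mem _ hh u.isUnit))
    have hfi := UniqueFactorizationMonoid.irreducible_of_factor f hfm
    obtain ⟨e, he⟩ := VarGal.exists_isHomogeneous_of_dvd hg hg0 (UniqueFactorizationMonoid.dvd_of_mem_factors hfm)
    refine ⟨e, f, he, hfi, ?_⟩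
    have hle : Ideal.span {f} ≤ p.asHomogeneousIdeal.toIdeal := (Ideal.span_singleton_le_iff_mem _).2 hfp
    have hq : (Ideal.span {f}).IsPrime := (Ideal.span_singleton_prime hfi.ne_zero).2
      (UniqueFactorizationMonoid.irreducible_iff_prime.1 hfi)
    let q : ProjectiveSpectrum (CohB1.polyGrading n k) :=
      ⟨⟨_, VarGal.isHomogeneous_span (fun x (hx : x ∈ ({f} : Set _)) => ⟨e, hx ▸ he⟩)⟩, hq,
        fun h => p.not_irrelevant_le fun x hx => hle (h hx)⟩
    have hqV : ∀ z, z ∈ ProjectiveSpectrum.zeroLocus (CohB1.polyGrading n k) {f} ↔ z ∈ closure {q} := fun z =>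
      (VarGal.mem_zeroLocus_iff_span_le _ z).trans (ProjectiveSpectrum.le_iff_mem_closure _ q z)
    suffices (Z : Set _) = closure {q} by ext z; rw [hqV, this]
    let W : IrreducibleCloseds (ProjectiveSpectrum (CohB1.polyGrading n k)) :=
      ⟨closure {q}, isIrreducible_singleton.closure, isClosed_closure⟩
    have hZW : Z ≤ W := fun z hz => (ProjectiveSpectrum.le_iff_mem_closure _ q z).1 (hle.trans ((hmem z).1 hz))
    rcases hZW.eq_or_lt with h | h
    · exact congrArg SetLike.coe h
    · exfalso
      have h0 : Order.coheight W < (1 : ℕ) := Order.coheight_le_coe_iff.1 h1.le W h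
      have hW : IsMax W := Order.coheight_eq_zero.1 (ENat.lt_one_iff_eq_zero.1 (by simpa using h0))
      have := (ProjectiveSpectrum.le_iff_mem_closure _ q p₀).2 (hmax W hW) (Ideal.mem_span_singleton_self f)
      have h0 : f ∈ p₀.asHomogeneousIdeal.toIdeal := this
      rw [hp₀] at h0
      exact hfi.ne_zero ((Submodule.mem_bot _).1 h0)
  · rintro ⟨e, f, he, hfi, hZ⟩
    have hfp : f ∈ p.asHomogeneousIdeal.toIdeal := by
      have : p ∈ (Z : Set (ProjectiveSpectrum (CohB1.polyGrading n k))) := hp' ▸ subset_closure rfl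
      rw [hZ] at this
      exact Set.singleton_subset_iff.1 this
    have hle : Ideal.span {f} ≤ p.asHomogeneousIdeal.toIdeal := (Ideal.span_singleton_le_iff_mem _).2 hfp
    let q : ProjectiveSpectrum (CohB1.polyGrading n k) :=
      ⟨⟨_, VarGal.isHomogeneous_span (fun x (hx : x ∈ ({f} : Set _)) => ⟨e, hx ▸ he⟩)⟩,
        (Ideal.span_singleton_prime hfi.ne_zero).2 (UniqueFactorizationMonoid.irreducible_iff_prime.1 hfi),
        fun h => p.not_irrelevant_le fun x hx => hle (h hx)⟩
    have hpf : p.asHomogeneousIdeal.toIdeal = Ideal.span {f} := le_antisymm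
      ((hmem q).1 (hZ ▸ Set.singleton_subset_iff.2 (Ideal.mem_span_singleton_self f))) hle
    refine le_antisymm (Order.coheight_le_coe_iff (n := 1).2 fun Y hY => ?_) (Order.one_le_iff_pos.2 (Order.coheight_pos.2 ?_))
    · refine lt_of_eq_of_lt (Order.coheight_eq_zero.2 ?_) (by simp)
      obtain ⟨y, hy⟩ := QuasiSober.sober Y.isIrreducible Y.isClosed
      have hy' : closure {y} = (Y : Set (ProjectiveSpectrum (CohB1.polyGrading n k))) := hy
      have hy0 : y.asHomogeneousIdeal.toIdeal = ⊥ := by
        by_contra hc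
        obtain ⟨g, hg, hgp⟩ := Ideal.IsPrime.exists_mem_prime_of_ne_bot y.isPrime hc
        have hyp : y.asHomogeneousIdeal.toIdeal ≤ p.asHomogeneousIdeal.toIdeal :=
          (ProjectiveSpectrum.le_iff_mem_closure _ y p).2 (hy'.ge (hY.le (hp'.le (subset_closure rfl))))
        have h1 : f ∣ g := Ideal.mem_span_singleton.1 (hpf ▸ hyp hg)
        have h2 : f ∈ y.asHomogeneousIdeal.toIdeal :=
          Ideal.mem_of_dvd _ ((hfi.associated_of_dvd hgp.irreducible h1).symm.dvd) hg
        refine hY.not_ge fun z hz => (hmem z).2 ?_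
        replace hz : z ∈ closure {y} := hy'.ge hz
        exact (hpf.le.trans ((Ideal.span_singleton_le_iff_mem _).2 h2)).trans
          ((ProjectiveSpectrum.le_iff_mem_closure _ y z).2 hz)
      intro W _ z _
      refine hy'.le ?_
      refine (ProjectiveSpectrum.le_iff_mem_closure _ y z).1 ?_
      show y.asHomogeneousIdeal.toIdeal ≤ z.asHomogeneousIdeal.toIdeal
      rw [hy0]; exact bot_le
    · intro hZmax
      have := (hmem p₀).1 (hmax Z hZmax) hfp
      exact hfi.ne_zero ((Submodule.mem_bot _).1 (hp₀ ▸ this))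

end Groth.Agent.S10821
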