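import Groth.Statements.S10822
import Groth.Agent.VarGal.ProjDim

set_option autoImplicit false
universe u
open AlgebraicGeometry Topology TopologicalSpace
open Variety

namespace Groth.Agent.S10822

/-- Let k be a field, X an irreducible closed subset of projective n-space over k of positive dimension,
and f a homogeneous polynomial in n + 1 variables whose zero set V_+(f) is nonempty and does not
contain X. Then X meets V_+(f), and every irreducible component C of X ∩ V_+(f) has dim C + 1 = dim
X, i.e. codimension 1 in X (all maximal chains of irreducible closed subsets of X have length dim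
X). -/
theorem result (k : Type u) [Field k] (n d : ℕ)
    (X : Set (ProjectiveSpectrum (CohB1.polyGrading n k))) (hXc : IsClosed X) (hXi : IsIrreducible X)
    (hXd : 0 < topologicalKrullDim ↥X)
    (f : MvPolynomial (Fin (n + 1)) k) (hf : f.IsHomogeneous d)
    (hV : (ProjectiveSpectrum.zeroLocus (CohB1.polyGrading n k)
      ({f} : Set (MvPolynomial (Fin (n + 1)) k))).Nonempty)
    (hX : ¬ X ⊆ ProjectiveSpectrum.zeroLocus (CohB1.polyGrading n k)
      ({f} : Set (MvPolynomial (Fin (n + 1)) k))) :
    (X ∩ ProjectiveSpectrum.zeroLocus (CohB1.polyGrading n k)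
        ({f} : Set (MvPolynomial (Fin (n + 1)) k))).Nonempty ∧
      ∀ C ∈ irreducibleComponents ↥(X ∩ ProjectiveSpectrum.zeroLocus (CohB1.polyGrading n k)
          ({f} : Set (MvPolynomial (Fin (n + 1)) k))),
        topologicalKrullDim ↥C + 1 = topologicalKrullDim ↥X := by
  obtain ⟨p, hp⟩ := QuasiSober.sober hXi hXc
  obtain rfl : closure {p} = X := hp
  rw [VarGal.projDim_closure] at hXd ⊢
  have h2 : 2 ≤ VarGal.coneDim p := by
    have : (0 : ℕ) < VarGal.coneDim p - 1 := by exact_mod_cast hXd
    omega
  have hfp : f ∉ p.asHomogeneousIdeal.toIdeal := fun hf' => hX fun z hz => Set.singleton_subset_iff.2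
    ((ProjectiveSpectrum.le_iff_mem_closure _ p z).2 hz hf')
  have hfv : f ∈ VarGal.vertexIdeal k n := by
    obtain ⟨z, hz⟩ := hV
    exact VarGal.le_vertexIdeal z.asHomogeneousIdeal.isHomogeneous z.isPrime.ne_top (Set.singleton_subset_iff.1 hz)
  have hhom : ∀ g ∈ ({f} : Set (MvPolynomial (Fin (n + 1)) k)), ∃ e, g.IsHomogeneous e := by
    rintro _ rfl; exact ⟨d, hf⟩
  refine ⟨?_, fun C hC => ?_⟩
  · obtain ⟨q, hq⟩ := VarGal.exists_point_of_add_le p (Set.finite_singleton f) hhom
      (Set.singleton_subset_iff.2 hfv) (by rw [Set.ncard_singleton]; omega)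
    exact ⟨q, (ProjectiveSpectrum.le_iff_mem_closure _ p q).1 (le_sup_left.trans hq.1.2),
      (VarGal.mem_zeroLocus_iff_span_le _ q).2 (le_sup_right.trans hq.1.2)⟩
  · obtain ⟨q, hq, hd⟩ := VarGal.exists_point_of_component p hhom C hC
    have h3 : VarGal.coneDim q + 1 = VarGal.coneDim p := VarGal.trdegQuot_add_one_eq hfp hq
    have := VarGal.one_le_coneDim q
    rw [hd]
    exact_mod_cast (by omega : VarGal.coneDim q - 1 + 1 = VarGal.coneDim p - 1)

end Groth.Agent.S10822
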