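import Groth.Statements.S10823
import Groth.Agent.VarGal.ProjDim

set_option autoImplicit false
universe u
open AlgebraicGeometry Topology TopologicalSpace
open Variety

namespace Groth.Agent.S10823

/-- Let k be a field, X an irreducible closed subset of projective n-space over k, and f_1, …, f_r
nonzero homogeneous polynomials of positive degrees in n + 1 variables. Then every irreducible
component C of X ∩ V_+(f_1, …, f_r) has codimension at most r in X, i.e. dim X ≤ dim C + r, and if
dim X ≥ r the intersection is nonempty. -/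
theorem result (k : Type u) [Field k] (n r : ℕ)
    (X : Set (ProjectiveSpectrum (CohB1.polyGrading n k))) (hXc : IsClosed X) (hXi : IsIrreducible X)
    (f : Fin r → MvPolynomial (Fin (n + 1)) k) (d : Fin r → ℕ)
    (hf : ∀ i, (f i).IsHomogeneous (d i)) (hd : ∀ i, 0 < d i) (hf0 : ∀ i, f i ≠ 0) :
    (∀ C ∈ irreducibleComponents ↥(X ∩ ProjectiveSpectrum.zeroLocus (CohB1.polyGrading n k) (Set.range f)),
        topologicalKrullDim ↥X ≤ topologicalKrullDim ↥C + (r : WithBot ℕ∞)) ∧
      ((r : WithBot ℕ∞) ≤ topologicalKrullDim ↥X →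
        (X ∩ ProjectiveSpectrum.zeroLocus (CohB1.polyGrading n k) (Set.range f)).Nonempty) := by
  obtain ⟨p, hp⟩ := QuasiSober.sober hXi hXc
  obtain rfl : closure {p} = X := hp
  rw [VarGal.projDim_closure]
  have hhom : ∀ g ∈ Set.range f, ∃ e, g.IsHomogeneous e := by rintro _ ⟨i, rfl⟩; exact ⟨_, hf i⟩
  have hcard : (Set.range f).ncard ≤ r := by
    rw [← Set.image_univ]
    exact (Set.ncard_image_le Set.finite_univ).trans (by simp)
  have := VarGal.one_le_coneDim p
  refine ⟨fun C hC => ?_, fun hr => ?_⟩
  · obtain ⟨q, hq, hdim⟩ := VarGal.exists_point_of_component p hhom C hC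
    have h := VarGal.trdegQuot_le_add_of_minimalPrimes (Set.finite_range f) hq
    have := VarGal.one_le_coneDim q
    rw [hdim]
    unfold VarGal.coneDim at *
    exact_mod_cast (by omega : CAlgH2.trdegQuot k p.asHomogeneousIdeal.toIdeal - 1 ≤
      CAlgH2.trdegQuot k q.asHomogeneousIdeal.toIdeal - 1 + r)
  · have hr' : r ≤ VarGal.coneDim p - 1 := by exact_mod_cast hr
    obtain ⟨q, hq⟩ := VarGal.exists_point_of_add_le p (Set.finite_range f) hhom
      (Set.range_subset_iff.2 fun i => VarGal.mem_vertexIdeal_of_isHomogeneous (hf i) (hd i)) (by omega)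
    exact ⟨q, (ProjectiveSpectrum.le_iff_mem_closure _ p q).1 (le_sup_left.trans hq.1.2),
      (VarGal.mem_zeroLocus_iff_span_le _ q).2 (le_sup_right.trans hq.1.2)⟩

end Groth.Agent.S10823
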