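import Groth.Statements.S10825
import Mathlib
import Groth.Agent.EGA4Alg4.IntegralDim
import Groth.Agent.LC17.SpecDim
import Groth.Agent.CAlg6.NormLocus

set_option autoImplicit false
universe u
open Topology
open CAlg
open Groth.Agent Groth.Agent.CAlg6

namespace Groth.Agent.S10825

/-- Let A → B be an injective integral homomorphism of integral domains with fraction fields K and L, L
a finite extension of K, and A integrally closed. For b in B the norm N_{L/K}(b) lies in A; if a
denotes this element of A, then the image of the closed set V(b) of Spec B under Spec B → Spec A is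
exactly V(a), and V(b) and V(a) have the same dimension. -/
theorem result
    (A B K L : Type u) [CommRing A] [IsDomain A] [CommRing B] [IsDomain B] [Algebra A B]
    [Field K] [Field L] [Algebra A K] [IsFractionRing A K] [Algebra B L] [IsFractionRing B L]
    [Algebra A L] [Algebra K L] [IsScalarTower A B L] [IsScalarTower A K L]
    [FiniteDimensional K L] [Algebra.IsIntegral A B] [IsIntegrallyClosed A]
    (hinj : Function.Injective (algebraMap A B))
    (b : B) (a : A) (ha : algebraMap A K a = Algebra.norm K (algebraMap B L b)) :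
    PrimeSpectrum.comap (algebraMap A B) '' PrimeSpectrum.zeroLocus ({b} : Set B) =
        PrimeSpectrum.zeroLocus ({a} : Set A) ∧
      topologicalKrullDim ↥(PrimeSpectrum.zeroLocus ({b} : Set B)) =
        topologicalKrullDim ↥(PrimeSpectrum.zeroLocus ({a} : Set A)) := by
  have : Module.IsTorsionFree A B := Module.isTorsionFree_iff_algebraMap_injective.2 hinj
  obtain ⟨n, s, hn, hnorm⟩ := norm_eq_sign_mul_pow (K := K) (algebraMap B L b)
  have hbi : IsIntegral A b := Algebra.IsIntegral.isIntegral b
  have hmin : minpoly K (algebraMap B L b) = (minpoly A b).map (algebraMap A K) :=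
    minpoly.isIntegrallyClosed_eq_field_fractions K L hbi
  let c := (minpoly A b).coeff 0
  have hac : a = ((-1) ^ s * c) ^ n := by
    refine IsFractionRing.injective A K ?_
    rw [ha, hnorm, hmin, Polynomial.coeff_map]
    simp [c]
  have hcb : algebraMap A B c ∈ Ideal.span {b} := by
    rw [Ideal.mem_span_singleton]
    have h := Polynomial.dvd_term_of_dvd_eval_of_dvd_terms (p := b) (f := (minpoly A b).map (algebraMap A B)) (i := 0) (z := b) ?_ ?_
    · simpa [Polynomial.coeff_map] using h
    · rw [Polynomial.eval_map, ← Polynomial.aeval_def, minpoly.aeval]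
      exact dvd_zero _
    · intro j hj
      obtain ⟨k, rfl⟩ := Nat.exists_eq_succ_of_ne_zero hj
      exact ⟨((minpoly A b).map (algebraMap A B)).coeff (k + 1) * b ^ k, by rw [pow_succ]; ring⟩
  have hab : algebraMap A B a ∈ Ideal.span {b} := by
    rw [hac, map_pow, map_mul]
    exact Ideal.pow_mem_of_mem _ (Ideal.mul_mem_left _ _ hcb) n hn
  have himg : PrimeSpectrum.comap (algebraMap A B) '' PrimeSpectrum.zeroLocus ({b} : Set B) =
      PrimeSpectrum.zeroLocus ({a} : Set A) := by
    refine Set.Subset.antisymm ?_ ?_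
    · rintro _ ⟨Q, hQ, rfl⟩
      rw [PrimeSpectrum.mem_zeroLocus, Set.singleton_subset_iff] at hQ ⊢
      exact (Ideal.span_singleton_le_iff_mem _).2 hQ hab
    · intro P hP
      rw [PrimeSpectrum.mem_zeroLocus, Set.singleton_subset_iff] at hP
      have hcP : c ∈ P.asIdeal := by
        rw [hac] at hP
        exact (P.2.mem_or_mem (P.2.mem_of_pow_mem n hP)).resolve_left fun h =>
          P.2.ne_top (P.asIdeal.eq_top_of_isUnit_mem h ((IsUnit.neg isUnit_one).pow s))
      obtain ⟨Q, hQ, hbQ, hQP⟩ := exists_prime_mem b P.asIdeal hcP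
      exact ⟨⟨Q, hQ⟩, by rw [PrimeSpectrum.mem_zeroLocus, Set.singleton_subset_iff]; exact hbQ, PrimeSpectrum.ext hQP⟩
  refine ⟨himg, ?_⟩
  let J : Ideal B := Ideal.span {b}
  let I : Ideal A := J.comap (algebraMap A B)
  have hI : PrimeSpectrum.zeroLocus ({a} : Set A) = PrimeSpectrum.zeroLocus (I : Set A) := by
    refine Set.Subset.antisymm ?_ (PrimeSpectrum.zeroLocus_anti_mono (Set.singleton_subset_iff.2 hab))
    rw [← himg]
    rintro _ ⟨Q, hQ, rfl⟩
    rw [PrimeSpectrum.mem_zeroLocus, Set.singleton_subset_iff] at hQ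
    exact Ideal.comap_mono ((Ideal.span_singleton_le_iff_mem _).2 hQ)
  have : Algebra.IsIntegral (A ⧸ I) (B ⧸ J) := inferInstance
  have hdim := EGA4Alg4.ringKrullDim_eq_of_integral (A := A ⧸ I) (B := B ⧸ J) Ideal.quotientMap_injective
  rw [hI, ← PrimeSpectrum.zeroLocus_span ({b} : Set B), LC17.dim_zeroLocus,
    LC17.dim_zeroLocus, hdim]

end Groth.Agent.S10825
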