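import Groth.Statements.S10828
import Groth.Agent.FBase64.Chart
import Mathlib.AlgebraicGeometry.Morphisms.Finite
import Mathlib.AlgebraicGeometry.Morphisms.Flat
import Mathlib.FieldTheory.IsAlgClosed.Basic
import Groth.Agent.FBase64.Geometric

set_option autoImplicit false
universe u
open CategoryTheory AlgebraicGeometry
open Variety

namespace Groth.Agent.S10828

/-- Let k be a field, K an algebraic closure of k with its group G of k-automorphisms, and X a k-scheme
locally of finite type. The map sending a K-valued point of X over k to its image point identifies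
the closed points of X with the G-orbits in X(K): a point is closed if and only if it is the image
of some K-valued point, and two K-valued points have the same image if and only if one is obtained
from the other by composing with Spec of a k-automorphism of K. -/
theorem result (k K : Type u) [Field k] [Field K]
    [Algebra k K] [IsAlgClosure k K] {X : Scheme.{u}} (f : X ⟶ Spec (CommRingCat.of k))
    [LocallyOfFiniteType f] :
    (∀ x : X, IsClosed ({x} : Set X) ↔
        ∃ p : Spec (CommRingCat.of K) ⟶ X, p ≫ f = Spec.map (CommRingCat.ofHom (algebraMap k K)) ∧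
          p.base (IsLocalRing.closedPoint K) = x) ∧
      ∀ p q : Spec (CommRingCat.of K) ⟶ X,
        p ≫ f = Spec.map (CommRingCat.ofHom (algebraMap k K)) →
        q ≫ f = Spec.map (CommRingCat.ofHom (algebraMap k K)) →
          (p.base (IsLocalRing.closedPoint K) = q.base (IsLocalRing.closedPoint K) ↔
            ∃ σ : K ≃ₐ[k] K, q = Spec.map (CommRingCat.ofHom σ.toRingHom) ≫ p) := by
  classical
  have : Algebra.IsAlgebraic k K := IsAlgClosure.isAlgebraic
  have : IsAlgClosed K := IsAlgClosure.isAlgClosed k
  have : Normal k K := IsAlgClosure.normal k K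
  refine ⟨fun x => ⟨fun hx => ?_, ?_⟩, fun p q hp hq => ⟨fun h => ?_, ?_⟩⟩
  · have := isClosed_singleton_iff_isClosedImmersion.mp hx
    have hfin : IsFinite (X.fromSpecResidueField x ≫ f) :=
      (isFinite_iff_locallyOfFiniteType_of_jacobsonSpace (f := X.fromSpecResidueField x ≫ f)).mpr inferInstance
    obtain ⟨φ, hφ⟩ := Spec.map_surjective (X.fromSpecResidueField x ≫ f)
    rw [← hφ, IsFinite.SpecMap_iff] at hfin
    let := φ.hom.toAlgebra
    have hfin' : Module.Finite k (X.residueField x) := hfin
    have : Algebra.IsAlgebraic k (X.residueField x) := Algebra.IsAlgebraic.of_finite k _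
    let ψ : X.residueField x →ₐ[k] K := IsAlgClosed.lift
    have hpt : ∀ pt, (X.fromSpecResidueField x).base pt = x := fun pt => Scheme.fromSpecResidueField_apply x pt
    have hcomp : ∀ {W : Scheme.{u}} (a : W ⟶ Spec (X.residueField x)) (w : W),
        (a ≫ X.fromSpecResidueField x).base w = x := fun a w => hpt (a.base w)
    refine ⟨Spec.map (CommRingCat.ofHom ψ.toRingHom) ≫ X.fromSpecResidueField x, ?_, hcomp _ _⟩
    rw [Category.assoc, ← hφ, ← Spec.map_comp]
    congr 1
    exact CommRingCat.hom_ext ψ.comp_algebraMap
  · rintro ⟨p, hp, rfl⟩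
    rw [← closure_subset_iff_isClosed]
    intro y hy
    obtain ⟨A, _, _, j, _, ⟨Q, rfl⟩, hj⟩ := FBase64.exists_chart f y
    have hs : p.base (IsLocalRing.closedPoint K) ⤳ j.base Q := specializes_iff_mem_closure.2 hy
    have hrange : Set.range p ⊆ Set.range j := by
      rintro _ ⟨z, rfl⟩
      have hz : z = IsLocalRing.closedPoint K := Subsingleton.elim (α := PrimeSpectrum K) _ _
      rw [hz]
      exact hs.mem_open j.isOpenEmbedding.isOpen_range ⟨Q, rfl⟩
    obtain ⟨γ, hγ⟩ := Spec.map_surjective (IsOpenImmersion.lift j p hrange)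
    have hγp : Spec.map γ ≫ j = p := by rw [hγ, IsOpenImmersion.lift_fac]
    have hγk : γ.hom.comp (algebraMap k A) = algebraMap k K := by
      have := congrArg (· ≫ f) hγp
      simp only [Category.assoc, hj, hp] at this
      rw [← Spec.map_comp] at this
      exact congrArg CommRingCat.Hom.hom (Spec.map_injective this)
    let γ' : A →ₐ[k] K := { γ.hom with commutes' := fun r => RingHom.congr_fun hγk r }
    have hfield : IsField γ'.range := by
      have : Algebra.IsIntegral k γ'.range :=
        Algebra.IsIntegral.of_injective γ'.range.val Subtype.val_injective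
      exact isField_of_isIntegral_of_isField' (R := k) (Field.toIsField k)
    let ev : A →+* γ'.range := γ'.rangeRestrict.toRingHom
    have hmax : (RingHom.ker ev).IsMaximal :=
      Ideal.Quotient.maximal_of_isField _
        ((RingHom.quotientKerEquivOfSurjective (f := ev) γ'.rangeRestrict_surjective).toMulEquiv.isField hfield)
    rw [← hγp, Scheme.Hom.comp_apply] at hs ⊢
    let P₀ : Spec (CommRingCat.of A) := (Spec.map γ).base (IsLocalRing.closedPoint K)
    have hQ : P₀ ⤳ Q := j.isOpenEmbedding.isInducing.specializes_iff.1 hs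
    have hker : RingHom.ker ev ≤ (show PrimeSpectrum A from P₀).asIdeal := fun a ha => by
      show γ.hom a ∈ (IsLocalRing.closedPoint K).asIdeal
      rw [show γ.hom a = 0 from congrArg Subtype.val (RingHom.mem_ker.1 ha)]
      exact Ideal.zero_mem _
    have hle : (show PrimeSpectrum A from P₀).asIdeal ≤ (show PrimeSpectrum A from Q).asIdeal :=
      (PrimeSpectrum.le_iff_specializes _ _).2 hQ
    have h1 := hmax.eq_of_le (show PrimeSpectrum A from P₀).2.ne_top hker
    have h2 := hmax.eq_of_le (show PrimeSpectrum A from Q).2.ne_top (hker.trans hle)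
    exact Set.mem_singleton_iff.2 (congrArg j.base (PrimeSpectrum.ext (h2.symm.trans h1)))
  · obtain ⟨Ω, _, _, i, i', hii⟩ := FBase64.exists_common_field p q ⟨_, _, h⟩
    have h0 := congrArg (· ≫ f) hii
    simp only [Category.assoc, hp, hq, ← Spec.map_comp] at h0
    have hcomp : i.comp (algebraMap k K) = i'.comp (algebraMap k K) :=
      congrArg CommRingCat.Hom.hom (Spec.map_injective h0)
    let := i.toAlgebra
    let := (i.comp (algebraMap k K)).toAlgebra
    have : IsScalarTower k K Ω := IsScalarTower.of_algebraMap_eq fun _ => rfl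
    let i₂ : K →ₐ[k] Ω := { i' with commutes' := fun r => (RingHom.congr_fun hcomp r).symm }
    let σ : K ≃ₐ[k] K := Normal.algHomEquivAut k Ω K i₂
    have hσ : ∀ a, i (σ a) = i' a := fun a =>
      AlgHom.congr_fun ((Normal.algHomEquivAut k Ω K).symm_apply_apply i₂) a
    refine ⟨σ.symm, ?_⟩
    have hi : Spec.map (CommRingCat.ofHom i') = Spec.map (CommRingCat.ofHom i) ≫ Spec.map (CommRingCat.ofHom σ.toRingHom) := by
      rw [← Spec.map_comp]
      exact congrArg _ (CommRingCat.hom_ext (RingHom.ext fun a => (hσ a).symm))
    rw [hi, Category.assoc] at hii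
    have : Flat (Spec.map (CommRingCat.ofHom i)) := (HasRingHomProperty.Spec_iff (P := @Flat)).mpr
      (RingHom.flat_algebraMap_iff.mpr inferInstance)
    have : Epi (Spec.map (CommRingCat.ofHom i)) := Flat.epi_of_flat_of_surjective _
    have hp' := (cancel_epi _).1 hii
    rw [hp', ← Category.assoc, ← Spec.map_comp, ← CommRingCat.ofHom_comp]
    have h1 : σ.symm.toRingHom.comp σ.toRingHom = RingHom.id K :=
      RingHom.ext fun a => σ.symm_apply_apply a
    erw [h1, CommRingCat.ofHom_id, Spec.map_id, Category.id_comp]
  · rintro ⟨σ, rfl⟩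
    rw [Scheme.Hom.comp_apply]
    congr 1
    exact Subsingleton.elim (α := PrimeSpectrum K) _ _

end Groth.Agent.S10828
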