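import Groth.Statements.S10832
import Groth.Agent.TopDim50.Basic
import Mathlib.AlgebraicGeometry.Morphisms.Finite
import Mathlib.RingTheory.Jacobson.Artinian
import Mathlib.AlgebraicGeometry.Noetherian
import Mathlib.AlgebraicGeometry.Morphisms.FiniteType
import Mathlib.Topology.Sheaves.SheafCondition.UniqueGluing

set_option autoImplicit false
universe u
open CategoryTheory AlgebraicGeometry Topology
open Variety

namespace Groth.Agent.S10832

open CategoryTheory TopologicalSpace Opposite AlgebraicGeometry
open Groth.Agent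

set_option backward.isDefEq.respectTransparency false

/-- On a discrete scheme the global sections are the product of the stalks. -/
theorem bijective_germs (X : Scheme.{u}) [DiscreteTopology X] :
    Function.Bijective (fun s : Γ(X, ⊤) => fun x : X => X.presheaf.germ ⊤ x trivial s) := by
  refine ⟨fun s t h => X.sheaf.eq_of_locally_eq' (fun x : X => (⟨{x}, isOpen_discrete _⟩ : X.Opens)) ⊤
    (fun _ => homOfLE le_top) (fun x _ => Opens.mem_iSup.2 ⟨x, rfl⟩) s t (fun x => ?_), fun t => ?_⟩
  · obtain ⟨W, hW, iU, iV, e⟩ := X.presheaf.germ_eq x (U := ⊤) (V := ⊤) trivial trivial s t (congrFun h x)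
    have hle : (⟨{x}, isOpen_discrete _⟩ : X.Opens) ≤ W := fun y hy => by
      rw [show y = x from hy]; exact hW
    show X.presheaf.map _ s = X.presheaf.map _ t
    have e' := congrArg (X.presheaf.map (homOfLE hle).op) e
    rw [← ConcreteCategory.comp_apply, ← ConcreteCategory.comp_apply, ← Functor.map_comp, ← Functor.map_comp] at e'
    exact e'
  · have hex : ∀ x : X, ∃ a : Γ(X, (⟨{x}, isOpen_discrete _⟩ : X.Opens)), X.presheaf.germ _ x rfl a = t x := by
      intro x
      obtain ⟨W, hW, a, ha⟩ := X.presheaf.germ_exist (t x)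
      have hle : (⟨{x}, isOpen_discrete _⟩ : X.Opens) ≤ W := fun y hy => by
        rw [show y = x from hy]; exact hW
      exact ⟨X.presheaf.map (homOfLE hle).op a, by rw [X.presheaf.germ_res_apply]; exact ha⟩
    choose sf hsf using hex
    have hcompat : TopCat.Presheaf.IsCompatible X.presheaf (fun x : X => (⟨{x}, isOpen_discrete _⟩ : X.Opens)) sf := by
      intro x y
      rcases eq_or_ne x y with rfl | hne
      · exact congrArg (fun i : _ ⟶ _ => X.presheaf.map i (sf x)) (Subsingleton.elim _ _)
      · have : Subsingleton Γ(X, (⟨{x}, isOpen_discrete _⟩ : X.Opens) ⊓ ⟨{y}, isOpen_discrete _⟩) := by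
          have hbot : (⟨{x}, isOpen_discrete _⟩ : X.Opens) ⊓ ⟨{y}, isOpen_discrete _⟩ = ⊥ := by
            ext z
            simp only [Opens.coe_inf, Set.mem_inter_iff, Opens.coe_bot, Set.mem_empty_iff_false, iff_false]
            rintro ⟨h1, h2⟩
            exact hne ((show z = x from h1).symm.trans h2)
          rw [hbot]
          exact CommRingCat.subsingleton_of_isTerminal X.sheaf.isTerminalOfEmpty
        exact Subsingleton.elim _ _
    obtain ⟨s, hs, -⟩ := X.sheaf.existsUnique_gluing' _ ⊤ (fun _ => homOfLE le_top)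
      (fun x _ => Opens.mem_iSup.2 ⟨x, rfl⟩) sf hcompat
    refine ⟨s, funext fun x => ?_⟩
    rw [← hsf x, ← hs x]
    exact (X.presheaf.germ_res_apply _ _ _ _).symm

/-- For a nonempty scheme X of finite type over a field k the following are equivalent: X has Krull
dimension 0; X is affine with ring of global sections finite over k and equal to the product of all
its local rings via the germ maps; the underlying space of X is discrete; the underlying space of X
is finite. -/
theorem result (k : Type u) [Field k] {X : Scheme.{u}} [Nonempty X]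
    (f : X ⟶ Spec (CommRingCat.of k)) [LocallyOfFiniteType f] [QuasiCompact f] :
    [topologicalKrullDim ↥X = 0,
      IsAffine X ∧ f.appTop.hom.Finite ∧
        Function.Bijective (fun s : Γ(X, ⊤) => fun x : X => X.presheaf.germ ⊤ x trivial s),
      DiscreteTopology ↥X,
      Finite ↥X].TFAE := by
  have : JacobsonSpace X := LocallyOfFiniteType.jacobsonSpace f
  have : IsLocallyNoetherian X := LocallyOfFiniteType.isLocallyNoetherian f
  have : CompactSpace X := (quasiCompact_iff_compactSpace f).1 inferInstance
  have : AlgebraicGeometry.IsNoetherian X := {}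
  tfae_have 1 → 4 := fun h => (TopDim50.dim_eq_zero_iff_finite_discrete.1 h).1
  tfae_have 4 → 3 := fun h => inferInstance
  tfae_have 3 → 1 := fun h =>
    TopDim50.dim_eq_zero_iff_finite_discrete.2 ⟨finite_of_compact_of_discrete, h⟩
  tfae_have 3 → 2 := fun h => by
    have : Finite X := finite_of_compact_of_discrete
    have : IsAffine X := inferInstance
    have hft : f.appTop.hom.FiniteType :=
      (HasRingHomProperty.iff_of_isAffine (P := @LocallyOfFiniteType)).1 inferInstance
    refine ⟨inferInstance, ?_, bijective_germs X⟩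
    have hk : IsField Γ(Spec (CommRingCat.of k), ⊤) :=
      (Scheme.ΓSpecIso (CommRingCat.of k)).commRingCatIsoToRingEquiv.toMulEquiv.isField (Field.toIsField k)
    letI := hk.toField
    letI : Algebra Γ(Spec (CommRingCat.of k), ⊤) Γ(X, ⊤) := f.appTop.hom.toAlgebra
    have : Algebra.FiniteType Γ(Spec (CommRingCat.of k), ⊤) Γ(X, ⊤) := hft
    have : IsNoetherianRing Γ(X, ⊤) := Algebra.FiniteType.isNoetherianRing Γ(Spec (CommRingCat.of k), ⊤) _
    have : IsNoetherianRing Γ(X, ⊤) ∧ Ring.KrullDimLE 0 Γ(X, ⊤) := ⟨this, by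
      rw [Ring.krullDimLE_iff, ← PrimeSpectrum.topologicalKrullDim_eq_ringKrullDim]
      show topologicalKrullDim (Spec Γ(X, ⊤)) ≤ _
      rw [← IsHomeomorph.topologicalKrullDim_eq _ X.isoSpec.hom.homeomorph.isHomeomorph,
        TopDim50.dim_eq_zero_iff_finite_discrete.2 ⟨‹_›, h⟩]
      simp⟩
    have : IsArtinianRing Γ(X, ⊤) := isArtinianRing_iff_isNoetherianRing_krullDimLE_zero.2 this
    exact (Module.finite_iff_isArtinianRing _ _).2 this
  tfae_have 2 → 4 := fun ⟨_, hfin, _⟩ => by
    have hk : IsField Γ(Spec (CommRingCat.of k), ⊤) :=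
      (Scheme.ΓSpecIso (CommRingCat.of k)).commRingCatIsoToRingEquiv.toMulEquiv.isField (Field.toIsField k)
    letI := hk.toField
    letI : Algebra Γ(Spec (CommRingCat.of k), ⊤) Γ(X, ⊤) := f.appTop.hom.toAlgebra
    have : Module.Finite Γ(Spec (CommRingCat.of k), ⊤) Γ(X, ⊤) := hfin
    have : IsArtinianRing Γ(X, ⊤) := IsArtinianRing.of_finite Γ(Spec (CommRingCat.of k), ⊤) _
    have : Finite (Spec Γ(X, ⊤)) := inferInstanceAs (Finite (PrimeSpectrum Γ(X, ⊤)))
    exact Finite.of_equiv _ X.isoSpec.hom.homeomorph.toEquiv.symm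
  tfae_finish

end Groth.Agent.S10832
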