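import Groth.Statements.S10833
import Groth.Agent.E4O.DimField

set_option autoImplicit false
universe u
open Variety

namespace Groth.Agent.S10833

open Groth.Agent

theorem trdeg_step {k A : Type u} [Field k] [CommRing A] [Algebra k A] [Algebra.FiniteType k A]
    {p q : PrimeSpectrum A} (h : p ⋖ q) :
    Algebra.trdeg k (A ⧸ q.asIdeal) + 1 = Algebra.trdeg k (A ⧸ p.asIdeal) := by
  let S := A ⧸ p.asIdeal
  let mk := Ideal.Quotient.mkₐ k p.asIdeal
  have hle : p.asIdeal ≤ q.asIdeal := h.lt.le
  let P : Ideal S := q.asIdeal.map (Ideal.Quotient.mk p.asIdeal)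
  have hcm : P.comap (Ideal.Quotient.mk p.asIdeal) = q.asIdeal := by
    rw [Ideal.comap_map_of_surjective _ Ideal.Quotient.mk_surjective, ← RingHom.ker_eq_comap_bot,
      Ideal.mk_ker, sup_eq_left.2 hle]
  have : P.IsPrime := Ideal.map_isPrime_of_surjective Ideal.Quotient.mk_surjective
    (Ideal.mk_ker.trans_le hle)
  have hne : P ≠ ⊥ := by
    intro hb
    rw [hb, ← RingHom.ker_eq_comap_bot, Ideal.mk_ker] at hcm
    exact h.lt.ne (PrimeSpectrum.ext hcm)
  have h1 : P.height = 1 := by
    refine le_antisymm ?_ ?_
    · show P.height ≤ ((1 : ℕ) : ℕ∞)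
      refine Ideal.height_le_iff.2 fun Q hQ hQP => ?_
      have hQb : Q = ⊥ := by
        let Q' : PrimeSpectrum A := ⟨Q.comap (Ideal.Quotient.mk p.asIdeal), inferInstance⟩
        have hpQ : p ≤ Q' := fun a ha => by
          show Ideal.Quotient.mk p.asIdeal a ∈ Q
          rw [Ideal.Quotient.eq_zero_iff_mem.2 ha]; exact Q.zero_mem
        have hQq : Q' ≤ q := fun a ha => hcm.le (hQP.le ha)
        rcases h.eq_or_eq hpQ hQq with e | e
        · refine eq_bot_iff.2 fun z hz => ?_
          obtain ⟨a, rfl⟩ := Ideal.Quotient.mk_surjective z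
          rw [Submodule.mem_bot, Ideal.Quotient.eq_zero_iff_mem]
          exact (congrArg PrimeSpectrum.asIdeal e).le hz
        · exfalso
          refine hQP.ne (le_antisymm hQP.le fun z hz => ?_)
          obtain ⟨a, rfl⟩ := Ideal.Quotient.mk_surjective z
          exact (congrArg PrimeSpectrum.asIdeal e).ge (hcm.le hz)
      rw [hQb, Ideal.height_bot]
      exact_mod_cast Nat.one_pos
    · rw [ENat.one_le_iff_ne_zero, Ne, Ideal.height_eq_zero_iff_eq_bot]
      exact hne
  have h2 := E4O.height_add_trdeg_eq k S P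
  rw [h1, Cardinal.ofENat_one, add_comm] at h2
  let f : A →ₐ[k] S ⧸ P := (Ideal.Quotient.mkₐ k P).comp mk
  have hf : Function.Surjective f :=
    (Ideal.Quotient.mkₐ_surjective k P).comp (Ideal.Quotient.mkₐ_surjective k p.asIdeal)
  have hker : RingHom.ker f = q.asIdeal := by
    ext a
    rw [← hcm, Ideal.mem_comap, RingHom.mem_ker]
    exact Ideal.Quotient.eq_zero_iff_mem
  let e := (Ideal.quotientEquivAlgOfEq k hker.symm).trans (Ideal.quotientKerAlgEquivOfSurjective hf)
  rw [e.trdeg_eq, h2]

/-- Let k be a field and A a k-algebra of finite type that is an integral domain. Then every chain of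
prime ideals of A admitting no refinement — it starts at the zero ideal, ends at a maximal ideal,
and no prime ideal lies strictly between two consecutive members — has length equal to the Krull
dimension of A. -/
theorem result (k A : Type u) [Field k] [CommRing A]
    [IsDomain A] [Algebra k A] [Algebra.FiniteType k A] (c : LTSeries (PrimeSpectrum A))
    (h0 : c.head.asIdeal = ⊥) (hmax : c.last.asIdeal.IsMaximal)
    (hsat : ∀ i : Fin c.length, c i.castSucc ⋖ c i.succ) :
    (c.length : WithBot ℕ∞) = ringKrullDim A := by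
  classical
  have key : ∀ i : Fin (c.length + 1),
      Algebra.trdeg k (A ⧸ (c i).asIdeal) + (i : ℕ) = Algebra.trdeg k A := by
    intro i
    induction i using Fin.induction with
    | zero =>
      rw [show c 0 = c.head from rfl, h0]
      simp only [Fin.val_zero, Nat.cast_zero, add_zero]
      exact (AlgEquiv.quotientBot k A).trdeg_eq
    | succ i ih =>
      rw [← ih, ← trdeg_step (k := k) (hsat i), Fin.val_succ, Fin.val_castSucc, Nat.cast_add, Nat.cast_one,
        add_assoc, add_comm ((i : ℕ) : Cardinal.{u}) 1]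
  have h1 := key (Fin.last c.length)
  haveI : (c (Fin.last c.length)).asIdeal.IsMaximal := hmax
  rw [E4O.trdeg_quotient_maximal k A (c (Fin.last c.length)).asIdeal, zero_add, Fin.val_last] at h1
  rw [E4O.ringKrullDim_eq_trdeg k A, ← h1, Cardinal.toNat_natCast]

end Groth.Agent.S10833
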