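import Groth.Statements.S10834
import Mathlib
import Groth.Agent.CAlg6.RegularNormal
import Groth.Agent.S11495

set_option autoImplicit false
universe u
open CAlg
open Groth.Agent
open CategoryTheory

namespace Groth.Agent.S10834

/-- Let A be a Noetherian ring whose localizations at all prime ideals are regular local rings, and f an
element of A generating a prime ideal, so that A/(f) is an integral domain (an integral hypersurface
in the regular affine scheme Spec A). Then A/(f) is normal (integrally closed in its fraction field)
if and only if it is regular in codimension 1, i.e. its localization at every prime at which the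
local ring has dimension 1 is a regular local ring. -/
theorem result (A : Type u) [CommRing A]
    [IsNoetherianRing A] (hreg : ∀ (p : Ideal A) (_ : p.IsPrime), IsRegularLocalRing (Localization.AtPrime p))
    (f : A) (hf : (Ideal.span ({f} : Set A)).IsPrime) :
    IsIntegrallyClosed (A ⧸ Ideal.span ({f} : Set A)) ↔
      ∀ q : PrimeSpectrum (A ⧸ Ideal.span ({f} : Set A)),
        ringKrullDim (Localization.AtPrime q.asIdeal) = 1 →
          IsRegularLocalRing (Localization.AtPrime q.asIdeal) := by
  constructor
  · intro h q hq
    have := IsLocalization.isNoetherianRing q.asIdeal.primeCompl (Localization.AtPrime q.asIdeal) inferInstance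
    have := IsLocalization.isDomain_of_le_nonZeroDivisors (Localization.AtPrime q.asIdeal)
      q.asIdeal.primeCompl_le_nonZeroDivisors
    have := isIntegrallyClosed_of_isLocalization (R := A ⧸ Ideal.span ({f} : Set A))
      (Localization.AtPrime q.asIdeal) q.asIdeal.primeCompl q.asIdeal.primeCompl_le_nonZeroDivisors
    exact CAlg1.regular_of_isIntegrallyClosed_dim_le_one _ hq.le
  · intro h
    refine CAlg6.isIntegrallyClosed_of_domain _ (fun q hq hh => h ⟨q, hq⟩ ?_) (fun q hq hh => ?_)
    · show ringKrullDim (Localization.AtPrime q) = 1
      rw [IsLocalization.AtPrime.ringKrullDim_eq_height q (Localization.AtPrime q), hh]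
      rfl
    · let p := q.comap (Ideal.Quotient.mk (Ideal.span ({f} : Set A)))
      have := hreg p inferInstance
      have : IsNoetherianRing (Localization.AtPrime q) :=
        IsLocalization.isNoetherianRing q.primeCompl _ inferInstance
      let g := Localization.localRingHom p q (Ideal.Quotient.mk (Ideal.span ({f} : Set A))) rfl
      have hg : Function.Surjective g := by
        intro x
        obtain ⟨⟨b, ⟨s, hs⟩⟩, rfl⟩ := IsLocalization.mk'_surjective q.primeCompl x
        obtain ⟨a, rfl⟩ := Ideal.Quotient.mk_surjective b
        obtain ⟨t, rfl⟩ := Ideal.Quotient.mk_surjective s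
        exact ⟨IsLocalization.mk' _ a ⟨t, hs⟩, Localization.localRingHom_mk' _ _ _ _ _ _⟩
      refine CAlg6.two_le_depth_quotient_of_regular (Localization.AtPrime p) (Localization.AtPrime q) g hg
        (algebraMap A _ f) ?_ ?_
      · refine le_antisymm (fun z hz => ?_) ?_
        · obtain ⟨⟨a, t⟩, rfl⟩ := IsLocalization.mk'_surjective p.primeCompl z
          rw [RingHom.mem_ker] at hz
          simp only [g] at hz
          rw [Localization.localRingHom_mk', IsLocalization.mk'_eq_zero_iff] at hz
          obtain ⟨⟨u, hu⟩, hua⟩ := hz
          obtain ⟨u', rfl⟩ := Ideal.Quotient.mk_surjective u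
          rw [← map_mul, Ideal.Quotient.eq_zero_iff_mem, Ideal.mem_span_singleton'] at hua
          obtain ⟨c, hc⟩ := hua
          refine Ideal.mem_span_singleton'.2 ⟨IsLocalization.mk' _ c (⟨u', hu⟩ * t), ?_⟩
          rw [mul_comm, IsLocalization.mul_mk'_eq_mk'_of_mul, mul_comm, hc]
          exact IsLocalization.mk'_eq_of_eq (by simp only [Submonoid.coe_mul]; ring)
        · rw [Ideal.span_singleton_le_iff_mem, RingHom.mem_ker]
          simp only [g]
          rw [Localization.localRingHom_to_map, Ideal.Quotient.eq_zero_iff_mem.2 (Ideal.mem_span_singleton_self f),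
            map_zero]
      · rw [IsLocalization.AtPrime.ringKrullDim_eq_height q (Localization.AtPrime q)]
        exact WithBot.coe_le_coe.2 hh

end Groth.Agent.S10834
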