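import Groth.Statements.S10835
import Groth.Agent.Curves2.CurveEmbed
import Mathlib.RingTheory.AlgebraicIndependent.Adjoin
import Mathlib.FieldTheory.PrimitiveElement
import Mathlib.FieldTheory.Minpoly.IsIntegrallyClosed
import Mathlib.RingTheory.Polynomial.RationalRoot
import Mathlib.RingTheory.Polynomial.UniqueFactorization

set_option autoImplicit false
universe u
open CategoryTheory AlgebraicGeometry
attribute [local instance] Curv2.stalkAlgebra
open Variety

namespace Groth.Agent.S10835

open CategoryTheory CategoryTheory.Limits AlgebraicGeometry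
open Groth.Agent
open scoped IntermediateField

set_option backward.isDefEq.respectTransparency false

/-- Spreading out for a possibly non-separated source over an affine base. -/
theorem exists_open_iso' {R : CommRingCat.{u}} {X Y : Scheme.{u}} (sX : X ⟶ Spec R) (sY : Y ⟶ Spec R)
    [IsIntegral X] [IsIntegral Y] [IsSeparated sY] [LocallyOfFiniteType sX] [LocallyOfFiniteType sY]
    (σ : Y.functionField ≅ X.functionField)
    (h : Spec.map σ.hom ≫ Y.fromSpecStalk _ ≫ sY = X.fromSpecStalk _ ≫ sX) :
    ∃ (U : X.Opens) (V : Y.Opens) (e : U.toScheme ≅ V.toScheme),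
      genericPoint X ∈ U ∧ e.hom ≫ V.ι ≫ sY = U.ι ≫ sX := by
  obtain ⟨W, hW, hgW, -⟩ := exists_isAffineOpen_mem_and_subset (U := (⊤ : X.Opens)) (x := genericPoint X) trivial
  have : IsAffine W.toScheme := hW
  have : Nonempty W.toScheme := ⟨⟨_, hgW⟩⟩
  have hη : W.ι (genericPoint W.toScheme) = genericPoint X := genericPoint_eq_of_isOpenImmersion W.ι
  have : IsIso (W.ι.stalkMap (genericPoint W.toScheme)) := inferInstance
  let e₀ : X.functionField ≅ W.toScheme.functionField :=
    X.presheaf.stalkCongr (Inseparable.of_eq hη.symm) ≪≫ asIso (W.ι.stalkMap (genericPoint W.toScheme))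
  have he₀ : Spec.map e₀.hom ≫ X.fromSpecStalk _ = W.toScheme.fromSpecStalk _ ≫ W.ι := by
    rw [← Scheme.SpecMap_stalkMap_fromSpecStalk]
    show Spec.map (_ ≫ W.ι.stalkMap _) ≫ _ = _
    rw [Spec.map_comp, Category.assoc]
    congr 1
    exact Scheme.SpecMap_stalkSpecializes_fromSpecStalk (X := X) (Inseparable.of_eq hη.symm).ge
  have : IsSeparated (W.ι ≫ sX) := inferInstance
  obtain ⟨U, V, e, hgU, he⟩ := Curves2.exists_open_iso_of_functionField (W.ι ≫ sX) sY (σ ≪≫ e₀) (by
    show Spec.map (σ.hom ≫ e₀.hom) ≫ _ = _
    rw [Spec.map_comp, Category.assoc, h, ← Category.assoc, he₀, Category.assoc])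
  refine ⟨W.ι ''ᵁ U, V, (W.ι.isoImage U).symm ≪≫ e, ⟨_, hgU, hη⟩, ?_⟩
  simp only [Iso.trans_hom, Iso.symm_hom, Category.assoc, he, Scheme.Hom.isoImage_inv_ι_assoc]

/-- A monogenic model of a finite separable extension of the fraction field of a normal domain. -/
theorem exists_monogenic (P K L : Type u) [CommRing P] [IsDomain P] [IsIntegrallyClosed P] [Field K] [Algebra P K]
    [IsFractionRing P K] [Field L] [Algebra P L] [Algebra K L] [IsScalarTower P K L] [Module.IsTorsionFree P L]
    [FiniteDimensional K L] [Algebra.IsSeparable K L] :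
    ∃ (g : Polynomial P), g.Monic ∧ Irreducible (g.map (algebraMap P K)) ∧ (g.map (algebraMap P K)).Separable ∧
      ∃ (f : AdjoinRoot g →ₐ[P] L), Function.Injective f ∧ ∀ z : L, ∃ a b : AdjoinRoot g, z = f a / f b := by
  have hinj : Function.Injective (algebraMap P L) := by
    rw [IsScalarTower.algebraMap_eq P K L]
    exact (algebraMap K L).injective.comp (IsFractionRing.injective P K)
  obtain ⟨α₀, hα₀⟩ := Field.exists_primitive_element K L
  obtain ⟨⟨m, hm⟩, hint⟩ := IsIntegral.exists_multiple_integral_of_isLocalization (nonZeroDivisors P)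
    (Rₘ := K) α₀ (Algebra.IsIntegral.isIntegral α₀)
  let α : L := m • α₀
  have hαint : IsIntegral P α := hint
  have hm0 : algebraMap P L m ≠ 0 := (map_ne_zero_iff _ hinj).2 (nonZeroDivisors.ne_zero hm)
  have hgen : K⟮α⟯ = ⊤ := by
    rw [eq_top_iff, ← hα₀, IntermediateField.adjoin_simple_le_iff]
    have h1 : α₀ = algebraMap K L (algebraMap P K m)⁻¹ * α := by
      rw [map_inv₀, ← IsScalarTower.algebraMap_apply P K L, show α = algebraMap P L m * α₀ from Algebra.smul_def m α₀,
        ← mul_assoc, inv_mul_cancel₀ hm0, one_mul]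
    rw [h1]
    exact mul_mem (IntermediateField.algebraMap_mem _ _) (IntermediateField.mem_adjoin_simple_self K α)
  let g := minpoly P α
  have hgK : g.map (algebraMap P K) = minpoly K α :=
    (minpoly.isIntegrallyClosed_eq_field_fractions' K hαint).symm
  have hKint : IsIntegral K α := Algebra.IsIntegral.isIntegral α
  refine ⟨g, minpoly.monic hαint, hgK ▸ minpoly.irreducible hKint,
    hgK ▸ Algebra.IsSeparable.isSeparable K α, ?_⟩
  let f₀ : AdjoinRoot g →ₐ[P] L :=
    ((Algebra.adjoin P {α}).val).comp (minpoly.equivAdjoin hαint).toAlgHom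
  refine ⟨f₀,
    (Subtype.val_injective.comp (minpoly.equivAdjoin hαint).injective), fun z => ?_⟩
  have hz : z ∈ Algebra.adjoin K {α} := by
    rw [← IntermediateField.adjoin_simple_toSubalgebra_of_isAlgebraic hKint.isAlgebraic, hgen]
    trivial
  rw [Algebra.adjoin_singleton_eq_range_aeval] at hz
  obtain ⟨q, rfl⟩ := hz
  obtain ⟨⟨b, hb⟩, hq⟩ := IsLocalization.integerNormalization_map_to_map (nonZeroDivisors P) q
  let q' := IsLocalization.integerNormalization (nonZeroDivisors P) q
  refine ⟨AdjoinRoot.mk g q', algebraMap P (AdjoinRoot g) b, ?_⟩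
  have hf : ∀ r : Polynomial P, f₀ (AdjoinRoot.mk g r) = Polynomial.aeval α r := by
    intro r
    rw [← AdjoinRoot.aeval_eq, ← Polynomial.aeval_algHom_apply]
    congr 2
    show ((minpoly.equivAdjoin hαint) (AdjoinRoot.root g) : L) = α
    rw [minpoly.coe_equivAdjoin, AdjoinRoot.Minpoly.toAdjoin]
    simp [g]
  show _ = f₀ _ / f₀ _
  rw [hf, f₀.commutes, eq_div_iff ((map_ne_zero_iff _ hinj).2 (nonZeroDivisors.ne_zero hb))]
  have h2 := congrArg (Polynomial.aeval α) hq
  rw [Polynomial.aeval_map_algebraMap] at h2
  show Polynomial.aeval α q * algebraMap P L b = Polynomial.aeval α q'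
  rw [h2]
  simp [Submonoid.smul_def, Algebra.smul_def, IsScalarTower.algebraMap_apply P K L, mul_comm]

set_option maxHeartbeats 800000 in
/-- The algebra: a hypersurface model of a separably generated field extension. -/
theorem exists_model (k L : Type u) [Field k] [Field L] [Algebra k L] [Algebra.EssFiniteType k L] (d : ℕ)
    (s : Fin d → L) (hs : IsTranscendenceBasis k s)
    (hsep : Algebra.IsSeparable ↥(IntermediateField.adjoin k (Set.range s)) L) :
    ∃ (g : Polynomial (MvPolynomial (Fin d) k)), g.Monic ∧
      Irreducible (g.map (algebraMap (MvPolynomial (Fin d) k) (FractionRing (MvPolynomial (Fin d) k)))) ∧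
      (g.map (algebraMap (MvPolynomial (Fin d) k) (FractionRing (MvPolynomial (Fin d) k)))).Separable ∧
      ∃ (f : AdjoinRoot g →ₐ[k] L), Function.Injective f ∧
        ∀ z : L, ∃ a b : AdjoinRoot g, z = f a / f b := by
  classical
  let P := MvPolynomial (Fin d) k
  let K := FractionRing P
  let φ : P →ₐ[k] L := MvPolynomial.aeval s
  letI : Algebra P L := φ.toRingHom.toAlgebra
  have : IsScalarTower k P L := IsScalarTower.of_algebraMap_eq fun r => (φ.commutes r).symm
  have hinj : Function.Injective (algebraMap P L) := algebraicIndependent_iff_injective_aeval.1 hs.1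
  have : FaithfulSMul P L := (faithfulSMul_iff_algebraMap_injective _ _).2 hinj
  letI : Algebra K L := FractionRing.liftAlgebra P L
  have : IsScalarTower P K L := FractionRing.isScalarTower_liftAlgebra P L
  have : IsScalarTower k K L := IsScalarTower.of_algebraMap_eq fun r => by
    rw [IsScalarTower.algebraMap_apply k P K, ← IsScalarTower.algebraMap_apply P K L,
      ← IsScalarTower.algebraMap_apply k P L]
  let e := hs.1.aevalEquivField
  have hcomm : ∀ a : K, (e a : L) = algebraMap K L a := by
    intro a
    rw [AlgebraicIndependent.aevalEquivField_apply_coe]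
    rfl
  have hsepK : Algebra.IsSeparable K L :=
    Algebra.IsSeparable.of_equiv_equiv e.symm.toRingEquiv (RingEquiv.refl L) (RingHom.ext fun a => by
      show algebraMap K L (e.symm a) = algebraMap _ L a
      rw [← hcomm, AlgEquiv.apply_symm_apply]
      rfl)
  have : Algebra.EssFiniteType K L := Algebra.EssFiniteType.of_comp k K L
  have : FiniteDimensional K L := Algebra.finite_of_essFiniteType_of_isAlgebraic
  have : IsIntegrallyClosed P := UniqueFactorizationMonoid.instIsIntegrallyClosed
  have : Module.IsTorsionFree P L := Module.isTorsionFree_iff_algebraMap_injective.2 hinj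
  obtain ⟨g, hmon, hirr, hsp, f, hf, hfrac⟩ := exists_monogenic P K L
  exact ⟨g, hmon, hirr, hsp, f.restrictScalars k, hf, hfrac⟩

theorem exists_functionField_equiv (R : CommRingCat.{u}) [IsDomain R] (L : Type u) [Field L] [Algebra R L]
    [IsFractionRing R L] : ∃ σ₀ : (Spec R).functionField ≃+* L,
      ∀ a, σ₀ (StructureSheaf.toStalk R (genericPoint (Spec R)) a) = algebraMap R L a :=
  ⟨(IsLocalization.algEquiv (nonZeroDivisors R) (Spec R).functionField L).toRingEquiv,
    fun a => AlgEquiv.commutes _ a⟩

theorem algebraMap_eq_constField {k : Type u} [Field k] (X : Scheme.{u}) [X.Over (Spec (CommRingCat.of k))]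
    [IsIntegral X] (r : k) :
    letI := Curv2.stalkAlgebra k X (genericPoint X)
    algebraMap k (X.presheaf.stalk (genericPoint X)) r = Var76.VarDim.constField k X r := by
  show (X.presheaf.germ ⊤ (genericPoint X) trivial) _ = (X.presheaf.germ ⊤ (genericPoint X) trivial) _
  congr 1
  show _ = (X ↘ Spec (CommRingCat.of k)).appLE ⊤ ⊤ le_top _
  rw [Scheme.Hom.appLE]
  simp [Scheme.Hom.appTop]
  rfl

/-- Let k be a field and X an integral scheme of finite type over k whose function field admits a
transcendence basis s_1, …, s_d over k over which it is separable algebraic (this holds whenever the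
function field is a separable extension of k in the sense of field theory, e.g. for k perfect, and
then d = dim X). Then some nonempty open subscheme of X is isomorphic, over k, to a nonempty open
subscheme of Spec k[T_1, …, T_d][T]/(g) for a monic polynomial g over k[T_1, …, T_d] which is
irreducible and separable over the fraction field k(T_1, …, T_d). -/
theorem result (k : Type u) [Field k]
    (X : Scheme.{u}) [X.Over (Spec (CommRingCat.of k))] [IsIntegral X]
    [LocallyOfFiniteType (X ↘ Spec (CommRingCat.of k))] [QuasiCompact (X ↘ Spec (CommRingCat.of k))]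
    (d : ℕ) (s : Fin d → X.presheaf.stalk (genericPoint X)) (hs : IsTranscendenceBasis k s)
    (hsep : Algebra.IsSeparable ↥(IntermediateField.adjoin k (Set.range s)) (X.presheaf.stalk (genericPoint X))) :
    ∃ (g : Polynomial (MvPolynomial (Fin d) k)), g.Monic ∧
      Irreducible (g.map (algebraMap (MvPolynomial (Fin d) k) (FractionRing (MvPolynomial (Fin d) k)))) ∧
      (g.map (algebraMap (MvPolynomial (Fin d) k) (FractionRing (MvPolynomial (Fin d) k)))).Separable ∧
      ∃ (U : X.Opens) (V : (Spec (CommRingCat.of (AdjoinRoot g))).Opens) (e : (U : Scheme.{u}) ≅ (V : Scheme.{u})),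
        (U : Set X).Nonempty ∧ (V : Set (Spec (CommRingCat.of (AdjoinRoot g)))).Nonempty ∧
        e.hom ≫ V.ι ≫ Spec.map (CommRingCat.ofHom (algebraMap k (AdjoinRoot g))) =
          U.ι ≫ (X ↘ Spec (CommRingCat.of k)) := by
  classical
  let q := X ↘ Spec (CommRingCat.of k)
  have hess : Algebra.EssFiniteType k (X.presheaf.stalk (genericPoint X)) := by
    obtain ⟨W, hW, hgW, -⟩ := exists_isAffineOpen_mem_and_subset (U := (⊤ : X.Opens)) (x := genericPoint X) trivial
    have : Nonempty W := ⟨⟨_, hgW⟩⟩
    letI : Algebra k Γ(X, W) := (Var76.BertiniScheme.const (k := k) X W).toAlgebra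
    have := Var76.VarDim.finiteType_const (k := k) hW
    letI : Algebra Γ(X, W) (X.presheaf.stalk (genericPoint X)) :=
      (X.presheaf.germ W (genericPoint X) hgW).hom.toAlgebra
    have : IsScalarTower k Γ(X, W) (X.presheaf.stalk (genericPoint X)) :=
      IsScalarTower.of_algebraMap_eq fun r =>
        (algebraMap_eq_constField X r).trans (Var76.VarDim.germ_const (k := k) hgW r).symm
    have : IsFractionRing Γ(X, W) (X.presheaf.stalk (genericPoint X)) :=
      functionField_isFractionRing_of_isAffineOpen X W hW
    have := Algebra.EssFiniteType.of_isLocalization (R := Γ(X, W)) (X.presheaf.stalk (genericPoint X)) (nonZeroDivisors Γ(X, W))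
    exact Algebra.EssFiniteType.comp k Γ(X, W) _
  let L := X.functionField
  letI : Algebra k L := inferInstanceAs (Algebra k (X.presheaf.stalk (genericPoint X)))
  obtain ⟨g, hmon, hirr, hsp, f, hf, hfrac⟩ := exists_model k (X.presheaf.stalk (genericPoint X)) d s hs hsep
  refine ⟨g, hmon, hirr, hsp, ?_⟩
  let A := AdjoinRoot g
  have : IsDomain A := hf.isDomain
  have : IsDomain (CommRingCat.of A) := ‹IsDomain A›
  let Y := Spec (CommRingCat.of A)
  let sY : Y ⟶ Spec (CommRingCat.of k) := Spec.map (CommRingCat.ofHom (algebraMap k A))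
  have : Algebra.FiniteType k A := by
    have h1 : Algebra.FiniteType (MvPolynomial (Fin d) k) A := inferInstance
    exact Algebra.FiniteType.trans (S := MvPolynomial (Fin d) k) inferInstance h1
  have : LocallyOfFiniteType sY := by
    rw [HasRingHomProperty.Spec_iff (P := @LocallyOfFiniteType)]
    exact RingHom.finiteType_algebraMap.2 ‹_›
  letI : Algebra A L := f.toRingHom.toAlgebra
  have : FaithfulSMul A L := (faithfulSMul_iff_algebraMap_injective _ _).2 hf
  have : IsFractionRing A L := IsFractionRing.of_field A L fun z => by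
    obtain ⟨a, b, hab⟩ := hfrac z
    exact ⟨a, b, hab⟩
  obtain ⟨σ₀, hσ₀⟩ := exists_functionField_equiv (CommRingCat.of A) L
  let σ : Y.functionField ≅ X.functionField := σ₀.toCommRingCatIso
  obtain ⟨U, V, e, hgU, he⟩ := exists_open_iso' q sY σ (by
    show _ = X.fromSpecStalk _ ≫ (X ↘ Spec (CommRingCat.of k))
    rw [← Curves2.spec_constField, Spec.fromSpecStalk_eq', ← Spec.map_comp, ← Spec.map_comp]
    congr 1
    ext r
    show σ₀ (StructureSheaf.toStalk A (genericPoint Y) (algebraMap k A r)) = Var76.VarDim.constField k X r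
    erw [hσ₀]
    show f (algebraMap k A r) = _
    rw [f.commutes]
    exact algebraMap_eq_constField X r)
  refine ⟨U, V, e, ⟨_, hgU⟩, ?_, he⟩
  exact ⟨_, (e.hom ⟨_, hgU⟩).2⟩

end Groth.Agent.S10835
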