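import Groth.Statements.S10836
import Mathlib.RingTheory.LocalRing.Module
import Mathlib.RingTheory.Localization.Free
import Mathlib.RingTheory.Spectrum.Prime.FreeLocus
import Mathlib.RingTheory.Ideal.Operations

set_option autoImplicit false
universe u
open Coh

namespace Groth.Agent.S10836

/-- Let A be a commutative ring, M a finitely generated projective A-module whose rank at every prime is
r, and Z a finite set of prime ideals of A. Then there is an element s of A outside every prime of Z
such that the localized module M_s has a basis of r elements over A_s. (The published statement is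
for a finite locally free module of constant rank r on a scheme and a finite set of points inside an
affine open Spec A, and produces a basic open D(s) containing the points on which the module is free
of rank r; its argument begins by replacing the scheme with Spec A, and this row states that case.) -/
theorem result (A : Type u) [CommRing A]
    (M : Type u) [AddCommGroup M] [Module A M] [Module.Finite A M] [Module.Projective A M] (r : ℕ)
    (hr : ∀ p : PrimeSpectrum A, Module.rankAtStalk M p = r)
    (Z : Set (PrimeSpectrum A)) (hZ : Z.Finite) :
    ∃ s : A, (∀ p ∈ Z, s ∉ p.asIdeal) ∧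
      Nonempty (Module.Basis (Fin r) (Localization.Away s) (LocalizedModule (Submonoid.powers s) M)) := by
  classical
  let S : Submonoid A := ⨅ p : Z, p.1.asIdeal.primeCompl
  have hmem : ∀ a, a ∈ S ↔ ∀ p ∈ Z, a ∉ p.asIdeal := fun a => by
    simp [S, Submonoid.mem_iInf, Ideal.primeCompl]
  let B := Localization S
  have hsub : ∀ m : MaximalSpectrum B, ∃ q ∈ Z, m.asIdeal.comap (algebraMap A B) ≤ q.asIdeal := by
    intro m
    have hdisj := ((IsLocalization.isPrime_iff_isPrime_disjoint S B m.asIdeal).1 m.2.isPrime).2
    have hsub : ((m.asIdeal.comap (algebraMap A B) : Ideal A) : Set A) ⊆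
        ⋃ q ∈ (hZ.toFinset : Set (PrimeSpectrum A)), (q.asIdeal : Set A) := by
      intro a ha
      by_contra hn
      simp only [Set.mem_iUnion, Set.Finite.coe_toFinset, SetLike.mem_coe, not_exists] at hn
      exact Set.disjoint_left.1 hdisj ((hmem a).2 fun p hp => hn p hp) ha
    rcases hZ.toFinset.eq_empty_or_nonempty with he | ⟨q₀, hq₀⟩
    · have := hsub (zero_mem _)
      simp [he] at this
    obtain ⟨q, hq, hle⟩ :=
      (Ideal.subset_union_prime q₀ q₀ (fun q _ _ _ => q.isPrime)).1 hsub
    exact ⟨q, hZ.mem_toFinset.1 hq, hle⟩
  choose q hqZ hq using hsub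
  have hinj : Function.Injective fun m : MaximalSpectrum B => (⟨q m, hqZ m⟩ : Z) := by
    have key : ∀ m : MaximalSpectrum B, (q m).asIdeal.map (algebraMap A B) = m.asIdeal := by
      intro m
      have hd : Disjoint (S : Set A) (q m).asIdeal :=
        Set.disjoint_left.2 fun a ha ha' => (hmem a).1 ha _ (hqZ m) ha'
      exact (m.2.eq_of_le (IsLocalization.isPrime_of_isPrime_disjoint S B _ (q m).isPrime hd).ne_top
        (le_trans (IsLocalization.map_comap S B m.asIdeal).ge (Ideal.map_mono (hq m)))).symm
    intro m m' h
    ext1
    rw [← key m, ← key m', show q m = q m' from congrArg Subtype.val h]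
  have : Finite (MaximalSpectrum B) := by
    have := hZ.to_subtype
    exact Finite.of_injective _ hinj
  let N := LocalizedModule S M
  have hbc := LocalizedModule.isBaseChange S M
  have : Module.Flat B N := Module.Flat.isBaseChange A B M N hbc
  have : Module.Finite B N := Module.Finite.of_isLocalizedModule S (LocalizedModule.mkLinearMap S M)
  obtain ⟨b⟩ := Module.nonempty_basis_of_flat_of_finrank_eq B N r fun P => by
    letI := Ideal.Quotient.field P.1
    have h1 := Module.rankAtStalk_baseChange (R := B) (M := N) (S := B ⧸ P.1) ⊥
    rw [Module.rankAtStalk_isBaseChange hbc, hr, Module.rankAtStalk_eq_finrank_of_free] at h1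
    simpa using h1
  have : Module.FinitePresentation A M := Module.finitePresentation_of_projective A M
  obtain ⟨s, hs, b', -⟩ := Module.FinitePresentation.exists_basis_localizedModule_powers S
    (LocalizedModule.mkLinearMap S M) B b
  exact ⟨s, (hmem s).1 hs, ⟨b'⟩⟩

end Groth.Agent.S10836
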