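import Groth.Statements.S10838
import Groth.Agent.MorE57.OpenMap

set_option autoImplicit false
universe u
open CategoryTheory AlgebraicGeometry Topology
open Mor

namespace Groth.Agent.S10838

/-- For a morphism of schemes f : X → Y which is open as a map of topological spaces, the Krull
dimension of the image f(X) (with the subspace topology from Y) is at most the Krull dimension of X. -/
theorem result {X Y : Scheme.{u}} (f : X ⟶ Y) (hf : IsOpenMap f.base) :
    topologicalKrullDim ↥(Set.range f.base) ≤ topologicalKrullDim ↥X := by
  exact Groth.Agent.MorE57.topologicalKrullDim_range_le f.continuous hf (Groth.Agent.MorE57.generalizingMap_of_isOpenMap f hf)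

end Groth.Agent.S10838
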