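import Groth.Statements.S10840
import Groth.Agent.VarGal.ProjDim
import Groth.Agent.TopDim50.Basic

set_option autoImplicit false
universe u
open AlgebraicGeometry Topology
open Variety

namespace Groth.Agent.S10840

open AlgebraicGeometry
open Groth.Agent.VarGal CAlgH2

set_option backward.isDefEq.respectTransparency false

/-- For a field k and nonzero homogeneous polynomials f, g of positive degrees in three variables, the
common zero set V_+(f, g) in the projective plane over k is zero-dimensional as a topological
subspace exactly when f and g are coprime, i.e. their only common divisors are the non-zero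
constants. -/
theorem result (k : Type u) [Field k] (n m : ℕ)
    (f g : MvPolynomial (Fin 3) k) (hf : f.IsHomogeneous n) (hg : g.IsHomogeneous m)
    (hn : 0 < n) (hm : 0 < m) (hf0 : f ≠ 0) (hg0 : g ≠ 0) :
    topologicalKrullDim ↥(ProjectiveSpectrum.zeroLocus (CohB1.polyGrading 2 k)
        ({f, g} : Set (MvPolynomial (Fin 3) k))) = 0 ↔ IsRelPrime f g := by
  set W := ProjectiveSpectrum.zeroLocus (CohB1.polyGrading 2 k) ({f, g} : Set (MvPolynomial (Fin 3) k)) with hW
  have hWc : IsClosed W := ProjectiveSpectrum.isClosed_zeroLocus _ _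
  have hhom : ∀ x ∈ ({f, g} : Set (MvPolynomial (Fin 3) k)), ∃ d, x.IsHomogeneous d := by
    rintro x (rfl | rfl)
    exacts [⟨n, hf⟩, ⟨m, hg⟩]
  have hne : W.Nonempty := by
    obtain ⟨p, -, -, hp3⟩ := exists_genPoint (k := k) (n := 2)
    obtain ⟨q, hq⟩ := exists_point_of_add_le p (Set.toFinite {f, g}) hhom (by
      rintro x (rfl | rfl)
      exacts [mem_vertexIdeal_of_isHomogeneous hf hn, mem_vertexIdeal_of_isHomogeneous hg hm]) (by
      have := Set.ncard_insert_le f ({g} : Set (MvPolynomial (Fin 3) k))
      rw [Set.ncard_singleton] at this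
      omega)
    exact ⟨q, (mem_zeroLocus_iff_span_le _ q).2 (le_sup_right.trans hq.1.2)⟩
  refine ⟨fun h0 => ?_, fun hrel => ?_⟩
  · rw [UniqueFactorizationMonoid.isRelPrime_iff_no_prime_factors hf0]
    intro π hπf hπg hπ
    obtain ⟨e, he⟩ := exists_isHomogeneous_of_dvd hf hf0 hπf
    have : (Ideal.span {π}).IsPrime := (Ideal.span_singleton_prime hπ.ne_zero).2 hπ
    let η : ProjectiveSpectrum (CohB1.polyGrading 2 k) :=
      mkPoint (Ideal.span {π}) (isHomogeneous_span fun x hx => ⟨e, (Set.mem_singleton_iff.1 hx) ▸ he⟩)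
        (by rw [trdegQuot_span_prime hπ]; omega)
    have hη : η ∈ W := (mem_zeroLocus_iff_span_le _ η).2 (by
      rw [Ideal.span_le]
      rintro x (rfl | rfl)
      exacts [Ideal.mem_span_singleton.2 hπf, Ideal.mem_span_singleton.2 hπg])
    have h1 := le_projDim hWc hη
    rw [h0] at h1
    have h2 : coneDim η = 2 := trdegQuot_span_prime hπ
    rw [h2] at h1
    norm_num at h1
  · refine le_antisymm (projDim_le (m := 0) hWc fun η hη => ?_) ?_
    · by_contra hlt
      have hsp := (mem_zeroLocus_iff_span_le _ η).1 hη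
      have hfη : f ∈ η.asHomogeneousIdeal.toIdeal := hsp (Ideal.subset_span (Or.inl rfl))
      have hgη : g ∈ η.asHomogeneousIdeal.toIdeal := hsp (Ideal.subset_span (Or.inr rfl))
      have hηp : η.asHomogeneousIdeal.toIdeal.IsPrime := η.isPrime
      obtain ⟨π, hπη, hπ⟩ := hηp.exists_mem_prime_of_ne_bot (fun hb => hf0 (by rw [hb] at hfη; simpa using hfη))
      have : (Ideal.span {π}).IsPrime := (Ideal.span_singleton_prime hπ.ne_zero).2 hπ
      have hle : Ideal.span {π} ≤ η.asHomogeneousIdeal.toIdeal := (Ideal.span_singleton_le_iff_mem _).2 hπη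
      have heq : Ideal.span {π} = η.asHomogeneousIdeal.toIdeal := by
        by_contra hne'
        have h3 := trdegQuot_lt (lt_of_le_of_ne hle hne')
        rw [trdegQuot_span_prime hπ] at h3
        unfold coneDim at hlt
        omega
      exact hπ.not_unit (hrel (Ideal.mem_span_singleton.1 (heq ▸ hfη)) (Ideal.mem_span_singleton.1 (heq ▸ hgη)))
    · have := hne.to_subtype
      exact Groth.Agent.TopDim50.dim_nonneg

end Groth.Agent.S10840
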