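import Groth.Statements.S10842
import Groth.Agent.Props58.Stalks
import Mathlib.RingTheory.IntegralClosure.IntegrallyClosed

set_option autoImplicit false
universe u
open CategoryTheory AlgebraicGeometry
open Variety

namespace Groth.Agent.S10842

/-- A quasi-compact scheme whose local rings at all closed points are integrally closed domains is
normal, i.e. all of its local rings are integrally closed domains. -/
theorem result (X : Scheme.{u}) [CompactSpace ↥X]
    (h : ∀ x : X, IsClosed ({x} : Set X) →
      IsDomain (X.presheaf.stalk x) ∧ IsIntegrallyClosed (X.presheaf.stalk x)) :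
    Pi1.IsNormalScheme X := by
  intro x
  obtain ⟨y, hy, hyc⟩ := IsClosed.exists_closed_singleton (X := X)
    (isClosed_closure (s := ({x} : Set X))) ⟨x, subset_closure rfl⟩
  obtain ⟨_, _⟩ := h y hyc
  obtain ⟨p, _, ⟨e⟩⟩ := Groth.Agent.Props58.stalkSpecializes_isLocalization X (specializes_iff_mem_closure.mpr hy)
  have : IsDomain (Localization.AtPrime p) := IsLocalization.isDomain_localization p.primeCompl_le_nonZeroDivisors
  have : IsIntegrallyClosed (Localization.AtPrime p) :=
    isIntegrallyClosed_of_isLocalization _ p.primeCompl p.primeCompl_le_nonZeroDivisors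
  exact ⟨e.symm.injective.isDomain, IsIntegrallyClosed.of_equiv e⟩

end Groth.Agent.S10842
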