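import Groth.Statements.S10843
import Mathlib
import Groth.Agent.CAlg6.KaehlerSimple
import Groth.Agent.EGA4Alg4.IntegralDim
import Groth.Agent.FBase64.TensorField

set_option autoImplicit false
universe u
open CAlg
open Groth.Agent
open Polynomial TensorProduct

namespace Groth.Agent.S10843

/-- For a field k, a nonzero finitely generated k-algebra A and a natural number d, the algebra A has
Krull dimension d exactly when some injective k-algebra map from the polynomial ring in d variables
over k to A makes A a finite module over that polynomial ring. -/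
theorem result (k A : Type u) [Field k]
    [CommRing A] [Nontrivial A] [Algebra k A] [Algebra.FiniteType k A] (d : ℕ) :
    ringKrullDim A = (d : WithBot ℕ∞) ↔
      ∃ φ : MvPolynomial (Fin d) k →ₐ[k] A, φ.toRingHom.Finite ∧ Function.Injective φ := by
  have key : ∀ (s : ℕ) (φ : MvPolynomial (Fin s) k →ₐ[k] A), φ.toRingHom.Finite →
      Function.Injective φ → ringKrullDim A = (s : WithBot ℕ∞) := by
    intro s φ hfin hinj
    let : Algebra (MvPolynomial (Fin s) k) A := φ.toRingHom.toAlgebra
    have : Module.Finite (MvPolynomial (Fin s) k) A := hfin
    have h := EGA4Alg4.ringKrullDim_eq_of_integral (A := MvPolynomial (Fin s) k) (B := A) hinj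
    have h2 : ringKrullDim (MvPolynomial (Fin s) k) = (s : WithBot ℕ∞) := by
      rw [MvPolynomial.ringKrullDim_of_isNoetherianRing, ringKrullDim_eq_zero_of_field, zero_add,
        Nat.card_eq_fintype_card, Fintype.card_fin]
    exact h.trans h2
  constructor
  · intro hd
    obtain ⟨s, φ, hinj, hfin⟩ := exists_finite_inj_algHom_of_fg k A
    have hs := key s φ hfin hinj
    rw [hd] at hs
    obtain rfl : d = s := by exact_mod_cast hs
    exact ⟨φ, hfin, hinj⟩
  · rintro ⟨φ, hfin, hinj⟩
    exact key d φ hfin hinj

end Groth.Agent.S10843
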