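import Groth.Statements.S10844
import Groth.Agent.Div89.StalkOpen
import Groth.Agent.Props58.LocFree.Criteria
import Groth.Agent.FlatMor68.PullbackNatural
import Groth.Agent.LimTop61.ModDescent

set_option autoImplicit false
set_option backward.isDefEq.respectTransparency.types false
universe u
open RepF

namespace Groth.Agent.S10844

open TensorProduct IsLocalRing in
/-- Nakayama along a local homomorphism. -/
theorem subsingleton_of_tensor {R T : Type u} [CommRing R] [IsLocalRing R] [CommRing T] [IsLocalRing T]
    [Algebra R T] [IsLocalHom (algebraMap R T)] (M : Type u) [AddCommGroup M] [Module R M]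
    [Module.Finite R M] (h : Subsingleton (T ⊗[R] M)) : Subsingleton M := by
  refine (IsLocalRing.subsingleton_tensorProduct (R := R)).1 ?_
  letI : Algebra (ResidueField R) (ResidueField T) := (ResidueField.map (algebraMap R T)).toAlgebra
  haveI : IsScalarTower R (ResidueField R) (ResidueField T) := IsScalarTower.of_algebraMap_eq fun _ => rfl
  have h' : Subsingleton (ResidueField T ⊗[R] M) :=
    (LinearMap.rTensor_surjective M (g := (IsScalarTower.toAlgHom R T (ResidueField T)).toLinearMap)
      Ideal.Quotient.mk_surjective).subsingleton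
  have h'' : Subsingleton (ResidueField T ⊗[ResidueField R] (ResidueField R ⊗[R] M)) :=
    (AlgebraTensorModule.cancelBaseChange R (ResidueField R) (ResidueField R) (ResidueField T) M).toEquiv.subsingleton
  exact (Module.FaithfullyFlat.subsingleton_tensorProduct_iff_right (ResidueField R) (ResidueField T)).1 h''

open TensorProduct in
/-- Surjectivity of a tensored map descends along local homomorphisms. -/
theorem surjective_of_lTensor {R T : Type u} [CommRing R] [IsLocalRing R] [CommRing T] [IsLocalRing T]
    [Algebra R T] [IsLocalHom (algebraMap R T)] {M N : Type u} [AddCommGroup M] [Module R M]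
    [AddCommGroup N] [Module R N] [Module.Finite R N] (l : M →ₗ[R] N)
    (h : Function.Surjective (l.lTensor T)) : Function.Surjective l := by
  rw [← LinearMap.range_eq_top, ← Submodule.Quotient.subsingleton_iff]
  refine subsingleton_of_tensor (R := R) (T := T) (N ⧸ LinearMap.range l) ⟨fun a b => ?_⟩
  obtain ⟨a, rfl⟩ := LinearMap.lTensor_surjective T (Submodule.mkQ_surjective (LinearMap.range l)) a
  obtain ⟨b, rfl⟩ := LinearMap.lTensor_surjective T (Submodule.mkQ_surjective (LinearMap.range l)) b
  obtain ⟨a, rfl⟩ := h a
  obtain ⟨b, rfl⟩ := h b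
  rw [← LinearMap.lTensor_comp_apply, ← LinearMap.lTensor_comp_apply, LinearMap.range_mkQ_comp,
    LinearMap.lTensor_zero, LinearMap.zero_apply, LinearMap.zero_apply]

open AlgebraicGeometry CategoryTheory in
/-- For a scheme S and a homomorphism v : E → F of quasi-coherent O_S-modules with F of finite type,
there is an open subscheme U of S such that a morphism of schemes f : T → S factors through U (its
image lies in U) if and only if the pulled-back homomorphism f^*v : f^*E → f^*F is an epimorphism. -/
theorem result {S : Scheme.{u}} {E F : S.Modules}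
    [Coh.IsQCoh E] [Coh.IsQCoh F] (hF : CohB1.IsFT F) (v : E ⟶ F) :
    ∃ U : S.Opens, ∀ (T : Scheme.{u}) (f : T ⟶ S),
      Set.range f.base ⊆ (U : Set S) ↔ Epi ((Scheme.Modules.pullback f).map v) := by
  haveI : E.IsQuasicoherent := inferInstanceAs (Coh.IsQCoh E)
  haveI : F.IsQuasicoherent := inferInstanceAs (Coh.IsQCoh F)
  haveI : F.IsFiniteType := hF
  let U : S.Opens := ⟨{s | Function.Surjective (QC70.stalkMapM v s)}, isOpen_iff_forall_mem_open.2 fun s hs => by
    obtain ⟨W, hsW, hW⟩ := Div89.surjective_stalk_near v hs
    exact ⟨W, hW, W.2, hsW⟩⟩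
  refine ⟨U, fun T f => ?_⟩
  have key : ∀ t : T, Function.Surjective (QC70.stalkMapM ((Scheme.Modules.pullback f).map v) t) ↔
      Function.Surjective (QC70.stalkMapM v (f.base t)) := fun t => by
    obtain ⟨A, hA, hfA, -⟩ := exists_isAffineOpen_mem_and_subset (X := S) (x := f.base t) (U := ⊤) trivial
    obtain ⟨B, hB, htB, hBA⟩ := exists_isAffineOpen_mem_and_subset (X := T) (x := t) (U := f ⁻¹ᵁ A) hfA
    have e : B ≤ f ⁻¹ᵁ A := fun q hq => hBA hq
    letI := (f.stalkMap t).hom.toAlgebra
    haveI : IsLocalHom (algebraMap (S.presheaf.stalk (f.base t)) (T.presheaf.stalk t)) :=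
      inferInstanceAs (IsLocalHom (f.stalkMap t).hom)
    haveI := Props58.LocFree.finite_stalk_of_isFiniteType (M := F) (f.base t)
    let εE := FlatMor68.PullbackNatural.stalkEquiv f hA hB e E htB
    let εF := FlatMor68.PullbackNatural.stalkEquiv f hA hB e F htB
    have hnat : ⇑εF ∘ QC70.stalkMapM ((Scheme.Modules.pullback f).map v) t =
        ⇑((QC70.stalkLinear v (f.base t)).lTensor (T.presheaf.stalk t)) ∘ ⇑εE :=
      funext fun z => FlatMor68.PullbackNatural.stalkEquiv_natural f v hA hB e htB z
    rw [← Function.Surjective.of_comp_iff' εF.bijective, hnat, Function.Surjective.of_comp_iff _ εE.surjective]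
    exact ⟨fun h => surjective_of_lTensor (T := T.presheaf.stalk t) (QC70.stalkLinear v (f.base t)) h,
      fun h => LinearMap.lTensor_surjective _ h⟩
  refine ⟨fun h => QC70.epi_of_surjective_stalkMapM _ fun t => (key t).2 (h ⟨t, rfl⟩), ?_⟩
  rintro h _ ⟨t, rfl⟩
  exact (key t).1 (QC70.surjective_stalkMapM_of_epi _ t)

end Groth.Agent.S10844
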