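import Groth.Statements.S10850
import Groth.Agent.Csa25.ProjAutLinear

set_option autoImplicit false
universe u
open ProjAut

namespace Groth.Agent.S10850

open AlgebraicGeometry CategoryTheory Groth.Agent.Csa25

variable {k : Type u} [Field k] {n : ℕ}

/-- The automorphism of projective space given by an invertible matrix. -/
noncomputable def glAut (g : Matrix.GeneralLinearGroup (Fin (n + 1)) k) :
    Aut (Over.mk (CohB1.ProjSpace.toSpec n k)) :=
  haveI : IsIso (linMap (RingHom.id k) _ g⁻¹.isUnit) := isIso_linMap (RingEquiv.refl k) g⁻¹.isUnit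
  Over.isoMk (asIso (linMap (RingHom.id k) _ g⁻¹.isUnit)) (by
    show linMap (RingHom.id k) _ g⁻¹.isUnit ≫ CohB1.ProjSpace.toSpec n k = CohB1.ProjSpace.toSpec n k
    rw [linMap_toSpec, CommRingCat.ofHom_id, Spec.map_id, Category.comp_id])

theorem glAut_left (g : Matrix.GeneralLinearGroup (Fin (n + 1)) k) :
    (glAut g).hom.left = linMap (RingHom.id k) _ g⁻¹.isUnit := rfl

theorem glAut_ext {a b : Aut (Over.mk (CohB1.ProjSpace.toSpec n k))} (h : a.hom.left = b.hom.left) : a = b :=
  Iso.ext (Over.OverMorphism.ext h)

open AlgebraicGeometry CategoryTheory in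
/-- Let k be a field and n a natural number. There is a surjective group homomorphism from GL_{n+1}(k)
onto the group of automorphisms of projective n-space P^n_k over Spec k whose kernel is the subgroup
of invertible scalar matrices; so the automorphism group of P^n_k over k is isomorphic to
PGL_{n+1}(k). (Only the existence of a surjective homomorphism with this kernel is asserted here;
the published statement is about the homomorphism induced by linear substitutions of the homogeneous
coordinates.) -/
theorem result
    (k : Type u) [Field k] (n : ℕ) :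
    ∃ φ : Matrix.GeneralLinearGroup (Fin (n + 1)) k →* Aut (Over.mk (CohB1.ProjSpace.toSpec n k)),
      Function.Surjective φ ∧
        φ.ker = (Units.map (Matrix.scalar (Fin (n + 1)) : k →+* Matrix (Fin (n + 1)) (Fin (n + 1)) k).toMonoidHom).range := by
  classical
  let φ : Matrix.GeneralLinearGroup (Fin (n + 1)) k →* Aut (Over.mk (CohB1.ProjSpace.toSpec n k)) :=
    MonoidHom.mk' glAut fun g h => glAut_ext (by
      show _ = (glAut h).hom.left ≫ (glAut g).hom.left
      rw [glAut_left, glAut_left, glAut_left]
      refine Eq.trans ?_ (linMap_comp _ _ _ _).symm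
      exact linMap_congr (RingHom.id_comp _).symm (by simp [mul_inv_rev]))
  refine ⟨φ, fun a => ?_, ?_⟩
  · haveI : IsIso a.hom.left := ⟨a.inv.left, by rw [← Over.comp_left, a.hom_inv_id]; rfl,
      by rw [← Over.comp_left, a.inv_hom_id]; rfl⟩
    obtain ⟨g, hg, he⟩ := exists_eq_linMap (n := n) (RingEquiv.refl k) (asIso a.hom.left) (by
      refine (Over.w a.hom).trans ?_
      show _ = _ ≫ Spec.map (CommRingCat.ofHom (RingHom.id k))
      rw [CommRingCat.ofHom_id, Spec.map_id, Category.comp_id]
      rfl)
    refine ⟨hg.unit⁻¹, glAut_ext ?_⟩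
    show (glAut _).hom.left = _
    rw [glAut_left]
    exact (linMap_congr rfl (by simp)).trans he.symm
  · ext g
    rw [MonoidHom.mem_ker]
    constructor
    · intro hg
      have h1 : linMap (RingHom.id k) _ g⁻¹.isUnit = 𝟙 _ := by
        rw [← glAut_left]
        exact congrArg (fun a : Aut (Over.mk (CohB1.ProjSpace.toSpec n k)) => a.hom.left) hg
      obtain ⟨c, hc, hc'⟩ := eq_scalar_of_linMap_eq_id _ h1
      refine ⟨Units.mk0 c⁻¹ (inv_ne_zero hc), ?_⟩
      refine inv_injective (Units.ext ?_)
      rw [hc', ← map_inv]
      simp [Matrix.smul_one_eq_diagonal]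
    · rintro ⟨c, rfl⟩
      refine glAut_ext ?_
      show (glAut _).hom.left = 𝟙 _
      rw [glAut_left]
      refine Eq.trans ?_ (linMap_scalar (n := n) c⁻¹.ne_zero)
      refine linMap_congr rfl ?_
      rw [← map_inv]
      simp [Matrix.smul_one_eq_diagonal]

end Groth.Agent.S10850
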