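import Groth.Statements.S10851
import Groth.Agent.Mero90.Div
import Mathlib.RingTheory.KrullDimension.Zero

set_option autoImplicit false
universe u
open Mero

namespace Groth.Agent.S10851

open AlgebraicGeometry in
/-- Let X be a locally Noetherian scheme and D a divisor on X (a global section of K_X^×/O_X^×). Then
the support of D has codimension at least 1 in X: for every point z at which the germ of D is
non-trivial, the local ring O_{X,z} has Krull dimension at least 1. -/
theorem result {X : Scheme.{u}} [IsLocallyNoetherian X]
    (D : Mero.Divisor X) (z : X) (hz : z ∈ Mero.supp D) :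
    (1 : WithBot ℕ∞) ≤ ringKrullDim (X.presheaf.stalk z) := by
  by_contra hlt
  apply hz
  obtain ⟨a, b, hab⟩ := Mero90.exists_cls_germ D z
  have h0 : Ring.KrullDimLE 0 (X.presheaf.stalk z) := by
    rw [Ring.KrullDimLE, Order.krullDimLE_iff]
    have := (ENat.WithBot.lt_add_one_iff (n := ringKrullDim (X.presheaf.stalk z)) (m := 0)).mp
      (by simpa using lt_of_not_ge hlt)
    exact this
  have hu : ∀ s : Mero.regStalk X z, IsUnit s.1 := fun s => by
    by_contra hns
    obtain ⟨n, hn⟩ := Ring.KrullDimLE.isNilpotent_iff_mem_nonunits.mpr hns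
    have h1 : (0 : X.presheaf.stalk z) ∈ nonZeroDivisors _ :=
      hn ▸ pow_mem (Mero.regStalk_le_nonZeroDivisors _ s.2) n
    exact zero_notMem_nonZeroDivisors h1
  rw [hab, Mero90.cls_eq_one_iff]
  exact (associated_one_iff_isUnit.mpr (hu b)).trans (associated_one_iff_isUnit.mpr (hu a)).symm

end Groth.Agent.S10851
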