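import Groth.Statements.S10860
import Mathlib.AlgebraicGeometry.ZariskisMainTheorem

set_option autoImplicit false
set_option backward.isDefEq.respectTransparency.types false
universe u
open Mor

namespace Groth.Agent.S10860

open CategoryTheory AlgebraicGeometry in
/-- For a proper morphism f : X → Y, the set V of points of Y with finite fibre is open, and f
restricted over V is finite (stated as the existence of an open subscheme of Y whose underlying set
is exactly V and over which f is finite). -/
theorem result {X Y : Scheme.{u}} (f : X ⟶ Y) [IsProper f] :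
    ∃ U : Y.Opens, (U : Set Y) = {y : Y | (f.base ⁻¹' {y}).Finite} ∧ IsFinite (f ∣_ U) := by
  let V : Y.Opens := ⟨_, (f.isClosedMap _ f.quasiFiniteLocus.isOpen.isClosed_compl).isOpen_compl⟩
  have hfin : IsFinite (f ∣_ V) := by
    suffices LocallyQuasiFinite (f ∣_ V) from .of_isProper_of_locallyQuasiFinite _
    rw [← Scheme.Hom.quasiFiniteLocus_eq_top_iff]
    ext x
    have : f.QuasiFiniteAt ((f ⁻¹ᵁ V).ι x) := by by_contra H; exact x.2 ⟨_, H, by simp⟩
    rw [← Scheme.Hom.quasiFiniteAt_comp_iff_of_isOpenImmersion, ← morphismRestrict_ι,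
      Scheme.Hom.quasiFiniteAt_comp_iff] at this
    simpa
  refine ⟨V, Set.ext fun y => ⟨fun hy => ?_, fun hy => ?_⟩, hfin⟩
  · have h1 := Scheme.Hom.finite_preimage_singleton (f ∣_ V) ⟨y, hy⟩
    refine (h1.image (f ⁻¹ᵁ V).ι).subset fun x hx => ?_
    have hx' : f x = y := hx
    exact ⟨⟨x, show f x ∈ V from hx'.symm ▸ hy⟩, Subtype.ext ((morphismRestrict_base_coe f V _).trans hx'), rfl⟩
  · rintro ⟨x, hx, rfl⟩
    haveI : Finite (f.fiber (f x)) := (f.fiberHomeo (f x)).finite_iff.mpr hy.to_subtype
    exact hx (Scheme.Hom.quasiFiniteAt_iff_isOpen_singleton_asFiber.mpr (isOpen_discrete _))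

end Groth.Agent.S10860
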