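import Groth.Statements.S10863
import Mathlib

set_option autoImplicit false
universe u
open CAlg
open TensorProduct

namespace Groth.Agent.S10863

open TensorProduct in
/-- Let k be a field, A a finite-dimensional local k-algebra with residue field κ, and k' a field
extension of k. Then the separable degree of κ over k equals the sum over the maximal ideals m' of
k' ⊗_k A (the points of the base-changed finite scheme lying over the given point) of the separable
degrees over k' of their residue fields. -/
theorem result (k A k' : Type u) [Field k] [CommRing A] [Algebra k A]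
    [Module.Finite k A] [IsLocalRing A] [Field k'] [Algebra k k'] :
    Field.finSepDegree k (IsLocalRing.ResidueField A) =
      ∑ᶠ m : MaximalSpectrum (k' ⊗[k] A),
        Field.finSepDegree k' (IsLocalRing.ResidueField (Localization.AtPrime m.asIdeal)) := by
  classical
  let T := k' ⊗[k] A
  let Ω := AlgebraicClosure k'
  let κ := IsLocalRing.ResidueField A
  have hA : IsArtinianRing A := IsArtinianRing.of_finite k A
  have hT : Module.Finite k' T := inferInstance
  have : IsArtinianRing T := IsArtinianRing.of_finite k' T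
  have : Module.Finite k κ := Module.Finite.of_surjective (IsScalarTower.toAlgHom k A κ).toLinearMap IsLocalRing.residue_surjective
  have : Algebra.IsAlgebraic k κ := Algebra.IsAlgebraic.of_finite k κ
  rw [Field.finSepDegree_eq_of_isAlgClosed k κ Ω]
  let toA : (κ →ₐ[k] Ω) → (A →ₐ[k] Ω) := fun g => g.comp (IsScalarTower.toAlgHom k A κ)
  have e1 : Function.Bijective toA := by
    refine ⟨fun g g' h => AlgHom.ext fun z => ?_, fun f => ?_⟩
    · obtain ⟨a, rfl⟩ := IsLocalRing.residue_surjective z
      exact DFunLike.congr_fun h a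
    · have hker : RingHom.ker f.toRingHom = IsLocalRing.maximalIdeal A :=
        have := RingHom.ker_isPrime f.toRingHom
        IsLocalRing.eq_maximalIdeal (IsArtinianRing.isMaximal_of_isPrime _)
      refine ⟨Ideal.Quotient.liftₐ (IsLocalRing.maximalIdeal A) f fun a ha => by
        rw [← hker] at ha; exact ha, AlgHom.ext fun a => rfl⟩
  let ofSigma : (Σ m : MaximalSpectrum T, (T ⧸ m.asIdeal) →ₐ[k'] Ω) → (T →ₐ[k'] Ω) :=
    fun x => x.2.comp (Ideal.Quotient.mkₐ k' x.1.asIdeal)
  have e3 : Function.Bijective ofSigma := by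
    refine ⟨?_, fun f => ?_⟩
    · rintro ⟨m, g⟩ ⟨m', g'⟩ h
      have hk : ∀ (m : MaximalSpectrum T) (g : (T ⧸ m.asIdeal) →ₐ[k'] Ω),
          RingHom.ker (ofSigma ⟨m, g⟩).toRingHom = m.asIdeal := fun m g => by
        letI := Ideal.Quotient.field m.asIdeal
        ext z
        show g (Ideal.Quotient.mk _ z) = 0 ↔ _
        rw [map_eq_zero_iff g g.injective, Ideal.Quotient.eq_zero_iff_mem]
      obtain rfl : m = m' := MaximalSpectrum.ext (by rw [← hk m g, ← hk m' g', h])
      congr 1
      exact Ideal.Quotient.algHom_ext k' h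
    · have := RingHom.ker_isPrime f.toRingHom
      have hmax : (RingHom.ker f.toRingHom).IsMaximal :=
        IsArtinianRing.isMaximal_of_isPrime _
      exact ⟨⟨⟨_, hmax⟩, Ideal.Quotient.liftₐ _ f fun a ha => ha⟩, AlgHom.ext fun a => rfl⟩
  rw [Nat.card_congr ((Equiv.ofBijective _ e1).trans ((AlgHom.liftEquiv k k' A Ω).trans (Equiv.ofBijective _ e3).symm))]
  have : Fintype (MaximalSpectrum T) := Fintype.ofFinite _
  have : ∀ m : MaximalSpectrum T, Finite ((T ⧸ m.asIdeal) →ₐ[k'] Ω) := fun m => by
    letI := Ideal.Quotient.field m.asIdeal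
    infer_instance
  rw [Nat.card_sigma, finsum_eq_sum_of_fintype]
  refine Finset.sum_congr rfl fun m _ => ?_
  letI := Ideal.Quotient.field m.asIdeal
  have : Algebra.IsAlgebraic k' (T ⧸ m.asIdeal) := Algebra.IsAlgebraic.of_finite _ _
  rw [← Field.finSepDegree_eq_of_isAlgClosed k' (T ⧸ m.asIdeal) Ω]
  let e : (T ⧸ m.asIdeal) ≃+* IsLocalRing.ResidueField (Localization.AtPrime m.asIdeal) :=
    IsLocalization.AtPrime.equivQuotMaximalIdeal m.asIdeal (Localization.AtPrime m.asIdeal)
  exact Field.finSepDegree_eq_of_equiv k' _ _ (AlgEquiv.ofRingEquiv (f := e) fun c => rfl)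

end Groth.Agent.S10863
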