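import Groth.Statements.S10865
import Groth.Agent.QC70.DevissageAux

set_option autoImplicit false
set_option backward.isDefEq.respectTransparency.types false
universe u
open Coherent

namespace Groth.Agent.S10865

open CategoryTheory CategoryTheory.Limits AlgebraicGeometry in
/-- Let X be a nonempty Noetherian scheme and K an isomorphism-closed class of O_X-modules such that (a)
in a short exact sequence of coherent modules, if the middle and right terms lie in K so does the
left one, and if the two outer terms lie in K so does the middle one; (b) if a coherent F has some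
d-fold direct sum (d ≥ 1) in K then F lies in K. If for every integral closed subscheme i : Z → X
there is a coherent O_Z-module with nonzero stalk at the generic point whose direct image under i
lies in K, then every coherent O_X-module lies in K. (For the empty scheme the hypotheses hold for
the empty class, so X is taken nonempty here.) -/
theorem result (X : Scheme.{u}) [IsNoetherian X] [Nonempty X]
    (K : ObjectProperty X.Modules) [K.IsClosedUnderIsomorphisms]
    (ha : ∀ S : ShortComplex X.Modules, S.ShortExact → Coh.IsCoh S.X₁ → Coh.IsCoh S.X₂ → Coh.IsCoh S.X₃ →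
      (K S.X₂ → K S.X₃ → K S.X₁) ∧ (K S.X₁ → K S.X₃ → K S.X₂))
    (hb : ∀ (F : X.Modules) (d : ℕ), 1 ≤ d → Coh.IsCoh F → K (∐ fun _ : Fin d => F) → K F)
    (hgen : ∀ (Z : Scheme.{u}) (i : Z ⟶ X) [IsClosedImmersion i] [IsIntegral Z],
      ∃ H : Z.Modules, Coh.IsCoh H ∧ Nontrivial (H.presheaf.stalk (genericPoint Z)) ∧
        K ((Scheme.Modules.pushforward i).obj H))
    (F : X.Modules) (hF : Coh.IsCoh F) : K F := by
  classical
  have hmap : ∀ M N : X.Modules, Nonempty (M ≅ N) → K M → K N :=
    fun M N ⟨e⟩ h => K.prop_of_iso e h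
  have h0 : ∀ M : X.Modules, IsZero M → K M := by
    intro M hM
    obtain ⟨Z, i, hi, hZ, -, -⟩ := Groth.Agent.QC70.exists_integral_closed (Classical.arbitrary X)
    obtain ⟨H, hH, -, hK⟩ := hgen Z i
    have hc := Groth.Agent.QC70.isCoh_pushforward i H hH
    let S := ShortComplex.mk (hM.to_ ((Scheme.Modules.pushforward i).obj H))
      (𝟙 ((Scheme.Modules.pushforward i).obj H)) (hM.eq_of_src _ _)
    have hS : S.ShortExact :=
      { exact := (S.exact_iff_mono (hM.eq_of_src _ _)).mpr (inferInstanceAs (Mono (𝟙 _)))
        mono_f := ⟨fun g h _ => hM.eq_of_tgt g h⟩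
        epi_g := inferInstanceAs (Epi (𝟙 _)) }
    exact (ha S hS (Groth.Agent.QC70.isCoh_of_isZero hM) hc hc).1 hK hK
  refine Groth.Agent.QC70.devissage K hmap h0
    (fun S hS h1 h2 h3 p1 p3 => (ha S hS h1 h2 h3).2 p1 p3)
    (fun M r hM hr hK => hb M r hr hM hK) Set.univ isClosed_univ ?_ F hF (Set.subset_univ _)
  intro y _ IH
  obtain ⟨Z, i, hi, hZ, hr, rfl⟩ := Groth.Agent.QC70.exists_integral_closed y
  obtain ⟨H, hH, hnt, hK⟩ := hgen Z i
  haveI := hH.2
  have hc := Groth.Agent.QC70.isCoh_pushforward i H hH
  haveI := hc.1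
  refine ⟨_, hc, Groth.Agent.QC70.nontrivial_stalk_pushforward i H _,
    Groth.Agent.QC70.stalk_pushforward_killed i H,
    fun J hJ => ⟨(Dual3.idealMul J).obj _, 𝟙 _, inferInstance,
      Groth.Agent.QC70.isCoh_idealMul J hc, ?_, ?_⟩⟩
  · rw [Category.id_comp]
    exact Groth.Agent.QC70.bijective_stalk_idealMulι J _ hJ
  · refine (ha (Groth.Agent.QC70.quotSC J _) (Groth.Agent.QC70.quotSC_shortExact J _)
      (Groth.Agent.QC70.isCoh_idealMul J hc) hc (Groth.Agent.QC70.isCoh_quot J hc)).1 hK
      (IH _ (Groth.Agent.QC70.isCoh_quot J hc)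
        (((Groth.Agent.QC70.support_quot_subset_left J _).trans
          (Groth.Agent.QC70.support_pushforward_subset i H)).trans hr.le)
        fun h => hJ (Groth.Agent.QC70.support_quot_subset_right J _ h))

end Groth.Agent.S10865
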