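import Groth.Statements.S10866
import Groth.Agent.QC70.DevissageAux
import Groth.Agent.S10865

set_option autoImplicit false
set_option backward.isDefEq.respectTransparency.types false
universe u
open Coherent

namespace Groth.Agent.S10866

open CategoryTheory AlgebraicGeometry in
/-- Let f : X → Y be a morphism of Noetherian schemes such that for every integral closed subscheme i :
Z → X there is a coherent O_Z-module with nonzero stalk at the generic point of Z whose direct image
under i followed by f is coherent on Y. Then the direct image f_*F of every coherent O_X-module F is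
coherent. -/
theorem result {X Y : Scheme.{u}} [IsNoetherian X] [IsNoetherian Y]
    (f : X ⟶ Y)
    (hgen : ∀ (Z : Scheme.{u}) (i : Z ⟶ X) [IsClosedImmersion i] [IsIntegral Z],
      ∃ H : Z.Modules, Coh.IsCoh H ∧ Nontrivial (H.presheaf.stalk (genericPoint Z)) ∧
        Coh.IsCoh ((Scheme.Modules.pushforward (i ≫ f)).obj H))
    (F : X.Modules) (hF : Coh.IsCoh F) : Coh.IsCoh ((Scheme.Modules.pushforward f).obj F) := by
  classical
  rcases isEmpty_or_nonempty X with hX | hX
  · exact Groth.Agent.QC70.isCoh_of_isZero ((Scheme.Modules.pushforward f).map_isZero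
      (Groth.Agent.QC70.isZero_of_support_eq_empty (Set.eq_empty_of_isEmpty _)))
  let K : ObjectProperty X.Modules := fun M => Coh.IsCoh ((Scheme.Modules.pushforward f).obj M)
  haveI : K.IsClosedUnderIsomorphisms :=
    ⟨fun e h => Groth.Agent.QC70.isCoh_of_iso ((Scheme.Modules.pushforward f).mapIso e) h⟩
  refine Groth.Agent.S10865.result X K (fun S hS h1 h2 h3 => ⟨fun p2 p3 => ?_, fun p1 p3 =>
    Groth.Agent.QC70.isCoh_push_X₂ f S hS h1 h2 h3 p1 p3⟩)
    (fun M d hd hM h => Groth.Agent.QC70.isCoh_push_root f M d hM hd h) ?_ F hF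
  · haveI := (Scheme.Modules.pullbackPushforwardAdjunction f).rightAdjoint_preservesLimits
    haveI := h1.1
    haveI := hS.mono_f
    exact Groth.Agent.QC70.isCoh_of_mono ((Scheme.Modules.pushforward f).map S.f)
      (Groth.Agent.QC70.isQuasicoherent_push f S.X₁) p2
  · intro Z i _ _
    obtain ⟨H, hH, hnt, hc⟩ := hgen Z i
    exact ⟨H, hH, hnt, Groth.Agent.QC70.isCoh_of_iso
      ((Scheme.Modules.pushforwardComp i f).app H).symm hc⟩

end Groth.Agent.S10866
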