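import Groth.Statements.S10868
import Mathlib.AlgebraicGeometry.Morphisms.Proper

set_option autoImplicit false
universe u
open Mor

namespace Groth.Agent.S10868

open CategoryTheory AlgebraicGeometry in
/-- f : X → Y is a finite morphism exactly when it is proper and quasi-affine (quasi-compact, with the
inverse image of every affine open subscheme of Y a quasi-affine scheme). -/
theorem result {X Y : Scheme.{u}} (f : X ⟶ Y) :
    IsFinite f ↔ IsProper f ∧ Mor2.IsQuasiAffine f := by
  constructor
  · intro hf
    exact ⟨inferInstance, inferInstance, fun V hV =>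
      haveI : IsAffine (f ⁻¹ᵁ V : Scheme.{u}) := hV.preimage f
      inferInstance⟩
  · rintro ⟨hp, hqc, hqa⟩
    haveI : IsAffineHom f := by
      refine ⟨fun V hV => ?_⟩
      haveI := hqa V hV
      haveI : IsAffine (V : Scheme.{u}) := hV
      let W : Scheme.{u} := ↑(f ⁻¹ᵁ V)
      haveI : IsIso (V : Scheme.{u}).toSpecΓ := IsAffine.affine
      haveI : IsProper (W.toSpecΓ ≫ Spec.map (f ∣_ V).appTop) := by
        rw [← Scheme.toSpecΓ_naturality]
        infer_instance
      haveI : IsProper W.toSpecΓ := .of_comp W.toSpecΓ (Spec.map (f ∣_ V).appTop)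
      haveI : IsClosedImmersion W.toSpecΓ :=
        IsClosedImmersion.of_isPreimmersion _ W.toSpecΓ.isClosedMap.isClosed_range
      exact isAffine_of_isAffineHom W.toSpecΓ
    exact IsFinite.iff_isProper_and_isAffineHom.mpr ⟨hp, inferInstance⟩

end Groth.Agent.S10868
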