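import Groth.Statements.S10869
import Groth.Agent.GGDesc24.Basic
import Groth.Agent.QCqs72.Basic
import Groth.Agent.QCRes72.Basic

set_option autoImplicit false
set_option maxSynthPendingDepth 6
set_option linter.style.haveILetI false
set_option backward.isDefEq.respectTransparency.types false
universe u
open Coh

namespace Groth.Agent.S10869

section Aux

open CategoryTheory AlgebraicGeometry Opposite
open Groth.Agent

variable {X S : Scheme.{u}} (f : X ⟶ S) (F : X.Modules)

/-- A map kills all sections on preimages iff it is killed by the counit. -/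
theorem counit_comp_eq_zero_iff {T : X.Modules} (q : F ⟶ T) :
    (Scheme.Modules.pullbackPushforwardAdjunction f).counit.app F ≫ q = 0 ↔
      ∀ (V : S.Opens) (t : Γ(F, f ⁻¹ᵁ V)), q.app (f ⁻¹ᵁ V) t = 0 := by
  let adj := Scheme.Modules.pullbackPushforwardAdjunction f
  have key : adj.homEquiv _ _ (adj.counit.app F ≫ q) = (Scheme.Modules.pushforward f).map q := by
    rw [Adjunction.homEquiv_naturality_right, Adjunction.homEquiv_unit, adj.right_triangle_components,
      Category.id_comp]
  constructor
  · intro h V t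
    have h0 : (Scheme.Modules.pushforward f).map q = 0 := by
      rw [← key, h, Adjunction.homEquiv_unit, Functor.map_zero, Limits.comp_zero]
    exact congr(Scheme.Modules.Hom.app $h0 V t)
  · intro h
    apply (adj.homEquiv _ _).injective
    rw [key, Adjunction.homEquiv_unit, Functor.map_zero, Limits.comp_zero]
    refine Scheme.Modules.hom_ext _ _ fun V => ?_
    ext t
    exact h V t

/-- The counit is an epimorphism iff the module is generated by sections over preimages of affines. -/
theorem epi_counit_iff [QuasiCompact f] [QuasiSeparated f] [F.IsQuasicoherent] :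
    Epi ((Scheme.Modules.pullbackPushforwardAdjunction f).counit.app F) ↔
      ∀ U : S.Opens, IsAffineOpen U → Curv2.IsGloballyGenerated (F.restrict (f ⁻¹ᵁ U).ι) := by
  haveI := QCqs72.isQuasicoherent_pushforward F f
  constructor
  · intro hepi U hU
    rw [GGDesc24.isGloballyGenerated_iff]
    intro T q hq
    let j := (f ⁻¹ᵁ U).ι
    let q' : F ⟶ (Scheme.Modules.pushforward j).obj T :=
      (Scheme.Modules.restrictAdjunction j).homEquiv F T q
    have hzero : q' = 0 := by
      rw [← cancel_epi ((Scheme.Modules.pullbackPushforwardAdjunction f).counit.app F), Limits.comp_zero,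
        counit_comp_eq_zero_iff]
      intro V t
      have happ : q'.app (f ⁻¹ᵁ V) t = q.app (j ⁻¹ᵁ (f ⁻¹ᵁ V))
          (((Scheme.Modules.restrictAdjunction j).unit.app F).app (f ⁻¹ᵁ V) t) :=
        congr(Scheme.Modules.Hom.app
          $((Scheme.Modules.restrictAdjunction j).homEquiv_unit F T q) (f ⁻¹ᵁ V) t)
      refine happ.trans ?_
      let W := j ⁻¹ᵁ (f ⁻¹ᵁ V)
      let s : Γ(F, j ''ᵁ W) := QC70.res F (j.image_preimage_le (f ⁻¹ᵁ V)) t
      show q.app W s = 0
      refine QC70.section_ext T _ _ fun z hz => ?_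
      have hzU : f (j z) ∈ U := z.2
      have hzV : f (j z) ∈ V := hz
      obtain ⟨a, haV, hza⟩ := hU.exists_basicOpen_le ⟨f (j z), hzV⟩ hzU
      obtain ⟨n, u, hu⟩ := (QC70.isLocAt_of_isQuasicoherent ((Scheme.Modules.pushforward f).obj F) hU).exists_of a
        (QC70.res ((Scheme.Modules.pushforward f).obj F) haV t)
      let O := j ⁻¹ᵁ (f ⁻¹ᵁ S.basicOpen a)
      have hOW : O ≤ W := fun y hy => haV hy
      refine ⟨O, hOW, hza, ?_⟩
      rw [QC70.res_zero, ← QC70.app_res]
      let b : Γ(X, j ''ᵁ O) := QC70.resO X (j.image_preimage_le (f ⁻¹ᵁ S.basicOpen a))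
        (f.app (S.basicOpen a) (QC70.resO S (S.basicOpen_le a) a))
      have hb : IsUnit b := ((RingedSpace.isUnit_res_basicOpen _ a).map (f.app (S.basicOpen a)).hom).map _
      have h1 : b ^ n • QC70.res F (j.image_mono hOW) s =
          QC70.res F ((j.image_preimage_le _).trans (f.preimage_mono (S.basicOpen_le a))) u := by
        have h2 := congrArg (QC70.res F (j.image_preimage_le (f ⁻¹ᵁ S.basicOpen a))) hu
        refine Eq.trans ?_ ((QC70.res_res (M := F) _ _ u).symm.trans h2).symm
        refine Eq.trans ?_ (QC70.res_smul (M := F) (j.image_preimage_le (f ⁻¹ᵁ S.basicOpen a))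
          (f.app (S.basicOpen a) (QC70.resO S (S.basicOpen_le a) a ^ n)) _).symm
        rw [map_pow, QC70.resO_pow]
        refine congrArg (b ^ n • ·) ?_
        exact (QC70.res_res (M := F) _ _ t).trans (QC70.res_res (M := F) _ _ t).symm
      have hu0 : q.app O (QC70.res F ((j.image_preimage_le _).trans (f.preimage_mono (S.basicOpen_le a))) u) = 0 := by
        have hle : j ''ᵁ ⊤ ≤ f ⁻¹ᵁ U := (f ⁻¹ᵁ U).ι_image_top.le
        refine Eq.trans ?_ ((congrArg (QC70.res T (le_top : O ≤ ⊤)) (hq (QC70.res F hle u))).trans (QC70.res_zero _))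
        rw [← QC70.app_res]
        exact congrArg (q.app O) (QC70.res_res (M := F) hle (j.image_mono le_top) u).symm
      obtain ⟨c, hc⟩ := (hb.pow n).exists_left_inv
      have h3 : QC70.res F (j.image_mono hOW) s =
          c • QC70.res F ((j.image_preimage_le _).trans (f.preimage_mono (S.basicOpen_le a))) u := by
        rw [← h1, smul_smul, hc, one_smul]
      let u' : Γ(F.restrict j, O) := QC70.res F ((j.image_preimage_le _).trans
        (f.preimage_mono (S.basicOpen_le a))) u
      have h4 : q.app O (QC70.res (F.restrict j) hOW s) = q.app O ((j.appIso O).hom c • u') := by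
        refine congrArg (q.app O) (h3.trans ?_)
        exact (QCRes72.restrictSecₛₗ j F O).map_smulₛₗ c _
      rw [h4, Scheme.Modules.Hom.app_smul]
      exact (congrArg (_ • ·) hu0).trans (smul_zero _)
    have := congrArg ((Scheme.Modules.restrictAdjunction j).homEquiv F T).symm hzero
    rw [Equiv.symm_apply_apply] at this
    rw [this, Adjunction.homEquiv_counit, Functor.map_zero, Limits.zero_comp]
  · intro h
    refine Preadditive.epi_of_cancel_zero _ fun {T} q hq => ?_
    have hk := (counit_comp_eq_zero_iff f F q).1 hq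
    refine Scheme.Modules.hom_ext _ _ fun W => ?_
    ext s
    refine QC70.section_ext T _ _ fun z hz => ?_
    obtain ⟨_, ⟨U, hU, rfl⟩, hzU, -⟩ :=
      S.isBasis_affineOpens.exists_subset_of_mem_open (Set.mem_univ (f z)) isOpen_univ
    let j := (f ⁻¹ᵁ U).ι
    have h0 := (GGDesc24.isGloballyGenerated_iff _).1 (h U hU) _ ((Scheme.Modules.restrictFunctor j).map q)
      fun t => by
        have hle : f ⁻¹ᵁ U ≤ j ''ᵁ ⊤ := (f ⁻¹ᵁ U).ι_image_top.ge
        have hle' : j ''ᵁ ⊤ ≤ f ⁻¹ᵁ U := (f ⁻¹ᵁ U).ι_image_top.le
        let t' : Γ(F, j ''ᵁ ⊤) := t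
        have h1 : q.app (j ''ᵁ ⊤) (QC70.res F hle' (QC70.res F hle t')) = 0 :=
          (QC70.app_res (M := F) q hle' _).trans ((congrArg (QC70.res T hle') (hk U _)).trans (QC70.res_zero _))
        rw [QC70.res_res, QC70.res_self] at h1
        exact h1
    let O := j ⁻¹ᵁ W
    refine ⟨j ''ᵁ O, j.image_preimage_le W, ⟨⟨z, hzU⟩, hz, rfl⟩, ?_⟩
    rw [← QC70.app_res]
    refine Eq.trans ?_ (QC70.res_zero (M := T) _).symm
    exact congr(Scheme.Modules.Hom.app $h0 O (QC70.res F (j.image_preimage_le W) s))

end Aux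

open CategoryTheory AlgebraicGeometry in
/-- For f : X → S quasi-compact and quasi-separated and F a quasi-coherent O_X-module, the counit
f^*f_*F → F is an epimorphism iff F is a quotient of f^*G for some quasi-coherent O_S-module G, iff
the restriction of F to the inverse image of every affine open of S is globally generated. -/
theorem result {X S : Scheme.{u}} (f : X ⟶ S) [QuasiCompact f] [QuasiSeparated f]
    (F : X.Modules) (hF : Coh.IsQCoh F) :
    (Epi ((Scheme.Modules.pullbackPushforwardAdjunction f).counit.app F) ↔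
      ∃ G : S.Modules, Coh.IsQCoh G ∧ ∃ φ : (Scheme.Modules.pullback f).obj G ⟶ F, Epi φ) ∧
    (Epi ((Scheme.Modules.pullbackPushforwardAdjunction f).counit.app F) ↔
      ∀ U : S.Opens, IsAffineOpen U → Curv2.IsGloballyGenerated (F.restrict (f ⁻¹ᵁ U).ι)) := by
  haveI : F.IsQuasicoherent := hF
  refine ⟨⟨fun h => ⟨_, Groth.Agent.QCqs72.isQuasicoherent_pushforward F f,
    (Scheme.Modules.pullbackPushforwardAdjunction f).counit.app F, h⟩, ?_⟩, epi_counit_iff f F⟩
  rintro ⟨G, -, φ, hφ⟩
  let adj := Scheme.Modules.pullbackPushforwardAdjunction f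
  have e : (Scheme.Modules.pullback f).map (adj.homEquiv _ _ φ) ≫ adj.counit.app F = φ :=
    (adj.homEquiv_counit _ _ _).symm.trans (Equiv.symm_apply_apply _ φ)
  haveI : Epi ((Scheme.Modules.pullback f).map (adj.homEquiv _ _ φ) ≫ adj.counit.app F) := by
    rw [e]; exact hφ
  exact epi_of_epi ((Scheme.Modules.pullback f).map (adj.homEquiv _ _ φ)) _

end Groth.Agent.S10869
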