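import Groth.Statements.S10871
import Mathlib.AlgebraicGeometry.Morphisms.Affine
import Mathlib.RingTheory.DedekindDomain.Ideal.Lemmas
import Mathlib.RingTheory.DedekindDomain.Factorization

-- import your own Groth.Agent.* helpers here

set_option autoImplicit false
universe u
open AlgebraicGeometry CategoryTheory
open Curves

namespace Groth.Agent.S10871

open PrimeSpectrum

theorem exists_basicOpen {A : Type u} [CommRing A] [IsDedekindDomain A]
    (U : TopologicalSpace.Opens (PrimeSpectrum A)) (hU : (U : Set (PrimeSpectrum A)).Nonempty)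
    (x : PrimeSpectrum A) :
    ∃ h g : A, x ∈ basicOpen h ∧ U ⊓ basicOpen h = basicOpen g := by
  classical
  by_cases hx : x ∈ U
  · obtain ⟨_, ⟨h, rfl⟩, hxh, hle⟩ :=
      isTopologicalBasis_basic_opens.exists_subset_of_mem_open hx U.isOpen
    exact ⟨h, h, hxh, inf_eq_right.2 hle⟩
  · obtain ⟨I, hI⟩ := (isClosed_iff_zeroLocus_ideal _).1 U.isOpen.isClosed_compl
    have hI0 : I ≠ ⊥ := by
      intro h0
      obtain ⟨y, hy⟩ := hU
      have : y ∈ (U : Set (PrimeSpectrum A))ᶜ := by rw [hI, h0]; simp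
      exact this hy
    have hP : I ≤ x.asIdeal := by
      have : x ∈ zeroLocus (I : Set A) := hI ▸ hx
      exact this
    have hx0 : x.asIdeal ≠ ⊥ := fun h0 => hI0 (le_bot_iff.1 (h0 ▸ hP))
    obtain ⟨π, hπ, hπ2⟩ := SetLike.exists_of_lt (Ideal.pow_succ_lt_pow hx0 1 : x.asIdeal ^ (1 + 1) < x.asIdeal ^ 1)
    rw [pow_one] at hπ
    obtain ⟨J, hJ⟩ := Ideal.dvd_iff_le.2 (show Ideal.span {π} ≤ x.asIdeal by
      rwa [Ideal.span_singleton_le_iff_mem])
    have hJx : ¬ J ≤ x.asIdeal := fun hle => hπ2 (by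
      rw [pow_succ, pow_one]
      exact Ideal.mul_mono_right hle (hJ ▸ Ideal.mem_span_singleton_self π))
    have hfin : {y : PrimeSpectrum A | I ≤ y.asIdeal}.Finite := by
      refine ((Ideal.finite_factors (show I ≠ 0 from hI0)).image
        (fun v => (⟨v.asIdeal, v.isPrime⟩ : PrimeSpectrum A))).subset ?_
      intro y hy
      have hy0 : y.asIdeal ≠ ⊥ := fun h0 => hI0 (le_bot_iff.1 (h0 ▸ hy))
      exact ⟨⟨y.asIdeal, y.isPrime, hy0⟩, Ideal.dvd_iff_le.2 hy, rfl⟩
    set S := hfin.toFinset.erase x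
    have hnot : ¬ (J * ∏ y ∈ S, y.asIdeal) ≤ x.asIdeal := by
      intro hle
      rcases x.isPrime.mul_le.1 hle with h | h
      · exact hJx h
      · obtain ⟨y, hy, hyx⟩ := (Ideal.IsPrime.prod_le x.isPrime).1 h
        have hyne := (Finset.mem_erase.1 hy).1
        have hy0 : y.asIdeal ≠ ⊥ := fun h0 =>
          hI0 (le_bot_iff.1 (h0 ▸ (hfin.mem_toFinset.1 (Finset.mem_erase.1 hy).2)))
        exact hyne (PrimeSpectrum.ext ((y.isPrime.isMaximal hy0).eq_of_le x.isPrime.ne_top hyx))
    obtain ⟨h, hh, hhx⟩ := SetLike.not_le_iff_exists.1 hnot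
    have hhJ : h ∈ J := (Ideal.mul_le_left : J * ∏ y ∈ S, y.asIdeal ≤ J) hh
    have hhS : h ∈ ∏ y ∈ S, y.asIdeal :=
      (Ideal.mul_le_right : J * ∏ y ∈ S, y.asIdeal ≤ ∏ y ∈ S, y.asIdeal) hh
    refine ⟨h, π * h, hhx, ?_⟩
    apply SetLike.coe_injective
    ext y
    simp only [TopologicalSpace.Opens.coe_inf, Set.mem_inter_iff, basicOpen_mul, SetLike.mem_coe,
      mem_basicOpen]
    constructor
    · rintro ⟨hyU, hyh⟩
      refine ⟨fun hyπ => ?_, hyh⟩
      have hmul : x.asIdeal * J ≤ y.asIdeal := hJ ▸ (Ideal.span_singleton_le_iff_mem _).2 hyπ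
      rcases y.isPrime.mul_le.1 hmul with h1 | h1
      · rw [show y = x from PrimeSpectrum.ext ((x.isPrime.isMaximal hx0).eq_of_le y.isPrime.ne_top h1).symm] at hyU
        exact hx hyU
      · exact hyh (h1 hhJ)
    · rintro ⟨hyπ, hyh⟩
      refine ⟨?_, hyh⟩
      by_contra hyU
      have hyI : I ≤ y.asIdeal := by
        have : y ∈ zeroLocus (I : Set A) := hI ▸ hyU
        exact this
      by_cases hyx : y = x
      · exact hyπ (hyx ▸ hπ)
      · have hyS : y ∈ S := Finset.mem_erase.2 ⟨hyx, hfin.mem_toFinset.2 hyI⟩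
        exact hyh (Ideal.le_of_dvd (Finset.dvd_prod_of_mem (fun y : PrimeSpectrum A => y.asIdeal) hyS)
          hhS)



/-- Every open subscheme of the spectrum of a Dedekind domain is affine. -/
theorem result (A : Type u) [CommRing A] [IsDedekindDomain A]
    (U : (Spec (CommRingCat.of A)).Opens) : IsAffineOpen U := by
  by_cases hU : (U : Set (Spec (CommRingCat.of A))).Nonempty
  swap
  · have : U = ⊥ := SetLike.coe_injective (Set.not_nonempty_iff_eq_empty.1 hU)
    rw [this]
    exact isAffineOpen_bot _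
  choose h g hx hg using exists_basicOpen U hU
  refine isAffineOpen_of_isAffineOpen_basicOpen U
    (Set.range fun x => (Scheme.Hom.appLE (𝟙 (Spec (CommRingCat.of A))) ⊤ U le_top).hom
      ((Scheme.ΓSpecIso (CommRingCat.of A)).inv (h x))) ?_ ?_
  · have htop : Ideal.span (Set.range h) = ⊤ := by
      rw [← PrimeSpectrum.zeroLocus_empty_iff_eq_top, PrimeSpectrum.zeroLocus_span]
      refine Set.eq_empty_iff_forall_notMem.2 fun x hx' => ?_
      exact hx x (hx' ⟨x, rfl⟩)
    have := congr_arg (Ideal.map ((Scheme.Hom.appLE (𝟙 (Spec (CommRingCat.of A))) ⊤ U le_top).hom.comp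
      (Scheme.ΓSpecIso (CommRingCat.of A)).inv.hom)) htop
    rw [Ideal.map_span, ← Set.range_comp, Ideal.map_top] at this
    exact this
  · rintro a ⟨x, rfl⟩
    show IsAffineOpen ((Spec (CommRingCat.of A)).basicOpen _)
    rw [show (Scheme.Hom.appLE (𝟙 (Spec (CommRingCat.of A))) ⊤ U le_top) =
      (Spec (CommRingCat.of A)).presheaf.map (homOfLE le_top).op by simp [Scheme.Hom.appLE]]
    rw [Scheme.basicOpen_res, basicOpen_eq_of_affine]
    simp only [← CommRingCat.comp_apply, Iso.inv_hom_id, CommRingCat.id_apply]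
    erw [hg x, ← basicOpen_eq_of_affine]
    exact (isAffineOpen_top _).basicOpen _

end Groth.Agent.S10871
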