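import Groth.Statements.S10872
import Groth.Agent.BS25.Galois
import Groth.Agent.BS25.Embed

set_option autoImplicit false
universe u
open CategoryTheory AlgebraicGeometry
open Variety

namespace Groth.Agent.S10872

/-- A Brauer–Severi scheme X over a field k (some base change X_K to a field extension K of k is
K-isomorphic to a projective space P^n_K) is smooth over k, geometrically integral over k, and
projective over k, i.e. admits a closed immersion into some P^N_k compatible with the structure
morphisms. -/
theorem result (k : Type u) [Field k] {X : Scheme.{u}}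
    (p : X ⟶ Spec (CommRingCat.of k)) (hX : W4bk4gw11416.IsBrauerSeveri p) :
    Smooth p ∧ GeometricallyIntegral p ∧
      ∃ (N : ℕ) (i : X ⟶ CohB1.ProjSpace N k), IsClosedImmersion i ∧ i ≫ CohB1.ProjSpace.toSpec N k = p := by
  obtain ⟨K, _, _, n, h⟩ := hX
  obtain ⟨e⟩ := Groth.Agent.BS25.exists_splitting_of_isProjSpaceOver h
  refine ⟨Groth.Agent.BS25.smooth_of_splitting e, Groth.Agent.BS25.geometricallyIntegral_of_splitting e, ?_⟩
  obtain ⟨N, _, _, hN, hG, ⟨eN⟩⟩ := Groth.Agent.BS25.exists_galois_splitting e
  exact Groth.Agent.BS25.exists_closedImmersion eN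

end Groth.Agent.S10872
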