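import Groth.Statements.S10877
import Mathlib.AlgebraicGeometry.Morphisms.Immersion
import Mathlib.AlgebraicGeometry.Morphisms.Separated
import Mathlib.AlgebraicGeometry.PullbackCarrier
import Groth.Agent.FlatMor68.DenseImmersion

set_option autoImplicit false
universe u
open CategoryTheory AlgebraicGeometry
open FlatMor

namespace Groth.Agent.S10877

open CategoryTheory CategoryTheory.Limits AlgebraicGeometry TopologicalSpace Groth.Agent.FlatMor68.DenseImmersion

/-- A separated morphism f : X → Y, with X having finitely many irreducible components, which restricts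
to an open immersion on each member of a cover of X by dense open subsets, is an open immersion. -/
theorem result {X Y : Scheme.{u}} (f : X ⟶ Y) [IsSeparated f]
    (hfin : (irreducibleComponents (X : Type u)).Finite) {ι : Type u} (U : ι → X.Opens)
    (hU : ⨆ i, U i = ⊤) (hd : ∀ i, Dense (U i : Set X)) (h : ∀ i, IsOpenImmersion ((U i).ι ≫ f)) :
    IsOpenImmersion f := by
  have hI : IsImmersion f := isImmersion_of_denseOpens f hfin U hU hd fun i => by
    haveI := h i; infer_instance
  refine IsOpenImmersion.iff_isIso_stalkMap.2 ⟨⟨f.isEmbedding, ?_⟩, fun x => ?_⟩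
  · rw [isOpen_iff_forall_mem_open]
    rintro _ ⟨b, rfl⟩
    obtain ⟨i, hi⟩ := Opens.mem_iSup.1 (show b ∈ ⨆ i, U i by rw [hU]; trivial)
    haveI := h i
    refine ⟨Set.range ((U i).ι ≫ f), ?_, ((U i).ι ≫ f).isOpenEmbedding.isOpen_range, ⟨⟨b, hi⟩, rfl⟩⟩
    rintro _ ⟨c, rfl⟩
    exact ⟨c.1, rfl⟩
  · obtain ⟨i, hi⟩ := Opens.mem_iSup.1 (show x ∈ ⨆ i, U i by rw [hU]; trivial)
    haveI := h i
    have : IsIso (f.stalkMap x ≫ (U i).ι.stalkMap ⟨x, hi⟩) := by
      have : IsIso (((U i).ι ≫ f).stalkMap ⟨x, hi⟩) := inferInstance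
      rwa [Scheme.Hom.stalkMap_comp] at this
    exact @IsIso.of_isIso_comp_right _ _ _ _ _ (f.stalkMap x) ((U i).ι.stalkMap ⟨x, hi⟩)
      ((IsOpenImmersion.iff_isIso_stalkMap.1 (inferInstance : IsOpenImmersion (U i).ι)).2 _) this

end Groth.Agent.S10877
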