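import Groth.Statements.S10880
import Groth.Agent.FlatMor68.FibreStalk
import Groth.Agent.FlatMor68.Basic
import Groth.Agent.Cyc90.Gen
import Mathlib.RingTheory.Flat.TorsionFree
import Mathlib.AlgebraicGeometry.Morphisms.Flat
import Mathlib.RingTheory.Nakayama
import Groth.Agent.FlatMor68.GenStalk

set_option autoImplicit false
universe u
open CategoryTheory AlgebraicGeometry
open FlatMor

namespace Groth.Agent.S10880

open CategoryTheory CategoryTheory.Limits AlgebraicGeometry TopologicalSpace IsLocalRing Groth.Agent.FlatMor68.FibreStalk Groth.Agent.FlatMor68.Basic Groth.Agent.Cyc90 Groth.Agent.FlatMor68.GenStalk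

/-- Let R be a discrete valuation ring and X a locally Noetherian scheme over Spec R whose
scheme-theoretic special fibre is reduced and such that every maximal point of the special fibre
lies in the closure of the generic fibre, i.e. the generic fibre is dense in X. Then X is flat over
R. -/
theorem result (R : Type u) [CommRing R] [IsDomain R]
    [IsDiscreteValuationRing R] {X : Scheme.{u}} (f : X ⟶ Spec (CommRingCat.of R)) [IsLocallyNoetherian X]
    (hred : IsReduced (f.fiber (IsLocalRing.closedPoint R)))
    (hdense : Dense (f.base ⁻¹' {genericPoint (Spec (CommRingCat.of R))})) : Flat f := by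
  apply Flat.of_stalkMap
  intro x
  obtain ⟨ϖ, hϖ⟩ := IsDiscreteValuationRing.exists_irreducible R
  let toSt : ∀ y : Spec (CommRingCat.of R), R →+* (Spec (CommRingCat.of R)).presheaf.stalk y := fun y =>
    (StructureSheaf.toStalk R y).hom
  have hsp : ∀ {y y' : Spec (CommRingCat.of R)} (h : y ⤳ y') (r : R),
      (Spec (CommRingCat.of R)).presheaf.stalkSpecializes h (toSt y' r) = toSt y r := fun h r =>
    DFunLike.congr_fun (congrArg CommRingCat.Hom.hom (StructureSheaf.toStalk_stalkSpecializes h)) r
  have hunit : ∀ (y : Spec (CommRingCat.of R)) (r : R), r ∉ y.asIdeal → IsUnit (toSt y r) := fun y r hr =>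
    ((toStalk_facts y).1 r).2 hr
  let ψ : R →+* X.presheaf.stalk x := (f.stalkMap x).hom.comp (toSt (f x))
  have key : ∀ b, ψ ϖ * b = 0 → b = 0 := by
    by_cases hclosed : (f x).asIdeal = maximalIdeal R
    swap
    · intro b hb
      refine ((hunit (f x) ϖ fun h => hclosed ?_).map (f.stalkMap x).hom).mul_right_eq_zero.1 hb
      refine le_antisymm (IsLocalRing.le_maximalIdeal (f x).2.ne_top) ?_
      rw [hϖ.maximalIdeal_eq, Ideal.span_singleton_le_iff_mem]; exact h
    let π := ψ ϖ
    have hπm : π ∈ maximalIdeal (X.presheaf.stalk x) := by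
      rw [mem_maximalIdeal, mem_nonunits_iff]
      intro hu
      have h1 : IsUnit (toSt (f x) ϖ) := IsLocalHom.map_nonunit (self := f.toLRSHom.prop x) _ hu
      have h2 := ((toStalk_facts (f x)).1 ϖ).1 h1
      exact h2 (by rw [hclosed]; exact (mem_maximalIdeal ϖ).2 hϖ.not_isUnit)
    have hsub' : ∀ (n : ℕ) b, π ^ n * b = 0 → IsNilpotent b := by
      intro n b hb
      rw [← mem_nilradical, nilradical_eq_sInf, Ideal.mem_sInf]
      rintro Q (hQ : Q.IsPrime)
      let q : PrimeSpectrum (X.presheaf.stalk x) := ⟨Q, hQ⟩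
      obtain ⟨ξ, hξ, hξm⟩ := exists_maximal_generization ((X.fromSpecStalk x).base q)
      have hξx : ξ ⤳ x := hξ.trans (fromSpecStalk_specializes q)
      have hd : Dense ((f ⁻¹ᵁ PrimeSpectrum.basicOpen ϖ : X.Opens) : Set X) := by
        refine hdense.mono fun p (hp : f.base p = genericPoint _) => ?_
        show ϖ ∉ (f.base p).asIdeal
        rw [hp]
        intro hmem
        have h0 : (⟨⊥, Ideal.isPrime_bot⟩ : PrimeSpectrum R) ∈ closure {genericPoint (Spec (CommRingCat.of R))} := by
          rw [genericPoint_closure]; trivial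
        have := (PrimeSpectrum.le_iff_specializes _ _).2 (specializes_iff_mem_closure.2 h0) hmem
        exact hϖ.ne_zero (Ideal.mem_bot.1 this)
      have hξϖ : ϖ ∉ (f ξ).asIdeal := maximal_mem_dense _ hd ξ hξm
      have hπ : π ∉ (genPrime hξx).asIdeal := by
        intro hmem
        simp only [genPrime, PrimeSpectrum.comap_asIdeal, Ideal.mem_comap, IsLocalRing.closedPoint] at hmem
        rw [show (X.presheaf.stalkSpecializes hξx).hom π = f.stalkMap ξ _ from
          (Scheme.Hom.stalkSpecializes_stalkMap_apply f ξ x hξx (toSt (f x) ϖ)).symm, hsp] at hmem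
        exact hmem ((hunit (f ξ) ϖ hξϖ).map _)
      have h1 := ((genPrime hξx).2.mem_or_mem (hb ▸ zero_mem _)).resolve_left fun h => hπ ((genPrime hξx).2.mem_of_pow_mem n h)
      have h2 := (genPrime_le_iff hξx (fromSpecStalk_specializes q)).2 hξ h1
      rwa [genPrime_fromSpecStalk] at h2
    have hfib : IsReduced (f.fiber (closedPoint R)) := hred
    have hq := isReduced_stalk_quot_of_fiber f (closedPoint R) x (PrimeSpectrum.ext hclosed)
    have hmap : (maximalIdeal ((Spec (CommRingCat.of R)).presheaf.stalk (f x))).map (f.stalkMap x).hom = Ideal.span {π} := by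
      exact (congrArg (Ideal.map (f.stalkMap x).hom) ((toStalk_facts (f x)).2 ϖ (hclosed.trans hϖ.maximalIdeal_eq))).trans
        ((Ideal.map_span (f.stalkMap x).hom _).trans (congrArg Ideal.span (Set.image_singleton (f := (f.stalkMap x).hom))))
    have hN : nilradical (X.presheaf.stalk x) ≤ Ideal.span {π} • nilradical (X.presheaf.stalk x) := by
      intro b hb
      have hbm : b ∈ (maximalIdeal ((Spec (CommRingCat.of R)).presheaf.stalk (f x))).map (f.stalkMap x).hom :=
        Ideal.Quotient.eq_zero_iff_mem.1 (((mem_nilradical.1 hb).map (Ideal.Quotient.mk _)).eq_zero)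
      rw [hmap, Ideal.mem_span_singleton'] at hbm
      obtain ⟨c, rfl⟩ := hbm
      obtain ⟨m, hm⟩ := mem_nilradical.1 hb
      rw [mul_pow, mul_comm] at hm
      obtain ⟨k, hk⟩ := hsub' m (c ^ m) hm
      rw [← pow_mul] at hk
      rw [smul_eq_mul, mul_comm c π]
      exact Ideal.mul_mem_mul (Ideal.mem_span_singleton_self π) (mem_nilradical.2 ⟨m * k, hk⟩)
    have hbot := Submodule.eq_bot_of_le_smul_of_le_jacobson_bot (Ideal.span {π}) (nilradical (X.presheaf.stalk x))
      (IsNoetherian.noetherian _) hN (by
      rw [Ideal.span_singleton_le_iff_mem, jacobson_eq_maximalIdeal _ bot_ne_top]; exact hπm)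
    intro b hb
    have := mem_nilradical.2 (hsub' 1 b (by rw [pow_one]; exact hb))
    rw [hbot] at this
    exact this
  obtain ⟨p, hp⟩ : ∃ p : PrimeSpectrum R, p = f x := ⟨f x, rfl⟩
  letI : Algebra R ((Spec (CommRingCat.of R)).presheaf.stalk (f x)) := (toSt (f x)).toAlgebra
  algebraize [(f.stalkMap x).hom]
  letI : Algebra R (X.presheaf.stalk x) := ψ.toAlgebra
  haveI : IsScalarTower R ((Spec (CommRingCat.of R)).presheaf.stalk (f x)) (X.presheaf.stalk x) :=
    IsScalarTower.of_algebraMap_eq fun _ => rfl
  let q : PrimeSpectrum R := f x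
  haveI : IsLocalization.AtPrime ((Spec (CommRingCat.of R)).presheaf.stalk (f x)) q.asIdeal :=
    StructureSheaf.IsLocalization.to_stalk R q
  show Module.Flat ((Spec (CommRingCat.of R)).presheaf.stalk (f x)) (X.presheaf.stalk x)
  rw [Module.flat_iff_of_isLocalization _ q.asIdeal.primeCompl, Module.Flat.flat_iff_torsion_eq_bot_of_isBezout, eq_bot_iff]
  rintro a ⟨⟨r, hr⟩, hra⟩
  change r • a = 0 at hra
  rw [Algebra.smul_def] at hra
  obtain ⟨n, u, rfl⟩ := IsDiscreteValuationRing.eq_unit_mul_pow_irreducible (nonZeroDivisors.ne_zero hr) hϖ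
  change ψ _ * a = 0 at hra
  rw [map_mul, map_pow, mul_assoc] at hra
  replace hra := (u.isUnit.map ψ).mul_right_eq_zero.1 hra
  clear hr
  induction n with
  | zero => rw [pow_zero, one_mul] at hra; exact hra
  | succ n ih => rw [pow_succ', mul_assoc] at hra; exact ih (key _ hra)

end Groth.Agent.S10880
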