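import Groth.Statements.S10884
import Groth.Agent.Var76.FibreBound

set_option autoImplicit false
universe u
open CategoryTheory AlgebraicGeometry
open Variety

namespace Groth.Agent.S10884


open Groth.Agent.Var76 TopologicalSpace
open Groth.Agent.WC97 (tdegN)
open Groth.Agent.E4O (fdeg)

/-- Let Y be a scheme of finite type over a field k and f : X → Y a dominant morphism of finite type all
of whose non-empty fibres have dimension r. Then dim X = r + dim Y. -/
theorem result (k : Type u) [Field k] {X Y : Scheme.{u}}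
    (q : Y ⟶ Spec (CommRingCat.of k)) [LocallyOfFiniteType q] [QuasiCompact q]
    (f : X ⟶ Y) [LocallyOfFiniteType f] [QuasiCompact f] (hdom : DenseRange f.base) (r : ℕ)
    (hfib : ∀ y : Y, (f.base ⁻¹' {y}).Nonempty → topologicalKrullDim (f.base ⁻¹' {y}) = r) :
    topologicalKrullDim X = (r : WithBot ℕ∞) + topologicalKrullDim Y := by
  have : IsLocallyNoetherian Y := LocallyOfFiniteType.isLocallyNoetherian q
  have : NoetherianSpace X := FibreBound.noetherianSpace (f ≫ q)
  have : NoetherianSpace Y := FibreBound.noetherianSpace q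
  rcases isEmpty_or_nonempty Y with hY | hY
  · have : IsEmpty X := Function.isEmpty f.base
    have hb : ∀ (α : Type u) [TopologicalSpace α] [IsEmpty α], topologicalKrullDim α = ⊥ := fun α _ _ =>
      Order.krullDim_eq_bot_iff.2 ⟨fun Z => IsEmpty.false Z.isIrreducible.nonempty.some⟩
    rw [hb X, hb Y, WithBot.add_bot]
  obtain ⟨η, hmax, hη⟩ := FibreBound.exists_tdegN_eq_dim q (X := Y)
  refine le_antisymm (FibreBound.dim_le_of_forall_univ (f ≫ q) fun x => ?_) ?_
  · rw [FibreBound.tdegN_eq_add (qY := q) f rfl x, hη]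
    have hle : ((fdeg f x : ℕ) : WithBot ℕ∞) ≤ (r : WithBot ℕ∞) :=
      (E4O.dim_fibreClosure (f := f) x).ge.trans
        ((TopDim50.dim_mono Set.inter_subset_right).trans (hfib (f x) ⟨x, rfl⟩).le)
    have h2 : tdegN q (f x) ≤ tdegN q η := by
      have := (FibreBound.tdegN_le_dim q (f x)).trans hη.le
      exact_mod_cast this
    have h3 : fdeg f x ≤ r := by exact_mod_cast hle
    have : tdegN q (f x) + fdeg f x ≤ r + tdegN q η := by omega
    exact_mod_cast this
  · have hcl : η ∈ closure (Set.range f.base) := hdom η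
    obtain ⟨x₀, hx₀⟩ := FibreBound.mem_range_of_maximal f hcl hmax
    obtain ⟨x, hx, hr⟩ := FibreBound.exists_fdeg_eq_dim f r ⟨x₀, hx₀⟩ (hfib η ⟨x₀, hx₀⟩)
    refine le_trans (le_of_eq ?_) (FibreBound.tdegN_le_dim (f ≫ q) x)
    rw [FibreBound.tdegN_eq_add (qY := q) f rfl x, hx, hr, hη, Nat.cast_add, add_comm]

end Groth.Agent.S10884
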