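import Groth.Statements.S10885
import Groth.Agent.Var76.FibreBound

set_option autoImplicit false
universe u
open CategoryTheory AlgebraicGeometry
open Variety

namespace Groth.Agent.S10885


open Groth.Agent.Var76 TopologicalSpace
open Groth.Agent.WC97 (tdegN)
open Groth.Agent.E4O (fdeg)

/-- Let Y be a scheme of finite type over a field k, r ≥ 0, and f : X → Y a morphism of finite type
whose fibre over every maximal point of Y has dimension at least r. Then dim X ≥ r + dim Y. -/
theorem result (k : Type u) [Field k] {X Y : Scheme.{u}}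
    (q : Y ⟶ Spec (CommRingCat.of k)) [LocallyOfFiniteType q] [QuasiCompact q]
    (f : X ⟶ Y) [LocallyOfFiniteType f] [QuasiCompact f] (r : ℕ)
    (hfib : ∀ η : Y, (∀ y : Y, y ⤳ η → y = η) → (r : WithBot ℕ∞) ≤ topologicalKrullDim (f.base ⁻¹' {η})) :
    (r : WithBot ℕ∞) + topologicalKrullDim Y ≤ topologicalKrullDim X := by
  have : IsLocallyNoetherian Y := LocallyOfFiniteType.isLocallyNoetherian q
  have : NoetherianSpace X := FibreBound.noetherianSpace (f ≫ q)
  have : NoetherianSpace Y := FibreBound.noetherianSpace q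
  rcases isEmpty_or_nonempty Y with hY | hY
  · rw [show topologicalKrullDim Y = ⊥ from
      Order.krullDim_eq_bot_iff.2 ⟨fun Z => IsEmpty.false Z.isIrreducible.nonempty.some⟩, WithBot.add_bot]
    exact bot_le
  obtain ⟨η, hmax, hη⟩ := FibreBound.exists_tdegN_eq_dim q (X := Y)
  have h := hfib η hmax
  have hne : (f.base ⁻¹' {η}).Nonempty := by
    by_contra hne
    have : IsEmpty ↥(f.base ⁻¹' {η}) := Set.isEmpty_coe_sort.2 (Set.not_nonempty_iff_eq_empty.1 hne)
    rw [show topologicalKrullDim ↥(f.base ⁻¹' {η}) = ⊥ from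
      Order.krullDim_eq_bot_iff.2 ⟨fun Z => IsEmpty.false Z.isIrreducible.nonempty.some⟩] at h
    exact absurd h (by simp)
  by_contra hlt
  rw [not_le] at hlt
  -- every point of the fibre has small residue degree
  have hsmall : ∀ x, f.base x = η → ((fdeg f x : ℕ) : WithBot ℕ∞) + (tdegN q η : ℕ) < (r : WithBot ℕ∞) + (tdegN q η : ℕ) := by
    intro x hx
    refine lt_of_le_of_lt (le_trans (le_of_eq ?_) (FibreBound.tdegN_le_dim (f ≫ q) x)) (hη ▸ hlt)
    rw [FibreBound.tdegN_eq_add (qY := q) f rfl x]
    have hx' : f x = η := hx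
    rw [hx', Nat.cast_add, add_comm]
  have hsmall' : ∀ x, f.base x = η → fdeg f x < r := by
    intro x hx
    have h0 : fdeg f x + tdegN q η < r + tdegN q η := by exact_mod_cast hsmall x hx
    omega
  rcases Nat.eq_zero_or_pos r with hr | hr
  · have := hsmall' _ hne.some_mem
    omega
  have h1 : topologicalKrullDim ↥(f.fiber η) ≤ ((r - 1 : ℕ) : WithBot ℕ∞) :=
    (E4O.dim_fiber_le_iff f η _).2 fun x hx => Nat.cast_le.2 (by have := hsmall' x hx; omega)
  rw [IsHomeomorph.topologicalKrullDim_eq _ (f.fiberHomeo η).isHomeomorph] at h1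
  have h2 : r ≤ r - 1 := by exact_mod_cast (h.trans h1)
  omega

end Groth.Agent.S10885
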