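import Groth.Statements.S10886
import Mathlib.Topology.Constructible
import Mathlib.Topology.NoetherianSpace
import Mathlib.Topology.KrullDimension

-- import your own Groth.Agent.* helpers here

set_option autoImplicit false
universe u
open CategoryTheory AlgebraicGeometry
open Curves

namespace Groth.Agent.S10886

/-- finite sets of closed points, or their complements -/
def Small {α : Type*} [TopologicalSpace α] (s : Set α) : Prop :=
  (s.Finite ∧ ∀ x ∈ s, IsClosed ({x} : Set α)) ∨ (sᶜ.Finite ∧ ∀ x ∈ sᶜ, IsClosed ({x} : Set α))

theorem small_compl {α : Type*} [TopologicalSpace α] {s : Set α} (h : Small s) : Small sᶜ := by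
  rcases h with h | h
  · exact Or.inr (by rwa [compl_compl])
  · exact Or.inl h

theorem small_union {α : Type*} [TopologicalSpace α] {s t : Set α} (hs : Small s) (ht : Small t) :
    Small (s ∪ t) := by
  rcases hs with hs | hs
  · rcases ht with ht | ht
    · exact Or.inl ⟨hs.1.union ht.1, fun x hx => hx.elim (hs.2 x) (ht.2 x)⟩
    · exact Or.inr ⟨ht.1.subset (by simp [Set.compl_union]), fun x hx => ht.2 x (by simp_all [Set.compl_union])⟩
  · exact Or.inr ⟨hs.1.subset (by simp [Set.compl_union]), fun x hx => hs.2 x (by simp_all [Set.compl_union])⟩



/-- In an irreducible Noetherian scheme of dimension one every constructible subset is either a finite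
set of closed points or the complement of such a set; in particular it is open or closed. -/
theorem result {X : Scheme.{u}} [IsNoetherian X]
    [IrreducibleSpace X] (hX : topologicalKrullDim X = 1) (s : Set X) (hs : Topology.IsConstructible s) :
    (s.Finite ∧ (∀ x ∈ s, IsClosed ({x} : Set X))) ∨ (sᶜ.Finite ∧ ∀ x ∈ sᶜ, IsClosed ({x} : Set X)) := by
  change Small s
  have hcl : ∀ Z : Set X, IsClosed Z → Small Z := by
    intro Z hZ
    by_cases hu : Z = Set.univ
    · exact Or.inr (by simp [hu])
    · left
      have hpt : ∀ W ∈ irreducibleComponents Z, W.Subsingleton := by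
        intro W hW
        by_contra hns
        rw [Set.not_subsingleton_iff] at hns
        obtain ⟨a, ha, b, hb, hab⟩ := hns
        have hWc : IsClosed W := isClosed_of_mem_irreducibleComponents W hW
        let W' : Set X := Subtype.val '' W
        have hW'c : IsClosed W' := hZ.isClosedEmbedding_subtypeVal.isClosedMap _ hWc
        have hW'i : IsIrreducible W' := hW.1.image _ continuous_subtype_val.continuousOn
        have h1 : ∀ c ∈ W', ∃ T : TopologicalSpace.IrreducibleCloseds X, (T : Set X) = closure {c} ∧ (T : Set X) ⊆ W' :=
          fun c hc => ⟨⟨closure {c}, isIrreducible_singleton.closure, isClosed_closure⟩, rfl,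
            hW'c.closure_subset_iff.2 (Set.singleton_subset_iff.2 hc)⟩
        obtain ⟨c, hc, hcne⟩ : ∃ c ∈ W', closure {c} ≠ W' := by
          by_contra hall
          push Not at hall
          have e1 := hall _ ⟨a, ha, rfl⟩
          have e2 := hall _ ⟨b, hb, rfl⟩
          exact hab (Subtype.ext ((show IsGenericPoint (a : X) W' from e1).eq (show IsGenericPoint (b : X) W' from e2)))
        obtain ⟨T, hT, hTW⟩ := h1 c hc
        let S₁ : TopologicalSpace.IrreducibleCloseds X := ⟨W', hW'i, hW'c⟩
        let S₂ : TopologicalSpace.IrreducibleCloseds X := ⟨Set.univ, IrreducibleSpace.isIrreducible_univ X, isClosed_univ⟩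
        have l1 : T < S₁ := lt_of_le_of_ne hTW (fun he => hcne (hT ▸ congr_arg (fun S : TopologicalSpace.IrreducibleCloseds X => (S : Set X)) he))
        have l2 : S₁ < S₂ := lt_of_le_of_ne (Set.subset_univ W') (fun he => hu (Set.eq_univ_of_univ_subset
          (le_trans (le_of_eq (congr_arg (fun S : TopologicalSpace.IrreducibleCloseds X => (S : Set X)) he).symm)
            (by rintro _ ⟨x, -, rfl⟩; exact x.2))))
        have := Order.LTSeries.length_le_krullDim
          (LTSeries.mk 2 ![T, S₁, S₂] (Fin.strictMono_iff_lt_succ.2 fun i => by fin_cases i <;> simp [l1, l2]))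
        change _ ≤ topologicalKrullDim X at this
        rw [hX] at this
        norm_num at this
      have hfin : Z.Finite := by
        have : TopologicalSpace.NoetherianSpace Z := inferInstance
        have hcs : Finite Z := by
          refine Set.finite_univ_iff.1 ?_
          rw [← sUnion_irreducibleComponents]
          exact TopologicalSpace.NoetherianSpace.finite_irreducibleComponents.sUnion fun W hW => (hpt W hW).finite
        exact Set.toFinite Z
      refine ⟨hfin, fun x hx => ?_⟩
      obtain ⟨W, hW, hxW⟩ : ∃ W ∈ irreducibleComponents Z, (⟨x, hx⟩ : Z) ∈ W := by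
        have : (⟨x, hx⟩ : Z) ∈ ⋃₀ irreducibleComponents Z := by rw [sUnion_irreducibleComponents]; trivial
        exact this
      have : W = {⟨x, hx⟩} := Set.eq_singleton_iff_unique_mem.2 ⟨hxW, fun y hy => hpt W hW hy hxW⟩
      have h2 := hZ.isClosedEmbedding_subtypeVal.isClosedMap _ (isClosed_of_mem_irreducibleComponents W hW)
      simpa [this] using h2
  induction hs using Topology.IsConstructible.empty_union_induction with
  | open_retrocompact U hU hU' => exact compl_compl U ▸ small_compl (hcl Uᶜ hU.isClosed_compl)
  | union s hs t ht hs' ht' => exact small_union hs' ht'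
  | compl s hs hs' => exact small_compl hs'


end Groth.Agent.S10886
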