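import Groth.Statements.S10887
import Groth.Agent.Ega11.RegLocal
import Groth.Agent.Div89.WeakAss
import Groth.Agent.FlatMor68.Basic
import Groth.Agent.Cyc90.Gen
import Mathlib.RingTheory.Flat.TorsionFree
import Mathlib.AlgebraicGeometry.Morphisms.Flat
import Mathlib.Topology.KrullDimension
import Mathlib.RingTheory.Ideal.AssociatedPrime.Localization
import Groth.Agent.FlatMor68.DedekindFlat

set_option autoImplicit false
universe u
open CategoryTheory AlgebraicGeometry
open FlatMor

namespace Groth.Agent.S10887

open CategoryTheory CategoryTheory.Limits AlgebraicGeometry TopologicalSpace IsLocalRing Groth.Agent.FlatMor68.Basic Groth.Agent.Cyc90 Groth.Agent.FlatMor68.DedekindFlat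

/-- (i) ⇔ (iii): let Y be a Dedekind scheme — an integral Noetherian scheme of dimension at most one all
of whose local rings are regular — and f : X → Y a morphism of schemes with X reduced. Then f is
flat if and only if every irreducible component of X dominates Y. (Without reducedness only the
forward implication holds.) -/
theorem result {X Y : Scheme.{u}} [IsIntegral Y]
    [IsNoetherian Y] (hreg : ∀ y : Y, IsRegularLocalRing (Y.presheaf.stalk y)) (hdim : topologicalKrullDim Y ≤ 1)
    (f : X ⟶ Y) [IsReduced X] :
    Flat f ↔ ∀ Z ∈ irreducibleComponents (X : Type u), Dense (f.base '' Z) := by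
  have hY : ∀ y : Y, IsDomain (Y.presheaf.stalk y) ∧ IsPrincipalIdealRing (Y.presheaf.stalk y) := fun y =>
    have := hreg y
    ⟨inferInstance, isPrincipalIdealRing_of_regular _ ((stalk_dim_le y).trans hdim)⟩
  have hmax : ∀ z : Y, z ⤳ genericPoint Y → z = genericPoint Y := fun z hz =>
    (hz.antisymm (genericPoint_specializes z)).eq
  constructor
  · intro hf Z hZ
    have hg := hZ.1.isGenericPoint_genericPoint (isClosed_of_mem_irreducibleComponents _ hZ)
    have hm : ∀ z, z ⤳ hZ.1.genericPoint → z = hZ.1.genericPoint := by
      intro z hz
      have h1 : Z ⊆ closure {z} := by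
        rw [← hg.def]; exact specializes_iff_closure_subset.1 hz
      have h2 := hZ.2 isIrreducible_singleton.closure h1
      exact (hz.antisymm (hg.specializes (h2 (subset_closure rfl)))).eq
    have := maximal_map f hm (genericPoint_specializes _)
    refine Dense.mono ?_ (s₁ := {genericPoint (Y : Type u)}) ?_
    · rintro _ rfl
      exact ⟨_, hg.mem, this.symm⟩
    · rw [dense_iff_closure_eq]; exact genericPoint_spec Y
  · intro h
    rw [flat_iff_nzd f hY]
    intro x a ha
    refine nzd_of_reduced f x a fun z hz hzm => ?_
    obtain ⟨Z, hZ, hsub⟩ := exists_mem_irreducibleComponents_subset_of_isIrreducible {z} isIrreducible_singleton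
    have hg := hZ.1.isGenericPoint_genericPoint (isClosed_of_mem_irreducibleComponents _ hZ)
    have hzg := hzm _ (hg.specializes (hsub rfl))
    have hsubZ : f.base '' Z ⊆ closure {f z} := by
      rintro _ ⟨w, hw, rfl⟩
      exact specializes_iff_mem_closure.1 (((hzg ▸ hg).specializes hw).map f.continuous)
    have hfz : f z = genericPoint Y := by
      refine hmax _ (specializes_iff_mem_closure.2 ?_)
      exact closure_minimal hsubZ isClosed_closure (h Z hZ _)
    refine isUnit_spec_generic _ (fun w hw => ?_) a ha
    rw [hfz] at hw ⊢
    exact hmax w hw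

end Groth.Agent.S10887
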