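import Groth.Statements.S10891
import Mathlib
import Groth.Agent.FBase64.TensorField
import Groth.Agent.CAlg6.SepTensor
import Groth.Agent.CAlg1.Complete

set_option autoImplicit false
universe u
open CAlg
open Groth.Agent
open TensorProduct

namespace Groth.Agent.S10891

/-- Let k be a field containing a primitive r-th root of unity ζ and 0 < a < r. The cyclic group of r-th
roots of unity acts on k[X, Y] through the generator X ↦ ζ⁻¹ X, Y ↦ ζ^(−a) Y, and the ring of
invariants of this action is generated as a k-algebra by the monomials X^i Y^j with 0 ≤ i, j ≤ r,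
(i, j) ≠ (r, r) and i + a·j ≡ 0 (mod r). (The printed statement writes n for the order of the group,
which the surrounding section calls r.) -/
theorem result (k : Type u) [Field k] (r a : ℕ) (ha : 0 < a) (har : a < r)
    (ζ : k) (hζ : IsPrimitiveRoot ζ r) (p : MvPolynomial (Fin 2) k) :
    MvPolynomial.aeval (fun i : Fin 2 => if i = 0 then MvPolynomial.C ζ⁻¹ * MvPolynomial.X 0
        else MvPolynomial.C (ζ⁻¹ ^ a) * (MvPolynomial.X 1 : MvPolynomial (Fin 2) k)) p = p ↔
      p ∈ Algebra.adjoin k {q : MvPolynomial (Fin 2) k | ∃ i j : ℕ, i ≤ r ∧ j ≤ r ∧ ¬ (i = r ∧ j = r) ∧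
        r ∣ i + a * j ∧ q = MvPolynomial.X 0 ^ i * MvPolynomial.X 1 ^ j} := by
  open MvPolynomial in
  set φ : MvPolynomial (Fin 2) k →ₐ[k] MvPolynomial (Fin 2) k :=
    aeval (fun i : Fin 2 => if i = 0 then C ζ⁻¹ * X 0 else C (ζ⁻¹ ^ a) * X 1) with hφ
  have hr : 0 < r := by omega
  have hmon : ∀ (m : Fin 2 →₀ ℕ) (c : k), MvPolynomial.monomial m c =
      MvPolynomial.C c * (MvPolynomial.X 0 ^ m 0 * MvPolynomial.X 1 ^ m 1) := fun m c => by
    rw [MvPolynomial.monomial_eq, Finsupp.prod_fintype _ _ (by simp), Fin.prod_univ_two]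
  have hmonφ : ∀ i j : ℕ, φ (MvPolynomial.X 0 ^ i * MvPolynomial.X 1 ^ j) =
      MvPolynomial.C (ζ⁻¹ ^ (i + a * j)) * (MvPolynomial.X 0 ^ i * MvPolynomial.X 1 ^ j) := fun i j => by
    rw [map_mul, map_pow, map_pow, hφ, MvPolynomial.aeval_X, MvPolynomial.aeval_X]
    simp only [↓reduceIte, one_ne_zero, mul_pow, ← map_pow, pow_add, pow_mul, map_mul]
    ring
  constructor
  · intro hp
    rw [p.as_sum]
    refine sum_mem fun m hm => ?_
    have hdiv : r ∣ m 0 + a * m 1 := by
      have hc : MvPolynomial.coeff m (φ p) = ζ⁻¹ ^ (m 0 + a * m 1) * MvPolynomial.coeff m p := by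
        conv_lhs => rw [p.as_sum, map_sum]
        rw [MvPolynomial.coeff_sum, Finset.sum_eq_single m]
        · rw [hmon, map_mul, hmonφ, AlgHom.commutes' φ |> fun h => show φ (MvPolynomial.C _) = MvPolynomial.C _ from h _,
            ← mul_assoc, ← map_mul, ← hmon, MvPolynomial.coeff_monomial, if_pos rfl, mul_comm]
        · intro m' _ hne
          rw [hmon, map_mul, hmonφ, AlgHom.commutes' φ |> fun h => show φ (MvPolynomial.C _) = MvPolynomial.C _ from h _,
            ← mul_assoc, ← map_mul, ← hmon, MvPolynomial.coeff_monomial, if_neg hne]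
        · exact fun h => absurd hm h
      rw [hp] at hc
      have hne := MvPolynomial.mem_support_iff.1 hm
      have h1 : ζ⁻¹ ^ (m 0 + a * m 1) = 1 :=
        mul_right_cancel₀ hne (by rw [one_mul]; exact hc.symm)
      exact (hζ.inv.pow_eq_one_iff_dvd _).1 h1
    rw [hmon, ← Nat.div_add_mod (m 0) r, ← Nat.div_add_mod (m 1) r, pow_add, pow_add, pow_mul, pow_mul,
      show ∀ (A B C D : MvPolynomial (Fin 2) k), A * B * (C * D) = A * C * (B * D) from
        fun A B C D => by ring]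
    have hg : ∀ i j : ℕ, i ≤ r → j ≤ r → ¬ (i = r ∧ j = r) → r ∣ i + a * j →
        (MvPolynomial.X 0 ^ i * MvPolynomial.X 1 ^ j : MvPolynomial (Fin 2) k) ∈
          Algebra.adjoin k {q : MvPolynomial (Fin 2) k | ∃ i j : ℕ, i ≤ r ∧ j ≤ r ∧ ¬ (i = r ∧ j = r) ∧
            r ∣ i + a * j ∧ q = MvPolynomial.X 0 ^ i * MvPolynomial.X 1 ^ j} :=
      fun i j h1 h2 h3 h4 => Algebra.subset_adjoin ⟨i, j, h1, h2, h3, h4, rfl⟩
    refine Subalgebra.mul_mem _ (Subalgebra.algebraMap_mem _ _)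
      (Subalgebra.mul_mem _ (Subalgebra.mul_mem _ ?_ ?_) ?_)
    · refine Subalgebra.pow_mem _ ?_ _
      simpa using hg r 0 le_rfl r.zero_le (by omega) (by simp)
    · refine Subalgebra.pow_mem _ ?_ _
      simpa using hg 0 r r.zero_le le_rfl (by omega) (by simp)
    · refine hg _ _ (Nat.mod_lt _ hr).le (Nat.mod_lt _ hr).le (fun h => (Nat.mod_lt (m 0) hr).ne h.1) ?_
      rw [← Nat.div_add_mod (m 0) r, ← Nat.div_add_mod (m 1) r] at hdiv
      have h2 : r ∣ r * (m 0 / r + a * (m 1 / r)) := dvd_mul_right _ _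
      exact (Nat.dvd_add_right h2).1 (by convert hdiv using 1; ring)
  · intro hp
    have hle : Algebra.adjoin k {q : MvPolynomial (Fin 2) k | ∃ i j : ℕ, i ≤ r ∧ j ≤ r ∧ ¬ (i = r ∧ j = r) ∧
        r ∣ i + a * j ∧ q = MvPolynomial.X 0 ^ i * MvPolynomial.X 1 ^ j} ≤ AlgHom.equalizer φ (AlgHom.id k _) := by
      rw [Algebra.adjoin_le_iff]
      rintro _ ⟨i, j, -, -, -, hd, rfl⟩
      show φ _ = _
      rw [hmonφ, (hζ.inv.pow_eq_one_iff_dvd _).2 hd, map_one, one_mul]
      rfl
    exact hle hp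

end Groth.Agent.S10891
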