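import Groth.Statements.S10893
import Groth.Agent.Crv77.AbsCurve

set_option autoImplicit false
universe u
open CategoryTheory AlgebraicGeometry
open Curves

namespace Groth.Agent.S10893

/-- Let C be an absolute curve (Noetherian, local rings at closed points one-dimensional) none of whose
points is open, and U ⊆ C an open dense subset. Then there is an effective divisor D on C with
support contained in U and meeting every irreducible component of C. -/
theorem result {C : Scheme.{u}} [IsNoetherian C]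
    (hC : ∀ x : C, IsClosed ({x} : Set C) → ringKrullDim (C.presheaf.stalk x) = 1)
    (hpt : ∀ x : C, ¬ IsOpen ({x} : Set C)) (U : C.Opens) (hU : Dense (U : Set C)) :
    ∃ D : Mero.Divisor C, Mero.IsEffective D ∧ Mero.supp D ⊆ (U : Set C) ∧
      ∀ Z ∈ irreducibleComponents (C : Type u), (Mero.supp D ∩ Z).Nonempty := by
  classical
  have key : ∀ Z ∈ irreducibleComponents (C : Type u), ∃ x : C, x ∈ Z ∧ x ∈ U ∧
      IsClosed ({x} : Set C) ∧ ∃ e : Mero.regStalk C x, ¬ IsUnit e.1 := by
    intro Z hZ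
    have hcomp : (irreducibleComponents (C : Type u)).Finite :=
      TopologicalSpace.NoetherianSpace.finite_irreducibleComponents
    obtain ⟨ζ, hζ⟩ := QuasiSober.sober hZ.1 (isClosed_of_mem_irreducibleComponents Z hZ)
    let W₀ : Set C := (U : Set C) ∩ (⋃₀ (irreducibleComponents (C : Type u) \ {Z}))ᶜ
    have hW₀o : IsOpen W₀ := by
      refine U.2.inter (isOpen_compl_iff.2 ?_)
      rw [Set.sUnion_eq_biUnion]
      exact hcomp.sdiff.isClosed_biUnion fun t ht => isClosed_of_mem_irreducibleComponents t ht.1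
    have hW₀Z : W₀ ⊆ Z := fun y hy => by_contra fun hn => hy.2
      ⟨_, ⟨irreducibleComponent_mem_irreducibleComponents y, fun e => hn
        ((show irreducibleComponent y = Z from e) ▸ mem_irreducibleComponent)⟩,
        mem_irreducibleComponent⟩
    have hζ0 : ζ ∈ W₀ := by
      refine ⟨?_, fun ⟨t, ht, hζt⟩ => ht.2 ?_⟩
      · obtain ⟨y, hyU⟩ := hU.exists_mem_open
          (s := (U : Set C)) (isOpen_compl_iff.2 (Set.Finite.isClosed_biUnion (hcomp.sdiff (t := {Z}))
            fun t ht => isClosed_of_mem_irreducibleComponents t ht.1)) (by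
          refine ⟨ζ, fun h => ?_⟩
          obtain ⟨t, ht, hζt⟩ := Set.mem_iUnion₂.1 h
          exact ht.2 (le_antisymm (hZ.2 ht.1.1 (hζ.mem_closed_set_iff
            (isClosed_of_mem_irreducibleComponents t ht.1) |>.1 hζt)) (hζ.mem_closed_set_iff
            (isClosed_of_mem_irreducibleComponents t ht.1) |>.1 hζt)))
        refine (hζ.specializes ?_).mem_open U.2 hyU.1
        by_contra hn
        exact hyU.2 (Set.mem_biUnion ⟨irreducibleComponent_mem_irreducibleComponents y, fun e => hn
          ((show irreducibleComponent y = Z from e) ▸ mem_irreducibleComponent)⟩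
          mem_irreducibleComponent)
      · have h1 := (hζ.mem_closed_set_iff (isClosed_of_mem_irreducibleComponents t ht.1)).1 hζt
        exact le_antisymm (hZ.2 ht.1.1 h1) h1
    obtain ⟨V, hV, hζV, hVW⟩ := exists_isAffineOpen_mem_and_subset (U := ⟨W₀, hW₀o⟩) hζ0
    haveI : IsNoetherianRing Γ(C, V) := IsLocallyNoetherian.component_noetherian ⟨V, hV⟩
    -- some point of `V` is a closed point whose prime is not associated
    obtain ⟨x, hxV, hxc, hxA⟩ : ∃ (x : C) (hxV : x ∈ V), IsClosed ({x} : Set C) ∧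
        (hV.primeIdealOf ⟨x, hxV⟩).asIdeal ∉ associatedPrimes Γ(C, V) Γ(C, V) := by
      by_contra hcon
      push Not at hcon
      let B : Set C := {y | ∃ hy : y ∈ V, IsClosed ({y} : Set C)}
      have hB : B.Finite := by
        refine ((associatedPrimes.finite Γ(C, V) Γ(C, V)).preimage'
          (f := fun y : V => (hV.primeIdealOf y).asIdeal) fun I _ => ?_).image Subtype.val |>.subset ?_
        · refine Set.Subsingleton.finite fun y hy y' hy' => ?_
          exact hV.isoSpec.hom.homeomorph.injective (PrimeSpectrum.ext (hy.trans hy'.symm))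
        · rintro y ⟨hy, hyc⟩
          exact ⟨⟨y, hy⟩, hcon y hy hyc, rfl⟩
      have hζc : ¬ IsClosed ({ζ} : Set C) := by
        intro h
        have hZs : Z = {ζ} := by rw [← hζ.def, h.closure_eq]
        refine hpt ζ ?_
        convert hW₀o using 1
        exact ((Set.subset_singleton_iff_eq.1 (hZs ▸ hW₀Z)).resolve_left
          (Set.nonempty_iff_ne_empty.1 ⟨ζ, hζ0⟩)).symm
      refine hpt ζ ?_
      have hopen : IsOpen ((V : Set C) ∩ Bᶜ) := V.2.inter (isOpen_compl_iff.2 (by
        rw [← Set.biUnion_of_singleton B]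
        exact hB.isClosed_biUnion fun y hy => hy.choose_spec))
      convert hopen using 1
      refine Set.ext fun y => ⟨?_, fun hy => ?_⟩
      · rintro rfl
        exact ⟨hζV, fun h => hζc h.choose_spec⟩
      · have h1 : ¬ IsClosed ({y} : Set C) := fun h => hy.2 ⟨hy.1, h⟩
        exact (Crv77.eq_of_specializes hC h1 (hζ.specializes (hW₀Z (hVW hy.1)))).symm
    let I := (hV.primeIdealOf ⟨x, hxV⟩).asIdeal
    obtain ⟨f, hfI, hf⟩ : ∃ f ∈ I, f ∈ nonZeroDivisors Γ(C, V) := by
      by_contra hcon
      push Not at hcon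
      have hsub : (I : Set Γ(C, V)) ⊆ ⋃ p ∈ associatedPrimes Γ(C, V) Γ(C, V), (p : Set Γ(C, V)) := by
        rw [biUnion_associatedPrimes_eq_compl_nonZeroDivisors]
        exact hcon
      have hfin := associatedPrimes.finite Γ(C, V) Γ(C, V)
      obtain ⟨p, hp, hIp⟩ : ∃ p ∈ associatedPrimes Γ(C, V) Γ(C, V), I ≤ p := by
        have h2 : (I : Set Γ(C, V)) ⊆ ⋃ p ∈ (↑hfin.toFinset : Set (Ideal Γ(C, V))), (p : Set Γ(C, V)) := by
          rw [hfin.coe_toFinset]; exact hsub
        obtain ⟨p, hp, hIp⟩ := (Ideal.subset_union_prime (f := fun p => p) ⊤ ⊤ (fun p hp _ _ =>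
          ((hfin.mem_toFinset).1 hp).isPrime)).1 h2
        exact ⟨p, hfin.mem_toFinset.1 hp, hIp⟩
      -- the prime of a closed point is maximal among the primes of `V`
      let q : PrimeSpectrum Γ(C, V) := ⟨p, hp.isPrime⟩
      have hle : hV.primeIdealOf ⟨x, hxV⟩ ⤳ q := (PrimeSpectrum.le_iff_specializes _ _).1 hIp
      have h3 := hle.map hV.fromSpec.continuous
      rw [hV.fromSpec_primeIdealOf] at h3
      have h4 : hV.fromSpec q = x := hxc.closure_eq.le (specializes_iff_mem_closure.1 h3)
      have h5 : hV.primeIdealOf ⟨x, hxV⟩ = q := hV.fromSpec.isOpenEmbedding.injective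
        ((hV.fromSpec_primeIdealOf ⟨x, hxV⟩).trans h4.symm)
      exact hxA (by rw [h5]; exact hp)
    have hfreg : f ∈ Mero.regSub C V := by rw [Mero90.regSub_eq_nonZeroDivisors hV]; exact hf
    refine ⟨x, hW₀Z (hVW hxV), (hVW hxV).1, hxc, Mero.regGerm ⟨x, hxV⟩ ⟨f, hfreg⟩, fun hu => ?_⟩
    rw [IsAffineOpen.primeIdealOf_eq_map_closedPoint] at hxA
    have : f ∈ (hV.primeIdealOf ⟨x, hxV⟩).asIdeal := hfI
    rw [IsAffineOpen.primeIdealOf_eq_map_closedPoint] at this
    exact this hu
  choose x hxZ hxU hxc e he using key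
  let g : ∀ y : C, Mero.Germ C y := fun y =>
    if h : ∃ Z, ∃ hZ : Z ∈ irreducibleComponents (C : Type u), x Z hZ = y then
      QuotientGroup.mk (Mero90.regUnit y (h.choose_spec.choose_spec ▸ e _ h.choose_spec.choose))
    else 1
  have hg : ∀ y : C, g y ≠ 1 → ∃ Z, ∃ hZ : Z ∈ irreducibleComponents (C : Type u), x Z hZ = y :=
    fun y hy => by_contra fun h => hy (dif_neg h)
  have hm : g ∈ Mero.divisorGroup C := by
    refine Crv77.mem_divisorGroup hC g ?_ fun y hy => by_contra fun h => hy ?_
    · have hcomp : (irreducibleComponents (C : Type u)).Finite :=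
        TopologicalSpace.NoetherianSpace.finite_irreducibleComponents
      have := hcomp.to_subtype
      refine (Set.finite_range fun Z : irreducibleComponents (C : Type u) => x Z.1 Z.2).subset ?_
      intro y hy
      obtain ⟨Z, hZ, rfl⟩ := hg y hy
      exact ⟨⟨Z, hZ⟩, rfl⟩
    · obtain ⟨Z, hZ, rfl⟩ := hg y h
      exact hxc Z hZ
  refine ⟨⟨g, hm⟩, fun y => ?_, fun y hy => ?_, fun Z hZ => ⟨x Z hZ, ?_, hxZ Z hZ⟩⟩
  · by_cases h : ∃ Z, ∃ hZ : Z ∈ irreducibleComponents (C : Type u), x Z hZ = y
    · exact ⟨_, dif_pos h⟩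
    · exact ⟨1, (dif_neg h).trans ((QuotientGroup.mk_one _).symm.trans
        (congrArg _ (Units.ext (map_one (algebraMap _ (Mero.KStalk C y))).symm)))⟩
  · obtain ⟨Z, hZ, rfl⟩ := hg y hy
    exact hxU Z hZ
  · have h : ∃ Z', ∃ hZ' : Z' ∈ irreducibleComponents (C : Type u), x Z' hZ' = x Z hZ := ⟨Z, hZ, rfl⟩
    have hnu : ∀ (y : C) (heq : x h.choose h.choose_spec.choose = y)
        (d : Mero.regStalk C y), d = heq ▸ e _ h.choose_spec.choose → ¬ IsUnit d.1 := by
      rintro y rfl d rfl
      exact he _ _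
    show g (x Z hZ) ≠ 1
    simp only [g]
    rw [dif_pos h]
    intro h1
    have h2 : Mero90.cls (x Z hZ) (h.choose_spec.choose_spec ▸ e _ h.choose_spec.choose) 1 = 1 := by
      rw [Mero90.cls]
      refine Eq.trans ?_ h1
      exact congrArg _ (by rw [show Mero90.regUnit (x Z hZ) 1 = 1 from Units.ext (map_one _), div_one])
    rw [Mero90.cls_eq_one_iff] at h2
    exact hnu _ h.choose_spec.choose_spec _ rfl (h2.isUnit isUnit_one)

end Groth.Agent.S10893
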