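import Groth.Statements.S10894
import Groth.Agent.Crv77.AbsCurve

set_option autoImplicit false
universe u
open CategoryTheory AlgebraicGeometry
open Curves

namespace Groth.Agent.S10894

/-- On an absolute curve C (Noetherian, local rings at closed points one-dimensional) every divisor D is
a difference of two effective divisors each supported inside the support of D (divisors are written
multiplicatively, so the difference is D₁ · D₂⁻¹). -/
theorem result {C : Scheme.{u}} [IsNoetherian C]
    (hC : ∀ x : C, IsClosed ({x} : Set C) → ringKrullDim (C.presheaf.stalk x) = 1) (D : Mero.Divisor C) :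
    ∃ D₁ D₂ : Mero.Divisor C, Mero.IsEffective D₁ ∧ Mero.IsEffective D₂ ∧ D = D₁ * D₂⁻¹ ∧
      Mero.supp D₁ ⊆ Mero.supp D ∧ Mero.supp D₂ ⊆ Mero.supp D := by
  classical
  choose a b hab using fun x => Mero90.exists_cls_germ D x
  let g₁ : ∀ x : C, Mero.Germ C x := fun x =>
    if D.1 x = 1 then 1 else QuotientGroup.mk (Mero90.regUnit x (a x))
  let g₂ : ∀ x : C, Mero.Germ C x := fun x =>
    if D.1 x = 1 then 1 else QuotientGroup.mk (Mero90.regUnit x (b x))
  have hfin := Crv77.finite_supp hC D
  have m₁ : g₁ ∈ Mero.divisorGroup C := Crv77.mem_divisorGroup hC g₁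
    (hfin.subset fun x (hx : g₁ x ≠ 1) h => hx (if_pos h))
    (fun x hx => if_pos (Crv77.germ_eq_one hC D hx))
  have m₂ : g₂ ∈ Mero.divisorGroup C := Crv77.mem_divisorGroup hC g₂
    (hfin.subset fun x (hx : g₂ x ≠ 1) h => hx (if_pos h))
    (fun x hx => if_pos (Crv77.germ_eq_one hC D hx))
  have heff : ∀ (c : ∀ x : C, Mero.regStalk C x) (x : C),
      ∃ e : Mero.regStalk C x, (if D.1 x = 1 then 1 else
        QuotientGroup.mk (Mero90.regUnit x (c x)) : Mero.Germ C x) =
          QuotientGroup.mk (IsLocalization.map_units (Mero.KStalk C x) e).unit := by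
    intro c x
    split_ifs
    · exact ⟨1, (QuotientGroup.mk_one _).symm.trans
        (congrArg _ (Units.ext (map_one (algebraMap _ (Mero.KStalk C x))).symm))⟩
    · exact ⟨c x, rfl⟩
  refine ⟨⟨g₁, m₁⟩, ⟨g₂, m₂⟩, heff a, heff b, ?_, fun x (hx : g₁ x ≠ 1) h => hx (if_pos h),
    fun x (hx : g₂ x ≠ 1) h => hx (if_pos h)⟩
  refine Subtype.ext (funext fun x => ?_)
  show D.1 x = g₁ x * (g₂ x)⁻¹
  simp only [g₁, g₂]
  split_ifs with h
  · rw [h, inv_one]; exact (mul_one (1 : Mero.Germ C x)).symm
  · rw [hab x, Mero90.cls, ← div_eq_mul_inv]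
    rfl

end Groth.Agent.S10894
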