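import Groth.Statements.S10895
import Mathlib.AlgebraicGeometry.Morphisms.UniversallyOpen
import Mathlib.AlgebraicGeometry.Cover.QuasiCompact
import Groth.Agent.FlatMor68.Basic

set_option autoImplicit false
universe u
open CategoryTheory AlgebraicGeometry
open FlatMor

namespace Groth.Agent.S10895

open CategoryTheory CategoryTheory.Limits AlgebraicGeometry TopologicalSpace Groth.Agent.FlatMor68.Basic

/-- A closed immersion of finite presentation which is flat at a point x is an isomorphism over some
open neighbourhood of the image of x. -/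
theorem result {X Y : Scheme.{u}} (f : X ⟶ Y) [IsClosedImmersion f]
    [LocallyOfFinitePresentation f] (x : X) (hflat : (f.stalkMap x).hom.Flat) :
    ∃ V : Y.Opens, f.base x ∈ V ∧ IsIso (f ∣_ V) := by
  have hinj : Function.Injective (f.stalkMap x).hom := by
    algebraize [(f.stalkMap x).hom]
    have : Module.FaithfullyFlat (Y.presheaf.stalk (f x)) (X.presheaf.stalk x) :=
      @Module.FaithfullyFlat.of_flat_of_isLocalHom _ _ _ _ _ _ _ hflat (f.toLRSHom.prop x)
    exact ‹RingHom.FaithfullyFlat _›.injective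
  obtain ⟨W, hW, hxW, -⟩ := Opens.isBasis_iff_nbhd.mp Y.isBasis_affineOpens (Opens.mem_top (f x))
  have hfp : (f.app W).hom.FinitePresentation := by
    rw [Scheme.Hom.app_eq_appLE]
    exact f.finitePresentation_appLE hW (hW.preimage f) le_rfl
  algebraize [(f.app W).hom]
  have hfg : (RingHom.ker (f.app W).hom).FG :=
    Algebra.FinitePresentation.ker_fG_of_surjective (Algebra.ofId Γ(Y, W) Γ(X, f ⁻¹ᵁ W)) (f.app_surjective W hW)
  obtain ⟨s, hs⟩ := hfg
  have hz : ∀ a ∈ s, ∃ W' : Y.Opens, ∃ (i : W' ⟶ W), f x ∈ W' ∧ Y.presheaf.map i.op a = 0 := by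
    intro a ha
    have h0 : Y.presheaf.germ W (f x) hxW a = 0 := by
      apply hinj
      rw [map_zero]
      change (Y.presheaf.germ W (f x) hxW ≫ f.stalkMap x) a = 0
      rw [Scheme.Hom.germ_stalkMap]
      have : (f.app W).hom a = 0 := by
        rw [← RingHom.mem_ker, ← hs]; exact Ideal.subset_span ha
      simp [this]
    obtain ⟨W', hxW', i, i', he⟩ := Y.presheaf.germ_eq (f x) hxW hxW a 0 (by rw [h0, map_zero])
    exact ⟨W', i, hxW', by rw [he, map_zero]⟩
  choose W' i hxW' hW' using hz
  let O : Y.Opens := W ⊓ s.attach.inf (fun a => W' a.1 a.2)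
  have hxO : f x ∈ O := ⟨hxW, by
    classical
    induction s.attach using Finset.induction with
    | empty => trivial
    | insert a t _ ih => rw [Finset.inf_insert]; exact ⟨hxW' a.1 a.2, ih⟩⟩
  obtain ⟨g, hgO, hxg⟩ := hW.exists_basicOpen_le ⟨f x, hxO⟩ hxW
  refine ⟨Y.basicOpen g, hxg, ?_⟩
  have hker : f.ker.ideal (Y.affineBasicOpen (U := ⟨W, hW⟩) g) = ⊥ := by
    rw [← f.ker.map_ideal_basicOpen ⟨W, hW⟩ g, Scheme.Hom.ker_apply, ← hs, Ideal.map_span]
    apply Ideal.span_eq_bot.mpr
    rintro _ ⟨a, ha, rfl⟩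
    have hle : Y.basicOpen g ≤ W' a ha :=
      hgO.trans (inf_le_right.trans (Finset.inf_le (f := fun a : s => W' a.1 a.2) (Finset.mem_attach s ⟨a, ha⟩)))
    have := congrArg (Y.presheaf.map (homOfLE hle).op) (hW' a ha)
    rw [← CommRingCat.comp_apply, ← Functor.map_comp, map_zero] at this
    exact this
  have : IsAffine (Y.basicOpen g : Scheme.{u}) := hW.basicOpen g
  apply IsClosedImmersion.isIso_of_injective_of_isAffine
  rw [Scheme.Hom.ker_apply, ← RingHom.injective_iff_ker_eq_bot] at hker
  rw [morphismRestrict_appTop]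
  have key : ∀ U : Y.Opens, U = Y.basicOpen g → Function.Injective (f.app U).hom := by
    rintro U rfl; exact hker
  have h1 := key _ (Scheme.Opens.ι_image_top (Y.basicOpen g))
  intro a b hab
  exact h1 ((ConcreteCategory.bijective_of_isIso _).injective hab)

end Groth.Agent.S10895
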