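import Groth.Statements.S10904
import Groth.Agent.EGAProj74.HilbDeg

set_option autoImplicit false
universe u
open Polynomial
open ProjDeg

namespace Groth.Agent.S10904

/-- Let k be a field, R = k[X_0, …, X_n] graded by degree, I a homogeneous prime ideal of R, f a
homogeneous element of degree d ≥ 1 not in I, and I' = I + (f). Let P be the Hilbert polynomial of
R/I and Q that of R/I': rational polynomials whose value at every large integer m is the k-dimension
of the degree-m piece, i.e. dim R_m − dim (I ∩ R_m). Assume P has degree at least 1, i.e. the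
projective variety V(I) ⊆ P^n_k has dimension ≥ 1. Then Q has degree deg P − 1, and the degrees of
the projective schemes, (degree of the Hilbert polynomial)! times its leading coefficient, satisfy
deg V(I') = d · deg V(I). (The published statement has no dimension hypothesis; for V(I) a single
point the left side is 0 and the right side is d · deg V(I) ≠ 0, and the printed proof uses dim
V(I') = dim V(I) − 1.) -/
theorem result (k : Type u) [Field k] (n : ℕ)
    (I : Ideal (MvPolynomial (Fin (n + 1)) k)) (hIh : I.IsHomogeneous (CohB1.polyGrading n k)) [I.IsPrime]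
    (f : MvPolynomial (Fin (n + 1)) k) (d : ℕ) (hd : 0 < d) (hf : f.IsHomogeneous d) (hfI : f ∉ I)
    (P Q : ℚ[X])
    (hP : ∃ m₀ : ℕ, ∀ m : ℕ, m₀ ≤ m → P.eval (m : ℚ) =
      (Module.finrank k ↥(CohB1.polyGrading n k m) : ℚ) -
        Module.finrank k ↥(Submodule.restrictScalars k I ⊓ CohB1.polyGrading n k m))
    (hQ : ∃ m₀ : ℕ, ∀ m : ℕ, m₀ ≤ m → Q.eval (m : ℚ) =
      (Module.finrank k ↥(CohB1.polyGrading n k m) : ℚ) -
        Module.finrank k ↥(Submodule.restrictScalars k (I ⊔ Ideal.span {f}) ⊓ CohB1.polyGrading n k m))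
    (hdim : 1 ≤ P.natDegree) :
    Q.natDegree + 1 = P.natDegree ∧
      (Q.natDegree.factorial : ℚ) * Q.leadingCoeff =
        d * ((P.natDegree.factorial : ℚ) * P.leadingCoeff) := by
  open Groth.Agent.EGAProj74.HilbDeg in
  have h : IsHP I P := hP
  have hQ2 : IsHP (I ⊔ Ideal.span {f}) Q := hQ
  have hcol : col I f = I := by
    ext x
    exact ⟨fun hx => ((‹I.IsPrime›).mem_or_mem hx).resolve_left hfI, fun hx => I.mul_mem_left f hx⟩
  have hQ3 : IsHP (I ⊔ Ideal.span {f}) (P - taylor (-(d : ℚ)) P) := by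
    obtain ⟨m₀, hm₀⟩ := h
    refine ⟨d + m₀, fun m hm => ?_⟩
    obtain ⟨m, rfl⟩ : ∃ m2, m = d + m2 := ⟨m - d, by omega⟩
    have h1 := hd_step hIh (show f ∈ CohB1.polyGrading n k d from hf) (fun e => hfI (e ▸ I.zero_mem)) m
    rw [hcol] at h1
    rw [eval_sub, eval_taylor_nat, hm₀ _ (by omega), h1, Nat.cast_add, add_neg_cancel_comm, hm₀ _ (by omega)]
    ring
  obtain rfl := hQ2.unique hQ3
  obtain ⟨s, hs⟩ : ∃ s, P.natDegree = s + 1 := ⟨P.natDegree - 1, by omega⟩
  have hz : ∀ j, s + 1 < j → P.coeff j = 0 := fun j hj => coeff_eq_zero_of_natDegree_lt (by omega)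
  have hlead : P.coeff (s + 1) ≠ 0 := by
    rw [← hs, coeff_natDegree, ne_eq, leadingCoeff_eq_zero]
    rintro rfl
    simp at hs
  have hc : (P - taylor (-(d : ℚ)) P).coeff s = (s + 1 : ℕ) * d * P.coeff (s + 1) := by
    rw [coeff_sub, coeff_taylor_top hz]
    ring
  have hne : (P - taylor (-(d : ℚ)) P).coeff s ≠ 0 := by
    rw [hc]
    have : (d : ℚ) ≠ 0 := by exact_mod_cast hd.ne'
    positivity
  have hdeg : (P - taylor (-(d : ℚ)) P).natDegree = s := by
    refine natDegree_eq_of_le_of_coeff_ne_zero (natDegree_le_iff_coeff_eq_zero.2 fun j hj => ?_) hne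
    rw [coeff_sub]
    rcases (show s + 1 ≤ j by omega).eq_or_lt with rfl | hj2
    · rw [coeff_taylor_self (fun i hi => hz i (by omega)), sub_self]
    · rw [hz j hj2, coeff_taylor_eq_zero (t := s + 2) (fun i hi => hz i (by omega)) _ (by omega), sub_zero]
  refine ⟨by omega, ?_⟩
  rw [← coeff_natDegree, ← coeff_natDegree, hdeg, hs, hc, Nat.factorial_succ]
  push_cast
  ring

end Groth.Agent.S10904
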