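import Groth.Statements.S10906
import Groth.Agent.EGAProj74.HilbDeg

set_option autoImplicit false
universe u
open Polynomial
open ProjDeg

namespace Groth.Agent.S10906

/-- Let k be a field, R = k[X_0, …, X_n] graded by degree, I a homogeneous ideal with Hilbert polynomial
P (a rational polynomial with P(m) = dim_k R_m − dim_k (I ∩ R_m) for all large m), and p_1, …, p_r
the minimal prime ideals over I, listed without repetition, with Hilbert polynomials Q_i; put t =
deg P. Defining the degree of V(J) as (degree of its Hilbert polynomial)! times the leading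
coefficient and the multiplicity of the component V(p_i) in Y = V(I) as the length of (R/I)_{p_i}
over R_{p_i}, the degree of Y is the sum, over the components of top dimension (those i with deg Q_i
= t), of multiplicity times degree: deg Y = Σ_{deg Q_i = t} i(Y_i; Y) · deg V(p_i). -/
theorem result (k : Type u) [Field k] (n : ℕ)
    (I : Ideal (MvPolynomial (Fin (n + 1)) k)) (hIh : I.IsHomogeneous (CohB1.polyGrading n k))
    (P : ℚ[X])
    (hP : ∃ m₀ : ℕ, ∀ m : ℕ, m₀ ≤ m → P.eval (m : ℚ) =
      (Module.finrank k ↥(CohB1.polyGrading n k m) : ℚ) -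
        Module.finrank k ↥(Submodule.restrictScalars k I ⊓ CohB1.polyGrading n k m))
    (r : ℕ) (p : Fin r → Ideal (MvPolynomial (Fin (n + 1)) k)) [hp : ∀ i, (p i).IsPrime] (hpinj : Function.Injective p)
    (hpmin : ∀ q : Ideal (MvPolynomial (Fin (n + 1)) k), q ∈ I.minimalPrimes ↔ ∃ i, q = p i)
    (Qp : Fin r → ℚ[X])
    (hQp : ∀ i, ∃ m₀ : ℕ, ∀ m : ℕ, m₀ ≤ m → (Qp i).eval (m : ℚ) =
      (Module.finrank k ↥(CohB1.polyGrading n k m) : ℚ) -
        Module.finrank k ↥(Submodule.restrictScalars k (p i) ⊓ CohB1.polyGrading n k m)) :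
    (P.natDegree.factorial : ℚ) * P.leadingCoeff =
      ∑ i : Fin r, if (Qp i).natDegree = P.natDegree then
        ((Qp i).natDegree.factorial : ℚ) * (Qp i).leadingCoeff *
          (Module.length (Localization.AtPrime (p i))
            (LocalizedModule (p i).primeCompl (MvPolynomial (Fin (n + 1)) k ⧸ I))).toNat
      else 0 := by
  open Groth.Agent.EGAProj74.HilbDeg Groth.Agent.CAlgH2 in
  classical
  have h : IsHP I P := hP
  obtain ⟨hdeg, hzero⟩ := natDegree_hp hIh
  rw [h.hp_eq] at hdeg hzero
  have hph : ∀ i, (p i).IsHomogeneous (CohB1.polyGrading n k) := fun i =>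
    Groth.Agent.VarGal.isHomogeneous_of_mem_minimalPrimes hIh ((hpmin _).2 ⟨i, rfl⟩)
  have hQ : ∀ i, Groth.Agent.EGAProj74.HilbDeg.hp (p i) = Qp i := fun i => IsHP.hp_eq (hQp i)
  have hQd : ∀ i, (Qp i).natDegree = trdegQuot k (p i) - 1 ∧ (Qp i = 0 ↔ trdegQuot k (p i) = 0) := fun i => by
    have := natDegree_hp (hph i)
    rwa [hQ i, top_prime] at this
  have hle : ∀ i, trdegQuot k (p i) ≤ top I := fun i => le_top' (p i) (hp i) ((hpmin (p i)).2 ⟨i, rfl⟩).1.2
  cases ht : top I with
  | zero =>
    rw [hzero.2 ht, leadingCoeff_zero, mul_zero]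
    refine (Finset.sum_eq_zero fun i _ => ?_).symm
    rw [(hQd i).2.2 (by have := hle i; omega)]
    simp
  | succ s =>
    obtain ⟨-, -, hS⟩ := good hIh le_top'
    let emb : Fin r ↪ PrimeSpectrum (MvPolynomial (Fin (n + 1)) k) :=
      ⟨fun i => ⟨p i, hp i⟩, fun i j e => hpinj (congrArg PrimeSpectrum.asIdeal e)⟩
    obtain ⟨-, hsum⟩ := hS ((Finset.univ.filter fun i => trdegQuot k (p i) = top I).map emb)
      (fun q hq => by
        obtain ⟨i, hi, rfl⟩ := Finset.mem_map.1 hq
        exact (Finset.mem_filter.1 hi).2)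
      (fun q h1 h2 => by
        have hq : q.asIdeal ∈ I.minimalPrimes := mem_minimalPrimes_of_eq le_top' h1 h2
        obtain ⟨i, hi⟩ := (hpmin _).1 hq
        refine Finset.mem_map.2 ⟨i, Finset.mem_filter.2 ⟨Finset.mem_univ _, by rw [← hi]; exact h2⟩, ?_⟩
        exact PrimeSpectrum.ext hi.symm)
    have hs : P.natDegree = s := by omega
    rw [← coeff_natDegree, hs, ← h.hp_eq, hsum s ht, Finset.sum_map, Finset.mul_sum, Finset.sum_filter]
    refine Finset.sum_congr rfl fun i _ => ?_
    obtain ⟨hd1, hd2⟩ := hQd i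
    have := hle i
    by_cases htop : trdegQuot k (p i) = top I
    · have hn : (Qp i).natDegree = s := by omega
      rw [if_pos htop, if_pos hn, hn]
      show (s.factorial : ℚ) * (_ * (Groth.Agent.EGAProj74.HilbDeg.hp (p i)).coeff s) = _
      rw [hQ i, ← hn, coeff_natDegree]
      show (_ : ℚ) * (((CAlg4.TopLength.locLen (p i) (MvPolynomial (Fin (n + 1)) k ⧸ I)).toNat : ℚ) * _) = _
      unfold CAlg4.TopLength.locLen
      ring
    · rw [if_neg htop]
      split_ifs with hn
      · rw [hd2.2 (by omega)]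
        simp
      · rfl

end Groth.Agent.S10906
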