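import Groth.Statements.S10909
import Groth.Agent.Var76.RegKaehler
import Groth.Agent.Var76.SmoothCrit

set_option autoImplicit false
universe u
open TensorProduct
open SmVar

namespace Groth.Agent.S10909


open Groth.Agent.Var76

/-- Let k be an algebraically closed field and A a k-algebra of finite type with irreducible spectrum
(the nilradical of A is prime) and Krull dimension n; X = Spec A is then an irreducible separated
k-scheme of finite type of dimension n. Then X is a nonsingular variety — A is reduced and every
localization of A at a prime is a regular local ring — if and only if the module of Kähler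
differentials Ω_{A/k} is locally free of rank n: projective, with fibre κ(P) ⊗_A Ω_{A/k} of
dimension n at every prime P. -/
theorem result (k : Type u) [Field k]
    [IsAlgClosed k] (A : Type u) [CommRing A] [Algebra k A] [Algebra.FiniteType k A]
    (hirr : (nilradical A).IsPrime) (n : ℕ) (hn : ringKrullDim A = n) :
    (IsReduced A ∧ IsRegularRing A) ↔
      (Module.Projective A (Ω[A⁄k]) ∧
        ∀ (P : Ideal A) [P.IsPrime],
          Module.finrank P.ResidueField (P.ResidueField ⊗[A] Ω[A⁄k]) = n) := by
  have hft : IsNoetherianRing A := Algebra.FiniteType.isNoetherianRing k A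
  have hfp : Algebra.FinitePresentation k A := Algebra.FinitePresentation.of_finiteType.1 ‹_›
  constructor
  · rintro ⟨_, _⟩
    have : IsDomain A := RegKaehler.isDomain_of_regular hirr
    have hsm : Algebra.Smooth k A := RegSmooth.smooth_of_regular (k := k) fun M _ => inferInstance
    have hproj : Module.Projective A Ω[A⁄k] := inferInstance
    refine ⟨hproj, fun P _ => ?_⟩
    have : Module.FinitePresentation A Ω[A⁄k] := Module.finitePresentation_of_finite A _
    obtain ⟨m, hm⟩ := Ideal.exists_maximal A
    have hloc := Module.isLocallyConstant_rankAtStalk (R := A) (M := Ω[A⁄k])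
    have hPm := hloc.apply_eq_of_preconnectedSpace ⟨P, ‹_›⟩ ⟨m, hm.isPrime⟩
    rw [← Ideal.finrank_fiber_eq_rankAtStalk, ← Ideal.finrank_fiber_eq_rankAtStalk] at hPm
    refine hPm.trans ?_
    rw [show Module.finrank m.ResidueField (m.Fiber Ω[A⁄k]) = _ from RegKaehler.finrank_fibre k m]
    exact RegKaehler.finrank_cotangent_eq_of_regular k hirr n hn m inferInstance
  · rintro ⟨_, hrank⟩
    have hreg : IsRegularRing A := RegKaehler.regular_of_finrank_le k hirr n hn fun m _ =>
      ((RegKaehler.finrank_fibre k m).symm.trans (hrank m)).le
    have := RegKaehler.isDomain_of_regular hirr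
    exact ⟨inferInstance, hreg⟩

end Groth.Agent.S10909
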