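import Groth.Statements.S10913
import Groth.Agent.EGAProj74.PnConstLt

set_option autoImplicit false
universe u
open CategoryTheory CategoryTheory.Limits AlgebraicGeometry TopologicalSpace
open ProjDeg

namespace Groth.Agent.S10913

/-- Let k be a field and m < n natural numbers. Then every morphism of k-schemes from projective n-space
to projective m-space over k is constant: it factors through the structure morphism P^n_k → Spec k
followed by a k-rational point of P^m_k. -/
theorem result (k : Type u) [Field k] (n m : ℕ) (hmn : m < n)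
    (f : CohB1.ProjSpace n k ⟶ CohB1.ProjSpace m k)
    (hf : f ≫ CohB1.ProjSpace.toSpec m k = CohB1.ProjSpace.toSpec n k) :
    ∃ q : Spec (CommRingCat.of k) ⟶ CohB1.ProjSpace m k, f = CohB1.ProjSpace.toSpec n k ≫ q := by
  obtain ⟨i, hi⟩ := Groth.Agent.EGAProj74.PnConstLt.exists_range_subset hmn f hf
  let U : (CohB1.ProjSpace m k).Opens := Proj.basicOpen (CohB1.polyGrading m k) (MvPolynomial.X i)
  haveI : IsAffine U.toScheme := Proj.isAffineOpen_basicOpen _ _ (MvPolynomial.isHomogeneous_X k i) one_pos
  have hr : Set.range f ⊆ Set.range U.ι := by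
    rw [Scheme.Opens.range_ι]
    rintro _ ⟨x, rfl⟩
    exact hi x
  obtain ⟨q, hq⟩ := Groth.Agent.EGAProj74.PnConstLt.factor_of_isAffine (IsOpenImmersion.lift U.ι f hr)
  refine ⟨q ≫ U.ι, ?_⟩
  rw [← Category.assoc]
  exact (IsOpenImmersion.lift_fac U.ι f hr).symm.trans (congrArg (· ≫ U.ι) hq)

end Groth.Agent.S10913
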