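import Groth.Statements.S10914
import Groth.Agent.Var76.IrredFibres

set_option autoImplicit false
universe u
open CategoryTheory CategoryTheory.Limits AlgebraicGeometry TopologicalSpace
open ProjDeg

namespace Groth.Agent.S10914

/-- Let k be a field, X and Y reduced schemes proper over k and f : X → Y a k-morphism with (i) f
surjective, (ii) every fibre X_y over a closed point y irreducible, (iii) all these fibres of the
same dimension m, and (iv) Y irreducible. Then X is irreducible and dim X = dim Y + m. (The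
published statement takes X, Y projective over k and f projective; its proof uses only that f is a
closed map and upper semicontinuity of fibre dimension, i.e. properness.) -/
theorem result (k : Type u) [Field k] {X Y : Scheme.{u}}
    (pX : X ⟶ Spec (CommRingCat.of k)) (pY : Y ⟶ Spec (CommRingCat.of k)) [IsProper pX] [IsProper pY]
    [IsReduced X] [IsReduced Y] (f : X ⟶ Y) (hf : f ≫ pY = pX) (hsurj : Function.Surjective f)
    [IrreducibleSpace ↥Y] (m : ℕ)
    (hirr : ∀ y : ↥Y, IsClosed ({y} : Set ↥Y) → IrreducibleSpace ↥(f.fiber y))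
    (hdim : ∀ y : ↥Y, IsClosed ({y} : Set ↥Y) → topologicalKrullDim ↥(f.fiber y) = m) :
    IrreducibleSpace ↥X ∧ topologicalKrullDim ↥X = topologicalKrullDim ↥Y + m := by
  open TopologicalSpace Groth.Agent.Var76 in
  classical
  have : LocallyOfFiniteType (f ≫ pY) := hf ▸ inferInstance
  have : LocallyOfFiniteType f := locallyOfFiniteType_of_comp f pY
  have : IsProper (f ≫ pY) := hf ▸ inferInstance
  have : IsProper f := IsProper.of_comp f pY
  have hirr' : ∀ y : Y, IsClosed ({y} : Set Y) → IsIrreducible (f ⁻¹' {y}) := fun y hy => by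
    have := hirr y hy
    have : IrreducibleSpace ↥(f ⁻¹' {y}) := (f.fiberHomeo y).surjective.irreducibleSpace (f.fiberHomeo y).continuous
    exact isIrreducible_iff_irreducibleSpace.2 inferInstance
  have hdim' : ∀ y : Y, IsClosed ({y} : Set Y) → topologicalKrullDim ↥(f ⁻¹' {y}) = m := fun y hy =>
    ((f.fiberHomeo y).isHomeomorph.topologicalKrullDim_eq _).symm.trans (hdim y hy)
  obtain ⟨⟨Z₀, ⟨hZ₀, hd₀⟩, huniq⟩, hall⟩ := IrredFibres.main (qX := pX) (qY := pY) f hf m hirr' hdim'
  have : JacobsonSpace X := LocallyOfFiniteType.jacobsonSpace pX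
  have hZc := isClosed_of_mem_irreducibleComponents Z₀ hZ₀
  have himg : f '' Z₀ = Set.univ := (f.isClosedMap _ hZc).closure_eq ▸ hd₀.closure_eq
  have huniv : Z₀ = Set.univ := by
    refine Set.eq_univ_of_univ_subset ((closure_closedPoints (X := X)).ge.trans (closure_minimal (fun x hx => ?_) hZc))
    have hy : IsClosed ({f x} : Set Y) := IrredFibres.isClosed_image (qX := pX) (qY := pY) f hf hx
    obtain ⟨z, hz, hzx⟩ : f x ∈ f '' Z₀ := himg ▸ Set.mem_univ _
    exact (hall Z₀ hZ₀).1 (f x) hy ⟨z, hzx, hz⟩ rfl
  refine ⟨(irreducibleSpace_def X).2 (show IsIrreducible (Set.univ : Set X) from huniv ▸ hZ₀.1), ?_⟩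
  have h := (hall Z₀ hZ₀).2
  rw [hd₀.closure_eq, huniv] at h
  rw [IsHomeomorph.topologicalKrullDim_eq _ (Homeomorph.Set.univ X).isHomeomorph,
    IsHomeomorph.topologicalKrullDim_eq _ (Homeomorph.Set.univ Y).isHomeomorph] at h
  rw [h, add_comm]

end Groth.Agent.S10914
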