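import Groth.Statements.S10915
import Groth.Agent.EGAProj74.HilbDeg
import Groth.Agent.S10864

set_option autoImplicit false
universe u
open ProjDeg

namespace Groth.Agent.S10915

/-- Let k be an algebraically closed field, R = k[X_0, …, X_n] graded by degree, and I a homogeneous
prime ideal with dim R/I = r + 1, so that X = V_+(I) ⊆ P^n_k is a projective variety of dimension r.
Then there are r + 1 linear forms h_1, …, h_{r+1} (homogeneous of degree 1) whose common zero set in
P^n_k does not meet X, i.e. the ideal I + (h_1, …, h_{r+1}) contains some power of the irrelevant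
ideal (X_0, …, X_n). (The published statement says that a generic linear subspace of dimension n − r
− 1 misses X; this row asserts only that one such subspace, cut out by r + 1 linear forms, exists.) -/
theorem result (k : Type u) [Field k] [IsAlgClosed k]
    (n r : ℕ) (I : Ideal (MvPolynomial (Fin (n + 1)) k)) (hIh : I.IsHomogeneous (CohB1.polyGrading n k)) [I.IsPrime]
    (hdim : ringKrullDim (MvPolynomial (Fin (n + 1)) k ⧸ I) = (r : WithBot ℕ∞) + 1) :
    ∃ h : Fin (r + 1) → MvPolynomial (Fin (n + 1)) k, (∀ i, (h i).IsHomogeneous 1) ∧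
      ∃ N : ℕ, (Ideal.span (Set.range (MvPolynomial.X : Fin (n + 1) → MvPolynomial (Fin (n + 1)) k))) ^ N ≤
        I ⊔ Ideal.span (Set.range h) := by
  open Groth.Agent.VarGal Groth.Agent.CAlgH2 in
  classical
  have hI : trdegQuot k I = r + 1 := by
    rw [Groth.Agent.EGAProj74.HilbDeg.ringKrullDim_quotient_prime I] at hdim
    exact_mod_cast hdim
  have key : ∀ j : ℕ, j ≤ r + 1 → ∃ h : Fin j → MvPolynomial (Fin (n + 1)) k, (∀ i, (h i).IsHomogeneous 1) ∧
      ∀ q : Ideal (MvPolynomial (Fin (n + 1)) k), q.IsPrime → I ⊔ Ideal.span (Set.range h) ≤ q →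
        trdegQuot k q + j ≤ r + 1 := by
    intro j
    induction j with
    | zero =>
      intro _
      refine ⟨Fin.elim0, fun i => i.elim0, fun q hq hle => ?_⟩
      have := Groth.Agent.EGAProj74.HilbDeg.trdegQuot_le_of_le (k := k) (le_sup_left.trans hle : I ≤ q)
      omega
    | succ j ih =>
      intro hj
      obtain ⟨h, hh, hq'⟩ := ih (by omega)
      set J := I ⊔ Ideal.span (Set.range h) with hJdef
      have hJ : J.IsHomogeneous (CohB1.polyGrading n k) :=
        hIh.sup (Ideal.homogeneous_span _ _ (by rintro _ ⟨i, rfl⟩; exact ⟨1, hh i⟩))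
      let Z : Set (Ideal (MvPolynomial (Fin (n + 1)) k)) := {q | q ∈ J.minimalPrimes ∧ 1 ≤ trdegQuot k q}
      have hZ : Z.Finite := (J.finite_minimalPrimes_of_isNoetherianRing _).subset fun q hq => hq.1
      let pt : {q // q ∈ hZ.toFinset} → ProjectiveSpectrum (CohB1.polyGrading n k) := fun q =>
        mkPoint (hq := ((Set.Finite.mem_toFinset _).1 q.2).1.1.1) q.1
          (isHomogeneous_of_mem_minimalPrimes hJ ((Set.Finite.mem_toFinset _).1 q.2).1)
          ((Set.Finite.mem_toFinset _).1 q.2).2
      obtain ⟨l, hl, hlP⟩ := Groth.Agent.S10864.exists_linear (Finset.univ.image pt)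
      refine ⟨Fin.cons l h, fun i => ?_, fun q hq hle => ?_⟩
      · induction i using Fin.cases with
        | zero => exact hl
        | succ i => simpa using hh i
      rw [Fin.range_cons] at hle
      have hJq : J ≤ q := sup_le (le_sup_left.trans hle)
        ((Ideal.span_mono (Set.subset_insert _ _)).trans (le_sup_right.trans hle))
      obtain ⟨p, hp, hpq⟩ := Ideal.exists_minimalPrimes_le hJq
      have := hp.1.1
      have h1 := hq' p hp.1.1 hp.1.2
      by_cases hpZ : 1 ≤ trdegQuot k p
      · have hlp : l ∉ p := hlP (pt ⟨p, (Set.Finite.mem_toFinset _).2 ⟨hp, hpZ⟩⟩)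
          (Finset.mem_image_of_mem _ (Finset.mem_univ _))
        have h2 : trdegQuot k q < trdegQuot k p := trdegQuot_lt (lt_of_le_not_ge hpq fun hge =>
          hlp (hge (hle (Ideal.mem_sup_right (Ideal.subset_span (Set.mem_insert _ _))))))
        omega
      · have h2 := Groth.Agent.EGAProj74.HilbDeg.trdegQuot_le_of_le (k := k) hpq
        omega
  obtain ⟨h, hh, hq⟩ := key (r + 1) le_rfl
  refine ⟨h, hh, Ideal.exists_pow_le_of_le_radical_of_fg ?_ ⟨Finset.univ.image MvPolynomial.X, by simp⟩⟩
  rw [Ideal.radical_eq_sInf, Ideal.span_le]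
  rintro _ ⟨i, rfl⟩
  refine Submodule.mem_sInf.2 fun q hq2 => ?_
  have := hq2.2
  by_contra hi
  obtain ⟨p, hp, hpq⟩ := Ideal.exists_minimalPrimes_le hq2.1
  have := hp.1.1
  have hpi : (MvPolynomial.X i : MvPolynomial (Fin (n + 1)) k) ∉ p := fun hm => hi (hpq hm)
  have hJ : (I ⊔ Ideal.span (Set.range h)).IsHomogeneous (CohB1.polyGrading n k) :=
    hIh.sup (Ideal.homogeneous_span _ _ (by rintro _ ⟨i, rfl⟩; exact ⟨1, hh i⟩))
  obtain ⟨p', hp'⟩ := Ideal.nonempty_minimalPrimes (I := p ⊔ Ideal.span {MvPolynomial.X i})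
    (ne_top_of_le_ne_top (Ideal.IsMaximal.ne_top (I := vertexIdeal k n) inferInstance)
      (sup_le (le_vertexIdeal (isHomogeneous_of_mem_minimalPrimes hJ hp) (Ideal.IsPrime.ne_top ‹_›))
        ((Ideal.span_singleton_le_iff_mem _).2 (X_mem_vertexIdeal i))))
  have h3 := trdegQuot_add_one_eq (k := k) hpi hp'
  have h4 := hq p hp.1.1 hp.1.2
  omega

end Groth.Agent.S10915
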