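import Groth.Statements.S10921
import Groth.Agent.Var76.HypSection
import Groth.Agent.Var76.RegSmooth

set_option autoImplicit false
universe u
open CategoryTheory CategoryTheory.Limits AlgebraicGeometry TopologicalSpace
open SmVar

namespace Groth.Agent.S10921

open scoped TensorProduct
open Groth.Agent.Var76
set_option backward.isDefEq.respectTransparency false

/-- Let k be an algebraically closed field and X ⊆ P^n_k a nonsingular projective variety, given as an
integral scheme X with a closed immersion ι into projective n-space all of whose local rings are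
regular. For a linear form h = Σ a_i X_i let H be the hyperplane h = 0 and H ∩ X the
scheme-theoretic intersection. Then the hyperplanes H which do not contain X and for which H ∩ X is
regular at each of its closed points form a set containing a nonempty Zariski-open subset of the
dual projective space: there is a nonzero polynomial g in the coefficients a_0, …, a_n such that
every h with g(a) ≠ 0 has these two properties. Regularity of H ∩ X at a closed point x of X lying
on H is expressed on the local ring: O_{X,x} modulo the image of the germ of h/X_j (any j with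
X_j(x) ≠ 0) is a regular local ring. (The published statement asserts that the set of good
hyperplanes is itself open and dense and that H ∩ X is a regular subvariety; this row asserts
regularity of H ∩ X at its closed points for all hyperplanes outside a proper closed set, and not
irreducibility, which fails for curves of degree ≥ 2.) -/
theorem result (k : Type u) [Field k] [IsAlgClosed k] (n : ℕ)
    (X : Scheme.{u}) [IsIntegral X] (ι : X ⟶ CohB1.ProjSpace n k) [IsClosedImmersion ι]
    (hreg : ∀ x : ↥X, IsRegularLocalRing ↑(X.presheaf.stalk x)) :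
    ∃ g : MvPolynomial (Fin (n + 1)) k, g ≠ 0 ∧
      ∀ h : ↥(CohB1.polyGrading n k 1),
        MvPolynomial.eval (fun i => MvPolynomial.coeff (Finsupp.single i 1) (h : MvPolynomial (Fin (n + 1)) k)) g ≠ 0 →
          (∃ x : ↥X, (h : MvPolynomial (Fin (n + 1)) k) ∉ (ι.base x).asHomogeneousIdeal) ∧
          ∀ x : ↥X, IsClosed ({x} : Set ↥X) →
            (h : MvPolynomial (Fin (n + 1)) k) ∈ (ι.base x).asHomogeneousIdeal →
            ∀ (j : Fin (n + 1))
              (hj : (MvPolynomial.X j : MvPolynomial (Fin (n + 1)) k) ∉ (ι.base x).asHomogeneousIdeal),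
              IsRegularLocalRing (↑(X.presheaf.stalk x) ⧸ Ideal.span
                {(ι.stalkMap x).hom ((Proj.stalkIso' (CohB1.polyGrading n k) (ι.base x)).symm
                  (HomogeneousLocalization.mk
                    ⟨1, h, ⟨MvPolynomial.X j, MvPolynomial.isHomogeneous_X k j⟩, hj⟩))}) := by
  classical
  let : X.Over (Spec (CommRingCat.of k)) := ⟨ι ≫ CohB1.ProjSpace.toSpec n k⟩
  have hι : ι ≫ CohB1.ProjSpace.toSpec n k = X ↘ Spec (CommRingCat.of k) := rfl
  let W : Fin (n + 1) → X.Opens := fun j => ι ⁻¹ᵁ ProjCoord.U k n j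
  have hW : ∀ j, IsAffineOpen (W j) := fun j => (ProjCoord.isAffineOpen_U k n j).preimage ι
  have hsm : ∀ j, letI := (BertiniScheme.const (k := k) X (W j)).toAlgebra
      Algebra.Smooth k Γ(X, W j) := fun j => by
    let : Algebra k Γ(X, W j) := (BertiniScheme.const (k := k) X (W j)).toAlgebra
    have : Algebra.FiniteType k Γ(X, W j) := by
      refine ⟨⟨Finset.univ.image fun i => ProjCoord.coord ι j (ProjCoord.X₁ k n i), ?_⟩⟩
      rw [Finset.coe_image, Finset.coe_univ, Set.image_univ]
      exact ProjCoord.adjoin_coord ι hι j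
    refine RegSmooth.smooth_of_regular fun M _ => ?_
    let y : PrimeSpectrum Γ(X, W j) := ⟨M, inferInstance⟩
    have hy : (hW j).fromSpec y ∈ W j := (hW j).range_fromSpec.le ⟨y, rfl⟩
    let : Algebra Γ(X, W j) (X.presheaf.stalk ((hW j).fromSpec y)) :=
      TopCat.Presheaf.algebra_section_stalk X.presheaf ⟨(hW j).fromSpec y, hy⟩
    have : IsLocalization.AtPrime (X.presheaf.stalk ((hW j).fromSpec y)) M := (hW j).isLocalization_stalk' y hy
    have := hreg ((hW j).fromSpec y)
    exact IsRegularLocalRing.of_ringEquiv
      (IsLocalization.algEquiv M.primeCompl (X.presheaf.stalk ((hW j).fromSpec y)) (Localization.AtPrime M)).toRingEquiv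
  choose q hq0 hq using fun j => HypSection.exists_poly_chart ι hι j (hsm j)
  obtain ⟨q₀, hq₀, hpt⟩ := HypSection.exists_poly_point ι hι
  refine ⟨q₀ * ∏ j, q j, mul_ne_zero hq₀ (Finset.prod_ne_zero_iff.2 fun j _ => hq0 j), fun h hh => ?_⟩
  change MvPolynomial.eval (HypSection.coeffs h) (q₀ * ∏ j, q j) ≠ 0 at hh
  rw [map_mul, map_prod, mul_ne_zero_iff, Finset.prod_ne_zero_iff] at hh
  refine ⟨?_, fun x hx hmem j hj => ?_⟩
  · obtain ⟨j, x, -, hx⟩ := hpt h hh.1
    exact ⟨x, HypSection.notMem_ideal_of_mem_basicOpen ι j h hx⟩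
  · let : Algebra k Γ(X, W j) := (BertiniScheme.const (k := k) X (W j)).toAlgebra
    have hxW : x ∈ W j := hj
    let : Algebra Γ(X, W j) (X.presheaf.stalk x) :=
      TopCat.Presheaf.algebra_section_stalk X.presheaf ⟨x, hxW⟩
    let c := ProjCoord.coord ι j h
    have helem : (ι.stalkMap x).hom ((Proj.stalkIso' (CohB1.polyGrading n k) (ι.base x)).symm
        (HomogeneousLocalization.mk
          ⟨1, h, ⟨MvPolynomial.X j, MvPolynomial.isHomogeneous_X k j⟩, hj⟩)) =
        X.presheaf.germ (W j) x hxW c := by
      refine Eq.trans ?_ (Scheme.Hom.germ_stalkMap_apply ι (ProjCoord.U k n j) x hxW _)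
      refine congrArg (ι.stalkMap x).hom ?_
      refine (RingEquiv.symm_apply_eq (Proj.stalkIso' (CohB1.polyGrading n k) (ι.base x))).2 ?_
      refine Eq.symm ((Proj.stalkIso'_germ _ _ _ _ _).trans ?_)
      rfl
    rw [helem]
    set m := ((hW j).primeIdealOf ⟨x, hxW⟩).asIdeal
    have : m.IsMaximal := (hW j).primeIdealOf_isMaximal_of_isClosed ⟨x, hxW⟩ hx
    have hloc : IsLocalization.AtPrime (X.presheaf.stalk x) m := (hW j).isLocalization_stalk ⟨x, hxW⟩
    have := hreg x
    have hcm : c ∈ m := by
      by_contra hc
      have hu : IsUnit (X.presheaf.germ (W j) x hxW c) :=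
        IsLocalization.map_units (X.presheaf.stalk x) (⟨c, hc⟩ : m.primeCompl)
      exact HypSection.notMem_ideal_of_mem_basicOpen ι j h ((X.mem_basicOpen c x hxW).2 hu) hmem
    have hmax : IsLocalRing.maximalIdeal (X.presheaf.stalk x) = m.map (algebraMap Γ(X, W j) _) :=
      (IsLocalization.AtPrime.map_eq_maximalIdeal m (X.presheaf.stalk x)).symm
    refine (Groth.Agent.CAlg1.regular_quotient_singleton (x := X.presheaf.germ (W j) x hxW c)
      (by rw [hmax]; exact Ideal.mem_map_of_mem _ hcm) ?_).1
    intro hsq
    rw [hmax, ← Ideal.map_pow] at hsq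
    obtain ⟨t, ht, htc⟩ := (IsLocalization.algebraMap_mem_map_algebraMap_iff m.primeCompl
      (X.presheaf.stalk x) (m ^ 2) c).1 hsq
    refine hq j h (hh.2 j (Finset.mem_univ j)) m hcm ?_
    have h2 : ∀ y ∈ m ^ 2, (1 : m.ResidueField) ⊗ₜ[Γ(X, W j)] KaehlerDifferential.D k Γ(X, W j) y = 0 := by
      intro y hy
      rw [pow_two] at hy
      refine Submodule.mul_induction_on hy (fun a ha b hb => ?_) fun a b ha hb => ?_
      · rw [Derivation.leibniz, TensorProduct.tmul_add, TensorProduct.tmul_smul, TensorProduct.tmul_smul,
          ← algebraMap_smul m.ResidueField a, ← algebraMap_smul m.ResidueField b,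
          Ideal.algebraMap_residueField_eq_zero.2 ha, Ideal.algebraMap_residueField_eq_zero.2 hb]
        simp
      · rw [map_add, TensorProduct.tmul_add, ha, hb, add_zero]
    have h3 := h2 _ htc
    rw [Derivation.leibniz, TensorProduct.tmul_add, TensorProduct.tmul_smul, TensorProduct.tmul_smul,
      ← algebraMap_smul m.ResidueField t, ← algebraMap_smul m.ResidueField (c : Γ(X, W j)),
      Ideal.algebraMap_residueField_eq_zero.2 hcm, zero_smul, add_zero] at h3
    exact (smul_eq_zero.1 h3).resolve_left fun h0 => ht (Ideal.algebraMap_residueField_eq_zero.1 h0)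

end Groth.Agent.S10921
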