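import Groth.Statements.S10926
import Groth.Agent.Cube7.VarietyH0
import Groth.Agent.An92.Ample.Inverse
import Groth.Agent.EGA73.Tensor
-- import your own Groth.Agent.* helpers here

set_option autoImplicit false
universe u
open CategoryTheory CategoryTheory.Limits AlgebraicGeometry
open PicF

namespace Groth.Agent.S10926

/-- Let k be an algebraically closed field, Y an integral scheme of finite type over k, f : X → Y flat
and projective (f = i ≫ pr for a closed immersion i : X → P^n_Y) with every fibre X_y integral, and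
L, M invertible O_X-modules whose pullbacks to each fibre X_y are isomorphic. Then there is an
invertible O_Y-module E with L ≅ M ⊗ f^*E. -/
theorem result (k : Type u) [Field k] [IsAlgClosed k]
    {X Y : Scheme.{u}} (g : Y ⟶ Spec (CommRingCat.of k)) [LocallyOfFiniteType g] [QuasiCompact g]
    [IsIntegral Y] (n : ℕ) (i : X ⟶ CohB1.ProjSpaceOver n Y) [IsClosedImmersion i]
    (f : X ⟶ Y) (hf : f = i ≫ CohB1.ProjSpaceOver.toBase n Y) [Flat f]
    (hint : ∀ y : Y, IsIntegral (f.fiber y))
    (L M : X.Modules) (hL : PicF.IsInvertible L) (hM : PicF.IsInvertible M)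
    (hLM : ∀ y : Y, Nonempty ((Scheme.Modules.pullback (f.fiberι y)).obj L ≅ (Scheme.Modules.pullback (f.fiberι y)).obj M)) :
    ∃ E : Y.Modules, PicF.IsInvertible E ∧
      Nonempty (L ≅ CohB1.tensorMod M ((Scheme.Modules.pullback f).obj E)) := by
  haveI : IsProper (CohB1.ProjSpaceOver.toBase n Y) := Approx60.Segre.isProper_toBase n Y
  haveI : IsProper f := hf ▸ inferInstance
  haveI : IsLocallyNoetherian Y := LocallyOfFiniteType.isLocallyNoetherian g
  have h0 := Cube7.h0Fib_of_integral_fibres k g f hint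
  obtain ⟨N, hN, ⟨eN⟩⟩ := An92.InvMod.exists_inverse hM
  have hLN : PicF.IsInvertible (CohB1.tensorMod L N) := EGA73.isInvertible_tensorMod hL hN
  have htriv : ∀ y : Y, Nonempty ((Scheme.Modules.pullback (f.fiberι y)).obj (CohB1.tensorMod L N) ≅
      Coh.structureModule (f.fiber y)) := fun y => by
    obtain ⟨e1⟩ := Props58.PullTensor.nonempty_pullTensIso (f.fiberι y) hL hN
    obtain ⟨e2⟩ := Props58.PullTensor.nonempty_pullTensIso (f.fiberι y) hM hN
    exact ⟨e1 ≪≫ EGA73.tensIso (hLM y).some (Iso.refl _) ≪≫ e2.symm ≪≫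
      (Scheme.Modules.pullback (f.fiberι y)).mapIso (EGA73.tensComm M N ≪≫ eN) ≪≫
      PicLoc.pullbackStructureIso (f.fiberι y)⟩
  obtain ⟨hE, hc⟩ := Cube7.invertible_and_counit_of_frames f (AbSch7.app_bijective f h0)
    (Cube7.exists_nhd_frame f h0 _ hLN htriv)
  refine ⟨_, hE, ⟨?_⟩⟩
  exact (EGA73.tensUnitRight L).symm ≪≫ EGA73.tensIso (Iso.refl L) eN.symm ≪≫
    (EGA73.tensAssoc' L N M).symm ≪≫ EGA73.tensComm _ M ≪≫
    EGA73.tensIso (Iso.refl M) (@asIso _ _ _ _ _ hc).symm

end Groth.Agent.S10926
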