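import Groth.Statements.S10928
import Groth.Agent.Var76.Kleiman

set_option autoImplicit false
universe u
open CategoryTheory CategoryTheory.Limits MonoidalCategory CartesianMonoidalCategory MonObj GrpObj AlgebraicGeometry
open Variety

namespace Groth.Agent.S10928


set_option backward.isDefEq.respectTransparency false

open Groth.Agent.Var76

/-- Let k be an algebraically closed field of characteristic zero, G a group variety over k (integral,
separated k-group scheme of finite type), X a homogeneous space for G (a k-variety with a G-action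
such that G(k) acts transitively on X(k)) of dimension n, and f : Y → X, g : Z → X morphisms of
k-schemes where Y and Z are nonsingular varieties over k (integral, separated, smooth of finite type
over k) of dimensions r and s. For a k-point σ of G write f^σ : Y → X for y ↦ σ · f(y). Then there
is a nonempty open subset V ⊆ G such that for every k-point σ of G lying in V the scheme Y^σ ×_X Z
(fibre product of f^σ and g) is smooth over k and is either empty or of dimension r + s − n
(dimensions are topological Krull dimensions). -/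
theorem result (k : Type u) [Field k] [IsAlgClosed k] [CharZero k]
    (G X : Over (Spec (CommRingCat.of k))) [GrpObj G] (a : AlgGrp.Action G X)
    [IsIntegral G.left] [IsSeparated G.hom] [LocallyOfFiniteType G.hom] [QuasiCompact G.hom]
    [IsIntegral X.left] [IsSeparated X.hom] [LocallyOfFiniteType X.hom] [QuasiCompact X.hom]
    (htrans : ∀ x x' : 𝟙_ (Over (Spec (CommRingCat.of k))) ⟶ X,
      ∃ σ : 𝟙_ (Over (Spec (CommRingCat.of k))) ⟶ G, CartesianMonoidalCategory.lift σ x ≫ a.act = x')
    {Y Z : Scheme.{u}} (f : Y ⟶ X.left) (g : Z ⟶ X.left)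
    [IsIntegral Y] [IsSeparated (f ≫ X.hom)] [QuasiCompact (f ≫ X.hom)] [Smooth (f ≫ X.hom)]
    [IsIntegral Z] [IsSeparated (g ≫ X.hom)] [QuasiCompact (g ≫ X.hom)] [Smooth (g ≫ X.hom)]
    (n r s : ℕ) (hn : topologicalKrullDim ↥X.left = n) (hr : topologicalKrullDim ↥Y = r)
    (hs : topologicalKrullDim ↥Z = s) :
    ∃ V : G.left.Opens, (V : Set ↥G.left).Nonempty ∧
      ∀ σ : 𝟙_ (Over (Spec (CommRingCat.of k))) ⟶ G, Set.range σ.left.base ⊆ (V : Set ↥G.left) →
        ∀ fσ : Y ⟶ X.left,
          fσ = (CartesianMonoidalCategory.lift (CartesianMonoidalCategory.toUnit (Over.mk (f ≫ X.hom)) ≫ σ)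
            (Over.homMk f) ≫ a.act).left →
          Smooth (pullback.fst fσ g ≫ f ≫ X.hom) ∧
            (IsEmpty ↥(pullback fσ g) ∨ (n ≤ r + s ∧ topologicalKrullDim ↥(pullback fσ g) = ((r + s - n : ℕ) : WithBot ℕ∞))) := by
  let Y' : Over (Spec (CommRingCat.of k)) := Over.mk (f ≫ X.hom)
  let f' : Y' ⟶ X := Over.homMk f
  let h : G ⊗ Y' ⟶ X := (G ◁ f') ≫ a.act
  have hX : Smooth X.hom := by
    refine Kleiman.smooth_of_homogeneous X.hom fun x y hx hy => ?_
    obtain ⟨σ, hσ⟩ := htrans (ActTrans.sec X x hx) (ActTrans.sec X y hy)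
    refine ⟨(ActTrans.xTrans a σ).hom.left,
      inferInstanceAs (IsIso ((Over.forget _).map (ActTrans.xTrans a σ).hom)), Over.w _, ?_⟩
    have h1 : ActTrans.sec X x hx ≫ (ActTrans.xTrans a σ).hom = ActTrans.sec X y hy := by
      rw [ActTrans.comp_xTrans, toUnit_unique (toUnit _) (𝟙 _), Category.id_comp, hσ]
    have h2 := congr(($h1).left (IsLocalRing.closedPoint k))
    rw [Over.comp_left, Scheme.Hom.comp_apply, ActTrans.sec_apply, ActTrans.sec_apply] at h2
    exact h2
  have hG : Smooth G.hom := by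
    refine Kleiman.smooth_of_homogeneous G.hom fun x y hx hy => ?_
    obtain ⟨σ, hσ⟩ := ActTrans.exists_lTrans_eq x y hx hy
    exact ⟨(ActTrans.lTrans σ).hom.left,
      inferInstanceAs (IsIso ((Over.forget _).map (ActTrans.lTrans (G := G) σ).hom)), Over.w _, hσ⟩
  have hY : Smooth Y'.hom := ‹Smooth (f ≫ X.hom)›
  have hPsm : Smooth (G ⊗ Y').hom := inferInstanceAs (Smooth (pullback.fst G.hom Y'.hom ≫ G.hom))
  have : QuasiCompact Y'.hom := ‹QuasiCompact (f ≫ X.hom)›
  have hh : Smooth h.left := by
    rw [SmoothCrit.smooth_iff_cotangent (G ⊗ Y').hom X.hom h.left (Over.w h)]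
    intro p hp
    let p' := ActTrans.sec (G ⊗ Y') p hp
    let j : G ⟶ G ⊗ Y' := lift (𝟙 G) (toUnit G ≫ p' ≫ snd G Y')
    have hj : (p' ≫ fst G Y') ≫ j = p' := by
      ext : 1
      · simp [j]
      · simp [j, ← Category.assoc, toUnit_unique (_ ≫ toUnit G) (𝟙 _)]
    have horb : j ≫ h = a.orbitMap (p' ≫ snd G Y' ≫ f') := by
      simp [j, h, AlgGrp.Action.orbitMap]
    let g₀ : G.left := (p' ≫ fst G Y').left (IsLocalRing.closedPoint k)
    have hg₀ : IsClosed {g₀} := ((pointEquivClosedPoint G.hom) ⟨(p' ≫ fst G Y').left, Over.w _⟩).2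
    have hjg : j.left g₀ = p := by
      have := congr(($hj).left (IsLocalRing.closedPoint k))
      rw [Over.comp_left, Scheme.Hom.comp_apply, ActTrans.sec_apply] at this
      exact this
    have hsm : Smooth (j.left ≫ h.left) := by
      rw [← Over.comp_left, horb]
      exact ActTrans.smooth_orbit a htrans _
    have hinj := (SmoothCrit.smooth_iff_cotangent G.hom X.hom (j.left ≫ h.left)
      (by rw [Category.assoc, Over.w h, Over.w j])).1 hsm g₀ hg₀
    have key : ∀ q, j.left g₀ = q → Function.Injective (FixPt.cotangentMapAt h.left q (h.left q) rfl) := by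
      rintro q rfl
      have e := Kleiman.cotangentMapAt_comp j.left h.left g₀
      exact fun c d hcd => hinj ((DFunLike.congr_fun e c).trans
        ((congrArg (FixPt.cotangentMapAt j.left g₀ (j.left g₀) rfl) hcd).trans (DFunLike.congr_fun e d).symm))
    exact key p hjg
  obtain ⟨dG, hdG⟩ : ∃ d : ℕ, topologicalKrullDim G.left = d := by
    let : G.left.Over (Spec (CommRingCat.of k)) := ⟨G.hom⟩
    have : LocallyOfFiniteType (G.left ↘ Spec (CommRingCat.of k)) := ‹LocallyOfFiniteType G.hom›
    exact ⟨_, VarDim.dim_eq (k := k)⟩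
  have hGd := Kleiman.smoothOfRelativeDimension_of_dim G.hom dG hdG
  have hXd := Kleiman.smoothOfRelativeDimension_of_dim X.hom n hn
  have hYd := Kleiman.smoothOfRelativeDimension_of_dim (f ≫ X.hom) r hr
  have hZd := Kleiman.smoothOfRelativeDimension_of_dim (g ≫ X.hom) s hs
  have hPd : SmoothOfRelativeDimension (r + dG) (G ⊗ Y').hom := by
    have := smoothOfRelativeDimension_isStableUnderBaseChange.{u} r
    have : SmoothOfRelativeDimension r (pullback.fst G.hom Y'.hom) :=
      MorphismProperty.pullback_fst (P := @SmoothOfRelativeDimension r) _ _ hYd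
    exact inferInstanceAs (SmoothOfRelativeDimension (r + dG) (pullback.fst G.hom Y'.hom ≫ G.hom))
  let W := pullback h.left g
  let π : W ⟶ G.left := pullback.fst h.left g ≫ (fst G Y').left
  let qW : W ⟶ Spec (CommRingCat.of k) := pullback.snd h.left g ≫ g ≫ X.hom
  have hπ : π ≫ G.hom = qW := by
    simp only [π, qW, Category.assoc, Over.w (fst G Y')]
    rw [← Over.w h, pullback.condition_assoc]
  have hqW : Smooth qW := inferInstance
  have : QuasiCompact (fst G Y').left := inferInstanceAs (QuasiCompact (pullback.fst G.hom Y'.hom))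
  have hqc : QuasiCompact g :=
    have : QuasiCompact (g ≫ X.hom) := ‹_›
    QuasiCompact.of_comp g X.hom
  have : QuasiCompact π := inferInstance
  obtain ⟨V, hV, hπV⟩ := Kleiman.exists_open_smooth qW G.hom π hπ
  refine ⟨V, hV, fun σ hσ fσ hfσ => ?_⟩
  let j : Y' ⟶ G ⊗ Y' := lift (toUnit Y' ≫ σ) (𝟙 Y')
  have hjh : j.left ≫ h.left = fσ := by
    rw [← Over.comp_left, hfσ]
    congr 1
    simp [j, h, f', Y']
  have hsq : IsPullback j.left Y'.hom (fst G Y').left σ.left := by
    have hP : IsPullback (snd G Y').left (fst G Y').left Y'.hom G.hom :=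
      (IsPullback.of_hasPullback G.hom Y'.hom).flip
    refine IsPullback.of_right (h₁₂ := (snd G Y').left) (h₂₂ := G.hom) ?_ ?_ hP
    · have e1 : j.left ≫ (snd G Y').left = 𝟙 Y'.left := by rw [← Over.comp_left]; simp [j]
      have e2 : σ.left ≫ G.hom = 𝟙 (Spec (CommRingCat.of k)) := Over.w σ
      rw [e1, e2]
      exact IsPullback.of_horiz_isIso ⟨by simp⟩
    · rw [← Over.comp_left]
      simp [j]
  let u : pullback fσ g ⟶ W :=
    pullback.map fσ g h.left g j.left (𝟙 Z) (𝟙 X.left) (by simp [hjh]) (by simp)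
  have hu : IsPullback u (pullback.fst fσ g) (pullback.fst h.left g) j.left := by
    refine IsPullback.of_right (h₁₂ := pullback.snd h.left g) (h₂₂ := h.left) ?_ ?_
      (IsPullback.of_hasPullback h.left g).flip
    · rw [hjh, pullback.lift_snd, Category.comp_id]
      exact (IsPullback.of_hasPullback fσ g).flip
    · exact pullback.lift_fst _ _ _
  have hF : IsPullback u (pullback.fst fσ g ≫ Y'.hom) π σ.left := hu.paste_vert hsq
  let σV := IsOpenImmersion.lift V.ι σ.left (by simpa using hσ)
  have hσV : σV ≫ V.ι = σ.left := IsOpenImmersion.lift_fac _ _ _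
  let uV : pullback fσ g ⟶ (π ⁻¹ᵁ V).toScheme :=
    (isPullback_morphismRestrict π V).flip.lift u ((pullback.fst fσ g ≫ Y'.hom) ≫ σV)
      (by rw [Category.assoc, hσV, hF.w])
  have hFV : IsPullback uV (pullback.fst fσ g ≫ Y'.hom) (π ∣_ V) σV :=
    IsPullback.of_right (h₁₂ := (π ⁻¹ᵁ V).ι) (h₂₂ := V.ι)
      (by rw [hσV, IsPullback.lift_fst]; exact hF) (IsPullback.lift_snd _ _ _ _)
      (isPullback_morphismRestrict π V).flip
  have hsmF : Smooth (pullback.fst fσ g ≫ f ≫ X.hom) :=
    MorphismProperty.of_isPullback (P := @Smooth) hFV hπV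
  refine ⟨hsmF, ?_⟩
  rcases isEmpty_or_nonempty ↥(pullback fσ g) with hE | hE
  · exact Or.inl hE
  obtain ⟨x⟩ := hE
  obtain ⟨m, hm, hhm⟩ := Kleiman.exists_relDim (G ⊗ Y').hom X.hom h.left (Over.w h) (r + dG) n
    (pullback.fst h.left g (u x))
  have hWd : SmoothOfRelativeDimension (m + s) qW := by
    have := smoothOfRelativeDimension_isStableUnderBaseChange.{u} m
    have : SmoothOfRelativeDimension m (pullback.snd h.left g) :=
      MorphismProperty.pullback_snd (P := @SmoothOfRelativeDimension m) _ _ hhm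
    infer_instance
  have hVd : SmoothOfRelativeDimension dG (V.ι ≫ G.hom) := by
    have : SmoothOfRelativeDimension (0 + dG) (V.ι ≫ G.hom) := inferInstance
    rwa [Nat.zero_add] at this
  have hπVd : SmoothOfRelativeDimension (m + s) ((π ⁻¹ᵁ V).ι ≫ qW) := by
    have : SmoothOfRelativeDimension (0 + (m + s)) ((π ⁻¹ᵁ V).ι ≫ qW) := inferInstance
    rwa [Nat.zero_add] at this
  obtain ⟨m', hm', hπm⟩ := Kleiman.exists_relDim ((π ⁻¹ᵁ V).ι ≫ qW) (V.ι ≫ G.hom) (π ∣_ V)
    (by rw [morphismRestrict_ι_assoc, hπ]) (m + s) dG (uV x)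
  have := smoothOfRelativeDimension_isStableUnderBaseChange.{u} m'
  have hFd : SmoothOfRelativeDimension m' (pullback.fst fσ g ≫ Y'.hom) :=
    MorphismProperty.of_isPullback (P := @SmoothOfRelativeDimension m') hFV hπm
  have : Nonempty ↥(pullback fσ g) := ⟨x⟩
  refine Or.inr ⟨by omega, ?_⟩
  rw [Kleiman.topologicalKrullDim_eq (pullback.fst fσ g ≫ Y'.hom) m', show r + s - n = m' by omega]

end Groth.Agent.S10928
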