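import Groth.Statements.S10930
import Groth.Agent.Var76.GenSmooth
import Mathlib.AlgebraicGeometry.Morphisms.Smooth
import Mathlib.AlgebraicGeometry.Properties

set_option autoImplicit false
universe u
open CategoryTheory CategoryTheory.Limits AlgebraicGeometry
open Variety

namespace Groth.Agent.S10930

set_option backward.isDefEq.respectTransparency false

/-- Let k be an algebraically closed field of characteristic zero, X and Y varieties over k (integral,
separated and of finite type over k) with X nonsingular, i.e. smooth over k, and f : X → Y a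
k-morphism. Then there is a nonempty open subscheme V of Y such that the restriction f⁻¹(V) → V of f
is smooth. -/
theorem result (k : Type u) [Field k] [IsAlgClosed k] [CharZero k]
    {X Y : Scheme.{u}} (qX : X ⟶ Spec (CommRingCat.of k)) (qY : Y ⟶ Spec (CommRingCat.of k))
    [LocallyOfFiniteType qX] [QuasiCompact qX] [IsSeparated qX] [Smooth qX]
    [LocallyOfFiniteType qY] [QuasiCompact qY] [IsSeparated qY]
    [IsIntegral X] [IsIntegral Y] (f : X ⟶ Y) (hf : f ≫ qY = qX) :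
    ∃ V : Y.Opens, (V : Set ↥Y).Nonempty ∧ Smooth (f ∣_ V) := by
  classical
  obtain ⟨V, hV, hyV, -⟩ := exists_isAffineOpen_mem_and_subset (U := (⊤ : Y.Opens)) (x := genericPoint Y) trivial
  have : Nonempty V := ⟨⟨_, hyV⟩⟩
  have : LocallyOfFiniteType (f ≫ qY) := hf ▸ ‹LocallyOfFiniteType qX›
  have : LocallyOfFiniteType f := locallyOfFiniteType_of_comp f qY
  have : CompactSpace X := QuasiCompact.compactSpace_of_compactSpace qX
  have : QuasiCompact (f ≫ qY) := hf ▸ ‹QuasiCompact qX›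
  have : QuasiCompact f := QuasiCompact.of_comp f qY
  have hc : IsCompact (f ⁻¹ᵁ V : Set X) := f.isCompact_preimage hV.isCompact
  let cY : k →+* Γ(Y, V) := ((Scheme.ΓSpecIso (CommRingCat.of k)).inv ≫ qY.appLE ⊤ V (le_top : V ≤ qY ⁻¹ᵁ ⊤)).hom
  let : Algebra k Γ(Y, V) := cY.toAlgebra
  have hA : Algebra.FiniteType k Γ(Y, V) := by
    have h1 : (qY.appLE ⊤ V (le_top : V ≤ qY ⁻¹ᵁ ⊤)).hom.FiniteType :=
      HasRingHomProperty.appLE @LocallyOfFiniteType qY ‹_› ⟨⊤, isAffineOpen_top _⟩ ⟨V, hV⟩ le_top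
    exact RingHom.finiteType_algebraMap.1 (h1.comp (RingHom.FiniteType.of_surjective _
      (ConcreteCategory.bijective_of_isIso (Scheme.ΓSpecIso (CommRingCat.of k)).inv).2))
  have hchart : ∀ x : ↥(f ⁻¹ᵁ V), ∃ (W : X.Opens) (hW : IsAffineOpen W) (e : W ≤ f ⁻¹ᵁ V),
      (x : X) ∈ W ∧ ∃ a : Γ(Y, V), a ≠ 0 ∧ Smooth ((X.basicOpen (f.appLE V W e a)).ι ≫ f) := by
    intro x
    obtain ⟨W, hW, hxW, e'⟩ := exists_isAffineOpen_mem_and_subset x.2
    have e : W ≤ f ⁻¹ᵁ V := e'
    refine ⟨W, hW, e, hxW, ?_⟩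
    let cX : k →+* Γ(X, W) := ((Scheme.ΓSpecIso (CommRingCat.of k)).inv ≫ qX.appLE ⊤ W (le_top : W ≤ qX ⁻¹ᵁ ⊤)).hom
    let : Algebra k Γ(X, W) := cX.toAlgebra
    let : Algebra Γ(Y, V) Γ(X, W) := (f.appLE V W e).hom.toAlgebra
    have : IsScalarTower k Γ(Y, V) Γ(X, W) := IsScalarTower.of_algebraMap_eq fun r => by
      show qX.appLE ⊤ W (le_top : W ≤ qX ⁻¹ᵁ ⊤) ((Scheme.ΓSpecIso (CommRingCat.of k)).inv r) =
        f.appLE V W e (qY.appLE ⊤ V (le_top : V ≤ qY ⁻¹ᵁ ⊤) ((Scheme.ΓSpecIso (CommRingCat.of k)).inv r))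
      rw [← ConcreteCategory.comp_apply (qY.appLE ⊤ V (le_top : V ≤ qY ⁻¹ᵁ ⊤)), Scheme.Hom.appLE_comp_appLE]
      simp only [hf]
    have hB : Algebra.Smooth k Γ(X, W) := by
      have h1 : (qX.appLE ⊤ W (le_top : W ≤ qX ⁻¹ᵁ ⊤)).hom.Smooth :=
        HasRingHomProperty.appLE @Smooth qX ‹_› ⟨⊤, isAffineOpen_top _⟩ ⟨W, hW⟩ le_top
      exact RingHom.smooth_algebraMap.1 (RingHom.Smooth.comp
        (RingHom.Smooth.of_bijective (ConcreteCategory.bijective_of_isIso (Scheme.ΓSpecIso (CommRingCat.of k)).inv)) h1)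
    obtain ⟨a, ha, hsm⟩ := Groth.Agent.Var76.GenSmooth.exists_smooth k (A := Γ(Y, V)) (B := Γ(X, W))
    refine ⟨a, ha, ?_⟩
    let g := f.appLE V W e a
    have hU : IsAffineOpen (X.basicOpen g) := hW.basicOpen g
    have eU : X.basicOpen g ≤ f ⁻¹ᵁ V := (X.basicOpen_le g).trans e
    have : IsLocalization.Away g Γ(X, X.basicOpen g) := hW.isLocalization_basicOpen g
    let : Algebra Γ(Y, V) Γ(X, X.basicOpen g) := (f.appLE V (X.basicOpen g) eU).hom.toAlgebra
    have : IsScalarTower Γ(Y, V) Γ(X, W) Γ(X, X.basicOpen g) := IsScalarTower.of_algebraMap_eq fun b => by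
      show f.appLE V (X.basicOpen g) _ b = X.presheaf.map _ (f.appLE V W e b)
      rw [← ConcreteCategory.comp_apply]
      exact congrArg (fun h => h b) (Scheme.Hom.appLE_map f e (homOfLE (X.basicOpen_le g)).op).symm
    have hs : Algebra.Smooth Γ(Y, V) Γ(X, X.basicOpen g) := Algebra.Smooth.of_equiv
      ((IsLocalization.algEquiv (Submonoid.powers g) (Localization.Away g) Γ(X, X.basicOpen g)).restrictScalars Γ(Y, V))
    have : MorphismProperty.RespectsIso @Smooth := MorphismProperty.IsStableUnderBaseChange.respectsIso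
    rw [show (X.basicOpen g).ι ≫ f = hU.isoSpec.hom ≫ Spec.map (f.appLE V (X.basicOpen g) eU) ≫ hV.fromSpec by
      rw [IsAffineOpen.SpecMap_appLE_fromSpec f hV hU eU, IsAffineOpen.fromSpec, Category.assoc,
        Iso.hom_inv_id_assoc],
      MorphismProperty.cancel_left_of_respectsIso @Smooth]
    have : Smooth (Spec.map (f.appLE V (X.basicOpen g) eU)) := by
      rw [HasRingHomProperty.Spec_iff (P := @Smooth)]
      exact RingHom.smooth_algebraMap.2 hs
    have : IsOpenImmersion hV.fromSpec := IsAffineOpen.isOpenImmersion_fromSpec hV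
    infer_instance
  choose W hW e hxW a ha hsm using hchart
  obtain ⟨T, hT⟩ := hc.elim_finite_subcover (fun x => (W x : Set X)) (fun x => (W x).2)
    (fun x hx => Set.mem_iUnion.2 ⟨⟨x, hx⟩, hxW ⟨x, hx⟩⟩)
  let b := ∏ x ∈ T, a x
  have hb : b ≠ 0 := Finset.prod_ne_zero_iff.2 fun x _ => ha x
  refine ⟨Y.basicOpen b, ?_, ?_⟩
  · rw [Set.nonempty_iff_ne_empty]
    intro h
    exact hb ((basicOpen_eq_bot_iff b).1 (TopologicalSpace.Opens.ext h))
  have hle : f ⁻¹ᵁ Y.basicOpen b ≤ ⨆ x : T, X.basicOpen (f.appLE V (W x) (e x) (a x)) := by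
    intro z hz
    have hzV : f z ∈ V := Y.basicOpen_le b hz
    obtain ⟨x, hx, hzW⟩ := Set.mem_iUnion₂.1 (hT hzV)
    refine TopologicalSpace.Opens.mem_iSup.2 ⟨⟨x, hx⟩, ?_⟩
    have hza : f z ∈ Y.basicOpen (a x) := by
      have h2 : b = a x * ∏ y ∈ T.erase x, a y := (Finset.mul_prod_erase T a hx).symm
      have hz' : f z ∈ Y.basicOpen b := hz
      rw [h2, Scheme.basicOpen_mul] at hz'
      exact hz'.1
    rw [Scheme.Hom.appLE, ConcreteCategory.comp_apply, Scheme.basicOpen_res]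
    refine ⟨hzW, ?_⟩
    rw [← Scheme.preimage_basicOpen]
    exact hza
  have hrestr : Smooth ((f ⁻¹ᵁ Y.basicOpen b).ι ≫ f) := by
    have : IsZariskiLocalAtSource @Smooth := HasRingHomProperty.instIsZariskiLocalAtSource (Q := RingHom.Smooth)
    rw [IsZariskiLocalAtSource.iff_of_iSup_eq_top (P := @Smooth)
      (fun x : T => (f ⁻¹ᵁ Y.basicOpen b).ι ⁻¹ᵁ X.basicOpen (f.appLE V (W x) (e x) (a x))) (by
        rw [eq_top_iff]
        intro z _
        obtain ⟨x, hx⟩ := TopologicalSpace.Opens.mem_iSup.1 (hle z.2)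
        exact TopologicalSpace.Opens.mem_iSup.2 ⟨x, hx⟩)]
    intro x
    let U := X.basicOpen (f.appLE V (W x.1) (e x.1) (a x.1))
    have := hsm x.1
    rw [← morphismRestrict_ι_assoc]
    infer_instance
  have hpb : IsPullback (𝟙 _) (f ∣_ Y.basicOpen b) (f ∣_ Y.basicOpen b ≫ (Y.basicOpen b).ι) (Y.basicOpen b).ι :=
    IsPullback.of_isLimit' ⟨by simp⟩ (PullbackCone.IsLimit.mk _ (fun s => s.fst) (fun s => by simp)
      (fun s => by rw [← cancel_mono (Y.basicOpen b).ι, Category.assoc]; exact s.condition)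
      (fun s m h1 _ => by simpa using h1))
  refine MorphismProperty.of_isPullback (P := @Smooth) hpb ?_
  rw [morphismRestrict_ι]
  exact hrestr

end Groth.Agent.S10930
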