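import Groth.Statements.S10931
import Groth.Agent.PDual19.ExtPowDual
import Groth.Agent.Om3.TopForms
import Groth.Agent.Lift3.SmallExt
import Groth.Agent.Kvb46.Local
import Groth.Agent.SerreD94.FinDual
import Groth.Agent.Om3.OmegaPn
import Groth.Agent.KRR40.LamPull
import Groth.Agent.CAlg8.Canon.ProjSmooth

set_option autoImplicit false
universe u
open CategoryTheory CategoryTheory.Limits AlgebraicGeometry
open ProjDual

namespace Groth.Agent.S10931

/-- Let k be a field, p ≤ r and q ≤ r natural numbers, P = P^r_k with structure map to Spec k, Ω =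
Ω^1_{P/k} (the conormal sheaf of the diagonal), L an O_P-module which is a p-th exterior power of Ω
and L' one which is an (r − p)-th exterior power of Ω, and d an integer; write M(d) = M ⊗ O_P(d).
Then H^q(P, L(d)) = H^q(P^r, Ω^p(d)) and H^{r−q}(P, L'(−d)) = H^{r−q}(P^r, Ω^{r−p}(−d)) have the
same dimension over k. (The published statement asserts an isomorphism between these two cohomology
groups, obtained from Serre duality; this row records the equality of dimensions.) -/
theorem result (k : Type u) [Field k] (r p q : ℕ)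
    (hp : p ≤ r) (hq : q ≤ r) (L L' : (CohB1.ProjSpace r k).Modules)
    (hL : ExtPow.IsExtPow p (Omega.sheaf (CohB1.ProjSpace.toSpec r k)) L)
    (hL' : ExtPow.IsExtPow (r - p) (Omega.sheaf (CohB1.ProjSpace.toSpec r k)) L') (d : ℤ) :
    Module.finrank k (Coh.HH (CohB1.ProjSpace r k) (CohB1.tensorMod L (Twist.twistProjSpace r k d)) q) =
      Module.finrank k (Coh.HH (CohB1.ProjSpace r k)
        (CohB1.tensorMod L' (Twist.twistProjSpace r k (-d))) (r - q)) := by
  haveI := Serre71.isProper_projSpace r k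
  haveI : IsLocallyNoetherian (CohB1.ProjSpace r k) :=
    LocallyOfFiniteType.isLocallyNoetherian (CohB1.ProjSpace.toSpec r k)
  haveI := CAlg8.Canon.smoothOfRelativeDimension_toSpec r k
  haveI : (Omega.sheaf (CohB1.ProjSpace.toSpec r k)).IsQuasicoherent := Omega57.isQuasicoherent_omega _
  have hE : FlatMod.IsFinLocFreeOfRank r (Omega.sheaf (CohB1.ProjSpace.toSpec r k)) :=
    Om3.TopForms.isFinLocFreeOfRank_omega (CohB1.ProjSpace.toSpec r k) r
  have hEf : FlatMod.IsFinLocFree (Omega.sheaf (CohB1.ProjSpace.toSpec r k)) :=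
    fun x => (hE x).imp fun U hU => ⟨r, hU⟩
  have hW : ExtPow.IsExtPow r (Omega.sheaf (CohB1.ProjSpace.toSpec r k)) (SerreD94.omega r k) := by
    have := Om3.OmegaPn.isExtPow_twist (n := r) (k := k)
    convert this using 3
    simp [SerreD94.eω]
    try ring
  obtain ⟨e⟩ := Groth.Agent.PDual19.nonempty_extPow_iso_hom hE (Nat.add_sub_cancel' hp) hL hL' hW
  have hLf := KRR40.vb_extPow hEf hL
  have hT : FlatMod.IsFinLocFree (Twist.twistProjSpace r k d) :=
    Lift3.SmallExt.isFinLocFree_of_isInvertible (Var76.Reg.isInvertible_twist d)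
  let F := CohB1.tensorMod L (Twist.twistProjSpace r k d)
  have hF : FlatMod.IsFinLocFree F := Kvb46.isFinLocFree_tensor hLf hT
  have hFc : Coh.IsCoh F := ⟨Props58.LocFree.isQuasicoherent_of_isFinLocFree hF,
    Props58.LocFree.isFiniteType_of_isFinLocFree hF⟩
  obtain ⟨z⟩ := Var76.Reg.nonempty_twist_zero (n := r) (A := k)
  obtain ⟨a₁⟩ := Var76.Reg.nonempty_twist_add (n := r) (A := k) (show d + -d = 0 by ring)
  obtain ⟨a₂⟩ := Var76.Reg.nonempty_twist_add (n := r) (A := k) (show -d + d = 0 by ring)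
  obtain ⟨b⟩ := SerreD94.nonempty_homMod_of_inverse (a₁ ≪≫ z) (a₂ ≪≫ z) (QC70.homMod L (SerreD94.omega r k))
  let c : QC70.homMod F (SerreD94.omega r k) ≅ CohB1.tensorMod L' (Twist.twistProjSpace r k (-d)) :=
    (QC70.homTensorIso' (Twist.twistProjSpace r k d) L).app (SerreD94.omega r k) ≪≫ b ≪≫
      EGA73.tensIso e.symm (Iso.refl _)
  have h := SerreD94.finrank_hh_hom_eq r k (r - q) F hFc hF (Nat.sub_le r q)
  rw [Nat.sub_sub_self hq] at h
  exact h.symm.trans (Crv77.hEquiv k c (r - q)).finrank_eq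

end Groth.Agent.S10931
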