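import Groth.Statements.S10932
import Groth.Agent.S11495
import Mathlib
import Groth.Agent.CAlg6.RegularNormal
import Groth.Agent.S11495

set_option autoImplicit false
universe u
open CategoryTheory
open CAlg
open Groth.Agent
open CategoryTheory

namespace Groth.Agent.S10932

/-- Let A be a (Noetherian) regular local ring of Krull dimension n and M a finitely generated A-module
such that Ext^j_A(M, A) = 0 for every j with 1 ≤ j ≤ n. Then M is projective, hence a free A-module. -/
theorem result (A : Type u) [CommRing A] [IsRegularLocalRing A]
    (n : ℕ) (hn : ringKrullDim A = n) (M : Type u) [AddCommGroup M] [Module A M] [Module.Finite A M]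
    (h : ∀ j : ℕ, 1 ≤ j → j ≤ n →
      Subsingleton (Abelian.Ext (ModuleCat.of A M) (ModuleCat.of A A) j)) :
    Module.Free A M := by
  have h1 : HasProjectiveDimensionLT (ModuleCat.of A M) 1 := by
    refine (Groth.Agent.S11495.result A M 0).2 fun i hi => ?_
    by_cases hin : i ≤ n
    · exact h i hi hin
    · have := CAlg1.hasPD_of_regular A hn (ModuleCat.of A M)
      exact HasProjectiveDimensionLT.subsingleton _ (n + 1) i (by omega) _
  have hp : Projective (ModuleCat.of A M) := projective_iff_hasProjectiveDimensionLT_one.2 h1
  have : Module.Projective A M := (IsProjective.iff_projective _).2 hp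
  exact Module.free_of_flat_of_isLocalRing

end Groth.Agent.S10932
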