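import Groth.Statements.S10933
import Groth.Agent.S11495
import Mathlib
import Groth.Agent.CAlg6.RegularNormal
import Groth.Agent.S11495

set_option autoImplicit false
universe u
open CategoryTheory
open CAlg
open Groth.Agent
open CategoryTheory

namespace Groth.Agent.S10933

/-- Let A be a (Noetherian) regular local ring, M a finitely generated A-module and d a natural number.
Then the projective dimension of M equals d if and only if Ext^j_A(M, A) = 0 for every j > d and
Ext^d_A(M, A) ≠ 0. (Projective dimension valued in WithBot ℕ∞, the zero module having projective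
dimension ⊥.) -/
theorem result (A : Type u) [CommRing A] [IsRegularLocalRing A]
    (M : Type u) [AddCommGroup M] [Module A M] [Module.Finite A M] (d : ℕ) :
    projectiveDimension (ModuleCat.of A M) = (d : WithBot ℕ∞) ↔
      ((∀ j : ℕ, d < j → Subsingleton (Abelian.Ext (ModuleCat.of A M) (ModuleCat.of A A) j)) ∧
        Nontrivial (Abelian.Ext (ModuleCat.of A M) (ModuleCat.of A A) d)) := by
  have hle : ∀ e : ℕ, HasProjectiveDimensionLT (ModuleCat.of A M) (e + 1) ↔
      ∀ j : ℕ, e < j → Subsingleton (Abelian.Ext (ModuleCat.of A M) (ModuleCat.of A A) j) :=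
    Groth.Agent.S11495.result A M
  rcases Nat.eq_zero_or_pos d with rfl | hd
  · rcases subsingleton_or_nontrivial M with hM | hM
    · have hz : Limits.IsZero (ModuleCat.of A M) := ModuleCat.isZero_of_subsingleton _
      rw [(projectiveDimension_eq_bot_iff _).2 hz]
      refine iff_of_false (by simp) fun h => ?_
      have := h.2
      obtain ⟨x, y, hxy⟩ := this
      exact hxy (Abelian.Ext.homEquiv₀.injective (by
        apply ModuleCat.hom_ext; apply LinearMap.ext; intro m
        rw [Subsingleton.elim m 0, map_zero, map_zero]))
    · have hnz : ¬ Limits.IsZero (ModuleCat.of A M) := fun h =>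
        not_subsingleton M (ModuleCat.subsingleton_of_isZero h)
      constructor
      · intro h
        have h1 : HasProjectiveDimensionLT (ModuleCat.of A M) (0 + 1) :=
          (projectiveDimension_le_iff _ 0).1 h.le
        refine ⟨(hle 0).1 h1, ?_⟩
        have hp : Projective (ModuleCat.of A M) := projective_iff_hasProjectiveDimensionLT_one.2 h1
        have : Module.Projective A M := (IsProjective.iff_projective _).2 hp
        have : Module.Free A M := Module.free_of_flat_of_isLocalRing
        let b := Module.Free.chooseBasis A M
        obtain ⟨i⟩ := b.index_nonempty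
        have : Nontrivial (ModuleCat.of A M ⟶ ModuleCat.of A A) :=
          ⟨⟨ModuleCat.ofHom (b.coord i), 0, fun h => by
            have := congrArg (fun g => g.hom (b i)) h
            simp at this⟩⟩
        exact Abelian.Ext.homEquiv₀.nontrivial
      · rintro ⟨h1, h2⟩
        refine le_antisymm ((projectiveDimension_le_iff _ 0).2 ((hle 0).2 h1)) ?_
        rw [projectiveDimension_ge_iff]
        exact fun h => hnz ((hasProjectiveDimensionLT_zero_iff_isZero _).1 h)
  · obtain ⟨e, rfl⟩ : ∃ e, d = e + 1 := ⟨d - 1, by omega⟩
    constructor
    · intro h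
      have h1 := (hle (e + 1)).1 ((projectiveDimension_le_iff _ (e + 1)).1 h.le)
      refine ⟨h1, ?_⟩
      by_contra hnt
      rw [not_nontrivial_iff_subsingleton] at hnt
      have h2 := (hle e).2 fun j hj => by
        rcases eq_or_lt_of_le (Nat.succ_le_of_lt hj) with rfl | hj'
        · exact hnt
        · exact h1 j hj'
      exact (projectiveDimension_ge_iff _ (e + 1)).1 h.ge h2
    · rintro ⟨h1, h2⟩
      refine le_antisymm ((projectiveDimension_le_iff _ _).2 ((hle (e + 1)).2 h1)) ?_
      rw [projectiveDimension_ge_iff]
      intro h3
      exact not_subsingleton _ ((hle e).1 h3 (e + 1) (by omega))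

end Groth.Agent.S10933
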