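import Groth.Statements.S10934
import Groth.Agent.PDual19.CMDim

set_option autoImplicit false
universe u
open CategoryTheory CategoryTheory.Limits AlgebraicGeometry
open ProjDual

namespace Groth.Agent.S10934

/-- (a)⇔(b): let k be a field, i : X → P^N_k a closed immersion with X of dimension n, and write F(−q) =
F ⊗ i^*O(−q). Then X is an equidimensional Cohen–Macaulay scheme of dimension n — the local ring of
X at every closed point is Cohen–Macaulay of Krull dimension n — if and only if for every finite
locally free O_X-module F (vector bundle) there is q₀ such that H^j(X, F(−q)) = 0 for all j < n and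
all q ≥ q₀. -/
theorem result (k : Type u) [Field k] (N n : ℕ)
    {X : Scheme.{u}} (i : X ⟶ CohB1.ProjSpace N k) [IsClosedImmersion i] (hn : topologicalKrullDim ↥X = n) :
    (∀ x : X, IsClosed ({x} : Set ↥X) →
        LocCoh.IsCohenMacaulayLocalRing (X.presheaf.stalk x) ∧ ringKrullDim (X.presheaf.stalk x) = n) ↔
      ∀ F : X.Modules, FlatMod.IsFinLocFree F → ∃ q₀ : ℕ, ∀ q : ℕ, q₀ ≤ q → ∀ j : ℕ, j < n →
        Subsingleton (Coh.HH X (CohB1.tensorMod F
          ((Scheme.Modules.pullback i).obj (Twist.twistProjSpace N k (-(q : ℤ))))) j) := by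
  haveI := LGlob19.isLocallyNoetherian_sub k N i
  constructor
  · intro hCM F hF
    have hFc : Coh.IsCoh F := ⟨Groth.Agent.Props58.LocFree.isQuasicoherent_of_isFinLocFree hF,
      Groth.Agent.Props58.LocFree.isFiniteType_of_isFinLocFree hF⟩
    obtain ⟨m₀, hm₀⟩ := (PDual19.exists_vanishX_iff k N i hFc n).2 fun z hz => by
      haveI := (Groth.Agent.Div89.isFinLocFree_iff_free_stalks hFc).1 hF z
      haveI := hFc.1
      haveI := hFc.2
      haveI : Module.Finite (X.presheaf.stalk z) (F.presheaf.stalk z) := Groth.Agent.QC70.finite_stalk F z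
      rcases subsingleton_or_nontrivial (F.presheaf.stalk z) with h | h
      · rw [Groth.Agent.EGA4Alg4.depth_of_subsingleton]
        exact le_top
      rw [Groth.Agent.CAlg1.depth_eq_of_free, PDual19.depth_eq_of_cm n (hCM z hz).1 (hCM z hz).2]
    exact ⟨m₀.toNat, fun q hq j hj => hm₀ q (by omega) j hj⟩
  · intro h z hz
    refine PDual19.cm_of_depth n hn z ?_
    rw [← PDual19.depth_unit_stalk]
    obtain ⟨q₀, hq₀⟩ := h (Coh.structureModule X) (fun x =>
      (Groth.Agent.Mero90.isFinLocFreeOfRank_of_isInvertible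
        (Groth.Agent.EGA73.isInvertible_structureModule (X := X)) x).imp fun _ hU => ⟨1, hU⟩)
    refine (PDual19.exists_vanishX_iff k N i (Groth.Agent.QC70.isCoh_unit) n).1 ⟨q₀, fun m hm j hj => ?_⟩ z hz
    obtain ⟨q, rfl⟩ := Int.eq_ofNat_of_zero_le ((Int.natCast_nonneg q₀).trans hm)
    exact hq₀ q (by omega) j hj

end Groth.Agent.S10934
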