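import Groth.Statements.S10935
import Groth.Agent.Ega11.RegLocal
import Groth.Agent.Div89.WeakAss
import Groth.Agent.FlatMor68.Basic
import Groth.Agent.Cyc90.Gen
import Mathlib.RingTheory.Flat.TorsionFree
import Mathlib.AlgebraicGeometry.Morphisms.Flat
import Mathlib.Topology.KrullDimension
import Mathlib.RingTheory.Ideal.AssociatedPrime.Localization
import Groth.Agent.FlatMor68.DedekindFlat

set_option autoImplicit false
universe u
open CategoryTheory CategoryTheory.Limits AlgebraicGeometry
open FlatMor

namespace Groth.Agent.S10935

open CategoryTheory CategoryTheory.Limits AlgebraicGeometry TopologicalSpace IsLocalRing Groth.Agent.FlatMor68.Basic Groth.Agent.Cyc90 Groth.Agent.FlatMor68.DedekindFlat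

/-- Let Y be an integral, regular (every local ring a regular local ring), one-dimensional scheme with
generic point η, X a Noetherian scheme and f : X → Y a morphism. Then f is flat if and only if every
associated point x of X — a point such that the maximal ideal of O_{X,x} is an associated prime of
O_{X,x} — satisfies f(x) = η. -/
theorem result {X Y : Scheme.{u}} (f : X ⟶ Y)
    [IsIntegral Y] (hreg : ∀ y : Y, IsRegularLocalRing (Y.presheaf.stalk y))
    (hY : topologicalKrullDim ↥Y = 1) [IsNoetherian X] :
    Flat f ↔ ∀ x : X, Curv2.IsAssPoint (Coh.structureModule X) x → f.base x = genericPoint ↥Y := by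
  have hY' : ∀ y : Y, IsDomain (Y.presheaf.stalk y) ∧ IsPrincipalIdealRing (Y.presheaf.stalk y) := fun y =>
    have := hreg y
    ⟨inferInstance, isPrincipalIdealRing_of_regular _ ((stalk_dim_le y).trans hY.le)⟩
  have hmax : ∀ z : Y, z ⤳ genericPoint Y → z = genericPoint Y := fun z hz =>
    (hz.antisymm (genericPoint_specializes z)).eq
  constructor
  · intro hf x hx
    have hm := eq_zero_of_assPoint_flat f x hx
    have h := genericPoint_specializes (f x)
    have : genPrime h = closedPoint _ := by
      refine PrimeSpectrum.ext (le_antisymm (IsLocalRing.le_maximalIdeal (genPrime h).2.ne_top) ?_)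
      exact hm.le.trans bot_le
    rw [← genPrime_refl] at this
    exact ((genPrime_eq_iff h (specializes_refl (f x))).1 this).symm
  · intro h
    rw [flat_iff_nzd f hY']
    intro x a ha
    refine nzd_of_ass f x a fun z hz hza => ?_
    refine isUnit_spec_generic _ (fun w hw => ?_) a ha
    rw [show f z = genericPoint Y from h z hza] at hw ⊢
    exact hmax w hw

end Groth.Agent.S10935
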