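import Groth.Statements.S10937
import Groth.Agent.Var76.OmegaSmooth
import Groth.Agent.Props58.LocFree.Basis

set_option autoImplicit false
universe u
open CategoryTheory CategoryTheory.Limits AlgebraicGeometry
open Variety

namespace Groth.Agent.S10937

open Groth.Agent
open scoped TensorProduct

set_option backward.isDefEq.respectTransparency false

theorem smooth_const {k : Type u} [Field k] {Y : Scheme.{u}} [Y.Over (Spec (CommRingCat.of k))]
    [Smooth (Y ↘ Spec (CommRingCat.of k))] {W : Y.Opens} (hW : IsAffineOpen W) :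
    letI := (Var76.BertiniScheme.const (k := k) Y W).toAlgebra
    Algebra.Smooth k Γ(Y, W) := by
  let φ := CommRingCat.ofHom (Var76.BertiniScheme.const (k := k) Y W)
  have h : Smooth (Spec.map φ) := by
    rw [show Spec.map φ = hW.fromSpec ≫ _ from Var76.BertiniScheme.SpecMap_const (k := k) (Y := Y) hW]
    infer_instance
  rw [HasRingHomProperty.Spec_iff (P := @Smooth)] at h
  exact h

theorem omega_rank {X Y : Scheme.{u}} (f : X ⟶ Y) [QuasiSeparated f] (n : ℕ)
    (h : FlatMod.IsFinLocFreeOfRank n (Omega.sheaf f)) (x : X) :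
    ∃ (V : Y.Opens) (_ : IsAffineOpen V) (W : X.Opens) (_ : IsAffineOpen W) (_ : x ∈ W) (e : W ≤ f ⁻¹ᵁ V),
      letI := (f.appLE V W e).hom.toAlgebra
      Nonempty (Ω[Γ(X, W)⁄Γ(Y, V)] ≃ₗ[Γ(X, W)] (Fin n → Γ(X, W))) := by
  classical
  obtain ⟨U, hxU, ⟨i⟩⟩ := h x
  obtain ⟨_, ⟨V, hV, rfl⟩, hxV, -⟩ := Y.isBasis_affineOpens.exists_subset_of_mem_open
    (show f x ∈ (⊤ : Y.Opens) from trivial) (⊤ : Y.Opens).isOpen
  obtain ⟨_, ⟨W, hW, rfl⟩, hxW, hWle⟩ := X.isBasis_affineOpens.exists_subset_of_mem_open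
    (show x ∈ (U ⊓ f ⁻¹ᵁ V : X.Opens) from ⟨hxU, hxV⟩) (U ⊓ f ⁻¹ᵁ V : X.Opens).isOpen
  obtain ⟨s, hs⟩ := Props58.LocFree.exists_stalkBasis_of_iso i
  have e : W ≤ f ⁻¹ᵁ V := fun y hy => (hWle hy).2
  letI := (f.appLE V W e).hom.toAlgebra
  obtain ⟨j⟩ := Var76.OmegaSmooth.exists_equiv f hW hV e
  let l := Fintype.linearCombination Γ(X, W)
    (fun t => Groth.Agent.QC70.res (Omega.sheaf f) (show W ≤ U from fun y hy => (hWle hy).1) (s t))
  exact ⟨V, hV, W, hW, hxW, e, ⟨j ≪≫ₗ (LinearEquiv.ofBijective l (by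
    convert hs.bijective (show W ≤ U from fun y hy => (hWle hy).1) using 1
    funext a
    simp [l, Fintype.linearCombination_apply])).symm⟩⟩

/-- (a)⇔(b): let k be an algebraically closed field, X and Y nonsingular varieties over k (integral,
separated, of finite type and smooth over k) with dim Y = dY and dim X = dY + n, and f : X → Y a
k-morphism. Then f is smooth of relative dimension n if and only if Ω_{X/Y} (the conormal sheaf of
the diagonal of f) is locally free of rank n. -/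
theorem result (k : Type u) [Field k] [IsAlgClosed k]
    {X Y : Scheme.{u}} (qX : X ⟶ Spec (CommRingCat.of k)) (qY : Y ⟶ Spec (CommRingCat.of k))
    [IsIntegral X] [IsSeparated qX] [LocallyOfFiniteType qX] [QuasiCompact qX] [Smooth qX]
    [IsIntegral Y] [IsSeparated qY] [LocallyOfFiniteType qY] [QuasiCompact qY] [Smooth qY]
    (f : X ⟶ Y) (hf : f ≫ qY = qX) (n dY : ℕ) (hY : topologicalKrullDim ↥Y = dY)
    (hX : topologicalKrullDim ↥X = ((dY + n : ℕ) : WithBot ℕ∞)) :
    SmoothOfRelativeDimension n f ↔ FlatMod.IsFinLocFreeOfRank n (Omega.sheaf f) := by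
  have : IsSeparated (f ≫ qY) := hf ▸ ‹IsSeparated qX›
  have : IsSeparated f := IsSeparated.of_comp f qY
  constructor
  · intro hs x
    obtain ⟨V, hV, W, hW, hxW, e, hstd⟩ := hs.exists_isStandardSmoothOfRelativeDimension x
    letI := (f.appLE V W e).hom.toAlgebra
    have : Algebra.IsStandardSmoothOfRelativeDimension n Γ(Y, V) Γ(X, W) :=
      (RingHom.isStandardSmoothOfRelativeDimension_algebraMap n).1 hstd
    have := this.isStandardSmooth
    have : Nonempty W := ⟨⟨x, hxW⟩⟩
    have : Module.Finite Γ(X, W) Ω[Γ(X, W)⁄Γ(Y, V)] := inferInstance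
    have hr : Module.finrank Γ(X, W) Ω[Γ(X, W)⁄Γ(Y, V)] = n :=
      Module.finrank_eq_of_rank_eq (Algebra.IsStandardSmoothOfRelativeDimension.rank_kaehlerDifferential n)
    obtain ⟨j⟩ := Var76.OmegaSmooth.exists_equiv f hW hV e
    have : (Omega.sheaf f).IsQuasicoherent := Omega57.isQuasicoherent_omega f
    exact ⟨W, hxW, FlatMor68.LocFree.restrict_iso_free (Omega.sheaf f) hW n
      (j.symm ≪≫ₗ (Module.finBasisOfFinrankEq _ _ hr).equivFun)⟩
  · intro h
    let : X.Over (Spec (CommRingCat.of k)) := ⟨qX⟩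
    let : Y.Over (Spec (CommRingCat.of k)) := ⟨qY⟩
    have : LocallyOfFiniteType (X ↘ Spec (CommRingCat.of k)) := ‹LocallyOfFiniteType qX›
    have : LocallyOfFiniteType (Y ↘ Spec (CommRingCat.of k)) := ‹LocallyOfFiniteType qY›
    have : Smooth (X ↘ Spec (CommRingCat.of k)) := ‹Smooth qX›
    have : Smooth (Y ↘ Spec (CommRingCat.of k)) := ‹Smooth qY›
    have : Smooth f := by
      rw [HasRingHomProperty.iff_exists_appLE (P := @Smooth)
        (RingHom.Smooth.stableUnderComposition.stableUnderCompositionWithLocalizationAway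
          RingHom.Smooth.holdsForLocalizationAway).1]
      intro x
      obtain ⟨V, hV, W, hW, hxW, e, ⟨j⟩⟩ := omega_rank f n h x
      refine ⟨⟨V, hV⟩, ⟨W, hW⟩, hxW, e, ?_⟩
      have : Nonempty W := ⟨⟨x, hxW⟩⟩
      have : Nonempty V := ⟨⟨f x, e hxW⟩⟩
      letI : Algebra k Γ(Y, V) := (Var76.BertiniScheme.const (k := k) Y V).toAlgebra
      letI : Algebra k Γ(X, W) := (Var76.BertiniScheme.const (k := k) X W).toAlgebra
      letI : Algebra Γ(Y, V) Γ(X, W) := (f.appLE V W e).hom.toAlgebra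
      have : Algebra.Smooth k Γ(Y, V) := smooth_const hV
      have : Algebra.Smooth k Γ(X, W) := smooth_const hW
      have : IsScalarTower k Γ(Y, V) Γ(X, W) := IsScalarTower.of_algebraMap_eq fun r => by
        show qX.appLE ⊤ W (le_top : W ≤ qX ⁻¹ᵁ ⊤) ((Scheme.ΓSpecIso (CommRingCat.of k)).inv r) =
          f.appLE V W e (qY.appLE ⊤ V (le_top : V ≤ qY ⁻¹ᵁ ⊤) ((Scheme.ΓSpecIso (CommRingCat.of k)).inv r))
        rw [← ConcreteCategory.comp_apply (qY.appLE ⊤ V _), Scheme.Hom.appLE_comp_appLE]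
        simp only [hf]
      have : Module.Free Γ(X, W) Ω[Γ(X, W)⁄Γ(Y, V)] := Module.Free.of_equiv j.symm
      exact RingHom.smooth_algebraMap.2 (Var76.OmegaSmooth.smooth_of_free k dY n
        (by rw [(Var76.VarDim.trdeg_chart (k := k) hV).1, Var76.VarDim.trdegFF_eq (k := k) hY])
        (by rw [(Var76.VarDim.trdeg_chart (k := k) hW).1, Var76.VarDim.trdegFF_eq (k := k) hX])
        (by rw [j.finrank_eq, Module.finrank_fin_fun]))
    exact Var76.RelDim.smoothOfRelativeDimension qX qY f hf dY n hY hX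

end Groth.Agent.S10937
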