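import Groth.Statements.S10938
import Groth.Agent.Var76.CotRank
import Groth.Agent.S10929

set_option autoImplicit false
universe u
open CategoryTheory CategoryTheory.Limits AlgebraicGeometry
open Variety

namespace Groth.Agent.S10938


set_option backward.isDefEq.respectTransparency false

open TopologicalSpace Groth.Agent.Var76 Topology

theorem isIrreducible_univ_of_inducing {α β : Type*} [TopologicalSpace α] [TopologicalSpace β] {f : α → β}
    (hf : IsInducing f) (h : IsIrreducible (Set.range f)) : IsIrreducible (Set.univ : Set α) := by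
  obtain ⟨_, a, rfl⟩ := h.nonempty
  refine ⟨⟨a, trivial⟩, fun U V hU hV hUne hVne => ?_⟩
  obtain ⟨U', hU', rfl⟩ := hf.isOpen_iff.1 hU
  obtain ⟨V', hV', rfl⟩ := hf.isOpen_iff.1 hV
  obtain ⟨x, -, hx⟩ := hUne
  obtain ⟨y, -, hy⟩ := hVne
  obtain ⟨_, ⟨z, rfl⟩, hz1, hz2⟩ := h.2 U' V' hU' hV' ⟨f x, ⟨x, rfl⟩, hx⟩ ⟨f y, ⟨y, rfl⟩, hy⟩
  exact ⟨z, trivial, hz1, hz2⟩

/-- Let k be an algebraically closed field of characteristic zero, X and Y schemes of finite type over
k, f : X → Y a k-morphism and r a natural number. Let X_r be the set of closed points x of X such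
that the tangent map T_x f : T_x X → T_{f(x)} Y has rank at most r — equivalently, the image of the
cotangent map m_{f(x)}/m_{f(x)}^2 → m_x/m_x^2 is contained in the span of at most r vectors over the
residue field. Then the closure of f(X_r) in Y has (topological Krull) dimension at most r. -/
theorem result (k : Type u) [Field k] [IsAlgClosed k] [CharZero k]
    {X Y : Scheme.{u}} (qX : X ⟶ Spec (CommRingCat.of k)) (qY : Y ⟶ Spec (CommRingCat.of k))
    [LocallyOfFiniteType qX] [QuasiCompact qX] [LocallyOfFiniteType qY] [QuasiCompact qY]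
    (f : X ⟶ Y) (hf : f ≫ qY = qX) (r : ℕ) :
    topologicalKrullDim ↥(closure (f.base '' {x : ↥X | IsClosed ({x} : Set ↥X) ∧
      ∃ S : Finset (IsLocalRing.CotangentSpace (X.presheaf.stalk x)), S.card ≤ r ∧
        (LinearMap.range (FixPt.cotangentMapAt f x (f.base x) rfl) : Set (IsLocalRing.CotangentSpace (X.presheaf.stalk x))) ⊆
          (Submodule.span (IsLocalRing.ResidueField (X.presheaf.stalk x))
            (S : Set (IsLocalRing.CotangentSpace (X.presheaf.stalk x))) : Set (IsLocalRing.CotangentSpace (X.presheaf.stalk x)))})) ≤ r := by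
  classical
  set T := {x : ↥X | IsClosed ({x} : Set ↥X) ∧
      ∃ S : Finset (IsLocalRing.CotangentSpace (X.presheaf.stalk x)), S.card ≤ r ∧
        (LinearMap.range (FixPt.cotangentMapAt f x (f.base x) rfl) : Set (IsLocalRing.CotangentSpace (X.presheaf.stalk x))) ⊆
          (Submodule.span (IsLocalRing.ResidueField (X.presheaf.stalk x))
            (S : Set (IsLocalRing.CotangentSpace (X.presheaf.stalk x))) : Set (IsLocalRing.CotangentSpace (X.presheaf.stalk x)))}
  have : IsLocallyNoetherian X := LocallyOfFiniteType.isLocallyNoetherian qX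
  have : CompactSpace X := QuasiCompact.compactSpace_of_compactSpace qX
  have : IsNoetherian X := {}
  have : NoetherianSpace T := NoetherianSpace.set T
  have hfin : (irreducibleComponents T).Finite := NoetherianSpace.finite_irreducibleComponents
  have hpiece : ∀ M : Set X, IsIrreducible M → M ⊆ T → topologicalKrullDim ↥(closure (f.base '' M)) ≤ r := by
    intro M hM hMT
    let ZP : Closeds X := ⟨closure M, isClosed_closure⟩
    let ZQ : Closeds Y := ⟨closure (f.base '' M), isClosed_closure⟩
    let iP := (Scheme.IdealSheafData.vanishingIdeal ZP).subschemeι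
    let iQ := (Scheme.IdealSheafData.vanishingIdeal ZQ).subschemeι
    have hrP : Set.range iP = closure M := SchBasics.range_vanishingIdeal_subschemeι ZP
    have hrQ : Set.range iQ = closure (f.base '' M) := SchBasics.range_vanishingIdeal_subschemeι ZQ
    let P := (Scheme.IdealSheafData.vanishingIdeal ZP).subscheme
    let Q := (Scheme.IdealSheafData.vanishingIdeal ZQ).subscheme
    have : IsReduced P := SchBasics.isReduced_vanishingIdeal_subscheme ZP
    have : IsReduced Q := SchBasics.isReduced_vanishingIdeal_subscheme ZQ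
    have hirrP : IrreducibleSpace P := by
      have hu : IsIrreducible (Set.univ : Set P) := by
        refine isIrreducible_univ_of_inducing iP.isClosedEmbedding.isEmbedding.isInducing ?_
        rw [hrP]
        exact hM.closure
      exact (irreducibleSpace_def P).2 hu
    have hirrQ : IrreducibleSpace Q := by
      have hM' : IsIrreducible (closure (f.base '' M)) := (hM.image _ f.continuous.continuousOn).closure
      have hu : IsIrreducible (Set.univ : Set Q) := by
        refine isIrreducible_univ_of_inducing iQ.isClosedEmbedding.isEmbedding.isInducing ?_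
        rw [hrQ]
        exact hM'
      exact (irreducibleSpace_def Q).2 hu
    have : IsIntegral P := isIntegral_of_irreducibleSpace_of_isReduced P
    have : IsIntegral Q := isIntegral_of_irreducibleSpace_of_isReduced Q
    have hsub : Set.range (iP ≫ f) ⊆ Set.range iQ := by
      rintro _ ⟨p, rfl⟩
      rw [hrQ, Scheme.Hom.comp_apply]
      exact image_closure_subset_closure_image f.continuous ⟨iP p, hrP ▸ ⟨p, rfl⟩, rfl⟩
    let g : P ⟶ Q := IsClosedImmersion.lift iQ (iP ≫ f) (SchBasics.ker_le_ker_of_range_subset _ _ hsub)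
    have hgι : g ≫ iQ = iP ≫ f := IsClosedImmersion.lift_fac _ _ _
    have hgq : g ≫ iQ ≫ qY = iP ≫ qX := by rw [reassoc_of% hgι, hf]
    have hdense : Dense (iP ⁻¹' M) := by
      intro p
      rw [iP.isClosedEmbedding.isEmbedding.closure_eq_preimage_closure_image, Set.mem_preimage,
        Set.image_preimage_eq_inter_range, hrP, Set.inter_eq_left.2 subset_closure, ← hrP]
      exact ⟨p, rfl⟩
    have hdom : DenseRange g.base := by
      intro q
      rw [iQ.isClosedEmbedding.isEmbedding.closure_eq_preimage_closure_image, Set.mem_preimage]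
      refine closure_mono ?_ (hrQ ▸ ⟨q, rfl⟩ : iQ q ∈ closure (f.base '' M))
      rintro _ ⟨m, hm, rfl⟩
      obtain ⟨p, rfl⟩ : m ∈ Set.range iP := hrP ▸ subset_closure hm
      exact ⟨g p, ⟨p, rfl⟩, by rw [← Scheme.Hom.comp_apply, hgι]; rfl⟩
    obtain ⟨U, hU, hUsm⟩ := S10929.result k (iP ≫ qX) (iQ ≫ qY) g hgq hdom
    have : LocallyOfFinitePresentation (iP ≫ qX) := ActTrans.lfp_of_lft _
    let U' : P.Opens := U ⊓ (iP ≫ qX).smoothLocus
    have hU' : (U' : Set P).Nonempty :=
      nonempty_preirreducible_inter U.2 (iP ≫ qX).smoothLocus.2 hU (iP ≫ qX).dense_smoothLocus_of_perfectField.nonempty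
    obtain ⟨p, hpU, hpM⟩ := hdense.inter_open_nonempty _ U'.2 hU'
    obtain ⟨hpc, S, hScard, hS⟩ := hMT hpM
    have hq1 : Smooth (U'.ι ≫ iP ≫ qX) := by
      have : LocallyOfFinitePresentation (U'.ι ≫ iP ≫ qX) := ActTrans.lfp_of_lft _
      rw [← Scheme.Hom.smoothLocus_eq_top_iff, ← Scheme.Hom.preimage_smoothLocus_eq, eq_top_iff]
      exact fun z _ => z.2.2
    have hq2 : Smooth (U'.ι ≫ g) := by
      rw [← P.homOfLE_ι (inf_le_left : U' ≤ U), Category.assoc]
      infer_instance
    let x' : U' := ⟨p, hpU⟩
    let j := U'.ι ≫ iP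
    have hjx : j x' = iP p := rfl
    have hx' : IsClosed ({x'} : Set U') := by
      have h1 : ({x'} : Set U') = j ⁻¹' {iP p} := by
        ext z
        simp only [Set.mem_singleton_iff, Set.mem_preimage]
        refine ⟨fun h => h ▸ hjx, fun h => U'.ι.isOpenEmbedding.injective (iP.isClosedEmbedding.injective ?_)⟩
        exact h
      rw [h1]; exact hpc.preimage j.continuous
    let h' := U'.ι ≫ g
    have hcomm : j ≫ f = h' ≫ iQ := by simp only [j, h', Category.assoc, hgι]
    have hd := CotRank.dim_le_card_of_factor (U'.ι ≫ iP ≫ qX) (iQ ≫ qY) h'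
      (by simp only [h', Category.assoc, hgq]) iQ j f hcomm x' hx' S (fun w => hS ⟨w, rfl⟩)
    have hcard : (S.card : WithBot ℕ∞) ≤ (r : WithBot ℕ∞) := Nat.cast_le.2 hScard
    refine le_trans (le_of_eq ?_) (hd.trans hcard)
    let e := iQ.isClosedEmbedding.isEmbedding.toHomeomorph.trans (Homeomorph.setCongr hrQ)
    exact (IsHomeomorph.topologicalKrullDim_eq _ e.isHomeomorph).symm
  let C := closure (f.base '' T)
  let piece : irreducibleComponents T → Set ↥C := fun Z =>
    Subtype.val ⁻¹' closure (f.base '' (Subtype.val '' (Z.1 : Set T)))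
  have := hfin.to_subtype
  rw [TopDim50.dim_eq_iSup_of_locallyFinite_closed_cover piece
    (fun Z => isClosed_closure.preimage continuous_subtype_val) (locallyFinite_of_finite piece) ?_]
  · refine iSup_le fun Z => ?_
    refine le_trans ?_ (hpiece (Subtype.val '' (Z.1 : Set T)) (Z.2.1.image _ continuous_subtype_val.continuousOn)
      (by rintro _ ⟨z, _, rfl⟩; exact z.2))
    have hind : IsInducing (Set.codRestrict (fun z : piece Z => (z.1.1 : Y))
        (closure (f.base '' (Subtype.val '' (Z.1 : Set T)))) (fun z => z.2)) :=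
      (IsInducing.subtypeVal.comp IsInducing.subtypeVal).codRestrict _
    exact Topology.IsInducing.topologicalKrullDim_le hind
  · refine Set.eq_univ_of_forall fun c => ?_
    have hU : f.base '' T = ⋃ Z : irreducibleComponents T, f.base '' (Subtype.val '' (Z.1 : Set T)) := by
      rw [← Set.image_iUnion, ← Set.image_iUnion, ← Set.sUnion_eq_iUnion, sUnion_irreducibleComponents,
        Set.image_univ, Subtype.range_coe]
    have hc : c.1 ∈ ⋃ Z : irreducibleComponents T, closure (f.base '' (Subtype.val '' (Z.1 : Set T))) := by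
      rw [← closure_iUnion_of_finite, ← hU]
      exact c.2
    obtain ⟨Z, hZ⟩ := Set.mem_iUnion.1 hc
    exact Set.mem_iUnion.2 ⟨Z, hZ⟩

end Groth.Agent.S10938
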