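import Groth.Statements.S10940
import Groth.Agent.Var76.HypCover
import Groth.Agent.Curves2.ProjLineProper

set_option autoImplicit false
universe u
open CategoryTheory CategoryTheory.Limits AlgebraicGeometry
open Variety

namespace Groth.Agent.S10940

open Groth.Agent

set_option backward.isDefEq.respectTransparency false

/-- Let k be a field and X a quasi-projective variety over k of dimension r: an integral scheme with an
immersion j : X → P^n_k. Then X admits a cover by r + 1 affine open subschemes. (Consequently the
cohomology of every quasi-coherent O_X-module vanishes above degree r; that consequence is the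
general vanishing above the number of affines in a cover and is not restated here. The published
statement is for varieties over an algebraically closed field; the argument, r + 1 hypersurfaces
through the boundary of the closure of X, works over any field, so k is an arbitrary field here.) -/
theorem result (k : Type u) [Field k] (n r : ℕ)
    {X : Scheme.{u}} (j : X ⟶ CohB1.ProjSpace n k) [IsImmersion j] [IsIntegral X]
    (hX : topologicalKrullDim ↥X = r) :
    ∃ U : Fin (r + 1) → X.Opens, (∀ i, IsAffineOpen (U i)) ∧ ⨆ i, U i = ⊤ := by
  have : IsProper (CohB1.ProjSpace.toSpec n k) := Curves2.ProjLine.isProper_toSpec k n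
  have : IsLocallyNoetherian (CohB1.ProjSpace n k) :=
    LocallyOfFiniteType.isLocallyNoetherian (CohB1.ProjSpace.toSpec n k)
  have : CompactSpace ↥(CohB1.ProjSpace n k) :=
    QuasiCompact.compactSpace_of_compactSpace (CohB1.ProjSpace.toSpec n k)
  have : IsNoetherian (CohB1.ProjSpace n k) := {}
  have : TopologicalSpace.NoetherianSpace X := j.isEmbedding.isInducing.noetherianSpace
  have : QuasiCompact j := inferInstance
  let R : Set ↥(CohB1.ProjSpace n k) := Set.range j
  have hlc : IsLocallyClosed R := j.isLocallyClosed_range
  obtain ⟨g, hg1, hg2, hg3⟩ := Var76.HypCover.exists_cover j (closure R \ R)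
    (isOpen_compl_iff.1 hlc.isOpen_coborder) r hX.le
  let D : Fin (r + 1) → (CohB1.ProjSpace n k).Opens := fun i => Proj.basicOpen (CohB1.polyGrading n k) (g i)
  refine ⟨fun i => j ⁻¹ᵁ D i, fun i => ?_, ?_⟩
  · obtain ⟨d, hd, hgd⟩ := hg1 i
    have hD : IsAffineOpen (D i) := Proj.isAffineOpen_basicOpen (CohB1.polyGrading n k) (g i) hgd hd
    have hYD : closure R \ R ⊆ ((D i : Set ↥(CohB1.ProjSpace n k)))ᶜ := hg2 i
    have hclosed : IsClosed (Set.range (j ∣_ D i)) := by
      have heq : Set.range (j ∣_ D i) = (Subtype.val : (D i) → _) ⁻¹' closure R := by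
        ext ⟨y, hy⟩
        constructor
        · rintro ⟨z, hz⟩
          have h := morphismRestrict_base_coe j (D i) z
          rw [hz] at h
          exact subset_closure ⟨z.1, h.symm⟩
        · intro hyc
          by_cases hyR : y ∈ R
          · obtain ⟨x, rfl⟩ := hyR
            exact ⟨⟨x, hy⟩, Subtype.ext (morphismRestrict_base_coe j (D i) ⟨x, hy⟩)⟩
          · exact absurd hy (hYD ⟨hyc, hyR⟩)
      rw [heq]
      exact isClosed_closure.preimage continuous_subtype_val
    have : IsAffine (D i).toScheme := hD
    have : IsPreimmersion (j ∣_ D i) := by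
      have h : IsImmersion (j ∣_ D i) := inferInstance
      infer_instance
    have : IsClosedImmersion (j ∣_ D i) := IsClosedImmersion.of_isPreimmersion _ hclosed
    exact isAffine_of_isAffineHom (j ∣_ D i)
  · refine top_unique fun x _ => ?_
    obtain ⟨l, hl⟩ := hg3 x fun h => h.2 ⟨x, rfl⟩
    exact TopologicalSpace.Opens.mem_iSup.2 ⟨l, hl⟩

end Groth.Agent.S10940
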