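import Groth.Statements.S10942
import Groth.Agent.QC70.SheafHomFlasque

set_option autoImplicit false
set_option backward.isDefEq.respectTransparency.types false
universe u
open CategoryTheory AlgebraicGeometry Opposite
open Coherent

namespace Groth.Agent.S10942

/-- Let X be a scheme, F an O_X-module for which the internal Hom functor Hom(F, -) exists (as the right
adjoint of F ⊗ -; always true) and I an injective object of the category of O_X-modules. Then the
O_X-module Hom(F, I) is flasque: for all opens U ⊆ V of X the restriction map Hom(F, I)(V) → Hom(F,
I)(U) is surjective. -/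
theorem result (X : Scheme.{u}) (F I : X.Modules)
    [DCoh.HasSheafHom F] (hI : Injective I) (U V : X.Opens) (hUV : U ≤ V) :
    Function.Surjective (((DCoh.sheafHom F).obj I).val.map (homOfLE hUV).op).hom := by
  haveI : Mono (homOfLE hUV) := ⟨fun _ _ _ => Subsingleton.elim _ _⟩
  haveI : Injective (C := ModSite.Mod X.sheaf) I := hI
  haveI : ((ModSite.tensorBi X.sheaf).obj F).IsLeftAdjoint := ‹DCoh.HasSheafHom F›
  exact QC70.restriction_surjective_sheafHom (O := X.sheaf) F I (homOfLE hUV)

end Groth.Agent.S10942
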