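import Groth.Statements.S10944
import Mathlib.AlgebraicGeometry.Morphisms.UniversallyOpen
import Mathlib.AlgebraicGeometry.Cover.QuasiCompact
import Groth.Agent.FlatMor68.Basic

set_option autoImplicit false
universe u
open CategoryTheory AlgebraicGeometry
open FlatMor

namespace Groth.Agent.S10944

open CategoryTheory CategoryTheory.Limits AlgebraicGeometry TopologicalSpace Groth.Agent.FlatMor68.Basic

/-- Let f : X → Y be a flat morphism of Noetherian schemes and Y' an irreducible component of Y. Then
f⁻¹(Y') is the union of the irreducible components Z of X with f(Z) ⊆ Y'. -/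
theorem result {X Y : Scheme.{u}}
    [IsNoetherian X] [IsNoetherian Y] (f : X ⟶ Y) [Flat f]
    (Y' : Set ↥Y) (hY' : Y' ∈ irreducibleComponents ↥Y) :
    f.base ⁻¹' Y' = ⋃₀ {Z : Set ↥X | Z ∈ irreducibleComponents ↥X ∧ f.base '' Z ⊆ Y'} := by
  refine Set.Subset.antisymm (fun x hx => ?_) ?_
  · have hg := hY'.1.isGenericPoint_genericPoint (isClosed_of_mem_irreducibleComponents _ hY')
    obtain ⟨x', hx', hfx'⟩ := (Flat.generalizingMap f) (hg.specializes hx)
    obtain ⟨Z, hZ, hsub⟩ := exists_mem_irreducibleComponents_subset_of_isIrreducible {x'} isIrreducible_singleton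
    have hZc := isClosed_of_mem_irreducibleComponents _ hZ
    have hZg := hZ.1.isGenericPoint_genericPoint hZc
    refine ⟨Z, ⟨hZ, ?_⟩, hx'.mem_closed hZc (hsub rfl)⟩
    have h1 : f hZ.1.genericPoint ⤳ hY'.1.genericPoint := hfx' ▸ (hZg.specializes (hsub rfl)).map f.continuous
    have h2 : Y' ⊆ closure {f hZ.1.genericPoint} := by
      rw [← hg.def]
      exact specializes_iff_closure_subset.1 h1
    have h3 := hY'.2 isIrreducible_singleton.closure h2
    rintro _ ⟨z, hz, rfl⟩
    exact h3 (specializes_iff_mem_closure.1 ((hZg.specializes hz).map f.continuous))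
  · rintro x ⟨Z, ⟨-, hZ⟩, hx⟩
    exact hZ ⟨x, hx, rfl⟩

end Groth.Agent.S10944
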