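import Groth.Statements.S10946
import Groth.Agent.QCFilt57.FPGen
import Groth.Agent.TopCoh49.ColimCoh
import Groth.Agent.QCAlgMod72.RS
import Groth.Agent.Coh69.AffVanish

set_option autoImplicit false
set_option backward.isDefEq.respectTransparency.types false
universe u
open CategoryTheory AlgebraicGeometry
open Coherent

namespace Groth.Agent.S10946

/-- Let X be a Noetherian separated scheme and n a natural number such that H^i(X, F) = 0 for all
coherent O_X-modules F and all i > n. Then H^i(X, G) = 0 for all quasi-coherent O_X-modules G and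
all i > n. -/
theorem result (X : Scheme.{u}) [IsNoetherian X]
    [X.IsSeparated] (n : ℕ)
    (h : ∀ F : X.Modules, Coh.IsCoh F → ∀ i : ℕ, n < i → Subsingleton (Coh.HH X F i))
    (G : X.Modules) (hG : Coh.IsQCoh G) (i : ℕ) (hi : n < i) :
    Subsingleton (Coh.HH X G i) := by
  obtain ⟨I, _, _, D, c, hc, hD, rfl⟩ := QCFilt57.exists_diagram G hG
  haveI : ∀ k, Subsingleton (Coh69.HE (Coh.toAb (D.obj k)) i (⊤ : X.Opens)) := fun k => by
    haveI : (D.obj k).IsFinitePresentation := hD k
    have := h (D.obj k) ⟨inferInstance, inferInstance⟩ i hi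
    exact (Coh69.hhEquiv (D.obj k) i).symm.toEquiv.subsingleton
  let F := D ⋙ SheafOfModules.toSheaf X.ringCatSheaf
  haveI := QCAlgMod72.preservesColimitsOfShape_toSheaf X.ringCatSheaf I
  let e : Limits.colimit F ≅ Coh.toAb c.pt :=
    (Limits.colimit.isColimit F).coconePointUniqueUpToIso (Limits.isColimitOfPreserves (SheafOfModules.toSheaf X.ringCatSheaf) hc)
  haveI : Subsingleton (TopCoh49.E (Limits.colimit F) i (⊤ : X.Opens)) := by
    refine subsingleton_of_forall_eq 0 fun y => ?_
    obtain ⟨k, x, rfl⟩ := (TopCoh49.colim_E (X := X.carrier) (U := ⊤) isCompact_univ i F).1 y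
    rw [(show Subsingleton (TopCoh49.E (F.obj k) i (⊤ : X.Opens)) from
      (inferInstance : Subsingleton (Coh69.HE (Coh.toAb (D.obj k)) i (⊤ : X.Opens)))).elim x 0, map_zero]
  haveI : Subsingleton (Coh69.HE (Coh.toAb c.pt) i (⊤ : X.Opens)) := by
    refine subsingleton_of_forall_eq 0 fun x => ?_
    rw [← Abelian.Ext.comp_mk₀_id x, ← e.inv_hom_id, ← Abelian.Ext.mk₀_comp_mk₀,
      ← Abelian.Ext.comp_assoc_of_second_deg_zero]
    exact (congrArg (fun y => Abelian.Ext.comp y (Abelian.Ext.mk₀ e.hom) (add_zero i))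
      ((‹Subsingleton (TopCoh49.E (Limits.colimit F) i (⊤ : X.Opens))›).elim (x.comp (Abelian.Ext.mk₀ e.inv) (add_zero i)) 0)).trans (Abelian.Ext.zero_comp _ _ _ _ _)
  exact (Coh69.hhEquiv c.pt i).toEquiv.subsingleton

end Groth.Agent.S10946
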