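import Groth.Statements.S10947
import Groth.Agent.CD47.NegPow
import Groth.Agent.CD47.Resolution
import Groth.Agent.Var76.RegTools
import Groth.Agent.Var76.RegMaps
import Groth.Agent.EGA73.VeryAmplePnAmple
import Groth.Agent.Amp73.QA

set_option autoImplicit false
set_option backward.isDefEq.respectTransparency.types false
universe u
open CategoryTheory AlgebraicGeometry
open Coherent

namespace Groth.Agent.S10947

/-- Let k be a field and X a quasi-projective scheme over k, given with an immersion ι : X → P^N_k into
a projective space. If n is a natural number with H^i(X, E) = 0 for all finite locally free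
O_X-modules E and all i > n, then H^i(X, F) = 0 for all coherent O_X-modules F (quasi-coherent of
finite type) and all i > n. -/
theorem result
    (k : Type u) [Field k] (N : ℕ) {X : Scheme.{u}} (ι : X ⟶ CohB1.ProjSpace N k) [IsImmersion ι]
    (n : ℕ) (h : ∀ E : X.Modules, FlatMod.IsFinLocFree E → ∀ i : ℕ, n < i → Subsingleton (Coh.HH X E i))
    (F : X.Modules) (hF : Coh.IsCoh F) (i : ℕ) (hi : n < i) :
    Subsingleton (Coh.HH X F i) := by
  haveI : TopologicalSpace.NoetherianSpace X := ι.isEmbedding.isInducing.noetherianSpace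
  haveI : IsLocallyNoetherian X := LocallyOfFiniteType.isLocallyNoetherian ι
  haveI : AlgebraicGeometry.IsNoetherian X := {}
  have hL : CohB1.IsAmple ((Scheme.Modules.pullback ι).obj (Twist.twistProjSpace N k 1)) :=
    Amp73.isAmple_pullback_of_isEmbedding ι ι.isEmbedding (EGA73.VeryAmplePnAmple.isAmple_twistProjSpace k N)
  have hM : ClSub.IsInverseOf ((Scheme.Modules.pullback ι).obj (Twist.twistProjSpace N k (-1)))
      ((Scheme.Modules.pullback ι).obj (Twist.twistProjSpace N k 1)) := by
    obtain ⟨t⟩ := Var76.Reg.nonempty_twist_add (n := N) (A := k) (show (-1 : ℤ) + 1 = 0 by norm_num)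
    obtain ⟨z⟩ := Var76.Reg.nonempty_twist_zero (n := N) (A := k)
    haveI := Amp73.isIso_pullTensHom ι (Var76.Reg.isInvertible_twist (n := N) (A := k) (-1))
      (Var76.Reg.isInvertible_twist (n := N) (A := k) 1)
    exact ⟨(asIso (Amp73.pullTensHom ι _ _)).symm ≪≫ (Scheme.Modules.pullback ι).mapIso (t ≪≫ z) ≪≫
      PicLoc.pullbackStructureIso ι⟩
  refine CD47.subsingleton_of_exists_epi n (fun G hG => ?_) F hF i hi
  obtain ⟨c, a, P, π, -, hfree, hepi⟩ := CD47.exists_epi_negPow hL hM 0 G hG
  exact ⟨⨁ P, π, CD47.isCoh_of_isFinLocFree hfree, hepi, h _ hfree⟩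

end Groth.Agent.S10947
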