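import Groth.Statements.S10953
import Mathlib.AlgebraicGeometry.PullbackCarrier
import Mathlib.AlgebraicGeometry.Morphisms.Separated
import Mathlib.AlgebraicGeometry.Morphisms.Immersion
set_option backward.isDefEq.respectTransparency.types false

set_option autoImplicit false
universe u
open RedSep

namespace Groth.Agent.S10953

open AlgebraicGeometry CategoryTheory in
/-- For a morphism of schemes f : X → S to an affine scheme S such that any two points of X with the
same image in S lie in one common affine open subset of X, the morphism f is separated. -/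
theorem result {X S : Scheme.{u}} [IsAffine S] (f : X ⟶ S)
    (h : ∀ x y : X, f x = f y → ∃ U : X.Opens, IsAffineOpen U ∧ x ∈ U ∧ y ∈ U) :
    IsSeparated f := by
  refine ⟨IsClosedImmersion.of_isPreimmersion _ ?_⟩
  rw [← closure_subset_iff_isClosed]
  intro z hz
  obtain ⟨U, hU, hx, hy⟩ := h (Limits.pullback.fst f f z) (Limits.pullback.snd f f z) (by
    rw [← Scheme.Hom.comp_apply, ← Scheme.Hom.comp_apply, Limits.pullback.condition])
  have : IsAffine U := hU
  let m : Limits.pullback (U.ι ≫ f) (U.ι ≫ f) ⟶ Limits.pullback f f :=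
    Limits.pullback.map _ _ _ _ U.ι U.ι (𝟙 S) (by simp) (by simp)
  have hm : IsOpenImmersion m :=
    MorphismProperty.pullbackMap (P := @IsOpenImmersion) (i₁ := U.ι) (i₂ := U.ι) inferInstance inferInstance rfl rfl
  have hΔ : U.ι ≫ Limits.pullback.diagonal f = Limits.pullback.diagonal (U.ι ≫ f) ≫ m := by
    apply Limits.pullback.hom_ext
    · erw [Category.assoc, Category.assoc, Limits.pullback.lift_fst, Limits.pullback.lift_fst, Limits.pullback.lift_fst_assoc]; simp
    · erw [Category.assoc, Category.assoc, Limits.pullback.lift_snd, Limits.pullback.lift_snd, Limits.pullback.lift_snd_assoc]; simp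
  have hrm : Set.range m = Limits.pullback.fst f f ⁻¹' Set.range U.ι ∩ Limits.pullback.snd f f ⁻¹' Set.range U.ι :=
    Scheme.Pullback.range_map _ _ _ _ _ _ _ _ _
  have hzm : z ∈ Set.range m := by
    rw [hrm, Scheme.Opens.range_ι]; exact ⟨hx, hy⟩
  obtain ⟨w, rfl⟩ := hzm
  have hsub : Set.range m ∩ Set.range (Limits.pullback.diagonal f) ⊆
      m '' Set.range (Limits.pullback.diagonal (U.ι ≫ f)) := by
    rintro _ ⟨hmem, x, rfl⟩
    rw [hrm, Scheme.Opens.range_ι] at hmem
    have hxU : x ∈ U := by
      have := hmem.1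
      rw [Set.mem_preimage, ← Scheme.Hom.comp_apply, Limits.pullback.diagonal_fst] at this
      exact this
    exact ⟨_, ⟨⟨x, hxU⟩, rfl⟩, by rw [← Scheme.Hom.comp_apply, ← hΔ]; rfl⟩
  have := closure_mono hsub (m.isOpenEmbedding.isOpen_range.inter_closure ⟨⟨w, rfl⟩, hz⟩)
  have hw : w ∈ Set.range (Limits.pullback.diagonal (U.ι ≫ f)) := by
    rw [← (Scheme.Hom.isClosedEmbedding (Limits.pullback.diagonal (U.ι ≫ f))).isClosed_range.closure_eq,
      m.isOpenEmbedding.isInducing.closure_eq_preimage_closure_image]
    exact this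
  obtain ⟨u, rfl⟩ := hw
  exact ⟨U.ι u, by rw [← Scheme.Hom.comp_apply, hΔ]; rfl⟩

end Groth.Agent.S10953
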