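import Groth.Statements.S10954
import Groth.Agent.Serre69.Criterion

set_option autoImplicit false
set_option backward.isDefEq.respectTransparency.types false
universe u
open Coherent

namespace Groth.Agent.S10954

open AlgebraicGeometry CategoryTheory CategoryTheory.Limits Opposite in
/-- Let X be a quasi-compact scheme such that, for every short exact sequence 0 → F' → F → F'' → 0 of
quasi-coherent O_X-modules whose first term F' admits a monomorphism into a finite direct sum of
copies of O_X, taking global sections gives a surjection F(X) → F''(X). Then X is affine. (The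
published statement is an equivalence of three conditions on a quasi-compact scheme; this row states
the implication from exactness of global sections on such sequences to affineness.) -/
theorem result (X : Scheme.{u}) [CompactSpace X]
    (h : ∀ (S : ShortComplex X.Modules) (n : ℕ)
      (j : S.X₁ ⟶ ∏ᶜ (fun _ : Fin n => Coh.structureModule X)),
      S.ShortExact → Mono j → Coh.IsQCoh S.X₁ → Coh.IsQCoh S.X₂ → Coh.IsQCoh S.X₃ →
        Function.Surjective (S.g.val.app (op ⊤)).hom) :
    IsAffine X := by
  refine Groth.Agent.Serre69.isAffine_of_liftsIdeals (S := X) ?_
  intro K j hj hK M N i g w hS hM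
  haveI : Epi g := hS.epi_g
  haveI := hj
  haveI : Mono (Pi.lift fun _ : Fin 1 => (j : K ⟶ Coh.structureModule X)) :=
    mono_of_mono_fac (Pi.lift_π (fun _ : Fin 1 => (j : K ⟶ Coh.structureModule X)) 0)
  haveI : (ShortComplex.mk i g w).X₁.IsQuasicoherent := hK
  haveI : (ShortComplex.mk i g w).X₂.IsQuasicoherent := hM
  exact h (ShortComplex.mk i g w) 1 (Pi.lift fun _ => j) hS inferInstance hK hM
    (Groth.Agent.QC70.isQuasicoherent_X₃ (ShortComplex.mk i g w) hS)

end Groth.Agent.S10954
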