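import Groth.Statements.S10956
import Mathlib

set_option autoImplicit false
universe u
open scoped TensorProduct
open CAlg
open TensorProduct
set_option maxHeartbeats 1000000
set_option synthInstance.maxHeartbeats 100000

namespace Groth.Agent.S10956

/-- Let R be a commutative ring, A and B commutative R-algebras and T = A ⊗_R B, an A-algebra through
the left factor. There is a T-linear map r from Ω_{T/R} to T ⊗_A Ω_{A/R} sending d(a ⊗ b) to (1 ⊗ b)
⊗ da for all a in A and b in B, and together with the canonical map Ω_{T/R} → Ω_{T/A} it identifies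
Ω_{T/R} with the product (T ⊗_A Ω_{A/R}) × Ω_{T/A}. (The published statement is the isomorphism of
(Ω_{A/R} ⊗_R B) ⊕ (A ⊗_R Ω_{B/R}) with Ω_{T/R} matching the exterior differentials; it is stated
here through the canonical identifications T ⊗_A Ω_{A/R} = Ω_{A/R} ⊗_R B and Ω_{T/A} = A ⊗_R
Ω_{B/R}.) -/
theorem result (R A B : Type u) [CommRing R] [CommRing A] [CommRing B]
    [Algebra R A] [Algebra R B] :
    ∃ r : Ω[(A ⊗[R] B)⁄R] →ₗ[A ⊗[R] B] ((A ⊗[R] B) ⊗[A] Ω[A⁄R]),
      (∀ (a : A) (b : B), r (KaehlerDifferential.D R (A ⊗[R] B) (a ⊗ₜ[R] b)) =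
          ((1 : A) ⊗ₜ[R] b) ⊗ₜ[A] KaehlerDifferential.D R A a) ∧
        Function.Bijective (fun ω : Ω[(A ⊗[R] B)⁄R] =>
          (r ω, KaehlerDifferential.map R A (A ⊗[R] B) (A ⊗[R] B) ω)) := by
  let T := A ⊗[R] B
  let f : A →ₗ[R] B →ₗ[R] T ⊗[A] Ω[A⁄R] :=
    LinearMap.mk₂ R (fun a b => ((1 : A) ⊗ₜ[R] b) ⊗ₜ[A] KaehlerDifferential.D R A a)
      (fun a a' b => by rw [map_add, tmul_add])
      (fun c a b => by rw [Derivation.map_smul, ← algebraMap_smul A c (KaehlerDifferential.D R A a),
        tmul_smul, algebraMap_smul])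
      (fun a b b' => by rw [tmul_add (1 : A), add_tmul])
      (fun c a b => by rw [tmul_smul, ← smul_tmul'])
  let L : T →ₗ[R] T ⊗[A] Ω[A⁄R] := TensorProduct.lift f
  have hL : ∀ (a : A) (b : B), L (a ⊗ₜ[R] b) = ((1 : A) ⊗ₜ[R] b) ⊗ₜ[A] KaehlerDifferential.D R A a :=
    fun a b => rfl
  have hmul : ∀ x y : T, L (x * y) = x • L y + y • L x := by
    intro x y
    induction x using TensorProduct.induction_on with
    | zero => simp
    | add s t hs ht => rw [add_mul, map_add, hs, ht, map_add, add_smul, smul_add]; abel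
    | tmul a b =>
      induction y using TensorProduct.induction_on with
      | zero => simp
      | add s t hs ht => rw [mul_add, map_add, hs, ht, map_add, add_smul, smul_add]; abel
      | tmul c d =>
        rw [Algebra.TensorProduct.tmul_mul_tmul, hL, hL, hL, Derivation.leibniz, tmul_add, smul_tmul',
          smul_tmul', tmul_smul, tmul_smul, smul_tmul', smul_tmul', smul_tmul', smul_tmul']
        simp [mul_comm b d]
        refine congrArg₂ (· + ·) (congrArg (fun z : T => z ⊗ₜ[A] KaehlerDifferential.D R A c) ?_)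
          (congrArg (fun z : T => z ⊗ₜ[A] KaehlerDifferential.D R A a) ?_)
        · show (a ⊗ₜ[R] (d * b) : A ⊗[R] B) = (a ⊗ₜ[R] b : A ⊗[R] B) * ((1 : A) ⊗ₜ[R] d)
          rw [Algebra.TensorProduct.tmul_mul_tmul, mul_one, mul_comm]
        · show (c ⊗ₜ[R] (d * b) : A ⊗[R] B) = (c ⊗ₜ[R] d : A ⊗[R] B) * ((1 : A) ⊗ₜ[R] b)
          rw [Algebra.TensorProduct.tmul_mul_tmul, mul_one]
  let D' : Derivation R T (T ⊗[A] Ω[A⁄R]) := Derivation.mk' L hmul
  let r := D'.liftKaehlerDifferential
  have hr : ∀ x, r (KaehlerDifferential.D R T x) = L x := fun x => D'.liftKaehlerDifferential_comp_D x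
  refine ⟨r, fun a b => (hr _).trans (hL a b), ?_⟩
  let g := KaehlerDifferential.mapBaseChange R A T
  have hsplit : ∀ z, r (g z) = z := by
    intro z
    induction z using TensorProduct.induction_on with
    | zero => simp
    | add s t hs ht => rw [map_add, map_add, hs, ht]
    | tmul t ω =>
      rw [KaehlerDifferential.mapBaseChange_tmul, map_smul]
      have key : r (KaehlerDifferential.map R R A T ω) = (1 : T) ⊗ₜ[A] ω := by
        have : (r.restrictScalars A).comp (KaehlerDifferential.map R R A T) = TensorProduct.mk A T Ω[A⁄R] 1 := by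
          refine LinearMap.ext_on (KaehlerDifferential.span_range_derivation R A) ?_
          rintro _ ⟨a, rfl⟩
          show r (KaehlerDifferential.map R R A T (KaehlerDifferential.D R A a)) = _
          rw [KaehlerDifferential.map_D, hr]
          exact (hL a 1)
        exact LinearMap.congr_fun this ω
      rw [key, smul_tmul', smul_eq_mul, mul_one]
  have hex := KaehlerDifferential.exact_mapBaseChange_map R A T
  have hsurj := KaehlerDifferential.map_surjective R A T
  refine ⟨fun x y h => ?_, fun ⟨z, η⟩ => ?_⟩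
  · simp only [Prod.mk.injEq] at h
    obtain ⟨z, hz⟩ := (hex (x - y)).1 (by rw [map_sub, h.2, sub_self])
    have : z = 0 := by
      have h1 := hsplit z
      rw [show r (g z) = r (x - y) from congrArg r hz, map_sub, h.1, sub_self] at h1
      exact h1.symm
    rw [this, map_zero] at hz
    exact sub_eq_zero.1 hz.symm
  · obtain ⟨ω, hω⟩ := hsurj η
    refine ⟨ω + g (z - r ω), Prod.ext ?_ ?_⟩
    · show r (ω + g (z - r ω)) = z
      rw [map_add, hsplit, add_sub_cancel]
    · show KaehlerDifferential.map R A T T (ω + g (z - r ω)) = η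
      rw [map_add, hω, show KaehlerDifferential.map R A T T (g (z - r ω)) = 0 from hex.apply_apply_eq_zero _,
        add_zero]

end Groth.Agent.S10956
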