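import Groth.Statements.S1866
import Groth.Agent.AbSquare57.Cube
import Groth.Agent.AbProj57.Exists
import Groth.Agent.FlatMor67.AmpleProjSpace
import Groth.Agent.EGA73.ProperProjAffine

set_option autoImplicit false
set_option backward.isDefEq.respectTransparency.types false
universe u v
open CategoryTheory MonoidalCategory CartesianMonoidalCategory MonObj GrpObj AlgebraicGeometry
open GrpSch

namespace Groth.Agent.S1866

/-- An abelian variety over a field K is projective over K; stated as: there is a closed immersion into
projective n-space over K compatible with the structure morphisms, for some n. -/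
theorem result (K : Type u) [Field K] (A : Over (Spec (CommRingCat.of K))) [GrpObj A] [IsProper A.hom] [GeometricallyIntegral A.hom] : ∃ (n : ℕ) (j : A.left ⟶ CohB1.ProjSpace n K), IsClosedImmersion j ∧ j ≫ CohB1.ProjSpace.toSpec n K = A.hom := by
  classical
  have hA : ∃ L : A.left.Modules, CohB1.IsAmple L := AbProj57.exists_isAmple_of_square A fun L hL a b => by
    let B := (Red.bc (Spec.map (CommRingCat.ofHom (algebraMap K (AlgebraicClosure K)))) A)
    haveI : IsProper B.hom := MorphismProperty.pullback_snd (P := @IsProper) _ _ inferInstance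
    haveI : GeometricallyIntegral B.hom := MorphismProperty.pullback_snd (P := @GeometricallyIntegral) _ _ inferInstance
    have h0 := AbSquare57.square (A := B) (PicGrp.cls L hL) a b
    simp only [AbSquare57.pb_cls] at h0
    exact (PicGrp.cl_eq_cl_iff _ _).1 (congrArg Subtype.val h0)
  haveI : IsAffine (Spec (CommRingCat.of K)) := inferInstance
  obtain ⟨n, i, hi, hif⟩ := FlatMor67.AmpleProjSpace.exists_closedImmersion (S := Spec (CommRingCat.of K))
    ⟨Coh.structureModule _, Amp73.isAmple_of_isQuasiAffine EGA73.isInvertible_structureModule⟩ A.hom hA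
  let Z := ULift.{u} ℤ
  algebraize [((Int.castRingHom K).comp (ULift.ringEquiv (R := ℤ)).toRingHom)]
  have hpb : IsPullback (Csa25.linMap (n := n) (algebraMap Z K) 1 isUnit_one) (CohB1.ProjSpace.toSpec n K)
      (CohB1.ProjSpace.toSpec n Z) (specULiftZIsTerminal.from (Spec (CommRingCat.of K))) := by
    rw [specULiftZIsTerminal.hom_ext (specULiftZIsTerminal.from (Spec (CommRingCat.of K)))
      (Spec.map (CommRingCat.ofHom (algebraMap Z K)))]
    exact Csa25.isPullback_linMap_one
  let e₀ : CohB1.ProjSpaceOver n (Spec (CommRingCat.of K)) ≅ CohB1.ProjSpace n K :=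
    (IsPullback.of_hasPullback _ _).isoIsPullback _ _ hpb
  have he₀ : e₀.hom ≫ CohB1.ProjSpace.toSpec n K = CohB1.ProjSpaceOver.toBase n _ :=
    (IsPullback.of_hasPullback _ _).isoIsPullback_hom_snd _ _ hpb
  exact ⟨n, i ≫ e₀.hom, inferInstanceAs (IsClosedImmersion (i ≫ e₀.hom)), by rw [Category.assoc, he₀, hif]⟩

end Groth.Agent.S1866
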