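import Groth.Statements.S10959
import Groth.Agent.AVRig94.Descent

set_option autoImplicit false
universe u
open CategoryTheory MonoidalCategory CartesianMonoidalCategory MonObj GrpObj AlgebraicGeometry
open AbVar

namespace Groth.Agent.S10959

theorem point_not_mem_translate (K : Type u) [Field K] (A : Over (Spec (CommRingCat.of K))) [GrpObj A]
    (z y : 𝟙_ (Over (Spec (CommRingCat.of K))) ⟶ A) (Z : Set A.left)
    (h : (z * y⁻¹).left (IsLocalRing.closedPoint K) ∉ Z) :
    z.left (IsLocalRing.closedPoint K) ∉ (𝟙 A * (toUnit A ≫ y)).left '' Z := by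
  rintro ⟨w, hw, hwz⟩
  let τ := 𝟙 A * (toUnit A ≫ y)
  let σ := 𝟙 A * (toUnit A ≫ y⁻¹)
  have hτσ : τ ≫ σ = 𝟙 A := by
    simp only [τ, σ, MonObj.comp_mul, Category.comp_id, ← Category.assoc,
      toUnit_unique ((𝟙 A * (toUnit A ≫ y)) ≫ toUnit A) (toUnit A)]
    rw [GrpObj.comp_inv]
    exact mul_inv_cancel_right _ _
  have hz : z ≫ σ = z * y⁻¹ := by
    simp only [σ, MonObj.comp_mul, Category.comp_id, ← Category.assoc, toUnit_unique (z ≫ toUnit A) (𝟙 _),
      Category.id_comp]
  refine h ?_
  rw [← hz, Over.comp_left, Scheme.Hom.comp_apply, ← hwz, ← Scheme.Hom.comp_apply, ← Over.comp_left, hτσ]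
  exact hw

theorem isOpen_surj_preimage {K : Type u} [Field K] {A : Over (Spec (CommRingCat.of K))} (φ ψ : A ⟶ A)
    (h : ψ ≫ φ = 𝟙 A) (Z : Set A.left) (hZne : Z ≠ Set.univ) : φ.left ⁻¹' Z ≠ Set.univ := by
  intro hu
  refine hZne (Set.eq_univ_of_forall fun a => ?_)
  have ha : φ.left (ψ.left a) ∈ Z := (hu ▸ trivial : ψ.left a ∈ φ.left ⁻¹' Z)
  rwa [← Scheme.Hom.comp_apply, ← Over.comp_left, h] at ha


/-- Let K be an algebraically closed field and A an abelian variety over K (a group scheme over Spec K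
with proper smooth structure morphism and irreducible underlying space). Let Z be a closed subset of
A which is not all of A, and z a K-valued point of A. Then there is a K-valued point x of A such
that the point underlying z lies neither in the translate of Z by x nor in the translate of Z by the
inverse of x; here the translation by x is the morphism A → A given on points by a ↦ a·x, the
product of the identity and the constant map x in the group of morphisms into A. (The published
statement takes Z to be the support of an effective divisor; this row allows any closed subset other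
than A.) -/
theorem result
    (K : Type u) [Field K] [IsAlgClosed K] (A : Over (Spec (CommRingCat.of K)))
    [GrpObj A] [IsProper A.hom] [Smooth A.hom] [IrreducibleSpace A.left]
    (Z : Set A.left) (hZ : IsClosed Z) (hZne : Z ≠ Set.univ)
    (z : 𝟙_ (Over (Spec (CommRingCat.of K))) ⟶ A) :
    ∃ x : 𝟙_ (Over (Spec (CommRingCat.of K))) ⟶ A,
      Disjoint (Set.range z.left.base)
        ((𝟙 A * (toUnit A ≫ x)).left.base '' Z ∪ (𝟙 A * (toUnit A ≫ x)⁻¹).left.base '' Z) := by
  haveI : IsCommMonObj A := by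
    haveI : GeometricallyIntegral A.hom := AVRig94.geometricallyIntegral_of_smooth A.hom
    exact AVRig94.isCommMonObj_of_proper A
  let φ := (toUnit A ≫ z) * (𝟙 A)⁻¹
  let ψ := (toUnit A ≫ z) * 𝟙 A
  let ψ' := (toUnit A ≫ z)⁻¹ * 𝟙 A
  have hφ : φ ≫ φ = 𝟙 A := by
    simp only [φ, MonObj.comp_mul, GrpObj.comp_inv, Category.comp_id, ← Category.assoc,
      toUnit_unique ((toUnit A ≫ z * (𝟙 A)⁻¹) ≫ toUnit A) (toUnit A)]
    rw [_root_.mul_inv_rev, _root_.inv_inv, mul_comm (𝟙 A)]
    exact mul_inv_cancel_left _ _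
  have hψ : ψ' ≫ ψ = 𝟙 A := by
    simp only [ψ, ψ', MonObj.comp_mul, Category.comp_id, ← Category.assoc,
      toUnit_unique (((toUnit A ≫ z)⁻¹ * 𝟙 A) ≫ toUnit A) (toUnit A)]
    exact mul_inv_cancel_left _ _
  haveI : JacobsonSpace A.left := LocallyOfFiniteType.jacobsonSpace A.hom
  obtain ⟨a, haU, ha⟩ : ∃ a, a ∈ ((φ.left ⁻¹' Z)ᶜ ∩ (ψ.left ⁻¹' Z)ᶜ) ∧ IsClosed ({a} : Set A.left) := by
    have h1 := (hZ.preimage φ.left.continuous).isOpen_compl
    have h2 := (hZ.preimage ψ.left.continuous).isOpen_compl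
    obtain ⟨a, h⟩ := nonempty_preirreducible_inter h1 h2
      (Set.nonempty_compl.2 (isOpen_surj_preimage φ φ hφ Z hZne))
      (Set.nonempty_compl.2 (isOpen_surj_preimage ψ ψ' hψ Z hZne))
    obtain ⟨b, hb, hbc⟩ := nonempty_inter_closedPoints ⟨a, h⟩ (h1.inter h2).isLocallyClosed
    exact ⟨b, hb, hbc⟩
  let x : 𝟙_ (Over (Spec (CommRingCat.of K))) ⟶ A :=
    Over.homMk (pointOfClosedPoint A.hom a ha) (pointOfClosedPoint_comp A.hom a ha)
  have hxa : x.left (IsLocalRing.closedPoint K) = a := pointOfClosedPoint_apply A.hom a ha _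
  have e1 : x ≫ φ = z * x⁻¹ := by
    simp only [φ, MonObj.comp_mul, GrpObj.comp_inv, Category.comp_id, ← Category.assoc,
      toUnit_unique (x ≫ toUnit A) (𝟙 _), Category.id_comp]
  have e2 : x ≫ ψ = z * x := by
    simp only [ψ, MonObj.comp_mul, Category.comp_id, ← Category.assoc,
      toUnit_unique (x ≫ toUnit A) (𝟙 _), Category.id_comp]
  refine ⟨x, Set.disjoint_left.2 ?_⟩
  rintro _ ⟨t, rfl⟩ ht
  haveI : Subsingleton (Spec (CommRingCat.of K)) := inferInstanceAs (Subsingleton (PrimeSpectrum K))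
  rw [show t = IsLocalRing.closedPoint K from Subsingleton.elim (α := Spec (CommRingCat.of K)) _ _] at ht
  rcases ht with ht | ht
  · refine point_not_mem_translate K A z x Z ?_ ht
    rw [← e1, Over.comp_left, Scheme.Hom.comp_apply, hxa]
    exact haU.1
  · have ht' : z.left (IsLocalRing.closedPoint K) ∈ (𝟙 A * (toUnit A ≫ x⁻¹)).left '' Z := by
      rwa [GrpObj.comp_inv]
    refine point_not_mem_translate K A z x⁻¹ Z ?_ ht'
    rw [_root_.inv_inv, ← e2, Over.comp_left, Scheme.Hom.comp_apply, hxa]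
    exact haU.2

end Groth.Agent.S10959
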