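import Groth.Statements.S10962
import Groth.Agent.TwistGen95.Ample
import Groth.Agent.Amp73.QA
import Groth.Agent.Var76.RegTools
import Groth.Agent.EGAProj74.AwayProj
import Mathlib.AlgebraicGeometry.Morphisms.QuasiFinite
import Mathlib.AlgebraicGeometry.ProjectiveSpectrum.Proper
import Mathlib.Algebra.MvPolynomial.Division

set_option autoImplicit false
universe u
open CategoryTheory CategoryTheory.Limits AlgebraicGeometry TopologicalSpace
open SDiv

namespace Groth.Agent.S10962


open MvPolynomial in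
/-- `P^n_R` is not quasi-affine for `n ≥ 1` and `R ≠ 0`. -/
theorem not_isQuasiAffine (R : Type u) [CommRing R] [Nontrivial R] (n : ℕ) (hn : 1 ≤ n) :
    ¬ (CohB1.ProjSpace n R).IsQuasiAffine := by
  intro hQ
  classical
  let 𝒜 := CohB1.polyGrading n R
  have hFT : Algebra.FiniteType (𝒜 0) (MvPolynomial (Fin (n + 1)) R) :=
    haveI : IsScalarTower R (𝒜 0) (MvPolynomial (Fin (n + 1)) R) :=
      IsScalarTower.of_algebraMap_eq (R := R) (S := 𝒜 0) (A := MvPolynomial (Fin (n + 1)) R) fun r => rfl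
    Algebra.FiniteType.of_restrictScalars_finiteType R (𝒜 0) _
  haveI : (Proj 𝒜).IsQuasiAffine := hQ
  haveI : IsProper ((Proj 𝒜).toSpecΓ ≫ Spec.map (Proj.toSpecZero 𝒜).appTop) := by
    rw [← Scheme.toSpecΓ_naturality]; infer_instance
  haveI : IsProper (Proj 𝒜).toSpecΓ := IsProper.of_comp _ (Spec.map (Proj.toSpecZero 𝒜).appTop)
  haveI : IsClosedImmersion (Proj 𝒜).toSpecΓ :=
    IsClosedImmersion.of_isPreimmersion _ ((Proj 𝒜).toSpecΓ.isClosedMap.isClosed_range)
  haveI : IsAffine (Proj 𝒜) := isAffine_of_isAffineHom (Proj 𝒜).toSpecΓ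
  haveI : IsAffineHom (Proj.toSpecZero 𝒜) := isAffineHom_of_isAffine _
  haveI : IsFinite (Proj.toSpecZero 𝒜) := IsFinite.iff_isProper_and_isAffineHom.mpr ⟨inferInstance, inferInstance⟩
  obtain ⟨p, hp⟩ := Ideal.exists_maximal R
  haveI : p.IsPrime := hp.isPrime
  let φ : MvPolynomial (Fin (n + 1)) R →+* MvPolynomial (Fin (n + 1)) (R ⧸ p) := map (Ideal.Quotient.mk p)
  let i₀ : Fin (n + 1) := 0
  let i₁ : Fin (n + 1) := ⟨1, by omega⟩
  have hne : i₀ ≠ i₁ := by simp [i₀, i₁, Fin.ext_iff]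
  let I : Ideal (MvPolynomial (Fin (n + 1)) R) := Ideal.comap φ (Ideal.span {X i₁})
  let J : Ideal (MvPolynomial (Fin (n + 1)) R) := RingHom.ker φ
  haveI : (Ideal.span {(X i₁ : MvPolynomial (Fin (n + 1)) (R ⧸ p))}).IsPrime :=
    (Ideal.span_singleton_prime (X_ne_zero i₁)).mpr X_prime
  have hIp : I.IsPrime := Ideal.IsPrime.comap φ
  have hJp : J.IsPrime := RingHom.ker_isPrime φ
  have hJ : J = (p.map C : Ideal (MvPolynomial (Fin (n + 1)) R)) := by
    show RingHom.ker φ = _
    rw [MvPolynomial.ker_map, Ideal.mk_ker]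
  have hJh : J.IsHomogeneous 𝒜 := by
    rw [hJ]
    exact Ideal.homogeneous_span 𝒜 _ (by rintro _ ⟨r, -, rfl⟩; exact ⟨0, isHomogeneous_C _ r⟩)
  have hIh : I.IsHomogeneous 𝒜 := by
    have hI : I = J ⊔ Ideal.span {X i₁} := by
      show Ideal.comap φ _ = _
      have : Ideal.span {(X i₁ : MvPolynomial (Fin (n + 1)) (R ⧸ p))} = Ideal.map φ (Ideal.span {X i₁}) := by
        rw [Ideal.map_span, Set.image_singleton]; simp [φ]
      rw [this, Ideal.comap_map_of_surjective' φ (map_surjective _ Ideal.Quotient.mk_surjective), sup_comm]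
    rw [hI]
    exact hJh.sup (Ideal.homogeneous_span 𝒜 _ (by rintro _ rfl; exact ⟨1, isHomogeneous_X R i₁⟩))
  have h0 : (X i₀ : MvPolynomial (Fin (n + 1)) R) ∈ HomogeneousIdeal.irrelevant 𝒜 :=
    HomogeneousIdeal.mem_irrelevant_of_mem 𝒜 zero_lt_one (isHomogeneous_X R i₀)
  have hI0 : (X i₀ : MvPolynomial (Fin (n + 1)) R) ∉ I := by
    simp [I, φ, Ideal.mem_span_singleton, X_dvd_X, hne.symm]
  have hJI : J ≤ I := fun a (ha : φ a = 0) => by simp [I, ha]
  have hJ0 : (X i₀ : MvPolynomial (Fin (n + 1)) R) ∉ J := fun h => hI0 (hJI h)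
  let x : ProjectiveSpectrum 𝒜 := ⟨⟨I, hIh⟩, hIp, fun h => hI0 (h h0)⟩
  let y : ProjectiveSpectrum 𝒜 := ⟨⟨J, hJh⟩, hJp, fun h => hJ0 (h h0)⟩
  have hsurj : ∀ g : 𝒜 0, ∃ r : R, (g : MvPolynomial (Fin (n + 1)) R) = C r := fun g =>
    ⟨_, (totalDegree_zero_iff_isHomogeneous _).mpr g.2 |> (totalDegree_eq_zero_iff_eq_C.mp)⟩
  have hxy : (Proj.toSpecZero 𝒜).base x = (Proj.toSpecZero 𝒜).base y := by
    refine PrimeSpectrum.ext (Ideal.ext fun g => not_iff_not.mp ?_)
    show (Proj.toSpecZero 𝒜).base x ∈ PrimeSpectrum.basicOpen g ↔ (Proj.toSpecZero 𝒜).base y ∈ PrimeSpectrum.basicOpen g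
    rw [Groth.Agent.EGAProj74.toSpecZero_mem_basicOpen, Groth.Agent.EGAProj74.toSpecZero_mem_basicOpen]
    show (g : MvPolynomial (Fin (n + 1)) R) ∉ I ↔ (g : MvPolynomial (Fin (n + 1)) R) ∉ J
    obtain ⟨r, hr⟩ := hsurj g
    rw [hr]
    refine not_congr ⟨fun h => ?_, fun h => hJI h⟩
    rw [hJ]
    refine Ideal.mem_map_of_mem _ ?_
    by_contra hrp
    have h2 : IsUnit ((C (Ideal.Quotient.mk p r)) : MvPolynomial (Fin (n + 1)) (R ⧸ p)) := by
      letI : Field (R ⧸ p) := Ideal.Quotient.field p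
      exact (IsUnit.mk0 _ fun hz => hrp (Ideal.Quotient.eq_zero_iff_mem.mp hz)).map C
    have h3 : (C (Ideal.Quotient.mk p r) : MvPolynomial (Fin (n + 1)) (R ⧸ p)) ∈ Ideal.span {X i₁} := by
      simpa [I, φ] using h
    exact (inferInstance : (Ideal.span {(X i₁ : MvPolynomial (Fin (n + 1)) (R ⧸ p))}).IsPrime).ne_top
      (Ideal.eq_top_of_isUnit_mem _ h3 h2)
  have hspec : x ∈ closure ({y} : Set (ProjectiveSpectrum 𝒜)) :=
    (ProjectiveSpectrum.le_iff_mem_closure _ y x).mp ((ProjectiveSpectrum.as_ideal_le_as_ideal _ y x).mp hJI)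
  have hdisc := (Proj.toSpecZero 𝒜).isDiscrete_preimage_singleton ((Proj.toSpecZero 𝒜).base y)
  obtain ⟨U, hUo, hU⟩ := (isDiscrete_iff_forall_exists_isOpen.mp hdisc) x hxy
  have hyU : y ∈ U := by
    have hxU : x ∈ U := (hU.ge (Set.mem_singleton x)).1
    obtain ⟨z, hzU, hz⟩ := mem_closure_iff.mp hspec U hUo hxU
    exact hz ▸ hzU
  have hyx : y = x := hU.le ⟨hyU, rfl⟩
  have h1 : (X i₁ : MvPolynomial (Fin (n + 1)) R) ∈ I := by simp [I, φ, Ideal.mem_span_singleton]
  have h1' : (X i₁ : MvPolynomial (Fin (n + 1)) R) ∈ y.asHomogeneousIdeal := by rw [hyx]; exact h1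
  change φ (X i₁) = 0 at h1'
  simp [φ] at h1'

/-- Let R be a nonzero ring and n ≥ 1, and let X be projective n-space over R. For an integer d, the
Serre twist O_X(d) is ample if and only if d > 0. (Ample is taken in the sense that X is
quasi-compact and covered by the affine open non-vanishing loci X_s of global sections s of positive
tensor powers; for the quasi-compact separated scheme X this agrees with the definition through
finitely many generating sections with quasi-affine non-vanishing loci. The published remark also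
asserts that O_X(d) is very ample relative to R for d > 0; that clause is not part of this row.) -/
theorem result (R : Type u) [CommRing R] [Nontrivial R] (n : ℕ) (hn : 1 ≤ n) (d : ℤ) :
    CohB1.IsAmple (Twist.twistProjSpace n R d) ↔ 0 < d := by
  classical
  have hpos : ∀ e : ℕ, 0 < e → CohB1.IsAmple (Twist.twistProjSpace n R (e : ℤ)) := fun e he => by
    refine Groth.Agent.TwistGen95.isAmple_twist (𝒜 := CohB1.polyGrading n R) he
      (Finset.univ.image fun k : Fin (n + 1) => (MvPolynomial.X k : MvPolynomial (Fin (n + 1)) R) ^ e) ?_ fun x => ?_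
    · intro f hf
      obtain ⟨k, -, rfl⟩ := Finset.mem_image.1 hf
      simpa [smul_eq_mul] using SetLike.pow_mem_graded (A := CohB1.polyGrading n R) e (MvPolynomial.isHomogeneous_X R k)
    · by_contra h
      push Not at h
      refine ProjectiveSpectrum.not_irrelevant_le x fun a ha => ?_
      have ha' : a ∈ (HomogeneousIdeal.irrelevant (CohB1.polyGrading n R)).toIdeal := ha
      rw [Groth.Agent.ValVan29.generated] at ha'
      refine Ideal.span_le.mpr ?_ ha'
      intro b hb
      obtain ⟨k, -, rfl⟩ := Finset.mem_image.1 (Finset.mem_coe.1 hb)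
      exact x.isPrime.mem_of_pow_mem e (h _ (Finset.mem_image.2 ⟨k, Finset.mem_univ _, rfl⟩))
  refine ⟨fun h => ?_, fun hd => ?_⟩
  · by_contra hd
    have h0 : CohB1.IsAmple (Twist.twistProjSpace n R 0) := by
      rcases (not_lt.mp hd).eq_or_lt with rfl | hlt
      · exact h
      · obtain ⟨e⟩ := Groth.Agent.Var76.Reg.nonempty_twist_add (n := n) (A := R)
          (a := d) (b := ((-d).toNat : ℤ)) (c := 0) (by omega)
        exact Groth.Agent.Amp73.isAmple_of_iso e
          (Groth.Agent.Amp73.isAmple_tensor_ample h (hpos _ (by omega)))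
    obtain ⟨e⟩ := Groth.Agent.Var76.Reg.nonempty_twist_zero (n := n) (A := R)
    exact not_isQuasiAffine R n hn (Groth.Agent.Amp73.isQuasiAffine_of_isAmple (Groth.Agent.Amp73.isAmple_of_iso e h0))
  · have h2 := hpos d.toNat (by omega)
    rwa [Int.toNat_of_nonneg hd.le] at h2

end Groth.Agent.S10962
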