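import Groth.Statements.S10964
import Groth.Agent.Curves2.Glue.Descend

set_option autoImplicit false
universe u
open CategoryTheory AlgebraicGeometry TopologicalSpace Opposite
open PicF

namespace Groth.Agent.S10964

/-- Let X be a scheme with an open cover (U_i)_{i ∈ ι}. Let L and L' be O_X-modules with sections s_i of
L and s'_i of L' over U_i that generate there (for every open V ⊆ U_i, r ↦ r · s_i|_V is a bijection
from functions on V onto sections of L over V, and likewise for s'_i), and let η_ij, η'_ij be the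
functions on U_i ∩ U_j with s_i = η_ij · s_j and s'_i = η'_ij · s'_j there. Then L and L' are
isomorphic as O_X-modules if and only if there is a family of units u_i of the rings of functions on
the U_i with η'_ij · u_i|_{U_i ∩ U_j} = u_j|_{U_i ∩ U_j} · η_ij for all i, j. (So two invertible
modules trivialised by the cover are isomorphic exactly when their transition cocycles define the
same Čech cohomology class.) -/
theorem result (X : Scheme.{u}) {ι : Type u} (U : ι → X.Opens)
    (hU : iSup U = ⊤) (L L' : X.Modules) (s : ∀ i : ι, Γ(L, U i)) (s' : ∀ i : ι, Γ(L', U i))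
    (hs : ∀ (i : ι) (V : X.Opens) (h : V ≤ U i),
        Function.Bijective (fun r : Γ(X, V) => r • L.presheaf.map (homOfLE h).op (s i)))
    (hs' : ∀ (i : ι) (V : X.Opens) (h : V ≤ U i),
        Function.Bijective (fun r : Γ(X, V) => r • L'.presheaf.map (homOfLE h).op (s' i)))
    (η η' : ∀ i j : ι, Γ(X, U i ⊓ U j))
    (hη : ∀ i j : ι, L.presheaf.map (homOfLE (inf_le_left : U i ⊓ U j ≤ U i)).op (s i) =
        η i j • L.presheaf.map (homOfLE (inf_le_right : U i ⊓ U j ≤ U j)).op (s j))
    (hη' : ∀ i j : ι, L'.presheaf.map (homOfLE (inf_le_left : U i ⊓ U j ≤ U i)).op (s' i) =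
        η' i j • L'.presheaf.map (homOfLE (inf_le_right : U i ⊓ U j ≤ U j)).op (s' j)) :
    Nonempty (L ≅ L') ↔ ∃ u : ∀ i : ι, (Γ(X, U i))ˣ, ∀ i j : ι,
      η' i j * X.presheaf.map (homOfLE (inf_le_left : U i ⊓ U j ≤ U i)).op (u i : Γ(X, U i)) =
        X.presheaf.map (homOfLE (inf_le_right : U i ⊓ U j ≤ U j)).op (u j : Γ(X, U j)) * η i j := by
  constructor
  · rintro ⟨φ⟩
    have hv : ∀ i, ∃ a : Γ(X, U i), a • s' i = φ.hom.app (U i) (s i) := fun i => by
      obtain ⟨a, ha⟩ := (hs' i (U i) le_rfl).2 (φ.hom.app (U i) (s i))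
      refine ⟨a, Eq.trans ?_ ha⟩
      exact congrArg (a • ·) (Amp73.res_self _ _).symm
    have hw : ∀ i, ∃ a : Γ(X, U i), a • s i = φ.inv.app (U i) (s' i) := fun i => by
      obtain ⟨a, ha⟩ := (hs i (U i) le_rfl).2 (φ.inv.app (U i) (s' i))
      refine ⟨a, Eq.trans ?_ ha⟩
      exact congrArg (a • ·) (Amp73.res_self _ _).symm
    choose v hv using hv
    choose w hw using hw
    have h1 : ∀ i, v i * w i = 1 := fun i => (hs i (U i) le_rfl).1 (by
      show (v i * w i) • Var76.LineBundle.res L le_rfl (s i) = (1 : Γ(X, U i)) • Var76.LineBundle.res L le_rfl (s i)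
      rw [Amp73.res_self, one_smul, mul_smul, hw, ← Scheme.Modules.Hom.app_smul, hv]
      exact congrArg (fun ψ : L ⟶ L => ψ.app (U i) (s i)) φ.hom_inv_id)
    refine ⟨fun i => ⟨v i, w i, h1 i, (mul_comm _ _).trans (h1 i)⟩, fun i j => ?_⟩
    apply (hs' j (U i ⊓ U j) inf_le_right).1
    have h2 := congrArg (φ.hom.app (U i ⊓ U j)) (hη i j)
    rw [Scheme.Modules.Hom.app_smul, Mero90.app_res, Mero90.app_res, ← hv i, ← hv j,
      Var76.LineBundle.res_smul, Var76.LineBundle.res_smul, show Var76.LineBundle.res L' _ (s' i) = _ from hη' i j,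
      smul_smul, smul_smul, mul_comm _ (η' i j), mul_comm (η i j)] at h2
    exact h2
  · rintro ⟨u, hu⟩
    refine Curves2.Glue.nonempty_iso_of_frames U
      (fun x => TopologicalSpace.Opens.mem_iSup.mp (hU.ge (show x ∈ (⊤ : X.Opens) from trivial)))
      s (fun i => (u i : Γ(X, U i)) • s' i) hs (fun i V hV => ?_) (fun i j c hc => ?_)
    · have hb : Function.Bijective (fun a : Γ(X, V) => a * X.presheaf.map (homOfLE hV).op (u i : Γ(X, U i))) :=
        ((u i).isUnit.map (X.presheaf.map (homOfLE hV).op).hom).unit.mulRight_bijective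
      have hc : (fun a : Γ(X, V) => a • Var76.LineBundle.res L' hV ((u i : Γ(X, U i)) • s' i)) =
          (fun r : Γ(X, V) => r • Var76.LineBundle.res L' hV (s' i)) ∘
            (fun a : Γ(X, V) => a * X.presheaf.map (homOfLE hV).op (u i : Γ(X, U i))) := by
        funext a
        rw [Function.comp_apply, Var76.LineBundle.res_smul, mul_smul]
      rw [hc]
      exact (hs' i V hV).comp hb
    · have h1 : c = η i j := (hs j (U i ⊓ U j) inf_le_right).1 (hc.trans (hη i j))
      subst h1
      rw [Var76.LineBundle.res_smul, Var76.LineBundle.res_smul, show Var76.LineBundle.res L' _ (s' i) = _ from hη' i j,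
        smul_smul, smul_smul]
      congr 1
      rw [mul_comm, ← hu i j, mul_comm]

end Groth.Agent.S10964
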