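import Groth.Statements.S10966
import Groth.Agent.EGA73.AmpleImmersion
import Groth.Agent.Amp73.QA

set_option autoImplicit false
universe u
open CategoryTheory CategoryTheory.Limits AlgebraicGeometry
open RelAmple

namespace Groth.Agent.S10966

/-- Let R be a nonzero ring and X an affine scheme of finite type over R, with structure morphism q : X
→ Spec R. Then every invertible O_X-module L is very ample relative to q: there are a natural number
n and an immersion i : X → P^n over Spec R, compatible with q, such that i^*O(1) ≅ L. -/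
theorem result (R : Type u) [CommRing R] [Nontrivial R]
    {X : Scheme.{u}} [IsAffine X] (q : X ⟶ Spec (CommRingCat.of R)) [LocallyOfFiniteType q]
    (L : X.Modules) (hL : PicF.IsInvertible L) :
    RelAmple.IsRelVeryAmplePn q L := by
  obtain ⟨n₀, -, h⟩ := EGA73.AmpleImmersion.eventually_isRelVeryAmplePn q
    (Amp73.isAmple_of_isQuasiAffine (X := X) EGA73.isInvertible_structureModule) hL
  obtain ⟨k, i, hi, hiq, ⟨φ⟩⟩ := h n₀ le_rfl
  have u : ∀ m : ℕ, Nonempty (CohB1.tensorPow (Coh.structureModule X) m ≅ Coh.structureModule X) := by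
    intro m
    induction m with
    | zero => exact ⟨Iso.refl _⟩
    | succ m ih => exact ih.map fun φ => EGA73.tensIso φ (Iso.refl _) ≪≫ EGA73.tensUnitLeft _
  exact ⟨k, i, hi, hiq, ⟨(EGA73.tensIso (Iso.refl L) (u n₀).some ≪≫ EGA73.tensUnitRight L).symm ≪≫ φ⟩⟩

end Groth.Agent.S10966
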