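import Groth.Statements.S10967
import Mathlib.AlgebraicGeometry.QuasiAffine

set_option autoImplicit false
universe u
open CategoryTheory AlgebraicGeometry TopologicalSpace
open MoreMor

namespace Groth.Agent.S10967

open CategoryTheory CategoryTheory.Limits AlgebraicGeometry TopologicalSpace

/-- Quasi-affine over an affine base: call a morphism f : X → Y quasi-affine when Y has a cover by
affine opens V_i whose preimages f⁻¹(V_i) are quasi-affine schemes (quasi-compact open subschemes of
affine schemes; equivalently quasi-compact with X → Spec Γ(X, O_X) an immersion). If Y is affine and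
f is quasi-affine in this sense, then X is a quasi-affine scheme. -/
theorem result {X Y : Scheme.{u}} [IsAffine Y]
    (f : X ⟶ Y) {ι : Type u} (V : ι → Y.Opens) (hV : iSup V = ⊤) (hVa : ∀ i, IsAffineOpen (V i))
    (hq : ∀ i, Scheme.IsQuasiAffine (↑(f ⁻¹ᵁ V i) : Scheme.{u})) :
    X.IsQuasiAffine := by
  have hqs : QuasiSeparated f := by
    rw [HasAffineProperty.iff_of_iSup_eq_top (P := @QuasiSeparated) (fun i => ⟨V i, hVa i⟩) hV]
    intro i
    have := hq i
    show QuasiSeparatedSpace (f ⁻¹ᵁ V i).toScheme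
    infer_instance
  have hqc : QuasiCompact f := by
    rw [HasAffineProperty.iff_of_iSup_eq_top (P := @QuasiCompact) (fun i => ⟨V i, hVa i⟩) hV]
    intro i
    exact (hq i).toCompactSpace
  have hX : CompactSpace X := (quasiCompact_iff_compactSpace f).1 hqc
  have hX' : QuasiSeparatedSpace X := (quasiSeparatedSpace_iff_quasiSeparated X).2
    (by rw [← terminal.comp_from f]; infer_instance)
  refine Scheme.IsQuasiAffine.of_forall_exists_mem_basicOpen X fun x => ?_
  obtain ⟨i, hi⟩ : ∃ i, f x ∈ V i := Opens.mem_iSup.1 (by rw [hV]; trivial)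
  obtain ⟨_, ⟨s, rfl⟩, hxs, hsV⟩ := (Opens.isBasis_iff_nbhd.mp (isBasis_basicOpen Y)) hi
  let g : Γ(X, ⊤) := f.appTop s
  let U := X.basicOpen g
  have hUV : U ≤ f ⁻¹ᵁ V i := by
    rw [show U = f ⁻¹ᵁ Y.basicOpen s from (Scheme.preimage_basicOpen_top f s).symm]
    exact fun y hy => hsV hy
  have hUc : IsCompact (U : Set X) := by
    rw [show U = f ⁻¹ᵁ Y.basicOpen s from (Scheme.preimage_basicOpen_top f s).symm]
    exact f.isCompact_preimage ((isAffineOpen_top Y).basicOpen s).isCompact
  haveI := hq i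
  haveI : CompactSpace U.toScheme := isCompact_iff_compactSpace.1 hUc
  haveI : U.toScheme.IsQuasiAffine := Scheme.IsQuasiAffine.of_isImmersion (X.homOfLE hUV)
  have hxU : x ∈ U := by
    rw [show U = f ⁻¹ᵁ Y.basicOpen s from (Scheme.preimage_basicOpen_top f s).symm]
    exact hxs
  obtain ⟨_, ⟨_, ⟨r, hr, rfl⟩, rfl⟩, hxr, -⟩ := (Scheme.IsQuasiAffine.isBasis_basicOpen
    U.toScheme).exists_subset_of_mem_open (Set.mem_univ (⟨x, hxU⟩ : U)) isOpen_univ
  let r' : Γ(X, U) := U.topIso.hom r
  have hr' : X.basicOpen r' = U.ι ''ᵁ U.toScheme.basicOpen r := by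
    rw [← U.ι_image_basicOpen_topIso_inv r']
    simp only [r', ← CommRingCat.comp_apply, Iso.hom_inv_id, CommRingCat.id_apply]
  have := isLocalization_basicOpen_of_qcqs isCompact_univ isQuasiSeparated_univ g
  obtain ⟨⟨t, ⟨_, n, rfl⟩⟩, ht⟩ := IsLocalization.surj (Submonoid.powers g) r'
  refine ⟨t * g, ?_⟩
  have he : X.basicOpen (t * g) = X.basicOpen r' := by
    have h1 : X.basicOpen (t * g) = X.basicOpen (X.presheaf.map (homOfLE (X.basicOpen_le g)).op t : Γ(X, U)) := by
      rw [Scheme.basicOpen_mul, Scheme.basicOpen_res, inf_comm]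
    rw [h1]
    erw [← ht]
    rw [Scheme.basicOpen_mul]
    refine inf_eq_left.2 ((X.basicOpen_le r').trans ?_)
    refine (le_of_eq ?_)
    refine (Scheme.basicOpen_of_isUnit _ ?_).symm
    rw [map_pow]
    exact (IsLocalization.Away.algebraMap_isUnit g).pow n
  rw [he, hr']
  exact ⟨hr.image_of_isOpenImmersion _, ⟨x, hxU⟩, hxr, rfl⟩

end Groth.Agent.S10967
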