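import Groth.Statements.S10969
import Groth.Agent.FF30.Degree


set_option autoImplicit false
open FunFld
open Groth.Agent.FF30

namespace Groth.Agent.S10969

/-- For `x` transcendental over `k` in a function field of one variable `K/k`, the degree of the divisor
of zeros of `x` equals `[K : k(x)]`. -/
theorem result (k K : Type*) [Field k] [Field K] [Algebra k K]
    (hK : FunFld.IsFunctionField k K) (x : K) (hx : Transcendental k x) :
    (∑ P ∈ (FunFld.div k x).support with 0 < FunFld.div k x P,
        FunFld.div k x P * (P.deg : ℤ)) =
      Module.finrank (IntermediateField.adjoin k ({x} : Set K)) K := by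
  have h := FF.of_isFunctionField hK
  rw [← h.deg_zeroDiv hx]
  classical
  refine Eq.symm ?_
  rw [deg_eq_sum _ (S := (FunFld.div k x).support.filter fun P => 0 < FunFld.div k x P)]
  · refine Finset.sum_congr rfl fun P hP => ?_
    rw [Finsupp.sup_apply, Finsupp.zero_apply, max_eq_left (Finset.mem_filter.mp hP).2.le]
  · intro P hP
    rw [Finsupp.mem_support_iff, Finsupp.sup_apply, Finsupp.zero_apply] at hP
    have : 0 < FunFld.div k x P := by omega
    exact Finset.mem_filter.mpr ⟨Finsupp.mem_support_iff.mpr this.ne', this⟩

end Groth.Agent.S10969
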