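import Groth.Statements.S10972
import Groth.Agent.FF30.Exist


set_option autoImplicit false
open FunFld
open Groth.Agent.FF30

namespace Groth.Agent.S10972

/-- A nonconstant element of a function field of one variable has at least one zero and at least one
pole. -/
theorem result (k K : Type*) [Field k] [Field K] [Algebra k K]
    (hK : FunFld.IsFunctionField k K) (x : K) (hx : x ∉ Set.range (algebraMap k K)) :
    (∃ P : FunFld.Place k K, 0 < P.ord x) ∧ ∃ Q : FunFld.Place k K, Q.ord x < 0 := by
  have ht := transcendental_of_not_mem_range hK hx
  exact ⟨(FF.of_isFunctionField hK).exists_place_pos ht, (FF.of_isFunctionField hK).exists_place_neg ht⟩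

end Groth.Agent.S10972
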