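import Groth.Statements.S10973
import Groth.Agent.FF30.Exist


set_option autoImplicit false
open FunFld
open Groth.Agent.FF30

namespace Groth.Agent.S10973

/-- Two nonzero elements of a function field of one variable with the same principal divisor differ by a
constant multiple. -/
theorem result (k K : Type*) [Field k] [Field K] [Algebra k K]
    (hK : FunFld.IsFunctionField k K) (x y : K) (hx : x ≠ 0) (hy : y ≠ 0)
    (h : ∀ P : FunFld.Place k K, P.ord x = P.ord y) : ∃ c : k, x = c • y := by
  have hd : x / y ∈ Set.range (algebraMap k K) := by
    by_contra hne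
    obtain ⟨P, hP⟩ := (FF.of_isFunctionField hK).exists_place_pos (transcendental_of_not_mem_range hK hne)
    rw [ord_div P hx hy, h P, sub_self] at hP
    exact lt_irrefl 0 hP
  obtain ⟨c, hc⟩ := hd
  exact ⟨c, by rw [Algebra.smul_def, hc, div_mul_cancel₀ _ hy]⟩

end Groth.Agent.S10973
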