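import Groth.Statements.S10975
import Groth.Agent.FF30.RR


set_option autoImplicit false
open FunFld
open Groth.Agent.FF30

namespace Groth.Agent.S10975

/-- `A(D₁ ⊔ D₂) = A(D₁) + A(D₂)` for divisors of a function field of one variable. -/
theorem result (k K : Type*) [Field k] [Field K] [Algebra k K] (D₁ D₂ : FunFld.Divisor k K) :
    FunFld.AD (D₁ ⊔ D₂) = FunFld.AD D₁ ⊔ FunFld.AD D₂ := by
  exact AD_sup' D₁ D₂

end Groth.Agent.S10975
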