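import Groth.Statements.S10976
import Groth.Agent.FF30.Degree


set_option autoImplicit false
open FunFld
open Groth.Agent.FF30

namespace Groth.Agent.S10976

/-- `L(D)` is finite-dimensional for every divisor `D` of a function field of one variable. -/
theorem result (k K : Type*) [Field k] [Field K] [Algebra k K]
    (hK : FunFld.IsFunctionField k K) (D : FunFld.Divisor k K) : FiniteDimensional k (FunFld.L D) := by
  exact (FF.of_isFunctionField hK).finite_L D

end Groth.Agent.S10976
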