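import Groth.Statements.S10989
import Groth.Agent.FF30.RR


set_option autoImplicit false
open FunFld
open Groth.Agent.FF30

namespace Groth.Agent.S10989

/-- Any two canonical divisors of a function field of one variable are linearly equivalent. -/
theorem result (k K : Type*) [Field k] [Field K] [Algebra k K]
    (hK : FunFld.IsFunctionField k K) (C₁ C₂ : FunFld.Divisor k K) (h₁ : FunFld.IsCanonical k K C₁) (h₂ : FunFld.IsCanonical k K C₂) :
    ∃ x : K, x ≠ 0 ∧ C₂ = C₁ + FunFld.div k x := by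
  obtain ⟨ω₁, h0₁, hω₁⟩ := h₁
  obtain ⟨ω₂, h0₂, hω₂⟩ := h₂
  obtain ⟨x, hx, rfl⟩ := exists_mulW_eq' hK ⟨C₁, (hω₁ C₁).mpr le_rfl⟩ h0₁ ⟨C₂, (hω₂ C₂).mpr le_rfl⟩
  have hx0 : x ≠ 0 := by
    rintro rfl
    refine h0₂ (LinearMap.ext fun a => ?_)
    rw [mulW_apply, LinearMap.zero_apply]
    exact (congrArg ω₁ (Subtype.ext (zero_smul K _))).trans (map_zero ω₁)
  have h3 := isDivOf_mulW' (FF.of_isFunctionField hK) hx0 hx hω₁
  refine ⟨x, hx0, le_antisymm ?_ ?_⟩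
  · exact (h3 C₂).mp ((hω₂ C₂).mpr le_rfl)
  · exact (hω₂ _).mp ((h3 _).mpr le_rfl)

end Groth.Agent.S10989
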