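import Groth.Statements.S10992
import Groth.Agent.FF30.RR


set_option autoImplicit false
open FunFld
open Groth.Agent.FF30

namespace Groth.Agent.S10992

/-- A divisor `C` of a function field of one variable of genus `g` is canonical iff `ℓ(C) = g` and `deg
C = 2g - 2`. -/
theorem result (k K : Type*) [Field k] [Field K] [Algebra k K]
    (hK : FunFld.IsFunctionField k K) (C : FunFld.Divisor k K) :
    FunFld.IsCanonical k K C ↔ (FunFld.ell C = FunFld.genus k K ∧ C.deg = 2 * FunFld.genus k K - 2) := by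
  refine ⟨fun hC => ⟨ell_canonical hK hC, deg_canonical hK hC⟩, fun ⟨h1, h2⟩ => ?_⟩
  obtain ⟨-, hdim⟩ := finite_WD hK C
  rw [delta, h1, h2] at hdim
  have hne : (FunFld.WD C : Submodule k _) ≠ ⊥ := fun e => by
    rw [e, finrank_bot] at hdim; omega
  obtain ⟨ω, hω, h0⟩ := Submodule.exists_mem_ne_zero_of_ne_bot hne
  obtain ⟨C', hC'⟩ := exists_isDivOf' hK ⟨C, hω⟩ h0
  have hle : C ≤ C' := (hC' C).mp hω
  have heq := (FF.of_isFunctionField hK).eq_of_le_of_deg_le hle
    (le_of_eq ((deg_canonical hK ⟨ω, h0, hC'⟩).trans h2.symm))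
  exact ⟨ω, h0, heq ▸ hC'⟩

end Groth.Agent.S10992
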