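import Groth.Statements.S10996
import Groth.Agent.FF30.Rational


set_option autoImplicit false
open FunFld
open Groth.Agent.FF30

namespace Groth.Agent.S10996

/-- In a function field of one variable of positive genus, distinct places of degree one are not
linearly equivalent. -/
theorem result (k K : Type*) [Field k] [Field K] [Algebra k K]
    (hK : FunFld.IsFunctionField k K) (hg : 0 < FunFld.genus k K) (P P' : FunFld.Place k K) (hP : P.deg = 1) (hP' : P'.deg = 1)
    (x : K) (hx : x ≠ 0) (h : Finsupp.single P 1 - Finsupp.single P' 1 = FunFld.div k x) : P = P' := by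
  classical
  by_contra hne
  have hF := FF.of_isFunctionField hK
  have hpd : (poleDiv x : FunFld.Divisor k K) = Finsupp.single P' 1 := by
    refine Finsupp.ext fun Q => ?_
    rw [hF.poleDiv_apply, ← hF.div_apply, ← h, Finsupp.sub_apply, Finsupp.single_apply,
      Finsupp.single_apply]
    split <;> split <;> simp_all
  have hP'x : P'.ord x = -1 := by
    rw [← hF.div_apply, ← h]
    simp [Ne.symm hne]
  have := genus_eq_zero_of_deg_poleDiv_eq_one hK
    (transcendental_of_ord_ne_zero P' (x := x) (by omega)) (by rw [hpd, deg_single, hP']; norm_num)
  omega

end Groth.Agent.S10996
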