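import Groth.Statements.S10997
import Groth.Agent.FF30.Rational


set_option autoImplicit false
open FunFld
open Groth.Agent.FF30

namespace Groth.Agent.S10997

/-- Given distinct places `P∞, P_1, …, P_n` of a function field of one variable, elements `x_i` and
integers `m_i`, some `x ∈ K` has `ord_{P_i}(x - x_i) = m_i` for all `i` and is integral outside
`{P∞, P_1, …, P_n}`. -/
theorem result (k K : Type*) [Field k] [Field K] [Algebra k K]
    (hK : FunFld.IsFunctionField k K) (Pinf : FunFld.Place k K) (n : ℕ) (P : Fin n → FunFld.Place k K) (hP : Function.Injective P)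
    (hinf : Pinf ∉ Set.range P) (x : Fin n → K) (m : Fin n → ℤ) :
    ∃ y : K, (∀ i, (P i).1 (y - x i) = WithZero.exp (-(m i))) ∧
      ∀ Q : FunFld.Place k K, Q ≠ Pinf → Q ∉ Set.range P → Q.1 y ≤ 1 := by
  classical
  obtain ⟨y, h1, h2⟩ := strong_approximation' hK Pinf (Finset.univ.image P)
    (by intro h; obtain ⟨i, -, hi⟩ := Finset.mem_image.mp h; exact hinf ⟨i, hi⟩)
    (fun Q => if h : Q ∈ Set.range P then x h.choose else 0)
    (fun Q => if h : Q ∈ Set.range P then m h.choose else 0)
  refine ⟨y, fun i => ?_, fun Q hQ hQr => h2 Q hQ ?_⟩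
  · have := h1 (P i) (Finset.mem_image_of_mem _ (Finset.mem_univ i))
    have hr : P i ∈ Set.range P := ⟨i, rfl⟩
    simp only [dif_pos hr] at this
    rwa [hP hr.choose_spec] at this
  · intro hh
    obtain ⟨i, -, hi⟩ := Finset.mem_image.mp hh
    exact hQr ⟨i, hi⟩

end Groth.Agent.S10997
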