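import Groth.Statements.S10999
import Groth.Agent.FF30.GenusOne


set_option autoImplicit false
open FunFld

namespace Groth.Agent.S10999

/-- In a genus-one function field with a place `P₀` of degree one, `P ↦ P - P₀` is a bijection from the
places of degree one onto the divisor classes of degree zero. The geometric description of the group
law is not stated. -/
theorem result (k K : Type*) [Field k] [Field K] [Algebra k K]
    (hK : FunFld.IsFunctionField k K) (hg : FunFld.genus k K = 1) (P₀ : FunFld.Place k K) (hP : P₀.deg = 1)
    (D : FunFld.Divisor k K) (hD : D.deg = 0) :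
    ∃! P : FunFld.Place k K, P.deg = 1 ∧
      ∃ x : K, x ≠ 0 ∧ D = Finsupp.single P 1 - Finsupp.single P₀ 1 + FunFld.div k x := by
  exact Groth.Agent.FF30.existsUnique_point hK hg P₀ hP D hD

end Groth.Agent.S10999
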