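import Groth.Statements.S11016
import Groth.Agent.FF30.Degree


set_option autoImplicit false
open FunFld
open Groth.Agent.FF30

namespace Groth.Agent.S11016

/-- `L(D) ≠ 0` iff there is an effective divisor linearly equivalent to `D`. -/
theorem result (k K : Type*) [Field k] [Field K] [Algebra k K]
    (hK : FunFld.IsFunctionField k K) (D : FunFld.Divisor k K) :
    FunFld.L D ≠ ⊥ ↔ ∃ x : K, x ≠ 0 ∧ 0 ≤ D + FunFld.div k x := by
  have hF := FF.of_isFunctionField hK
  have key : ∀ x : K, x ≠ 0 → (x ∈ FunFld.L D ↔ 0 ≤ D + FunFld.div k x) := by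
    intro x hx
    rw [mem_L_iff_ord hx]
    refine forall_congr' fun P => ?_
    rw [Finsupp.add_apply, hF.div_apply, Finsupp.zero_apply]
    omega
  constructor
  · intro h
    obtain ⟨x, hx, hx0⟩ := Submodule.exists_mem_ne_zero_of_ne_bot h
    exact ⟨x, hx0, (key x hx0).mp hx⟩
  · rintro ⟨x, hx0, hx⟩ hbot
    have := (key x hx0).mpr hx
    rw [hbot] at this
    exact hx0 this

end Groth.Agent.S11016
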