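import Groth.Statements.S11017
import Groth.Agent.FF30.RR


set_option autoImplicit false
open FunFld
open Groth.Agent.FF30

namespace Groth.Agent.S11017

/-- For a Weil differential `ω` with divisor `C`, `ord_P [ω] ≥ e` iff `ω` kills every repartition
concentrated at `P` with `P`-component of order at least `-e`. -/
theorem result (k K : Type*) [Field k] [Field K] [Algebra k K] (ω : Module.Dual k (FunFld.adele k K)) (C : FunFld.Divisor k K) (hω : FunFld.IsDivOf ω C)
    (P : FunFld.Place k K) (e : ℤ) :
    e ≤ C P ↔ ∀ (a : FunFld.Place k K → K) (ha : a ∈ FunFld.adele k K),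
      (∀ Q, Q ≠ P → a Q = 0) → P.1 (a P) ≤ WithZero.exp e → ω ⟨a, ha⟩ = 0 := by
  classical
  constructor
  · intro he a ha hsupp hP
    refine mem_WD_iff.mp ((hω C).mpr le_rfl) ⟨a, ha⟩ (Submodule.mem_sup_left fun Q => ?_)
    by_cases hQ : Q = P
    · subst hQ; exact hP.trans (WithZero.exp_le_exp.mpr he)
    · simp [hsupp Q hQ]
  · intro h
    by_contra hlt
    push Not at hlt
    have hC := (hω C).mpr le_rfl
    have hE : ω ∈ FunFld.WD (C + Finsupp.single P (e - C P)) := by
      rw [mem_WD_iff]
      intro a ha
      obtain ⟨b, hb, r, hr, hab⟩ := Submodule.mem_sup.mp ha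
      set b₁ : FunFld.Place k K → K := fun Q => if Q = P then b Q else 0 with hb₁
      have h1 : b₁ ∈ FunFld.AD (C + Finsupp.single P (e - C P)) := fun Q => by
        by_cases hQ : Q = P
        · simp only [hb₁, if_pos hQ]; exact hb Q
        · simp [hb₁, if_neg hQ]
      have h2 : b - b₁ ∈ FunFld.AD C := fun Q => by
        by_cases hQ : Q = P
        · simp [hb₁, hQ]
        · have := hb Q
          simpa [hb₁, hQ, Finsupp.single_apply, Ne.symm hQ] using this
      have h1A : b₁ ∈ FunFld.adele k K := AD_le_adele _ h1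
      have h2A : (b - b₁) + r ∈ FunFld.adele k K := by
        have : (a : FunFld.Place k K → K) - b₁ = (b - b₁) + r := by rw [← hab]; abel
        rw [← this]
        exact sub_mem a.2 h1A
      have heq : a = (⟨b₁, h1A⟩ : FunFld.adele k K) + ⟨(b - b₁) + r, h2A⟩ :=
        Subtype.ext (by rw [Submodule.coe_add, ← hab]; change b + r = b₁ + (b - b₁ + r); abel)
      rw [heq, map_add, mem_WD_iff.mp hC ⟨(b - b₁) + r, h2A⟩ (Submodule.add_mem_sup h2 hr), add_zero]
      refine h b₁ h1A (fun Q hQ => by simp [hb₁, hQ]) ?_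
      have := h1 P
      simpa using this
    have := (hω _).mp hE P
    simp at this
    omega

end Groth.Agent.S11017
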