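import Groth.Statements.S11026
import Groth.Agent.FF30.Differentials


set_option autoImplicit false
universe u v
open FunFld

namespace Groth.Agent.S11026

/-- A weakly separable finite extension `K'/k'` of a geometric function field `K/k` (the map `Ω_{K/k} →
Ω_{K'/k'}` injective) is separable over the compositum `k'K`. -/
theorem result (k k' : Type u) (K K' : Type v) [Field k] [Field k'] [Field K] [Field K']
    [Algebra k k'] [Algebra k K] [Algebra K K'] [Algebra k' K'] [Algebra k K']
    [IsScalarTower k k' K'] [IsScalarTower k K K'] [FiniteDimensional K K']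
    (hK : FunFld.IsFunctionField k K) (hg : FunFld.IsGeometric k K)
    (hK' : FunFld.IsFunctionField k' K') (hg' : FunFld.IsGeometric k' K')
    (hw : Function.Injective (KaehlerDifferential.map k k' K K')) :
    Algebra.IsSeparable (IntermediateField.adjoin K (Set.range (algebraMap k' K'))) K' := by
  obtain ⟨t, -, hDt⟩ := FF30.exists_kaehlerD_ne_zero hK hg
  have hne : KaehlerDifferential.D k' K' (algebraMap K K' t) ≠ 0 := fun h => hDt <| hw <| by
    rw [KaehlerDifferential.map_D, h, map_zero]
  have hsep := FF30.isSeparable_of_kaehlerD_ne_zero hK' hg' hne
  set F := IntermediateField.adjoin K (Set.range (algebraMap k' K')) with hF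
  have hmem : ∀ z ∈ IntermediateField.adjoin k' ({algebraMap K K' t} : Set K'), z ∈ F := by
    have hle : IntermediateField.adjoin k' ({algebraMap K K' t} : Set K') ≤
        F.toSubfield.toIntermediateField
          (fun c => IntermediateField.subset_adjoin K _ ⟨c, rfl⟩) :=
      IntermediateField.adjoin_simple_le_iff.mpr (F.algebraMap_mem t)
    exact fun z hz => hle hz
  let _ : Algebra (IntermediateField.adjoin k' ({algebraMap K K' t} : Set K')) F :=
    ((algebraMap (IntermediateField.adjoin k' ({algebraMap K K' t} : Set K')) K').codRestrict
      F.toSubfield fun z => hmem z z.2).toAlgebra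
  have : IsScalarTower (IntermediateField.adjoin k' ({algebraMap K K' t} : Set K')) F K' :=
    IsScalarTower.of_algebraMap_eq fun _ => rfl
  exact Algebra.isSeparable_tower_top_of_isSeparable
    (IntermediateField.adjoin k' ({algebraMap K K' t} : Set K')) F K'

end Groth.Agent.S11026
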