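import Groth.Statements.S11043
import Mathlib.RingTheory.Polynomial.Cyclotomic.Basic
import Mathlib.RingTheory.RootsOfUnity.Complex
import Mathlib.GroupTheory.OrderOfElement


set_option autoImplicit false
open FunFld

namespace Groth.Agent.S11043

/-- For positive integers `n`, `d` with `e = gcd(n, d)`, in `ℂ[t]` one has `(1 - t^{nd/e})^e = ∏_{θⁿ =
1} (1 - (θ t)^d)`, the product over the complex `n`-th roots of unity. -/
theorem result (n d : ℕ) (hn : 0 < n) (hd : 0 < d) :
    ((1 : Polynomial ℂ) - Polynomial.X ^ (n * d / Nat.gcd n d)) ^ Nat.gcd n d =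
      ∏ θ ∈ Polynomial.nthRootsFinset n (1 : ℂ),
        (1 - Polynomial.C (θ ^ d) * Polynomial.X ^ d) := by
  classical
  set e := Nat.gcd n d with he
  have hepos : 0 < e := Nat.gcd_pos_of_pos_left d hn
  set m := n / e with hm
  have hen : e ∣ n := Nat.gcd_dvd_left n d
  have hn' : n = e * m := (Nat.mul_div_cancel' hen).symm
  have hm0 : 0 < m := Nat.div_pos (Nat.le_of_dvd hn hen) hepos
  set ζ : ℂ := Complex.exp (2 * Real.pi * Complex.I / n)
  have hζ : IsPrimitiveRoot ζ n := Complex.isPrimitiveRoot_exp n hn.ne'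
  set ω : ℂ := ζ ^ d with hω'
  have hω : IsPrimitiveRoot ω m := by
    have h1 := IsPrimitiveRoot.orderOf ω
    rwa [hω', orderOf_pow' ζ hd.ne', ← hζ.eq_orderOf, ← he, ← hm] at h1
  have himage : ∀ {R : Type} [CommRing R] [IsDomain R] (z : R) (N : ℕ), IsPrimitiveRoot z N → 0 < N →
      Polynomial.nthRootsFinset N (1 : R) = (Finset.range N).image fun i => z ^ i := by
    intro R _ _ z N hz hN
    have : NeZero N := ⟨hN.ne'⟩
    ext a
    rw [Polynomial.mem_nthRootsFinset hN, Finset.mem_image]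
    constructor
    · intro ha
      obtain ⟨i, hi, rfl⟩ := hz.eq_pow_of_pow_eq_one ha
      exact ⟨i, Finset.mem_range.mpr hi, rfl⟩
    · rintro ⟨i, -, rfl⟩
      rw [← pow_mul, mul_comm, pow_mul, hz.pow_eq_one, one_pow]
  have hinj : ∀ {R : Type} [CommRing R] (z : R) (N : ℕ), IsPrimitiveRoot z N →
      Set.InjOn (fun i => z ^ i) (Finset.range N : Set ℕ) := fun z N hz i hi j hj h =>
    hz.pow_inj (Finset.mem_range.mp hi) (Finset.mem_range.mp hj) h
  set Y : Polynomial ℂ := Polynomial.X ^ d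
  have hCω : IsPrimitiveRoot (Polynomial.C ω) m := hω.map_of_injective Polynomial.C_injective
  have hblock : ∏ i ∈ Finset.range m, (1 - Polynomial.C ω ^ i * Y) = 1 - Y ^ m := by
    have h1 := hCω.pow_sub_pow_eq_prod_sub_mul (x := (1 : Polynomial ℂ)) (y := Y) hm0
    rw [one_pow, himage _ _ hCω hm0] at h1
    rw [h1]
    convert (Finset.prod_image (f := fun a => 1 - a * Y) (hinj _ _ hCω)).symm using 1
    congr!
  have hrep : ∀ r : ℕ, ∏ i ∈ Finset.range (r * m), (1 - Polynomial.C ω ^ i * Y) = (1 - Y ^ m) ^ r := by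
    intro r
    induction r with
    | zero => simp
    | succ r ih =>
      rw [add_mul, one_mul, Finset.prod_range_add, ih, pow_succ, ← hblock]
      congr 1
      refine Finset.prod_congr rfl fun i _ => ?_
      rw [pow_add, mul_comm r m, pow_mul, hCω.pow_eq_one, one_pow, one_mul]
  rw [himage ζ n hζ hn, Finset.prod_image (hinj ζ n hζ)]
  have hnd : n * d / e = m * d := by
    rw [hn', mul_assoc, Nat.mul_div_cancel_left _ hepos]
  rw [hnd, mul_comm m d, pow_mul, ← hrep e, ← hn']
  refine Finset.prod_congr rfl fun i _ => ?_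
  rw [← map_pow, hω', ← pow_mul, ← pow_mul, mul_comm i d]

end Groth.Agent.S11043
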