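import Groth.Statements.S11047
import Groth.Agent.FF30.Fixed


set_option autoImplicit false
open FunFld
open Groth.Agent.FF30

namespace Groth.Agent.S11047

/-- Over an algebraically closed constant field, a `k`-automorphism of a function field of one variable
of genus `g` that fixes more than `2g + 2` places is the identity. -/
theorem result
    (k K : Type*) [Field k] [IsAlgClosed k] [Field K] [Algebra k K]
    (hK : FunFld.IsFunctionField k K) (σ : K ≃ₐ[k] K)
    (h : ((2 * FunFld.genus k K + 2 : ℕ) : ℕ∞) <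
      Set.encard {P : FunFld.Place k K | ∀ x : K, P.1 x < 1 → P.1 (σ x) < 1}) :
    σ = 1 := by
  obtain ⟨F, hFs, hF⟩ : ∃ F : Finset (FunFld.Place k K),
      (∀ P ∈ F, ∀ x : K, P.1 x < 1 → P.1 (σ x) < 1) ∧ 2 * FunFld.genus k K + 2 < F.card := by
    have h' : ((2 * FunFld.genus k K + 3 : ℕ) : ℕ∞) ≤
        Set.encard {P : FunFld.Place k K | ∀ x : K, P.1 x < 1 → P.1 (σ x) < 1} := by
      exact Order.add_one_le_of_lt h
    obtain ⟨t, ht, htc⟩ := Set.exists_subset_encard_eq h'
    have htf : t.Finite := Set.finite_of_encard_eq_coe htc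
    refine ⟨htf.toFinset, fun P hP => ht (htf.mem_toFinset.mp hP), ?_⟩
    rw [htf.encard_eq_coe_toFinset_card] at htc
    have : htf.toFinset.card = 2 * FunFld.genus k K + 3 := by exact_mod_cast htc
    omega
  exact algEquiv_eq_one_of_fixed hK σ hF hFs

end Groth.Agent.S11047
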