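import Groth.Statements.S11049
import Mathlib
import Groth.Agent.CAlg6.CotFlat

set_option autoImplicit false
open CAlg
open Groth.Agent

namespace Groth.Agent.S11049

/-- For `k`-algebras `S ⊆ R` with `R` an integral domain and a nonzero `x ∈ S`, if `R/S` and `R/Rx` are
finite-dimensional over `k` then `dim_k R/Rx = dim_k S/Sx`. (The published statement allows `x = 0`;
then `R` is a field finite over `k` and the two sides are `dim_k R` and `dim_k S`, which differ for
`S = k ⊊ R`; the published proof multiplies by `x` as an injection, so `x ≠ 0` is assumed here.) -/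
theorem result
    (k R : Type*) [Field k] [CommRing R]
    [IsDomain R] [Algebra k R] (S : Subalgebra k R) (x : S) (hx : (x : R) ≠ 0)
    [Module.Finite k (R ⧸ Subalgebra.toSubmodule S)]
    [Module.Finite k (R ⧸ Ideal.span {(x : R)})] :
    Module.finrank k (R ⧸ Ideal.span {(x : R)}) = Module.finrank k (S ⧸ Ideal.span {x}) := by
  let S' := Subalgebra.toSubmodule S
  let μ : R →ₗ[k] R := LinearMap.mulLeft k (x : R)
  let U : Submodule k R := S'.map μ
  let V : Submodule k R := LinearMap.range μ
  have hUV : U ≤ V := LinearMap.map_le_range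
  have hUS : U ≤ S' := by
    rintro _ ⟨s, hs, rfl⟩
    exact S.mul_mem x.2 hs
  have hV : V = (Ideal.span {(x : R)}).restrictScalars k := by
    ext z
    simp [V, μ, Ideal.mem_span_singleton', mul_comm, eq_comm]
  have hk1 : LinearMap.ker (U.mkQ.comp μ) = S' := by
    ext z
    rw [LinearMap.mem_ker, LinearMap.comp_apply, Submodule.mkQ_apply, Submodule.Quotient.mk_eq_zero]
    refine ⟨fun ⟨s, hs, he⟩ => ?_, fun hz => ⟨z, hz, rfl⟩⟩
    rwa [← mul_left_cancel₀ hx he]
  have hk2 : LinearMap.ker (U.mkQ.comp S.val.toLinearMap) =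
      (Ideal.span {x}).restrictScalars k := by
    ext z
    rw [LinearMap.mem_ker, LinearMap.comp_apply, Submodule.mkQ_apply, Submodule.Quotient.mk_eq_zero,
      Submodule.restrictScalars_mem, Ideal.mem_span_singleton']
    refine ⟨fun ⟨s, hs, he⟩ => ⟨⟨s, hs⟩, Subtype.ext ?_⟩, fun ⟨s, hs⟩ => ⟨s, s.2, ?_⟩⟩
    · show s * (x : R) = z
      rw [mul_comm]; exact he
    · rw [← hs]; show (x : R) * s = s * (x : R)
      ring
  let W1 := V.map U.mkQ
  let W2 := S'.map U.mkQ
  have e1 : (R ⧸ S') ≃ₗ[k] W1 :=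
    (Submodule.quotEquivOfEq _ _ hk1.symm).trans ((LinearMap.quotKerEquivRange _).trans
      (LinearEquiv.ofEq _ _ (by rw [LinearMap.range_comp])))
  have e2 : (S ⧸ (Ideal.span {x}).restrictScalars k) ≃ₗ[k] W2 :=
    (Submodule.quotEquivOfEq _ _ hk2.symm).trans ((LinearMap.quotKerEquivRange _).trans
      (LinearEquiv.ofEq _ _ (by rw [LinearMap.range_comp]; congr 1; ext z; simp [S'])))
  have q1 : ((R ⧸ U) ⧸ W1) ≃ₗ[k] R ⧸ Ideal.span {(x : R)} :=
    (Submodule.quotientQuotientEquivQuotient U V hUV).trans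
      ((Submodule.quotEquivOfEq _ _ hV).trans (Submodule.Quotient.restrictScalarsEquiv k _))
  have q2 : ((R ⧸ U) ⧸ W2) ≃ₗ[k] R ⧸ S' := Submodule.quotientQuotientEquivQuotient U S' hUS
  have : Module.Finite k W1 := Module.Finite.equiv e1
  have : Module.Finite k ((R ⧸ U) ⧸ W1) := Module.Finite.equiv q1.symm
  have : Module.Finite k (R ⧸ U) := Module.Finite.of_submodule_quotient W1
  have h1 := W1.finrank_quotient_add_finrank
  have h2 := W2.finrank_quotient_add_finrank
  rw [q1.finrank_eq, ← e1.finrank_eq] at h1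
  rw [q2.finrank_eq, ← e2.finrank_eq,
    (Submodule.Quotient.restrictScalarsEquiv k (Ideal.span {x})).finrank_eq] at h2
  omega

end Groth.Agent.S11049
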