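import Groth.Statements.S11056
import Groth.Agent.FF30.Embed


set_option autoImplicit false
open FunFld
open Groth.Agent.FF30 WithZero

namespace Groth.Agent.S11056

/-- Over an algebraically closed constant field, if `deg D ≥ 2g + 1` then the projective map given by a
basis of `L(D)` is an embedding, i.e. nonsingular at every place. Here a projective map is
nonsingular at a place when its local ring there (quotients of polynomials over `k` in the ratios
`φᵢ/φⱼ`, `φⱼ` of least order at the place, with denominator a unit there) is the whole valuation
ring. -/
theorem result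
    (k K : Type*) [Field k] [IsAlgClosed k] [Field K] [Algebra k K]
    (hK : FunFld.IsFunctionField k K) (D : FunFld.Divisor k K)
    (hD : 2 * (FunFld.genus k K : ℤ) + 1 ≤ D.deg) {n : ℕ} (φ : Fin (n + 1) → K)
    (hφ : LinearIndependent k φ) (hspan : Submodule.span k (Set.range φ) = FunFld.L D)
    (P : FunFld.Place k K) : FunFld.IsNonsingularAt φ P := by
  have hF : FF k K := hK.1
  refine nonsingular_of_complete hK (fun i => hφ.ne_zero i) hspan (fun R => ?_) (fun R Q => ?_) P
  all_goals
    have e0 := ell_eq_of_deg_gt hK (D := D) (by omega)
    have e1 := ell_eq_of_deg_gt hK (D := D - Finsupp.single R 1)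
      (by rw [deg_sub, hF.deg_single']; omega)
    rw [deg_sub, hF.deg_single'] at e1
  · omega
  · have e2 := ell_eq_of_deg_gt hK (D := D - Finsupp.single R 1 - Finsupp.single Q 1)
      (by rw [deg_sub, deg_sub, hF.deg_single', hF.deg_single']; omega)
    rw [deg_sub, deg_sub, hF.deg_single', hF.deg_single'] at e2
    omega

end Groth.Agent.S11056
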