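import Groth.Statements.S11057
import Groth.Agent.FF30.Embed


set_option autoImplicit false
open FunFld
open Groth.Agent.FF30 WithZero

namespace Groth.Agent.S11057

/-- Over an algebraically closed constant field, if `K` has degree at least `3` over every subfield
`k(x)` generated by a nonconstant element, then the canonical map (given by a basis of `L(D)` for a
canonical divisor `D`) is an embedding, i.e. nonsingular at every place. Here a projective map is
nonsingular at a place when its local ring there (quotients of polynomials over `k` in the ratios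
`φᵢ/φⱼ`, `φⱼ` of least order at the place, with denominator a unit there) is the whole valuation
ring. -/
theorem result
    (k K : Type*) [Field k] [IsAlgClosed k] [Field K] [Algebra k K]
    (hK : FunFld.IsFunctionField k K)
    (h2 : ∀ x : K, Transcendental k x →
      2 < Module.finrank (IntermediateField.adjoin k ({x} : Set K)) K)
    (D : FunFld.Divisor k K) (hD : FunFld.IsCanonical k K D) {n : ℕ} (φ : Fin (n + 1) → K)
    (hφ : LinearIndependent k φ) (hspan : Submodule.span k (Set.range φ) = FunFld.L D)
    (P : FunFld.Place k K) : FunFld.IsNonsingularAt φ P := by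
  classical
  have hF : FF k K := hK.1
  have hlow : ∀ E : Divisor k K, 0 ≤ E → E.deg ≤ 2 → ell E ≤ 1 := by
    intro E hE hdeg
    by_contra hlt
    obtain ⟨x, hxE, hx⟩ : ∃ x ∈ L E, x ∉ Set.range (algebraMap k K) := by
      by_contra hcon
      push Not at hcon
      have hsub : L E ≤ (1 : Submodule k K) := fun x hx => mem_one_iff.mpr (hcon x hx)
      rw [← L_zero' hK] at hsub
      have := hF.finite_L (0 : Divisor k K)
      have h1 : ell E ≤ ell (0 : Divisor k K) := Submodule.finrank_mono hsub
      rw [ell_zero hK] at h1
      exact hlt h1
    have htr := transcendental_of_not_mem_range hK hx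
    have hle : (poleDiv x : Divisor k K) ≤ E := by
      intro Q
      rw [hF.poleDiv_apply]
      refine max_le ?_ (hE Q)
      have hx0 : x ≠ 0 := fun h0 => hx ⟨0, by rw [map_zero, h0]⟩
      have := (mem_L_iff_ord hx0).mp hxE Q
      omega
    have h1 := deg_mono hle
    rw [hF.deg_poleDiv htr] at h1
    have h3 := h2 x htr
    omega
  have hg : 2 ≤ genus k K := by
    obtain ⟨P₁⟩ := hF.nonempty_place
    by_contra hlt
    have h1 := hlow (Finsupp.single P₁ 2) (Finsupp.single_nonneg.mpr (by omega))
      (by rw [hF.deg_single'])
    have h3 := ell_eq_of_deg_gt hK (D := Finsupp.single P₁ 2) (by rw [hF.deg_single']; omega)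
    rw [hF.deg_single'] at h3
    omega
  have hCell := ell_canonical hK hD
  refine nonsingular_of_complete hK (fun i => hφ.ne_zero i) hspan
    (fun R => ell_sub_single_lt hK (by omega) D (Or.inr hD) R) (fun R Q => ?_) P
  have h1 := ell_sub_single_lt hK (by omega) D (Or.inr hD) R
  have h2' := hF.ell_le_succ D R
  have h3 := riemann_roch' hK hD ((Finsupp.single R 1 : Divisor k K) + Finsupp.single Q 1)
  have h4 := hlow ((Finsupp.single R 1 : Divisor k K) + Finsupp.single Q 1)
    (add_nonneg (Finsupp.single_nonneg.mpr zero_le_one) (Finsupp.single_nonneg.mpr zero_le_one))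
    (by rw [deg_add, hF.deg_single', hF.deg_single']; norm_num)
  rw [deg_add, hF.deg_single', hF.deg_single', ← sub_sub] at h3
  omega

end Groth.Agent.S11057
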