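import Groth.Statements.S11060
import Groth.Agent.FF30.PlaneEmbed


set_option autoImplicit false
open FunFld
open Groth.Agent.FF30

namespace Groth.Agent.S11060

/-- Over an algebraically closed constant field, a function field of genus `g` with a nonsingular plane
model has `g` a triangular number. Here a projective map is nonsingular at a place when its local
ring there (quotients of polynomials over `k` in the ratios `φᵢ/φⱼ`, `φⱼ` of least order at the
place, with denominator a unit there) is the whole valuation ring. -/
theorem result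
    (k K : Type*) [Field k] [IsAlgClosed k] [Field K] [Algebra k K]
    (hK : FunFld.IsFunctionField k K)
    (h : ∃ x y : K, IntermediateField.adjoin k ({x, y} : Set K) = ⊤ ∧
      ∀ P : FunFld.Place k K, FunFld.IsNonsingularAt ![(1 : K), x, y] P) :
    ∃ m : ℕ, 2 * FunFld.genus k K = m * (m + 1) := by
  obtain ⟨x, y, hxy, hns⟩ := h
  have hF : FF k K := hK.1
  have heq := (two_mul_genus_eq_iff hK hxy).mpr hns
  obtain ⟨d, hd⟩ : ∃ d : ℕ, (mapDiv k ![(1 : K), x, y]).deg = d :=
    ⟨_, (Int.toNat_of_nonneg (hF.planeDiv_deg_nonneg x y)).symm⟩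
  rw [hd] at heq
  rcases Nat.lt_or_ge d 2 with h2 | h2
  · obtain ⟨f, hf, hfxy⟩ := exists_irreducible_relation hK x y
    have hdeg := deg_planeDiv hK hxy hf hfxy
    have hd1 : d = 1 := by
      by_contra hne
      have hd0 : f.totalDegree = 0 := by rw [hd] at hdeg; omega
      rw [MvPolynomial.totalDegree_eq_zero_iff_eq_C] at hd0
      rw [hd0, MvPolynomial.aeval_C, map_eq_zero] at hfxy
      exact hf.ne_zero (by rw [hd0, hfxy, map_zero])
    refine ⟨0, ?_⟩
    rw [hd1] at heq
    simp at heq
    omega
  · refine ⟨d - 2, ?_⟩
    zify [h2]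
    rw [heq]
    ring

end Groth.Agent.S11060
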