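import Groth.Statements.S11066
import Groth.Agent.FF30.Embed


set_option autoImplicit false
open FunFld
open Groth.Agent.FF30 WithZero

namespace Groth.Agent.S11066

/-- Over an algebraically closed constant field, for an effective projective map `φ` normalized at the
place `P` (`1` in the span of the entries, all entries integral at `P`), the local ring of `φ` at
`P` has an element of order one at `P` (a local parameter) exactly when the span of the entries has
one. The local ring consists of the quotients of polynomials over `k` in the ratios `φᵢ/φⱼ`, `φⱼ` of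
least order at `P`, with denominator a unit at `P`. -/
theorem result
    (k K : Type*) [Field k] [IsAlgClosed k] [Field K] [Algebra k K]
    (hK : FunFld.IsFunctionField k K) {n : ℕ} (φ : Fin (n + 1) → K)
    (P : FunFld.Place k K) (heff : (1 : K) ∈ Submodule.span k (Set.range φ))
    (hnorm : ∀ i, P.1 (φ i) ≤ 1) :
    (∃ t : K, FunFld.InLocRing φ P t ∧ P.1 t = WithZero.exp (-1)) ↔
      ∃ t ∈ Submodule.span k (Set.range φ), P.1 t = WithZero.exp (-1) := by
  have hF : FF k K := hK.1
  obtain ⟨i₁, hi₁⟩ : ∃ i, P.1 (φ i) = 1 := by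
    by_contra hcon
    push Not at hcon
    have h : ∀ l ∈ Submodule.span k (Set.range φ), P.1 l < 1 := by
      intro l hl
      induction hl using Submodule.span_induction with
      | mem x hx => obtain ⟨i, rfl⟩ := hx; exact lt_of_le_of_ne (hnorm i) (hcon i)
      | zero => simp
      | add a b _ _ ha hb => exact lt_of_le_of_lt (P.1.map_add a b) (max_lt ha hb)
      | smul c a _ ha => exact lt_of_le_of_lt (val_smul_le P c a) ha
    simpa using h 1 heff
  have hne : φ i₁ ≠ 0 := fun h => by simp [h] at hi₁
  have hj : IsMin φ P i₁ := ⟨hne, fun i => le_of_le_of_eq (hnorm i) hi₁.symm⟩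
  constructor
  · rintro ⟨t, ht, ht1⟩
    obtain ⟨l, hl, hl1⟩ := hF.exists_linear_param hj ⟨t, (inLocRing_iff hj t).mp ht, ht1⟩
    rw [map_div₀, hi₁, div_one] at hl1
    exact ⟨l, hl, hl1⟩
  · rintro ⟨t, ht, ht1⟩
    refine ⟨t / φ i₁, (inLocRing_iff hj _).mpr (chart_le_locRing φ P i₁ (mem_chart_of_span i₁ ht)), ?_⟩
    rw [map_div₀, hi₁, div_one, ht1]

end Groth.Agent.S11066
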