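import Groth.Statements.S11071
import Groth.Agent.FF30.ResVal


set_option autoImplicit false
open FunFld
open Groth.Agent.FF30 WithZero

namespace Groth.Agent.S11071

/-- Over an algebraically closed constant field, let `φ = (φ₀, …, φₙ)`, `n ≥ 1`, be a birational
projective map, `f₁, …, f_r` homogeneous generators of its ideal of homogeneous relations (the ideal
of the image curve), and `P` a place at which all `φᵢ/φ₀` are integral, with image point `a`. Then
`φ` is nonsingular at `P` if and only if the matrix `(∂fᵢ/∂Xⱼ(a))`, `1 ≤ j ≤ n`, has rank `n - 1`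
(entries read in the residue field of `P`). Here the local ring of `φ` at `P` consists of the
quotients of polynomials over `k` in the ratios `φᵢ/φ₀` with denominator a unit at `P`; `φ` is
nonsingular at `P` when this ring is the whole valuation ring. -/
theorem result (k K : Type*) [Field k] [IsAlgClosed k] [Field K] [Algebra k K]
    (hK : FunFld.IsFunctionField k K) {n : ℕ} (hn : 1 ≤ n)
    (φ : Fin (n + 1) → K) (hφ : LinearIndependent k φ)
    (hbir : IntermediateField.adjoin k (Set.range fun i => φ i / φ 0) = ⊤)
    (P : FunFld.Place k K) (hP : ∀ i, P.1 (φ i) ≤ P.1 (φ 0)) {r : ℕ}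
    (f : Fin r → MvPolynomial (Fin (n + 1)) k)
    (hhom : ∀ i, (f i).IsHomogeneous (f i).totalDegree)
    (hgen : Ideal.span (Set.range f) =
      RingHom.ker (MvPolynomial.aeval fun i => Polynomial.C (φ i) * Polynomial.X))
    (M : Matrix (Fin r) (Fin n) P.O)
    (hM : ∀ i j, ((M i j : P.O) : K) =
      MvPolynomial.aeval (fun l => φ l / φ 0) (MvPolynomial.pderiv j.succ (f i))) :
    FunFld.IsNonsingularAt φ P ↔ (M.map (IsLocalRing.residue P.O)).rank = n - 1 := by
  classical
  have hF : FF k K := hK.1
  have h0 : φ 0 ≠ 0 := hφ.ne_zero 0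
  have hjm : IsMin φ P 0 := ⟨h0, hP⟩
  choose c hc using fun i => hF.exists_sub_lt P (val_ratio_le_one hjm i)
  have hrelJ : Ideal.span (Set.range f) = relIdeal k φ := hgen
  have hfv : ∀ i, MvPolynomial.aeval (fun l => φ l / φ 0) (f i) = 0 := by
    intro i
    have h1 := (mem_relIdeal_homog φ (hhom i)).mp (hrelJ ▸ Ideal.subset_span ⟨i, rfl⟩)
    have h2 := aeval_mul_left_of_homog (hhom i) (φ 0) fun l => φ l / φ 0
    simp only [mul_div_cancel₀ _ h0] at h2
    rw [h1, zero_eq_mul] at h2
    exact h2.resolve_left (pow_ne_zero _ h0)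
  have hres : ∀ i l, (M.map (IsLocalRing.residue P.O)) i l = algebraMap k _
      (MvPolynomial.eval c (MvPolynomial.pderiv l.succ (f i))) := by
    intro i l
    rw [Matrix.map_apply]
    refine residue_eq_of_sub_lt P _ _ ?_
    rw [hM i l]
    exact val_aeval_sub_lt P _ c hc _
  set N := M.map (IsLocalRing.residue P.O) with hN
  set ι' := algebraMap k (IsLocalRing.ResidueField P.O)
  have hι : Function.Surjective ι' := hF.residue_algebraMap_surjective P
  have hker : ∀ e : Fin (n + 1) → k, e 0 = 0 →
      ((∀ r, ∑ l, MvPolynomial.eval c (MvPolynomial.pderiv l (f r)) * e l = 0) ↔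
        (fun l : Fin n => ι' (e l.succ)) ∈ LinearMap.ker N.mulVecLin) := by
    intro e he
    rw [LinearMap.mem_ker, Matrix.mulVecLin_apply, funext_iff]
    refine forall_congr' fun r => ?_
    rw [Fin.sum_univ_succ, he, mul_zero, zero_add]
    simp only [Matrix.mulVec, dotProduct, hres, ← map_mul, ← map_sum, Pi.zero_apply, map_eq_zero]
  have hrank := N.mulVecLin.finrank_range_add_finrank_ker
  rw [Module.finrank_fin_fun] at hrank
  constructor
  · intro hns
    obtain ⟨e₀, ⟨he00, he0⟩, hne, hline⟩ := finrank_tangent_eq_one hK hjm hc f hrelJ hfv hns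
    have h1 : Module.finrank (IsLocalRing.ResidueField P.O) (LinearMap.ker N.mulVecLin) = 1 := by
      refine finrank_eq_one (⟨_, (hker e₀ he00).mp he0⟩ : LinearMap.ker N.mulVecLin) ?_ ?_
      · intro h
        apply hne
        funext l
        refine Fin.cases he00 (fun l => ?_) l
        exact (map_eq_zero ι').mp (congrFun (congrArg Subtype.val h) l)
      · rintro ⟨w, hw⟩
        choose w' hw' using fun l => hι (w l)
        let e : Fin (n + 1) → k := Fin.cases 0 w'
        have hwe : (fun l : Fin n => ι' (e l.succ)) = w := funext fun l => by simpa [e] using hw' l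
        obtain ⟨s, hs⟩ := hline e ⟨rfl, (hker e rfl).mpr (hwe.symm ▸ hw)⟩
        refine ⟨ι' s, Subtype.ext (funext fun l => ?_)⟩
        simp only [SetLike.val_smul, Pi.smul_apply, smul_eq_mul]
        rw [← map_mul, ← congrFun hwe l, hs, Pi.smul_apply, smul_eq_mul]
    show Module.finrank _ (LinearMap.range N.mulVecLin) = n - 1
    omega
  · intro h
    have h1 : Module.finrank (IsLocalRing.ResidueField P.O) (LinearMap.ker N.mulVecLin) = 1 := by
      have h' : Module.finrank (IsLocalRing.ResidueField P.O) (LinearMap.range N.mulVecLin) = n - 1 := h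
      omega
    obtain ⟨⟨w, hw⟩, hw0, hwall⟩ := finrank_eq_one_iff'.mp h1
    choose w' hw' using fun l => hι (w l)
    let e₀ : Fin (n + 1) → k := Fin.cases 0 w'
    have hwe : (fun l : Fin n => ι' (e₀ l.succ)) = w := funext fun l => by simpa [e₀] using hw' l
    refine FF.nonsingular_of_tangent hF hjm hbir hc f hfv (e₀ := e₀)
      ⟨rfl, (hker e₀ rfl).mpr (hwe.symm ▸ hw)⟩ ?_ ?_
    · intro h
      apply hw0
      refine Subtype.ext ?_
      show w = 0
      rw [← hwe]
      funext l
      simp [congrFun h l.succ]
    · rintro e ⟨he0, he⟩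
      obtain ⟨s, hs⟩ := hwall ⟨_, (hker e he0).mp he⟩
      obtain ⟨s', rfl⟩ := hι s
      refine ⟨s', funext fun l => ?_⟩
      refine Fin.cases ?_ (fun l => ?_) l
      · simp [he0, e₀]
      · have h2 := congrFun (congrArg Subtype.val hs) l
        simp only [SetLike.val_smul, Pi.smul_apply, smul_eq_mul] at h2
        rw [← congrFun hwe l, ← map_mul] at h2
        exact (ι'.injective h2).symm

end Groth.Agent.S11071
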