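import Groth.Statements.S11072
import Groth.Agent.FF30.ResVal


set_option autoImplicit false
open FunFld
open Groth.Agent.FF30 WithZero

namespace Groth.Agent.S11072

/-- Over an algebraically closed constant field, a plane curve with defining irreducible homogeneous
polynomial `f` and birational natural map `φ = (φ₀ : φ₁ : φ₂)` is singular at the point `a = φ(P)`
(coordinates `(φᵢ/φⱼ)(P)` for an entry `φⱼ` of least order at `P`, read in the residue field) if and
only if `∂f/∂Xᵢ(a) = 0` for `i = 0, 1, 2`. Here `φ` is nonsingular at `P` when its local ring there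
(quotients of polynomials over `k` in the `φᵢ/φⱼ` with denominator a unit at `P`) is the whole
valuation ring. -/
theorem result (k K : Type*) [Field k] [IsAlgClosed k] [Field K] [Algebra k K]
    (hK : FunFld.IsFunctionField k K) (φ : Fin 3 → K)
    (hφ : LinearIndependent k φ)
    (hbir : IntermediateField.adjoin k (Set.range fun i => φ i / φ 0) = ⊤)
    (f : MvPolynomial (Fin 3) k) (hf : Irreducible f) (hhom : f.IsHomogeneous f.totalDegree)
    (hfφ : MvPolynomial.aeval φ f = 0) (P : FunFld.Place k K) (j : Fin 3)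
    (hj : ∀ i, P.1 (φ i) ≤ P.1 (φ j)) (a : Fin 3 → P.O) (ha : ∀ i, ((a i : P.O) : K) = φ i / φ j) :
    ¬ FunFld.IsNonsingularAt φ P ↔
      ∀ l : Fin 3, MvPolynomial.aeval (fun i => IsLocalRing.residue P.O (a i))
        (MvPolynomial.pderiv l f) = 0 := by
  classical
  have hF : FF k K := hK.1
  have hjm : IsMin φ P j := ⟨hφ.ne_zero j, hj⟩
  choose c hc using fun i => hF.exists_sub_lt P (val_ratio_le_one hjm i)
  have hgrad : ∀ l, MvPolynomial.aeval (fun i => IsLocalRing.residue P.O (a i))
      (MvPolynomial.pderiv l f) = 0 ↔ MvPolynomial.eval c (MvPolynomial.pderiv l f) = 0 := by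
    intro l
    rw [aeval_residue_eq P a c (fun i => by rw [ha i]; exact hc i), map_eq_zero]
  simp only [hgrad]
  have hfv : MvPolynomial.aeval (fun i => φ i / φ j) f = 0 := by
    have h1 := aeval_mul_left_of_homog hhom (φ j) fun i => φ i / φ j
    simp only [mul_div_cancel₀ _ hjm.1] at h1
    rw [hfφ, zero_eq_mul] at h1
    exact h1.resolve_left (pow_ne_zero _ hjm.1)
  have hgen : Ideal.span (Set.range fun _ : Unit => f) = relIdeal k φ := by
    rw [Set.range_const, relIdeal_eq_span_of_irreducible hK (hφ.ne_zero 0) hbir hf hhom hfφ]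
  have hcj : c j = 1 := by
    by_contra hne
    have h1 := hc j
    rw [div_self hjm.1, ← (algebraMap k K).map_one, ← map_sub,
      val_algebraMap P (sub_ne_zero.mpr (Ne.symm hne))] at h1
    exact lt_irrefl _ h1
  obtain ⟨l₁, l₂, h12, h1j, h2j, hcover⟩ : ∃ l₁ l₂ : Fin 3, l₁ ≠ l₂ ∧ l₁ ≠ j ∧ l₂ ≠ j ∧
      ∀ l, l = j ∨ l = l₁ ∨ l = l₂ := by
    fin_cases j
    · exact ⟨1, 2, by decide, by decide, by decide, by decide⟩
    · exact ⟨0, 2, by decide, by decide, by decide, by decide⟩
    · exact ⟨0, 1, by decide, by decide, by decide, by decide⟩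
  have hsum : ∀ g : Fin 3 → k, ∑ l, g l = g j + g l₁ + g l₂ := by
    intro g
    have huniv : (Finset.univ : Finset (Fin 3)) = {j, l₁, l₂} := by
      ext l; simpa using hcover l
    rw [huniv, Finset.sum_insert (by simp [h1j.symm, h2j.symm]), Finset.sum_pair h12, add_assoc]
  set g := fun l => MvPolynomial.eval c (MvPolynomial.pderiv l f)
  have heul : g j + c l₁ * g l₁ + c l₂ * g l₂ = 0 := by
    have h1 := euler_eval hhom c
    rw [eval_eq_zero_of_aeval P hc hfv, mul_zero, hsum, hcj, one_mul] at h1
    exact h1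
  constructor
  · intro hns l
    by_contra hl
    apply hns
    have hg : g l₁ ≠ 0 ∨ g l₂ ≠ 0 := by
      by_contra hcon
      push Not at hcon
      rw [hcon.1, hcon.2, mul_zero, mul_zero, add_zero, add_zero] at heul
      rcases hcover l with rfl | rfl | rfl
      exacts [hl heul, hl hcon.1, hl hcon.2]
    let e₀ : Fin 3 → k := fun l => if l = l₁ then g l₂ else if l = l₂ then -g l₁ else 0
    have e1 : e₀ l₁ = g l₂ := if_pos rfl
    have e2 : e₀ l₂ = -g l₁ := by simp [e₀, h12.symm]
    have ej : e₀ j = 0 := by simp [e₀, h1j.symm, h2j.symm]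
    refine FF.nonsingular_of_tangent hF hjm (bir_change hjm.1 hbir) hc (fun _ : Unit => f)
      (fun _ => hfv) (e₀ := e₀) ⟨ej, fun _ => ?_⟩ ?_ ?_
    · rw [hsum, ej, e1, e2]; ring
    · intro h0
      rcases hg with h | h
      · exact h (by simpa [e2] using congrFun h0 l₂)
      · exact h (by simpa [e1] using congrFun h0 l₁)
    · rintro e ⟨hej, he⟩
      have h1 := he ()
      rw [hsum, hej, mul_zero, zero_add] at h1
      change g l₁ * e l₁ + g l₂ * e l₂ = 0 at h1
      rcases hg with h | h
      · refine ⟨-(e l₂ / g l₁), funext fun i => ?_⟩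
        rcases hcover i with rfl | rfl | rfl
        · simp [hej, ej]
        · rw [Pi.smul_apply, e1, smul_eq_mul]; field_simp; linear_combination h1
        · rw [Pi.smul_apply, e2, smul_eq_mul]; field_simp
      · refine ⟨e l₁ / g l₂, funext fun i => ?_⟩
        rcases hcover i with rfl | rfl | rfl
        · simp [hej, ej]
        · rw [Pi.smul_apply, e1, smul_eq_mul]; field_simp
        · rw [Pi.smul_apply, e2, smul_eq_mul]; field_simp; linear_combination h1
  · intro hall hns
    obtain ⟨e₀, -, -, hline⟩ := finrank_tangent_eq_one hK hjm hc (fun _ : Unit => f) hgen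
      (fun _ => hfv) hns
    have hmem : ∀ i, i ≠ j → (Pi.single i 1 : Fin 3 → k) ∈ tangent (fun _ : Unit => f) c j := fun i hi =>
      ⟨Pi.single_eq_of_ne hi.symm _, fun _ => by simp [hall]⟩
    obtain ⟨a₁, ha₁⟩ := hline _ (hmem l₁ h1j)
    obtain ⟨a₂, ha₂⟩ := hline _ (hmem l₂ h2j)
    have e11 := congrFun ha₁ l₁
    have e12 := congrFun ha₁ l₂
    have e22 := congrFun ha₂ l₂
    simp only [Pi.single_eq_same, Pi.single_eq_of_ne h12.symm, Pi.smul_apply, smul_eq_mul] at e11 e12 e22
    rcases mul_eq_zero.mp e12.symm with h | h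
    · rw [h, zero_mul] at e11; exact one_ne_zero e11
    · rw [h, mul_zero] at e22; exact one_ne_zero e22

end Groth.Agent.S11072
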