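import Groth.Statements.S11074
import Groth.Agent.FF30.ResVal


set_option autoImplicit false
open FunFld
open Groth.Agent.FF30 WithZero

namespace Groth.Agent.S11074

/-- Over an algebraically closed constant field, at a nonsingular point `a = φ(P)` of a plane curve
`V(f)` with birational natural map `φ = (φ₀ : φ₁ : φ₂)`, the tangent line is `(∂f/∂X₀(a) : ∂f/∂X₁(a)
: ∂f/∂X₂(a))`: the corresponding linear form, pulled back along `φ` normalized at `P`, vanishes to
order at least `2` at `P` (the tangent line being the one line whose pullback vanishes to order `≥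
2`). Nonsingular at `P` means that the local ring of `φ` at `P` (quotients of polynomials over `k`
in the `φᵢ/φⱼ`, `φⱼ` of least order at `P`, denominator a unit at `P`) is the whole valuation ring. -/
theorem result
    (k K : Type*) [Field k] [IsAlgClosed k] [Field K] [Algebra k K]
    (hK : FunFld.IsFunctionField k K) (φ : Fin 3 → K) (hφ : LinearIndependent k φ)
    (hbir : IntermediateField.adjoin k (Set.range fun i => φ i / φ 0) = ⊤)
    (f : MvPolynomial (Fin 3) k) (hf : Irreducible f) (hhom : f.IsHomogeneous f.totalDegree)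
    (hfφ : MvPolynomial.aeval φ f = 0) (P : FunFld.Place k K) (j : Fin 3)
    (hj : ∀ i, P.1 (φ i) ≤ P.1 (φ j)) (hns : FunFld.IsNonsingularAt φ P) (a : Fin 3 → P.O)
    (ha : ∀ i, ((a i : P.O) : K) = φ i / φ j) (c : Fin 3 → k)
    (hc : ∀ i, algebraMap k (IsLocalRing.ResidueField P.O) (c i) =
      MvPolynomial.aeval (fun l => IsLocalRing.residue P.O (a l)) (MvPolynomial.pderiv i f)) :
    P.1 (∑ i, c i • (φ i / φ j)) ≤ WithZero.exp (-2) := by
  classical
  have hF : FF k K := hK.1
  have hjm : IsMin φ P j := ⟨hφ.ne_zero j, hj⟩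
  choose c0 hc0 using fun i => hF.exists_sub_lt P (val_ratio_le_one hjm i)
  have hcgrad : ∀ i, c i = MvPolynomial.eval c0 (MvPolynomial.pderiv i f) := by
    intro i
    have h1 := hc i
    rw [aeval_residue_eq P a c0 (fun l => by rw [ha l]; exact hc0 l)] at h1
    exact (algebraMap k (IsLocalRing.ResidueField P.O)).injective h1
  have hfv : MvPolynomial.aeval (fun i => φ i / φ j) f = 0 := by
    have h1 := aeval_mul_left_of_homog hhom (φ j) fun i => φ i / φ j
    simp only [mul_div_cancel₀ _ hjm.1] at h1
    rw [hfφ, zero_eq_mul] at h1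
    exact h1.resolve_left (pow_ne_zero _ hjm.1)
  have heul : ∑ i, c0 i * c i = 0 := by
    simp only [hcgrad]
    rw [euler_eval hhom, eval_eq_zero_of_aeval P hc0 hfv, mul_zero]
  obtain ⟨h, hh, he⟩ := exists_linear_expansion P (chart k φ j) (fun i => φ i / φ j)
    (fun i => ratio_mem_chart φ i j) c0 hc0 f
  rw [hfv, eval_eq_zero_of_aeval P hc0 hfv, map_zero, sub_zero] at he
  have key : ∑ i, c i • (φ i / φ j) =
      ∑ i, (algebraMap k K (c i) - h i) * (φ i / φ j - algebraMap k K (c0 i)) := by
    have h1 : ∑ i, (algebraMap k K (c i) - h i) * (φ i / φ j - algebraMap k K (c0 i)) =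
        ∑ i, algebraMap k K (c i) * (φ i / φ j - algebraMap k K (c0 i)) := by
      simp only [sub_mul _ (h _), Finset.sum_sub_distrib, ← he, sub_zero]
    rw [h1]
    simp only [mul_sub, Finset.sum_sub_distrib, ← map_mul, ← map_sum]
    rw [show ∑ i, c i * c0 i = 0 from by simpa [mul_comm] using heul, map_zero, sub_zero]
    exact Finset.sum_congr rfl fun i _ => Algebra.smul_def _ _
  rw [key]
  refine P.1.map_sum_le fun i _ => ?_
  rw [map_mul, show (-2 : ℤ) = -1 + -1 by norm_num, exp_add]
  refine mul_le_mul' (val_lt_one_le P ?_) (val_lt_one_le P (hc0 i))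
  rw [Valuation.map_sub_swap, hcgrad]
  exact (hh i).2

end Groth.Agent.S11074
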