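import Groth.Statements.S11075
import Groth.Agent.FF30.Embed
import Groth.Agent.FF30.Poly


set_option autoImplicit false
open FunFld
open Groth.Agent.FF30 WithZero

namespace Groth.Agent.S11075

/-- Over an algebraically closed constant field, let `φ = (φ₀, …, φₙ)`, `n ≥ 1`, be a projective map
onto the curve `V`. (a) A homogeneous `g` not vanishing identically on `V` vanishes at the image
point of only finitely many places (so a closed set not containing `V` meets `V` in a finite set);
(b) each fibre of `φ` is finite. Here `g` vanishes at `φ(P)` when `g(φ₀/φⱼ, …, φₙ/φⱼ)` lies in the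
maximal ideal of `P` for an entry `φⱼ` of least order at `P`. Two places have the same image point
when some entry `φⱼ` has least order at both and each `φᵢ/φⱼ` is congruent to one constant modulo
both maximal ideals. -/
theorem result (k K : Type*) [Field k] [IsAlgClosed k] [Field K] [Algebra k K]
    (hK : FunFld.IsFunctionField k K) {n : ℕ} (hn : 1 ≤ n)
    (φ : Fin (n + 1) → K) (hφ : LinearIndependent k φ) :
    (∀ g : MvPolynomial (Fin (n + 1)) k, g.IsHomogeneous g.totalDegree →
      MvPolynomial.aeval φ g ≠ 0 →
        {P : FunFld.Place k K | ∃ j, φ j ≠ 0 ∧ (∀ i, P.1 (φ i) ≤ P.1 (φ j)) ∧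
          P.1 (MvPolynomial.aeval (fun i => φ i / φ j) g) < 1}.Finite) ∧
    ∀ P : FunFld.Place k K, {Q : FunFld.Place k K | FunFld.SameImage φ P Q}.Finite := by
  have hF : FF k K := hK.1
  refine ⟨fun g hg hg0 => ?_, fun P => ?_⟩
  · refine (Set.finite_iUnion fun j : Fin (n + 1) =>
      hF.zeros_finite (MvPolynomial.aeval (fun i => φ i / φ j) g)).subset ?_
    rintro P ⟨j, hj0, -, hlt⟩
    rw [Set.mem_iUnion]
    refine ⟨j, (val_lt_one_iff P ?_).mp hlt⟩
    intro h0
    apply hg0
    have := aeval_mul_left_of_homog hg (S := K) (φ j) fun i => φ i / φ j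
    simp only [mul_div_cancel₀ _ hj0] at this
    rw [this, h0, mul_zero]
  · obtain ⟨j, hj⟩ := exists_isMin φ ⟨0, hφ.ne_zero 0⟩ P
    obtain ⟨i, hij⟩ : ∃ i, i ≠ j := by
      have : Nontrivial (Fin (n + 1)) := Fin.nontrivial_iff_two_le.mpr (by omega)
      exact exists_ne j
    obtain ⟨c, hc⟩ := hF.exists_sub_lt P (val_ratio_le_one hj i)
    have hne : φ i / φ j - algebraMap k K c ≠ 0 := by
      intro h0
      rw [sub_eq_zero, div_eq_iff hj.1, ← Algebra.smul_def] at h0
      have h1 := linearIndependent_iff'.mp hφ {i, j} (fun l => if l = i then 1 else -c)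
        (by rw [Finset.sum_pair hij, if_pos rfl, if_neg hij.symm, one_smul, h0, neg_smul, add_neg_cancel])
        i (by simp)
      simp at h1
    refine (hF.zeros_finite (φ i / φ j - algebraMap k K c)).subset fun Q hQ => ?_
    exact (val_lt_one_iff Q hne).mp
      (((sameImage_iff hF hj).mp hQ _ (sub_mem (ratio_mem_chart φ i j) (Subalgebra.algebraMap_mem _ c))).2 hc)

end Groth.Agent.S11075
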