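import Groth.Statements.S11076
import Groth.Agent.FF30.Embed


set_option autoImplicit false
open FunFld
open Groth.Agent.FF30 WithZero

namespace Groth.Agent.S11076

/-- Over an algebraically closed constant field, a projective curve (given by a birational projective
map `φ = (φ₀, …, φₙ)`, `n ≥ 1`) is nonsingular at the point `a = φ(P)` if and only if some
hyperplane `∑ cᵢ Xᵢ` has intersection multiplicity `1` with it at `a`: the sum over the places `Q`
of the fibre of `a` of `[φ](Q) + ord_Q(∑ cᵢ φᵢ)` is `1`. Nonsingular at `P` means that the local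
ring of `φ` at `P` (quotients of polynomials over `k` in the `φᵢ/φⱼ`, `φⱼ` of least order at `P`,
denominator a unit at `P`) is the whole valuation ring. Two places have the same image point when
some entry `φⱼ` has least order at both and each `φᵢ/φⱼ` is congruent to one constant modulo both
maximal ideals. -/
theorem result (k K : Type*) [Field k] [IsAlgClosed k] [Field K] [Algebra k K]
    (hK : FunFld.IsFunctionField k K) {n : ℕ} (hn : 1 ≤ n)
    (φ : Fin (n + 1) → K) (hφ : LinearIndependent k φ)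
    (hbir : IntermediateField.adjoin k (Set.range fun i => φ i / φ 0) = ⊤)
    (P : FunFld.Place k K) :
    FunFld.IsNonsingularAt φ P ↔ ∃ c : Fin (n + 1) → k, ∑ i, c i • φ i ≠ 0 ∧
      ∑ᶠ Q ∈ {Q : FunFld.Place k K | FunFld.SameImage φ P Q},
        ((FunFld.mapDiv k φ) Q + Q.ord (∑ i, c i • φ i)) = 1 := by
  classical
  have hF : FF k K := hK.1
  have hne : ∀ i, φ i ≠ 0 := fun i => hφ.ne_zero i
  obtain ⟨j, hj⟩ := exists_isMin φ ⟨0, hne 0⟩ P
  have hterm : ∀ Q : Place k K, SameImage φ P Q → ∀ l : K, l ≠ 0 →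
      mapDiv k φ Q + Q.ord l = Q.ord (l / φ j) := by
    intro Q hQ l hl
    have hQj := SameImage.isMin hF hj hQ
    rw [ord_div Q hl hj.1, ord_eq_of_val_eq Q (hQj.val_eq_mapDiv hF hne)]
    ring
  rw [nonsingular_iff_linear hK hj]
  constructor
  · rintro ⟨hu, l, hl, hl1⟩
    obtain ⟨c, rfl⟩ := (Submodule.mem_span_range_iff_exists_fun k).mp hl
    have hl0 : ∑ i, c i • φ i ≠ 0 := fun h0 => by
      rw [h0, zero_div, map_zero] at hl1; exact exp_ne_zero hl1.symm
    refine ⟨c, hl0, ?_⟩
    have hset : {Q : Place k K | SameImage φ P Q} = {P} := by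
      ext Q
      exact ⟨hu Q, fun h => by rw [Set.mem_singleton_iff] at h; exact h ▸ sameImage_self hF φ ⟨0, hne 0⟩ P⟩
    rw [hset, finsum_mem_singleton, hterm P (sameImage_self hF φ ⟨0, hne 0⟩ P) _ hl0,
      ord_eq_of_val_eq P hl1]
    norm_num
  · rintro ⟨c, hl0, hsum⟩
    set l := ∑ i, c i • φ i with hl_def
    have hl : l ∈ Submodule.span k (Set.range φ) :=
      sum_mem fun i _ => Submodule.smul_mem _ _ (Submodule.subset_span ⟨i, rfl⟩)
    have hpair := fun Q (hQ : SameImage φ P Q) =>
      (sameImage_iff hF hj).mp hQ _ (mem_chart_of_span j hl)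
    have hlj : l / φ j ≠ 0 := div_ne_zero hl0 hj.1
    replace hsum : ∑ᶠ Q ∈ {Q : Place k K | SameImage φ P Q}, Q.ord (l / φ j) = 1 := by
      rw [← hsum]
      exact finsum_mem_congr rfl fun Q hQ => (hterm Q hQ l hl0).symm
    set F := {Q : Place k K | SameImage φ P Q}
    have hfin : (F ∩ Function.support fun Q : Place k K => Q.ord (l / φ j)).Finite :=
      (hF.finite_support_ord _).inter_of_right F
    rw [finsum_mem_eq_sum _ hfin] at hsum
    have hnn : ∀ Q ∈ hfin.toFinset, (1 : ℤ) ≤ Q.ord (l / φ j) := by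
      intro Q hQ
      obtain ⟨h1, h2⟩ := hfin.mem_toFinset.mp hQ
      have := (val_le_one_iff Q).mp (hpair Q h1).1
      simp only [Function.mem_support] at h2
      omega
    have hcard : hfin.toFinset.card = 1 := by
      have h1 : (hfin.toFinset.card : ℤ) ≤ 1 := by
        rw [← hsum, Finset.card_eq_sum_ones, Nat.cast_sum]
        exact Finset.sum_le_sum fun Q hQ => by simpa using hnn Q hQ
      have h2 : hfin.toFinset.card ≠ 0 := fun h0 => by
        rw [Finset.card_eq_zero.mp h0, Finset.sum_empty] at hsum; exact zero_ne_one hsum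
      omega
    obtain ⟨Q₀, hQ₀⟩ := Finset.card_eq_one.mp hcard
    rw [hQ₀, Finset.sum_singleton] at hsum
    obtain ⟨hQ₀F, -⟩ := hfin.mem_toFinset.mp (by rw [hQ₀]; simp : Q₀ ∈ hfin.toFinset)
    have hPlt : P.1 (l / φ j) < 1 := by
      by_contra hge
      obtain ⟨d, hd⟩ := hF.exists_sub_lt P (hj.chart_le (mem_chart_of_span j hl))
      have hd0 : d ≠ 0 := by
        rintro rfl; rw [map_zero, sub_zero] at hd; exact hge hd
      have h1 := ((sameImage_iff hF hj).mp hQ₀F _
        (sub_mem (mem_chart_of_span j hl) (Subalgebra.algebraMap_mem _ d))).2 hd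
      have h2 : Q₀.1 (l / φ j) = 1 := by
        rw [show l / φ j = algebraMap k K d + (l / φ j - algebraMap k K d) by ring,
          Q₀.1.map_add_eq_of_lt_left (by rwa [val_algebraMap Q₀ hd0]), val_algebraMap Q₀ hd0]
      rw [val_eq_one_iff Q₀ hlj, hsum] at h2
      exact one_ne_zero h2
    have hall : ∀ Q ∈ F, Q = Q₀ := by
      intro Q hQ
      have h1 := (val_lt_one_iff Q hlj).mp ((hpair Q hQ).2 hPlt)
      have : Q ∈ hfin.toFinset := hfin.mem_toFinset.mpr ⟨hQ, h1.ne'⟩
      rwa [hQ₀, Finset.mem_singleton] at this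
    have hP : P = Q₀ := hall P (sameImage_self hF φ ⟨0, hne 0⟩ P)
    refine ⟨fun Q hQ => (hall Q hQ).trans hP.symm, l, hl, ?_⟩
    rw [hP, val_eq Q₀ hlj, hsum]

end Groth.Agent.S11076
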