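import Groth.Statements.S11079
import Mathlib

set_option autoImplicit false
universe u
open CAlg

namespace Groth.Agent.S11079

/-- Let L/K be a finite Galois extension of fields, n a natural number, and B a map from the Galois
group of L over K to the invertible n × n matrices over L such that B(σ) · σ(B(τ)) = B(στ) for all
σ, τ, where σ acts on matrices entrywise and στ is the automorphism applying τ first. Then there is
an invertible matrix A over L with B(σ) = A⁻¹ · σ(A) for every σ; that is, every 1-cocycle of the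
Galois group with values in GL_n(L) is a coboundary. -/
theorem result (K L : Type u) [Field K] [Field L]
    [Algebra K L] [FiniteDimensional K L] [IsGalois K L] (n : ℕ)
    (B : (L ≃ₐ[K] L) → GL (Fin n) L)
    (hB : ∀ σ τ : L ≃ₐ[K] L,
      (B σ : Matrix (Fin n) (Fin n) L) * (B τ : Matrix (Fin n) (Fin n) L).map σ = (B (σ * τ) : Matrix (Fin n) (Fin n) L)) :
    ∃ A : GL (Fin n) L, ∀ σ : L ≃ₐ[K] L,
      (B σ : Matrix (Fin n) (Fin n) L) = ((A⁻¹ : GL (Fin n) L) : Matrix (Fin n) (Fin n) L) * (A : Matrix (Fin n) (Fin n) L).map σ := by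
  classical
  let T : (L ≃ₐ[K] L) → (Fin n → L) → (Fin n → L) := fun σ v => (B σ : Matrix (Fin n) (Fin n) L).mulVec (σ ∘ v)
  have hTT : ∀ σ τ v, T σ (T τ v) = T (σ * τ) v := by
    intro σ τ v
    show (B σ : Matrix (Fin n) (Fin n) L).mulVec (σ ∘ (B τ : Matrix (Fin n) (Fin n) L).mulVec (τ ∘ v)) = _
    have : σ ∘ (B τ : Matrix (Fin n) (Fin n) L).mulVec (τ ∘ v) = ((B τ : Matrix (Fin n) (Fin n) L).map σ).mulVec ((σ * τ) ∘ v) := by
      funext i
      simp [Matrix.mulVec, dotProduct]
    rw [this, Matrix.mulVec_mulVec, hB]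
  let W : Set (Fin n → L) := {v | ∀ σ, T σ v = v}
  have hfix : ∀ v, (∑ σ, T σ v) ∈ W := by
    intro v τ
    show (B τ : Matrix (Fin n) (Fin n) L).mulVec (τ ∘ ∑ σ, T σ v) = _
    have : τ ∘ (∑ σ, T σ v) = ∑ σ, τ ∘ T σ v := by funext i; simp
    rw [this, Matrix.mulVec_sum]
    exact Finset.sum_equiv (Equiv.mulLeft τ) (by simp) (fun σ _ => hTT τ σ v)
  have hspan : Submodule.span L W = ⊤ := by
    by_contra hc
    obtain ⟨f, hf0, hf⟩ := Submodule.exists_le_ker_of_lt_top _ (lt_top_iff_ne_top.2 hc)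
    apply hf0
    refine LinearMap.ext fun w => ?_
    let σ₁ : L ≃ₐ[K] L := 1
    have hz : ∀ v, f (T σ₁ v) = 0 := by
      intro v
      have hsum : ∀ c : L, ∑ σ : L ≃ₐ[K] L, f (T σ v) • (σ.toAlgHom.toLinearMap c) = 0 := by
        intro c
        have h1 := hf (Submodule.subset_span (hfix (c • v)))
        rw [LinearMap.mem_ker, map_sum] at h1
        rw [← h1]
        refine Finset.sum_congr rfl fun σ _ => ?_
        have : T σ (c • v) = σ c • T σ v := by
          show (B σ : Matrix (Fin n) (Fin n) L).mulVec (σ ∘ (c • v)) = σ c • _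
          rw [show σ ∘ (c • v) = σ c • (σ ∘ v) by funext i; simp, Matrix.mulVec_smul]
        rw [this, map_smul, smul_eq_mul, smul_eq_mul, mul_comm]; rfl
      have hli : LinearIndependent L (fun σ : L ≃ₐ[K] L => (σ.toAlgHom.toLinearMap : L →ₗ[K] L)) :=
        (linearIndependent_toLinearMap K L L).comp (fun σ : L ≃ₐ[K] L => σ.toAlgHom) (fun a b h => AlgEquiv.ext fun x => DFunLike.congr_fun h x)
      exact Fintype.linearIndependent_iff.1 hli (fun σ => f (T σ v)) (LinearMap.ext fun c => by simpa using hsum c) σ₁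
    have h1 : T σ₁ ((↑(B σ₁)⁻¹ : Matrix (Fin n) (Fin n) L).mulVec w) = w := by
      show (B σ₁ : Matrix (Fin n) (Fin n) L).mulVec (id ((↑(B σ₁)⁻¹ : Matrix (Fin n) (Fin n) L).mulVec w)) = w
      simp [Matrix.mulVec_mulVec]
    rw [← h1, hz]; rfl
  obtain ⟨b, hbW, hbs, hbli⟩ := exists_linearIndependent L W
  rw [hspan] at hbs
  let bas : Module.Basis b L (Fin n → L) := .mk hbli (by simp [hbs])
  have := bas.indexEquiv (Pi.basisFun L (Fin n))
  let e := this
  let bas' : Module.Basis (Fin n) L (Fin n → L) := bas.reindex e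
  let C : Matrix (Fin n) (Fin n) L := (Pi.basisFun L (Fin n)).toMatrix bas'
  have hCu : IsUnit C := IsUnit.of_mul_eq_one _ ((Pi.basisFun L (Fin n)).toMatrix_mul_toMatrix_flip bas')
  have hC : ∀ σ : L ≃ₐ[K] L, (B σ : Matrix (Fin n) (Fin n) L) * C.map σ = C := by
    intro σ
    ext i j
    have hw : bas' j ∈ W := by
      simp only [bas', Module.Basis.reindex_apply, bas, Module.Basis.mk_apply]
      exact hbW (e.symm j).2
    have := congrFun (hw σ) i
    simpa [T, Matrix.mulVec, dotProduct, Matrix.mul_apply, C, Module.Basis.toMatrix_apply] using this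
  refine ⟨hCu.unit⁻¹, fun σ => ?_⟩
  rw [inv_inv, IsUnit.unit_spec]
  have h1 : C.map σ * ((↑(hCu.unit⁻¹) : Matrix (Fin n) (Fin n) L)).map σ = 1 := by
    have h2 := congrArg (fun M : Matrix (Fin n) (Fin n) L => M.map (σ : L →+* L)) (IsUnit.mul_val_inv hCu)
    simpa [Matrix.map_mul] using h2
  calc (B σ : Matrix (Fin n) (Fin n) L) = (B σ : Matrix (Fin n) (Fin n) L) * (C.map σ * ((↑(hCu.unit⁻¹) : Matrix (Fin n) (Fin n) L)).map σ) := by rw [h1, mul_one]
    _ = _ := by rw [← mul_assoc, hC]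

end Groth.Agent.S11079
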