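import Groth.Statements.S11081
import Mathlib
import Groth.Agent.CAlg6.TraceRamified

set_option autoImplicit false
universe u
attribute [local instance] FractionRing.liftAlgebra
open CAlg
open UniqueFactorizationMonoid

namespace Groth.Agent.S11081

/-- Let A be a Dedekind domain, B a Dedekind domain which is a finitely generated torsion-free A-algebra
whose fraction field is separable over that of A (B is the integral closure of A in a finite
separable extension), p a nonzero prime ideal of A and y an element of B. Then the class modulo p of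
the trace of y from B to A is the sum over the primes Q of B lying over p of e(Q|p) times the trace,
from B/Q to A/p, of the class of y modulo Q. -/
theorem result (A B : Type u) [CommRing A] [CommRing B]
    [IsDedekindDomain A] [IsDedekindDomain B] [Algebra A B] [Module.Finite A B] [Module.IsTorsionFree A B]
    [Algebra.IsSeparable (FractionRing A) (FractionRing B)]
    (p : Ideal A) [p.IsMaximal] (hp : p ≠ ⊥) (y : B) :
    Ideal.Quotient.mk p (Algebra.intTrace A B y) =
      ∑ᶠ Q : p.primesOver B,
        Q.1.ramificationIdx A •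
          Algebra.trace (A ⧸ p) (B ⧸ Q.1) (Ideal.Quotient.mk Q.1 y) := by
  classical
  letI : Field (A ⧸ p) := Ideal.Quotient.field p
  have hinj : Function.Injective (algebraMap A B) := Module.isTorsionFree_iff_algebraMap_injective.1 inferInstance
  let J := p.map (algebraMap A B)
  have hJ : J ≠ ⊥ := (Ideal.map_eq_bot_iff_of_injective hinj).not.2 hp
  have : Module.Finite (A ⧸ p) (B ⧸ J) := Module.Finite.of_restrictScalars_finite A _ _
  let π : B →+* B ⧸ J := Ideal.Quotient.mk J
  have key := Groth.Agent.CAlg6.trace_quotient_map_eq_sum (k := A ⧸ p) π Ideal.Quotient.mk_surjective y J hJ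
    (Ideal.mk_ker).le
  have h0 : J.map π = ⊥ := Ideal.map_quotient_self J
  let e0 : ((B ⧸ J) ⧸ J.map π) ≃ₐ[A ⧸ p] (B ⧸ J) :=
    (Ideal.quotientEquivAlgOfEq (A ⧸ p) h0).trans (AlgEquiv.quotientBot (A ⧸ p) (B ⧸ J))
  have hfac : ∀ Q, Q ∈ normalizedFactors J ↔ Q ∈ p.primesOver B := fun Q =>
    (Ideal.mem_primesOver_iff_mem_normalizedFactors _ hp).symm
  have hT : Ideal.Quotient.mk p (Algebra.intTrace A B y) =
      Algebra.trace (A ⧸ p) ((B ⧸ J) ⧸ J.map π) (Ideal.Quotient.mk _ (π y)) := by
    rw [← Algebra.trace_eq_of_algEquiv e0, ← Algebra.trace_quotient_eq_of_isDedekindDomain (R := A) (S := B) (p := p)]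
    congr 1
  rw [hT, key]
  have : Fintype (p.primesOver B) :=
    Fintype.ofFinset (normalizedFactors J).toFinset fun Q => by rw [Multiset.mem_toFinset]; exact hfac Q
  rw [finsum_eq_sum_of_fintype, Finset.sum_multiset_map_count]
  refine (Finset.sum_subtype _ (fun Q => by rw [Multiset.mem_toFinset]; exact hfac Q) _).trans
    (Finset.sum_congr rfl fun Q _ => ?_)
  have : Q.1.LiesOver p := Q.2.2
  have hle : J ≤ Q.1 := Ideal.map_le_iff_le_comap.2 (Q.1.over_def p).le
  rw [Ideal.IsDedekindDomain.ramificationIdx_eq_normalizedFactors_count p Q.1 hJ]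
  congr 1
  let e1 : ((B ⧸ J) ⧸ Q.1.map π) ≃+* B ⧸ Q.1 := DoubleQuot.quotQuotEquivQuotOfLE hle
  let e : ((B ⧸ J) ⧸ Q.1.map π) ≃ₐ[A ⧸ p] B ⧸ Q.1 := AlgEquiv.ofRingEquiv (f := e1) fun c => by
    obtain ⟨a, rfl⟩ := Ideal.Quotient.mk_surjective c
    rfl
  exact (Algebra.trace_eq_of_algEquiv e _).symm.trans (congrArg _ rfl)

end Groth.Agent.S11081
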