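import Groth.Statements.S11084
import Mathlib
import Groth.Agent.CAlg6.ValCurve
import Groth.Agent.FF30.AD
import Groth.Agent.FF30.Exist

set_option autoImplicit false
universe u
open CAlg
open Groth.Agent Groth.Agent.CAlg6 IsDedekindDomain

namespace Groth.Agent.S11084

/-- Let k be a field and O a valuation subring of the field of rational functions k(x). Then O contains
the constants k and is different from k(x) if and only if O is the valuation ring of the P-adic
valuation at a nonzero prime P of the polynomial ring k[x], or O is the valuation ring of the
valuation at infinity (given by the degree). (The published statement has k algebraically closed, so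
that these valuation rings correspond to the points of the projective line; the published proof does
not use that k is algebraically closed. The published statement also asserts that distinct points
give distinct valuation rings, which this row does not state, and counts k(x) itself among the
valuation rings containing k; this row excludes it.) -/
theorem result (k : Type u) [Field k] [DecidableEq (RatFunc k)]
    (O : ValuationSubring (RatFunc k)) :
    ((algebraMap k (RatFunc k)).range ≤ O.toSubring ∧ O ≠ ⊤) ↔
      ((∃ v : IsDedekindDomain.HeightOneSpectrum (Polynomial k), O = (v.valuation (RatFunc k)).valuationSubring) ∨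
        O = (RatFunc.inftyValuation k).valuationSubring) := by
  constructor
  · rintro ⟨hk, hO⟩
    by_cases hX : (RatFunc.X : RatFunc k) ∈ O
    · refine Or.inl (eq_adic_of_le O (fun p => ?_) hO)
      induction p using Polynomial.induction_on with
      | C a =>
        exact hk ⟨a, by rw [RatFunc.algebraMap_C, RatFunc.algebraMap_eq_C]⟩
      | add p q hp hq => rw [map_add]; exact add_mem hp hq
      | monomial n a h =>
        rw [pow_succ, ← mul_assoc, map_mul, RatFunc.algebraMap_X]; exact mul_mem h hX
    · right
      have htriv : O.valuation.IsTrivialOn k := ⟨fun a ha => by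
        have h1 : O.valuation (algebraMap k (RatFunc k) a) ≤ 1 := (O.valuation_le_one_iff _).2 (hk ⟨a, rfl⟩)
        have h2 : O.valuation (algebraMap k (RatFunc k) a⁻¹) ≤ 1 :=
          (O.valuation_le_one_iff _).2 (hk ⟨a⁻¹, rfl⟩)
        have h3 : O.valuation (algebraMap k (RatFunc k) a) * O.valuation (algebraMap k (RatFunc k) a⁻¹) = 1 := by
          rw [← map_mul, ← map_mul, mul_inv_cancel₀ ha, map_one, map_one]
        refine le_antisymm h1 ?_
        rw [← h3]
        exact mul_le_of_le_one_right' h2⟩
      have hlt : 1 < O.valuation RatFunc.X := lt_of_not_ge fun h => hX ((O.valuation_le_one_iff _).1 h)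
      have := RatFunc.valuation_isEquiv_inftyValuation_of_one_lt_valuation_X (v := O.valuation) hlt
      rw [← O.valuationSubring_valuation]
      exact (Valuation.isEquiv_iff_valuationSubring _ _).1 this
  · have hinf : ∀ a : k, RatFunc.inftyValuation k (algebraMap k (RatFunc k) a) ≤ 1 := fun a => by
      rcases eq_or_ne a 0 with rfl | ha
      · simp
      · rw [RatFunc.algebraMap_eq_C, RatFunc.inftyValuation.C k ha]
    rintro (⟨v, rfl⟩ | rfl)
    · refine ⟨fun x ⟨a, ha⟩ => ha ▸ ?_, ?_⟩
      · rw [RatFunc.algebraMap_eq_C, ← RatFunc.algebraMap_C]
        exact v.valuation_le_one (Polynomial.C a)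
      · simp only [ne_eq, Valuation.valuationSubring_eq_top_iff, not_not]
        infer_instance
    · refine ⟨fun x ⟨a, ha⟩ => ha ▸ hinf a, fun h => ?_⟩
      have : RatFunc.inftyValuation k RatFunc.X ≤ 1 := by
        have h2 : (RatFunc.X : RatFunc k) ∈ (RatFunc.inftyValuation k).valuationSubring := h ▸ ValuationSubring.mem_top _
        exact h2
      rw [RatFunc.inftyValuation.X, ← WithZero.exp_zero, WithZero.exp_le_exp] at this
      omega

end Groth.Agent.S11084
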