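import Groth.Statements.S11085
import Mathlib
import Groth.Agent.CAlg6.ValCurve
import Groth.Agent.FF30.AD
import Groth.Agent.FF30.Exist

set_option autoImplicit false
universe u
open CAlg
open Groth.Agent Groth.Agent.CAlg6 IsDedekindDomain

namespace Groth.Agent.S11085

/-- Let k be a field, A a finitely generated k-algebra which is an integral domain of Krull dimension
one (the coordinate ring of an affine curve), and F its field of fractions. Then the set of
valuation subrings of F which contain k but do not contain A is finite. (The published statement
speaks of all valuation rings of F different from F and not containing A, over an algebraically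
closed k; valuation rings not containing k must be excluded — for k an algebraic closure of a
rational function field in one variable t over a finite field and F = k(x), the t-adic valuation of
k has infinitely many extensions to F, none of whose rings contains A — and the published proof,
through the valuation at infinity of k(x), treats valuation rings containing k; it does not use that
k is algebraically closed.) -/
theorem result (k A F : Type u) [Field k]
    [CommRing A] [IsDomain A] [Algebra k A] [Algebra.FiniteType k A] (hA : ringKrullDim A = 1)
    [Field F] [Algebra A F] [IsFractionRing A F] [Algebra k F] [IsScalarTower k A F] :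
    {O : ValuationSubring F | (algebraMap k F).range ≤ O.toSubring ∧
        ¬ (algebraMap A F).range ≤ O.toSubring}.Finite := by
  have hF := ff_of_dim_one k A F hA
  obtain ⟨S, hS⟩ := Algebra.FiniteType.out (R := k) (A := A)
  refine Set.Finite.subset (Set.Finite.biUnion S.finite_toSet fun a _ =>
    (hF.zeros_finite (algebraMap A F a)⁻¹).image fun P => P.O) ?_
  rintro O ⟨hk, hnot⟩
  obtain ⟨a, haS, ha⟩ : ∃ a ∈ S, algebraMap A F a ∉ O := by
    by_contra hc
    push Not at hc
    refine hnot ?_
    rintro _ ⟨z, rfl⟩
    have hz : z ∈ Algebra.adjoin k (S : Set A) := hS ▸ trivial
    induction hz using Algebra.adjoin_induction with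
    | mem z hz => exact hc z hz
    | algebraMap r => exact hk ⟨r, IsScalarTower.algebraMap_apply k A F r⟩
    | add z w _ _ hz hw => rw [map_add]; exact add_mem hz hw
    | mul z w _ _ hz hw => rw [map_mul]; exact mul_mem hz hw
  have hO : O ≠ ⊤ := fun h => ha (h ▸ ValuationSubring.mem_top _)
  obtain ⟨P, hP⟩ := hF.exists_place O (fun c => hk ⟨c, rfl⟩) hO
  refine Set.mem_biUnion haS ⟨P, ?_, hP⟩
  show 0 < P.ord (algebraMap A F a)⁻¹
  rw [FF30.ord_inv, neg_pos, ← not_le, ← FF30.val_le_one_iff]
  intro h
  exact ha (hP ▸ h)

end Groth.Agent.S11085
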