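import Groth.Statements.S11086
import Mathlib
import Groth.Agent.CAlg6.DifferentLoc

set_option autoImplicit false
universe u
attribute [local instance] FractionRing.liftAlgebra
open CAlg

namespace Groth.Agent.S11086

/-- Let A be a Dedekind domain, B a Dedekind domain which is a finitely generated torsion-free A-algebra
with fraction field separable over that of A (the integral closure of A in a finite separable
extension), and S a submonoid of A consisting of non-zero-divisors. Let A_S and B_S be localizations
of A at S and of B at the image of S, with B_S an algebra over A_S compatibly with A and B (so A_S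
is integrally closed and B_S is a Dedekind domain, torsion-free over A_S). Then the ideal of B_S
generated by the different of B over A is the different of B_S over A_S. -/
theorem result (A B : Type u) [CommRing A] [CommRing B]
    [IsDedekindDomain A] [IsDedekindDomain B] [Algebra A B] [Module.Finite A B] [Module.IsTorsionFree A B]
    [Algebra.IsSeparable (FractionRing A) (FractionRing B)]
    (S : Submonoid A) (hS : S ≤ nonZeroDivisors A)
    (Aₛ Bₛ : Type u) [CommRing Aₛ] [CommRing Bₛ] [Algebra A Aₛ] [Algebra B Bₛ] [Algebra Aₛ Bₛ]
    [Algebra A Bₛ] [IsScalarTower A Aₛ Bₛ] [IsScalarTower A B Bₛ]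
    [IsLocalization S Aₛ] [IsLocalization (Algebra.algebraMapSubmonoid B S) Bₛ]
    [IsDomain Aₛ] [IsIntegrallyClosed Aₛ] [IsDedekindDomain Bₛ] [Module.IsTorsionFree Aₛ Bₛ] :
    Ideal.map (algebraMap B Bₛ) (differentIdeal A B) = differentIdeal Aₛ Bₛ := by
  let K := FractionRing A
  let L := FractionRing B
  have hinj : Function.Injective (algebraMap A B) := Module.isTorsionFree_iff_algebraMap_injective.1 inferInstance
  have hT : Algebra.algebraMapSubmonoid B S ≤ nonZeroDivisors B := by
    rintro _ ⟨s, hs, rfl⟩
    exact mem_nonZeroDivisors_of_ne_zero ((map_ne_zero_iff _ hinj).2 (nonZeroDivisors.ne_zero (hS hs)))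
  have hSK : ∀ s : S, IsUnit (algebraMap A K s) := fun s =>
    IsLocalization.map_units K (⟨s.1, hS s.2⟩ : nonZeroDivisors A)
  have hTL : ∀ s : Algebra.algebraMapSubmonoid B S, IsUnit (algebraMap B L s) := fun s =>
    IsLocalization.map_units L (⟨s.1, hT s.2⟩ : nonZeroDivisors B)
  letI : Algebra Aₛ K := (IsLocalization.lift hSK).toAlgebra
  letI : Algebra Bₛ L := (IsLocalization.lift hTL).toAlgebra
  have : IsScalarTower A Aₛ K := IsScalarTower.of_algebraMap_eq fun a => (IsLocalization.lift_eq hSK a).symm
  have : IsScalarTower B Bₛ L := IsScalarTower.of_algebraMap_eq fun b => (IsLocalization.lift_eq hTL b).symm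
  have : IsFractionRing Aₛ K := IsFractionRing.isFractionRing_of_isDomain_of_isLocalization S Aₛ K
  have : IsFractionRing Bₛ L :=
    IsFractionRing.isFractionRing_of_isDomain_of_isLocalization (Algebra.algebraMapSubmonoid B S) Bₛ L
  letI : Algebra Aₛ L := ((algebraMap K L).comp (algebraMap Aₛ K)).toAlgebra
  have : IsScalarTower Aₛ K L := IsScalarTower.of_algebraMap_eq fun _ => rfl
  have : IsScalarTower Aₛ Bₛ L := by
    refine IsScalarTower.of_algebraMap_eq' (IsLocalization.ringHom_ext S (RingHom.ext fun a => ?_))
    show algebraMap K L (algebraMap Aₛ K (algebraMap A Aₛ a)) = algebraMap Bₛ L (algebraMap Aₛ Bₛ (algebraMap A Aₛ a))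
    rw [← IsScalarTower.algebraMap_apply A Aₛ K, ← IsScalarTower.algebraMap_apply A K L,
      ← IsScalarTower.algebraMap_apply A Aₛ Bₛ, IsScalarTower.algebraMap_apply A B Bₛ,
      ← IsScalarTower.algebraMap_apply B Bₛ L, ← IsScalarTower.algebraMap_apply A B L]
  have : FiniteDimensional K L := Module.Finite.of_isLocalization A B (nonZeroDivisors A)
  have : Module.Finite Aₛ Bₛ := Module.Finite.of_isLocalization A B S
  have : IsIntegralClosure B A L := IsIntegralClosure.of_isIntegrallyClosed B A L
  have : IsIntegralClosure Bₛ Aₛ L := IsIntegralClosure.of_isIntegrallyClosed Bₛ Aₛ L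
  exact Groth.Agent.CAlg6.map_differentIdeal_localization (K := K) (L := L) S

end Groth.Agent.S11086
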