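import Groth.Statements.S11092
import Mathlib
import Groth.Agent.CAlg6.SepKaehler
import Groth.Agent.Sep12.Basic

set_option autoImplicit false
universe u v
open CAlg
open Groth.Agent
open scoped IntermediateField

namespace Groth.Agent.S11092

/-- Let k be an algebraically closed field, K a field finitely generated over k admitting a one-element
transcendence basis over k (a function field of dimension one), and L a finite extension field of K
with the compatible k-algebra structure. Then the K-linear map from the Kähler differentials of K
over k to those of L over k induced by the inclusion is either the zero map or injective, and it is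
injective if and only if L is separable over K. (The published statement takes K ⊆ L to be the
function fields of two elliptic curves related by a nonzero homomorphism; its proof uses only that
they are function fields of dimension one over k.) -/
theorem result (k : Type u) (K L : Type v)
    [Field k] [IsAlgClosed k] [Field K] [Field L] [Algebra k K] [Algebra k L] [Algebra K L]
    [IsScalarTower k K L] (hK : (⊤ : IntermediateField k K).FG)
    (hx : ∃ x : K, IsTranscendenceBasis k (fun _ : Unit => x)) [FiniteDimensional K L] :
    (KaehlerDifferential.map k k K L = 0 ∨ Function.Injective (KaehlerDifferential.map k k K L)) ∧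
      (Function.Injective (KaehlerDifferential.map k k K L) ↔ Algebra.IsSeparable K L) := by
  have : Algebra.EssFiniteType k K := IntermediateField.fg_top_iff.1 hK
  have : Algebra.EssFiniteType k L := Algebra.EssFiniteType.comp k K L
  obtain ⟨x, hx⟩ := hx
  have htK : Algebra.trdeg k K = 1 := by
    have h := hx.lift_cardinalMk_eq_trdeg
    simpa using h.symm
  have htL : Algebra.trdeg k L = 1 := by
    rw [← trdeg_add_eq k K (A := L), trdeg_eq_zero_iff.2 (Algebra.IsAlgebraic.of_finite K L),
      add_zero, htK]
  have hK1 : Module.finrank K (Ω[K⁄k]) = 1 :=
    Module.finrank_eq_of_rank_eq (by rw [CAlg6.rank_kaehler_eq_trdeg, htK]; norm_num)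
  have hL1 : Module.finrank L (Ω[L⁄k]) = 1 :=
    Module.finrank_eq_of_rank_eq (by rw [CAlg6.rank_kaehler_eq_trdeg, htL]; norm_num)
  refine ⟨?_, ⟨fun hinj => ?_, fun hsep => ?_⟩⟩
  · by_cases h : Function.Injective (KaehlerDifferential.map k k K L)
    · exact Or.inr h
    · rw [injective_iff_map_eq_zero] at h
      push Not at h
      obtain ⟨ω, hω, hω0⟩ := h
      refine Or.inl (LinearMap.ext fun η => ?_)
      obtain ⟨c, rfl⟩ := exists_smul_eq_of_finrank_eq_one hK1 hω0 η
      rw [LinearMap.map_smul, hω, smul_zero, LinearMap.zero_apply]
  · obtain ⟨ω, hω⟩ : ∃ ω : Ω[K⁄k], ω ≠ 0 := by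
      have : Nontrivial (Ω[K⁄k]) := Module.nontrivial_of_finrank_eq_succ hK1
      exact exists_ne 0
    have hne : KaehlerDifferential.map k k K L ω ≠ 0 := fun h => hω (hinj (by rw [h, map_zero]))
    have : Algebra.EssFiniteType K L := inferInstance
    have : Algebra.FormallyUnramified K L := by
      refine ⟨?_⟩
      rw [subsingleton_iff_forall_eq 0]
      intro z
      obtain ⟨η, rfl⟩ := KaehlerDifferential.map_surjective_of_surjective k K L L Function.surjective_id z
      obtain ⟨c, rfl⟩ := exists_smul_eq_of_finrank_eq_one hL1 hne η
      rw [LinearMap.map_smul]
      have := (KaehlerDifferential.exact_mapBaseChange_map k K L).apply_apply_eq_zero (1 ⊗ₜ[K] ω)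
      rw [KaehlerDifferential.mapBaseChange_tmul, one_smul] at this
      rw [this, smul_zero]
    exact Algebra.FormallyUnramified.isSeparable K L
  · have : Algebra.FormallyEtale K L := Algebra.FormallyEtale.of_isSeparable K L
    intro a b hab
    apply Module.FaithfullyFlat.tensorProduct_mk_injective (A := K) (B := L) (Ω[K⁄k])
    apply (KaehlerDifferential.tensorKaehlerEquivOfFormallyEtale k K L).injective
    simpa [KaehlerDifferential.mapBaseChange_tmul] using hab

end Groth.Agent.S11092
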