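import Groth.Statements.S11093
import Groth.Agent.CAlg6.LocalExt
import Groth.Agent.DivAlgP96.Galois

set_option autoImplicit false
universe u
attribute [local instance] FractionRing.liftAlgebra
open CAlg Groth.Agent

namespace Groth.Agent.S11093

/-- Second assertion: (Artin–Schreier normal form): let K be a perfect field of characteristic p > 0, A
= K[[t]] the power series ring with fraction field F, and B a Dedekind domain which is a finite
torsion-free A-algebra whose fraction field E is Galois of degree p over F and totally ramified: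
some maximal ideal of B has ramification index p over A. Then there are x in E generating E over F
and α in F with x^p − x + α = 0, where α = a / t^m for a power series a with nonzero constant term
and a positive integer m not divisible by p. -/
theorem result (p : ℕ) [Fact p.Prime] (K : Type u) [Field K]
    [CharP K p] [PerfectField K] (B : Type u) [CommRing B] [IsDedekindDomain B]
    [Algebra (PowerSeries K) B] [Module.Finite (PowerSeries K) B] [Module.IsTorsionFree (PowerSeries K) B]
    [IsGalois (FractionRing (PowerSeries K)) (FractionRing B)]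
    (hdeg : Module.finrank (FractionRing (PowerSeries K)) (FractionRing B) = p)
    (M : Ideal B) [M.IsMaximal] (hram : M.ramificationIdx (PowerSeries K) = p) :
    ∃ x : FractionRing B, ∃ m : ℕ, ∃ a : PowerSeries K,
      IntermediateField.adjoin (FractionRing (PowerSeries K)) {x} = ⊤ ∧ 0 < m ∧ ¬ p ∣ m ∧
      PowerSeries.constantCoeff a ≠ 0 ∧
      x ^ p - x + algebraMap (FractionRing (PowerSeries K)) (FractionRing B)
        (algebraMap (PowerSeries K) (FractionRing (PowerSeries K)) a /
          algebraMap (PowerSeries K) (FractionRing (PowerSeries K)) (PowerSeries.X ^ m)) = 0 := by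
  classical
  have : IsAdicComplete (IsLocalRing.maximalIdeal (PowerSeries K)) (PowerSeries K) := by
    rw [PowerSeries.maximalIdeal_eq_span_X]; infer_instance
  have hp : p.Prime := Fact.out
  set A := PowerSeries K
  set F := FractionRing A
  set E := FractionRing B
  set φ := algebraMap A F with hφdef
  have : FiniteDimensional F E := Module.finite_of_finrank_pos (hdeg ▸ hp.pos)
  have : Algebra.IsSeparable F E := inferInstance
  have : CharP F p := by
    have : CharP A p := charP_of_injective_ringHom (f := (PowerSeries.C : K →+* A)) PowerSeries.C_injective p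
    exact charP_of_injective_ringHom (IsFractionRing.injective A F) p
  have : CharP E p := charP_of_injective_algebraMap (algebraMap F E).injective p
  have hCp : ExpChar K p := ExpChar.prime hp
  have : PerfectRing K p := PerfectField.toPerfectRing p
  have : IsIntegralClosure B A E := IsIntegralClosure.of_isIntegrallyClosed B A E
  have hAB : Module.finrank A B = p := (IsIntegralClosure.rank A F E B).trans hdeg
  have : IsLocalRing B := CAlg6.LocalExt.isLocalRing A B
  set T : A := PowerSeries.X
  have hm : IsLocalRing.maximalIdeal A = Ideal.span {T} := PowerSeries.maximalIdeal_eq_span_X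
  have hL : M.LiesOver (IsLocalRing.maximalIdeal A) :=
    ⟨(IsLocalRing.eq_maximalIdeal (Ideal.isMaximal_comap_of_isIntegral_of_isMaximal (R := A) M)).symm⟩
  have hres : ∀ z : B, ∃ a : A, z - algebraMap A B a ∈ M := by
    have hf : M.inertiaDeg A = 1 := by
      have h := CAlg6.LocalExt.ramification_mul_inertia (A := A) M
      rw [hram, hAB] at h
      exact Nat.eq_of_mul_eq_mul_left hp.pos (h.trans (Nat.mul_one p).symm)
    rw [Ideal.inertiaDeg_eq_of_isMaximal (IsLocalRing.maximalIdeal A) M] at hf
    let _ : Field (A ⧸ IsLocalRing.maximalIdeal A) := Ideal.Quotient.field _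
    have htop := Subalgebra.bot_eq_top_of_finrank_eq_one hf
    intro z
    have hz : Ideal.Quotient.mk M z ∈ (⊥ : Subalgebra (A ⧸ IsLocalRing.maximalIdeal A) (B ⧸ M)) :=
      htop ▸ Algebra.mem_top
    obtain ⟨c, hc⟩ := hz
    obtain ⟨a, rfl⟩ := Ideal.Quotient.mk_surjective c
    exact ⟨a, Ideal.Quotient.eq.1 hc.symm⟩
  obtain ⟨θ, hθ, hθc⟩ := DivAlgP96.exists_artinSchreier_gen (K := F) (p := p) hdeg
  obtain ⟨c, hc⟩ := hθc
  have hmon : ∀ a : A, (Polynomial.X ^ p - Polynomial.X - Polynomial.C a).Monic := fun a => by
    rw [sub_sub]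
    refine Polynomial.monic_X_pow_sub ?_
    rw [Polynomial.degree_X_add_C]
    exact_mod_cast hp.one_lt
  -- a nonzero Artin–Schreier class is never integral
  have hA : ∀ (y : F) (a : A), c + (y ^ p - y) ≠ φ a := by
    intro y a hy
    set x := θ + algebraMap F E y
    have hx : x ^ p - x = algebraMap A E a := by
      rw [IsScalarTower.algebraMap_apply A F E, ← hφdef, ← hy, map_add, hc, map_sub, map_pow, add_pow_char]
      ring
    obtain ⟨b, hb⟩ : ∃ b : B, algebraMap B E b = x := by
      refine (IsIntegralClosure.isIntegral_iff (R := A) (A := B)).1 ?_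
      refine ⟨Polynomial.X ^ p - Polynomial.X - Polynomial.C a, ?_, ?_⟩
      · exact hmon a
      · rw [← Polynomial.aeval_def]; simp [hx]
    have hbA : b ^ p - b = algebraMap A B a := IsFractionRing.injective B E (by
      rw [map_sub, map_pow, hb, hx, ← IsScalarTower.algebraMap_apply])
    obtain ⟨a₀, ha₀⟩ := hres b
    set a' := a - (a₀ ^ p - a₀)
    have hB0 : algebraMap A B a' ∈ M := by
      have e : algebraMap A B a' = (b - algebraMap A B a₀) ^ p - (b - algebraMap A B a₀) := by
        have : CharP B p := (algebraMap B E).charP (IsFractionRing.injective B E) p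
        rw [map_sub, map_sub, map_pow, ← hbA, sub_pow_char]; ring
      rw [e]
      exact sub_mem (M.pow_mem_of_mem ha₀ p hp.pos) ha₀
    have ha' : a' ∈ IsLocalRing.maximalIdeal A := (hL.over).symm ▸ Ideal.mem_comap.2 hB0
    set P : Polynomial A := Polynomial.X ^ p - Polynomial.X - Polynomial.C a'
    obtain ⟨g, hg, -⟩ := HenselianRing.is_henselian (I := IsLocalRing.maximalIdeal A) P
      (hmon a') 0
      (by simpa [P, hp.ne_zero] using ha')
      (by simp [P, Polynomial.derivative_X_pow, zero_pow, Nat.sub_eq_zero_iff_le, hp.one_lt.not_ge])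
    have hg' : g ^ p - g = a' := by simpa [P, Polynomial.IsRoot, sub_eq_zero] using hg
    set z := x - algebraMap F E (φ (a₀ + g))
    have hz : z ^ p = z := by
      have e : a = (a₀ + g) ^ p - (a₀ + g) := by
        have : CharP A p := charP_of_injective_ringHom (f := (PowerSeries.C : K →+* A)) PowerSeries.C_injective p
        rw [add_pow_char]; linear_combination -hg'
      rw [← sub_eq_zero]
      simp only [z, sub_pow_char, ← map_pow]
      rw [IsScalarTower.algebraMap_apply A F E, ← hφdef, e, map_sub, map_sub] at hx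
      linear_combination hx
    refine hθ ?_
    have hzr : z ∈ (algebraMap F E).range := by
      obtain ⟨n, hn⟩ := (mem_bot_iff_intCast p E).1 ((Subfield.mem_bot_iff_pow_eq_self E p).2 hz)
      exact ⟨(n : F), by rw [map_intCast, hn]⟩
    obtain ⟨w, hw⟩ := hzr
    exact ⟨w + φ (a₀ + g) - y, by rw [map_sub, map_add, hw]; simp [z, x]; ring⟩
  have hφ0 : φ T ≠ 0 := (map_ne_zero_iff _ (IsFractionRing.injective A F)).2 PowerSeries.X_ne_zero
  have key : ∀ (n : ℕ) (y : F) (a : A), c + (y ^ p - y) = φ a / φ T ^ n → ∃ (y : F) (m : ℕ) (a : A),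
      0 < m ∧ ¬ p ∣ m ∧ PowerSeries.constantCoeff a ≠ 0 ∧ c + (y ^ p - y) = φ a / φ T ^ m := by
    intro n
    induction n with
    | zero => intro y a h; exact absurd (by simpa using h) (hA y a)
    | succ n ih =>
      intro y a h
      have step : ∀ (y : F) (a : A), PowerSeries.constantCoeff a = 0 →
          c + (y ^ p - y) = φ a / φ T ^ (n + 1) → ∃ (y : F) (m : ℕ) (a : A),
          0 < m ∧ ¬ p ∣ m ∧ PowerSeries.constantCoeff a ≠ 0 ∧ c + (y ^ p - y) = φ a / φ T ^ m := by
        intro y a ha h
        obtain ⟨a1, rfl⟩ := PowerSeries.X_dvd_iff.2 ha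
        exact ih y a1 (by rw [h, map_mul, pow_succ', mul_div_mul_left _ _ hφ0])
      by_cases ha : PowerSeries.constantCoeff a = 0
      · exact step y a ha h
      by_cases hpn : p ∣ n + 1
      · obtain ⟨j, hj⟩ := hpn
        set b := (frobeniusEquiv K p).symm (PowerSeries.constantCoeff a)
        have hb : b ^ p = PowerSeries.constantCoeff a := frobenius_apply_frobeniusEquiv_symm K p _
        have hjn : j ≤ n + 1 := hj ▸ Nat.le_mul_of_pos_left j hp.pos
        refine step (y - φ (PowerSeries.C b) / φ T ^ j)
          (a - PowerSeries.C b ^ p + PowerSeries.C b * T ^ (n + 1 - j)) ?_ ?_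
        · have hne : n + 1 - j ≠ 0 := by
            have : j < n + 1 := by
              rcases Nat.eq_zero_or_pos j with h0 | h0
              · simp [h0] at hj
              · exact hj ▸ (Nat.lt_mul_iff_one_lt_left h0).2 hp.one_lt
            omega
          simp [hb, T, hne]
        · rw [sub_pow_char, div_pow, ← pow_mul, mul_comm j p, ← hj, map_add, map_sub, map_mul, map_pow, map_pow]
          rw [add_div, sub_div, ← h]
          have e : φ (PowerSeries.C b) * φ T ^ (n + 1 - j) / φ T ^ (n + 1) = φ (PowerSeries.C b) / φ T ^ j := by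
            rw [div_eq_div_iff (pow_ne_zero _ hφ0) (pow_ne_zero _ hφ0), mul_assoc, ← pow_add, Nat.sub_add_cancel hjn]
          rw [e]; ring
      · exact ⟨y, n + 1, a, n.succ_pos, hpn, ha, h⟩
  obtain ⟨⟨a, ⟨s, hs⟩⟩, hspec⟩ := IsLocalization.surj (nonZeroDivisors A) c
  obtain ⟨k, u, hu⟩ := IsDiscreteValuationRing.eq_unit_mul_pow_irreducible (nonZeroDivisors.ne_zero hs)
    (PowerSeries.X_irreducible (R := K))
  obtain ⟨y, m, a', hm0, hpm, ha', hy⟩ := key k 0 (a * ↑u⁻¹) (by
    rw [zero_pow hp.ne_zero, sub_zero, add_zero, eq_div_iff (pow_ne_zero _ hφ0), map_mul, ← hspec]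
    simp only [hu, map_mul, map_pow]
    rw [show φ (↑u⁻¹ : A) = (φ u)⁻¹ from eq_inv_of_mul_eq_one_left (by rw [← map_mul, Units.inv_mul, map_one])]
    have : φ (u : A) ≠ 0 := (u.isUnit.map φ).ne_zero
    show c * φ T ^ k = c * (φ (u : A) * φ T ^ k) * (φ (u : A))⁻¹
    rw [mul_comm (φ (u : A)), mul_assoc, mul_assoc, mul_inv_cancel₀ this, mul_one])
  refine ⟨θ + algebraMap F E y, m, -a', ?_, hm0, hpm, by simpa using ha', ?_⟩
  · have := IntermediateField.isSimpleOrder_of_finrank_prime F E (hdeg ▸ hp)
    refine (eq_bot_or_eq_top _).resolve_left fun h => hθ ?_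
    rw [IntermediateField.adjoin_simple_eq_bot_iff, IntermediateField.mem_bot] at h
    obtain ⟨w, hw⟩ := h
    exact ⟨w - y, by rw [map_sub, hw]; ring⟩
  · rw [map_pow, map_neg, neg_div, ← hy, map_neg, map_add, hc, map_sub, map_pow, add_pow_char]
    ring

end Groth.Agent.S11093
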