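import Groth.Statements.S11095
import Mathlib
import Groth.Agent.CAlg6.KaehlerSimple
import Groth.Agent.EGA4Alg4.IntegralDim
import Groth.Agent.FBase64.TensorField

set_option autoImplicit false
universe u
open CAlg
open Groth.Agent
open Polynomial TensorProduct

namespace Groth.Agent.S11095

/-- Let K₀ be a perfect field, K an algebraic extension of K₀ and F₀ a field extension of K₀ such that
K₀ is algebraically closed in F₀. Then the K₀-algebra F₀ ⊗ K is a field; consequently F₀ and K,
embedded in it by x ↦ x ⊗ 1 and y ↦ 1 ⊗ y, are linearly disjoint over K₀. -/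
theorem result (K₀ F₀ K : Type u)
    [Field K₀] [PerfectField K₀] [Field F₀] [Algebra K₀ F₀] [Field K] [Algebra K₀ K]
    [Algebra.IsAlgebraic K₀ K] (h : algebraicClosure K₀ F₀ = ⊥) :
    IsField (TensorProduct K₀ F₀ K) := by
  have key : ∀ K1 : Subalgebra K₀ K, K1.FG → IsDomain (F₀ ⊗[K₀] K1) := by
    intro K1 hK1
    have : Algebra.FiniteType K₀ K1 := K1.fg_iff_finiteType.mp hK1
    have : Algebra.IsIntegral K₀ K1 := ⟨fun x =>
      (isIntegral_algHom_iff K1.val Subtype.val_injective).mp (Algebra.IsIntegral.isIntegral _)⟩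
    have : Module.Finite K₀ K1 := Algebra.IsIntegral.finite
    let : Field K1 := (isField_of_isIntegral_of_isField' (R := K₀) (S := K1) (Field.toIsField K₀)).toField
    have : Algebra.IsSeparable K₀ K1 := Algebra.IsAlgebraic.isSeparable_of_perfectField
    obtain ⟨α, hα⟩ := Field.exists_primitive_element K₀ K1
    let Ω := AlgebraicClosure F₀
    let σ : K1 →ₐ[K₀] Ω := IsAlgClosed.lift
    let ψ : F₀ ⊗[K₀] K1 →ₐ[F₀] Ω :=
      Algebra.TensorProduct.lift (Algebra.ofId F₀ Ω) σ (fun _ _ => Commute.all _ _)
    have hint : IsIntegral K₀ α := Algebra.IsIntegral.isIntegral α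
    let g := minpoly F₀ (σ α)
    have hint' : IsIntegral F₀ (σ α) := (hint.map σ).tower_top
    have hdeg : (minpoly K₀ α).natDegree ≤ g.natDegree := by
      have hd : g ∣ (minpoly K₀ α).map (algebraMap K₀ F₀) :=
        minpoly.dvd F₀ _ (by rw [aeval_map_algebraMap, aeval_algHom_apply, minpoly.aeval, map_zero])
      have hl : g ∈ Polynomial.lifts (algebraMap K₀ F₀) := by
        rw [Polynomial.lifts_iff_coeff_lifts]
        intro n
        have hn := isIntegral_coeff_of_dvd (minpoly K₀ α) g (minpoly.monic hint) (minpoly.monic hint') hd n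
        have hmem : g.coeff n ∈ algebraicClosure K₀ F₀ := mem_algebraicClosure_iff.2 hn.isAlgebraic
        rw [h, IntermediateField.mem_bot] at hmem
        exact hmem
      obtain ⟨g0, hg0, hg0d, -⟩ := Polynomial.lifts_and_degree_eq_and_monic hl (minpoly.monic hint')
      have hz : σ (aeval α g0) = 0 := by
        rw [← aeval_algHom_apply, ← aeval_map_algebraMap F₀ (σ α) g0, hg0, minpoly.aeval]
      have hne : g0 ≠ 0 := fun e => minpoly.ne_zero hint' (show g = 0 by rw [← hg0, e, Polynomial.map_zero])
      rw [← natDegree_eq_of_degree_eq hg0d]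
      exact natDegree_le_natDegree (minpoly.degree_le_of_ne_zero K₀ α hne ((map_eq_zero σ).1 hz))
    have hrange : IntermediateField.adjoin F₀ {σ α} = IntermediateField.adjoin F₀ {σ α} := rfl
    have hfin : Module.finrank F₀ (F₀ ⊗[K₀] K1) ≤ Module.finrank F₀ (LinearMap.range ψ.toLinearMap) := by
      rw [Module.finrank_baseChange, ← IntermediateField.finrank_top', ← hα,
        IntermediateField.adjoin.finrank hint]
      refine hdeg.trans ?_
      rw [← IntermediateField.adjoin.finrank hint']
      refine LinearMap.finrank_le_finrank_of_injective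
        (f := LinearMap.codRestrict (LinearMap.range ψ.toLinearMap)
          (IntermediateField.adjoin F₀ {σ α}).val.toLinearMap (fun z => ?_))
        (fun a b e => Subtype.ext (congrArg (fun w : LinearMap.range ψ.toLinearMap => (w : Ω)) e))
      have hz : (z : Ω) ∈ (IntermediateField.adjoin F₀ {σ α}).toSubalgebra := z.2
      rw [IntermediateField.adjoin_simple_toSubalgebra_of_isAlgebraic hint'.isAlgebraic] at hz
      have hle : Algebra.adjoin F₀ {σ α} ≤ ψ.range :=
        Algebra.adjoin_le (Set.singleton_subset_iff.2 ⟨1 ⊗ₜ α, by simp [ψ]⟩)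
      exact hle hz
    have hinj : Function.Injective ψ := by
      show Function.Injective ψ.toLinearMap
      rw [← LinearMap.ker_eq_bot, ← Submodule.finrank_eq_zero]
      have := LinearMap.finrank_range_add_finrank_ker ψ.toLinearMap
      omega
    exact hinj.isDomain ψ.toRingHom
  have hnz : NoZeroDivisors (K ⊗[K₀] F₀) := FBase64.noZeroDivisors_tensor_of_forall_fg fun K1 hK1 => by
    have := key K1 hK1
    exact (Algebra.TensorProduct.comm K₀ K1 F₀).injective.noZeroDivisors _ (map_zero _) (map_mul _)
  have : NoZeroDivisors (F₀ ⊗[K₀] K) :=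
    (Algebra.TensorProduct.comm K₀ F₀ K).injective.noZeroDivisors _ (map_zero _) (map_mul _)
  have : Nontrivial (F₀ ⊗[K₀] K) :=
    (Algebra.TensorProduct.includeLeft_injective (R := K₀) (S := F₀) (A := F₀) (B := K)
      (algebraMap K₀ K).injective).nontrivial
  have : IsDomain (F₀ ⊗[K₀] K) := NoZeroDivisors.to_isDomain _
  exact isField_of_isIntegral_of_isField' (R := F₀) (Field.toIsField F₀)

end Groth.Agent.S11095
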