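import Groth.Statements.S11096
import Mathlib.RingTheory.SimpleModule.Basic
import Mathlib.RingTheory.HopkinsLevitzki
import Mathlib.RingTheory.PowerSeries.Inverse
import Mathlib.RingTheory.PowerSeries.Trunc
import Mathlib.Algebra.Field.ZMod
import Mathlib.RingTheory.Localization.Integer
import Mathlib.LinearAlgebra.Dimension.Localization

set_option autoImplicit false
universe u
open Neron

namespace Groth.Agent.S11096

/-- Let a Weierstrass equation have coefficients in a commutative ring R and let I be an ideal with a₃,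
a₄, a₆ ∈ I. If the discriminant Δ does not lie in I ^ 2, then a₆ does not lie in I ^ 2 and b₂ does
not lie in I. (For a discrete valuation ring with maximal ideal (π): if π divides a₃, a₄, a₆ and
v(Δ) = 1, then v(a₆) = 1 and π does not divide b₂.) -/
theorem result {R : Type u} [CommRing R] (W : WeierstrassCurve R)
    (I : Ideal R) (h3 : W.a₃ ∈ I) (h4 : W.a₄ ∈ I) (h6 : W.a₆ ∈ I) (hΔ : W.Δ ∉ I ^ 2) :
    W.a₆ ∉ I ^ 2 ∧ W.b₂ ∉ I := by
  have m : ∀ {x y : R}, x ∈ I → y ∈ I → x * y ∈ I ^ 2 := fun hx hy => by rw [pow_two]; exact Ideal.mul_mem_mul hx hy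
  have b4 : W.b₄ ∈ I := by
    unfold WeierstrassCurve.b₄; exact add_mem (I.mul_mem_left _ h4) (I.mul_mem_left _ h3)
  have b6 : W.b₆ ∈ I := by
    unfold WeierstrassCurve.b₆; exact add_mem (by rw [pow_two]; exact I.mul_mem_left _ h3) (I.mul_mem_left _ h6)
  constructor
  · intro h
    apply hΔ
    have q3 := m h3 h3
    have q34 := m h3 h4
    have q4 := m h4 h4
    have e : W.Δ = W.a₆ * (-W.b₂^2*(W.a₁^2 + 4*W.a₂)) + (W.a₃*W.a₄) * (W.b₂^2 * W.a₁)
      + (W.a₃*W.a₃) * (-W.b₂^2 * W.a₂) + (W.a₄*W.a₄) * W.b₂^2 + W.b₄ * W.b₄ * (-8 * W.b₄)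
      + W.b₆ * W.b₆ * (-27) + W.b₄ * W.b₆ * (9 * W.b₂) := by
      simp [WeierstrassCurve.Δ, WeierstrassCurve.b₈]; ring
    rw [e]
    repeat' apply Ideal.add_mem
    all_goals apply Ideal.mul_mem_right
    exacts [h, q34, q3, q4, m b4 b4, m b6 b6, m b4 b6]
  · intro h
    apply hΔ
    have e : W.Δ = W.b₂ * W.b₂ * (-W.b₈) + W.b₄ * W.b₄ * (-8 * W.b₄)
      + W.b₆ * W.b₆ * (-27) + W.b₄ * W.b₆ * (9 * W.b₂) := by
      simp [WeierstrassCurve.Δ]; ring
    rw [e]
    repeat' apply Ideal.add_mem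
    all_goals apply Ideal.mul_mem_right
    exacts [m h h, m b4 b4, m b6 b6, m b4 b6]


end Groth.Agent.S11096
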