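import Groth.Statements.S11103
import Groth.Agent.NeronHD28.BaseChange
-- import your own Groth.Agent.* helpers here

set_option autoImplicit false
universe u
open CategoryTheory CategoryTheory.Limits AlgebraicGeometry
open Neron

namespace Groth.Agent.S11103

/-- Let R be a Dedekind domain with fraction field K, let R' be a Dedekind domain finite étale over R
(the integral closure of R in a finite unramified extension K' of K), and let N be a Néron model
over Spec R of its generic fibre N_K. Then the base change N' = N ×_R R' is a Néron model over Spec
R' of its generic fibre N'_{K'}: it is smooth, separated and of finite type over Spec R', and every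
K'-morphism from the generic fibre of a smooth R'-scheme to N'_{K'} extends uniquely to an
R'-morphism into N'. (The published statement concerns the Néron model of an elliptic curve with the
mapping property for rational maps; this row allows any N and tests the mapping property on
morphisms from smooth schemes. The property generally fails for ramified extensions.) -/
theorem result (R R' : Type u) [CommRing R] [IsDedekindDomain R]
    [CommRing R'] [IsDedekindDomain R'] [Algebra R R'] [Module.Finite R R'] [Algebra.Etale R R']
    (N : Over (Spec (CommRingCat.of R)))
    (hN : Neron.IsNeronModelOf R N ((Neron.genericFibre R).obj N) (Iso.refl _)) :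
    Neron.IsNeronModelOf R'
      ((Over.pullback (Spec.map (CommRingCat.ofHom (algebraMap R R')))).obj N)
      ((Neron.genericFibre R').obj ((Over.pullback (Spec.map (CommRingCat.ofHom (algebraMap R R')))).obj N))
      (Iso.refl _) := by
  obtain ⟨hs, hsep, hft, hqc, hmap⟩ := hN
  have hinj : Function.Injective (algebraMap R R') := FaithfulSMul.algebraMap_injective R R'
  obtain ⟨a, ha⟩ := NeronHD28.isPullback_genPt R R' hinj
  have : Smooth (Spec.map (CommRingCat.ofHom (algebraMap R R'))) := by
    rw [HasRingHomProperty.Spec_iff (P := @Smooth)]
    exact RingHom.smooth_algebraMap.2 inferInstance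
  simp only [Iso.refl_hom, Category.comp_id] at hmap
  refine ⟨inferInstanceAs (Smooth (Limits.pullback.snd _ _)), inferInstanceAs (IsSeparated (Limits.pullback.snd _ _)),
    inferInstanceAs (LocallyOfFiniteType (Limits.pullback.snd _ _)), inferInstanceAs (QuasiCompact (Limits.pullback.snd _ _)),
    fun Y hY => ?_⟩
  simp only [Iso.refl_hom, Category.comp_id]
  exact (NeronHD28.smoothExt_iff (Neron.genPt R') _).1
    (NeronHD28.smoothExt_pullback _ (Neron.genPt R) (Neron.genPt R') a ha N
      ((NeronHD28.smoothExt_iff (Neron.genPt R) N).2 hmap)) Y hY

end Groth.Agent.S11103
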