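import Groth.Statements.S11108
import Groth.Agent.S0536
import Mathlib.RingTheory.Jacobson.Ring
import Mathlib.RingTheory.Henselian
-- import your own Groth.Agent.* helpers here

set_option autoImplicit false
universe u
open CategoryTheory AlgebraicGeometry
open Neron

namespace Groth.Agent.S11108

/-- Let R be a strictly Henselian discrete valuation ring — Henselian with algebraically closed residue
field — and p : X → Spec R a smooth morphism. Then the image of the reduction map from R-valued
points of X to the special fibre is dense in the special fibre: every point of X over the closed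
point of Spec R lies in the closure of the set of points s(𝔪), s a section of p and 𝔪 the closed
point. -/
theorem result (R : Type u) [CommRing R] [IsDomain R]
    [IsDiscreteValuationRing R] [HenselianLocalRing R] [IsAlgClosed (IsLocalRing.ResidueField R)]
    {X : Scheme.{u}} (p : X ⟶ Spec (CommRingCat.of R)) [Smooth p]
    (x : X) (hx : p.base x = IsLocalRing.closedPoint R) :
    x ∈ closure {y : X | ∃ s : Spec (CommRingCat.of R) ⟶ X, s ≫ p = 𝟙 _ ∧
      s.base (IsLocalRing.closedPoint R) = y} := by
  rw [mem_closure_iff]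
  intro O hO hxO
  obtain ⟨V, hV, hxV, hVO⟩ := exists_isAffineOpen_mem_and_subset (U := ⟨O, hO⟩) hxO
  let A := Γ(X, V)
  let j : Spec A ⟶ X := hV.fromSpec
  obtain ⟨φ, hφ⟩ := Spec.map_surjective (j ≫ p)
  have hsm : φ.hom.Smooth := (HasRingHomProperty.Spec_iff (P := @Smooth)).1 (hφ ▸ inferInstance)
  algebraize [φ.hom]
  have : Algebra.Smooth R A := hsm
  let P := hV.primeIdealOf ⟨x, hxV⟩
  have hjP : j.base P = x := hV.fromSpec_primeIdealOf ⟨x, hxV⟩
  have hm : IsLocalRing.maximalIdeal R ≤ P.asIdeal.comap φ.hom := by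
    have h1 : (Spec.map φ).base P = IsLocalRing.closedPoint R := by
      rw [hφ, Scheme.Hom.comp_base]; exact (congrArg p.base hjP).trans hx
    exact ((PrimeSpectrum.ext_iff).1 h1).ge
  obtain ⟨M, hM, hPM⟩ := P.asIdeal.exists_le_maximal P.isPrime.ne_top
  let k := IsLocalRing.ResidueField R
  let κ := A ⧸ M
  let _ : Field κ := Ideal.Quotient.field M
  let g : k →+* κ := Ideal.Quotient.lift _ ((Ideal.Quotient.mk M).comp φ.hom)
    (fun r hr => Ideal.Quotient.eq_zero_iff_mem.2 (hPM (hm hr)))
  let _ : Algebra k κ := g.toAlgebra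
  have : IsScalarTower R k κ := IsScalarTower.of_algebraMap_eq' rfl
  have : Algebra.FiniteType R A := inferInstance
  have : Algebra.FiniteType R κ := Algebra.FiniteType.of_surjective (Ideal.Quotient.mkₐ R M) Ideal.Quotient.mk_surjective
  have : Algebra.FiniteType k κ := Algebra.FiniteType.of_restrictScalars_finiteType R k κ
  have : Module.Finite k κ := finite_of_finite_type_of_isJacobsonRing k κ
  have hbij : Function.Bijective (algebraMap k κ) := IsAlgClosed.algebraMap_bijective_of_isIntegral
  let e : κ ≃ₐ[k] k := (AlgEquiv.ofBijective (Algebra.ofId k κ) hbij).symm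
  let σ : A →ₐ[R] R ⧸ IsLocalRing.maximalIdeal R := (e.toAlgHom.restrictScalars R).comp (Ideal.Quotient.mkₐ R M)
  obtain ⟨τ, hτ⟩ := Groth.Agent.S0536.result R A R (IsLocalRing.maximalIdeal R) σ
  have hτM : (IsLocalRing.maximalIdeal R).comap τ.toRingHom = M := by
    ext a
    have h1 : Ideal.Quotient.mk (IsLocalRing.maximalIdeal R) (τ a) = e (Ideal.Quotient.mk M a) := AlgHom.congr_fun hτ a
    rw [Ideal.mem_comap, ← Ideal.Quotient.eq_zero_iff_mem, ← Ideal.Quotient.eq_zero_iff_mem (I := M)]
    show Ideal.Quotient.mk _ (τ a) = 0 ↔ _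
    rw [h1]
    exact map_eq_zero_iff e e.injective
  refine ⟨j.base ((Spec.map (CommRingCat.ofHom τ.toRingHom)).base (IsLocalRing.closedPoint R)), hVO ?_,
    Spec.map (CommRingCat.ofHom τ.toRingHom) ≫ j, ?_, rfl⟩
  · show _ ∈ (V : Set X)
    rw [← hV.range_fromSpec]
    exact Set.mem_range_self _
  · rw [Category.assoc, ← hφ, ← Spec.map_comp,
      show φ ≫ CommRingCat.ofHom τ.toRingHom = 𝟙 (CommRingCat.of R) from CommRingCat.hom_ext (RingHom.ext fun r => τ.commutes r), Spec.map_id]

end Groth.Agent.S11108
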