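import Groth.Statements.S11122
import Groth.Agent.QCohPush72.Bound
import Groth.Agent.DCX42.Affine

set_option autoImplicit false
set_option linter.style.haveILetI false
set_option backward.isDefEq.respectTransparency.types false
set_option maxHeartbeats 1000000
universe u
open CategoryTheory CategoryTheory.Limits AlgebraicGeometry
attribute [local instance] HasDerivedCategory.standard
open Perf

namespace Groth.Agent.S11122

/-- Let f : X ⟶ Y be a quasi-compact quasi-separated morphism of schemes with Y quasi-compact, and
assume the unbounded derived direct image Rf_* exists. Suppose there is an integer k such that for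
every integer n and every object F of D(O_X) with bounded cohomology that is n-pseudo-coherent, Rf_*
F is (n + k)-pseudo-coherent. Then for every object F of D(O_X) that is n-pseudo-coherent for all n
(no boundedness assumed), Rf_* F is n-pseudo-coherent for all n. (The published statement obtains
the bound for proper pseudo-coherent f from a cited finiteness theorem; this row assumes the bound.) -/
theorem result {X Y : Scheme.{u}} (f : X ⟶ Y) [QuasiCompact f]
    [QuasiSeparated f] [CompactSpace Y] [DCoh.HasRpush f] (k : ℤ)
    (hK : ∀ (F : DCoh.D X) (n a b : ℤ), F.IsGE a → F.IsLE b → DCoh.IsPseudoCoherentD n F →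
      DCoh.IsPseudoCoherentD (n + k) ((DCoh.Rpush f).obj F))
    (F : DCoh.D X) (hF : ∀ m : ℤ, DCoh.IsPseudoCoherentD m F) (m : ℤ) :
    DCoh.IsPseudoCoherentD m ((DCoh.Rpush f).obj F) := by
  haveI : CompactSpace X := QuasiCompact.compactSpace_of_compactSpace f
  have hq : DCoh.IsQCohD F := fun i => DCX42.isQCoh_HD_of_lt (hF (i - 1)) i (by omega)
  obtain ⟨b, hb⟩ := DCX42.exists_isLE_of_isPC (hF 0)
  obtain ⟨d, hd⟩ := QCohPush72.exists_isZero_HD_Rpush f
  let n : ℤ := min (m - k) (m - d - 1)
  let T := (DerivedCategory.TStructure.t.triangleLTGE n).obj F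
  have hT : T ∈ Pretriangulated.distinguishedTriangles :=
    DerivedCategory.TStructure.t.triangleLTGE_distinguished n F
  have h₁le : T.obj₁.IsLE (n - 1) :=
    (inferInstance : DerivedCategory.TStructure.t.IsLE ((DerivedCategory.TStructure.t.truncLT n).obj F) (n - 1))
  have h₃ge : T.obj₃.IsGE n :=
    (inferInstance : DerivedCategory.TStructure.t.IsGE ((DerivedCategory.TStructure.t.truncGE n).obj F) n)
  have h₁q : DCoh.IsQCohD T.obj₁ := fun i => by
    by_cases hi : i < n
    · haveI := Mod48.isIso_homology_truncLTι F n i hi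
      exact QC70.isQuasicoherent_of_iso (asIso ((DerivedCategory.homologyFunctor X.Modules i).map
        ((DerivedCategory.TStructure.t.truncLTι n).app F))).symm (hq i)
    · haveI := h₁le
      exact QC70.isQuasicoherent_of_isZero (DerivedCategory.isZero_of_isLE T.obj₁ (n - 1) i (by omega))
  have h₃le : T.obj₃.IsLE (max b n) := by
    refine (DerivedCategory.isLE_iff _ _).2 fun i hi => ?_
    haveI := hb
    haveI := Mod48.isIso_homology_truncGEπ F n i (by omega)
    exact (DerivedCategory.isZero_of_isLE F b i (by omega)).of_iso (asIso ((DerivedCategory.homologyFunctor X.Modules i).map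
      ((DerivedCategory.TStructure.t.truncGEπ n).app F))).symm
  have h₁pc : DCoh.IsPseudoCoherentD (m - k + 1) T.obj₁ := by
    haveI := h₁le
    exact DCX42.isPC_of_isLE (DerivedCategory.TStructure.t.isLE_of_le _ (n - 1) _ (by omega))
  have h₃pc : DCoh.IsPseudoCoherentD (m - k) T.obj₃ := DCX42.isPC₃ T hT h₁pc (hF _)
  have hR₃ : DCoh.IsPseudoCoherentD m ((DCoh.Rpush f).obj T.obj₃) :=
    DCX42.isPC_mono (by omega) (hK T.obj₃ (m - k) n (max b n) h₃ge h₃le h₃pc)
  have hR₁ : DCoh.IsPseudoCoherentD m ((DCoh.Rpush f).obj T.obj₁) :=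
    DCX42.isPC_of_isLE ((DerivedCategory.isLE_iff _ _).2 fun j hj => hd _ h₁q (n - 1) h₁le j (by omega))
  obtain ⟨c, hc⟩ := PropPush72.exists_distinguished f T hT
  exact DCX42.isPC₂ _ hc hR₁ hR₃

end Groth.Agent.S11122
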