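import Groth.Statements.S11127
import Groth.Agent.CohDer42.Descent

set_option autoImplicit false
universe w u₁ u₂
open CategoryTheory CategoryTheory.Limits
open CohDer

namespace Groth.Agent.S11127
open CategoryTheory.Limits Groth.Agent.CohDer42

/-- Let A and B be abelian categories with small hom-sets and all small colimits, B having exact
filtered colimits and a small separating family of noetherian objects. Let F : A ⥤ B be faithful and
exact with a right adjoint G preserving filtered colimits. Then an object a of A is noetherian if
and only if F a is noetherian in B. -/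
theorem result
    {A : Type u₁} [Category.{w} A] [Abelian A] [HasColimitsOfSize.{w, w} A]
    {B : Type u₂} [Category.{w} B] [Abelian B] [HasColimitsOfSize.{w, w} B] [AB5OfSize.{w, w} B]
    {ι : Type w} (s : ι → B) (hsN : ∀ i, IsNoetherianObject (s i))
    (hsep : ∀ ⦃X Y : B⦄ (f g : X ⟶ Y), (∀ (i : ι) (h : s i ⟶ X), h ≫ f = h ≫ g) → f = g)
    (F : A ⥤ B) (G : B ⥤ A) (adj : F ⊣ G) [F.Additive] [F.Faithful]
    [PreservesFiniteLimits F] [PreservesFiniteColimits F] [PreservesFilteredColimitsOfSize.{w, w} G]
    (a : A) : IsNoetherianObject a ↔ IsNoetherianObject (F.obj a) := by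
  have : IsGrothendieckAbelian.{w} B :=
    { hasSeparator := ⟨⟨∐ s, isSeparator_sigma s hsep⟩⟩ }
  have hfin : ∀ (n : ℕ) (x : Fin n → ι), IsNoetherianObject (∐ fun t => s (x t)) := fun n x =>
    prop_finite_coproduct (fun X => IsNoetherianObject X) (fun X h => isNoetherianObject_of_isZero h)
      (fun S hS h₁ h₃ => haveI := h₁; haveI := h₃; AR46.isNoetherianObject_of_extension hS.exact)
      n _ (fun t => hsN _)
  have hsub : ∀ {X Y : B} (i : X ⟶ Y), Mono i → IsNoetherianObject Y → IsNoetherianObject X :=
    fun i _ h => haveI := h; isNoetherianObject_of_mono i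
  have hquot : ∀ {X Y : B} (p : X ⟶ Y), Epi p → IsNoetherianObject X → IsNoetherianObject Y :=
    fun p _ h => haveI := h; AR46.isNoetherianObject_of_epi p
  exact ⟨fun _ => prop_map_of_noetherian adj s hsep (fun X => IsNoetherianObject X) hsub hquot hfin a,
    fun _ => isNoetherianObject_of_map adj a⟩

end Groth.Agent.S11127
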