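import Groth.Statements.S1113
import Groth.Agent.CohDer42.TruncFactor

set_option autoImplicit false
universe w v u
open CategoryTheory CategoryTheory.Limits
open CohDer

namespace Groth.Agent.S1113
open Groth.Agent.CohDer42

/-- Let K : ℕᵒᵖ ⥤ CochainComplex A ℤ be a sequence of cochain maps … → K₂ → K₁ → K₀ in an abelian
category with Hⁱ(K₀) = 0 for i < 0 and such that for every j < n the map Hʲ(Kⱼ₊₁) → Hʲ(Kⱼ) is zero.
Then in the derived category the composite Kₙ → K₀ factors through the canonical truncation Kₙ →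
τ_{≥ n}Kₙ. -/
theorem result {A : Type u} [Category.{v} A] [Abelian A] [HasDerivedCategory.{w} A]
    (K : ℕᵒᵖ ⥤ CochainComplex A ℤ) (n : ℕ)
    (h0 : ∀ i : ℤ, i < 0 → IsZero ((K.obj (Opposite.op 0)).homology i))
    (hz : ∀ j : ℕ, j < n → HomologicalComplex.homologyMap (K.map (homOfLE (Nat.le_succ j)).op) (j : ℤ) = 0) :
    ∃ φ : DerivedCategory.Q.obj ((K.obj (Opposite.op n)).truncGE (n : ℤ)) ⟶ DerivedCategory.Q.obj (K.obj (Opposite.op 0)),
      DerivedCategory.Q.map ((K.obj (Opposite.op n)).πTruncGE (n : ℤ)) ≫ φ = DerivedCategory.Q.map (K.map (homOfLE (Nat.zero_le n)).op) := by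
  have hK0 : (DerivedCategory.Q.obj (K.obj (Opposite.op 0))).IsGE 0 :=
    (DerivedCategory.isGE_Q_obj_iff _ _).2 ((CochainComplex.isGE_iff _ _).2 fun i hi =>
      (HomologicalComplex.exactAt_iff_isZero_homology _ _).2 (h0 i hi))
  obtain ⟨W, a, b, hW, hab⟩ := exists_factor_GE (fun j => DerivedCategory.Q.obj (K.obj (Opposite.op j)))
    (fun j => DerivedCategory.Q.map (K.map (homOfLE (Nat.le_succ j)).op))
    (fun j => DerivedCategory.Q.map (K.map (homOfLE (Nat.zero_le j)).op))
    (by simp)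
    (fun j => by rw [← Functor.map_comp, ← Functor.map_comp]; rfl)
    hK0 n (fun j hj => homology_Q_map_eq_zero _ _ (hz j hj))
  obtain ⟨φ, hφ⟩ := factor_πTruncGE (K.obj (Opposite.op n)) (n : ℤ) a b hW
  exact ⟨φ, hφ.trans hab⟩

end Groth.Agent.S1113
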