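import Groth.Statements.S11131
import Groth.Agent.SiteMod.Basics
import Groth.Agent.Coh69.Grothendieck
import Mathlib.CategoryTheory.Abelian.Subobject
import Mathlib.CategoryTheory.Adjunction.AdjointFunctorTheorems
import Mathlib.CategoryTheory.Sites.CoverLifting

set_option autoImplicit false
universe u
open CategoryTheory
open ModSite

namespace Groth.Agent.S11131

/-- Let F : C ⥤ D be a functor between small sites which preserves coverings, is continuous
(precomposition with F preserves sheaves) and is cocontinuous (every covering of F y is refined by
the image of a covering of y). For sheaves of rings S on C and R on D and a ring map φ : S ⟶ F_* R,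
the restriction functor from sheaves of R-modules to sheaves of S-modules (precompose with F,
restrict scalars along φ) is a left adjoint. (The published statement asks the functor to send
coverings to coverings and to preserve fibre products of members of a covering, takes commutative
structure sheaves, and also asserts that restriction commutes with sheafification of presheaves of
modules; this row assumes only that restriction along the functor preserves sheaves, that coverings
go to coverings and that the functor is cocontinuous, and states only that the right adjoint
exists.) -/
theorem result
    {C : Type u} [SmallCategory C] {D : Type u} [SmallCategory D]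
    (J : GrothendieckTopology C) (K : GrothendieckTopology D) (F : C ⥤ D)
    [F.IsContinuous J K] (hF : CoverPreserving J K F) [F.IsCocontinuous J K]
    {S : Sheaf J RingCat.{u}} {R : Sheaf K RingCat.{u}}
    (φ : S ⟶ (F.sheafPushforwardContinuous RingCat.{u} J K).obj R) :
    (SheafOfModules.pushforward.{u} φ).IsLeftAdjoint := by
  have := Coh69.sheafOfModules_isGrothendieckAbelian R
  let T := SheafOfModules.toSheaf.{u} S
  have hcS := SiteMod.toSheaf_preservesColimits' S
  have hcR := SiteMod.toSheaf_preservesColimits' R
  have : CategoryTheory.Limits.PreservesColimitsOfSize.{u, u} (F.sheafPushforwardContinuous AddCommGrpCat.{u} J K) :=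
    (F.sheafAdjunctionCocontinuous AddCommGrpCat.{u} J K).leftAdjoint_preservesColimits
  have e : SheafOfModules.toSheaf.{u} R ⋙ F.sheafPushforwardContinuous AddCommGrpCat.{u} J K ≅
      SheafOfModules.pushforward.{u} φ ⋙ T := NatIso.ofComponents (fun _ => Iso.refl _)
  have : CategoryTheory.Limits.PreservesColimitsOfSize.{u, u} (SheafOfModules.pushforward.{u} φ ⋙ T) := CategoryTheory.Limits.preservesColimits_of_natIso e
  have : CategoryTheory.Limits.ReflectsColimitsOfSize.{u, u} T := CategoryTheory.Limits.reflectsColimits_of_reflectsIsomorphisms
  have : CategoryTheory.Limits.PreservesColimitsOfSize.{u, u} (SheafOfModules.pushforward.{u} φ) :=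
    CategoryTheory.Limits.preservesColimits_of_reflects_of_preserves _ T
  have hwp : WellPowered.{u} (SheafOfModules.{u} R) := IsGrothendieckAbelian.wellPowered _
  have : WellPowered.{u} (SheafOfModules.{u} R)ᵒᵖ := CategoryTheory.Abelian.wellPowered_opposite
  exact isLeftAdjoint_of_preservesColimits_of_isSeparating (isSeparator_separator (SheafOfModules.{u} R)) _

end Groth.Agent.S11131
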