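import Groth.Statements.S11136
import Mathlib.RingTheory.Invariant.Basic
import Mathlib.RingTheory.Spectrum.Prime.Topology
import Mathlib.RingTheory.Spectrum.Prime.Noetherian
import Mathlib.Topology.Connected.Clopen

set_option autoImplicit false
universe u v
open InvTh

namespace Groth.Agent.S11136

open scoped Pointwise in
private theorem aux {X Y : Type*} [TopologicalSpace X] [TopologicalSpace Y]
    (hfin : (irreducibleComponents X).Finite) [PreconnectedSpace Y]
    (c : X → Y) (hc : IsClosedMap c) (hs : Function.Surjective c)
    {G : Type*} [Group G] [Finite G] (f : G → X → X) (hf : ∀ g, Continuous (f g))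
    (h1 : ∀ x, f 1 x = x) (hm : ∀ g h x, f g (f h x) = f (h * g) x) (ho : ∀ p q, c p = c q → ∃ g, q = f g p)
    (x y : X) : ∃ g, f g '' connectedComponent x = connectedComponent y := by
  have himg : ∀ g z, f g '' connectedComponent z = connectedComponent (f g z) := by
    intro g z
    refine Set.Subset.antisymm ((hf g).image_connectedComponent_subset z) fun w hw => ?_
    refine ⟨f g⁻¹ w, ?_, by rw [hm, inv_mul_cancel, h1]⟩
    have h3 := (hf g⁻¹).mapsTo_connectedComponent (f g z) hw
    rwa [hm, mul_inv_cancel, h1] at h3
  let U : Set X := ⋃ g : G, connectedComponent (f g x)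
  have hUc : IsClosed U := isClosed_iUnion_of_finite fun g => isClosed_connectedComponent
  have hUs : ∀ u ∈ U, ∀ g, f g u ∈ U := by
    intro u hu g
    obtain ⟨h, hu⟩ := Set.mem_iUnion.1 hu
    refine Set.mem_iUnion.2 ⟨h * g, ?_⟩
    rw [← hm, ← himg]
    exact Set.mem_image_of_mem _ hu
  have hV : IsClosed Uᶜ := by
    have he : Uᶜ = ⋃₀ {Z ∈ irreducibleComponents X | Disjoint Z U} := by
      ext z
      constructor
      · intro hz
        refine ⟨irreducibleComponent z, ⟨irreducibleComponent_mem_irreducibleComponents z, ?_⟩,
          mem_irreducibleComponent⟩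
        rw [Set.disjoint_left]
        intro w hw hwU
        obtain ⟨h, hwh⟩ := Set.mem_iUnion.1 hwU
        apply hz
        refine Set.mem_iUnion.2 ⟨h, ?_⟩
        rw [connectedComponent_eq hwh]
        exact isIrreducible_irreducibleComponent.isPreirreducible.isPreconnected.subset_connectedComponent
          hw mem_irreducibleComponent
      · rintro ⟨Z, ⟨-, hd⟩, hzZ⟩
        exact Set.disjoint_left.1 hd hzZ
    rw [he, Set.sUnion_eq_biUnion]
    exact (hfin.subset (fun Z hZ => hZ.1)).isClosed_biUnion fun Z hZ => isClosed_of_mem_irreducibleComponents Z hZ.1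
  have hcU : c '' U = Set.univ := by
    have hcompl : (c '' U)ᶜ = c '' Uᶜ := by
      ext a
      constructor
      · intro ha
        obtain ⟨z, rfl⟩ := hs a
        exact ⟨z, fun hz => ha ⟨z, hz, rfl⟩, rfl⟩
      · rintro ⟨v, hv, rfl⟩ ⟨u, hu, huv⟩
        obtain ⟨g, rfl⟩ := ho u v huv
        exact hv (hUs u hu g)
    exact IsClopen.eq_univ ⟨hc _ hUc, isClosed_compl_iff.1 (hcompl ▸ hc _ hV)⟩
      ⟨c x, x, Set.mem_iUnion.2 ⟨1, by rw [h1]; exact mem_connectedComponent⟩, rfl⟩
  obtain ⟨u, hu, huy⟩ := hcU.ge (Set.mem_univ (c y))
  obtain ⟨g, rfl⟩ := ho u y huy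
  obtain ⟨h, hh⟩ := Set.mem_iUnion.1 (hUs u hu g)
  exact ⟨h, by rw [himg]; exact connectedComponent_eq hh⟩

/-- Let a finite group G act on a Noetherian commutative ring R by ring automorphisms, with ring of
invariants A (A → R injective with image the fixed elements). When the prime spectrum of A is
connected, any two connected components of Spec R are exchanged by some element of G: for all points
x, y of Spec R there is g in G whose induced self-map of Spec R carries the connected component of x
onto the connected component of y. -/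
theorem result
    (A : Type u) (R : Type v) [CommRing A] [CommRing R] [Algebra A R] [IsNoetherianRing R]
    (G : Type u) [Group G] [Finite G] [MulSemiringAction G R] [SMulCommClass G A R]
    [Algebra.IsInvariant A R G] [FaithfulSMul A R]
    [ConnectedSpace (PrimeSpectrum A)] (x y : PrimeSpectrum R) :
    ∃ g : G, PrimeSpectrum.comap (MulSemiringAction.toRingHom G R g) '' connectedComponent x =
      connectedComponent y := by
  have : Algebra.IsIntegral A R := Algebra.IsInvariant.isIntegral A R G
  refine aux ?_ (PrimeSpectrum.comap (algebraMap A R))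
    (PrimeSpectrum.isClosedMap_comap_of_isIntegral _ Algebra.IsIntegral.isIntegral)
    (Algebra.IsIntegral.comap_surjective A R) (fun g => PrimeSpectrum.comap (MulSemiringAction.toRingHom G R g))
    (fun g => PrimeSpectrum.continuous_comap _) (fun p => ?_) (fun g h p => ?_) (fun p q hpq => ?_) x y
  · exact TopologicalSpace.NoetherianSpace.finite_irreducibleComponents
  · ext z; simp
  · ext z; simp [mul_smul]
  · obtain ⟨g, hg⟩ := Algebra.IsInvariant.exists_smul_of_under_eq A R G p.asIdeal q.asIdeal
      (congrArg PrimeSpectrum.asIdeal hpq)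
    refine ⟨g⁻¹, PrimeSpectrum.ext ?_⟩
    rw [hg, Ideal.pointwise_smul_eq_comap]
    rfl

end Groth.Agent.S11136
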