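import Groth.Statements.S11137
import Mathlib.RingTheory.Invariant.Basic
import Mathlib.RingTheory.Ideal.GoingUp

set_option autoImplicit false
universe u v
open InvTh

namespace Groth.Agent.S11137

open scoped Pointwise in
private theorem goingDown_aux (A : Type u) (R : Type v) [CommRing A] [CommRing R] [Algebra A R]
    (G : Type u) [Group G] [Finite G] [MulSemiringAction G R] [SMulCommClass G A R]
    [Algebra.IsInvariant A R G] [FaithfulSMul A R] : Algebra.HasGoingDown A R := by
  constructor
  intro p hp Q hQ hlt
  have : Algebra.IsIntegral A R := Algebra.IsInvariant.isIntegral A R G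
  obtain ⟨P₀, -, hP₀, hP₀c⟩ := Ideal.exists_ideal_over_prime_of_isIntegral p (⊥ : Ideal R)
    (by
      rw [Ideal.comap_bot_of_injective _ (FaithfulSMul.algebraMap_injective A R)]
      exact bot_le)
  obtain ⟨Q₀, hle, hQ₀, hQ₀c⟩ := Ideal.exists_ideal_over_prime_of_isIntegral_of_isPrime (Q.under A) P₀
    (by rw [hP₀c]; exact hlt.le)
  obtain ⟨g, rfl⟩ := Algebra.IsInvariant.exists_smul_of_under_eq A R G Q₀ Q hQ₀c
  refine ⟨g • P₀, Ideal.pointwise_smul_le_pointwise_smul_iff.2 hle, hP₀.smul g, ⟨?_⟩⟩
  rw [Ideal.under_smul]
  exact hP₀c.symm

/-- Let G be a finite group acting by ring automorphisms on a Noetherian commutative ring R, and let A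
be its ring of invariants (A → R injective with image the fixed elements), with R module-finite over
A. Then the going-down property holds for the extension A → R. (The published statement also asserts
that G acts transitively on the primes of R over a given prime of A; this row states only the
going-down assertion.) -/
theorem result
    (A : Type u) (R : Type v) [CommRing A] [CommRing R] [Algebra A R] [IsNoetherianRing R]
    (G : Type u) [Group G] [Finite G] [MulSemiringAction G R] [SMulCommClass G A R]
    [Algebra.IsInvariant A R G] [FaithfulSMul A R] [Module.Finite A R] :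
    Algebra.HasGoingDown A R := by
  exact goingDown_aux A R G

end Groth.Agent.S11137
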