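import Groth.Statements.S11141
import Groth.Agent.S11135
import Groth.Agent.FinGrp34.Shear

set_option autoImplicit false
universe u
open TensorProduct
open InvTh

namespace Groth.Agent.S11141

open TensorProduct
/-- untwisting, no finiteness -/
private theorem coact_mem_nzd (k : Type u) [Field k] (H : Type u) [CommRing H] [HopfAlgebra k H]
    (S : Type u) [CommRing S] [Algebra k S] [HopfRep.Comod k H S] [GLin.IsCoactAlg k H S] {s : S}
    (hs : s ∈ nonZeroDivisors S) :
    HopfRep.Comod.coact (k := k) (A := H) s ∈ nonZeroDivisors (S ⊗[k] H) ∧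
      s ⊗ₜ[k] (1 : H) ∈ nonZeroDivisors (S ⊗[k] H) := by
  have h1 : s ⊗ₜ[k] (1 : H) ∈ nonZeroDivisors (S ⊗[k] H) := by
    have hinj : Function.Injective (LinearMap.mulLeft k s) := fun a b h =>
      (mul_cancel_left_mem_nonZeroDivisors hs).1 h
    have h2 := Module.Flat.rTensor_preserves_injective_linearMap (R := k) (M := H) _ hinj
    rw [mem_nonZeroDivisors_iff_right]
    intro z hz
    refine h2 ?_
    rw [map_zero, ← hz]
    clear hz
    induction z with
    | zero => simp
    | add p q hp hq => simp only [map_add, add_mul, hp, hq]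
    | tmul p q => simp [mul_comm]
  refine ⟨?_, h1⟩
  rw [← FinGrp34.shear'_tmul_one (k := k) (H := H) S s]
  exact MulEquivClass.map_nonZeroDivisors (FinGrp34.shear' k H S) ▸ Submonoid.mem_map_of_mem _ h1
/-- Let k be a field, H a finitely generated commutative Hopf algebra over k (the coordinate ring of a
group scheme affine and of finite type over k), and S a commutative k-algebra which is
ring-isomorphic to a finite product of normal (integrally closed) domains and carries an H-comodule
structure whose coaction S → S ⊗ H is multiplicative and unital. Then the k-subalgebra of invariants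
of S, the elements s whose coaction is s ⊗ 1, is again ring-isomorphic to a finite product of normal
domains. -/
theorem result (k : Type u) [Field k]
    (H : Type u) [CommRing H] [HopfAlgebra k H] [Algebra.FiniteType k H]
    (S : Type u) [CommRing S] [Algebra k S] [HopfRep.Comod k H S]
    (hmul : ∀ x y : S, HopfRep.Comod.coact (k := k) (A := H) (x * y) =
        HopfRep.Comod.coact (k := k) (A := H) x * HopfRep.Comod.coact (k := k) (A := H) y)
    (hone : HopfRep.Comod.coact (k := k) (A := H) (1 : S) = 1)
    {ι : Type u} [Fintype ι] (D : ι → Type u) [∀ i, CommRing (D i)] [∀ i, IsDomain (D i)]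
    [∀ i, IsIntegrallyClosed (D i)] (e : S ≃+* Π i, D i)
    (A : Subalgebra k S)
    (hA : ∀ a : S, a ∈ A ↔ HopfRep.Comod.coact (k := k) (A := H) a = a ⊗ₜ[k] (1 : H)) :
    ∃ (κ : Type u) (_ : Fintype κ) (E : κ → Type u) (_ : ∀ j, CommRing (E j)) (_ : ∀ j, IsDomain (E j))
      (_ : ∀ j, IsIntegrallyClosed (E j)), Nonempty (A ≃+* Π j, E j) := by
  haveI : GLin.IsCoactAlg k H S := ⟨hone, hmul⟩
  let f1 : (Π i, D i) →+* S ⊗[k] H :=
    ((GLin.coactAlgHom k H S).toRingHom).comp e.symm.toRingHom
  let f2 : (Π i, D i) →+* S ⊗[k] H :=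
    ((Algebra.TensorProduct.includeLeft : S →ₐ[k] S ⊗[k] H).toRingHom).comp e.symm.toRingHom
  let A' : Subring (Π i, D i) := A.toSubring.map e.toRingHom
  obtain ⟨κ, i1, E, i2, i3, i4, ⟨φ⟩⟩ := S11135.result D (S ⊗[k] H) {f1, f2} (by
    intro f hf s hs
    have hs' : e.symm s ∈ nonZeroDivisors S := MulEquivClass.map_nonZeroDivisors e.symm ▸ Submonoid.mem_map_of_mem _ hs
    obtain ⟨h1, h2⟩ := coact_mem_nzd k H S hs'
    rcases hf with rfl | rfl
    · exact h1
    · exact h2) A' (by
    intro a
    constructor
    · rintro ⟨x, hx, rfl⟩ f hf f' hf'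
      have hxA := (hA x).1 hx
      rcases hf with rfl | rfl <;> rcases hf' with rfl | rfl <;> simp [f1, f2, hxA]
    · intro h
      refine ⟨e.symm a, (hA _).2 ?_, e.apply_symm_apply a⟩
      exact h f1 (Or.inl rfl) f2 (Or.inr rfl))
  exact ⟨κ, i1, E, i2, i3, i4, ⟨(A.toSubring.equivMapOfInjective e.toRingHom e.injective).trans φ⟩⟩

end Groth.Agent.S11141
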