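import Groth.Statements.S11146
import Groth.Agent.S11138
import Groth.Agent.S3623
import Groth.Agent.S9287
import Groth.Agent.Gor18.Local
import Groth.Agent.Grp57.Dim

set_option autoImplicit false
set_option backward.isDefEq.respectTransparency.types false
universe u
open CategoryTheory MonoidalCategory CartesianMonoidalCategory MonObj GrpObj AlgebraicGeometry
attribute [local instance] HasDerivedCategory.standard
open GrpSch

namespace Groth.Agent.S11146

/-- Group schemes over Gorenstein rings: let R be a Gorenstein local ring and G a group scheme over Spec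
R which is flat and of finite type over Spec R. Then G is a Gorenstein scheme (locally Noetherian
with all local rings Gorenstein) and has finite Krull dimension. (The published statement concerns
every member of the diagram Spec R ← G ⇇ G ×_R G of the action groupoid, each of which is Spec R or
again a flat finite-type group scheme over Spec R, and adds that O_S[d], for S = Spec R and d the
dimension of R, is then an equivariant dualizing complex; this row states the first assertion for
G.) -/
theorem result (R : Type u) [CommRing R]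
    [LocCoh.IsGorensteinLocalRing R] (G : Over (Spec (CommRingCat.of R))) [GrpObj G] [Flat G.hom]
    [LocallyOfFiniteType G.hom] [QuasiCompact G.hom] :
    Dual3.IsGorenstein G.left ∧ topologicalKrullDim G.left < ⊤ := by
  have : IsLocalRing R := inferInstance
  have : IsNoetherianRing R := inferInstance
  let S : Scheme.{u} := Spec (CommRingCat.of R)
  have hS : Dual3.IsGorenstein S := by
    refine Groth.Agent.An92.Gor.isGorenstein_of_cover fun x => ⟨⟨⊤, isAffineOpen_top S⟩, trivial, ?_⟩
    have := Groth.Agent.Gor18.gorRing_of_gor R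
    exact Groth.Agent.Gor18.gorRing_of_ringEquiv (Scheme.ΓSpecIso (CommRingCat.of R)).commRingCatIsoToRingEquiv.symm
  have hsyn := Groth.Agent.S11138.result S G
  have hgor : Dual3.IsGorenstein G.left := by
    refine Groth.Agent.S3623.result G.left S G.hom (fun x => ?_) hS
    obtain ⟨U, V, e, hx, hs⟩ := hsyn x
    let := (G.hom.appLE V.1 U.1 e).hom.toAlgebra
    exact ⟨U, V, e, hx, ((Groth.Agent.S9287.result _ _).1 hs).2⟩
  refine ⟨hgor, ?_⟩
  have : CompactSpace G.left := QuasiCompact.compactSpace_of_compactSpace G.hom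
  let 𝒰 := G.left.affineCover.finiteSubcover
  have hb : ∀ i : 𝒰.I₀, ∃ N : ℕ, topologicalKrullDim (𝒰.X i) ≤ N := by
    intro i
    obtain ⟨φ, hφ⟩ : ∃ φ, Spec.map φ = (𝒰.X i).isoSpec.inv ≫ 𝒰.f i ≫ G.hom :=
      ⟨_, Spec.map_preimage _⟩
    have hft : φ.hom.FiniteType := by
      have : LocallyOfFiniteType (Spec.map φ) := by rw [hφ]; infer_instance
      exact (HasRingHomProperty.Spec_iff (P := @LocallyOfFiniteType)).1 this
    algebraize [φ.hom]
    obtain ⟨n, g, hg⟩ := Algebra.FiniteType.iff_quotient_mvPolynomial''.1 hft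
    obtain ⟨d, hd⟩ : ∃ d : ℕ, ringKrullDim R ≤ d := by
      have hlt : ringKrullDim R < ⊤ := ringKrullDim_lt_top
      have hnb : ringKrullDim R ≠ ⊥ := fun h => by simpa [h] using ringKrullDim_nonneg_of_nontrivial (R := R)
      obtain ⟨e, he⟩ := WithBot.ne_bot_iff_exists.1 hnb
      rw [← he] at hlt ⊢
      obtain ⟨d, rfl⟩ := ENat.ne_top_iff_exists.1 (WithBot.coe_lt_coe.1 hlt).ne
      exact ⟨d, le_rfl⟩
    refine ⟨d + n, ?_⟩
    have h1 : topologicalKrullDim (𝒰.X i) = topologicalKrullDim (Spec Γ(𝒰.X i, ⊤)) :=
      IsHomeomorph.topologicalKrullDim_eq _ (𝒰.X i).isoSpec.hom.homeomorph.isHomeomorph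
    rw [h1]
    refine (le_of_eq (PrimeSpectrum.topologicalKrullDim_eq_ringKrullDim _)).trans ?_
    refine (ringKrullDim_le_of_surjective g.toRingHom hg).trans ?_
    rw [MvPolynomial.ringKrullDim_of_isNoetherianRing]
    push_cast
    gcongr
    simp
  choose N hN using hb
  have hle : topologicalKrullDim G.left ≤ ((Finset.univ.sup N : ℕ) : WithBot ℕ∞) := by
    rw [Groth.Agent.Grp57.topologicalKrullDim_eq_iSup_coheight]
    refine iSup_le fun x => ?_
    obtain ⟨i, y, rfl⟩ := 𝒰.exists_eq x
    rw [show Order.coheight (𝒰.f i y) = Order.coheight y from coheight_eq_of_isOpenImmersion (𝒰.f i)]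
    refine le_trans ?_ ((hN i).trans (by exact_mod_cast Finset.le_sup (Finset.mem_univ i)))
    rw [Groth.Agent.Grp57.topologicalKrullDim_eq_iSup_coheight]
    exact le_iSup (fun z : 𝒰.X i => ((Order.coheight z : ℕ∞) : WithBot ℕ∞)) y
  exact hle.trans_lt (WithBot.coe_lt_coe.2 (ENat.natCast_lt_top _))

end Groth.Agent.S11146
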