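import Groth.Statements.S11148
import Groth.Agent.InvTh34.Watanabe
import Groth.Agent.InvTh34.Grading
import Groth.Agent.Gor18.Local

set_option autoImplicit false
universe u
open InvTh

namespace Groth.Agent.S11148

open MvPolynomial

/-- Let k be a field, G a finite group whose order is invertible in k, and ρ : G → GL_n(k) a group
homomorphism all of whose values have determinant 1. Let G act on the polynomial ring k[X_1, …, X_n]
by ring automorphisms fixing k with g • X_i = Σ_j ρ(g)_{ji} X_j (the induced action on the symmetric
algebra of the representation), and let A be the ring of invariants (A → k[X] injective with image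
the fixed elements). Then A is a Gorenstein ring. (The published statement allows any linearly
reductive finite k-group scheme G with G → GL(V) factoring through SL(V), and also identifies the
canonical module of A with A; this row is the case of a constant group of order invertible in k and
keeps the Gorenstein conclusion.) -/
theorem result (k : Type u) [Field k] (n : ℕ)
    (G : Type u) [Group G] [Finite G] (hG : IsUnit ((Nat.card G : ℕ) : k))
    (ρ : G →* Matrix.GeneralLinearGroup (Fin n) k)
    (hdet : ∀ g : G, Matrix.det ((ρ g : Matrix (Fin n) (Fin n) k)) = 1)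
    [MulSemiringAction G (MvPolynomial (Fin n) k)]
    (hC : ∀ (g : G) (c : k), g • (MvPolynomial.C c : MvPolynomial (Fin n) k) = MvPolynomial.C c)
    (hX : ∀ (g : G) (i : Fin n), g • (MvPolynomial.X i : MvPolynomial (Fin n) k) =
      ∑ j : Fin n, (ρ g : Matrix (Fin n) (Fin n) k) j i • (MvPolynomial.X j : MvPolynomial (Fin n) k))
    (A : Type u) [CommRing A] [Algebra A (MvPolynomial (Fin n) k)]
    [SMulCommClass G A (MvPolynomial (Fin n) k)] [Algebra.IsInvariant A (MvPolynomial (Fin n) k) G]
    [FaithfulSMul A (MvPolynomial (Fin n) k)] :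
    LocCoh.IsGorensteinRing A := by
  classical
  haveI : SMulCommClass G k (MvPolynomial (Fin n) k) := ⟨fun g c p => by
    rw [← C_mul', smul_mul', hC, C_mul']⟩
  have hlin : ∀ (g : G) (i : Fin n), IsWeightedHomogeneous (fun _ => (1 : ℤ)) (g • (X i : MvPolynomial (Fin n) k)) 1 := by
    intro g i
    rw [hX]
    refine IsWeightedHomogeneous.sum _ _ _ fun j _ => ?_
    rw [← C_mul', ← zero_add (1 : ℤ)]
    exact (isWeightedHomogeneous_C _ _).mul (isWeightedHomogeneous_X k _ j)
  let P := MvPolynomial (Fin n) k
  let B := FixedPoints.subalgebra k (MvPolynomial (Fin n) k) G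
  obtain ⟨hgr, hneg, hf, hirr⟩ := InvTh34.Grading.exists_graded (k := k) (n := n) (G := G) hlin
  letI := hgr
  obtain ⟨m, hm, hplus⟩ := GrMod19.exists_star_plus hneg hf
  have hmI : m.toIdeal = InvTh34.Watanabe.mI (k := k) (n := n) (G := G) := by
    rw [hplus]
    refine le_antisymm (Ideal.span_le.2 fun a ha => ?_) fun a ha => hirr a ha
    obtain ⟨e, he, hae⟩ := Set.mem_iUnion₂.1 ha
    show constantCoeff (a : MvPolynomial (Fin n) k) = 0
    rw [constantCoeff_eq]
    refine (InvTh34.Grading.mem_piece.1 hae).coeff_eq_zero 0 ?_
    rw [map_zero]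
    exact (ne_of_gt (Set.mem_Ioi.1 he)).symm
  have hgor : LocCoh.IsGorensteinLocalRing (Localization.AtPrime (InvTh34.Watanabe.m₁ (k := k) (n := n) B)) :=
    InvTh34.Watanabe.gor_m₁ hG (fun g => (ρ g : Matrix (Fin n) (Fin n) k)) hX hdet
  have key : ∀ (I : Ideal B) [I.IsPrime], I = InvTh34.Watanabe.m₁ (k := k) (n := n) B →
      LocCoh.IsGorensteinLocalRing (Localization.AtPrime I) := by
    rintro I _ rfl
    exact hgor
  haveI hmp : m.toIdeal.IsPrime := by
    rw [hmI]
    exact Ideal.comap_isPrime _ _
  haveI : LocCoh.IsGorensteinRing B := GrMod19.Gor.gorenstein_of_star hm (key _ hmI)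
  let f : A →+* B := (algebraMap A (MvPolynomial (Fin n) k)).codRestrict B fun a g => smul_algebraMap g a
  have hf : Function.Bijective f := by
    refine ⟨fun a a' h => FaithfulSMul.algebraMap_injective A (MvPolynomial (Fin n) k) (congrArg Subtype.val h),
      fun b => ?_⟩
    obtain ⟨a, ha⟩ := Algebra.IsInvariant.isInvariant (A := A) (G := G) (b : MvPolynomial (Fin n) k) b.2
    exact ⟨a, Subtype.ext ha⟩
  exact Gor18.gorRing_of_ringEquiv (RingEquiv.ofBijective f hf).symm

end Groth.Agent.S11148
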