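import Groth.Statements.S11153
import Groth.Agent.CohDer42.BddInj

set_option autoImplicit false
universe w v u
open CategoryTheory CategoryTheory.Limits
open CohDer

namespace Groth.Agent.S11153
open CategoryTheory.Limits

/-- (i) ⇔ (iii): let A be an abelian category with enough injectives and K a bounded below cochain
complex of objects of A. Then K admits a quasi-isomorphism into a bounded complex of injective
objects of A if and only if there is an integer n₀ such that Hom_{D(A)}(Y[0], K[i]) = 0 for every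
object Y of A and every i > n₀. -/
theorem result {A : Type u} [Category.{v} A] [Abelian A]
    [HasDerivedCategory.{w} A] [EnoughInjectives A]
    (K : CochainComplex A ℤ) (a : ℤ) [K.IsStrictlyGE a] :
    (∃ (I : CochainComplex A ℤ) (b c : ℤ) (f : K ⟶ I), I.IsStrictlyGE b ∧ I.IsStrictlyLE c ∧
        (∀ n : ℤ, Injective (I.X n)) ∧ QuasiIso f) ↔
      ∃ n₀ : ℤ, ∀ (Y : A) (i : ℤ), n₀ < i →
        ∀ φ : (DerivedCategory.singleFunctor A 0).obj Y ⟶ (DerivedCategory.Q.obj K)⟦i⟧, φ = 0 := by
  constructor
  · rintro ⟨I, b, c, f, _, _, hI, _⟩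
    have hb : CohDer42.IsBddInj (DerivedCategory.Q.obj K) :=
      ⟨I, b, c, inferInstance, inferInstance, hI, ⟨asIso (DerivedCategory.Q.map f)⟩⟩
    exact ((CohDer42.isBddInj_iff _).1 hb).2
  · intro h
    obtain ⟨I, b, c, _, _, hI, ⟨e⟩⟩ := (CohDer42.isBddInj_iff (DerivedCategory.Q.obj K)).2
      ⟨⟨a, (DerivedCategory.isGE_Q_obj_iff K a).2 inferInstance⟩, h⟩
    have := CochainComplex.isKInjective_of_injective I b
    let eQ := DerivedCategory.quotientCompQhIso A
    obtain ⟨ψ, hψ⟩ := (CochainComplex.IsKInjective.Qh_map_bijective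
      ((HomotopyCategory.quotient A (ComplexShape.up ℤ)).obj K) I).2
      (eQ.hom.app K ≫ e.hom ≫ eQ.inv.app I)
    obtain ⟨f, rfl⟩ := (HomotopyCategory.quotient A (ComplexShape.up ℤ)).map_surjective ψ
    refine ⟨I, b, c, f, inferInstance, inferInstance, hI, ?_⟩
    rw [← DerivedCategory.isIso_Q_map_iff_quasiIso A]
    have hf : DerivedCategory.Q.map f = e.hom := by
      rw [← cancel_epi (eQ.hom.app K)]
      exact (eQ.hom.naturality f).symm.trans
        ((congrArg (· ≫ eQ.hom.app I) hψ).trans (by simp))
    rw [hf]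
    infer_instance

end Groth.Agent.S11153
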