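import Groth.Statements.S11163
import Groth.Agent.QC70.ExtSheafVanish

set_option autoImplicit false
set_option backward.isDefEq.respectTransparency.types false
universe u
open CategoryTheory CategoryTheory.Limits AlgebraicGeometry
attribute [local instance] HasDerivedCategory.standard
open Coherent

namespace Groth.Agent.S11163

/-- (i) ⇔ (iv): let X be a locally Noetherian scheme and F a quasi-coherent O_X-module. Then F is an
injective O_X-module if and only if the sheaf Ext¹_{O_X}(G, F) (the first right derived functor of
the sheaf-Hom functor Hom_{O_X}(G, -), here the right adjoint of G ⊗ -) vanishes for every coherent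
O_X-module G. (The binders asserting that G ⊗ - has a right adjoint, that this adjoint is additive
and that O_X-modules have injective resolutions always hold.) -/
theorem result {X : Scheme.{u}} [IsLocallyNoetherian X]
    [HasInjectiveResolutions X.Modules] (F : X.Modules) (hF : Coh.IsQCoh F) :
    Injective F ↔ ∀ (G : X.Modules) [DCoh.HasSheafHom G] [(DCoh.sheafHom G).Additive],
      Coh.IsCoh G → IsZero (((DCoh.sheafHom G).rightDerived 1).obj F) := by
  haveI : F.IsQuasicoherent := hF
  constructor
  · intro hI G _ _ _
    exact (DCoh.sheafHom G).isZero_rightDerived_obj_injective_succ 0 F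
  · intro h
    haveI : EnoughInjectives X.Modules := inferInstance
    let ι := Injective.ι F
    have hS : (ShortComplex.mk ι (cokernel.π ι) (cokernel.condition ι)).ShortExact :=
      { exact := ShortComplex.exact_cokernel ι }
    refine QC70.injective_of_stalks F (QC70.injective_stalk_of_epi_homMap ι fun C hC => ?_)
    haveI : DCoh.HasSheafHom C := QC70.hasSheafHom_dCoh C
    haveI hlim : PreservesLimitsOfSize.{u, u} (DCoh.sheafHom C) :=
      (DCoh.sheafHomAdj C).rightAdjoint_preservesLimits
    haveI : PreservesLimitsOfSize.{0, 0} (DCoh.sheafHom C) :=
      preservesLimitsOfSize_shrink _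
    haveI : PreservesFiniteLimits (DCoh.sheafHom C) :=
      Limits.PreservesLimitsOfSize0.preservesFiniteLimits _
    haveI : (DCoh.sheafHom C).Additive := (DCoh.sheafHomAdj C).right_adjoint_additive
    haveI := QC70.epi_map_of_isZero_rightDerived_one (DCoh.sheafHom C) hS (h C hC)
    haveI : Epi ((QC70.homFunctor C).map (cokernel.π ι)) := by
      rw [← NatIso.naturality_1 (QC70.sheafHomIso C) (cokernel.π ι)]
      infer_instance
    exact this

end Groth.Agent.S11163
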