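import Groth.Statements.S11164
import Groth.Agent.QC70.CoprodStalk

set_option autoImplicit false
set_option backward.isDefEq.respectTransparency.types false
universe u
open CategoryTheory CategoryTheory.Limits AlgebraicGeometry
attribute [local instance] HasDerivedCategory.standard
open Coherent

namespace Groth.Agent.S11164

/-- Every O_X-module on a scheme X is a quotient of a flat O_X-module; precisely, for every O_X-module F
there are opens U_i of X and an epimorphism ∐ j_{U_i !} O_{U_i} ⟶ F, and such a direct sum of
extensions by zero of structure sheaves of opens is flat (all its stalks are flat over the local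
rings). -/
theorem result {X : Scheme.{u}} (F : X.Modules) :
    ∃ (ι : Type u) (U : ι → X.Opens) (p : (∐ fun i => CxOX.extZeroUnit (U i).ι) ⟶ F),
      Epi p ∧ FlatMod.IsFlat (∐ fun i => CxOX.extZeroUnit (U i).ι) := by
  classical
  let κ := Σ V : X.Opens, Γ(F, V)
  let p : (∐ fun k : κ => CxOX.extZeroUnit k.1.ι) ⟶ F :=
    Sigma.desc fun k => Groth.Agent.QC70.extHom k.1 k.2
  refine ⟨κ, fun k => k.1, p, Preadditive.epi_of_cokernel_zero
    (Scheme.Modules.hom_ext _ _ fun V => ?_), fun x => ?_⟩
  · ext s
    have h : Groth.Agent.QC70.extHom V s ≫ cokernel.π p = 0 := by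
      rw [show Groth.Agent.QC70.extHom V s = Sigma.ι (fun k : κ => CxOX.extZeroUnit k.1.ι) ⟨V, s⟩ ≫ p
        from (Sigma.ι_desc (fun k : κ => Groth.Agent.QC70.extHom k.1 k.2) ⟨V, s⟩).symm, Category.assoc, cokernel.condition, comp_zero]
    have h2 := congr((Scheme.Modules.Hom.app $h V) (Groth.Agent.QC70.extGen V))
    rw [Scheme.Modules.Hom.comp_app, ConcreteCategory.comp_apply,
      Groth.Agent.QC70.extHom_app] at h2
    exact h2
  · haveI : ∀ k : κ, Module.Flat (X.presheaf.stalk x) ((CxOX.extZeroUnit k.1.ι).presheaf.stalk x) :=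
      fun k => Groth.Agent.QC70.flat_stalk_extZeroUnit k.1 x
    exact Module.Flat.of_linearEquiv
      (Groth.Agent.QC70.coprodStalkEquiv (fun k : κ => CxOX.extZeroUnit k.1.ι) x).symm

end Groth.Agent.S11164
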