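import Groth.Statements.S11165
import Groth.Agent.Serre69.RPushVanish
import Groth.Agent.Coh69.AffinePush
import Groth.Agent.QC70.Sections
import Groth.Agent.QCPull72.Sections

set_option autoImplicit false
set_option backward.isDefEq.respectTransparency.types false
universe u
open CategoryTheory CategoryTheory.Limits AlgebraicGeometry
open Coherent

namespace Groth.Agent.S11165

/-- Let f : X ⟶ Y be a separated morphism of schemes, U an open of X on which f restricts to an affine
morphism, i : U ⟶ X the inclusion and F a quasi-coherent O_X-module. Then i_*(F|_U) is acyclic for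
f_*: its higher direct images R^j f_* vanish for j > 0. (The binder asserting injective resolutions
of O_X-modules always holds.) -/
theorem result {X Y : Scheme.{u}} (f : X ⟶ Y) [IsSeparated f]
    (U : X.Opens) [IsAffineHom (U.ι ≫ f)] (F : X.Modules) (hF : Coh.IsQCoh F)
    [HasInjectiveResolutions X.Modules] (j : ℕ) (hj : 0 < j) :
    IsZero ((Coh.Rpush f j).obj ((Scheme.Modules.pushforward U.ι).obj ((Scheme.Modules.restrictFunctor U.ι).obj F))) := by
  obtain ⟨m, rfl⟩ : ∃ m, j = m + 1 := ⟨j - 1, by omega⟩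
  haveI : F.IsQuasicoherent := hF
  haveI : IsAffineHom U.ι := IsAffineHom.of_comp U.ι f
  haveI : ((Scheme.Modules.restrictFunctor U.ι).obj F).IsQuasicoherent :=
    QC70.isQuasicoherent_of_iso ((Scheme.Modules.restrictFunctorIsoPullback U.ι).app F).symm
      (QCPull72.isQuasicoherent_pullback U.ι F)
  let G := (Scheme.Modules.restrictFunctor U.ι).obj F
  let M := (Scheme.Modules.pushforward U.ι).obj G
  have hM : ∀ V : Y.Opens, IsAffineOpen V → Subsingleton (Coh69.HE (Coh.toAb M) (m + 1) (f ⁻¹ᵁ V)) := by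
    intro V hV
    have := Coh69.qcoh_subsingleton_HE G (V := U.ι ⁻¹ᵁ (f ⁻¹ᵁ V)) (hV.preimage (U.ι ≫ f)) m
    obtain ⟨e⟩ := Coh69.leray U.ι.base {W | IsAffineOpen (X := X) W} X.isBasis_affineOpens (Coh.toAb G)
      (fun W (hW : IsAffineOpen (X := X) W) q =>
        Coh69.qcoh_subsingleton_HE G (V := U.ι ⁻¹ᵁ W) (hW.preimage U.ι) q) (m + 1) (f ⁻¹ᵁ V)
    exact e.symm.toEquiv.subsingleton
  let R := injectiveResolution M
  let e₀ : M ≅ (Coh69.flResOfInj R).Z 0 :=
    IsLimit.conePointUniqueUpToIso R.isLimitKernelFork (limit.isLimit _)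
  obtain ⟨e⟩ := Coh69.nonempty_rpush_succ_iso f R m
  refine IsZero.of_iso ?_ e
  haveI : Epi ((Scheme.Modules.pushforward f).map (Coh69.cycπ R m)) := by
    refine QC70.epi_of_locally_surjective _ fun V s y hy => ?_
    obtain ⟨_, ⟨W, hW, rfl⟩, hyW, hWV⟩ := Y.isBasis_affineOpens.exists_subset_of_mem_open hy V.2
    haveI := hM W hW
    haveI : Subsingleton (Coh69.HE (Coh.toAb ((Coh69.flResOfInj R).Z 0)) (m + 1) (f ⁻¹ᵁ W)) :=
      Serre69.subsingleton_ext_of_iso ((SheafOfModules.toSheaf X.ringCatSheaf).mapIso e₀)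
    obtain ⟨t, ht⟩ := ((Coh69.flResOfInj R).secExt_eq_zero_iff (f ⁻¹ᵁ W) _ _).1
      (Subsingleton.elim ((Coh69.flResOfInj R).secExt (f ⁻¹ᵁ W) (m + 1)
        (QC70.res _ (f.preimage_mono hWV) s)) 0)
    exact ⟨W, hWV, t, hyW, ht⟩
  exact isZero_cokernel_of_epi _

end Groth.Agent.S11165
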