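import Groth.Statements.S11169
import Groth.Agent.RB70.NegTwistEpi
import Groth.Agent.QCqs72.Basic
import Groth.Agent.Var76.RegTools
import Groth.Agent.Approx60.Segre

set_option autoImplicit false
set_option backward.isDefEq.respectTransparency.types false
universe u
open CategoryTheory CategoryTheory.Limits AlgebraicGeometry
open Coherent

namespace Groth.Agent.S11169

/-- Let Y be a locally Noetherian scheme, f : P^n_Y ⟶ Y the projection and F a quasi-coherent module on
P^n_Y. Then there are quasi-coherent O_Y-modules G_j, integers m_j > 0 and an epimorphism ∐_j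
f^*(G_j) ⊗ O(-m_j) ⟶ F. -/
theorem result (Y : Scheme.{u}) [IsLocallyNoetherian Y]
    (n : ℕ) (F : (CohB1.ProjSpaceOver n Y).Modules) (hF : Coh.IsQCoh F) :
    ∃ (ι : Type u) (G : ι → Y.Modules) (m : ι → ℕ)
      (p : (∐ fun j => CohB1.tensorMod ((Scheme.Modules.pullback (CohB1.ProjSpaceOver.toBase n Y)).obj (G j))
        (Twist.twistOver n Y (-((m j : ℕ) : ℤ)))) ⟶ F),
      (∀ j, Coh.IsQCoh (G j)) ∧ (∀ j, 0 < m j) ∧ Epi p := by
  have hzero : Nonempty (Twist.twistOver n Y 0 ≅ Coh.structureModule (CohB1.ProjSpaceOver n Y)) := by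
    obtain ⟨z⟩ := Var76.Reg.nonempty_twist_zero (n := n) (A := ULift.{u} ℤ)
    exact ⟨(Scheme.Modules.pullback _).mapIso z ≪≫ PicLoc.pullbackStructureIso _⟩
  have hpow : ∀ N : ℕ, Nonempty (CohB1.tensorPow (Twist.twistOver n Y 1) N ≅ Twist.twistOver n Y (N : ℤ)) := by
    intro N
    induction N with
    | zero => exact hzero.map Iso.symm
    | succ N ih =>
      obtain ⟨i⟩ := ih
      obtain ⟨a⟩ := KRR40.nonempty_twistOver_add (n := n) (T := Y) (N : ℤ) 1
      exact ⟨EGA73.tensIso i (Iso.refl _) ≪≫ a⟩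
  have hz : ∀ a b : ℤ, a + b = 0 → Nonempty (CohB1.tensorMod (Twist.twistOver n Y a) (Twist.twistOver n Y b) ≅
      Coh.structureModule (CohB1.ProjSpaceOver n Y)) := by
    intro a b h
    obtain ⟨i⟩ := KRR40.nonempty_twistOver_add (n := n) (T := Y) a b
    obtain ⟨z⟩ := hzero
    exact ⟨i ≪≫ eqToIso (congrArg (Twist.twistOver n Y) h) ≪≫ z⟩
  let T : ULift.{u} ℕ → (CohB1.ProjSpaceOver n Y).Modules := fun j => Twist.twistOver n Y ((j.down + 1 : ℕ) : ℤ)
  let D : ULift.{u} ℕ → (CohB1.ProjSpaceOver n Y).Modules := fun j => Twist.twistOver n Y (-((j.down + 1 : ℕ) : ℤ))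
  haveI : F.IsQuasicoherent := hF
  haveI := Approx60.Segre.isProper_toBase n Y
  let e : ∀ j, CohB1.tensorMod (T j) (D j) ≅ Coh.structureModule _ := fun j => (hz _ _ (add_neg_cancel _)).some
  have hp := RB70.epi_negTwist (CohB1.ProjSpaceOver.toBase n Y)
    (EGA73.VeryAmplePnAmple.isRelAmple_twistOver n Y) hF T D e (fun j => (hz _ _ (neg_add_cancel _)).some)
    (fun N hN => ⟨⟨N - 1⟩, by
      obtain ⟨i⟩ := hpow N
      exact ⟨i ≪≫ eqToIso (congrArg (fun k : ℕ => Twist.twistOver n Y (k : ℤ)) (show N = N - 1 + 1 by omega))⟩⟩)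
  refine ⟨ULift.{u} ℕ, fun j => (Scheme.Modules.pushforward (CohB1.ProjSpaceOver.toBase n Y)).obj
    (CohB1.tensorMod F (T j)), fun j => j.down + 1, _, fun j => ?_, fun j => Nat.succ_pos _, hp⟩
  haveI : (CohB1.tensorMod F (T j)).IsQuasicoherent :=
    Amp73.isQCoh_tensorMod hF (Mero90.isQCoh_of_isInvertible (KRR40.isInvertible_twistOver (n := n) (T := Y) _))
  exact QCqs72.isQuasicoherent_pushforward (M := CohB1.tensorMod F (T j)) (CohB1.ProjSpaceOver.toBase n Y)

end Groth.Agent.S11169
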