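import Groth.Statements.S11174
import Groth.Agent.InjHull18.Criterion


set_option autoImplicit false
universe u
open CategoryTheory
open InjHull

namespace Groth.Agent.S11174

/-- Fix a Noetherian local ring A, write m for its maximal ideal and k for its residue field, and let I
be an A-module such that (a) every element of I is killed by some power of m, (b) the A-module
Hom_A(k, I) is isomorphic to k, and (c) there is a decreasing sequence of ideals a_1 ⊇ a_2 ⊇ … of A,
cofinal with the powers of m in both directions (each a_n contains a power of m and each power of m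
contains some a_n), with length_A(A/a_n) = length_A(Hom_A(A/a_n, I)) for every n. Then I is an
injective hull of k: some A-linear map k → I is an essential injection into an injective module. -/
theorem result (A : Type u) [CommRing A] [IsLocalRing A] [IsNoetherianRing A] (I : Type u) [AddCommGroup I] [Module A I] (ha : LocCoh.IsPowerTorsion (IsLocalRing.maximalIdeal A) I) (hb : Nonempty ((IsLocalRing.ResidueField A →ₗ[A] I) ≃ₗ[A] IsLocalRing.ResidueField A)) (a : ℕ → Ideal A) (hanti : Antitone a) (hcof : ∀ n : ℕ, ∃ N : ℕ, IsLocalRing.maximalIdeal A ^ N ≤ a n) (hcof' : ∀ N : ℕ, ∃ n : ℕ, a n ≤ IsLocalRing.maximalIdeal A ^ N) (hlen : ∀ n : ℕ, Module.length A (A ⧸ a n) = Module.length A ((A ⧸ a n) →ₗ[A] I)) : ∃ f : IsLocalRing.ResidueField A →ₗ[A] I, InjHull.IsInjectiveHull f := by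
  let m := IsLocalRing.maximalIdeal A
  obtain ⟨F, _, _, φ, hφ⟩ := InjHull18.exists_hull A (A ⧸ m)
  obtain ⟨e⟩ := hb
  let e' : ↥(LocCoh.torsionBy m I) ≃ₗ[A] (A ⧸ m) := (InjHull18.homQuotientEquiv m I).symm.trans e
  obtain ⟨g, hg⟩ := InjHull18.exists_extend hφ.isInjective (Submodule.subtype _)
    (Submodule.subtype_injective _) (φ ∘ₗ e'.toLinearMap)
  have hginj : Function.Injective g := InjHull18.injective_of_socle g ha fun x hx h0 => by
    have h1 : φ (e' ⟨x, hx⟩) = 0 := (LinearMap.congr_fun hg ⟨x, hx⟩).symm.trans h0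
    exact congrArg Subtype.val ((LinearEquiv.map_eq_zero_iff e').1
      (hφ.injective (h1.trans (map_zero φ).symm)))
  have hsurj : Function.Surjective g := by
    intro y
    obtain ⟨N, hN⟩ := InjHull18.isPowerTorsion_hull hφ y
    obtain ⟨n, hn⟩ := hcof' N
    obtain ⟨K, hK⟩ := hcof n
    have hfl : IsFiniteLength A (A ⧸ a n) := (InjHull18.isFiniteLength_quotient_pow K).of_surjective
      (f := Submodule.factor hK) (Submodule.factor_surjective hK)
    have hlen' := InjHull18.length_linearMap (m := m) hφ hfl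
      (InjHull18.isPowerTorsion_of_isFiniteLength hfl)
    have hfl' : IsFiniteLength A ((A ⧸ a n) →ₗ[A] F) :=
      Module.length_ne_top_iff.1 (by rw [hlen']; exact Module.length_ne_top_iff.2 hfl)
    obtain ⟨h1, h2⟩ := isFiniteLength_iff_isNoetherian_isArtinian.1 hfl'
    let Φ : ((A ⧸ a n) →ₗ[A] I) →ₗ[A] ((A ⧸ a n) →ₗ[A] F) := LinearMap.compRight A g
    have hΦ : Function.Injective Φ := fun u v h =>
      LinearMap.ext fun z => hginj (LinearMap.congr_fun h z)
    have htop : LinearMap.range Φ = ⊤ := by
      by_contra hne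
      refine absurd (Submodule.length_lt hne) ?_
      rw [← (LinearEquiv.ofInjective Φ hΦ).length_eq, hlen', hlen n]
      exact lt_irrefl _
    have hy : y ∈ LocCoh.torsionBy (a n) F :=
      (Submodule.mem_torsionBySet_iff _ _).2 fun b => hN b.1 (hn b.2)
    obtain ⟨ψ, hψ⟩ := LinearMap.range_eq_top.1 htop
      ((InjHull18.homQuotientEquiv (a n) F).symm ⟨y, hy⟩)
    refine ⟨ψ (Ideal.Quotient.mk _ 1), ?_⟩
    rw [show g (ψ (Ideal.Quotient.mk _ 1)) = Φ ψ (Ideal.Quotient.mk _ 1) from rfl, hψ,
      InjHull18.homQuotientEquiv_symm_mk, one_smul]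
  exact ⟨_, InjHull18.hull_equiv_comp hφ (LinearEquiv.ofBijective g ⟨hginj, hsurj⟩).symm⟩

end Groth.Agent.S11174
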