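import Groth.Statements.S11191
import Groth.Agent.GMod80.Inv

set_option autoImplicit false
universe u
open CategoryTheory MonoidalCategory CartesianMonoidalCategory MonObj GrpObj AlgebraicGeometry
open scoped TensorProduct
open AGF

namespace Groth.Agent.S11191

/-- Let k be an algebraically closed field, G a linear algebraic group over k (an affine smooth group
scheme over k) and H a closed subgroup of G (a smooth closed subgroup scheme, i : H → G), and let M
be a rational G-module. Then every H-invariant element of M is fixed by the observable hull of H: if
a rational point g of G fixes under right translation every right-H-invariant global function on G,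
then g fixes every H-invariant element of M. (The published statement is for a commutative algebra
with a rational action by automorphisms; the multiplication plays no role and the row is stated for
modules.) -/
theorem result (k : Type u) [Field k] [IsAlgClosed k]
    (G : Over (Spec (CommRingCat.of k))) [GrpObj G] [IsAffine G.left] [Smooth G.hom]
    (H : Over (Spec (CommRingCat.of k))) [GrpObj H] [Smooth H.hom] (i : H ⟶ G) [IsMonHom i]
    [IsClosedImmersion i.left]
    (M : Type u) [AddCommGroup M] [Module k M] (ρ : VecGrp.GMod G M)
    (g : VecGrp.pt k k ⟶ G) (hg : ∀ f : Γ(G.left, ⊤), AGF.IsRTransInv i f → AGF.IsRTransInv g f)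
    (a : M) (ha : a ∈ ρ.fixedUnder i) :
    ρ.ρ k g ((1 : k) ⊗ₜ[k] a) = (1 : k) ⊗ₜ[k] a := by
  open Groth.Agent.GMod80 WithConv in
  exact (by
    have : IsAffine H.left := isAffine_of_isAffineHom i.left
    obtain ⟨A, _, _, ψ, _⟩ := exists_coord G
    obtain ⟨A', _, _, ψ', _⟩ := exists_coord H
    obtain ⟨f, rfl⟩ := (e ψ k).surjective g
    let c := toComod ψ ρ
    rw [rho_pt]
    congr 1
    refine act_eq_self_of_invFn (pull ψ ψ' i) f.ofConv (fun b hb => ?_)
      ((mem_fixedUnder_iff ψ ρ ψ' i a).1 ha)
    exact (isRTransInv_pt_iff_act ψ f b).1 (hg _ ((isRTransInv_iff ψ ψ' i b).2 hb)))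

end Groth.Agent.S11191
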