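import Groth.Statements.S11195
import Groth.Agent.S11190
import Groth.Agent.GMod80.Finite

set_option autoImplicit false
universe u
open CategoryTheory MonoidalCategory CartesianMonoidalCategory MonObj GrpObj AlgebraicGeometry
open scoped TensorProduct
open AGF

namespace Groth.Agent.S11195

/-- Let k be an algebraically closed field, G a linear algebraic group over k, K a closed subgroup of G
and H a closed subgroup of K (j : K → G, i : H → K smooth closed subgroup schemes). When H is
observable in K, and K in G, H is also observable in G. -/
theorem result (k : Type u) [Field k] [IsAlgClosed k]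
    (G : Over (Spec (CommRingCat.of k))) [GrpObj G] [IsAffine G.left] [Smooth G.hom]
    (K : Over (Spec (CommRingCat.of k))) [GrpObj K] [Smooth K.hom] (j : K ⟶ G) [IsMonHom j] [IsClosedImmersion j.left]
    (H : Over (Spec (CommRingCat.of k))) [GrpObj H] [Smooth H.hom] (i : H ⟶ K) [IsMonHom i] [IsClosedImmersion i.left]
    (hH : AGF.IsObservableIn k i) (hK : AGF.IsObservableIn k j) :
    AGF.IsObservableIn k (i ≫ j) := by
  have : IsAffine K.left := isAffine_of_isAffineHom j.left
  have : IsClosedImmersion (i ≫ j).left := by rw [Over.comp_left]; infer_instance
  refine (S11190.result k G H (i ≫ j)).2 fun V _ _ _ σ => ?_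
  exact GMod80.extendsAlong_trans j i σ ((S11190.result k K H i).1 hH V σ) ((S11190.result k G K j).1 hK)

end Groth.Agent.S11195
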