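import Groth.Statements.S11196
import Groth.Agent.GMod80.Solvable

set_option autoImplicit false
universe u
open CategoryTheory MonoidalCategory CartesianMonoidalCategory MonObj GrpObj AlgebraicGeometry
open scoped TensorProduct
open AGF

namespace Groth.Agent.S11196

/-- Let k be an algebraically closed field, G a linear algebraic group over k (an affine smooth group
scheme over k) and H a closed subgroup of G (a smooth closed subgroup scheme, i : H → G), with G
solvable. Then H is observable in G. -/
theorem result (k : Type u) [Field k] [IsAlgClosed k]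
    (G : Over (Spec (CommRingCat.of k))) [GrpObj G] [IsAffine G.left] [Smooth G.hom]
    (H : Over (Spec (CommRingCat.of k))) [GrpObj H] [Smooth H.hom] (i : H ⟶ G) [IsMonHom i]
    [IsClosedImmersion i.left]
    (hs : Red.IsSolvableGrp G) :
    AGF.IsObservableIn k i := by
  have : IsAffine H.left := isAffine_of_isAffineHom i.left
  obtain ⟨A, _, _, ψ, _⟩ := Groth.Agent.GMod80.exists_coord G
  obtain ⟨A', _, _, ψ', _⟩ := Groth.Agent.GMod80.exists_coord H
  have := Groth.Agent.GMod80.finiteType ψ
  have := Groth.Agent.GMod80.isReduced ψ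
  have := Groth.Agent.GMod80.finiteType ψ'
  have := Groth.Agent.GMod80.isReduced ψ'
  obtain ⟨n, hn⟩ := hs
  have : Group.IsSolvable (VecGrp.pt k k ⟶ G) := ⟨⟨n, hn (VecGrp.pt k k)⟩⟩
  have : Group.IsSolvable (WithConv (A →ₐ[k] k)) := solvable_of_solvable_injective
    (f := (Groth.Agent.GMod80.e ψ k).toMonoidHom) (Groth.Agent.GMod80.e ψ k).injective
  exact Groth.Agent.GMod80.isObservableIn_of_occurs ψ ψ' i
    (Groth.Agent.GMod80.pull_surjective ψ ψ' i) fun χ hχ h =>
      ⟨HopfAlgebraStruct.antipode k χ, hχ.antipode_mul_cancel,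
        Groth.Agent.GMod80.occurs_inv_of_solvable _ χ _ hχ.mul_antipode_cancel h⟩

end Groth.Agent.S11196
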