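import Groth.Statements.S11198
import Groth.Agent.GMod80.ProperQuot
import Groth.Agent.GMod80.Epi

set_option autoImplicit false
universe u
open CategoryTheory MonoidalCategory CartesianMonoidalCategory MonObj GrpObj AlgebraicGeometry
open scoped TensorProduct
open AGF

namespace Groth.Agent.S11198

/-- Let k be an algebraically closed field, G a linear algebraic group over k and H₁ ⊆ H₂ ⊆ G closed
subgroups (smooth closed subgroup schemes i₁ : H₁ → H₂, i₂ : H₂ → G), such that the quotient H₂/H₁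
(the scheme X with H₂-action a and base point o) is proper over k and irreducible. Then a global
function on G is invariant under right translation by H₁ if and only if it is invariant under right
translation by H₂. -/
theorem result (k : Type u) [Field k] [IsAlgClosed k]
    (G : Over (Spec (CommRingCat.of k))) [GrpObj G] [IsAffine G.left] [Smooth G.hom]
    (H₂ : Over (Spec (CommRingCat.of k))) [GrpObj H₂] [Smooth H₂.hom] (i₂ : H₂ ⟶ G) [IsMonHom i₂] [IsClosedImmersion i₂.left]
    (H₁ : Over (Spec (CommRingCat.of k))) [GrpObj H₁] [Smooth H₁.hom] (i₁ : H₁ ⟶ H₂) [IsMonHom i₁] [IsClosedImmersion i₁.left]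
    (X : Over (Spec (CommRingCat.of k))) (a : AlgGrp.Action H₂ X) (o : 𝟙_ (Over (Spec (CommRingCat.of k))) ⟶ X) (hX : AGF.IsQuotient i₁ X a o)
    [IsProper X.hom] [IrreducibleSpace X.left] :
    AGF.rTransInv (i₁ ≫ i₂) = AGF.rTransInv i₂ := by
  have : IsAffine H₂.left := isAffine_of_isAffineHom i₂.left
  have : IsAffine H₁.left := isAffine_of_isAffineHom i₁.left
  obtain ⟨A, _, _, ψ, hψ⟩ := GMod80.exists_coord G
  obtain ⟨A₂, _, _, ψ₂, hψ₂⟩ := GMod80.exists_coord H₂
  obtain ⟨A₁, _, _, ψ₁, hψ₁⟩ := GMod80.exists_coord H₁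
  have : Algebra.FiniteType k A := GMod80.finiteType ψ
  have : _root_.IsReduced A := GMod80.isReduced ψ
  have hc := GMod80.pull_comp ψ ψ₂ ψ₁ i₁ i₂
  refine le_antisymm (fun f hf => ?_) (fun f hf => ?_)
  · obtain ⟨a, rfl⟩ := (GMod80.fn ψ).surjective f
    have hf' := (GMod80.isRTransInv_iff ψ ψ₁ (i₁ ≫ i₂) a).1 hf
    rw [hc] at hf'
    refine (GMod80.isRTransInv_iff ψ ψ₂ i₂ a).2 ?_
    refine GMod80.lTensor_comul_eq_of_slices (GMod80.pullBialg ψ ψ₂ i₂) fun g => ?_
    have hinv := GMod80.isInv_slice (GMod80.pullBialg ψ ψ₂ i₂) (GMod80.pull ψ₂ ψ₁ i₁) hf' g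
    obtain ⟨c, hcon⟩ := GMod80.exists_const_of_proper_quotient i₁ _ o hX _
      ((GMod80.isRTransInv_iff ψ₂ ψ₁ i₁ _).2 hinv)
    refine ⟨c, (GMod80.fn ψ₂).injective ?_⟩
    rw [hcon, ← Algebra.algebraMap_eq_smul_one, GMod80.fn_algebraMap]
    rfl
  · show AGF.IsRTransInv (i₁ ≫ i₂) f
    have h1 : AGF.IsRTransInv i₂ f := hf
    unfold AGF.IsRTransInv at h1 ⊢
    rw [MonoidalCategory.whiskerLeft_comp, Category.assoc, Over.comp_left, Scheme.Hom.comp_appTop,
      ConcreteCategory.comp_apply, h1, ← ConcreteCategory.comp_apply, ← Scheme.Hom.comp_appTop, ← Over.comp_left,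
      whiskerLeft_fst]

end Groth.Agent.S11198
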