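import Groth.Statements.S11199
import Groth.Agent.GMod80.Inv

set_option autoImplicit false
universe u
open CategoryTheory MonoidalCategory CartesianMonoidalCategory MonObj GrpObj AlgebraicGeometry
open scoped TensorProduct
open AGF

namespace Groth.Agent.S11199

/-- Let k be an algebraically closed field, G a linear algebraic group over k (an affine smooth group
scheme over k) and H a closed subgroup of G (a smooth closed subgroup scheme, i : H → G). Then there
are finitely many right-H-invariant global functions f₁, ..., fₙ on G which already cut out the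
observable hull of H: a rational point of G whose right translation fixes each fⱼ fixes every
right-H-invariant global function. -/
theorem result (k : Type u) [Field k] [IsAlgClosed k]
    (G : Over (Spec (CommRingCat.of k))) [GrpObj G] [IsAffine G.left] [Smooth G.hom]
    (H : Over (Spec (CommRingCat.of k))) [GrpObj H] [Smooth H.hom] (i : H ⟶ G) [IsMonHom i]
    [IsClosedImmersion i.left] :
    ∃ s : Finset Γ(G.left, ⊤), (∀ f ∈ s, AGF.IsRTransInv i f) ∧
      ∀ g : VecGrp.pt k k ⟶ G, (∀ f ∈ s, AGF.IsRTransInv g f) →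
        ∀ f : Γ(G.left, ⊤), AGF.IsRTransInv i f → AGF.IsRTransInv g f := by
  classical
  have : IsAffine H.left := isAffine_of_isAffineHom i.left
  obtain ⟨A, _, _, ψ, _⟩ := Groth.Agent.GMod80.exists_coord G
  obtain ⟨A', _, _, ψ', _⟩ := Groth.Agent.GMod80.exists_coord H
  have := Groth.Agent.GMod80.finiteType ψ
  obtain ⟨s, hs, hcut⟩ := Groth.Agent.GMod80.exists_finset_cut (Groth.Agent.GMod80.pull ψ ψ' i)
  refine ⟨s.image (Groth.Agent.GMod80.fn ψ), ?_, ?_⟩
  · intro f hf
    obtain ⟨a, ha, rfl⟩ := Finset.mem_image.1 hf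
    exact (Groth.Agent.GMod80.isRTransInv_iff ψ ψ' i a).2 (hs a ha)
  · intro g hg f hf
    obtain ⟨g', rfl⟩ := (Groth.Agent.GMod80.e ψ k).surjective g
    obtain ⟨b, rfl⟩ := (Groth.Agent.GMod80.fn ψ).surjective f
    refine (Groth.Agent.GMod80.isRTransInv_pt_iff_act ψ g' b).2 ?_
    exact hcut g'.ofConv
      (fun a ha => (Groth.Agent.GMod80.isRTransInv_pt_iff_act ψ g' a).1
        (hg _ (Finset.mem_image_of_mem _ ha)))
      b ((Groth.Agent.GMod80.isRTransInv_iff ψ ψ' i b).1 hf)

end Groth.Agent.S11199
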