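import Groth.Statements.S11200
import Groth.Agent.GMod80.ObsChar
import Groth.Agent.GMod80.CharPts

set_option autoImplicit false
universe u
open CategoryTheory MonoidalCategory CartesianMonoidalCategory MonObj GrpObj AlgebraicGeometry
open scoped TensorProduct
open AGF

namespace Groth.Agent.S11200

/-- Let k be an algebraically closed field, G a linear algebraic group over k (an affine smooth group
scheme over k) and H a closed subgroup of G (a smooth closed subgroup scheme, i : H → G). If H has
no non-trivial character (every homomorphism from H to the multiplicative group is trivial), then H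
is observable in G. -/
theorem result (k : Type u) [Field k] [IsAlgClosed k]
    (G : Over (Spec (CommRingCat.of k))) [GrpObj G] [IsAffine G.left] [Smooth G.hom]
    (H : Over (Spec (CommRingCat.of k))) [GrpObj H] [Smooth H.hom] (i : H ⟶ G) [IsMonHom i]
    [IsClosedImmersion i.left]
    (hχ : ∀ (χ : H ⟶ Red.Gm (Spec (CommRingCat.of k))), IsMonHom χ → χ = 1) :
    AGF.IsObservableIn k i := by
  have : IsAffine H.left := isAffine_of_isAffineHom i.left
  obtain ⟨A, _, _, ψ, _⟩ := GMod80.exists_coord G
  obtain ⟨A', _, _, ψ', _⟩ := GMod80.exists_coord H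
  have := GMod80.finiteType ψ
  have := GMod80.isReduced ψ
  have := GMod80.finiteType ψ'
  have := GMod80.isReduced ψ'
  refine GMod80.isObservableIn_of_occurs ψ ψ' i (GMod80.pull_surjective ψ ψ' i) fun c hc hocc => ?_
  obtain ⟨χ, hm, hval⟩ := GMod80.exists_char ψ' c hc.comul_eq_tmul_self hc.counit_eq_one
  have h1 : c = 1 := by
    refine sub_eq_zero.1 (Comod33.Conn.eq_zero_of_forall_point (k := k) fun q => ?_)
    rw [map_sub, sub_eq_zero, map_one, ← hval k q, hχ χ hm, GMod80.chiVal_one]
  exact ⟨1, by rw [h1, _root_.mul_one], h1 ▸ hocc⟩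

end Groth.Agent.S11200
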