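import Groth.Statements.S11207
import Groth.Agent.GMod80.Transfer

set_option autoImplicit false
universe u
open CategoryTheory MonoidalCategory CartesianMonoidalCategory MonObj GrpObj AlgebraicGeometry
open scoped TensorProduct
open AGF

namespace Groth.Agent.S11207

/-- (a) ⇔ (b): let k be an algebraically closed field, G a linear algebraic group over k whose identity
component is reductive, and H a closed subgroup of G. Assume that invariants of reductive groups
over k on finitely generated algebras are finitely generated (a standard result, carried as a
hypothesis). Then k[G]^H is finitely generated over the constants if and only if, for every finitely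
generated commutative k-algebra A with a rational action of G by algebra automorphisms, the algebra
of H-invariants A^H is finitely generated over k. -/
theorem result (k : Type u) [Field k] [IsAlgClosed k]
    (G : Over (Spec (CommRingCat.of k))) [GrpObj G] [IsAffine G.left] [Smooth G.hom]
    (H : Over (Spec (CommRingCat.of k))) [GrpObj H] [Smooth H.hom] (i : H ⟶ G) [IsMonHom i]
    [IsClosedImmersion i.left]
    (hG : VecGrp.IsReductiveGrp k G) (thmA : VecGrp.ReductiveInvariantsFG k) :
    AGF.SubringFGOver k G (AGF.rTransInv i) ↔
      ∀ (A : Type u) [CommRing A] [Algebra k A] [Algebra.FiniteType k A] (ρ : VecGrp.GMod G A) (hρ : ρ.IsMult),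
        Algebra.FiniteType k ↥(ρ.fixedSubalgebra hρ i) := by
  have : IsAffine H.left := isAffine_of_isAffineHom i.left
  obtain ⟨A₀, _, _, ψ, _⟩ := Groth.Agent.GMod80.exists_coord G
  obtain ⟨A', _, _, ψ', _⟩ := Groth.Agent.GMod80.exists_coord H
  have := Groth.Agent.GMod80.finiteType ψ
  have := Groth.Agent.GMod80.isReduced ψ
  exact ⟨fun h A _ _ _ ρ hρ => Groth.Agent.GMod80.finiteType_fixed ψ ψ' i hG thmA h A ρ hρ,
    fun h => Groth.Agent.GMod80.subringFG_of_transfer ψ ψ' i h⟩

end Groth.Agent.S11207
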