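import Groth.Statements.S11216
import Groth.Agent.GMod80.Open

set_option autoImplicit false
universe u
open CategoryTheory MonoidalCategory CartesianMonoidalCategory MonObj GrpObj AlgebraicGeometry
open scoped TensorProduct
open AGF

namespace Groth.Agent.S11216

/-- (b) ⇒ (i): let k be an algebraically closed field, G a linear algebraic group over k (an affine
smooth group scheme over k) and H a closed subgroup of G (a smooth closed subgroup scheme, i : H →
G), with H observable in G and k[G]^H finitely generated over the constants; let X = Spec k[G]^H and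
φ : G → X the morphism given by the inclusion k[G]^H ⊆ k[G]. Then the image of φ (the orbit of the
base point) is open in X and every point of X outside the image has codimension at least 2 (its
prime ideal has height ≥ 2). (The published statement also asserts that G/H maps isomorphically onto
the image, and that finite generation is equivalent to an orbit-closure condition in a
representation; neither is stated here.) -/
theorem result (k : Type u) [Field k] [IsAlgClosed k]
    (G : Over (Spec (CommRingCat.of k))) [GrpObj G] [IsAffine G.left] [Smooth G.hom]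
    (H : Over (Spec (CommRingCat.of k))) [GrpObj H] [Smooth H.hom] (i : H ⟶ G) [IsMonHom i]
    [IsClosedImmersion i.left]
    (hobs : AGF.IsObservableIn k i) (hfg : AGF.SubringFGOver k G (AGF.rTransInv i)) :
    IsOpen (Set.range ⇑(G.left.toSpecΓ ≫ Spec.map (CommRingCat.ofHom (AGF.rTransInv i).subtype)).base) ∧
      ∀ x : ↥(Spec (CommRingCat.of ↥(AGF.rTransInv i))),
        x ∉ Set.range ⇑(G.left.toSpecΓ ≫ Spec.map (CommRingCat.ofHom (AGF.rTransInv i).subtype)).base →
          (2 : ℕ∞) ≤ x.asIdeal.height := by
  classical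
  have : IsAffine H.left := isAffine_of_isAffineHom i.left
  obtain ⟨A, _, _, ψ, _⟩ := Groth.Agent.GMod80.exists_coord G
  obtain ⟨A', _, _, ψ', _⟩ := Groth.Agent.GMod80.exists_coord H
  have := Groth.Agent.GMod80.finiteType ψ
  have := Groth.Agent.GMod80.isReduced ψ
  have := Groth.Agent.GMod80.finiteType ψ'
  have := Groth.Agent.GMod80.isReduced ψ'
  have := Groth.Agent.GMod80.finiteType_invFns ψ ψ' i hfg
  let R := Groth.Agent.GMod80.invFns ψ ψ' i
  let f := Groth.Agent.GMod80.fn ψ
  have hmem : ∀ a : A, a ∈ R ↔ f a ∈ AGF.rTransInv i := fun a =>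
    (Groth.Agent.GMod80.mem_invFns ψ ψ' i a).trans
      (Groth.Agent.GMod80.isRTransInv_iff ψ ψ' i a).symm
  let e₀ : ↥(AGF.rTransInv i) ≃+* ↥R :=
    { toFun := fun x => ⟨f.symm x.1, (hmem _).2 (by rw [f.apply_symm_apply]; exact x.2)⟩
      invFun := fun x => ⟨f x.1, (hmem _).1 x.2⟩
      left_inv := fun x => Subtype.ext (f.apply_symm_apply x.1)
      right_inv := fun x => Subtype.ext (f.symm_apply_apply x.1)
      map_mul' := fun x y => Subtype.ext (map_mul f.symm x.1 y.1)
      map_add' := fun x y => Subtype.ext (map_add f.symm x.1 y.1) }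
  have hst : ∀ (g : WithConv (A →ₐ[k] k)) (r : ↥R),
      Groth.Agent.GMod80.ltr g (R.val r) ∈ R.val.range := fun g r =>
    ⟨⟨_, Groth.Agent.GMod80.ltr_mem_invFns ψ ψ' i g r.2⟩, rfl⟩
  have hdiv : ∀ (t s : ↥R) (F : A), R.val s ∈ nonZeroDivisors A → R.val s * F = R.val t →
      F ∈ R.val.range := by
    intro t s F hs hF
    refine ⟨⟨F, ?_⟩, rfl⟩
    let T : A →ₐ[k] TensorProduct k A A' := (Algebra.TensorProduct.map (AlgHom.id k A)
      (Groth.Agent.GMod80.pull ψ ψ' i)).comp (Bialgebra.comulAlgHom k A)
    let incl : A →ₐ[k] TensorProduct k A A' := Algebra.TensorProduct.includeLeft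
    have h1 := congrArg T hF
    have h2 : T (R.val s) = incl (R.val s) := s.2
    have h3 : T (R.val t) = incl (R.val t) := t.2
    rw [map_mul, h2, h3, ← hF, map_mul] at h1
    have hinj : Function.Injective (LinearMap.rTensor A' (LinearMap.mulLeft k (R.val s))) :=
      Module.Flat.rTensor_preserves_injective_linearMap _ fun x y hxy => by
        refine sub_eq_zero.1 ((mem_nonZeroDivisors_iff_right.1 hs) (x - y) ?_)
        rw [LinearMap.mulLeft_apply, LinearMap.mulLeft_apply] at hxy
        rw [sub_mul, mul_comm x, mul_comm y, hxy, sub_self]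
    have hmul : ∀ z : TensorProduct k A A',
        LinearMap.rTensor A' (LinearMap.mulLeft k (R.val s)) z = incl (R.val s) * z := by
      intro z
      induction z using TensorProduct.induction_on with
      | zero => simp
      | add p q hp hq => simp only [map_add, mul_add, hp, hq]
      | tmul p q => simp [incl]
    exact hinj (by rw [hmul, hmul]; exact h1)
  have hbij := PrimeSpectrum.comapEquiv e₀
  have hrange : Set.range ⇑(G.left.toSpecΓ ≫
      Spec.map (CommRingCat.ofHom (AGF.rTransInv i).subtype)).base =
      PrimeSpectrum.comap e₀.toRingHom '' Set.range (PrimeSpectrum.comap R.val.toRingHom) := by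
    rw [← Set.range_comp]
    have h1 : Function.Surjective G.left.toSpecΓ.base :=
      G.left.toSpecΓ.homeomorph.surjective
    rw [Scheme.Hom.comp_base, TopCat.coe_comp, h1.range_comp]
    ext P
    constructor
    · rintro ⟨q, rfl⟩
      refine ⟨PrimeSpectrum.comap f.toRingHom q, ?_⟩
      refine PrimeSpectrum.ext (Ideal.ext fun r => ?_)
      change f (f.symm r.1) ∈ q.asIdeal ↔ r.1 ∈ q.asIdeal
      rw [f.apply_symm_apply]
    · rintro ⟨q, rfl⟩
      refine ⟨PrimeSpectrum.comap f.symm.toRingHom q, ?_⟩
      exact PrimeSpectrum.ext (Ideal.ext fun r => Iff.rfl)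
  refine ⟨?_, fun x hx => ?_⟩
  · rw [hrange]
    exact (PrimeSpectrum.homeomorphOfRingEquiv e₀.symm).isOpenMap _
      (Groth.Agent.GMod80.Open.isOpen_range R.val Subtype.val_injective hst)
  · let y : PrimeSpectrum ↥R := PrimeSpectrum.comap e₀.symm.toRingHom x
    have hxy : PrimeSpectrum.comap e₀.toRingHom y = x := by
      refine PrimeSpectrum.ext (Ideal.ext fun r => ?_)
      change e₀.symm (e₀ r) ∈ x.asIdeal ↔ r ∈ x.asIdeal
      rw [e₀.symm_apply_apply]
    have h := Groth.Agent.GMod80.Open.two_le_height R.val Subtype.val_injective hst hdiv y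
      fun hy => hx (by rw [hrange, ← hxy]; exact ⟨y, hy, rfl⟩)
    calc (2 : ℕ∞) ≤ y.asIdeal.height := h
      _ = x.asIdeal.height := RingEquiv.height_comap e₀.symm x.asIdeal

end Groth.Agent.S11216
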