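import Groth.Statements.S11217
import Mathlib.Algebra.MvPolynomial.PDeriv

set_option autoImplicit false
universe u
open CategoryTheory MonoidalCategory CartesianMonoidalCategory MonObj GrpObj AlgebraicGeometry
open scoped TensorProduct
open AGF

namespace Groth.Agent.S11217

/-- Let k be a field of characteristic zero and m ≥ 2; in the polynomial ring k[x, y, z, s, t, u, v]
(variables 0, …, 6) let δ be the k-derivation with δ(x) = δ(y) = δ(z) = 0, δ(s) = x^(m+1), δ(t) =
y^(m+1), δ(u) = z^(m+1), δ(v) = (xyz)^m, and grade by total degree in s, t, u, v. If f is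
homogeneous of degree n ≥ 1 for this grading and δ(f) = 0, then every coefficient of f, as a
polynomial in s, t, u, v over k[x, y, z], lies in the ideal (x, y, z): every monomial of f has
positive degree in x, y, z. (The published statement allows n = 0, where the constant 1 is a
counterexample; this row assumes n ≥ 1. The published definition of the derivation gives δ(v) =
(xyz)^(m+1), for which the assertion fails: v − (yz)^(m+1)·s is killed by δ and has the monomial v
with coefficient 1; this row uses δ(v) = (xyz)^m, the exponent of the published action formula and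
of the published examples of invariants.) -/
theorem result (k : Type u) [Field k] [CharZero k] (m : ℕ) (hm : 2 ≤ m) (n : ℕ) (hn : 1 ≤ n)
    (f : MvPolynomial (Fin 7) k)
    (hf : MvPolynomial.IsWeightedHomogeneous (![0, 0, 0, 1, 1, 1, 1] : Fin 7 → ℕ) f n)
    (hδ : MvPolynomial.mkDerivation k
      (![0, 0, 0, MvPolynomial.X 0 ^ (m + 1), MvPolynomial.X 1 ^ (m + 1), MvPolynomial.X 2 ^ (m + 1),
        (MvPolynomial.X 0 * MvPolynomial.X 1 * MvPolynomial.X 2) ^ m] : Fin 7 → MvPolynomial (Fin 7) k) f = 0) :
    ∀ d ∈ f.support, 0 < d 0 + d 1 + d 2 := by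
  classical
  intro d hd
  by_contra hpos
  have hd0 : d 0 = 0 := by omega
  have hd1 : d 1 = 0 := by omega
  have hd2 : d 2 = 0 := by omega
  rw [MvPolynomial.mem_support_iff] at hd
  set g : Fin 7 → MvPolynomial (Fin 7) k := ![0, 0, 0, MvPolynomial.X 0 ^ (m + 1),
    MvPolynomial.X 1 ^ (m + 1), MvPolynomial.X 2 ^ (m + 1),
    (MvPolynomial.X 0 * MvPolynomial.X 1 * MvPolynomial.X 2) ^ m] with hg
  have hD : MvPolynomial.mkDerivation k g f = ∑ i, g i * MvPolynomial.pderiv i f := by
    have : MvPolynomial.mkDerivation k g = ∑ i, g i • MvPolynomial.pderiv i := by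
      refine MvPolynomial.derivation_ext fun j => ?_
      rw [MvPolynomial.mkDerivation_X, ← Derivation.coeFnAddMonoidHom_apply, map_sum,
        Finset.sum_apply]
      simp [MvPolynomial.pderiv_X, Pi.single_apply]
    rw [this, ← Derivation.coeFnAddMonoidHom_apply, map_sum, Finset.sum_apply]
    simp [smul_eq_mul]
  let e : Fin 7 → (Fin 7 →₀ ℕ) := ![0, 0, 0, Finsupp.single 0 (m + 1), Finsupp.single 1 (m + 1),
    Finsupp.single 2 (m + 1), Finsupp.single 0 m + Finsupp.single 1 m + Finsupp.single 2 m]
  have hge : ∀ i : Fin 7, 3 ≤ (i : ℕ) → g i = MvPolynomial.monomial (e i) 1 := by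
    intro i hi
    obtain rfl | rfl | rfl | rfl : i = 3 ∨ i = 4 ∨ i = 5 ∨ i = 6 := by omega
    all_goals simp [hg, e, MvPolynomial.X_pow_eq_monomial, mul_pow, MvPolynomial.monomial_mul]
  have hsmall : ∀ i : Fin 7, (i : ℕ) < 3 → g i = 0 := by
    intro i hi
    obtain rfl | rfl | rfl : i = 0 ∨ i = 1 ∨ i = 2 := by omega
    all_goals simp [hg]
  -- the obstruction monomial attached to a variable occurring in `d`
  have key : ∀ i : Fin 7, 3 ≤ (i : ℕ) → d i ≠ 0 →
      (∀ j : Fin 7, 3 ≤ (j : ℕ) → j ≠ i → ¬ e j ≤ (d - Finsupp.single i 1) + e i) → False := by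
    intro i hi hdi hsep
    have h0 := congr(MvPolynomial.coeff ((d - Finsupp.single i 1) + e i) $(hD.symm.trans hδ))
    rw [MvPolynomial.coeff_zero, MvPolynomial.coeff_sum, Finset.sum_eq_single i] at h0
    · rw [hge i hi, MvPolynomial.coeff_monomial_mul', if_pos (le_add_self), add_tsub_cancel_right,
        _root_.one_mul, MvPolynomial.coeff_pderiv,
        tsub_add_cancel_of_le (Finsupp.single_le_iff.mpr (Nat.one_le_iff_ne_zero.mpr hdi))] at h0
      rcases mul_eq_zero.mp h0 with h | h
      · exact hd h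
      · norm_cast at h
    · intro j _ hji
      rcases Nat.lt_or_ge (j : ℕ) 3 with hj | hj
      · rw [hsmall j hj, MulZeroClass.zero_mul, MvPolynomial.coeff_zero]
      · rw [hge j hj, MvPolynomial.coeff_monomial_mul', if_neg (hsep j hj hji)]
    · intro h; exact absurd (Finset.mem_univ i) h
  have hw := hf hd
  obtain ⟨i, hi, hdi⟩ : ∃ i : Fin 7, 3 ≤ (i : ℕ) ∧ d i ≠ 0 := by
    by_contra! h
    have : d = 0 := by
      ext j
      rcases Nat.lt_or_ge (j : ℕ) 3 with hj | hj
      · obtain rfl | rfl | rfl : j = 0 ∨ j = 1 ∨ j = 2 := by omega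
        all_goals simpa
      · simpa using h j hj
    subst this
    simp at hw
    omega
  refine key i hi hdi fun j hj hji hle => ?_
  have h0 := hle 0
  have h1 := hle 1
  have h2 := hle 2
  obtain rfl | rfl | rfl | rfl : i = 3 ∨ i = 4 ∨ i = 5 ∨ i = 6 := by omega
  all_goals obtain rfl | rfl | rfl | rfl : j = 3 ∨ j = 4 ∨ j = 5 ∨ j = 6 := by omega
  all_goals first
    | exact absurd rfl hji
    | (simp [e, Finsupp.add_apply, Finsupp.tsub_apply, Finsupp.single_apply, hd0, hd1, hd2] at h0 h1 h2 <;> omega)

end Groth.Agent.S11217
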