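import Groth.Statements.S11218
import Groth.Agent.AGF80.OrbitClosure
import Groth.Agent.AlgGrp79.Cover

set_option autoImplicit false
universe u
open CategoryTheory MonoidalCategory CartesianMonoidalCategory MonObj GrpObj AlgebraicGeometry
open scoped TensorProduct
open AGF

namespace Groth.Agent.S11218

/-- Let k be an algebraically closed field, G a linear algebraic group over k (an affine smooth group
scheme over k) and H a closed subgroup of G (a smooth closed subgroup scheme, i : H → G), such that
the quotient G/H (the scheme Y with action b and base point o′) is proper over k (complete). Let G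
act on a variety X over k (separated, of finite type) and let x be a rational point of X; let Z ⊆ X
be the closure of the H-orbit of x. Then the closure of the G-orbit of x is G·Z, the image under the
action map of the preimage of Z in G × X. (The published statement takes X affine; the argument does
not use this, and this row drops it.) -/
theorem result (k : Type u) [Field k] [IsAlgClosed k]
    (G : Over (Spec (CommRingCat.of k))) [GrpObj G] [IsAffine G.left] [Smooth G.hom]
    (H : Over (Spec (CommRingCat.of k))) [GrpObj H] [Smooth H.hom] (i : H ⟶ G) [IsMonHom i]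
    [IsClosedImmersion i.left]
    (Y : Over (Spec (CommRingCat.of k))) (b : AlgGrp.Action G Y) (o' : 𝟙_ (Over (Spec (CommRingCat.of k))) ⟶ Y) (hY : AGF.IsQuotient i Y b o')
    [IsProper Y.hom]
    (X : Over (Spec (CommRingCat.of k))) [IsSeparated X.hom] [LocallyOfFiniteType X.hom] [QuasiCompact X.hom]
    (a : AlgGrp.Action G X) (x : 𝟙_ (Over (Spec (CommRingCat.of k))) ⟶ X) :
    closure (Set.range ⇑(a.orbitMap x).left.base) =
      ⇑a.act.left.base '' (⇑(snd G X).left.base ⁻¹' closure (Set.range ⇑(i ≫ a.orbitMap x).left.base)) := by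
  obtain ⟨hlft, hflat, hsurj, hpb⟩ := hY
  have := hflat
  have := hsurj
  have := AlgGrp79.lfp_left (b.orbitMap o')
  have : UniversallyOpen H.hom := inferInstance
  have : UniversallyOpen G.hom := inferInstance
  have : UniversallyOpen (snd H X).left :=
    MorphismProperty.pullback_snd (P := @UniversallyOpen) H.hom X.hom inferInstance
  have : UniversallyOpen (snd G X).left :=
    MorphismProperty.pullback_snd (P := @UniversallyOpen) G.hom X.hom inferInstance
  have : UniversallyClosed (snd Y X).left :=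
    MorphismProperty.pullback_snd (P := @UniversallyClosed) Y.hom X.hom inferInstance
  set O := Set.range ⇑(i ≫ a.orbitMap x).left.base with hO
  set OG := Set.range ⇑(a.orbitMap x).left.base with hOG
  have hOsub : O ⊆ OG := Set.range_subset_iff.2 fun z => ⟨i.left.base z, rfl⟩
  refine subset_antisymm ?_ ?_
  swap
  · refine subset_trans ?_ (AGF80.OrbitClosure.image_closure_subset (snd G X).left a.act.left
      (AGF80.OrbitClosure.act_orbit_subset a x))
    exact Set.image_mono (Set.preimage_mono (closure_mono hOsub))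
  -- the saturated closed set
  let Φ : G ⊗ X ⟶ G ⊗ X := lift (fst G X) a.act
  let w : G ⊗ X ⟶ X := lift (fst G X)⁻¹ (snd G X) ≫ a.act
  set C := ⇑w.left.base ⁻¹' closure O with hC
  have himg : ⇑a.act.left.base '' (⇑(snd G X).left.base ⁻¹' closure O) = ⇑(snd G X).left.base '' C := by
    have h1 : Φ ≫ w = snd G X := by
      show Φ ≫ lift (fst G X)⁻¹ (snd G X) ≫ a.act = _
      rw [AlgGrp79.comp_lift_act, GrpObj.comp_inv, lift_fst, lift_snd]
      simpa using AlgGrp79.inv_act_act a (fst G X) (snd G X)
    have h2 : lift (fst G X) w ≫ a.act = snd G X := by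
      show lift (fst G X) (lift (fst G X)⁻¹ (snd G X) ≫ a.act) ≫ a.act = _
      rw [← AlgGrp79.mul_act', mul_inv_cancel, AlgGrp79.one_act']
    apply subset_antisymm
    · rintro _ ⟨p, hp, rfl⟩
      refine ⟨Φ.left.base p, ?_, ?_⟩
      · show (Φ ≫ w).left.base p ∈ closure O
        rw [h1]; exact hp
      · rw [← AGF80.OrbitClosure.comp_base, lift_snd]
    · rintro _ ⟨p, hp, rfl⟩
      refine ⟨(lift (fst G X) w).left.base p, ?_, ?_⟩
      · show (lift (fst G X) w ≫ snd G X).left.base p ∈ closure O
        rw [lift_snd]; exact hp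
      · rw [← AGF80.OrbitClosure.comp_base, h2]
  rw [himg]
  -- saturation
  let q : G ⊗ X ⟶ Y ⊗ X := b.orbitMap o' ▷ X
  have hsat : ∀ p p' : (G ⊗ X).left, q.left.base p = q.left.base p' → p ∈ C → p' ∈ C := by
    intro p p' hpp hp
    obtain ⟨T, u, v, t, huv, rfl, rfl⟩ := AGF80.OrbitClosure.exists_common q q p p' hpp
    have hfst : (u ≫ fst G X) ≫ b.orbitMap o' = (v ≫ fst G X) ≫ b.orbitMap o' := by
      simpa [q] using congrArg (· ≫ fst Y X) huv
    have hsnd : u ≫ snd G X = v ≫ snd G X := by simpa [q] using congrArg (· ≫ snd Y X) huv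
    let n : T ⟶ H := hpb.lift _ _ hfst ≫ snd G H
    have hv : v ≫ fst G X = (u ≫ fst G X) * (n ≫ i) := by
      have e2 := hpb.lift_snd _ _ hfst
      refine e2.symm.trans ((congrArg (hpb.lift _ _ hfst ≫ ·) (AGF80.Orbit.whiskerLeft_comp_mul i)).trans ?_)
      rw [MonObj.comp_mul, hpb.lift_fst]
      simp [n]
    have hw : v ≫ w = lift n⁻¹ (u ≫ w) ≫ ((i ▷ X) ≫ a.act) := by
      have e3 : lift n⁻¹ (u ≫ w) ≫ (i ▷ X) = lift ((n ≫ i)⁻¹) (u ≫ w) := by
        rw [lift_whiskerRight, GrpObj.inv_comp]
      show v ≫ lift (fst G X)⁻¹ (snd G X) ≫ a.act = lift n⁻¹ (u ≫ w) ≫ (i ▷ X) ≫ a.act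
      rw [reassoc_of% e3, AlgGrp79.comp_lift_act, AlgGrp79.comp_lift_act, GrpObj.comp_inv, GrpObj.comp_inv,
        hv, _root_.mul_inv_rev, AlgGrp79.mul_act', hsnd]
    show (v ≫ w).left.base t ∈ closure O
    rw [hw]
    refine AGF80.OrbitClosure.image_closure_subset (snd H X).left ((i ▷ X) ≫ a.act).left
      (AGF80.OrbitClosure.act_orbit_sub_subset a i x) ⟨(lift n⁻¹ (u ≫ w)).left.base t, ?_, rfl⟩
    show (lift n⁻¹ (u ≫ w) ≫ snd H X).left.base t ∈ closure O
    rw [lift_snd]; exact hp
  have hqcov : AlgGrp79.IsCov q := (AlgGrp79.isCov_of_flat_surjective (b.orbitMap o')).whiskerRight X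
  obtain ⟨hq1, hq2, hq3⟩ := hqcov
  have hclosed : IsClosed (⇑(snd G X).left.base '' C) := by
    have hqC : IsClosed (⇑q.left.base '' C) := by
      have e : ⇑q.left.base '' C = (⇑q.left.base '' Cᶜ)ᶜ := by
        ext z
        obtain ⟨p, rfl⟩ := q.left.surjective z
        constructor
        · rintro ⟨p', hp', he⟩ ⟨p'', hp'', he'⟩
          exact hp'' (hsat p' p'' (he.trans he'.symm) hp')
        · intro hz
          exact ⟨p, not_not.1 fun hp => hz ⟨p, hp, rfl⟩, rfl⟩
      rw [e]
      exact (q.left.isOpenMap _ (isClosed_closure.preimage w.left.continuous).isOpen_compl).isClosed_compl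
    have e : (snd G X).left.base = (q ≫ snd Y X).left.base := by rw [whiskerRight_snd]
    rw [show ⇑(snd G X).left.base '' C = ⇑(snd Y X).left.base '' (⇑q.left.base '' C) by
      rw [e, ← Set.image_comp]; rfl]
    exact (snd Y X).left.isClosedMap _ hqC
  refine closure_minimal ?_ hclosed
  rw [← himg]
  rintro _ ⟨g, rfl⟩
  refine ⟨(lift (𝟙 G) (toUnit G ≫ x)).left.base g, ?_, rfl⟩
  refine subset_closure ?_
  show (lift (𝟙 G) (toUnit G ≫ x) ≫ snd G X).left.base g ∈ O
  rw [lift_snd]
  refine ⟨η[H].left.base ((toUnit G).left.base g), ?_⟩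
  rw [← AGF80.OrbitClosure.comp_base, ← Category.assoc η[H], IsMonHom.one_hom, AGF80.Orbit.comp_orbitMap]
  have e4 : lift (η[G] : 𝟙_ (Over (Spec (CommRingCat.of k))) ⟶ G) (toUnit _ ≫ x) ≫ a.act = x := by
    simpa [Hom.one_def, toUnit_unit] using AlgGrp79.one_act' a (T := 𝟙_ _) x
  rw [e4]
  rfl

end Groth.Agent.S11218
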