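import Groth.Statements.S11219
import Groth.Agent.GMod80.Fractions

set_option autoImplicit false
universe u
open CategoryTheory MonoidalCategory CartesianMonoidalCategory MonObj GrpObj AlgebraicGeometry
open scoped TensorProduct
open AGF

namespace Groth.Agent.S11219

/-- Let k be an algebraically closed field, G a linear algebraic group over k (an affine smooth group
scheme over k) and H a closed subgroup of G (a smooth closed subgroup scheme, i : H → G), with G
connected. Then H is observable in G if and only if every right-H-invariant rational function on G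
is a quotient of two right-H-invariant global functions: whenever global functions a, b with b ≠ 0
satisfy a(xh)·b(x) = a(x)·b(xh) on G × H, there are right-H-invariant global functions a′, b′ with
b′ ≠ 0 and a·b′ = a′·b. (The published condition concerns the identity component of G and its
intersection with H; for connected G it reads as stated.) -/
theorem result (k : Type u) [Field k] [IsAlgClosed k]
    (G : Over (Spec (CommRingCat.of k))) [GrpObj G] [IsAffine G.left] [Smooth G.hom]
    (H : Over (Spec (CommRingCat.of k))) [GrpObj H] [Smooth H.hom] (i : H ⟶ G) [IsMonHom i]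
    [IsClosedImmersion i.left] [ConnectedSpace G.left] :
    AGF.IsObservableIn k i ↔
      ∀ a b : Γ(G.left, ⊤), b ≠ 0 →
        ((G ◁ i) ≫ μ[G]).left.appTop a * (fst G H).left.appTop b = (fst G H).left.appTop a * ((G ◁ i) ≫ μ[G]).left.appTop b →
        ∃ a' b' : Γ(G.left, ⊤), AGF.IsRTransInv i a' ∧ AGF.IsRTransInv i b' ∧ b' ≠ 0 ∧ a * b' = a' * b := by
  have : IsAffine H.left := isAffine_of_isAffineHom i.left
  obtain ⟨A, _, _, ψ, _⟩ := Groth.Agent.GMod80.exists_coord G
  obtain ⟨A', _, _, ψ', _⟩ := Groth.Agent.GMod80.exists_coord H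
  have := Groth.Agent.GMod80.finiteType ψ
  have := Groth.Agent.GMod80.isReduced ψ
  have := Groth.Agent.GMod80.finiteType ψ'
  have := Groth.Agent.GMod80.isReduced ψ'
  have hs := Groth.Agent.GMod80.pull_surjective ψ ψ' i
  have : IsDomain A := Groth.Agent.Comod33.Units.isDomain k (Groth.Agent.GMod80.connected ψ)
  constructor
  · intro hobs a b hb hab
    obtain ⟨a, rfl⟩ := (Groth.Agent.GMod80.fn ψ).surjective a
    obtain ⟨b, rfl⟩ := (Groth.Agent.GMod80.fn ψ).surjective b
    obtain ⟨a', b', ha', hb', hb'0, h⟩ := Groth.Agent.GMod80.exists_fractions_of_observable ψ ψ' i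
      hobs a b (fun h0 => hb (by rw [h0, map_zero]))
      ((Groth.Agent.GMod80.ratio_iff ψ ψ' i a b).1 hab)
    exact ⟨Groth.Agent.GMod80.fn ψ a', Groth.Agent.GMod80.fn ψ b',
      (Groth.Agent.GMod80.isRTransInv_iff ψ ψ' i a').2 ha',
      (Groth.Agent.GMod80.isRTransInv_iff ψ ψ' i b').2 hb',
      fun h0 => hb'0 ((map_eq_zero_iff _ (Groth.Agent.GMod80.fn ψ).injective).1 h0),
      by rw [← map_mul, h, map_mul]⟩
  · intro hyp
    refine Groth.Agent.GMod80.isObservableIn_of_fractions ψ ψ' i hs fun a b hb hab => ?_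
    obtain ⟨a', b', ha', hb', hb'0, h⟩ := hyp (Groth.Agent.GMod80.fn ψ a) (Groth.Agent.GMod80.fn ψ b)
      (fun h0 => hb ((map_eq_zero_iff _ (Groth.Agent.GMod80.fn ψ).injective).1 h0))
      ((Groth.Agent.GMod80.ratio_iff ψ ψ' i a b).2 hab)
    obtain ⟨a', rfl⟩ := (Groth.Agent.GMod80.fn ψ).surjective a'
    obtain ⟨b', rfl⟩ := (Groth.Agent.GMod80.fn ψ).surjective b'
    exact ⟨a', b', (Groth.Agent.GMod80.isRTransInv_iff ψ ψ' i a').1 ha',
      (Groth.Agent.GMod80.isRTransInv_iff ψ ψ' i b').1 hb',
      fun h0 => hb'0 (by rw [h0, map_zero]),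
      (Groth.Agent.GMod80.fn ψ).injective (by rw [map_mul, map_mul]; exact h)⟩

end Groth.Agent.S11219
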