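import Groth.Statements.S11220
import Groth.Agent.GMod80.ObsChar

set_option autoImplicit false
universe u
open CategoryTheory MonoidalCategory CartesianMonoidalCategory MonObj GrpObj AlgebraicGeometry
open scoped TensorProduct
open AGF

namespace Groth.Agent.S11220

/-- Let k be an algebraically closed field, G a linear algebraic group over k (an affine smooth group
scheme over k) and H a closed subgroup of G (a smooth closed subgroup scheme, i : H → G). Then H is
observable in G if and only if, for every character χ of H which occurs on a nonzero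
H-semi-invariant vector of some finite-dimensional rational G-module (h·v = χ(h)v), the inverse
character χ⁻¹ also occurs on a nonzero H-semi-invariant vector of some finite-dimensional rational
G-module (every one-dimensional H-module found inside a finite-dimensional G-module has its dual
inside one too). -/
theorem result (k : Type u) [Field k] [IsAlgClosed k]
    (G : Over (Spec (CommRingCat.of k))) [GrpObj G] [IsAffine G.left] [Smooth G.hom]
    (H : Over (Spec (CommRingCat.of k))) [GrpObj H] [Smooth H.hom] (i : H ⟶ G) [IsMonHom i]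
    [IsClosedImmersion i.left] :
    AGF.IsObservableIn k i ↔
      ∀ (χ : H ⟶ Red.Gm (Spec (CommRingCat.of k))), IsMonHom χ →
        (∃ (V : Type u) (_ : AddCommGroup V) (_ : Module k V) (_ : Module.Finite k V) (ρ : VecGrp.GMod G V) (v : V), v ≠ 0 ∧
          ∀ (B : Type u) [CommRing B] [Algebra k B] (h : VecGrp.pt k B ⟶ H),
            ρ.ρ B (h ≫ i) ((1 : B) ⊗ₜ[k] v) = VecGrp.chiVal χ h • ((1 : B) ⊗ₜ[k] v)) →
        (∃ (V : Type u) (_ : AddCommGroup V) (_ : Module k V) (_ : Module.Finite k V) (ρ : VecGrp.GMod G V) (v : V), v ≠ 0 ∧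
          ∀ (B : Type u) [CommRing B] [Algebra k B] (h : VecGrp.pt k B ⟶ H),
            ρ.ρ B (h ≫ i) ((1 : B) ⊗ₜ[k] v) = VecGrp.chiVal χ⁻¹ h • ((1 : B) ⊗ₜ[k] v)) := by
  have : IsAffine H.left := isAffine_of_isAffineHom i.left
  obtain ⟨A, _, _, ψ, _⟩ := Groth.Agent.GMod80.exists_coord G
  obtain ⟨A', _, _, ψ', _⟩ := Groth.Agent.GMod80.exists_coord H
  have := Groth.Agent.GMod80.finiteType ψ
  have := Groth.Agent.GMod80.isReduced ψ
  have := Groth.Agent.GMod80.finiteType ψ'
  have := Groth.Agent.GMod80.isReduced ψ'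
  have hs := Groth.Agent.GMod80.pull_surjective ψ ψ' i
  have toOcc : ∀ χ : H ⟶ Red.Gm (Spec (CommRingCat.of k)),
      (∃ (V : Type u) (_ : AddCommGroup V) (_ : Module k V) (_ : Module.Finite k V)
        (ρ : VecGrp.GMod G V) (v : V), v ≠ 0 ∧
          ∀ (B : Type u) [CommRing B] [Algebra k B] (h : VecGrp.pt k B ⟶ H),
            ρ.ρ B (h ≫ i) ((1 : B) ⊗ₜ[k] v) = VecGrp.chiVal χ h • ((1 : B) ⊗ₜ[k] v)) →
      Groth.Agent.GMod80.Extend.Occurs (Groth.Agent.GMod80.pullBialg ψ ψ' i)
        (Groth.Agent.GMod80.charFn ψ' χ) := by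
    rintro χ ⟨V, _, _, _, ρ, v, hv, heq⟩
    refine ⟨V, inferInstance, inferInstance, Groth.Agent.GMod80.toComod ψ ρ, inferInstance, v, hv, ?_⟩
    rw [Groth.Agent.GMod80.pullBialg_toAlgHom]
    exact (Groth.Agent.GMod80.semiInv_iff ψ ψ' i ρ χ v).1 heq
  have ofOcc : ∀ χ : H ⟶ Red.Gm (Spec (CommRingCat.of k)),
      Groth.Agent.GMod80.Extend.Occurs (Groth.Agent.GMod80.pullBialg ψ ψ' i)
        (Groth.Agent.GMod80.charFn ψ' χ) →
      (∃ (V : Type u) (_ : AddCommGroup V) (_ : Module k V) (_ : Module.Finite k V)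
        (ρ : VecGrp.GMod G V) (v : V), v ≠ 0 ∧
          ∀ (B : Type u) [CommRing B] [Algebra k B] (h : VecGrp.pt k B ⟶ H),
            ρ.ρ B (h ≫ i) ((1 : B) ⊗ₜ[k] v) = VecGrp.chiVal χ h • ((1 : B) ⊗ₜ[k] v)) := by
    rintro χ ⟨V, _, _, c, _, v, hv, heq⟩
    refine ⟨V, inferInstance, inferInstance, inferInstance, Groth.Agent.GMod80.ofComod ψ c, v, hv, ?_⟩
    refine (Groth.Agent.GMod80.semiInv_iff ψ ψ' i _ χ v).2 ?_
    rw [Groth.Agent.GMod80.coactOf_ofComod, ← Groth.Agent.GMod80.pullBialg_toAlgHom]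
    exact heq
  constructor
  · intro hobs χ _ h
    exact ofOcc _ (Groth.Agent.GMod80.occurs_inv_of_observable ψ ψ' i hobs _ _
      (Groth.Agent.GMod80.charFn_mul_charFn_inv ψ' χ) (toOcc χ h))
  · intro hyp
    refine Groth.Agent.GMod80.isObservableIn_of_occurs ψ ψ' i hs fun c hc hoc => ?_
    obtain ⟨χ, hm, hval⟩ := Groth.Agent.GMod80.exists_char ψ' c hc.comul_eq_tmul_self hc.counit_eq_one
    have hcχ : Groth.Agent.GMod80.charFn ψ' χ = c :=
      (Groth.Agent.GMod80.chiVal_e ψ' χ A' (WithConv.toConv (AlgHom.id k A'))).symm.trans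
        (hval A' (WithConv.toConv (AlgHom.id k A')))
    refine ⟨Groth.Agent.GMod80.charFn ψ' χ⁻¹, ?_, toOcc _ (hyp χ hm (ofOcc χ (hcχ ▸ hoc)))⟩
    rw [← hcχ, mul_comm]
    exact Groth.Agent.GMod80.charFn_mul_charFn_inv ψ' χ

end Groth.Agent.S11220
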