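import Groth.Statements.S11221
import Mathlib.RingTheory.Ideal.AssociatedPrime.Finiteness
import Mathlib.RingTheory.Ideal.AssociatedPrime.Localization
import Mathlib.RingTheory.Ideal.KrullsHeightTheorem

set_option autoImplicit false
universe u
open CategoryTheory MonoidalCategory CartesianMonoidalCategory MonObj GrpObj AlgebraicGeometry
open scoped TensorProduct
open AGF

namespace Groth.Agent.S11221

/-- Let R be a Noetherian integrally closed domain with fraction field K and let p be a prime ideal of R
of height one. Then there is f ∈ K which is not in R but lies in the local ring R_q ⊆ K of every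
height-one prime q ≠ p (f = a/b with b ∉ q): a rational function on Spec R with a pole along V(p)
only. (The published statement is for the coordinate ring of a normal affine variety; this row is
for any Noetherian integrally closed domain, which is all the argument uses.) -/
theorem result (R : Type u) [CommRing R] [IsDomain R] [IsNoetherianRing R] [IsIntegrallyClosed R]
    (p : Ideal R) [p.IsPrime] (hp : p.height = 1) :
    ∃ f : FractionRing R, f ∉ Set.range ⇑(algebraMap R (FractionRing R)) ∧
      ∀ q : Ideal R, q.IsPrime → q.height = 1 → q ≠ p →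
        ∃ a b : R, b ∉ q ∧ f * algebraMap R (FractionRing R) b = algebraMap R (FractionRing R) a := by
  obtain ⟨b, hbp, hb0⟩ : ∃ b ∈ p, b ≠ 0 := by
    refine Submodule.exists_mem_ne_zero_of_ne_bot ?_
    rintro rfl
    rw [Ideal.height_bot] at hp
    exact zero_ne_one hp
  have hmin : p ∈ (Ideal.span {b}).minimalPrimes := by
    refine ⟨⟨inferInstance, by simpa using hbp⟩, fun q ⟨hq, hbq⟩ hqp => ?_⟩
    by_contra hne
    have hlt : q < p := lt_of_le_not_ge hqp hne
    have : (q.height : ℕ∞) < p.height := Ideal.height_strict_mono_of_isPrime hlt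
    rw [hp, ENat.lt_one_iff_eq_zero, Ideal.height_eq_zero_iff_eq_bot] at this
    subst this
    exact hb0 (by simpa using hbq)
  have hass : IsAssociatedPrime p (R ⧸ Ideal.span {b}) :=
    Module.associatedPrimes.minimalPrimes_annihilator_subset_associatedPrimes R _
      (by rwa [Ideal.annihilator_quotient])
  obtain ⟨-, x, hx⟩ := isAssociatedPrime_iff.mp hass
  obtain ⟨a, rfl⟩ := Ideal.Quotient.mk_surjective x
  have hmem : ∀ r : R, r ∈ p ↔ b ∣ r * a := by
    intro r
    rw [hx, Submodule.mem_colon_singleton, Submodule.mem_bot, Algebra.smul_def,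
      Ideal.Quotient.algebraMap_eq, ← map_mul, Ideal.Quotient.eq_zero_iff_mem,
      Ideal.mem_span_singleton]
  have hbK : algebraMap R (FractionRing R) b ≠ 0 :=
    (map_ne_zero_iff _ (IsFractionRing.injective R (FractionRing R))).mpr hb0
  refine ⟨algebraMap R _ a / algebraMap R _ b, ?_, fun q hq hq1 hqp => ?_⟩
  · rintro ⟨r, hr⟩
    rw [eq_div_iff hbK, ← map_mul] at hr
    have hr' := IsFractionRing.injective R (FractionRing R) hr
    exact (inferInstance : p.IsPrime).ne_top
      ((Ideal.eq_top_iff_one p).mpr ((hmem 1).mpr ⟨r, by rw [_root_.one_mul, ← hr', mul_comm]⟩))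
  · obtain ⟨c, hcp, hcq⟩ : ∃ c ∈ p, c ∉ q := by
      by_contra! h
      refine hqp (le_antisymm ?_ h)
      by_contra hne
      have : (p.height : ℕ∞) < q.height := Ideal.height_strict_mono_of_isPrime (lt_of_le_not_ge h hne)
      rw [hp, hq1] at this
      exact lt_irrefl _ this
    obtain ⟨d, hd⟩ := (hmem c).mp hcp
    refine ⟨d, c, hcq, ?_⟩
    rw [div_mul_eq_mul_div, div_eq_iff hbK, ← map_mul, ← map_mul, mul_comm a, hd, mul_comm]

end Groth.Agent.S11221
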