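import Groth.Statements.S11223
import Mathlib
import Groth.Agent.CAlg6.KaehlerSimple
import Groth.Agent.EGA4Alg4.IntegralDim
import Groth.Agent.FBase64.TensorField

set_option autoImplicit false
universe u
open CAlg
open Groth.Agent
open Polynomial TensorProduct

namespace Groth.Agent.S11223

/-- Let k be a field, let z_1, ..., z_m be homogeneous polynomials of positive degree in the polynomial
ring k[x_1, ..., x_n], and suppose the radical of the ideal (z_1, ..., z_m) is the ideal (x_1, ...,
x_n) generated by the variables. Then the polynomial ring is integral over the subalgebra generated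
by z_1, ..., z_m. (The published statement is over an algebraically closed field; this row takes any
field, which its proof allows.) -/
theorem result (k : Type u) [Field k] (n m : ℕ)
    (z : Fin m → MvPolynomial (Fin n) k) (d : Fin m → ℕ) (hd : ∀ i, 0 < d i)
    (hz : ∀ i, (z i).IsHomogeneous (d i))
    (hrad : (Ideal.span (Set.range z)).radical =
      Ideal.span (Set.range (MvPolynomial.X : Fin n → MvPolynomial (Fin n) k))) :
    Algebra.IsIntegral (Algebra.adjoin k (Set.range z)) (MvPolynomial (Fin n) k) := by
  classical
  have hN : ∀ i : Fin n, ∃ N, MvPolynomial.X i ^ N ∈ Ideal.span (Set.range z) := fun i => by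
    have : (MvPolynomial.X i : MvPolynomial (Fin n) k) ∈ (Ideal.span (Set.range z)).radical :=
      hrad ▸ Ideal.subset_span ⟨i, rfl⟩
    exact this
  choose N hN using hN
  let T : Finset (Fin n →₀ ℕ) := (Finset.Iic (Finsupp.equivFunOnFinite.symm N))
  let M : Submodule (Algebra.adjoin k (Set.range z)) (MvPolynomial (Fin n) k) :=
    Submodule.span _ ((fun v => MvPolynomial.monomial v (1 : k)) '' (T : Set (Fin n →₀ ℕ)))
  have hsc : ∀ (c : k) (f : MvPolynomial (Fin n) k), f ∈ M → MvPolynomial.C c * f ∈ M := by
    intro c f hf
    have h := M.smul_mem (algebraMap k (Algebra.adjoin k (Set.range z)) c) hf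
    exact h
  have key : ∀ e : ℕ, ∀ f : MvPolynomial (Fin n) k, f.IsHomogeneous e → f ∈ M := by
    intro e
    induction e using Nat.strong_induction_on with
    | _ e ih =>
      intro f hf
      rw [f.as_sum]
      refine Submodule.sum_mem _ fun v hv => ?_
      by_cases hvT : v ∈ T
      · rw [← mul_one (MvPolynomial.coeff v f), ← MvPolynomial.C_mul_monomial]
        exact hsc _ _ (Submodule.subset_span ⟨v, hvT, rfl⟩)
      · obtain ⟨i, hi⟩ : ∃ i, N i < v i := by
          by_contra! hc
          exact hvT (Finset.mem_Iic.2 fun i => by simpa using hc i)
        have hdeg : (MvPolynomial.monomial v (MvPolynomial.coeff v f)).IsHomogeneous e :=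
          MvPolynomial.isHomogeneous_monomial _ (by
            have := hf (MvPolynomial.mem_support_iff.1 hv)
            rw [Finsupp.degree_eq_weight_one]
            exact this)
        have hmem : MvPolynomial.monomial v (MvPolynomial.coeff v f) ∈ Ideal.span (Set.range z) := by
          have hle : Finsupp.single i (N i) ≤ v := Finsupp.single_le_iff.2 hi.le
          have : MvPolynomial.monomial v (MvPolynomial.coeff v f) =
              MvPolynomial.X i ^ N i * MvPolynomial.monomial (v - Finsupp.single i (N i)) (MvPolynomial.coeff v f) := by
            rw [MvPolynomial.X_pow_eq_monomial, MvPolynomial.monomial_mul, one_mul, add_tsub_cancel_of_le hle]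
          rw [this]
          exact Ideal.mul_mem_right _ _ (hN i)
        obtain ⟨g, hg⟩ := (Submodule.mem_span_range_iff_exists_fun _).1 hmem
        have hhc := congrArg (MvPolynomial.homogeneousComponent e) hg
        rw [map_sum, MvPolynomial.homogeneousComponent_of_mem (hdeg), if_pos rfl] at hhc
        rw [← hhc]
        refine Submodule.sum_mem _ fun j _ => ?_
        have hj : MvPolynomial.homogeneousComponent e (g j • z j) =
            if d j ≤ e then MvPolynomial.homogeneousComponent (e - d j) (g j) * z j else 0 := by
          conv_lhs => rw [smul_eq_mul, ← MvPolynomial.sum_homogeneousComponent (g j), Finset.sum_mul, map_sum]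
          have : ∀ a, MvPolynomial.homogeneousComponent e (MvPolynomial.homogeneousComponent a (g j) * z j) =
              if a + d j = e then MvPolynomial.homogeneousComponent a (g j) * z j else 0 := fun a => by
            rw [MvPolynomial.homogeneousComponent_of_mem
              ((MvPolynomial.homogeneousComponent_isHomogeneous a (g j)).mul (hz j))]
            by_cases ha : a + d j = e
            · rw [if_pos ha, if_pos ha.symm]
            · rw [if_neg ha, if_neg (Ne.symm ha)]
          rw [Finset.sum_congr rfl fun a _ => this a]
          by_cases hde : d j ≤ e
          · rw [if_pos hde]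
            rw [Finset.sum_eq_single (e - d j)]
            · rw [if_pos (by omega)]
            · intro a _ ha
              rw [if_neg (by omega)]
            · intro ha
              rw [if_pos (by omega), MvPolynomial.homogeneousComponent_eq_zero _ _ (by
                simp only [Finset.mem_range] at ha; omega), zero_mul]
          · rw [if_neg hde]
            exact Finset.sum_eq_zero fun a _ => if_neg (by omega)
        rw [hj]
        split
        next hde =>
          have hm := ih (e - d j) (by have := hd j; omega) _
            (MvPolynomial.homogeneousComponent_isHomogeneous _ (g j))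
          have := M.smul_mem ⟨z j, Algebra.subset_adjoin ⟨j, rfl⟩⟩ hm
          rwa [mul_comm]
        next => exact M.zero_mem
  have htop : M = ⊤ := by
    rw [eq_top_iff]
    intro f _
    rw [← MvPolynomial.sum_homogeneousComponent f]
    exact Submodule.sum_mem _ fun e _ => key e _ (MvPolynomial.homogeneousComponent_isHomogeneous e f)
  have : Module.Finite (Algebra.adjoin k (Set.range z)) (MvPolynomial (Fin n) k) :=
    ⟨htop ▸ Submodule.fg_span ((Finset.finite_toSet T).image _)⟩
  exact Algebra.IsIntegral.of_finite _ _

end Groth.Agent.S11223
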