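import Groth.Statements.S11229
import Groth.Agent.GMod80.Unipotent

set_option autoImplicit false
universe u
open CategoryTheory MonoidalCategory CartesianMonoidalCategory MonObj GrpObj AlgebraicGeometry
open scoped TensorProduct
open AGF

namespace Groth.Agent.S11229

/-- Let k an algebraically closed field, G a connected reductive linear algebraic group over k, B a
Borel subgroup of G with unipotent radical U (a maximal unipotent subgroup), and let A be a
commutative k-algebra with a rational action of G by algebra automorphisms. Then A has a nonzero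
nilpotent element if and only if A^U does; equivalently A is reduced if and only if A^U is reduced. -/
theorem result (k : Type u) [Field k] [IsAlgClosed k]
    (G : Over (Spec (CommRingCat.of k))) [GrpObj G] (hG : Red.IsReductiveOver k G)
    (Bo : Over (Spec (CommRingCat.of k))) [GrpObj Bo] (iB : Bo ⟶ G) (hB : Red.IsBorelOver k iB)
    (U : Over (Spec (CommRingCat.of k))) [GrpObj U] (u : U ⟶ Bo) (hU : Par.IsUnipotentRadical u)
    (A : Type u) [CommRing A] [Algebra k A] (ρ : VecGrp.GMod G A) (hρ : ρ.IsMult) :
    IsReduced A ↔ IsReduced ↥(ρ.fixedSubalgebra hρ (u ≫ iB)) := by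
  obtain ⟨hAff, hSm, hConn, -⟩ := hG
  obtain ⟨_, hBcl, -⟩ := hB
  obtain ⟨_, hUcl, -⟩ := id hU
  have : IsClosedImmersion (u ≫ iB).left := by rw [Over.comp_left]; infer_instance
  have : IsAffine U.left := isAffine_of_isAffineHom (u ≫ iB).left
  obtain ⟨A₀, _, _, ψ, _⟩ := Groth.Agent.GMod80.exists_coord G
  obtain ⟨A₁, _, _, ψU, _⟩ := Groth.Agent.GMod80.exists_coord U
  have := Groth.Agent.GMod80.finiteType ψ
  have := Groth.Agent.GMod80.isReduced ψ
  have hUu := Groth.Agent.GMod80.isUnipotent_of_isUnipotentRadical ψU u hU
  exact Groth.Agent.GMod80.isReduced_iff_fixed ψ ρ hρ ψU (u ≫ iB) hUu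

end Groth.Agent.S11229
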