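import Groth.Statements.S11233
import Mathlib
import Groth.Agent.CAlg6.KaehlerSimple
import Groth.Agent.EGA4Alg4.IntegralDim
import Groth.Agent.FBase64.TensorField

set_option autoImplicit false
universe u
open CAlg
open Groth.Agent
open Polynomial TensorProduct

namespace Groth.Agent.S11233

/-- Let k be an algebraically closed field, A an integral domain which is a k-algebra, T an m by m
matrix over A with invertible determinant, and let the additive group k^m act on the polynomial ring
A[y_1, ..., y_m] by the A-algebra maps y_s ↦ y_s + Σ_r h_r T_rs. Then the only invariant polynomials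
are the constants: a polynomial fixed by all these substitutions lies in A. -/
theorem result (k : Type u) [Field k] [IsAlgClosed k]
    (A : Type u) [CommRing A] [IsDomain A] [Algebra k A] (m : ℕ) (T : Matrix (Fin m) (Fin m) A)
    (hT : IsUnit T.det) (f : MvPolynomial (Fin m) A)
    (hf : ∀ h : Fin m → k, MvPolynomial.aeval
      (fun s : Fin m => MvPolynomial.X s + MvPolynomial.C (∑ r : Fin m, algebraMap k A (h r) * T r s)) f = f) :
    ∃ a : A, f = MvPolynomial.C a := by
  classical
  let L : Fin m → MvPolynomial (Fin m) A :=
    fun s => ∑ r, MvPolynomial.X r * MvPolynomial.C (T r s)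
  let F := MvPolynomial.aeval (R := A) L f
  let a := MvPolynomial.eval (0 : Fin m → A) f
  refine ⟨a, ?_⟩
  have hcomp : ∀ (g : Fin m → MvPolynomial (Fin m) A) (x : Fin m → A) (p : MvPolynomial (Fin m) A),
      MvPolynomial.eval x (MvPolynomial.aeval g p) = MvPolynomial.eval (fun s => MvPolynomial.eval x (g s)) p := by
    intro g x p
    induction p using MvPolynomial.induction_on with
    | C c => simp
    | add p q hp hq => simp only [map_add, hp, hq]
    | mul_X p s hp => simp only [map_mul, MvPolynomial.aeval_X, MvPolynomial.eval_X, hp]
  have hF : F = MvPolynomial.C a := by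
    refine MvPolynomial.funext_set (fun _ => Set.range (algebraMap k A))
      (fun _ => Set.infinite_range_of_injective (algebraMap k A).injective) fun x hx => ?_
    choose h hh using fun i => hx i (Set.mem_univ i)
    obtain rfl : (fun i => algebraMap k A (h i)) = x := funext hh
    have := congrArg (MvPolynomial.eval (0 : Fin m → A)) (hf h)
    rw [hcomp] at this
    simp only [F, a, MvPolynomial.eval_C, hcomp]
    refine (Eq.trans ?_ this)
    congr 2
    funext s
    simp [L, map_sum]
  have hinv : ∀ s, MvPolynomial.aeval (R := A) (fun r => ∑ q, MvPolynomial.X q * MvPolynomial.C (T⁻¹ q r)) (L s) =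
      MvPolynomial.X s := by
    intro s
    simp only [L, map_sum, map_mul, MvPolynomial.aeval_X, MvPolynomial.aeval_C, MvPolynomial.algebraMap_eq,
      Finset.sum_mul]
    rw [Finset.sum_comm]
    simp only [mul_assoc, ← map_mul, ← Finset.mul_sum, ← map_sum]
    have : ∀ q, (∑ r, T⁻¹ q r * T r s) = (1 : Matrix (Fin m) (Fin m) A) q s := fun q => by
      rw [← Matrix.nonsing_inv_mul T hT, Matrix.mul_apply]
    simp only [this]
    rw [Finset.sum_eq_single s (fun q _ hq => by rw [Matrix.one_apply_ne hq, map_zero, mul_zero])
      (fun h => absurd (Finset.mem_univ s) h), Matrix.one_apply_eq, map_one, mul_one]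
  have h2 := congrArg (MvPolynomial.aeval (R := A) (fun r => ∑ q, MvPolynomial.X q * MvPolynomial.C (T⁻¹ q r))) hF
  simp only [F] at h2
  rw [← AlgHom.comp_apply, MvPolynomial.comp_aeval, funext hinv, MvPolynomial.aeval_X_left_apply,
    MvPolynomial.aeval_C, MvPolynomial.algebraMap_eq] at h2
  exact h2

end Groth.Agent.S11233
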