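import Groth.Statements.S11235
import Mathlib
import Groth.Agent.CAlg6.KaehlerSimple
import Groth.Agent.EGA4Alg4.IntegralDim
import Groth.Agent.FBase64.TensorField

set_option autoImplicit false
universe u
open CAlg
open Groth.Agent
open Polynomial TensorProduct

namespace Groth.Agent.S11235

/-- Let k be an algebraically closed field, A a commutative k-algebra, α ∈ k, and M a maximal ideal of
the polynomial ring A[x] containing x - α. Let I ⊆ M be an ideal whose zero set in Spec A[x] is
invariant under the automorphisms x ↦ c·x, c ∈ k nonzero (equivalently: the image of I under each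
such A-algebra automorphism has the same radical as I). Then there is a maximal ideal of A[x]
containing I and x. -/
theorem result (k : Type u) [Field k] [IsAlgClosed k]
    (A : Type u) [CommRing A] [Algebra k A] (α : k)
    (M : Ideal (Polynomial A)) (hM : M.IsMaximal)
    (hα : Polynomial.X - Polynomial.C (algebraMap k A α) ∈ M)
    (I : Ideal (Polynomial A)) (hIM : I ≤ M)
    (hI : ∀ c : kˣ, (I.map (Polynomial.aeval (R := A)
      (algebraMap k A (c : k) • (Polynomial.X : Polynomial A)))).radical = I.radical) :
    ∃ N : Ideal (Polynomial A), N.IsMaximal ∧ I ≤ N ∧ Polynomial.X ∈ N := by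
  by_cases hα0 : α = 0
  · exact ⟨M, hM, hIM, by simpa [hα0] using hα⟩
  suffices I ⊔ Ideal.span {(Polynomial.X : Polynomial A)} ≠ ⊤ by
    obtain ⟨N, hN, hle⟩ := Ideal.exists_le_maximal _ this
    exact ⟨N, hN, le_sup_left.trans hle, hle (Submodule.mem_sup_right (Ideal.mem_span_singleton_self _))⟩
  intro htop
  obtain ⟨f, hf, g, hg, hfg⟩ := Submodule.mem_sup.1 ((Ideal.eq_top_iff_one _).1 htop)
  obtain ⟨g, rfl⟩ := Ideal.mem_span_singleton.1 hg
  let : Field (Polynomial A ⧸ M) := Ideal.Quotient.field M
  let π : A →+* Polynomial A ⧸ M := (Ideal.Quotient.mk M).comp Polynomial.C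
  let ι : k →+* Polynomial A ⧸ M := π.comp (algebraMap k A)
  have hX : Ideal.Quotient.mk M Polynomial.X = ι α := Ideal.Quotient.eq.2 hα
  have hev : ∀ p : Polynomial A, Ideal.Quotient.mk M p = p.eval₂ π (ι α) := fun p => by
    conv_lhs => rw [← Polynomial.eval₂_C_X (p := p), Polynomial.hom_eval₂, hX]
  have hroots : ∀ c : k, c ≠ 0 → (f.map π).IsRoot (ι c) := by
    intro c hc
    have hcα : c / α ≠ 0 := div_ne_zero hc hα0
    have hmem : Polynomial.aeval (R := A) (algebraMap k A (c / α) • (Polynomial.X : Polynomial A)) f ∈ M := by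
      have h1 : Polynomial.aeval (R := A) (algebraMap k A (c / α) • (Polynomial.X : Polynomial A)) f ∈
          (I.map (Polynomial.aeval (R := A) (algebraMap k A (c / α) • (Polynomial.X : Polynomial A)))).radical :=
        Ideal.le_radical (Ideal.mem_map_of_mem _ hf)
      have := hI (Units.mk0 _ hcα)
      rw [Units.val_mk0] at this
      rw [this] at h1
      exact (Ideal.IsPrime.radical_le_iff hM.isPrime).2 hIM h1
    rw [← Ideal.Quotient.eq_zero_iff_mem, Polynomial.aeval_def, Polynomial.hom_eval₂,
      Polynomial.smul_eq_C_mul, map_mul, hX] at hmem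
    rw [Polynomial.IsRoot, Polynomial.eval_map]
    rw [show Ideal.Quotient.mk M (Polynomial.C (algebraMap k A (c / α))) = ι (c / α) from rfl, ← map_mul,
      div_mul_cancel₀ _ hα0] at hmem
    exact hmem
  have h0 : f.map π = 0 := by
    refine Polynomial.eq_zero_of_infinite_isRoot _ (Set.Infinite.mono ?_
      (Set.Infinite.image ι.injective.injOn (Set.Finite.infinite_compl (Set.finite_singleton (0 : k)))))
    rintro _ ⟨c, hc, rfl⟩
    exact hroots c hc
  have h1 := congrArg (fun p : Polynomial A => (p.map π).eval 0) hfg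
  simp [h0] at h1

end Groth.Agent.S11235
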