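import Groth.Statements.S11238
import Mathlib.FieldTheory.RatFunc.Luroth
import Mathlib.Algebra.MvPolynomial.Funext
import Mathlib.RingTheory.Polynomial.UniqueFactorization
import Mathlib.RingTheory.IntegralClosure.IntegrallyClosed
import Mathlib.RingTheory.LocalRing.MaximalIdeal.Basic

set_option autoImplicit false
set_option linter.style.haveILetI false
universe u
open AGF

namespace Groth.Agent.S11238

/-- Over an algebraically closed field k, a unirational variety of dimension one is rational. Field
form: let K be a finitely generated field extension of k of transcendence degree one (K is algebraic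
over k(x) for some x ∈ K transcendental over k) admitting a k-embedding into a purely transcendental
extension k(t_1, ..., t_n). Then K = k(t) for some t ∈ K transcendental over k. -/
theorem result (k : Type u) [Field k] [IsAlgClosed k]
    (K : Type u) [Field K] [Algebra k K] (hfg : (⊤ : IntermediateField k K).FG)
    (x : K) (hx : Transcendental k x) (halg : Algebra.IsAlgebraic ↥(IntermediateField.adjoin k {x}) K)
    (n : ℕ) (φ : K →ₐ[k] FractionRing (MvPolynomial (Fin n) k)) :
    ∃ t : K, Transcendental k t ∧ IntermediateField.adjoin k {t} = ⊤ := by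
  classical
  obtain ⟨P, Q, hQ, hPQ⟩ := IsFractionRing.div_surjective (MvPolynomial (Fin n) k) (φ x)
  have hQ0 : Q ≠ 0 := nonZeroDivisors.ne_zero hQ
  have hQF : algebraMap _ (FractionRing (MvPolynomial (Fin n) k)) Q ≠ 0 :=
    IsFractionRing.to_map_ne_zero_of_mem_nonZeroDivisors hQ
  obtain ⟨a, ha⟩ : ∃ a : Fin n → k, MvPolynomial.eval a Q ≠ 0 := by
    by_contra h
    push Not at h
    exact hQ0 (MvPolynomial.funext fun v => by rw [h v, map_zero])
  obtain ⟨c, hc⟩ : ∃ c : Fin n → k,
      (MvPolynomial.eval a Q * MvPolynomial.eval c P -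
        MvPolynomial.eval a P * MvPolynomial.eval c Q) * MvPolynomial.eval c Q ≠ 0 := by
    by_contra h
    push Not at h
    have h0 : (MvPolynomial.C (MvPolynomial.eval a Q) * P -
        MvPolynomial.C (MvPolynomial.eval a P) * Q) * Q = 0 :=
      MvPolynomial.funext fun v => by simpa using h v
    have h1 := sub_eq_zero.1 ((mul_eq_zero.1 h0).resolve_right hQ0)
    have hxc : φ x = algebraMap k _ (MvPolynomial.eval a P / MvPolynomial.eval a Q) := by
      rw [← hPQ, div_eq_iff hQF, IsScalarTower.algebraMap_apply k (MvPolynomial (Fin n) k),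
        ← map_mul]
      congr 1
      rw [MvPolynomial.algebraMap_eq]
      apply mul_left_cancel₀ (MvPolynomial.C_ne_zero.2 ha)
      rw [h1, ← mul_assoc, ← map_mul, mul_div_cancel₀ _ ha]
    refine hx ?_
    rw [← φ.commutes] at hxc
    rw [φ.injective hxc]
    exact isAlgebraic_algebraMap _
  let line : Fin n → RatFunc k := fun i => RatFunc.C (a i) + RatFunc.C (c i - a i) * RatFunc.X
  let ψ : MvPolynomial (Fin n) k →ₐ[k] RatFunc k := MvPolynomial.aeval line
  let linep : Fin n → Polynomial k := fun i =>
    Polynomial.C (a i) + Polynomial.C (c i - a i) * Polynomial.X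
  let ψp : MvPolynomial (Fin n) k →ₐ[k] Polynomial k := MvPolynomial.aeval linep
  have hψ : ∀ p, ψ p = algebraMap (Polynomial k) (RatFunc k) (ψp p) := fun p => by
    have : ψ = (IsScalarTower.toAlgHom k (Polynomial k) (RatFunc k)).comp ψp :=
      MvPolynomial.algHom_ext fun i => by simp [ψ, ψp, line, linep]
    rw [this]; rfl
  have hev : ∀ (p : MvPolynomial (Fin n) k) (t : k),
      Polynomial.eval t (ψp p) = MvPolynomial.eval (fun i => a i + (c i - a i) * t) p := fun p t => by
    induction p using MvPolynomial.induction_on with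
    | C r => simp [ψp]
    | add p q hp hq => simp only [map_add, Polynomial.eval_add, hp, hq]
    | mul_X p i hp =>
      simp only [map_mul, Polynomial.eval_mul, hp]
      simp [ψp, linep]
  have hev0 : ∀ p, Polynomial.eval 0 (ψp p) = MvPolynomial.eval a p := fun p => by simp [hev]
  have hev1 : ∀ p, Polynomial.eval 1 (ψp p) = MvPolynomial.eval c p := fun p => by simp [hev]
  have hψQ : ψ Q ≠ 0 := fun h => ha (by
    rw [hψ, IsFractionRing.to_map_eq_zero_iff] at h
    rw [← hev0, h, Polynomial.eval_zero])
  have htr : Transcendental k (ψ P / ψ Q) := by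
    intro halg
    obtain ⟨p, hp, hroot⟩ := halg
    have : ψ P / ψ Q ∈ (algebraMap k (RatFunc k)).range := by
      by_contra hne
      exact RatFunc.transcendental_of_ne_C _ (fun ⟨r, hr⟩ => hne ⟨r, by
        rw [hr, RatFunc.algebraMap_eq_C]⟩) ⟨p, hp, hroot⟩
    obtain ⟨r, hr⟩ := this
    rw [eq_div_iff hψQ, ← ψ.commutes, ← map_mul, hψ, hψ] at hr
    have h2 := congrArg (Polynomial.eval 0) (IsFractionRing.injective _ _ hr)
    have h3 := congrArg (Polynomial.eval 1) (IsFractionRing.injective _ _ hr)
    simp only [hev0, hev1] at h2 h3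
    simp only [map_mul, MvPolynomial.algebraMap_eq, MvPolynomial.eval_C] at h2 h3
    exact hc (by rw [← h2, ← h3]; ring)
  let 𝔭 : Ideal (MvPolynomial (Fin n) k) := RingHom.ker ψ
  haveI : 𝔭.IsPrime := RingHom.ker_isPrime _
  let L := Localization.AtPrime 𝔭
  haveI : IsIntegrallyClosed L :=
    isIntegrallyClosed_of_isLocalization L 𝔭.primeCompl 𝔭.primeCompl_le_nonZeroDivisors
  let ψL : L →+* RatFunc k := IsLocalization.lift (M := 𝔭.primeCompl) (g := ψ.toRingHom)
    fun y => isUnit_iff_ne_zero.2 y.2
  have hunit : ∀ z : L, ψL z ≠ 0 → IsUnit z := by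
    intro z hz
    obtain ⟨⟨p, s⟩, rfl⟩ := IsLocalization.mk'_surjective 𝔭.primeCompl z
    refine (IsLocalization.AtPrime.isUnit_mk'_iff L 𝔭 p s).2 fun hp => hz ?_
    rw [IsLocalization.lift_mk', show ψ.toRingHom p = 0 from hp, zero_mul]
  letI algLF : Algebra L (FractionRing (MvPolynomial (Fin n) k)) :=
    IsLocalization.localizationAlgebraOfSubmonoidLe L _ 𝔭.primeCompl
      (nonZeroDivisors (MvPolynomial (Fin n) k)) 𝔭.primeCompl_le_nonZeroDivisors
  haveI : IsScalarTower (MvPolynomial (Fin n) k) L (FractionRing (MvPolynomial (Fin n) k)) :=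
    IsLocalization.localization_isScalarTower_of_submonoid_le L _ 𝔭.primeCompl
      (nonZeroDivisors (MvPolynomial (Fin n) k)) 𝔭.primeCompl_le_nonZeroDivisors
  haveI : IsFractionRing L (FractionRing (MvPolynomial (Fin n) k)) :=
    IsFractionRing.isFractionRing_of_isDomain_of_isLocalization 𝔭.primeCompl L _
  let ι : L →+* FractionRing (MvPolynomial (Fin n) k) := algebraMap L _
  have hι : Function.Injective ι := IsFractionRing.injective L _
  have hιP : ∀ p, ι (algebraMap (MvPolynomial (Fin n) k) L p) = algebraMap _ _ p := fun p =>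
    (IsScalarTower.algebraMap_apply _ L _ p).symm
  obtain ⟨uQ, huQ⟩ : IsUnit (algebraMap (MvPolynomial (Fin n) k) L Q) := hunit _ (by
    rw [IsLocalization.lift_eq]; exact hψQ)
  let xL : L := algebraMap (MvPolynomial (Fin n) k) L P * (↑uQ⁻¹ : L)
  have hxL : ι xL = φ x := by
    rw [← hPQ, eq_div_iff hQF, ← hιP, ← hιP, ← map_mul]
    congr 1
    rw [← huQ, mul_assoc, Units.inv_mul, mul_one]
  have hψx : ψL xL = ψ P / ψ Q := by
    rw [eq_div_iff hψQ, show ψ Q = ψL (algebraMap (MvPolynomial (Fin n) k) L Q) from (IsLocalization.lift_eq _ Q).symm,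
      ← map_mul, ← huQ, mul_assoc, Units.inv_mul, mul_one]
    exact IsLocalization.lift_eq _ P
  let cL : k →+* L := (algebraMap (MvPolynomial (Fin n) k) L).comp MvPolynomial.C
  have hcL : ι.comp cL = algebraMap k (FractionRing (MvPolynomial (Fin n) k)) := RingHom.ext fun r => by
    rw [RingHom.comp_apply, IsScalarTower.algebraMap_apply k (MvPolynomial (Fin n) k)]
    exact hιP _
  have hψc : ψL.comp cL = algebraMap k (RatFunc k) := RingHom.ext fun r => by
    simp only [RingHom.comp_apply, cL, ψL, IsLocalization.lift_eq]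
    exact ψ.commutes r
  have hev2 : ∀ f : Polynomial k, ι (f.eval₂ cL xL) = φ (Polynomial.aeval x f) ∧
      ψL (f.eval₂ cL xL) = Polynomial.aeval (ψ P / ψ Q) f := fun f => by
    constructor
    · rw [Polynomial.hom_eval₂, hcL, hxL, ← Polynomial.aeval_def, Polynomial.aeval_algHom_apply]
    · rw [Polynomial.hom_eval₂, hψc, hψx, ← Polynomial.aeval_def]
  have hsub : ∀ z ∈ IntermediateField.adjoin k {x}, φ z ∈ ι.range := by
    intro z hz
    obtain ⟨f, g, rfl⟩ := (IntermediateField.mem_adjoin_simple_iff k z).1 hz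
    by_cases hg : g = 0
    · subst hg; simp
    obtain ⟨w, hw⟩ := hunit (g.eval₂ cL xL) (by
      rw [(hev2 g).2]; exact fun h => htr ⟨g, hg, h⟩)
    refine ⟨f.eval₂ cL xL * (↑w⁻¹ : L), ?_⟩
    rw [map_div₀, ← (hev2 f).1, ← (hev2 g).1, ← hw]
    have : ι ↑w * ι (↑w⁻¹ : L) = 1 := by rw [← map_mul, Units.mul_inv, map_one]
    rw [map_mul, eq_div_iff (left_ne_zero_of_mul_eq_one this), mul_assoc, mul_comm (ι ↑w⁻¹), this, mul_one]
  let eι : L ≃+* ι.range := RingEquiv.ofBijective ι.rangeRestrict
    ⟨fun u v h => hι (congrArg Subtype.val h), ι.rangeRestrict_surjective⟩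
  let h : IntermediateField.adjoin k {x} →+* L := eι.symm.toRingHom.comp
    ((φ.toRingHom.comp (IntermediateField.adjoin k {x}).val.toRingHom).codRestrict ι.range
      fun z => hsub z.1 z.2)
  have hh : ∀ z, ι (h z) = φ z.1 := fun z => congrArg Subtype.val (eι.apply_symm_apply _)
  have hall : ∀ y : K, φ y ∈ ι.range := by
    intro y
    obtain ⟨f, hf, hfy⟩ := (halg.isAlgebraic y).isIntegral
    have : IsIntegral L (φ y) := by
      refine ⟨f.map h, hf.map h, ?_⟩
      rw [Polynomial.eval₂_map]
      have := congrArg φ.toRingHom hfy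
      rw [Polynomial.hom_eval₂, map_zero] at this
      rw [show ι.comp h = φ.toRingHom.comp (algebraMap (IntermediateField.adjoin k {x}) K) from
        RingHom.ext hh]
      exact this
    exact IsIntegrallyClosed.isIntegral_iff.1 this
  let Φ : K →+* RatFunc k := ψL.comp (eι.symm.toRingHom.comp (φ.toRingHom.codRestrict ι.range hall))
  let Φa : K →ₐ[k] RatFunc k := { Φ with
    commutes' := fun r => by
      have : eι.symm ⟨φ (algebraMap k K r), hall _⟩ = cL r := by
        rw [RingEquiv.symm_apply_eq]
        exact Subtype.ext ((φ.commutes r).trans (RingHom.congr_fun hcL r).symm)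
      show ψL (eι.symm ⟨φ (algebraMap k K r), hall _⟩) = _
      rw [this]
      exact RingHom.congr_fun hψc r }
  have hE : Φa.fieldRange ≠ ⊥ := by
    intro hb
    have hmem : Φa x ∈ Φa.fieldRange := ⟨x, rfl⟩
    rw [hb, IntermediateField.mem_bot] at hmem
    obtain ⟨r, hr⟩ := hmem
    rw [← Φa.commutes] at hr
    exact hx (Φa.toRingHom.injective hr ▸ isAlgebraic_algebraMap r)
  obtain ⟨t, ht⟩ : RatFunc.Luroth.generator Φa.fieldRange ∈ Φa.fieldRange :=
    RatFunc.Luroth.generator_mem
  refine ⟨t, ?_, ?_⟩
  · intro halgt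
    exact RatFunc.Luroth.transcendental_generator hE (ht ▸ halgt.algHom Φa)
  · refine IntermediateField.map_injective Φa ?_
    rw [IntermediateField.adjoin_map, Set.image_singleton, ← AlgHom.fieldRange_eq_map,
      show Φa t = RatFunc.Luroth.generator Φa.fieldRange from ht]
    exact (RatFunc.Luroth.eq_adjoin_generator).symm

end Groth.Agent.S11238
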