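import Groth.Statements.S11239
import Mathlib.LinearAlgebra.Matrix.Block


set_option autoImplicit false
universe u
open AGF

namespace Groth.Agent.S11239

/-- Let X be an m × n matrix over a commutative ring, u an upper triangular n × n matrix with ones on
the diagonal, t a diagonal n × n matrix and p ≤ n. For any choice of p rows, the minor of X·t·u
formed with these rows and the first p columns equals (t_11 ⋯ t_pp) times the corresponding minor of
X: the minors on the first p columns are semi-invariant of weight ω_p under right multiplication by
the upper triangular group. (The published statement is for the generic matrix over an algebraically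
closed field; this row states the identity over any commutative ring.) -/
theorem result (R : Type u) [CommRing R] (m n p : ℕ) (hp : p ≤ n)
    (X : Matrix (Fin m) (Fin n) R) (d : Fin n → R) (u : Matrix (Fin n) (Fin n) R)
    (hu1 : ∀ i, u i i = 1) (hu0 : ∀ i j, j < i → u i j = 0) (I : Fin p → Fin m) :
    ((X * Matrix.diagonal d * u).submatrix I (Fin.castLE hp)).det =
      (∏ i : Fin p, d (Fin.castLE hp i)) * (X.submatrix I (Fin.castLE hp)).det := by
  classical
  have key : (X * Matrix.diagonal d * u).submatrix I (Fin.castLE hp) =
      X.submatrix I (Fin.castLE hp) *
        (Matrix.of fun a b => d (Fin.castLE hp a) * u (Fin.castLE hp a) (Fin.castLE hp b)) := by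
    ext a b
    rw [Matrix.submatrix_apply, Matrix.mul_apply, Matrix.mul_apply]
    symm
    refine Fintype.sum_of_injective (Fin.castLE hp) (Fin.castLE_injective hp) _ _ ?_ ?_
    · intro j hj
      rw [hu0 j (Fin.castLE hp b), mul_zero]
      by_contra hlt
      exact hj ⟨⟨j, lt_of_le_of_lt (not_lt.mp hlt) b.isLt⟩, Fin.ext rfl⟩
    · intro a'
      simp [Matrix.mul_diagonal, mul_assoc]
  rw [key, Matrix.det_mul, mul_comm]
  congr 1
  rw [Matrix.det_of_isUpperTriangular]
  · simp [hu1]
  · intro a b hab
    simp [hu0 _ _ (show Fin.castLE hp b < Fin.castLE hp a from hab)]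

end Groth.Agent.S11239
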