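import Groth.Statements.S11240


set_option autoImplicit false
universe u
open AGF

namespace Groth.Agent.S11240

/-- For a single root subgroup: let k be an algebraically closed field and X = (x_ab) the generic n × m
matrix over the polynomial ring k[x_ab]. Let i ≠ j be row indices and let I (rows) and J (columns)
be strictly increasing sequences of length p. The minor of X with rows I and columns J is invariant
under replacing X by (1 + b·E_ij)·X for every b ∈ k (the one-parameter unipotent group adding b
times row j to row i) if and only if j occurs in I whenever i does. (The published statement gives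
the criterion for the group generated by several such root subgroups, which is the conjunction of
these.) -/
theorem result (k : Type u) [Field k] [IsAlgClosed k] (n m p : ℕ)
    (i j : Fin n) (hij : i ≠ j) (I : Fin p ↪o Fin n) (J : Fin p ↪o Fin m) :
    (∀ b : k, ((Matrix.transvection i j (MvPolynomial.C b) *
        (Matrix.of fun a c => (MvPolynomial.X (a, c) : MvPolynomial (Fin n × Fin m) k))).submatrix I J).det =
        ((Matrix.of fun a c => (MvPolynomial.X (a, c) : MvPolynomial (Fin n × Fin m) k)).submatrix I J).det) ↔
      (i ∈ Set.range I → j ∈ Set.range I) := by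
  classical
  set X : Matrix (Fin n) (Fin m) (MvPolynomial (Fin n × Fin m) k) :=
    Matrix.of fun a c => MvPolynomial.X (a, c) with hX
  have hrow : ∀ (b : k) (q : Fin p), (Matrix.transvection i j (MvPolynomial.C b) * X).submatrix I J q =
      if I q = i then X.submatrix I J q + (MvPolynomial.C b : MvPolynomial (Fin n × Fin m) k) • fun c => X j (J c)
      else X.submatrix I J q := by
    intro b q
    ext c
    split_ifs with h
    · simp [h]
    · simp [h]
  by_cases hi : i ∈ Set.range I
  · obtain ⟨q₀, hq₀⟩ := hi
    have hM : ∀ b : k, (Matrix.transvection i j (MvPolynomial.C b) * X).submatrix I J =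
        (X.submatrix I J).updateRow q₀ (X.submatrix I J q₀ + (MvPolynomial.C b : MvPolynomial (Fin n × Fin m) k) • fun c => X j (J c)) := by
      intro b
      funext q
      rw [hrow]
      by_cases hq : q = q₀
      · subst hq; simp [hq₀]
      · rw [Matrix.updateRow_ne hq, if_neg]
        rw [← hq₀]; exact fun e => hq (I.injective e)
    constructor
    · intro h _
      by_contra hj
      have h1 := h 1
      rw [hM, Matrix.det_updateRow_add, Matrix.updateRow_eq_self, map_one, one_smul,
        add_eq_left] at h1
      let I' : Fin p → Fin n := Function.update I q₀ j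
      have hI' : Function.Injective I' := by
        intro a b hab
        by_cases ha : a = q₀ <;> by_cases hb : b = q₀
        · rw [ha, hb]
        · exact absurd ⟨b, by simpa [I', ha, hb] using hab.symm⟩ hj
        · exact absurd ⟨a, by simpa [I', ha, hb] using hab⟩ hj
        · exact I.injective (by simpa [I', ha, hb] using hab)
      let pt : Fin n × Fin m → k := fun x => if ∃ q, I' q = x.1 ∧ J q = x.2 then 1 else 0
      have h2 := congr(MvPolynomial.eval pt $h1)
      rw [RingHom.map_det, map_zero] at h2
      have h3 : (MvPolynomial.eval pt).mapMatrix
          ((X.submatrix I J).updateRow q₀ fun c => X j (J c)) = 1 := by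
        ext a c
        have hx : (X.submatrix I J).updateRow q₀ (fun c => X j (J c)) a c =
            MvPolynomial.X (I' a, J c) := by
          by_cases ha : a = q₀ <;> simp [hX, I', ha]
        simp only [RingHom.mapMatrix_apply, Matrix.map_apply, hx, MvPolynomial.eval_X, pt,
          Matrix.one_apply]
        refine if_congr ⟨fun ⟨q, h1, h2⟩ => ?_, fun e => ⟨a, rfl, by rw [e]⟩⟩ rfl rfl
        rw [← hI' h1, J.injective h2]
      rw [h3, Matrix.det_one] at h2
      exact one_ne_zero h2
    · intro h b
      obtain ⟨q₁, hq₁⟩ := h ⟨q₀, hq₀⟩
      have hne : q₀ ≠ q₁ := fun e => hij (by rw [← hq₀, ← hq₁, e])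
      rw [hM]
      have : (fun c => X j (J c)) = X.submatrix I J q₁ := by ext c; simp [hq₁]
      rw [this]
      exact Matrix.det_updateRow_add_smul_self _ hne _
  · refine iff_of_true (fun b => ?_) (fun h => absurd h hi)
    congr 1
    funext q
    rw [hrow, if_neg fun h => hi ⟨q, h⟩]

end Groth.Agent.S11240
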