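import Groth.Statements.S11243
import Groth.Agent.Roots36.Dominant2

set_option autoImplicit false
universe u v w
open RootD

namespace Groth.Agent.S11243

/-- (b), for a connected group, as a statement about its root datum: let P be a finite reduced
crystallographic root pairing over ℤ with weight lattice M, and b a base of P (simple roots,
determining the positive roots). Then there is an additive map h : M → ℤ which is positive on every
positive root (so that h strictly increases along the dominance order) and non-negative on every
dominant weight, i.e. on every ω ∈ M pairing non-negatively with all simple coroots. (Part (c),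
invariance under the component group of a disconnected group, is not stated.) -/
theorem result {ι : Type u} {M : Type v} {N : Type w}
    [Fintype ι] [AddCommGroup M] [AddCommGroup N]
    (P : RootPairing ι ℤ M N) [P.IsReduced] [P.IsCrystallographic] (b : P.Base) :
    ∃ h : M →+ ℤ, (∀ i : ι, b.IsPos i → 0 < h (P.root i)) ∧
      ∀ ω : M, (∀ j ∈ b.support, 0 ≤ P.toLinearMap ω (P.coroot j)) → 0 ≤ h ω := by
  have := Fintype.ofFinite ι
  classical
  have hΔ := Roots36.base_isSimpleSys b
  refine ⟨(∑ k ∈ Finset.univ.filter (fun k => k ∈ RootD.posOf P (b.support : Set ι) ∧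
    RootD.IsIndiv P k), P.coroot' k).toAddMonoidHom, fun i hi => ?_, fun ω hω => ?_⟩
  · rw [Roots36.isPos_iff_posOf] at hi
    simp only [LinearMap.toAddMonoidHom_coe, LinearMap.sum_apply, P.root_coroot'_eq_pairing,
      Roots36.pairing_eq_cast, Int.cast_id]
    rw [Finset.sum_congr rfl fun k _ => Roots36.pairingIn_eq_sum hΔ i k, Finset.sum_comm]
    obtain ⟨j, -, hj, -⟩ := Roots36.exists_simple_pairing_pos hΔ hi
    refine Finset.sum_pos' (fun l _ => ?_) ⟨j, Finset.mem_univ j, ?_⟩
    · rw [← Finset.mul_sum]
      by_cases hl : l ∈ (b.support : Set ι)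
      · rw [(Roots36.sum_pairingIn_indiv_posOf hΔ hl).2]
        exact mul_nonneg ((Roots36.posOf_iff hΔ).mp hi l) two_pos.le
      · simp [Roots36.coef_eq_zero hΔ hl]
    · rw [← Finset.mul_sum]
      have hjb : j ∈ (b.support : Set ι) := by
        by_contra hn; rw [Roots36.coef_eq_zero hΔ hn] at hj; exact lt_irrefl _ hj
      rw [(Roots36.sum_pairingIn_indiv_posOf hΔ hjb).2]
      exact mul_pos hj two_pos
  · simp only [LinearMap.toAddMonoidHom_coe, LinearMap.sum_apply]
    refine Finset.sum_nonneg fun k hk => ?_
    simp only [Finset.mem_filter, Finset.mem_univ, true_and] at hk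
    exact Roots36.coroot'_nonneg_of_simple hΔ (fun j hj => hω j hj) hk.1

end Groth.Agent.S11243
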