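import Groth.Statements.S16130
import Groth.Agent.AlgGrp79.Orbit
import Groth.Agent.AlgGrp79.Image
import Groth.Agent.AlgGrp79.OrbitDim

set_option autoImplicit false
universe u
open CategoryTheory MonoidalCategory CartesianMonoidalCategory MonObj GrpObj AlgebraicGeometry CategoryTheory.Limits
open AlgGrp

namespace Groth.Agent.S16130
open Groth.Agent.AlgGrp79 CategoryTheory.Limits
open scoped commutatorElement

/-- Over an algebraically closed field k, let G be an algebraic group (a smooth k-group scheme of finite
type, not necessarily connected) acting on a variety X (a reduced separated k-scheme of finite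
type), and let x be a k-point of X with orbit map α_x : G → X. Then dim G = dim(G · x) + dim(G_x),
where G · x is the image of α_x with its subspace topology and G_x is the stabilizer, the fibre of
α_x over x; all dimensions are Krull dimensions of topological spaces. (The published statement also
asserts that the irreducible components of G · x are precisely the G⁰-orbits it contains, all of
that dimension; that clause is not stated here.) -/
theorem result (k : Type u) [Field k] [IsAlgClosed k]
    (G X : Over (Spec (CommRingCat.of k))) [GrpObj G] [Smooth G.hom] [QuasiCompact G.hom]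
    [IsReduced X.left] [IsSeparated X.hom] [LocallyOfFiniteType X.hom] [QuasiCompact X.hom]
    (a : AlgGrp.Action G X) (x : 𝟙_ (Over (Spec (CommRingCat.of k))) ⟶ X) :
    topologicalKrullDim ↥G.left =
      topologicalKrullDim ↥(Set.range (a.orbitMap x).left.base) +
        topologicalKrullDim ↥(Limits.pullback (a.orbitMap x).left x.left) := by
  let α := a.orbitMap x
  have := Var76.FibreBound.noetherianSpace G.hom
  have := Var76.FibreBound.noetherianSpace X.hom
  have : LocallyOfFiniteType α.left := by
    have : LocallyOfFiniteType (α.left ≫ X.hom) := by rw [Over.w]; infer_instance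
    exact locallyOfFiniteType_of_comp α.left X.hom
  let O : Set X.left := Set.range α.left
  have hO : IsLocallyClosed O := Groth.Agent.S7984.result k G X a x
  show topologicalKrullDim G.left = topologicalKrullDim ↥O + topologicalKrullDim ↥(pullback α.left x.left)
  have hfib := dim_orbit_fibre a x
  have : Nonempty G.left := ⟨(η[G]).left (IsLocalRing.closedPoint k)⟩
  obtain ⟨ξ, -, hξ⟩ := Var76.FibreBound.exists_tdegN_eq_dim G.hom
  obtain ⟨r, hr⟩ : ∃ r : ℕ, topologicalKrullDim ↥(α.left ⁻¹' {α.left ξ}) = r := by
    have : Nonempty ↥(pullback α.left x.left) := by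
      have hx : (η[G] ≫ α).left = x.left := by
        have h := orbit_one a x (T := 𝟙_ _)
        rw [Hom.one_def, toUnit_unique (toUnit (𝟙_ (Over (Spec (CommRingCat.of k))))) (𝟙 _), Category.id_comp, Category.id_comp] at h
        rw [h]
      obtain ⟨w, -, -⟩ := Scheme.Pullback.exists_preimage_pullback (f := α.left) (g := x.left)
        ((η[G]).left (IsLocalRing.closedPoint k)) (IsLocalRing.closedPoint k) (congr($hx (IsLocalRing.closedPoint k)))
      exact ⟨w⟩
    have : LocallyOfFiniteType (pullback.snd α.left x.left) := MorphismProperty.pullback_snd (P := @LocallyOfFiniteType) _ _ inferInstance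
    have : QuasiCompact α.left := ⟨fun V _ _ => TopologicalSpace.NoetherianSpace.isCompact _⟩
    have : QuasiCompact (pullback.snd α.left x.left) := MorphismProperty.pullback_snd (P := @QuasiCompact) _ _ inferInstance
    have := @Var76.FibreBound.noetherianSpace k _ _ (pullback.snd α.left x.left) _ _
    obtain ⟨z, -, hz⟩ := Var76.FibreBound.exists_tdegN_eq_dim (pullback.snd α.left x.left)
    refine ⟨_, ((IsHomeomorph.topologicalKrullDim_eq _ (α.left.fiberHomeo _).isHomeomorph).symm.trans (hfib ξ)).trans hz⟩
  have hH : topologicalKrullDim ↥(pullback α.left x.left) = r := by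
    rw [← hfib ξ, IsHomeomorph.topologicalKrullDim_eq _ (α.left.fiberHomeo _).isHomeomorph, hr]
  obtain ⟨ep, hep, hmax⟩ : ∃ ep ∈ O, topologicalKrullDim ↥O = (WC97.tdegN X.hom ep : ℕ) := by
    classical
    have hbdd : BddAbove ((fun y => WC97.tdegN X.hom y) '' O) := by
      obtain ⟨x₀, -, hx₀⟩ := @Var76.FibreBound.exists_tdegN_eq_dim k _ X.left X.hom _ ⟨(α.left ξ)⟩ _
      refine ⟨WC97.tdegN X.hom x₀, ?_⟩
      rintro _ ⟨y, -, rfl⟩
      have := (Var76.FibreBound.tdegN_le_dim X.hom y).trans hx₀.le
      exact_mod_cast this
    obtain ⟨ep, hep, hd⟩ := Nat.sSup_mem (Set.Nonempty.image (fun y => WC97.tdegN X.hom y) (Set.range_nonempty α.left : O.Nonempty)) hbdd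
    refine ⟨ep, hep, le_antisymm ?_ (tdegN_le_dim_of_locallyClosed X.hom hO hep)⟩
    refine (TopDim50.dim_mono subset_closure).trans (Var76.FibreBound.dim_le_of_forall X.hom isClosed_closure fun y hy => ?_)
    obtain ⟨ep', hep', hy'⟩ := closure_range_orbit α.left hy
    simp only at hd
    rw [hd]
    exact Nat.cast_le.2 ((Var76.FibreBound.tdegN_le X.hom hy').trans (le_csSup hbdd ⟨ep', hep', rfl⟩))
  rw [hmax, hH, hξ, ← Nat.cast_add, Nat.cast_inj]
  have hadd := fun z => Var76.FibreBound.tdegN_eq_add (qX := G.hom) (qY := X.hom) α.left (Over.w α) z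
  refine le_antisymm ?_ ?_
  · rw [hadd ξ]
    refine Nat.add_le_add ?_ ?_
    · have := (tdegN_le_dim_of_locallyClosed X.hom hO (⟨ξ, rfl⟩ : α.left ξ ∈ O)).trans hmax.le
      exact_mod_cast this
    · have := (E4O.le_dim_fiber α.left ξ).trans_eq ((hfib ξ).trans hH)
      exact_mod_cast this
  · obtain ⟨z₀, rfl⟩ := hep
    have hr' : topologicalKrullDim ↥(α.left ⁻¹' {α.left z₀}) = r := by
      rw [← IsHomeomorph.topologicalKrullDim_eq _ (α.left.fiberHomeo _).isHomeomorph, hfib z₀, hH]
    obtain ⟨z, hz1, hz2⟩ := Var76.FibreBound.exists_fdeg_eq_dim α.left r ⟨z₀, rfl⟩ hr'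
    have := (Var76.FibreBound.tdegN_le_dim G.hom z).trans hξ.le
    rw [hadd z, hz1, hz2] at this
    exact_mod_cast this
end Groth.Agent.S16130
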