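import Groth.Statements.S11244
import Groth.Agent.AGF80.StabDim
import Groth.Agent.S16130

set_option autoImplicit false
universe u
open CategoryTheory MonoidalCategory CartesianMonoidalCategory MonObj GrpObj AlgebraicGeometry
open scoped TensorProduct
open AGF

namespace Groth.Agent.S11244

/-- Let k be an algebraically closed field, G a linear algebraic group over k (affine, smooth) acting on
an irreducible variety X over k (reduced, separated, of finite type). For a rational point x of X
let dim G·x be the dimension of the closure of its orbit. Then for every r the set of rational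
points x with dim G·x ≤ r is closed: there is a closed subset Z of X whose rational points are
exactly those x. (The second assertion, that the points of maximal orbit dimension form a dense open
subset, follows.) -/
theorem result (k : Type u) [Field k] [IsAlgClosed k]
    (G : Over (Spec (CommRingCat.of k))) [GrpObj G] [IsAffine G.left] [Smooth G.hom]
    (X : Over (Spec (CommRingCat.of k))) [IrreducibleSpace ↥X.left] [IsReduced X.left]
    [IsSeparated X.hom] [LocallyOfFiniteType X.hom] [QuasiCompact X.hom]
    (a : AlgGrp.Action G X) (r : ℕ) :
    ∃ Z : Set ↥X.left, IsClosed Z ∧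
      ∀ x : 𝟙_ (Over (Spec (CommRingCat.of k))) ⟶ X,
        topologicalKrullDim ↥(closure (Set.range ⇑(a.orbitMap x).left.base)) ≤ (r : WithBot ℕ∞) ↔
          Set.range ⇑x.left.base ⊆ Z := by
  have := Var76.FibreBound.noetherianSpace G.hom
  have := Var76.FibreBound.noetherianSpace X.hom
  have hG : Nonempty ↥G.left := ⟨(η[G]).left (IsLocalRing.closedPoint k)⟩
  obtain ⟨ξ, -, hξ⟩ := Var76.FibreBound.exists_tdegN_eq_dim G.hom
  set g := WC97.tdegN G.hom ξ
  refine ⟨_, AGF80.StabDim.isClosed_setOf_le_dim_fiber a ((g - r : ℕ) : WithBot ℕ∞), fun x => ?_⟩
  have hrange : Set.range ⇑x.left.base = {x.left (IsLocalRing.closedPoint k)} := by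
    refine Set.Subset.antisymm (Set.range_subset_iff.2 fun z => ?_) (Set.singleton_subset_iff.2 ⟨_, rfl⟩)
    exact congrArg _ (@Subsingleton.elim _ (inferInstanceAs (Subsingleton ↥(Spec (CommRingCat.of k)))) z (IsLocalRing.closedPoint k))
  rw [hrange, Set.singleton_subset_iff]
  show _ ↔ ((g - r : ℕ) : WithBot ℕ∞) ≤ _
  rw [AGF80.StabDim.dim_fiber_eq a x,
    AGF80.StabDim.dim_closure_range a x (S7984.result k G X a x)]
  have h := S16130.result k G X a x
  rw [hξ] at h
  generalize topologicalKrullDim ↥(Set.range (a.orbitMap x).left.base) = o at h ⊢
  generalize topologicalKrullDim ↥(Limits.pullback (a.orbitMap x).left x.left) = s at h ⊢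
  cases o with
  | bot => simp at h
  | coe o => cases s with
    | bot => simp at h
    | coe s => cases o with
      | top =>
        rw [← WithBot.coe_add, top_add] at h
        exact absurd (WithBot.coe_inj.1 h) (ENat.natCast_ne_top _)
      | coe o => cases s with
        | top =>
        rw [← WithBot.coe_add, show ((o : ℕ∞) + ⊤ : ℕ∞) = ⊤ from add_top _] at h
        exact absurd (WithBot.coe_inj.1 h) (ENat.natCast_ne_top _)
        | coe s =>
          have h' : g = o + s := by exact_mod_cast h
          rw [h']
          refine Iff.trans Nat.cast_le (Iff.trans ?_ Nat.cast_le.symm)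
          omega

end Groth.Agent.S11244
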