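import Groth.Statements.S11252
import Groth.Agent.Grass54.Schubert

set_option autoImplicit false
universe u
open W4bk4grassmannian

namespace Groth.Agent.S11252

open W4bk4grassmannian in
/-- Standard monomial basis for a union of Schubert varieties: let K be an algebraically closed field, 0
< d < n, and I(d,n) the strictly increasing maps Fin d → Fin n ordered entrywise; S = K[X_θ : θ ∈
I(d,n)] is the Plücker polynomial ring and, for τ ∈ I(d,n), J(τ) ⊆ S is the ideal of polynomials
vanishing at the d × d row-minors of every n × d matrix over K whose minors on rows φ ≰ τ are zero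
(the homogeneous ideal of the Schubert variety X(τ) ⊆ G(d,n)). Let τ_1, …, τ_r ∈ I(d,n) and let J =
⋂_i J(τ_i) be the homogeneous ideal of the union ⋃_i X(τ_i). Then the classes in S/J of the
monomials X_{θ_1} ⋯ X_{θ_m} (m ≥ 0) along chains θ_1 ≥ ⋯ ≥ θ_m all of whose members lie below some
τ_i are linearly independent over K and span S/J. -/
theorem result (K : Type u) [Field K] [IsAlgClosed K] (d n : ℕ)
    (hd : 0 < d) (hdn : d < n) (r : ℕ) (τs : Fin r → Idx d n) :
    LinearIndependent K (fun c : (Σ m : ℕ, {c : Fin m → Idx d n // Antitone c ∧ ∃ i, ∀ k, c k ≤ τs i}) =>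
        Ideal.Quotient.mk (⨅ i, schubertVanishing K d n (τs i)) (chainMon K c.2.1)) ∧
      Submodule.span K (Set.range fun c : (Σ m : ℕ, {c : Fin m → Idx d n // Antitone c ∧ ∃ i, ∀ k, c k ≤ τs i}) =>
        Ideal.Quotient.mk (⨅ i, schubertVanishing K d n (τs i)) (chainMon K c.2.1)) = ⊤ := by
  classical
  let g : (Σ m : ℕ, {c : Fin m → Idx d n // Antitone c ∧ ∃ i, ∀ k, c k ≤ τs i}) → Groth.Agent.Grass54.Std d n :=
    fun c => ⟨c.1, c.2.1, c.2.2.1⟩
  have hg : Function.Injective g := by
    rintro ⟨m, c, hc⟩ ⟨m2, c2, hc2⟩ h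
    obtain ⟨rfl, h2⟩ := Sigma.mk.inj_iff.1 h
    cases eq_of_heq h2
    rfl
  refine ⟨?_, ?_⟩
  · rw [linearIndependent_iff]
    intro l hl
    have hJ : Finsupp.linearCombination K (fun c : Groth.Agent.Grass54.Std d n => chainMon K c.2.1)
        (Finsupp.mapDomain g l) ∈ ⨅ i, schubertVanishing K d n (τs i) := by
      rw [Finsupp.linearCombination_mapDomain, ← Ideal.Quotient.eq_zero_iff_mem, ← hl]
      exact Finsupp.apply_linearCombination K
        (Ideal.Quotient.mkₐ K (⨅ i, schubertVanishing K d n (τs i))).toLinearMap _ l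
    ext c
    obtain ⟨i, hi⟩ := c.2.2.2
    have h := Groth.Agent.Grass54.coeff_eq_zero_of_mem K hd hdn (τs i) _ (Ideal.mem_iInf.1 hJ i) (g c) hi
    rwa [Finsupp.mapDomain_apply hg] at h
  · rw [eq_top_iff]
    rintro q -
    obtain ⟨f, rfl⟩ := Ideal.Quotient.mk_surjective q
    obtain ⟨a, ha⟩ := Groth.Agent.Grass54.exists_std_decomp K f
    have he : Ideal.Quotient.mk (⨅ i, schubertVanishing K d n (τs i)) f =
        Ideal.Quotient.mkₐ K (⨅ i, schubertVanishing K d n (τs i))
          (Finsupp.linearCombination K (fun c : Groth.Agent.Grass54.Std d n => chainMon K c.2.1) a) := by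
      refine Ideal.Quotient.eq.2 (Ideal.mem_iInf.2 fun i => ?_)
      exact Groth.Agent.Grass54.plIdealTop_le_schubertVanishing K (τs i) ha
    rw [he, Finsupp.linearCombination_apply, Finsupp.sum, map_sum]
    refine Submodule.sum_mem _ fun c _ => ?_
    rw [map_smul]
    refine Submodule.smul_mem _ _ ?_
    by_cases hc : ∃ i, ∀ k, c.2.1 k ≤ τs i
    · exact Submodule.subset_span ⟨⟨c.1, c.2.1, c.2.2, hc⟩, rfl⟩
    · have h0 : Ideal.Quotient.mkₐ K (⨅ i, schubertVanishing K d n (τs i)) (chainMon K c.2.1) = 0 :=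
        Ideal.Quotient.eq_zero_iff_mem.2 (Ideal.mem_iInf.2 fun i =>
          Groth.Agent.Grass54.chain_mem_schubertVanishing K (τs i) c fun h => hc ⟨i, h⟩)
      rw [h0]; exact Submodule.zero_mem _

end Groth.Agent.S11252
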