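import Groth.Statements.S11276
import Groth.Agent.Grass54.GlueCM

set_option autoImplicit false
universe u v
open W4bk4grassmannian

namespace Groth.Agent.S11276

/-- With the conclusion at the irrelevant ideal: let K be a field, A a commutative Noetherian K-algebra
graded by ℕ with degree-zero part K, I and J homogeneous ideals of A such that A/I and A/J are
Cohen–Macaulay rings of Krull dimension e and A/(I + J) is a Cohen–Macaulay ring of Krull dimension
e - 1, where e ≥ 1. Let m be the image in A/(I ∩ J) of the irrelevant ideal A_+ (assumed prime; it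
is maximal). Then the local ring (A/(I ∩ J))_m is Cohen–Macaulay of Krull dimension e. (The
published lemma concludes that A/(I ∩ J) itself is Cohen–Macaulay of dimension e; this row states
the conclusion at the irrelevant ideal only, from which the global one follows by the graded
local–global principle.) -/
theorem result (K : Type u) [Field K] (A : Type v) [CommRing A]
    [Algebra K A] [IsNoetherianRing A] (𝒜 : ℕ → Submodule K A) [GradedAlgebra 𝒜]
    (h0 : ∀ a ∈ 𝒜 0, ∃ c : K, algebraMap K A c = a) (I J : Ideal A) (hI : I.IsHomogeneous 𝒜)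
    (hJ : J.IsHomogeneous 𝒜) (e : ℕ) (he : 1 ≤ e)
    (hIcm : LocCoh.IsCohenMacaulayRing (A ⧸ I)) (hJcm : LocCoh.IsCohenMacaulayRing (A ⧸ J))
    (hIJcm : LocCoh.IsCohenMacaulayRing (A ⧸ (I ⊔ J)))
    (hIdim : ringKrullDim (A ⧸ I) = (e : WithBot ℕ∞)) (hJdim : ringKrullDim (A ⧸ J) = (e : WithBot ℕ∞))
    (hIJdim : ringKrullDim (A ⧸ (I ⊔ J)) = ((e - 1 : ℕ) : WithBot ℕ∞))
    [hm : ((HomogeneousIdeal.irrelevant 𝒜).toIdeal.map (Ideal.Quotient.mk (I ⊓ J))).IsPrime] :
    LocCoh.IsCohenMacaulayLocalRing (Localization.AtPrime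
        ((HomogeneousIdeal.irrelevant 𝒜).toIdeal.map (Ideal.Quotient.mk (I ⊓ J)))) ∧
      ringKrullDim (Localization.AtPrime
        ((HomogeneousIdeal.irrelevant 𝒜).toIdeal.map (Ideal.Quotient.mk (I ⊓ J)))) = (e : WithBot ℕ∞) := by
  classical
  set M := (HomogeneousIdeal.irrelevant 𝒜).toIdeal
  set B := A ⧸ (I ⊓ J)
  set m : Ideal B := M.map (Ideal.Quotient.mk (I ⊓ J))
  set L := Localization.AtPrime m
  haveI : IsNoetherianRing L := IsLocalization.isNoetherianRing m.primeCompl _ inferInstance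
  have hne : ∀ (X : Ideal A) (k : ℕ), ringKrullDim (A ⧸ X) = (k : WithBot ℕ∞) → X ≠ ⊤ := by
    intro X k hk hX
    haveI : Subsingleton (A ⧸ X) := Ideal.Quotient.subsingleton_iff.2 hX
    rw [ringKrullDim_eq_bot_of_subsingleton] at hk
    exact (WithBot.bot_ne_coe hk)
  have key : ∀ (X : Ideal A) (k : ℕ), X.IsHomogeneous 𝒜 → I ⊓ J ≤ X →
      LocCoh.IsCohenMacaulayRing (A ⧸ X) → ringKrullDim (A ⧸ X) = (k : WithBot ℕ∞) →
      LocCoh.IsCohenMacaulayLocalRing (L ⧸ (X.map (Ideal.Quotient.mk (I ⊓ J))).map (algebraMap B L)) ∧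
      ringKrullDim (L ⧸ (X.map (Ideal.Quotient.mk (I ⊓ J))).map (algebraMap B L)) = (k : WithBot ℕ∞) := by
    intro X k hX hle hcm hk
    set a := X.map (Ideal.Quotient.mk (I ⊓ J))
    have hXM := Groth.Agent.Grass54.mem_irrelevant_of_homogeneous_prime 𝒜 h0 hX (hne X k hk)
    have ha : a ≤ m := Ideal.map_mono hXM
    haveI hq : (m.map (Ideal.Quotient.mk a)).IsPrime :=
      Ideal.map_isPrime_of_surjective Ideal.Quotient.mk_surjective (by rw [Ideal.mk_ker]; exact ha)
    obtain ⟨e₁⟩ := Groth.Agent.Grass54.nonempty_quotientLocEquiv B m a _ rfl ha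
    let e₂ : (B ⧸ a) ≃+* A ⧸ X := DoubleQuot.quotQuotEquivQuotOfLE hle
    have hcmB : LocCoh.IsCohenMacaulayRing (B ⧸ a) := Groth.Agent.CAlg1.cmRing_of_ringEquiv e₂.symm hcm
    refine ⟨Groth.Agent.CAlg1.cm_of_ringEquiv e₁.symm (hcmB.isCohenMacaulayLocalRing_localization _), ?_⟩
    rw [ringKrullDim_eq_of_ringEquiv e₁, IsLocalization.AtPrime.ringKrullDim_eq_height (m.map (Ideal.Quotient.mk a)) (Localization.AtPrime (m.map (Ideal.Quotient.mk a))),
      ← RingEquiv.height_map e₂]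
    have he : (m.map (Ideal.Quotient.mk a)).map e₂ = M.map (Ideal.Quotient.mk X) := by
      change ((M.map (Ideal.Quotient.mk (I ⊓ J))).map (Ideal.Quotient.mk a)).map e₂.toRingHom = _
      rw [Ideal.map_map, Ideal.map_map]
      rfl
    rw [he, Groth.Agent.Grass54.height_irrelevant 𝒜 h0 hX (hne X k hk), hk]
  obtain ⟨ha1, ha2⟩ := key I e hI inf_le_left hIcm hIdim
  obtain ⟨hb1, hb2⟩ := key J e hJ inf_le_right hJcm hJdim
  obtain ⟨hc1, hc2⟩ := key (I ⊔ J) (e - 1) (hI.sup hJ) (inf_le_left.trans le_sup_left) hIJcm hIJdim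
  rw [Ideal.map_sup, Ideal.map_sup] at hc1 hc2
  refine Groth.Agent.Grass54.local_glue _ _ ?_ e ha1 hb1 hc1 ha2 hb2 hc2
  rw [← IsLocalization.map_inf m.primeCompl]
  have hbot : I.map (Ideal.Quotient.mk (I ⊓ J)) ⊓ J.map (Ideal.Quotient.mk (I ⊓ J)) = ⊥ := by
    refine (Submodule.eq_bot_iff _).2 fun x hx => ?_
    obtain ⟨x, rfl⟩ := Ideal.Quotient.mk_surjective x
    refine Ideal.Quotient.eq_zero_iff_mem.2 ⟨?_, ?_⟩
    · have := SetLike.mem_coe.1 hx.1
      rwa [← Ideal.mem_comap, Ideal.comap_map_of_surjective _ Ideal.Quotient.mk_surjective,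
        ← RingHom.ker_eq_comap_bot, Ideal.mk_ker, sup_eq_left.2 inf_le_left] at this
    · have := SetLike.mem_coe.1 hx.2
      rwa [← Ideal.mem_comap, Ideal.comap_map_of_surjective _ Ideal.Quotient.mk_surjective,
        ← RingHom.ker_eq_comap_bot, Ideal.mk_ker, sup_eq_left.2 inf_le_right] at this
  rw [hbot, Ideal.map_bot]

end Groth.Agent.S11276
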