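import Groth.Statements.S11288
import Mathlib.LinearAlgebra.Basis.VectorSpace
import Mathlib.Tactic.LinearCombination
import Mathlib.LinearAlgebra.Dual.Lemmas

set_option autoImplicit false
universe u
open Deform

namespace Groth.Agent.S11288

/-- Let K be a field, R' a local Artinian K-algebra with residue field K, and t a nonzero element of the
maximal ideal m' of R' with m' t = 0, so that R' → R = R'/(t) is a small extension of R. Then the
extension is trivial, i.e. the projection admits a section which is a K-algebra map, if and only if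
t is not in m'^2; equivalently, iff the surjection m'/m'^2 → m_R/m_R^2 induced on cotangent spaces,
whose kernel is spanned by the class of t, is not bijective. For instance K[t]/(t^(n+1)) →
K[t]/(t^n) is a non-trivial small extension for n ≥ 2. (The published example allows any local
K-algebra with residue field K; the row takes R' Artinian, the case in which the subalgebra
generated by lifts of a basis of the cotangent space maps onto R.) -/
theorem result
    {K : Type u} [Field K]
    {R' : Type u} [CommRing R'] [Algebra K R'] [IsLocalRing R'] [IsArtinianRing R']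
    (hres : ∀ a : R', ∃ c : K, a - algebraMap K R' c ∈ IsLocalRing.maximalIdeal R')
    (t : R') (ht : t ∈ IsLocalRing.maximalIdeal R') (ht0 : t ≠ 0)
    (htm : ∀ a ∈ IsLocalRing.maximalIdeal R', a * t = 0) :
    (∃ s : (R' ⧸ Ideal.span {t}) →ₐ[K] R', ∀ x, Ideal.Quotient.mk (Ideal.span {t}) (s x) = x) ↔
      t ∉ IsLocalRing.maximalIdeal R' ^ 2 := by
  classical
  constructor
  · rintro ⟨s, hs⟩ ht2
    apply ht0
    have hval : ∀ a, ∃ c, a = s (Ideal.Quotient.mk _ a) + c * t := fun a => by
      obtain ⟨c, hc⟩ := Ideal.mem_span_singleton'.1 (Ideal.Quotient.eq.1 (hs (Ideal.Quotient.mk _ a)).symm)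
      exact ⟨c, by rw [hc]; ring⟩
    have key : ∀ z ∈ IsLocalRing.maximalIdeal R' ^ 2, s (Ideal.Quotient.mk _ z) = z := by
      intro z hz
      rw [pow_two] at hz
      induction hz using Submodule.mul_induction_on' with
      | mem_mul_mem a ha b hb =>
        obtain ⟨c, hc⟩ := hval a
        obtain ⟨d, hd⟩ := hval b
        have h2 : s (Ideal.Quotient.mk _ a) * t = 0 := by
          refine htm _ ?_
          rw [eq_sub_of_add_eq hc.symm]
          exact Ideal.sub_mem _ ha (Ideal.mul_mem_left _ c ht)
        rw [map_mul, map_mul]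
        linear_combination (-b) * hc - s (Ideal.Quotient.mk _ a) * hd - c * htm b hb - d * h2
      | add a _ b _ ha hb => rw [map_add, map_add, ha, hb]
    rw [← key t ht2, Ideal.Quotient.eq_zero_iff_mem.2 (Ideal.mem_span_singleton_self t), map_zero]
  · intro ht2
    set U : Submodule K R' := Submodule.span K {1} ⊔ (IsLocalRing.maximalIdeal R' ^ 2).restrictScalars K with hU
    have htU : t ∉ U := by
      intro h
      obtain ⟨x, hx, w, hw, hxw⟩ := Submodule.mem_sup.1 h
      obtain ⟨c, rfl⟩ := Submodule.mem_span_singleton.1 hx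
      rcases eq_or_ne c 0 with rfl | hc
      · exact ht2 (by rw [← hxw, zero_smul, zero_add]; exact hw)
      · have hm : c • (1 : R') ∈ IsLocalRing.maximalIdeal R' := by
          rw [eq_sub_of_add_eq hxw]
          exact Ideal.sub_mem _ ht (Ideal.pow_le_self (by norm_num) hw)
        exact hm (IsUnit.smul (Units.mk0 c hc) isUnit_one)
    obtain ⟨l₀, hl₀, hl₀U⟩ := Submodule.exists_dual_map_eq_bot_of_notMem htU inferInstance
    let ℓ : R' →ₗ[K] K := (l₀ t)⁻¹ • l₀
    have hℓU : ∀ x ∈ U, ℓ x = 0 := fun x hx => by
      have : l₀ x = 0 := (Submodule.mem_bot K).1 (hl₀U ▸ Submodule.mem_map_of_mem hx)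
      simp [ℓ, this]
    have hℓt : ℓ t = 1 := by simp [ℓ, hl₀]
    choose c hc using hres
    have hℓ1 : ∀ e : K, ℓ (algebraMap K R' e) = 0 := fun e => hℓU _ (Submodule.mem_sup_left
      (Submodule.mem_span_singleton.2 ⟨e, (Algebra.algebraMap_eq_smul_one e).symm⟩))
    have hmt : ∀ a, a * t = c a • t := fun a => by
      rw [Algebra.smul_def, ← sub_eq_zero, ← sub_mul]
      exact htm _ (hc a)
    have hℓmul : ∀ a b, ℓ (a * b) = c a * ℓ b + c b * ℓ a := fun a b => by
      have h1 : ℓ ((a - algebraMap K R' (c a)) * (b - algebraMap K R' (c b))) = 0 :=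
        hℓU _ (Submodule.mem_sup_right (by rw [pow_two]; exact Ideal.mul_mem_mul (hc a) (hc b)))
      have h2 : a * b = (a - algebraMap K R' (c a)) * (b - algebraMap K R' (c b)) + c a • b + c b • a
          - algebraMap K R' (c a * c b) := by
        simp only [Algebra.smul_def, map_mul]
        ring
      conv_lhs => rw [h2]
      rw [map_sub, map_add, map_add, h1, map_smul, map_smul, hℓ1]
      simp
    let φ : R' →ₐ[K] R' := AlgHom.ofLinearMap (LinearMap.id - (LinearMap.toSpanSingleton K R' t) ∘ₗ ℓ)
      (by
        simp only [LinearMap.sub_apply, LinearMap.id_coe, id_eq, LinearMap.coe_comp, Function.comp_apply,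
          LinearMap.toSpanSingleton_apply]
        rw [← map_one (algebraMap K R'), hℓ1, zero_smul, sub_zero])
      (fun a b => by
        simp only [LinearMap.sub_apply, LinearMap.id_coe, id_eq, LinearMap.coe_comp, Function.comp_apply,
          LinearMap.toSpanSingleton_apply, hℓmul, add_smul, mul_smul]
        rw [smul_comm (c a) (ℓ b) t, smul_comm (c b) (ℓ a) t, ← hmt a, ← hmt b]
        simp only [Algebra.smul_def]
        linear_combination (-(algebraMap K R' (ℓ a)) * algebraMap K R' (ℓ b)) * htm t ht)
    refine ⟨Ideal.Quotient.liftₐ _ φ fun a ha => ?_, fun x => ?_⟩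
    · obtain ⟨d, rfl⟩ := Ideal.mem_span_singleton'.1 ha
      rw [map_mul]
      refine mul_eq_zero_of_right _ ?_
      change t - ℓ t • t = 0
      rw [hℓt, one_smul, sub_self]
    · obtain ⟨a, rfl⟩ := Ideal.Quotient.mk_surjective x
      refine Ideal.Quotient.eq.2 ?_
      change a - ℓ a • t - a ∈ Ideal.span {t}
      rw [Algebra.smul_def]
      exact Ideal.mem_span_singleton'.2 ⟨-algebraMap K R' (ℓ a), by ring⟩

end Groth.Agent.S11288
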