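import Groth.Statements.S11291
import Mathlib.RingTheory.Ideal.Cotangent
import Mathlib.RingTheory.MvPolynomial.Ideal
import Mathlib.RingTheory.Nakayama
import Mathlib.LinearAlgebra.Dual.Lemmas
import Mathlib.RingTheory.Polynomial.Basic
import Mathlib.RingTheory.Artinian.Module
import Mathlib.RingTheory.HopkinsLevitzki
import Mathlib.LinearAlgebra.Dimension.Free

set_option autoImplicit false
universe u
open Deform

namespace Groth.Agent.S11291

/-- Let k be an algebraically closed field and A a local Artinian k-algebra with residue field k and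
non-zero maximal ideal, i.e. A is not k. Then the obstruction space o(A) = Ex_k(A, k) is not zero:
there is a k-extension 0 → k → E → A → 0 of A by its residue field which is not trivial (admits no
k-algebra section). Equivalently, k is the only formally smooth object among local Artinian
k-algebras with residue field k. -/
theorem result
    {k : Type u} [Field k] [IsAlgClosed k]
    {A : Type u} [CommRing A] [Algebra k A] [IsLocalRing A] [IsArtinianRing A]
    (hres : ∀ a : A, ∃ c : k, a - algebraMap k A c ∈ IsLocalRing.maximalIdeal A)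
    (hA : IsLocalRing.maximalIdeal A ≠ ⊥) :
    ∃ X : Exal.Ext k A (IsLocalRing.ResidueField A), ¬ X.IsTrivial := by
  classical
  set m := IsLocalRing.maximalIdeal A with hm
  -- a basis of the cotangent space over `k`
  choose c₀ hc₀ using hres
  haveI : IsNoetherianRing A := inferInstance
  haveI : Module.Finite k m.Cotangent := by
    haveI : Module.Finite k (IsLocalRing.ResidueField A) :=
      Module.Finite.of_surjective (Algebra.linearMap k _) fun z => by
        obtain ⟨a, rfl⟩ := IsLocalRing.residue_surjective z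
        refine ⟨c₀ a, ?_⟩
        rw [Algebra.linearMap_apply, IsScalarTower.algebraMap_apply k A, IsLocalRing.ResidueField.algebraMap_eq]
        exact (Ideal.Quotient.eq.2 (hc₀ a)).symm
    haveI : IsScalarTower k (IsLocalRing.ResidueField A) (IsLocalRing.CotangentSpace A) :=
      IsScalarTower.of_algebraMap_smul fun c x => by
        rw [IsScalarTower.algebraMap_apply k A, algebraMap_smul, algebraMap_smul]
    exact (Module.Finite.trans (IsLocalRing.ResidueField A) (IsLocalRing.CotangentSpace A) :
      Module.Finite k (IsLocalRing.CotangentSpace A))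
  let b := Module.finBasis k m.Cotangent
  choose g hg using fun i => m.toCotangent_surjective (b i)
  let π : MvPolynomial (Fin (Module.finrank k m.Cotangent)) k →ₐ[k] A := MvPolynomial.aeval fun i => (g i : A)
  let ε : MvPolynomial (Fin (Module.finrank k m.Cotangent)) k →+* k := MvPolynomial.constantCoeff
  set M := RingHom.ker ε with hMdef
  have hmem : ∀ f, f - MvPolynomial.C (ε f) ∈ M := fun f => by simp [M, ε, RingHom.mem_ker]
  have hXM : Ideal.span (Set.range MvPolynomial.X) = M := by
    refine le_antisymm (Ideal.span_le.2 ?_) fun f hf => ?_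
    · rintro _ ⟨i, rfl⟩
      simp [M, ε, RingHom.mem_ker]
    · rw [← Set.image_univ, MvPolynomial.mem_ideal_span_X_image]
      intro e he
      by_contra hne
      push Not at hne
      have : e = 0 := Finsupp.ext fun i => hne i trivial
      have h0 : ε f = 0 := hf
      exact MvPolynomial.mem_support_iff.1 he (by rw [this]; exact h0)
  have hπX : ∀ i, π (MvPolynomial.X i) = g i := fun i => MvPolynomial.aeval_X _ _
  have hπM : M ≤ m.comap π.toRingHom := by
    rw [← hXM, Ideal.span_le]
    rintro _ ⟨i, rfl⟩
    change π (MvPolynomial.X i) ∈ m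
    rw [hπX]
    exact (g i).2
  have hπ : Function.Surjective π := by
    have key : ∀ n, ∀ a : A, ∃ f, a - π f ∈ m ^ n := by
      intro n
      induction n with
      | zero => exact fun a => ⟨0, by simp⟩
      | succ n ih =>
        intro a
        suffices H : ∀ z ∈ m ^ n, ∃ f, z - π f ∈ m ^ (n + 1) by
          obtain ⟨f, hf⟩ := ih a
          obtain ⟨f', hf'⟩ := H _ hf
          exact ⟨f + f', by rwa [map_add, ← sub_sub]⟩
        intro z hz
        cases n with
        | zero => exact ⟨MvPolynomial.C (c₀ z), by rw [pow_one]; simpa [π] using hc₀ z⟩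
        | succ n =>
          rw [pow_succ] at hz
          induction hz using Submodule.mul_induction_on' with
          | mem_mul_mem y hy w hw =>
            have hmem' : m.toCotangent ⟨w, hw⟩ ∈ Submodule.span k (Set.range b) := by
              rw [b.span_eq]; trivial
            obtain ⟨co, hco⟩ := (Submodule.mem_span_range_iff_exists_fun k).1 hmem'
            have hw2 : w - π (∑ i, co i • MvPolynomial.X i) ∈ m ^ 2 := by
              have e : m.toCotangent ⟨w, hw⟩ = m.toCotangent (∑ i, co i • g i) := by
                rw [← hco, map_sum]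
                exact Finset.sum_congr rfl fun i _ => by rw [LinearMap.map_smul_of_tower, hg]
              rw [Ideal.toCotangent_eq] at e
              simpa [map_sum, hπX] using e
            obtain ⟨f, hf⟩ : ∃ f, y - π f ∈ m ^ (n + 1) := ih y
            have hπl : π (∑ i, co i • MvPolynomial.X i) ∈ m := by
              simpa [map_sum, hπX] using Submodule.sum_mem m fun i _ => Submodule.smul_of_tower_mem m (co i) (g i).2
            refine ⟨f * ∑ i, co i • MvPolynomial.X i, ?_⟩
            have e : y * w - π (f * ∑ i, co i • MvPolynomial.X i) =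
                y * (w - π (∑ i, co i • MvPolynomial.X i)) + (y - π f) * π (∑ i, co i • MvPolynomial.X i) := by
              rw [map_mul]; ring
            rw [e]
            refine Ideal.add_mem _ ?_ ?_
            · have := Ideal.mul_mem_mul hy hw2
              rwa [← pow_add, show n + 2 = n + 1 + 1 from rfl] at this
            · rw [pow_succ]
              exact Ideal.mul_mem_mul hf hπl
          | add y _ w _ hy hw =>
            obtain ⟨f, hf⟩ := hy
            obtain ⟨f', hf'⟩ := hw
            exact ⟨f + f', by simpa [map_add, add_sub_add_comm] using Ideal.add_mem _ hf hf'⟩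
    obtain ⟨n, hn⟩ : ∃ n, m ^ n = ⊥ := by
      have := IsArtinianRing.isNilpotent_jacobson_bot (R := A)
      rwa [IsLocalRing.jacobson_eq_maximalIdeal ⊥ bot_ne_top] at this
    intro a
    obtain ⟨f, hf⟩ := key n a
    rw [hn, Ideal.mem_bot, sub_eq_zero] at hf
    exact ⟨f, hf.symm⟩
  set J := RingHom.ker π.toRingHom with hJdef
  have hJM : J ≤ M := fun f hf => by
    by_contra hne
    have h1 : π f - algebraMap k A (ε f) ∈ m := by
      have := hπM (hmem f)
      simpa [π] using this
    rw [(RingHom.mem_ker.1 hf : π f = 0), zero_sub, neg_mem_iff] at h1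
    exact h1 ((Units.mk0 (ε f) hne).isUnit.map (algebraMap k A))
  have hJ2 : J ≤ M * M := fun f hf => by
    obtain ⟨co, hco⟩ := (Submodule.mem_span_range_iff_exists_fun _).1 (hXM ▸ hJM hf : f ∈ Ideal.span _)
    have hlin : f - ∑ i, ε (co i) • MvPolynomial.X i ∈ M * M := by
      rw [← hco, ← Finset.sum_sub_distrib]
      refine Submodule.sum_mem _ fun i _ => ?_
      rw [smul_eq_mul, MvPolynomial.smul_eq_C_mul, ← sub_mul]
      exact Ideal.mul_mem_mul (hmem _) (hXM ▸ Ideal.subset_span ⟨i, rfl⟩)
    suffices H : ∀ i, ε (co i) = 0 by simpa [H] using hlin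
    have h2 : π (∑ i, ε (co i) • MvPolynomial.X i) ∈ m ^ 2 := by
      have := Ideal.mem_map_of_mem π.toRingHom hlin
      rw [Ideal.map_mul] at this
      have h' := Ideal.mul_mono (Ideal.map_le_iff_le_comap.2 hπM) (Ideal.map_le_iff_le_comap.2 hπM) this
      change π (f - _) ∈ _ at h'
      rwa [map_sub, (RingHom.mem_ker.1 hf : π f = 0), zero_sub, neg_mem_iff, ← pow_two] at h'
    have h3 : m.toCotangent (∑ i, ε (co i) • g i) = 0 :=
      (Ideal.toCotangent_eq_zero _ _).2 (by simpa [map_sum, hπX] using h2)
    rw [map_sum] at h3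
    simp only [LinearMap.map_smul_of_tower, hg] at h3
    exact Fintype.linearIndependent_iff.1 b.linearIndependent _ h3
  have hJ0 : J ≠ ⊥ := fun h => hA (by
    have e := RingEquiv.ofBijective π.toRingHom ⟨(RingHom.injective_iff_ker_eq_bot _).2 h, hπ⟩
    haveI : IsDomain A := e.symm.toMulEquiv.isDomain
    exact IsLocalRing.isField_iff_maximalIdeal_eq.1 (IsArtinianRing.isField_of_isDomain A))
  have hMJ : ¬ J ≤ M * J := fun h => by
    obtain ⟨r, hr1, hr2⟩ := Submodule.exists_sub_one_mem_and_smul_eq_zero_of_fg_of_le_smul M J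
      (IsNoetherian.noetherian J) h
    obtain ⟨j, hj, hj0⟩ := Submodule.exists_mem_ne_zero_of_ne_bot hJ0
    rcases mul_eq_zero.1 (hr2 j hj) with h' | h'
    · simp [h', M, RingHom.mem_ker] at hr1
    · exact hj0 h'
  obtain ⟨j₁, hj₁, hj₁'⟩ := SetLike.not_le_iff_exists.1 hMJ
  obtain ⟨l₀, hl₀, hl₀U⟩ := Submodule.exists_dual_map_eq_bot_of_notMem
    (p := (M * J).restrictScalars k) (x := j₁) hj₁' inferInstance
  have hl : ∀ g' f, f ∈ J → l₀ (g' * f) = ε g' * l₀ f := fun g' f hf => by
    have h1 : l₀ ((g' - MvPolynomial.C (ε g')) * f) = 0 :=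
      (Submodule.mem_bot k).1 (hl₀U ▸ Submodule.mem_map_of_mem (Ideal.mul_mem_mul (hmem g') hf :))
    rw [sub_mul, map_sub, sub_eq_zero, ← MvPolynomial.smul_eq_C_mul, map_smul] at h1
    exact h1
  let K : Ideal (MvPolynomial (Fin (Module.finrank k m.Cotangent)) k) :=
    { carrier := {f | f ∈ J ∧ l₀ f = 0}
      add_mem' := fun hx hy => ⟨J.add_mem hx.1 hy.1, by rw [map_add, hx.2, hy.2, add_zero]⟩
      zero_mem' := ⟨J.zero_mem, map_zero _⟩
      smul_mem' := fun a f hf => ⟨J.mul_mem_left a hf.1, by rw [smul_eq_mul, hl a f hf.1, hf.2, mul_zero]⟩ }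
  have hKJ : K ≤ J := fun f hf => hf.1
  let q := Ideal.Quotient.liftₐ K π fun f hf => RingHom.mem_ker.1 (hKJ hf)
  let ρ : IsLocalRing.ResidueField A ≃+* k := (RingEquiv.ofBijective (algebraMap k (IsLocalRing.ResidueField A))
    ⟨RingHom.injective _, fun z => by
      obtain ⟨a, rfl⟩ := IsLocalRing.residue_surjective z
      refine ⟨c₀ a, ?_⟩
      rw [IsScalarTower.algebraMap_apply k A, IsLocalRing.ResidueField.algebraMap_eq]
      exact (Ideal.Quotient.eq.2 (hc₀ a)).symm⟩).symm
  let mkK := Ideal.Quotient.mk K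
  let v := mkK j₁
  let inc : IsLocalRing.ResidueField A →+ (MvPolynomial (Fin (Module.finrank k m.Cotangent)) k ⧸ K) :=
    { toFun := fun z => mkK (MvPolynomial.C (ρ z) * j₁)
      map_zero' := by simp
      map_add' := fun z z' => by rw [map_add, map_add, add_mul, map_add] }
  have hker : ∀ f ∈ J, mkK f = mkK (MvPolynomial.C (l₀ f / l₀ j₁) * j₁) := fun f hf =>
    Ideal.Quotient.eq.2 ⟨J.sub_mem hf (J.mul_mem_left _ hj₁), by
      rw [map_sub, hl _ _ hj₁]
      simp [ε, hl₀]⟩
  have hext : Exal.IsExtension q inc :=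
    { proj_surjective := fun a => by obtain ⟨f, rfl⟩ := hπ a; exact ⟨mkK f, rfl⟩
      incl_injective := (injective_iff_map_eq_zero inc).2 fun z hz => by
        have h := ((Ideal.Quotient.eq_zero_iff_mem.1 hz) : _ ∧ _).2
        rw [hl _ _ hj₁] at h
        simpa [ε, hl₀] using h
      exact := fun x => by
        obtain ⟨f, rfl⟩ := Ideal.Quotient.mk_surjective x
        refine ⟨fun hf => ⟨ρ.symm (l₀ f / l₀ j₁), ?_⟩, ?_⟩
        · change mkK (MvPolynomial.C (ρ (ρ.symm (l₀ f / l₀ j₁))) * j₁) = mkK f
          rw [RingEquiv.apply_symm_apply]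
          exact (hker f (RingHom.mem_ker.2 hf)).symm
        · rintro ⟨z, hz⟩
          rw [← hz]
          exact RingHom.mem_ker.1 (J.mul_mem_left _ hj₁)
      mul_incl := fun x z => by
        obtain ⟨f, rfl⟩ := Ideal.Quotient.mk_surjective x
        change mkK f * mkK _ = mkK (MvPolynomial.C (ρ (π f • z)) * j₁)
        rw [← map_mul]
        refine (hker _ (J.mul_mem_left f (J.mul_mem_left _ hj₁))).trans ?_
        have hρ : ρ (π f • z) = ε f * ρ z := by
          rw [Algebra.smul_def, map_mul]
          congr 1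
          rw [← RingEquiv.eq_symm_apply, IsLocalRing.ResidueField.algebraMap_eq]
          change _ = algebraMap k (IsLocalRing.ResidueField A) (ε f)
          rw [IsScalarTower.algebraMap_apply k A, IsLocalRing.ResidueField.algebraMap_eq]
          exact Ideal.Quotient.eq.2 (by have h := hπM (hmem f); simpa [π, hm] using h)
        rw [hρ, hl _ _ (J.mul_mem_left _ hj₁), hl _ _ hj₁]
        simp [ε, hl₀, mul_div_assoc] }
  refine ⟨⟨_, q, inc, hext⟩, ?_⟩
  rintro ⟨σ, hσ⟩
  have hu : ∀ a, ∃ j ∈ J, σ (π a) = mkK (a + j) := fun a => by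
    obtain ⟨f, hf⟩ := Ideal.Quotient.mk_surjective (σ (π a))
    refine ⟨f - a, ?_, by rw [add_sub_cancel]; exact hf.symm⟩
    have h := hσ (π a)
    rw [← hf] at h
    exact RingHom.mem_ker.2 (show π (f - a) = 0 by rw [map_sub, sub_eq_zero]; exact h)
  have hM2 : ∀ f ∈ M * M, σ (π f) = mkK f := by
    intro f hf
    induction hf using Submodule.mul_induction_on' with
    | mem_mul_mem x hx y hy =>
      obtain ⟨j, hj, ej⟩ := hu x
      obtain ⟨j', hj', ej'⟩ := hu y
      rw [map_mul, map_mul, ej, ej']
      refine ((map_mul mkK _ _).symm.trans (Ideal.Quotient.eq.2 ?_))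
      have hz : ∀ g' h', g' ∈ M → h' ∈ J → g' * h' ∈ K := fun g' h' hg' hh' =>
        ⟨J.mul_mem_left _ hh', by rw [hl _ _ hh', RingHom.mem_ker.1 hg', zero_mul]⟩
      have e : (x + j) * (y + j') - x * y = (x + j) * j' + y * j := by ring
      rw [e]
      exact K.add_mem (hz _ _ (M.add_mem hx (hJM hj)) hj') (hz _ _ hy hj)
    | add x _ y _ hx hy => rw [map_add, map_add, map_add, hx, hy]
  have h0 := hM2 j₁ (hJ2 hj₁)
  rw [(RingHom.mem_ker.1 hj₁ : π j₁ = 0), map_zero] at h0
  exact hl₀ ((Ideal.Quotient.eq_zero_iff_mem.1 h0.symm : _ ∧ _).2)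

end Groth.Agent.S11291
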