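import Groth.Statements.S11294
import Mathlib.RingTheory.Ideal.Quotient.Operations

set_option autoImplicit false
universe u
open Deform

namespace Groth.Agent.S11294

open TrivSqZeroExt in
/-- Let P be a commutative ring, J an ideal, and P[ε] the ring of dual numbers over P. First-order
embedded deformations of Spec(P/J) in Spec P, namely ideals J' of P[ε] lifting J (the image of J'
under ε ↦ 0 is J) with P[ε]/J' flat over the dual numbers — flatness being replaced by the condition
that every element of P[ε]/J' annihilated by ε is a multiple of ε (equivalent to flatness over k[ε]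
when P is an algebra over a field k) — are in canonical bijection with Hom_P(J, P/J) =
Hom_{P/J}(J/J^2, P/J), the normal module: to φ corresponds the ideal of all a + εb with a in J and b
reducing to φ(a) modulo J. The first clause says this rule defines exactly one ideal for each φ; the
second says an ideal J' is a flat lift of J precisely when its membership is given by this rule for
some φ. (The published statement is the global one, identifying first-order deformations of a closed
subscheme X of an algebraic scheme Y with H^0(X, N_{X/Y}); this row is the affine computation in its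
proof, valid for every commutative ring P.) -/
theorem result (P : Type u) [CommRing P] (J : Ideal P) :
    (∀ φ : J →ₗ[P] (P ⧸ J), ∃! J' : Ideal (DualNumber P),
        ∀ a b : P, (inl a + inr b : DualNumber P) ∈ J' ↔ ∃ h : a ∈ J, Ideal.Quotient.mk J b = φ ⟨a, h⟩) ∧
    (∀ J' : Ideal (DualNumber P),
      (J'.map (TrivSqZeroExt.fstHom P P P) = J ∧
        ∀ m : DualNumber P ⧸ J', Ideal.Quotient.mk J' DualNumber.eps * m = 0 →
          ∃ m' : DualNumber P ⧸ J', m = Ideal.Quotient.mk J' DualNumber.eps * m') ↔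
      ∃ φ : J →ₗ[P] (P ⧸ J), ∀ a b : P,
        (inl a + inr b : DualNumber P) ∈ J' ↔ ∃ h : a ∈ J, Ideal.Quotient.mk J b = φ ⟨a, h⟩) := by
  classical
  have hz : ∀ z : DualNumber P, (TrivSqZeroExt.inl z.fst + TrivSqZeroExt.inr z.snd : DualNumber P) = z :=
    TrivSqZeroExt.inl_fst_add_inr_snd_eq
  have hfst : ∀ J' : Ideal (DualNumber P), J'.map (TrivSqZeroExt.fstHom P P P) = J ↔
      ∀ a, a ∈ J ↔ ∃ z ∈ J', z.fst = a := fun J' => by
    rw [SetLike.ext_iff]
    refine forall_congr' fun a => ?_
    rw [Ideal.mem_map_iff_of_surjective _ (fun p => ⟨TrivSqZeroExt.inl p, rfl⟩)]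
    exact ⟨fun h => h.symm, fun h => h.symm⟩
  refine ⟨fun φ => ?_, fun J' => ⟨fun hJ' => ?_, ?_⟩⟩
  · refine ⟨{ carrier := {z | ∃ h : z.fst ∈ J, Ideal.Quotient.mk J z.snd = φ ⟨z.fst, h⟩}
              zero_mem' := ⟨J.zero_mem, by
                change Ideal.Quotient.mk J 0 = φ (0 : J)
                rw [map_zero, map_zero]⟩
              add_mem' := ?_
              smul_mem' := ?_ }, fun a b => ?_, fun J' hJ' => Submodule.ext fun z => ?_⟩
    · rintro z z' ⟨h, e⟩ ⟨h', e'⟩
      refine ⟨J.add_mem h h', ?_⟩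
      change Ideal.Quotient.mk J (z.snd + z'.snd) = φ (⟨_, h⟩ + ⟨_, h'⟩)
      rw [map_add, map_add, e, e']
    · rintro c z ⟨h, e⟩
      refine ⟨J.mul_mem_left c.fst h, ?_⟩
      change Ideal.Quotient.mk J (c.fst * z.snd + c.snd * z.fst) = φ (c.fst • ⟨_, h⟩)
      rw [map_add, map_mul, map_mul, Ideal.Quotient.eq_zero_iff_mem.2 h, mul_zero, add_zero, map_smul, ← e]
      rfl
    · simp
    · rw [← hz z, hJ']
      simp
  · obtain ⟨h1, h2⟩ := hJ'
    rw [hfst] at h1
    choose g hg hg1 using fun a : J => (h1 a).1 a.2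
    have hzero : ∀ w ∈ J, (TrivSqZeroExt.inr w : DualNumber P) ∈ J' := by
      intro w hw
      have key : (TrivSqZeroExt.inr w : DualNumber P) = DualNumber.eps * g ⟨w, hw⟩ :=
        TrivSqZeroExt.ext (by simp) (by simp [hg1])
      rw [key]
      exact Ideal.mul_mem_left _ _ (hg _)
    have hred : ∀ z ∈ J', z.fst = 0 → z.snd ∈ J := by
      intro z hz' hz0
      obtain ⟨m', hm'⟩ := h2 (Ideal.Quotient.mk J' (TrivSqZeroExt.inl z.snd)) (by
        rw [← map_mul, Ideal.Quotient.eq_zero_iff_mem]
        convert hz' using 1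
        exact TrivSqZeroExt.ext (by simp [hz0]) (by simp))
      obtain ⟨c, rfl⟩ := Ideal.Quotient.mk_surjective m'
      rw [← map_mul, Ideal.Quotient.eq] at hm'
      exact (h1 _).2 ⟨_, hm', by simp⟩
    have huniq : ∀ (a : J) (z : DualNumber P), z ∈ J' → z.fst = a →
        Ideal.Quotient.mk J z.snd = Ideal.Quotient.mk J (g a).snd := fun a z hz' hza =>
      Ideal.Quotient.eq.2 (hred _ (J'.sub_mem hz' (hg a)) (by rw [TrivSqZeroExt.fst_sub, hza, hg1, sub_self]))
    refine ⟨{ toFun := fun a => Ideal.Quotient.mk J (g a).snd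
              map_add' := fun a a' => ?_
              map_smul' := fun c a => ?_ }, fun a b => ⟨fun h => ?_, ?_⟩⟩
    · rw [← huniq (a + a') _ (J'.add_mem (hg a) (hg a')) (by simp [hg1]), ← map_add]
      simp
    · rw [RingHom.id_apply,
        ← huniq (c • a) _ (J'.mul_mem_left (TrivSqZeroExt.inl c) (hg a)) (by simp [hg1])]
      simp [TrivSqZeroExt.snd_mul]
      rfl
    · have ha : a ∈ J := (h1 a).2 ⟨_, h, by simp⟩
      exact ⟨ha, by simpa using huniq ⟨a, ha⟩ _ h (by simp)⟩
    · rintro ⟨ha, e⟩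
      have hw := hzero (b - (g ⟨a, ha⟩).snd) (Ideal.Quotient.eq.1 e)
      convert J'.add_mem (hg ⟨a, ha⟩) hw using 1
      exact TrivSqZeroExt.ext (by simp [hg1]) (by simp)
  · rintro ⟨φ, hφ⟩
    have h0 : φ ⟨0, J.zero_mem⟩ = 0 := φ.map_zero
    refine ⟨(hfst J').2 fun a => ⟨fun ha => ?_, ?_⟩, fun x hx => ?_⟩
    · obtain ⟨b, hb⟩ := Ideal.Quotient.mk_surjective (φ ⟨a, ha⟩)
      exact ⟨_, (hφ a b).2 ⟨ha, hb⟩, by simp⟩
    · rintro ⟨z, hz', rfl⟩
      exact ((hφ _ _).1 ((hz z).symm ▸ hz')).1
    · obtain ⟨l, rfl⟩ := Ideal.Quotient.mk_surjective x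
      rw [← map_mul, Ideal.Quotient.eq_zero_iff_mem, ← hz (DualNumber.eps * l), hφ] at hx
      obtain ⟨_, hsnd⟩ := hx
      have hlJ : l.fst ∈ J := by
        simp only [TrivSqZeroExt.fst_mul, DualNumber.fst_eps, zero_mul, h0, Ideal.Quotient.eq_zero_iff_mem] at hsnd
        simpa using hsnd
      obtain ⟨q, hq⟩ := Ideal.Quotient.mk_surjective (φ ⟨l.fst, hlJ⟩)
      have hmem : TrivSqZeroExt.inl l.fst + TrivSqZeroExt.inr q ∈ J' := (hφ _ _).2 ⟨hlJ, hq⟩
      refine ⟨Ideal.Quotient.mk J' (TrivSqZeroExt.inl (l.snd - q)), ?_⟩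
      rw [← map_mul, Ideal.Quotient.eq]
      convert hmem using 1
      exact TrivSqZeroExt.ext (by simp) (by simp)

end Groth.Agent.S11294
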