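import Groth.Statements.S11298


set_option autoImplicit false
universe u v
open LocCoh

namespace Groth.Agent.S11298

/-- Let X = Spec B be an affine Noetherian scheme, Z = V(I) a closed subscheme and G a coherent sheaf,
i.e. a finitely generated B-module M, with dual G^v = Hom_B(M, B). If depth_Z(O_X) ≥ 2 then
depth_Z(G^v) ≥ 2. Here the depth along I of a module N is the supremum of the lengths of N-regular
sequences contained in I (and is infinite when I N = N). (The published statement adds that sections
of the dual over X and over X minus Z agree; this row omits that clause.) -/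
theorem result (B : Type u) [CommRing B] [IsNoetherianRing B]
    (I : Ideal B) (M : Type v) [AddCommGroup M] [Module B M] [Module.Finite B M]
    (h : 2 ≤ LocCoh.idealDepth I B) : 2 ≤ LocCoh.idealDepth I (M →ₗ[B] B) := by
  classical
  by_cases htop : I • (⊤ : Submodule B (M →ₗ[B] B)) = ⊤
  · rw [LocCoh.idealDepth, if_pos htop]
    exact le_top
  have hB : ¬ I • (⊤ : Submodule B B) = ⊤ := by
    intro h1
    apply htop
    rw [smul_eq_mul, Ideal.mul_top] at h1
    rw [h1, Submodule.top_smul]
  rw [LocCoh.idealDepth, if_neg hB] at h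
  rw [LocCoh.idealDepth, if_neg htop]
  have h1 : (1 : ℕ∞) < ⨆ (rs : List B) (_ : RingTheory.Sequence.IsWeaklyRegular B rs ∧ ∀ r ∈ rs, r ∈ I),
      (rs.length : ℕ∞) := lt_of_lt_of_le (by norm_num) h
  obtain ⟨rs, hrs⟩ := lt_iSup_iff.mp h1
  obtain ⟨⟨hreg, hmem⟩, hlen⟩ := lt_iSup_iff.mp hrs
  obtain ⟨x, y, tl, rfl⟩ : ∃ x y tl, rs = x :: y :: tl := by
    match rs, hlen with
    | [], hlen => simp at hlen
    | [a], hlen => simp at hlen
    | a :: b :: tl, _ => exact ⟨a, b, tl, rfl⟩
  rw [RingTheory.Sequence.isWeaklyRegular_cons_iff, RingTheory.Sequence.isWeaklyRegular_cons_iff] at hreg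
  obtain ⟨hx, hy, -⟩ := hreg
  refine le_iSup₂_of_le [x, y] ⟨?_, ?_⟩ (by simp)
  · rw [RingTheory.Sequence.isWeaklyRegular_cons_iff, RingTheory.Sequence.isWeaklyRegular_singleton_iff]
    refine ⟨IsSMulRegular.of_right_eq_zero_of_smul fun φ hφ => LinearMap.ext fun m =>
      hx.right_eq_zero_of_smul (congr($hφ m)), IsSMulRegular.of_right_eq_zero_of_smul fun q hq => ?_⟩
    obtain ⟨φ, rfl⟩ := Submodule.Quotient.mk_surjective _ q
    rw [← Submodule.Quotient.mk_smul, Submodule.Quotient.mk_eq_zero] at hq
    obtain ⟨ψ, -, hψ⟩ := hq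
    have hdiv : ∀ m, ∃ b : B, x • b = φ m := by
      intro m
      have h2 : (Submodule.Quotient.mk (φ m) : QuotSMulTop x B) = 0 := by
        refine hy.right_eq_zero_of_smul ?_
        rw [← Submodule.Quotient.mk_smul, Submodule.Quotient.mk_eq_zero]
        exact ⟨ψ m, Submodule.mem_top, congr($hψ m)⟩
      rw [Submodule.Quotient.mk_eq_zero] at h2
      obtain ⟨b, -, hb⟩ := h2
      exact ⟨b, hb⟩
    choose f hf using hdiv
    rw [Submodule.Quotient.mk_eq_zero]
    refine ⟨{ toFun := f, map_add' := fun a b => hx ?_, map_smul' := fun r a => hx ?_ },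
      Submodule.mem_top, LinearMap.ext hf⟩
    · change x • f (a + b) = x • (f a + f b)
      rw [smul_add, hf, hf, hf, map_add]
    · change x • f (r • a) = x • (r • f a)
      rw [hf, smul_comm x r, hf, map_smul]
  · intro r hr
    exact hmem r (by simp at hr ⊢; tauto)

end Groth.Agent.S11298
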