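import Groth.Statements.S11299
import Mathlib

set_option autoImplicit false
universe u
open CAlg

namespace Groth.Agent.S11299

/-- The second cotangent module does not depend on the presentation: let P be a commutative ring, J an
ideal and B = P/J. For a presentation of J, i.e. a finitely generated free P-module F with a
P-linear map j : F → P with image J, let R = ker j be the relation module and R^tr ⊆ R the span of
the trivial relations j(u) • v - j(v) • u; the module T^2 of the presentation is the quotient of
Hom_B(R/R^tr, B), realised as the P-linear maps R → P/J vanishing on R^tr, by the restrictions to R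
of the P-linear maps F → P/J (here: the image of that submodule in the quotient of Hom_P(R, P/J) by
the restrictions). Then for two presentations (F, j) and (F', j') of the same ideal J the two
modules T^2 are isomorphic as P-modules (existence of an isomorphism; the comparison maps depend on
expressing one system of generators through the other). (The published statement takes B essentially
of finite type over a field and P smooth; this row allows any commutative ring P and ideal J.) -/
theorem result (P : Type u) [CommRing P] (J : Ideal P)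
    (F : Type u) [AddCommGroup F] [Module P F] [Module.Free P F] [Module.Finite P F]
    (F' : Type u) [AddCommGroup F'] [Module P F'] [Module.Free P F'] [Module.Finite P F']
    (j : F →ₗ[P] P) (j' : F' →ₗ[P] P) (hj : LinearMap.range j = J) (hj' : LinearMap.range j' = J) :
    Nonempty (↥(Submodule.map
          (LinearMap.range (LinearMap.lcomp P (P ⧸ J) (LinearMap.ker j).subtype)).mkQ
          (LinearMap.ker (LinearMap.lcomp P (P ⧸ J)
            (Submodule.comap (LinearMap.ker j).subtype
              (Submodule.span P {y : F | ∃ u v : F, y = j u • v - j v • u})).subtype))) ≃ₗ[P]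
      ↥(Submodule.map
          (LinearMap.range (LinearMap.lcomp P (P ⧸ J) (LinearMap.ker j').subtype)).mkQ
          (LinearMap.ker (LinearMap.lcomp P (P ⧸ J)
            (Submodule.comap (LinearMap.ker j').subtype
              (Submodule.span P {y : F' | ∃ u v : F', y = j' u • v - j' v • u})).subtype)))) := by
  obtain ⟨φ, hφ⟩ := Module.projective_lifting_property j'.rangeRestrict
    (LinearMap.codRestrict (LinearMap.range j') j fun x => by rw [hj', ← hj]; exact LinearMap.mem_range_self j x)
    j'.surjective_rangeRestrict
  obtain ⟨ψ, hψ⟩ := Module.projective_lifting_property j.rangeRestrict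
    (LinearMap.codRestrict (LinearMap.range j) j' fun x => by rw [hj, ← hj']; exact LinearMap.mem_range_self j' x)
    j.surjective_rangeRestrict
  have hφ' : ∀ x, j' (φ x) = j x := fun x => congrArg Subtype.val (LinearMap.congr_fun hφ x)
  have hψ' : ∀ x, j (ψ x) = j' x := fun x => congrArg Subtype.val (LinearMap.congr_fun hψ x)
  let φ₀ : LinearMap.ker j →ₗ[P] LinearMap.ker j' := φ.restrict fun x hx => by
    rw [LinearMap.mem_ker] at hx ⊢; rw [hφ', hx]
  let ψ₀ : LinearMap.ker j' →ₗ[P] LinearMap.ker j := ψ.restrict fun x hx => by
    rw [LinearMap.mem_ker] at hx ⊢; rw [hψ', hx]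
  let res := LinearMap.range (LinearMap.lcomp P (P ⧸ J) (LinearMap.ker j).subtype)
  let res' := LinearMap.range (LinearMap.lcomp P (P ⧸ J) (LinearMap.ker j').subtype)
  let A := Submodule.mapQ res res' (LinearMap.lcomp P (P ⧸ J) ψ₀) (by
    rintro _ ⟨g, rfl⟩
    exact ⟨g.comp ψ, LinearMap.ext fun x => rfl⟩)
  let B := Submodule.mapQ res' res (LinearMap.lcomp P (P ⧸ J) φ₀) (by
    rintro _ ⟨g, rfl⟩
    exact ⟨g.comp φ, LinearMap.ext fun x => rfl⟩)
  have hBA : ∀ z, B (A z) = z := by
    intro z
    obtain ⟨f, rfl⟩ := Submodule.mkQ_surjective res z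
    simp only [A, B, Submodule.mkQ_apply, Submodule.mapQ_apply]
    rw [Submodule.Quotient.eq]
    refine ⟨f.comp (LinearMap.codRestrict (LinearMap.ker j) (ψ.comp φ - LinearMap.id) fun x => ?_),
      LinearMap.ext fun x => ?_⟩
    · simp [hψ', hφ']
    · show f _ = f (ψ₀ (φ₀ x)) - f x
      rw [← map_sub]
      rfl
  have hAB : ∀ z, A (B z) = z := by
    intro z
    obtain ⟨f, rfl⟩ := Submodule.mkQ_surjective res' z
    simp only [A, B, Submodule.mkQ_apply, Submodule.mapQ_apply]
    rw [Submodule.Quotient.eq]
    refine ⟨f.comp (LinearMap.codRestrict (LinearMap.ker j') (φ.comp ψ - LinearMap.id) fun x => ?_),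
      LinearMap.ext fun x => ?_⟩
    · simp [hψ', hφ']
    · show f _ = f (φ₀ (ψ₀ x)) - f x
      rw [← map_sub]
      rfl
  have hA : ∀ z, z ∈ Submodule.map res.mkQ (LinearMap.ker (LinearMap.lcomp P (P ⧸ J)
            (Submodule.comap (LinearMap.ker j).subtype
              (Submodule.span P {y : F | ∃ u v : F, y = j u • v - j v • u})).subtype)) →
      A z ∈ Submodule.map res'.mkQ (LinearMap.ker (LinearMap.lcomp P (P ⧸ J)
            (Submodule.comap (LinearMap.ker j').subtype
              (Submodule.span P {y : F' | ∃ u v : F', y = j' u • v - j' v • u})).subtype)) := by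
    rintro _ ⟨f, hf, rfl⟩
    refine ⟨f.comp ψ₀, LinearMap.mem_ker.2 (LinearMap.ext fun y => ?_), rfl⟩
    show f (ψ₀ y.1) = 0
    have hy : ψ y.1.1 ∈ Submodule.span P {y : F | ∃ u v : F, y = j u • v - j v • u} := by
      have := Submodule.mem_map_of_mem (f := ψ) (Submodule.mem_comap.1 y.2)
      rw [Submodule.map_span] at this
      refine Submodule.span_mono ?_ this
      rintro _ ⟨_, ⟨u, v, rfl⟩, rfl⟩
      exact ⟨ψ u, ψ v, by simp [hψ']⟩
    exact LinearMap.congr_fun (LinearMap.mem_ker.1 hf) ⟨ψ₀ y.1, hy⟩
  have hB : ∀ z, z ∈ Submodule.map res'.mkQ (LinearMap.ker (LinearMap.lcomp P (P ⧸ J)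
            (Submodule.comap (LinearMap.ker j').subtype
              (Submodule.span P {y : F' | ∃ u v : F', y = j' u • v - j' v • u})).subtype)) →
      B z ∈ Submodule.map res.mkQ (LinearMap.ker (LinearMap.lcomp P (P ⧸ J)
            (Submodule.comap (LinearMap.ker j).subtype
              (Submodule.span P {y : F | ∃ u v : F, y = j u • v - j v • u})).subtype)) := by
    rintro _ ⟨f, hf, rfl⟩
    refine ⟨f.comp φ₀, LinearMap.mem_ker.2 (LinearMap.ext fun y => ?_), rfl⟩
    show f (φ₀ y.1) = 0
    have hy : φ y.1.1 ∈ Submodule.span P {y : F' | ∃ u v : F', y = j' u • v - j' v • u} := by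
      have := Submodule.mem_map_of_mem (f := φ) (Submodule.mem_comap.1 y.2)
      rw [Submodule.map_span] at this
      refine Submodule.span_mono ?_ this
      rintro _ ⟨_, ⟨u, v, rfl⟩, rfl⟩
      exact ⟨φ u, φ v, by simp [hφ']⟩
    exact LinearMap.congr_fun (LinearMap.mem_ker.1 hf) ⟨φ₀ y.1, hy⟩
  exact ⟨{ toFun := fun z => ⟨A z.1, hA z.1 z.2⟩
           map_add' := fun a b => Subtype.ext (map_add A _ _)
           map_smul' := fun c a => Subtype.ext (map_smul A c _)
           invFun := fun z => ⟨B z.1, hB z.1 z.2⟩
           left_inv := fun z => Subtype.ext (hBA z.1)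
           right_inv := fun z => Subtype.ext (hAB z.1) }⟩

end Groth.Agent.S11299
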