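import Groth.Statements.S11302
import Groth.Agent.CotT85.Koszul

set_option autoImplicit false
universe u
open Deform

namespace Groth.Agent.S11302

open MvPolynomial in
/-- T^1 of a complete intersection; the hypersurface case P/(f, ∂f/∂X_1, ..., ∂f/∂X_d) is n = 1: let k
be an algebraically closed field, P = k[X_1, ..., X_d], f_1, ..., f_n a regular sequence in P (each
f_i a non-zero-divisor modulo the preceding ones), J the ideal they generate and B = P/J. The first
cotangent module T^1_B — the cokernel of Der_k(P, B) → Hom_P(J, B), a derivation being restricted to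
J — is isomorphic, as a P-module, to B^n modulo the B-submodule generated by the d columns
(∂f_1/∂X_j, ..., ∂f_n/∂X_j), j = 1, ..., d, of the Jacobian matrix reduced modulo J, through the map
sending the class of φ : J → B to the class of (φ(f_1), ..., φ(f_n)). (The published formula allows
P to be a localisation of the polynomial ring; this row takes the polynomial ring.) -/
theorem result (k : Type u) [Field k] [IsAlgClosed k] (d n : ℕ)
    (f : Fin n → MvPolynomial (Fin d) k) (hreg : RingTheory.Sequence.IsWeaklyRegular (MvPolynomial (Fin d) k) (List.ofFn f)) :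
    ∃ e : ((↥(Ideal.span (Set.range f)) →ₗ[MvPolynomial (Fin d) k] (MvPolynomial (Fin d) k ⧸ Ideal.span (Set.range f))) ⧸
            Submodule.span (MvPolynomial (Fin d) k)
              {ψ : ↥(Ideal.span (Set.range f)) →ₗ[MvPolynomial (Fin d) k] (MvPolynomial (Fin d) k ⧸ Ideal.span (Set.range f)) |
                ∃ D : Derivation k (MvPolynomial (Fin d) k) (MvPolynomial (Fin d) k ⧸ Ideal.span (Set.range f)), ∀ a : ↥(Ideal.span (Set.range f)), ψ a = D (a : MvPolynomial (Fin d) k)}) ≃ₗ[MvPolynomial (Fin d) k]
          ((Fin n → MvPolynomial (Fin d) k ⧸ Ideal.span (Set.range f)) ⧸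
            Submodule.span (MvPolynomial (Fin d) k ⧸ Ideal.span (Set.range f))
              (Set.range fun j : Fin d => fun i : Fin n => Ideal.Quotient.mk (Ideal.span (Set.range f)) (pderiv j (f i)))),
      ∀ φ : ↥(Ideal.span (Set.range f)) →ₗ[MvPolynomial (Fin d) k] (MvPolynomial (Fin d) k ⧸ Ideal.span (Set.range f)),
        e (Submodule.Quotient.mk φ) =
          Submodule.Quotient.mk (fun i : Fin n => φ ⟨f i, Ideal.subset_span (Set.mem_range_self i)⟩) := by
  classical
  let J : Ideal (MvPolynomial (Fin d) k) := Ideal.span (Set.range f)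
  let Bq := MvPolynomial (Fin d) k ⧸ J
  let N : Submodule Bq (Fin n → Bq) :=
    Submodule.span Bq (Set.range fun j : Fin d => fun i : Fin n => Ideal.Quotient.mk J (pderiv j (f i)))
  -- regularity in the form used for the relations
  have hregular : ∀ i : Fin n, ∀ r : MvPolynomial (Fin d) k,
      r * f i ∈ Ideal.span (f '' {j | j < i}) → r ∈ Ideal.span (f '' {j | j < i}) := by
    intro i r hr
    have himg : Ideal.ofList ((List.ofFn f).take i) = Ideal.span (f '' {j | j < i}) := by
      rw [Ideal.ofList]
      congr 1
      ext y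
      rw [Set.mem_setOf_eq, List.mem_take_iff_getElem]
      constructor
      · rintro ⟨j, hj, rfl⟩
        exact ⟨⟨j, by rw [List.length_ofFn] at hj; omega⟩, show j < (i : ℕ) by omega, by rw [List.getElem_ofFn]⟩
      · rintro ⟨j, hj, rfl⟩
        have hj' : (j : ℕ) < i := hj
        exact ⟨j, by rw [List.length_ofFn]; omega, by rw [List.getElem_ofFn]⟩
    have h1 := hreg.regular_mod_prev i (by rw [List.length_ofFn]; exact i.2)
    rw [isSMulRegular_quotient_iff_mem_of_smul_mem] at h1
    have h2 := h1 r (by
      rw [smul_eq_mul, smul_eq_mul, Ideal.mul_top, himg, List.getElem_ofFn, mul_comm]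
      exact hr)
    rwa [smul_eq_mul, Ideal.mul_top, himg] at h2
  have hsm : ∀ (r : MvPolynomial (Fin d) k) (y : Bq), r • y = Ideal.Quotient.mk J r * y := by
    intro r y
    obtain ⟨z, rfl⟩ := Ideal.Quotient.mk_surjective y
    rfl
  let ev : (↥J →ₗ[MvPolynomial (Fin d) k] Bq) →ₗ[MvPolynomial (Fin d) k] ((Fin n → Bq) ⧸ N) :=
    { toFun := fun φ => Submodule.Quotient.mk fun i => φ ⟨f i, Ideal.subset_span (Set.mem_range_self i)⟩
      map_add' := fun _ _ => rfl
      map_smul' := fun _ _ => rfl }
  have hsurj : Function.Surjective ev := by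
    intro x
    obtain ⟨v, rfl⟩ := Submodule.Quotient.mk_surjective _ x
    let l : (Fin n →₀ MvPolynomial (Fin d) k) →ₗ[MvPolynomial (Fin d) k] ↥J :=
      LinearMap.codRestrict J (Finsupp.linearCombination (MvPolynomial (Fin d) k) f)
        (fun c => by
          have := LinearMap.mem_range_self (Finsupp.linearCombination (MvPolynomial (Fin d) k) f) c
          rwa [Finsupp.range_linearCombination] at this)
    have hl : Function.Surjective l := by
      rintro ⟨a, ha⟩
      have ha' : a ∈ Submodule.span (MvPolynomial (Fin d) k) (Set.range f) := ha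
      rw [← Finsupp.range_linearCombination] at ha'
      obtain ⟨c, hc⟩ := ha'
      exact ⟨c, Subtype.ext hc⟩
    let q : (Fin n →₀ MvPolynomial (Fin d) k) →ₗ[MvPolynomial (Fin d) k] Bq :=
      Finsupp.linearCombination (MvPolynomial (Fin d) k) v
    have hle : LinearMap.ker l ≤ LinearMap.ker q := by
      intro c hc
      have hc' : Finsupp.linearCombination (MvPolynomial (Fin d) k) f c = 0 := congrArg Subtype.val hc
      have hk := CotT85.mem_koszul_of_weaklyRegular f hregular c hc'
      refine (Submodule.span_le.2 ?_ : CotT85.koszul f ≤ LinearMap.ker q) hk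
      rintro _ ⟨a, b, rfl⟩
      have hJ : ∀ (a : Fin n →₀ MvPolynomial (Fin d) k) (y : Bq),
          Finsupp.linearCombination (MvPolynomial (Fin d) k) f a • y = 0 := by
        intro a y
        have hmem : Finsupp.linearCombination (MvPolynomial (Fin d) k) f a ∈ J := (l a).2
        rw [hsm, Ideal.Quotient.eq_zero_iff_mem.2 hmem, zero_mul]
      rw [SetLike.mem_coe, LinearMap.mem_ker, map_sub, map_smul, map_smul, hJ, hJ, sub_zero]
    refine ⟨(LinearMap.ker l).liftQ q hle ∘ₗ (l.quotKerEquivOfSurjective hl).symm.toLinearMap,
      congrArg Submodule.Quotient.mk (funext fun i => ?_)⟩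
    have he : (l.quotKerEquivOfSurjective hl).symm ⟨f i, Ideal.subset_span (Set.mem_range_self i)⟩ =
        Submodule.Quotient.mk (Finsupp.single i 1) := by
      rw [LinearEquiv.symm_apply_eq]
      apply Subtype.ext
      change f i = Finsupp.linearCombination (MvPolynomial (Fin d) k) f (Finsupp.single i 1)
      rw [Finsupp.linearCombination_single, one_smul]
    rw [LinearMap.comp_apply, LinearEquiv.coe_coe, he, Submodule.liftQ_apply]
    simp only [q, Finsupp.linearCombination_single, one_smul]
  have hform : ∀ (D : Derivation k (MvPolynomial (Fin d) k) Bq) (p : MvPolynomial (Fin d) k),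
      D p = ∑ j, D (X j) * Ideal.Quotient.mk J (pderiv j p) := by
    intro D p
    induction p using MvPolynomial.induction_on with
    | C a =>
      rw [← MvPolynomial.algebraMap_eq, Derivation.map_algebraMap]
      simp
    | add p q hp hq => simp only [map_add, hp, hq, mul_add, Finset.sum_add_distrib]
    | mul_X p i hp =>
      rw [Derivation.leibniz, hp, hsm, hsm]
      have hterm : ∀ j, D (X j) * Ideal.Quotient.mk J (pderiv j (p * X i)) =
          D (X j) * Ideal.Quotient.mk J p * Ideal.Quotient.mk J (pderiv j (X i)) +
            Ideal.Quotient.mk J (X i) * (D (X j) * Ideal.Quotient.mk J (pderiv j p)) := by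
        intro j
        rw [Derivation.leibniz, smul_eq_mul, smul_eq_mul, map_add, map_mul, map_mul]
        ring
      rw [Finset.sum_congr rfl fun j _ => hterm j, Finset.sum_add_distrib, ← Finset.mul_sum]
      congr 1
      rw [Finset.sum_eq_single i]
      · rw [pderiv_X_self, map_one, mul_one, mul_comm]
      · intro j _ hj
        rw [pderiv_X_of_ne (Ne.symm hj), map_zero, mul_zero]
      · intro h
        exact absurd (Finset.mem_univ i) h
  have hker : LinearMap.ker ev = Submodule.span (MvPolynomial (Fin d) k)
      {ψ : ↥J →ₗ[MvPolynomial (Fin d) k] Bq |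
        ∃ D : Derivation k (MvPolynomial (Fin d) k) Bq, ∀ a : ↥J, ψ a = D (a : MvPolynomial (Fin d) k)} := by
    refine le_antisymm (fun φ hφ => ?_) (Submodule.span_le.2 ?_)
    · have hmem : (fun i => φ ⟨f i, Ideal.subset_span (Set.mem_range_self i)⟩) ∈ N :=
        (Submodule.Quotient.mk_eq_zero _).1 hφ
      obtain ⟨b, hb⟩ := (Submodule.mem_span_range_iff_exists_fun Bq).1 hmem
      let D : Derivation k (MvPolynomial (Fin d) k) Bq := MvPolynomial.mkDerivation k b
      refine Submodule.subset_span ⟨D, ?_⟩
      intro a
      rcases a with ⟨a, ha⟩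
      induction ha using Submodule.span_induction with
      | mem y hy =>
        obtain ⟨i, rfl⟩ := hy
        rw [hform D, ← congrFun hb i, Finset.sum_apply]
        refine Finset.sum_congr rfl fun j _ => ?_
        rw [MvPolynomial.mkDerivation_X]
        rfl
      | zero => exact (map_zero φ).trans (map_zero D).symm
      | add x y hx hy ex ey =>
        exact (φ.map_add ⟨x, hx⟩ ⟨y, hy⟩).trans ((congrArg₂ (· + ·) ex ey).trans (map_add D x y).symm)
      | smul r x hx ex =>
        have h0 : (x : MvPolynomial (Fin d) k) • D r = 0 := by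
          rw [hsm, Ideal.Quotient.eq_zero_iff_mem.2 hx, zero_mul]
        refine (φ.map_smul r ⟨x, hx⟩).trans ?_
        rw [ex]
        change r • D x = D (r * x)
        rw [Derivation.leibniz, h0, add_zero]
    · rintro ψ ⟨D, hD⟩
      refine (Submodule.Quotient.mk_eq_zero _).2 ?_
      rw [show (fun i => ψ ⟨f i, Ideal.subset_span (Set.mem_range_self i)⟩) =
        ∑ j, D (X j) • (fun i : Fin n => Ideal.Quotient.mk J (pderiv j (f i))) from ?_]
      · exact Submodule.sum_mem _ fun j _ => Submodule.smul_mem _ _ (Submodule.subset_span ⟨j, rfl⟩)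
      · funext i
        rw [hD, hform D, Finset.sum_apply]
        rfl
  exact ⟨(Submodule.quotEquivOfEq _ _ hker.symm).trans (ev.quotKerEquivOfSurjective hsurj), fun φ => rfl⟩

end Groth.Agent.S11302
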