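import Groth.Statements.S11306
import Mathlib

set_option autoImplicit false
universe u
open TensorProduct
open CAlg

namespace Groth.Agent.S11306

/-- Take a Noetherian local domain A, with residue field k and fraction field K, and let M be a finitely
generated A-module. If k ⊗_A M and K ⊗_A M have the same dimension r (over k and over K
respectively), then M is a free A-module of rank r. -/
theorem result (A : Type u) [CommRing A] [IsDomain A]
    [IsNoetherianRing A] [IsLocalRing A] (M : Type u) [AddCommGroup M] [Module A M] [Module.Finite A M] (r : ℕ)
    (hk : Module.finrank (IsLocalRing.ResidueField A) (IsLocalRing.ResidueField A ⊗[A] M) = r)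
    (hK : Module.finrank (FractionRing A) (FractionRing A ⊗[A] M) = r) :
    Module.Free A M ∧ Module.finrank A M = r := by
  let b := (Module.finBasisOfFinrankEq (IsLocalRing.ResidueField A) _ hk)
  have hsurj : Function.Surjective (TensorProduct.mk A (IsLocalRing.ResidueField A) M 1) :=
    TensorProduct.mk_surjective A M (IsLocalRing.ResidueField A) Ideal.Quotient.mk_surjective
  choose m hm using fun i => hsurj (b i)
  have htop := IsLocalRing.span_eq_top_of_tmul_eq_basis m b hm
  let g := Fintype.linearCombination A m
  have hg : Function.Surjective g := by
    rw [← LinearMap.range_eq_top, Fintype.range_linearCombination, htop]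
  let gK : (FractionRing A ⊗[A] (Fin r → A)) →ₗ[FractionRing A] (FractionRing A ⊗[A] M) := g.baseChange (FractionRing A)
  have hgK : Function.Surjective gK := LinearMap.lTensor_surjective _ hg
  have hdim : Module.finrank (FractionRing A) (FractionRing A ⊗[A] (Fin r → A)) = Module.finrank (FractionRing A) (FractionRing A ⊗[A] M) := by
    rw [hK, Module.finrank_baseChange, Module.finrank_fin_fun]
  have hinj : Function.Injective gK := (LinearMap.injective_iff_surjective_of_finrank_eq_finrank hdim).2 hgK
  have hgi : Function.Injective g := by
    intro x y hxy
    have : (1 : FractionRing A) ⊗ₜ[A] x = 1 ⊗ₜ[A] y := hinj (by simp [gK, hxy])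
    have hmk : Function.Injective ((TensorProduct.mk A (FractionRing A) (Fin r → A)) 1) := by
      have : Function.Injective (LinearMap.rTensor (Fin r → A) (Algebra.linearMap A (FractionRing A))) :=
        Module.Flat.rTensor_preserves_injective_linearMap _ (IsFractionRing.injective A (FractionRing A))
      have h2 : ((TensorProduct.mk A (FractionRing A) (Fin r → A)) 1) = (LinearMap.rTensor (Fin r → A) (Algebra.linearMap A (FractionRing A))) ∘ₗ (TensorProduct.lid A (Fin r → A)).symm.toLinearMap := by
        refine LinearMap.ext fun z => ?_; simp
      rw [h2, LinearMap.coe_comp, LinearEquiv.coe_coe]; exact this.comp (TensorProduct.lid A (Fin r → A)).symm.injective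
    exact hmk this
  let e := LinearEquiv.ofBijective g ⟨hgi, hg⟩
  have : Module.Free A M := Module.Free.of_equiv e
  exact ⟨this, by rw [← e.finrank_eq, Module.finrank_fin_fun]⟩

end Groth.Agent.S11306
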