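import Groth.Statements.S11317
import Groth.Agent.PDual19.ExtPowDual
import Groth.Agent.PDual19.SmoothDual
import Groth.Agent.FBase64.ExtPow.Exists
import Groth.Agent.KRR40.LamPull

set_option autoImplicit false
universe u
open CategoryTheory CategoryTheory.Limits AlgebraicGeometry
open ProjDual

namespace Groth.Agent.S11317

/-- Let k be an algebraically closed field and X a nonsingular projective variety of dimension n over k
— an integral k-scheme, smooth of relative dimension n over k, with a closed immersion into some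
P^N_k over k. Let p, q ≤ n and let L and L' be O_X-modules which are a p-th, respectively an
(n-p)-th, exterior power of the sheaf of differentials of X over k. Then H^q(X, L) and H^(n-q)(X,
L') have the same dimension over k: h^q(Ω^p) = h^(n-q)(Ω^(n-p)). (The published statement gives a
natural isomorphism of H^q(X, Ω^p) with the dual of H^(n-q)(X, Ω^(n-p)); this row records the
equality of dimensions.) -/
theorem result (k : Type u) [Field k] [IsAlgClosed k] (n N : ℕ)
    (X : Scheme.{u}) [X.Over (Spec (CommRingCat.of k))] [IsIntegral X]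
    [SmoothOfRelativeDimension n (X ↘ Spec (CommRingCat.of k))]
    (ι : X ⟶ CohB1.ProjSpace N k) [IsClosedImmersion ι] (hι : ι ≫ CohB1.ProjSpace.toSpec N k = X ↘ Spec (CommRingCat.of k))
    (p q : ℕ) (hp : p ≤ n) (hq : q ≤ n) (L L' : X.Modules)
    (hL : ExtPow.IsExtPow p (Omega.sheaf (X ↘ Spec (CommRingCat.of k))) L)
    (hL' : ExtPow.IsExtPow (n - p) (Omega.sheaf (X ↘ Spec (CommRingCat.of k))) L') :
    Module.finrank k (Coh.HH X L q) = Module.finrank k (Coh.HH X L' (n - q)) := by
  haveI := Groth.Agent.PDual19.SmoothDual.isProper_sub k N X ι hι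
  haveI := LGlob19.isLocallyNoetherian_sub k N ι
  haveI : (Omega.sheaf (X ↘ Spec (CommRingCat.of k))).IsQuasicoherent := Omega57.isQuasicoherent_omega _
  have hE : FlatMod.IsFinLocFreeOfRank n (Omega.sheaf (X ↘ Spec (CommRingCat.of k))) :=
    Om3.TopForms.isFinLocFreeOfRank_omega (X ↘ Spec (CommRingCat.of k)) n
  have hEf : FlatMod.IsFinLocFree (Omega.sheaf (X ↘ Spec (CommRingCat.of k))) :=
    fun x => (hE x).imp fun U hU => ⟨n, hU⟩
  obtain ⟨W, hW⟩ := FBase64.ExtPowExists.exists_isExtPow (Omega.sheaf (X ↘ Spec (CommRingCat.of k))) n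
  obtain ⟨e⟩ := Groth.Agent.PDual19.nonempty_extPow_iso_hom hE (Nat.add_sub_cancel' hp) hL hL' hW
  have hLf := KRR40.vb_extPow hEf hL
  obtain ⟨a⟩ := Groth.Agent.PDual19.SmoothDual.nonempty_dual_equiv k n N X ι hι W hW L hLf q hq
  haveI := Groth.Agent.PDual19.SmoothDual.finite_hh k N X ι hι L
    ⟨Props58.LocFree.isQuasicoherent_of_isFinLocFree hLf, Props58.LocFree.isFiniteType_of_isFinLocFree hLf⟩ q
  rw [← Subspace.dual_finrank_eq, a.finrank_eq]
  exact (Crv77.hEquiv k e (n - q)).finrank_eq.symm

end Groth.Agent.S11317
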