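import Groth.Statements.S11318
-- import your own Groth.Agent.* helpers here

set_option autoImplicit false
universe u
open CategoryTheory AlgebraicGeometry
open ProjDual

namespace Groth.Agent.S11318

/-- Let k be a field, X a proper k-scheme of dimension n, and (ω, t), (ω', t') two dualizing sheaves for
X: each is a coherent O_X-module with a k-linear map on its n-th cohomology to k such that for every
coherent F and every k-linear form ψ on H^n(X, F) there is exactly one morphism from F into it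
through which ψ factors. Then there is exactly one morphism φ : ω → ω' with t = t' ∘ H^n(φ), and
this φ is an isomorphism. -/
theorem result (k : Type u) [Field k] (X : Scheme.{u}) [X.Over (Spec (CommRingCat.of k))]
    [IsProper (X ↘ Spec (CommRingCat.of k))] (n : ℕ) (hn : topologicalKrullDim ↥X = n)
    (ω ω' : X.Modules) (hω : Coh.IsCoh ω) (hω' : Coh.IsCoh ω')
    (t : Coh.HH X ω n →ₗ[k] k) (t' : Coh.HH X ω' n →ₗ[k] k)
    (hd : ∀ F : X.Modules, Coh.IsCoh F → ∀ ψ : Coh.HH X F n →ₗ[k] k,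
        ∃! φ : F ⟶ ω, ∀ x : Coh.HH X F n,
          ψ x = t (Sheaf.H.map ((SheafOfModules.toSheaf X.ringCatSheaf).map φ) n x))
    (hd' : ∀ F : X.Modules, Coh.IsCoh F → ∀ ψ : Coh.HH X F n →ₗ[k] k,
        ∃! φ : F ⟶ ω', ∀ x : Coh.HH X F n,
          ψ x = t' (Sheaf.H.map ((SheafOfModules.toSheaf X.ringCatSheaf).map φ) n x)) :
    ∃ φ : ω ⟶ ω', IsIso φ ∧
      (∀ x : Coh.HH X ω n, t x = t' (Sheaf.H.map ((SheafOfModules.toSheaf X.ringCatSheaf).map φ) n x)) ∧
      ∀ ψ : ω ⟶ ω', (∀ x : Coh.HH X ω n, t x = t' (Sheaf.H.map ((SheafOfModules.toSheaf X.ringCatSheaf).map ψ) n x)) → ψ = φ := by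
  let H := fun {A B : X.Modules} (φ : A ⟶ B) => Sheaf.H.map ((SheafOfModules.toSheaf X.ringCatSheaf).map φ) n
  obtain ⟨φ, hφ, hφu⟩ := hd' ω hω t
  obtain ⟨ψ, hψ, -⟩ := hd ω' hω' t'
  obtain ⟨a, -, ha⟩ := hd ω hω t
  obtain ⟨b, -, hb⟩ := hd' ω' hω' t'
  have hid : ∀ (A : X.Modules) (x : Coh.HH X A n), H (𝟙 A) x = x := fun A x => by
    change Sheaf.H.map ((SheafOfModules.toSheaf X.ringCatSheaf).map (𝟙 A)) n x = x
    erw [CategoryTheory.Functor.map_id]
    exact Sheaf.H.map_id_apply x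
  have hcomp : ∀ {A B C : X.Modules} (p : A ⟶ B) (q : B ⟶ C) (x : Coh.HH X A n),
      H (p ≫ q) x = H q (H p x) := fun p q x => by
    change Sheaf.H.map ((SheafOfModules.toSheaf X.ringCatSheaf).map (p ≫ q)) n x = _
    erw [CategoryTheory.Functor.map_comp]
    exact Sheaf.H.map_comp_apply _ _ x
  refine ⟨φ, ⟨ψ, ?_, ?_⟩, hφ, hφu⟩
  · refine (ha _ fun x => ?_).trans (ha _ fun x => ?_).symm
    · rw [hcomp φ ψ x, ← hψ]; exact hφ x
    · rw [hid]
  · refine (hb _ fun x => ?_).trans (hb _ fun x => ?_).symm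
    · rw [hcomp ψ φ x, ← hφ]; exact hψ x
    · rw [hid]

end Groth.Agent.S11318
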