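import Groth.Statements.S11320
import Groth.Agent.TopCoh49.ColimSec

set_option autoImplicit false
universe u
open CategoryTheory CategoryTheory.Limits
open CohTop

namespace Groth.Agent.S11320

/-- On a Noetherian topological space X, the direct limit, in the category of abelian sheaves, of a
directed system (F_i) of flasque abelian sheaves indexed by a nonempty directed preorder is flasque
(all its restriction maps are surjective). -/
theorem result {X : TopCat.{u}} [TopologicalSpace.NoetherianSpace X]
    (ι : Type u) [Preorder ι] [IsDirected ι (· ≤ ·)] [Nonempty ι]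
    (D : ι ⥤ CohTop.Ab X) (hD : ∀ i : ι, TopCat.Sheaf.IsFlasque (D.obj i)) :
    TopCat.Sheaf.IsFlasque (colimit D : CohTop.Ab X) := by
  have : PrespectralSpace X := PrespectralSpace.of_isTopologicalBasis
    TopologicalSpace.isTopologicalBasis_opens fun U _ => TopologicalSpace.NoetherianSpace.isCompact U
  have : QuasiSeparatedSpace X := ⟨fun U V _ _ _ _ => TopologicalSpace.NoetherianSpace.isCompact _⟩
  constructor
  rintro ⟨U⟩ ⟨V⟩ ⟨i⟩
  rw [AddCommGrpCat.epi_iff_surjective]
  intro s
  obtain ⟨j, t, rfl⟩ := Groth.Agent.TopCoh49.colim_sec_surjective (colimit.isColimit D)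
    (TopologicalSpace.NoetherianSpace.isCompact _) s
  obtain ⟨t', rfl⟩ := (AddCommGrpCat.epi_iff_surjective _).1 ((hD j).epi (homOfLE (leOfHom i)).op) t
  exact ⟨Groth.Agent.TopCoh49.cι (colimit.cocone D) j U t',
    (Groth.Agent.TopCoh49.cι_rs (colimit.cocone D) j (leOfHom i) t').symm⟩

end Groth.Agent.S11320
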