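import Groth.Statements.S11323
import Groth.Agent.LC16.ExtStalk
import Groth.Agent.LC16.SitePointStalk

set_option backward.isDefEq.respectTransparency.types false
set_option linter.style.haveILetI false

set_option autoImplicit false
universe u
open CategoryTheory AlgebraicGeometry TopologicalSpace
open Coherent

namespace Groth.Agent.S11323

/-- Let X be a Noetherian scheme, F a coherent O_X-module, G any O_X-module, x a point of X and i ≥ 0.
Then the stalk at x of the Ext sheaf Ext^i(F, G) — the i-th right derived functor of the internal
Hom functor Hom(F, -) on O_X-modules (its existence and that of injective resolutions are the stated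
instance hypotheses, both true), evaluated at G — is isomorphic, as a module over the local ring at
x, to Ext^i of the stalks F_x, G_x computed in the category of modules over that local ring. (Stalks
are taken as fibres at the point of the site of opens given by x; existence of an isomorphism only.) -/
theorem result (X : Scheme.{u}) [IsNoetherian X]
    (F G : X.Modules) (hF : Coh.IsCoh F)
    [ModSite.HasSheafHom (O := X.sheaf) F] [HasInjectiveResolutions (ModSite.Mod X.sheaf)]
    (x : X) (i : ℕ) :
    Nonempty (ModSite.stalkMod (Opens.pointGrothendieckTopology x) ((ModSite.extSh (O := X.sheaf) F i).obj G)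
      ≃ₗ[ModSite.stalkRing (Opens.pointGrothendieckTopology x) X.sheaf]
      Abelian.Ext (ModSite.stalkMod (O := X.sheaf) (Opens.pointGrothendieckTopology x) F)
        (ModSite.stalkMod (O := X.sheaf) (Opens.pointGrothendieckTopology x) G) i) := by
  haveI : IsLocallyNoetherian X := inferInstance
  obtain ⟨l⟩ := Groth.Agent.LC16.ExtStalk.nonempty_stalk_extSh x hF G i
  let E := (ModSite.extSh (O := X.sheaf) F i).obj G
  let e := Groth.Agent.LC16.SitePointStalk.ringIso x
  obtain ⟨φ, hφ⟩ := Groth.Agent.LC16.ExtRingEquiv.nonempty_ext_addEquiv e
    (ModSite.stalkMod (O := X.sheaf) (Opens.pointGrothendieckTopology x) F)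
    (ModSite.stalkMod (O := X.sheaf) (Opens.pointGrothendieckTopology x) G) i
  let c := Groth.Agent.LC16.ExtRingEquiv.extCongr (R := X.presheaf.stalk x)
    (Groth.Agent.LC16.SitePointStalk.modIso x F).symm (Groth.Agent.LC16.SitePointStalk.modIso x G).symm i
  let m : ((Groth.Agent.DCK91.SP x).obj E) ≃+ ModSite.stalkAb (O := X.sheaf) (Opens.pointGrothendieckTopology x) E :=
    AddEquiv.ofBijective (Groth.Agent.LC16.SitePointStalk.modCmp x E)
      (Groth.Agent.LC16.SitePointStalk.bijective_modCmp x E)
  let ψ : Abelian.Ext (ModSite.stalkMod (O := X.sheaf) (Opens.pointGrothendieckTopology x) F)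
      (ModSite.stalkMod (O := X.sheaf) (Opens.pointGrothendieckTopology x) G) i ≃+
      ModSite.stalkAb (O := X.sheaf) (Opens.pointGrothendieckTopology x) E :=
    (φ.trans (c.trans l.symm).toAddEquiv).trans m
  refine ⟨LinearEquiv.symm { ψ with map_smul' := fun r α => ?_ }⟩
  obtain ⟨a, rfl⟩ := e.surjective r
  change m ((c.trans l.symm) (φ (e a • α))) = e a • m ((c.trans l.symm) (φ α))
  rw [hφ, map_smul]
  exact Groth.Agent.LC16.SitePointStalk.modCmp_smul x E a _

end Groth.Agent.S11323
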