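import Groth.Statements.S11326
import Groth.Agent.SerreD94.Pairing

set_option autoImplicit false
set_option maxSynthPendingDepth 6
set_option maxHeartbeats 1000000
universe u
open CategoryTheory AlgebraicGeometry
open ProjDual

namespace Groth.Agent.S11326

/-- Let A be a Noetherian ring, r ≥ 1, X = P^r_A and ω = O_X(-r-1). Then there is an A-linear
isomorphism t : H^r(X, ω) ≅ A such that for every integer n and every A-linear form ψ on H^r(X,
O_X(-n-r-1)) there is exactly one morphism of O_X-modules φ : O_X(-n-r-1) → ω with ψ = t ∘ H^r(φ).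
(The published form of the pairing assertion is a perfect pairing H^0(X, O_X(n)) × H^r(X,
O_X(-n-r-1)) → H^r(X, ω) ≅ A of finitely generated free A-modules; here the first factor is written
as Hom(O_X(-n-r-1), ω), which the pairing identifies with H^0(X, O_X(n)), and only the resulting
bijection onto the A-dual of H^r(X, O_X(-n-r-1)) is stated.) -/
theorem result (A : Type u) [CommRing A]
    [IsNoetherianRing A] (r : ℕ) (hr : 1 ≤ r) :
    ∃ t : Coh.HH (CohB1.ProjSpace r A) (Twist.twistProjSpace r A (-((r : ℤ) + 1))) r ≃ₗ[A] A,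
      ∀ (n : ℤ) (ψ : Coh.HH (CohB1.ProjSpace r A) (Twist.twistProjSpace r A (-(n + r + 1))) r →ₗ[A] A),
        ∃! φ : Twist.twistProjSpace r A (-(n + r + 1)) ⟶ Twist.twistProjSpace r A (-((r : ℤ) + 1)),
          ∀ x : Coh.HH (CohB1.ProjSpace r A) (Twist.twistProjSpace r A (-(n + r + 1))) r,
            ψ x = t (Sheaf.H.map ((SheafOfModules.toSheaf (CohB1.ProjSpace r A).ringCatSheaf).map φ) r x) := by
  let t := LinearEquiv.ofBijective (SerreD94.trace r A) (SerreD94.trace_bijective r A)
  refine ⟨t, fun n ψ => ?_⟩
  by_cases hd : -(n + r + 1) ≤ SerreD94.eω r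
  · exact SerreD94.existsUnique_hom r A hd ψ
  · have he : SerreD94.eω r < -(n + r + 1) := not_le.1 hd
    have hempty : Pn71.negCell (ι := Fin (r + 1)) (-(n + r + 1)) = ∅ :=
      Pn71.negCell_eq_empty (by simp only [Fintype.card_fin]; simp only [SerreD94.eω] at he; push_cast; omega)
    have hs : Subsingleton (Coh.HH (CohB1.ProjSpace r A) (Twist.twistProjSpace r A (-(n + r + 1))) r) :=
      haveI := Pn71.subsingleton_supported_of_eq_empty (n := r) (A := A) hempty
      (Pn71.hhTopEquiv r A (-(n + r + 1)) (fun h => absurd h (by omega))).injective.subsingleton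
    refine ⟨0, fun x => ?_, fun φ _ => SerreD94.hom_eq_zero φ hr he⟩
    rw [Subsingleton.elim x 0, map_zero, map_zero, map_zero]

end Groth.Agent.S11326
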