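import Groth.Statements.S11330
import Groth.Agent.Crv77.PointDeg

set_option autoImplicit false
universe u
open CategoryTheory CategoryTheory.Limits AlgebraicGeometry
open Curves Groth.Agent

namespace Groth.Agent.S11330

/-- Let k be an algebraically closed field and X a curve over k (an integral scheme, proper over k, of
dimension one, with all local rings regular), and L an invertible O_X-module. Then L is generated by
its global sections (a quotient of a free O_X-module) if and only if for every closed point P of X,
with ideal sheaf I_P ⊆ O_X, dim_k H^0(X, L ⊗ I_P) = dim_k H^0(X, L) - 1. -/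
theorem result (k : Type u) [Field k] [IsAlgClosed k] (X : Scheme.{u}) [X.Over (Spec (CommRingCat.of k))]
    [IsIntegral X] [IsProper (X ↘ (Spec (CommRingCat.of k)))] (hdim : topologicalKrullDim X = 1)
    (hreg : ∀ x : X, IsRegularLocalRing (X.presheaf.stalk x)) (L : X.Modules) (hL : PicF.IsInvertible L) :
    Curv2.IsGloballyGenerated L ↔
      ∀ (P : X) (hP : IsClosed ({P} : Set X)),
        Module.finrank k (Coh.HH X (CohB1.tensorMod L (ClSub.idealMod (Scheme.IdealSheafData.vanishingIdeal ⟨{P}, hP⟩))) 0) + 1 = Module.finrank k (Coh.HH X L 0) := by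
  have : IsNoetherian X := Crv77.isNoetherian_of_proper k X
  have hX := Crv77.curveCoh_of_proper k X hdim.le
  have he : ∀ (P : X) (hP : IsClosed ({P} : Set X)),
      Module.finrank k (Coh.HH X (CohB1.tensorMod L (ClSub.idealMod (Crv77.ptIdeal hP))) 0) =
        Module.finrank k (Coh.HH X (CohB1.tensorMod (ClSub.idealMod (Crv77.ptIdeal hP)) L) 0) :=
    fun P hP => (Crv77.hEquiv k (EGA73.tensComm L (ClSub.idealMod (Crv77.ptIdeal hP))) 0).finrank_eq
  have hle : ∀ (P : X) (hP : IsClosed ({P} : Set X)), Module.finrank k (Coh.HH X L 0) ≤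
      Module.finrank k (Coh.HH X (CohB1.tensorMod (ClSub.idealMod (Crv77.ptIdeal hP)) L) 0) + 1 := by
    intro P hP
    have h2 := hX.h0_le_add_point hP hL
    rwa [Crv77.finrank_quot_point k hP, Crv77.finrank_residueField_eq_one k hP] at h2
  constructor
  · intro hgg P hP
    have h1 := (hX.exists_gen_iff_h0_lt hP hL).1 (Crv77.exists_gen_of_isGloballyGenerated hL hgg hP)
    have h2 := hle P hP
    have h3 := he P hP
    simp only [Crv77.ptIdeal] at *
    omega
  · intro h
    refine Crv77.isGloballyGenerated_of_gen hL fun P hP => (hX.exists_gen_iff_h0_lt hP hL).2 ?_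
    have h2 := h P hP
    have h3 := he P hP
    simp only [Crv77.ptIdeal] at *
    omega

end Groth.Agent.S11330
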