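import Groth.Statements.S11333
import Groth.Agent.Crv77.GenusMono
import Groth.Agent.Crv77.HomOfFF
import Groth.Agent.CrvPic30.Omega

set_option autoImplicit false
universe u
open CategoryTheory CategoryTheory.Limits AlgebraicGeometry
open Curves

namespace Groth.Agent.S11333

/-- Let f : X → Y be a finite morphism over k of curves over an algebraically closed field k (integral,
proper over k, of dimension one, all local rings regular), sending the generic point of X to that of
Y, such that the function field extension K(X)/K(Y) is purely inseparable. Then X and Y are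
isomorphic as schemes (the isomorphism need not be compatible with the k-structures; existence of an
isomorphism only). -/
theorem result (k : Type u) [Field k] [IsAlgClosed k] (X : Scheme.{u}) [X.Over (Spec (CommRingCat.of k))]
    [IsIntegral X] [IsProper (X ↘ (Spec (CommRingCat.of k)))] (hdimX : topologicalKrullDim X = 1)
    (hregX : ∀ x : X, IsRegularLocalRing (X.presheaf.stalk x))
    (Y : Scheme.{u}) [Y.Over (Spec (CommRingCat.of k))]
    [IsIntegral Y] [IsProper (Y ↘ (Spec (CommRingCat.of k)))] (hdimY : topologicalKrullDim Y = 1)
    (hregY : ∀ x : Y, IsRegularLocalRing (Y.presheaf.stalk x))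
    (f : X ⟶ Y) [IsFinite f] (hf : f ≫ (Y ↘ (Spec (CommRingCat.of k))) = X ↘ (Spec (CommRingCat.of k)))
    (e : f (genericPoint X) = genericPoint Y) :
    letI := ((Y.presheaf.stalkSpecializes (specializes_of_eq e) ≫ f.stalkMap (genericPoint X)).hom).toAlgebra
    IsPurelyInseparable Y.functionField X.functionField → Nonempty (X ≅ Y) := by
  let _ := CrvPic30.ffAlg k X
  let _ := CrvPic30.ffAlg k Y
  have hX := CrvPic30.setup_of_regular (k := k) hdimX hregX
  have hY := CrvPic30.setup_of_regular (k := k) hdimY hregY
  intro hpi
  have := hX.isNoetherian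
  have := hY.isNoetherian
  let m := Crv77.ffMap f e
  let _ : Algebra Y.functionField X.functionField := m.toAlgebra
  have hpi' : IsPurelyInseparable Y.functionField X.functionField := hpi
  have := Crv77.finite_ffMap hX hY f hf e
  let A : Y.functionField →ₐ[k] X.functionField := { m with commutes' := Crv77.ffMap_algebraMap f hf e }
  obtain ⟨q, hq⟩ := ExpChar.exists k
  have : ExpChar X.functionField q := expChar_of_injective_algebraMap (algebraMap k X.functionField).injective q
  have : ExpChar Y.functionField q := expChar_of_injective_algebraMap (algebraMap k Y.functionField).injective q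
  have : PerfectRing k q := PerfectField.toPerfectRing q
  have : ExpChar A.fieldRange q := expChar_of_injective_algebraMap (algebraMap k A.fieldRange).injective q
  have : IsPurelyInseparable A.fieldRange X.functionField := by
    rw [isPurelyInseparable_iff_pow_mem A.fieldRange q]
    intro z
    obtain ⟨n, a, ha⟩ := IsPurelyInseparable.pow_mem Y.functionField q z
    exact ⟨n, ⟨⟨m a, a, rfl⟩, ha⟩⟩
  have : FiniteDimensional A.fieldRange X.functionField :=
    Module.Finite.of_equiv_equiv (AlgEquiv.ofInjectiveField A).toRingEquiv (RingEquiv.refl _)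
      (RingHom.ext fun _ => rfl)
  obtain ⟨r, hr⟩ := Crv77.Insep.exists_pow_range hX.ff (FF30.isGeometric_of_closed hX.ff.2) q A.fieldRange
  choose w hw using fun z : X.functionField => (hr (z ^ q ^ r)).2 ⟨z, rfl⟩
  have hw' : ∀ z, m (w z) = iterateFrobenius X.functionField q r z := fun z =>
    (hw z).trans (iterateFrobenius_def ..).symm
  let φ₀ : X.functionField →+* Y.functionField :=
    { toFun := w
      map_one' := m.injective (by rw [hw', map_one, map_one])
      map_mul' := fun a b => m.injective (by rw [hw', map_mul, map_mul, hw', hw'])
      map_zero' := m.injective (by rw [hw', map_zero, map_zero])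
      map_add' := fun a b => m.injective (by rw [hw', map_add, map_add, hw', hw']) }
  have hb : Function.Bijective φ₀ := by
    refine ⟨φ₀.injective, fun y => ?_⟩
    obtain ⟨z, hz⟩ := (hr (m y)).1 ⟨y, rfl⟩
    exact ⟨z, m.injective ((hw z).trans hz)⟩
  let τ := (RingEquiv.ofBijective φ₀ hb).symm
  let σ := iterateFrobeniusEquiv k q r
  have hτ : ∀ c, τ (algebraMap k Y.functionField (σ c)) = algebraMap k X.functionField c := fun c => by
    rw [RingEquiv.symm_apply_eq]
    refine m.injective ?_
    show m (algebraMap k Y.functionField (σ c)) = m (w (algebraMap k X.functionField c))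
    rw [hw', iterateFrobenius_def, ← map_pow]
    exact (Crv77.ffMap_algebraMap f hf e _).trans (congrArg _ (iterateFrobenius_def ..))
  let sX : X ⟶ Spec (CommRingCat.of k) :=
    (X ↘ Spec (CommRingCat.of k)) ≫ Spec.map σ.symm.toCommRingCatIso.hom
  have : IsProper sX := inferInstance
  let φ : Y.functionField ≅ X.functionField := τ.toCommRingCatIso
  obtain ⟨i, -⟩ := Crv77.exists_iso_of_ffIso sX (Y ↘ Spec (CommRingCat.of k)) hX.stalks hY.stalks φ (by
    rw [← Category.assoc (X.fromSpecStalk _), ← Crv77.spec_ffAlg, ← Crv77.spec_ffAlg, ← Spec.map_comp, ← Spec.map_comp]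
    refine congrArg Spec.map (CommRingCat.hom_ext (RingHom.ext fun c => ?_))
    show τ (algebraMap k Y.functionField c) = algebraMap k X.functionField (σ.symm c)
    rw [← hτ, σ.apply_symm_apply])
  exact ⟨i⟩

end Groth.Agent.S11333
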