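import Groth.Statements.S11337
import Groth.Agent.CrvPic30.Canonical
import Groth.Agent.CrvPic30.Clifford


set_option autoImplicit false
universe u
open CategoryTheory CategoryTheory.Limits AlgebraicGeometry
open Curves

namespace Groth.Agent.S11337

open FunFld Groth.Agent.CrvPic30
attribute [local instance] CrvPic30.ffAlg

/-- Let k be an algebraically closed field and X a curve over k (an integral scheme, proper over k, of
dimension one, with all local rings regular), and L an invertible O_X-module with an inverse M such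
that H^0(X, L) ≠ 0, H^0(X, Ω_{X/k} ⊗ M) ≠ 0, L is isomorphic neither to O_X nor to Ω_{X/k}, and 2
(dim_k H^0(X, L) - 1) = deg L. Then X is hyperelliptic and L is a multiple of the g^1_2: there is an
invertible module N of degree 2 with two k-linearly independent global sections (a g^1_2) such that
L ≅ N^{⊗ r} with r = dim_k H^0(X, L) - 1. (Only the implication from equality is stated here; the
converse, that on a hyperelliptic curve the effective special multiples of the g^1_2 attain
equality, is not part of this statement.) -/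
theorem result (k : Type u) [Field k] [IsAlgClosed k] (X : Scheme.{u}) [X.Over (Spec (CommRingCat.of k))]
    [IsIntegral X] [IsProper (X ↘ (Spec (CommRingCat.of k)))] (hdim : topologicalKrullDim X = 1)
    (hreg : ∀ x : X, IsRegularLocalRing (X.presheaf.stalk x))
    (L M : X.Modules) (hL : PicF.IsInvertible L) (hM : ClSub.IsInverseOf L M)
    (hs : Nontrivial (Coh.HH X L 0)) (hsp : Nontrivial (Coh.HH X (CohB1.tensorMod (Omega.sheaf (X ↘ (Spec (CommRingCat.of k)))) M) 0))
    (h0 : IsEmpty (L ≅ Coh.structureModule X)) (hK : IsEmpty (L ≅ (Omega.sheaf (X ↘ (Spec (CommRingCat.of k))))))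
    (heq : 2 * (Module.finrank k (Coh.HH X L 0) : ℤ) = Curv2.deg k X L 1 + 2) :
    ∃ (N : X.Modules) (s : Fin 2 → LinSer.Sect X N), LinSer.IsLinSer k X N 2 1 s ∧
      Nonempty (L ≅ CohB1.tensorPow N (Module.finrank k (Coh.HH X L 0) - 1)) := by
  have h := setup_of_regular (k := k) (C := X) hdim hreg
  obtain ⟨W, hW, ⟨eW⟩⟩ := h.nonempty_iso_omega
  obtain ⟨D, ⟨eL⟩⟩ := h.exists_iso_O hL
  obtain ⟨e₀⟩ := h.nonempty_iso_O_zero
  have hF := h.ffield
  have hD := (h.nontrivial_h0_iff eL).1 hs
  have hD' := ((h.h0_omega_tensor_inverse eW eL hM).2).1 hsp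
  rw [h.h0_of_iso eL, h.deg_of_iso eL] at heq
  have hnK := (h.isEmpty_iso_iff eL eW).1 hK
  have hn0 := (h.isEmpty_iso_iff eL e₀).1 h0
  rw [h.h0_of_iso eL]
  obtain ⟨r, hr⟩ : ∃ r, ell D = r + 1 := ⟨ell D - 1, by omega⟩
  have hd : D.deg = 2 * r := by omega
  have hr1 : 1 ≤ r := by
    by_contra hr0
    refine hn0 ?_
    rw [sub_zero]
    exact mem_prinDivs_of_deg_zero h.ff (by omega) hD
  have hW' := FF30.deg_canonical h.ff hW
  have hle := deg_nonneg_of_ell_pos hF hD'
  rw [FF30.deg_sub] at hle
  have hrg : r + 2 ≤ FunFld.genus k X.functionField := by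
    by_contra hlt
    refine hnK (sub_mem_of_deg_eq h.ff (by omega) ?_ )
    have := FF30.riemann_roch' h.ff hW D
    have h1 : W - D ∈ prinDivs k X.functionField := sub_mem_of_deg_eq h.ff (by omega) hD'
    rw [show D - W = -(W - D) by abel, FF30.ell_congr hF (E := 0) (by rw [sub_zero]; exact neg_mem h1),
      FF30.ell_zero h.ff]
    norm_num
  obtain ⟨N, hNd, hN⟩ := h.exists_g12_of_clifford_eq hW r D hr1 hd (by omega) hrg
  obtain ⟨s, hs'⟩ := h.exists_linIndep (Iso.refl (h.O N)) hN
  obtain ⟨eN⟩ := h.tensorPow_iso (Iso.refl (h.O N)) r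
  refine ⟨h.O N, s, ⟨h.isInvertible_O N, by rw [h.deg_O, hNd]; rfl, hs'⟩, ?_⟩
  rw [hr, Nat.add_sub_cancel]
  exact h.iso_of_sub_mem eL eN (h.sub_nsmul_mem hW hNd hN (by omega) hd (by omega))

end Groth.Agent.S11337
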