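import Groth.Statements.S11349
import Groth.Agent.Crv77.EllipticInv
import Groth.Agent.Crv77.HomOfFF
import Groth.Agent.CrvPic30.Omega

set_option autoImplicit false
set_option linter.style.haveILetI false
set_option maxHeartbeats 1000000
set_option synthInstance.maxHeartbeats 200000
universe u
open CategoryTheory CategoryTheory.Limits AlgebraicGeometry
open Curves

namespace Groth.Agent.S11349

/-- Take an algebraically closed field k of characteristic different from 2 and an elliptic curve X over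
k — an integral scheme, proper over k, of dimension one, all local rings regular, of genus dim_k
H^1(X, O_X) = 1 — and let P, Q be closed points of X, possibly equal. Then there is an automorphism
σ of X over k with σ² = id and σ(P) = Q such that R + σ(R) is linearly equivalent to P + Q for every
closed point R; the last condition is written on ideal sheaves of points: I_R ⊗ I_{σ(R)} ≅ I_P ⊗
I_Q. -/
theorem result (k : Type u) [Field k] [IsAlgClosed k] (X : Scheme.{u}) [X.Over (Spec (CommRingCat.of k))]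
    [IsIntegral X] [IsProper (X ↘ (Spec (CommRingCat.of k)))] (hdim : topologicalKrullDim X = 1)
    (hreg : ∀ x : X, IsRegularLocalRing (X.presheaf.stalk x)) (hchar : ringChar k ≠ 2) (hg : Curv2.genus k X = 1)
    (P Q : X) (hP : IsClosed ({P} : Set X)) (hQ : IsClosed ({Q} : Set X)) :
    ∃ σ : X ≅ X, σ.hom ≫ (X ↘ (Spec (CommRingCat.of k))) = (X ↘ (Spec (CommRingCat.of k))) ∧ σ.hom ≫ σ.hom = 𝟙 X ∧ σ.hom P = Q ∧
      ∀ (R R' : X) (hR : IsClosed ({R} : Set X)) (hR' : IsClosed ({R'} : Set X)), σ.hom R = R' →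
        Nonempty (CohB1.tensorMod (ClSub.idealMod (Scheme.IdealSheafData.vanishingIdeal ⟨{R}, hR⟩)) (ClSub.idealMod (Scheme.IdealSheafData.vanishingIdeal ⟨{R'}, hR'⟩)) ≅ CohB1.tensorMod (ClSub.idealMod (Scheme.IdealSheafData.vanishingIdeal ⟨{P}, hP⟩)) (ClSub.idealMod (Scheme.IdealSheafData.vanishingIdeal ⟨{Q}, hQ⟩))) := by
  let _ := CrvPic30.ffAlg k X
  have h := CrvPic30.setup_of_regular (k := k) hdim hreg
  rw [h.genus_eq] at hg
  have h2 : (2 : k) ≠ 0 := fun h0 => hchar (by
    have := ringChar.dvd (R := k) (show ((2 : ℕ) : k) = 0 by exact_mod_cast h0)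
    rcases (Nat.dvd_prime Nat.prime_two).1 this with h1 | h1
    · exact absurd h1 CharP.ringChar_ne_one
    · exact h1)
  obtain ⟨z, τ, hττ, hPQ, hlin⟩ := Crv77.exists_swap h2 h.ff hg (h.pl hP) (h.pl hQ)
  obtain ⟨g, e, hg', hgτ⟩ := Crv77.exists_hom_of_algHom h (τ.restrictScalars k).toAlgHom
  have hτ : ∀ w, τ w = Crv77.ffMap g e w := fun w => (RingHom.congr_fun hgτ w).symm
  have := h.proper
  have hgg : g ≫ g = 𝟙 X := by
    refine Crv77.hom_eq_of_ffMap (k := k) (by rw [Category.assoc, hg', hg']) (Category.id_comp _) ?_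
    rw [← Category.assoc, ← Crv77.fromSpecStalk_ffMap g e, Category.assoc, ← Crv77.fromSpecStalk_ffMap g e,
      ← Category.assoc, ← Spec.map_comp, Category.comp_id]
    have : CommRingCat.ofHom (Crv77.ffMap g e) ≫ CommRingCat.ofHom (Crv77.ffMap g e) = 𝟙 X.functionField := by
      refine CommRingCat.hom_ext (RingHom.ext fun w => ?_)
      show Crv77.ffMap g e (Crv77.ffMap g e w) = w
      rw [← hτ, ← hτ]
      exact AlgEquiv.congr_fun hττ w
    rw [this]
    exact Crv77.specMap_id_comp _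
  have key := Crv77.placeComap_place h e hgg τ hτ
  refine ⟨⟨g, g, hgg, hgg⟩, hg', hgg, ?_, fun R R' hR hR' hσR => ?_⟩
  · exact congrArg Subtype.val (h.place.injective ((key ⟨P, hP⟩).symm.trans hPQ))
  · obtain ⟨eR⟩ := h.nonempty_ptIdeal_iso hR
    obtain ⟨eR'⟩ := h.nonempty_ptIdeal_iso hR'
    obtain ⟨eP⟩ := h.nonempty_ptIdeal_iso hP
    obtain ⟨eQ⟩ := h.nonempty_ptIdeal_iso hQ
    obtain ⟨e1⟩ := h.nonempty_iso_tensor (-Finsupp.single (h.pl hR) 1) (-Finsupp.single (h.pl hR') 1)
    obtain ⟨e2⟩ := h.nonempty_iso_tensor (-Finsupp.single (h.pl hP) 1) (-Finsupp.single (h.pl hQ) 1)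
    have hR'eq : FF30.placeComap (h.pl hR) τ = h.pl hR' :=
      (key ⟨R, hR⟩).trans (congrArg h.place (Subtype.ext hσR))
    obtain ⟨e3⟩ := h.nonempty_iso_of_sub_mem
      (D := -Finsupp.single (h.pl hR) 1 + -Finsupp.single (h.pl hR') 1)
      (E := -Finsupp.single (h.pl hP) 1 + -Finsupp.single (h.pl hQ) 1) (by
      have h3 := neg_mem (hlin (h.pl hR))
      rw [hR'eq] at h3
      convert h3 using 1
      abel)
    exact ⟨EGA73.tensIso eR eR' ≪≫ e1 ≪≫ e3 ≪≫ e2.symm ≪≫ (EGA73.tensIso eP eQ).symm⟩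

end Groth.Agent.S11349
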