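import Groth.Statements.S11351
import Groth.Agent.Crv77.EllipticDouble
import Groth.Agent.Crv77.HomOfFF
import Groth.Agent.Crv77.FunDeg
import Groth.Agent.FinCov99.Cover
import Groth.Agent.CrvPic30.Omega

set_option autoImplicit false
set_option backward.isDefEq.respectTransparency false
set_option linter.style.haveILetI false
set_option maxHeartbeats 1000000
set_option synthInstance.maxHeartbeats 200000
universe u
open CategoryTheory CategoryTheory.Limits AlgebraicGeometry
open Curves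

namespace Groth.Agent.S11351

open IntermediateField FunFld

attribute [local instance] CrvPic30.ffAlg

theorem compat {k : Type u} [Field k] {C : Scheme.{u}} [C.Over (Spec (CommRingCat.of k))] [IsIntegral C]
    (φ : C.functionField →+* C.functionField)
    (hφ : ∀ r : k, φ (algebraMap k C.functionField r) = algebraMap k C.functionField r) :
    Spec.map (CommRingCat.ofHom φ) ≫ C.fromSpecStalk _ ≫ (C ↘ Spec (CommRingCat.of k)) =
      C.fromSpecStalk _ ≫ (C ↘ Spec (CommRingCat.of k)) := by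
  rw [← Curves2.spec_constField, ← Spec.map_comp, ← Crv77.ffAlg_eq]
  exact congrArg Spec.map (CommRingCat.hom_ext (RingHom.ext hφ))

theorem compat_line {k : Type u} [Field k] [IsIntegral (CohB1.ProjSpace 1 k)]
    (φ : (CohB1.ProjSpace 1 k).functionField →+* (CohB1.ProjSpace 1 k).functionField)
    (hφ : ∀ r : k, φ (Curv2.stalkMap k (CohB1.ProjSpace 1 k) (genericPoint (CohB1.ProjSpace 1 k)) r) =
      Curv2.stalkMap k (CohB1.ProjSpace 1 k) (genericPoint (CohB1.ProjSpace 1 k)) r) :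
    Spec.map (CommRingCat.ofHom φ) ≫ (CohB1.ProjSpace 1 k).fromSpecStalk _ ≫ CohB1.ProjSpace.toSpec 1 k =
      (CohB1.ProjSpace 1 k).fromSpecStalk _ ≫ CohB1.ProjSpace.toSpec 1 k := by
  show Spec.map (CommRingCat.ofHom φ) ≫ (CohB1.ProjSpace 1 k).fromSpecStalk _ ≫
      (CohB1.ProjSpace 1 k ↘ Spec (CommRingCat.of k)) =
    (CohB1.ProjSpace 1 k).fromSpecStalk _ ≫ (CohB1.ProjSpace 1 k ↘ Spec (CommRingCat.of k))
  rw [← VarGal.SpecMap_curvStalkMap, ← Spec.map_comp]
  exact congrArg Spec.map (CommRingCat.hom_ext (RingHom.ext hφ))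

theorem ffMap_stalkMap {k : Type u} [Field k] {C : Scheme.{u}} [C.Over (Spec (CommRingCat.of k))] [IsIntegral C]
    [IsIntegral (CohB1.ProjSpace 1 k)] (f : C ⟶ CohB1.ProjSpace 1 k)
    (hf : f ≫ CohB1.ProjSpace.toSpec 1 k = C ↘ Spec (CommRingCat.of k))
    (e : f (genericPoint C) = genericPoint (CohB1.ProjSpace 1 k)) (r : k) :
    Crv77.ffMap f e (Curv2.stalkMap k (CohB1.ProjSpace 1 k) (genericPoint (CohB1.ProjSpace 1 k)) r) =
      algebraMap k C.functionField r := by
  have h : CommRingCat.ofHom (Curv2.stalkMap k (CohB1.ProjSpace 1 k) (genericPoint (CohB1.ProjSpace 1 k))) ≫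
      CommRingCat.ofHom (Crv77.ffMap f e) = CommRingCat.ofHom (algebraMap k C.functionField) := by
    apply Spec.map_injective
    rw [Spec.map_comp, VarGal.SpecMap_curvStalkMap, ← Category.assoc]
    refine (congrArg (· ≫ _) (Crv77.fromSpecStalk_ffMap f e)).trans ?_
    rw [Category.assoc, Crv77.ffAlg_eq, Curves2.spec_constField]
    exact congrArg (_ ≫ ·) hf
  exact congr($h r)

theorem degree_two {k : Type u} [Field k] {C : Scheme.{u}} [C.Over (Spec (CommRingCat.of k))] [IsIntegral C]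
    [IsIntegral (CohB1.ProjSpace 1 k)] (hdim : topologicalKrullDim C = 1) (f : C ⟶ CohB1.ProjSpace 1 k) [IsFinite f]
    (hf : f ≫ CohB1.ProjSpace.toSpec 1 k = C ↘ Spec (CommRingCat.of k))
    (hd : FlatMod.IsFinLocFreeOfRank 2 ((Scheme.Modules.pushforward f).obj (Coh.structureModule C)))
    (e : f (genericPoint C) = genericPoint (CohB1.ProjSpace 1 k)) :
    Module.finrank k⟮Crv77.ffMap f e (Crv77.tP k)⟯ C.functionField = 2 := by
  have := Curves2.ProjLine.isLocallyNoetherian k 1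
  obtain ⟨⟨_, hflat, _⟩, hrk⟩ := FinCov99.isCover_of_pushforward f 2 hd
  have := hflat
  obtain ⟨z, -, rfl, hz, -⟩ := Crv77.exists_fun_of_hom f hf e
  rw [← hz, ← Crv77.finrank_eq_residueDegree f e (genericPoint (CohB1.ProjSpace 1 k))]
  exact hrk _

theorem map_gen_le {k K : Type u} [Field k] [IsAlgClosed k] [Field K] [Algebra k K] (hK : IsFunctionField k K)
    (hg : genus k K = 1) {F : IntermediateField k K} (σ : K ≃ₐ[F] K) {A B : Place k K} (hAB : FF30.placeComap A σ = B)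
    {y w : K} (hy : Transcendental k y)
    (hyA : ∀ R : Place k K, R.1 y ≤ WithZero.exp ((Finsupp.single A (2 : ℤ) : Divisor k K) R))
    (hwB : ∀ R : Place k K, R.1 w ≤ WithZero.exp ((Finsupp.single B (2 : ℤ) : Divisor k K) R)) :
    (k⟮w⟯).map (σ.restrictScalars k).toAlgHom ≤ k⟮y⟯ := by
  classical
  have hinj : ∀ R : Place k K, FF30.placeComap R σ = B → R = A := by
    intro R hR
    refine Subtype.ext (Valuation.ext fun x => ?_)
    obtain ⟨x', rfl⟩ := σ.surjective x
    rw [← FF30.placeComap_apply, ← FF30.placeComap_apply, hR, hAB]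
  rw [IntermediateField.adjoin_map, Set.image_singleton, adjoin_simple_le_iff]
  refine Crv77.mem_adjoin_of_double_pole hK hg hy hyA fun R => ?_
  show R.1 (σ w) ≤ _
  rw [← FF30.placeComap_apply]
  refine (hwB _).trans (le_of_eq ?_)
  by_cases hR : R = A
  · subst hR
    rw [hAB, Finsupp.single_eq_same, Finsupp.single_eq_same]
  · rw [Finsupp.single_eq_of_ne hR, Finsupp.single_eq_of_ne (fun h => hR (hinj R h))]

/-- Take an algebraically closed field k of characteristic different from 2 and an elliptic curve X over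
k (integral, proper over k, of dimension one, all local rings regular, of genus dim_k H^1(X, O_X) =
1), and let f₁, f₂ : X → P^1_k be two finite morphisms over k of degree 2 (the direct image of O_X
is locally free of rank 2). Then there are an automorphism σ of X over k and an automorphism τ of
P^1_k over k such that f₂ ∘ σ = τ ∘ f₁. -/
theorem result (k : Type u) [Field k] [IsAlgClosed k] (X : Scheme.{u}) [X.Over (Spec (CommRingCat.of k))]
    [IsIntegral X] [IsProper (X ↘ (Spec (CommRingCat.of k)))] (hdim : topologicalKrullDim X = 1)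
    (hreg : ∀ x : X, IsRegularLocalRing (X.presheaf.stalk x)) (hchar : ringChar k ≠ 2) (hg : Curv2.genus k X = 1)
    (f₁ f₂ : X ⟶ (CohB1.ProjSpace 1 k)) [IsFinite f₁] [IsFinite f₂]
    (hf₁ : f₁ ≫ CohB1.ProjSpace.toSpec 1 k = (X ↘ (Spec (CommRingCat.of k)))) (hf₂ : f₂ ≫ CohB1.ProjSpace.toSpec 1 k = (X ↘ (Spec (CommRingCat.of k))))
    (hd₁ : FlatMod.IsFinLocFreeOfRank 2 ((Scheme.Modules.pushforward f₁).obj (Coh.structureModule X)))
    (hd₂ : FlatMod.IsFinLocFreeOfRank 2 ((Scheme.Modules.pushforward f₂).obj (Coh.structureModule X))) :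
    ∃ (σ : X ≅ X) (τ : (CohB1.ProjSpace 1 k) ≅ (CohB1.ProjSpace 1 k)), σ.hom ≫ (X ↘ (Spec (CommRingCat.of k))) = (X ↘ (Spec (CommRingCat.of k))) ∧
      τ.hom ≫ CohB1.ProjSpace.toSpec 1 k = CohB1.ProjSpace.toSpec 1 k ∧ σ.hom ≫ f₂ = f₁ ≫ τ.hom := by
  classical
  let P := CohB1.ProjSpace 1 k
  have h := CrvPic30.setup_of_regular (k := k) (C := X) hdim hreg
  have := h.isNoetherian
  have := Curves2.ProjLine.isIntegral k 1
  have := Curves2.ProjLine.isLocallyNoetherian k 1
  have := Curves2.ProjLine.isProper_toSpec k 1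
  have h2 : (2 : k) ≠ 0 := Ring.two_ne_zero hchar
  have hK := h.ff
  rw [h.genus_eq] at hg
  have e₁ := Crv77.finite_hom_generic hdim f₁
  have e₂ := Crv77.finite_hom_generic hdim f₂
  obtain ⟨-, hr₁⟩ := Crv77.fieldRange_ffMap f₁ hf₁ e₁
  obtain ⟨-, hr₂⟩ := Crv77.fieldRange_ffMap f₂ hf₂ e₂
  have hdz₁ := degree_two hdim f₁ hf₁ hd₁ e₁
  have hdz₂ := degree_two hdim f₂ hf₂ hd₂ e₂
  obtain ⟨A₁, y₁, hy₁, hy₁t, hy₁A⟩ := Crv77.exists_ramified_gen h2 hK hg hdz₁
  obtain ⟨A₂, y₂, hy₂, hy₂t, hy₂A⟩ := Crv77.exists_ramified_gen h2 hK hg hdz₂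
  obtain ⟨z, σ, hσσ, hσA, -⟩ := Crv77.exists_swap h2 hK hg A₁ A₂
  have hσA' : FF30.placeComap A₂ σ = A₁ := by
    rw [← hσA, ← FF30.placeComap_mul, hσσ, FF30.placeComap_one]
  have hσ2 : ∀ x, σ (σ x) = x := fun x => congr($hσσ x)
  have hle₁ := map_gen_le hK hg σ hσA hy₁t hy₁A hy₂A
  have hle₂ := map_gen_le hK hg σ hσA' hy₂t hy₂A hy₁A
  rw [hy₁, hy₂] at hle₁ hle₂
  have hto : ∀ a, ∃ b, Crv77.ffMap f₁ e₁ b = σ (Crv77.ffMap f₂ e₂ a) := by
    intro a
    have ha : Crv77.ffMap f₂ e₂ a ∈ (Crv77.ffMap f₂ e₂).fieldRange := ⟨a, rfl⟩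
    rw [hr₂] at ha
    have hb := hle₁ ⟨_, ha, rfl⟩
    exact (show σ (Crv77.ffMap f₂ e₂ a) ∈ (Crv77.ffMap f₁ e₁).fieldRange from hr₁.symm ▸ hb)
  have hfrom : ∀ b, ∃ a, Crv77.ffMap f₁ e₁ b = σ (Crv77.ffMap f₂ e₂ a) := by
    intro b
    have hb : Crv77.ffMap f₁ e₁ b ∈ (Crv77.ffMap f₁ e₁).fieldRange := ⟨b, rfl⟩
    rw [hr₁] at hb
    have ha := hle₂ ⟨_, hb, rfl⟩
    obtain ⟨a, ha⟩ := (show σ (Crv77.ffMap f₁ e₁ b) ∈ (Crv77.ffMap f₂ e₂).fieldRange from hr₂.symm ▸ ha)
    exact ⟨a, by rw [ha, hσ2]⟩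
  choose T hT using hto
  let m₁ := Crv77.ffMap f₁ e₁
  let m₂ := Crv77.ffMap f₂ e₂
  let Tr : P.functionField →+* P.functionField :=
    { toFun := T
      map_one' := m₁.injective (by show m₁ _ = _; rw [hT]; simp)
      map_mul' := fun a b => m₁.injective (by show m₁ _ = _; rw [hT, map_mul, map_mul]; simp only [m₁]; rw [map_mul, hT, hT])
      map_zero' := m₁.injective (by show m₁ _ = _; rw [hT]; simp)
      map_add' := fun a b => m₁.injective (by show m₁ _ = _; rw [hT, map_add, map_add]; simp only [m₁]; rw [map_add, hT, hT]) }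
  have hTbij : Function.Bijective Tr := ⟨Tr.injective, fun b => by
    obtain ⟨a, ha⟩ := hfrom b
    exact ⟨a, m₁.injective ((hT a).trans ha.symm)⟩⟩
  let φX : X.functionField ≅ X.functionField := (σ : X.functionField ≃+* X.functionField).toCommRingCatIso
  let φP : P.functionField ≅ P.functionField := (RingEquiv.ofBijective Tr hTbij).toCommRingCatIso
  obtain ⟨i, ei, hi, hiφ⟩ := Crv77.exists_iso_of_ffIso' (X ↘ Spec (CommRingCat.of k)) (X ↘ Spec (CommRingCat.of k))
    h.stalks h.stalks φX (compat (σ : X.functionField ≃+* X.functionField).toRingHom fun r =>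
      (σ.restrictScalars k).commutes r)
  obtain ⟨j, ej, hj, hjφ⟩ := Crv77.exists_iso_of_ffIso' (CohB1.ProjSpace.toSpec 1 k) (CohB1.ProjSpace.toSpec 1 k)
    (Curves2.ProjLine.valuationRing_stalk k) (Curves2.ProjLine.valuationRing_stalk k) φP
    (compat_line Tr fun r => m₁.injective (by
      show m₁ (T _) = _
      rw [hT, ffMap_stalkMap f₂ hf₂, ffMap_stalkMap f₁ hf₁]
      exact (σ.restrictScalars k).commutes r))
  refine ⟨i, j, hi, hj, ?_⟩
  refine Curves2.hom_ext_generic (CohB1.ProjSpace.toSpec 1 k) (𝟙 X) _ _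
    (by rw [Category.assoc, hf₂, hi, Category.assoc, hj, hf₁]) fun l hl => ?_
  rw [Category.comp_id] at hl
  rw [hl, ← Category.assoc, ← Crv77.fromSpecStalk_ffMap i.hom ei, Category.assoc,
    ← Crv77.fromSpecStalk_ffMap f₂ e₂, ← Category.assoc, ← Spec.map_comp, ← Category.assoc,
    ← Crv77.fromSpecStalk_ffMap f₁ e₁, Category.assoc, ← Crv77.fromSpecStalk_ffMap j.hom ej, ← Category.assoc,
    ← Spec.map_comp, hiφ, hjφ]
  refine congrArg (fun q => Spec.map q ≫ _) (CommRingCat.hom_ext (RingHom.ext fun a => ?_))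
  exact (hT a).symm

end Groth.Agent.S11351
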