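import Groth.Statements.S11353
import Groth.Agent.Crv77.Split2

set_option autoImplicit false
universe u
open CategoryTheory CategoryTheory.Limits AlgebraicGeometry
open Curves Groth.Agent

namespace Groth.Agent.S11353

/-- Let C be a curve over an algebraically closed field k (integral, proper over k, of dimension one,
all local rings regular) and E a decomposable locally free sheaf of rank 2 — E ≅ L₁ ⊕ L₂ with L₁, L₂
invertible — which is normalized: H^0(C, E) ≠ 0 while H^0(C, E ⊗ M) = 0 for every invertible M of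
negative degree. Then E ≅ O_C ⊕ L for an invertible L with deg L ≤ 0; in particular e = -deg E ≥ 0. -/
theorem result (k : Type u) [Field k] [IsAlgClosed k] (C : Scheme.{u}) [C.Over (Spec (CommRingCat.of k))]
    [IsIntegral C] [IsProper (C ↘ (Spec (CommRingCat.of k)))] (hdimC : topologicalKrullDim C = 1)
    (hregC : ∀ x : C, IsRegularLocalRing (C.presheaf.stalk x))
    (E L₁ L₂ : C.Modules) (hL₁ : PicF.IsInvertible L₁) (hL₂ : PicF.IsInvertible L₂) (hE : Nonempty (E ≅ L₁ ⊞ L₂))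
    (hn0 : Nontrivial (Coh.HH C E 0))
    (hneg : ∀ M : C.Modules, PicF.IsInvertible M → Curv2.deg k C M 1 < 0 → Subsingleton (Coh.HH C (CohB1.tensorMod E M) 0)) :
    ∃ L : C.Modules, PicF.IsInvertible L ∧ Curv2.deg k C L 1 ≤ 0 ∧ Nonempty (E ≅ Coh.structureModule C ⊞ L) := by
  have : IsNoetherian C := Crv77.isNoetherian_of_proper k C
  have hX := Crv77.curveCoh_of_proper k C hdimC.le
  obtain ⟨e⟩ := hE
  have h1 := hX.deg_le_zero_of_split hdimC.le hL₁ (biprod.inl ≫ e.inv) (e.hom ≫ biprod.fst)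
    (by simp) hneg
  have h2 := hX.deg_le_zero_of_split hdimC.le hL₂ (biprod.inr ≫ e.inv) (e.hom ≫ biprod.snd)
    (by simp) hneg
  have hor : Nontrivial (Coh.HH C L₁ 0) ∨ Nontrivial (Coh.HH C L₂ 0) := by
    by_contra hcon
    rw [not_or, not_nontrivial_iff_subsingleton, not_nontrivial_iff_subsingleton] at hcon
    obtain ⟨hs1, hs2⟩ := hcon
    obtain ⟨v, hv⟩ := exists_ne (0 : Coh.HH C E 0)
    refine hv ((Crv77.hEquiv k e 0).injective ?_)
    rw [map_zero]
    set w := Crv77.hEquiv k e 0 v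
    apply (Crv77.sec _).injective
    rw [map_zero]
    have a1 : (biprod.fst : L₁ ⊞ L₂ ⟶ L₁).app ⊤ (Crv77.sec _ w) = 0 := by
      rw [← Crv77.sec_hmap k, Subsingleton.elim (Crv77.hmap k _ 0 w) 0, map_zero]
    have a2 : (biprod.snd : L₁ ⊞ L₂ ⟶ L₂).app ⊤ (Crv77.sec _ w) = 0 := by
      rw [← Crv77.sec_hmap k, Subsingleton.elim (Crv77.hmap k _ 0 w) 0, map_zero]
    have a3 := ConcreteCategory.congr_hom (congrArg (fun φ => Scheme.Modules.Hom.app φ ⊤)
      (biprod.total (X := L₁) (Y := L₂))) (Crv77.sec _ w)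
    refine a3.symm.trans ?_
    refine (show _ = (biprod.inl : L₁ ⟶ L₁ ⊞ L₂).app ⊤ ((biprod.fst : L₁ ⊞ L₂ ⟶ L₁).app ⊤ (Crv77.sec _ w)) +
      (biprod.inr : L₂ ⟶ L₁ ⊞ L₂).app ⊤ ((biprod.snd : L₁ ⊞ L₂ ⟶ L₂).app ⊤ (Crv77.sec _ w)) from rfl).trans ?_
    rw [a1, a2, map_zero, map_zero, add_zero]
  have key : ∀ L : C.Modules, PicF.IsInvertible L → Nontrivial (Coh.HH C L 0) →
      Curv2.deg k C L 1 ≤ 0 → Nonempty (L ≅ Coh.structureModule C) := by
    intro L hL hs hle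
    obtain ⟨s, S, -, -, -, -, -, hdeg, -⟩ := hX.exists_section_seq hdimC.le hL hs
    refine hX.nonempty_iso_of_deg_zero hdimC.le hL hs ?_
    simp only [Crv77.h] at hdeg
    omega
  rcases hor with hs | hs
  · obtain ⟨i⟩ := key L₁ hL₁ hs h1
    exact ⟨L₂, hL₂, h2, ⟨e ≪≫ biprod.mapIso i (Iso.refl L₂)⟩⟩
  · obtain ⟨i⟩ := key L₂ hL₂ hs h2
    exact ⟨L₁, hL₁, h1, ⟨e ≪≫ biprod.braiding L₁ L₂ ≪≫ biprod.mapIso i (Iso.refl L₁)⟩⟩

end Groth.Agent.S11353
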