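import Groth.Statements.S11357
import Groth.Agent.Crv77.Hurwitz
import Groth.Agent.Crv77.FittingCoker
import Groth.Agent.Om3.Finite

set_option autoImplicit false
universe u
open CategoryTheory CategoryTheory.Limits AlgebraicGeometry
open Curves

set_option backward.isDefEq.respectTransparency false

namespace Groth.Agent.S11357

/-- Let f : X → Y be a finite morphism over k of curves over an algebraically closed field k (integral,
proper over k, of dimension one, all local rings regular), sending the generic point to the generic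
point, with K(X)/K(Y) separable, and let R be the ramification divisor Σ_P length(Ω_{X/Y,P}) · P,
whose ideal sheaf I_R is the 0-th Fitting ideal of the torsion sheaf Ω_{X/Y} (at P it is m_P to the
power length(Ω_{X/Y,P})). Then K_X is linearly equivalent to f^* K_Y + R: Ω_{X/k} ⊗ I_R ≅ f^*
Ω_{Y/k} (existence of an isomorphism, i.e. equality of classes in Pic X). -/
theorem result (k : Type u) [Field k] [IsAlgClosed k] (X : Scheme.{u}) [X.Over (Spec (CommRingCat.of k))]
    [IsIntegral X] [IsProper (X ↘ (Spec (CommRingCat.of k)))] (hdimX : topologicalKrullDim X = 1)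
    (hregX : ∀ x : X, IsRegularLocalRing (X.presheaf.stalk x))
    (Y : Scheme.{u}) [Y.Over (Spec (CommRingCat.of k))]
    [IsIntegral Y] [IsProper (Y ↘ (Spec (CommRingCat.of k)))] (hdimY : topologicalKrullDim Y = 1)
    (hregY : ∀ x : Y, IsRegularLocalRing (Y.presheaf.stalk x))
    (f : X ⟶ Y) [IsFinite f] (hf : f ≫ (Y ↘ (Spec (CommRingCat.of k))) = X ↘ (Spec (CommRingCat.of k)))
    (e : f (genericPoint X) = genericPoint Y) :
    letI := ((Y.presheaf.stalkSpecializes (specializes_of_eq e) ≫ f.stalkMap (genericPoint X)).hom).toAlgebra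
    Algebra.IsSeparable Y.functionField X.functionField →
      Nonempty (CohB1.tensorMod (Omega.sheaf (X ↘ (Spec (CommRingCat.of k)))) (ClSub.idealMod (Fitt.sheafIdeal (Omega.sheaf f) 0)) ≅
        (Scheme.Modules.pullback f).obj (Omega.sheaf (Y ↘ (Spec (CommRingCat.of k))))) := by
  intro hsep
  open Groth.Agent in
  have := Crv77.smooth_of_regular_algClosed k X hregX
  have := Crv77.smooth_of_regular_algClosed k Y hregY
  have := Crv77.isNoetherian_of_proper k X
  obtain ⟨S, hS, e1, e2, e3, -, -, -, -⟩ := Crv77.exists_hurwitz_seq k hdimX hdimY f hf e hsep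
  have hiY := (Curves2.Genus0.deg_omega (X := Y) k hdimY).1
  have hiX := (Curves2.Genus0.deg_omega (X := X) k hdimX).1
  have h1 := EGA73.isInvertible_of_iso e1.symm (Amp73.isInvertible_pullback f hiY)
  have h2 := EGA73.isInvertible_of_iso e2.symm hiX
  have hc1 := Crv77.isCoh_of_isInvertible h1
  have hc2 := Crv77.isCoh_of_isInvertible h2
  have hc3 := Crv77.isCoh_of_shortExact hS hc1 hc2
  obtain ⟨γ⟩ := Crv77.nonempty_iso_fitting S hS h1 h2 hc1.1 hc2.1 hc3.1 hc3.2
  have hI : Fitt.sheafIdeal S.X₃ 0 = Fitt.sheafIdeal (Omega.sheaf f) 0 := Scheme.IdealSheafData.ext (funext fun U => by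
    have : S.X₃.IsFiniteType := hc3.2
    have : S.X₃.IsQuasicoherent := hc3.1
    have : Module.Finite Γ(X, U.1) Γ(S.X₃, U.1) := QC70.finite_sections_of_isFiniteType S.X₃ U.2
    have h := Fit14.ideal_congr (Div89.sectionsEquiv e3 U.1) 0
    refine (Div89.fitting_ideal_eq S.X₃ hc3.1 hc3.2 0 U).trans (h.trans (Div89.fitting_ideal_eq (Omega.sheaf f) ?_ ?_ 0 U).symm)
    · exact SchBasics.isQuasicoherent_of_isUniversal (Var76.OmegaUniv.isUniversal f)
    · exact Om3.isFT_omega (Var76.OmegaUniv.isUniversal f))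
  exact ⟨EGA73.tensIso e2.symm (eqToIso (by rw [hI])) ≪≫ EGA73.tensComm _ _ ≪≫ γ ≪≫ e1⟩

end Groth.Agent.S11357
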