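import Groth.Statements.S1136
import Groth.Agent.Pure83.GermGlobal
import Groth.Agent.Pure83.FormalExtend
import Groth.Agent.LC16.FlatBC
import Groth.Agent.CAlg1.Complete
import Groth.Agent.Cohen12.Completion
import Groth.Agent.FEt83.PurityExtend
import Groth.Agent.S0239

set_option autoImplicit false
universe u
open Pi1

namespace Groth.Agent.S1136

open AlgebraicGeometry CategoryTheory CategoryTheory.Limits TensorProduct

/-- The trace of the pulled back cover, for an equal ideal. -/
theorem trace_pullback {A C : Type u} [CommRing A] [IsLocalRing A] [IsNoetherianRing A] [CommRing C]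
    [Algebra A C] [IsLocalRing C] {J : Ideal A} {J' : Ideal C} (hJ : J.map (algebraMap A C) = J')
    (a : (FEt.puncturedSpec C : Scheme.{u}) ⟶ (FEt.puncturedSpec A : Scheme.{u}))
    (ha : a ≫ (FEt.puncturedSpec A).ι = (FEt.puncturedSpec C).ι ≫ Pure83.descMap A C)
    (V : FEt.Cat (FEt.puncturedSpec A : Scheme.{u})) (Y₀ : FEt.Cat (Spec (CommRingCat.of (A ⧸ J))))
    (e : (FEt.restrict (pullback.snd (FEt.puncturedSpec A).ι (Pure83.qMap J))).obj Y₀ ≅ Pure83.trCover J V) :
    ∃ Y₁ : FEt.Cat (Spec (CommRingCat.of (C ⧸ J'))),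
      Nonempty ((FEt.restrict (pullback.snd (FEt.puncturedSpec C).ι (Pure83.qMap J'))).obj Y₁ ≅
        Pure83.trCover J' ((FEt.restrict a).obj V)) := by
  subst hJ
  exact Pure83.nonempty_trace_pullback a ha V Y₀ e

/-- Torsion of local cohomology passes to flat base changes. -/
theorem kill_baseChange {A C : Type u} [CommRing A] [IsNoetherianRing A] [CommRing C] [Algebra A C]
    [IsNoetherianRing C] [Module.Flat A C] (I : Ideal A) (i : ℕ) (a : A)
    (h : ∀ x : LocCoh.H I i A, a • x = 0) :
    ∀ x : LocCoh.H (I.map (algebraMap A C)) i C, algebraMap A C a • x = 0 := by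
  obtain ⟨e⟩ := LC16.FlatBC.exists_equiv C I i A
  have h1 : ∀ x : C ⊗[A] LocCoh.H I i A, algebraMap A C a • x = 0 := fun x => by
    induction x using TensorProduct.induction_on with
    | zero => simp
    | tmul c m =>
      rw [TensorProduct.smul_tmul', smul_eq_mul, ← Algebra.smul_def, TensorProduct.smul_tmul, h,
        TensorProduct.tmul_zero]
    | add x y hx hy => rw [smul_add, hx, hy, add_zero]
  let r : C ⊗[A] A ≃ₗ[C] C := TensorProduct.AlgebraTensorModule.rid A C C
  intro x
  have h2 : ∀ y : LocCoh.H (I.map (algebraMap A C)) i (C ⊗[A] A), algebraMap A C a • y = 0 := fun y => by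
    obtain ⟨z, rfl⟩ := e.surjective y
    rw [← map_smul, h1, map_zero]
  obtain ⟨y, rfl⟩ := (LC15.Hequiv (I.map (algebraMap A C)) i r).surjective x
  rw [← map_smul, h2, map_zero]

open AlgebraicGeometry CategoryTheory CategoryTheory.Limits in
/-- Let A be a Noetherian local ring and f a member of the maximal ideal with the property that some
power of f kills both local cohomology modules H^1_m(A), H^2_m(A). Let V be a finite etale cover of
the punctured spectrum U of A whose restriction to the punctured spectrum of A/fA is the restriction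
of a finite etale cover of Spec(A/fA). Then V is the restriction of a finite etale cover of Spec A. -/
theorem result (A : Type u) [CommRing A] [IsNoetherianRing A] [IsLocalRing A] (f : A) (hf : f ∈ IsLocalRing.maximalIdeal A)
    (h1 : (∃ n : ℕ, ∀ x : LocCoh.H (IsLocalRing.maximalIdeal A) 1 A, (f ^ n) • x = 0)) (h2 : (∃ n : ℕ, ∀ x : LocCoh.H (IsLocalRing.maximalIdeal A) 2 A, (f ^ n) • x = 0)) (V : FEt.Cat (FEt.puncturedSpec A : Scheme.{u}))
    (hV : (∃ Y₀ : FEt.Cat (Spec (CommRingCat.of (A ⧸ Ideal.span {f}))),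
      Nonempty ((FEt.restrict (pullback.snd (FEt.puncturedSpec A).ι (Spec.map (CommRingCat.ofHom (Ideal.Quotient.mk (Ideal.span {f})))))).obj Y₀ ≅ (FEt.restrict (pullback.fst (FEt.puncturedSpec A).ι (Spec.map (CommRingCat.ofHom (Ideal.Quotient.mk (Ideal.span {f})))))).obj V))) :
    ∃ Y : FEt.Cat (Spec (CommRingCat.of A)), Nonempty ((FEt.restrict (FEt.puncturedSpec A).ι).obj Y ≅ V) := by
  let C := AdicCompletion (IsLocalRing.maximalIdeal A) A
  have := Pure83.faithfullyFlat_completion (A := A)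
  have hm : (IsLocalRing.maximalIdeal A).map (algebraMap A C) = IsLocalRing.maximalIdeal C :=
    AdicCompletion.maximalIdeal_eq_map.symm
  have hc : IsAdicComplete (IsLocalRing.maximalIdeal C) C := Cohen12.isAdicComplete_completion A
  have : IsNoetherianRing C := Cohen12.isNoetherianRing_completion A
  obtain ⟨a, ha⟩ := Pure83.exists_puncturedMap (A := A) hm
  obtain ⟨Y₀, ⟨e₀⟩⟩ := hV
  let f' := algebraMap A C f
  have hf' : f' ∈ IsLocalRing.maximalIdeal C := hm ▸ Ideal.mem_map_of_mem _ hf
  have hJ : (Ideal.span {f}).map (algebraMap A C) = Ideal.span {f'} := by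
    rw [Ideal.map_span, Set.image_singleton]
  obtain ⟨Y₁, ⟨e₁⟩⟩ := trace_pullback hJ a ha V Y₀ e₀
  have hle : Ideal.span {f'} ≤ IsLocalRing.maximalIdeal C := (Ideal.span_singleton_le_iff_mem _).mpr hf'
  have : IsAdicComplete (Ideal.span {f'}) C := CAlg1.isAdicComplete_of_le hle (IsNoetherian.noetherian _)
  have hA : ∀ i, i = 1 ∨ i = 2 → ∃ k : ℕ, ∀ y : LocCoh.H (IsLocalRing.maximalIdeal C) i C, f' ^ k • y = 0 := by
    intro i hi
    obtain ⟨k, hk⟩ : ∃ k : ℕ, ∀ x : LocCoh.H (IsLocalRing.maximalIdeal A) i A, (f ^ k) • x = 0 := by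
      rcases hi with rfl | rfl
      exacts [h1, h2]
    refine ⟨k, ?_⟩
    rw [← hm, ← map_pow]
    exact kill_baseChange _ i _ hk
  obtain ⟨hfull, -⟩ := Pure83.Germ.restrict_ff f' hf' hA
  have := S0239.result C (Ideal.span {f'})
  obtain ⟨Y', ⟨eY⟩⟩ : ∃ Y' : FEt.Cat (Spec (CommRingCat.of C)),
      Nonempty ((FEt.restrict (Pure83.qMap (Ideal.span {f'}))).obj Y' ≅ Y₁) :=
    ⟨_, ⟨(FEt.restrict (Pure83.qMap (Ideal.span {f'}))).objObjPreimageIso Y₁⟩⟩
  let eU : (FEt.restrict (Pure83.Germ.u0 f')).obj ((FEt.restrict (FEt.puncturedSpec C).ι).obj Y') ≅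
      (FEt.restrict (Pure83.Germ.u0 f')).obj ((FEt.restrict a).obj V) :=
    FEt83.restrictSqIso _ _ _ _ pullback.condition Y' ≪≫ (FEt.restrict _).mapIso eY ≪≫ e₁
  have : (FEt.restrict (Pure83.Germ.u0 f')).Faithful := (Pure83.Germ.restrict_ff f' hf' hA).2
  exact Pure83.extends_of_extends_puncturedMap hm Pure83.completion_hsub V a ha Y'
    ((FEt.restrict (Pure83.Germ.u0 f')).preimageIso eU)

end Groth.Agent.S1136
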