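import Groth.Statements.S11360
import Groth.Agent.DR39.Dualizing2

set_option autoImplicit false
universe u
open CategoryTheory
attribute [local instance] HasDerivedCategory.standard
open Dual

namespace Groth.Agent.S11360

/-- Let A be a Noetherian ring and R an object of D(A) with finite cohomology modules and of finite
injective dimension (isomorphic to a bounded complex of injective modules). If for every prime p of
A the derived base change of R to A_p (the total left derived functor of extension of scalars,
assumed to exist) is a dualizing complex for A_p, then R is a dualizing complex for A. (The
published statement is for a locally Noetherian scheme and the stalks at all points; this row is the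
affine case. Without the global finite injective dimension hypothesis the conclusion fails, e.g. for
a regular Noetherian ring of infinite Krull dimension.) -/
theorem result (A : Type u) [CommRing A] [IsNoetherianRing A] (R : Dual.D A) (hfin : ∀ i : ℤ, Module.Finite A (Dual.HD A R i)) (hfid : DRing.HasFiniteInjDim A R) [∀ p : PrimeSpectrum A, DRing.HasLBaseChange (algebraMap A (Localization.AtPrime p.asIdeal))] (h : ∀ p : PrimeSpectrum A, Dual.IsDualizing (Localization.AtPrime p.asIdeal) ((DRing.LBaseChange (algebraMap A (Localization.AtPrime p.asIdeal))).obj R)) : Dual.IsDualizing A R := by
  obtain ⟨a, b, hab⟩ := hfid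
  refine DR39.isDualizing_of_atMaximal (a := a) (b := b) hfin
    (fun M _ _ i hi => DR39.subsingleton_hom_of_ia hab M hi) fun P hP => ?_
  haveI : Module.Flat A (Localization.AtPrime P) := IsLocalization.flat _ P.primeCompl
  haveI : DRing.HasLBaseChange (algebraMap A (Localization.AtPrime P)) :=
    (inferInstance : DRing.HasLBaseChange (algebraMap A
      (Localization.AtPrime (⟨P, hP.isPrime⟩ : PrimeSpectrum A).asIdeal)))
  obtain ⟨e⟩ := DR39.lbcIso (Localization.AtPrime P) R
  exact DR39.isDualizing_of_iso (h ⟨P, hP.isPrime⟩) e

end Groth.Agent.S11360
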