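import Groth.Statements.S11361
import Groth.Agent.DR39.FibreExt

set_option autoImplicit false
universe u
open CategoryTheory
open scoped TensorProduct
open Dual

attribute [local instance] HasDerivedCategory.standard Groth.Agent.Shriek42.hasLB

namespace Groth.Agent.S11361

/-- Let A be a Noetherian ring, n ≤ N, P = A[t_1, …, t_N], I an ideal of P with B = P/I flat over A.
Then all fibre rings B ⊗_A κ(p) are Cohen–Macaulay with every irreducible component of dimension n
(every minimal prime of the fibre ring has coheight n in its spectrum) if and only if Ext^j_P(B, P)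
vanishes for j ≠ N − n and Ext^{N−n}_P(B, P) is A-flat. (The published statement is for a flat
morphism of locally Noetherian schemes factoring through a closed immersion into a separated smooth
scheme, with f^! of the structure sheaf in place of the Ext modules; this row is the affine case of
a closed subscheme of affine N-space, where the two agree up to a shift and a twist by the trivial
canonical module.) -/
theorem result (A : Type u) [CommRing A] [IsNoetherianRing A] (N n : ℕ) (hnN : n ≤ N) (I : Ideal (MvPolynomial (Fin N) A)) [Module.Flat A (MvPolynomial (Fin N) A ⧸ I)] : (∀ p : PrimeSpectrum A, LocCoh.IsCohenMacaulayRing ((MvPolynomial (Fin N) A ⧸ I) ⊗[A] p.asIdeal.ResidueField) ∧ ∀ Q : PrimeSpectrum ((MvPolynomial (Fin N) A ⧸ I) ⊗[A] p.asIdeal.ResidueField), Q.asIdeal ∈ minimalPrimes ((MvPolynomial (Fin N) A ⧸ I) ⊗[A] p.asIdeal.ResidueField) → Order.coheight Q = (n : ℕ∞)) ↔ ((∀ j : ℕ, j ≠ N - n → Subsingleton (Abelian.Ext (ModuleCat.of (MvPolynomial (Fin N) A) (MvPolynomial (Fin N) A ⧸ I)) (ModuleCat.of (MvPolynomial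 (Fin N) A) (MvPolynomial (Fin N) A)) j)) ∧ Module.Flat A (RestrictScalars A (MvPolynomial (Fin N) A) (Abelian.Ext (ModuleCat.of (MvPolynomial (Fin N) A) (MvPolynomial (Fin N) A ⧸ I)) (ModuleCat.of (MvPolynomial (Fin N) A) (MvPolynomial (Fin N) A)) (N - n)))) := by
  haveI : Algebra.FinitePresentation A (MvPolynomial (Fin N) A ⧸ I) :=
    Algebra.FinitePresentation.quotient (IsNoetherian.noetherian I)
  have hψ : Function.Surjective (algebraMap (MvPolynomial (Fin N) A) (MvPolynomial (Fin N) A ⧸ I)) :=
    Ideal.Quotient.mk_surjective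
  let adj := Shriek42.rightDAdj (algebraMap (MvPolynomial (Fin N) A) (MvPolynomial (Fin N) A ⧸ I))
  refine (DR39.FibreExt.cm_fibres_iff N hψ _ adj n).trans ⟨fun ⟨hz, hT⟩ => ?_, fun ⟨hv, hf⟩ => ?_⟩
  · exact ⟨(DR39.FibreExt.vanishing_iff N _ adj n hnN).1 hz, (DR39.FibreExt.ext_flat_iff N _ adj n hnN hz).1 hT⟩
  · have hz := (DR39.FibreExt.vanishing_iff N _ adj n hnN).2 hv
    exact ⟨hz, (DR39.FibreExt.ext_flat_iff N _ adj n hnN hz).2 hf⟩

end Groth.Agent.S11361
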