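import Groth.Statements.S11362
import Groth.Agent.DR39.FibreExt

set_option autoImplicit false
universe u
open CategoryTheory
open scoped TensorProduct
open Dual

attribute [local instance] HasDerivedCategory.standard Groth.Agent.Shriek42.hasLB

namespace Groth.Agent.S11362

/-- Let A be any commutative ring, n ≤ N, P = A[t_1, …, t_N], I a finitely generated ideal of P and B =
P/I, flat over A with every fibre ring B ⊗_A κ(p) Cohen–Macaulay and all its minimal primes of
coheight n (all irreducible components of dimension n). Then Ext^j_P(B, P) vanishes for j ≠ N − n,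
and Ext^{N−n}_P(B, P) is A-flat and finitely presented over P. (The published statement is for a
closed subscheme of a smooth scheme of relative dimension N over an arbitrary base, with sheaf Ext
into the canonical module or the structure sheaf, and adds compatibility with base change; this row
is the affine-space case with the structure sheaf and does not restate the base-change assertion.) -/
theorem result (A : Type u) [CommRing A] (N n : ℕ) (hnN : n ≤ N) (I : Ideal (MvPolynomial (Fin N) A)) (hI : I.FG) [Module.Flat A (MvPolynomial (Fin N) A ⧸ I)] (hCM : ∀ p : PrimeSpectrum A, LocCoh.IsCohenMacaulayRing ((MvPolynomial (Fin N) A ⧸ I) ⊗[A] p.asIdeal.ResidueField)) (hdim : ∀ p : PrimeSpectrum A, ∀ Q : PrimeSpectrum ((MvPolynomial (Fin N) A ⧸ I) ⊗[A] p.asIdeal.ResidueField), Q.asIdeal ∈ minimalPrimes ((MvPolynomial (Fin N) A ⧸ I) ⊗[A] p.asIdeal.ResidueField) → Order.coheight Q = (n : ℕ∞)) : (∀ j : ℕ, j ≠ N - n → Subsingleton (Abelian.Ext (ModuleCat.of (MvPolynomial (Fin N) A) (MvPolynomial (Fin N) A ⧸ I)) (ModuleCat.of (MvPolynomial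 (Fin N) A) (MvPolynomial (Fin N) A)) j)) ∧ Module.Flat A (RestrictScalars A (MvPolynomial (Fin N) A) (Abelian.Ext (ModuleCat.of (MvPolynomial (Fin N) A) (MvPolynomial (Fin N) A ⧸ I)) (ModuleCat.of (MvPolynomial (Fin N) A) (MvPolynomial (Fin N) A)) (N - n))) ∧ Module.FinitePresentation (MvPolynomial (Fin N) A) (Abelian.Ext (ModuleCat.of (MvPolynomial (Fin N) A) (MvPolynomial (Fin N) A ⧸ I)) (ModuleCat.of (MvPolynomial (Fin N) A) (MvPolynomial (Fin N) A)) (N - n)) := by
  haveI : Algebra.FinitePresentation A (MvPolynomial (Fin N) A ⧸ I) := Algebra.FinitePresentation.quotient hI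
  have hψ : Function.Surjective (algebraMap (MvPolynomial (Fin N) A) (MvPolynomial (Fin N) A ⧸ I)) :=
    Ideal.Quotient.mk_surjective
  let adj := Shriek42.rightDAdj (algebraMap (MvPolynomial (Fin N) A) (MvPolynomial (Fin N) A ⧸ I))
  obtain ⟨hz, hT⟩ := (DR39.FibreExt.cm_fibres_iff N hψ _ adj n).1 fun p => ⟨hCM p, hdim p⟩
  exact ⟨(DR39.FibreExt.vanishing_iff N _ adj n hnN).1 hz, (DR39.FibreExt.ext_flat_iff N _ adj n hnN hz).1 hT,
    DR39.FibreExt.finitePresentation_ext N hψ _ adj n hnN hz⟩

end Groth.Agent.S11362
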