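import Groth.Statements.S11365
import Groth.Agent.DR39.GorExt

set_option autoImplicit false
universe u
open CategoryTheory
open scoped TensorProduct
open Dual

attribute [local instance] HasDerivedCategory.standard Groth.Agent.Shriek42.hasLB

namespace Groth.Agent.S11365

/-- Let A be a Noetherian ring, n ≤ N, P = A[t_1, …, t_N], I an ideal of P with B = P/I flat over A, and
suppose Ext^j_P(B, P) vanishes for j ≠ N − n while Ext^{N−n}_P(B, P) is A-flat. Then Ext^{N−n}_P(B,
P) is P-isomorphic to an invertible B-module if and only if all fibre rings B ⊗_A κ(p) are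
Gorenstein. (The published statement is for the degree −n cohomology of f^! of the structure sheaf
of a CM morphism of locally Noetherian schemes with pure relative dimension n; this row is the
affine case of a closed subscheme of affine N-space.) -/
theorem result (A : Type u) [CommRing A] [IsNoetherianRing A] (N n : ℕ) (hnN : n ≤ N) (I : Ideal (MvPolynomial (Fin N) A)) [Module.Flat A (MvPolynomial (Fin N) A ⧸ I)] (hvan : ∀ j : ℕ, j ≠ N - n → Subsingleton (Abelian.Ext (ModuleCat.of (MvPolynomial (Fin N) A) (MvPolynomial (Fin N) A ⧸ I)) (ModuleCat.of (MvPolynomial (Fin N) A) (MvPolynomial (Fin N) A)) j)) (hflat : Module.Flat A (RestrictScalars A (MvPolynomial (Fin N) A) (Abelian.Ext (ModuleCat.of (MvPolynomial (Fin N) A) (MvPolynomial (Fin N) A ⧸ I)) (ModuleCat.of (MvPolynomial (Fin N) A) (MvPolynomial (Fin N) A)) (N - n)))) : (∃ (L : Type u) (_ : AddCommGroup L) (_ : Module (MvPolynomial (Fin N) A ⧸ I) L), Module.Invertible (MvPolynomial (Fin N) A ⧸ I) L ∧ Nonempty (RestrictScalars (MvPolynomial (Fin N) A) (MvPolynomial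 (Fin N) A ⧸ I) L ≃ₗ[(MvPolynomial (Fin N) A)] Abelian.Ext (ModuleCat.of (MvPolynomial (Fin N) A) (MvPolynomial (Fin N) A ⧸ I)) (ModuleCat.of (MvPolynomial (Fin N) A) (MvPolynomial (Fin N) A)) (N - n))) ↔ ∀ p : PrimeSpectrum A, LocCoh.IsGorensteinRing ((MvPolynomial (Fin N) A ⧸ I) ⊗[A] p.asIdeal.ResidueField) := by
  haveI : Algebra.FinitePresentation A (MvPolynomial (Fin N) A ⧸ I) :=
    Algebra.FinitePresentation.quotient (IsNoetherian.noetherian I)
  have hψ : Function.Surjective (algebraMap (MvPolynomial (Fin N) A) (MvPolynomial (Fin N) A ⧸ I)) :=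
    Ideal.Quotient.mk_surjective
  let adj := Shriek42.rightDAdj (algebraMap (MvPolynomial (Fin N) A) (MvPolynomial (Fin N) A ⧸ I))
  have hz := (DR39.FibreExt.vanishing_iff N _ adj n hnN).2 hvan
  obtain ⟨e, he⟩ := DR39.FibreExt.exists_HD_ext N _ adj (-(n : ℤ)) (N - n) (by omega)
  refine Iff.trans ⟨?_, ?_⟩ (DR39.FibreExt.gorenstein_fibres_iff N hψ _ adj n hz)
  · rintro ⟨L, _, _, hL, ⟨l⟩⟩
    let t := (e.trans l.symm.toAddEquiv).trans (RestrictScalars.addEquiv _ _ L)
    exact Module.Invertible.congr (R := MvPolynomial (Fin N) A ⧸ I)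
      ({ t with
          map_smul' := fun b m => by
            obtain ⟨p, rfl⟩ := hψ b
            show RestrictScalars.addEquiv _ _ L (l.symm (e (_ • m))) = _
            rw [he, map_smul, RestrictScalars.addEquiv_map_smul]
            rfl } : _ ≃ₗ[MvPolynomial (Fin N) A ⧸ I] L).symm
  · intro hinv
    refine ⟨_, _, _, hinv, ⟨
      { (RestrictScalars.addEquiv (MvPolynomial (Fin N) A) (MvPolynomial (Fin N) A ⧸ I) _).trans e with
        map_smul' := fun p m => by
          show e (RestrictScalars.addEquiv _ _ _ (p • m)) = _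
          rw [RestrictScalars.addEquiv_map_smul, he]
          rfl }⟩⟩

end Groth.Agent.S11365
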