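import Groth.Statements.S1138
import Groth.Agent.Pure83.GlueComplete
import Groth.Agent.Pure83.Compl

set_option autoImplicit false
universe u
open Pi1

namespace Groth.Agent.S1138

open AlgebraicGeometry CategoryTheory CategoryTheory.Limits in
/-- Let A be a Noetherian local ring with completion A', U the punctured spectrum of A and U' its base
change to X' = Spec A'. Let V ⟶ U be finite and let Y' ⟶ X' be finite with Y' ×_{X'} U' isomorphic
to V ×_U U' over U'. Then there is a finite Y ⟶ Spec A with Y ×_X U isomorphic to V over U and Y ×_X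
X' isomorphic to Y' over X'. (The source also records that these isomorphisms are compatible over
U'; this statement only asserts their existence.) -/
theorem result (A : Type u) [CommRing A] [IsNoetherianRing A] [IsLocalRing A]
    (V : Over (FEt.puncturedSpec A : Scheme.{u})) [IsFinite V.hom]
    (Y' : Over (Spec (CommRingCat.of (AdicCompletion (IsLocalRing.maximalIdeal A) A)))) [IsFinite Y'.hom]
    (e : (Over.pullback (pullback.fst (FEt.puncturedSpec A).ι (Spec.map (CommRingCat.ofHom (algebraMap A (AdicCompletion (IsLocalRing.maximalIdeal A) A)))))).obj V ≅ (Over.pullback (pullback.snd (FEt.puncturedSpec A).ι (Spec.map (CommRingCat.ofHom (algebraMap A (AdicCompletion (IsLocalRing.maximalIdeal A) A)))))).obj Y') :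
    ∃ Y : Over (Spec (CommRingCat.of A)), IsFinite Y.hom ∧
      Nonempty ((Over.pullback (FEt.puncturedSpec A).ι).obj Y ≅ V) ∧
      Nonempty ((Over.pullback (Spec.map (CommRingCat.ofHom (algebraMap A (AdicCompletion (IsLocalRing.maximalIdeal A) A))))).obj Y ≅ Y') := by
  let C := AdicCompletion (IsLocalRing.maximalIdeal A) A
  let ι := (FEt.puncturedSpec A).ι
  let d := Pure83.descMap A C
  let σ := pullback.snd ι d
  have := Pure83.faithfullyFlat_completion (A := A)
  have : IsAffine Y'.left := @isAffine_of_isAffineHom _ (Spec (CommRingCat.of C)) Y'.hom _ inferInstance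
  let φ : C →+* Γ(Y'.left, ⊤) := (Spec.preimage (Y'.left.isoSpec.inv ≫ Y'.hom)).hom
  let _ : Algebra C Γ(Y'.left, ⊤) := φ.toAlgebra
  have hy : Spec.map (CommRingCat.ofHom (algebraMap C Γ(Y'.left, ⊤))) = Y'.left.isoSpec.inv ≫ Y'.hom :=
    Spec.map_preimage _
  have : Module.Finite C Γ(Y'.left, ⊤) := by
    refine RingHom.finite_algebraMap.mp ((IsFinite.SpecMap_iff (CommRingCat.ofHom (algebraMap C Γ(Y'.left, ⊤)))).mp ?_)
    rw [hy]
    exact MorphismProperty.comp_mem (W := @IsFinite) _ _ inferInstance inferInstance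
  let h : pullback V.hom (pullback.fst ι d) ⟶ Spec Γ(Y'.left, ⊤) :=
    e.hom.left ≫ pullback.fst Y'.hom σ ≫ Y'.left.isoSpec.hom
  have : IsIso e.hom.left := ((Over.forget _).mapIso e).isIso_hom
  have hh : IsPullback h (pullback.snd V.hom (pullback.fst ι d))
      (Spec.map (CommRingCat.ofHom (algebraMap C Γ(Y'.left, ⊤)))) σ := by
    refine (IsPullback.of_hasPullback Y'.hom σ).of_iso (@asIso _ _ _ _ e.hom.left ‹_›).symm
      Y'.left.isoSpec (Iso.refl _) (Iso.refl _) ?_ ?_ ?_ ?_
    · simp only [Iso.symm_hom, asIso_inv, h]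
      exact (IsIso.eq_inv_comp _).mpr rfl
    · simp only [Iso.symm_hom, asIso_inv, Iso.refl_hom, Category.comp_id]
      exact (IsIso.eq_inv_comp _).mpr (Over.w e.hom)
    · rw [Iso.refl_hom, Category.comp_id, hy, Iso.hom_inv_id_assoc]
    · simp
  obtain ⟨Y, hY, ⟨e₁⟩, ⟨e₂⟩⟩ :=
    Pure83.exists_finite_of_baseChange Pure83.completion_hsub V Γ(Y'.left, ⊤) h hh
  exact ⟨Y, hY, ⟨e₁⟩, ⟨e₂ ≪≫ (Over.isoMk Y'.left.isoSpec (by
    show _ ≫ Spec.map _ = _
    rw [hy, Iso.hom_inv_id_assoc]) : Y' ≅ Over.mk (Spec.map (CommRingCat.ofHom (algebraMap C Γ(Y'.left, ⊤))))).symm⟩⟩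

end Groth.Agent.S1138
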