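import Groth.Statements.S11393
import Mathlib.AlgebraicGeometry.Morphisms.Proper
import Mathlib.FieldTheory.Minpoly.Field
import Mathlib.FieldTheory.IsAlgClosed.Basic

set_option autoImplicit false
universe u
open CategoryTheory CategoryTheory.Limits AlgebraicGeometry TopologicalSpace
open Variety

namespace Groth.Agent.S11393

open CategoryTheory CategoryTheory.Limits AlgebraicGeometry Opposite TopologicalSpace

set_option backward.isDefEq.respectTransparency false

/-- An idempotent global section of a connected scheme is trivial. -/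
theorem idem_trivial {Z : Scheme.{u}} [PreconnectedSpace Z] (e : Γ(Z, ⊤)) (he : e * e = e) : e = 0 ∨ e = 1 := by
  have hcov : Z.basicOpen e ⊔ Z.basicOpen (1 - e) = ⊤ := by
    refine eq_top_iff.2 fun x _ => ?_
    rcases IsLocalRing.isUnit_or_isUnit_one_sub_self (Z.presheaf.germ ⊤ x trivial e) with h | h
    · exact Or.inl ((Scheme.mem_basicOpen Z (U := ⊤) _ x trivial).2 h)
    · exact Or.inr ((Scheme.mem_basicOpen Z (U := ⊤) _ x trivial).2 (by rwa [map_sub, map_one]))
  have hdis : Z.basicOpen e ⊓ Z.basicOpen (1 - e) = ⊥ := by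
    rw [← Scheme.basicOpen_mul, mul_sub, mul_one, he, sub_self, Scheme.basicOpen_zero]
  have hclopen : IsClopen (Z.basicOpen e : Set Z) := by
    refine ⟨⟨?_⟩, (Z.basicOpen e).isOpen⟩
    have : (Z.basicOpen e : Set Z)ᶜ = (Z.basicOpen (1 - e) : Set Z) := by
      ext x
      have h1 : x ∈ Z.basicOpen e ⊔ Z.basicOpen (1 - e) := by rw [hcov]; trivial
      refine ⟨fun h => h1.resolve_left h, fun h h' => ?_⟩
      have : x ∈ Z.basicOpen e ⊓ Z.basicOpen (1 - e) := ⟨h', h⟩
      rw [hdis] at this
      exact this.elim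
    rw [this]
    exact (Z.basicOpen (1 - e)).isOpen
  rcases isClopen_iff.1 hclopen with h | h
  · left
    have h1 : Z.basicOpen (1 - e) = ⊤ := by
      refine Eq.trans ?_ hcov
      rw [show Z.basicOpen e = ⊥ from SetLike.coe_injective h, bot_sup_eq]
    have hu : IsUnit (1 - e) := Z.toRingedSpace.isUnit_of_isUnit_germ ⊤ _ fun x hx =>
      (Scheme.mem_basicOpen _ _ x hx).1 (by rw [h1]; exact hx)
    exact hu.mul_right_eq_zero.1 (by rw [sub_mul, one_mul, he, sub_self])
  · right
    have h1 : Z.basicOpen e = ⊤ := SetLike.coe_injective h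
    have hu : IsUnit e := Z.toRingedSpace.isUnit_of_isUnit_germ ⊤ _ fun x hx =>
      (Scheme.mem_basicOpen _ _ x hx).1 (by rw [h1]; exact hx)
    exact (sub_eq_zero.1 (hu.mul_right_eq_zero.1 (by rw [mul_sub, mul_one, he, sub_self]))).symm

/-- An algebraic element of a ring with trivial idempotents over an algebraically closed field is
a constant plus a nilpotent. -/
theorem exists_nilpotent {k A : Type u} [Field k] [IsAlgClosed k] [CommRing A] [Nontrivial A] [Algebra k A]
    (hidem : ∀ e : A, e * e = e → e = 0 ∨ e = 1) (a : A) (ha : _root_.IsIntegral k a) :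
    ∃ c : k, IsNilpotent (a - algebraMap k A c) := by
  classical
  set p := minpoly k a
  obtain ⟨c, hc⟩ := IsAlgClosed.exists_root p (minpoly.degree_pos ha).ne'
  refine ⟨c, ?_⟩
  obtain ⟨q, hpq, hq⟩ := p.exists_eq_pow_rootMultiplicity_mul_and_not_dvd (minpoly.ne_zero ha) c
  set e := p.rootMultiplicity c
  have he0 : 0 < e := (Polynomial.rootMultiplicity_pos (minpoly.ne_zero ha)).2 hc
  obtain ⟨u, v, huv⟩ : IsCoprime ((Polynomial.X - Polynomial.C c) ^ e) q :=
    ((Polynomial.irreducible_X_sub_C c).coprime_iff_not_dvd.2 hq).pow_left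
  have h1 : Polynomial.aeval a u * (a - algebraMap k A c) ^ e + Polynomial.aeval a v * Polynomial.aeval a q = 1 := by
    have := congrArg (Polynomial.aeval a) huv
    simpa using this
  have h0 : (a - algebraMap k A c) ^ e * Polynomial.aeval a q = 0 := by
    have : Polynomial.aeval a p = 0 := minpoly.aeval k a
    rw [hpq] at this
    simpa using this
  have hidemE : Polynomial.aeval a v * Polynomial.aeval a q * (Polynomial.aeval a v * Polynomial.aeval a q) =
      Polynomial.aeval a v * Polynomial.aeval a q := by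
    linear_combination (Polynomial.aeval a v * Polynomial.aeval a q) * h1 - (Polynomial.aeval a u * Polynomial.aeval a v) * h0
  rcases hidem _ hidemE with hE | hE
  · exfalso
    have hq0 : Polynomial.aeval a q = 0 := by
      linear_combination -(Polynomial.aeval a q) * h1 + Polynomial.aeval a u * h0 + (Polynomial.aeval a q) * hE
    have hqne : q ≠ 0 := fun h => minpoly.ne_zero ha (by rw [show minpoly k a = p from rfl, hpq, h, mul_zero])
    have hle : p.natDegree ≤ q.natDegree := Polynomial.natDegree_le_natDegree (minpoly.degree_le_of_ne_zero k a hqne hq0)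
    rw [hpq, Polynomial.natDegree_mul (pow_ne_zero _ (Polynomial.X_sub_C_ne_zero c)) hqne,
      Polynomial.natDegree_pow, Polynomial.natDegree_X_sub_C] at hle
    omega
  · exact ⟨e, by linear_combination Polynomial.aeval a v * h0 - (a - algebraMap k A c) ^ e * hE⟩

/-- A limit of a tower in which every element is a constant plus a levelwise nilpotent is local. -/
theorem isLocalRing_limit {k : Type u} [Field k] (F : ℕᵒᵖ ⥤ CommRingCat.{u}) [Nontrivial (F.obj (op 0))]
    (hc : ∀ a : ↑(limit F), ∃ c : k, ∀ m : ℕ, ∃ x : F.obj (op m), (c = 0 → x = 0) ∧ (c ≠ 0 → IsUnit x) ∧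
      IsNilpotent ((limit.π F (op m)).hom a - x)) : IsLocalRing ↑(limit F) := by
  have hunit : ∀ a : ↑(limit F), (∀ j, IsUnit ((limit.π F j).hom a)) → IsUnit a := by
    intro a ha
    let inv : ∀ j, F.obj j := fun j => ((ha j).unit⁻¹ : (F.obj j)ˣ)
    have hcompat : ∀ {i j} (φ : i ⟶ j), (F.map φ).hom (inv i) = inv j := by
      intro i j φ
      have h1 : (F.map φ).hom ((limit.π F i).hom a) = (limit.π F j).hom a := by
        rw [← limit.w F φ]; rfl
      refine (ha j).mul_left_cancel ?_
      calc (limit.π F j).hom a * (F.map φ).hom (inv i)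
          = (F.map φ).hom ((limit.π F i).hom a * inv i) := by rw [map_mul, h1]
        _ = (limit.π F j).hom a * inv j := by rw [IsUnit.mul_val_inv, map_one, IsUnit.mul_val_inv]
    let b : ↑(limit F) := (Types.isLimitEquivSections
      (isLimitOfPreserves (forget CommRingCat.{u}) (limit.isLimit F))).symm ⟨inv, hcompat⟩
    have hb : ∀ j, (limit.π F j).hom b = inv j := fun j =>
      Types.isLimitEquivSections_symm_apply (isLimitOfPreserves (forget CommRingCat.{u}) (limit.isLimit F)) _ j
    exact IsUnit.of_mul_eq_one b (Concrete.limit_ext F _ _ fun j => by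
      show (limit.π F j).hom (a * b) = (limit.π F j).hom 1
      rw [map_mul, map_one, hb, IsUnit.mul_val_inv])
  have hnon : ∀ a : ↑(limit F), ¬ IsUnit a → ∀ m : ℕ, IsNilpotent ((limit.π F (op m)).hom a) := by
    intro a ha m
    obtain ⟨c, h⟩ := hc a
    by_cases hc0 : c = 0
    · obtain ⟨x, hx, -, hn⟩ := h m
      rw [hx hc0, sub_zero] at hn
      exact hn
    · refine absurd (hunit a fun j => ?_) ha
      obtain ⟨x, -, hx, hn⟩ := h j.unop
      have := (hn.isUnit_add_right_of_commute (hx hc0) (Commute.all _ _))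
      rwa [sub_add_cancel] at this
  have : Nontrivial ↑(limit F) := (limit.π F (op 0)).hom.domain_nontrivial
  refine IsLocalRing.of_nonunits_add fun {a b} ha hb => ?_
  intro hab
  have h1 := (Commute.all _ _).isNilpotent_add (hnon a ha 0) (hnon b hb 0)
  rw [← map_add] at h1
  exact h1.not_isUnit (hab.map (limit.π F (op 0)).hom)

/-- Let X be proper over an algebraically closed field k and 𝓘 a quasi-coherent ideal whose closed
subscheme Y is connected (and nonempty); let Y_m be the closed subscheme of 𝓘^{m+1} and A = lim_m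
Γ(Y_m, O_{Y_m}) the ring of formal-regular functions along Y (global sections of the structure sheaf
of the formal completion), formed as the limit in commutative rings along the restriction maps
Γ(Y_{m+1}, O) → Γ(Y_m, O). Then A is a local ring, and every element a of A differs from the image
of some constant c ∈ k by an element whose image in each Γ(Y_m, O_{Y_m}) is nilpotent (so the
residue field of A is k through the structure map). (The published statement also asserts that A is
a complete local ring; that clause is not included here.) -/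
theorem result (k : Type u) [Field k] [IsAlgClosed k] (X : Scheme.{u})
    [X.Over (Spec (CommRingCat.of k))] [IsProper (X ↘ (Spec (CommRingCat.of k)))]
    (𝓘 : X.IdealSheafData) (hY : _root_.IsConnected (𝓘.support : Set X)) :
    IsLocalRing ↑(limit (Functor.ofOpSequence
        (X := fun m : ℕ => Γ((𝓘 ^ (m + 1)).subscheme, ⊤))
        (fun m : ℕ => (Scheme.IdealSheafData.inclusion (Lef.pow_succ_le 𝓘 m)).appTop))) ∧
      ∀ a : ↑(limit (Functor.ofOpSequence
        (X := fun m : ℕ => Γ((𝓘 ^ (m + 1)).subscheme, ⊤))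
        (fun m : ℕ => (Scheme.IdealSheafData.inclusion (Lef.pow_succ_le 𝓘 m)).appTop))),
        ∃ c : k, ∀ m : ℕ, IsNilpotent (Sub.sub (α := ↑Γ((𝓘 ^ (m + 1)).subscheme, ⊤))
          ((limit.π (Functor.ofOpSequence
              (X := fun m : ℕ => Γ((𝓘 ^ (m + 1)).subscheme, ⊤))
              (fun m : ℕ => (Scheme.IdealSheafData.inclusion (Lef.pow_succ_le 𝓘 m)).appTop)) (Opposite.op m)).hom a)
          (((𝓘 ^ (m + 1)).subschemeι ≫ (X ↘ Spec (CommRingCat.of k))).appTop.hom
            ((Scheme.ΓSpecIso (CommRingCat.of k)).inv.hom c))) := by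
  classical
  set F := Functor.ofOpSequence (X := fun m : ℕ => Γ((𝓘 ^ (m + 1)).subscheme, ⊤))
    (fun m : ℕ => (Scheme.IdealSheafData.inclusion (Lef.pow_succ_le 𝓘 m)).appTop) with hF
  let q : ∀ m : ℕ, (𝓘 ^ (m + 1)).subscheme ⟶ Spec (CommRingCat.of k) :=
    fun m => (𝓘 ^ (m + 1)).subschemeι ≫ (X ↘ Spec (CommRingCat.of k))
  let κ : ∀ m : ℕ, k →+* Γ((𝓘 ^ (m + 1)).subscheme, ⊤) := fun m =>
    (q m).appTop.hom.comp (Scheme.ΓSpecIso (CommRingCat.of k)).inv.hom
  have hconn : ∀ m : ℕ, ConnectedSpace (𝓘 ^ (m + 1)).subscheme := by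
    intro m
    have hr : Set.range (𝓘 ^ (m + 1)).subschemeι = (𝓘.support : Set X) := by
      rw [Scheme.IdealSheafData.range_subschemeι, Scheme.IdealSheafData.support_pow_succ]
    have : ConnectedSpace ↥(𝓘.support : Set X) := isConnected_iff_connectedSpace.1 hY
    let e := ((𝓘 ^ (m + 1)).subschemeι.isEmbedding.toHomeomorph.trans (Homeomorph.setCongr hr)).symm
    exact e.surjective.connectedSpace e.continuous
  have hnt : ∀ m : ℕ, Nontrivial Γ((𝓘 ^ (m + 1)).subscheme, ⊤) := by
    intro m
    have := hconn m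
    obtain ⟨x⟩ := (inferInstance : Nonempty (𝓘 ^ (m + 1)).subscheme)
    exact ((𝓘 ^ (m + 1)).subscheme.presheaf.germ ⊤ x trivial).hom.domain_nontrivial
  have hκ : ∀ m : ℕ, (Scheme.IdealSheafData.inclusion (Lef.pow_succ_le 𝓘 m)).appTop.hom.comp (κ (m + 1)) = κ m := by
    intro m
    have hq : Scheme.IdealSheafData.inclusion (Lef.pow_succ_le 𝓘 m) ≫ q (m + 1) = q m := by
      simp [q]
    show _ = ((q m).appTop.hom.comp _)
    rw [← hq, Scheme.Hom.comp_appTop]
    rfl
  let π : ∀ m : ℕ, ↑(limit F) → Γ((𝓘 ^ (m + 1)).subscheme, ⊤) := fun m a => (limit.π F (op m)).hom a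
  have key : ∀ a : ↑(limit F), ∃ c : k, ∀ m : ℕ, IsNilpotent (π m a - κ m c) := by
    intro a
    have hlev : ∀ m : ℕ, ∃ c : k, IsNilpotent (π m a - κ m c) := by
      intro m
      letI := (κ m).toAlgebra
      have := hnt m
      have := hconn m
      have hint : (κ m).IsIntegral :=
        RingHom.IsIntegral.trans (Scheme.ΓSpecIso (CommRingCat.of k)).inv.hom (q m).appTop.hom
          (RingHom.isIntegral_of_surjective _ (ConcreteCategory.bijective_of_isIso
            (Scheme.ΓSpecIso (CommRingCat.of k)).inv).2) (isIntegral_appTop_of_universallyClosed (q m))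
      exact exists_nilpotent (k := k) idem_trivial _ (hint _)
    choose c hc using hlev
    have hstep : ∀ m, c (m + 1) = c m := by
      intro m
      have hw : (Scheme.IdealSheafData.inclusion (Lef.pow_succ_le 𝓘 m)).appTop.hom (π (m + 1) a) =
          π m a := by
        have := limit.w F (homOfLE (Nat.le_succ m)).op
        rw [hF, Functor.ofOpSequence_map_homOfLE_succ] at this
        exact congrArg (fun φ => φ.hom a) this
      have h1 := (hc (m + 1)).map (Scheme.IdealSheafData.inclusion (Lef.pow_succ_le 𝓘 m)).appTop.hom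
      rw [map_sub, hw, ← RingHom.comp_apply, hκ] at h1
      have h2 := (Commute.all _ _).isNilpotent_sub (hc m) h1
      rw [sub_sub_sub_cancel_left, ← map_sub] at h2
      by_contra hne
      have := hnt m
      exact h2.not_isUnit ((IsUnit.mk0 _ (sub_ne_zero.2 hne)).map (κ m))
    have hconst : ∀ m, c m = c 0 := fun m => Nat.rec rfl (fun m ih => (hstep m).trans ih) m
    exact ⟨c 0, fun m => hconst m ▸ hc m⟩
  refine ⟨?_, key⟩
  have : Nontrivial (F.obj (op 0)) := hnt 0
  refine isLocalRing_limit (k := k) F fun a => ?_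
  obtain ⟨c, hc⟩ := key a
  exact ⟨c, fun m => ⟨κ m c, fun h => by rw [h]; exact map_zero (κ m),
    fun h => (IsUnit.mk0 _ h).map (κ m), hc m⟩⟩

end Groth.Agent.S11393
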