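import Groth.Statements.S11395
import Groth.Agent.AlgGrp79.Act
import Groth.Agent.AlgGrp79.Cover
import Groth.Agent.AlgGrp79.SepDense
import Groth.Agent.AlgGrp79.Rigidity
import Groth.Agent.AlgGrp79.RigidityGlobal

set_option autoImplicit false
universe u
open CategoryTheory MonoidalCategory CartesianMonoidalCategory MonObj GrpObj AlgebraicGeometry CategoryTheory.Limits
open AlgGrp

namespace Groth.Agent.S11395
open Groth.Agent.AlgGrp79 CategoryTheory.Limits
open scoped commutatorElement

/-- Over an algebraically closed field k, let X, Y and Z be k-schemes of finite type such that the only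
global functions on X are the constants, Y is connected and Z is separated over k. Let f : X × Y → Z
be a k-morphism and y₀, z₀ rational points of Y, Z such that the restriction of f to X × y₀ is the
constant morphism with value z₀ (as a morphism of schemes; for reduced X this is the condition on
closed points). Then there is a unique morphism g : Y → Z with f = g ∘ pr₂. -/
theorem result (k : Type u) [Field k] [IsAlgClosed k]
    (X Y Z : Over (Spec (CommRingCat.of k))) [LocallyOfFiniteType X.hom] [QuasiCompact X.hom]
    [LocallyOfFiniteType Y.hom] [QuasiCompact Y.hom] [LocallyOfFiniteType Z.hom] [QuasiCompact Z.hom]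
    (hX : Function.Bijective ((Scheme.ΓSpecIso (CommRingCat.of k)).inv ≫ X.hom.appTop).hom)
    [ConnectedSpace ↥Y.left] [IsSeparated Z.hom]
    (f : X ⊗ Y ⟶ Z) (y₀ : 𝟙_ (Over (Spec (CommRingCat.of k))) ⟶ Y) (z₀ : 𝟙_ (Over (Spec (CommRingCat.of k))) ⟶ Z)
    (hf : (X ◁ y₀) ≫ f = toUnit _ ≫ z₀) :
    ∃! g : Y ⟶ Z, f = snd X Y ≫ g := by
  have := connectedSpace_of_antiAffine hX
  have : IsLocallyNoetherian X.left := LocallyOfFiniteType.isLocallyNoetherian X.hom
  have : JacobsonSpace X.left := LocallyOfFiniteType.jacobsonSpace X.hom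
  have : QuasiSeparated X.hom := quasiSeparated_iff_quasiSeparatedSpace _ |>.2 inferInstance
  obtain ⟨p, -, hp⟩ := nonempty_inter_closedPoints (Z := (Set.univ : Set X.left)) Set.univ_nonempty isClosed_univ.isLocallyClosed
  let x₀ : 𝟙_ (Over (Spec (CommRingCat.of k))) ⟶ X :=
    Over.homMk (pointOfClosedPoint X.hom p hp) (pointOfClosedPoint_comp _ _ _)
  refine ⟨_, eq_snd_of_connected hX x₀ y₀ f (range_subsingleton_of_eq hf), fun g hg => ?_⟩
  rw [hg, lift_snd_assoc, Category.id_comp]
end Groth.Agent.S11395
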