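import Groth.Statements.S11404
import Groth.Agent.S11421
import Groth.Agent.AlgGrp79.Act
import Groth.Agent.AlgGrp79.RigidityGlobal
import Groth.Agent.AlgGrp79.AbelianBasic

set_option autoImplicit false
universe u
open CategoryTheory MonoidalCategory CartesianMonoidalCategory MonObj GrpObj AlgebraicGeometry CategoryTheory.Limits
open AlgGrp

namespace Groth.Agent.S11404
open Groth.Agent.AlgGrp79 CategoryTheory.Limits
open scoped commutatorElement

/-- Over an algebraically closed field k, let A be an abelian variety (a proper, smooth, connected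
k-group scheme) and S a connected k-scheme of finite type. For every automorphism f of A × S over S
there are a unique k-morphism g : S → A and a unique group automorphism h of A with f(a, s) = (g(s)
· h(a), s) on points. (This is the functor-of-points form, over a connected base, of the
identification of the automorphism group scheme of A with the semidirect product of A, acting by
translations, and the constant group of group automorphisms; in particular the neutral component is
A.) -/
theorem result (k : Type u) [Field k] [IsAlgClosed k]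
    (A S : Over (Spec (CommRingCat.of k))) [GrpObj A] [IsProper A.hom] [Smooth A.hom] [ConnectedSpace ↥A.left]
    [LocallyOfFiniteType S.hom] [QuasiCompact S.hom] [ConnectedSpace ↥S.left]
    (f : A ⊗ S ≅ A ⊗ S) (hf : f.hom ≫ snd A S = snd A S) :
    ∃ (g : S ⟶ A) (h : A ⟶ A), IsMonHom h ∧ IsIso h ∧
      f.hom ≫ fst A S = (snd A S ≫ g) * (fst A S ≫ h) ∧
      ∀ (g' : S ⟶ A) (h' : A ⟶ A), IsMonHom h' →
        f.hom ≫ fst A S = (snd A S ≫ g') * (fst A S ≫ h') → g' = g ∧ h' = h := by
  have hA := antiAffine_of_abelian A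
  have hf' : f.inv ≫ snd A S = snd A S := by rw [Iso.inv_comp_eq, hf]
  obtain ⟨g, h, hh, e, u⟩ := Groth.Agent.S11421.result k A A S hA (f.hom ≫ fst A S)
  obtain ⟨g', h', hh', e', -⟩ := Groth.Agent.S11421.result k A A S hA (f.inv ≫ fst A S)
  refine ⟨g, h, hh, ?_, e, u⟩
  obtain ⟨g₀, h₀, -, -, u₀⟩ := Groth.Agent.S11421.result k A A S hA (fst A S)
  have hid : fst A S = (snd A S ≫ (1 : S ⟶ A)) * (fst A S ≫ 𝟙 A) := by simp
  have key : ∀ (p q : A ⊗ S ⟶ A ⊗ S) (g₁ g₂ : S ⟶ A) (h₁ h₂ : A ⟶ A), IsMonHom h₁ → IsMonHom h₂ →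
      p ≫ q = 𝟙 _ → p ≫ snd A S = snd A S →
      p ≫ fst A S = (snd A S ≫ g₁) * (fst A S ≫ h₁) → q ≫ fst A S = (snd A S ≫ g₂) * (fst A S ≫ h₂) →
      h₁ ≫ h₂ = 𝟙 A := by
    intro p q g₁ g₂ h₁ h₂ _ _ hpq hp e₁ e₂
    have : fst A S = (snd A S ≫ (g₂ * (g₁ ≫ h₂))) * (fst A S ≫ (h₁ ≫ h₂)) := by
      conv_lhs => rw [← Category.id_comp (fst A S), ← hpq, Category.assoc, e₂, MonObj.comp_mul, reassoc_of% hp,
        reassoc_of% e₁, mul_comp', Category.assoc, Category.assoc, ← _root_.mul_assoc, ← MonObj.comp_mul]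
    have h1 := (u₀ _ _ inferInstance this).2
    have h2 := (u₀ _ _ inferInstance hid).2
    exact h1.trans h2.symm
  exact ⟨⟨h', key f.hom f.inv g g' h h' hh hh' f.hom_inv_id hf e e', key f.inv f.hom g' g h' h hh' hh f.inv_hom_id hf' e' e⟩⟩
end Groth.Agent.S11404
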