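import Groth.Statements.S11405
import Groth.Agent.AlgGrp79.VectorAction
import Groth.Agent.AlgGrp79.JetAffine
import Groth.Agent.AlgGrp79.GModOfRep
-- import your own Groth.Agent.* helpers here

set_option autoImplicit false
universe u
open CategoryTheory MonoidalCategory CartesianMonoidalCategory MonObj GrpObj AlgebraicGeometry CategoryTheory.Limits
open AlgGrp

namespace Groth.Agent.S11405

/-- Over an algebraically closed field k, the following are equivalent for an algebraic group G (a
smooth k-group scheme of finite type): (i) the only global functions on G are the constants; (ii)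
every finite-dimensional linear representation of G is trivial (every point of G with values in a
k-algebra B acts as the identity on B ⊗ M, for every G-module structure on a finite-dimensional
k-vector space M); (iii) every action of G on a variety (integral, separated k-scheme of finite
type) with a fixed rational point is the trivial action. Stated as (i) ⇔ (ii) and (i) ⇔ (iii). -/
theorem result (k : Type u) [Field k] [IsAlgClosed k]
    (G : Over (Spec (CommRingCat.of k))) [GrpObj G] [Smooth G.hom] [QuasiCompact G.hom] :
    (Function.Bijective ((Scheme.ΓSpecIso (CommRingCat.of k)).inv ≫ G.hom.appTop).hom ↔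
      ∀ (M : Type u) [AddCommGroup M] [Module k M] [Module.Finite k M] (m : VecGrp.GMod G M)
        (B : Type u) [CommRing B] [Algebra k B] (g : VecGrp.pt k B ⟶ G), m.ρ B g = 1) ∧
    (Function.Bijective ((Scheme.ΓSpecIso (CommRingCat.of k)).inv ≫ G.hom.appTop).hom ↔
      ∀ (X : Over (Spec (CommRingCat.of k))) [LocallyOfFiniteType X.hom] [QuasiCompact X.hom] [IsSeparated X.hom]
        [IsIntegral X.left] (a : AlgGrp.Action G X) (x : 𝟙_ (Over (Spec (CommRingCat.of k))) ⟶ X), a.IsFixedPt x → a.act = snd G X) := by
  haveI : IsSeparated G.hom := AlgGrp79.isSeparated_grp G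
  refine ⟨⟨fun hG M _ _ _ m B _ _ g => ?_, fun h => ?_⟩, ⟨fun hG X _ _ _ _ a x hx => ?_, fun h => ?_⟩⟩
  · obtain ⟨n, r, hr, hiff⟩ := AlgGrp79.GModRep.exists_rep_stable m (⊤ : Submodule k M) fun B _ _ g x _ => by
      rw [Submodule.baseChange_top]; trivial
    have h1 := AlgGrp79.VectorAction.rep_trivial_of_antiAff hG r
    have h2 := (hiff B g).1 (by rw [h1, MonObj.comp_one])
    refine LinearEquiv.ext fun y => ?_
    induction y using TensorProduct.induction_on with
    | zero => simp
    | tmul b v =>
      rw [show b ⊗ₜ[k] v = b • ((1 : B) ⊗ₜ[k] v) by simp [TensorProduct.smul_tmul'], map_smul, h2 v trivial]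
      rfl
    | add y z hy hz => rw [map_add, map_add, hy, hz]
  · refine AlgGrp79.VectorAction.antiAff_of_reps_trivial G fun n ρ hρ => AlgGrp79.GModRep.eq_one_of_gmodOfRep ρ fun B _ _ g => ?_
    exact h (Fin n → k) (AlgGrp79.GModRep.gmodOfRep ρ) B g
  · haveI : IsLocallyNoetherian X.left := LocallyOfFiniteType.isLocallyNoetherian X.hom
    obtain ⟨n, ρ, hρ, hfwd, -⟩ := AlgGrp79.exists_rep_fixedPt a x hx
    have h1 := AlgGrp79.VectorAction.rep_trivial_of_antiAff hG ρ
    have := hfwd G (𝟙 G) (by rw [h1, MonObj.comp_one]) (G ⊗ X) (fst G X) (snd G X)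
    simpa using this
  · refine AlgGrp79.VectorAction.antiAff_of_reps_trivial G fun n ρ hρ => ?_
    obtain ⟨a, ha⟩ := AlgGrp79.VectorAction.exists_action ρ
    obtain ⟨o, ho⟩ := AlgGrp79.VectorAction.exists_fixedPt ρ a ha
    haveI := AlgGrp79.VectorAction.lft_Aff (k := k) (n := n)
    haveI := AlgGrp79.VectorAction.geometricallyIntegral_Aff (k := k) (n := n)
    haveI : IsAffine (AlgGrp79.VectorAction.Aff k n).left := inferInstanceAs (IsAffine (Spec (CommRingCat.of _)))
    haveI : IsAffineHom (AlgGrp79.VectorAction.Aff k n).hom := inferInstance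
    haveI : IsIntegral (AlgGrp79.VectorAction.Aff k n).left :=
      GeometricallyIntegral.isIntegral_of_subsingleton (AlgGrp79.VectorAction.Aff k n).hom
    exact AlgGrp79.VectorAction.eq_one_of_trivial ρ a ha (h (AlgGrp79.VectorAction.Aff k n) a o ho)

end Groth.Agent.S11405
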