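import Groth.Statements.S11410
import Groth.Agent.AlgGrp79.FiniteKernelRep
-- import your own Groth.Agent.* helpers here

set_option autoImplicit false
universe u
open CategoryTheory MonoidalCategory CartesianMonoidalCategory MonObj GrpObj AlgebraicGeometry CategoryTheory.Limits
open AlgGrp

namespace Groth.Agent.S11410

/-- Over an algebraically closed field k, let G be an algebraic group (a smooth k-group scheme of finite
type) acting on a variety X (an integral, separated k-scheme of finite type), faithfully in the
sense that every rational point of G acting as the identity of X is the identity element. Then for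
every rational point x of X, the isotropy subgroup scheme of x (a closed subgroup scheme of G whose
points are exactly the points of G fixing x) is affine. -/
theorem result (k : Type u) [Field k] [IsAlgClosed k]
    (G X : Over (Spec (CommRingCat.of k))) [GrpObj G] [Smooth G.hom] [QuasiCompact G.hom]
    [LocallyOfFiniteType X.hom] [QuasiCompact X.hom] [IsSeparated X.hom] [IsIntegral X.left]
    (a : AlgGrp.Action G X)
    (hfaith : ∀ g : 𝟙_ (Over (Spec (CommRingCat.of k))) ⟶ G, lift (toUnit X ≫ g) (𝟙 X) ≫ a.act = 𝟙 X → g = η[G])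
    (x : 𝟙_ (Over (Spec (CommRingCat.of k))) ⟶ X) (St : Over (Spec (CommRingCat.of k))) [GrpObj St] (s : St ⟶ G) [IsMonHom s] [IsClosedImmersion s.left]
    (hs : ∀ (T : Over (Spec (CommRingCat.of k))) (g : T ⟶ G), (∃ t : T ⟶ St, t ≫ s = g) ↔ lift g (toUnit T ≫ x) ≫ a.act = toUnit T ≫ x) :
    IsAffine St.left := by
  haveI : LocallyOfFiniteType St.hom := by rw [← Over.w s]; infer_instance
  haveI : QuasiCompact St.hom := by rw [← Over.w s]; infer_instance
  haveI : IsLocallyNoetherian X.left := LocallyOfFiniteType.isLocallyNoetherian X.hom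
  have hres : ∀ {T : Over (Spec (CommRingCat.of k))} (g : T ⟶ St) (y : T ⟶ X),
      lift g y ≫ (a.restrict s).act = lift (g ≫ s) y ≫ a.act := fun g y => by
    show lift g y ≫ (s ▷ X) ≫ a.act = _
    rw [lift_whiskerRight_assoc]
  have hx : (a.restrict s).IsFixedPt x := fun T g => by rw [hres]; exact (hs T (g ≫ s)).1 ⟨g, rfl⟩
  obtain ⟨n, ρ, hρ, hfix, -⟩ := Groth.Agent.AlgGrp79.exists_rep_fixedPt (a.restrict s) x hx
  refine Groth.Agent.AlgGrp79.isAffine_of_rep_pts ρ fun g hg => ?_
  have h1 := hfix _ g hg X (toUnit X) (𝟙 X)
  rw [hres, Category.assoc] at h1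
  haveI : Mono s := Over.mono_of_mono_left s
  have h2 := hfaith (g ≫ s) h1
  rw [← cancel_mono s, h2, MonObj.one_comp, Hom.one_def, toUnit_unique (toUnit _) (𝟙 _), Category.id_comp]

end Groth.Agent.S11410
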