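import Groth.Statements.S11411
import Groth.Agent.AlgGrp79.GLnDiag
import Groth.Agent.AlgGrp79.VectorAction
-- import your own Groth.Agent.* helpers here

set_option autoImplicit false
universe u
open CategoryTheory MonoidalCategory CartesianMonoidalCategory MonObj GrpObj AlgebraicGeometry CategoryTheory.Limits
open AlgGrp

namespace Groth.Agent.S11411

/-- Over an algebraically closed field k, let G be an algebraic group (a smooth k-group scheme of finite
type) and N the kernel of the canonical morphism ρ : G → Spec O(G), i.e. the fibre of ρ over the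
image of the unit. Then N is the smallest normal subgroup scheme of G with affine quotient: for
every closed normal subgroup scheme H of G with a flat surjective homomorphism G → Q of k-group
schemes of finite type with kernel H and Q affine, the inclusion of N factors through H. And N is
the largest anti-affine subgroup scheme: every homomorphism and closed immersion into G from a
k-group scheme whose only global functions are the constants factors through N. (The published
statement also asserts O(N) = k, that N is a connected algebraic group central in G⁰, and O(G/N) =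
O(G) finitely generated; those parts are not restated here.) -/
theorem result (k : Type u) [Field k] [IsAlgClosed k]
    (G : Over (Spec (CommRingCat.of k))) [GrpObj G] [Smooth G.hom] [QuasiCompact G.hom] :
    (∀ (H Q : Over (Spec (CommRingCat.of k))) [GrpObj H] [GrpObj Q] (h : H ⟶ G) [IsMonHom h] [IsClosedImmersion h.left]
        [LocallyOfFiniteType Q.hom] [QuasiCompact Q.hom] (q : G ⟶ Q) [IsMonHom q] [Surjective q.left] [Flat q.left],
        AlgGrp.IsKernel h q → IsAffine Q.left →
        ∃ f : pullback G.left.toSpecΓ (η[G].left ≫ G.left.toSpecΓ) ⟶ H.left, f ≫ h.left = pullback.fst G.left.toSpecΓ (η[G].left ≫ G.left.toSpecΓ)) ∧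
    (∀ (M : Over (Spec (CommRingCat.of k))) [GrpObj M] (j : M ⟶ G) [IsMonHom j] [IsClosedImmersion j.left],
        Function.Bijective ((Scheme.ΓSpecIso (CommRingCat.of k)).inv ≫ M.hom.appTop).hom →
        ∃ f : M.left ⟶ pullback G.left.toSpecΓ (η[G].left ≫ G.left.toSpecΓ), f ≫ pullback.fst G.left.toSpecΓ (η[G].left ≫ G.left.toSpecΓ) = j.left) := by
  constructor
  · intro H Q _ _ h _ _ _ _ q _ _ _ hker hQ
    let p : pullback G.left.toSpecΓ (η[G].left ≫ G.left.toSpecΓ) ⟶ G.left :=
      pullback.fst G.left.toSpecΓ (η[G].left ≫ G.left.toSpecΓ)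
    let P : Over (Spec (CommRingCat.of k)) := Over.mk (p ≫ G.hom)
    let p' : P ⟶ G := Over.homMk p rfl
    have hw : p' ≫ q = toUnit P ≫ η[Q] := by
      have hq : q.left = G.left.toSpecΓ ≫ Spec.map q.left.appTop ≫ inv Q.left.toSpecΓ := by
        rw [← Scheme.toSpecΓ_naturality_assoc, IsIso.hom_inv_id, Category.comp_id]
      have hs : pullback.snd G.left.toSpecΓ (η[G].left ≫ G.left.toSpecΓ) = (toUnit P).left := by
        show pullback.snd _ _ = p ≫ G.hom
        have h2 := congr($(pullback.condition (f := G.left.toSpecΓ) (g := η[G].left ≫ G.left.toSpecΓ)) ≫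
          Spec.map ((Scheme.ΓSpecIso (CommRingCat.of k)).inv ≫ G.hom.appTop))
        have h3 : G.left.toSpecΓ ≫ Spec.map ((Scheme.ΓSpecIso (CommRingCat.of k)).inv ≫ G.hom.appTop) = G.hom :=
          Over.w (AlgGrp79.GLnDiag.affPt G)
        have h4 : η[G].left ≫ G.hom = 𝟙 _ := Over.w η[G]
        simp only [Category.assoc, h3, h4, Category.comp_id] at h2
        exact h2.symm
      ext : 1
      show p ≫ q.left = _
      rw [Over.comp_left, ← hs, ← IsMonHom.one_hom (f := q), Over.comp_left, hq, reassoc_of% (pullback.condition (f := G.left.toSpecΓ) (g := η[G].left ≫ G.left.toSpecΓ))]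
    obtain ⟨f, hf, -⟩ := (hker : IsPullback h (toUnit H) q η[Q]).exists_lift p' (toUnit P) hw
    exact ⟨f.left, congrArg CommaMorphism.left hf⟩
  · intro M _ j _ _ hM
    letI := AlgGrp79.GLnDiag.gAlg G
    haveI : IsAffine (CoactBr.sp k Γ(G.left, ⊤)).left := inferInstanceAs (IsAffine (Spec _))
    have h := congrArg CommaMorphism.left
      (AlgGrp79.eq_const_of_isAffine hM η[M] (j ≫ AlgGrp79.GLnDiag.affPt G))
    rw [← Category.assoc η[M], IsMonHom.one_hom (f := j)] at h
    exact ⟨pullback.lift j.left (toUnit M).left h, pullback.lift_fst _ _ _⟩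

end Groth.Agent.S11411
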