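import Groth.Statements.S11416
import Groth.Agent.AlgGrp79.GModRep
import Groth.Agent.AlgGrp79.FiniteKernelRep
-- import your own Groth.Agent.* helpers here

set_option autoImplicit false
universe u
open CategoryTheory MonoidalCategory CartesianMonoidalCategory MonObj GrpObj AlgebraicGeometry CategoryTheory.Limits
open AlgGrp

namespace Groth.Agent.S11416

/-- Over an algebraically closed field k, let G be an algebraic group (a smooth k-group scheme of finite
type) and M a rational G-module, not necessarily finite-dimensional: a k-vector space with a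
G-module structure (points of G with values in a k-algebra B act B-linearly on B ⊗ M, naturally in
B) such that every vector lies in a finite-dimensional subspace N with B ⊗ N stable under all
B-points of G. If the representation is faithful, in the sense that every rational point of G acting
as the identity on M is the identity element, then G is affine. -/
theorem result (k : Type u) [Field k] [IsAlgClosed k]
    (G : Over (Spec (CommRingCat.of k))) [GrpObj G] [Smooth G.hom] [QuasiCompact G.hom]
    (M : Type u) [AddCommGroup M] [Module k M] (m : VecGrp.GMod G M)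
    (hlf : ∀ v : M, ∃ N : Submodule k M, v ∈ N ∧ Module.Finite k ↥N ∧
      ∀ (B : Type u) [CommRing B] [Algebra k B] (g : VecGrp.pt k B ⟶ G) (x : VecGrp.W k M B),
        x ∈ Submodule.baseChange B N → m.ρ B g x ∈ Submodule.baseChange B N)
    (hfaith : ∀ g : VecGrp.pt k k ⟶ G, m.ρ k g = 1 → g = 1) :
    IsAffine G.left := by
  classical
  haveI : IsSeparated G.hom := AlgGrp79.isSeparated_grp G
  haveI : IsLocallyNoetherian G.left := LocallyOfFiniteType.isLocallyNoetherian G.hom
  haveI : CompactSpace G.left := QuasiCompact.compactSpace_of_compactSpace G.hom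
  haveI : IsNoetherian G.left := {}
  haveI : TopologicalSpace.NoetherianSpace G.left := inferInstance
  let St : Submodule k M → Prop := fun N => Module.Finite k N ∧
    ∀ (B : Type u) [CommRing B] [Algebra k B] (g : VecGrp.pt k B ⟶ G) (x : VecGrp.W k M B),
      x ∈ N.baseChange B → m.ρ B g x ∈ N.baseChange B
  have hex : ∀ N, St N → ∃ (n : ℕ) (r : G ⟶ CoactBr.sp k (CoordGrp.GLn n k)) (Z : TopologicalSpace.Closeds G.left), IsMonHom r ∧
      (∀ (B : Type u) [CommRing B] [Algebra k B] (g : VecGrp.pt k B ⟶ G),
        g ≫ r = 1 ↔ ∀ v ∈ N, m.ρ B g ((1 : B) ⊗ₜ[k] v) = (1 : B) ⊗ₜ[k] v) ∧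
      ∀ p : 𝟙_ (Over (Spec (CommRingCat.of k))) ⟶ G, p.left (IsLocalRing.closedPoint k) ∈ Z ↔ p ≫ r = 1 := by
    intro N hN
    haveI := hN.1
    obtain ⟨n, r, hr, hiff⟩ := AlgGrp79.GModRep.exists_rep_stable m N hN.2
    haveI := AlgGrp79.lft_glN (k := k) n
    haveI := AlgGrp79.isSeparated_grp (CoactBr.sp k (CoordGrp.GLn n k))
    have hc : IsClosed ({(η[CoactBr.sp k (CoordGrp.GLn n k)]).left (IsLocalRing.closedPoint k)} :
        Set (CoactBr.sp k (CoordGrp.GLn n k)).left) := by
      haveI : IsClosedImmersion (η[CoactBr.sp k (CoordGrp.GLn n k)]).left :=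
        RedPts82.isClosedImmersion_section _ (toUnit _) (toUnit_unique _ _)
      have h := (η[CoactBr.sp k (CoordGrp.GLn n k)]).left.isClosedEmbedding.isClosed_range
      convert h using 1
      refine Set.Subset.antisymm (Set.singleton_subset_iff.2 ⟨_, rfl⟩) ?_
      rintro _ ⟨q, rfl⟩
      rw [Subsingleton.elim (α := PrimeSpectrum k) q (IsLocalRing.closedPoint k)]
      exact Set.mem_singleton _
    refine ⟨n, r, ⟨r.left ⁻¹' _, hc.preimage r.left.continuous⟩, hr, hiff, fun p => ?_⟩
    constructor
    · intro hp
      have : p ≫ r = η[CoactBr.sp k (CoordGrp.GLn n k)] := AlgGrp79.pt_ext _ _ hp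
      rw [this, AlgGrp79.one_def', toUnit_unique (toUnit (𝟙_ _)) (𝟙 _), Category.id_comp]
    · intro hp
      show (p ≫ r).left (IsLocalRing.closedPoint k) = _
      rw [hp, AlgGrp79.one_def', toUnit_unique (toUnit (𝟙_ _)) (𝟙 _), Category.id_comp]
  choose n r Z hr hiff hZ using hex
  have hbot : St ⊥ := ⟨inferInstance, fun B _ _ g x hx => by
    rw [Submodule.baseChange_bot, Submodule.mem_bot] at hx ⊢
    rw [hx, map_zero]⟩
  obtain ⟨_, ⟨N, hN, rfl⟩, hmin⟩ := (wellFounded_lt (α := TopologicalSpace.Closeds G.left)).has_min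
    {C | ∃ (N : Submodule k M) (hN : St N), Z N hN = C} ⟨_, ⊥, hbot, rfl⟩
  haveI := hr N hN
  let e : VecGrp.pt k k ⟶ 𝟙_ (Over (Spec (CommRingCat.of k))) := toUnit _
  haveI : IsIso e.left := by
    show IsIso (Spec.map (CommRingCat.ofHom (algebraMap k k)))
    rw [show CommRingCat.ofHom (algebraMap k k) = 𝟙 (CommRingCat.of k) from rfl, Spec.map_id]
    infer_instance
  haveI : IsIso e := (isIso_iff_of_reflects_iso (Over.forget _) (f := e)).1 (inferInstanceAs (IsIso e.left))
  refine AlgGrp79.isAffine_of_rep_pts (r N hN) fun p hp => ?_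
  have h1 : e ≫ p = 1 := by
    refine hfaith _ (LinearEquiv.ext fun y => ?_)
    induction y using TensorProduct.induction_on with
    | zero => simp
    | tmul b v =>
      rw [show b ⊗ₜ[k] v = b • ((1 : k) ⊗ₜ[k] v) by simp [TensorProduct.smul_tmul'], map_smul]
      obtain ⟨N', hv, hfin, hst⟩ := hlf v
      have hN' : St (N ⊔ N') := ⟨by haveI := hN.1; infer_instance, fun B _ _ g x hx => by
        have hs : (N ⊔ N').baseChange B = N.baseChange B ⊔ N'.baseChange B := by
          simp only [Submodule.baseChange_eq_span, Submodule.map_sup, ← Submodule.span_union]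
          refine le_antisymm (Submodule.span_le.2 ?_) (Submodule.span_mono ?_)
          · intro z hz
            obtain ⟨z₁, h₁, z₂, h₂, rfl⟩ := Submodule.mem_sup.1 hz
            exact Submodule.add_mem _ (Submodule.subset_span (Or.inl h₁)) (Submodule.subset_span (Or.inr h₂))
          · exact Set.union_subset (fun z hz => Submodule.mem_sup_left hz) (fun z hz => Submodule.mem_sup_right hz)
        rw [hs] at hx ⊢
        obtain ⟨x₁, h₁, x₂, h₂, rfl⟩ := Submodule.mem_sup.1 hx
        rw [map_add]
        exact Submodule.add_mem_sup (hN.2 B g _ h₁) (hst B g _ h₂)⟩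
      haveI := hr (N ⊔ N') hN'
      have hp' : p ≫ r (N ⊔ N') hN' = 1 := by
        rw [← hZ]
        by_contra hnot
        refine hmin (Z (N ⊔ N') hN') ⟨_, hN', rfl⟩ (lt_of_le_of_ne ?_ fun he => hnot (he ▸ (hZ N hN p).2 hp))
        intro x hx
        haveI : JacobsonSpace G.left := LocallyOfFiniteType.jacobsonSpace G.hom
        have hsub : (Z (N ⊔ N') hN' : Set G.left) ∩ closedPoints G.left ⊆ (Z N hN : Set G.left) := by
          rintro z ⟨hz, hzc⟩
          obtain ⟨q, rfl⟩ := AlgGrp79.ptVal_eq z (mem_closedPoints_iff.1 hzc)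
          refine (hZ N hN q).2 ?_
          rw [← cancel_epi e, MonObj.comp_one, ← Category.assoc, hiff]
          intro w hw
          have hq := (hZ (N ⊔ N') hN' q).1 hz
          exact (hiff (N ⊔ N') hN' k (e ≫ q)).1 (by rw [Category.assoc, hq, MonObj.comp_one]) w (Submodule.mem_sup_left hw)
        have := closure_mono hsub
        rw [closure_inter_closedPoints (Z (N ⊔ N') hN').isClosed,
          (Z N hN).isClosed.closure_eq] at this
        exact this hx
      rw [(hiff (N ⊔ N') hN' k (e ≫ p)).1 (by rw [Category.assoc, hp', MonObj.comp_one]) v (Submodule.mem_sup_right hv)]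
      rfl
    | add y z hy hz => rw [map_add, map_add, hy, hz]
  rw [← cancel_epi e, h1, MonObj.comp_one]

end Groth.Agent.S11416
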