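import Groth.Statements.S11418
import Groth.Agent.AlgGrp79.Act
-- import your own Groth.Agent.* helpers here

set_option autoImplicit false
universe u
open CategoryTheory MonoidalCategory CartesianMonoidalCategory MonObj GrpObj AlgebraicGeometry CategoryTheory.Limits
open AlgGrp

namespace Groth.Agent.S11418

/-- Over an algebraically closed field k, let G be an affine algebraic group (smooth affine k-group
scheme of finite type) and π : X → Y a principal G-bundle of k-schemes of finite type: G acts on X,
π is G-invariant, faithfully flat, and the square formed by the action, the second projection G × X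
→ X and π is cartesian. Then the map θ sending a G-equivariant morphism f : X → G (for the
conjugation action on G, i.e. f(g·x) = g f(x) g⁻¹ on points) to the automorphism x ↦ f(x)·x is a
bijection onto the bundle automorphisms: every G-equivariant automorphism φ of X with π ∘ φ = π
equals θ(f) for exactly one such f. -/
theorem result (k : Type u) [Field k] [IsAlgClosed k]
    (G X Y : Over (Spec (CommRingCat.of k))) [GrpObj G] [Smooth G.hom] [QuasiCompact G.hom] [IsAffine G.left]
    [LocallyOfFiniteType X.hom] [QuasiCompact X.hom] [LocallyOfFiniteType Y.hom] [QuasiCompact Y.hom]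
    (a : AlgGrp.Action G X) (π : X ⟶ Y) (hinv : a.act ≫ π = snd G X ≫ π) [Flat π.left] [Surjective π.left]
    (hcart : IsPullback (snd G X) a.act π π)
    (φ : X ≅ X) (hφ : φ.hom ≫ π = π) (hφeq : (G ◁ φ.hom) ≫ a.act = a.act ≫ φ.hom) :
    ∃! f : X ⟶ G, (∀ (S : Over (Spec (CommRingCat.of k))) (g : S ⟶ G) (x : S ⟶ X),
        lift g x ≫ a.act ≫ f = g * (x ≫ f) * g⁻¹) ∧ φ.hom = lift f (𝟙 X) ≫ a.act := by
  have hpair : ∀ {S : Over (Spec (CommRingCat.of k))} (x y : S ⟶ X), x ≫ π = y ≫ π → ∃! g : S ⟶ G, lift g x ≫ a.act = y := by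
    intro S x y h
    refine ⟨hcart.lift x y h ≫ fst G X, ?_, fun g hg => ?_⟩
    · show lift (hcart.lift x y h ≫ fst G X) x ≫ a.act = _
      refine Eq.trans ?_ (hcart.lift_snd x y h)
      congr 1
      ext : 1 <;> simp
    · have : lift g x = hcart.lift x y h := by
        apply hcart.hom_ext
        · rw [lift_snd, hcart.lift_fst]
        · rw [hg, hcart.lift_snd]
      rw [← this, lift_fst]
  obtain ⟨f, hf, huf⟩ := hpair (𝟙 X) φ.hom (by rw [hφ, Category.id_comp])
  refine ⟨f, ⟨fun S g x => ?_, hf.symm⟩, fun f' hf' => huf f' hf'.2.symm⟩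
  have hval : ∀ {T : Over (Spec (CommRingCat.of k))} (y : T ⟶ X), lift (y ≫ f) y ≫ a.act = y ≫ φ.hom := fun y => by
    rw [← hf, ← Category.assoc, comp_lift, Category.comp_id]
  have h1 := hval (lift g x ≫ a.act)
  have h2 : (lift g x ≫ a.act) ≫ φ.hom = lift g (x ≫ φ.hom) ≫ a.act := by
    rw [Category.assoc, ← hφeq, lift_whiskerLeft_assoc]
  rw [h2, ← hval x, ← Groth.Agent.AlgGrp79.mul_act', ← Groth.Agent.AlgGrp79.mul_act'] at h1
  have hx : ∀ u : S ⟶ G, x ≫ π = (lift u x ≫ a.act) ≫ π := fun u => by
    rw [Category.assoc, hinv, lift_snd_assoc]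
  obtain ⟨u, -, huu⟩ := hpair x _ (hx ((lift g x ≫ a.act ≫ f) * g))
  have e1 := huu _ rfl
  have e2 := huu (g * (x ≫ f)) (by show lift (g * (x ≫ f)) x ≫ a.act = _; rw [← h1, Category.assoc])
  rw [eq_mul_inv_iff_mul_eq, e1, e2]

end Groth.Agent.S11418
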