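import Groth.Statements.S11429
import Groth.Agent.GIT36.Desc.QuotAffine

set_option autoImplicit false
universe u
open CategoryTheory MonoidalCategory CartesianMonoidalCategory MonObj GrpObj AlgebraicGeometry Topology
open GIT

namespace Groth.Agent.S11429

/-- Over a field k, let G (affine), X and Y be separated schemes of finite type, G a group scheme acting
properly on X (the morphism (σ, p₂) : G × X → X × X is proper), and (Y, φ) a geometric quotient of X
by G. Then φ is affine. -/
theorem result (k : Type u) [Field k] (G X Y : Over (Spec (CommRingCat.of k)))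
    [GrpObj G] [IsAffine G.left] [LocallyOfFiniteType G.hom]
    [LocallyOfFiniteType X.hom] [QuasiCompact X.hom] [IsSeparated X.hom]
    [LocallyOfFiniteType Y.hom] [QuasiCompact Y.hom] [IsSeparated Y.hom]
    (a : AlgGrp.Action G X) (hp : IsProper (GIT.psi a (𝟙 X)).left) (φ : X ⟶ Y) (h : GIT.IsGeomQuot a φ) :
    IsAffineHom φ.left := by
  exact GIT36.Desc.isAffineHom_of_isGeomQuot a hp φ h

end Groth.Agent.S11429
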