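import Groth.Statements.S11431
import Groth.Agent.GIT36.AffQuot.Main
-- import your own Groth.Agent.* helpers here

set_option autoImplicit false
universe u
open CategoryTheory MonoidalCategory CartesianMonoidalCategory MonObj GrpObj AlgebraicGeometry Topology
open GIT

namespace Groth.Agent.S11431

/-- Let k be a field of characteristic zero, G a connected reductive algebraic group over k and σ an
action of G on an affine scheme X over k. Then there are an affine scheme Y over k and an invariant
φ : X → Y identifying Γ(Y, O_Y) with the ring of invariant global functions on X, such that (Y, φ)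
is a universal categorical quotient of X by G and φ is universally submersive; moreover Y is
Noetherian if X is, and Y is of finite type over k if X is. (The published statement covers every
characteristic, with a uniform categorical quotient in positive characteristic, and any reductive G;
this row is the characteristic-zero case with G connected, where reductive groups are linearly
reductive.) -/
theorem result (k : Type u) [Field k] [CharZero k]
    (G X : Over (Spec (CommRingCat.of k))) [GrpObj G] (hG : Red.IsReductive G) [IsAffine X.left]
    (a : AlgGrp.Action G X) :
    ∃ (Y : Over (Spec (CommRingCat.of k))) (φ : X ⟶ Y), IsAffine Y.left ∧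
      Function.Injective φ.left.appTop ∧
      Set.range φ.left.appTop = {f : Γ(X.left, ⊤) | a.act.left.appTop f = (snd G X).left.appTop f} ∧
      GIT.IsUnivCatQuot a φ ∧ GIT.IsUnivSubmersive φ.left ∧
      (IsNoetherian X.left → IsNoetherian Y.left) ∧
      (LocallyOfFiniteType X.hom → LocallyOfFiniteType Y.hom) := by
  obtain ⟨A, _, _, ψ, hψ, -, hLR⟩ := GIT36.AffQuot.exists_coord_linRed G hG
  haveI := hψ
  obtain ⟨Y, φ, hY, h, hN, hF⟩ := GIT36.AffQuot.exists_affQ ψ hLR X a
  haveI := hY
  exact ⟨Y, φ, hY, h.injective, h.range, GIT36.AffQuot.isUnivCatQuot ψ hLR h,
    GIT36.AffQuot.isUnivSubmersive ψ hLR h, hN, hF⟩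

end Groth.Agent.S11431
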