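import Groth.Statements.S11433
import Groth.Agent.GIT36.AffQuot.Main
-- import your own Groth.Agent.* helpers here

set_option autoImplicit false
universe u
open CategoryTheory MonoidalCategory CartesianMonoidalCategory MonObj GrpObj AlgebraicGeometry Topology
open GIT

namespace Groth.Agent.S11433

/-- Let k be a field of characteristic zero, G a connected reductive algebraic group over k acting on an
affine scheme X over k, and (Y, φ) a categorical quotient of X by G. Then (Y, φ) is a geometric
quotient exactly when every orbit of a geometric point is closed, and in that case (Y, φ) is even a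
universal geometric quotient. (The published statement is for any reductive G, the universal
conclusion being stated in characteristic zero; this row is the characteristic-zero case with G
connected.) -/
theorem result (k : Type u) [Field k] [CharZero k]
    (G X Y : Over (Spec (CommRingCat.of k))) [GrpObj G] (hG : Red.IsReductive G) [IsAffine X.left]
    (a : AlgGrp.Action G X) (φ : X ⟶ Y) (hq : GIT.IsCatQuot a φ) :
    (GIT.IsGeomQuot a φ ↔ GIT.IsClosedAction a) ∧ (GIT.IsClosedAction a → GIT.IsUnivGeomQuot a φ) := by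
  obtain ⟨A, _, _, ψ, hψ, -, hLR⟩ := GIT36.AffQuot.exists_coord_linRed G hG
  haveI := hψ
  obtain ⟨Y₀, φ₀, hY₀, h, -, -⟩ := GIT36.AffQuot.exists_affQ ψ hLR X a
  haveI := hY₀
  have hu := (GIT36.AffQuot.isUnivCatQuot ψ hLR h).1
  obtain ⟨χ, hχ, -⟩ := hu.2 Y φ hq.1
  obtain ⟨χ', hχ', -⟩ := hq.2 Y₀ φ₀ hu.1
  have e₁ : χ ≫ χ' = 𝟙 _ := (hu.2 Y₀ φ₀ hu.1).unique (by rw [reassoc_of% hχ, hχ']) (Category.comp_id _)
  have e₂ : χ' ≫ χ = 𝟙 _ := (hq.2 Y φ hq.1).unique (by rw [reassoc_of% hχ', hχ]) (Category.comp_id _)
  let e : Y₀ ≅ Y := ⟨χ, χ', e₁, e₂⟩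
  haveI : IsIso χ.left := ((Over.forget _).mapIso e).isIso_hom
  haveI : IsIso (Over.Hom.left e.inv) := ((Over.forget _).mapIso e.symm).isIso_hom
  haveI : IsAffine Y.left := IsAffine.of_isIso (Over.Hom.left e.inv)
  haveI : IsIso χ.left.appTop :=
    (Scheme.Γ.mapIso ((Over.forget _).mapIso e).op).isIso_hom
  have hb : Function.Bijective χ.left.appTop := ConcreteCategory.bijective_of_isIso _
  have happ : (φ.left.appTop : _ → _) = φ₀.left.appTop ∘ χ.left.appTop := by
    funext s
    rw [Function.comp_apply, ← CommRingCat.comp_apply, ← Scheme.Hom.comp_appTop, ← Over.comp_left, hχ]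
  have h' : GIT36.AffQuot.AffQ a φ :=
    ⟨hq.1, by rw [happ]; exact h.injective.comp hb.1, by rw [happ, hb.2.range_comp]; exact h.range⟩
  exact h'.geomQuot_iff ψ hLR

end Groth.Agent.S11433
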