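import Groth.Statements.S11437
import Groth.Agent.GIT36.FinAction.Geom

set_option autoImplicit false
universe u
open CategoryTheory MonoidalCategory CartesianMonoidalCategory MonObj GrpObj AlgebraicGeometry Topology
open GIT Groth.Agent.GIT36 Groth.Agent.GIT36.Proj Groth.Agent.GIT36.FinAction

set_option backward.isDefEq.respectTransparency.types false
set_option linter.style.haveILetI false

namespace Groth.Agent.S11437

/-- Over a field k of characteristic zero, let G be a connected reductive algebraic group, X and Y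
separated schemes of finite type, σ an action of G on X such that the stabilizers of geometric
points of X are finite (the stabilizer group scheme over X is locally quasi-finite), and (Y, φ) a
geometric quotient of X by G. If φ is affine, then the action is proper. (The published statement is
for any reductive G over any field; this row is the characteristic-zero case with G connected.) -/
theorem result (k : Type u) [Field k] [CharZero k]
    (G X Y : Over (Spec (CommRingCat.of k))) [GrpObj G] (hG : Red.IsReductive G)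
    [LocallyOfFiniteType X.hom] [QuasiCompact X.hom] [IsSeparated X.hom]
    [LocallyOfFiniteType Y.hom] [QuasiCompact Y.hom] [IsSeparated Y.hom]
    (a : AlgGrp.Action G X)
    [LocallyQuasiFinite (Limits.pullback.snd (GIT.psi a (𝟙 X)).left (lift (𝟙 X) (𝟙 X)).left)]
    (φ : X ⟶ Y) (h : GIT.IsGeomQuot a φ) [IsAffineHom φ.left] :
    IsProper (GIT.psi a (𝟙 X)).left := by
  haveI := hG.1
  haveI : IsAffine G.left := isAffine_of_isAffineHom G.hom
  haveI := hG.2.1
  obtain ⟨A, _, _, ψ, hψ, hAft, hLR⟩ := AffQuot.exists_coord_linRed G hG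
  haveI := hψ
  haveI := hAft
  haveI : LocallyOfFiniteType G.hom := inferInstance
  haveI : Scheme.IsSeparated Y.left :=
    ⟨by rw [← Limits.terminal.comp_from Y.hom]; infer_instance⟩
  let J := {V : Y.left.Opens // IsAffineOpen V}
  have hinv : ∀ V : Y.left.Opens, a.act.left ⁻¹ᵁ (φ.left ⁻¹ᵁ V) = (snd G X).left ⁻¹ᵁ (φ.left ⁻¹ᵁ V) := fun V => by
    rw [← Scheme.Hom.comp_preimage, ← Scheme.Hom.comp_preimage, IsInvariant.left h.inv]
  haveI : IsFinite (GIT.psi a (𝟙 X)).left := by
    refine isFinite_psi_of_cover a (fun V : J => φ.left ⁻¹ᵁ V.1) ?_ (fun V => hinv V.1) fun V V' => ?_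
    · rw [eq_top_iff]
      intro x _
      obtain ⟨U, hU, hxU, -⟩ :=
        exists_isAffineOpen_mem_and_subset (x := φ.left x) (U := (⊤ : Y.left.Opens)) trivial
      exact TopologicalSpace.Opens.mem_iSup.2 ⟨⟨U, hU⟩, hxU⟩
    let O : X.left.Opens := φ.left ⁻¹ᵁ V.1 ⊓ φ.left ⁻¹ᵁ V'.1
    have hO : IsAffineOpen O := (V.2.inf V'.2).preimage φ.left
    have hOinv := inv_inf a (hinv V.1) (hinv V'.1)
    haveI : IsAffine (openObj O).left := hO
    haveI : LocallyOfFiniteType (openObj O).hom := inferInstanceAs (LocallyOfFiniteType (O.ι ≫ X.hom))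
    haveI : LocallyQuasiFinite (H98EqInt.stToX (resAct a O hOinv)) := by
      show LocallyQuasiFinite (GLinSh.stabTo (resAct a O hOinv) (𝟙 (openObj O)))
      rw [stabTo_res_iff a @LocallyQuasiFinite O hOinv, show GLinSh.stabTo a (𝟙 (openObj O) ≫ openIncl O) =
        (Stab.stabIso a _).hom ≫ Limits.pullback.snd _ _ from (Limits.pullback.lift_snd _ _ _).symm]
      infer_instance
    haveI := isFinite_psi_of_quasiFinite ψ (resAct a O hOinv) hLR
    haveI : IsOpenImmersion (inclLE (inf_le_left : O ≤ φ.left ⁻¹ᵁ V.1)).left :=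
      inferInstanceAs (IsOpenImmersion (X.left.homOfLE (inf_le_left : O ≤ φ.left ⁻¹ᵁ V.1)))
    haveI : IsOpenImmersion (inclLE (inf_le_right : O ≤ φ.left ⁻¹ᵁ V'.1)).left :=
      inferInstanceAs (IsOpenImmersion (X.left.homOfLE (inf_le_right : O ≤ φ.left ⁻¹ᵁ V'.1)))
    refine isFinite_pair_of_separated (GIT.psi (resAct a O hOinv) (𝟙 _)) (inclLE inf_le_left) (inclLE inf_le_right)
      (openIncl _ ≫ φ) (openIncl _ ≫ φ) ?_ ?_
    · rw [← Category.assoc (inclLE _), inclLE_comp, ← Category.assoc (inclLE _), inclLE_comp, ← Category.assoc,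
        ← Category.assoc (GIT.psi _ _), GIT.psi, lift_fst, lift_snd, whiskerLeft_id, Category.id_comp,
        ← Category.assoc, resAct_comp, Category.assoc, show a.act ≫ φ = snd G X ≫ φ from h.inv,
        whiskerLeft_snd_assoc]
    · intro x x' e
      have hr : ∀ {D : X.left.Opens} (hD : O ≤ D) (z : (openObj D).left), D.ι z ∈ O →
          z ∈ Set.range (inclLE hD).left := fun {D} hD z hz =>
        ⟨⟨D.ι z, hz⟩, D.ι.isOpenEmbedding.injective (by
          rw [← Scheme.Hom.comp_apply]; exact congr($(X.left.homOfLE_ι hD) ⟨D.ι z, hz⟩))⟩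
      have e' : φ.left (Scheme.Opens.ι _ x) = φ.left (Scheme.Opens.ι _ x') := e
      refine ⟨hr _ x ⟨x.2, ?_⟩, hr _ x' ⟨?_, x'.2⟩⟩
      · show φ.left (Scheme.Opens.ι _ x) ∈ V'.1
        rw [e']
        exact x'.2
      · show φ.left (Scheme.Opens.ι _ x') ∈ V.1
        rw [← e']
        exact x.2
  infer_instance

end Groth.Agent.S11437
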