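import Groth.Statements.S11440
import Groth.Agent.Rig93.Group
import Groth.Agent.SpFP87.Reduced
-- import your own Groth.Agent.* helpers here

set_option autoImplicit false
universe u
open CategoryTheory MonoidalCategory CartesianMonoidalCategory MonObj GrpObj AlgebraicGeometry Topology
open GIT

namespace Groth.Agent.S11440

/-- Let S be Noetherian, X an abelian scheme over S (smooth proper group scheme with connected geometric
fibres), G any locally Noetherian group scheme separated over S, and f : X → G a morphism over S
carrying the unit of X to the unit of G. Then f is a homomorphism. -/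
theorem result (S : Scheme.{u}) [IsNoetherian S]
    (X G : Over S) [GrpObj X] [GrpObj G] [Smooth X.hom] [IsProper X.hom]
    (hc : ∀ s : S, ConnectedSpace (Red.geomFibre s X).left)
    [IsLocallyNoetherian G.left] [IsSeparated G.hom] (f : X ⟶ G) (hf : η[X] ≫ f = η[G]) :
    IsMonHom f := by
  have : IsLocallyNoetherian X.left := LocallyOfFiniteType.isLocallyNoetherian X.hom
  refine Rig93.isMonHom_of_pointed X G (fun s => ?_) (fun s => ?_) f hf
  · let φ : CommRingCat.of (S.residueField s) ⟶ CommRingCat.of (AlgebraicClosure (S.residueField s)) :=
      CommRingCat.ofHom (algebraMap _ _)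
    refine (Rig93.bijective_appTop_iff (k := S.residueField s) (K := AlgebraicClosure (S.residueField s))
      (Limits.pullback.snd X.hom (S.fromSpecResidueField s)) φ).2 ?_
    refine (Rig93.bijective_appTop_of_iso (Limits.pullbackLeftPullbackSndIso X.hom (S.fromSpecResidueField s) (Spec.map φ))
      _ (Limits.pullback.snd X.hom (Red.geomPt s)) (Limits.pullbackLeftPullbackSndIso_hom_snd _ _ _)).2 ?_
    have : ConnectedSpace ↥(Limits.pullback X.hom (Red.geomPt s)) := hc s
    have : IsReduced (Limits.pullback X.hom (Red.geomPt s)) := SpFP87.isReduced_of_smooth (Limits.pullback.snd X.hom (Red.geomPt s))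
    exact Rig93.bijective_appTop_of_isAlgClosed _
  · have : ConnectedSpace ↥(Limits.pullback X.hom (Red.geomPt s)) := hc s
    have hr : Set.range (Limits.pullback.fst X.hom (Red.geomPt s)) = X.hom ⁻¹' {s} := by
      rw [Scheme.Pullback.range_fst]
      have gen : ∀ {A : Scheme.{u}} (g : A ⟶ Spec (S.residueField s)) [Nonempty A],
          Set.range (g ≫ S.fromSpecResidueField s) = {s} := by
        intro A g _
        refine Set.eq_singleton_iff_nonempty_unique_mem.2 ⟨Set.range_nonempty _, ?_⟩
        rintro _ ⟨z, rfl⟩
        rw [Scheme.Hom.comp_apply]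
        exact Scheme.fromSpecResidueField_apply _ _
      rw [Red.geomPt, gen]
    rw [← hr, ← Set.image_univ]
    exact isPreconnected_univ.image _ (Limits.pullback.fst X.hom (Red.geomPt s)).continuous.continuousOn

end Groth.Agent.S11440
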