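import Groth.Statements.S11450
import Groth.Agent.TorMod7.Basic
import Mathlib.RingTheory.Flat.Tensor
import Mathlib.RingTheory.Ideal.Colon
import Mathlib.LinearAlgebra.TensorProduct.Prod

set_option autoImplicit false
universe u
open CategoryTheory
open DefT

namespace Groth.Agent.S11450

/-- A module M over a Noetherian commutative ring A is flat if and only if Tor_1^A(M, A/p) vanishes for
every prime ideal p of A. -/
theorem result (A : Type u) [CommRing A]
    [IsNoetherianRing A] (M : Type u) [AddCommGroup M] [Module A M] :
    Module.Flat A M ↔ ∀ p : Ideal A, p.IsPrime →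
      Limits.IsZero (((CategoryTheory.Tor (ModuleCat.{u} A) 1).obj (ModuleCat.of A M)).obj (ModuleCat.of A (A ⧸ p))) := by
  classical
  have htor : ∀ p : Ideal A,
      Limits.IsZero (((CategoryTheory.Tor (ModuleCat.{u} A) 1).obj (ModuleCat.of A M)).obj (ModuleCat.of A (A ⧸ p))) ↔
        Function.Injective (p.subtype.lTensor M) := fun p => by
    refine (TorMod7.isZero_tor_one_iff_of_surjective (ModuleCat.of A M) p.mkQ p.mkQ_surjective).trans ?_
    rw [Submodule.ker_mkQ]
  refine ⟨fun h p _ => (htor p).2 (Module.Flat.lTensor_preserves_injective_linearMap _ Subtype.val_injective),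
    fun h => Module.Flat.iff_lTensor_injective'.2 fun I => ?_⟩
  induction I using WellFoundedGT.induction with
  | _ I ih =>
    by_cases htop : I = ⊤
    · subst htop
      exact (LinearEquiv.lTensor M (Submodule.topEquiv (R := A) (M := A))).injective
    by_cases hp : I.IsPrime
    · exact (htor I).1 (h I hp)
    obtain ⟨a, ha, b, hb, hab⟩ : ∃ a ∉ I, ∃ b ∉ I, a * b ∈ I := by
      by_contra hne
      push Not at hne
      exact hp ⟨htop, fun {x y} hxy => or_iff_not_imp_left.2 fun hx => by_contra fun hy => hne x hx y hy hxy⟩
    let J : Ideal A := I ⊔ Ideal.span {a}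
    let K : Ideal A := Submodule.comap (LinearMap.mulLeft A a) I
    have hJ : I < J := lt_of_le_of_ne le_sup_left fun e =>
      ha (e ▸ Submodule.mem_sup_right (Ideal.mem_span_singleton_self a))
    have hK : I < K := lt_of_le_of_ne (fun x hx => I.mul_mem_left a hx) fun e => hb (by rw [e]; exact hab)
    let aK : K →ₗ[A] I := (LinearMap.mulLeft A a).restrict fun x hx => hx
    let σ : (I × A) →ₗ[A] J := (Submodule.inclusion hJ.le).coprod
      ((LinearMap.mulRight A a).codRestrict J fun r =>
        Submodule.mem_sup_right (Ideal.mem_span_singleton'.2 ⟨r, rfl⟩))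
    have hσ : Function.Surjective σ := fun y => by
      obtain ⟨i, hi, z, hz, e⟩ := Submodule.mem_sup.1 y.2
      obtain ⟨r, rfl⟩ := Ideal.mem_span_singleton'.1 hz
      exact ⟨(⟨i, hi⟩, r), Subtype.ext (by simpa [σ] using e)⟩
    let ψ : K →ₗ[A] (I × A) := (-aK).prod K.subtype
    have hex : Function.Exact ψ σ := fun x => by
      constructor
      · intro hx
        have hx' : (x.1 : A) + x.2 * a = 0 := congrArg Subtype.val hx
        have hmem : x.2 ∈ K := by
          change a * x.2 ∈ I
          rw [mul_comm, eq_neg_of_add_eq_zero_right hx']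
          exact I.neg_mem x.1.2
        refine ⟨⟨x.2, hmem⟩, Prod.ext (Subtype.ext ?_) rfl⟩
        change -(a * x.2) = (x.1 : A)
        rw [mul_comm]
        exact (eq_neg_of_add_eq_zero_left hx').symm
      · rintro ⟨z, rfl⟩
        refine Subtype.ext ?_
        change -(a * (z : A)) + (z : A) * a = 0
        ring
    have hIJ : Function.Injective ((Submodule.inclusion hJ.le).lTensor M) := by
      refine (injective_iff_map_eq_zero _).2 fun x hx => ?_
      have h1 : σ.lTensor M ((LinearMap.inl A I A).lTensor M x) = 0 := by
        rw [← LinearMap.lTensor_comp_apply, LinearMap.coprod_inl, hx]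
      obtain ⟨w, hw⟩ := (lTensor_exact M hex hσ _).1 h1
      have h2 : w = 0 := by
        refine (injective_iff_map_eq_zero _).1 (ih K hK) w ?_
        have := congrArg ((LinearMap.snd A I A).lTensor M) hw
        rwa [← LinearMap.lTensor_comp_apply, ← LinearMap.lTensor_comp_apply, LinearMap.snd_prod,
          LinearMap.snd_comp_inl, LinearMap.lTensor_zero, LinearMap.zero_apply] at this
      rw [h2, map_zero] at hw
      have := congrArg ((LinearMap.fst A I A).lTensor M) hw
      rwa [map_zero, ← LinearMap.lTensor_comp_apply, LinearMap.fst_comp_inl, LinearMap.lTensor_id,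
        LinearMap.id_apply, eq_comm] at this
    rw [← Submodule.subtype_comp_inclusion I J hJ.le, LinearMap.lTensor_comp, LinearMap.coe_comp]
    exact (ih J hJ).comp hIJ

end Groth.Agent.S11450
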