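import Groth.Statements.S11452
import Groth.Agent.Deform85.AffineTriv
import Groth.Agent.FlatMor67.RegularSmooth
import Mathlib.AlgebraicGeometry.Morphisms.FiniteType
import Mathlib.RingTheory.Smooth.Locus
import Mathlib.FieldTheory.Perfect
import Mathlib.RingTheory.Smooth.Field

set_option autoImplicit false
universe u
open CategoryTheory AlgebraicGeometry
open DefT

namespace Groth.Agent.S11452

/-- Let k be an algebraically closed field, X an affine scheme of finite type over k whose local rings
are all regular, A a local Artin k-algebra with a k-algebra augmentation e : A → k, and g : X' →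
Spec A a flat morphism whose fibre over the k-point Spec k → Spec A given by e is X (with its
structure map to Spec k). Then there is an isomorphism from X' to the trivial deformation X ×_{Spec
k} Spec A compatible with the projections to Spec A. -/
theorem result (k : Type u) [Field k]
    [IsAlgClosed k] (X : Scheme.{u}) (hX : X ⟶ Spec (CommRingCat.of k)) [IsAffine X]
    [LocallyOfFiniteType hX] (hreg : ∀ x : X, IsRegularLocalRing (X.presheaf.stalk x))
    (A : Type u) [CommRing A] [IsLocalRing A] [IsArtinianRing A] [Algebra k A] (e : A →ₐ[k] k)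
    (X' : Scheme.{u}) (g : X' ⟶ Spec (CommRingCat.of A)) [Flat g] (i : X ⟶ X')
    (hsq : IsPullback i hX g (Spec.map (CommRingCat.ofHom e.toRingHom))) :
    ∃ φ : X' ≅ Limits.pullback hX (Spec.map (CommRingCat.ofHom (algebraMap k A))),
      φ.hom ≫ Limits.pullback.snd hX (Spec.map (CommRingCat.ofHom (algebraMap k A))) = g := by
  haveI := Groth.Agent.Deform85.isAffine_total e hsq
  have hsm : (Groth.Agent.Deform85.baseMap hX).FormallySmooth := by
    letI : Algebra k Γ(X, ⊤) := (Groth.Agent.Deform85.baseMap hX).toAlgebra
    haveI : Algebra.FiniteType k Γ(X, ⊤) :=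
      RingHom.FiniteType.comp (g := hX.appTop.hom) (HasRingHomProperty.appTop (P := @LocallyOfFiniteType) hX inferInstance)
        (RingHom.FiniteType.of_surjective _ (ConcreteCategory.bijective_of_isIso
          (Scheme.ΓSpecIso (CommRingCat.of k)).inv).2)
    haveI : Algebra.FinitePresentation k Γ(X, ⊤) := Algebra.FinitePresentation.of_finiteType.mp inferInstance
    have hall : ∀ q : PrimeSpectrum Γ(X, ⊤), Algebra.IsSmoothAt k q.asIdeal := fun q => by
      have hU := isAffineOpen_top X
      obtain ⟨x, rfl⟩ : ∃ x, hU.primeIdealOf x = q := ⟨hU.isoSpec.inv q, by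
        change hU.isoSpec.hom (hU.isoSpec.inv q) = q
        rw [← Scheme.Hom.comp_apply, Iso.inv_hom_id]; rfl⟩
      haveI := hU.isLocalization_stalk x
      haveI := hreg x
      haveI : IsRegularLocalRing (Localization.AtPrime (hU.primeIdealOf x).asIdeal) :=
        IsRegularLocalRing.of_ringEquiv (IsLocalization.algEquiv (hU.primeIdealOf x).asIdeal.primeCompl
          (X.presheaf.stalk x.1) _).toRingEquiv
      haveI : Algebra.EssFiniteType Γ(X, ⊤) (hU.primeIdealOf x).asIdeal.ResidueField := inferInstance
      haveI : Algebra.EssFiniteType k (hU.primeIdealOf x).asIdeal.ResidueField :=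
        Algebra.EssFiniteType.comp k Γ(X, ⊤) _
      exact Groth.Agent.FlatMor67.isSmoothAt_of_regular _
    haveI : Algebra.Smooth k Γ(X, ⊤) :=
      ⟨Algebra.smoothLocus_eq_univ_iff.mp (Set.eq_univ_iff_forall.mpr hall), inferInstance⟩
    exact (inferInstance : Algebra.FormallySmooth k Γ(X, ⊤))
  obtain ⟨s, hs1, hs2⟩ := Groth.Agent.Deform85.exists_section_of_formallySmooth e hsq hsm
  obtain ⟨q, -, -, hq⟩ := Groth.Agent.Deform85.exists_trivialisation e hsq s hs1 hs2
  exact ⟨hq.isoPullback, hq.isoPullback_hom_snd⟩

end Groth.Agent.S11452
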