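import Groth.Statements.S11453
import Groth.Agent.Deform85.PullApart
import Mathlib.RingTheory.PrincipalIdealDomain
import Mathlib.RingTheory.Polynomial.UniqueFactorization
import Mathlib.FieldTheory.IsAlgClosed.Basic
import Mathlib.RingTheory.Jacobson.Ring

set_option autoImplicit false
universe u
open scoped Polynomial
open DefT

namespace Groth.Agent.S11453

open Polynomial Groth.Agent.Deform85.PullApart

/-- An ideal of `k[u, v]` containing powers of both coordinates contains a polynomial monic in `u`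
restricting to `u ^ m` on the line `v = 0`, where `(u ^ m)` is the restriction of the ideal. -/
theorem exists_monic {k : Type u} [Field k] (J : Ideal k[X][X]) (N : ℕ) (hX : X ^ N ∈ J)
    (hv : C X ^ N ∈ J) (hne : J ⊔ Ideal.span {C X} ≠ ⊤) :
    ∃ F ∈ J, F.Monic ∧ F.natDegree ≠ 0 ∧
      ∀ g ∈ J, ∃ q, ∃ h, g = q * F + C X * h := by
  classical
  set ρ : k[X][X] →+* k[X] := mapRingHom (evalRingHom 0) with hρ
  have hρs : Function.Surjective ρ := map_surjective _ fun a => ⟨C a, eval_C⟩
  have hρC : ∀ g, ρ g = 0 → ∃ h, g = C X * h := fun g hg => by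
    refine C_dvd_iff_dvd_coeff _ _ |>.2 fun n => X_dvd_iff.2 ?_
    rw [coeff_zero_eq_eval_zero]
    simpa [hρ] using congrArg (fun p => p.coeff n) hg
  obtain ⟨g₀, hg₀⟩ : ∃ g₀, J.map ρ = Ideal.span {g₀} :=
    ⟨_, ((IsPrincipalIdealRing.principal (J.map ρ)).principal.choose_spec : _)⟩
  have hXN : (X : k[X]) ^ N ∈ J.map ρ := by simpa [hρ] using Ideal.mem_map_of_mem ρ hX
  rw [hg₀, Ideal.mem_span_singleton] at hXN
  obtain ⟨m, -, hm⟩ := (dvd_prime_pow prime_X N).1 hXN
  have hI : J.map ρ = Ideal.span {(X : k[X]) ^ m} :=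
    hg₀.trans (Ideal.span_singleton_eq_span_singleton.2 hm)
  have hm0 : m ≠ 0 := by
    rintro rfl
    apply hne
    rw [Ideal.eq_top_iff_one]
    obtain ⟨f, hf, hf1⟩ : ∃ f ∈ J, ρ f = 1 :=
      (Ideal.mem_map_iff_of_surjective ρ hρs).1 (by rw [hI]; exact Ideal.mem_span_singleton_self _)
    obtain ⟨h, hh⟩ := hρC (1 - f) (by rw [map_sub, map_one, hf1, sub_self])
    exact Submodule.mem_sup.2 ⟨f, hf, C X * h,
      Ideal.mul_mem_right _ _ (Ideal.mem_span_singleton_self _), by rw [← hh]; ring⟩
  obtain ⟨F₀, hF₀, hF₀ρ⟩ : ∃ f ∈ J, ρ f = (X : k[X]) ^ m :=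
    (Ideal.mem_map_iff_of_surjective ρ hρs).1 (by rw [hI]; exact Ideal.mem_span_singleton_self _)
  -- every element is a polynomial of degree `< m` modulo `J + (v ^ j)`
  have key : ∀ (j : ℕ) (h : k[X][X]), ∃ r : k[X][X], r.degree < m ∧ ∃ f ∈ J, ∃ g, h = r + f + C X ^ j * g := by
    intro j
    induction j with
    | zero => exact fun h => ⟨0, by simp, 0, J.zero_mem, h, by simp⟩
    | succ j ih =>
      intro h
      obtain ⟨r₁, hr₁, f₁, hf₁, g₁, hh⟩ := ih h
      let r₀ := ρ g₁ %ₘ X ^ m
      let q₀ := ρ g₁ /ₘ X ^ m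
      have hdec : r₀ + X ^ m * q₀ = ρ g₁ := modByMonic_add_div _ _
      obtain ⟨g₂, hg₂⟩ := hρC (g₁ - r₀.map C - q₀.map C * F₀) (by
        have hC : ∀ p : k[X], ρ (p.map C) = p := fun p => by
          ext n
          simp [hρ]
        rw [map_sub, map_sub, map_mul, hC, hC, hF₀ρ, ← hdec]
        ring)
      refine ⟨r₁ + C X ^ j * r₀.map C, ?_, f₁ + C X ^ j * (q₀.map C * F₀), J.add_mem hf₁
        (J.mul_mem_left _ (J.mul_mem_left _ hF₀)), g₂, ?_⟩
      · refine (degree_add_le _ _).trans_lt (max_lt hr₁ ?_)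
        rw [← C_pow]
        refine (degree_mul_le _ _).trans_lt ?_
        calc (C ((X : k[X]) ^ j)).degree + (r₀.map C).degree ≤ 0 + r₀.degree :=
              add_le_add degree_C_le (degree_map_le)
          _ < m := by
              rw [zero_add]
              exact (degree_modByMonic_lt _ (monic_X_pow m)).trans_eq (degree_X_pow m)
      · have : g₁ = r₀.map C + q₀.map C * F₀ + C X * g₂ := by rw [← hg₂]; ring
        rw [hh, this, pow_succ]
        ring
  obtain ⟨r, hr, f, hf, g, hfg⟩ := key N (X ^ m)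
  have hF : X ^ m - r ∈ J := by
    rw [show X ^ m - r = f + C X ^ N * g by rw [hfg]; ring]
    exact J.add_mem hf (J.mul_mem_right _ hv)
  have hFm : (X ^ m - r).Monic := monic_X_pow_sub hr
  have hFdeg : (X ^ m - r).natDegree = m := natDegree_eq_of_degree_eq_some (by
    rw [degree_sub_eq_left_of_degree_lt (by rwa [degree_X_pow]), degree_X_pow])
  have hρF : ρ (X ^ m - r) = X ^ m := by
    obtain ⟨c, hc⟩ := Ideal.mem_span_singleton.1 (hI ▸ Ideal.mem_map_of_mem ρ hF)
    have h1 : (ρ (X ^ m - r)).Monic := hFm.map _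
    have h2 : (ρ (X ^ m - r)).natDegree ≤ ((X : k[X]) ^ m).natDegree := by
      rw [natDegree_X_pow]
      exact (natDegree_map_le).trans hFdeg.le
    exact eq_of_monic_of_dvd_of_natDegree_le (monic_X_pow m) h1 ⟨c, hc⟩ h2
  refine ⟨_, hF, hFm, by rwa [hFdeg], fun g hg => ?_⟩
  obtain ⟨c, hc⟩ := Ideal.mem_span_singleton.1 (hI ▸ Ideal.mem_map_of_mem ρ hg)
  obtain ⟨q, hq⟩ := hρs c
  obtain ⟨h, hh⟩ := hρC (g - q * (X ^ m - r)) (by rw [map_sub, map_mul, hq, hρF, hc]; ring)
  exact ⟨q, h, by rw [← hh]; ring⟩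

theorem sub_eval_mem {k : Type u} [Field k] (p : Fin 2 → k) (g : MvPolynomial (Fin 2) k) :
    g - MvPolynomial.C (MvPolynomial.eval p g) ∈
      Ideal.span (Set.range fun i : Fin 2 => MvPolynomial.X i - MvPolynomial.C (p i)) := by
  induction g using MvPolynomial.induction_on with
  | C a => simp
  | add a b ha hb =>
    convert Ideal.add_mem _ ha hb using 1
    simp; ring
  | mul_X a i ha =>
    convert Ideal.add_mem _ (Ideal.mul_mem_right (MvPolynomial.X i) _ ha)
      (Ideal.mul_mem_left _ (MvPolynomial.C (MvPolynomial.eval p a))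
        (Ideal.subset_span (Set.mem_range_self i))) using 1
    simp; ring

theorem le_span_sub {k : Type u} [Field k] (p : Fin 2 → k) (J : Ideal (MvPolynomial (Fin 2) k))
    (h : ∀ g ∈ J, MvPolynomial.eval p g = 0) :
    J ≤ Ideal.span (Set.range fun i : Fin 2 => MvPolynomial.X i - MvPolynomial.C (p i)) := fun g hg => by
  simpa [h g hg] using sub_eval_mem p g

/-- `k[u, v]` as polynomials in `u` over polynomials in `v`. -/
noncomputable def coordEquiv (k : Type u) [Field k] (iu iv : Fin 2) (h : iu ≠ iv) :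
    MvPolynomial (Fin 2) k ≃ₐ[k] k[X][X] :=
  AlgEquiv.ofAlgHom (MvPolynomial.aeval fun i => if i = iu then X else C X)
    { eval₂RingHom (aeval (MvPolynomial.X iv : MvPolynomial (Fin 2) k)).toRingHom (MvPolynomial.X iu) with
      commutes' := fun a => by simp }
    (by
      apply Polynomial.algHom_ext'
      · apply Polynomial.algHom_ext
        simp [h.symm]
      · simp)
    (by
      apply MvPolynomial.algHom_ext
      intro i
      by_cases hi : i = iu
      · simp [hi]
      · have : i = iv := by omega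
        simp [hi, this, h.symm])

/-- Let k be an algebraically closed field, A = k[x, y], and 𝔞 ⊆ A an ideal of finite colength n ≥ 2
with radical (x, y), i.e. Spec(A/𝔞) is supported at the origin. Then there is an ideal 𝔞' ⊆ A[t]
defining a family finite and flat over k[t] (A[t]/𝔞' is a finitely generated flat k[t]-module, hence
locally free of rank n) whose fibre at t = 0 is 𝔞 and whose fibre ideal 𝔞_c at every c ≠ 0 is
contained in the maximal ideal of the origin and in the maximal ideal of some other k-point p ≠ (0,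
0); so for t ≠ 0 the fibre is supported at two or more distinct points. (The published statement
allows colength 1 and puts the second point at (0, t); for colength 1 every finite flat family has
one-point fibres, and the family constructed in the published proof has its second piece at the
roots of f(x, t) on the line y = t after a linear change of the coordinates x, y, which need not lie
at x = 0; this row states what that construction yields. The published statement asks the family to
be flat over k[t]; this row asks it to be finite and flat, as the constructed family is — f is monic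
in x and (y − t)·y^N lies in the ideal for some N — and as the published proof's count of the
constant fibre length n presupposes; with flatness alone the fibre conditions here could be met by
adjoining a component that never meets t = 0.) -/
theorem result (k : Type u) [Field k] [IsAlgClosed k]
    (𝔞 : Ideal (MvPolynomial (Fin 2) k)) [Module.Finite k (MvPolynomial (Fin 2) k ⧸ 𝔞)]
    (hn : 2 ≤ Module.finrank k (MvPolynomial (Fin 2) k ⧸ 𝔞))
    (hsupp : 𝔞.radical = Ideal.span {MvPolynomial.X 0, MvPolynomial.X 1}) :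
    ∃ 𝔞' : Ideal (MvPolynomial (Fin 2) k)[X],
      RingHom.Flat (R := k[X]) (S := (MvPolynomial (Fin 2) k)[X] ⧸ 𝔞')
        ((Ideal.Quotient.mk 𝔞').comp (Polynomial.mapRingHom (algebraMap k (MvPolynomial (Fin 2) k)))) ∧
      RingHom.Finite (A := k[X]) (B := (MvPolynomial (Fin 2) k)[X] ⧸ 𝔞')
        ((Ideal.Quotient.mk 𝔞').comp (Polynomial.mapRingHom (algebraMap k (MvPolynomial (Fin 2) k)))) ∧
      Ideal.map (Polynomial.evalRingHom (0 : MvPolynomial (Fin 2) k)) 𝔞' = 𝔞 ∧
      ∀ c : k, c ≠ 0 →
        Ideal.map (Polynomial.evalRingHom (MvPolynomial.C c)) 𝔞' ≤ Ideal.span {MvPolynomial.X 0, MvPolynomial.X 1} ∧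
        ∃ p : Fin 2 → k, p ≠ 0 ∧
          Ideal.map (Polynomial.evalRingHom (MvPolynomial.C c)) 𝔞' ≤
            Ideal.span (Set.range (fun i : Fin 2 => MvPolynomial.X i - MvPolynomial.C (p i))) := by
  classical
  set m₀ := Ideal.span ({MvPolynomial.X 0, MvPolynomial.X 1} : Set (MvPolynomial (Fin 2) k)) with hm₀
  have hm₀eq : m₀ = Ideal.span (Set.range fun i : Fin 2 =>
      MvPolynomial.X i - MvPolynomial.C ((0 : Fin 2 → k) i)) := by
    rw [hm₀]
    congr 1
    ext z
    simp [Fin.exists_fin_two, eq_comm]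
  have hm₀eval : ∀ g ∈ m₀, MvPolynomial.eval (0 : Fin 2 → k) g = 0 := by
    show m₀ ≤ RingHom.ker (MvPolynomial.eval (0 : Fin 2 → k))
    rw [hm₀, Ideal.span_le]
    rintro z (rfl | rfl) <;> simp
  have hle : 𝔞 ≤ m₀ := hsupp ▸ Ideal.le_radical
  have hev : ∀ g ∈ 𝔞, MvPolynomial.eval (0 : Fin 2 → k) g = 0 := fun g hg => hm₀eval g (hle hg)
  obtain ⟨iu, iv, hne, hiv⟩ : ∃ iu iv : Fin 2, iu ≠ iv ∧ MvPolynomial.X iv ∉ 𝔞 := by
    by_contra hcon
    push Not at hcon
    have hall : ∀ i : Fin 2, MvPolynomial.X i ∈ 𝔞 := fun i => hcon (1 - i) i (by revert i; decide)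
    have h1 : Function.Surjective (Algebra.linearMap k (MvPolynomial (Fin 2) k ⧸ 𝔞)) := by
      intro z
      obtain ⟨g, rfl⟩ := Ideal.Quotient.mk_surjective z
      refine ⟨MvPolynomial.eval (0 : Fin 2 → k) g, Eq.symm (Ideal.Quotient.eq.2 ?_)⟩
      refine (Ideal.span_le.2 ?_) (sub_eval_mem (0 : Fin 2 → k) g)
      rintro z ⟨i, rfl⟩
      simpa using hall i
    have := LinearMap.finrank_le_finrank_of_surjective h1
    rw [Module.finrank_self] at this
    omega
  set A := MvPolynomial (Fin 2) k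
  let u : A := MvPolynomial.X iu
  let v : A := MvPolynomial.X iv
  let E := coordEquiv k iu iv hne
  have hEu : E u = X := by simp [E, u, coordEquiv]
  have hEv : E v = C X := by simp [E, v, coordEquiv, hne.symm]
  obtain ⟨Nu, hNu⟩ := hsupp.ge (show u ∈ m₀ from Ideal.subset_span (by fin_cases iu <;> simp [u]))
  obtain ⟨Nv, hNv⟩ := hsupp.ge (show v ∈ m₀ from Ideal.subset_span (by fin_cases iv <;> simp [v]))
  let J := 𝔞.comap E.symm.toRingEquiv.toRingHom
  have hJ : ∀ g, E g ∈ J ↔ g ∈ 𝔞 := fun g => by simp [J]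
  obtain ⟨G, hGJ, hGm, hGd, hG⟩ := exists_monic J (Nu + Nv)
    (by rw [← hEu, ← map_pow, hJ, pow_add]; exact 𝔞.mul_mem_right _ hNu)
    (by rw [← hEv, ← map_pow, hJ, pow_add]; exact 𝔞.mul_mem_left _ hNv)
    (by
      intro htop
      obtain ⟨a, ha, b, hb, hab⟩ := Submodule.mem_sup.1 ((Ideal.eq_top_iff_one _).1 htop)
      obtain ⟨c, rfl⟩ := Ideal.mem_span_singleton'.1 hb
      have := congrArg (fun z => MvPolynomial.eval (0 : Fin 2 → k) (E.symm z)) hab
      rw [← hEv] at this
      have h1 := hev _ ((hJ (E.symm a)).1 (by simpa using ha))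
      simp [v] at this h1
      simp [h1] at this)
  let F : A := E.symm G
  have hEF : E F = G := E.apply_symm_apply G
  have hF𝔞 : F ∈ 𝔞 := (hJ F).1 (hEF ▸ hGJ)
  have hF0 : F ≠ 0 := fun e => hGm.ne_zero (by rw [← hEF, e, map_zero])
  let 𝔟 : Ideal A := Submodule.comap (LinearMap.mulLeft A v) 𝔞
  have h𝔞𝔟 : 𝔞 ≤ 𝔟 := fun g hg => 𝔞.mul_mem_left v hg
  have h𝔟 : 𝔟 ≤ m₀ := by
    have hb1 : 𝔟 ≠ ⊤ := fun e => hiv (by
      have h1 : (1 : A) ∈ 𝔟 := e ▸ Submodule.mem_top
      simpa [𝔟] using h1)
    obtain ⟨M, hM, hbM⟩ := Ideal.exists_le_maximal _ hb1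
    have h2 : m₀ ≤ M := hsupp ▸ (Ideal.radical_mono (h𝔞𝔟.trans hbM)).trans hM.isPrime.isRadical
    intro g hg
    rw [hm₀eq]
    have h3 : MvPolynomial.C (MvPolynomial.eval (0 : Fin 2 → k) g) ∈ M := by
      have := M.sub_mem (hbM hg) (h2 (hm₀eq ▸ sub_eval_mem (0 : Fin 2 → k) g))
      simpa using this
    have h4 : MvPolynomial.eval (0 : Fin 2 → k) g = 0 := by
      by_contra h5
      exact hM.ne_top (M.eq_top_of_isUnit_mem h3 ((isUnit_iff_ne_zero.2 h5).map MvPolynomial.C))
    have h6 := sub_eval_mem (0 : Fin 2 → k) g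
    rw [h4, map_zero, sub_zero] at h6
    exact h6
  haveI : Module.Finite k (A ⧸ 𝔟) := Module.Finite.of_surjective
    (Ideal.Quotient.factorₐ k h𝔞𝔟).toLinearMap (Ideal.Quotient.factor_surjective h𝔞𝔟)
  obtain ⟨hflat, hfin⟩ := flat_and_finite_famIdeal F v hF0 𝔟 (h𝔞𝔟 hF𝔞) E hEv (hEF ▸ hGm)
  refine ⟨famIdeal F v 𝔟, ?_, ?_, ?_, fun c hc => ?_⟩
  · letI := Polynomial.algebra (R := k) (A := A)
    exact RingHom.flat_algebraMap_iff.2 hflat
  · letI := Polynomial.algebra (R := k) (A := A)
    exact RingHom.finite_algebraMap.2 hfin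
  · rw [map_eval_famIdeal]
    refine le_antisymm (sup_le ((Ideal.span_singleton_le_iff_mem 𝔞).2 hF𝔞) (Ideal.mul_le.2 ?_)) ?_
    · intro a ha b hb
      obtain ⟨a, rfl⟩ := Ideal.mem_span_singleton'.1 ha
      rw [show a * (0 - v) * b = -a * (v * b) by ring]
      exact 𝔞.mul_mem_left _ hb
    · intro g hg
      obtain ⟨q, h, hgqh⟩ := hG (E g) ((hJ g).2 hg)
      have e : g = E.symm q * F + v * E.symm h := E.injective (by
        rw [map_add, map_mul, map_mul, hEv, hEF, E.apply_symm_apply, E.apply_symm_apply, hgqh])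
      have hh : E.symm h ∈ 𝔟 := by
        show v * E.symm h ∈ 𝔞
        rw [show v * E.symm h = g - E.symm q * F by rw [e]; ring]
        exact 𝔞.sub_mem hg (𝔞.mul_mem_left _ hF𝔞)
      rw [e]
      refine Submodule.add_mem_sup (Ideal.mul_mem_left _ _ (Ideal.mem_span_singleton_self _)) ?_
      rw [show v * E.symm h = (0 - v) * -E.symm h by ring]
      exact Ideal.mul_mem_mul (Ideal.mem_span_singleton_self _) (Ideal.neg_mem_iff _ |>.2 hh)
  · rw [map_eval_famIdeal]
    refine ⟨sup_le ((Ideal.span_singleton_le_iff_mem m₀).2 (hle hF𝔞)) (Ideal.mul_le_right.trans h𝔟), ?_⟩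
    obtain ⟨r, hr⟩ := IsAlgClosed.exists_root (G.map (evalRingHom c)) (fun h => hGd (by
      have := natDegree_eq_of_degree_eq_some (h : (G.map (evalRingHom c)).degree = (0 : ℕ))
      rwa [hGm.natDegree_map] at this))
    refine ⟨fun i => if i = iu then r else c, fun h => hc (by simpa [hne.symm] using congrFun h iv),
      le_span_sub _ _ ?_⟩
    have hval : ∀ g : A, MvPolynomial.eval (fun i => if i = iu then r else c) g =
        ((E g).map (evalRingHom c)).eval r := by
      intro g
      induction g using MvPolynomial.induction_on with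
      | C a => simp [E, coordEquiv]
      | add a b ha hb => simp only [map_add, Polynomial.map_add, eval_add, ha, hb]
      | mul_X a i ha =>
        simp only [map_mul, Polynomial.map_mul, eval_mul, ha, MvPolynomial.eval_X]
        by_cases hi : i = iu <;> simp [E, coordEquiv, hi]
    show _ ≤ RingHom.ker (MvPolynomial.eval fun i => if i = iu then r else c)
    refine sup_le ((Ideal.span_singleton_le_iff_mem _).2 ?_) (Ideal.mul_le_left.trans
      ((Ideal.span_singleton_le_iff_mem _).2 ?_))
    · rw [RingHom.mem_ker, hval, hEF]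
      exact hr
    · simp [v, hne.symm]

end Groth.Agent.S11453
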