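import Groth.Statements.S11454
import Groth.Agent.EGA4Alg4.FlatReg
import Groth.Agent.CAlg9.CIT.TransReg
import Groth.Agent.Henz21.TensorNoethArtin

set_option autoImplicit false
universe u
open DefT

namespace Groth.Agent.S11454

/-- Let C' be a local Artin ring, J ⊊ C' a proper ideal annihilated by the maximal ideal, C = C'/J, A' a
flat C'-algebra whose reduction modulo the maximal ideal of C' is a Cohen–Macaulay local ring, and A
= A'/JA'. If a'_1, …, a'_r ∈ A' have images in A forming a regular sequence with A/(a_1, …, a_r)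
flat over C, then a'_1, …, a'_r is a regular sequence on A' and A'/(a'_1, …, a'_r) is flat over C'.
(Regular sequences stand in for the exactness of the Koszul complexes in the published statement;
over a Noetherian local ring with the elements in the maximal ideal the two are equivalent.) -/
theorem result (C' : Type u) [CommRing C'] [IsLocalRing C'] [IsArtinianRing C'] (J : Ideal C')
    (hJ : IsLocalRing.maximalIdeal C' * J = ⊥) (hJne : J ≠ ⊤) (A' : Type u) [CommRing A'] [Algebra C' A'] [Module.Flat C' A']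
    [LocCoh.IsCohenMacaulayLocalRing (A' ⧸ (IsLocalRing.maximalIdeal C').map (algebraMap C' A'))]
    (r : ℕ) (a' : Fin r → A')
    (hreg : RingTheory.Sequence.IsRegular (A' ⧸ J.map (algebraMap C' A'))
      (List.ofFn (fun i => Ideal.Quotient.mk (J.map (algebraMap C' A')) (a' i))))
    [Module.Flat (C' ⧸ J) ((A' ⧸ J.map (algebraMap C' A')) ⧸
      Ideal.span (Set.range (fun i => Ideal.Quotient.mk (J.map (algebraMap C' A')) (a' i))))] :
    RingTheory.Sequence.IsRegular A' (List.ofFn a') ∧ Module.Flat C' (A' ⧸ Ideal.span (Set.range a')) := by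
  classical
  set m := IsLocalRing.maximalIdeal C' with hm
  set mA := m.map (algebraMap C' A') with hmA
  set JA := J.map (algebraMap C' A') with hJA
  have hnil : IsNilpotent mA := by
    obtain ⟨n, hn⟩ := IsArtinianRing.isNilpotent_jacobson_bot (R := C')
    rw [IsLocalRing.jacobson_eq_maximalIdeal ⊥ bot_ne_top] at hn
    exact ⟨n, by rw [hmA, ← Ideal.map_pow, hn, Ideal.zero_eq_bot, Ideal.map_bot, Ideal.zero_eq_bot]⟩
  haveI : IsNoetherianRing A' :=
    Groth.Agent.Henz21.TensorNoeth.isNoetherianRing_of_nilpotent mA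
      (Ideal.FG.map (IsNoetherian.noetherian m) (algebraMap C' A')) hnil
  have hJm : J ≤ m := IsLocalRing.le_maximalIdeal hJne
  have hJA' : JA ≤ mA := Ideal.map_mono hJm
  have hu : ∀ x : A', IsUnit (Ideal.Quotient.mk mA x) → IsUnit x := fun x hx => by
    obtain ⟨y, hy⟩ := Ideal.Quotient.mk_surjective (↑hx.unit⁻¹ : A' ⧸ mA)
    have h1 : x * y - 1 ∈ mA := by
      rw [← Ideal.Quotient.eq, map_mul, map_one, hy]
      exact hx.mul_val_inv
    obtain ⟨n, hn⟩ := hnil
    have h2 : IsUnit (x * y) := by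
      have : IsUnit (1 + (x * y - 1)) := IsNilpotent.isUnit_one_add ⟨n, by
        have := Ideal.pow_mem_pow h1 n
        rwa [hn] at this⟩
      rwa [add_sub_cancel] at this
    exact (IsUnit.mul_iff.1 h2).1
  haveI : IsLocalHom (Ideal.Quotient.mk mA) := ⟨hu⟩
  haveI : IsLocalRing A' := RingHom.domain_isLocalRing (Ideal.Quotient.mk mA)
  have hloc : m.map (algebraMap C' A') ≤ IsLocalRing.maximalIdeal A' :=
    IsLocalRing.le_maximalIdeal fun h => zero_ne_one (α := A' ⧸ mA)
      (Ideal.Quotient.eq.2 (by rw [hmA, h]; exact Submodule.mem_top))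
  haveI : IsLocalHom (algebraMap C' A') :=
    ⟨fun c hc => IsLocalRing.notMem_maximalIdeal.1 fun hcm =>
      IsLocalRing.notMem_maximalIdeal.2 hc (hloc (Ideal.mem_map_of_mem _ hcm))⟩
  haveI : Nontrivial (A' ⧸ JA) := Ideal.Quotient.nontrivial_iff.2 fun h =>
    Ideal.IsMaximal.ne_top (IsLocalRing.maximalIdeal.isMaximal A')
      (top_le_iff.1 (h.ge.trans (hJA'.trans hloc)))
  haveI : IsLocalRing (A' ⧸ JA) := IsLocalRing.of_surjective' _ Ideal.Quotient.mk_surjective
  haveI : Nontrivial (C' ⧸ J) := Ideal.Quotient.nontrivial_iff.2 hJne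
  haveI : IsLocalRing (C' ⧸ J) := IsLocalRing.of_surjective' _ Ideal.Quotient.mk_surjective
  haveI : IsScalarTower (C' ⧸ J) (A' ⧸ JA) (A' ⧸ JA) := IsScalarTower.right
  set fs := List.ofFn a' with hfs
  have hlist : List.ofFn (fun i => Ideal.Quotient.mk JA (a' i)) = fs.map (algebraMap A' (A' ⧸ JA)) := by
    rw [hfs, List.map_ofFn]
    rfl
  rw [hlist] at hreg
  have hspan : Ideal.span (Set.range fun i => Ideal.Quotient.mk JA (a' i)) =
      Ideal.ofList (fs.map (algebraMap A' (A' ⧸ JA))) := by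
    rw [← hlist, Ideal.ofList]
    congr 1
    ext x
    simp [List.mem_ofFn']
  have htop : ∀ I : Ideal (A' ⧸ JA), (I • ⊤ : Submodule (A' ⧸ JA) (A' ⧸ JA)) = I := fun I => by
    rw [smul_eq_mul, Ideal.mul_top]
  have hend : Module.Flat (C' ⧸ J) ((A' ⧸ JA) ⧸
      (Ideal.ofList (fs.map (algebraMap A' (A' ⧸ JA))) • (⊤ : Submodule (A' ⧸ JA) (A' ⧸ JA)))) :=
    Groth.Agent.EGA4Alg4.FlatReg13.flat_of_linearEquiv
      (Submodule.quotEquivOfEq _ _ ((htop _).trans hspan.symm))
  have hmem : ∀ f ∈ fs.map (algebraMap A' (A' ⧸ JA)), f ∈ IsLocalRing.maximalIdeal (A' ⧸ JA) := by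
    have hne : Ideal.ofList (fs.map (algebraMap A' (A' ⧸ JA))) ≠ ⊤ := fun h => hreg.top_ne_smul (by
      rw [h, Submodule.top_smul])
    exact fun f hf => IsLocalRing.le_maximalIdeal hne (Ideal.subset_span hf)
  have hflats := Groth.Agent.EGA4Alg4.FlatReg13.flat_take (A := C' ⧸ J) _ (A' ⧸ JA) hmem
    hreg.toIsWeaklyRegular hend
  have h1 := Groth.Agent.CAlg9.CIT.isWeaklyRegular_fibre (m.map (Ideal.Quotient.mk J)) _ (A' ⧸ JA)
    hreg.toIsWeaklyRegular hflats
  rw [RingTheory.Sequence.isWeaklyRegular_map_algebraMap_iff] at h1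
  let N : Submodule (A' ⧸ JA) (A' ⧸ JA) :=
    (m.map (Ideal.Quotient.mk J)).map (algebraMap (C' ⧸ J) (A' ⧸ JA)) • ⊤
  have hN : N = mA.map (Ideal.Quotient.mk JA) := by
    refine (htop _).trans ?_
    rw [hmA, Ideal.map_map, Ideal.map_map]
    rfl
  let ψ : A' →ₗ[A'] (A' ⧸ JA) ⧸ N := (N.mkQ.restrictScalars A').comp (Submodule.mkQ JA)
  have hψ : ∀ x, x ∈ (mA • ⊤ : Submodule A' A') ↔ x ∈ LinearMap.ker ψ := fun x => by
    rw [LinearMap.mem_ker, smul_eq_mul, Ideal.mul_top]
    change x ∈ mA ↔ Submodule.Quotient.mk (p := N) (Ideal.Quotient.mk JA x) = 0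
    rw [Submodule.Quotient.mk_eq_zero, hN, ← Ideal.mem_comap,
      Ideal.comap_map_of_surjective _ Ideal.Quotient.mk_surjective, ← RingHom.ker_eq_comap_bot, Ideal.mk_ker,
      sup_eq_left.2 hJA']
  have hψs : Function.Surjective ψ := fun y => by
    obtain ⟨z, rfl⟩ := Submodule.Quotient.mk_surjective _ y
    obtain ⟨x, rfl⟩ := Submodule.Quotient.mk_surjective _ z
    exact ⟨x, rfl⟩
  let e := (Submodule.quotEquivOfEq _ _ (Submodule.ext hψ)).trans (ψ.quotKerEquivOfSurjective hψs)
  have h2 : RingTheory.Sequence.IsWeaklyRegular (A' ⧸ (mA • ⊤ : Submodule A' A')) fs :=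
    (e.isWeaklyRegular_congr fs).2 h1
  obtain ⟨h3, h4⟩ := Groth.Agent.EGA4Alg4.FlatReg13.regular_and_flat (A := C') fs A' h2
  have hmem' : ∀ f ∈ fs, f ∈ IsLocalRing.maximalIdeal A' := fun f hf => by
    by_contra hn
    rw [IsLocalRing.notMem_maximalIdeal] at hn
    exact IsLocalRing.notMem_maximalIdeal.2 (hn.map (algebraMap A' (A' ⧸ JA)))
      (hmem _ (List.mem_map_of_mem hf))
  refine ⟨(IsLocalRing.isRegular_iff_isWeaklyRegular_of_subset_maximalIdeal hmem').2 h3, ?_⟩
  have h5 := h4 fs.length le_rfl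
  rw [List.take_length] at h5
  refine Groth.Agent.EGA4Alg4.FlatReg13.flat_of_linearEquiv
    (Submodule.quotEquivOfEq (Ideal.span (Set.range a')) (Ideal.ofList fs • ⊤ : Submodule A' A') ?_)
  rw [smul_eq_mul, Ideal.mul_top, hfs, Ideal.ofList]
  congr 1
  ext x
  simp [List.mem_ofFn']

end Groth.Agent.S11454
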