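import Groth.Statements.S11455
import Groth.Agent.Deform85.RegArtin

set_option autoImplicit false
universe u
open DefT

namespace Groth.Agent.S11455

/-- Let C' be a local Artin ring, J ⊊ C' a proper ideal annihilated by the maximal ideal, C = C'/J, A' a
flat C'-algebra whose reduction modulo the maximal ideal of C' is a Cohen–Macaulay local ring, A =
A'/JA', and a_1, …, a_r a regular sequence on A with A/(a_1, …, a_r) flat over C. Then every ideal
I' of A' with A'/I' flat over C' and with image (a_1, …, a_r) in A is generated by some lifts a'_1,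
…, a'_r of the a_i. -/
theorem result (C' : Type u) [CommRing C'] [IsLocalRing C'] [IsArtinianRing C'] (J : Ideal C')
    (hJ : IsLocalRing.maximalIdeal C' * J = ⊥) (hJne : J ≠ ⊤) (A' : Type u) [CommRing A'] [Algebra C' A'] [Module.Flat C' A']
    [LocCoh.IsCohenMacaulayLocalRing (A' ⧸ (IsLocalRing.maximalIdeal C').map (algebraMap C' A'))]
    (r : ℕ) (a : Fin r → A' ⧸ J.map (algebraMap C' A'))
    (hreg : RingTheory.Sequence.IsRegular (A' ⧸ J.map (algebraMap C' A')) (List.ofFn a))
    [Module.Flat (C' ⧸ J) ((A' ⧸ J.map (algebraMap C' A')) ⧸ Ideal.span (Set.range a))]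
    (I' : Ideal A') [Module.Flat C' (A' ⧸ I')]
    (hI' : I'.map (Ideal.Quotient.mk (J.map (algebraMap C' A'))) = Ideal.span (Set.range a)) :
    ∃ a' : Fin r → A', (∀ i, Ideal.Quotient.mk (J.map (algebraMap C' A')) (a' i) = a i) ∧
      I' = Ideal.span (Set.range a') := by
  haveI := Groth.Agent.Deform85.RegArtin.isNoetherianRing (C := C') (A := A')
  haveI := Groth.Agent.Deform85.RegArtin.isLocalRing (C := C') (A := A')
  have hmem : ∀ i, a i ∈ I'.map (Ideal.Quotient.mk (J.map (algebraMap C' A'))) := fun i => hI' ▸ Ideal.subset_span ⟨i, rfl⟩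
  choose a' haI ha using fun i => (Ideal.mem_map_iff_of_surjective _ Ideal.Quotient.mk_surjective).1 (hmem i)
  have hlist : List.ofFn a = (List.ofFn a').map (algebraMap A' (A' ⧸ (J.map (algebraMap C' A')))) := by
    rw [List.map_ofFn]
    exact congrArg List.ofFn (funext fun i => (ha i).symm)
  have hspan : Ideal.span (Set.range a) = Ideal.ofList ((List.ofFn a').map (algebraMap A' (A' ⧸ (J.map (algebraMap C' A'))))) := by
    rw [← hlist, Groth.Agent.Deform85.RegArtin.ofList_ofFn]
  haveI : Module.Flat (C' ⧸ J) ((A' ⧸ (J.map (algebraMap C' A'))) ⧸ Ideal.ofList ((List.ofFn a').map (algebraMap A' (A' ⧸ (J.map (algebraMap C' A')))))) :=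
    hspan ▸ inferInstance
  have hfib := (Groth.Agent.Deform85.RegArtin.isWeaklyRegular_closedFibre hJne (List.ofFn a')
    (hlist ▸ hreg)).1
  refine ⟨a', ha, (Groth.Agent.Deform85.RegArtin.eq_span_of_fibre I' a' haI hfib fun x hx => ?_).2⟩
  have hx' := Ideal.mem_map_of_mem (Ideal.Quotient.mk (J.map (algebraMap C' A'))) hx
  rw [hI', show Set.range a = Ideal.Quotient.mk (J.map (algebraMap C' A')) '' Set.range a' by
    rw [← Set.range_comp]; exact congrArg Set.range (funext fun i => (ha i).symm),
    ← Ideal.map_span, ← Ideal.mem_comap, Ideal.comap_map_of_surjective _ Ideal.Quotient.mk_surjective,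
    ← RingHom.ker_eq_comap_bot, Ideal.mk_ker] at hx'
  exact (sup_le_sup_left (Ideal.map_mono (IsLocalRing.le_maximalIdeal hJne) : J.map (algebraMap C' A') ≤ (IsLocalRing.maximalIdeal C').map (algebraMap C' A')) (Ideal.span (Set.range a'))) hx'

end Groth.Agent.S11455
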