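import Groth.Statements.S11456
import Groth.Agent.Deform85.RegArtin

set_option autoImplicit false
universe u
open DefT

namespace Groth.Agent.S11456

/-- Let C be a local Artin ring with maximal ideal m, A a flat C-algebra such that A₀ = A/mA is a
Cohen–Macaulay local ring, and I ⊆ A an ideal with A/I flat over C whose image in A₀ is generated by
a regular sequence b_1, …, b_r on A₀. Then I is generated by r elements a_1, …, a_r forming a
regular sequence on A (so the Koszul complex on the a_i resolves A/I). -/
theorem result (C : Type u) [CommRing C]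
    [IsLocalRing C] [IsArtinianRing C] (A : Type u) [CommRing A] [Algebra C A] [Module.Flat C A]
    [LocCoh.IsCohenMacaulayLocalRing (A ⧸ (IsLocalRing.maximalIdeal C).map (algebraMap C A))]
    (I : Ideal A) [Module.Flat C (A ⧸ I)] (r : ℕ)
    (b : Fin r → A ⧸ (IsLocalRing.maximalIdeal C).map (algebraMap C A))
    (hb : RingTheory.Sequence.IsRegular (A ⧸ (IsLocalRing.maximalIdeal C).map (algebraMap C A)) (List.ofFn b))
    (hI : I.map (Ideal.Quotient.mk ((IsLocalRing.maximalIdeal C).map (algebraMap C A))) = Ideal.span (Set.range b)) :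
    ∃ a : Fin r → A, RingTheory.Sequence.IsRegular A (List.ofFn a) ∧ I = Ideal.span (Set.range a) := by
  haveI := Groth.Agent.Deform85.RegArtin.isNoetherianRing (C := C) (A := A)
  haveI := Groth.Agent.Deform85.RegArtin.isLocalRing (C := C) (A := A)
  haveI := Groth.Agent.Deform85.RegArtin.isLocalHom (C := C) (A := A)
  have hmem : ∀ i, b i ∈ I.map (Ideal.Quotient.mk ((IsLocalRing.maximalIdeal C).map (algebraMap C A))) := fun i => hI ▸ Ideal.subset_span ⟨i, rfl⟩
  choose a haI ha using fun i => (Ideal.mem_map_iff_of_surjective _ Ideal.Quotient.mk_surjective).1 (hmem i)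
  have hlist : List.ofFn b = (List.ofFn a).map (algebraMap A (A ⧸ ((IsLocalRing.maximalIdeal C).map (algebraMap C A)))) := by
    rw [List.map_ofFn]
    exact congrArg List.ofFn (funext fun i => (ha i).symm)
  have hfib : RingTheory.Sequence.IsWeaklyRegular (A ⧸ (((IsLocalRing.maximalIdeal C).map (algebraMap C A)) • ⊤ : Submodule A A)) (List.ofFn a) := by
    have h := hb.toIsWeaklyRegular
    rw [hlist, RingTheory.Sequence.isWeaklyRegular_map_algebraMap_iff] at h
    exact ((Submodule.quotEquivOfEq _ _ (by rw [smul_eq_mul, Ideal.mul_top])).isWeaklyRegular_congr _).2 h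
  obtain ⟨h1, h2⟩ := Groth.Agent.Deform85.RegArtin.eq_span_of_fibre I a haI hfib (fun x hx => by
    have hx' := Ideal.mem_map_of_mem (Ideal.Quotient.mk ((IsLocalRing.maximalIdeal C).map (algebraMap C A))) hx
    rw [hI, show Set.range b = Ideal.Quotient.mk ((IsLocalRing.maximalIdeal C).map (algebraMap C A)) '' Set.range a by
      rw [← Set.range_comp]; exact congrArg Set.range (funext fun i => (ha i).symm),
      ← Ideal.map_span, ← Ideal.mem_comap, Ideal.comap_map_of_surjective _ Ideal.Quotient.mk_surjective,
      ← RingHom.ker_eq_comap_bot, Ideal.mk_ker] at hx'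
    exact hx')
  refine ⟨a, (IsLocalRing.isRegular_iff_isWeaklyRegular_of_subset_maximalIdeal fun f hf => ?_).2 h1, h2⟩
  have hne : Ideal.ofList (List.ofFn b) ≠ ⊤ := fun h => hb.top_ne_smul (by rw [h, Submodule.top_smul])
  by_contra hn
  rw [IsLocalRing.notMem_maximalIdeal] at hn
  refine hne (Ideal.eq_top_of_isUnit_mem _ (Ideal.subset_span ?_) (hn.map (algebraMap A (A ⧸ ((IsLocalRing.maximalIdeal C).map (algebraMap C A))))))
  rw [hlist]
  exact List.mem_map_of_mem hf

end Groth.Agent.S11456
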