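import Groth.Statements.S11458
import Groth.Agent.Deform85.HBLiftApp

set_option autoImplicit false
universe u
open DefT

namespace Groth.Agent.S11458

/-- Let C be a local Artin ring with maximal ideal m, A a flat C-algebra of finite type whose special
fibre A₀ = A/mA is smooth over C/m, and I ⊆ A an ideal with A/I flat over C whose image I₀ in A₀ has
height ≥ 2 at every prime containing it (A₀/I₀ of codimension 2) and is generated by the signed
maximal minors of an (r+1) × r matrix φ₀ over A₀ for which 0 → A₀^r → A₀^{r+1} → A₀ (matrix, then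
minors) is exact. Then there is an (r+1) × r matrix φ over A whose signed maximal minors generate I
and for which 0 → A^r → A^{r+1} → A is exact, so that 0 → A^r → A^{r+1} → A → A/I → 0 is a
resolution. -/
theorem result (C : Type u) [CommRing C]
    [IsLocalRing C] [IsArtinianRing C] (A : Type u) [CommRing A] [Algebra C A] [Module.Flat C A]
    [Algebra.FiniteType C A]
    [Algebra.Smooth (C ⧸ IsLocalRing.maximalIdeal C) (A ⧸ (IsLocalRing.maximalIdeal C).map (algebraMap C A))]
    (I : Ideal A) [Module.Flat C (A ⧸ I)]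
    (hcodim : ∀ p : Ideal (A ⧸ (IsLocalRing.maximalIdeal C).map (algebraMap C A)), p.IsPrime →
      I.map (Ideal.Quotient.mk ((IsLocalRing.maximalIdeal C).map (algebraMap C A))) ≤ p → (2 : ℕ∞) ≤ p.height)
    (r : ℕ)
    (φ₀ : Matrix (Fin (r + 1)) (Fin r) (A ⧸ (IsLocalRing.maximalIdeal C).map (algebraMap C A)))
    (h₀ : (Ideal.span (Set.range (fun i : Fin (r + 1) => (-1 : (A ⧸ (IsLocalRing.maximalIdeal C).map (algebraMap C A))) ^ (i : ℕ) * ((φ₀).submatrix i.succAbove id).det)) = I.map (Ideal.Quotient.mk ((IsLocalRing.maximalIdeal C).map (algebraMap C A))) ∧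
        Function.Injective (φ₀).mulVecLin ∧
        LinearMap.range (φ₀).mulVecLin = LinearMap.ker (Fintype.linearCombination (A ⧸ (IsLocalRing.maximalIdeal C).map (algebraMap C A)) (fun i : Fin (r + 1) => (-1 : (A ⧸ (IsLocalRing.maximalIdeal C).map (algebraMap C A))) ^ (i : ℕ) * ((φ₀).submatrix i.succAbove id).det)))) :
    ∃ φ : Matrix (Fin (r + 1)) (Fin r) A, (Ideal.span (Set.range (fun i : Fin (r + 1) => (-1 : A) ^ (i : ℕ) * ((φ).submatrix i.succAbove id).det)) = I ∧
        Function.Injective (φ).mulVecLin ∧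
        LinearMap.range (φ).mulVecLin = LinearMap.ker (Fintype.linearCombination A (fun i : Fin (r + 1) => (-1 : A) ^ (i : ℕ) * ((φ).submatrix i.succAbove id).det))) := by
  obtain ⟨hN, hnorm⟩ := Groth.Agent.Deform85.HB.smooth_fibre_normal (C := C) (A := A)
  obtain ⟨φ, -, h1, h2, h3⟩ := Groth.Agent.Deform85.HB.exists_lift hnorm (IsLocalRing.maximalIdeal C) le_rfl I
    φ₀ h₀.1.symm (fun φ hφ => by
      have h := Groth.Agent.Deform85.HB.exactMod_of_quotient _ Ideal.Quotient.mk_surjective hφ
        (Groth.Agent.Deform85.HB.exactMod_bot h₀.2.1 h₀.2.2)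
      rwa [← RingHom.ker_eq_comap_bot, Ideal.mk_ker] at h)
    (fun P hP hIP => by
      rw [← Groth.Agent.Deform85.HB.height_map_mk_eq
        (Groth.Agent.Deform85.HB.map_le_nilradical (le_refl (IsLocalRing.maximalIdeal C))) P]
      exact hcodim (P.map (Ideal.Quotient.mk ((IsLocalRing.maximalIdeal C).map (algebraMap C A)))) (Ideal.map_isPrime_of_surjective Ideal.Quotient.mk_surjective
        (by rw [Ideal.mk_ker]; exact (Groth.Agent.Deform85.HB.map_le_nilradical le_rfl).trans (nilradical_le_prime P))) (Ideal.map_mono hIP))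
  exact ⟨φ, h1, h2, h3⟩

end Groth.Agent.S11458
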