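import Groth.Statements.S11461
import Mathlib.RingTheory.Ideal.AssociatedPrime.Finiteness
import Mathlib.RingTheory.Nakayama
import Mathlib.Algebra.Homology.ShortComplex.ModuleCat

set_option autoImplicit false
universe u
open CategoryTheory
open DefT

namespace Groth.Agent.S11461

/-- Let B be a Noetherian ring and F an additive, B-linear endofunctor of B-modules which preserves
finite generation and is semi-exact on short exact sequences of finitely generated modules (the
image sequence is exact in the middle). If F kills B/m for every maximal ideal m, then F kills every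
finitely generated B-module. (The published statement assumes F only additive; this row assumes F
B-linear, and takes the functor on all B-modules with the hypotheses and the conclusion on the
finitely generated ones.) -/
theorem result (B : Type u) [CommRing B]
    [IsNoetherianRing B] (F : ModuleCat.{u} B ⥤ ModuleCat.{u} B) [F.Additive] [F.Linear B]
    (hfg : ∀ M : ModuleCat.{u} B, Module.Finite B M → Module.Finite B (F.obj M))
    (hex : ∀ S : ShortComplex (ModuleCat.{u} B), S.ShortExact → Module.Finite B S.X₂ → (S.map F).Exact)
    (h0 : ∀ m : Ideal B, m.IsMaximal → Limits.IsZero (F.obj (ModuleCat.of B (B ⧸ m))))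
    (M : ModuleCat.{u} B) (hM : Module.Finite B M) : Limits.IsZero (F.obj M) := by
  classical
  suffices H : ∀ I : Ideal B, ∀ (N : Type u) [AddCommGroup N] [Module B N] [Module.Finite B N],
      I ≤ Module.annihilator B N → Limits.IsZero (F.obj (ModuleCat.of B N)) by
    exact H ⊥ M bot_le
  intro I
  induction I using WellFoundedGT.induction with
  | _ I ih =>
    intro N _ _ hN
    induction ‹Module.Finite B N› using IsNoetherianRing.induction_on_isQuotientEquivQuotientPrime B with
    | subsingleton N => intro _; exact F.map_isZero (ModuleCat.isZero_of_subsingleton (ModuleCat.of B N))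
    | exact N₁ N₂ N₃ f g hf hg hfg' h₁ h₃ =>
      intro hN
      have a₁ : I ≤ Module.annihilator B N₁ := hN.trans (f.annihilator_le_of_injective hf)
      have a₃ : I ≤ Module.annihilator B N₃ := hN.trans (g.annihilator_le_of_surjective hg)
      let S := ShortComplex.mk (ModuleCat.ofHom f) (ModuleCat.ofHom g)
        (ModuleCat.hom_ext hfg'.linearMap_comp_eq_zero)
      have hS : S.ShortExact :=
        { exact := (ShortComplex.ShortExact.moduleCat_exact_iff_function_exact S).2 hfg'
          mono_f := (ModuleCat.mono_iff_injective _).2 hf
          epi_g := (ModuleCat.epi_iff_surjective _).2 hg }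
      exact (hex S hS ‹_›).isZero_of_both_zeros ((h₁ a₁).eq_of_src _ _) ((h₃ a₃).eq_of_tgt _ _)
    | quotient N p e =>
      intro hN
      have hIp : I ≤ p.1 := fun x hx => by
        have h := congrArg e (Module.mem_annihilator.1 (hN hx) (e.symm (Submodule.Quotient.mk 1)))
        rw [map_smul, e.apply_symm_apply, map_zero, ← Submodule.Quotient.mk_smul,
          Submodule.Quotient.mk_eq_zero, smul_eq_mul, mul_one] at h
        exact h
      have hann : p.1 ≤ Module.annihilator B N := fun x hx => Module.mem_annihilator.2 fun n => e.injective (by
        obtain ⟨b, hb⟩ := Submodule.Quotient.mk_surjective _ (e n)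
        rw [map_smul, map_zero, ← hb, ← Submodule.Quotient.mk_smul, Submodule.Quotient.mk_eq_zero]
        exact Ideal.mul_mem_right b p.1 hx)
      rcases hIp.lt_or_eq with hlt | rfl
      · exact ih _ hlt N hann
      by_cases hmax : p.1.IsMaximal
      · exact (h0 p.1 hmax).of_iso (F.mapIso e.toModuleIso)
      haveI := hfg (ModuleCat.of B N) ‹_›
      suffices Subsingleton (F.obj (ModuleCat.of B N)) from ModuleCat.isZero_of_subsingleton _
      suffices hA : Module.annihilator B (F.obj (ModuleCat.of B N)) = ⊤ by
        exact ⟨fun x y => by
          have h1 : (1 : B) ∈ Module.annihilator B (F.obj (ModuleCat.of B N)) := hA ▸ trivial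
          rw [← one_smul B x, ← one_smul B y, Module.mem_annihilator.1 h1 x, Module.mem_annihilator.1 h1 y]⟩
      by_contra hA
      obtain ⟨m, hm, hAm⟩ := Ideal.exists_le_maximal _ hA
      have hmul : ∀ x : B, F.map (ModuleCat.ofHom (x • LinearMap.id : N →ₗ[B] N)) =
          x • 𝟙 (F.obj (ModuleCat.of B N)) := fun x => by
        rw [show ModuleCat.ofHom (x • LinearMap.id : N →ₗ[B] N) = x • 𝟙 (ModuleCat.of B N) from by ext; simp,
          F.map_smul, F.map_id]
      have hpA : p.1 ≤ Module.annihilator B (F.obj (ModuleCat.of B N)) := fun x hx => by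
        refine Module.mem_annihilator.2 fun y => ?_
        have h1 := hmul x
        rw [show (x • LinearMap.id : N →ₗ[B] N) = 0 from
            LinearMap.ext fun n => Module.mem_annihilator.1 (hann hx) n,
          ModuleCat.ofHom_zero, F.map_zero] at h1
        exact (congrArg (fun l => l.hom y) h1).symm
      obtain ⟨x, hxm, hxp⟩ := SetLike.exists_of_lt
        (lt_of_le_of_ne (hpA.trans hAm) (fun h => hmax (h ▸ hm)))
      let f : N →ₗ[B] N := x • LinearMap.id
      have hf : Function.Injective f := (injective_iff_map_eq_zero _).2 fun n hn => e.injective (by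
        obtain ⟨b, hb⟩ := Submodule.Quotient.mk_surjective _ (e n)
        have h2 : x • e n = 0 := by rw [← map_smul, show x • n = 0 from hn, map_zero]
        rw [← hb, ← Submodule.Quotient.mk_smul, Submodule.Quotient.mk_eq_zero, smul_eq_mul] at h2
        rw [map_zero, ← hb, Submodule.Quotient.mk_eq_zero]
        exact (p.2.mem_or_mem h2).resolve_left hxp)
      let S := ShortComplex.mk (ModuleCat.ofHom f) (ModuleCat.ofHom (LinearMap.range f).mkQ)
        (ModuleCat.hom_ext (LinearMap.ext fun n =>
          (Submodule.Quotient.mk_eq_zero _).2 (LinearMap.mem_range_self f n)))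
      have hS : S.ShortExact :=
        { exact := (ShortComplex.ShortExact.moduleCat_exact_iff_function_exact S).2 (LinearMap.exact_map_mkQ_range f)
          mono_f := (ModuleCat.mono_iff_injective _).2 hf
          epi_g := (ModuleCat.epi_iff_surjective _).2 (Submodule.mkQ_surjective _) }
      have hq : Limits.IsZero (F.obj (ModuleCat.of B (N ⧸ LinearMap.range f))) := by
        refine ih (p.1 ⊔ Ideal.span {x}) (lt_of_le_of_ne le_sup_left fun h => hxp ?_) _ ?_
        · exact h ▸ Submodule.mem_sup_right (Ideal.mem_span_singleton_self x)
        · refine sup_le (hann.trans ((LinearMap.range f).mkQ.annihilator_le_of_surjective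
            (Submodule.mkQ_surjective _))) ((Ideal.span_singleton_le_iff_mem _).2 ?_)
          refine Module.mem_annihilator.2 fun y => ?_
          obtain ⟨n, rfl⟩ := Submodule.mkQ_surjective _ y
          rw [← map_smul]
          exact (Submodule.Quotient.mk_eq_zero _).2 ⟨n, rfl⟩
      haveI : Epi (F.map (ModuleCat.ofHom f)) := (hex S hS ‹_›).epi_f (hq.eq_of_tgt _ _)
      have hs := (ModuleCat.epi_iff_surjective (F.map (ModuleCat.ofHom f))).1 inferInstance
      obtain ⟨r, hr1, hr2⟩ := Submodule.exists_sub_one_mem_and_smul_eq_zero_of_fg_of_le_smul (Ideal.span {x})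
        (⊤ : Submodule B (F.obj (ModuleCat.of B N))) Module.Finite.fg_top (fun y _ => by
          obtain ⟨z, rfl⟩ := hs y
          rw [hmul x]
          exact Submodule.smul_mem_smul (Ideal.mem_span_singleton_self x) trivial)
      have hrm : r ∈ m := hAm (Module.mem_annihilator.2 fun y => hr2 y trivial)
      exact hm.ne_top ((Ideal.eq_top_iff_one _).2 (by
        simpa using Ideal.sub_mem _ hrm ((Ideal.span_singleton_le_iff_mem _).2 hxm hr1)))

end Groth.Agent.S11461
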