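import Groth.Statements.S11462
import Groth.Agent.Deform85.HartogsSpec
import Mathlib.AlgebraicGeometry.Noetherian

set_option autoImplicit false
universe u
open CategoryTheory AlgebraicGeometry Opposite
open DefT

namespace Groth.Agent.S11462

/-- Let C be a local Artin ring with maximal ideal m, A a Noetherian C-algebra flat over C such that
Spec(A/mA) is a normal scheme, and U ⊆ X = Spec A an open subset whose closed complement has
codimension ≥ 2, i.e. every prime of A not in U has height at least 2. Then the restriction map Γ(X,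
O_X) → Γ(U, O_X) is bijective. (The published statement assumes only that A is flat over C with
normal special fibre; this row also assumes A Noetherian: for a valuation ring of rank two over a
field, which is normal and flat, the functions on the complement of the closed point are not all
global.) -/
theorem result (C : Type u) [CommRing C]
    [IsLocalRing C] [IsArtinianRing C] (A : Type u) [CommRing A] [IsNoetherianRing A] [Algebra C A]
    [Module.Flat C A]
    (hnorm : Pi1.IsNormalScheme (Spec (CommRingCat.of (A ⧸ (IsLocalRing.maximalIdeal C).map (algebraMap C A)))))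
    (U : (Spec (CommRingCat.of A)).Opens)
    (hU : ∀ p : ↥(Spec (CommRingCat.of A)), p ∉ U → (2 : ℕ∞) ≤ p.asIdeal.height) :
    Function.Bijective ((Spec (CommRingCat.of A)).presheaf.map (homOfLE (le_top : U ≤ ⊤)).op) := by
  classical
  obtain ⟨G, hGle, hGcov⟩ := Groth.Agent.Deform85.exists_basic_cover (CommRingCat.of A) U
  -- the fibre is Hartogs
  let I := (IsLocalRing.maximalIdeal C).map (algebraMap C A)
  have hnil : I ≤ nilradical A := fun x hx => by
    obtain ⟨n, hn⟩ := Groth.Agent.Deform85.exists_pow_map_maximalIdeal (A := C) A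
    exact ⟨n, Ideal.mem_bot.1 (hn.le (Ideal.pow_mem_pow hx n))⟩
  have hnorm' : ∀ (P : Ideal (A ⧸ I)) [P.IsPrime],
      IsDomain (Localization.AtPrime P) ∧ IsIntegrallyClosed (Localization.AtPrime P) := fun P _ =>
    Groth.Agent.Deform85.normal_localization (CommRingCat.of (A ⧸ I)) hnorm P
  have hG0 : ∀ P : Ideal (A ⧸ I), P.IsPrime →
      ((G.image (Ideal.Quotient.mk I) : Finset _) : Set (A ⧸ I)) ⊆ P → (2 : ℕ∞) ≤ P.height := fun P _ hsub => by
    let p : PrimeSpectrum (A ⧸ I) := ⟨P, inferInstance⟩
    have hmono : ∀ q q' : PrimeSpectrum A, (h : I ≤ q.asIdeal) → (h' : I ≤ q'.asIdeal) → q < q' →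
        q.asIdeal.map (Ideal.Quotient.mk I) < q'.asIdeal.map (Ideal.Quotient.mk I) := fun q q' h h' hlt => by
      refine lt_of_le_not_ge (Ideal.map_mono hlt.le) fun hle => ?_
      have := Ideal.comap_mono (f := Ideal.Quotient.mk I) hle
      simp only [Ideal.comap_map_of_surjective _ Ideal.Quotient.mk_surjective, ← RingHom.ker_eq_comap_bot,
        Ideal.mk_ker, sup_eq_left.2 h, sup_eq_left.2 h'] at this
      exact absurd (PrimeSpectrum.asIdeal_le_asIdeal _ _ |>.1 this) (not_le_of_gt hlt)
    have hall : ∀ q : PrimeSpectrum A, I ≤ q.asIdeal := fun q =>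
      hnil.trans (nilradical_le_prime q.asIdeal)
    let f : PrimeSpectrum A → PrimeSpectrum (A ⧸ I) := fun q =>
      ⟨q.asIdeal.map (Ideal.Quotient.mk I),
        Ideal.map_isPrime_of_surjective Ideal.Quotient.mk_surjective (by rw [Ideal.mk_ker]; exact hall q)⟩
    have hfm : StrictMono f := fun q q' hlt => hmono q q' (hall q) (hall q') hlt
    let q : PrimeSpectrum A := ⟨P.comap (Ideal.Quotient.mk I), inferInstance⟩
    have hfq : f q = p := PrimeSpectrum.ext (Ideal.map_comap_of_surjective _ Ideal.Quotient.mk_surjective P)
    have hq : q ∉ U := fun hqU => by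
      obtain ⟨g, hg, hgq⟩ := hGcov q hqU
      exact hgq (hsub (Finset.mem_coe.2 (Finset.mem_image_of_mem (Ideal.Quotient.mk I) hg)))
    calc (2 : ℕ∞) ≤ q.asIdeal.height := hU q hq
      _ = Order.height q := PrimeSpectrum.height_eq_orderHeight q
      _ ≤ Order.height (f q) := Order.height_le_height_apply_of_strictMono f hfm q
      _ = P.height := by rw [hfq]; exact (PrimeSpectrum.height_eq_orderHeight p).symm
  have hH : Groth.Agent.Deform85.IsHartogs G :=
    Groth.Agent.Deform85.isHartogs_of_fibre G
      (Groth.Agent.Deform85.isHartogs_of_normal hnorm' _ hG0)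
  exact Groth.Agent.Deform85.bijective_res_of_isHartogs (CommRingCat.of A) U G hGle hGcov hH

end Groth.Agent.S11462
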