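import Groth.Statements.S11470
import Mathlib

set_option autoImplicit false
universe u
open Curves

namespace Groth.Agent.S11470

open Polynomial

section
variable {k : Type u} [Field k]


theorem aeval_X_eq (p : k[X]) : Polynomial.aeval (RatFunc.X : RatFunc k) p = (algebraMap (Polynomial k) (RatFunc k)) p := by
  have h : (Polynomial.aeval (RatFunc.X : RatFunc k) : k[X] →ₐ[k] RatFunc k) = IsScalarTower.toAlgHom k k[X] (RatFunc k) := by
    apply Polynomial.algHom_ext
    simp [RatFunc.algebraMap_X]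
  exact DFunLike.congr_fun h p

theorem x_sub_one_ne_zero : (RatFunc.X : RatFunc k) - 1 ≠ 0 := by
  rw [← RatFunc.algebraMap_X, ← map_one (algebraMap (Polynomial k) (RatFunc k)), ← map_sub]
  exact (map_ne_zero_iff _ (IsFractionRing.injective k[X] (RatFunc k))).mpr
    (Polynomial.X_sub_C_ne_zero 1)

theorem u_ne_zero : (RatFunc.X : RatFunc k) * ((RatFunc.X : RatFunc k) - 1) ≠ 0 := mul_ne_zero RatFunc.X_ne_zero x_sub_one_ne_zero

variable (σ τ : RatFunc k ≃ₐ[k] RatFunc k) (hσ : σ (RatFunc.X : RatFunc k) = (RatFunc.X : RatFunc k)⁻¹) (hτ : τ (RatFunc.X : RatFunc k) = 1 - (RatFunc.X : RatFunc k))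

include hτ in
theorem tau_map (p : k[X]) : τ ((algebraMap (Polynomial k) (RatFunc k)) p) = (algebraMap (Polynomial k) (RatFunc k)) (p.comp (1 - Polynomial.X)) := by
  rw [← aeval_X_eq, ← aeval_X_eq, Polynomial.aeval_comp]
  show τ.toAlgHom _ = _
  rw [← Polynomial.aeval_algHom_apply]
  simp [hτ]

include hσ in
theorem sigma_map (p : k[X]) (d : ℕ) (hd : p.natDegree ≤ d) :
    σ ((algebraMap (Polynomial k) (RatFunc k)) p) * (RatFunc.X : RatFunc k) ^ d = (algebraMap (Polynomial k) (RatFunc k)) (p.reflect d) := by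
  have : σ ((algebraMap (Polynomial k) (RatFunc k)) p) = Polynomial.aeval (RatFunc.X : RatFunc k)⁻¹ p := by
    rw [← aeval_X_eq]
    show σ.toAlgHom _ = _
    rw [← Polynomial.aeval_algHom_apply]
    simp [hσ]
  rw [this, ← aeval_X_eq]
  haveI : Invertible (RatFunc.X : RatFunc k) := invertibleOfNonzero RatFunc.X_ne_zero
  have h := Polynomial.eval₂_reflect_mul_pow (algebraMap k (RatFunc k)) (RatFunc.X : RatFunc k) d
    (p.reflect d) ((Polynomial.natDegree_reflect_le).trans (max_le le_rfl hd))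
  rw [Polynomial.reflect_reflect, invOf_eq_inv] at h
  simpa [Polynomial.aeval_def] using h

include hτ in
theorem tau_u : τ ((RatFunc.X : RatFunc k) * ((RatFunc.X : RatFunc k) - 1)) = (RatFunc.X : RatFunc k) * ((RatFunc.X : RatFunc k) - 1) := by
  rw [map_mul, map_sub, map_one, hτ]; ring

include hσ in
theorem sigma_u : σ ((RatFunc.X : RatFunc k) * ((RatFunc.X : RatFunc k) - 1)) * (RatFunc.X : RatFunc k) ^ 3 = -((RatFunc.X : RatFunc k) * ((RatFunc.X : RatFunc k) - 1)) := by
  rw [map_mul, map_sub, map_one, hσ]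
  field_simp [RatFunc.X_ne_zero]
  ring

theorem exists_rep {b : RatFunc k}
    (hb : b ∈ Algebra.adjoin k ({(RatFunc.X : RatFunc k), (RatFunc.X : RatFunc k)⁻¹, ((RatFunc.X : RatFunc k) - 1)⁻¹} : Set (RatFunc k))) :
    ∃ (N : ℕ) (p : k[X]), b * ((RatFunc.X : RatFunc k) * ((RatFunc.X : RatFunc k) - 1)) ^ N = (algebraMap (Polynomial k) (RatFunc k)) p := by
  induction hb using Algebra.adjoin_induction with
  | mem y hy =>
    rcases hy with rfl | rfl | rfl
    · exact ⟨0, Polynomial.X, by simp [RatFunc.algebraMap_X]⟩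
    · exact ⟨1, Polynomial.X - 1, by
        rw [pow_one, ← mul_assoc, inv_mul_cancel₀ RatFunc.X_ne_zero, one_mul, map_sub,
          RatFunc.algebraMap_X, map_one]⟩
    · exact ⟨1, Polynomial.X, by
        rw [pow_one, mul_left_comm, inv_mul_cancel₀ x_sub_one_ne_zero, mul_one,
          RatFunc.algebraMap_X]⟩
  | algebraMap r => exact ⟨0, Polynomial.C r, by
      rw [pow_zero, mul_one, IsScalarTower.algebraMap_apply k k[X] (RatFunc k)]; rfl⟩
  | add y z _ _ hy hz =>
    obtain ⟨N, p, hp⟩ := hy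
    obtain ⟨M, q, hq⟩ := hz
    exact ⟨N + M, p * (Polynomial.X * (Polynomial.X - 1)) ^ M +
      q * (Polynomial.X * (Polynomial.X - 1)) ^ N, by
      simp only [map_add, map_mul, map_pow, map_sub, map_one, RatFunc.algebraMap_X, ← hp, ← hq]
      ring⟩
  | mul y z _ _ hy hz =>
    obtain ⟨N, p, hp⟩ := hy
    obtain ⟨M, q, hq⟩ := hz
    exact ⟨N + M, p * q, by rw [map_mul, ← hp, ← hq]; ring⟩

include hσ hτ in
theorem main (h2 : (2 : k) ≠ 0) (j : RatFunc k)
    (hj : j * ((RatFunc.X : RatFunc k) * ((RatFunc.X : RatFunc k) - 1)) ^ 2 = 256 * ((RatFunc.X : RatFunc k) ^ 2 - (RatFunc.X : RatFunc k) + 1) ^ 3)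
    (hjσ : σ j = j) (hjτ : τ j = j) :
    ∀ (N : ℕ) (b : RatFunc k) (p : k[X]), b * ((RatFunc.X : RatFunc k) * ((RatFunc.X : RatFunc k) - 1)) ^ N = (algebraMap (Polynomial k) (RatFunc k)) p → σ b = b → τ b = b →
      b ∈ Algebra.adjoin k ({j} : Set (RatFunc k)) := by
  have inj := IsFractionRing.injective k[X] (RatFunc k)
  intro N
  induction N with
  | zero =>
    intro b p hp hσb _
    rw [pow_zero, mul_one] at hp
    obtain ⟨c, rfl⟩ : ∃ c, p = Polynomial.C c := by
      refine ⟨p.coeff 0, Polynomial.eq_C_of_natDegree_le_zero ?_⟩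
      by_contra hd
      have h := sigma_map σ hσ p p.natDegree le_rfl
      rw [← hp, hσb, hp, ← RatFunc.algebraMap_X, ← map_pow, ← map_mul] at h
      have h' := congrArg Polynomial.natDegree (inj h)
      rw [Polynomial.natDegree_mul (fun h0 => hd (by simp [h0])) (pow_ne_zero _ Polynomial.X_ne_zero),
        Polynomial.natDegree_X_pow] at h'
      have : (p.reflect p.natDegree).natDegree ≤ max p.natDegree p.natDegree :=
        Polynomial.natDegree_reflect_le
      omega
    rw [hp, ← aeval_X_eq, Polynomial.aeval_C]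
    exact Subalgebra.algebraMap_mem _ _
  | succ N ih =>
    intro b p hp hσb hτb
    -- symmetry about 1/2
    have hcomp : p.comp (1 - Polynomial.X) = p := by
      apply inj
      rw [← tau_map τ hτ, ← hp, map_mul, map_pow, tau_u τ hτ, hτb]
    -- reflection
    have key : (algebraMap (Polynomial k) (RatFunc k)) (p.reflect (max p.natDegree (3 * (N + 1)))) *
        (-1) ^ (N + 1) =
        (algebraMap (Polynomial k) (RatFunc k)) p * (RatFunc.X : RatFunc k) ^ (max p.natDegree (3 * (N + 1)) - 3 * (N + 1)) := by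
      generalize hd : max p.natDegree (3 * (N + 1)) = d
      obtain ⟨e, rfl⟩ : ∃ e, d = 3 * (N + 1) + e := Nat.exists_eq_add_of_le (hd ▸ le_max_right _ _)
      rw [← sigma_map σ hσ p _ (hd ▸ le_max_left _ _), ← hp, map_mul, map_pow, hσb,
        Nat.add_sub_cancel_left, pow_add (RatFunc.X : RatFunc k) (3 * (N + 1)) e,
        pow_mul (RatFunc.X : RatFunc k) 3 (N + 1),
        show b * σ ((RatFunc.X : RatFunc k) * ((RatFunc.X : RatFunc k) - 1)) ^ (N + 1) * (((RatFunc.X : RatFunc k) ^ 3) ^ (N + 1) * (RatFunc.X : RatFunc k) ^ e) * (-1) ^ (N + 1) =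
          b * (σ ((RatFunc.X : RatFunc k) * ((RatFunc.X : RatFunc k) - 1)) * (RatFunc.X : RatFunc k) ^ 3 * -1) ^ (N + 1) * (RatFunc.X : RatFunc k) ^ e by ring,
        sigma_u σ hσ]
      ring
    rw [← RatFunc.algebraMap_X, ← map_pow, ← map_mul,
      show ((-1 : RatFunc k)) = (algebraMap (Polynomial k) (RatFunc k)) (-1) by simp, ← map_pow, ← map_mul] at key
    have key' := inj key
    have hdeg : p.natDegree ≤ 3 * (N + 1) := by
      by_contra hlt
      rw [max_eq_left (by omega)] at key'
      have h' := congrArg Polynomial.natDegree key'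
      rw [Polynomial.natDegree_mul (fun h0 => hlt (by simp [h0])) (pow_ne_zero _ Polynomial.X_ne_zero),
        Polynomial.natDegree_X_pow] at h'
      have h1 : (p.reflect p.natDegree).natDegree ≤ max p.natDegree p.natDegree :=
        Polynomial.natDegree_reflect_le
      have h3 := Polynomial.natDegree_mul_le (p := p.reflect p.natDegree)
        (q := (-1 : k[X]) ^ (N + 1))
      have h4 : ((-1 : k[X]) ^ (N + 1)).natDegree = 0 := by simp
      omega
    rw [max_eq_right hdeg, Nat.sub_self, pow_zero, mul_one] at key'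
    have htop : p.coeff (3 * (N + 1)) = (-1) ^ (N + 1) * p.coeff 0 := by
      conv_lhs => rw [← key']
      rw [show ((-1 : k[X]) ^ (N + 1)) = Polynomial.C ((-1 : k) ^ (N + 1)) by simp,
        Polynomial.coeff_mul_C, Polynomial.coeff_reflect, Polynomial.revAt_le le_rfl, Nat.sub_self,
        mul_comm]
    -- peel a factor
    have peel : ∀ (c : RatFunc k) (q : k[X]), c * ((RatFunc.X : RatFunc k) * ((RatFunc.X : RatFunc k) - 1)) ^ (N + 1) = (algebraMap (Polynomial k) (RatFunc k)) q → σ c = c → τ c = c →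
        q.coeff 0 = 0 → c ∈ Algebra.adjoin k ({j} : Set (RatFunc k)) := by
      intro c q hq hσc hτc h0
      obtain ⟨r, rfl⟩ := Polynomial.X_dvd_iff.mpr h0
      have hc1 : (Polynomial.X * r).comp (1 - Polynomial.X) = Polynomial.X * r := by
        apply inj
        rw [← tau_map τ hτ, ← hq, map_mul, map_pow, tau_u τ hτ, hτc]
      obtain ⟨s, rfl⟩ : Polynomial.X - Polynomial.C 1 ∣ r := by
        rw [Polynomial.dvd_iff_isRoot]
        have h := congrArg (Polynomial.eval 1) hc1
        simp at h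
        exact h.symm
      refine ih c s ?_ hσc hτc
      apply mul_right_cancel₀ (u_ne_zero (k := k))
      rw [mul_assoc, ← pow_succ, hq]
      simp only [map_mul, map_sub, RatFunc.algebraMap_X, map_one]
      ring
    rcases Nat.even_or_odd (N + 1) with ⟨m, hm⟩ | hodd
    · let r : k[X] := (Polynomial.C 256 * (Polynomial.X ^ 2 - Polynomial.X + 1) ^ 3) ^ m
      have hr : j ^ m * ((RatFunc.X : RatFunc k) * ((RatFunc.X : RatFunc k) - 1)) ^ (N + 1) = (algebraMap (Polynomial k) (RatFunc k)) r := by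
        rw [hm, ← two_mul, pow_mul, ← mul_pow, hj]
        simp [r, RatFunc.algebraMap_X, map_ofNat]
      have h256 : (256 : k) ≠ 0 := by
        rw [show (256 : k) = 2 ^ 8 by norm_num]; exact pow_ne_zero _ h2
      have hr0 : r.coeff 0 = 256 ^ m := by
        simp [r, Polynomial.coeff_zero_eq_eval_zero]
      set a : k := p.coeff 0 / 256 ^ m with ha
      have hmem := peel (b - algebraMap k (RatFunc k) a * j ^ m) (p - Polynomial.C a * r) ?_ ?_ ?_ ?_
      · rw [show b = (b - algebraMap k (RatFunc k) a * j ^ m) + algebraMap k (RatFunc k) a * j ^ m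
          by ring]
        exact add_mem hmem (mul_mem (Subalgebra.algebraMap_mem _ _)
          (pow_mem (Algebra.self_mem_adjoin_singleton k j) m))
      · rw [sub_mul, mul_assoc, hp, hr, map_sub, map_mul, ← aeval_X_eq (Polynomial.C a),
          Polynomial.aeval_C]
      · rw [map_sub, map_mul, map_pow, σ.commutes, hσb, hjσ]
      · rw [map_sub, map_mul, map_pow, τ.commutes, hτb, hjτ]
      · rw [Polynomial.coeff_sub, Polynomial.coeff_C_mul, hr0, ha,
          div_mul_cancel₀ _ (pow_ne_zero _ h256), sub_self]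
    · refine peel b p hp hσb hτb ?_
      by_contra hc
      rw [hodd.neg_one_pow, neg_one_mul] at htop
      have hne : p.coeff (3 * (N + 1)) ≠ 0 := by rw [htop]; simpa using hc
      have heq : p.natDegree = 3 * (N + 1) :=
        le_antisymm hdeg (Polynomial.le_natDegree_of_ne_zero hne)
      have hl := congrArg Polynomial.leadingCoeff hcomp
      have hd1 : (1 - Polynomial.X : k[X]) = Polynomial.C (-1) * Polynomial.X + Polynomial.C 1 := by
        simp; ring
      rw [Polynomial.leadingCoeff_comp (by rw [hd1, Polynomial.natDegree_linear (by simp)]; simp),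
        hd1, Polynomial.leadingCoeff_linear (by simp), heq, (Odd.mul (by decide) hodd).neg_one_pow,
        mul_neg_one] at hl
      have : (2 : k) * p.leadingCoeff = 0 := by linear_combination -hl
      rcases mul_eq_zero.mp this with h | h
      · exact h2 h
      · exact hne (by rw [← heq]; exact h)

end

end Groth.Agent.S11470


namespace Groth.Agent.S11470

/-- The algebraic step of its proof: Fix an algebraically closed field k whose characteristic is neither
2 nor 3, let B ⊆ k(λ) be the k-subalgebra generated by λ, λ⁻¹ and (λ - 1)⁻¹ (the coordinate ring of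
the λ-line with 0 and 1 removed), and let σ and τ be the k-algebra automorphisms of k(λ) determined
by σ(λ) = λ⁻¹ and τ(λ) = 1 - λ (they generate the group of order six permuting λ, 1/λ, 1-λ, 1/(1-λ),
λ/(λ-1), (λ-1)/λ). Then the elements of B fixed by σ and τ are exactly the elements of the
k-subalgebra generated by j = 256 (λ² - λ + 1)³ / (λ² (λ - 1)²); in other words the ring of
invariants of B is the polynomial ring k[j]. -/
theorem result (k : Type u) [Field k] [IsAlgClosed k]
    (h2 : (2 : k) ≠ 0) (h3 : (3 : k) ≠ 0)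
    (σ τ : RatFunc k ≃ₐ[k] RatFunc k) (hσ : σ RatFunc.X = (RatFunc.X : RatFunc k)⁻¹)
    (hτ : τ RatFunc.X = 1 - (RatFunc.X : RatFunc k)) (b : RatFunc k) :
    (b ∈ Algebra.adjoin k ({RatFunc.X, (RatFunc.X : RatFunc k)⁻¹, ((RatFunc.X : RatFunc k) - 1)⁻¹} : Set (RatFunc k)) ∧
        σ b = b ∧ τ b = b) ↔
      b ∈ Algebra.adjoin k ({(256 : RatFunc k) * ((RatFunc.X : RatFunc k) ^ 2 - RatFunc.X + 1) ^ 3 /
        ((RatFunc.X : RatFunc k) ^ 2 * ((RatFunc.X : RatFunc k) - 1) ^ 2)} : Set (RatFunc k)) := by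
  set j : RatFunc k := (256 : RatFunc k) * ((RatFunc.X : RatFunc k) ^ 2 - RatFunc.X + 1) ^ 3 /
        ((RatFunc.X : RatFunc k) ^ 2 * ((RatFunc.X : RatFunc k) - 1) ^ 2) with hjdef
  have hx : (RatFunc.X : RatFunc k) ≠ 0 := RatFunc.X_ne_zero
  have hx1 : (RatFunc.X : RatFunc k) - 1 ≠ 0 := x_sub_one_ne_zero
  have hjσ : σ j = j := by
    rw [hjdef, map_div₀]
    simp only [map_mul, map_pow, map_add, map_sub, map_one, map_ofNat, hσ]
    have hx1' : 1 - (RatFunc.X : RatFunc k) ≠ 0 := fun h => hx1 (by linear_combination -h)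
    field_simp [hx, hx1, hx1']
    ring
  have hjτ : τ j = j := by
    rw [hjdef, map_div₀]
    simp only [map_mul, map_pow, map_add, map_sub, map_one, map_ofNat, hτ]
    have hx1' : 1 - (RatFunc.X : RatFunc k) ≠ 0 := fun h => hx1 (by linear_combination -h)
    field_simp [hx, hx1, hx1']
    ring
  constructor
  · rintro ⟨hb, hσb, hτb⟩
    obtain ⟨N, p, hp⟩ := exists_rep hb
    refine main σ τ hσ hτ h2 j ?_ hjσ hjτ N b p hp hσb hτb
    rw [hjdef, mul_pow, div_mul_cancel₀]
    exact mul_ne_zero (pow_ne_zero _ hx) (pow_ne_zero _ hx1)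
  · intro hb
    induction hb using Algebra.adjoin_induction with
    | mem y hy =>
      obtain rfl : y = j := hy
      refine ⟨?_, hjσ, hjτ⟩
      set S := Algebra.adjoin k
        ({RatFunc.X, (RatFunc.X : RatFunc k)⁻¹, ((RatFunc.X : RatFunc k) - 1)⁻¹} : Set (RatFunc k))
      have m1 : (RatFunc.X : RatFunc k) ∈ S := Algebra.subset_adjoin (Or.inl rfl)
      have m2 : (RatFunc.X : RatFunc k)⁻¹ ∈ S := Algebra.subset_adjoin (Or.inr (Or.inl rfl))
      have m3 : ((RatFunc.X : RatFunc k) - 1)⁻¹ ∈ S := Algebra.subset_adjoin (Or.inr (Or.inr rfl))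
      rw [hjdef, div_eq_mul_inv, mul_inv, ← inv_pow, ← inv_pow]
      exact mul_mem (mul_mem (ofNat_mem S 256) (pow_mem (add_mem (sub_mem (pow_mem m1 2) m1)
        (one_mem S)) 3)) (mul_mem (pow_mem m2 2) (pow_mem m3 2))
    | algebraMap r =>
      exact ⟨Subalgebra.algebraMap_mem _ _, σ.commutes r, τ.commutes r⟩
    | add y z _ _ hy hz =>
      exact ⟨add_mem hy.1 hz.1, by rw [map_add, hy.2.1, hz.2.1], by rw [map_add, hy.2.2, hz.2.2]⟩
    | mul y z _ _ hy hz =>
      exact ⟨mul_mem hy.1 hz.1, by rw [map_mul, hy.2.1, hz.2.1], by rw [map_mul, hy.2.2, hz.2.2]⟩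

end Groth.Agent.S11470
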