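import Groth.Statements.S11479
import Groth.Agent.Ega11.StableFamily
-- import your own Groth.Agent.* helpers here

set_option autoImplicit false
universe u
open CategoryTheory CategoryTheory.Limits AlgebraicGeometry
open Curves

namespace Groth.Agent.S11479

/-- Let X be a nonsingular projective curve over an algebraically closed field k (smooth, proper,
integral, of dimension one), T a nonsingular integral curve over k and t₀ a k-point of T. Let E and
E' be locally free sheaves of rank r on X ×_k T, and for a k-point t of T write E_t for the pullback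
of E along the fibre inclusion X → X ×_k T at t. Suppose E_t ≅ E'_t for every k-point t ≠ t₀, and
that E_{t₀} and E'_{t₀} are both stable: every locally free subsheaf G of rank s, 0 < s < r,
satisfies deg G / s < deg / r (written cross-multiplied, degrees computed as χ(G) − s·χ(O_X)). Then
E_{t₀} ≅ E'_{t₀} (existence of an isomorphism). -/
theorem result (k : Type u) [Field k] [IsAlgClosed k] (X : Scheme.{u})
    [X.Over (Spec (CommRingCat.of k))] (hX : Curve.IsSmoothProperCurve k X (X ↘ Spec (CommRingCat.of k)))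
    (T : Scheme.{u}) [T.Over (Spec (CommRingCat.of k))] [IsIntegral T] [Smooth (T ↘ Spec (CommRingCat.of k))]
    (hT : topologicalKrullDim T = 1) (t₀ : Spec (CommRingCat.of k) ⟶ T) (ht₀ : t₀ ≫ (T ↘ Spec (CommRingCat.of k)) = 𝟙 _)
    (r : ℕ) (E E' : (pullback (X ↘ Spec (CommRingCat.of k)) (T ↘ Spec (CommRingCat.of k))).Modules)
    (hE : FlatMod.IsFinLocFreeOfRank r E) (hE' : FlatMod.IsFinLocFreeOfRank r E')
    (hiso : ∀ (t : Spec (CommRingCat.of k) ⟶ T) (j : X ⟶ pullback (X ↘ Spec (CommRingCat.of k)) (T ↘ Spec (CommRingCat.of k))),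
      t ≫ (T ↘ Spec (CommRingCat.of k)) = 𝟙 _ → t ≠ t₀ → j ≫ pullback.fst _ _ = 𝟙 X →
      j ≫ pullback.snd _ _ = (X ↘ Spec (CommRingCat.of k)) ≫ t →
      Nonempty ((Scheme.Modules.pullback j).obj E ≅ (Scheme.Modules.pullback j).obj E'))
    (j₀ : X ⟶ pullback (X ↘ Spec (CommRingCat.of k)) (T ↘ Spec (CommRingCat.of k)))
    (hj₀ : j₀ ≫ pullback.fst _ _ = 𝟙 X) (hj₀' : j₀ ≫ pullback.snd _ _ = (X ↘ Spec (CommRingCat.of k)) ≫ t₀)
    (hst : (∀ (G : X.Modules) (s : ℕ) (ι : G ⟶ ((Scheme.Modules.pullback j₀).obj E)), Mono ι →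
        FlatMod.IsFinLocFreeOfRank s G → 0 < s → s < r → Curv2.deg k X G s * (r : ℤ) < Curv2.deg k X ((Scheme.Modules.pullback j₀).obj E) r * (s : ℤ)))
    (hst' : (∀ (G : X.Modules) (s : ℕ) (ι : G ⟶ ((Scheme.Modules.pullback j₀).obj E')), Mono ι →
        FlatMod.IsFinLocFreeOfRank s G → 0 < s → s < r → Curv2.deg k X G s * (r : ℤ) < Curv2.deg k X ((Scheme.Modules.pullback j₀).obj E') r * (s : ℤ))) :
    Nonempty ((Scheme.Modules.pullback j₀).obj E ≅ (Scheme.Modules.pullback j₀).obj E') := by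
  obtain ⟨hp, hsm, hint, hdim⟩ := hX
  haveI := hp; haveI := hsm; haveI := hint
  have hcur := VB30.cur_of_smooth k X hdim
  set f := pullback.snd (X ↘ Spec (CommRingCat.of k)) (T ↘ Spec (CommRingCat.of k)) with hf
  haveI : IsProper f := MorphismProperty.pullback_snd (P := @IsProper) _ _ inferInstance
  haveI : Smooth f := MorphismProperty.pullback_snd (P := @Smooth) _ _ inferInstance
  haveI : LocallyOfFiniteType (T ↘ Spec (CommRingCat.of k)) := inferInstance
  have lE := VB30.isFinLocFree_of_rank (hE)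
  have lE' := VB30.isFinLocFree_of_rank (hE')
  have r0 := Ega11.StableFamily.isFinLocFreeOfRank_pullback j₀ hE
  have r0' := Ega11.StableFamily.isFinLocFreeOfRank_pullback j₀ hE'
  have l0 := VB30.isFinLocFree_of_rank r0
  have l0' := VB30.isFinLocFree_of_rank r0'
  rcases Nat.eq_zero_or_pos r with hr | hr
  · exact ⟨(hcur.isZero_of_rk_eq_zero l0 ((VB30.rk_eq_of_isFinLocFreeOfRank r0).trans hr)).iso
      (hcur.isZero_of_rk_eq_zero l0' ((VB30.rk_eq_of_isFinLocFreeOfRank r0').trans hr))⟩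
  let y : (Spec (CommRingCat.of k) ⟶ T) → T := fun t => t (IsLocalRing.closedPoint k)
  let jt : ∀ t : Spec (CommRingCat.of k) ⟶ T, t ≫ (T ↘ Spec (CommRingCat.of k)) = 𝟙 _ →
      (X ⟶ pullback (X ↘ Spec (CommRingCat.of k)) (T ↘ Spec (CommRingCat.of k))) := fun t ht =>
    pullback.lift (𝟙 X) ((X ↘ Spec (CommRingCat.of k)) ≫ t) (by rw [Category.id_comp, Category.assoc, ht, Category.comp_id])
  let F := CohB1.tensorMod E' (QC70.dualMod E)
  have lF : FlatMod.IsFinLocFree F := Kvb46.isFinLocFree_tensor lE' (Formal27.isFinLocFree_dualMod lE)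
  have hFfp := Ega11.StableFamily.isFP_lf lF
  have hFfl := RB70.isFlatOver_of_isFinLocFree f lF
  -- Hom between the slices
  have key : ∀ (t : Spec (CommRingCat.of k) ⟶ T) (_ : t ≫ (T ↘ Spec (CommRingCat.of k)) = 𝟙 _)
      (j : X ⟶ pullback (X ↘ Spec (CommRingCat.of k)) (T ↘ Spec (CommRingCat.of k))),
      j ≫ pullback.fst _ _ = 𝟙 X → j ≫ pullback.snd _ _ = (X ↘ Spec (CommRingCat.of k)) ≫ t →
      (0 < PerfAux.betti f F (y t) 0 ↔
        ∃ φ : (Scheme.Modules.pullback j).obj E ⟶ (Scheme.Modules.pullback j).obj E', φ ≠ 0) := by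
    intro t ht j hj hj'
    obtain ⟨i⟩ := Ega11.StableFamily.nonempty_pullback_homShape j lE lE'
    rw [← Ega11.StableFamily.finrank_h0_hom_pos_iff (k := k) (Strict99.isFinLocFree_pullback j lE)
      (Strict99.isFinLocFree_pullback j lE') hcur]
    show 0 < PerfAux.betti f F (t (IsLocalRing.closedPoint k)) 0 ↔ _
    rw [Ega11.SliceFibre.betti_slice k X T F hFfp t ht j hj hj' 0, (Crv77.hEquiv k i 0).finrank_eq]
  have h0 : 0 < PerfAux.betti f F (y t₀) 0 := by
    by_contra hlt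
    obtain ⟨t, ht, hne, hmem⟩ := Ega11.SliceFibre.exists_point_mem k T hT t₀ ht₀
      (Ega11.Semicont.isOpen_betti_lt f F hFfp hFfl 0 1) ⟨y t₀, by show PerfAux.betti f F (y t₀) 0 < 1; omega⟩
    obtain ⟨e⟩ := hiso t (jt t ht) ht hne (pullback.lift_fst _ _ _) (pullback.lift_snd _ _ _)
    have h1 := (key t ht (jt t ht) (pullback.lift_fst _ _ _) (pullback.lift_snd _ _ _)).2
      ⟨e.hom, Ega11.StableFamily.hom_ne_zero k e
        (by rw [VB30.rk_eq_of_isFinLocFreeOfRank (Ega11.StableFamily.isFinLocFreeOfRank_pullback (jt t ht) hE)]; exact hr)⟩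
    have h2 : PerfAux.betti f F (y t) 0 < 1 := hmem
    omega
  obtain ⟨φ, hφ⟩ := (key t₀ ht₀ j₀ hj₀ hj₀').1 h0
  -- equality of degrees
  have hχ : Curv2.euler k X ((Scheme.Modules.pullback j₀).obj E) = Curv2.euler k X ((Scheme.Modules.pullback j₀).obj E') := by
    have hfpE := Ega11.StableFamily.isFP_lf lE
    have hfpE' := Ega11.StableFamily.isFP_lf lE'
    obtain ⟨t, ht, hne, -⟩ := Ega11.SliceFibre.exists_point_mem k T hT t₀ ht₀ isOpen_univ ⟨y t₀, trivial⟩
    obtain ⟨e⟩ := hiso t (jt t ht) ht hne (pullback.lift_fst _ _ _) (pullback.lift_snd _ _ _)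
    have ht' := Ega11.StableFamily.eq_of_isLocallyConstant
      (S1026.result f E hfpE (RB70.isFlatOver_of_isFinLocFree f lE))
      (S1026.result f E' hfpE' (RB70.isFlatOver_of_isFinLocFree f lE')) (s := y t)
      (by rw [Ega11.SliceFibre.eulerChar_slice k X T E hfpE t ht (jt t ht) (pullback.lift_fst _ _ _) (pullback.lift_snd _ _ _),
        Ega11.SliceFibre.eulerChar_slice k X T E' hfpE' t ht (jt t ht) (pullback.lift_fst _ _ _) (pullback.lift_snd _ _ _)]
          exact Crv77.euler_congr (k := k) e) (y t₀)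
    rwa [Ega11.SliceFibre.eulerChar_slice k X T E hfpE t₀ ht₀ j₀ hj₀ hj₀',
      Ega11.SliceFibre.eulerChar_slice k X T E' hfpE' t₀ ht₀ j₀ hj₀ hj₀'] at ht'
  have hs : VB30.St k ((Scheme.Modules.pullback j₀).obj E) :=
    VB30.st_of_slope r0 fun G s ι hι h0 hlt hG => hst G s ι hι hG h0 hlt
  have hs' : VB30.St k ((Scheme.Modules.pullback j₀).obj E') :=
    VB30.st_of_slope r0' fun G s ι hι h0 hlt hG => hst' G s ι hι hG h0 hlt
  haveI := hcur.isIso_of_ne_zero l0 l0' (hcur.ss_of_st l0 hs) (hcur.ss_of_st l0' hs')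
    (by
      rw [← VB30.deg_eq_dg r0, ← VB30.deg_eq_dg r0', VB30.rk_eq_of_isFinLocFreeOfRank r0,
        VB30.rk_eq_of_isFinLocFreeOfRank r0']
      simp only [Curv2.deg, hχ]) (Or.inl ⟨hs, hs'⟩) φ hφ
  exact ⟨asIso φ⟩

end Groth.Agent.S11479
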