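import Groth.Statements.S11483
import Groth.Agent.VB30.Setup
import Groth.Agent.VB30.Slope

set_option autoImplicit false
set_option backward.isDefEq.respectTransparency false
universe u
open CategoryTheory CategoryTheory.Limits AlgebraicGeometry
open Curves

namespace Groth.Agent.S11483

/-- Stable bundles are simple. Let X be a nonsingular projective curve over an algebraically closed
field k (smooth, proper, integral, of dimension one) and E a locally free sheaf of rank r on X which
is stable: every locally free subsheaf G of rank s with 0 < s < r has deg G · r < deg E · s (degrees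
computed as χ − rank·χ(O_X)). Then every nonzero endomorphism of E is an isomorphism. (The published
statement concludes that the endomorphisms of E are exactly the scalars; over the algebraically
closed field k this is equivalent, the endomorphism ring being a finite-dimensional division
algebra, and the form stated here avoids the k-linear structure on endomorphisms.) -/
theorem result (k : Type u) [Field k] [IsAlgClosed k] (X : Scheme.{u})
    [X.Over (Spec (CommRingCat.of k))] (hX : Curve.IsSmoothProperCurve k X (X ↘ Spec (CommRingCat.of k))) (r : ℕ)
    (E : X.Modules) (hE : FlatMod.IsFinLocFreeOfRank r E)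
    (hst : ∀ (G : X.Modules) (s : ℕ) (ι : G ⟶ E), Mono ι → FlatMod.IsFinLocFreeOfRank s G → 0 < s → s < r →
      Curv2.deg k X G s * (r : ℤ) < Curv2.deg k X E r * (s : ℤ))
    (φ : E ⟶ E) (hφ : φ ≠ 0) : IsIso φ := by
  obtain ⟨hp, hsm, hint, hdim⟩ := hX
  have h := VB30.cur_of_smooth k X hdim
  have hs : VB30.St k E := VB30.st_of_slope hE fun G s ι hι h0 hlt hG => hst G s ι hι hG h0 hlt
  have hE' := VB30.isFinLocFree_of_rank hE
  exact h.isIso_of_ne_zero hE' hE' (h.ss_of_st hE' hs) (h.ss_of_st hE' hs) rfl (Or.inl ⟨hs, hs⟩) φ hφ

end Groth.Agent.S11483
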