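import Groth.Statements.S11493
import Groth.Agent.ExtRing94.Basic
import Groth.Agent.CAlg1.Serre
import Mathlib.RingTheory.KrullDimension.Zero

set_option autoImplicit false
universe u
open CategoryTheory
open VBPn

namespace Groth.Agent.S11493

/-- Let A be a Noetherian local ring and I an ideal with a free resolution of length 1, 0 → A^p → A^q →
I → 0 (equivalently: a surjection A^q → I with free kernel). Let 0 → A → M → I → 0 be an extension
with class e ∈ Ext^1(I, A). Then M is free if and only if e generates the A-module Ext^1(I, A); the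
A-module structure being through End(A) = A, this says every element of Ext^1(I, A) is the composite
of e with an endomorphism of A. -/
theorem result (A : Type u) [CommRing A] [IsNoetherianRing A] [IsLocalRing A]
    (I : Ideal A)
    (hres : ∃ (q : ℕ) (φ : (Fin q → A) →ₗ[A] ↥I), Function.Surjective φ ∧ Module.Free A ↥(LinearMap.ker φ))
    (S : ShortComplex (ModuleCat.{u} A)) (hS : S.ShortExact)
    (h₁ : Nonempty (S.X₁ ≅ ModuleCat.of A A)) (h₃ : Nonempty (S.X₃ ≅ ModuleCat.of A ↥I)) :
    Module.Free A S.X₂ ↔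
      ∀ x : Abelian.Ext S.X₃ S.X₁ 1, ∃ f : S.X₁ ⟶ S.X₁, hS.extClass.comp (Abelian.Ext.mk₀ f) (add_zero 1) = x := by
  obtain ⟨e₁⟩ := h₁
  obtain ⟨e₃⟩ := h₃
  haveI hP₁ : Module.Projective A S.X₁ := Module.Projective.of_equiv e₁.toLinearEquiv.symm
  constructor
  · intro hfree x
    have hx : (Abelian.Ext.mk₀ S.g).comp x (zero_add 1) = 0 :=
      Groth.Agent.ExtRing94.ext_free_left_eq_zero (P := S.X₂) (i := 0) _
    obtain ⟨x₁, hx₁⟩ := Abelian.Ext.contravariant_sequence_exact₃ hS S.X₁ x hx (n₀ := 0) (add_zero 1)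
    obtain ⟨f, rfl⟩ := (Abelian.Ext.mk₀_bijective _ _).2 x₁
    exact ⟨f, hx₁⟩
  · intro hgen
    haveI : Module.Finite A S.X₁ := Module.Finite.equiv e₁.toLinearEquiv.symm
    haveI : Module.Finite A S.X₃ := Module.Finite.equiv e₃.toLinearEquiv.symm
    haveI : Module.Finite A S.X₂ := Module.Finite.of_exact ((ShortComplex.ShortExact.moduleCat_exact_iff_function_exact _).1 hS.exact) hS.moduleCat_surjective_g
    obtain ⟨q, φ, hφ, hker⟩ := hres
    have hI : HasProjectiveDimensionLE (ModuleCat.of A ↥I) 1 :=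
      (Groth.Agent.EGA4H10.hasPD_succ_iff (LinearMap.ker φ).subtype φ (Submodule.subtype_injective _)
        (LinearMap.exact_subtype_ker_map φ) hφ 0).2 ((Groth.Agent.EGA4H10.hasPD_zero_iff _).2 inferInstance)
    have h3 : HasProjectiveDimensionLT S.X₃ 2 := hasProjectiveDimensionLT_of_iso e₃.symm 2
    have h1 : HasProjectiveDimensionLT S.X₁ 1 := (Groth.Agent.EGA4H10.hasPD_zero_iff S.X₁).2 hP₁
    have h2 : HasProjectiveDimensionLE (ModuleCat.of A S.X₂) 1 :=
      hS.hasProjectiveDimensionLT_X₂ 2 (hasProjectiveDimensionLT_of_ge _ 1 2 (by omega)) h3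
    have hext : ∀ y : Abelian.Ext S.X₂ S.X₁ 1, y = 0 := fun y => by
      obtain ⟨x, rfl⟩ := Abelian.Ext.contravariant_sequence_exact₂ hS S.X₁ y (Groth.Agent.ExtRing94.ext_free_left_eq_zero (P := S.X₁) (i := 0) _)
      obtain ⟨f, rfl⟩ := hgen x
      rw [← Abelian.Ext.comp_assoc_of_third_deg_zero, hS.comp_extClass, Abelian.Ext.zero_comp]
    have hextA : ∀ y : Abelian.Ext (ModuleCat.of A S.X₂) (ModuleCat.of A A) 1, y = 0 := fun y => by
      have h := hext (y.comp (Abelian.Ext.mk₀ e₁.inv) (add_zero 1))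
      have h' := congrArg (fun z => Abelian.Ext.comp z (Abelian.Ext.mk₀ e₁.hom) (add_zero 1)) h
      simp only [Abelian.Ext.zero_comp] at h'
      rw [Abelian.Ext.comp_assoc_of_third_deg_zero, Abelian.Ext.mk₀_comp_mk₀, e₁.inv_hom_id, Abelian.Ext.comp_mk₀_id] at h'
      exact h'
    haveI := Groth.Agent.ExtRing94.projective_of_ext_eq_zero S.X₂ h2 ⟨fun a b => (hextA a).trans (hextA b).symm⟩
    exact Module.free_of_flat_of_isLocalRing


end Groth.Agent.S11493
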