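import Groth.Statements.S11496
import Groth.Agent.ExtRing94.Basic
import Groth.Agent.CAlg1.Serre
import Mathlib.RingTheory.KrullDimension.Zero

set_option autoImplicit false
universe u
open CategoryTheory
open VBPn

namespace Groth.Agent.S11496

/-- Let A be a regular local ring, M a finitely generated A-module and i ≥ 0. The support of Ext^i_A(M,
A) has dimension at most dim A − i: for every prime ideal p of A such that Ext^i over the
localization A_p of M_p into A_p is nonzero (this Ext group is the localization at p of Ext^i_A(M,
A)), one has dim(A/p) + i ≤ dim A. The published statement is for coherent analytic sheaves on an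
n-dimensional complex manifold; this row is stated for any regular local ring. -/
theorem result (A : Type u) [CommRing A] [IsRegularLocalRing A]
    (M : Type u) [AddCommGroup M] [Module A M] [Module.Finite A M] (i : ℕ) (p : Ideal A) [p.IsPrime]
    (h : Nontrivial (Abelian.Ext
      (ModuleCat.of (Localization.AtPrime p) (LocalizedModule p.primeCompl M))
      (ModuleCat.of (Localization.AtPrime p) (Localization.AtPrime p)) i)) :
    ringKrullDim (A ⧸ p) + (i : WithBot ℕ∞) ≤ ringKrullDim A := by
  let q : PrimeSpectrum A := ⟨p, inferInstance⟩
  haveI := Groth.Agent.CAlg1.regular_localization A p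
  obtain ⟨d, hd⟩ : ∃ d : ℕ, ringKrullDim (Localization.AtPrime p) = d :=
    ⟨_, (IsRegularLocalRing.spanFinrank_maximalIdeal (R := Localization.AtPrime p)).symm⟩
  haveI := Groth.Agent.CAlg1.hasPD_of_regular _ hd (ModuleCat.of (Localization.AtPrime p) (LocalizedModule p.primeCompl M))
  have hid : i ≤ d := by
    by_contra hc
    exact (not_subsingleton_iff_nontrivial.2 h) (HasProjectiveDimensionLT.subsingleton _ (d + 1) i (by omega) _)
  have hh : ringKrullDim (Localization.AtPrime p) = (Order.height q : WithBot ℕ∞) := by
    rw [IsLocalization.AtPrime.ringKrullDim_eq_height p]; exact congrArg _ (PrimeSpectrum.height_eq_orderHeight q)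
  have hc : ringKrullDim (A ⧸ p) = (Order.coheight q : WithBot ℕ∞) := by
    rw [ringKrullDim_quotient, Order.coheight_eq_krullDim_Ici]
    exact Order.krullDim_eq_of_orderIso (OrderIso.setCongr _ _ (by ext r; simp [PrimeSpectrum.mem_zeroLocus]; exact Iff.rfl))
  calc ringKrullDim (A ⧸ p) + (i : WithBot ℕ∞) ≤ ringKrullDim (A ⧸ p) + (d : WithBot ℕ∞) :=
        add_le_add le_rfl (by exact_mod_cast hid)
    _ = ((Order.height q + Order.coheight q : ℕ∞) : WithBot ℕ∞) := by
        rw [← hd, hh, hc, WithBot.coe_add, add_comm]
    _ ≤ ringKrullDim A := by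
        rw [ringKrullDim, Order.krullDim_eq_iSup_height_add_coheight_of_nonempty]
        exact WithBot.coe_le_coe.2 (le_iSup (fun r : PrimeSpectrum A => Order.height r + Order.coheight r) q)


end Groth.Agent.S11496
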