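import Groth.Statements.S11497
import Mathlib.Algebra.Homology.DerivedCategory.Ext.ExactSequences

set_option autoImplicit false
universe w v u
open CategoryTheory CategoryTheory.Limits
open VBPn

namespace Groth.Agent.S11497

/-- In an abelian category, let M : A → B → C and M' : A' → B' → C' be monads, i.e. short complexes
whose first map is a monomorphism and whose second map is an epimorphism, with cohomology (homology)
objects E and E'. Suppose Hom(B, A') = 0, Hom(C, B') = 0 and Ext^1(C, A') = Ext^1(B, A') = Ext^1(C,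
B') = Ext^2(C, A') = 0. Then the map sending a morphism of monads M → M' to the induced morphism E →
E' is bijective. The published statement is for monads of vector bundles on a complex manifold X,
with Ext^i(C, A') written H^i(X, C^* ⊗ A'); this row is stated in any abelian category. -/
theorem result {C : Type u} [Category.{v} C] [Abelian C] [HasExt.{w} C]
    (M M' : ShortComplex C) [Mono M.f] [Epi M.g] [Mono M'.f] [Epi M'.g]
    (hBA : ∀ f : M.X₂ ⟶ M'.X₁, f = 0) (hCB : ∀ f : M.X₃ ⟶ M'.X₂, f = 0)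
    (hCA₁ : Subsingleton (Abelian.Ext M.X₃ M'.X₁ 1)) (hBA₁ : Subsingleton (Abelian.Ext M.X₂ M'.X₁ 1))
    (hCB₁ : Subsingleton (Abelian.Ext M.X₃ M'.X₂ 1)) (hCA₂ : Subsingleton (Abelian.Ext M.X₃ M'.X₁ 2)) :
    Function.Bijective (fun φ : M ⟶ M' => ShortComplex.homologyMap φ) := by
  have hT : (ShortComplex.mk M.iCycles M.g M.iCycles_g).ShortExact :=
    { exact := ShortComplex.exact_of_f_is_kernel _ M.cyclesIsKernel }
  have h0 : M'.toCycles ≫ M'.homologyπ = 0 := M'.toCycles_comp_homologyπ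
  haveI : Mono M'.toCycles := mono_of_mono_fac M'.toCycles_i
  have hT' : (ShortComplex.mk M'.toCycles M'.homologyπ h0).ShortExact :=
    { exact := ShortComplex.exact_of_g_is_cokernel _ M'.homologyIsCokernel }
  -- extension from the cycles to the middle object
  have extB : ∀ {Z : C}, Subsingleton (Abelian.Ext M.X₃ Z 1) → ∀ f : M.cycles ⟶ Z, ∃ g : M.X₂ ⟶ Z, M.iCycles ≫ g = f := by
    intro Z hZ f
    obtain ⟨x, hx⟩ := Abelian.Ext.contravariant_sequence_exact₁ hT _ (Abelian.Ext.mk₀ f) (n₁ := 1) rfl (Subsingleton.elim _ _)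
    obtain ⟨g, rfl⟩ := (Abelian.Ext.mk₀_bijective _ _).2 x
    rw [Abelian.Ext.mk₀_comp_mk₀] at hx
    exact ⟨g, (Abelian.Ext.mk₀_bijective _ _).1 hx⟩
  have hKA : ∀ f : M.cycles ⟶ M'.X₁, f = 0 := fun f => by
    obtain ⟨g, rfl⟩ := extB hCA₁ f
    rw [hBA g, comp_zero]
  constructor
  · intro φ ψ e
    simp only at e
    suffices hd : φ - ψ = 0 from sub_eq_zero.1 hd
    set χ := φ - ψ
    have hχ : ShortComplex.homologyMap χ = 0 := by
      have : ShortComplex.homologyMap χ = ShortComplex.homologyMap φ - ShortComplex.homologyMap ψ := by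
        rw [eq_sub_iff_add_eq, ← ShortComplex.homologyMap_add, sub_add_cancel]
      rw [this, e, sub_self]
    have h1 : ShortComplex.cyclesMap χ ≫ M'.homologyπ = 0 := by
      rw [← ShortComplex.homologyπ_naturality, hχ, comp_zero]
    obtain ⟨l, hl⟩ : ∃ l, l ≫ M'.toCycles = ShortComplex.cyclesMap χ :=
      ⟨hT'.exact.lift _ h1, hT'.exact.lift_f _ h1⟩
    rw [hKA l, zero_comp] at hl
    have h2 : M.iCycles ≫ χ.τ₂ = 0 := by rw [← ShortComplex.cyclesMap_i, ← hl, zero_comp]
    haveI : Epi (ShortComplex.mk M.iCycles M.g M.iCycles_g).g := inferInstanceAs (Epi M.g)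
    obtain ⟨c, hc⟩ : ∃ c, M.g ≫ c = χ.τ₂ := ⟨hT.exact.desc _ h2, hT.exact.g_desc _ h2⟩
    rw [hCB c, comp_zero] at hc
    refine ShortComplex.hom_ext _ _ ?_ hc.symm ?_
    · rw [← cancel_mono M'.f, χ.comm₁₂, ← hc, comp_zero]; simp
    · rw [← cancel_epi M.g, ← χ.comm₂₃, ← hc, zero_comp]; simp
  · intro h
    obtain ⟨x, hx⟩ := Abelian.Ext.covariant_sequence_exact₃ M.cycles hT' (Abelian.Ext.mk₀ (M.homologyπ ≫ h)) (n₁ := 1) rfl (by
      apply @Subsingleton.elim _ ⟨fun a b => ?_⟩
      have key : ∀ a : Abelian.Ext M.cycles M'.X₁ 1, a = 0 := fun a => by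
        obtain ⟨b, rfl⟩ := Abelian.Ext.contravariant_sequence_exact₁ hT _ a (n₁ := 2) rfl (Subsingleton.elim _ _)
        rw [Subsingleton.elim b 0, Abelian.Ext.comp_zero]
      exact (key a).trans (key b).symm)
    obtain ⟨k, rfl⟩ := (Abelian.Ext.mk₀_bijective _ _).2 x
    rw [Abelian.Ext.mk₀_comp_mk₀] at hx
    have hk : k ≫ M'.homologyπ = M.homologyπ ≫ h := (Abelian.Ext.mk₀_bijective _ _).1 hx
    obtain ⟨g, hg⟩ := extB hCB₁ (k ≫ M'.iCycles)
    have hA : (M.toCycles ≫ k) ≫ M'.homologyπ = 0 := by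
      rw [Category.assoc, hk, ← Category.assoc, M.toCycles_comp_homologyπ, zero_comp]
    obtain ⟨a, ha⟩ : ∃ a, a ≫ M'.toCycles = M.toCycles ≫ k := ⟨hT'.exact.lift _ hA, hT'.exact.lift_f _ hA⟩
    have h23 : M.iCycles ≫ g ≫ M'.g = 0 := by rw [← Category.assoc, hg, Category.assoc, M'.iCycles_g, comp_zero]
    haveI : Epi (ShortComplex.mk M.iCycles M.g M.iCycles_g).g := inferInstanceAs (Epi M.g)
    obtain ⟨c, hc⟩ : ∃ c, M.g ≫ c = g ≫ M'.g := ⟨hT.exact.desc _ h23, hT.exact.g_desc _ h23⟩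
    let φ : M ⟶ M' := ShortComplex.homMk a g c
      (by rw [← M'.toCycles_i, ← Category.assoc, ha, Category.assoc, ← hg, ← Category.assoc, M.toCycles_i]) hc.symm
    refine ⟨φ, ?_⟩
    have : ShortComplex.cyclesMap φ = k := by
      rw [← cancel_mono M'.iCycles, ShortComplex.cyclesMap_i]; exact hg
    rw [← cancel_epi M.homologyπ]
    simp only
    rw [ShortComplex.homologyπ_naturality, this, hk]


end Groth.Agent.S11497
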