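import Groth.Statements.S11499
import Mathlib.RingTheory.TensorProduct.Finite
import Mathlib.RingTheory.SimpleModule.Basic
import Mathlib.RingTheory.HopkinsLevitzki
import Mathlib.RingTheory.PowerSeries.Inverse
import Mathlib.RingTheory.PowerSeries.Trunc
import Mathlib.Algebra.Field.ZMod
import Mathlib.RingTheory.Localization.Integer
import Mathlib.LinearAlgebra.Dimension.Localization

set_option autoImplicit false
universe u
open TensorProduct
open VBPn

namespace Groth.Agent.S11499

/-- Let A be an integral domain with fraction field K and M a finitely generated torsion-free A-module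
of rank r (K ⊗_A M is r-dimensional over K). Then there is an injective A-linear map M → A^r. The
published statement is for torsion-free coherent sheaves on a complex manifold, locally near a
point; this row is its statement for one stalk, over any domain. -/
theorem result (A : Type u) [CommRing A] [IsDomain A]
    (M : Type u) [AddCommGroup M] [Module A M] [Module.Finite A M] [NoZeroSMulDivisors A M] (r : ℕ)
    (hr : Module.finrank (FractionRing A) (FractionRing A ⊗[A] M) = r) :
    ∃ f : M →ₗ[A] (Fin r → A), Function.Injective f := by
  classical
  let K := FractionRing A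
  obtain ⟨n, g, hg⟩ := Module.Finite.exists_fin (R := A) (M := M)
  let b := Module.finBasisOfFinrankEq K (TensorProduct A K M) hr
  let ι : M →ₗ[A] (Fin r → K) := (b.equivFun.restrictScalars A).toLinearMap ∘ₗ TensorProduct.mk A K M 1
  have hι : Function.Injective ι := by
    rw [LinearMap.coe_comp]
    refine (b.equivFun.restrictScalars A).injective.comp ?_
    rw [← LinearMap.ker_eq_bot, Submodule.eq_bot_iff]
    intro x hx
    obtain ⟨c, hc⟩ := (IsLocalizedModule.eq_zero_iff (nonZeroDivisors A) (TensorProduct.mk A K M 1)).1 hx
    exact (smul_eq_zero.1 hc).resolve_left (nonZeroDivisors.ne_zero c.2)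
  obtain ⟨d, hd⟩ := IsLocalization.exist_integer_multiples_of_finite (nonZeroDivisors A) (fun p : Fin n × Fin r => ι (g p.1) p.2)
  let am : (Fin r → A) →ₗ[A] (Fin r → K) := (Algebra.linearMap A K).compLeft (Fin r)
  have ham : Function.Injective am := fun x y h => funext fun i => IsFractionRing.injective A K (congrFun h i)
  have hr' : ∀ m, (d : A) • ι m ∈ LinearMap.range am := by
    suffices (⊤ : Submodule A M) ≤ (LinearMap.range am).comap ((d : A) • ι) from fun m => this trivial
    rw [← hg, Submodule.span_le]
    rintro _ ⟨i, rfl⟩
    choose a ha using fun j => hd (i, j)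
    exact ⟨a, funext fun j => ha j⟩
  choose f hf using hr'
  refine ⟨{ toFun := f, map_add' := fun x y => ham ?_, map_smul' := fun c x => ham ?_ }, fun x y h => ?_⟩
  · simp [map_add, hf, smul_add]
  · simp [map_smul, hf, smul_comm (d : A) c]
  · have := congrArg am (show f x = f y from h)
    rw [hf, hf] at this
    exact hι (smul_right_injective _ (nonZeroDivisors.ne_zero d.2) this)


end Groth.Agent.S11499
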