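import Groth.Statements.S1152
import Groth.Agent.Desc59.AmpleDesc
import Groth.Agent.Amp73.Local
import Groth.Agent.LimTop61.RelAmpleStage
import Groth.Agent.Unr55.DescProps
set_option backward.isDefEq.respectTransparency.types false

set_option autoImplicit false
open CategoryTheory CategoryTheory.Limits AlgebraicGeometry Opposite
universe u
open Desc

namespace Groth.Agent.S1152

/-- Single quasi-compact flat surjective cover; the converse direction is base change: Let f : X ⟶ S be
a morphism, L an invertible O_X-module, g : S' ⟶ S quasi-compact, flat and surjective, X' = X ×_S S'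
with projections to X and S', and L' the pullback of L to X'. If L' is ample on X' relative to S',
then L is ample on X relative to S. -/
theorem result {X S S' : Scheme.{u}} (f : X ⟶ S) (L : X.Modules) (hL : PicF.IsInvertible L)
    (g : S' ⟶ S) [QuasiCompact g] [Flat g] [Surjective g]
    (h : RelAmple.IsRelAmple (pullback.snd f g) ((Scheme.Modules.pullback (pullback.fst f g)).obj L)) :
    RelAmple.IsRelAmple f L := by
  have : QuasiCompact f := by
    have hd : MorphismProperty.DescendsAlong @QuasiCompact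
        (@Surjective ⊓ @Flat ⊓ @QuasiCompact : MorphismProperty Scheme.{u}) := Groth.Agent.Unr55.quasiCompact.{u}
    exact MorphismProperty.of_isPullback_of_descendsAlong
      (P := @QuasiCompact) (Q := (@Surjective ⊓ @Flat ⊓ @QuasiCompact : MorphismProperty Scheme.{u}))
      (IsPullback.of_hasPullback f g).flip ⟨⟨inferInstance, inferInstance⟩, inferInstance⟩ h.1
  refine Groth.Agent.Amp73.isRelAmple_of_cover f fun y => ?_
  obtain ⟨V, hV, hyV, -⟩ := exists_isAffineOpen_mem_and_subset (U := (⊤ : S.Opens)) (x := y) trivial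
  refine ⟨⟨V, hV⟩, hyV, ?_⟩
  have hVaff : IsAffine (V : Scheme.{u}) := hV
  have : CompactSpace (g ⁻¹ᵁ V : Scheme.{u}) := Groth.Agent.Amp73.compactSpace_preimage g hV
  let 𝒰 := (g ⁻¹ᵁ V : Scheme.{u}).affineCover.finiteSubcover
  let c : ∐ 𝒰.X ⟶ (g ⁻¹ᵁ V : Scheme.{u}) := Sigma.desc 𝒰.f
  have : ∀ i, IsAffine (𝒰.X i) := fun i => inferInstanceAs (IsAffine ((g ⁻¹ᵁ V : Scheme.{u}).affineCover.X _))
  have : Surjective c := ⟨fun x => by
    obtain ⟨z, hz⟩ := 𝒰.covers x
    refine ⟨Sigma.ι 𝒰.X (𝒰.idx x) z, ?_⟩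
    rw [← Scheme.Hom.comp_apply, Sigma.ι_desc]
    exact hz⟩
  have : Flat c := inferInstance
  let a : ∐ 𝒰.X ⟶ S' := c ≫ (g ⁻¹ᵁ V).ι
  let b : ∐ 𝒰.X ⟶ (V : Scheme.{u}) := c ≫ (g ∣_ V)
  have : Surjective (g ∣_ V) := IsZariskiLocalAtTarget.restrict ‹_› V
  have : Flat (g ∣_ V) := IsZariskiLocalAtTarget.restrict ‹_› V
  have : Surjective b := inferInstance
  have : Flat b := inferInstance
  have hab : b ≫ V.ι = a ≫ g := by simp [a, b]
  let j := (f ⁻¹ᵁ V).ι
  let f₀ := f ∣_ V
  let P := pullback f₀ b
  let p : P ⟶ pullback f g := pullback.lift (pullback.fst f₀ b ≫ j) (pullback.snd f₀ b ≫ a) (by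
    rw [Category.assoc, Category.assoc, ← morphismRestrict_ι, pullback.condition_assoc, hab])
  have h1 : IsPullback (pullback.fst f₀ b ≫ j) (pullback.snd f₀ b) f (b ≫ V.ι) :=
    (IsPullback.of_hasPullback f₀ b).paste_horiz (isPullback_morphismRestrict f V).flip
  rw [hab] at h1
  have sq : IsPullback p (pullback.snd f₀ b) (pullback.snd f g) a :=
    IsPullback.of_right (by simpa only [p, pullback.lift_fst] using h1) (pullback.lift_snd _ _ _)
      (IsPullback.of_hasPullback f g)
  have h2 := Groth.Agent.LimTop61.isRelAmple_of_isPullback sq h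
  have := h2.1
  have h3 := (Groth.Agent.Amp73.isRelAmple_iff_isAmple (pullback.snd f₀ b)).1 h2
  let e : (Scheme.Modules.pullback p).obj ((Scheme.Modules.pullback (pullback.fst f g)).obj L) ≅
      (Scheme.Modules.pullback (pullback.fst f₀ b)).obj (L.restrict j) :=
    (Scheme.Modules.pullbackComp p (pullback.fst f g)).app L ≪≫
      (Scheme.Modules.pullbackCongr (pullback.lift_fst _ _ _)).app L ≪≫
      ((Scheme.Modules.pullbackComp (pullback.fst f₀ b) j).app L).symm ≪≫
      ((Scheme.Modules.pullback (pullback.fst f₀ b)).mapIso ((Scheme.Modules.restrictFunctorIsoPullback j).app L)).symm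
  have : QuasiCompact f₀ := IsZariskiLocalAtTarget.restrict ‹_› V
  exact Groth.Agent.Desc59.AmpleDesc.isAmple_of_pullback f₀ (IsPullback.of_hasPullback f₀ b)
    (Groth.Agent.EGA73.isInvertible_restrict hL j) (Groth.Agent.Amp73.isAmple_of_iso e h3)

end Groth.Agent.S1152
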