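import Groth.Statements.S11523
import Mathlib.CategoryTheory.Subobject.Limits
import Mathlib.CategoryTheory.Subobject.ArtinianObject
import Mathlib.CategoryTheory.Simple
import Mathlib.CategoryTheory.Abelian.Refinements
import Mathlib.CategoryTheory.Abelian.Exact
import Mathlib.Algebra.Homology.ShortComplex.PreservesHomology


set_option autoImplicit false
universe v u v' u'
open CategoryTheory CategoryTheory.Limits
open PervT

namespace Groth.Agent.S11523

/-- Let `u : A ⥤ B` be a fully faithful exact functor of abelian categories admitting a left adjoint and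
a right adjoint `uStar`. Suppose every object of `A` has finite length (it is both an artinian and a
noetherian object) and that `u` sends simple objects to simple objects. Then for every object `Y` of
`B` the counit `u (uStar Y) ⟶ Y` of the adjunction `u ⊣ uStar` is a monomorphism. (The published
statement also lists two further conditions equivalent to this one: that for every object `Y` of `B`
the unit `Y ⟶ u (L Y)` of the adjunction `L ⊣ u` of the left adjoint `L` is an epimorphism, and that
the essential image of `u` is stable under subobjects and quotients; this row states only the counit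
condition.) -/
theorem result {A : Type u} [Category.{v} A] [Abelian A] {B : Type u'} [Category.{v'} B] [Abelian B]
    (u : A ⥤ B) [u.Full] [u.Faithful] [PreservesFiniteLimits u] [PreservesFiniteColimits u] [u.IsRightAdjoint]
    (uStar : B ⥤ A) (adj : u ⊣ uStar)
    (hlen : ∀ X : A, IsArtinianObject X ∧ IsNoetherianObject X)
    (hsimple : ∀ X : A, Simple X → Simple (u.obj X)) (Y : B) :
    Mono (adj.counit.app Y) := by
  have : u.Additive := Functor.additive_of_preserves_binary_products u
  let K := kernel (adj.counit.app Y)
  let ι := kernel.ι (adj.counit.app Y)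
  have hK : ∀ (Z : A) (f : u.obj Z ⟶ K), f = 0 := by
    intro Z f
    let g : u.obj Z ⟶ u.obj (uStar.obj Y) := f ≫ ι
    obtain ⟨g', hg'⟩ := u.map_surjective g
    have h1 : g' = 0 := by
      apply (adj.homEquiv _ _).symm.injective
      rw [adj.homEquiv_counit, adj.homEquiv_counit, hg', Functor.map_zero, zero_comp]
      simp [g, ι]
    rw [← cancel_mono ι, zero_comp]
    change g = 0
    rw [← hg', h1, Functor.map_zero]
  by_contra hmono
  have hKz : ¬ IsZero K := fun h => hmono (Preadditive.mono_of_isZero_kernel _ h)
  let S : Set (Subobject (uStar.obj Y)) := {X' | Mono (ι ≫ u.map (cokernel.π X'.arrow))}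
  have := (hlen (uStar.obj Y)).2
  have hbot : ⊥ ∈ S := by
    have : (⊥ : Subobject (uStar.obj Y)).arrow = 0 := Subobject.bot_arrow
    have : IsIso (cokernel.π (⊥ : Subobject (uStar.obj Y)).arrow) := by rw [this]; infer_instance
    show Mono _
    infer_instance
  obtain ⟨X', hX', hmax⟩ := WellFounded.has_min (wellFounded_gt (α := Subobject (uStar.obj Y))) S ⟨⊥, hbot⟩
  have hX'' : Mono (ι ≫ u.map (cokernel.π X'.arrow)) := hX'
  let q := cokernel.π X'.arrow
  have hQ : ¬ IsZero (cokernel X'.arrow) := fun h =>
    hKz (IsZero.of_mono (ι ≫ u.map q) (Functor.map_isZero u h))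
  have := (hlen (cokernel X'.arrow)).1
  let j := simpleSubobjectArrow hQ
  let c := cokernel.π j
  let X'' := kernelSubobject (q ≫ c)
  have hlt : X' < X'' := by
    refine lt_of_le_not_ge (le_kernelSubobject _ _ (by simp [q, cokernel.condition_assoc])) fun hle => ?_
    obtain ⟨T, π, hπ, x, hx⟩ := surjective_up_to_refinements_of_epi q j
    have hx0 : x ≫ q ≫ c = 0 := by rw [← reassoc_of% hx, cokernel.condition, comp_zero]
    have : π ≫ j = 0 := by
      rw [hx]
      have h2 := factorThruKernelSubobject_comp_arrow (q ≫ c) x hx0
      rw [← h2, ← Subobject.ofLE_arrow hle]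
      simp only [Category.assoc]
      rw [show X'.arrow ≫ q = 0 from cokernel.condition _]
      simp
    rw [← comp_zero (f := π), cancel_epi] at this
    exact Simple.not_isZero (simpleSubobject hQ) (IsZero.of_mono_eq_zero j this)
  have hnot : X'' ∉ S := fun h => hmax X'' h hlt
  have hcc : ∀ (T : B) (t : T ⟶ K), t ≫ ι ≫ u.map (q ≫ c) ≠ 0 ∨ ∃ l, l ≫ u.map j = t ≫ ι ≫ u.map q := by
    intro T t
    by_cases h : t ≫ ι ≫ u.map (q ≫ c) = 0
    · right
      have hex : ((ShortComplex.mk j c (cokernel.condition j)).map u).Exact :=
        (ShortComplex.exact_of_g_is_cokernel _ (cokernelIsCokernel j)).map u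
      have : Mono ((ShortComplex.mk j c (cokernel.condition j)).map u).f := inferInstanceAs (Mono (u.map j))
      exact ⟨hex.lift (t ≫ ι ≫ u.map q) (by show (t ≫ ι ≫ u.map q) ≫ u.map c = 0; simpa only [Category.assoc, Functor.map_comp] using h), hex.lift_f _ _⟩
    · left; exact h
  let T := kernel (ι ≫ u.map (q ≫ c))
  obtain ⟨l, hl⟩ := (hcc T (kernel.ι _)).resolve_left (not_not_intro (kernel.condition _))
  have : Mono l := mono_of_mono_fac hl
  have := hsimple (simpleSubobject hQ) inferInstance
  have hl0 : l ≠ 0 := by
    intro h0
    apply hnot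
    have hm : Mono (ι ≫ u.map (q ≫ c)) := Preadditive.mono_of_kernel_zero (by
      rw [← cancel_mono (ι ≫ u.map q), zero_comp, ← hl, h0, zero_comp])
    let d : cokernel X''.arrow ⟶ cokernel j := cokernel.desc _ (q ≫ c) (kernelSubobject_arrow_comp _)
    have : (ι ≫ u.map (cokernel.π X''.arrow)) ≫ u.map d = ι ≫ u.map (q ≫ c) := by
      simp [d, ← Functor.map_comp]
    exact mono_of_mono_fac this
  have : IsIso l := isIso_of_mono_of_nonzero hl0
  have h0 := hK _ (inv l ≫ kernel.ι _)
  rw [← cancel_epi l, IsIso.hom_inv_id_assoc, comp_zero] at h0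
  apply hl0
  rw [← cancel_mono (u.map j), hl, h0, zero_comp, zero_comp]

end Groth.Agent.S11523
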