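import Groth.Statements.S11524
import Groth.Agent.Frg27.TFT
import Mathlib.RingTheory.Flat.Basic
import Mathlib.RingTheory.Flat.TorsionFree

set_option autoImplicit false
universe u
open AdicRing

namespace Groth.Agent.S11524

/-- Let R be a base ring of class (N) or (V) for the ideal I, A an R-algebra topologically of finite
type and M a finite A-module which is flat over R. Then M is of finite presentation over A. (Class
(V) is taken here to consist of complete valuation rings of height one.) -/
theorem result
    (R : Type u) [CommRing R] (I : Ideal R) (hR : AdicRing.IsBase R I)
    (A : Type u) [CommRing A] [Algebra R A] (hA : AdicRing.TopFiniteType R I A)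
    (M : Type u) [AddCommGroup M] [Module A M] [Module R M] [IsScalarTower R A M]
    [Module.Finite A M] [Module.Flat R M] :
    Module.FinitePresentation A M := by
  haveI : Module.FinitePresentation A M := by
    rcases Frg27.base_cases hR with ⟨hN, -⟩ | ⟨hD, hV, hK, t, ht, rfl, hC⟩
    · haveI := Frg27.isNoetherianRing_of_tft hA
      exact Module.finitePresentation_of_finite A M
    · obtain ⟨k, g, hg⟩ := Module.Finite.exists_fin' A M
      have hT : AdicRing.NoPowTorsion (Ideal.span {t}) M := Frg27.noPowTorsion_iff_span.mpr fun x hx =>
        (Module.Flat.isSMulRegular_of_isRegular (M := M) (IsRegular.of_ne_zero ht)).right_eq_zero_of_smul hx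
      exact Module.finitePresentation_of_surjective g hg
        (Frg27.fg_of_sat hR hA _ (Frg27.isSat_ker g hT))
  exact this

end Groth.Agent.S11524
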