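import Groth.Statements.S11533
import Groth.Agent.Frg27.FlatTrunc
import Mathlib.RingTheory.Localization.Away.Basic
import Mathlib.RingTheory.RingHom.FinitePresentation
import Mathlib.Algebra.DirectSum.Module

set_option autoImplicit false
universe u
open AdicRing

namespace Groth.Agent.S11533

/-- Let R be a base ring of class (N) or (V) for the ideal I, A an R-algebra topologically of finite
type and f_1, ..., f_r elements of A generating the unit ideal. Then every complete localization
A⟨f_i⁻¹⟩ is flat over A, and the product of the A⟨f_i⁻¹⟩ is faithfully flat over A. -/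
theorem result
    (R : Type u) [CommRing R] (I : Ideal R) (hR : AdicRing.IsBase R I)
    (A : Type u) [CommRing A] [Algebra R A] (hA : AdicRing.TopFiniteType R I A)
    (r : ℕ) (f : Fin r → A) (hf : Ideal.span (Set.range f) = ⊤) :
    (∀ i, Module.Flat A (AdicRing.CLoc I (f i))) ∧
      Module.FaithfullyFlat A (∀ i, AdicRing.CLoc I (f i)) := by
  have hI := Frg27.base_fg hR
  have hflat : ∀ i, Module.Flat A (AdicRing.CLoc I (f i)) := fun i => by
    haveI : Module.Flat A (Localization.Away (f i)) := IsLocalization.flat _ (Submonoid.powers (f i))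
    haveI : Algebra.FinitePresentation A (Localization.Away (f i)) :=
      IsLocalization.Away.finitePresentation (f i)
    exact Frg27.flat_compl_of_flat hR hA (Localization.Away (f i))
  refine ⟨hflat, ?_⟩
  haveI : Module.Flat A (∀ i, AdicRing.CLoc I (f i)) := by
    classical
    haveI := fun i => hflat i
    haveI : Module.Flat A (DirectSum (Fin r) fun i => AdicRing.CLoc I (f i)) := Module.Flat.directSum_iff.mpr hflat
    exact Module.Flat.of_linearEquiv (DirectSum.linearEquivFunOnFintype A (Fin r) fun i => AdicRing.CLoc I (f i)).symm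
  refine ⟨fun m hm htop => ?_⟩
  have hIm : I.map (algebraMap R A) ≤ m :=
    (Frg27.map_ideal_le_jacobson hI hA).trans (sInf_le ⟨bot_le, hm⟩)
  obtain ⟨i, hi⟩ : ∃ i, f i ∉ m := by
    by_contra hcon
    push_neg at hcon
    exact hm.ne_top (eq_top_iff.mpr (hf ▸ Ideal.span_le.mpr (Set.range_subset_iff.mpr hcon)))
  letI := Ideal.Quotient.field m
  haveI : IsAdicComplete (I.map (algebraMap R (A ⧸ m))) (A ⧸ m) := by
    have h0 : I.map (algebraMap R (A ⧸ m)) = ⊥ := by
      rw [IsScalarTower.algebraMap_eq R A (A ⧸ m), ← Ideal.map_map, eq_bot_iff]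
      exact (Ideal.map_mono hIm).trans (Ideal.map_quotient_self m).le
    rw [h0]
    infer_instance
  let g : Localization.Away (f i) →ₐ[A] A ⧸ m :=
    IsLocalization.liftAlgHom (M := Submonoid.powers (f i)) (f := Algebra.ofId A (A ⧸ m))
      (by
        rintro ⟨-, k, rfl⟩
        refine isUnit_iff_ne_zero.mpr fun h0 => hi (hm.isPrime.mem_of_pow_mem k ?_)
        exact Ideal.Quotient.eq_zero_iff_mem.mp h0)
  let ψ := Frg27.complLift (I := I) (g.restrictScalars R)
  have h1 : (1 : AdicRing.CLoc I (f i)) ∈ m.map (algebraMap A (AdicRing.CLoc I (f i))) := by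
    have h2 := Submodule.mem_map_of_mem (f := LinearMap.proj (R := A) (φ := fun j => AdicRing.CLoc I (f j)) i)
      (htop.symm.le (Submodule.mem_top : (1 : ∀ j, AdicRing.CLoc I (f j)) ∈ ⊤))
    rw [Submodule.map_smul''] at h2
    have h3 : (1 : AdicRing.CLoc I (f i)) ∈ m • (⊤ : Submodule A (AdicRing.CLoc I (f i))) :=
      Submodule.smul_mono le_rfl le_top h2
    rwa [Ideal.smul_top_eq_map] at h3
  have h4 := Ideal.mem_map_of_mem ψ.toRingHom h1
  rw [Ideal.map_map, map_one] at h4
  have h5 : ψ.toRingHom.comp (algebraMap A (AdicRing.CLoc I (f i))) = Ideal.Quotient.mk m := by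
    ext a
    change ψ (algebraMap A (AdicRing.CLoc I (f i)) a) = _
    rw [IsScalarTower.algebraMap_apply A (Localization.Away (f i)) (AdicRing.CLoc I (f i)),
      Frg27.complLift_algebraMap]
    exact g.commutes a
  rw [h5, Ideal.map_quotient_self] at h4
  exact one_ne_zero ((Submodule.mem_bot _).mp h4)

end Groth.Agent.S11533
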