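import Groth.Statements.S11534
import Groth.Agent.Frg27.LocQuot

set_option autoImplicit false
universe u
open AdicRing

namespace Groth.Agent.S11534

/-- Let R be a base ring of class (N) or (V) for the ideal I, A an R-algebra which is complete and
separated for the I-adic topology, and f_1, ..., f_r elements generating the unit ideal of A. Then A
is topologically of finite type over R if and only if each complete localization A⟨f_i⁻¹⟩ is. -/
theorem result
    (R : Type u) [CommRing R] (I : Ideal R) (hR : AdicRing.IsBase R I)
    (A : Type u) [CommRing A] [Algebra R A] [IsAdicComplete (I.map (algebraMap R A)) A]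
    (r : ℕ) (f : Fin r → A) (hf : Ideal.span (Set.range f) = ⊤) :
    AdicRing.TopFiniteType R I A ↔ ∀ i, AdicRing.TopFiniteType R I (AdicRing.CLoc I (f i)) := by
  have hI := Frg27.base_fg hR
  constructor
  · intro hA i
    haveI : Algebra.FiniteType A (Localization.Away (f i)) :=
      IsLocalization.finiteType_of_monoid_fg (Submonoid.powers (f i)) _
    exact Frg27.tft_compl_of_finiteType hI hA
  · intro h
    refine Frg27.tft_of_finiteType_quotient hI ?_
    have h1 : Algebra.FiniteType R (A ⧸ (I ^ 1).map (algebraMap R A)) := by
      refine Algebra.FiniteType.of_span_eq_top_target _ (Frg27.span_mk_eq_top hf _) ?_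
      rintro - ⟨i, rfl⟩
      haveI := Frg27.finiteType_quotient hI (h i)
      refine Algebra.FiniteType.of_surjective
        ((Frg27.cLocTruncEquiv I hI (f i) 1).symm.toAlgHom.comp
          (Ideal.quotientEquivAlgOfEq R (by rw [pow_one] :
            I.map (algebraMap R (AdicRing.CLoc I (f i))) =
              (I ^ 1).map (algebraMap R (AdicRing.CLoc I (f i))))).toAlgHom) ?_
      exact (Frg27.cLocTruncEquiv I hI (f i) 1).symm.surjective.comp (AlgEquiv.surjective _)
    exact h1.of_surjective (Ideal.quotientEquivAlgOfEq R (by rw [pow_one])).toAlgHom
      (AlgEquiv.surjective _)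

end Groth.Agent.S11534
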