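import Groth.Statements.S11535
import Groth.Agent.Frg27.LocQuot

set_option autoImplicit false
universe u
open AdicRing

namespace Groth.Agent.S11535

/-- Let R be a base ring of class (N) or (V) for the ideal I, A an R-algebra which is complete and
separated for the I-adic topology, and f_1, ..., f_r elements generating the unit ideal of A. Then A
is topologically of finite presentation over R if and only if each complete localization A⟨f_i⁻¹⟩
is. -/
theorem result
    (R : Type u) [CommRing R] (I : Ideal R) (hR : AdicRing.IsBase R I)
    (A : Type u) [CommRing A] [Algebra R A] [IsAdicComplete (I.map (algebraMap R A)) A]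
    (r : ℕ) (f : Fin r → A) (hf : Ideal.span (Set.range f) = ⊤) :
    AdicRing.TopFinitePresentation R I A ↔
      ∀ i, AdicRing.TopFinitePresentation R I (AdicRing.CLoc I (f i)) := by
  have hI := Frg27.base_fg hR
  haveI := fun i => Frg27.isAdicComplete_compl (C := Localization.Away (f i)) hI
  rw [Frg27.topFinitePresentation_iff hR]
  constructor
  · intro h i
    rw [Frg27.topFinitePresentation_iff hR]
    intro j
    haveI := h j
    set Q := A ⧸ (I ^ (j + 1)).map (algebraMap R A)
    haveI : Algebra.FinitePresentation Q (Localization.Away (Ideal.Quotient.mk ((I ^ (j + 1)).map (algebraMap R A)) (f i))) :=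
      IsLocalization.Away.finitePresentation (Ideal.Quotient.mk _ (f i))
    haveI : Algebra.FinitePresentation R (Localization.Away (Ideal.Quotient.mk ((I ^ (j + 1)).map (algebraMap R A)) (f i))) :=
      Algebra.FinitePresentation.trans R Q _
    exact Algebra.FinitePresentation.equiv (Frg27.cLocTruncEquiv I hI (f i) (j + 1))
  · intro h j
    refine Algebra.FinitePresentation.of_span_eq_top_target _ (Frg27.span_mk_eq_top hf _) ?_
    rintro - ⟨i, rfl⟩
    haveI := (Frg27.topFinitePresentation_iff hR).mp (h i) j
    exact Algebra.FinitePresentation.equiv (Frg27.cLocTruncEquiv I hI (f i) (j + 1)).symm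

end Groth.Agent.S11535
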