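import Groth.Statements.S11538
import Groth.Agent.Frg27.TorCrit

set_option autoImplicit false
universe u v
open scoped TensorProduct
open AdicRing

namespace Groth.Agent.S11538

/-- Let A be a commutative ring, π an element of A which is not a zero divisor and M an A-module. Then M
is flat over A if and only if the π-power torsion of M vanishes, (A/πA) ⊗_A M is flat over A/πA, and
A[π⁻¹] ⊗_A M is flat over A[π⁻¹]. -/
theorem result
    (A : Type u) [CommRing A] (π : A) (hπ : π ∈ nonZeroDivisors A)
    (M : Type v) [AddCommGroup M] [Module A M] :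
    Module.Flat A M ↔
      (∀ (x : M) (n : ℕ), π ^ n • x = 0 → x = 0) ∧
        Module.Flat (A ⧸ Ideal.span {π}) ((A ⧸ Ideal.span {π}) ⊗[A] M) ∧
        Module.Flat (Localization.Away π) ((Localization.Away π) ⊗[A] M) := by
  constructor
  · intro h
    refine ⟨fun x n hx => ?_, inferInstance, inferInstance⟩
    have hinj : Function.Injective (LinearMap.lsmul A A (π ^ n)) := fun a b hab =>
      (mul_cancel_left_mem_nonZeroDivisors (pow_mem hπ n)).mp hab
    have h2 := Module.Flat.lTensor_preserves_injective_linearMap (M := M) _ hinj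
    have h3 := (injective_iff_map_eq_zero _).mp h2 (x ⊗ₜ[A] (1 : A)) (by
      rw [LinearMap.lTensor_tmul, LinearMap.lsmul_apply, TensorProduct.tmul_smul,
        TensorProduct.smul_tmul', hx, TensorProduct.zero_tmul])
    simpa using congrArg (TensorProduct.rid A M) h3
  · rintro ⟨h1, h2, h3⟩
    refine Frg27.TorCrit.flat_of_flat_away π hπ (fun a b hab => sub_eq_zero.mp (h1 _ 1 ?_)) h2
    rw [pow_one, smul_sub, sub_eq_zero]
    exact hab

end Groth.Agent.S11538
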