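import Groth.Statements.S1154
import Groth.Agent.PicInsep25.Basic

set_option autoImplicit false
open CategoryTheory CategoryTheory.Limits AlgebraicGeometry Opposite
universe u
open PicF

namespace Groth.Agent.S1154

/-- Let k have characteristic p > 0, let X be quasi-compact and quasi-separated over k whose ring of
global functions is k itself (the structure morphism induces an isomorphism on global sections), let
n be prime to p and k'/k purely inseparable. Then every isomorphism class of invertible modules M on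
X_{k'} with M^n trivial is the pullback of such a class on X (injectivity of this pullback on
classes being a separate fact). -/
theorem result (k : Type u) [Field k] (p : ℕ) [Fact p.Prime] [CharP k p]
    (X : Scheme.{u}) (f : X ⟶ Spec (CommRingCat.of k)) [CompactSpace X] [QuasiSeparatedSpace X]
    (hH0 : IsIso f.appTop) (n : ℕ) (hn : ¬ p ∣ n) (k' : Type u) [Field k'] [Algebra k k'] [IsPurelyInseparable k k'] :
    ∀ d : PicF.Cl (pullback f (Spec.map (CommRingCat.ofHom (algebraMap k k')))), (PicF.IsInvertibleCl d ∧ ∃ M : ((pullback f (Spec.map (CommRingCat.ofHom (algebraMap k k'))))).Modules, PicF.cl M = d ∧ Nonempty (CohB1.tensorPow M n ≅ Coh.structureModule ((pullback f (Spec.map (CommRingCat.ofHom (algebraMap k k'))))))) →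
      ∃ c : PicF.Cl X, (PicF.IsInvertibleCl c ∧ ∃ M : (X).Modules, PicF.cl M = c ∧ Nonempty (CohB1.tensorPow M n ≅ Coh.structureModule (X))) ∧ PicF.pullCl (pullback.fst f (Spec.map (CommRingCat.ofHom (algebraMap k k')))) c = d := by
  classical
  open Groth.Agent.PicInsep25 in
  intro d ⟨hd, M, hMd, hMn⟩
  subst hMd
  have hM : PicF.IsInvertible M := by
    obtain ⟨L, hL, hLi⟩ := hd
    exact Groth.Agent.EGA73.isInvertible_of_iso (Groth.Agent.RigDesc25.nonempty_iso_of_cl hL).some hLi
  obtain ⟨S, ⟨s, hs⟩, F, hF, ⟨tF⟩, ⟨eF⟩⟩ := Groth.Agent.PicInsep25.exists_fg_stage_torsion f k' M hM n hMn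
  haveI : ExpChar k p := ExpChar.prime Fact.out
  choose ev hev using fun x : k' => IsPurelyInseparable.pow_mem k p x
  let e := s.sup ev
  have hmem : ∀ x ∈ S, x ^ p ^ e ∈ (algebraMap k k').range := by
    haveI : CharP k' p := charP_of_injective_algebraMap (algebraMap k k').injective p
    let T : Subalgebra k k' :=
      { carrier := {x | x ^ p ^ e ∈ (algebraMap k k').range}
        mul_mem' := fun {a b} ha hb => by
          show (a * b) ^ p ^ e ∈ (algebraMap k k').range
          rw [mul_pow]; exact mul_mem ha hb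
        add_mem' := fun {a b} ha hb => by
          show (a + b) ^ p ^ e ∈ (algebraMap k k').range
          rw [add_pow_char_pow]; exact add_mem ha hb
        algebraMap_mem' := fun a => ⟨a ^ p ^ e, map_pow _ _ _⟩ }
    intro x hx
    refine (Algebra.adjoin_le (S := T) ?_) (hs.symm ▸ hx : x ∈ Algebra.adjoin k (s : Set k'))
    intro y hy
    obtain ⟨c, hc⟩ : ∃ c, e = ev y + c := Nat.le.dest (Finset.le_sup hy) |>.imp fun c h => h.symm
    obtain ⟨a, ha⟩ := hev y
    exact ⟨a ^ p ^ c, by rw [map_pow, ha, ← pow_mul, ← pow_add, ← hc]⟩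
  choose v hv using fun x : S => hmem x.1 x.2
  have hinj := (algebraMap k k').injective
  haveI : CharP k' p := charP_of_injective_algebraMap hinj p
  let σ : S →+* k :=
    { toFun := v
      map_one' := hinj (by simp [hv])
      map_mul' := fun a b => hinj (by simp [hv, mul_pow])
      map_zero' := hinj (by simp [hv, zero_pow (pow_ne_zero e (Fact.out : p.Prime).ne_zero)])
      map_add' := fun a b => hinj (by simp [hv, add_pow_char_pow]) }
  have hσ : ∀ c : S, algebraMap k S (σ c) = c ^ p ^ e := fun c =>
    Subtype.ext ((hv c).trans (SubmonoidClass.coe_pow c (p ^ e)).symm)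
  have hσk : ∀ a, σ (algebraMap k S a) = a ^ p ^ e := fun a => hinj ((hv _).trans (map_pow _ a _).symm)
  open Groth.Agent.PicInsep25 in
  obtain ⟨c, hc, hcn, hcd⟩ := descend_of_exponent p f e σ hσ hσk ⟨F, rfl, hF⟩ n hn
    ((cl_tensorPow F n).symm.trans (cl_iso ⟨tF⟩))
  obtain ⟨N, rfl, hN⟩ := hc
  open Groth.Agent.PicInsep25 in
  refine ⟨PicF.cl N, ⟨⟨N, rfl, hN⟩, N, rfl,
    Groth.Agent.RigDesc25.nonempty_iso_of_cl ((cl_tensorPow N n).trans hcn)⟩, ?_⟩
  rw [show pullback.fst f (Spec.map (CommRingCat.ofHom (algebraMap k k'))) =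
    Groth.Agent.GeoConn24.toSub k' f S ≫ pullback.fst f _ from (pullback.lift_fst _ _ _).symm,
    Groth.Agent.PicInsep25.pullCl_comp, hcd]
  exact Groth.Agent.RigDesc25.cl_congr ⟨eF⟩

end Groth.Agent.S1154
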