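import Groth.Statements.S11540
import Groth.Agent.Frg27.Chart

set_option autoImplicit false
universe u
open AdicRing

namespace Groth.Agent.S11540

/-- Let R be a base ring of class (N) or (V) for the ideal I, A an admissible R-algebra and f_0, ...,
f_r elements of A generating an open ideal, i.e. one containing I^k A for some k. Fix i and let C_i
be the I-adic completion of the chart algebra A[ζ_j ; j ≠ i]/(f_i ζ_j − f_j ; j ≠ i). Then the
I-power torsion of C_i coincides with its f_i-power torsion. (That f_i-power torsion is I-power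
torsion is elementary; the content is the converse.) -/
theorem result
    (R : Type u) [CommRing R] (I : Ideal R) (hR : AdicRing.IsBase R I)
    (A : Type u) [CommRing A] [Algebra R A] (hA : AdicRing.Admissible R I A)
    (r : ℕ) (f : Fin (r + 1) → A) (k : ℕ)
    (hopen : (I ^ k).map (algebraMap R A) ≤ Ideal.span (Set.range f)) (i : Fin (r + 1))
    (x : AdicRing.chartCompl I f i) :
    (∃ n : ℕ, ∀ a ∈ I ^ n, a • x = 0) ↔
      ∃ n : ℕ, algebraMap A (AdicRing.chartCompl I f i) (f i) ^ n * x = 0 := by
  classical
  have hI := Frg27.base_fg hR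
  constructor
  · rintro ⟨n, hn⟩
    obtain ⟨m, ψ, hψ, -⟩ := id hA.1
    haveI : Algebra.FiniteType A (AdicRing.chartAlg f i) :=
      Algebra.FiniteType.of_surjective (Ideal.Quotient.mkₐ A _) Ideal.Quotient.mk_surjective
    haveI : Module.Flat (AdicRing.chartAlg f i) (AdicRing.chartCompl I f i) := by
      refine Frg27.flat_adicCompletion_of_weakAR ?_
      intro N _ _ _ N'
      exact Frg27.exists_fg_artinRees hR (A := A) ⟨m, ψ, hψ⟩ N'
    obtain ⟨s, hs⟩ := (Submodule.FG.pow hI n : (I ^ n : Ideal R).FG)
    let μ : (AdicRing.chartAlg f i) →ₗ[(AdicRing.chartAlg f i)] (s → (AdicRing.chartAlg f i)) := LinearMap.pi fun a => LinearMap.lsmul (AdicRing.chartAlg f i) (AdicRing.chartAlg f i) (algebraMap R (AdicRing.chartAlg f i) a.1)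
    have hex := Module.Flat.lTensor_exact (M := (AdicRing.chartCompl I f i)) μ.exact_subtype_ker_map
    have h0 : μ.lTensor (AdicRing.chartCompl I f i) (TensorProduct.tmul (AdicRing.chartAlg f i) x (1 : (AdicRing.chartAlg f i))) = 0 := by
      refine (TensorProduct.piScalarRight (AdicRing.chartAlg f i) (AdicRing.chartAlg f i) (AdicRing.chartCompl I f i) s).injective ?_
      funext a
      rw [map_zero, Pi.zero_apply, LinearMap.lTensor_tmul, TensorProduct.piScalarRight_apply,
        TensorProduct.piScalarRightHom_tmul]
      change (algebraMap R (AdicRing.chartAlg f i) a.1 * 1) • x = 0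
      rw [mul_one]
      exact (algebraMap_smul (AdicRing.chartAlg f i) a.1 x).trans (hn a.1 (hs ▸ Submodule.subset_span a.2))
    obtain ⟨w, hw⟩ := (hex _).mp h0
    have hkey : ∀ v : TensorProduct (AdicRing.chartAlg f i) (AdicRing.chartCompl I f i) (LinearMap.ker μ), ∃ N : ℕ, algebraMap A (AdicRing.chartCompl I f i) (f i) ^ N *
        TensorProduct.rid (AdicRing.chartAlg f i) (AdicRing.chartCompl I f i) ((LinearMap.ker μ).subtype.lTensor (AdicRing.chartCompl I f i) v) = 0 := by
      intro v
      induction v with
      | zero => exact ⟨0, by simp⟩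
      | add a b ha hb =>
        obtain ⟨N, hN⟩ := ha
        obtain ⟨M, hM⟩ := hb
        refine ⟨N + M, ?_⟩
        rw [map_add, map_add, mul_add, pow_add, mul_comm (_ ^ N), mul_assoc, hN, mul_zero, zero_add,
          mul_comm (_ ^ M), mul_assoc, hM, mul_zero]
      | tmul z y =>
        have hy : ∀ a ∈ I ^ n, a • (y : (AdicRing.chartAlg f i)) = 0 := fun a ha => by
          rw [← hs] at ha
          induction ha using Submodule.span_induction with
          | mem a ha =>
            exact (algebraMap_smul (AdicRing.chartAlg f i) a (y : (AdicRing.chartAlg f i))).symm.trans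
              (congrFun y.2 ⟨a, ha⟩)
          | zero => simp
          | add a b _ _ h1 h2 => rw [add_smul, h1, h2, add_zero]
          | smul a b _ h1 => rw [smul_assoc, h1, smul_zero]
        haveI : Module.Flat A (Localization.Away (f i)) := IsLocalization.flat _ (Submonoid.powers (f i))
        have hθ : Frg27.chartToLoc f i y = 0 :=
          Frg27.noPowTorsion_of_flat hI hA.2 (Localization.Away (f i)) _ n fun a ha => by
            refine ((((Frg27.chartToLoc f i).restrictScalars R).toLinearMap.map_smul a
              (y : (AdicRing.chartAlg f i))).symm.trans ?_)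
            exact (congrArg (Frg27.chartToLoc f i) (hy a ha)).trans (map_zero _)
        obtain ⟨N, hN⟩ := Frg27.exists_pow_mul_eq_zero f i hθ
        refine ⟨N, ?_⟩
        rw [LinearMap.lTensor_tmul, TensorProduct.rid_tmul, ← algebraMap_smul (AdicRing.chartCompl I f i), smul_eq_mul,
          IsScalarTower.algebraMap_apply A (AdicRing.chartAlg f i) (AdicRing.chartCompl I f i), ← map_pow, ← mul_assoc]
        change algebraMap (AdicRing.chartAlg f i) (AdicRing.chartCompl I f i) _ * algebraMap (AdicRing.chartAlg f i) (AdicRing.chartCompl I f i) (y : (AdicRing.chartAlg f i)) * z = 0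
        rw [← map_mul, hN, map_zero, zero_mul]
    obtain ⟨N, hN⟩ := hkey w
    rw [hw, TensorProduct.rid_tmul, one_smul] at hN
    exact ⟨N, hN⟩
  · rintro ⟨n, hn⟩
    refine ⟨k * n, fun a ha => ?_⟩
    have h1 : algebraMap R A a ∈ (Ideal.span (Set.range f)) ^ n := by
      rw [pow_mul] at ha
      have := Ideal.mem_map_of_mem (algebraMap R A) ha
      rw [Ideal.map_pow] at this
      exact Ideal.pow_right_mono hopen n this
    have h2 := Ideal.mem_map_of_mem (algebraMap A (AdicRing.chartAlg f i)) h1
    rw [Ideal.map_pow] at h2
    have h3 := Ideal.pow_right_mono (Frg27.map_span_le_span_singleton f i) n h2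
    rw [Ideal.span_singleton_pow] at h3
    obtain ⟨e, he⟩ := Ideal.mem_span_singleton'.mp h3
    rw [Algebra.smul_def, IsScalarTower.algebraMap_apply R A (AdicRing.chartCompl I f i),
      IsScalarTower.algebraMap_apply A (AdicRing.chartAlg f i) (AdicRing.chartCompl I f i), ← he, map_mul, map_pow,
      ← IsScalarTower.algebraMap_apply A (AdicRing.chartAlg f i) (AdicRing.chartCompl I f i), mul_assoc, hn, mul_zero]

end Groth.Agent.S11540
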