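import Groth.Statements.S11541
import Groth.Agent.Frg27.RigLemmas

set_option autoImplicit false
universe u
open AdicRing

namespace Groth.Agent.S11541

/-- Let R be a complete valuation ring of height one with t a nonzero element generating an ideal of
definition, and B an admissible R-algebra which is a local integral domain of Krull dimension one.
Then B is a finite R-module whose integral closure inside its fraction field is a valuation ring. -/
theorem result
    (R : Type u) [CommRing R] [IsDomain R] [ValuationRing R] [Ring.KrullDimLE 1 R]
    (t : R) (ht : t ≠ 0) [IsAdicComplete (Ideal.span {t}) R]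
    (B : Type u) [CommRing B] [Algebra R B] [IsDomain B] [IsLocalRing B]
    (hB : AdicRing.Admissible R (Ideal.span {t}) B) (hdim : ringKrullDim B = 1) :
    Module.Finite R B ∧ ValuationRing (integralClosure B (FractionRing B)) := by
  have htB := Frg27.algebraMap_ne_zero_of_noPowTorsion hB.2
  haveI := Frg27.krullDimLE_one_of_eq hdim
  haveI : Module.Finite R B := Frg27.finite_of_krullDimLE_one ht (Frg27.tft_of_admissible hB) htB
  refine ⟨inferInstance, ?_⟩
  have hinjB : Function.Injective (algebraMap R B) := (injective_iff_map_eq_zero _).mpr fun r hr => by
    by_contra hr0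
    exact one_ne_zero (α := B) (Frg27.eq_zero_of_smul ht (Frg27.smul_t_cancel_of_isDomain htB) hr0
      (by rw [Algebra.smul_def, hr, zero_mul]))
  refine Frg27.valuationRing_integralClosure ht (B := B) (L := FractionRing B) ?_ ⟨fun x => ?_⟩
  · rw [IsScalarTower.algebraMap_eq R B (FractionRing B)]
    exact (IsFractionRing.injective B (FractionRing B)).comp hinjB
  · obtain ⟨a, b, _, rfl⟩ := IsFractionRing.div_surjective B x
    have h : ∀ c : B, IsAlgebraic R (algebraMap B (FractionRing B) c) := fun c =>
      ((IsIntegral.of_finite R c).map (IsScalarTower.toAlgHom R B (FractionRing B))).isAlgebraic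
    rw [div_eq_mul_inv]
    exact (h a).mul (h b).inv

end Groth.Agent.S11541
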