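import Groth.Statements.S11542
import Groth.Agent.Frg27.RigLemmas

set_option autoImplicit false
universe u
open AdicRing

namespace Groth.Agent.S11542

/-- Let R be a complete valuation ring of height one with t a nonzero element generating an ideal of
definition, A and B admissible R-algebras with B a local integral domain of Krull dimension one, f
an element of A and u a surjective R-algebra homomorphism from the complete localization A⟨f⁻¹⟩ onto
B. Then the composite of u with the canonical map A → A⟨f⁻¹⟩ is surjective. -/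
theorem result
    (R : Type u) [CommRing R] [IsDomain R] [ValuationRing R] [Ring.KrullDimLE 1 R]
    (t : R) (ht : t ≠ 0) [IsAdicComplete (Ideal.span {t}) R]
    (A : Type u) [CommRing A] [Algebra R A] (hA : AdicRing.Admissible R (Ideal.span {t}) A) (f : A)
    (B : Type u) [CommRing B] [Algebra R B] [IsDomain B] [IsLocalRing B]
    (hB : AdicRing.Admissible R (Ideal.span {t}) B) (hdim : ringKrullDim B = 1)
    (u : AdicRing.CLoc (Ideal.span {t}) f →ₐ[R] B) (hu : Function.Surjective u) :
    Function.Surjective
      (u.toRingHom.comp (algebraMap A (AdicRing.CLoc (Ideal.span {t}) f))) := by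
  have htB := Frg27.algebraMap_ne_zero_of_noPowTorsion hB.2
  haveI := Frg27.krullDimLE_one_of_eq hdim
  haveI : Module.Finite R B := Frg27.finite_of_krullDimLE_one ht (Frg27.tft_of_admissible hB) htB
  set J := (Ideal.span {t}).map (algebraMap R (Localization.Away f))
  set C := AdicRing.CLoc (Ideal.span {t}) f
  let v : Localization.Away f →ₐ[R] B := u.comp (IsScalarTower.toAlgHom R _ C)
  let w : A →ₐ[R] B := v.comp (IsScalarTower.toAlgHom R A (Localization.Away f))
  obtain ⟨F, hF⟩ := (IsLocalization.Away.algebraMap_isUnit (S := Localization.Away f) f).map v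
  have hFinv : (↑F⁻¹ : B) ∈ w.range := by
    have hle : Algebra.adjoin R {(F : B)} ≤ w.range :=
      Algebra.adjoin_le (Set.singleton_subset_iff.mpr ⟨f, hF.symm⟩)
    exact hle (Frg27.inv_mem_adjoin F (IsIntegral.of_finite R _))
  have hv : ∀ z, v z ∈ w.range := fun z => by
    obtain ⟨a, ⟨_, k, rfl⟩, rfl⟩ := IsLocalization.exists_mk'_eq (Submonoid.powers f) z
    have h1 := congrArg v (IsLocalization.mk'_spec (Localization.Away f) a
      (⟨f ^ k, k, rfl⟩ : Submonoid.powers f))
    rw [map_mul, map_pow, map_pow, ← hF] at h1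
    rw [show v (IsLocalization.mk' (Localization.Away f) a (⟨f ^ k, k, rfl⟩ : Submonoid.powers f)) =
        w a * (↑F⁻¹ : B) ^ k by
      rw [show w a = v (algebraMap A (Localization.Away f) a) from rfl, ← h1, mul_assoc, ← mul_pow,
        Units.mul_inv, one_pow, mul_one]]
    exact mul_mem ⟨a, rfl⟩ (pow_mem hFinv k)
  have hdense : ⊤ ≤ Subalgebra.toSubmodule w.range ⊔ Ideal.span {t} • (⊤ : Submodule R B) := by
    intro b _
    obtain ⟨ξ, rfl⟩ := hu b
    obtain ⟨z, hz⟩ := Submodule.Quotient.mk_surjective _ (ξ.val 1)
    have hd : ξ - algebraMap (Localization.Away f) C z ∈ LinearMap.ker (AdicCompletion.eval J _ 1) := by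
      rw [LinearMap.mem_ker, map_sub]
      exact sub_eq_zero.mpr hz.symm
    rw [← AdicCompletion.pow_smul_top_eq_ker_eval (Ideal.FG.map (Submodule.fg_span_singleton t) _),
      pow_one, Ideal.smul_top_eq_map, Submodule.restrictScalars_mem, Ideal.map_map,
      ← IsScalarTower.algebraMap_eq] at hd
    have h2 := Ideal.mem_map_of_mem u.toRingHom hd
    rw [Ideal.map_map, map_sub] at h2
    refine Submodule.mem_sup.mpr ⟨v z, hv z, u ξ - v z, ?_, add_sub_cancel _ _⟩
    rw [Ideal.smul_top_eq_map, Submodule.restrictScalars_mem]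
    exact (congrArg (fun g => Ideal.map g (Ideal.span {t})) u.comp_algebraMap :).le h2
  have htop := Submodule.le_of_le_smul_of_le_jacobson_bot Module.Finite.fg_top
    (Frg27.mem_jacobson_self ht) hdense
  intro b
  obtain ⟨a, ha⟩ := htop (Submodule.mem_top (x := b))
  refine ⟨a, Eq.trans ?_ ha⟩
  change u (algebraMap A C a) = u (algebraMap (Localization.Away f) C (algebraMap A _ a))
  rw [← IsScalarTower.algebraMap_apply]

end Groth.Agent.S11542
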