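import Groth.Statements.S11543
import Groth.Agent.Frg27.RigLemmas

set_option autoImplicit false
universe u
open scoped TensorProduct
open AdicRing

namespace Groth.Agent.S11543

/-- Let R be a complete valuation ring of height one with t a nonzero element generating an ideal of
definition and K its field of fractions, and let A be an admissible R-algebra. Then the non-open
prime ideals p of A (those not containing t) with A/p of Krull dimension one correspond bijectively
to the maximal ideals of A ⊗_R K: the extension of such a p along A → A ⊗_R K is maximal and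
contracts back to p, and every maximal ideal of A ⊗_R K contracts to such a prime and is the
extension of its contraction. -/
theorem result
    (R : Type u) [CommRing R] [IsDomain R] [ValuationRing R] [Ring.KrullDimLE 1 R]
    (t : R) (ht : t ≠ 0) [IsAdicComplete (Ideal.span {t}) R]
    (A : Type u) [CommRing A] [Algebra R A] (hA : AdicRing.Admissible R (Ideal.span {t}) A) :
    (∀ p : Ideal A, p.IsPrime → algebraMap R A t ∉ p → ringKrullDim (A ⧸ p) = 1 →
        (p.map (Algebra.TensorProduct.includeLeftRingHom :
          A →+* A ⊗[R] FractionRing R)).IsMaximal ∧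
        (p.map (Algebra.TensorProduct.includeLeftRingHom :
          A →+* A ⊗[R] FractionRing R)).comap (Algebra.TensorProduct.includeLeftRingHom :
          A →+* A ⊗[R] FractionRing R) = p) ∧
      (∀ m : Ideal (A ⊗[R] FractionRing R), m.IsMaximal →
        algebraMap R A t ∉ m.comap (Algebra.TensorProduct.includeLeftRingHom :
            A →+* A ⊗[R] FractionRing R) ∧
          ringKrullDim (A ⧸ m.comap (Algebra.TensorProduct.includeLeftRingHom :
            A →+* A ⊗[R] FractionRing R)) = 1 ∧
          (m.comap (Algebra.TensorProduct.includeLeftRingHom :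
            A →+* A ⊗[R] FractionRing R)).map (Algebra.TensorProduct.includeLeftRingHom :
            A →+* A ⊗[R] FractionRing R) = m) := by
  have hS : AdicRing.TopFiniteType R (Ideal.span {t}) A := Frg27.tft_of_admissible hA
  refine ⟨fun p hp htp hdim => ?_, fun m hm => ?_⟩
  · haveI := Frg27.krullDimLE_one_of_eq hdim
    have htB : algebraMap R (A ⧸ p) t ≠ 0 := fun h => htp (Ideal.Quotient.eq_zero_iff_mem.mp h)
    haveI : Module.Finite R (A ⧸ p) := Frg27.finite_of_krullDimLE_one ht
      (Frg27.tft_of_surjective hS (Ideal.Quotient.mkₐ R p) Ideal.Quotient.mk_surjective) htB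
    have hd := Frg27.disjoint_genM ht htp
    have hcomap := IsLocalization.under_map_of_isPrime_disjoint (Frg27.genM R A)
      (A ⊗[R] FractionRing R) hp hd
    haveI hP := IsLocalization.isPrime_of_isPrime_disjoint (Frg27.genM R A)
      (A ⊗[R] FractionRing R) p hp hd
    refine ⟨Ideal.isMaximal_def.mpr ⟨hP.ne_top, fun J hJ => ?_⟩, hcomap⟩
    by_contra hJtop
    have hle : p ≤ J.comap (algebraMap A (A ⊗[R] FractionRing R)) := by
      rw [← Ideal.map_le_iff_le_comap]; exact hJ.le
    have hJd : Disjoint (Frg27.genM R A : Set A) (J.under A) :=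
      (IsLocalization.disjoint_under_iff (Frg27.genM R A) (A ⊗[R] FractionRing R) J).mpr hJtop
    rcases hle.eq_or_lt with heq | hlt
    · refine hJ.not_ge ?_
      rw [← IsLocalization.map_under (Frg27.genM R A) (A ⊗[R] FractionRing R) J]
      exact Ideal.map_mono heq.ge
    · obtain ⟨b, hb, hbp⟩ := SetLike.exists_of_lt hlt
      obtain ⟨N, hN⟩ := Frg27.isDomain_dvd_pow_of_finite ht (B := A ⧸ p)
        (b := Ideal.Quotient.mk p b) (fun h => hbp (Ideal.Quotient.eq_zero_iff_mem.mp h))
      obtain ⟨c, hc⟩ := hN
      obtain ⟨c, rfl⟩ := Ideal.Quotient.mk_surjective c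
      have hmem : algebraMap R A (t ^ N) - b * c ∈ p := by
        rw [← Ideal.Quotient.eq, map_mul, ← hc, map_pow, map_pow]; rfl
      have hin : algebraMap R A (t ^ N) ∈ J.under A := by
        have := add_mem (hle hmem) (Ideal.mul_mem_right c _ hb)
        rwa [sub_add_cancel] at this
      exact Set.disjoint_left.mp hJd ⟨t ^ N, mem_nonZeroDivisors_of_ne_zero (pow_ne_zero N ht), rfl⟩ hin
  · set p := m.comap (Algebra.TensorProduct.includeLeftRingHom : A →+* A ⊗[R] FractionRing R) with hp
    haveI : p.IsPrime := Ideal.IsPrime.comap _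
    have hd : Disjoint (Frg27.genM R A : Set A) (p : Set A) :=
      (IsLocalization.disjoint_under_iff (Frg27.genM R A) (A ⊗[R] FractionRing R) m).mpr hm.ne_top
    have htp : algebraMap R A t ∉ p := fun h =>
      Set.disjoint_left.mp hd ⟨t, mem_nonZeroDivisors_of_ne_zero ht, rfl⟩ h
    have hmap := IsLocalization.map_under (Frg27.genM R A) (A ⊗[R] FractionRing R) m
    refine ⟨htp, ?_, hmap⟩
    have htB : algebraMap R (A ⧸ p) t ≠ 0 := fun h => htp (Ideal.Quotient.eq_zero_iff_mem.mp h)
    haveI : Module.Finite R (A ⧸ p) := by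
      refine Frg27.finite_of_forall_dvd_pow ht
        (Frg27.tft_of_surjective hS (Ideal.Quotient.mkₐ R p) Ideal.Quotient.mk_surjective) htB
        fun b hb => ?_
      obtain ⟨b, rfl⟩ := Ideal.Quotient.mk_surjective b
      have hlt : p < p ⊔ Ideal.span {b} := lt_of_le_not_ge le_sup_left fun h =>
        hb (Ideal.Quotient.eq_zero_iff_mem.mpr (h (Ideal.mem_sup_right (Ideal.mem_span_singleton_self b))))
      have htop : (p ⊔ Ideal.span {b}).map (algebraMap A (A ⊗[R] FractionRing R)) = ⊤ := by
        by_contra hne
        have hle : m ≤ (p ⊔ Ideal.span {b}).map (algebraMap A (A ⊗[R] FractionRing R)) :=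
          hmap.symm.le.trans (Ideal.map_mono le_sup_left)
        have heq := hm.eq_of_le hne hle
        refine hlt.not_ge ((Ideal.le_comap_map (f := algebraMap A (A ⊗[R] FractionRing R))).trans ?_)
        rw [← heq]
        exact le_rfl
      obtain ⟨_, ⟨a, ha, rfl⟩, hmem⟩ := Set.not_disjoint_iff.mp
        fun h => IsLocalization.map_algebraMap_ne_top_iff_disjoint (Frg27.genM R A)
          (A ⊗[R] FractionRing R) (p ⊔ Ideal.span {b}) |>.mpr h htop
      obtain ⟨x, hx, y, hy, hxy⟩ := Submodule.mem_sup.mp hmem
      obtain ⟨c, rfl⟩ := Ideal.mem_span_singleton'.mp hy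
      obtain ⟨N, hN⟩ := Frg27.exists_dvd_pow_of_ne_zero ht (mem_nonZeroDivisors_iff_ne_zero.mp ha)
        (Frg27.mem_maximalIdeal ht)
      refine ⟨N, dvd_trans ?_ ((map_pow (algebraMap R (A ⧸ p)) t N) ▸
        (algebraMap R (A ⧸ p)).map_dvd hN)⟩
      refine ⟨Ideal.Quotient.mk p c, ?_⟩
      rw [← map_mul]
      refine Eq.trans (b := Ideal.Quotient.mk p (algebraMap R A a)) rfl ?_
      rw [Ideal.Quotient.eq, ← hxy, mul_comm c b, add_sub_cancel_right]
      exact hx
    exact Frg27.ringKrullDim_eq_one_of_finite ht htB

end Groth.Agent.S11543
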