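import Groth.Statements.S11544
import Groth.Agent.Frg27.RigLemmas

set_option autoImplicit false
universe u
open AdicRing

namespace Groth.Agent.S11544

/-- Let R be a complete valuation ring of height one with t a nonzero element generating an ideal of
definition, K its field of fractions, L an algebraic extension field of K and α an element of L.
Then α is integral over R if and only if the norm of α from K(α) down to K lies in R. -/
theorem result
    (R : Type u) [CommRing R] [IsDomain R] [ValuationRing R] [Ring.KrullDimLE 1 R]
    (t : R) (ht : t ≠ 0) [IsAdicComplete (Ideal.span {t}) R]
    (L : Type u) [Field L] [Algebra R L] [Algebra (FractionRing R) L]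
    [IsScalarTower R (FractionRing R) L] [Algebra.IsAlgebraic (FractionRing R) L] (α : L) :
    IsIntegral R α ↔
      Algebra.norm (FractionRing R) (IntermediateField.AdjoinSimple.gen (FractionRing R) α) ∈
        (algebraMap R (FractionRing R)).range := by
  have hinj : Function.Injective (algebraMap R L) := by
    rw [IsScalarTower.algebraMap_eq R (FractionRing R) L]
    exact (algebraMap (FractionRing R) L).injective.comp (IsFractionRing.injective R _)
  refine ⟨fun hα => ?_, fun h => Frg27.isIntegral_of_norm_mem ht α h⟩
  classical
  haveI : IsIntegrallyClosed R := by
    letI : GCDMonoid R := IsBezout.toGCDDomain R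
    infer_instance
  have hgen : IsIntegral R (IntermediateField.AdjoinSimple.gen (FractionRing R) α) := by
    rw [← isIntegral_algHom_iff ((IntermediateField.val _).restrictScalars R) Subtype.val_injective]
    simpa using hα
  obtain ⟨r, hr⟩ := IsIntegrallyClosed.isIntegral_iff.mp
    (Algebra.isIntegral_norm (FractionRing R) hgen)
  exact ⟨r, hr⟩

end Groth.Agent.S11544
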