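import Groth.Statements.S11547
import Groth.Agent.Frg27.RigLemmas
import Groth.Agent.S11525

set_option autoImplicit false
universe u
open AdicRing

namespace Groth.Agent.S11547

/-- Let R be a complete valuation ring of height one with t a nonzero element generating an ideal of
definition, φ : A → A' a homomorphism of admissible R-algebras, and u' : A' → B' a surjective
R-algebra homomorphism onto an admissible R-algebra B' which is a local integral domain of Krull
dimension one. Then the image of A in B' is an admissible R-algebra and a local integral domain of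
Krull dimension one. -/
theorem result
    (R : Type u) [CommRing R] [IsDomain R] [ValuationRing R] [Ring.KrullDimLE 1 R]
    (t : R) (ht : t ≠ 0) [IsAdicComplete (Ideal.span {t}) R]
    (A : Type u) [CommRing A] [Algebra R A] (hA : AdicRing.Admissible R (Ideal.span {t}) A)
    (A' : Type u) [CommRing A'] [Algebra R A'] (hA' : AdicRing.Admissible R (Ideal.span {t}) A')
    (φ : A →ₐ[R] A')
    (B' : Type u) [CommRing B'] [Algebra R B'] [IsDomain B'] [IsLocalRing B']
    (hB' : AdicRing.Admissible R (Ideal.span {t}) B') (hdim : ringKrullDim B' = 1)
    (u' : A' →ₐ[R] B') (hu' : Function.Surjective u') :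
    AdicRing.Admissible R (Ideal.span {t}) ((u'.comp φ).range) ∧
      IsLocalRing ((u'.comp φ).range) ∧ ringKrullDim ((u'.comp φ).range) = 1 := by
  have htB := Frg27.algebraMap_ne_zero_of_noPowTorsion hB'.2
  haveI := Frg27.krullDimLE_one_of_eq hdim
  haveI : Module.Finite R B' := Frg27.finite_of_krullDimLE_one ht (Frg27.tft_of_admissible hB') htB
  set C := (u'.comp φ).range
  have hCt : AdicRing.TopFiniteType R (Ideal.span {t}) C :=
    Frg27.tft_of_surjective (Frg27.tft_of_admissible hA) (u'.comp φ).rangeRestrict
      (AlgHom.rangeRestrict_surjective _)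
  have hC : AdicRing.NoPowTorsion (Ideal.span {t}) C :=
    Frg27.noPowTorsion_iff_span.mpr fun x hx => Subtype.ext
      (Frg27.smul_t_cancel_of_isDomain htB (x : B') (by
        have := congrArg Subtype.val hx
        simpa using this))
  have htC : algebraMap R C t ≠ 0 := Frg27.algebraMap_ne_zero_of_noPowTorsion hC
  haveI : IsPrecomplete (Ideal.span {t}) R := inferInstance
  haveI : Module.Finite R C := Frg27.finite_of_integral_mod ht hCt R fun x => by
    obtain ⟨q, hq, hqx⟩ := IsIntegral.of_finite R (x : B')
    refine ⟨q, hq, ?_⟩
    have : Polynomial.aeval x q = 0 := by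
      apply Subtype.ext
      rw [← Subalgebra.coe_val, ← Polynomial.aeval_algHom_apply]
      exact hqx
    rw [this]
    exact zero_mem _
  exact ⟨⟨S11525.result R _ (Frg27.isBase_rank1 ht) C hCt hC, hC⟩,
    Frg27.isLocalRing_of_finite (R := R) ht, Frg27.ringKrullDim_eq_one_of_finite ht htC⟩

end Groth.Agent.S11547
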