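import Groth.Statements.S11548
import Groth.Agent.Frg27.RigLemmas
import Mathlib.FieldTheory.IsAlgClosed.AlgebraicClosure
import Mathlib.RingTheory.Jacobson.Ring

set_option autoImplicit false
universe u
open AdicRing

namespace Groth.Agent.S11548

/-- Let R be a complete valuation ring of height one with t a nonzero element generating an ideal of
definition, and m a maximal ideal of R⟨ζ_1, ..., ζ_n⟩ containing t (a closed point of the special
fibre). Then there is a prime ideal p contained in m and not containing t such that R⟨ζ_1, ...,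
ζ_n⟩/p has Krull dimension one. (This is the affine content of the surjectivity of the
specialization map onto closed points, for the formal affine space.) -/
theorem result
    (R : Type u) [CommRing R] [IsDomain R] [ValuationRing R] [Ring.KrullDimLE 1 R]
    (t : R) (ht : t ≠ 0) [IsAdicComplete (Ideal.span {t}) R]
    (n : ℕ) (m : Ideal (AdicRing.RPow R (Ideal.span {t}) n)) [m.IsMaximal]
    (hm : algebraMap R (AdicRing.RPow R (Ideal.span {t}) n) t ∈ m) :
    ∃ p : Ideal (AdicRing.RPow R (Ideal.span {t}) n), p.IsPrime ∧ p ≤ m ∧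
      algebraMap R (AdicRing.RPow R (Ideal.span {t}) n) t ∉ p ∧
      ringKrullDim (AdicRing.RPow R (Ideal.span {t}) n ⧸ p) = 1 := by
  classical
  set P := AdicRing.RPow R (Ideal.span {t}) n
  have hR := Frg27.isBase_rank1 (R := R) ht
  let L : Type u := AlgebraicClosure (FractionRing R)
  haveI : Algebra.IsAlgebraic R L :=
    (IsFractionRing.comap_isAlgebraic_iff (A := R) (K := FractionRing R) (C := L)).mpr inferInstance
  have hinjL : Function.Injective (algebraMap R L) := by
    rw [IsScalarTower.algebraMap_eq R (FractionRing R) L]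
    exact (algebraMap (FractionRing R) L).injective.comp (IsFractionRing.injective R _)
  let S := integralClosure R L
  have hunitS : ∀ {x : S}, IsUnit x → IsIntegral R (x : L)⁻¹ ∧ (x : L) ≠ 0 := fun {x} hx => by
    obtain ⟨y, hy⟩ := hx.exists_right_inv
    have h2 : (x : L) * y = 1 := congrArg Subtype.val hy
    exact ⟨(inv_eq_of_mul_eq_one_right h2).symm ▸ y.2, left_ne_zero_of_mul_eq_one h2⟩
  have hunitS' : ∀ {x : S}, IsIntegral R (x : L)⁻¹ → (x : L) ≠ 0 → IsUnit x := fun {x} h h0 =>
    IsUnit.of_mul_eq_one (⟨_, h⟩ : S) (Subtype.ext (mul_inv_cancel₀ h0))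
  haveI : IsLocalRing S := IsLocalRing.of_nonunits_add fun a b ha hb hab => by
    obtain ⟨h1, h2⟩ := hunitS hab
    rcases Frg27.integralClosure_sum_not_isUnit (R := R) ht a.2 b.2 h2 h1 with h3 | h3
    · exact ha (hunitS' h3.1 h3.2)
    · exact hb (hunitS' h3.1 h3.2)
  haveI : Algebra.IsIntegral R S := inferInstance
  haveI : FaithfulSMul R S := (faithfulSMul_iff_algebraMap_injective R S).mpr
    fun a b h => hinjL (congrArg Subtype.val h)
  haveI : IsLocalHom (algebraMap R S) := Algebra.IsIntegral.isLocalHom R S
  set κ := IsLocalRing.ResidueField S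
  set k := R ⧸ IsLocalRing.maximalIdeal R
  letI := Ideal.Quotient.field (IsLocalRing.maximalIdeal R)
  letI : Algebra k κ := (Ideal.Quotient.lift _ ((IsLocalRing.residue S).comp (algebraMap R S))
    fun a ha => (IsLocalRing.residue_eq_zero_iff _).mpr fun hu => (IsLocalRing.mem_maximalIdeal a).mp ha (isUnit_of_map_unit (algebraMap R S) a hu)).toAlgebra
  haveI : IsAlgClosed κ := IsAlgClosed.of_exists_root _ fun q hq hirr => by
    obtain ⟨q', hq', hdeg, hq'm⟩ := Polynomial.lifts_and_degree_eq_and_monic
      ((Polynomial.lifts_iff_coeff_lifts q).mpr fun i => IsLocalRing.residue_surjective _) hq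
    obtain ⟨x, hx⟩ := IsAlgClosed.exists_aeval_eq_zero L q'
      (by rw [hdeg]; exact Polynomial.degree_ne_of_natDegree_ne hirr.natDegree_pos.ne')
    have hxS : IsIntegral R x := isIntegral_trans (R := R) (A := S) x ⟨q', hq'm, hx⟩
    refine ⟨IsLocalRing.residue S ⟨x, hxS⟩, ?_⟩
    rw [← hq', Polynomial.eval_map, Polynomial.eval₂_at_apply]
    refine (congrArg (IsLocalRing.residue S) (Subtype.ext ?_ : q'.eval (⟨x, hxS⟩ : S) = 0)).trans (map_zero _)
    change S.val (q'.eval ⟨x, hxS⟩) = 0
    rw [← hx, Polynomial.aeval_def]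
    exact (Polynomial.eval₂_at_apply (S.val : S →+* L) _).symm
  -- the residue field of the closed point
  set F := P ⧸ m
  letI : Field F := Ideal.Quotient.field m
  have hmR : ∀ a ∈ IsLocalRing.maximalIdeal R, algebraMap R P a ∈ m := fun a ha => by
    obtain ⟨N, hN⟩ := Frg27.exists_dvd_pow_of_mem (t := t) ht ha
    refine Ideal.IsPrime.mem_of_pow_mem inferInstance N ?_
    rw [← map_pow]
    exact Ideal.mem_of_dvd _ ((algebraMap R P).map_dvd hN) hm
  letI : Algebra k F := (Ideal.Quotient.lift _ (algebraMap R F) fun a ha => by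
    rw [show algebraMap R F a = Ideal.Quotient.mk m (algebraMap R P a) from rfl,
      Ideal.Quotient.eq_zero_iff_mem]
    exact hmR a ha).toAlgebra
  haveI : IsScalarTower R k F := IsScalarTower.of_algebraMap_eq fun r => rfl
  haveI : Algebra.FiniteType k F := by
    haveI : Algebra.FiniteType R F := by
      refine Algebra.FiniteType.of_surjective
        ((Ideal.Quotient.mkₐ R m).comp (Frg27.toPow t n)) fun y => ?_
      obtain ⟨y, rfl⟩ := Ideal.Quotient.mk_surjective y
      obtain ⟨q, z, rfl⟩ := Frg27.exists_poly y 1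
      refine ⟨q, (Ideal.Quotient.eq.mpr ?_).symm⟩
      change (Frg27.toPow t n q + t ^ 1 • z - Frg27.toPow t n q : AdicRing.RPow R (Ideal.span {t}) n) ∈ m
      rw [add_sub_cancel_left, pow_one, Algebra.smul_def]
      exact Ideal.mul_mem_right _ _ hm
    exact Algebra.FiniteType.of_restrictScalars_finiteType R k F
  haveI : Module.Finite k F := finite_of_finite_type_of_isJacobsonRing k F
  let ι : F →ₐ[k] κ := IsAlgClosed.lift
  choose a ha using fun i => IsLocalRing.residue_surjective
    (ι (Ideal.Quotient.mk m (Frg27.toPow t n (MvPolynomial.X i))))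
  set T : Subalgebra R S := Algebra.adjoin R (Set.range a) with hT
  haveI : Module.Finite R T := Module.Finite.iff_fg.mpr
    (fg_adjoin_of_finite (Set.finite_range a) (fun x _ => Algebra.IsIntegral.isIntegral x))
  have htT : algebraMap R T t ≠ 0 := fun h => ht (hinjL (by
    rw [map_zero]
    exact congrArg (fun z : T => ((z : S) : L)) h))
  haveI := Frg27.isAdicComplete_of_finite_tft hR (Frg27.tft_self (R := R) ht) T
  haveI : IsAdicComplete ((Ideal.span {t}).map (algebraMap R T)) T :=
    (IsAdicComplete.map_algebraMap_iff _ _).mpr inferInstance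
  let a' : Fin n → T := fun i => ⟨a i, Algebra.subset_adjoin (Set.mem_range_self i)⟩
  let φ : P →ₐ[R] T := Frg27.complLift (I := Ideal.span {t}) (MvPolynomial.aeval a')
  have hφp : ∀ q, φ (Frg27.toPow t n q) = MvPolynomial.aeval a' q :=
    Frg27.complLift_algebraMap (I := Ideal.span {t}) _
  have hkey : ∀ x : P, IsLocalRing.residue S (φ x : S) = ι (Ideal.Quotient.mk m x) := by
    intro x
    have hpoly : ∀ q, IsLocalRing.residue S ((MvPolynomial.aeval a' q : T) : S) =
        ι (Ideal.Quotient.mk m (Frg27.toPow t n q)) := by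
      have : ((IsLocalRing.residue S).comp T.val.toRingHom).comp (MvPolynomial.aeval a').toRingHom =
          (ι.toRingHom.comp (Ideal.Quotient.mk m)).comp (Frg27.toPow t n).toRingHom := by
        refine MvPolynomial.ringHom_ext (fun r => ?_) fun i => ?_
        · simp only [RingHom.comp_apply, AlgHom.toRingHom_eq_coe, RingHom.coe_coe, MvPolynomial.aeval_C]
          rw [show Frg27.toPow t n (MvPolynomial.C r) = algebraMap R P r from (Frg27.toPow t n).commutes r,
            show Ideal.Quotient.mk m (algebraMap R P r) = algebraMap k F (Ideal.Quotient.mk _ r) from rfl,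
            ι.commutes]
          rfl
        · simp only [RingHom.comp_apply, AlgHom.toRingHom_eq_coe, RingHom.coe_coe, MvPolynomial.aeval_X]
          exact ha i
      exact fun q => RingHom.congr_fun this q
    obtain ⟨q, z, rfl⟩ := Frg27.exists_poly x 1
    have hz : Ideal.Quotient.mk m (t ^ 1 • z) = 0 := by
      rw [pow_one, Algebra.smul_def, Ideal.Quotient.eq_zero_iff_mem]
      exact Ideal.mul_mem_right _ _ hm
    rw [map_add (Ideal.Quotient.mk m), hz, add_zero, map_add, map_smul, hφp, pow_one, ← hpoly q]
    have ht0 : IsLocalRing.residue S ((t • φ z : T) : S) = 0 := by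
      rw [Algebra.smul_def, Subalgebra.coe_mul, map_mul]
      refine mul_eq_zero_of_left ((IsLocalRing.residue_eq_zero_iff _).mpr fun hu => ?_) _
      exact Frg27.mem_maximalIdeal (t := t) ht (isUnit_of_map_unit (algebraMap R S) t hu)
    rw [Subalgebra.coe_add, map_add, ht0, add_zero]
  refine ⟨RingHom.ker φ.toRingHom, RingHom.ker_isPrime _, fun x hx => ?_, fun h => ?_, ?_⟩
  · refine Ideal.Quotient.eq_zero_iff_mem.mp (ι.toRingHom.injective ?_)
    rw [map_zero]
    exact ((hkey x).symm.trans (by rw [show φ x = 0 from hx]; exact map_zero _))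
  · exact htT ((φ.commutes t).symm.trans h)
  · have hsurj : Function.Surjective φ := by
      rintro ⟨y, hy⟩
      rw [hT, Algebra.adjoin_range_eq_range_aeval] at hy
      obtain ⟨q, rfl⟩ := hy
      refine ⟨Frg27.toPow t n q, (hφp q).trans (Subtype.ext ?_)⟩
      exact congrArg (fun f : MvPolynomial (Fin n) R →ₐ[R] S => f q)
        (MvPolynomial.algHom_ext (f := T.val.comp (MvPolynomial.aeval a')) (g := MvPolynomial.aeval a)
          fun i => by simp [a'])
    rw [ringKrullDim_eq_of_ringEquiv (RingHom.quotientKerEquivOfSurjective (f := φ.toRingHom) hsurj)]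
    exact Frg27.ringKrullDim_eq_one_of_finite ht htT

end Groth.Agent.S11548
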