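import Groth.Statements.S1159
import Groth.Agent.Pure83.GermDepthList
import Groth.Agent.CAlg9.Node.Fibral
import Groth.Agent.FlatMor66.SliceAlg
import Groth.Agent.FSPow12.Basic
import Groth.Agent.Cohen12.Structure
import Groth.Agent.LC15.DepthSeq

set_option autoImplicit false
universe u
open Pi1

namespace Groth.Agent.S1159

open AlgebraicGeometry CategoryTheory CategoryTheory.Limits in
/-- Let A be a Noetherian local ring of depth at least 2, d ≥ 1, B = A[[x_1, ..., x_d]] (assumed local,
as it is), Y = Spec B and Y₀ = V(x_1, ..., x_d), identified with Spec A via the quotient map. Let V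
be an open subscheme of Y whose intersection with Y₀ is Y₀ minus the closed point. Then restriction
of finite etale covers from V to V ×_Y Y₀ is fully faithful. -/
theorem result (A : Type u) [CommRing A] [IsNoetherianRing A] [IsLocalRing A]
    (hA : (2 : ℕ∞) ≤ LocCoh.depth A A) (d : ℕ) (hd : 1 ≤ d)
    [IsLocalRing (MvPowerSeries (Fin d) A)]
    (V : (Spec (CommRingCat.of (MvPowerSeries (Fin d) A))).Opens)
    (hV : ∀ y : Spec (CommRingCat.of (MvPowerSeries (Fin d) A)),
      (∀ i : Fin d, MvPowerSeries.X i ∈ (y : PrimeSpectrum (MvPowerSeries (Fin d) A)).asIdeal) →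
      (y ∈ V ↔ y ≠ IsLocalRing.closedPoint (MvPowerSeries (Fin d) A))) :
    (FEt.restrict (pullback.fst V.ι (Spec.map (CommRingCat.ofHom
      (MvPowerSeries.constantCoeff : MvPowerSeries (Fin d) A →+* A))))).Full ∧
    (FEt.restrict (pullback.fst V.ι (Spec.map (CommRingCat.ofHom
      (MvPowerSeries.constantCoeff : MvPowerSeries (Fin d) A →+* A))))).Faithful := by
  classical
  let B := MvPowerSeries (Fin d) A
  let l : List B := List.ofFn fun i => MvPowerSeries.X i
  have hofl : Ideal.ofList l = Ideal.span (Set.range fun i => (MvPowerSeries.X i : B)) := by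
    show Ideal.span {r | r ∈ l} = _
    congr 1
    ext r
    simp [l, List.mem_ofFn]
  have hker : RingHom.ker (MvPowerSeries.constantCoeff : B →+* A) = Ideal.ofList l := by
    rw [hofl]; exact FSPow12.ker_constantCoeff
  have hsurj : Function.Surjective (MvPowerSeries.constantCoeff : B →+* A) :=
    fun a => ⟨MvPowerSeries.C a, by simp⟩
  have hmem : ∀ x ∈ l, x ∈ IsLocalRing.maximalIdeal B := fun x hx hu => by
    obtain ⟨i, rfl⟩ := List.mem_ofFn.mp hx
    have := hu.map (MvPowerSeries.constantCoeff : B →+* A)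
    rw [MvPowerSeries.constantCoeff_X, isUnit_zero_iff] at this
    exact zero_ne_one this
  have hreg : RingTheory.Sequence.IsWeaklyRegular B l := by
    have : Module.Flat (MvPolynomial (Fin d) A) B :=
      Module.Flat.of_linearEquiv (MvPowerSeries.toAdicCompletionAlgEquiv (Fin d) A).toLinearEquiv
    have h := RingTheory.Sequence.IsWeaklyRegular.of_flat (S := B) (FlatMor66.isWeaklyRegular_X (R := A) d)
    rw [List.map_ofFn] at h
    have e : (⇑(algebraMap (MvPolynomial (Fin d) A) B) ∘ fun i => MvPolynomial.X i) =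
        fun i => (MvPowerSeries.X i : B) := by
      funext i
      simp [B, MvPowerSeries.algebraMap_apply']
    rw [e] at h
    exact h
  have hcomp : IsAdicComplete (Ideal.ofList l) B := by rw [hofl]; infer_instance
  have hdepth : ((d + 2 : ℕ) : ℕ∞) ≤ LocCoh.depth B B := by
    show _ ≤ LocCoh.idealDepth (IsLocalRing.maximalIdeal B) B
    rw [LC15.idealDepth_eq_length_add (IsLocalRing.maximalIdeal B) l B hreg hmem]
    let e : (B ⧸ (Ideal.ofList l • ⊤ : Submodule B B)) ≃ₗ[B] B ⧸ Ideal.ofList l :=
      Submodule.quotEquivOfEq _ _ (by rw [smul_eq_mul, Ideal.mul_top])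
    rw [LC17.idealDepth_congr _ e]
    have : Nontrivial (B ⧸ Ideal.ofList l) := Ideal.Quotient.nontrivial_iff.mpr fun h =>
      (IsLocalRing.maximalIdeal.isMaximal B).ne_top (top_le_iff.mp (h ▸ Ideal.span_le.mpr hmem))
    have := IsLocalRing.of_surjective' (Ideal.Quotient.mk (Ideal.ofList l)) Ideal.Quotient.mk_surjective
    show _ ≤ _ + LocCoh.depth B (B ⧸ Ideal.ofList l)
    rw [CAlg1.depth_quotient_self, CAlg1.depth_eq_of_ringEquiv ((Ideal.quotEquivOfEq hker.symm).trans
      (RingHom.quotientKerEquivOfSurjective hsurj))]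
    simp only [l, List.length_ofFn, Nat.cast_add]
    exact add_le_add le_rfl (by simpa using hA)
  refine Pure83.Germ.fullyFaithful_regular d l _ hsurj hker (by simp [l]) hmem hreg hcomp hdepth V.ι fun q hq => ?_
  rw [Scheme.Opens.range_ι]
  exact hV q fun i => hq (Ideal.subset_span (List.mem_ofFn.mpr ⟨i, rfl⟩))

end Groth.Agent.S1159
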