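import Groth.Statements.S1174
import Groth.Agent.Desc59.EtAssocSheaf

set_option autoImplicit false
open CategoryTheory CategoryTheory.Limits AlgebraicGeometry Opposite
universe u
open Desc

namespace Groth.Agent.S1174

/-- Let S be a scheme and F a quasi-coherent O_S-module. Then there is an abelian sheaf on the small
étale site of S whose group of sections over any étale u : U → S is Γ(U, u^*F), compatibly with the
restriction maps (the functoriality in U is part of the assertion). -/
theorem result {S : Scheme.{u}} (F : S.Modules) [F.IsQuasicoherent] :
    ∃ G : EtCoh.Ab S, EtAssoc.IsAssoc F G := by
  exact Desc59.EtAssocSheaf.exists_sheaf F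

end Groth.Agent.S1174
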