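import Groth.Statements.S9738
import Groth.Agent.CAlg7.FlatLimit
import Groth.Agent.Div89.Comap
import Mathlib.AlgebraicGeometry.Morphisms.Flat
import Mathlib.AlgebraicGeometry.PullbackCarrier
import Groth.Agent.FlatMor68.FlatInfNbhd

set_option autoImplicit false
universe u
open FlatMor

namespace Groth.Agent.S9738

open CategoryTheory CategoryTheory.Limits AlgebraicGeometry TopologicalSpace IsLocalRing Groth.Agent.FlatMor68.FlatInfNbhd

open AlgebraicGeometry CategoryTheory Limits in
/-- For a morphism f : X ⟶ S between locally Noetherian schemes, an ideal sheaf I on S with closed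
subscheme Z, and Z_n the closed subscheme cut out by I^(n+1): if each base change X ×_S Z_n ⟶ Z_n is
flat, then f is flat at each point of X lying over Z. -/
theorem result {X S : Scheme.{u}} (f : X ⟶ S) [IsLocallyNoetherian X] [IsLocallyNoetherian S]
    (I : S.IdealSheafData) (h : ∀ n : ℕ, Flat (pullback.snd f (I ^ (n + 1)).subschemeι)) (x : X) (hx : f x ∈ I.support) :
    (f.stalkMap x).hom.Flat := by
  algebraize [(f.stalkMap x).hom]
  refine Groth.Agent.CAlg7.flat_of_forall_flat_mod_pow (S := X.presheaf.stalk x)
    (Groth.Agent.Div89.stalkIdeal I (f x)) ?_ fun m hm => ?_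
  · rw [IsLocalRing.jacobson_eq_maximalIdeal _ bot_ne_top]
    refine (Ideal.map_mono ((Groth.Agent.Div89.mem_support_iff_stalkIdeal I _).1 hx)).trans ?_
    refine Ideal.map_le_iff_le_comap.2 fun t ht => ?_
    rw [Ideal.mem_comap, mem_maximalIdeal, mem_nonunits_iff] at *
    exact fun h => ht (IsLocalHom.map_nonunit (self := f.toLRSHom.prop x) t h)
  · obtain ⟨n, rfl⟩ : ∃ n, m = n + 1 := ⟨m - 1, by omega⟩
    have hs : f x ∈ (I ^ (n + 1)).support := by
      rw [Groth.Agent.Div89.mem_support_iff_stalkIdeal, Groth.Agent.Div89.stalkIdeal_pow]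
      exact (Ideal.pow_le_self n.succ_ne_zero).trans
        ((Groth.Agent.Div89.mem_support_iff_stalkIdeal I _).1 hx)
    obtain ⟨z, rfl⟩ : x ∈ Set.range (pullback.fst f (I ^ (n + 1)).subschemeι) := by
      rw [Scheme.Pullback.range_fst, Set.mem_preimage, Scheme.IdealSheafData.range_subschemeι]
      exact hs
    haveI := h n
    have := flat_stalk_quot_of_flat_pullback f (I ^ (n + 1)).subschemeι z
    rw [Scheme.IdealSheafData.ker_subschemeι, Groth.Agent.Div89.stalkIdeal_pow] at this
    exact this

end Groth.Agent.S9738
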