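import Groth.Statements.S1183
import Groth.Agent.Desc59.SmoothRing

set_option autoImplicit false
universe u
open Desc

namespace Groth.Agent.S1183

/-- Let A → B be a smooth ring map of Noetherian rings and k a natural number. If A satisfies (R_k) then
so does B; and if moreover A → B is faithfully flat and B satisfies (R_k), then A does. -/
theorem result (A B : Type u) [CommRing A] [CommRing B] [IsNoetherianRing A] [IsNoetherianRing B]
    [Algebra A B] [Algebra.Smooth A B] (k : ℕ) :
    (LocCoh.HasRk k A → LocCoh.HasRk k B) ∧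
    (Module.FaithfullyFlat A B → LocCoh.HasRk k B → LocCoh.HasRk k A) := by
  refine ⟨fun hA q _ hq => ?_, fun hff hB p _ hp => ?_⟩
  · refine (Groth.Agent.Desc59.SmoothRing.regular_iff A B q).mpr (hA _ (le_trans ?_ hq))
    have : q.LiesOver (q.under A) := ⟨rfl⟩
    rw [Ideal.height_eq_height_add_of_liesOver_of_hasGoingDown (q.under A) q]
    exact le_self_add
  · obtain ⟨⟨q₀, hq₀⟩, hqp⟩ := PrimeSpectrum.comap_surjective_of_faithfullyFlat (A := A) (B := B) ⟨p, inferInstance⟩
    have hcomap : q₀.comap (algebraMap A B) = p := congrArg PrimeSpectrum.asIdeal hqp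
    have hle : p.map (algebraMap A B) ≤ q₀ := Ideal.map_le_iff_le_comap.mpr hcomap.ge
    obtain ⟨q, hqmin, hq_le⟩ := Ideal.exists_minimalPrimes_le (I := p.map (algebraMap A B)) hle
    have : q.IsPrime := hqmin.1.1
    have hqu : q.under A = p := le_antisymm ((Ideal.comap_mono hq_le).trans hcomap.le)
      (Ideal.map_le_iff_le_comap.mp hqmin.1.2)
    have : q.LiesOver p := ⟨hqu.symm⟩
    have h0 := Ideal.height_eq_height_add_of_liesOver_of_hasGoingDown p q
    have hz : (q.map (Ideal.Quotient.mk (p.map (algebraMap A B)))).height = 0 := by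
      have := Ideal.map_isPrime_of_surjective (f := Ideal.Quotient.mk (p.map (algebraMap A B)))
        Ideal.Quotient.mk_surjective (I := q) (by rw [Ideal.mk_ker]; exact hqmin.1.2)
      rw [Ideal.height_eq_zero_iff]
      refine ⟨⟨this, bot_le⟩, fun r hr hle' => ?_⟩
      have := hr.1
      rw [Ideal.map_le_iff_le_comap]
      refine hqmin.2 ⟨Ideal.IsPrime.comap (Ideal.Quotient.mk (p.map (algebraMap A B))),
        fun x hx => by simp [Ideal.mem_comap, (Ideal.Quotient.eq_zero_iff_mem).mpr hx]⟩
        ((Ideal.comap_mono hle').trans (le_of_eq ?_))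
      rw [Ideal.comap_map_of_surjective' _ Ideal.Quotient.mk_surjective, Ideal.mk_ker, sup_eq_left]
      exact hqmin.1.2
    rw [hz, add_zero] at h0
    have hreg := (Groth.Agent.Desc59.SmoothRing.regular_iff A B q).mp (hB q (h0.trans_le hp))
    subst hqu
    exact hreg

end Groth.Agent.S1183
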