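import Groth.Statements.S1185
import Groth.Agent.Pure83.Sections

set_option autoImplicit false
universe u
open Pi1

namespace Groth.Agent.S1185

open AlgebraicGeometry CategoryTheory CategoryTheory.Limits in
/-- Finiteness of the sections and the extension criterion; the normality of the sections and the
equivalence of categories are not asserted: Let A be a normal Noetherian local domain of Krull
dimension at least 2 with punctured spectrum U, and V a finite etale cover of U. Then the ring of
global sections of V is finite over A (through the map induced by V ⟶ U ⟶ Spec A), and V is the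
restriction of a finite etale cover of Spec A if and only if that ring is etale over A. -/
theorem result (A : Type u) [CommRing A] [IsDomain A] [IsNoetherianRing A]
    [IsLocalRing A] [IsIntegrallyClosed A] (hdim : (2 : WithBot ℕ∞) ≤ ringKrullDim A)
    (V : FEt.Cat (FEt.puncturedSpec A : Scheme.{u})) :
    (((V.hom ≫ (FEt.puncturedSpec A).ι).appTop).hom.comp (Scheme.ΓSpecIso (CommRingCat.of A)).inv.hom).Finite ∧
    ((∃ Y : FEt.Cat (Spec (CommRingCat.of A)), Nonempty ((FEt.restrict (FEt.puncturedSpec A).ι).obj Y ≅ V)) ↔
      (((V.hom ≫ (FEt.puncturedSpec A).ι).appTop).hom.comp (Scheme.ΓSpecIso (CommRingCat.of A)).inv.hom).Etale) := by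
  have hd : (2 : ℕ∞) ≤ LocCoh.depth A A := CAlg1.two_le_depth_of_isIntegrallyClosed A hdim
  refine ⟨?_, (Pure83.extends_iff_etale_sections hd V).trans ?_⟩
  · have := Pure83.finite_sections hd V
    exact RingHom.finite_algebraMap.mpr this
  · exact RingHom.etale_algebraMap.symm

end Groth.Agent.S1185
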