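import Groth.Statements.S1191
import Mathlib.RingTheory.Ideal.AssociatedPrime.Finiteness
import Mathlib.RingTheory.FiniteType

set_option autoImplicit false
universe u
open FlatMor

namespace Groth.Agent.S1191

open TensorProduct in
/-- For a finitely presented algebra S over R, a finitely presented S-module N and a prime q of S over
p, some element of S outside q maps into every associated prime of the fibre module of N over p that
is not contained in the extension of q to the fibre ring. -/
theorem result {R S : Type u} [CommRing R] [CommRing S] [Algebra R S] [Algebra.FinitePresentation R S]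
    (N : Type u) [AddCommGroup N] [Module S N] [Module R N] [IsScalarTower R S N] [Module.FinitePresentation S N]
    (p : Ideal R) [p.IsPrime] (q : Ideal S) [q.IsPrime] [q.LiesOver p] :
    ∃ g : S, g ∉ q ∧ ∀ r ∈ associatedPrimes (p.Fiber S) (FlatCA.fiberMod p S N),
      ¬ r ≤ FlatCA.fiberIdeal p q → (1 : p.ResidueField) ⊗ₜ[R] g ∈ r := by
  letI := Algebra.TensorProduct.rightAlgebra (R := R) (A := p.ResidueField) (B := S)
  classical
  have hfin : (associatedPrimes (p.Fiber S) (FlatCA.fiberMod p S N)).Finite := by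
    have : IsNoetherianRing (p.Fiber S) := Algebra.FiniteType.isNoetherianRing p.ResidueField _
    have : Module.Finite (p.Fiber S) (FlatCA.fiberMod p S N) :=
      inferInstanceAs (Module.Finite (p.Fiber S) ((p.Fiber S) ⊗[S] N))
    exact associatedPrimes.finite _ _
  have key : ∀ r : Ideal (p.Fiber S), ∃ g : S, g ∉ q ∧
      (¬ r ≤ FlatCA.fiberIdeal p q → (1 : p.ResidueField) ⊗ₜ[R] g ∈ r) := by
    intro r
    by_cases hr : r ≤ FlatCA.fiberIdeal p q
    · exact ⟨1, fun h => Ideal.IsPrime.ne_top' ((Ideal.eq_top_iff_one q).mpr h), fun h => absurd hr h⟩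
    · obtain ⟨z, hz, hzq⟩ := SetLike.not_le_iff_exists.mp hr
      obtain ⟨c, hc, hcz⟩ := Ideal.Fiber.exists_smul_eq_one_tmul p z
      obtain ⟨g, hg⟩ := hcz
      refine ⟨g, fun hgq => hzq ?_, fun _ => ?_⟩
      · have hm : c • z ∈ FlatCA.fiberIdeal p q := hg ▸ Ideal.mem_map_of_mem _ hgq
        have hu : IsUnit (algebraMap R (p.Fiber S) c) := by
          rw [IsScalarTower.algebraMap_apply R p.ResidueField (p.Fiber S)]
          exact (IsUnit.mk0 _ fun h0 => hc (Ideal.algebraMap_residueField_eq_zero.mp h0)).map _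
        rw [Algebra.smul_def] at hm
        exact (Ideal.unit_mul_mem_iff_mem _ hu).mp hm
      · rw [← hg]
        exact Submodule.smul_of_tower_mem r c hz
  choose g hg hgr using key
  refine ⟨∏ r ∈ hfin.toFinset, g r, ?_, fun r hr hrq => ?_⟩
  · intro h
    obtain ⟨r, _, hr⟩ := Ideal.IsPrime.prod_mem_iff.mp h
    exact hg r hr
  · obtain ⟨d, hd⟩ := Finset.dvd_prod_of_mem g (hfin.mem_toFinset.mpr hr)
    rw [hd]
    have := Ideal.mul_mem_right ((1 : p.ResidueField) ⊗ₜ[R] d) r (hgr r hrq)
    rwa [Algebra.TensorProduct.tmul_mul_tmul, one_mul] at this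

end Groth.Agent.S1191
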