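import Groth.Statements.S1193
import Groth.Agent.CAlg6.FiberMod
import Mathlib.RingTheory.Ideal.AssociatedPrime.Finiteness
import Mathlib.RingTheory.Localization.Ideal

set_option autoImplicit false
universe u
open FlatMor

namespace Groth.Agent.S1193

open IsLocalRing in
/-- Let R be a local ring, S an R-algebra whose closed fibre ring is Noetherian and N an S-module whose
closed fibre module N/𝔪N is finite. Let Σ be the set of elements of S acting injectively on N/𝔪N.
Then a prime of S is disjoint from Σ exactly when it lies inside an associated prime of N/𝔪N (the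
primes of the localization at Σ), the localization of S at Σ has finitely many maximal ideals, and
an ideal of that localization is maximal exactly when it is prime and contracts to a maximal member
of the set of associated primes of N/𝔪N. -/
theorem result {R S : Type u} [CommRing R] [IsLocalRing R] [CommRing S] [Algebra R S]
    (N : Type u) [AddCommGroup N] [Module S N] [Module R N] [IsScalarTower R S N]
    [IsNoetherianRing ((maximalIdeal R).Fiber S)]
    [Module.Finite ((maximalIdeal R).Fiber S) (FlatCA.fiberMod (maximalIdeal R) S N)] :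
    (∀ (q : Ideal S) [q.IsPrime], Disjoint (q : Set S) (FlatCA.nzdFiber R S N) ↔
        ∃ q' ∈ associatedPrimes S (FlatCA.fiberMod (maximalIdeal R) S N), q ≤ q') ∧
    {Q : Ideal (Localization (FlatCA.nzdFiber R S N)) | Q.IsMaximal}.Finite ∧
    (∀ Q : Ideal (Localization (FlatCA.nzdFiber R S N)), Q.IsMaximal ↔ (Q.IsPrime ∧
        Maximal (fun r => r ∈ associatedPrimes S (FlatCA.fiberMod (maximalIdeal R) S N))
          (Q.comap (algebraMap S (Localization (FlatCA.nzdFiber R S N)))))) := by
  classical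
  let T := (maximalIdeal R).Fiber S
  let F := FlatCA.fiberMod (maximalIdeal R) S N
  let φ : S →+* T := (Algebra.TensorProduct.includeRight (R := R)
    (A := (maximalIdeal R).ResidueField) (B := S)).toRingHom
  have hφ : Function.Surjective φ := by
    intro z
    obtain ⟨r, hr, s, hs⟩ := Ideal.Fiber.exists_smul_eq_one_tmul (maximalIdeal R) z
    have hu : IsUnit r := by simpa using hr
    obtain ⟨u, rfl⟩ := hu
    refine ⟨algebraMap R S ↑u⁻¹ * s, ?_⟩
    rw [map_mul]
    show φ _ * (1 ⊗ₜ[R] s) = z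
    rw [← hs, show φ (algebraMap R S ↑u⁻¹) = algebraMap R T ↑u⁻¹ from AlgHom.commutes
      (Algebra.TensorProduct.includeRight (R := R) (A := (maximalIdeal R).ResidueField) (B := S)) _,
      Algebra.smul_def, ← mul_assoc, ← map_mul, Units.inv_mul, map_one, one_mul]
  have hsm : ∀ (s : S) (x : F), φ s • x = s • x := fun s x => Groth.Agent.CAlg6.includeRight_smul s x
  have hcolon : ∀ x : F, (⊥ : Submodule S F).colon {x} = ((⊥ : Submodule T F).colon {x}).comap φ := by
    intro x; ext s
    simp only [Submodule.mem_colon_singleton, Submodule.mem_bot, Ideal.mem_comap, hsm]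
  have hass : associatedPrimes S F = Ideal.comap φ '' associatedPrimes T F := by
    ext q
    constructor
    · rintro ⟨hq, x, hx⟩
      rw [hcolon, ← Ideal.comap_radical] at hx
      refine ⟨((⊥ : Submodule T F).colon {x}).radical, ⟨?_, x, rfl⟩, hx.symm⟩
      rw [← Ideal.map_comap_of_surjective φ hφ ((⊥ : Submodule T F).colon {x}).radical, ← hx]
      refine Ideal.map_isPrime_of_surjective hφ ?_
      rw [hx]
      exact Ideal.comap_mono bot_le
    · rintro ⟨P, ⟨hP, x, hx⟩, rfl⟩
      exact ⟨hP.comap φ, x, by rw [hcolon, ← Ideal.comap_radical, hx]⟩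
  have hfin : (associatedPrimes S F).Finite := hass ▸ (associatedPrimes.finite T F).image _
  have hzd : ∀ s : S, s ∉ FlatCA.nzdFiber R S N ↔ ∃ q' ∈ associatedPrimes S F, s ∈ q' := by
    intro s
    constructor
    · intro h
      obtain ⟨x, hsx, hx⟩ : ∃ x : F, s • x = 0 ∧ x ≠ 0 := by
        by_contra h'
        push Not at h'
        exact h (mem_nonZeroSMulDivisors_iff.mpr h')
      have : φ s ∈ {r : T | ∃ x : F, x ≠ 0 ∧ r • x = 0} := ⟨x, hx, (hsm s x).trans hsx⟩
      rw [← biUnion_associatedPrimes_eq_zero_divisors T F] at this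
      obtain ⟨P, hP, hPs⟩ := Set.mem_iUnion₂.mp this
      exact ⟨_, hass ▸ Set.mem_image_of_mem _ hP, hPs⟩
    · rintro ⟨q', hq', hs⟩ h
      rw [hass] at hq'
      obtain ⟨P, hP, rfl⟩ := hq'
      have : φ s ∈ {r : T | ∃ x : F, x ≠ 0 ∧ r • x = 0} := by
        rw [← biUnion_associatedPrimes_eq_zero_divisors T F]
        exact Set.mem_iUnion₂.mpr ⟨P, hP, hs⟩
      obtain ⟨x, hx, hsx⟩ := this
      exact hx (mem_nonZeroSMulDivisors_iff.mp h x ((hsm s x).symm.trans hsx))
  have h1 : ∀ (q : Ideal S) [q.IsPrime], Disjoint (q : Set S) (FlatCA.nzdFiber R S N) ↔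
      ∃ q' ∈ associatedPrimes S F, q ≤ q' := by
    intro q _
    constructor
    · intro hd
      have hsub : (q : Set S) ⊆ ⋃ i ∈ (hfin.toFinset : Set (Ideal S)), (i : Set S) := by
        intro s hs
        obtain ⟨q', hq', hs'⟩ := (hzd s).mp fun h => Set.disjoint_left.mp hd hs h
        exact Set.mem_iUnion₂.mpr ⟨q', hfin.mem_toFinset.mpr hq', hs'⟩
      obtain ⟨i, hi, hle⟩ := (Ideal.subset_union_prime (f := id) (s := hfin.toFinset) ⊥ ⊥
        fun i hi _ _ => (hfin.mem_toFinset.mp hi).1).mp hsub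
      exact ⟨i, hfin.mem_toFinset.mp hi, hle⟩
    · rintro ⟨q', hq', hle⟩
      refine Set.disjoint_left.mpr fun s hs hsN => ?_
      exact (hzd s).mpr ⟨q', hq', hle hs⟩ hsN
  let L := Localization (FlatCA.nzdFiber R S N)
  have mc : ∀ Q : Ideal L, (Q.comap (algebraMap S L)).map (algebraMap S L) = Q :=
    fun Q => IsLocalization.map_under (FlatCA.nzdFiber R S N) L Q
  have hinj : ∀ Q₁ Q₂ : Ideal L, Q₁.comap (algebraMap S L) = Q₂.comap (algebraMap S L) → Q₁ = Q₂ := by
    intro Q₁ Q₂ h
    rw [← mc Q₁, h, mc]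
  have hmax : ∀ Q : Ideal L, Q.IsMaximal →
      Maximal (fun r => r ∈ associatedPrimes S F) (Q.comap (algebraMap S L)) := by
    intro Q hQ
    obtain ⟨hqp, hqd⟩ := (IsLocalization.isPrime_iff_isPrime_disjoint (FlatCA.nzdFiber R S N) L Q).mp hQ.isPrime
    obtain ⟨q', hq', hle⟩ := (h1 _).mp hqd.symm
    have key : ∀ q'' ∈ associatedPrimes S F, Q.comap (algebraMap S L) ≤ q'' →
        q'' = Q.comap (algebraMap S L) := by
      intro q'' hq'' hle''
      have hp : q''.IsPrime := hq''.1
      have hd : Disjoint (FlatCA.nzdFiber R S N : Set S) q'' := ((h1 q'').mpr ⟨q'', hq'', le_rfl⟩).symm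
      have hpr := IsLocalization.isPrime_of_isPrime_disjoint (FlatCA.nzdFiber R S N) L q'' hp hd
      have hQle : Q ≤ q''.map (algebraMap S L) := by
        rw [← mc Q]
        exact Ideal.map_mono hle''
      rw [hQ.eq_of_le hpr.ne_top hQle]
      exact (IsLocalization.under_map_of_isPrime_disjoint _ L hp hd).symm
    refine ⟨key q' hq' hle ▸ hq', fun q'' hq'' hle'' => (key q'' hq'' hle'').le⟩
  refine ⟨fun q _ => h1 q, ?_, fun Q => ⟨fun hQ => ⟨hQ.isPrime, hmax Q hQ⟩, ?_⟩⟩
  · refine Set.Finite.of_finite_image (f := Ideal.comap (algebraMap S L))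
      (hfin.subset ?_) (fun Q₁ _ Q₂ _ h => hinj Q₁ Q₂ h)
    rintro _ ⟨Q, hQ, rfl⟩
    exact (hmax Q hQ).1
  · rintro ⟨hQp, hQmax⟩
    obtain ⟨Q', hQ', hle⟩ := Ideal.exists_le_maximal Q hQp.ne_top
    have := hQmax.2 (hmax Q' hQ').1 (Ideal.comap_mono hle)
    rw [hinj Q Q' (le_antisymm (Ideal.comap_mono hle) this)]
    exact hQ'

end Groth.Agent.S1193
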