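import Groth.Statements.S1195
import Groth.Agent.FlatCrit65.Assassin.FibrewiseInj
import Groth.Agent.FlatCrit65.Assassin.Fiber
import Groth.Agent.FlatCrit65.Point.Extend

set_option autoImplicit false
universe u
open FlatMor

namespace Groth.Agent.S1195

open TensorProduct in
/-- Let S be a finitely presented R-algebra, N a finitely presented S-module flat over R, and S' a flat
S-algebra such that every prime q of S (over p in R) whose extension to the fibre ring over p is an
associated prime of the fibre module of N is the contraction of a prime of S'. Then the base change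
map N → S' ⊗_S N is universally injective as a map of R-modules. -/
theorem result {R S S' : Type u} [CommRing R] [CommRing S] [CommRing S'] [Algebra R S] [Algebra S S'] [Algebra R S'] [IsScalarTower R S S']
    [Algebra.FinitePresentation R S] [Module.Flat S S']
    (N : Type u) [AddCommGroup N] [Module S N] [Module R N] [IsScalarTower R S N] [Module.FinitePresentation S N] [Module.Flat R N]
    (h : ∀ (p : Ideal R) (q : Ideal S) [p.IsPrime] [q.IsPrime] [q.LiesOver p],
      FlatCA.fiberIdeal p q ∈ associatedPrimes (p.Fiber S) (FlatCA.fiberMod p S N) →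
      ∃ q' : Ideal S', q'.IsPrime ∧ q'.comap (algebraMap S S') = q) :
    FlatCA.UnivInj R ((TensorProduct.mk S S' N 1).restrictScalars R) := by
  have hid : IsLocalizedModule (⊥ : Submonoid S) (LinearMap.id : N →ₗ[S] N) := by
    refine ⟨fun x => ?_, fun y => ⟨(y, 1), by simp⟩, fun h => ⟨1, by simpa using h⟩⟩
    obtain ⟨x, rfl⟩ := x
    simp
  let e : LocalizedModule (⊥ : Submonoid S) N ≃ₗ[R] N :=
    (IsLocalizedModule.linearEquiv (⊥ : Submonoid S) (LocalizedModule.mkLinearMap (⊥ : Submonoid S) N)
      (LinearMap.id : N →ₗ[S] N)).restrictScalars R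
  have : Module.Flat R (LocalizedModule (⊥ : Submonoid S) N) := Module.Flat.of_linearEquiv e
  have : Module.Flat R (S' ⊗[S] N) := Groth.Agent.FlatCrit65.flat_tensor_of_flat S' N
  intro Q _ _
  have h1 := Groth.Agent.FlatCrit65.univInj_of_fibres (A := R) (⊥ : Submonoid S)
    (((TensorProduct.mk S S' N 1).restrictScalars R).comp e.toLinearMap) (fun p _ => by
    rw [LinearMap.lTensor_comp]
    exact (Groth.Agent.FlatCrit65.lTensor_injective_of_assoc_covered (p := p) (S := S) (N := N) (S' := S')
      (fun q _ _ hq => h p q hq)).comp (LinearEquiv.lTensor p.ResidueField e).injective) Q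
  rw [← LinearMap.lTensor_inj_iff_rTensor_inj, LinearMap.lTensor_comp] at h1
  intro a b hab
  obtain ⟨a, rfl⟩ := (LinearEquiv.lTensor Q e).surjective a
  obtain ⟨b, rfl⟩ := (LinearEquiv.lTensor Q e).surjective b
  exact congrArg _ (h1 hab)

end Groth.Agent.S1195
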