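import Groth.Statements.S12056
import Mathlib.Algebra.DualNumber
import Mathlib.Tactic.LinearCombination
import Mathlib.Tactic.Ring
import Mathlib.RingTheory.PowerSeries.Substitution
import Mathlib.RingTheory.PowerSeries.Derivative
import Mathlib.RingTheory.PowerSeries.Inverse
import Mathlib.Algebra.Polynomial.AlgebraMap

set_option autoImplicit false
open Red

namespace Groth.Agent.S12056

open PowerSeries

variable {R : Type} [CommRing R]

/-- The nilpotent constant. -/
noncomputable def e (R : Type) [CommRing R] : PowerSeries (DualNumber R) := C DualNumber.eps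

theorem e_mul_e : e R * e R = 0 := by rw [e, ← map_mul, DualNumber.eps_mul_eps, map_zero]

theorem hasSubst_X_add (g : PowerSeries (DualNumber R)) : HasSubst (X + e R * g) := by
  refine ⟨2, ?_⟩
  show (constantCoeff (X + e R * g)) ^ 2 = 0
  simp [e, pow_two, mul_mul_mul_comm _ (constantCoeff g) _ (constantCoeff g), DualNumber.eps_mul_eps]

theorem taylor (f : PowerSeries R) (g : PowerSeries (DualNumber R)) :
    PowerSeries.subst (X + e R * g) f = PowerSeries.map (algebraMap R (DualNumber R)) f +
      e R * g * PowerSeries.map (algebraMap R (DualNumber R)) (derivative R f) := by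
  ext1 n
  have hA := hasSubst_X_add g
  have hp : ∀ d : ℕ, (X + e R * g) ^ d = X ^ d + e R * g * ((d : PowerSeries (DualNumber R)) * X ^ (d - 1)) := by
    intro d
    induction d with
    | zero => simp
    | succ k ih =>
      rw [pow_succ, ih]
      rcases k with _ | k
      · simp
      · simp only [Nat.add_sub_cancel, Nat.cast_add, Nat.cast_one, pow_succ]
        linear_combination (g * g * ((k : PowerSeries (DualNumber R)) + 1) * X ^ k) * e_mul_e (R := R)
  rw [coeff_subst' hA]
  have key : ∀ m, n + 1 < m → ∀ d, m ≤ d → coeff n ((X + e R * g) ^ d) = 0 := by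
    intro m hm d hd
    rw [hp, map_add, coeff_X_pow, if_neg (by omega), zero_add, ← mul_assoc,
      coeff_mul_X_pow', if_neg (by omega)]
  rw [finsum_eq_sum_of_support_subset (s := Finset.range (n + 2))]
  swap
  · intro d hd
    simp only [Finset.coe_range, Set.mem_Iio]
    by_contra h
    exact hd (by simp [key (n + 2) (by omega) d (by omega)])
  let p : Polynomial R := trunc (n + 2) f
  have e1 : ∀ (h : PowerSeries (DualNumber R)) (m : ℕ), m ≤ n →
      coeff n (h * (X : PowerSeries (DualNumber R)) ^ m) = coeff (n - m) h := fun h m hm => by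
    rw [coeff_mul_X_pow', if_pos hm]
  rw [map_add, coeff_map, coeff_mul]
  simp only [hp, map_add, smul_add, Finset.sum_add_distrib, coeff_X_pow, smul_ite, smul_zero,
    Finset.sum_ite_eq, Finset.mem_range, show n < n + 2 by omega, if_true]
  congr 1
  · rw [Algebra.smul_def, _root_.mul_one]
  · rw [Finset.Nat.sum_antidiagonal_eq_sum_range_succ
      (fun i j => coeff i (e R * g) * coeff j (PowerSeries.map (algebraMap R (DualNumber R)) (derivative R f)))]
    rw [Finset.sum_range_succ' (n := n + 1)]
    conv_rhs => rw [← Finset.sum_range_reflect]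
    simp only [Nat.cast_zero, zero_mul, mul_zero, map_zero, smul_zero, add_zero]
    refine Finset.sum_congr rfl fun j hj => ?_
    rw [Finset.mem_range] at hj
    rw [← mul_assoc, e1 _ _ (by omega), ← map_natCast (C (R := DualNumber R)) (j + 1), coeff_mul_C,
      coeff_map, coeff_derivative, Algebra.smul_def,
      show n - (j + 1 - 1) = n - j by omega, show n.succ - 1 - j = n - j by omega,
      show n - (n - j) = j by omega]
    simp
    ring


/-- In formal-power-series form, let R be a commutative ring and F ∈ R⟦X⟧ with constant term 1 whose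
linear coefficient a is a unit of R. Suppose that in R⟦X₀, X₁⟧ one has F(X₀ + X₁ · F(X₀)) = F(X₀) ·
F(X₁) (the functional equation F(x + y F(x)) = F(x) F(y)). Then F = 1 + a X. (The published
statement concerns a morphism to the multiplicative group from an open neighbourhood of the zero
section in the additive group over a base scheme, the identity holding on an open neighbourhood of
the origin of the plane on which all terms are defined, with a the derivative at 0; this row states
it for formal power series over a ring.) -/
theorem result (R : Type) [CommRing R] (F : PowerSeries R)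
    (h0 : PowerSeries.constantCoeff F = 1) (ha : IsUnit (PowerSeries.coeff 1 F))
    (hFE : PowerSeries.subst
        (MvPowerSeries.X (0 : Fin 2) + MvPowerSeries.X 1 * PowerSeries.subst (MvPowerSeries.X (0 : Fin 2)) F :
          MvPowerSeries (Fin 2) R) F =
      PowerSeries.subst (MvPowerSeries.X (0 : Fin 2)) F * PowerSeries.subst (MvPowerSeries.X (1 : Fin 2)) F) :
    F = 1 + PowerSeries.C (PowerSeries.coeff 1 F) * PowerSeries.X := by
  set a := PowerSeries.coeff 1 F with ha'
  let φ := algebraMap R (DualNumber R)
  have hX0 : ∀ i : Fin 2, PowerSeries.HasSubst (MvPowerSeries.X i : MvPowerSeries (Fin 2) R) :=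
    fun i => PowerSeries.HasSubst.X i
  have hA : PowerSeries.HasSubst (MvPowerSeries.X (0 : Fin 2) + MvPowerSeries.X 1 *
      PowerSeries.subst (MvPowerSeries.X (0 : Fin 2)) F : MvPowerSeries (Fin 2) R) :=
    PowerSeries.HasSubst.of_constantCoeff_zero (by simp)
  have spec : ∀ b : Fin 2 → PowerSeries (DualNumber R), MvPowerSeries.HasSubst b →
      PowerSeries.subst (b 0 + b 1 * PowerSeries.subst (b 0) F) F =
        PowerSeries.subst (b 0) F * PowerSeries.subst (b 1) F := by
    intro b hb
    have h := congrArg (MvPowerSeries.substAlgHom (R := R) hb) hFE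
    have comp : ∀ c : MvPowerSeries (Fin 2) R, PowerSeries.HasSubst c →
        MvPowerSeries.substAlgHom (R := R) hb (PowerSeries.subst c F) =
          PowerSeries.subst (MvPowerSeries.substAlgHom (R := R) hb c) F := fun c hc => by
      simp only [MvPowerSeries.coe_substAlgHom, PowerSeries.subst_def]
      exact MvPowerSeries.subst_comp_subst_apply hc.const hb F
    rw [map_mul, comp _ hA, comp _ (hX0 0), comp _ (hX0 1), map_add, map_mul, comp _ (hX0 0),
      MvPowerSeries.substAlgHom_X, MvPowerSeries.substAlgHom_X] at h
    exact h
  have hlin : PowerSeries.subst (e R) F = 1 + e R * C (φ a) := by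
    rw [e]
    refine PowerSeries.ext fun n => ?_
    have hc : HasSubst (C (DualNumber.eps : DualNumber R)) :=
      ⟨2, by show (constantCoeff (C (DualNumber.eps : DualNumber R))) ^ 2 = 0; simp [pow_two]⟩
    rw [coeff_subst' hc, finsum_eq_sum_of_support_subset (s := {0, 1})]
    swap
    · intro d hd
      simp only [Finset.coe_insert, Finset.coe_singleton, Set.mem_insert_iff, Set.mem_singleton_iff]
      by_contra hne
      refine hd ?_
      obtain ⟨d', rfl⟩ : ∃ d', d = d' + 2 := ⟨d - 2, by omega⟩
      simp only []
      rw [← map_pow, pow_add, pow_two, DualNumber.eps_mul_eps, mul_zero, map_zero, map_zero,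
        smul_zero]
    rw [Finset.sum_pair (by omega)]
    simp only [pow_zero, pow_one, map_add, coeff_C_mul, coeff_C, coeff_one, Algebra.smul_def,
      coeff_zero_eq_constantCoeff, h0, map_one, one_mul, ← ha', φ]
    split_ifs <;> simp [mul_comm]
  have hcancel : ∀ p q : PowerSeries R, e R * PowerSeries.map φ p = e R * PowerSeries.map φ q →
      p = q := by
    intro p q hpq
    ext n
    have := congrArg (fun z => TrivSqZeroExt.snd (coeff n z)) hpq
    simp only [e, coeff_C_mul, coeff_map, φ, TrivSqZeroExt.algebraMap_eq_inl] at this
    rw [TrivSqZeroExt.snd_mul, TrivSqZeroExt.snd_mul] at this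
    simpa using this
  have hmapC : PowerSeries.map φ (C a) = C (φ a) := map_C φ a
  have hbase : PowerSeries.subst (PowerSeries.X : PowerSeries (DualNumber R)) F = PowerSeries.map φ F :=
    (map_algebraMap_eq_subst_X F).symm
  -- first specialisation
  have hb1 : MvPowerSeries.HasSubst ![e R, (PowerSeries.X : PowerSeries (DualNumber R))] := by
    refine MvPowerSeries.hasSubst_of_constantCoeff_nilpotent fun i => ?_
    fin_cases i
    · exact ⟨2, by show (constantCoeff (e R)) ^ 2 = 0; simp [e, pow_two]⟩
    · exact ⟨1, by show (constantCoeff (X : PowerSeries (DualNumber R))) ^ 1 = 0; simp⟩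
  have hb2 : MvPowerSeries.HasSubst ![(PowerSeries.X : PowerSeries (DualNumber R)), e R] := by
    refine MvPowerSeries.hasSubst_of_constantCoeff_nilpotent fun i => ?_
    fin_cases i
    · exact ⟨1, by show (constantCoeff (X : PowerSeries (DualNumber R))) ^ 1 = 0; simp⟩
    · exact ⟨2, by show (constantCoeff (e R)) ^ 2 = 0; simp [e, pow_two]⟩
  have s1 := spec _ hb1
  have s2 := spec _ hb2
  simp only [Matrix.cons_val_zero, Matrix.cons_val_one] at s1 s2
  rw [hlin, hbase] at s1 s2
  rw [show e R + X * (1 + e R * C (φ a)) = X + e R * (1 + X * C (φ a)) by ring, taylor] at s1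
  rw [mul_comm (e R) (PowerSeries.map φ F), mul_comm (PowerSeries.map φ F) (e R), taylor] at s2
  have e1 : (1 + X * C a) * derivative R F = C a * F := by
    apply hcancel
    simp only [map_mul, map_add, map_one, map_X, hmapC]
    linear_combination s1
  have e2 : F * derivative R F = C a * F := by
    apply hcancel
    simp only [map_mul, hmapC]
    linear_combination s2
  have hFu : IsUnit F := (PowerSeries.isUnit_iff_constantCoeff).mpr (by rw [h0]; exact isUnit_one)
  have hd : derivative R F = C a := hFu.mul_left_cancel (by rw [e2, mul_comm])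
  rw [hd, mul_comm] at e1
  rw [mul_comm (C a)]
  exact ((ha.map C).mul_left_cancel e1).symm

end Groth.Agent.S12056
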