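import Groth.Statements.S12058
import Groth.Agent.An92.ExtOne

set_option autoImplicit false
universe w v u
open CategoryTheory CategoryTheory.Limits CategoryTheory.Abelian
open SGA3

namespace Groth.Agent.S12058

/-- In an abelian category, let 0 → A' → A → A'' → 0 be a short exact sequence, φ : A' ⟶ Q a morphism
and π : A'' ⟶ P an epimorphism with kernel C. Consider the quadruples (B, f, g, h) with 0 → Q → B →
P → 0 short exact (maps f, g) and h : A ⟶ B such that the squares commute: (A' → A → B) = (A' → Q →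
B) and (A → B → P) = (A → A'' → P). Such a quadruple exists if and only if the image in Ext¹(C, Q)
of the class of the given extension in Ext¹(A'', A') (push forward along φ, pull back along the
inclusion C → A'') is zero. -/
theorem result {C : Type u} [Category.{v} C] [Abelian C]
    [HasExt.{w} C] {S : ShortComplex C} (hS : S.ShortExact) {Q P : C} (φ : S.X₁ ⟶ Q) (π : S.X₃ ⟶ P) [Epi π] :
    (∃ (B : C) (f : Q ⟶ B) (g : B ⟶ P) (h : S.X₂ ⟶ B) (w : f ≫ g = 0),
        (ShortComplex.mk f g w).ShortExact ∧ S.f ≫ h = φ ≫ f ∧ h ≫ g = S.g ≫ π) ↔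
      (Ext.mk₀ (kernel.ι π)).comp (hS.extClass.comp (Ext.mk₀ φ) (add_zero 1)) (zero_add 1) = 0 := by
  let P' : ShortComplex C := ShortComplex.mk (kernel.ι π) π (kernel.condition π)
  have hP' : P'.ShortExact :=
    { exact := ShortComplex.exact_kernel π }
  constructor
  · rintro ⟨B, f, g, h, w, hT, hf, hg⟩
    let m : S ⟶ ShortComplex.mk f g w := ⟨φ, h, π, hf.symm, hg⟩
    rw [show hS.extClass.comp (Ext.mk₀ φ) (add_zero 1) = (Ext.mk₀ π).comp hT.extClass (zero_add 1) from
      ShortComplex.ShortExact.extClass_naturality hS hT m, Ext.mk₀_comp_mk₀_assoc, kernel.condition,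
      Ext.mk₀_zero, Ext.zero_comp]
  · intro h0
    obtain ⟨e', he'⟩ := Ext.contravariant_sequence_exact₂ hP' Q
      (hS.extClass.comp (Ext.mk₀ φ) (add_zero 1)) h0
    change (Ext.mk₀ π).comp e' (zero_add 1) = hS.extClass.comp (Ext.mk₀ φ) (add_zero 1) at he'
    obtain ⟨B, f, g, w, hT, rfl⟩ := Groth.Agent.An92.ExtOne.exists_extClass_eq e'
    have hl : (Ext.mk₀ (S.g ≫ π)).comp hT.extClass (zero_add 1) = 0 := by
      rw [← Ext.mk₀_comp_mk₀_assoc, he', ShortComplex.ShortExact.comp_extClass_assoc]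
    obtain ⟨x, hx⟩ := Ext.covariant_sequence_exact₃ S.X₂ hT (Ext.mk₀ (S.g ≫ π)) (zero_add 1) hl
    obtain ⟨h₀, rfl⟩ := (Ext.mk₀_bijective _ _).surjective x
    rw [Ext.mk₀_comp_mk₀] at hx
    have hh₀ : h₀ ≫ g = S.g ≫ π := (Ext.mk₀_bijective _ _).injective hx
    have := hT.mono_f
    let ψ : S.X₁ ⟶ Q := hT.exact.lift (S.f ≫ h₀)
      (by show (S.f ≫ h₀) ≫ g = 0; rw [Category.assoc, hh₀, S.zero_assoc, zero_comp])
    have hψ : ψ ≫ f = S.f ≫ h₀ := hT.exact.lift_f _ _
    let m : S ⟶ ShortComplex.mk f g w := ⟨ψ, h₀, π, hψ, hh₀⟩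
    have h1 : hS.extClass.comp (Ext.mk₀ (φ - ψ)) (add_zero 1) = 0 := by
      rw [sub_eq_add_neg, Ext.mk₀_add, Ext.comp_add, Ext.mk₀_neg, Ext.comp_neg,
        show hS.extClass.comp (Ext.mk₀ ψ) (add_zero 1) = (Ext.mk₀ π).comp hT.extClass (zero_add 1) from
          ShortComplex.ShortExact.extClass_naturality hS hT m, he', add_neg_cancel]
    obtain ⟨x, hx⟩ := Ext.contravariant_sequence_exact₁ hS Q (Ext.mk₀ (φ - ψ)) (add_zero 1) h1
    obtain ⟨t, rfl⟩ := (Ext.mk₀_bijective _ _).surjective x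
    rw [Ext.mk₀_comp_mk₀] at hx
    have ht : S.f ≫ t = φ - ψ := (Ext.mk₀_bijective _ _).injective hx
    refine ⟨B, f, g, h₀ + t ≫ f, w, hT, ?_, ?_⟩
    · rw [Preadditive.comp_add, ← hψ, ← Category.assoc, ht, Preadditive.sub_comp]; abel
    · rw [Preadditive.add_comp, hh₀, Category.assoc, w, comp_zero, add_zero]

end Groth.Agent.S12058
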