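import Groth.Statements.S12059
import Groth.Agent.Quot84.Props

set_option autoImplicit false
universe u
open CategoryTheory CategoryTheory.Limits AlgebraicGeometry
open SGA1

namespace Groth.Agent.S12059

theorem result (G : Type u) [Group G] [Finite G] (A B : Type u) [CommRing A] [CommRing B]
    [Algebra B A] [MulSemiringAction G A] [SMulCommClass G B A] [Algebra.IsInvariant B A G] [FaithfulSMul B A]
    (ρ : G →* Aut (Spec (CommRingCat.of A)))
    (hρ : Set.range (fun g : G => (ρ g).hom) =
      Set.range (fun g : G => Spec.map (CommRingCat.ofHom (MulSemiringAction.toRingHom G A g)))) :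
    SGA1.IsQuot ρ (Spec.map (CommRingCat.ofHom (algebraMap B A))) := by
  refine Quot84.isQuot_Spec (CommRingCat.ofHom (algebraMap B A)) ρ
    (fun g => CommRingCat.ofHom (MulSemiringAction.toRingHom G A g)) (fun g => ?_) ?_ ?_ hρ
  · ext b
    change g • algebraMap B A b = algebraMap B A b
    rw [Algebra.algebraMap_eq_smul_one, smul_comm, smul_one]
  · exact FaithfulSMul.algebraMap_injective B A
  · exact fun a ha => Algebra.IsInvariant.isInvariant a ha

end Groth.Agent.S12059
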