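import Groth.Statements.S12061
import Groth.Agent.SGA3a.NonAff.RadicalDescent
import Groth.Agent.SGA3a.SubQuot

set_option autoImplicit false
universe u
open CategoryTheory MonoidalCategory CartesianMonoidalCategory MonObj GrpObj AlgebraicGeometry
open SGA3x

namespace Groth.Agent.S12061

/-- Let k be a field, G and G′ smooth connected k-group schemes of finite type and u : G → G′ a
faithfully flat homomorphism whose kernel, after base change to an algebraic closure of k, is
contained in the radical of G, i.e. in some smooth connected solvable normal subgroup. Then B′ ↦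
u⁻¹(B′) sends Borel subgroups of G′ (subgroup schemes, smooth of finite type over k, whose geometric
fibre is a Borel subgroup) to Borel subgroups of G, and every Borel subgroup of G arises in this
way: if B′ is a Borel subgroup of G′ and B is a k-group scheme with homomorphisms b : B → G and v :
B → B′ making B = G ×_{G′} B′, then B is a Borel subgroup of G; and every Borel subgroup of G is
such an inverse image of some Borel subgroup of G′. (The published statement says that B′ ↦ u⁻¹(B′)
is a bijection; its injectivity, a consequence of faithful flatness of u, is not stated here.) -/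
theorem result (k : Type u) [Field k] (G G' : Over (Spec (CommRingCat.of k)))
    [GrpObj G] [GrpObj G'] [Smooth G.hom] [QuasiCompact G.hom] [Smooth G'.hom] [QuasiCompact G'.hom]
    [ConnectedSpace ↥G.left] [ConnectedSpace ↥G'.left]
    (u : G ⟶ G') [IsMonHom u] [Flat u.left] [Surjective u.left]
    (hrad : ∀ s : ↥(Spec (CommRingCat.of k)), ∃ (R : Over (Spec (CommRingCat.of (AlgebraicClosure ((Spec (CommRingCat.of k)).residueField s)))))
      (_ : GrpObj R) (r : R ⟶ Red.geomFibre s G), IsMonHom r ∧ IsClosedImmersion r.left ∧ Smooth R.hom ∧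
      ConnectedSpace ↥R.left ∧ Red.IsSolvableGrp R ∧
      (∀ (X : Over (Spec (CommRingCat.of (AlgebraicClosure ((Spec (CommRingCat.of k)).residueField s))))) (g : X ⟶ Red.geomFibre s G)
        (x : X ⟶ R), ∃ x' : X ⟶ R, g * (x ≫ r) * g⁻¹ = x' ≫ r) ∧
      (∀ (X : Over (Spec (CommRingCat.of (AlgebraicClosure ((Spec (CommRingCat.of k)).residueField s))))) (g : X ⟶ Red.geomFibre s G),
        g ≫ (Over.pullback (Red.geomPt s)).map u = 1 → ∃ x : X ⟶ R, x ≫ r = g)) :
    (∀ (B' : Over (Spec (CommRingCat.of k))) [GrpObj B'] (b' : B' ⟶ G'), (IsMonHom b' ∧ Mono b' ∧ Smooth B'.hom ∧ QuasiCompact B'.hom ∧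
      ∀ s : ↥(Spec (CommRingCat.of k)), Red.IsBorelOver (AlgebraicClosure ((Spec (CommRingCat.of k)).residueField s)) ((Over.pullback (Red.geomPt s)).map b')) →
      ∀ (B : Over (Spec (CommRingCat.of k))) [GrpObj B] (b : B ⟶ G) [IsMonHom b] (v : B ⟶ B') [IsMonHom v], IsPullback b v u b' →
      (IsMonHom b ∧ Mono b ∧ Smooth B.hom ∧ QuasiCompact B.hom ∧
      ∀ s : ↥(Spec (CommRingCat.of k)), Red.IsBorelOver (AlgebraicClosure ((Spec (CommRingCat.of k)).residueField s)) ((Over.pullback (Red.geomPt s)).map b))) ∧
    (∀ (B : Over (Spec (CommRingCat.of k))) [GrpObj B] (b : B ⟶ G), (IsMonHom b ∧ Mono b ∧ Smooth B.hom ∧ QuasiCompact B.hom ∧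
      ∀ s : ↥(Spec (CommRingCat.of k)), Red.IsBorelOver (AlgebraicClosure ((Spec (CommRingCat.of k)).residueField s)) ((Over.pullback (Red.geomPt s)).map b)) →
      ∃ (B' : Over (Spec (CommRingCat.of k))) (_ : GrpObj B') (b' : B' ⟶ G') (v : B ⟶ B'), (IsMonHom b' ∧ Mono b' ∧ Smooth B'.hom ∧ QuasiCompact B'.hom ∧
      ∀ s : ↥(Spec (CommRingCat.of k)), Red.IsBorelOver (AlgebraicClosure ((Spec (CommRingCat.of k)).residueField s)) ((Over.pullback (Red.geomPt s)).map b')) ∧ IsMonHom v ∧
        IsPullback b v u b') := by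
  constructor
  · intro B' _ b' hB' B _ b _ v _ sq
    obtain ⟨hb'm, hb'mono, hB's, hB'q, hgeo⟩ := hB'
    haveI := hb'm
    haveI := hb'mono
    have hmono : Mono b := ⟨fun {Z} x y h => sq.hom_ext h (by
      rw [← cancel_mono b', Category.assoc, Category.assoc, ← sq.w, reassoc_of% h])⟩
    haveI := hmono
    have key : ∀ s : ↥(Spec (CommRingCat.of k)), Red.IsBorelOver (AlgebraicClosure ((Spec (CommRingCat.of k)).residueField s))
        ((Over.pullback (Red.geomPt s)).map b) := fun s => by
      haveI := Groth.Agent.AGF80.GeomSub.smooth_bc (Red.geomPt s) G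
      haveI := Groth.Agent.AGF80.GeomSub.smooth_bc (Red.geomPt s) G'
      haveI : QuasiCompact (Red.geomFibre s G).hom := MorphismProperty.pullback_snd (P := @QuasiCompact) _ _ ‹_›
      haveI : QuasiCompact (Red.geomFibre s G').hom := MorphismProperty.pullback_snd (P := @QuasiCompact) _ _ ‹_›
      haveI := Groth.Agent.AlgGrp79.BorelDesc.connectedSpace_bc (G := G) (Red.geomPt s)
      haveI := Groth.Agent.AlgGrp79.BorelDesc.connectedSpace_bc (G := G') (Red.geomPt s)
      haveI : Surjective ((Over.pullback (Red.geomPt s)).map u).left :=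
        MorphismProperty.of_isPullback (P := @Surjective) (Groth.Agent.RedPts82.isPullback_bc_map u (Red.geomPt s)) ‹_›
      obtain ⟨R, _, r, hrm, hrcl, hRs, hRc, hRsol, hn, hker⟩ := hrad s
      haveI := hrm
      haveI := hrcl
      haveI := hRs
      haveI := hRc
      exact Groth.Agent.SGA3a.NonAff.isBorelOver_preimage_of_radical _ r hRsol hn hker (hgeo s) _ _
        (sq.map (Over.pullback (Red.geomPt s)))
    let s₀ : ↥(Spec (CommRingCat.of k)) := IsLocalRing.closedPoint k
    haveI := Groth.Agent.SGA3a.NonAff.isClosedImmersion_of_bc_map (Red.geomPt s₀) b (key s₀).2.1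
    refine ⟨inferInstance, hmono, Groth.Agent.AGF80.Descend.smooth_of_bc (Red.geomPt s₀) (key s₀).2.2.1, ?_, key⟩
    rw [← Over.w b]; infer_instance
  · intro B _ b hB
    obtain ⟨hbm, hbmono, hBs, hBq, hgeo⟩ := hB
    haveI := hbm
    haveI := hbmono
    haveI := hBs
    haveI := hBq
    obtain ⟨N, _, nB, hnm, hncl, hker, hnorm⟩ := Groth.Agent.SGA3a.NonAff.exists_kernel_grp (b ≫ u)
    haveI := hnm
    haveI := hncl
    haveI : LocallyOfFiniteType N.hom := by rw [← Over.w nB]; infer_instance
    haveI : QuasiCompact N.hom := by rw [← Over.w nB]; infer_instance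
    obtain ⟨B', _, q, hqm, hq, hB'ft, hB'qc, hB'sep, hqker, -⟩ :=
      Groth.Agent.SGA3a.SubQuot.exists_quotientGrp nB hnorm
    haveI := hqm
    obtain ⟨b', hb'⟩ := hq.desc (b ≫ u) fun T a c hac => by
      obtain ⟨n, hn⟩ := Groth.Agent.AlgGrp79.exists_ker_of_comp_eq q nB hqker a c hac
      have hc : c = a * (n ≫ nB) := by rw [← hn, mul_inv_cancel_left]
      rw [hc, MonObj.mul_comp _ _ (b ≫ u), Category.assoc n, show nB ≫ b ≫ u = 1 by rw [hker.w, Hom.one_def],
        MonObj.comp_one, _root_.mul_one]
    haveI : IsMonHom (q ≫ b') := by rw [hb']; infer_instance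
    haveI : IsMonHom b' := Groth.Agent.SGA3a.NonAff.isMonHom_of_cov_comp q hq b'
    have key : ∀ s : ↥(Spec (CommRingCat.of k)),
        Red.IsBorelOver (AlgebraicClosure ((Spec (CommRingCat.of k)).residueField s)) ((Over.pullback (Red.geomPt s)).map b') ∧
        IsPullback ((Over.pullback (Red.geomPt s)).map b) ((Over.pullback (Red.geomPt s)).map q)
          ((Over.pullback (Red.geomPt s)).map u) ((Over.pullback (Red.geomPt s)).map b') := fun s => by
      let F := Over.pullback (Red.geomPt s)
      haveI := Groth.Agent.AGF80.GeomSub.smooth_bc (Red.geomPt s) G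
      haveI := Groth.Agent.AGF80.GeomSub.smooth_bc (Red.geomPt s) G'
      haveI : QuasiCompact (Red.geomFibre s G).hom := MorphismProperty.pullback_snd (P := @QuasiCompact) _ _ ‹_›
      haveI : QuasiCompact (Red.geomFibre s G').hom := MorphismProperty.pullback_snd (P := @QuasiCompact) _ _ ‹_›
      haveI := Groth.Agent.AlgGrp79.BorelDesc.connectedSpace_bc (G := G) (Red.geomPt s)
      haveI := Groth.Agent.AlgGrp79.BorelDesc.connectedSpace_bc (G := G') (Red.geomPt s)
      haveI : Surjective (F.map u).left :=
        MorphismProperty.of_isPullback (P := @Surjective) (Groth.Agent.RedPts82.isPullback_bc_map u (Red.geomPt s)) ‹_›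
      obtain ⟨R, _, r, hrm, hrcl, hRs, hRc, hRsol, hn, hkr⟩ := hrad s
      haveI := hrm
      haveI := hrcl
      haveI := hRs
      haveI := hRc
      obtain ⟨V, _, vV, p, hV, hpm, hp, sqV⟩ :=
        Groth.Agent.SGA3a.NonAff.exists_borel_image_of_radical (F.map u) r hRsol hn hkr (hgeo s)
      haveI := hV.1
      haveI : Mono vV := by
        haveI := hV.2.1
        exact Over.mono_of_mono_left vV
      haveI := hpm
      haveI : IsMonHom (F.map q) := inferInstance
      have hqK : Groth.Agent.AlgGrp79.IsCov (F.map q) := by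
        obtain ⟨h1, h2, h3⟩ := hq
        exact ⟨MorphismProperty.of_isPullback (P := @Flat) (Groth.Agent.RedPts82.isPullback_bc_map q (Red.geomPt s)) h1,
          MorphismProperty.of_isPullback (P := @Surjective) (Groth.Agent.RedPts82.isPullback_bc_map q (Red.geomPt s)) h2,
          MorphismProperty.of_isPullback (P := @LocallyOfFinitePresentation)
            (Groth.Agent.RedPts82.isPullback_bc_map q (Red.geomPt s)) h3⟩
      have hkK := Groth.Agent.AlgGrp79.isKernel_bc (Red.geomPt s) hker
      have hqkK := Groth.Agent.AlgGrp79.isKernel_bc (Red.geomPt s) hqker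
      have hqb : F.map q ≫ F.map b' = F.map b ≫ F.map u := by rw [← F.map_comp, hb', F.map_comp]
      obtain ⟨d, hd⟩ := Groth.Agent.AlgGrp79.BorelConj.exists_iso_of_same_fibres hqK hp fun T a c => by
        constructor
        · intro h
          rw [← cancel_mono vV, Category.assoc, Category.assoc, ← sqV.w, ← hqb, reassoc_of% h]
        · intro h
          have e : (a⁻¹ * c) ≫ F.map (b ≫ u) = 1 := by
            rw [MonObj.mul_comp, GrpObj.inv_comp, F.map_comp, sqV.w, reassoc_of% h, inv_mul_cancel]
          obtain ⟨n, hn⟩ := Groth.Agent.AlgGrp79.exists_ker_of_comp_one hkK _ e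
          have hc : c = a * (n ≫ F.map nB) := by rw [hn, mul_inv_cancel_left]
          rw [hc, MonObj.mul_comp, Category.assoc n, show F.map nB ≫ F.map q = 1 by rw [hqkK.w, Hom.one_def],
            MonObj.comp_one, _root_.mul_one]
      haveI := hqK.epi
      have hdb : d.hom ≫ vV = F.map b' := by
        rw [← cancel_epi (F.map q), reassoc_of% hd, ← sqV.w, hqb]
      haveI : IsMonHom (F.map b') := inferInstance
      exact ⟨Groth.Agent.SGA3a.NonAff.isBorelOver_of_iso d hdb hV,
        sqV.of_iso (Iso.refl _) (Iso.refl _) d.symm (Iso.refl _) (by simp [F]) (by simp [F, ← hd]) (by simp [F]) (by simp [F, ← hdb])⟩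
    let s₀ : ↥(Spec (CommRingCat.of k)) := IsLocalRing.closedPoint k
    haveI := Groth.Agent.SGA3a.NonAff.isClosedImmersion_of_bc_map (Red.geomPt s₀) b' (key s₀).1.2.1
    have hb'mono : Mono b' := Over.mono_of_mono_left b'
    haveI := hb'mono
    have hsq : b ≫ u = q ≫ b' := hb'.symm
    let a := Limits.pullback.lift b q hsq
    haveI : IsIso ((Over.pullback (Red.geomPt s₀)).map a).left := by
      have sq₁ := (key s₀).2
      have sq₂ := (IsPullback.of_hasPullback u b').map (Over.pullback (Red.geomPt s₀))
      have e : (Over.pullback (Red.geomPt s₀)).map a = (sq₁.isoIsPullback _ _ sq₂).hom := by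
        apply sq₂.hom_ext
        · rw [IsPullback.isoIsPullback_hom_fst, ← Functor.map_comp, Limits.pullback.lift_fst]
        · rw [IsPullback.isoIsPullback_hom_snd, ← Functor.map_comp, Limits.pullback.lift_snd]
      rw [e]
      exact ((Over.forget _).mapIso (sq₁.isoIsPullback _ _ sq₂)).isIso_hom
    haveI : IsIso a := Groth.Agent.SGA3a.NonAff.isIso_of_bc_map (Red.geomPt s₀) a ‹_›
    have hpb : IsPullback b q u b' := (IsPullback.of_hasPullback u b').of_iso (asIso a).symm (Iso.refl _) (Iso.refl _)
      (Iso.refl _) (by simp [a]; exact Limits.pullback.lift_fst _ _ _) (by simp [a]; exact Limits.pullback.lift_snd _ _ _) (by simp) (by simp)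
    exact ⟨B', inferInstance, b', q, ⟨inferInstance, hb'mono,
      Groth.Agent.AGF80.Descend.smooth_of_bc (Red.geomPt s₀) (key s₀).1.2.2.1, hB'qc, fun s => (key s).1⟩, hqm, hpb⟩

end Groth.Agent.S12061
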