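import Groth.Statements.S12065
import Groth.Agent.SGA3a.NonAff.CartanImage

set_option autoImplicit false
universe u
open CategoryTheory MonoidalCategory CartesianMonoidalCategory MonObj GrpObj AlgebraicGeometry
open SGA3x

namespace Groth.Agent.S12065

/-- Let G and H be smooth connected algebraic groups (not necessarily affine) over an algebraically
closed field k and v : G → H a surjective homomorphism. Let T be a maximal torus of G and C its
centralizer, and let T′ = v(T), C′ = v(C) be their images: subgroup schemes t′ : T′ → H, c′ : C′ → H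
together with flat surjective homomorphisms T → T′ and C → C′ over v. Then C′ is the centralizer of
T′ in H. -/
theorem result (k : Type u) [Field k] [IsAlgClosed k]
    (G H : Over (Spec (CommRingCat.of k))) [GrpObj G] [GrpObj H]
    [Smooth G.hom] [QuasiCompact G.hom] [ConnectedSpace ↥G.left]
    [Smooth H.hom] [QuasiCompact H.hom] [ConnectedSpace ↥H.left]
    (v : G ⟶ H) [IsMonHom v] [Surjective v.left]
    (T : Over (Spec (CommRingCat.of k))) [GrpObj T] (i : T ⟶ G) (hT : Red.IsMaximalTorus i)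
    (C : Over (Spec (CommRingCat.of k))) [GrpObj C] (c : C ⟶ G) (hC : Red.IsCentralizerOf i c)
    (T' : Over (Spec (CommRingCat.of k))) [GrpObj T'] (t' : T' ⟶ H) [IsMonHom t'] [Mono t']
    (wT : T ⟶ T') [IsMonHom wT] [Flat wT.left] [Surjective wT.left] (hwT : wT ≫ t' = i ≫ v)
    (C' : Over (Spec (CommRingCat.of k))) [GrpObj C'] (c' : C' ⟶ H) [IsMonHom c'] [Mono c']
    (wC : C ⟶ C') [IsMonHom wC] [Flat wC.left] [Surjective wC.left] (hwC : wC ≫ c' = c ≫ v) :
    Red.IsCentralizerOf t' c' := by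
  obtain ⟨him, himono, hTt, -⟩ := Groth.Agent.SGA3a.NonAff.isMaxTorus_of_isMaximalTorus hT
  haveI := him
  obtain ⟨hcm, -, -⟩ := id hC
  haveI := hcm
  obtain ⟨_, _, _, _, _⟩ := Groth.Agent.AlgGrp33.IsogSub.torus_props hTt
  haveI := Groth.Agent.AlgGrp79.isSeparated_grp H
  obtain ⟨A⟩ := Groth.Agent.SGA3a.NonAff.nonempty_affn G
  obtain ⟨hCs, hCq, -, -⟩ := A.centralizer_props i hTt c hC
  haveI := hCs
  haveI := hCq
  obtain ⟨V, _, cv, w, hcvm, hcvcl, hwm, hw, hwv, hVt⟩ := Groth.Agent.SGA3a.NonAff.exists_torus_image hTt (i ≫ v)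
  haveI := hcvm
  haveI := hcvcl
  haveI := hwm
  haveI : Mono cv := Over.mono_of_mono_left cv
  obtain ⟨VC, _, vc, wc, hvcm, hvccl, hwcm, hwcv, hwc, -, -, -, -⟩ :=
    Groth.Agent.SGA3a.NonAff.exists_smooth_image (c ≫ v)
  haveI := hvcm
  haveI := hvccl
  haveI : Mono vc := Over.mono_of_mono_left vc
  obtain ⟨d, hd⟩ := Groth.Agent.SGA3a.NonAff.exists_iso_image hw hwv hwT
  obtain ⟨e, he⟩ := Groth.Agent.SGA3a.NonAff.exists_iso_image hwc hwcv hwC
  obtain ⟨-, -, key⟩ := Groth.Agent.SGA3a.NonAff.isCentralizerOf_image v cv w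
    (Groth.Agent.SGA3a.NonAff.isMaxTorus_of_isMaximalTorus hT) hVt hw hwv hC vc wc hwc hwcv
  refine ⟨inferInstance, inferInstance, fun X g => ?_⟩
  constructor
  · rintro ⟨z, rfl⟩ X' x h
    have := (key X (z ≫ c')).1 ⟨z ≫ e.inv, by rw [Category.assoc, ← he, Iso.inv_hom_id_assoc]⟩ X' x (h ≫ d.inv)
    rwa [Category.assoc h, ← hd, Iso.inv_hom_id_assoc] at this
  · intro hg
    obtain ⟨z, hz⟩ := (key X g).2 fun X' x h => by
      have := hg X' x (h ≫ d.hom)
      rwa [Category.assoc h, hd] at this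
    exact ⟨z ≫ e.hom, by rw [Category.assoc, he, hz]⟩

end Groth.Agent.S12065
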