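import Groth.Statements.S12071
import Mathlib.GroupTheory.Archimedean

set_option autoImplicit false
open RootD

namespace Groth.Agent.S12071

/-- Let G be the group generated by two elements x, y subject to x² = y² = 1 (the infinite dihedral
group; here Mathlib's DihedralGroup 0 with x = sr 0 and y = sr 1, so that x y = r 1). Then every
normal subgroup of G containing neither x nor y is generated by an element (x y)^n with n > 0; such
a subgroup is cyclic, generated by r n. (The published statement does not exclude the trivial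
subgroup, for which no n > 0 works; this row assumes the subgroup nontrivial.) -/
theorem result (N : Subgroup (DihedralGroup 0)) [N.Normal]
    (hN : N ≠ ⊥) (hx : DihedralGroup.sr (0 : ZMod 0) ∉ N) (hy : DihedralGroup.sr (1 : ZMod 0) ∉ N) :
    ∃ n : ℕ, 0 < n ∧ N = Subgroup.zpowers (DihedralGroup.r (n : ZMod 0)) := by
  have hsr : ∀ k : ZMod 0, (DihedralGroup.sr k : DihedralGroup 0) ∉ N := by
    intro k hk
    obtain ⟨m, rfl | rfl⟩ : ∃ m : ZMod 0, k = 2 * m ∨ k = 2 * m + 1 := Int.even_or_odd' k
    · have := Subgroup.Normal.conj_mem inferInstance _ hk (DihedralGroup.r m)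
      rw [DihedralGroup.inv_r, DihedralGroup.r_mul_sr, DihedralGroup.sr_mul_r] at this
      refine hx ?_
      convert this using 2
      ring
    · have := Subgroup.Normal.conj_mem inferInstance _ hk (DihedralGroup.r m)
      rw [DihedralGroup.inv_r, DihedralGroup.r_mul_sr, DihedralGroup.sr_mul_r] at this
      refine hy ?_
      convert this using 2
      ring
  let H : AddSubgroup (ZMod 0) :=
    { carrier := {k | (DihedralGroup.r k : DihedralGroup 0) ∈ N}
      zero_mem' := N.one_mem
      add_mem' := fun {a b} ha hb => by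
        have := N.mul_mem ha hb
        rwa [DihedralGroup.r_mul_r] at this
      neg_mem' := fun {a} ha => by
        have := N.inv_mem ha
        rwa [DihedralGroup.inv_r] at this }
  obtain ⟨a, ha⟩ := Int.subgroup_cyclic (H : AddSubgroup ℤ)
  have hmem : ∀ k : ℤ, (DihedralGroup.r k : DihedralGroup 0) ∈ N ↔ a ∣ k := fun k => by
    refine Iff.trans (SetLike.ext_iff.mp ha k) (AddSubgroup.mem_closure_singleton.trans ?_)
    exact ⟨fun ⟨n, hn⟩ => ⟨n, by rw [← hn, smul_eq_mul, mul_comm]⟩,
      fun ⟨n, hn⟩ => ⟨n, by rw [hn, smul_eq_mul, mul_comm]⟩⟩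
  have ha0 : a ≠ 0 := by
    rintro rfl
    refine hN (N.eq_bot_iff_forall.mpr fun g hg => ?_)
    rcases g with k | k
    · have : k = 0 := zero_dvd_iff.mp ((hmem k).mp hg)
      rw [this]; rfl
    · exact absurd hg (hsr k)
  refine ⟨a.natAbs, Int.natAbs_pos.mpr ha0, ?_⟩
  ext g
  rw [Subgroup.mem_zpowers_iff]
  constructor
  · intro hg
    rcases g with k | k
    · obtain ⟨n, hn⟩ := (Int.natAbs_dvd.mpr ((hmem k).mp hg) : ((a.natAbs : ℕ) : ℤ) ∣ k)
      refine ⟨n, ?_⟩
      rw [DihedralGroup.r_zpow]
      exact congrArg DihedralGroup.r hn.symm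
    · exact absurd hg (hsr k)
  · rintro ⟨n, rfl⟩
    refine N.zpow_mem ((hmem _).mpr ?_) n
    exact Int.dvd_natAbs.mpr dvd_rfl

end Groth.Agent.S12071
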