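import Groth.Statements.S12072
import Groth.Agent.SGA3a.NonAff.CartanImage

set_option autoImplicit false
universe u
open CategoryTheory MonoidalCategory CartesianMonoidalCategory MonObj GrpObj AlgebraicGeometry
open SGA3x

namespace Groth.Agent.S12072

/-- Let G and H be smooth connected algebraic groups (not necessarily affine) over an algebraically
closed field k and v : G → H a surjective homomorphism. Then the Cartan subgroups of H are the
images of the Cartan subgroups of G: if C is a Cartan subgroup of G and c′ : C′ → H a subgroup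
scheme with a flat surjective homomorphism C → C′ over v (so C′ = v(C)), then C′ is a Cartan
subgroup of H; and every Cartan subgroup C′ of H arises in this way from some Cartan subgroup C of
G. -/
theorem result (k : Type u) [Field k] [IsAlgClosed k]
    (G H : Over (Spec (CommRingCat.of k))) [GrpObj G] [GrpObj H]
    [Smooth G.hom] [QuasiCompact G.hom] [ConnectedSpace ↥G.left]
    [Smooth H.hom] [QuasiCompact H.hom] [ConnectedSpace ↥H.left]
    (v : G ⟶ H) [IsMonHom v] [Surjective v.left] :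
    (∀ (C : Over (Spec (CommRingCat.of k))) [GrpObj C] (c : C ⟶ G), SGA3x.IsCartanOver k c →
      ∀ (C' : Over (Spec (CommRingCat.of k))) [GrpObj C'] (c' : C' ⟶ H) [IsMonHom c'] [Mono c'] (w : C ⟶ C') [IsMonHom w]
        [Flat w.left] [Surjective w.left], w ≫ c' = c ≫ v → SGA3x.IsCartanOver k c') ∧
    (∀ (C' : Over (Spec (CommRingCat.of k))) [GrpObj C'] (c' : C' ⟶ H), SGA3x.IsCartanOver k c' →
      ∃ (C : Over (Spec (CommRingCat.of k))) (_ : GrpObj C) (c : C ⟶ G) (w : C ⟶ C'), SGA3x.IsCartanOver k c ∧ IsMonHom w ∧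
        Flat w.left ∧ Surjective w.left ∧ w ≫ c' = c ≫ v) := by
  haveI := Groth.Agent.AlgGrp79.isSeparated_grp H
  obtain ⟨A⟩ := Groth.Agent.SGA3a.NonAff.nonempty_affn G
  constructor
  · intro C _ c hC C' _ c' _ _ w _ _ _ hwC
    obtain ⟨hcm, hcmono, T, _, i, hT, hc⟩ := hC
    obtain ⟨him, himono, hTt, -⟩ := Groth.Agent.SGA3a.NonAff.isMaxTorus_of_isMaximalTorus hT
    haveI := him
    haveI := hcm
    obtain ⟨_, _, _, _, _⟩ := Groth.Agent.AlgGrp33.IsogSub.torus_props hTt
    obtain ⟨hCs, hCq, -, -⟩ := A.centralizer_props i hTt c hc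
    haveI := hCs
    haveI := hCq
    obtain ⟨V, _, cv, wT, hcvm, hcvcl, hwm, hw, hwv, hVt⟩ :=
      Groth.Agent.SGA3a.NonAff.exists_torus_image hTt (i ≫ v)
    haveI := hcvm
    haveI := hcvcl
    haveI := hwm
    obtain ⟨VC, _, vc, wc, hvcm, hvccl, hwcm, hwcv, hwc, -, -, -, -⟩ :=
      Groth.Agent.SGA3a.NonAff.exists_smooth_image (c ≫ v)
    haveI := hvcm
    haveI := hvccl
    haveI : Mono vc := Over.mono_of_mono_left vc
    obtain ⟨e, he⟩ := Groth.Agent.SGA3a.NonAff.exists_iso_image hwc hwcv hwC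
    have hT' := Groth.Agent.SGA3a.NonAff.isMaxTorus_of_isMaximalTorus hT
    obtain ⟨-, -, key⟩ := Groth.Agent.SGA3a.NonAff.isCentralizerOf_image v cv wT hT' hVt hw hwv hc vc wc hwc hwcv
    haveI := hw.surj
    refine ⟨inferInstance, inferInstance, V, inferInstance, cv, Groth.Agent.SGA3a.NonAff.isMaximalTorus_of_isMaxTorus
      (Groth.Agent.SGA3a.NonAff.isMaxTorus_image_hom v cv wT hT' hVt hwv), inferInstance, inferInstance,
      fun X g => Iff.trans ?_ (key X g)⟩
    exact ⟨fun ⟨z, hz⟩ => ⟨z ≫ e.inv, by rw [Category.assoc, ← he, Iso.inv_hom_id_assoc, hz]⟩,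
      fun ⟨z, hz⟩ => ⟨z ≫ e.hom, by rw [Category.assoc, he, hz]⟩⟩
  · intro C' _ c' hC'
    obtain ⟨hc'm, hc'mono, T'', _, i'', hT'', hc'⟩ := hC'
    haveI := hc'm
    haveI := hc'mono
    have hmax'' := Groth.Agent.SGA3a.NonAff.isMaxTorus_of_isMaximalTorus hT''
    obtain ⟨hi''m, hi''mono, hT''t, -⟩ := id hmax''
    haveI := hi''m
    haveI := hi''mono
    haveI := Groth.Agent.AGF80.BorelCor.isClosedImmersion_torus H hT''t i''
    obtain ⟨T, _, i, hi⟩ := Groth.Agent.SGA3a.NonAff.exists_maxTorus G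
    obtain ⟨him, himono, hTt, -⟩ := id hi
    haveI := him
    obtain ⟨_, _, _, _, _⟩ := Groth.Agent.AlgGrp33.IsogSub.torus_props hTt
    obtain ⟨V, _, cv, w, hcvm, hcvcl, hwm, hw, hwv, hVt⟩ :=
      Groth.Agent.SGA3a.NonAff.exists_torus_image hTt (i ≫ v)
    haveI := hcvm
    haveI := hcvcl
    haveI := hwm
    have hcv := Groth.Agent.SGA3a.NonAff.isMaxTorus_image_hom v cv w hi hVt hwv
    obtain ⟨g₀, φ, hφ⟩ := Groth.Agent.SGA3a.NonAff.maxTorus_conj hcv hmax''
    obtain ⟨g, rfl⟩ := Groth.Agent.AlgGrp79.BorelImage.exists_pt_lift v g₀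
    have hi₂ := Groth.Agent.AGF80.BorelCor.isMaxTorus_conjBy hi g
    haveI := Groth.Agent.AlgGrp79.BorelConj.isMonHom_conjBy g i
    haveI := Groth.Agent.AlgGrp79.BorelConj.isMonHom_conjBy (g ≫ v) cv
    haveI : IsMonHom φ.hom := Groth.Agent.AlgGrp33.AffineProper.isMonHom_of_mono φ.hom i'' _ hφ.symm
    have hw₂ : (w ≫ φ.hom) ≫ i'' = AGF.conjBy g i ≫ v := by
      rw [Category.assoc, ← hφ, Groth.Agent.AlgGrp79.BorelConj.comp_conjBy, hwv]
      simp only [AGF.conjBy, MonObj.mul_comp, GrpObj.inv_comp, Category.assoc]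
    haveI := hi₂.2.1
    haveI := Groth.Agent.AlgGrp79.isSeparated_grp G
    obtain ⟨C, _, c, hc, -, -⟩ := (Groth.Agent.S3006.result _ G T (AGF.conjBy g i)
      (Groth.Agent.AGF80.BorelCor.isClosedImmersion_torus G hTt (AGF.conjBy g i)) hTt).1
    haveI := hc.1
    obtain ⟨hCs, hCq, -, -⟩ := A.centralizer_props (AGF.conjBy g i) hTt c hc
    haveI := hCs
    haveI := hCq
    obtain ⟨VC, _, vc, wc, hvcm, hvccl, hwcm, hwcv, hwc, -, -, -, -⟩ :=
      Groth.Agent.SGA3a.NonAff.exists_smooth_image (c ≫ v)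
    haveI := hvcm
    haveI := hvccl
    haveI := hwcm
    haveI : Mono vc := Over.mono_of_mono_left vc
    haveI : IsIso φ.hom.left := ((Over.forget _).mapIso φ).isIso_hom
    obtain ⟨-, -, key⟩ := Groth.Agent.SGA3a.NonAff.isCentralizerOf_image v i'' (w ≫ φ.hom) hi₂ hT''t
      (hw.comp (Groth.Agent.AlgGrp79.IsCov.of_left φ.hom)) hw₂ hc vc wc hwc hwcv
    obtain ⟨a, ha⟩ := (hc'.2.2 VC vc).2 ((key VC vc).1 ⟨𝟙 VC, Category.id_comp vc⟩)
    obtain ⟨b, hb⟩ := (key C' c').2 ((hc'.2.2 C' c').1 ⟨𝟙 C', Category.id_comp c'⟩)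
    let E : VC ≅ C' := ⟨a, b, by rw [← cancel_mono vc, Category.assoc, hb, ha, Category.id_comp],
      by rw [← cancel_mono c', Category.assoc, ha, hb, Category.id_comp]⟩
    haveI : IsIso a.left := ((Over.forget _).mapIso E).isIso_hom
    haveI : IsMonHom a := Groth.Agent.AlgGrp33.AffineProper.isMonHom_of_mono a c' vc ha
    haveI := hwc.surj
    haveI := hwc.flat
    refine ⟨C, inferInstance, c, wc ≫ a, ⟨hc.1, hc.2.1, T, inferInstance, AGF.conjBy g i,
      Groth.Agent.SGA3a.NonAff.isMaximalTorus_of_isMaxTorus hi₂, hc⟩, inferInstance, ?_, ?_, ?_⟩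
    · rw [Over.comp_left]; infer_instance
    · rw [Over.comp_left]; infer_instance
    · rw [Category.assoc, ha, hwcv]

end Groth.Agent.S12072
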