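import Groth.Statements.S12076
import Groth.Agent.Roots36.PosSys
import Mathlib.Algebra.Order.Group.PiLex
import Mathlib.Algebra.Order.Monoid.Prod

set_option autoImplicit false
open RootD

namespace Groth.Agent.S12076

/-- Let Δ be a system of simple roots (a base b of a root pairing P over ℤ) and Γ₀ the subgroup
generated by the roots. Then Γ₀ has a structure of totally ordered group for which the roots > 0 are
exactly the positive roots defined by Δ and for which the height (the additive function with value 1
on each simple root) is monotone. The order is given here by its positive cone C ⊆ Γ₀: 0 ∉ C, C + C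
⊆ C, and for every x ≠ 0 exactly one of x, −x lies in C (x < y meaning y − x ∈ C). -/
theorem result {ι M N : Type*} [AddCommGroup M] [AddCommGroup N]
    (P : RootPairing ι ℤ M N) [Finite ι] (b : P.Base) :
    ∃ C : Set ↥(Submodule.span ℤ (Set.range P.root)),
      0 ∉ C ∧ (∀ x ∈ C, ∀ y ∈ C, x + y ∈ C) ∧ (∀ x, x ≠ 0 → (x ∈ C ∨ -x ∈ C)) ∧ (∀ x ∈ C, -x ∉ C) ∧
      (∀ i : ι, (⟨P.root i, Submodule.subset_span (Set.mem_range_self i)⟩ : ↥(Submodule.span ℤ (Set.range P.root))) ∈ C ↔
        b.IsPos i) ∧
      ∀ φ : ↥(Submodule.span ℤ (Set.range P.root)) →+ ℤ,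
        (∀ j ∈ b.support, φ ⟨P.root j, Submodule.subset_span (Set.mem_range_self j)⟩ = 1) →
        ∀ x y : ↥(Submodule.span ℤ (Set.range P.root)), y - x ∈ C → φ x ≤ φ y := by
  have := Fintype.ofFinite ι
  classical
  have hΔ := Roots36.base_isSimpleSys b
  let en := Fintype.equivFin ι
  have hex : ∀ x : ↥(Submodule.span ℤ (Set.range P.root)),
      ∃ c : ι → ℤ, (∀ j ∉ (b.support : Set ι), c j = 0) ∧ (x : M) = Roots36.comb P c := fun x => by
    refine Roots36.exists_comb_of_mem_span ((Submodule.span_le.mpr ?_) x.2)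
    rintro _ ⟨l, rfl⟩
    rw [Roots36.root_eq_comb hΔ l]
    exact Roots36.comb_mem_span fun j hj => Roots36.coef_eq_zero hΔ hj
  choose c hc0 hce using hex
  have hadd : ∀ x y, c (x + y) = c x + c y := fun x y => Roots36.comb_inj hΔ (hc0 _)
    (fun j hj => by simp [hc0 x j hj, hc0 y j hj])
    (by rw [Roots36.comb_add, ← hce, ← hce, ← hce]; rfl)
  let L : ↥(Submodule.span ℤ (Set.range P.root)) →+ ℤ ×ₗ Lex (Fin (Fintype.card ι) → ℤ) :=
    AddMonoidHom.mk' (fun x => toLex (∑ j, c x j, toLex fun n => c x (en.symm n))) (fun x y => by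
      simp only [hadd, Pi.add_apply, Finset.sum_add_distrib]
      rfl)
  have hL : ∀ x, L x = 0 → x = 0 := fun x hx => by
    have h2 := congrArg (fun z => ofLex (ofLex z).2) hx
    apply Subtype.ext
    have : c x = 0 := funext fun j => by simpa [L] using (show c x (en.symm (en j)) = (0 : ℤ) from congrFun h2 (en j))
    rw [hce x, this, Roots36.comb_zero]; rfl
  have hroot : ∀ i, c ⟨P.root i, Submodule.subset_span (Set.mem_range_self i)⟩ = Roots36.coef hΔ i :=
    fun i => (Roots36.coef_eq hΔ (hc0 _) (hce ⟨P.root i, Submodule.subset_span (Set.mem_range_self i)⟩)).symm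
  refine ⟨{x | 0 < L x}, by simp, fun x hx y hy => ?_, fun x hx => ?_, fun x hx => ?_, fun i => ?_, ?_⟩
  · simp only [Set.mem_ofPred_eq, map_add] at hx hy ⊢
    exact add_pos hx hy
  · simp only [Set.mem_ofPred_eq, map_neg, neg_pos]
    exact ((ne_iff_lt_or_gt.mp fun h => hx (hL x h))).symm
  · simp only [Set.mem_ofPred_eq, map_neg, neg_pos] at hx ⊢
    exact not_lt.mpr hx.le
  · rw [RootPairing.Base.isPos_iff, Roots36.height_eq_ht, Set.mem_ofPred_eq]
    constructor
    · intro h
      rw [Prod.Lex.lt_iff] at h
      rcases h with h | h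
      · simpa [L, hroot, Roots36.ht] using h
      · exfalso
        have h1 : (0 : ℤ) = Roots36.ht hΔ i := by simpa [L, hroot, Roots36.ht] using h.1
        have := Roots36.ht_pos hΔ (Roots36.posOf_of_ht_nonneg hΔ h1.le)
        lia
    · intro h
      rw [Prod.Lex.lt_iff]
      exact Or.inl (by simpa [L, hroot, Roots36.ht] using h)
  · intro φ hφ x y hxy
    have hφc : ∀ z, φ z = ∑ j, c z j := by
      intro z
      have : z = ∑ j, c z j • (⟨P.root j, Submodule.subset_span (Set.mem_range_self j)⟩ :
          ↥(Submodule.span ℤ (Set.range P.root))) := by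
        apply Subtype.ext
        rw [hce z]
        simp [Roots36.comb]
      conv_lhs => rw [this]
      rw [map_sum]
      refine Finset.sum_congr rfl fun j _ => ?_
      by_cases hj : j ∈ b.support
      · rw [map_zsmul, hφ j hj, smul_eq_mul, mul_one]
      · rw [hc0 z j (by simpa using hj), zero_smul, map_zero]
    have h : 0 < L (y - x) := hxy
    rw [Prod.Lex.lt_iff] at h
    have h' : 0 ≤ φ (y - x) := by
      rw [hφc]
      rcases h with h | h
      · exact le_of_lt (by simpa [L] using h)
      · exact le_of_eq (by simpa [L] using h.1)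
    rw [map_sub] at h'
    lia

end Groth.Agent.S12076
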