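import Groth.Statements.S12077
import Mathlib.RingTheory.AdjoinRoot
import Mathlib.Algebra.Colimit.Ring
import Mathlib.Algebra.Polynomial.BigOperators
import Mathlib.RingTheory.MvPolynomial.Basic
import Mathlib.Data.Finset.Order

set_option autoImplicit false
universe u
open Polynomial
open CAlg

namespace Groth.Agent.S12077

open Polynomial in
theorem split_one : ∀ (d : ℕ) (A : Type u) [CommRing A] [Nontrivial A] (f : A[X]), f.Monic → f.natDegree = d →
    ∃ (C' : Type u) (_ : CommRing C') (φ : A →+* C'), Function.Injective φ ∧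
      ∃ s : Multiset C', f.map φ = (s.map fun b => X - C b).prod := by
  intro d
  induction d with
  | zero =>
    intro A _ _ f hf hd
    exact ⟨A, inferInstance, RingHom.id A, Function.injective_id, 0, by
      rw [map_id, eq_one_of_monic_natDegree_zero hf hd]; rfl⟩
  | succ d ih =>
    intro A _ _ f hf hd
    let B := AdjoinRoot f
    have hinj : Function.Injective (AdjoinRoot.of f) := (injective_iff_map_eq_zero _).2 fun a ha => by
      by_contra hne
      refine hf.not_dvd_of_natDegree_lt (C_ne_zero.2 hne) (by rw [natDegree_C, hd]; omega) ?_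
      rw [← AdjoinRoot.mk_eq_zero, AdjoinRoot.mk_C]
      exact ha
    haveI : Nontrivial B := hinj.nontrivial
    have hroot : (f.map (AdjoinRoot.of f)).IsRoot (AdjoinRoot.root f) := AdjoinRoot.isRoot_root f
    obtain ⟨g, hg⟩ := dvd_iff_isRoot.2 hroot
    have hgm : g.Monic := (monic_X_sub_C _).of_mul_monic_left (hg ▸ hf.map _)
    have hgd : g.natDegree = d := by
      have h := congrArg natDegree hg
      rw [hf.natDegree_map, (monic_X_sub_C _).natDegree_mul hgm, natDegree_X_sub_C, hd] at h
      omega
    obtain ⟨C', _, ψ, hψ, s, hs⟩ := ih B g hgm hgd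
    refine ⟨C', inferInstance, ψ.comp (AdjoinRoot.of f), hψ.comp hinj, ψ (AdjoinRoot.root f) ::ₘ s, ?_⟩
    rw [← Polynomial.map_map, hg, Polynomial.map_mul, Polynomial.map_sub, map_X, map_C, hs, Multiset.map_cons,
      Multiset.prod_cons]

open Polynomial in
theorem split_finset {A : Type u} [CommRing A] [Nontrivial A] (F : Finset A[X]) (hF : ∀ f ∈ F, f.Monic) :
    ∃ (C' : Type u) (_ : CommRing C') (φ : A →+* C'), Function.Injective φ ∧
      ∀ f ∈ F, ∃ s : Multiset C', f.map φ = (s.map fun b => X - C b).prod := by
  classical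
  induction F using Finset.induction with
  | empty => exact ⟨A, inferInstance, RingHom.id A, Function.injective_id, by simp⟩
  | insert g F hg ih =>
    obtain ⟨C', _, φ, hφ, h⟩ := ih fun f hf => hF f (Finset.mem_insert_of_mem hf)
    haveI : Nontrivial C' := hφ.nontrivial
    obtain ⟨C'', _, ψ, hψ, s, hs⟩ := split_one _ C' (g.map φ) ((hF g (Finset.mem_insert_self _ _)).map φ) rfl
    refine ⟨C'', inferInstance, ψ.comp φ, hψ.comp hφ, fun f hf => ?_⟩
    rcases Finset.mem_insert.1 hf with rfl | hf
    · exact ⟨s, by rw [← Polynomial.map_map, hs]⟩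
    · obtain ⟨t, ht⟩ := h f hf
      refine ⟨t.map ψ, ?_⟩
      rw [← Polynomial.map_map, ht, Polynomial.map_multiset_prod, Multiset.map_map, Multiset.map_map]
      simp [Function.comp_def]

open Polynomial in
theorem step (A : Type u) [CommRing A] :
    ∃ (B : Type u) (_ : CommRing B) (φ : A →+* B), Function.Injective φ ∧
      ∀ f : A[X], f.Monic → ∃ s : Multiset B, f.map φ = (s.map fun b => X - C b).prod := by
  classical
  let σ := Σ f : {f : A[X] // f.Monic}, Fin f.1.natDegree
  let P := MvPolynomial σ A
  let D : {f : A[X] // f.Monic} → P[X] := fun f =>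
    f.1.map MvPolynomial.C - ∏ i, (X - C (MvPolynomial.X (⟨f, i⟩ : σ)))
  let I : Ideal P := Ideal.span (Set.range fun z : {f : A[X] // f.Monic} × ℕ => (D z.1).coeff z.2)
  refine ⟨P ⧸ I, inferInstance, (Ideal.Quotient.mk I).comp MvPolynomial.C, ?_, fun f hf => ?_⟩
  · rcases subsingleton_or_nontrivial A with _ | _
    · exact Function.injective_of_subsingleton _
    refine (injective_iff_map_eq_zero _).2 fun a ha => ?_
    rw [RingHom.comp_apply, Ideal.Quotient.eq_zero_iff_mem] at ha
    obtain ⟨T, hT, hTa⟩ := Submodule.mem_span_finite_of_mem_span ha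
    choose z hz using fun t : T => hT t.2
    let F : Finset A[X] := (Finset.univ : Finset T).image fun t => (z t).1.1
    obtain ⟨C', _, φ, hφ, h⟩ := split_finset F fun f hf => by
      obtain ⟨t, -, rfl⟩ := Finset.mem_image.1 hf; exact (z t).1.2
    haveI : Nontrivial C' := hφ.nontrivial
    choose s hs using h
    let v : σ → C' := fun w => if hw : w.1.1 ∈ F then (s _ hw).toList.getD w.2 0 else 0
    refine hφ (?_ : φ a = φ 0)
    rw [map_zero, ← MvPolynomial.eval₂Hom_C φ v a]
    have hle : Submodule.span P (T : Set P) ≤ RingHom.ker (MvPolynomial.eval₂Hom φ v) := by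
      rw [Submodule.span_le]
      intro t ht
      show MvPolynomial.eval₂Hom φ v t = 0
      rcases hzt : z ⟨t, ht⟩ with ⟨g, k⟩
      rw [show t = (D (z ⟨t, ht⟩).1).coeff (z ⟨t, ht⟩).2 from (hz ⟨t, ht⟩).symm, hzt]
      have hgF : g.1 ∈ F := Finset.mem_image.2 ⟨⟨t, ht⟩, Finset.mem_univ _, by rw [hzt]⟩
      rw [← coeff_map, show (D g).map (MvPolynomial.eval₂Hom φ v) = 0 from ?_, coeff_zero]
      have hcard : (s _ hgF).toList.length = g.1.natDegree := by
        have h1 := congrArg natDegree (hs _ hgF)
        rw [g.2.natDegree_map, natDegree_multiset_prod_X_sub_C_eq_card] at h1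
        rw [Multiset.length_toList, h1]
      simp only [D, Polynomial.map_sub, Polynomial.map_map, Polynomial.map_prod, map_X,
        map_C]
      rw [show (MvPolynomial.eval₂Hom φ v).comp MvPolynomial.C = φ from RingHom.ext fun x => MvPolynomial.eval₂Hom_C φ v x,
        hs _ hgF, sub_eq_zero]
      simp only [MvPolynomial.eval₂Hom_X', v, dif_pos hgF]
      conv_lhs => rw [← Multiset.coe_toList (s _ hgF), Multiset.map_coe, Multiset.prod_coe]
      rw [← List.prod_ofFn]
      refine congrArg List.prod (List.ext_getElem (by simp [hcard]) fun i h1 h2 => ?_)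
      rw [List.length_map] at h1
      simp [List.getD, List.getElem?_eq_getElem h1]
    exact hle hTa
  · refine ⟨Finset.univ.val.map fun i => Ideal.Quotient.mk I (MvPolynomial.X (⟨⟨f, hf⟩, i⟩ : σ)), ?_⟩
    have h0 : (D ⟨f, hf⟩).map (Ideal.Quotient.mk I) = 0 := by
      ext k
      rw [coeff_map, coeff_zero, Ideal.Quotient.eq_zero_iff_mem]
      exact Ideal.subset_span ⟨(⟨f, hf⟩, k), rfl⟩
    simp only [D, Polynomial.map_sub, Polynomial.map_map, Polynomial.map_prod, map_X, map_C, sub_eq_zero] at h0
    rw [h0, Finset.prod_eq_multiset_prod, Multiset.map_map]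
    rfl

open Polynomial in

/-- Every commutative ring `A` admits an injective ring map into an absolutely integrally closed
commutative ring `B`, that is, one over which every monic polynomial is a product of linear factors
`X - b`. (Only the existence of such an extension is stated, not the finer structure of the
construction.) -/
theorem result (A : Type u) [CommRing A] :
    ∃ (B : Type u) (_ : CommRing B) (_ : Algebra A B), Function.Injective (algebraMap A B) ∧
      ∀ f : B[X], f.Monic → ∃ s : Multiset B, f = (s.map fun b => X - C b).prod := by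
  classical
  let S := Σ' (B : Type u), CommRing B
  let next : S → S := fun s => ⟨(@step s.1 s.2).choose, (@step s.1 s.2).choose_spec.choose⟩
  let GS : ℕ → S := fun n => next^[n] ⟨A, inferInstance⟩
  let G : ℕ → Type u := fun n => (GS n).1
  letI : ∀ n, CommRing (G n) := fun n => (GS n).2
  have key : ∀ s t : S, t = next s → letI := s.2; letI := t.2; ∃ φ : s.1 →+* t.1, Function.Injective φ ∧
      ∀ f : (s.1)[X], f.Monic → ∃ r : Multiset t.1, @Eq (Polynomial t.1) (f.map φ) (Multiset.prod (Multiset.map (fun b : t.1 => (Polynomial.X : Polynomial t.1) - Polynomial.C b) r)) := by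
    rintro s t rfl
    exact (@step s.1 s.2).choose_spec.choose_spec
  have hG : ∀ n, ∃ φ : G n →+* G (n + 1), Function.Injective φ ∧
      ∀ f : (G n)[X], f.Monic → ∃ s : Multiset (G (n + 1)), f.map φ = (s.map fun b => X - C b).prod := fun n =>
    key (GS n) (GS (n + 1)) (Function.iterate_succ_apply' next n _)
  choose ι hι hsplit using hG
  let f : ∀ i j, i ≤ j → G i →+* G j := fun i j h => Nat.leRecOn h (fun {k} g => (ι k).comp g) (RingHom.id (G i))
  have hself : ∀ i x, f i i le_rfl x = x := fun i x => by simp [f, Nat.leRecOn_self]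
  have hsucc : ∀ i j (h : i ≤ j), f i (j + 1) (h.trans j.le_succ) = (ι j).comp (f i j h) := fun i j h =>
    Nat.leRecOn_succ h _
  haveI : DirectedSystem G fun i j h => f i j h :=
    { map_self := hself
      map_map := fun k j i hij hjk x => by
        induction hjk using Nat.leRec with
        | refl => exact hself _ _
        | le_succ_of_le h ih => rw [hsucc j _ h, RingHom.comp_apply, ih, hsucc i _ (hij.trans h)]; rfl }
  have hfinj : ∀ i j h, Function.Injective (f i j h) := fun i j h => by
    induction h using Nat.leRec with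
    | refl => intro x y hxy; rwa [hself, hself] at hxy
    | le_succ_of_le h ih => rw [hsucc i _ h]; exact (hι _).comp ih
  let L := Ring.DirectLimit G fun i j h => f i j h
  let o : ∀ i, G i →+* L := fun i => Ring.DirectLimit.of G (fun i j h => f i j h) i
  refine ⟨L, inferInstance, (o 0).toAlgebra, Ring.DirectLimit.of_injective (f' := f) hfinj 0, fun g hg => ?_⟩
  choose i c hc using fun k : Fin g.natDegree => Ring.DirectLimit.exists_of (g.coeff k)
  obtain ⟨N, hN⟩ := Finset.exists_le (Finset.univ.image i)
  let c' : Fin g.natDegree → G N := fun k => f (i k) N (hN _ (Finset.mem_image_of_mem i (Finset.mem_univ k))) (c k)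
  have hc' : ∀ k, o N (c' k) = g.coeff k := fun k => by
    exact (Ring.DirectLimit.of_f _ _).trans (hc k)
  rcases subsingleton_or_nontrivial (G N) with _ | _
  · haveI : Subsingleton L := (subsingleton_iff_zero_eq_one.1 (by
      rw [← map_zero (o N), ← map_one (o N), Subsingleton.elim (0 : G N) 1]))
    exact ⟨0, Subsingleton.elim _ _⟩
  let g' : (G N)[X] := X ^ g.natDegree + ∑ k : Fin g.natDegree, C (c' k) * X ^ (k : ℕ)
  have hg' : g'.Monic := monic_X_pow_add (degree_sum_fin_lt c')
  have hmap : g'.map (o N) = g := by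
    simp only [g', Polynomial.map_add, Polynomial.map_pow, map_X, Polynomial.map_sum, Polynomial.map_mul, map_C, hc']
    rw [← Finset.sum_range (fun k => C (g.coeff k) * X ^ k)]
    conv_rhs => rw [hg.as_sum]
  obtain ⟨s, hs⟩ := hsplit N g' hg'
  refine ⟨s.map (o (N + 1)), ?_⟩
  have hcomp : (o (N + 1)).comp (ι N) = o N := RingHom.ext fun x => by
    show o (N + 1) (ι N x) = o N x
    have h1 : f N (N + 1) N.le_succ = ι N := by
      rw [hsucc N N le_rfl]; exact RingHom.ext fun y => congrArg (ι N) (hself N y)
    rw [← h1]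
    exact Ring.DirectLimit.of_f _ x
  rw [← hmap, ← hcomp, ← Polynomial.map_map, hs, Polynomial.map_multiset_prod, Multiset.map_map, Multiset.map_map]
  simp [Function.comp_def]

end Groth.Agent.S12077
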