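import Groth.Statements.S12078
import Mathlib.RingTheory.Bezout
import Mathlib.LinearAlgebra.Matrix.Notation

set_option autoImplicit false
universe u
open CAlg

namespace Groth.Agent.S12078

/-- An elementary divisor domain is Bézout. Here `R` is a domain such that for all `n, m ≥ 1` and every
`n × m` matrix `A` there are invertible matrices `U` (`n × n`) and `V` (`m × m`) with `U * A * V`
zero off the diagonal and with diagonal entries `f 0 ∣ f 1 ∣ f 2 ∣ …`; the conclusion is that every
finitely generated ideal of `R` is principal. -/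
theorem result (R : Type u) [CommRing R] [IsDomain R]
    (hR : ∀ n m : ℕ, 1 ≤ n → 1 ≤ m → ∀ A : Matrix (Fin n) (Fin m) R,
      ∃ (U : (Matrix (Fin n) (Fin n) R)ˣ) (V : (Matrix (Fin m) (Fin m) R)ˣ) (f : ℕ → R),
        (∀ k : ℕ, f k ∣ f (k + 1)) ∧
        ∀ (i : Fin n) (j : Fin m), ((U : Matrix (Fin n) (Fin n) R) * A * (V : Matrix (Fin m) (Fin m) R)) i j =
          if (i : ℕ) = (j : ℕ) then f i else 0) :
    IsBezout R := by
  rw [IsBezout.iff_span_pair_isPrincipal]
  intro a b
  obtain ⟨U, V, f, -, hf⟩ := hR 1 2 le_rfl (by norm_num) !![a, b]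
  set M : Matrix (Fin 1) (Fin 2) R := !![a, b] with hM
  set D := (U : Matrix (Fin 1) (Fin 1) R) * M * (V : Matrix (Fin 2) (Fin 2) R) with hD
  have hback : ((U⁻¹ : (Matrix (Fin 1) (Fin 1) R)ˣ) : Matrix (Fin 1) (Fin 1) R) * D *
      ((V⁻¹ : (Matrix (Fin 2) (Fin 2) R)ˣ) : Matrix (Fin 2) (Fin 2) R) = M := by
    rw [hD]
    simp only [Matrix.mul_assoc, Units.mul_inv, Matrix.mul_one]
    rw [← Matrix.mul_assoc, Units.inv_mul, Matrix.one_mul]
  change ∀ (i : Fin 1) (j : Fin 2), D i j = _ at hf
  refine ⟨⟨f 0, le_antisymm (Ideal.span_le.2 ?_) ((Ideal.span_singleton_le_iff_mem _).2 ?_)⟩⟩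
  · have hall : ∀ j, M 0 j ∈ Ideal.span {f 0} := by
      intro j
      rw [← hback, Matrix.mul_apply]
      refine Submodule.sum_mem _ fun l _ => Ideal.mul_mem_right _ _ ?_
      rw [Matrix.mul_apply]
      refine Submodule.sum_mem _ fun i _ => Ideal.mul_mem_left _ _ ?_
      rw [hf]
      split_ifs with h
      · rw [show (i : ℕ) = 0 by omega]; exact Ideal.mem_span_singleton_self _
      · exact zero_mem _
    rintro x (rfl | rfl)
    · exact hall 0
    · exact hall 1
  · have h00 := hf 0 0
    simp only [Fin.val_zero, if_true] at h00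
    rw [← h00, hD, Matrix.mul_apply]
    refine Submodule.sum_mem _ fun l _ => Ideal.mul_mem_right _ _ ?_
    rw [Matrix.mul_apply]
    refine Submodule.sum_mem _ fun i _ => Ideal.mul_mem_left _ _ (Ideal.subset_span ?_)
    fin_cases i <;> fin_cases l <;> simp [hM]

end Groth.Agent.S12078
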