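import Groth.Statements.S12079
import Mathlib.LinearAlgebra.Contraction
import Mathlib.RingTheory.Flat.Basic
import Mathlib.Algebra.Module.FinitePresentation
import Mathlib.LinearAlgebra.TensorProduct.RightExactness

set_option autoImplicit false
universe u
open TensorProduct
open CAlg

namespace Groth.Agent.S12079

open TensorProduct in
theorem nat {R : Type u} [CommRing R] {M M' N L : Type u} [AddCommGroup M] [Module R M] [AddCommGroup M']
    [Module R M'] [AddCommGroup N] [Module R N] [AddCommGroup L] [Module R L] (f : M' →ₗ[R] M)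
    (z : (M →ₗ[R] N) ⊗[R] L) :
    rTensorHomToHomRTensor (RingHom.id R) M' N L ((LinearMap.lcomp R N f).rTensor L z) =
      rTensorHomToHomRTensor (RingHom.id R) M N L z ∘ₗ f := by
  induction z using TensorProduct.induction_on with
  | zero => simp
  | add a b ha hb => simp only [map_add, ha, hb, LinearMap.add_comp]
  | tmul φ l => ext m; simp

open TensorProduct in
theorem bij_free {R : Type u} [CommRing R] (M N L : Type u) [AddCommGroup M] [Module R M] [AddCommGroup N]
    [Module R N] [AddCommGroup L] [Module R L] [Module.Free R M] [Module.Finite R M] :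
    Function.Bijective (rTensorHomToHomRTensor (RingHom.id R) M N L) := by
  rw [← rTensorHomEquivHomRTensor_toLinearMap R M N L]
  exact (rTensorHomEquivHomRTensor R M N L).bijective

open TensorProduct in
theorem inj {R : Type u} [CommRing R] (M N L : Type u) [AddCommGroup M] [Module R M] [AddCommGroup N]
    [Module R N] [AddCommGroup L] [Module R L] [Module.Finite R M] [Module.Flat R L] :
    Function.Injective (rTensorHomToHomRTensor (RingHom.id R) M N L) := by
  obtain ⟨n, p, hp⟩ := Module.Finite.exists_fin' R M
  intro a b hab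
  refine Module.Flat.rTensor_preserves_injective_linearMap (M := L) (LinearMap.lcomp R N p)
    (fun f g h => (LinearMap.cancel_right hp).1 h) ((bij_free _ N L).1 ?_)
  rw [nat, nat, hab]

/-- For a finitely presented `R`-module `M`, any `R`-module `N` and a flat `R`-module `L`, the canonical
map `Hom_R(M, N) ⊗_R L → Hom_R(M, N ⊗_R L)` sending `f ⊗ l` to `m ↦ f m ⊗ l` is bijective. -/
theorem result (R : Type u) [CommRing R]
    (M N L : Type u) [AddCommGroup M] [Module R M] [AddCommGroup N] [Module R N] [AddCommGroup L] [Module R L]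
    [Module.FinitePresentation R M] [Module.Flat R L] :
    Function.Bijective (TensorProduct.rTensorHomToHomRTensor (RingHom.id R) M N L) := by
  obtain ⟨n, K, e, hK⟩ := Module.FinitePresentation.exists_fin R M
  let p : (Fin n → R) →ₗ[R] M := e.symm.toLinearMap ∘ₗ K.mkQ
  have hp : Function.Surjective p := e.symm.surjective.comp K.mkQ_surjective
  have hK' : ∀ x, p x = 0 ↔ x ∈ K := fun x => by
    rw [← Submodule.Quotient.mk_eq_zero K]; exact e.symm.map_eq_zero_iff
  haveI : Module.Finite R K := Module.Finite.iff_fg.2 hK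
  refine ⟨inj M N L, fun ψ => ?_⟩
  obtain ⟨y, hy⟩ := (bij_free (Fin n → R) N L).2 (ψ ∘ₗ p)
  have hex : Function.Exact (LinearMap.lcomp R N p) (LinearMap.lcomp R N K.subtype) := by
    intro f
    refine ⟨fun h => ⟨K.liftQ f (fun x hx => LinearMap.congr_fun h ⟨x, hx⟩) ∘ₗ e.toLinearMap, ?_⟩, ?_⟩
    · refine LinearMap.ext fun x => ?_
      rw [LinearMap.lcomp_apply, LinearMap.comp_apply]
      show (K.liftQ f (fun x hx => LinearMap.congr_fun h ⟨x, hx⟩)) (e (e.symm (Submodule.Quotient.mk x))) = f x
      rw [e.apply_symm_apply]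
      rfl
    · rintro ⟨g, rfl⟩
      ext x
      show g (p x) = 0
      rw [(hK' _).2 x.2, map_zero]
  have h0 : (LinearMap.lcomp R N K.subtype).rTensor L y = 0 := by
    refine inj K N L ?_
    rw [nat, hy, map_zero, LinearMap.comp_assoc]
    ext x
    show ψ (p x) = 0
    rw [(hK' _).2 x.2, map_zero]
  obtain ⟨z, hz⟩ := ((Module.Flat.rTensor_exact L hex) y).1 h0
  refine ⟨z, (LinearMap.cancel_right hp).1 ?_⟩
  rw [← hy, ← hz, nat]

end Groth.Agent.S12079
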