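import Groth.Statements.S12083
import Mathlib.RingTheory.TensorProduct.MvPolynomial
import Mathlib.RingTheory.IsTensorProduct
import Mathlib.RingTheory.FinitePresentation
import Mathlib.Algebra.Module.FinitePresentation

set_option autoImplicit false
universe u
open CAlg

namespace Groth.Agent.S12083

open TensorProduct in
theorem fp_of_surjective {B C N : Type u} [CommRing B] [CommRing C] [Algebra B C]
    (h : Function.Surjective (algebraMap B C)) [AddCommGroup N] [Module B N] [Module C N] [IsScalarTower B C N]
    [Module.FinitePresentation B N] : Module.FinitePresentation C N := by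
  let e : C ⊗[B] N →ₗ[C] N := LinearMap.liftBaseChange C (LinearMap.id : N →ₗ[B] N)
  have he : ∀ c x, e (c ⊗ₜ x) = c • x := fun c x => LinearMap.liftBaseChange_tmul _ _ _ _
  have hinv : ∀ z, (1 : C) ⊗ₜ[B] e z = z := fun z => by
    induction z using TensorProduct.induction_on with
    | zero => simp
    | add u v hu hv => rw [map_add, tmul_add, hu, hv]
    | tmul c x =>
      obtain ⟨b, rfl⟩ := h c
      rw [he, algebraMap_smul, tmul_smul, smul_tmul', Algebra.algebraMap_eq_smul_one]
  have hb : Function.Bijective e :=
    ⟨fun a b hab => by rw [← hinv a, hab, hinv], fun x => ⟨1 ⊗ₜ x, by rw [he, one_smul]⟩⟩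
  exact Module.FinitePresentation.of_equiv (LinearEquiv.ofBijective e hb)

theorem up {B C N : Type u} [CommRing B] [CommRing C] [AddCommGroup N] [Module C N] (f : B →+* C)
    (hf : Function.Surjective f) (hk : (RingHom.ker f).FG) [Module.FinitePresentation C N] :
    @Module.FinitePresentation B N _ _ (Module.compHom N f) := by
  letI := f.toAlgebra
  letI := Module.compHom N f
  haveI : IsScalarTower B C N := IsScalarTower.of_algebraMap_smul fun _ _ => rfl
  haveI : Module.FinitePresentation B C := Module.finitePresentation_of_surjective (Algebra.linearMap B C) hf hk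
  exact Module.FinitePresentation.trans B N C

theorem down {B C N : Type u} [CommRing B] [CommRing C] [AddCommGroup N] [Module C N] (f : B →+* C)
    (hf : Function.Surjective f) (h : @Module.FinitePresentation B N _ _ (Module.compHom N f)) :
    Module.FinitePresentation C N := by
  letI := f.toAlgebra
  letI := Module.compHom N f
  haveI : IsScalarTower B C N := IsScalarTower.of_algebraMap_smul fun _ _ => rfl
  exact fp_of_surjective hf

theorem congr_fp {B N : Type u} [CommRing B] [AddCommGroup N] (m₁ m₂ : Module B N)
    (h : ∀ (b : B) (x : N), (letI := m₁; b • x) = (letI := m₂; b • x))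
    (hfp : @Module.FinitePresentation B N _ _ m₁) : @Module.FinitePresentation B N _ _ m₂ := by
  have : m₁ = m₂ := by ext b x; exact h b x
  rwa [← this]

open MvPolynomial in
theorem change {R' A' N : Type u} [CommRing R'] [CommRing A'] [Algebra R' A'] [AddCommGroup N] [Module A' N] {n k : ℕ}
    (α' : MvPolynomial (Fin n) R' →ₐ[R'] A') (hα : Function.Surjective α')
    (γ : MvPolynomial (Fin k) R' →ₐ[R'] A') (hγ : Function.Surjective γ)
    (h : @Module.FinitePresentation (MvPolynomial (Fin n) R') N _ _ (Module.compHom N α'.toRingHom)) :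
    @Module.FinitePresentation (MvPolynomial (Fin k) R') N _ _ (Module.compHom N γ.toRingHom) := by
  classical
  choose b hb using fun j : Fin k => hα (γ (X j))
  choose c hc using fun i : Fin n => hγ (α' (X i))
  let Q := MvPolynomial (Fin n ⊕ Fin k) R'
  let q : Q →ₐ[R'] MvPolynomial (Fin n) R' := aeval (Sum.elim X b)
  let q' : Q →ₐ[R'] MvPolynomial (Fin k) R' := aeval (Sum.elim c X)
  have hq : Function.Surjective q := fun z => ⟨rename Sum.inl z, by
    show aeval (Sum.elim X b) (rename Sum.inl z) = z
    rw [aeval_rename, Sum.elim_comp_inl, aeval_X_left_apply]⟩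
  have hq' : Function.Surjective q' := fun z => ⟨rename Sum.inr z, by
    show aeval (Sum.elim c X) (rename Sum.inr z) = z
    rw [aeval_rename, Sum.elim_comp_inr, aeval_X_left_apply]⟩
  have hcomm : α'.comp q = γ.comp q' := by
    ext i
    cases i <;> simp [q, q', hb, hc]
  have hkq : (RingHom.ker q.toRingHom).FG := Algebra.FinitePresentation.ker_fG_of_surjective q hq
  letI := Module.compHom N α'.toRingHom
  haveI := h
  have hQ := up (N := N) q.toRingHom hq hkq
  letI := Module.compHom N γ.toRingHom
  refine down q'.toRingHom hq' (congr_fp _ _ (fun z x => ?_) hQ)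
  show α' (q z) • x = γ (q' z) • x
  rw [← AlgHom.comp_apply, hcomm, AlgHom.comp_apply]

open TensorProduct MvPolynomial in
attribute [local instance] MvPolynomial.algebraMvPolynomial in
theorem baseChange_fp {R A R' A' : Type u} [CommRing R] [CommRing A] [CommRing R'] [CommRing A']
    [Algebra R A] [Algebra R R'] [Algebra A A'] [Algebra R' A'] [Algebra R A'] [IsScalarTower R A A'] [IsScalarTower R R' A']
    [Algebra.IsPushout R A R' A'] (M : Type u) [AddCommGroup M] [Module A M] {n : ℕ}
    (α : MvPolynomial (Fin n) R →ₐ[R] A)
    (hM : @Module.FinitePresentation (MvPolynomial (Fin n) R) M _ _ (Module.compHom M α.toRingHom))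
    (α' : MvPolynomial (Fin n) R' →ₐ[R'] A') (hcompat : ∀ p, α' (MvPolynomial.map (algebraMap R R') p) = algebraMap A A' (α p)) :
    @Module.FinitePresentation (MvPolynomial (Fin n) R') (TensorProduct A A' M) _ _
      (Module.compHom (TensorProduct A A' M) α'.toRingHom) := by
  haveI : Algebra.IsPushout R R' A A' := Algebra.IsPushout.symm ‹_›
  let N := A' ⊗[A] M
  letI : Module R M := Module.compHom M (algebraMap R A)
  haveI : IsScalarTower R A M := IsScalarTower.of_algebraMap_smul fun _ _ => rfl
  let P := MvPolynomial (Fin n) R
  let P' := MvPolynomial (Fin n) R'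
  letI : Module P M := Module.compHom M α.toRingHom
  haveI := hM
  haveI : IsScalarTower R P M := IsScalarTower.of_algebraMap_smul fun r x => by
    show α (algebraMap R P r) • x = r • x
    rw [AlgHom.commutes, algebraMap_smul]
  letI : Module P' N := Module.compHom N α'.toRingHom
  letI : Module P N := Module.compHom N (α'.toRingHom.comp (MvPolynomial.map (algebraMap R R')))
  haveI : IsScalarTower P P' N := IsScalarTower.of_algebraMap_smul fun p x => rfl
  haveI : IsScalarTower R' P' N := IsScalarTower.of_algebraMap_smul fun r x => by
    show α' (algebraMap R' P' r) • x = r • x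
    rw [AlgHom.commutes, algebraMap_smul]
  let g : M →ₗ[P] N :=
    { toFun := fun m => 1 ⊗ₜ m
      map_add' := fun a b => tmul_add _ _ _
      map_smul' := fun p m => by
        show (1 : A') ⊗ₜ[A] (α p • m) = α' (MvPolynomial.map (algebraMap R R') p) • ((1 : A') ⊗ₜ[A] m)
        rw [hcompat, algebraMap_smul, tmul_smul] }
  refine @Module.FinitePresentation.of_equiv P' (P' ⊗[P] M) N _ _ _ _ _ (LinearEquiv.ofBijective (LinearMap.liftBaseChange P' g) ?_) inferInstance
  have key : ∀ z, LinearMap.liftBaseChange P' g ((Algebra.IsPushout.cancelBaseChange R R' P P' M).symm z) =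
      (Algebra.IsPushout.cancelBaseChange R R' A A' M).symm z := fun z => by
    induction z using TensorProduct.induction_on with
    | zero => simp
    | add u v hu hv => simp only [map_add, hu, hv]
    | tmul s m =>
      rw [Algebra.IsPushout.cancelBaseChange_symm_tmul, Algebra.IsPushout.cancelBaseChange_symm_tmul,
        LinearMap.liftBaseChange_tmul]
      show α' (algebraMap R' P' s) • ((1 : A') ⊗ₜ[A] m) = _
      rw [AlgHom.commutes, smul_tmul', smul_eq_mul, mul_one]
  have h2 : (LinearMap.liftBaseChange P' g : P' ⊗[P] M → N) =
      (Algebra.IsPushout.cancelBaseChange R R' A A' M).symm ∘ (Algebra.IsPushout.cancelBaseChange R R' P P' M) :=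
    funext fun z => by rw [Function.comp_apply, ← key, LinearEquiv.symm_apply_apply]
  rw [h2]
  exact (LinearEquiv.bijective _).comp (LinearEquiv.bijective _)

open MvPolynomial in

/-- Let `R → A` be a finite type ring map with a surjective presentation `α : R[x_1, …, x_n] → A` and
`M` an `A`-module finitely presented relative to `R` (finitely presented as an `R[x_1, …,
x_n]`-module through `α`). For a ring map `R → R'` let `A' = R' ⊗_R A` (a pushout square) and `γ :
R'[z_1, …, z_k] → A'` any surjective presentation. Then `A' ⊗_A M = R' ⊗_R M` is finitely presented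
relative to `R'`, i.e. finitely presented as an `R'[z_1, …, z_k]`-module through `γ`. -/
theorem result {R A R' A' : Type u} [CommRing R] [CommRing A] [CommRing R'] [CommRing A']
    [Algebra R A] [Algebra R R'] [Algebra A A'] [Algebra R' A'] [Algebra R A'] [IsScalarTower R A A'] [IsScalarTower R R' A']
    [Algebra.IsPushout R A R' A'] [Algebra.FiniteType R A] (M : Type u) [AddCommGroup M] [Module A M] {n k : ℕ}
    (α : MvPolynomial (Fin n) R →ₐ[R] A) (hα : Function.Surjective α)
    (hM : @Module.FinitePresentation (MvPolynomial (Fin n) R) M _ _ (Module.compHom M α.toRingHom))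
    (γ : MvPolynomial (Fin k) R' →ₐ[R'] A') (hγ : Function.Surjective γ) :
    @Module.FinitePresentation (MvPolynomial (Fin k) R') (TensorProduct A A' M) _ _
      (Module.compHom (TensorProduct A A' M) γ.toRingHom) := by
  classical
  let α' : MvPolynomial (Fin n) R' →ₐ[R'] A' := aeval fun i => algebraMap A A' (α (X i))
  have hcompat : ∀ p, α' (map (algebraMap R R') p) = algebraMap A A' (α p) := fun p => by
    induction p using MvPolynomial.induction_on with
    | C r =>
      rw [map_C, aeval_C, ← MvPolynomial.algebraMap_eq, AlgHom.commutes, ← IsScalarTower.algebraMap_apply,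
        ← IsScalarTower.algebraMap_apply]
    | add p q hp hq => simp only [map_add, hp, hq]
    | mul_X p i hp => simp only [map_mul, hp, map_X, α', aeval_X]
  have hα' : Function.Surjective α' := fun z => by
    induction z using (Algebra.IsPushout.symm (‹Algebra.IsPushout R A R' A'›)).out.inductionOn with
    | zero => exact ⟨0, map_zero _⟩
    | tmul a => obtain ⟨p, rfl⟩ := hα a; exact ⟨map (algebraMap R R') p, hcompat p⟩
    | smul s x hx => obtain ⟨p, rfl⟩ := hx; exact ⟨s • p, map_smul _ _ _⟩
    | add x y hx hy => obtain ⟨p, rfl⟩ := hx; obtain ⟨q, rfl⟩ := hy; exact ⟨p + q, map_add _ _ _⟩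
  exact change α' hα' γ hγ (baseChange_fp M α hM α' hcompat)

end Groth.Agent.S12083
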