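import Groth.Statements.S12085
import Mathlib.RingTheory.FinitePresentation
import Mathlib.RingTheory.FiniteType
import Mathlib.RingTheory.Adjoin.FG
import Mathlib.RingTheory.Unramified.Basic
import Mathlib.Algebra.MvPolynomial.PDeriv
import Mathlib.RingTheory.Kaehler.Basic
import Mathlib.RingTheory.TensorProduct.Maps

set_option autoImplicit false
universe u
open TensorProduct
open CAlg

namespace Groth.Agent.S12085

open MvPolynomial in
theorem leibniz {R M : Type*} [CommRing R] {n : ℕ} {S : Type*} [CommRing S] [Algebra R S] [AddCommGroup M] [Module R M]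
    [Module S M] (π : MvPolynomial (Fin n) R →ₐ[R] S) (D : Derivation R S M) (q : MvPolynomial (Fin n) R) :
    D (π q) = ∑ l, π (pderiv l q) • D (π (X l)) := by
  induction q using MvPolynomial.induction_on with
  | C r =>
    rw [show π (C r) = algebraMap R S r from π.commutes r, D.map_algebraMap]
    simp
  | add p q hp hq => simp only [map_add, hp, hq, add_smul, Finset.sum_add_distrib]
  | mul_X p i hp =>
    rw [map_mul, D.leibniz, hp, Finset.smul_sum]
    simp only [pderiv_mul, map_add, map_mul, add_smul, Finset.sum_add_distrib, smul_smul]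
    rw [add_comm]
    refine congrArg₂ (· + ·) (Finset.sum_congr rfl fun l _ => by rw [mul_comm]) ?_
    rw [Finset.sum_eq_single_of_mem i (Finset.mem_univ i) (fun l _ hl => by rw [pderiv_X_of_ne hl.symm, map_zero, mul_zero, zero_smul]),
      pderiv_X_self, map_one, mul_one]

open MvPolynomial in
theorem exists_witness {R S : Type u} [CommRing R] [CommRing S] [Algebra R S] [Algebra.FormallyUnramified R S] {n : ℕ}
    (π : MvPolynomial (Fin n) R →ₐ[R] S) (hπ : Function.Surjective π) {g : Finset (MvPolynomial (Fin n) R)}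
    (hg : Ideal.span (g : Set (MvPolynomial (Fin n) R)) = RingHom.ker π.toRingHom) (i : Fin n) :
    ∃ c : g → MvPolynomial (Fin n) R, ∀ l, π ((if l = i then 1 else 0) - ∑ k : g, c k * pderiv l (k : MvPolynomial (Fin n) R)) = 0 := by
  classical
  let W : Submodule S (Fin n → S) := Submodule.span S (Set.range fun k : g => fun l => π (pderiv l (k : MvPolynomial (Fin n) R)))
  have hker : ∀ q, π q = 0 → (fun l => π (pderiv l q)) ∈ W := by
    intro q hq
    have hq' : q ∈ Submodule.span (MvPolynomial (Fin n) R) (Set.range fun k : g => (k : MvPolynomial (Fin n) R)) := by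
      have h1 : q ∈ RingHom.ker π.toRingHom := hq
      rw [← hg] at h1
      rw [show (Set.range fun k : g => (k : MvPolynomial (Fin n) R)) = (g : Set (MvPolynomial (Fin n) R)) from Subtype.range_coe]
      exact h1
    obtain ⟨h, hh⟩ := (Submodule.mem_span_range_iff_exists_fun _).1 hq'
    have hzero : ∀ k : g, π (k : MvPolynomial (Fin n) R) = 0 := fun k => by
      have : (k : MvPolynomial (Fin n) R) ∈ RingHom.ker π.toRingHom := by rw [← hg]; exact Ideal.subset_span k.2
      exact this
    have : (fun l => π (pderiv l q)) = ∑ k : g, π (h k) • fun l => π (pderiv l (k : MvPolynomial (Fin n) R)) := by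
      funext l
      rw [← hh, map_sum, map_sum, Finset.sum_apply]
      refine Finset.sum_congr rfl fun k _ => ?_
      rw [smul_eq_mul, pderiv_mul, map_add, map_mul, map_mul, hzero, mul_zero, zero_add]
      rfl
    rw [this]
    exact Submodule.sum_mem _ fun k _ => Submodule.smul_mem _ _ (Submodule.subset_span ⟨k, rfl⟩)
  let M := (Fin n → S) ⧸ W
  let δ : MvPolynomial (Fin n) R → M := fun q => Submodule.Quotient.mk fun l => π (pderiv l q)
  have hwd : ∀ q q', π q = π q' → δ q = δ q' := fun q q' h => by
    refine (Submodule.Quotient.eq W).2 ?_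
    have h1 := hker (q - q') (by rw [map_sub, h, sub_self])
    convert h1 using 1
    funext l
    simp
  choose s hs using hπ
  have hδ : ∀ q, δ (s (π q)) = δ q := fun q => hwd _ _ (hs _)
  let D : Derivation R S M :=
    { toFun := fun x => δ (s x)
      map_add' := fun x y => by
        rw [← show π (s x + s y) = x + y by rw [map_add, hs, hs], hδ]
        show Submodule.Quotient.mk _ = Submodule.Quotient.mk _ + Submodule.Quotient.mk _
        rw [← Submodule.Quotient.mk_add]
        exact congrArg _ (funext fun l => by simp)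
      map_smul' := fun r x => by
        rw [← show π (r • s x) = r • x by rw [map_smul, hs], hδ]
        show Submodule.Quotient.mk _ = r • Submodule.Quotient.mk _
        rw [← Submodule.Quotient.mk_smul]
        exact congrArg _ (funext fun l => by simp)
      map_one_eq_zero' := by
        show δ (s 1) = 0
        rw [← map_one π, hδ]
        show Submodule.Quotient.mk _ = 0
        rw [Submodule.Quotient.mk_eq_zero]
        convert W.zero_mem using 1
        funext l
        simp
      leibniz' := fun x y => by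
        show δ (s (x * y)) = x • δ (s y) + y • δ (s x)
        rw [← show π (s x * s y) = x * y by rw [map_mul, hs, hs], hδ]
        show Submodule.Quotient.mk _ = x • Submodule.Quotient.mk _ + y • Submodule.Quotient.mk _
        rw [← Submodule.Quotient.mk_smul, ← Submodule.Quotient.mk_smul, ← Submodule.Quotient.mk_add]
        congr 1
        funext l
        simp [hs, pderiv_mul, add_comm, mul_comm] }
  have hD : δ (X i) = 0 := by
    rw [← hδ]
    show D (π (X i)) = 0
    rw [← D.liftKaehlerDifferential_comp]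
    simp [Subsingleton.elim (KaehlerDifferential.D R S (π (X i))) 0]
  rw [Submodule.Quotient.mk_eq_zero, Submodule.mem_span_range_iff_exists_fun] at hD
  obtain ⟨c, hc⟩ := hD
  refine ⟨fun k => s (c k), fun l => ?_⟩
  have h1 := congrFun hc l
  simp only [Finset.sum_apply, Pi.smul_apply, smul_eq_mul, pderiv_X, Pi.single_apply, apply_ite π, map_one, map_zero] at h1
  simp only [map_sub, map_sum, map_mul, hs, h1, apply_ite π, map_one, map_zero]
  simp [eq_comm]

open MvPolynomial in
theorem unramified_of {A B : Type u} [CommRing A] [CommRing B] [Algebra A B] {n : ℕ} {κ : Type*} [Fintype κ]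
    (π : MvPolynomial (Fin n) A →ₐ[A] B) (hπ : Function.Surjective π) (g₀ : κ → MvPolynomial (Fin n) A)
    (hg0 : ∀ k, π (g₀ k) = 0) (c : Fin n → κ → B)
    (hc : ∀ i l, (if l = i then (1 : B) else 0) = ∑ k, c i k * π (pderiv l (g₀ k))) :
    Algebra.FormallyUnramified A B := by
  classical
  have h0 : ∀ i, KaehlerDifferential.D A B (π (X i)) = 0 := fun i => calc
    _ = ∑ l, (if l = i then (1 : B) else 0) • KaehlerDifferential.D A B (π (X l)) := by simp [ite_smul]
    _ = ∑ k, c i k • KaehlerDifferential.D A B (π (g₀ k)) := by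
        simp only [hc, Finset.sum_smul, leibniz π _ (g₀ _), Finset.smul_sum, smul_smul]
        rw [Finset.sum_comm]
    _ = 0 := by simp [hg0]
  refine ⟨?_⟩
  refine (Submodule.subsingleton_iff B).1 (subsingleton_iff_bot_eq_top.1 ?_)
  rw [← KaehlerDifferential.span_range_derivation, eq_comm, Submodule.span_eq_bot]
  rintro _ ⟨z, rfl⟩
  obtain ⟨q, rfl⟩ := hπ z
  rw [leibniz π]
  simp [h0]

open MvPolynomial TensorProduct in
theorem baseChange_equiv {A R S : Type u} [CommRing A] [CommRing R] [CommRing S] [Algebra A R] [Algebra R S] {n : ℕ}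
    (π : MvPolynomial (Fin n) R →ₐ[R] S) (hπ : Function.Surjective π) (J : Ideal (MvPolynomial (Fin n) A))
    (hJ : ∀ q ∈ J, π (map (algebraMap A R) q) = 0)
    (hker : RingHom.ker π.toRingHom ≤ J.map (map (algebraMap A R))) :
    Nonempty (R ⊗[A] (MvPolynomial (Fin n) A ⧸ J) ≃ₐ[R] S) := by
  letI : Algebra A S := ((algebraMap R S).comp (algebraMap A R)).toAlgebra
  haveI : IsScalarTower A R S := IsScalarTower.of_algebraMap_eq fun _ => rfl
  let S₀ := MvPolynomial (Fin n) A ⧸ J
  let π₀ : MvPolynomial (Fin n) A →ₐ[A] S₀ := Ideal.Quotient.mkₐ A J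
  have key : ∀ q, aeval (fun i => π (X i)) q = π (map (algebraMap A R) q) := fun q => by
    induction q using MvPolynomial.induction_on with
    | C r => rw [aeval_C, map_C, ← MvPolynomial.algebraMap_eq, AlgHom.commutes]; rfl
    | add p q hp hq => simp only [map_add, hp, hq]
    | mul_X p i hp => simp only [map_mul, hp, aeval_X, map_X]
  let f₁ : S₀ →ₐ[A] S := Ideal.Quotient.liftₐ J (aeval fun i => π (X i)) fun q hq => by rw [key]; exact hJ q hq
  let F : R ⊗[A] S₀ →ₐ[R] S := Algebra.TensorProduct.lift (Algebra.ofId R S) f₁ fun _ _ => Commute.all _ _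
  let G₀ : MvPolynomial (Fin n) R →ₐ[R] R ⊗[A] S₀ := aeval (R := R) fun i => (1 : R) ⊗ₜ[A] π₀ (X i)
  have hG₀ : ∀ q, G₀ (map (algebraMap A R) q) = (1 : R) ⊗ₜ π₀ q := fun q => by
    induction q using MvPolynomial.induction_on with
    | C r =>
      rw [map_C, show G₀ (C (algebraMap A R r)) = algebraMap R (R ⊗[A] S₀) (algebraMap A R r) from aeval_C _ _,
        Algebra.TensorProduct.algebraMap_apply, Algebra.algebraMap_self_apply, Algebra.algebraMap_eq_smul_one r,
        TensorProduct.smul_tmul]
      congr 1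
      rw [← MvPolynomial.algebraMap_eq, AlgHom.commutes, Algebra.algebraMap_eq_smul_one r]
    | add p q hp hq => simp only [map_add, hp, hq, TensorProduct.tmul_add]
    | mul_X p i hp =>
      simp only [map_mul, hp, map_X, show G₀ (X i) = (1 : R) ⊗ₜ[A] π₀ (X i) from aeval_X _ _,
        Algebra.TensorProduct.tmul_mul_tmul, one_mul]
  have hG₀ker : RingHom.ker π.toRingHom ≤ RingHom.ker G₀.toRingHom := by
    refine hker.trans (Ideal.map_le_iff_le_comap.2 fun q hq => ?_)
    show G₀ (map (algebraMap A R) q) = 0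
    rw [hG₀, show π₀ q = 0 from Ideal.Quotient.eq_zero_iff_mem.2 hq, TensorProduct.tmul_zero]
  have hFG : ∀ q, F (G₀ q) = π q := by
    refine fun q => DFunLike.congr_fun (?_ : F.comp G₀ = π) q
    ext i
    rw [AlgHom.comp_apply, show G₀ (X i) = (1 : R) ⊗ₜ[A] π₀ (X i) from aeval_X _ _, Algebra.TensorProduct.lift_tmul, map_one, one_mul]
    exact aeval_X _ i
  have hFsurj : Function.Surjective F := fun z => by
    obtain ⟨q, rfl⟩ := hπ z; exact ⟨G₀ q, hFG q⟩
  have hG₀surj : Function.Surjective G₀ := fun z => by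
    induction z using TensorProduct.induction_on with
    | zero => exact ⟨0, map_zero _⟩
    | add u v hu hv => obtain ⟨a, rfl⟩ := hu; obtain ⟨b, rfl⟩ := hv; exact ⟨a + b, map_add _ _ _⟩
    | tmul r x =>
      obtain ⟨q, rfl⟩ := Ideal.Quotient.mkₐ_surjective A J x
      refine ⟨C r * map (algebraMap A R) q, ?_⟩
      rw [map_mul, hG₀, show G₀ (C r) = algebraMap R (R ⊗[A] S₀) r from aeval_C _ _,
        Algebra.TensorProduct.algebraMap_apply, Algebra.TensorProduct.tmul_mul_tmul, one_mul, Algebra.algebraMap_self_apply, mul_one]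
  refine ⟨AlgEquiv.ofBijective F ⟨(injective_iff_map_eq_zero F).2 fun z hz => ?_, hFsurj⟩⟩
  obtain ⟨q, rfl⟩ := hG₀surj z
  exact hG₀ker (show π q = 0 by rw [← hFG]; exact hz)

open MvPolynomial TensorProduct in
set_option maxHeartbeats 1000000 in

/-- If `R → S` is G-unramified (of finite presentation and formally unramified), then there are a finite
type `ℤ`-algebra `R₀`, a ring map `R₀ → R` and a G-unramified ring map `R₀ → S₀` such that `S ≅ R
⊗_{R₀} S₀` as `R`-algebras (existence of an isomorphism). -/
theorem result (R : Type u) [CommRing R] (S : Type u) [CommRing S]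
    [Algebra R S] [Algebra.FinitePresentation R S] [Algebra.FormallyUnramified R S] :
    ∃ (R₀ : Type u) (_ : CommRing R₀) (_ : Algebra.FiniteType ℤ R₀) (S₀ : Type u) (_ : CommRing S₀)
      (_ : Algebra R₀ S₀) (_ : Algebra.FinitePresentation R₀ S₀) (_ : Algebra.FormallyUnramified R₀ S₀)
      (_ : Algebra R₀ R), Nonempty (R ⊗[R₀] S₀ ≃ₐ[R] S) := by
  classical
  obtain ⟨n, π, hπ, hker⟩ := ‹Algebra.FinitePresentation R S›.out
  obtain ⟨g, hg⟩ := hker
  choose c hc using fun i => exists_witness π hπ hg i
  have hmem : ∀ q, π q = 0 → ∃ h : g → MvPolynomial (Fin n) R, ∑ k, h k * (k : MvPolynomial (Fin n) R) = q := by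
    intro q hq
    have h1 : q ∈ RingHom.ker π.toRingHom := hq
    rw [← hg] at h1
    have h2 : q ∈ Submodule.span (MvPolynomial (Fin n) R) (Set.range fun k : g => (k : MvPolynomial (Fin n) R)) := by
      rw [show (Set.range fun k : g => (k : MvPolynomial (Fin n) R)) = (g : Set (MvPolynomial (Fin n) R)) from Subtype.range_coe]
      exact h1
    exact (Submodule.mem_span_range_iff_exists_fun _).1 h2
  choose e he using fun i l => hmem _ (hc i l)
  let T : Finset R := g.biUnion coeffs ∪
    Finset.univ.biUnion (fun i => Finset.univ.biUnion fun k => (c i k).coeffs) ∪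
    Finset.univ.biUnion (fun i => Finset.univ.biUnion fun l => Finset.univ.biUnion fun k => (e i l k).coeffs)
  let R₀ : Subalgebra ℤ R := Algebra.adjoin ℤ (T : Set R)
  have hft : Algebra.FiniteType ℤ R₀ := R₀.fg_iff_finiteType.1 ⟨T, rfl⟩
  let M : MvPolynomial (Fin n) R₀ →+* MvPolynomial (Fin n) R := map (algebraMap R₀ R)
  have hM : Function.Injective M := map_injective _ Subtype.val_injective
  have L : ∀ p : MvPolynomial (Fin n) R, p.coeffs ⊆ T → ∃ q, M q = p := fun p hp =>
    mem_range_map_iff_coeffs_subset.2 fun x hx => ⟨⟨x, Algebra.subset_adjoin (hp hx)⟩, rfl⟩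
  choose g₀ hg₀ using fun k : g => L k.1 fun x hx =>
    Finset.mem_union_left _ <| Finset.mem_union_left _ <| Finset.mem_biUnion.2 ⟨k.1, k.2, hx⟩
  choose c₀ hc₀ using fun i k => L (c i k) fun x hx =>
    Finset.mem_union_left _ <| Finset.mem_union_right _ <| Finset.mem_biUnion.2 ⟨i, Finset.mem_univ _,
      Finset.mem_biUnion.2 ⟨k, Finset.mem_univ _, hx⟩⟩
  choose e₀ he₀ using fun i l k => L (e i l k) fun x hx =>
    Finset.mem_union_right _ <| Finset.mem_biUnion.2 ⟨i, Finset.mem_univ _,
      Finset.mem_biUnion.2 ⟨l, Finset.mem_univ _, Finset.mem_biUnion.2 ⟨k, Finset.mem_univ _, hx⟩⟩⟩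
  let J : Ideal (MvPolynomial (Fin n) R₀) := Ideal.span (Set.range g₀)
  let S₀ := MvPolynomial (Fin n) R₀ ⧸ J
  let π₀ : MvPolynomial (Fin n) R₀ →ₐ[R₀] S₀ := Ideal.Quotient.mkₐ R₀ J
  have hfp : Algebra.FinitePresentation R₀ S₀ := Algebra.FinitePresentation.quotient (Submodule.fg_span (Set.finite_range g₀))
  have hg0 : ∀ k, π₀ (g₀ k) = 0 := fun k => Ideal.Quotient.eq_zero_iff_mem.2 (Ideal.subset_span ⟨k, rfl⟩)
  have hun : Algebra.FormallyUnramified R₀ S₀ := by
    refine unramified_of π₀ (Ideal.Quotient.mkₐ_surjective R₀ J) g₀ hg0 (fun i k => π₀ (c₀ i k)) fun i l => ?_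
    have hrel : (if l = i then (1 : MvPolynomial (Fin n) R₀) else 0) - ∑ k, c₀ i k * pderiv l (g₀ k) =
        ∑ k, e₀ i l k * g₀ k := hM (by
      simp only [map_sub, map_sum, map_mul, apply_ite M, map_one, map_zero, hc₀, he₀, hg₀]
      rw [he]
      refine congrArg (fun z => _ - z) (Finset.sum_congr rfl fun k _ => ?_)
      rw [← hg₀ k]
      exact congrArg (c i k * ·) (pderiv_map).symm)
    have h := congrArg π₀ hrel
    simp only [map_sub, map_sum, map_mul, apply_ite π₀, map_one, map_zero, hg0, mul_zero, Finset.sum_const_zero, sub_eq_zero] at h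
    exact h
  refine ⟨R₀, inferInstance, hft, S₀, inferInstance, inferInstance, hfp, hun, inferInstance,
    baseChange_equiv (A := R₀) π hπ J (fun q hq => ?_) ?_⟩
  · refine RingHom.mem_ker.1 ((Ideal.span_le.2 ?_ : J ≤ RingHom.ker (π.toRingHom.comp (map (algebraMap R₀ R)))) hq)
    rintro _ ⟨k, rfl⟩
    show π (M (g₀ k)) = 0
    rw [hg₀]
    have : (k : MvPolynomial (Fin n) R) ∈ RingHom.ker π.toRingHom := by rw [← hg]; exact Ideal.subset_span k.2
    exact this
  · rw [← hg, Ideal.span_le]
    intro k hk
    rw [SetLike.mem_coe, show k = M (g₀ ⟨k, hk⟩) from (hg₀ ⟨k, hk⟩).symm]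
    exact Ideal.mem_map_of_mem _ (Ideal.subset_span ⟨_, rfl⟩)

end Groth.Agent.S12085
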