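import Groth.Statements.S1209
import Groth.Agent.FlatCrit65.Point.General

set_option autoImplicit false
universe u
open FlatMor

namespace Groth.Agent.S1209

/-- Let R → S be a ring map of finite type and q a prime of S such that the local ring S_q is flat over
R. Then S_q is essentially of finite presentation over R. (The published statement concludes that
S_q is essentially of finite presentation over R_p, where p is the prime of R below q; the two are
equivalent, since R_p is itself a localization of R.) -/
theorem result {R S : Type u} [CommRing R] [CommRing S] [Algebra R S] [Algebra.FiniteType R S]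
    (q : Ideal S) [q.IsPrime] [Module.Flat R (Localization.AtPrime q)] :
    FlatCA.EssFinitePresentation R (Localization.AtPrime q) := by
  obtain ⟨n, φ, hφ⟩ := Algebra.FiniteType.iff_quotient_mvPolynomial''.mp ‹Algebra.FiniteType R S›
  let A := MvPolynomial (Fin n) R
  let Q : Ideal A := q.comap φ.toRingHom
  let ψ : Localization.AtPrime Q →+* Localization.AtPrime q := Localization.localRingHom Q q φ.toRingHom rfl
  have hψmk : ∀ a : A, ψ (algebraMap A _ a) = algebraMap S _ (φ a) := fun a =>
    Localization.localRingHom_to_map _ _ _ _ a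
  have hψsurj : Function.Surjective ψ := by
    intro v
    obtain ⟨b, ⟨s, hs⟩, rfl⟩ := IsLocalization.exists_mk'_eq q.primeCompl v
    obtain ⟨b, rfl⟩ := hφ b
    obtain ⟨w, rfl⟩ := hφ s
    exact ⟨IsLocalization.mk' _ b (⟨w, hs⟩ : Q.primeCompl), Localization.localRingHom_mk' _ _ _ _ _ _⟩
  letI : Algebra (Localization.AtPrime Q) (Localization.AtPrime q) := ψ.toAlgebra
  have : IsScalarTower R (Localization.AtPrime Q) (Localization.AtPrime q) :=
    IsScalarTower.of_algebraMap_eq fun c => by
      rw [IsScalarTower.algebraMap_apply R A (Localization.AtPrime Q), RingHom.algebraMap_toAlgebra,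
        hψmk, AlgHom.commutes, ← IsScalarTower.algebraMap_apply]
  have : Module.Finite (Localization.AtPrime Q) (Localization.AtPrime q) :=
    Module.Finite.of_surjective (Algebra.linearMap _ _) hψsurj
  have hfp := Groth.Agent.FlatCrit65.finitePresentation_of_flat_local (R := R) (S := A)
    (L := Localization.AtPrime Q) (M := Localization.AtPrime q) Q
  have hker : (RingHom.ker ψ).FG :=
    Module.FinitePresentation.fg_ker (Algebra.linearMap (Localization.AtPrime Q) (Localization.AtPrime q)) hψsurj
  obtain ⟨s, hs⟩ := hker
  choose num den hnd using fun x : Localization.AtPrime Q => IsLocalization.exists_mk'_eq Q.primeCompl x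
  classical
  let K : Ideal A := Ideal.span (s.image num : Set A)
  have hK : K.map (algebraMap A (Localization.AtPrime Q)) = RingHom.ker ψ := by
    rw [← hs]
    simp only [K, Ideal.map_span, Finset.coe_image]
    refine le_antisymm (Ideal.span_le.mpr ?_) (Ideal.span_le.mpr ?_)
    · rintro _ ⟨_, ⟨x, hx, rfl⟩, rfl⟩
      rw [SetLike.mem_coe, ← IsLocalization.mk'_spec' (Localization.AtPrime Q) (num x) (den x), hnd]
      exact Ideal.mul_mem_left _ _ (Ideal.subset_span hx)
    · intro x hx
      rw [SetLike.mem_coe, ← hnd x, IsLocalization.mk'_eq_mul_mk'_one]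
      exact Ideal.mul_mem_right _ _ (Ideal.subset_span ⟨_, ⟨x, hx, rfl⟩, rfl⟩)
  let g : A ⧸ K →+* Localization.AtPrime q := Ideal.Quotient.lift K (ψ.comp (algebraMap A _)) fun a ha => by
    have := hK.le (Ideal.mem_map_of_mem _ ha)
    exact this
  letI : Algebra (A ⧸ K) (Localization.AtPrime q) := g.toAlgebra
  refine ⟨A ⧸ K, inferInstance, inferInstance, inferInstance, IsScalarTower.of_algebraMap_eq fun c => ?_,
    Q.primeCompl.map (Ideal.Quotient.mk K), Algebra.FinitePresentation.quotient ⟨_, rfl⟩, ?_⟩
  · show _ = ψ (algebraMap A _ (algebraMap R A c))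
    rw [hψmk, AlgHom.commutes, ← IsScalarTower.algebraMap_apply]
  · exact IsLocalization.of_surjective Q.primeCompl (S := Localization.AtPrime Q) (Ideal.Quotient.mk K)
      Ideal.Quotient.mk_surjective ψ hψsurj rfl (by rw [Ideal.mk_ker, hK])

end Groth.Agent.S1209
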