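import Groth.Statements.S12091
import Mathlib.Algebra.Module.Projective
import Mathlib.RingTheory.TensorProduct.Finite

set_option autoImplicit false
universe u
open TensorProduct MvPolynomial
open FlatMor

namespace Groth.Agent.S12091

/-- Let `x_1, …, x_m` generate the `A`-module `M`, let `K ⊆ A^m` be the module of relations, `C =
Sym_A(M)` and `α : A[y_1, …, y_m] → C` the presentation with `y_j ↦ x_j`, with kernel `J`. Then the
`C`-linear map `C ⊗_A K → J/J²` sending `1 ⊗ k` to the class of `Σ_j k_j y_j` is surjective, and it
is bijective when `M` is a projective `A`-module (so that then `J/J² ≅ K ⊗_A C` and the naive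
cotangent complex of `α` is `K ⊗_A C → ⊕_j C dy_j`). (The published statement asserts `J/J² ≅ K ⊗_A
C` for every `M`. For `A = ℤ`, `M = (ℤ/2)²`, `m = 2` and the two unit vectors, `K = 2ℤ²` and the
element `y_2 ⊗ (2, 0) - y_1 ⊗ (0, 2)` of `C ⊗_A K` is non-zero but maps to the class of `y_2 · 2y_1
- y_1 · 2y_2 = 0`; in degree `2` the graded piece of `J/J²` has `8` elements and that of `K ⊗_A C`
has `16`. The published degree-by-degree computation does show that `J` is generated by the linear
forms coming from `K`, which is the surjectivity, and it is valid as written when `0 → K → A^m → M →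
0` splits, which is the projective case.) -/
theorem result (A : Type u) [CommRing A] (M : Type u)
    [AddCommGroup M] [Module A M] (m : ℕ) (x : Fin m → M)
    (hx : Function.Surjective (Fintype.linearCombination A x))
    (G : Algebra.Generators A (SymmetricAlgebra A M) (Fin m))
    (hG : ∀ j, G.val j = SymmetricAlgebra.ι A M (x j)) :
    ∃ e : SymmetricAlgebra A M ⊗[A] (LinearMap.ker (Fintype.linearCombination A x)) →ₗ[SymmetricAlgebra A M]
        G.toExtension.Cotangent,
      (∀ (k : LinearMap.ker (Fintype.linearCombination A x))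
        (hk : (∑ j, C ((k : Fin m → A) j) * X j : MvPolynomial (Fin m) A) ∈ G.toExtension.ker),
        e (1 ⊗ₜ k) = Algebra.Extension.Cotangent.mk ⟨_, hk⟩) ∧
      Function.Surjective e ∧ (Module.Projective A M → Function.Bijective e) := by
  classical
  let p : (Fin m → A) →ₗ[A] M := Fintype.linearCombination A x
  let L : (Fin m → A) →ₗ[A] MvPolynomial (Fin m) A := Fintype.linearCombination A X
  have hL : ∀ k, L k = ∑ j, C (k j) * X j := by
    intro k
    simp [L, Fintype.linearCombination_apply, MvPolynomial.smul_eq_C_mul]
  have hαL : ∀ k, aeval G.val (L k) = SymmetricAlgebra.ι A M (p k) := by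
    intro k
    simp [L, p, Fintype.linearCombination_apply, hG]
  have hkerL : ∀ k ∈ LinearMap.ker p, L k ∈ G.toExtension.ker := by
    intro k hk
    show L k ∈ G.ker
    rw [G.ker_eq_ker_aeval_val, RingHom.mem_ker]
    rw [hαL, LinearMap.mem_ker.1 hk, map_zero]
  -- the kernel is generated by the linear forms
  let J : Ideal (MvPolynomial (Fin m) A) := Ideal.span (Set.range fun k : LinearMap.ker p => L k)
  have hJ : J = G.toExtension.ker := by
    refine le_antisymm (Ideal.span_le.2 (by rintro _ ⟨k, rfl⟩; exact hkerL k k.2)) ?_
    let q : (Fin m → A) →ₗ[A] MvPolynomial (Fin m) A ⧸ J := (Ideal.Quotient.mkₐ A J).toLinearMap.comp L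
    have hq : LinearMap.ker p ≤ LinearMap.ker q := fun k hk =>
      Ideal.Quotient.eq_zero_iff_mem.2 (Ideal.subset_span ⟨⟨k, hk⟩, rfl⟩)
    let g : M →ₗ[A] MvPolynomial (Fin m) A ⧸ J :=
      ((LinearMap.ker p).liftQ q hq).comp (p.quotKerEquivOfSurjective hx).symm.toLinearMap
    have hg : ∀ k, g (p k) = q k := by
      intro k
      have : (p.quotKerEquivOfSurjective hx).symm (p k) = Submodule.Quotient.mk k := by
        rw [LinearEquiv.symm_apply_eq]; rfl
      simp [g, this]
    have hψ : ((SymmetricAlgebra.lift g).comp (aeval G.val)) = Ideal.Quotient.mkₐ A J := by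
      refine MvPolynomial.algHom_ext fun j => ?_
      have h1 : p (Pi.single j 1) = x j := by simp [p]
      have h2 : L (Pi.single j 1) = X j := by simp [L]
      rw [AlgHom.comp_apply, aeval_X, hG, SymmetricAlgebra.lift_ι_apply, ← h1, hg]
      simp [q, h2]
    intro f hf
    have : aeval G.val f = 0 := Algebra.Generators.aeval_val_eq_zero hf
    have := DFunLike.congr_fun hψ f
    rw [AlgHom.comp_apply, ‹aeval G.val f = 0›, map_zero] at this
    exact Ideal.Quotient.eq_zero_iff_mem.1 this.symm
  let f : LinearMap.ker p →ₗ[A] G.toExtension.Cotangent :=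
    { toFun := fun k => Algebra.Extension.Cotangent.mk ⟨L k, hkerL k k.2⟩
      map_add' := fun a b => by
        rw [← map_add]; congr 1; exact Subtype.ext (map_add L _ _)
      map_smul' := fun r a => Algebra.Extension.Cotangent.ext (by
        rw [RingHom.id_apply, Algebra.Extension.Cotangent.val_smul'', Algebra.Extension.Cotangent.val_mk,
          Algebra.Extension.Cotangent.val_mk, ← LinearMap.map_smul_of_tower]
        congr 1
        exact Subtype.ext (map_smul L r (a : Fin m → A))) }
  let e : SymmetricAlgebra A M ⊗[A] LinearMap.ker p →ₗ[SymmetricAlgebra A M] G.toExtension.Cotangent :=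
    LinearMap.liftBaseChange (SymmetricAlgebra A M) f
  have he : ∀ k, e (1 ⊗ₜ k) = f k := fun k => by simp [e]
  have hsurj : Function.Surjective e := by
    rw [← LinearMap.range_eq_top, eq_top_iff,
      ← Algebra.Extension.Cotangent.span_eq_top_of_span_eq_ker (P := G.toExtension)
        (fun k : LinearMap.ker p => L k) hJ, Submodule.span_le]
    rintro _ ⟨k, rfl⟩
    exact ⟨1 ⊗ₜ k, he k⟩
  refine ⟨e, fun k hk => ?_, hsurj, fun hM => ⟨?_, hsurj⟩⟩
  · refine (he k).trans ?_
    exact congrArg Algebra.Extension.Cotangent.mk (Subtype.ext (hL (k : Fin m → A)) : (⟨L k, hkerL k k.2⟩ : G.toExtension.ker) = ⟨_, hk⟩)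
  · obtain ⟨σ, hσ⟩ := Module.projective_lifting_property p LinearMap.id hx
    let r : (Fin m → A) →ₗ[A] LinearMap.ker p :=
      LinearMap.codRestrict (LinearMap.ker p) (LinearMap.id - σ.comp p) (fun k => by
        have := DFunLike.congr_fun hσ (p k)
        simp only [LinearMap.comp_apply, LinearMap.id_apply] at this
        simp [this])
    have hr : ∀ k : LinearMap.ker p, r k = k := fun k => Subtype.ext (by simp [r, LinearMap.mem_ker.1 k.2])
    let back : G.toExtension.Cotangent →ₗ[SymmetricAlgebra A M] SymmetricAlgebra A M ⊗[A] LinearMap.ker p :=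
      (G.cotangentSpaceBasis.constr (SymmetricAlgebra A M) fun j => (1 : SymmetricAlgebra A M) ⊗ₜ[A] r (Pi.single j 1)).comp
        G.toExtension.cotangentComplex
    have hback : ∀ k : LinearMap.ker p, back (f k) = 1 ⊗ₜ k := by
      intro k
      have h1 : G.toExtension.cotangentComplex (f k) = 1 ⊗ₜ KaehlerDifferential.D A G.toExtension.Ring (L k) := by
        simp [f, Algebra.Extension.cotangentComplex_mk]
      have h2 : ∀ j, G.cotangentSpaceBasis.repr (G.toExtension.cotangentComplex (f k)) j =
          algebraMap A (SymmetricAlgebra A M) ((k : Fin m → A) j) := by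
        intro j
        rw [h1]
        erw [G.cotangentSpaceBasis_repr_one_tmul]
        simp [hL, pderiv_X, Pi.single_apply]
      show G.cotangentSpaceBasis.constr (SymmetricAlgebra A M) _ (G.toExtension.cotangentComplex (f k)) = _
      rw [Module.Basis.constr_apply_fintype]
      simp only [Module.Basis.equivFun_apply, h2, algebraMap_smul, ← TensorProduct.tmul_smul, ← map_smul]
      rw [← TensorProduct.tmul_sum, ← map_sum]
      congr 1
      rw [show ∑ j, (k : Fin m → A) j • (Pi.single j 1 : Fin m → A) = k from (pi_eq_sum_univ' (k : Fin m → A)).symm]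
      exact hr k
    have : back ∘ₗ e = LinearMap.id := by
      refine TensorProduct.AlgebraTensorModule.curry_injective ?_
      ext k
      simpa [he] using hback k
    exact Function.LeftInverse.injective (g := back) fun z => DFunLike.congr_fun this z

end Groth.Agent.S12091
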