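import Groth.Statements.S12095
import Mathlib.Algebra.Polynomial.Module.Basic
import Mathlib.RingTheory.GradedAlgebra.HomogeneousLocalization
import Mathlib.RingTheory.FiniteType
import Mathlib.Algebra.Module.LocalizedModule.Basic
import Mathlib.RingTheory.Finiteness.Basic
import Mathlib.RingTheory.GradedAlgebra.Basic

set_option autoImplicit false
universe u
open CAlg

namespace Groth.Agent.S12095

open Polynomial in
theorem exists_phi {R R' S : Type u} [CommRing R] [CommRing R'] [Algebra R R'] [CommRing S] [Algebra R S]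
    (𝒜 : ℕ → Submodule R S) [GradedAlgebra 𝒜] (f : S) (hf : f ∈ 𝒜 1)
    (e : HomogeneousLocalization.Away 𝒜 f ≃+* R')
    (he : ∀ r : R, (e.symm (algebraMap R R' r)).val = algebraMap S (Localization.Away f) (algebraMap R S r)) :
    ∃ φ : S →+* R'[X], φ f = X ∧ (∀ r, φ (algebraMap R S r) = C (algebraMap R R' r)) ∧
      ∀ (d : ℕ) (s : S) (hs : s ∈ 𝒜 (d • 1)),
        φ s = monomial d (e (HomogeneousLocalization.Away.mk 𝒜 hf d s hs)) := by
  classical
  have mem : ∀ {d : ℕ} {s : S}, s ∈ 𝒜 d → s ∈ 𝒜 (d • 1) := fun h => by rwa [smul_eq_mul, mul_one]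
  let mk := fun (d : ℕ) (s : 𝒜 d) => HomogeneousLocalization.Away.mk 𝒜 hf d (s : S) (mem s.2)
  have hadd : ∀ d (a b : 𝒜 d), mk d (a + b) = mk d a + mk d b := fun d a b => by
    apply HomogeneousLocalization.val_injective
    simp only [mk, HomogeneousLocalization.val_add, HomogeneousLocalization.Away.val_mk, Submodule.coe_add]
    simp only [Localization.mk_eq_mk']
    rw [IsLocalization.mk'_eq_iff_eq_mul,
      add_mul, IsLocalization.mk'_spec, IsLocalization.mk'_spec, map_add]
  let g : ∀ d, 𝒜 d →+ R'[X] := fun d =>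
    AddMonoidHom.mk' (fun s => monomial d (e (mk d s))) fun a b => by
      show monomial d (e (mk d (a + b))) = _
      rw [hadd, map_add, map_add]
  have hone : g 0 (GradedMonoid.GOne.one (A := fun i => 𝒜 i)) = 1 := by
    show monomial 0 (e (mk 0 (GradedMonoid.GOne.one (A := fun i => 𝒜 i)))) = 1
    rw [show mk 0 (GradedMonoid.GOne.one (A := fun i => 𝒜 i)) = 1 from HomogeneousLocalization.val_injective _ (by
      simp only [mk, HomogeneousLocalization.Away.val_mk, HomogeneousLocalization.val_one, SetLike.coe_gOne, pow_zero]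
      exact Localization.mk_one), map_one, monomial_zero_left, map_one]
  have hmul : ∀ {i j} (a : 𝒜 i) (b : 𝒜 j), g _ (GradedMonoid.GMul.mul (A := fun i => 𝒜 i) a b) = g i a * g j b := fun {i j} a b => by
    show monomial (i + j) (e (mk (i + j) (GradedMonoid.GMul.mul (A := fun i => 𝒜 i) a b))) = monomial i (e (mk i a)) * monomial j (e (mk j b))
    rw [monomial_mul_monomial, ← map_mul]
    congr 2
    apply HomogeneousLocalization.val_injective
    simp only [mk, HomogeneousLocalization.Away.val_mk, HomogeneousLocalization.val_mul, SetLike.coe_gMul,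
      Localization.mk_mul]
    congr 1
    exact Subtype.ext (pow_add f i j)
  let φ : S →+* R'[X] := (DirectSum.toSemiring g hone hmul).comp (DirectSum.decomposeRingEquiv 𝒜).toRingHom
  have hφ : ∀ d (s : 𝒜 d), φ s = monomial d (e (mk d s)) := fun d s => by
    show DirectSum.toSemiring g hone hmul (DirectSum.decompose 𝒜 (s : S)) = _
    rw [DirectSum.decompose_coe, DirectSum.toSemiring_of]
    rfl
  refine ⟨φ, ?_, fun r => ?_, fun d s hs => ?_⟩
  · rw [hφ 1 ⟨f, hf⟩, show mk 1 ⟨f, hf⟩ = 1 from HomogeneousLocalization.val_injective _ (by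
      simp only [mk, HomogeneousLocalization.Away.val_mk, HomogeneousLocalization.val_one, Localization.mk_eq_mk']
      exact IsLocalization.mk'_eq_iff_eq_mul.mpr (by simp [pow_one])), map_one, monomial_one_one_eq_X]
  · have hr : algebraMap R S r ∈ 𝒜 0 := SetLike.algebraMap_mem_graded 𝒜 r
    rw [hφ 0 ⟨_, hr⟩, show mk 0 ⟨_, hr⟩ = e.symm (algebraMap R R' r) from HomogeneousLocalization.val_injective _ (by
      rw [he]
      simp only [mk, HomogeneousLocalization.Away.val_mk, pow_zero, ← Localization.mk_one_eq_algebraMap]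
      rfl), RingEquiv.apply_symm_apply, monomial_zero_left]
  · exact hφ d ⟨s, by rwa [smul_eq_mul, mul_one] at hs⟩

open Polynomial in

/-- Let `R'` be an `R`-algebra of finite type, `M` a finite `R'`-module, and `S` an `ℕ`-graded
`R`-algebra with `f ∈ S_1` and a ring isomorphism `e : S_(f) ≅ R'` compatible with the maps from
`R`. Then there is a finite graded `S`-module `N` whose degree-zero localization `N_(f)` (the
elements `n / f^k` of `N_f` with `n` homogeneous of degree `k`) is identified with `M`: an
`R`-linear bijection `e' : N_(f) → M` with `e'(a · x) = e(a) · e'(x)` for all `a ∈ S_(f)`. (The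
published lemma produces `S`, `f` and `N` together from `R'` and `M`; here `N` is produced for any
such `S`, `f`, `e`, which the same construction gives.) -/
theorem result (R R' : Type u) [CommRing R] [CommRing R']
    [Algebra R R'] [Algebra.FiniteType R R']
    (M : Type u) [AddCommGroup M] [Module R' M] [Module R M] [IsScalarTower R R' M] [Module.Finite R' M]
    (S : Type u) [CommRing S] [Algebra R S] (𝒜 : ℕ → Submodule R S) [GradedAlgebra 𝒜] (f : S) (hf : f ∈ 𝒜 1)
    (e : HomogeneousLocalization.Away 𝒜 f ≃+* R')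
    (he : ∀ r : R, (e.symm (algebraMap R R' r)).val = algebraMap S (Localization.Away f) (algebraMap R S r)) :
    ∃ (N : Type u) (_ : AddCommGroup N) (_ : Module S N) (_ : Module R N) (_ : IsScalarTower R S N)
      (ℳ : ℕ → Submodule R N) (_ : DirectSum.Decomposition ℳ) (_ : SetLike.GradedSMul 𝒜 ℳ)
      (Nf : Submodule R (LocalizedModule (Submonoid.powers f) N)) (e' : ↥Nf ≃ₗ[R] M),
      Module.Finite S N ∧
      (∀ x, x ∈ Nf ↔ ∃ k : ℕ, ∃ n ∈ ℳ k, f ^ k • x = LocalizedModule.mk n 1) ∧
      (∀ (a : HomogeneousLocalization.Away 𝒜 f) (x y : ↥Nf),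
        a.val • (x : LocalizedModule (Submonoid.powers f) N) = y → e' y = e a • e' x) := by
  classical
  obtain ⟨φ, hφf, hφr, hφ⟩ := exists_phi 𝒜 f hf e he
  let P := PolynomialModule R' M
  letI : Module S P := Module.compHom P φ
  haveI : IsScalarTower R S P := IsScalarTower.of_algebraMap_smul fun r x => by
    show φ (algebraMap R S r) • x = r • x
    rw [hφr, ← Polynomial.algebraMap_eq, ← IsScalarTower.algebraMap_apply, algebraMap_smul]
  obtain ⟨r₀, m, hm⟩ := Module.Finite.exists_fin (R := R') (M := M)
  let N : Submodule S P := Submodule.span S (Set.range fun i => PolynomialModule.single R' 0 (m i))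
  let ℳ : ℕ → Submodule R N := fun d =>
    { carrier := {n | ∃ x : M, (n : P) = PolynomialModule.single R' d x}
      zero_mem' := ⟨0, by rw [PolynomialModule.single_zero]; rfl⟩
      add_mem' := by
        rintro a b ⟨x, hx⟩ ⟨y, hy⟩
        exact ⟨x + y, by rw [PolynomialModule.single_add, ← hx, ← hy]; rfl⟩
      smul_mem' := by
        rintro r a ⟨x, hx⟩
        refine ⟨r • x, ?_⟩
        rw [← algebraMap_smul R' r x, PolynomialModule.single_smul, algebraMap_smul, ← hx]
        rfl }
  have hsm : ∀ (i : ℕ) (s : S), s ∈ 𝒜 (i • 1) → ∀ (j : ℕ) (x : M), ∃ a : R', s • PolynomialModule.single R' j x =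
      PolynomialModule.single R' (i + j) (a • x) := fun i s hs j x => ⟨_, by
    show φ s • (PolynomialModule.single R' j x : P) = _
    rw [hφ i s hs, PolynomialModule.monomial_smul_single]⟩
  haveI hgs : SetLike.GradedSMul 𝒜 ℳ := ⟨fun {i j} s n hs hn => by
    obtain ⟨x, hx⟩ := hn
    obtain ⟨a, ha⟩ := hsm i s (by rwa [smul_eq_mul, mul_one]) j x
    exact ⟨a • x, by rw [vadd_eq_add, ← ha, ← hx]; rfl⟩⟩
  have hint : DirectSum.IsInternal ℳ := by
    refine DirectSum.isInternal_submodule_of_iSupIndep_of_iSup_eq_top (fun d => ?_) (eq_top_iff.mpr fun n _ => ?_)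
    · rw [Submodule.disjoint_def]
      rintro n ⟨x, hx⟩ hn
      let π : N →ₗ[R] M := (Finsupp.lapply d).comp ((PolynomialModule.coeffLinearEquiv R' R).toLinearMap.comp (N.subtype.restrictScalars R))
      have h0 : π n = 0 := by
        refine (iSup₂_le (a := LinearMap.ker π) (fun j hj => ?_)) hn
        rintro y ⟨z, hz⟩
        show ((y : P).coeff) d = 0
        rw [hz, PolynomialModule.coeff_single, Finsupp.single_eq_of_ne (Ne.symm hj)]
      change ((n : P).coeff) d = 0 at h0
      rw [hx, PolynomialModule.coeff_single, Finsupp.single_eq_same] at h0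
      exact Subtype.ext (by rw [hx, h0, PolynomialModule.single_zero]; rfl)
    · suffices h : ∀ (p : P) (hp : p ∈ N), (⟨p, hp⟩ : N) ∈ ⨆ i, ℳ i from h n n.2
      intro p hp
      induction hp using Submodule.span_induction with
      | mem x hx =>
        obtain ⟨i, rfl⟩ := hx
        exact le_iSup ℳ 0 ⟨m i, rfl⟩
      | zero => exact zero_mem _
      | add x y hx hy ihx ihy => exact add_mem ihx ihy
      | smul s x hx ihx =>
        induction s using DirectSum.Decomposition.inductionOn 𝒜 with
        | zero =>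
          exact (show (⟨_, N.smul_mem (0 : S) hx⟩ : N) = 0 from Subtype.ext (zero_smul S x)) ▸ zero_mem _
        | homogeneous s =>
          rename_i i
          refine Submodule.iSup_induction ℳ (motive := fun z => (s : S) • z ∈ ⨆ i, ℳ i) ihx
            (fun j z hz => le_iSup ℳ _ (SetLike.GradedSMul.smul_mem s.2 hz)) (by simp) fun a b ha hb => by
              rw [smul_add]; exact add_mem ha hb
        | add a b ha hb =>
          exact (show (⟨_, N.smul_mem (a + b) hx⟩ : N) = ⟨_, N.smul_mem a hx⟩ + ⟨_, N.smul_mem b hx⟩ from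
            Subtype.ext (add_smul a b x)) ▸ add_mem ha hb
  letI : DirectSum.Decomposition ℳ := hint.chooseDecomposition
  let L := LocalizedModule (Submonoid.powers f) N
  let ι : N →ₗ[S] L := LocalizedModule.mkLinearMap (Submonoid.powers f) N
  have hι : ∀ n, LocalizedModule.mk n 1 = ι n := fun _ => rfl
  have hfpow : ∀ (c j : ℕ) (x : M), f ^ c • PolynomialModule.single R' j x = PolynomialModule.single R' (c + j) x :=
    fun c j x => by
      show φ (f ^ c) • (PolynomialModule.single R' j x : P) = _
      rw [map_pow, hφf, ← monomial_one_right_eq_X_pow, PolynomialModule.monomial_smul_single, one_smul]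
  have W : ∀ (x : L) (k j : ℕ) (n n' : N) (a b : M), (n : P) = PolynomialModule.single R' k a →
      (n' : P) = PolynomialModule.single R' j b → f ^ k • x = ι n → f ^ j • x = ι n' → a = b := by
    intro x k j n n' a b hn hn' h h'
    have h1 : ι (f ^ j • n) = ι (f ^ k • n') := by rw [map_smul, map_smul, ← h, ← h', smul_comm]
    obtain ⟨⟨_, c, rfl⟩, hc⟩ := (IsLocalizedModule.eq_iff_exists (Submonoid.powers f) ι).mp h1
    have h2 := congrArg Subtype.val hc
    simp only [Submonoid.smul_def, SetLike.val_smul, hn, hn', hfpow] at h2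
    rw [show c + (j + k) = c + (k + j) by omega] at h2
    have := congrArg (fun p : P => p.coeff (c + (k + j))) h2
    simpa using this
  let Nf : Submodule R L :=
    { carrier := {x | ∃ k : ℕ, ∃ n ∈ ℳ k, f ^ k • x = ι n}
      zero_mem' := ⟨0, 0, zero_mem _, by simp⟩
      add_mem' := by
        rintro x y ⟨k, n, hn, hx⟩ ⟨j, n', hn', hy⟩
        refine ⟨k + j, f ^ j • n + f ^ k • n', add_mem ?_ ?_, ?_⟩
        · have hp : f ^ j ∈ 𝒜 j := by simpa using SetLike.pow_mem_graded j hf
          have := SetLike.GradedSMul.smul_mem hp hn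
          rwa [vadd_eq_add, add_comm] at this
        · have hp : f ^ k ∈ 𝒜 k := by simpa using SetLike.pow_mem_graded k hf
          exact SetLike.GradedSMul.smul_mem hp hn'
        · rw [map_add, map_smul, map_smul, ← hx, ← hy, smul_add, pow_add, mul_smul, mul_smul]
          congr 1
          exact smul_comm _ _ _
      smul_mem' := by
        rintro r x ⟨k, n, hn, hx⟩
        refine ⟨k, r • n, (ℳ k).smul_mem r hn, ?_⟩
        rw [smul_comm, hx, LinearMap.map_smul_of_tower] }
  have hrep : ∀ x : Nf, ∃ (a : M) (k : ℕ) (n : N), (n : P) = PolynomialModule.single R' k a ∧ f ^ k • (x : L) = ι n := by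
    rintro ⟨x, k, n, ⟨a, ha⟩, hx⟩
    exact ⟨a, k, n, ha, hx⟩
  choose E K Nn hN hx using hrep
  have hE : ∀ (x : Nf) (a : M) (k : ℕ) (n : N), (n : P) = PolynomialModule.single R' k a →
      f ^ k • (x : L) = ι n → E x = a := fun x a k n h h' => W x _ _ _ _ _ _ (hN x) h (hx x) h'
  let E' : Nf →ₗ[R] M :=
    { toFun := E
      map_add' := fun x y => hE _ _ (K x + K y) (f ^ K y • Nn x + f ^ K x • Nn y)
        (by simp only [Submodule.coe_add, SetLike.val_smul, hN, hfpow, PolynomialModule.single_add]
            rw [add_comm (K y) (K x)])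
        (by rw [map_add, map_smul, map_smul, ← hx, ← hx, Submodule.coe_add, smul_add, pow_add, mul_smul, mul_smul]
            congr 1
            exact smul_comm _ _ _)
      map_smul' := fun r x => hE _ _ (K x) (r • Nn x)
        (by rw [RingHom.id_apply, Submodule.coe_smul_of_tower, hN, ← algebraMap_smul R' r (E x), PolynomialModule.single_smul,
              algebraMap_smul])
        (by rw [Submodule.coe_smul, smul_comm, hx, LinearMap.map_smul_of_tower]) }
  have hunit : ∀ k : ℕ, Function.Injective fun x : L => f ^ k • x := fun k =>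
    ((Module.End.isUnit_iff _).mp (IsLocalizedModule.map_units ι ⟨f ^ k, Submonoid.mem_powers_iff _ _ |>.mpr ⟨k, rfl⟩⟩)).1
  have hinj : Function.Injective E' := fun x y h => by
    have h1 : f ^ K y • Nn x = f ^ K x • Nn y := Subtype.ext (by
      rw [SetLike.val_smul, SetLike.val_smul, hN, hN, hfpow, hfpow, add_comm, show E x = E y from h])
    refine Subtype.ext (hunit (K x + K y) ?_)
    show f ^ (K x + K y) • (x : L) = f ^ (K x + K y) • (y : L)
    rw [pow_add, mul_smul, smul_comm, hx, mul_smul, hx, ← map_smul, ← map_smul, h1]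
  let T : Submodule R' M :=
    { carrier := {x | ∃ k, PolynomialModule.single R' k x ∈ N}
      zero_mem' := ⟨0, by rw [PolynomialModule.single_zero]; exact zero_mem _⟩
      add_mem' := by
        rintro x y ⟨k, hk⟩ ⟨j, hj⟩
        refine ⟨k + j, ?_⟩
        have h1 := N.smul_mem (f ^ j) hk
        have h2 := N.smul_mem (f ^ k) hj
        rw [hfpow] at h1 h2
        rw [PolynomialModule.single_add]
        exact add_mem (add_comm j k ▸ h1) h2
      smul_mem' := by
        rintro a x ⟨k, hk⟩
        obtain ⟨d, s, hs, hd⟩ := HomogeneousLocalization.Away.mk_surjective 𝒜 hf (e.symm a)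
        refine ⟨d + k, ?_⟩
        have h1 := N.smul_mem s hk
        change φ s • (PolynomialModule.single R' k x : P) ∈ N at h1
        rwa [hφ d s hs, PolynomialModule.monomial_smul_single, hd, RingEquiv.apply_symm_apply] at h1 }
  have hT : T = ⊤ := top_le_iff.mp (hm ▸ Submodule.span_le.mpr (by
    rintro _ ⟨i, rfl⟩
    exact ⟨0, Submodule.subset_span ⟨i, rfl⟩⟩))
  have hsurj : Function.Surjective E' := fun x => by
    obtain ⟨k, hk⟩ : x ∈ T := hT ▸ Submodule.mem_top
    have hu := IsLocalizedModule.mk'_cancel' ι (⟨_, hk⟩ : N) (⟨f ^ k, Submonoid.mem_powers_iff _ _ |>.mpr ⟨k, rfl⟩⟩ : Submonoid.powers f)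
    refine ⟨⟨IsLocalizedModule.mk' ι (⟨_, hk⟩ : N) ⟨f ^ k, Submonoid.mem_powers_iff _ _ |>.mpr ⟨k, rfl⟩⟩, k, ⟨_, hk⟩, ⟨x, rfl⟩, hu⟩, ?_⟩
    exact hE _ x k ⟨_, hk⟩ rfl hu
  refine ⟨N, inferInstance, inferInstance, inferInstance, inferInstance, ℳ, inferInstance, hgs, Nf,
    LinearEquiv.ofBijective E' ⟨hinj, hsurj⟩, Module.Finite.iff_fg.mpr (Submodule.fg_span (Set.finite_range _)),
    fun x => Iff.rfl, fun a x y hxy => ?_⟩
  obtain ⟨d, s, hs, rfl⟩ := HomogeneousLocalization.Away.mk_surjective 𝒜 hf a
  show E y = e _ • E x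
  refine hE y _ (d + K x) (s • Nn x) ?_ ?_
  · show φ s • (Nn x : P) = _
    rw [hφ d s hs, hN, PolynomialModule.monomial_smul_single]
  · have key : f ^ d • ((HomogeneousLocalization.Away.mk 𝒜 hf d s hs).val • (x : L)) = s • (x : L) := by
      rw [← smul_assoc, ← algebraMap_smul (Localization (Submonoid.powers f)) s (x : L), HomogeneousLocalization.Away.val_mk]
      congr 1
      rw [Algebra.smul_def, Localization.mk_eq_mk']
      exact IsLocalization.mk'_spec' (Localization (Submonoid.powers f)) s ⟨f ^ d, Submonoid.mem_powers_iff _ _ |>.mpr ⟨d, rfl⟩⟩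
    rw [map_smul, ← hx, ← hxy, add_comm d, pow_add, mul_smul, key]
    exact smul_comm _ _ _

end Groth.Agent.S12095
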