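import Groth.Statements.S12096
import Groth.Agent.Blow38.Basic
import Mathlib.Tactic.LinearCombination

set_option autoImplicit false
universe u
open BlowUp

namespace Groth.Agent.S12096

/-- Néron's blowup is compatible with localization. For a ring `A`, an ideal `I`, elements `π, a ∈ A`,
`A' = A[I/π] ⊆ A_π` the affine blowup algebra and `(A_a)' = A_a[I A_a/π]` that of the localization,
the canonical map `A' → (A_a)'` (the restriction of `A_π → (A_a)_π`, given here as a datum with that
compatibility) identifies `(A_a)'` with the localization `A'_a`. In Néron's situation (`I` the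
inverse image of the maximal ideal of `Λ`, `π` a uniformizer, `a ∉ I`) this reads: the Néron blowup
of `A_a` is `A'_a`; the identity holds for arbitrary `A, I, π, a`. -/
theorem result (A : Type u) [CommRing A] (I : Ideal A) (π a : A) (hπ : π ∈ I)
    (ψ : BlowUp.affineAlgebra A I π →+*
      BlowUp.affineAlgebra (Localization.Away a) (I.map (algebraMap A (Localization.Away a))) (algebraMap A (Localization.Away a) π))
    (hψ : ∀ x : BlowUp.affineAlgebra A I π,
      ((ψ x : BlowUp.affineAlgebra (Localization.Away a) (I.map (algebraMap A (Localization.Away a))) (algebraMap A (Localization.Away a) π)) :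
          Localization.Away (algebraMap A (Localization.Away a) π)) =
        Localization.awayMap (algebraMap A (Localization.Away a)) π (x : Localization.Away π)) :
    let := ψ.toAlgebra
    IsLocalization.Away (algebraMap A (BlowUp.affineAlgebra A I π) a)
      (BlowUp.affineAlgebra (Localization.Away a) (I.map (algebraMap A (Localization.Away a))) (algebraMap A (Localization.Away a) π)) := by
  let := ψ.toAlgebra
  let q := algebraMap A (Localization.Away a)
  have hval : ∀ (x : BlowUp.affineAlgebra A I π) (n : ℕ) (b : A),
      (x : Localization.Away π) * algebraMap A _ (π ^ n) = algebraMap A _ b →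
      (ψ x : Localization.Away (q π)) * algebraMap (Localization.Away a) _ ((q π) ^ n) =
        algebraMap (Localization.Away a) _ (q b) := by
    intro x n b h
    have h2 := congrArg (Localization.awayMap q π) h
    rw [map_mul, ← hψ] at h2
    simp only [Localization.awayMap, IsLocalization.Away.map, IsLocalization.map_eq, map_pow] at h2
    rw [map_pow]
    exact h2
  have hq : ∀ r : A, ψ (algebraMap A _ r) = algebraMap (Localization.Away a) _ (q r) := fun r =>
    Subtype.ext (Blow38.eq_of_mul_pow (n := 0) (by rw [hval _ 0 r (by simp)]; simp))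
  have hu : IsUnit (q a) := IsLocalization.Away.algebraMap_isUnit a
  refine IsLocalization.Away.mk _ ?_ (fun z => ?_) (fun x y hxy => ?_)
  · show IsUnit (ψ _)
    rw [hq]
    exact hu.map _
  · obtain ⟨n, c, hc, h⟩ := Blow38.exists_pow_mul (Ideal.mem_map_of_mem _ hπ) z
    rw [← Ideal.map_pow, IsLocalization.mem_map_algebraMap_iff (Submonoid.powers a)] at hc
    obtain ⟨⟨⟨b, hb⟩, ⟨_, k, rfl⟩⟩, hk⟩ := hc
    obtain ⟨y, hy⟩ := Blow38.exists_frac n hb
    refine ⟨k, y, ?_⟩
    show z * ψ _ ^ k = ψ y
    rw [hq]
    refine Subtype.ext (Blow38.eq_of_mul_pow (n := n) ?_)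
    rw [hval y n b hy, MulMemClass.coe_mul, SubmonoidClass.coe_pow, SubalgebraClass.coe_algebraMap,
      mul_right_comm, h, ← hk]
    simp only [q, map_mul, map_pow]
  · obtain ⟨n, b, -, h⟩ := Blow38.exists_pow_mul hπ (x - y)
    have h0 := hval _ n b h
    rw [map_sub, show ψ x = ψ y from hxy, sub_self, ZeroMemClass.coe_zero, zero_mul, eq_comm,
      IsLocalization.map_eq_zero_iff (Submonoid.powers (q π))] at h0
    obtain ⟨⟨_, m, rfl⟩, hm⟩ := h0
    replace hm : q (π ^ m * b) = 0 := by rw [map_mul, map_pow]; exact hm
    rw [IsLocalization.map_eq_zero_iff (Submonoid.powers a)] at hm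
    obtain ⟨⟨_, k, rfl⟩, hk⟩ := hm
    refine ⟨k, sub_eq_zero.1 (Subtype.ext ((Blow38.unit_pow π (m + n)).mul_left_eq_zero.1 ?_))⟩
    rw [← mul_sub]
    have h3 := congrArg (algebraMap A (Localization.Away π)) hk
    simp only [map_mul, map_zero, map_pow] at h3
    simp only [MulMemClass.coe_mul, SubmonoidClass.coe_pow, SubalgebraClass.coe_algebraMap, pow_add]
    rw [← h, map_pow] at h3
    simp only [map_mul, map_pow]
    linear_combination h3

end Groth.Agent.S12096
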