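import Groth.Statements.S12097
import Groth.Agent.Blow38.Basic
import Mathlib.Tactic.LinearCombination

set_option autoImplicit false
universe u
open BlowUp

namespace Groth.Agent.S12097

/-- Néron's blowup is compatible with closed immersions. For a surjective ring map `B → A` with kernel
`J`, an ideal `I ⊆ B` containing `π`, and the affine blowup algebras `B' = B[I/π] ⊆ B_π`, `A' =
A[IA/π] ⊆ A_π`, the canonical map `B' → A'` (the restriction of `B_π → A_π`, given as a datum with
that compatibility) is surjective with kernel the elements `x` such that `π^n x ∈ J B'` for some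
`n`: `A'` is the quotient of `B'/JB'` by its `π`-power torsion. In Néron's situation (`I` the
inverse image of the maximal ideal of `Λ`, `π` a uniformizer) this is the printed functoriality; the
identity holds for any surjection. -/
theorem result (B A : Type u) [CommRing B] [CommRing A] [Algebra B A]
    (hq : Function.Surjective (algebraMap B A)) (I : Ideal B) (π : B) (hπ : π ∈ I)
    (ψ : BlowUp.affineAlgebra B I π →+* BlowUp.affineAlgebra A (I.map (algebraMap B A)) (algebraMap B A π))
    (hψ : ∀ x : BlowUp.affineAlgebra B I π,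
      ((ψ x : BlowUp.affineAlgebra A (I.map (algebraMap B A)) (algebraMap B A π)) : Localization.Away (algebraMap B A π)) =
        Localization.awayMap (algebraMap B A) π (x : Localization.Away π)) :
    Function.Surjective ψ ∧
      ∀ x : BlowUp.affineAlgebra B I π, x ∈ RingHom.ker ψ ↔
        ∃ n : ℕ, algebraMap B (BlowUp.affineAlgebra B I π) π ^ n * x ∈
          (RingHom.ker (algebraMap B A)).map (algebraMap B (BlowUp.affineAlgebra B I π)) := by
  have hval : ∀ (x : BlowUp.affineAlgebra B I π) (n : ℕ) (b : B),
      (x : Localization.Away π) * algebraMap B _ (π ^ n) = algebraMap B _ b →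
      (ψ x : Localization.Away (algebraMap B A π)) * algebraMap A _ ((algebraMap B A π) ^ n) =
        algebraMap A _ (algebraMap B A b) := by
    intro x n b h
    have h2 := congrArg (Localization.awayMap (algebraMap B A) π) h
    rw [map_mul, ← hψ] at h2
    simp only [Localization.awayMap, IsLocalization.Away.map, IsLocalization.map_eq, map_pow] at h2
    rw [map_pow]
    exact h2
  refine ⟨fun z => ?_, fun x => ⟨fun hx => ?_, ?_⟩⟩
  · obtain ⟨n, c, hc, h⟩ := Blow38.exists_pow_mul (Ideal.mem_map_of_mem _ hπ) z
    rw [← Ideal.map_pow, Ideal.mem_map_iff_of_surjective _ hq] at hc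
    obtain ⟨b, hb, rfl⟩ := hc
    obtain ⟨y, hy⟩ := Blow38.exists_frac n hb
    exact ⟨y, Subtype.ext (Blow38.eq_of_mul_pow ((hval y n b hy).trans h.symm))⟩
  · obtain ⟨n, b, -, h⟩ := Blow38.exists_pow_mul hπ x
    have h0 := hval x n b h
    rw [RingHom.mem_ker.1 hx, ZeroMemClass.coe_zero, zero_mul, eq_comm,
      IsLocalization.map_eq_zero_iff (Submonoid.powers (algebraMap B A π))] at h0
    obtain ⟨⟨_, m, rfl⟩, hm⟩ := h0
    refine ⟨m + n, ?_⟩
    have e : algebraMap B (BlowUp.affineAlgebra B I π) π ^ (m + n) * x =
        algebraMap B _ (π ^ m * b) := by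
      refine Subtype.ext ?_
      simp only [MulMemClass.coe_mul, SubmonoidClass.coe_pow, SubalgebraClass.coe_algebraMap, map_mul, ← h,
        map_pow, pow_add]
      ring
    rw [e]
    refine Ideal.mem_map_of_mem _ (RingHom.mem_ker.2 ?_)
    rw [map_mul, map_pow]
    exact hm
  · rintro ⟨n, hn⟩
    have h0 : ψ (algebraMap B (BlowUp.affineAlgebra B I π) π ^ n * x) = 0 := by
      refine RingHom.mem_ker.1 ((Ideal.map_le_iff_le_comap.2 fun j hj => ?_) hn)
      refine RingHom.mem_ker.2 (Subtype.ext (Blow38.eq_of_mul_pow (n := 0) ?_))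
      rw [hval _ 0 j (by simp), RingHom.mem_ker.1 hj, map_zero, ZeroMemClass.coe_zero, zero_mul]
    have hp := hval (algebraMap B (BlowUp.affineAlgebra B I π) π ^ n) 0 (π ^ n)
      (by simp [SubalgebraClass.coe_algebraMap])
    refine RingHom.mem_ker.2 (Subtype.ext (Blow38.eq_of_mul_pow (n := n) ?_))
    have h1 := congrArg (Subtype.val : BlowUp.affineAlgebra A (I.map (algebraMap B A)) (algebraMap B A π) → Localization.Away (algebraMap B A π)) h0
    simp only [map_mul, MulMemClass.coe_mul, ZeroMemClass.coe_zero] at h1
    rw [pow_zero, map_one, mul_one, map_pow (algebraMap B A)] at hp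
    rw [ZeroMemClass.coe_zero, zero_mul, mul_comm, ← hp]
    exact h1

end Groth.Agent.S12097
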