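import Groth.Statements.S12104
import Groth.Agent.RedPts82.EtaleRigid

set_option autoImplicit false
open CategoryTheory MonoidalCategory CartesianMonoidalCategory MonObj GrpObj AlgebraicGeometry
universe u
open RedSub

open Groth.Agent.RedPts82 CategoryTheory.Limits

namespace Groth.Agent.S12104

theorem exists_comparison {S : Scheme.{u}} {M C₁ C₂ : Over S} (c₁ : M ⟶ C₁) (c₂ : M ⟶ C₂)
    (h₁ : Smooth c₁.left) (hs₁ : Surjective c₁.left)
    (hconn : ∀ c : ↥C₁.left, ConnectedSpace ↥(Red.geomFibre c (Over.mk c₁.left)).left)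
    (hfin : IsFinite C₂.hom) (het : Etale C₂.hom) :
    ∃! d : C₁ ⟶ C₂, c₁ ≫ d = c₂ := by
  refine Cov.desc ⟨hs₁, inferInstance, inferInstance⟩ c₂ fun W a b hab => ?_
  apply Over.OverMorphism.ext
  refine eq_of_formallyUnramified C₂.hom _ _ (by simp) fun w => ?_
  let c0 : ↥C₁.left := (a ≫ c₁).left.base w
  have hb : b.left ≫ c₁.left = a.left ≫ c₁.left := (congrArg CommaMorphism.left hab).symm
  let K := AlgebraicClosure (C₁.left.residueField c0)
  let j := Red.geomPt c0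
  let φ : pullback c₁.left j ⟶ pullback C₂.hom (j ≫ C₁.hom) := pullback.lift (pullback.fst _ _ ≫ c₂.left) (pullback.snd _ _) (by
    rw [Category.assoc, Over.w, ← pullback.condition_assoc, Over.w])
  have : ConnectedSpace ↥(pullback c₁.left j) := hconn c0
  obtain ⟨s, -, hs⟩ := exists_section_of_connected (pullback.snd C₂.hom (j ≫ C₁.hom)) φ
  refine ⟨pullback (a ≫ c₁).left j, pullback.fst _ _, ?_, ?_⟩
  · rw [Scheme.Pullback.range_fst]
    refine ⟨(inferInstance : Nonempty (Spec (CommRingCat.of K))).some, ?_⟩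
    rw [Scheme.Hom.comp_apply]
    exact C₁.left.fromSpecResidueField_apply c0 _
  · have key : ∀ e : W ⟶ M, e.left ≫ c₁.left = (a ≫ c₁).left →
        pullback.fst (a ≫ c₁).left j ≫ (e ≫ c₂).left =
          pullback.snd (a ≫ c₁).left j ≫ s ≫ pullback.fst _ _ := by
      intro e he
      let t : pullback (a ≫ c₁).left j ⟶ pullback c₁.left j :=
        pullback.lift (pullback.fst _ _ ≫ e.left) (pullback.snd _ _) (by
          rw [Category.assoc, he, pullback.condition])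
      calc pullback.fst (a ≫ c₁).left j ≫ (e ≫ c₂).left
          = t ≫ φ ≫ pullback.fst _ _ := by
            dsimp only [t, φ]
            erw [pullback.lift_fst, pullback.lift_fst_assoc]
            rfl
        _ = t ≫ (φ ≫ pullback.snd C₂.hom (j ≫ C₁.hom) ≫ s) ≫ pullback.fst _ _ := by
          conv_lhs => rw [hs]
        _ = _ := by
            dsimp only [t, φ]
            simp only [Category.assoc]
            erw [pullback.lift_snd_assoc, pullback.lift_snd_assoc]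
    rw [key a rfl, key b hb]


/-- Let G be a reductive S-group and (M, h : H ⟶ G_M) a representing pair for the functor of subgroups
of type (RC) of G (type (R) with closed root sets on the geometric fibres; every such subgroup of a
base change G_{S'} has the same points as the pullback of h along exactly one S-morphism S' ⟶ M).
Suppose (Cl₁, cl₁ : M ⟶ Cl₁) and (Cl₂, cl₂ : M ⟶ Cl₂) are two pairs with the following properties:
Clᵢ finite and etale over S; clᵢ smooth, surjective, quasi-compact, locally of finite presentation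
and locally quasi-projective with connected geometric fibres; and two subgroups of type (RC) of
G_{S'} with classifying maps g₁, g₂ : S' ⟶ M have the same image under clᵢ if and only if at every
point of S' their geometric fibres are conjugate under a point of the geometric fibre of G. Then
there is exactly one S-isomorphism e : Cl₁ ≅ Cl₂ with cl₁ ≫ e.hom = cl₂. -/
theorem result {S : Scheme.{u}} (G : Over S) [GrpObj G] (hG : Red.IsReductive G)
    (M : Over S) (H : Over M.left) [GrpObj H] (h : H ⟶ Red.bc M.hom G) (hh : RedSub.IsTypeR h)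
    (hRC : (∀ (s : ↥M.left) (D' : Red.SplitRed (Red.geomFibre s (Red.bc M.hom G))) (t' : D'.T ⟶ Red.geomFibre s _),
        t' ≫ (Over.pullback (Red.geomPt s)).map h = D'.i →
        ∀ a b c : D'.idx, (∃ v, v ≫ (Over.pullback (Red.geomPt s)).map h = D'.u a) →
          (∃ v, v ≫ (Over.pullback (Red.geomPt s)).map h = D'.u b) → D'.P.root a + D'.P.root b = D'.P.root c →
          ∃ v, v ≫ (Over.pullback (Red.geomPt s)).map h = D'.u c))
    (huniv : ∀ (S' : Scheme.{u}) (f : S' ⟶ S) (H' : Over S') [GrpObj H'] (h' : H' ⟶ Red.bc f G), RedSub.IsTypeR h' →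
        (∀ (s : ↥S') (D' : Red.SplitRed (Red.geomFibre s (Red.bc f G))) (t' : D'.T ⟶ Red.geomFibre s _),
        t' ≫ (Over.pullback (Red.geomPt s)).map h' = D'.i →
        ∀ a b c : D'.idx, (∃ v, v ≫ (Over.pullback (Red.geomPt s)).map h' = D'.u a) →
          (∃ v, v ≫ (Over.pullback (Red.geomPt s)).map h' = D'.u b) → D'.P.root a + D'.P.root b = D'.P.root c →
          ∃ v, v ≫ (Over.pullback (Red.geomPt s)).map h' = D'.u c) →
        ∃! g : S' ⟶ M.left, g ≫ M.hom = f ∧ RedSub.SamePoints G f h' M h g) 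
    (Cl₁ : Over S) (cl₁ : M ⟶ Cl₁) (Cl₂ : Over S) (cl₂ : M ⟶ Cl₂)
    (hCl₁ : IsFinite Cl₁.hom ∧ Etale Cl₁.hom ∧ Smooth cl₁.left ∧ Surjective cl₁.left ∧
      QuasiCompact cl₁.left ∧ LocallyOfFinitePresentation cl₁.left ∧ RedSub.IsLocallyQuasiProjective (Over.mk cl₁.left) ∧
      (∀ c : ↥Cl₁.left, ConnectedSpace ↥(Red.geomFibre c (Over.mk cl₁.left)).left) ∧
      ∀ (S' : Scheme.{u}) (f : S' ⟶ S) (H₁ H₂ : Over S') [GrpObj H₁] [GrpObj H₂] (h₁ : H₁ ⟶ Red.bc f G)
        (h₂ : H₂ ⟶ Red.bc f G) (g₁ g₂ : S' ⟶ M.left), RedSub.IsTypeR h₁ → RedSub.IsTypeR h₂ →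
        g₁ ≫ M.hom = f → g₂ ≫ M.hom = f → RedSub.SamePoints G f h₁ M h g₁ → RedSub.SamePoints G f h₂ M h g₂ →
        (g₁ ≫ cl₁.left = g₂ ≫ cl₁.left ↔
          ∀ s : ↥S', ∃ gpt : 𝟙_ _ ⟶ Red.geomFibre s (Red.bc f G),
            RedSub.ConjEq ((Over.pullback (Red.geomPt s)).map h₁) ((Over.pullback (Red.geomPt s)).map h₂) gpt))
    (hCl₂ : IsFinite Cl₂.hom ∧ Etale Cl₂.hom ∧ Smooth cl₂.left ∧ Surjective cl₂.left ∧
      QuasiCompact cl₂.left ∧ LocallyOfFinitePresentation cl₂.left ∧ RedSub.IsLocallyQuasiProjective (Over.mk cl₂.left) ∧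
      (∀ c : ↥Cl₂.left, ConnectedSpace ↥(Red.geomFibre c (Over.mk cl₂.left)).left) ∧
      ∀ (S' : Scheme.{u}) (f : S' ⟶ S) (H₁ H₂ : Over S') [GrpObj H₁] [GrpObj H₂] (h₁ : H₁ ⟶ Red.bc f G)
        (h₂ : H₂ ⟶ Red.bc f G) (g₁ g₂ : S' ⟶ M.left), RedSub.IsTypeR h₁ → RedSub.IsTypeR h₂ →
        g₁ ≫ M.hom = f → g₂ ≫ M.hom = f → RedSub.SamePoints G f h₁ M h g₁ → RedSub.SamePoints G f h₂ M h g₂ →
        (g₁ ≫ cl₂.left = g₂ ≫ cl₂.left ↔
          ∀ s : ↥S', ∃ gpt : 𝟙_ _ ⟶ Red.geomFibre s (Red.bc f G),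
            RedSub.ConjEq ((Over.pullback (Red.geomPt s)).map h₁) ((Over.pullback (Red.geomPt s)).map h₂) gpt)) :
    ∃! e : Cl₁ ≅ Cl₂, cl₁ ≫ e.hom = cl₂ := by
  obtain ⟨hf₁, he₁, hs₁, hsur₁, -, -, -, hc₁, -⟩ := hCl₁
  obtain ⟨hf₂, he₂, hs₂, hsur₂, -, -, -, hc₂, -⟩ := hCl₂
  obtain ⟨d, hd, -⟩ := exists_comparison cl₁ cl₂ hs₁ hsur₁ hc₁ hf₂ he₂
  obtain ⟨d', hd', -⟩ := exists_comparison cl₂ cl₁ hs₂ hsur₂ hc₂ hf₁ he₁
  have := (⟨hsur₁, inferInstance, inferInstance⟩ : Cov cl₁).epi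
  have := (⟨hsur₂, inferInstance, inferInstance⟩ : Cov cl₂).epi
  refine ⟨⟨d, d', ?_, ?_⟩, hd, fun e he => Iso.ext ?_⟩
  · rw [← cancel_epi cl₁, ← Category.assoc, hd, hd', Category.comp_id]
  · rw [← cancel_epi cl₂, ← Category.assoc, hd', hd, Category.comp_id]
  · exact (cancel_epi cl₁).mp (he.trans hd.symm)

end Groth.Agent.S12104
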