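import Groth.Statements.S12105
import Groth.Agent.Fib44.PresheafCohSS

set_option autoImplicit false
universe u
open CategoryTheory
open CohSite

namespace Groth.Agent.S12105

open CategoryTheory.Limits in
/-- On a small site (C, J), for a presheaf of sets R on C and an abelian sheaf M there is a bounded E_2
spectral sequence of abelian groups with E_2^{p,q} isomorphic to H^p(R, H^q(M)) — the cohomology, in
the topos of presheaves (sheaves for the trivial topology), of the presheaf V ↦ H^q(V, M) with
respect to R, i.e. the p-th Ext out of the free abelian presheaf on R — for p, q ≥ 0 and zero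
otherwise, with abutment data whose filtrations are finite on H^n(aR, M), the cohomology of M with
respect to the sheaf of sets associated to R (n ≥ 0; zero for n < 0). The E_2 identifications and
abutment isomorphisms are asserted to exist only, not pinned to the canonical maps, so edge maps and
functoriality in R and M are not part of this statement. -/
theorem result {C : Type u} [SmallCategory C]
    (J : GrothendieckTopology C) (R : Cᵒᵖ ⥤ Type u) (M : Sheaf J AddCommGrpCat.{u}) :
    ∃ (E : E₂CohomologicalSpectralSequence AddCommGrpCat.{u})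
      (a : SpSeq.Abutment E (fun n : ℤ =>
        if 0 ≤ n then AddCommGrpCat.of (CohCx.HK ((presheafToSheaf J (Type u)).obj R) M n.toNat)
        else AddCommGrpCat.of PUnit.{u + 1})),
      (∀ n, a.IsFinite n) ∧ SpSeq.IsBounded E ∧
      ∀ p q : ℤ, Nonempty ((E.page 2 le_rfl).X (p, q) ≅
        (if 0 ≤ p ∧ 0 ≤ q then
          AddCommGrpCat.of (CohCx.HK (J := (⊥ : GrothendieckTopology C)) ⟨R, Presheaf.isSheaf_bot _⟩
            ⟨M.cohomologyPresheaf q.toNat, Presheaf.isSheaf_bot _⟩ p.toNat)
         else AddCommGrpCat.of PUnit.{u + 1})) := by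
  have := Groth.Agent.Fib44.PshSS.homFun_preservesFiniteLimits (⊥ : GrothendieckTopology C) R
  have hinv : (sheafBotEquivalence (C := C) AddCommGrpCat.{u}).inverse.Additive :=
    ⟨fun {P Q f g} => rfl⟩
  refine Groth.Agent.GSS45.exists_spectralSequence_comp (Groth.Agent.Fib44.PshSS.toBot J)
    (Groth.Agent.Fib44.PshSS.homFun (⊥ : GrothendieckTopology C) R) (fun Q _ q hq => ?_) M
    (fun n => ?_) (fun n hn => ?_) (fun p q => ?_) (fun p q h => ?_)
  · obtain ⟨q, rfl⟩ := Nat.exists_eq_add_of_le' (Nat.succ_le_of_lt hq)
    have hQ : Injective Q.obj := Groth.Agent.Fib44.CechInj.injective_presheaf Q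
    have : Injective ((Groth.Agent.Fib44.PshSS.toBot J).obj Q) :=
      (sheafBotEquivalence (C := C) AddCommGrpCat.{u}).toAdjunction.map_injective _ hQ
    exact Functor.isZero_rightDerived_obj_injective_succ _ q _
  · rw [if_pos (Int.natCast_nonneg n), Int.toNat_natCast]
    exact ⟨(Groth.Agent.Fib44.rightDerivedIsoOfIso
      (Groth.Agent.Fib44.PshSS.compIso J R).symm n).app M ≪≫
        Groth.Agent.Fib44.PshSS.rightDerivedHomFunIso J R n M ≪≫
        ((Abelian.extFunctor n).mapIso ((Groth.Agent.SiteCoh.freeAbSheafifyIso J).app R).op).app M⟩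
  · rw [if_neg (by omega)]
    exact AddCommGrpCat.isZero_of_subsingleton _
  · rw [if_pos ⟨Int.natCast_nonneg p, Int.natCast_nonneg q⟩, Int.toNat_natCast, Int.toNat_natCast]
    exact ⟨((Groth.Agent.Fib44.PshSS.homFun (⊥ : GrothendieckTopology C) R).rightDerived p).mapIso
      ((Groth.Agent.SiteCoh.rightDerivedCompExactIso _ _ q ≪≫
        Functor.isoWhiskerRight (Groth.Agent.SiteCoh.rightDerivedSheafToPresheafIso J q) _).app M) ≪≫
      Groth.Agent.Fib44.PshSS.rightDerivedHomFunIso _ R p _⟩
  · rw [if_neg (by omega)]
    exact AddCommGrpCat.isZero_of_subsingleton _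

end Groth.Agent.S12105
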