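import Groth.Statements.S12113
import Groth.Agent.ExtGrp38.Kernel
import Mathlib.Tactic.Group

set_option autoImplicit false
universe u
open CategoryTheory CategoryTheory.Limits MonoidalCategory CartesianMonoidalCategory MonObj AlgebraicGeometry
open SGA7

namespace Groth.Agent.S12113

open CategoryTheory MonoidalCategory CartesianMonoidalCategory MonObj


/-- Group schemes, fppf site: over a base scheme S, let P and G be S-group schemes with G commutative,
and let u : G → E, v : E → P and u' : G → E', v' : E' → P be homomorphisms forming sequences 1 → G →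
E → P → 1 and 1 → G → E' → P → 1 exact for the fppf topology. Suppose every morphism of S-schemes P
×_S P → G trivial on P × e_P and on e_P × P is trivial. Let f : E → E' be a morphism of S-schemes
over P (f ≫ v' = v) and under G (u ≫ f = u'), preserving the unit section, and compatible with left
and right translations by G: for all points g of G and x of E with values in any S-scheme, f(u(g) x)
= u'(g) f(x) and f(x u(g)) = f(x) u'(g). Then f is a homomorphism of S-group schemes: such
extensions have no non-multiplicative morphisms of their underlying rigidified bitorsors. (The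
published statement is for sheaves of groups on an arbitrary topos and phrased as full faithfulness
of the functor from extensions to rigidified bitorsors; this row is the case of representable
sheaves on the fppf site of S, with G commutative so that the defect of multiplicativity descends to
P ×_S P as in the printed argument. Morphisms to a group scheme form a group; trivial means equal to
its unit.) -/
theorem result (S : Scheme.{u})
    (P G E E' : Over S) [GrpObj P] [GrpObj G] [GrpObj E] [GrpObj E'] [IsCommMonObj G]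
    (u : G ⟶ E) (v : E ⟶ P) (hex : NonAbH1.IsExactSeq Scheme.fppfPrecoverage u v)
    (u' : G ⟶ E') (v' : E' ⟶ P) (hex' : NonAbH1.IsExactSeq Scheme.fppfPrecoverage u' v')
    (hPP : ∀ c : P ⊗ P ⟶ G, lift (𝟙 P) (toUnit P ≫ η[P]) ≫ c = 1 → lift (toUnit P ≫ η[P]) (𝟙 P) ≫ c = 1 → c = 1)
    (f : E ⟶ E') (hv : f ≫ v' = v) (hu : u ≫ f = u') (h1 : η[E] ≫ f = η[E'])
    (hl : ∀ (T : Over S) (g : T ⟶ G) (x : T ⟶ E), ((g ≫ u) * x) ≫ f = (g ≫ u') * (x ≫ f))
    (hr : ∀ (T : Over S) (g : T ⟶ G) (x : T ⟶ E), (x * (g ≫ u)) ≫ f = (x ≫ f) * (g ≫ u')) :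
    IsMonHom f := by
  have := hex.1
  have := hex.2.1
  have := hex'.1
  have := hex'.2.1
  have hcov : ExtGrp38.Covers v := ExtGrp38.covers_of_locallyTrivial v hex.2.2.2.2
  let a : E ⊗ E ⟶ E := fst E E
  let b : E ⊗ E ⟶ E := snd E E
  obtain ⟨c, hc⟩ := ExtGrp38.ker_exists_one hex' (y := ((a ≫ f) * (b ≫ f))⁻¹ * ((a * b) ≫ f)) (by
    rw [MonObj.mul_comp, GrpObj.inv_comp, MonObj.mul_comp, Category.assoc, Category.assoc, Category.assoc, hv,
      MonObj.mul_comp, inv_mul_cancel])
  have hpt : ∀ (Z : Over S) (z : Z ⟶ E ⊗ E), (z ≫ c) ≫ u' =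
      (((z ≫ fst E E) ≫ f) * ((z ≫ snd E E) ≫ f))⁻¹ * (((z ≫ fst E E) * (z ≫ snd E E)) ≫ f) := by
    intro Z z
    rw [Category.assoc, ← hc, MonObj.comp_mul, GrpObj.comp_inv, MonObj.comp_mul, ← Category.assoc z (a * b) f,
      MonObj.comp_mul]
    simp only [a, b, Category.assoc]
  obtain ⟨ψ, hψ⟩ := ExtGrp38.descend (hcov.tensor hcov) c fun Z e e' he => by
    have hf : (e ≫ fst E E) ≫ v = (e' ≫ fst E E) ≫ v := by
      have := congrArg (· ≫ fst P P) he
      simpa using this
    have hs : (e ≫ snd E E) ≫ v = (e' ≫ snd E E) ≫ v := by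
      have := congrArg (· ≫ snd P P) he
      simpa using this
    obtain ⟨g₁, hg⟩ := ExtGrp38.ker_exists hex hf
    obtain ⟨g₂, hh⟩ := ExtGrp38.ker_exists hex hs
    refine ExtGrp38.ker_unique hex' ?_
    rw [hpt Z e', hg, hh]
    generalize hp : e ≫ fst E E = p at *
    generalize hq : e ≫ snd E E = q at *
    obtain ⟨g₃, h3⟩ := ExtGrp38.ker_exists hex (x := q) (y := (g₁ ≫ u) * q)
      (by rw [MonObj.mul_comp, ExtGrp38.pt_uv hex, _root_.one_mul])
    have h3' : (g₁ ≫ u') * (q ≫ f) = (q ≫ f) * (g₃ ≫ u') := by rw [← hl, h3, hr]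
    have eW : (p * (g₁ ≫ u) * (q * (g₂ ≫ u))) ≫ f = ((p * q) ≫ f) * (((g₃ * g₂)) ≫ u') := by
      rw [show p * (g₁ ≫ u) * (q * (g₂ ≫ u)) = (p * q) * ((g₃ * g₂) ≫ u) by
        rw [MonObj.mul_comp, ← _root_.mul_assoc, _root_.mul_assoc p (g₁ ≫ u) q, h3]; group, hr]
    have eX : ((p * (g₁ ≫ u)) ≫ f) * ((q * (g₂ ≫ u)) ≫ f) = (p ≫ f) * (q ≫ f) * ((g₃ * g₂) ≫ u') := by
      rw [hr, hr, MonObj.mul_comp]
      calc (p ≫ f) * (g₁ ≫ u') * ((q ≫ f) * (g₂ ≫ u')) = (p ≫ f) * ((g₁ ≫ u') * (q ≫ f)) * (g₂ ≫ u') := by group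
        _ = _ := by rw [h3']; group
    rw [eW, eX, hpt Z e, hp, hq]
    obtain ⟨h, hh'⟩ := ExtGrp38.ker_exists_one hex' (y := ((p ≫ f) * (q ≫ f))⁻¹ * ((p * q) ≫ f)) (by
      rw [MonObj.mul_comp, GrpObj.inv_comp, MonObj.mul_comp, Category.assoc, Category.assoc, Category.assoc, hv,
        MonObj.mul_comp, inv_mul_cancel])
    rw [hh', mul_inv_rev, _root_.mul_assoc, ← _root_.mul_assoc ((p ≫ f) * (q ≫ f))⁻¹, hh', ExtGrp38.comp_comm hex' h (g₃ * g₂)]
    group
  have hf1 : ∀ T : Over S, (1 : T ⟶ E) ≫ f = 1 := fun T => by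
    rw [Hom.one_def, Category.assoc, h1, ← Hom.one_def]
  have hψ1 : ψ = 1 := by
    refine hPP ψ ?_ ?_
    · refine ExtGrp38.cancel hcov ?_
      rw [MonObj.comp_one, ← Category.assoc,
        show v ≫ lift (𝟙 P) (toUnit P ≫ η[P]) = lift (𝟙 E) (toUnit E ≫ η[E]) ≫ (v ⊗ₘ v) by
          ext
          · simp
          · rw [Category.assoc, lift_snd, Category.assoc, tensorHom_snd, lift_snd_assoc, ← Hom.one_def,
              ← Hom.one_def, MonObj.one_comp, MonObj.comp_one],
        Category.assoc, hψ]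
      refine (ExtGrp38.comp_inj hex').1 ?_
      rw [hpt, lift_fst, lift_snd, ← Hom.one_def, hf1]
      simp
    · refine ExtGrp38.cancel hcov ?_
      rw [MonObj.comp_one, ← Category.assoc,
        show v ≫ lift (toUnit P ≫ η[P]) (𝟙 P) = lift (toUnit E ≫ η[E]) (𝟙 E) ≫ (v ⊗ₘ v) by
          ext
          · rw [Category.assoc, lift_fst, Category.assoc, tensorHom_fst, lift_fst_assoc, ← Hom.one_def,
              ← Hom.one_def, MonObj.one_comp, MonObj.comp_one]
          · simp,
        Category.assoc, hψ]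
      refine (ExtGrp38.comp_inj hex').1 ?_
      rw [hpt, lift_fst, lift_snd, ← Hom.one_def, hf1]
      simp
  have h2 : (𝟙 (E ⊗ E) ≫ c) ≫ u' = 1 := by
    rw [Category.id_comp, ← hψ, hψ1, MonObj.comp_one, MonObj.one_comp]
  rw [hpt, Category.id_comp, Category.id_comp, inv_mul_eq_one] at h2
  refine ⟨h1, ?_⟩
  calc μ[E] ≫ f = (fst E E * snd E E) ≫ f := by rw [Hom.mul_def, lift_fst_snd, Category.id_comp]
    _ = (fst E E ≫ f) * (snd E E ≫ f) := h2.symm
    _ = (f ⊗ₘ f) ≫ μ[E'] := by
      rw [Hom.mul_def]; congr 1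

end Groth.Agent.S12113
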