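import Groth.Statements.S12118
import Mathlib

set_option autoImplicit false
universe u v
open EGA41

namespace Groth.Agent.S12118

/-- Let A be a commutative ring, M an A-module, (M_k)_{k ≥ 0} a decreasing filtration of M by submodules
with M_0 = M and ⋂_k M_k = 0, and f an element of A which is a non-zero-divisor on every graded
piece M_k/M_{k+1} (equivalently on the associated graded module). Then (i) f is a non-zero-divisor
on M, and (ii) M_k ∩ fM = fM_k for every k ≥ 0. -/
theorem result {A : Type u} [CommRing A] {M : Type v} [AddCommGroup M] [Module A M]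
    (F : ℕ → Submodule A M) (hanti : Antitone F) (h0 : F 0 = ⊤) (hsep : ⨅ k, F k = ⊥) (f : A)
    (hreg : ∀ k : ℕ, IsSMulRegular (↥(F k) ⧸ Submodule.comap (F k).subtype (F (k + 1))) f) :
    IsSMulRegular M f ∧ ∀ k : ℕ, F k ⊓ (Ideal.span {f} • (⊤ : Submodule A M)) = Ideal.span {f} • F k := by
  have key : ∀ k m, f • m ∈ F k → m ∈ F k := by
    intro k
    induction k with
    | zero => intro m _; simp [h0]
    | succ k ih =>
      intro m hm
      have hk := ih m (hanti (Nat.le_succ k) hm)
      have h1 : f • (Submodule.Quotient.mk ⟨m, hk⟩ : ↥(F k) ⧸ Submodule.comap (F k).subtype (F (k + 1))) = f • 0 := by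
        rw [smul_zero, ← Submodule.Quotient.mk_smul, Submodule.Quotient.mk_eq_zero]
        simpa using hm
      simpa [Submodule.Quotient.mk_eq_zero] using hreg k h1
  refine ⟨isSMulRegular_iff_right_eq_zero_of_smul.2 fun m hm => ?_, fun k => ?_⟩
  · have : m ∈ ⨅ k, F k := Submodule.mem_iInf _ |>.2 fun k => key k m (by rw [hm]; exact zero_mem _)
    simpa [hsep] using this
  · refine le_antisymm ?_ (le_inf Submodule.smul_le_right (Submodule.smul_mono le_rfl le_top))
    rintro x ⟨hx, hx'⟩
    rw [Submodule.ideal_span_singleton_smul] at hx'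
    obtain ⟨m, -, rfl⟩ := (Submodule.mem_smul_pointwise_iff_exists _ _ _).1 hx'
    exact Submodule.smul_mem_smul (Ideal.mem_span_singleton_self f) (key k m hx)

end Groth.Agent.S12118
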