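import Groth.Statements.S12121
import Groth.Agent.Ega11.RegSeqSk
-- import your own Groth.Agent.* helpers here

set_option autoImplicit false
universe u
open EGA4

namespace Groth.Agent.S12121

/-- Let A be a Noetherian ring, M a finite A-module (a coherent sheaf on X = Spec A) and k ≥ 1. Then M
has property (S_k) — depth M_p ≥ min(k, dim M_p) at every prime p — if and only if, for every basic
open set D(g) of X, every integer r < k and every M_g-regular sequence f_1, …, f_r in A_g, the
module M_g/(f_1, …, f_r)M_g has no embedded associated primes, i.e. no associated prime of it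
strictly contains another one. (The published statement quantifies over all open subsets of a
locally Noetherian scheme; both sides being local, over an affine scheme the basic open sets
suffice.) -/
theorem result (k : ℕ) (hk : 1 ≤ k) (A : Type u) [CommRing A] [IsNoetherianRing A]
    (M : Type u) [AddCommGroup M] [Module A M] [Module.Finite A M] :
    LocCoh.HasSk k A M ↔
      ∀ (g : A) (rs : List (Localization.Away g)), rs.length < k →
        RingTheory.Sequence.IsWeaklyRegular (LocalizedModule (Submonoid.powers g) M) rs →
        ∀ p ∈ associatedPrimes (Localization.Away g)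
            (LocalizedModule (Submonoid.powers g) M ⧸
              (Ideal.ofList rs • (⊤ : Submodule (Localization.Away g) (LocalizedModule (Submonoid.powers g) M)))),
          ∀ q ∈ associatedPrimes (Localization.Away g)
            (LocalizedModule (Submonoid.powers g) M ⧸
              (Ideal.ofList rs • (⊤ : Submodule (Localization.Away g) (LocalizedModule (Submonoid.powers g) M)))),
            p ≤ q → p = q := by
  classical
  constructor
  · intro h g rs hlen hreg P hP Q hQ hPQ
    let B := Localization.Away g
    have : IsNoetherianRing B := IsLocalization.isNoetherianRing (Submonoid.powers g) B inferInstance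
    have : Module.Finite B (LocalizedModule (Submonoid.powers g) M) :=
      Module.Finite.of_isLocalizedModule (Submonoid.powers g) (LocalizedModule.mkLinearMap (Submonoid.powers g) M)
    exact Groth.Agent.Ega11.RegSeqSk.eq_of_le_of_assoc
      (Groth.Agent.Ega11.RegSeqSk.hasSk_one_quot rs k _ hlen (Groth.Agent.Ega11.RegSeqSk.hasSk_away k g h) hreg)
      hP hQ hPQ
  · intro h p _
    by_contra hbad
    rw [not_le, lt_min_iff] at hbad
    let p' : PrimeSpectrum A := ⟨p, inferInstance⟩
    have : IsNoetherianRing (Localization.AtPrime p) := IsLocalization.isNoetherianRing p.primeCompl _ inferInstance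
    have := Groth.Agent.Ega11.DepthSpread.finite_loc M p'
    have hsupp : p' ∈ Module.support A M := by
      by_contra hs
      rw [Module.notMem_support_iff] at hs
      have := Groth.Agent.Ega11.DepthSpread.dp_of_subsingleton hs
      simp only [Groth.Agent.Ega11.DepthSpread.dp, p'] at this
      rw [this] at hbad
      exact absurd hbad.1 (not_lt.mpr (WithBot.coe_le_coe.mpr le_top))
    have : Nontrivial (LocalizedModule p.primeCompl M) := hsupp
    obtain ⟨r, hr⟩ := Groth.Agent.EGA4Alg4.exists_depth_eq (A := Localization.AtPrime p) (M := LocalizedModule p.primeCompl M)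
    rw [hr] at hbad
    have hrk : r < k := by exact_mod_cast hbad.1
    obtain ⟨g, hg, xs, hlen, hW, h0, hdim⟩ := Groth.Agent.Ega11.RegSeqSk.exists_seq p' r M hsupp hr
    let S := Submonoid.powers g
    let B := Localization.Away g
    let Q := M ⧸ (Ideal.ofList xs • (⊤ : Submodule A M))
    have hass : p ∈ associatedPrimes A Q :=
      (Groth.Agent.CAlg1.depth_atPrime_eq_zero_iff p).mp h0
    obtain ⟨P, hP, hPp⟩ := Ideal.exists_minimalPrimes_le (I := Module.annihilator A Q) (J := p)
      (Module.mem_support_iff_of_finite.mp (Groth.Agent.CAlg1.mem_support_of_assoc' hass))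
    have hne : P ≠ p := by
      rintro rfl
      have hz := (Groth.Agent.CAlg1.supportDim_atPrime_le_zero_iff P (Groth.Agent.CAlg1.mem_support_of_assoc' hass)).mpr hP
      have h2 : ((r : ℕ) : WithBot ℕ∞) < Groth.Agent.Ega11.DepthSpread.dm M p' := hbad.2
      rw [← hdim] at h2
      refine absurd h2 (not_lt.mpr ?_)
      calc _ ≤ (0 : WithBot ℕ∞) + (r : WithBot ℕ∞) := add_le_add hz le_rfl
        _ = _ := zero_add _
    have hassP : P ∈ associatedPrimes A Q :=
      Module.associatedPrimes.minimalPrimes_annihilator_subset_associatedPrimes A Q hP
    have hPprime : P.IsPrime := hP.1.1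
    have hid : Submodule.localized' B S (Algebra.linearMap A B) (Ideal.ofList xs : Submodule A A) =
        Ideal.ofList (xs.map (algebraMap A B)) := by
      rw [Submodule.localized'_eq_span, ← Ideal.map_ofList]; rfl
    let f : Q →ₗ[A] (LocalizedModule S M ⧸ (Ideal.ofList (xs.map (algebraMap A B)) • (⊤ : Submodule B (LocalizedModule S M)))) :=
      ((Submodule.quotEquivOfEq _ _ (by rw [Submodule.localized'_smul, Submodule.localized'_top, hid])).restrictScalars A).toLinearMap.comp
        (Submodule.toLocalizedQuotient' B S (LocalizedModule.mkLinearMap S M) _)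
    have : IsLocalizedModule S f := IsLocalizedModule.of_linearEquiv S _ _
    have key : ∀ R : Ideal A, R.IsPrime → g ∉ R → R ∈ associatedPrimes A Q →
        R.map (algebraMap A B) ∈ associatedPrimes B
          (LocalizedModule S M ⧸ (Ideal.ofList (xs.map (algebraMap A B)) • (⊤ : Submodule B (LocalizedModule S M)))) ∧
        (R.map (algebraMap A B)).comap (algebraMap A B) = R := by
      intro R hR hgR hRass
      have hdisj : Disjoint (S : Set A) R := by
        refine Set.disjoint_left.mpr ?_
        rintro _ ⟨n, rfl⟩ h
        exact hgR (hR.mem_of_pow_mem n h)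
      have hc := IsLocalization.under_map_of_isPrime_disjoint S B hR hdisj
      refine ⟨?_, hc⟩
      rw [← Module.associatedPrimes.preimage_comap_associatedPrimes_eq_associatedPrimes_of_isLocalizedModule S B f,
        Set.mem_preimage, show Ideal.comap (algebraMap A B) (R.map (algebraMap A B)) = R from hc]
      exact hRass
    obtain ⟨hp1, hp2⟩ := key p inferInstance hg hass
    obtain ⟨hq1, hq2⟩ := key P hPprime (fun h => hg (hPp h)) hassP
    have hlen' : (xs.map (algebraMap A B)).length < k := by rw [List.length_map, hlen]; exact hrk
    have heq := h g _ hlen' (Groth.Agent.Ega11.RegSeqSk.W.isWeaklyRegular xs M hW) _ hq1 _ hp1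
      (Ideal.map_mono hPp)
    exact hne (by rw [← hq2, heq, hp2])

end Groth.Agent.S12121
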