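import Groth.Statements.S12126
import Groth.Agent.Cyc90.DimFormula
import Groth.Agent.CAlg1.Catenary
import Mathlib.RingTheory.RingHom.Surjective
import Mathlib.RingTheory.FiniteType

set_option autoImplicit false
universe u
open CAlg

namespace Groth.Agent.S12126

set_option linter.style.haveILetI false

open Polynomial in
theorem step (A B : Type u) [CommRing A] [IsDomain A] [IsNoetherianRing A] [CommRing B] [IsDomain B]
    [Algebra A B] [FaithfulSMul A B] (b : B) (hπ : Function.Surjective (aeval b : A[X] →ₐ[A] B))
    (q : Ideal B) [q.IsPrime]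
    (hcat : CAlg.IsCatenary (Localization.AtPrime (q.comap (aeval b : A[X] →ₐ[A] B).toRingHom))) :
    (q.height : Cardinal.{u}) + Algebra.trdeg (A ⧸ q.comap (algebraMap A B)) (B ⧸ q) =
      ((q.comap (algebraMap A B)).height : Cardinal.{u}) + Algebra.trdeg A B := by
  let π : A[X] →ₐ[A] B := aeval b
  let K : Ideal A[X] := RingHom.ker π.toRingHom
  haveI hK : K.IsPrime := RingHom.ker_isPrime π.toRingHom
  let Q : Ideal A[X] := q.comap π.toRingHom
  haveI : Q.IsPrime := Ideal.IsPrime.comap _
  let p := q.comap (algebraMap A B)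
  haveI hQp : Q.LiesOver p := ⟨by
    show q.comap (algebraMap A B) = (q.comap π.toRingHom).comap (algebraMap A A[X])
    rw [Ideal.comap_comap]
    exact congrArg (fun g => Ideal.comap g q) π.comp_algebraMap.symm⟩
  haveI hK0 : K.LiesOver (⊥ : Ideal A) := ⟨by
    show (⊥ : Ideal A) = (RingHom.ker π.toRingHom).comap (algebraMap A A[X])
    rw [RingHom.comap_ker, show π.toRingHom.comp (algebraMap A A[X]) = algebraMap A B from π.comp_algebraMap]
    exact ((RingHom.injective_iff_ker_eq_bot _).1 (FaithfulSMul.algebraMap_injective A B)).symm⟩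
  have h1 := Groth.Agent.E4O.height_add_trdeg_polynomial A p Q
  have h2 := Groth.Agent.E4O.height_add_trdeg_polynomial A (⊥ : Ideal A) K
  have hb : (⊥ : Ideal A).height = 0 := by
    rw [Ideal.height_eq_zero_iff, IsDomain.minimalPrimes_eq_singleton_bot]; rfl
  rw [hb, Cardinal.ofENat_zero, zero_add] at h2
  have ht1 : Algebra.trdeg (A ⧸ p) (A[X] ⧸ Q) = Algebra.trdeg (A ⧸ p) (B ⧸ q) := by
    let φ : A[X] ⧸ Q →+* B ⧸ q := Ideal.quotientMap q π.toRingHom le_rfl
    have hb1 : Function.Bijective φ :=
      ⟨Ideal.quotientMap_injective, Ideal.quotientMap_surjective hπ⟩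
    exact (AlgEquiv.ofRingEquiv (f := RingEquiv.ofBijective φ hb1) (R := A ⧸ p) fun d => by
      obtain ⟨r, rfl⟩ := Ideal.Quotient.mk_surjective d
      show Ideal.Quotient.mk q (π (algebraMap A A[X] r)) = _
      rw [π.commutes]; rfl).trdeg_eq
  have ht2 : Algebra.trdeg (A ⧸ (⊥ : Ideal A)) (A[X] ⧸ K) = Algebra.trdeg A B := by
    let e1 : (A[X] ⧸ K) ≃ₐ[A] B := Ideal.quotientKerAlgEquivOfSurjective hπ
    let ι : A →+* A ⧸ (⊥ : Ideal A) := Ideal.Quotient.mk ⊥
    have hbij : Function.Bijective ι :=
      ⟨(RingHom.injective_iff_ker_eq_bot _).2 Ideal.mk_ker, Ideal.Quotient.mk_surjective⟩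
    rw [← e1.trdeg_eq]
    have : Algebra.IsAlgebraic A (A ⧸ (⊥ : Ideal A)) :=
      ⟨fun x => by obtain ⟨r, rfl⟩ := Ideal.Quotient.mk_surjective x; exact isAlgebraic_algebraMap r⟩
    have : FaithfulSMul A (A ⧸ (⊥ : Ideal A)) := (faithfulSMul_iff_algebraMap_injective _ _).2 hbij.1
    have := trdeg_add_eq A (A ⧸ (⊥ : Ideal A)) (A := A[X] ⧸ K)
    rw [trdeg_eq_zero, zero_add] at this
    exact this
  rw [ht1] at h1
  rw [ht2] at h2
  haveI : IsNoetherianRing B := isNoetherianRing_of_surjective A[X] B π.toRingHom hπ
  haveI : IsDomain (Localization.AtPrime Q) := IsLocalization.isDomain_of_le_nonZeroDivisors _ Q.primeCompl_le_nonZeroDivisors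
  let f := Localization.localRingHom Q q π.toRingHom rfl
  have hf : Function.Surjective f := RingHom.surjective_localRingHom_of_surjective π.toRingHom hπ q
  have hadd := Groth.Agent.Cyc90.height_comap_eq_add hcat f hf (IsLocalRing.maximalIdeal (Localization.AtPrime q))
  have hker : RingHom.ker f = K.map (algebraMap A[X] (Localization.AtPrime Q)) := by
    apply le_antisymm
    · intro z hz
      obtain ⟨a, s, rfl⟩ := IsLocalization.exists_mk'_eq Q.primeCompl z
      rw [RingHom.mem_ker, Localization.localRingHom_mk', IsLocalization.mk'_eq_zero_iff] at hz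
      obtain ⟨⟨t, ht⟩, htz⟩ := hz
      have ha : π a = 0 := (mul_eq_zero.1 htz).resolve_left fun h0 => ht (by
        show t ∈ q
        rw [show t = 0 from h0]
        exact q.zero_mem)
      rw [IsLocalization.mk'_mem_iff]
      exact Ideal.mem_map_of_mem _ ha
    · rw [Ideal.map_le_iff_le_comap]
      intro a ha
      show f (algebraMap A[X] _ a) = 0
      rw [Localization.localRingHom_to_map, show π.toRingHom a = 0 from ha, map_zero]
  rw [hker, IsLocalization.height_map_of_disjoint Q.primeCompl K
      (Set.disjoint_left.2 fun a ha haK => ha (show π.toRingHom a ∈ q by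
        rw [show π.toRingHom a = 0 from haK]; exact q.zero_mem)),
    IsLocalRing.eq_maximalIdeal (Ideal.comap_isMaximal_of_surjective f hf),
    ← Localization.AtPrime.map_eq_maximalIdeal, ← Localization.AtPrime.map_eq_maximalIdeal,
    IsLocalization.height_map_of_disjoint Q.primeCompl Q (Set.disjoint_left.2 fun a ha haQ => ha haQ),
    IsLocalization.height_map_of_disjoint q.primeCompl q (Set.disjoint_left.2 fun a ha haQ => ha haQ)] at hadd
  have hKfin : K.height ≠ ⊤ := Ideal.height_ne_top hK.ne_top
  lift K.height to ℕ using hKfin with k hk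
  rw [hadd, Cardinal.ofENat_add, Cardinal.ofENat_nat, add_assoc] at h1
  rw [Cardinal.ofENat_nat] at h2
  refine Cardinal.eq_of_add_eq_add_left ?_ (Cardinal.natCast_lt_aleph0 (n := k))
  rw [h1, ← h2, add_left_comm]

theorem catenary_atPrime_of_equiv {P P' : Type u} [CommRing P] [CommRing P'] (e : P' ≃+* P) (Q : Ideal P) [Q.IsPrime]
    (M : Ideal P') [M.IsPrime] (hQM : Q.comap e.toRingHom ≤ M) (hc : CAlg.IsCatenary (Localization.AtPrime M)) :
    CAlg.IsCatenary (Localization.AtPrime Q) := by
  let Q' : Ideal P' := Q.comap e.toRingHom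
  haveI : Q'.IsPrime := Ideal.IsPrime.comap _
  have hdis : Disjoint (M.primeCompl : Set P') Q' := Set.disjoint_left.2 fun a ha haQ => ha (hQM haQ)
  let QM : Ideal (Localization.AtPrime M) := Q'.map (algebraMap P' (Localization.AtPrime M))
  haveI : QM.IsPrime := IsLocalization.isPrime_of_isPrime_disjoint M.primeCompl (Localization.AtPrime M) Q' inferInstance hdis
  have hcT := Groth.Agent.CAlg1.isCatenary_of_isLocalization (B := Localization.AtPrime QM) QM.primeCompl hc
  haveI hTQ : IsLocalization.AtPrime (Localization.AtPrime QM) Q' := by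
    have := IsLocalization.isLocalization_isLocalization_atPrime_isLocalization (S := Localization.AtPrime M) M.primeCompl
      (Localization.AtPrime QM) QM
    have h2 : QM.comap (algebraMap P' (Localization.AtPrime M)) = Q' :=
      IsLocalization.under_map_of_isPrime_disjoint M.primeCompl (Localization.AtPrime M) inferInstance hdis
    have h3 : (QM.comap (algebraMap P' (Localization.AtPrime M))).primeCompl = Q'.primeCompl :=
      Submonoid.ext fun z => not_congr (SetLike.ext_iff.mp h2 z)
    show IsLocalization Q'.primeCompl (Localization.AtPrime QM)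
    rw [← h3]
    exact this
  refine Groth.Agent.CAlg1.isCatenary_of_ringEquiv ?_ hcT
  exact IsLocalization.ringEquivOfRingEquiv (M := Q'.primeCompl) (T := Q.primeCompl) (Localization.AtPrime QM)
    (Localization.AtPrime Q) e (by
      ext z
      rw [Submonoid.mem_map]
      constructor
      · rintro ⟨w, hw, rfl⟩
        exact hw
      · intro hz
        exact ⟨e.symm z, fun h => hz (by simpa [Q'] using h), e.apply_symm_apply z⟩)

theorem step_tower (R A B : Type u) [CommRing R] [IsDomain R] [IsLocalRing R] [CommRing A] [IsDomain A] [IsNoetherianRing A]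
    [CommRing B] [IsDomain B] [Algebra R A] [FaithfulSMul R A] [Algebra R B] [Algebra A B] [IsScalarTower R A B]
    [FaithfulSMul A B] (b : B) (hπ : Function.Surjective (Polynomial.aeval b : Polynomial A →ₐ[A] B))
    (q : Ideal B) [q.IsPrime] [q.LiesOver (IsLocalRing.maximalIdeal R)]
    (hcat : CAlg.IsCatenary (Localization.AtPrime (q.comap (Polynomial.aeval b : Polynomial A →ₐ[A] B).toRingHom)))
    (hA : ∀ [(q.comap (algebraMap A B)).LiesOver (IsLocalRing.maximalIdeal R)],
      ((q.comap (algebraMap A B)).height : Cardinal.{u}) +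
          Algebra.trdeg (R ⧸ IsLocalRing.maximalIdeal R) (A ⧸ q.comap (algebraMap A B)) =
        ((IsLocalRing.maximalIdeal R).height : Cardinal.{u}) + Algebra.trdeg R A) :
    (q.height : Cardinal.{u}) + Algebra.trdeg (R ⧸ IsLocalRing.maximalIdeal R) (B ⧸ q) =
      ((IsLocalRing.maximalIdeal R).height : Cardinal.{u}) + Algebra.trdeg R B := by
  haveI hl : (q.comap (algebraMap A B)).LiesOver (IsLocalRing.maximalIdeal R) := ⟨by
    rw [Ideal.LiesOver.over (p := IsLocalRing.maximalIdeal R) (P := q), Ideal.under_def, Ideal.under_def,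
      Ideal.comap_comap, ← IsScalarTower.algebraMap_eq]⟩
  haveI : (q.comap (algebraMap A B)).IsPrime := Ideal.IsPrime.comap _
  have h := step A B b hπ q hcat
  haveI : FaithfulSMul (A ⧸ q.comap (algebraMap A B)) (B ⧸ q) :=
    (faithfulSMul_iff_algebraMap_injective _ _).2 Ideal.quotientMap_injective
  haveI : IsScalarTower (R ⧸ IsLocalRing.maximalIdeal R) (A ⧸ q.comap (algebraMap A B)) (B ⧸ q) :=
    IsScalarTower.of_algebraMap_eq fun d => by
      obtain ⟨r, rfl⟩ := Ideal.Quotient.mk_surjective d
      exact congrArg (Ideal.Quotient.mk q) (IsScalarTower.algebraMap_apply R A B r)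
  rw [← trdeg_add_eq (R ⧸ IsLocalRing.maximalIdeal R) (A ⧸ q.comap (algebraMap A B)) (A := B ⧸ q),
    ← trdeg_add_eq R A (A := B), ← add_assoc, add_comm (q.height : Cardinal.{u}),
    add_assoc, h, ← add_assoc, add_comm (Algebra.trdeg (R ⧸ IsLocalRing.maximalIdeal R) _), hA, add_assoc]

/-- Let A be a Noetherian local domain with maximal ideal m and residue field k, B a domain containing A
which is an A-algebra of finite type, q a prime ideal of B over m and k' the residue field of B_q.
If for every sub-A-algebra A' of finite type of the polynomial ring B[T] and every maximal ideal m'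
of A' lying over m the local ring A'_{m'} is catenary, then ht(q) + trdeg_k k' = dim(A) + trdeg_A B,
stated with heights and transcendence degrees as cardinals (the transcendence degree of B over A is
that of the fraction fields, and that of k' over k is that of B/q over A/m). -/
theorem result (R : Type u) [CommRing R] [IsDomain R]
    [IsNoetherianRing R] [IsLocalRing R] (S : Type u) [CommRing S] [IsDomain S] [Algebra R S]
    [FaithfulSMul R S] [Algebra.FiniteType R S] (q : Ideal S) [q.IsPrime]
    [q.LiesOver (IsLocalRing.maximalIdeal R)]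
    (hcat : ∀ A' : Subalgebra R (Polynomial S), A'.FG →
      ∀ (m' : Ideal A') [m'.IsMaximal], m'.LiesOver (IsLocalRing.maximalIdeal R) →
        CAlg.IsCatenary (Localization.AtPrime m')) :
    (q.height : Cardinal.{u}) + Algebra.trdeg (R ⧸ IsLocalRing.maximalIdeal R) (S ⧸ q) =
      ((IsLocalRing.maximalIdeal R).height : Cardinal.{u}) + Algebra.trdeg R S := by
  classical
  let m := IsLocalRing.maximalIdeal R
  suffices H : ∀ F : Finset S, ∀ (q : Ideal (Algebra.adjoin R (F : Set S))) [q.IsPrime] [q.LiesOver m],
      (q.height : Cardinal.{u}) + Algebra.trdeg (R ⧸ m) (Algebra.adjoin R (F : Set S) ⧸ q) =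
        (m.height : Cardinal.{u}) + Algebra.trdeg R (Algebra.adjoin R (F : Set S)) by
    obtain ⟨F, hF⟩ := (‹Algebra.FiniteType R S›).out
    let e : Algebra.adjoin R (F : Set S) ≃ₐ[R] S := (Subalgebra.equivOfEq _ _ hF).trans Subalgebra.topEquiv
    let q' : Ideal (Algebra.adjoin R (F : Set S)) := q.comap e.toRingEquiv.toRingHom
    haveI : q'.LiesOver m := ⟨by
      rw [Ideal.LiesOver.over (p := m) (P := q), Ideal.under_def, Ideal.under_def, Ideal.comap_comap]
      exact congrArg (fun g => Ideal.comap g q) (e.toAlgHom.comp_algebraMap).symm⟩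
    let eq2 : (Algebra.adjoin R (F : Set S) ⧸ q') ≃ₐ[R ⧸ m] (S ⧸ q) := AlgEquiv.ofRingEquiv
      (f := Ideal.quotientEquiv q' q e.toRingEquiv (Ideal.map_comap_of_surjective e.toRingEquiv.toRingHom e.surjective q).symm)
      fun d => by
        obtain ⟨r, rfl⟩ := Ideal.Quotient.mk_surjective d
        show Ideal.Quotient.mk q (e (algebraMap R (Algebra.adjoin R (F : Set S)) r)) = Ideal.Quotient.mk q (algebraMap R S r)
        rw [e.commutes]
    have hh := H F q'
    rw [eq2.trdeg_eq, e.trdeg_eq] at hh
    rwa [show q'.height = q.height from e.toRingEquiv.height_comap q] at hh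
  intro F
  induction F using Finset.induction with
  | empty =>
    intro q _ _
    let e : R ≃ₐ[R] Algebra.adjoin R ((∅ : Finset S) : Set S) :=
      ((Subalgebra.equivOfEq _ _ (by rw [Finset.coe_empty, Algebra.adjoin_empty])).trans
        (Algebra.botEquivOfInjective (FaithfulSMul.algebraMap_injective R S))).symm
    refine Groth.Agent.E4O.formula_of_algEquiv e.symm
      (c := fun p : Ideal R => (p.height : Cardinal.{u}) + Algebra.trdeg R (Algebra.adjoin R ((∅ : Finset S) : Set S)))
      (fun p _ Q _ _ => ?_) m q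
    obtain rfl : Q = p := ((Ideal.LiesOver.over (p := p) (P := Q)).trans (Ideal.comap_id Q)).symm
    have h2 : Algebra.IsAlgebraic R R := ⟨fun x => isAlgebraic_algebraMap x⟩
    rw [← e.trdeg_eq, trdeg_eq_zero (A := R)]
    refine congrArg ((Q.height : Cardinal.{u}) + ·) ?_
    letI := Ideal.Quotient.algebraOfLiesOver Q Q
    rw [trdeg_eq_zero_iff]
    refine ⟨fun x => ?_⟩
    obtain ⟨r, rfl⟩ := Ideal.Quotient.mk_surjective x
    exact isAlgebraic_algebraMap (Ideal.Quotient.mk Q r)
  | insert b F _ ih =>
    intro q _ _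
    let A := Algebra.adjoin R (F : Set S)
    let B := Algebra.adjoin R ((insert b F : Finset S) : Set S)
    have hle : A ≤ B := Algebra.adjoin_mono (by simp)
    letI : Algebra A B := (Subalgebra.inclusion hle).toRingHom.toAlgebra
    haveI : IsScalarTower R A B := IsScalarTower.of_algebraMap_eq fun r => rfl
    haveI : FaithfulSMul A B := (faithfulSMul_iff_algebraMap_injective A B).2 (Subalgebra.inclusion_injective hle)
    haveI : FaithfulSMul R A := (faithfulSMul_iff_algebraMap_injective R A).2
      fun x y h => FaithfulSMul.algebraMap_injective R S (congrArg Subtype.val h)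
    haveI : Algebra.FiniteType R A := (Subalgebra.fg_iff_finiteType A).1 ⟨F, rfl⟩
    haveI : IsNoetherianRing A := Algebra.FiniteType.isNoetherianRing R A
    let bB : B := ⟨b, Algebra.subset_adjoin (by simp)⟩
    have hπ : Function.Surjective (Polynomial.aeval bB : Polynomial A →ₐ[A] B) := by
      let T : Subalgebra R B := ((Polynomial.aeval bB : Polynomial A →ₐ[A] B).restrictScalars R).range
      have hT : ∀ y : S, y ∈ B → y ∈ T.map B.val := by
        intro y hy
        refine (Algebra.adjoin_le (S := T.map B.val) ?_) hy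
        intro z hz
        rcases Finset.mem_insert.1 (Finset.mem_coe.1 hz) with rfl | hz
        · exact ⟨bB, ⟨Polynomial.X, Polynomial.aeval_X _⟩, rfl⟩
        · exact ⟨algebraMap A B ⟨z, Algebra.subset_adjoin hz⟩, ⟨Polynomial.C ⟨z, Algebra.subset_adjoin hz⟩, Polynomial.aeval_C _ _⟩, rfl⟩
      intro y
      obtain ⟨y', ⟨g, hg⟩, hy'⟩ := hT y.1 y.2
      exact ⟨g, hg.trans (Subtype.ext hy')⟩
    let p := q.comap (algebraMap A B)
    haveI : p.LiesOver m := ⟨by
      rw [Ideal.LiesOver.over (p := m) (P := q), Ideal.under_def, Ideal.under_def, Ideal.comap_comap,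
        ← IsScalarTower.algebraMap_eq]⟩
    -- catenarity
    let Q : Ideal (Polynomial A) := q.comap (Polynomial.aeval bB : Polynomial A →ₐ[A] B).toRingHom
    haveI : Q.IsPrime := Ideal.IsPrime.comap _
    have hcatQ : CAlg.IsCatenary (Localization.AtPrime Q) := by
      let j : Polynomial A →ₐ[R] Polynomial S := Polynomial.mapAlgHom A.val
      have hj : Function.Injective j := Polynomial.map_injective _ Subtype.val_injective
      let e : Polynomial A ≃ₐ[R] j.range := AlgEquiv.ofInjective j hj
      haveI : Algebra.FiniteType R (Polynomial A) := Algebra.FiniteType.trans (S := A) inferInstance inferInstance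
      haveI : Algebra.FiniteType R j.range := Algebra.FiniteType.equiv inferInstance e
      let Q' : Ideal j.range := Q.comap e.symm.toRingEquiv.toRingHom
      haveI : Q'.IsPrime := Ideal.IsPrime.comap _
      obtain ⟨M, hM, hQM⟩ := Ideal.exists_le_maximal Q' (Ideal.IsPrime.ne_top inferInstance)
      haveI : M.LiesOver m := ⟨(IsLocalRing.maximalIdeal.isMaximal R).eq_of_le
        (Ideal.IsPrime.ne_top inferInstance) fun r hr => hQM (by
          show e.symm (algebraMap R j.range r) ∈ Q
          rw [e.symm.commutes]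
          show (Polynomial.aeval bB : Polynomial A →ₐ[A] B) (algebraMap R (Polynomial A) r) ∈ q
          rw [IsScalarTower.algebraMap_apply R A (Polynomial A), AlgHom.commutes, ← IsScalarTower.algebraMap_apply,
            ← Ideal.mem_comap, ← Ideal.under_def, ← Ideal.LiesOver.over (p := m) (P := q)]
          exact hr)⟩
      have hc := hcat j.range ((Subalgebra.fg_iff_finiteType _).2 inferInstance) M inferInstance
      exact catenary_atPrime_of_equiv e.symm.toRingEquiv Q M hQM hc
    exact step_tower R A B bB hπ q hcatQ (ih _)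

end Groth.Agent.S12126
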