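import Groth.Statements.S12129
import Mathlib.AlgebraicGeometry.Properties

set_option autoImplicit false
universe u
open EGA2

namespace Groth.Agent.S12129

open AlgebraicGeometry CategoryTheory in
/-- Let X be a scheme of finite type over a field k. Then the local ring of X at every closed point has
dimension one if and only if the irreducible closed subsets of X other than its irreducible
components are exactly the (singletons of) closed points of X — that is, every irreducible closed
subset which is not an irreducible component is a closed point, and no closed point is by itself an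
irreducible component. -/
theorem result (k : Type u) [Field k] (X : Scheme.{u})
    [X.Over (Spec (CommRingCat.of k))] [LocallyOfFiniteType (X ↘ (Spec (CommRingCat.of k)))]
    [QuasiCompact (X ↘ (Spec (CommRingCat.of k)))] :
    (∀ x : X, IsClosed ({x} : Set X) → ringKrullDim (X.presheaf.stalk x) = 1) ↔
      ((∀ F : Set X, IsClosed F → IsIrreducible F → F ∉ irreducibleComponents (X : Type u) →
          ∃ x : X, IsClosed ({x} : Set X) ∧ F = {x}) ∧
        ∀ x : X, IsClosed ({x} : Set X) → ({x} : Set X) ∉ irreducibleComponents (X : Type u)) := by
  have : CompactSpace X := QuasiCompact.compactSpace_of_compactSpace (X ↘ (Spec (CommRingCat.of k)))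
  have hle : ∀ x y : X, x ≤ y ↔ x ∈ closure ({y} : Set X) := fun x y => specializes_iff_mem_closure
  have hcomp : ∀ y : X, closure ({y} : Set X) ∈ irreducibleComponents (X : Type u) ↔ IsMax y := by
    intro y
    constructor
    · intro hy z hyz
      have h1 : closure ({y} : Set X) ⊆ closure {z} :=
        closure_minimal (Set.singleton_subset_iff.2 ((hle y z).1 hyz)) isClosed_closure
      exact (hle z y).2 (hy.2 isIrreducible_singleton.closure h1 (subset_closure rfl))
    · intro hy
      refine ⟨isIrreducible_singleton.closure, fun T hT hyT => ?_⟩
      have hη := hT.isGenericPoint_genericPoint_closure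
      have h1 : y ≤ hT.genericPoint := (hle _ _).2 (by rw [hη.def]; exact subset_closure (hyT (subset_closure rfl)))
      refine subset_closure.trans ?_
      rw [← hη.def]
      exact closure_minimal (Set.singleton_subset_iff.2 ((hle _ _).1 (hy h1))) isClosed_closure
  constructor
  · intro h
    refine ⟨fun F hFc hFi hF => ?_, fun x hx hmem => ?_⟩
    · have hη : closure ({hFi.genericPoint} : Set X) = F := hFi.isGenericPoint_genericPoint_closure.def.trans hFc.closure_eq
      obtain ⟨x, hxF, hxc⟩ := hFc.exists_closed_singleton hFi.nonempty
      refine ⟨x, hxc, ?_⟩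
      by_cases he : x = hFi.genericPoint
      · rw [← hη, ← he, hxc.closure_eq]
      · exfalso
        have hlt : x < hFi.genericPoint := by
          refine lt_of_le_not_ge ((hle _ _).2 (hη.symm ▸ hxF)) fun hge => he ?_
          have := (hle _ _).1 hge
          rw [hxc.closure_eq] at this
          exact this.symm
        have h2 := h x hxc
        rw [AlgebraicGeometry.ringKrullDim_stalk_eq_coheight] at h2
        have h3 : Order.coheight x ≤ ((1 : ℕ) : ℕ∞) := by
          rw [show Order.coheight x = 1 from WithBot.coe_eq_one.1 h2]; rfl
        have h4 : Order.coheight hFi.genericPoint = 0 := by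
          have := Order.coheight_le_coe_iff.1 h3 _ hlt
          rwa [Nat.cast_one, ENat.lt_one_iff_eq_zero] at this
        exact hF (hη ▸ (hcomp _).2 (Order.coheight_eq_zero.1 h4))
    · have h2 := h x hx
      rw [AlgebraicGeometry.ringKrullDim_stalk_eq_coheight, Order.coheight_eq_zero.2 ((hcomp x).1 (by rwa [hx.closure_eq]))] at h2
      exact absurd h2 (by simp)
  · rintro ⟨h₁, h₂⟩ x hx
    rw [AlgebraicGeometry.ringKrullDim_stalk_eq_coheight]
    refine WithBot.coe_eq_one.2 (le_antisymm ?_ ?_)
    · refine (Order.coheight_le_coe_iff (n := 1)).2 fun y hy => ?_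
      rw [Nat.cast_one, ENat.lt_one_iff_eq_zero, Order.coheight_eq_zero]
      by_contra hmax
      obtain ⟨z, hz, he⟩ := h₁ _ isClosed_closure isIrreducible_singleton.closure (mt (hcomp y).1 hmax)
      have hy0 : y ∈ ({z} : Set X) := he ▸ subset_closure rfl
      have hx0 : x ∈ ({z} : Set X) := he ▸ (hle x y).1 hy.le
      exact hy.ne (hx0.trans hy0.symm)
    · refine Order.one_le_iff_pos.2 (Order.coheight_pos.2 fun hmax => h₂ x hx ?_)
      have := (hcomp x).2 hmax
      rwa [hx.closure_eq] at this

end Groth.Agent.S12129
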