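import Groth.Statements.S12130
import Groth.Agent.PINorm31.Geo

set_option autoImplicit false
universe u
open Unram17

namespace Groth.Agent.S12130

open CategoryTheory AlgebraicGeometry in
/-- Let k be a field and X an integral k-scheme of finite type of dimension ≤ 1. Then there is a finite
purely inseparable field extension k' of k such that the reduced closed subscheme Z = (X_{k'})_red
of the base change X_{k'} is integral and the normalization of Z is smooth over k'. (The published
statement is for an arbitrary k-scheme of finite type of dimension ≤ 1, with the normalization of a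
reduced scheme with finitely many irreducible components; this row states the case X integral, where
Z is integral because X_{k'} → X is a homeomorphism. The instance hypotheses on the morphism from
the generic point inside the existential always hold and only serve to form the normalization.) -/
theorem result (k : Type u) [Field k]
    (X : Scheme.{u}) [X.Over (Spec (CommRingCat.of k))] [IsIntegral X]
    [LocallyOfFiniteType (X ↘ Spec (CommRingCat.of k))] [QuasiCompact (X ↘ Spec (CommRingCat.of k))]
    (hdim : topologicalKrullDim X ≤ 1) :
    ∃ (k' : Type u) (_ : Field k') (_ : Algebra k k'), FiniteDimensional k k' ∧ IsPurelyInseparable k k' ∧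
      ∃ (_ : IsIntegral (Curv2.bc k X k').nilradical.subscheme)
        (_ : QuasiCompact ((Curv2.bc k X k').nilradical.subscheme.fromSpecStalk
              (genericPoint (Curv2.bc k X k').nilradical.subscheme)))
        (_ : QuasiSeparated ((Curv2.bc k X k').nilradical.subscheme.fromSpecStalk
              (genericPoint (Curv2.bc k X k').nilradical.subscheme))),
        Smooth (Curv2.normalizationι (Curv2.bc k X k').nilradical.subscheme ≫
          (Curv2.bc k X k').nilradical.subschemeι ≫ Curv2.bcSnd k X k') := by
  classical
  let K : Type u := perfectClosure k (AlgebraicClosure k)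
  have : PerfectField K := inferInstanceAs (PerfectField (perfectClosure k (AlgebraicClosure k)))
  have : CompactSpace X := QuasiCompact.compactSpace_of_compactSpace (X ↘ Spec (CommRingCat.of k))
  have hchart := fun x : X => Groth.Agent.FBase64.exists_chart (X ↘ Spec (CommRingCat.of k)) x
  choose A cA aA j hjo hx hj using hchart
  have hfin : ∀ x, @Algebra.FiniteType k (A x) _ (cA x).toSemiring (aA x) := fun x => by
    have : LocallyOfFiniteType (j x ≫ (X ↘ Spec (CommRingCat.of k))) := by
      have := hjo x
      infer_instance
    rw [hj x, HasRingHomProperty.Spec_iff (P := @LocallyOfFiniteType)] at this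
    exact RingHom.finiteType_algebraMap.mp this
  have hdom : ∀ x, IsDomain (A x) := fun x => by
    have := hjo x
    have : Nonempty (Spec (CommRingCat.of (A x))) := let ⟨y, _⟩ := hx x; ⟨y⟩
    have : IsIntegral (Spec (CommRingCat.of (A x))) := isIntegral_of_isOpenImmersion (j x)
    exact (affine_isIntegral_iff (CommRingCat.of (A x))).mp this
  have hd : ∀ x, ringKrullDim (A x) ≤ 1 := fun x => by
    have := hjo x
    rw [← PrimeSpectrum.topologicalKrullDim_eq_ringKrullDim (A x)]
    exact (j x).isOpenEmbedding.isInducing.topologicalKrullDim_le.trans hdim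
  choose S hS using fun x => by
    have := hdom x
    have := hfin x
    exact Groth.Agent.PINorm31.smooth_integralClosure_eventually k K (A x) (hd x)
  obtain ⟨s, hs⟩ := isCompact_univ.elim_finite_subcover (fun x : X => Set.range (j x).base)
    (fun x => by have := hjo x; exact (j x).isOpenEmbedding.isOpen_range)
    (fun x _ => Set.mem_iUnion.mpr ⟨x, hx x⟩)
  let E : IntermediateField k K := IntermediateField.adjoin k ((s.biUnion S : Finset K) : Set K)
  have : FiniteDimensional k E :=
    IntermediateField.finiteDimensional_adjoin fun a _ => Algebra.IsIntegral.isIntegral a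
  have : IsPurelyInseparable k E := IsPurelyInseparable.tower_bot k E K
  let Z := (Curv2.bc k X E).nilradical.subscheme
  have hZ : IsIntegral Z := Groth.Agent.PINorm31.isIntegral_red X E
  have : QuasiSeparatedSpace (Spec (Z.presheaf.stalk (genericPoint Z))) := inferInstance
  have hqc : QuasiCompact (Z.fromSpecStalk (genericPoint Z)) := by
    constructor
    intro U _ _
    exact Set.Finite.isCompact (Set.toFinite _)
  have hqs : QuasiSeparated (Z.fromSpecStalk (genericPoint Z)) := inferInstance
  refine ⟨E, inferInstance, inferInstance, inferInstance, inferInstance, hZ, hqc, hqs, ?_⟩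
  refine Groth.Agent.PINorm31.smooth_of_charts (Y := Z) E
    ((Curv2.bc k X E).nilradical.subschemeι ≫ Curv2.bcSnd k X E) fun y => ?_
  obtain ⟨x, hxs, hyx⟩ := Set.mem_iUnion₂.mp
    (hs (Set.mem_univ (((Curv2.bc k X E).nilradical.subschemeι ≫ Curv2.bcFst k X E).base y)))
  have := hjo x
  have := hdom x
  obtain ⟨V, hV, hVr, ψ, hψ, hψnil, hψc⟩ :=
    Groth.Agent.PINorm31.exists_chart_red X E (A x) (j x) (hj x)
  have hyV : y ∈ V := by
    show y ∈ (V : Set Z)
    rw [hVr]; exact hyx
  have : Nonempty V := ⟨⟨y, hyV⟩⟩
  refine ⟨V, inferInstance, hV, hyV, ?_⟩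
  have := functionField_isFractionRing_of_isAffineOpen Z V hV
  let θ : E →+* Γ(Z, V) := ((Scheme.ΓSpecIso (CommRingCat.of E)).inv ≫
    ((Curv2.bc k X E).nilradical.subschemeι ≫ Curv2.bcSnd k X E).appLE ⊤ V le_top).hom
  let := θ.toAlgebra
  let := ((algebraMap Γ(Z, V) Z.functionField).comp θ).toAlgebra
  have : IsScalarTower E Γ(Z, V) Z.functionField := IsScalarTower.of_algebraMap_eq fun _ => rfl
  let ψ' : TensorProduct k E (A x) →ₐ[E] Γ(Z, V) := { ψ with commutes' := hψc }
  have hsm : Algebra.Smooth E (integralClosure Γ(Z, V) Z.functionField) := by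
    refine hS x E (fun r hr => ⟨⟨r, ?_⟩, rfl⟩) Γ(Z, V) ψ' hψ hψnil Z.functionField
    exact IntermediateField.subset_adjoin k _ (Finset.mem_biUnion.mpr ⟨x, hxs, hr⟩)
  have := RingHom.smooth_algebraMap.mpr hsm
  exact this

end Groth.Agent.S12130
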