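import Groth.Statements.S12137
import Groth.Agent.EGAProj74.ConeImmersion
import Groth.Agent.EGAProj74.ConeInfinity
import Groth.Agent.EGAProj74.ZeroGrading

set_option autoImplicit false
universe u
open CategoryTheory CategoryTheory.Limits AlgebraicGeometry Opposite TopologicalSpace
open scoped HomogeneousIdeal
noncomputable section
open EGA2

namespace Groth.Agent.S12137

/-- Let Y be a scheme, 𝒜 a quasi-coherent O_Y-algebra and Ŝ = 𝒜[T], graded with 𝒜 in degree 0 and T in
degree 1 — presented through a homomorphism of algebras ι : 𝒜 → Ŝ landing in degree 0 and a global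
section z of Ŝ of degree 1 such that, over every affine open U, the map 𝒜(U)[X] → Ŝ(U) sending X to
z is bijective — and let p : P → Y with its charts be the relative homogeneous spectrum Proj(Ŝ). For
each affine open U let θ_U : Ŝ(U)_(z) → 𝒜(U) be the ring isomorphism sending ι(a) z^k / z^k to a.
Then there is a unique morphism i : Spec(𝒜) → P which, on the chart Spec 𝒜(U) of Spec(𝒜) over each
affine open U, is Spec(θ_U) followed by the open immersion of D_+(z|U) into Proj Ŝ(U) and the chart
of P; moreover i is an isomorphism and lies over Y. In particular Proj(O_Y[T]) is Y. -/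
theorem result {Y P : Scheme.{u}} (𝒜 : RelSpec.QCAlg Y) (Sh : RelProj.QCGrAlg Y)
    (ι : 𝒜 ⟶ Sh.toQCAlg)
    (hι : ∀ (U : Y.Opens) (hU : IsAffineOpen U) (a : 𝒜.presheaf.obj (op U)), (ι.hom.app (op U)).hom a ∈ Sh.deg U hU 0)
    (z : Sh.presheaf.obj (op ⊤))
    (hz : ∀ (U : Y.Opens) (hU : IsAffineOpen U), (Sh.presheaf.map (homOfLE le_top).op).hom z ∈ Sh.deg U hU 1)
    (hpoly : ∀ (U : Y.Opens) (hU : IsAffineOpen U),
      Function.Bijective (Polynomial.eval₂RingHom (ι.hom.app (op U)).hom ((Sh.presheaf.map (homOfLE le_top).op).hom z)))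
    (p : P ⟶ Y)
    (chart : ∀ (U : Y.Opens) (hU : IsAffineOpen U), (((p ⁻¹ᵁ U : P.Opens) : Scheme.{u}) ≅ Proj (Sh.deg U hU)))
    (hP : RelProj.IsRelProj Sh p chart)
    (θ : ∀ (U : Y.Opens) (hU : IsAffineOpen U),
      CommRingCat.of (HomogeneousLocalization.Away (Sh.deg U hU) ((Sh.presheaf.map (homOfLE le_top).op).hom z)) ⟶
        𝒜.presheaf.obj (op U))
    (hθ : ∀ (U : Y.Opens) (hU : IsAffineOpen U)
      (q : HomogeneousLocalization.Away (Sh.deg U hU) ((Sh.presheaf.map (homOfLE le_top).op).hom z))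
      (k : ℕ) (a : 𝒜.presheaf.obj (op U)),
        q.val = Localization.mk ((ι.hom.app (op U)).hom a * (Sh.presheaf.map (homOfLE le_top).op).hom z ^ k)
          ⟨(Sh.presheaf.map (homOfLE le_top).op).hom z ^ k,
            pow_mem (Submonoid.mem_powers ((Sh.presheaf.map (homOfLE le_top).op).hom z)) k⟩ →
        (θ U hU).hom q = a) :
    (∃! i : 𝒜.spec ⟶ P, ∀ (U : Y.Opens) (hU : IsAffineOpen U),
        𝒜.ι U hU ≫ i =
          Spec.map (θ U hU) ≫
            Proj.awayι (Sh.deg U hU) ((Sh.presheaf.map (homOfLE le_top).op).hom z) (hz U hU) one_pos ≫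
              RelProj.emb p chart U hU) ∧
      ∀ i : 𝒜.spec ⟶ P, (∀ (U : Y.Opens) (hU : IsAffineOpen U),
        𝒜.ι U hU ≫ i =
          Spec.map (θ U hU) ≫
            Proj.awayι (Sh.deg U hU) ((Sh.presheaf.map (homOfLE le_top).op).hom z) (hz U hU) one_pos ≫
              RelProj.emb p chart U hU) →
        IsIso i ∧ i ≫ p = 𝒜.π := by
  classical
  open Groth.Agent.EGAProj74 in
  let 𝒯 := ZeroGrading.grAlg 𝒜
  have hgr : RelProj.IsGradedHom (𝒜 := 𝒯) (ℬ := Sh) ι := fun U hU d x hx => by
    rcases ZeroGrading.mem_deg.1 hx with rfl | rfl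
    · exact hι U hU x
    · rw [map_zero]; exact zero_mem _
  have hz' : RelCone.IsPolyOver 𝒯 Sh ι z := ⟨hgr, hz, hpoly⟩
  have hθ' : ∀ (U : Y.Opens) (hU : IsAffineOpen U), (θ U hU).hom = hz'.awayZToBase U hU := fun U hU => by
    refine eq_awayZToBase hz' U hU (θ U hU).hom fun q k x hx hq => ?_
    rcases ZeroGrading.mem_deg.1 hx with rfl | rfl
    · refine hθ U hU q 0 x ?_
      rw [hq]
      refine congrArg₂ Localization.mk ?_ rfl
      rw [pow_zero]
      exact (mul_one _).symm
    · refine hθ U hU q k 0 ?_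
      rw [hq]
      refine congrArg₂ Localization.mk ?_ rfl
      exact (map_zero _).trans ((zero_mul _).symm.trans (congrArg (· * _) (map_zero _).symm))
  have hiff : ∀ i : 𝒜.spec ⟶ P, (∀ (U : Y.Opens) (hU : IsAffineOpen U),
        𝒜.ι U hU ≫ i =
          Spec.map (θ U hU) ≫
            Proj.awayι (Sh.deg U hU) ((Sh.presheaf.map (homOfLE le_top).op).hom z) (hz U hU) one_pos ≫
              RelProj.emb p chart U hU) ↔ RelCone.IsConeImm 𝒯 hz' p chart i := by
    intro i
    refine forall_congr' fun U => forall_congr' fun hU => ?_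
    rw [show θ U hU = CommRingCat.ofHom (hz'.awayZToBase U hU) from CommRingCat.hom_ext (hθ' U hU)]
    rfl
  refine ⟨?_, fun i hi => ?_⟩
  · obtain ⟨i, hi, hu⟩ := existsUnique_coneImm hz' hP
    exact ⟨i, (hiff i).2 hi, fun i' hi' => hu i' ((hiff i').1 hi')⟩
  · have hi' := (hiff i).1 hi
    refine ⟨coneImm_local hz' hP hi' (Q := MorphismProperty.isomorphisms Scheme.{u}) fun U hU => ?_,
      coneImm_over hz' hP hi'⟩
    have := isIso_SpecMap_awayZToBase hz' U hU
    have hirr : (Sh.deg U hU)₊.toIdeal ≤ Ideal.span {RelCone.restrictTop Sh z U} :=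
      irrelevant_le_of_le (RelProj.gradedHomAt (𝒜 := 𝒯) (ℬ := Sh) ι hgr U hU) (hz U hU) (hz'.bij U hU)
        (fun d hd a ha => by
          obtain rfl := (ZeroGrading.mem_deg.1 ha).resolve_left (Nat.pos_iff_ne_zero.1 hd)
          rw [map_zero]
          exact zero_mem _)
        (Ideal.subset_span rfl)
    have : IsIso (Proj.awayι (Sh.deg U hU) (RelCone.restrictTop Sh z U) (hz U hU) one_pos) := by
      have : Surjective (Proj.awayι (Sh.deg U hU) (RelCone.restrictTop Sh z U) (hz U hU) one_pos) := by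
        refine ⟨fun y => ?_⟩
        change y ∈ (Proj.awayι (Sh.deg U hU) (RelCone.restrictTop Sh z U) (hz U hU) one_pos).opensRange
        rw [Proj.opensRange_awayι]
        refine (Proj.mem_basicOpen _ _ y).2 fun h => y.not_irrelevant_le fun b hb => ?_
        exact (Ideal.span_singleton_le_iff_mem _).2 h (hirr hb)
      exact (isIso_iff_isOpenImmersion_and_epi_base _).2 ⟨inferInstance, (TopCat.epi_iff_surjective _).2 (Scheme.Hom.surjective _)⟩
    show IsIso _
    infer_instance

end Groth.Agent.S12137
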