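import Groth.Statements.S12161
import Groth.Agent.EGAProj74.RLLift

set_option autoImplicit false
universe u
open CategoryTheory CategoryTheory.Limits AlgebraicGeometry TopologicalSpace Opposite
open scoped HomogeneousIdeal
noncomputable section
open EGA2

namespace Groth.Agent.S12161

/-- Let Y be a quasi-compact scheme, q : X → Y a quasi-compact morphism, L an invertible O_X-module with
𝒮L = ⊕ L^{⊗n} (whose Proj is X), 𝒮 = colim 𝒮^i a filtered colimit of quasi-coherent positively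
graded O_Y-algebras along graded homomorphisms φ_i : 𝒮^i → 𝒮 (colimit taken on sections over affine
opens), ψ♭ = u : 𝒮 → q_*𝒮L a graded q-morphism and ψ_i♭ = u ∘ φ_i, with q of finite type; let r =
r_{L,ψ} : G(ψ) → Proj(𝒮) and r_i = r_{L,ψ_i} : G(ψ_i) → Proj(𝒮^i). Then r is everywhere defined and
an immersion if and only if some r_i is, and then so is r_j for all j ≥ i. -/
theorem result {Y X P PL : Scheme.{u}} (q : X ⟶ Y)
    (L : X.Modules) (hL : PicF.IsInvertible L) (hLq : Coh.IsQCoh L)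
    (𝒮 : RelProj.QCGrAlg Y) (𝒮L : RelProj.QCGrAlg X) (j : L ⟶ 𝒮L.toModule) (hj : RelProj.IsGrSymAlg L 𝒮L j)
    (u : RelProj.QGrHom q 𝒮 𝒮L)
    (p : P ⟶ Y) (chart : ∀ (U : Y.Opens) (hU : IsAffineOpen U), (((p ⁻¹ᵁ U : P.Opens) : Scheme.{u}) ≅ Proj (𝒮.deg U hU)))
    (hP : RelProj.IsRelProj 𝒮 p chart)
    (pL : PL ⟶ X) (chartL : ∀ (U : X.Opens) (hU : IsAffineOpen U), (((pL ⁻¹ᵁ U : PL.Opens) : Scheme.{u}) ≅ Proj (𝒮L.deg U hU)))
    (hPL : RelProj.IsRelProj 𝒮L pL chartL)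
    [CompactSpace Y] [QuasiCompact q] [LocallyOfFiniteType q]
    (r : ((RelProj.domQ u pL chartL : PL.Opens) : Scheme.{u}) ⟶ P)
    (hr : RelProj.IsProjQMapOn u p chart pL chartL (RelProj.domQ u pL chartL) r)
    (Λ : Type u) [Preorder Λ] [IsDirected Λ (· ≤ ·)] [Nonempty Λ]
    (𝒮i : Λ → RelProj.QCGrAlg Y) (φ : ∀ i, (𝒮i i).toQCAlg ⟶ 𝒮.toQCAlg) (hφ : ∀ i, RelProj.IsGradedHom (φ i))
    (t : ∀ i j, i ≤ j → ((𝒮i i).toQCAlg ⟶ (𝒮i j).toQCAlg)) (ht : ∀ i j (h : i ≤ j), RelProj.IsGradedHom (t i j h))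
    (hφt : ∀ i j (h : i ≤ j), t i j h ≫ φ j = φ i)
    (hsurj : ∀ (U : Y.Opens), IsAffineOpen U → ∀ x : 𝒮.presheaf.obj (op U),
      ∃ (i : Λ) (y : (𝒮i i).presheaf.obj (op U)), ((φ i).hom.app (op U)).hom y = x)
    (hker : ∀ (U : Y.Opens), IsAffineOpen U → ∀ (i : Λ) (y : (𝒮i i).presheaf.obj (op U)),
      ((φ i).hom.app (op U)).hom y = 0 → ∃ (j : Λ) (h : i ≤ j), ((t i j h).hom.app (op U)).hom y = 0)
    (ui : ∀ i, RelProj.QGrHom q (𝒮i i) 𝒮L) (hui : ∀ i (U : Y.Opens), (ui i).app U = (φ i).hom.app (op U) ≫ u.app U)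
    (Pi : Λ → Scheme.{u}) (pi : ∀ i, Pi i ⟶ Y)
    (charti : ∀ i (U : Y.Opens) (hU : IsAffineOpen U), ((((pi i) ⁻¹ᵁ U : (Pi i).Opens) : Scheme.{u}) ≅ Proj ((𝒮i i).deg U hU)))
    (hPi : ∀ i, RelProj.IsRelProj (𝒮i i) (pi i) (charti i))
    (ri : ∀ i, ((RelProj.domQ (ui i) pL chartL : PL.Opens) : Scheme.{u}) ⟶ Pi i)
    (hri : ∀ i, RelProj.IsProjQMapOn (ui i) (pi i) (charti i) pL chartL (RelProj.domQ (ui i) pL chartL) (ri i)) :
    ((RelProj.domQ u pL chartL = ⊤ ∧ IsImmersion r) ↔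
        ∃ i, RelProj.domQ (ui i) pL chartL = ⊤ ∧ IsImmersion (ri i)) ∧
      ∀ i, (RelProj.domQ (ui i) pL chartL = ⊤ ∧ IsImmersion (ri i)) →
        ∀ j, i ≤ j → RelProj.domQ (ui j) pL chartL = ⊤ ∧ IsImmersion (ri j) := by
  classical
  have up : ∀ a b (h : a ≤ b), (RelProj.domQ (ui a) pL chartL = ⊤ ∧ IsImmersion (ri a)) →
      RelProj.domQ (ui b) pL chartL = ⊤ ∧ IsImmersion (ri b) := fun a b h hh =>
    EGAProj74.isImmersion_of_comp (ht a b h) (fun U => by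
      rw [hui a U, hui b U, ← hφt a b h]
      exact Category.assoc _ _ _) (hri b) (hPi b) (hri a) (hPi a) hh.1 hh.2
  refine ⟨⟨fun hh => ?_, ?_⟩, fun a ha b hab => up a b hab ha⟩
  swap
  · rintro ⟨a, ha⟩
    exact EGAProj74.isImmersion_of_comp (hφ a) (hui a) hr hP (hri a) (hPi a) ha.1 ha.2
  have : CompactSpace X := QuasiCompact.compactSpace_of_compactSpace q
  choose V n S hn hS hx haff hgen using (EGAProj74.RLRel.isImmersion_iff hL hLq hj hPL hr hP).1 hh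
  obtain ⟨Z, hZ⟩ := isCompact_univ.elim_finite_subcover
    (fun x => ((EGAProj74.RLRel.nonVanish u (n x) (S x) : X.Opens) : Set X))
    (fun x => (EGAProj74.RLRel.nonVanish u (n x) (S x)).2) fun x _ => Set.mem_iUnion.2 ⟨x, hx x⟩
  choose ι hι b m f hB hf using fun x => EGAProj74.RLLift.exists_generators (V x).2 (haff x) _ (hgen x)
  choose iS yS hyS using fun x => hsurj (V x).1 (V x).2 (S x)
  choose iF yF hyF using fun x (c : ι x) => hsurj (V x).1 (V x).2 (f x c)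
  obtain ⟨k, hk⟩ := Finset.exists_le (Z.image iS ∪ Z.biUnion fun x => (@Finset.univ _ (hι x)).image (iF x))
  have lift : ∀ (U : Y.Opens) (hU : IsAffineOpen U) (a : Λ), a ≤ k → ∀ (y : (𝒮i a).presheaf.obj (op U)) (d : ℕ)
      (s : 𝒮.presheaf.obj (op U)), s ∈ 𝒮.deg U hU d → ((φ a).hom.app (op U)).hom y = s →
      ∃ z ∈ (𝒮i k).deg U hU d, ((φ k).hom.app (op U)).hom z = s := by
    intro U hU a hak y d s hs hy
    refine EGAProj74.RLLift.exists_homogeneous_preimage (hφ k) hU hs (a' := ((t a k hak).hom.app (op U)).hom y) ?_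
    exact Eq.trans congr($(NatTrans.congr_app (congrArg RelSpec.QCAlg.Hom.hom (hφt a k hak)) (op U)).hom y) hy
  refine ⟨k, (EGAProj74.RLRel.isImmersion_iff hL hLq hj hPL (hri k) (hPi k)).2 fun x => ?_⟩
  obtain ⟨z, hz, hxz⟩ := Set.mem_iUnion₂.1 (hZ (Set.mem_univ x))
  obtain ⟨S', hS', hvS⟩ := lift _ (V z).2 (iS z) (hk _ (Finset.mem_union_left _ (Finset.mem_image_of_mem _ hz)))
    (yS z) (n z) (S z) (hS z) (hyS z)
  obtain ⟨ha, hc⟩ := EGAProj74.RLLift.piece_of_lifts (hui k) hS' hvS rfl (haff z) _ (b z) (m z) (f z) (hB z)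
    (fun c => (hf z c).2) fun c => lift _ (V z).2 (iF z c) (hk _ (Finset.mem_union_right _
      (Finset.mem_biUnion.2 ⟨z, hz, Finset.mem_image_of_mem _ (@Finset.mem_univ _ (hι z) c)⟩))) (yF z c) _ _
      (hf z c).1 (hyF z c)
  refine ⟨V z, n z, S', hn z, hS', ?_, ha, hc⟩
  rw [EGAProj74.RLLift.nonVanish_of_comp (hui k), hvS]
  exact hxz

end Groth.Agent.S12161
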