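import Groth.Statements.S12162
import Groth.Agent.EGAProj74.RLImmSub
import Groth.Agent.EGAProj74.RLRel
import Groth.Agent.EGAProj74.QMap
import Groth.Agent.EGAProj74.Exists

set_option autoImplicit false
universe u
open CategoryTheory CategoryTheory.Limits AlgebraicGeometry TopologicalSpace Opposite
open scoped HomogeneousIdeal
noncomputable section
open EGA2

namespace Groth.Agent.S12162

/-- Let Y be a quasi-compact separated scheme or a scheme with Noetherian underlying space, q : X → Y a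
morphism of finite type, L an invertible O_X-module with 𝒮L = ⊕ L^{⊗n} (whose Proj is X), 𝒮 a
quasi-coherent positively graded O_Y-algebra, ψ♭ = u : 𝒮 → q_*𝒮L a graded q-morphism and r = r_{L,ψ}
: G(ψ) → Proj(𝒮). Then r is everywhere defined and an immersion if and only if there are n > 0 and a
quasi-coherent sub-O_Y-module E ⊆ 𝒮_n of finite type such that (a) q^*(E) → L^{⊗n} (induced by ψ_n)
is surjective and (b) for the graded sub-algebra 𝒮' of 𝒮 generated by E and ψ' = ψ ∘ q^*(𝒮' ⊆ 𝒮),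
r_{L,ψ'} is everywhere defined and an immersion. (Here E is written as the degree-n part of 𝒮',
which it equals; 𝒮' is given abstractly with an injective graded homomorphism into 𝒮 and degree-zero
part the image of O_Y; surjectivity in (a) is stated stalkwise: every point of X has an affine
neighbourhood V over which some section of E generates L^{⊗n}.) -/
theorem result {Y X P PL : Scheme.{u}} (q : X ⟶ Y)
    (L : X.Modules) (hL : PicF.IsInvertible L) (hLq : Coh.IsQCoh L)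
    (𝒮 : RelProj.QCGrAlg Y) (𝒮L : RelProj.QCGrAlg X) (j : L ⟶ 𝒮L.toModule) (hj : RelProj.IsGrSymAlg L 𝒮L j)
    (u : RelProj.QGrHom q 𝒮 𝒮L)
    (p : P ⟶ Y) (chart : ∀ (U : Y.Opens) (hU : IsAffineOpen U), (((p ⁻¹ᵁ U : P.Opens) : Scheme.{u}) ≅ Proj (𝒮.deg U hU)))
    (hP : RelProj.IsRelProj 𝒮 p chart)
    (pL : PL ⟶ X) (chartL : ∀ (U : X.Opens) (hU : IsAffineOpen U), (((pL ⁻¹ᵁ U : PL.Opens) : Scheme.{u}) ≅ Proj (𝒮L.deg U hU)))
    (hPL : RelProj.IsRelProj 𝒮L pL chartL)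
    (r : ((RelProj.domQ u pL chartL : PL.Opens) : Scheme.{u}) ⟶ P)
    (hr : RelProj.IsProjQMapOn u p chart pL chartL (RelProj.domQ u pL chartL) r)
    (hYs : (CompactSpace Y ∧ Y.IsSeparated) ∨ NoetherianSpace Y) [QuasiCompact q] [LocallyOfFiniteType q] :
    (RelProj.domQ u pL chartL = ⊤ ∧ IsImmersion r) ↔
      ∃ (n : ℕ) (_ : 0 < n) (𝒮' : RelProj.QCGrAlg Y) (j' : 𝒮'.toQCAlg ⟶ 𝒮.toQCAlg) (_ : RelProj.IsGradedHom j')
        (_ : ∀ (U : Y.Opens), IsAffineOpen U → Function.Injective (j'.hom.app (op U)).hom)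
        (_ : ∀ (U : Y.Opens) (hU : IsAffineOpen U),
          ((𝒮'.deg U hU 0 : AddSubgroup (𝒮'.presheaf.obj (op U))) : Set (𝒮'.presheaf.obj (op U))) =
            Set.range (𝒮'.str.app (op U)).hom)
        (_ : ∀ (U : Y.Opens) (hU : IsAffineOpen U),
          Subring.closure (((𝒮'.deg U hU 0 : AddSubgroup (𝒮'.presheaf.obj (op U))) : Set (𝒮'.presheaf.obj (op U))) ∪
            ((𝒮'.deg U hU n : AddSubgroup (𝒮'.presheaf.obj (op U))) : Set (𝒮'.presheaf.obj (op U)))) = ⊤)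
        (_ : 𝒮'.IsFTDeg n)
        (u' : RelProj.QGrHom q 𝒮' 𝒮L) (_ : ∀ U : Y.Opens, u'.app U = j'.hom.app (op U) ≫ u.app U),
        (∀ x : X, ∃ (U : Y.Opens) (hU : IsAffineOpen U) (e : 𝒮'.presheaf.obj (op U)) (_ : e ∈ 𝒮'.deg U hU n)
            (V : X.Opens) (hV : IsAffineOpen V) (hVU : V ≤ q ⁻¹ᵁ U), x ∈ V ∧
              ((𝒮L.deg V hV n : AddSubgroup (𝒮L.presheaf.obj (op V))) : Set (𝒮L.presheaf.obj (op V))) ⊆
                (Ideal.span {(u'.appLE U V hVU).hom e} : Set (𝒮L.presheaf.obj (op V)))) ∧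
        (∀ (P' : Scheme.{u}) (p' : P' ⟶ Y)
            (chart' : ∀ (U : Y.Opens) (hU : IsAffineOpen U), (((p' ⁻¹ᵁ U : P'.Opens) : Scheme.{u}) ≅ Proj (𝒮'.deg U hU)))
            (_ : RelProj.IsRelProj 𝒮' p' chart')
            (r' : ((RelProj.domQ u' pL chartL : PL.Opens) : Scheme.{u}) ⟶ P')
            (_ : RelProj.IsProjQMapOn u' p' chart' pL chartL (RelProj.domQ u' pL chartL) r'),
          RelProj.domQ u' pL chartL = ⊤ ∧ IsImmersion r') := by
  classical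
  open Groth.Agent.EGAProj74 in
  constructor
  · intro himm
    have : CompactSpace Y := by
      rcases hYs with ⟨h, -⟩ | h
      · exact h
      · infer_instance
    have hY : QuasiSeparatedSpace Y ∨ NoetherianSpace Y := by
      rcases hYs with ⟨-, h⟩ | h
      · exact Or.inl inferInstance
      · exact Or.inr h
    have : CompactSpace X := QuasiCompact.compactSpace_of_compactSpace q
    obtain ⟨N, Z, V, S, T, hN, hcov, hTfin, hTdeg, hpiece⟩ := RLImmSub.exists_uniform hL hLq hj hPL u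
      ((RLRel.isImmersion_iff hL hLq hj hPL hr hP).1 himm)
    obtain ⟨Q, hQ, hQdeg, hQT⟩ := DegSub.exists_fg_through 𝒮 N hY Z V T hTfin hTdeg
    have hv := SubGrAlg.isGradedHom_incl 𝒮 hQ hN hQdeg
    let u₁ := SubGrAlg.preQGrHom 𝒮 (SubGrAlg.incl 𝒮 hQ hN hQdeg) hv u
    have hu₁ : ∀ U : Y.Opens, u₁.app U = (SubGrAlg.incl 𝒮 hQ hN hQdeg).hom.app (op U) ≫ u.app U := fun _ => rfl
    have hpieces : ∀ x : X, ∃ (U : Y.affineOpens) (s : (SubGrAlg.grSub 𝒮 hQ hN hQdeg).presheaf.obj (op U.1)),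
        s ∈ (SubGrAlg.grSub 𝒮 hQ hN hQdeg).deg U.1 U.2 N ∧ x ∈ RLRel.nonVanish u₁ N s ∧
          IsAffineOpen (RLRel.nonVanish u₁ N s) ∧
            RLRel.CondGen u₁ U.2 N s (RLRel.nonVanish u₁ N s) (RLRel.nonVanish_le u₁ N s) := by
      intro x
      obtain ⟨z, hz, hxz⟩ := hcov x
      obtain ⟨hST, haff, ι, b, f, hB, hf⟩ := hpiece z hz
      obtain ⟨S₁, hS₁, hvS⟩ := SubGrAlg.exists_preimage 𝒮 hQ hN hQdeg (V z).2 (hQT z hz _ hST)
      obtain ⟨h1, h2⟩ := RLLift.piece_of_lifts hu₁ (U := V z) hS₁ hvS rfl haff (RLRel.nonVanish_le u N (S z))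
        b (fun _ => 1) f hB (fun i => (hf i).2) (fun i => by
          rw [one_mul]
          exact SubGrAlg.exists_preimage 𝒮 hQ hN hQdeg (V z).2 (hQT z hz _ (hf i).1))
      refine ⟨V z, S₁, hS₁, ?_, h1, h2⟩
      rw [RLLift.nonVanish_of_comp hu₁, hvS]
      exact hxz
    refine ⟨N, hN, SubGrAlg.grSub 𝒮 hQ hN hQdeg, SubGrAlg.incl 𝒮 hQ hN hQdeg, hv,
      fun U _ => SubGrAlg.injective_incl 𝒮 hQ hN hQdeg U, fun U hU => SubGrAlg.deg_zero 𝒮 hQ hN hQdeg hU,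
      fun U hU => SubGrAlg.closure_eq_top 𝒮 hQ hN hQdeg hU, SubGrAlg.isFTDeg 𝒮 hQ hN hQdeg, u₁, hu₁,
      fun x => ?_, fun P₁ p₁ chart₁ hP₁ r₁ hr₁ => ?_⟩
    · obtain ⟨U, s, hs, hx, -⟩ := hpieces x
      obtain ⟨⟨⟨W, hW⟩, hWU, hWspan⟩, hxW⟩ := Opens.mem_iSup.mp hx
      exact ⟨U.1, U.2, s, hs, W, hW, hWU, hxW, hWspan⟩
    · refine (RLRel.isImmersion_iff hL hLq hj hPL hr₁ hP₁).2 fun x => ?_
      obtain ⟨U, s, hs, hx, haff, hgen⟩ := hpieces x
      exact ⟨U, N, s, hN, hs, hx, haff, hgen⟩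
  · rintro ⟨n, hn, 𝒯, v, hv, -, -, -, -, u₁, hu₁, -, himm⟩
    obtain ⟨r₁, hr₁, -⟩ := existsUnique_projQMapOn (u := u₁) (p' := pL) (chart' := chartL) hPL (isRelProj_relProj 𝒯)
    refine (RLRel.isImmersion_iff hL hLq hj hPL hr hP).2 fun x => ?_
    obtain ⟨U, m, s, hm, hs, hx, haff, hgen⟩ :=
      (RLRel.isImmersion_iff hL hLq hj hPL hr₁ (isRelProj_relProj 𝒯)).1 (himm _ _ _ (isRelProj_relProj 𝒯) r₁ hr₁) x
    have hnv := RLLift.nonVanish_of_comp (n := m) (S := s) hu₁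
    refine ⟨U, m, (v.hom.app (op U.1)).hom s, hm, hv U.1 U.2 m s hs, hnv ▸ hx, hnv ▸ haff, ?_⟩
    suffices key : ∀ (W : X.Opens) (hW : W ≤ q ⁻¹ᵁ U.1), RLRel.nonVanish u₁ m s = W →
        RLRel.CondGen u U.2 m ((v.hom.app (op U.1)).hom s) W hW from key _ _ hnv
    rintro W hW rfl t
    obtain ⟨k, hk, f, hf, he⟩ := hgen t
    refine ⟨k, hk, (v.hom.app (op U.1)).hom f, hv U.1 U.2 _ f hf, ?_⟩
    rw [← RLLift.appLE_of_comp hu₁, ← RLLift.appLE_of_comp hu₁]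
    exact he

end Groth.Agent.S12162
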