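import Groth.Statements.S12166
import Groth.Agent.EGAProj74.QMapProps

set_option autoImplicit false
universe u
open CategoryTheory CategoryTheory.Limits AlgebraicGeometry TopologicalSpace Opposite
open scoped HomogeneousIdeal
noncomputable section
open EGA2

namespace Groth.Agent.S12166

/-- Let φ : 𝒜 → ℬ be a graded homomorphism of quasi-coherent positively graded O_Y-algebras which is a
(TN)-isomorphism (φ : 𝒜_k → ℬ_k bijective for all large k, on sections over affine opens), PA =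
Proj(𝒜), PB = Proj(ℬ) with their charts. Then Proj(φ) is defined on all of PB and is an isomorphism
PB → PA. -/
theorem result {Y PA PB : Scheme.{u}} (𝒜 ℬ : RelProj.QCGrAlg Y)
    (φ : 𝒜.toQCAlg ⟶ ℬ.toQCAlg) (hφ : RelProj.IsGradedHom φ)
    (hTN : ∃ n : ℕ, ∀ k, n ≤ k → ∀ (U : Y.Opens) (hU : IsAffineOpen U),
      (∀ x ∈ 𝒜.deg U hU k, (φ.hom.app (op U)).hom x = 0 → x = 0) ∧
        ∀ y ∈ ℬ.deg U hU k, ∃ x ∈ 𝒜.deg U hU k, (φ.hom.app (op U)).hom x = y)
    (pA : PA ⟶ Y) (chartA : ∀ (U : Y.Opens) (hU : IsAffineOpen U), (((pA ⁻¹ᵁ U : PA.Opens) : Scheme.{u}) ≅ Proj (𝒜.deg U hU)))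
    (hA : RelProj.IsRelProj 𝒜 pA chartA)
    (pB : PB ⟶ Y) (chartB : ∀ (U : Y.Opens) (hU : IsAffineOpen U), (((pB ⁻¹ᵁ U : PB.Opens) : Scheme.{u}) ≅ Proj (ℬ.deg U hU)))
    (hB : RelProj.IsRelProj ℬ pB chartB) :
    RelProj.domQ (RelProj.QGrHom.ofHom φ hφ) pB chartB = ⊤ ∧
      ∀ h : PB ⟶ PA, RelProj.IsProjQMap (RelProj.QGrHom.ofHom φ hφ) pA chartA pB chartB h → IsIso h := by
  obtain ⟨N, hN⟩ := hTN
  have hs : ∀ (U : Y.Opens) (hU : IsAffineOpen U) (k : ℕ), N ≤ k →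
      Set.SurjOn ((RelProj.QGrHom.ofHom φ hφ).gradedAt U hU U hU le_rfl) (𝒜.deg U hU k) (ℬ.deg U hU k) := by
    intro U hU k hk y hy
    obtain ⟨x, hx, hxy⟩ := (hN k hk U hU).2 y hy
    rw [EGAProj74.gradedAt_ofHom]
    exact ⟨x, hx, hxy⟩
  have hi : ∀ (U : Y.Opens) (hU : IsAffineOpen U) (k : ℕ), N ≤ k → ∀ a ∈ 𝒜.deg U hU k,
      (RelProj.QGrHom.ofHom φ hφ).gradedAt U hU U hU le_rfl a = 0 → a = 0 := by
    intro U hU k hk a ha h0
    rw [EGAProj74.gradedAt_ofHom] at h0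
    exact (hN k hk U hU).1 a ha h0
  have htop : RelProj.domQ (RelProj.QGrHom.ofHom φ hφ) pB chartB = ⊤ := by
    refine EGAProj74.domQ_eq_top _ hB fun s => ?_
    obtain ⟨_, ⟨U, hU, rfl⟩, hsU, -⟩ := (Scheme.isBasis_affineOpens Y).exists_subset_of_mem_open
      (Set.mem_univ s) isOpen_univ
    have hU : IsAffineOpen U := hU
    exact ⟨U, hU, U, hU, le_rfl, hsU, EGAProj74.domOpen_eq_top_of_surjOn _ N (hs U hU)⟩
  refine ⟨htop, fun h hh => ?_⟩
  have : IsIso (RelProj.domQ (RelProj.QGrHom.ofHom φ hφ) pB chartB).ι := by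
    rw [htop]; exact inferInstanceAs (IsIso (Scheme.topIso _).hom)
  exact (MorphismProperty.cancel_left_of_respectsIso (MorphismProperty.isomorphisms Scheme.{u}) _ h).mp
    (EGAProj74.projQMapOn_id_of _ hA hB ((EGAProj74.isProjQMap_iff _).mp hh).2
      fun U hU => EGAProj74.isIso_domMap _ N (hs U hU) (hi U hU))

end Groth.Agent.S12166
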