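import Groth.Statements.S1218
import Groth.Agent.FlatCrit65.Purity.Cover
import Groth.Agent.RG29.DevCover

set_option autoImplicit false
universe u
open FlatMor

namespace Groth.Agent.S1218

/-- Ring form, X = Spec B affine: let B be a finite type A-algebra, N a finite B-module and p a prime of
A such that N is flat over A at every prime of B lying over p. If N is pure along the fibre over p
then N is universally pure along the fibre over p. -/
theorem result {A B : Type u} [CommRing A] [CommRing B] [Algebra A B] [Algebra.FiniteType A B]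
    (N : Type u) [AddCommGroup N] [Module B N] [Module A N] [IsScalarTower A B N] [Module.Finite B N] (p : Ideal A) [p.IsPrime]
    (hflat : ∀ (q : Ideal B) [q.IsPrime], q.LiesOver p → FlatCA.FlatAt A q N)
    (hpure : FlatCA.IsPureAlong A B N p) : FlatCA.IsUnivPureAlong A B N p := by
  classical
  rw [Groth.Agent.FlatMor67.PurePush.isUnivPureAlong_iff_not_hasImpurity]
  intro himp
  obtain ⟨A₁, _, _, p₁, _, hn, hcov⟩ := Groth.Agent.RG29.exists_etale_cover (B := B) N p
  have hn' := hn
  obtain ⟨het, ho, -⟩ := hn'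
  haveI := het
  haveI := ho
  letI : Algebra B (TensorProduct A A₁ B) := Algebra.TensorProduct.rightAlgebra
  haveI : IsScalarTower A B (TensorProduct A A₁ B) := IsScalarTower.of_algebraMap_eq fun a =>
    ((Algebra.TensorProduct.includeRight : B →ₐ[A] TensorProduct A A₁ B).commutes a).symm
  haveI : Algebra.IsPushout A B A₁ (TensorProduct A A₁ B) := TensorProduct.isPushout'
  let BA := TensorProduct A A₁ B
  let NA := TensorProduct B BA N
  let fA : N →ₗ[B] NA := TensorProduct.mk B BA N 1
  have hfA : IsBaseChange BA fA := TensorProduct.isBaseChange B N BA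
  have hflatA : ∀ (Q : Ideal BA) [Q.IsPrime], Q.LiesOver p₁ → FlatCA.FlatAt A₁ Q NA := fun Q _ hQ => by
    haveI := hQ
    refine Groth.Agent.FlatMor67.FlatAtBC.flatAt_baseChange (R := A) (R' := A₁) fA hfA Q (hflat _ ⟨?_⟩)
    haveI : Q.LiesOver p := Ideal.LiesOver.trans Q p₁ p
    rw [Ideal.under, Ideal.comap_comap, ← IsScalarTower.algebraMap_eq]
    exact Ideal.over_def Q p
  obtain ⟨k, C, i1, i2, i3, i4, Nc, i5, i6, i7, i8, g, hmain, hsee⟩ := hcov BA NA fA hfA
  haveI : ∀ i, Algebra.Etale BA (C i) := fun i => (hmain i).1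
  refine Groth.Agent.FlatCrit65.Purity.not_hasImpurity_of_cover C Nc g
    (fun i => (hmain i).2.1) (fun i => ?_) ?_
    (Groth.Agent.FlatCrit65.Purity.hasImpurity_baseChange fA hfA p₁ himp)
  · letI : Module A₁ (Nc i) := Module.compHom (Nc i) (algebraMap A₁ (C i))
    haveI : IsScalarTower A₁ (C i) (Nc i) := IsScalarTower.of_algebraMap_smul fun _ _ => rfl
    refine Groth.Agent.FlatCrit65.Purity.not_hasImpurity_of_devissage (hmain i).2.2.some fun q _ hq =>
      Groth.Agent.FlatCrit65.Purity.flatAt_ascend (hmain i).2.1 q (hflatA _ ⟨?_⟩)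
    rw [Ideal.under, Ideal.comap_comap, ← IsScalarTower.algebraMap_eq]
    exact hq.over
  intro t' _ ht' Q _ hQ hass
  by_contra hne
  push Not at hne
  refine hpure A₁ BA NA fA t' p₁ Q hn ⟨inferInstance, hfA, ht', ho, hQ, hass, fun P _ hP hPo => ?_⟩
  obtain ⟨i, P', hP'p, hP'⟩ := hsee P hPo
  haveI := hP'p
  haveI : (P'.comap (algebraMap BA (C i))).IsPrime := Ideal.comap_isPrime _ _
  haveI : P'.LiesOver P := ⟨hP'.symm⟩
  obtain ⟨Q', -, hQ'p, hQ'o⟩ := Ideal.exists_ideal_le_liesOver_of_le P' (p := Q) (q := P) hP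
  exact hne i Q' hQ'p hQ'o.over.symm

end Groth.Agent.S1218
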