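import Groth.Statements.S12192
import Groth.Agent.SpProper61.EtaleSection

set_option autoImplicit false
universe u
open CategoryTheory CategoryTheory.Limits AlgebraicGeometry
open AlgSp

namespace Groth.Agent.S12192

/-- Let f : Y' → Y be a proper morphism between algebraic spaces over the scheme S, i : Z → Y a closed
immersion, E = Z ×_Y Y', and assume f is an isomorphism over the open complement of Z. Let V₁, V₂ be
etale over Y, with base changes V₁', V₂' to Y' and W₁, W₂ to Z, and let P₁ be the base change of V₁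
to E (through both V₁' and W₁). Then a morphism m' : V₁' → V₂' over Y' and a morphism n : W₁ → W₂
over Z inducing the same morphism P₁ → V₂ are the base changes of exactly one morphism V₁ → V₂ over
Y. (The published statement asserts that the functor sending a space etale over Y to its base
changes to Y' and to Z, glued along E, is an equivalence of categories onto such glueing data; this
row states that it is fully faithful.) -/
theorem result {S : Scheme.{u}}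
    {Y Y' Z E U U' V₁ V₂ V₁' V₂' W₁ W₂ P₁ : AlgSp.Space S} (f : Y' ⟶ Y)
    (hf : AlgSp.IsProperMor f.hom) (i : Z ⟶ Y) (hi : AlgSp.RepWith @IsClosedImmersion i.hom) (j : E ⟶ Y')
    (g : E ⟶ Z) (hE : IsPullback j.hom g.hom f.hom i.hom) (jU : U ⟶ Y)
    (hjU : AlgSp.RepWith @IsOpenImmersion jU.hom)
    (hU : Set.range (AlgSp.Points.map jU.hom) = (Set.range (AlgSp.Points.map i.hom))ᶜ) (fU : U' ⟶ U)
    (jU' : U' ⟶ Y') (hU' : IsPullback jU'.hom fU.hom f.hom jU.hom) [IsIso fU]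
    (v₁ : V₁ ⟶ Y) (v₂ : V₂ ⟶ Y) (hv₁ : AlgSp.IsEtaleMor v₁.hom) (hv₂ : AlgSp.IsEtaleMor v₂.hom)
    (a₁ : V₁' ⟶ V₁) (p₁ : V₁' ⟶ Y') (ha₁ : IsPullback a₁.hom p₁.hom v₁.hom f.hom)
    (a₂ : V₂' ⟶ V₂) (p₂ : V₂' ⟶ Y') (ha₂ : IsPullback a₂.hom p₂.hom v₂.hom f.hom)
    (b₁ : W₁ ⟶ V₁) (q₁ : W₁ ⟶ Z) (hb₁ : IsPullback b₁.hom q₁.hom v₁.hom i.hom)
    (b₂ : W₂ ⟶ V₂) (q₂ : W₂ ⟶ Z) (hb₂ : IsPullback b₂.hom q₂.hom v₂.hom i.hom)
    (r₁ : P₁ ⟶ V₁') (s₁ : P₁ ⟶ W₁) (e₁ : P₁ ⟶ E)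
    (hr₁ : IsPullback r₁.hom e₁.hom p₁.hom j.hom) (hs₁ : IsPullback s₁.hom e₁.hom q₁.hom g.hom)
    (hP₁ : r₁ ≫ a₁ = s₁ ≫ b₁)
    (m' : V₁' ⟶ V₂') (hm' : m' ≫ p₂ = p₁) (n : W₁ ⟶ W₂) (hn : n ≫ q₂ = q₁)
    (hmn : r₁ ≫ m' ≫ a₂ = s₁ ≫ n ≫ b₂) :
    ∃! m : V₁ ⟶ V₂, m ≫ v₂ = v₁ ∧ a₁ ≫ m = m' ≫ a₂ ∧ b₁ ≫ m = n ≫ b₂ := by
  have e1 : r₁.hom ≫ a₁.hom = s₁.hom ≫ b₁.hom := congrArg (fun k => k.hom) hP₁
  have e2 : r₁.hom ≫ m'.hom ≫ a₂.hom = s₁.hom ≫ n.hom ≫ b₂.hom := congrArg (fun k => k.hom) hmn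
  have em : m'.hom ≫ p₂.hom = p₁.hom := congrArg (fun k => k.hom) hm'
  have en : n.hom ≫ q₂.hom = q₁.hom := congrArg (fun k => k.hom) hn
  haveI : Mono i.hom := Groth.Agent.SpPts86.mono_of_repWith_le
    Groth.Agent.SpPts86.isClosedImmersion_le_monomorphisms hi
  haveI : Mono b₁.hom := MorphismProperty.of_isPullback (P := MorphismProperty.monomorphisms _) hb₁.flip
    (inferInstanceAs (Mono i.hom))
  haveI : IsIso fU.hom := inferInstanceAs (IsIso ((ObjectProperty.ι _).map fU))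
  have hinv : inv fU.hom ≫ jU'.hom ≫ f.hom = jU.hom := by rw [hU'.w, IsIso.inv_hom_id_assoc]
  have hcU : ∀ y : AlgSp.Points Y.obj, y ∈ Set.range (AlgSp.Points.map f.hom) ∨ y ∈ Set.range (AlgSp.Points.map i.hom) := by
    intro y
    by_cases hy : y ∈ Set.range (AlgSp.Points.map i.hom)
    · exact Or.inr hy
    · obtain ⟨x, rfl⟩ := hU.ge hy
      exact Or.inl ⟨AlgSp.Points.map (inv fU.hom ≫ jU'.hom) x, by
        rw [← AlgSp.Points.map_comp, Category.assoc, hinv]⟩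
  have hW : AlgSp.IsAlgSpace (pullback v₁.hom v₂.hom) :=
    Groth.Agent.SpFP87.isAlgSpace_pullback _ _ V₁.property V₂.property Y.property
  have hw : AlgSp.IsEtaleMor (pullback.fst v₁.hom v₂.hom) :=
    Groth.Agent.SpPts86.isEtaleMor_baseChange (IsPullback.of_hasPullback v₁.hom v₂.hom).flip V₂.property
      Y.property V₁.property hv₂
  have h12 : ∀ {T : AlgSp.Sp S} (a : T ⟶ V₁'.obj) (b : T ⟶ W₁.obj), a ≫ a₁.hom = b ≫ b₁.hom →
      a ≫ m'.hom ≫ a₂.hom = b ≫ n.hom ≫ b₂.hom := fun {T} a b e => by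
    obtain ⟨e', he'₁, he'₂⟩ : ∃ e' : T ⟶ E.obj, e' ≫ j.hom = a ≫ p₁.hom ∧ e' ≫ g.hom = b ≫ q₁.hom :=
      ⟨hE.lift _ _ (by rw [Category.assoc, ← ha₁.w, reassoc_of% e, hb₁.w, Category.assoc]),
        hE.lift_fst _ _ _, hE.lift_snd _ _ _⟩
    obtain ⟨k, hk⟩ : ∃ k, k ≫ r₁.hom = a := ⟨hr₁.lift a e' he'₁.symm, hr₁.lift_fst _ _ _⟩
    have hkb : k ≫ s₁.hom = b := by
      rw [← cancel_mono b₁.hom, Category.assoc, ← e1, ← Category.assoc, hk, e]
    rw [← hk, Category.assoc, e2, ← Category.assoc, hkb]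
  have h11 : ∀ {T : AlgSp.Sp S} (a b : T ⟶ V₁'.obj), a ≫ a₁.hom = b ≫ a₁.hom →
      a ≫ m'.hom ≫ a₂.hom = b ≫ m'.hom ≫ a₂.hom := fun {T} a b e => by
    refine Groth.Agent.SpProper61.eq_of_points_cover V₂.property Y.property hv₂ ?_ fun t => ?_
    · simp only [Category.assoc, ha₂.w, reassoc_of% em, ← ha₁.w]
      rw [reassoc_of% e]
    by_cases ht : AlgSp.Points.map (a ≫ a₁.hom ≫ v₁.hom) t ∈ Set.range (AlgSp.Points.map i.hom)
    · obtain ⟨z, hz⟩ := ht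
      rw [← Category.assoc, AlgSp.Points.map_comp] at hz
      obtain ⟨x, hx, -⟩ := Groth.Agent.SpPts86.exists_of_isPullback hb₁ (AlgSp.Points.map (a ≫ a₁.hom) t) z hz.symm
      obtain ⟨p, hp, -⟩ := Groth.Agent.SpPts86.exists_of_isPullback
        (IsPullback.of_hasPullback (a ≫ a₁.hom) b₁.hom) t x hx.symm
      refine ⟨_, pullback.fst (a ≫ a₁.hom) b₁.hom, p, hp, ?_⟩
      have h := pullback.condition (f := a ≫ a₁.hom) (g := b₁.hom)
      have hb := h12 (pullback.fst (a ≫ a₁.hom) b₁.hom ≫ b) (pullback.snd _ _) (by rw [Category.assoc, ← e]; exact h)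
      have ha := h12 (pullback.fst (a ≫ a₁.hom) b₁.hom ≫ a) (pullback.snd _ _) (by rw [Category.assoc]; exact h)
      simp only [Category.assoc] at ha hb
      rw [ha, hb]
    · obtain ⟨z, hz⟩ := hU.ge ht
      obtain ⟨p, hp, -⟩ := Groth.Agent.SpPts86.exists_of_isPullback
        (IsPullback.of_hasPullback (a ≫ a₁.hom ≫ v₁.hom) jU.hom) t z hz.symm
      refine ⟨_, pullback.fst (a ≫ a₁.hom ≫ v₁.hom) jU.hom, p, hp, ?_⟩
      let c := pullback.fst (a ≫ a₁.hom ≫ v₁.hom) jU.hom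
      have hlift : ∀ d : T ⟶ V₁'.obj, d ≫ a₁.hom = a ≫ a₁.hom →
          c ≫ d ≫ p₁.hom = (pullback.snd (a ≫ a₁.hom ≫ v₁.hom) jU.hom ≫ inv fU.hom) ≫ jU'.hom := fun d hd => by
        obtain ⟨l, hl₁, hl₂⟩ : ∃ l, l ≫ jU'.hom = c ≫ d ≫ p₁.hom ∧ l ≫ fU.hom = pullback.snd _ _ :=
          ⟨hU'.lift _ _ (by
            rw [Category.assoc, Category.assoc, ← ha₁.w, ← Category.assoc d, hd, Category.assoc]
            exact pullback.condition), hU'.lift_fst _ _ _, hU'.lift_snd _ _ _⟩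
        rw [← hl₁, ← hl₂]
        simp only [Category.assoc, IsIso.hom_inv_id_assoc]
      have hab : c ≫ a = c ≫ b := ha₁.hom_ext (by rw [Category.assoc, Category.assoc, e])
        (by rw [Category.assoc, Category.assoc, hlift a rfl, hlift b e.symm])
      show c ≫ a ≫ _ = c ≫ b ≫ _
      rw [reassoc_of% hab]
  have w₁ : a₁.hom ≫ v₁.hom = (m'.hom ≫ a₂.hom) ≫ v₂.hom := by rw [Category.assoc, ha₂.w, reassoc_of% em, ha₁.w]
  have w₂ : b₁.hom ≫ v₁.hom = (n.hom ≫ b₂.hom) ≫ v₂.hom := by rw [Category.assoc, hb₂.w, reassoc_of% en, hb₁.w]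
  obtain ⟨σ, ⟨hσ₀, hσ₁, hσ₂⟩, huniq⟩ := Groth.Agent.SpProper61.existsUnique_section hW V₁.property V₁'.property W₁.property hw
    (Groth.Agent.SpPts86.univSp_baseChange' hf.2.2 ha₁.flip)
    (Groth.Agent.SpPts86.univSp_baseChange' (Groth.Agent.S10277.result i hi).2.2 hb₁.flip)
    (fun x => by
      obtain ⟨z, hz⟩ | ⟨z, hz⟩ := hcU (AlgSp.Points.map v₁.hom x)
      · obtain ⟨p, hp, -⟩ := Groth.Agent.SpPts86.exists_of_isPullback ha₁ x z hz.symm
        exact Or.inl ⟨p, hp⟩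
      · obtain ⟨p, hp, -⟩ := Groth.Agent.SpPts86.exists_of_isPullback hb₁ x z hz.symm
        exact Or.inr ⟨p, hp⟩)
    (s₁ := pullback.lift a₁.hom (m'.hom ≫ a₂.hom) w₁) (pullback.lift_fst _ _ _)
    (s₂ := pullback.lift b₁.hom (n.hom ≫ b₂.hom) w₂) (pullback.lift_fst _ _ _)
    (fun a b e => pullback.hom_ext
      (by erw [Category.assoc, Category.assoc, pullback.lift_fst, e])
      (by erw [Category.assoc, Category.assoc, pullback.lift_snd, h11 a b e]))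
    (fun a b e => pullback.hom_ext
      (by erw [Category.assoc, Category.assoc, pullback.lift_fst, pullback.lift_fst, e])
      (by erw [Category.assoc, Category.assoc, pullback.lift_snd, pullback.lift_snd, h12 a b e]))
    (fun a b e => by rw [(cancel_mono b₁.hom).1 e])
  refine ⟨ObjectProperty.homMk (σ ≫ pullback.snd v₁.hom v₂.hom), ⟨?_, ?_, ?_⟩, ?_⟩
  · refine ObjectProperty.hom_ext _ ?_
    show (σ ≫ pullback.snd v₁.hom v₂.hom) ≫ v₂.hom = v₁.hom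
    rw [Category.assoc, ← pullback.condition, reassoc_of% hσ₀]
  · refine ObjectProperty.hom_ext _ ?_
    show a₁.hom ≫ σ ≫ pullback.snd v₁.hom v₂.hom = m'.hom ≫ a₂.hom
    rw [reassoc_of% hσ₁, pullback.lift_snd]
  · refine ObjectProperty.hom_ext _ ?_
    show b₁.hom ≫ σ ≫ pullback.snd v₁.hom v₂.hom = n.hom ≫ b₂.hom
    rw [reassoc_of% hσ₂, pullback.lift_snd]
  rintro m ⟨hm₀, hm₁, hm₂⟩
  have f0 : m.hom ≫ v₂.hom = v₁.hom := congrArg (fun k => k.hom) hm₀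
  have f1 : a₁.hom ≫ m.hom = m'.hom ≫ a₂.hom := congrArg (fun k => k.hom) hm₁
  have f2 : b₁.hom ≫ m.hom = n.hom ≫ b₂.hom := congrArg (fun k => k.hom) hm₂
  refine ObjectProperty.hom_ext _ ?_
  rw [show σ = pullback.lift (𝟙 _) m.hom (by rw [Category.id_comp, f0]) from (huniq _
    ⟨pullback.lift_fst _ _ _,
      pullback.hom_ext
        (by erw [Category.assoc, pullback.lift_fst, pullback.lift_fst, Category.comp_id])
        (by erw [Category.assoc, pullback.lift_snd, pullback.lift_snd, f1]),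
      pullback.hom_ext
        (by erw [Category.assoc, pullback.lift_fst, pullback.lift_fst, Category.comp_id])
        (by erw [Category.assoc, pullback.lift_snd, pullback.lift_snd, f2])⟩).symm]
  exact (pullback.lift_snd _ _ _).symm

end Groth.Agent.S12192
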