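import Groth.Statements.S9966
import Groth.Agent.SpPts86.RedFactor

set_option autoImplicit false
universe u
open CategoryTheory CategoryTheory.Limits AlgebraicGeometry
open AlgSp

namespace Groth.Agent.S9966

/-- The scheme theoretic image of a morphism from a reduced algebraic space is the reduced induced
structure on the closure of its image. -/
theorem result {S : Scheme.{u}} {X Y Z : AlgSp.Space S} (f : X ⟶ Y) (i : Z ⟶ Y)
    (hX : AlgSp.IsReducedSp X.obj) (hZ : AlgSp.IsSchImage f.hom i.hom) :
    AlgSp.IsRedInduced (closure (Set.range (AlgSp.Points.map f.hom))) i.hom := by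
  obtain ⟨hi, ⟨f', hf'⟩, hmin⟩ := hZ
  obtain ⟨Z₀, i₀, hZ₀, hi₀, hr₀, hred⟩ :=
    SpFP87.exists_isRedInduced Y.property (closure (Set.range (AlgSp.Points.map f.hom))) isClosed_closure
  obtain ⟨k, hk⟩ := hmin i₀ hZ₀ hi₀
    (SpPts86.exists_factor_of_reduced X.property hX hi₀ f.hom (hr₀.symm ▸ subset_closure))
  have hclosed := (SpFP87.isClosedEmbedding_map_of_closedImmersion Y.property hi).isClosed_range
  have hr : Set.range (AlgSp.Points.map i.hom) = closure (Set.range (AlgSp.Points.map f.hom)) := by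
    refine le_antisymm ?_ (closure_minimal ?_ hclosed)
    · rintro _ ⟨z, rfl⟩
      rw [← hr₀, ← hk, AlgSp.Points.map_comp]
      exact ⟨_, rfl⟩
    · rintro _ ⟨x, rfl⟩
      rw [← hf', AlgSp.Points.map_comp]
      exact ⟨_, rfl⟩
  obtain ⟨m, hm⟩ := SpPts86.exists_factor_of_reduced hZ₀ hred hi i₀ (by rw [hr₀, hr])
  have := SpPts86.mono_of_repWith_le (P := @IsClosedImmersion)
    (fun _ _ g (hg : IsClosedImmersion g) => inferInstanceAs (Mono g)) hi
  have := SpPts86.mono_of_repWith_le (P := @IsClosedImmersion)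
    (fun _ _ g (hg : IsClosedImmersion g) => inferInstanceAs (Mono g)) hi₀
  have : IsIso m := ⟨k, by rw [← cancel_mono i₀, Category.assoc, hk, hm, Category.id_comp],
    by rw [← cancel_mono i.hom, Category.assoc, hm, hk, Category.id_comp]⟩
  obtain ⟨U, a, ha, has, hU⟩ := hred
  exact ⟨hi, hr, U, a ≫ m,
    (AlgSp.repWith_isMultiplicative (S := S) @Etale).comp_mem _ _ ha (MorphismProperty.of_isIso (AlgSp.RepWith @Etale) m),
    (AlgSp.repWith_isMultiplicative (S := S) @Surjective).comp_mem _ _ has (MorphismProperty.of_isIso (AlgSp.RepWith @Surjective) m),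
    hU⟩

end Groth.Agent.S9966
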