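import Groth.Statements.S12193
import Groth.Agent.S9966
import Groth.Agent.SpPts86.EtaleMor

set_option autoImplicit false
universe u
open CategoryTheory CategoryTheory.Limits AlgebraicGeometry
open AlgSp

namespace Groth.Agent.S12193

/-- Let X be a reduced algebraic space over S, f : X → Y a morphism of algebraic spaces over S, and Z →
Y the scheme theoretic image of f. Then forming the scheme theoretic image commutes with etale base
change: for every etale morphism V → Y of algebraic spaces and cartesian squares X ×_Y V, Z ×_Y V,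
the closed subspace Z ×_Y V → V is the scheme theoretic image of X ×_Y V → V. -/
theorem result {S : Scheme.{u}} {X Y Z V XV ZV : AlgSp.Space S} (f : X ⟶ Y)
    (i : Z ⟶ Y) (hX : AlgSp.IsReducedSp X.obj) (hZ : AlgSp.IsSchImage f.hom i.hom) (b : V ⟶ Y)
    (hb : AlgSp.IsEtaleMor b.hom) (f₁ : XV ⟶ X) (fV : XV ⟶ V) (i₁ : ZV ⟶ Z) (iV : ZV ⟶ V)
    (sqX : IsPullback f₁.hom fV.hom f.hom b.hom) (sqZ : IsPullback i₁.hom iV.hom i.hom b.hom) :
    AlgSp.IsSchImage fV.hom iV.hom := by
  obtain ⟨hi, hr, hred⟩ := S9966.result f i hX hZ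
  have hsm : ∀ {A B : Sp S} {g : A ⟶ B}, IsEtaleMor g → LocP @Smooth g := fun h =>
    SpFP87.LocP.of_le (fun _ _ m (_ : Etale m) => (inferInstance : Smooth m)) (SpPts86.locP_etale_of_isEtaleMor h)
  have hi₁ : IsEtaleMor i₁.hom := SpPts86.isEtaleMor_baseChange sqZ.flip V.property Y.property Z.property hb
  have hf₁ : IsEtaleMor f₁.hom := SpPts86.isEtaleMor_baseChange sqX.flip V.property Y.property X.property hb
  have hZVr := SpFP87.isReducedSp_of_smooth i₁.hom ZV.property Z.property (hsm hi₁) hred
  have hXVr := SpFP87.isReducedSp_of_smooth f₁.hom XV.property X.property (hsm hf₁) hX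
  have hiV : RepWith @IsClosedImmersion iV.hom :=
    (repWith_isStableUnderBaseChange _).of_isPullback sqZ hi
  have hrange : ∀ {A P : Sp S} {p : P ⟶ A} {q : P ⟶ V.obj} {g : A ⟶ Y.obj}, IsPullback p q g b.hom →
      Set.range (Points.map q) = Points.map b.hom ⁻¹' Set.range (Points.map g) := by
    intro A P p q g sq
    ext v
    constructor
    · rintro ⟨z, rfl⟩
      exact ⟨Points.map p z, by rw [← Points.map_comp, sq.w, Points.map_comp]⟩
    · rintro ⟨a, ha⟩
      obtain ⟨z, -, hz⟩ := SpPts86.exists_of_isPullback sq a v ha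
      exact ⟨z, hz⟩
  have hopen : IsOpenMap (Points.map b.hom) := SpPts86.isOpenMap_of_isEtaleMor V.property hb
  have hR : Set.range (Points.map iV.hom) = closure (Set.range (Points.map fV.hom)) := by
    rw [hrange sqZ, hr, hrange sqX,
      hopen.preimage_closure_eq_closure_preimage (Points.continuous_map b.hom)]
  refine ⟨hiV, SpPts86.exists_factor_of_reduced XV.property hXVr hiV fV.hom (hR.symm ▸ subset_closure),
    fun Z' i' hZ' hi' ⟨f'', hf''⟩ => SpPts86.exists_factor_of_reduced ZV.property hZVr hi' iV.hom ?_⟩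
  rw [hR]
  refine closure_minimal ?_ (SpFP87.isClosedEmbedding_map_of_closedImmersion V.property hi').isClosed_range
  rintro _ ⟨x, rfl⟩
  exact ⟨Points.map f'' x, by rw [← Points.map_comp, hf'']⟩

end Groth.Agent.S12193
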