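import Groth.Statements.S12195
import Groth.Agent.SpFP87.InfLocal
open scoped TensorProduct

set_option autoImplicit false
universe u
open CategoryTheory CategoryTheory.Limits AlgebraicGeometry
open AlgSp

namespace Groth.Agent.S12195

/-- Let a : F ⟶ G be a representable, surjective and etale morphism of fppf sheaves on (Sch/S) and b : G
⟶ H a morphism such that a ≫ b is formally smooth. Consider a solid infinitesimal lifting square for
b: a square-zero thickening T = Spec (A/I) ⊂ T' = Spec A of affine schemes over S, a morphism T ⟶ G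
and a morphism T' ⟶ H making the square commute. Then for every point t of T' there exist an affine
scheme U', an etale morphism U' ⟶ T' whose image contains t, and a morphism U' ⟶ G lying over T' ⟶ H
whose restriction to T ×_{T'} U' agrees with the given T ⟶ G (stated for every scheme V mapping
compatibly to T and U'). (The published statement is for transformations of arbitrary presheaves of
sets on (Sch/S)_fppf; this row takes fppf sheaves, the case of algebraic spaces.) -/
theorem result {S : Scheme.{u}} {F G H : AlgSp.Sp S} (a : F ⟶ G)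
    (b : G ⟶ H) (ha : AlgSp.RepWith @Etale a) (ha' : AlgSp.RepWith @Surjective a)
    (hab : AlgSp.IsFormallySmoothMor (a ≫ b)) (sq : AlgSp.InfSq b) (t : ↥sq.ptT'.left) :
    ∃ (U' : Over S) (g : U' ⟶ sq.ptT') (l : (AlgSp.yon S).obj U' ⟶ G),
      IsAffine U'.left ∧ Etale g.left ∧ (∃ u : ↥U'.left, g.left u = t) ∧
        l ≫ b = (AlgSp.yon S).map g ≫ sq.bot ∧
          ∀ (V : Over S) (p : V ⟶ sq.ptT) (q : V ⟶ U'), p ≫ sq.j = q ≫ g →
            (AlgSp.yon S).map q ≫ l = (AlgSp.yon S).map p ≫ sq.top := by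
  classical
  obtain ⟨B, _, φ₀, m, hφ₀, hs₀, hm⟩ := Groth.Agent.SpFP87.exists_spec_lift a ha ha' sq.ptT.hom sq.top
  let _ : Algebra (sq.A ⧸ sq.I) B := φ₀.toAlgebra
  let _ : Algebra sq.A B := (φ₀.comp (Ideal.Quotient.mk sq.I)).toAlgebra
  have : IsScalarTower sq.A (sq.A ⧸ sq.I) B := IsScalarTower.of_algebraMap_eq fun _ => rfl
  have : Algebra.Etale (sq.A ⧸ sq.I) B := hφ₀
  have : Algebra.IsStandardSmoothOfRelativeDimension 0 (sq.A ⧸ sq.I) B :=
    Algebra.Etale.iff_isStandardSmoothOfRelativeDimension_zero.1 inferInstance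
  obtain ⟨C, _, _, g, hC, hg, hker⟩ := Groth.Agent.SpFP87.exists_lift_standardSmooth (P := sq.A) (A := sq.A ⧸ sq.I) (B := B)
    Ideal.Quotient.mk_surjective
  let φ := algebraMap sq.A C
  have hker' : RingHom.ker g.toRingHom = sq.I.map φ := by
    rw [hker]
    exact congrArg (Ideal.map φ) Ideal.mk_ker
  have hφ : φ.Etale := RingHom.etale_algebraMap.2 hC
  have hs : Function.Surjective (PrimeSpectrum.comap φ) := fun p => by
    have hIp : sq.I ≤ p.asIdeal := fun x hx =>
      p.2.mem_of_pow_mem 2 (by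
        have : x ^ 2 ∈ sq.I ^ 2 := Ideal.pow_mem_pow hx 2
        rw [sq.sq_zero, Ideal.mem_bot] at this
        rw [this]; exact zero_mem _)
    obtain ⟨p₀, hp₀⟩ : p ∈ Set.range (PrimeSpectrum.comap (Ideal.Quotient.mk sq.I)) := by
      rw [range_comap_of_surjective _ _ Ideal.Quotient.mk_surjective, Ideal.mk_ker]
      exact hIp
    obtain ⟨q, hq⟩ := hs₀ p₀
    refine ⟨PrimeSpectrum.comap g.toRingHom q, ?_⟩
    rw [← hp₀, ← hq, ← PrimeSpectrum.comap_comp_apply, ← PrimeSpectrum.comap_comp_apply]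
    exact congrArg (fun r => PrimeSpectrum.comap r q) (g.comp_algebraMap)
  let sqC := Groth.Agent.SpFP87.infSqPull sq φ
  let ρ : B →+* C ⧸ sq.I.map φ :=
    (((Ideal.quotEquivOfEq hker'.symm).trans
      (RingHom.quotientKerEquivOfSurjective (f := g.toRingHom) hg)).symm).toRingHom
  have hρ : ρ.comp φ₀ = Ideal.quotientMap (sq.I.map φ) φ Ideal.le_comap_map := by
    apply Ideal.Quotient.ringHom_ext
    ext x
    change ((Ideal.quotEquivOfEq hker'.symm).trans
      (RingHom.quotientKerEquivOfSurjective (f := g.toRingHom) hg)).symm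
      (φ₀ (Ideal.Quotient.mk sq.I x)) = Ideal.Quotient.mk _ (φ x)
    rw [RingEquiv.symm_apply_eq]
    exact (g.commutes x).symm
  let r : sqC.ptT ⟶ (Over.mk (Spec.map (CommRingCat.ofHom φ₀) ≫ sq.ptT.hom) : Over S) :=
    Over.homMk (Spec.map (CommRingCat.ofHom ρ))
      ((congrArg (_ ≫ ·) ((Category.assoc _ _ _).symm.trans
        (congrArg (· ≫ sq.str) (Groth.Agent.SpFP87.specMap_comp' rfl)))).trans (Groth.Agent.SpFP87.specMap_square
          (show (ρ.comp (φ₀.comp (Ideal.Quotient.mk sq.I))) = (Ideal.Quotient.mk (sq.I.map φ)).comp φ by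
            rw [← RingHom.comp_assoc, hρ]; exact Ideal.quotientMap_comp_mk _) sq.str))
  have hr : r ≫ Groth.Agent.SpFP87.specChg φ₀ sq.ptT.hom = Groth.Agent.SpFP87.specQuotChg φ sq.I sq.str := by
    ext : 1
    exact Groth.Agent.SpFP87.specMap_comp' hρ
  have htop : ((yon S).map r ≫ m) ≫ a = sqC.top :=
    (Category.assoc _ _ _).trans ((congrArg (_ ≫ ·) hm).trans ((Category.assoc _ _ _).symm.trans
      ((congrArg (· ≫ sq.top) ((yon S).map_comp _ _).symm).trans
        (congrArg (fun k => (yon S).map k ≫ sq.top) hr))))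
  obtain ⟨n, hn1, hn2⟩ := hab
    { A := C, I := sqC.I, sq_zero := sqC.sq_zero, str := sqC.str, top := (yon S).map r ≫ m,
      bot := sqC.bot,
      comm := (Category.assoc _ _ _).symm.trans ((congrArg (· ≫ b) htop).trans sqC.comm) }
  have he1 : (yon S).map sqC.j ≫ n ≫ a = sqC.top :=
    (Category.assoc _ _ _).symm.trans ((congrArg (· ≫ a) hn1).trans htop)
  have he2 : (n ≫ a) ≫ b = sqC.bot := (Category.assoc _ _ _).trans hn2
  obtain ⟨u, hu⟩ := hs t
  refine ⟨sqC.ptT', Groth.Agent.SpFP87.specChg φ sq.str, n ≫ a, inferInstanceAs (IsAffine (Spec (.of C))),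
    (HasRingHomProperty.Spec_iff (P := @Etale.{u})).2 hφ, ⟨u, hu⟩, he2, fun V p q hpq => ?_⟩
  obtain ⟨σ, hσ1, hσ2⟩ : ∃ σ : V ⟶ sqC.ptT, σ ≫ sqC.j = q ∧
      σ ≫ Groth.Agent.SpFP87.specQuotChg φ sq.I sq.str = p := by
    -- the ring map of q kills I C
    let ψ : C →+* Γ(V.left, ⊤) := (ΓSpec.adjunction.homEquiv V.left (Opposite.op (CommRingCat.of C))).symm q.left |>.unop.hom
    let χ : sq.A ⧸ sq.I →+* Γ(V.left, ⊤) := (ΓSpec.adjunction.homEquiv V.left (Opposite.op (CommRingCat.of (sq.A ⧸ sq.I)))).symm p.left |>.unop.hom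
    have hψ : V.left.toSpecΓ ≫ Spec.map (CommRingCat.ofHom ψ) = q.left :=
      (ΓSpec.adjunction.homEquiv V.left (Opposite.op (CommRingCat.of C))).apply_symm_apply q.left
    have hχ : V.left.toSpecΓ ≫ Spec.map (CommRingCat.ofHom χ) = p.left :=
      (ΓSpec.adjunction.homEquiv V.left (Opposite.op (CommRingCat.of (sq.A ⧸ sq.I)))).apply_symm_apply p.left
    have heq : ψ.comp φ = χ.comp (Ideal.Quotient.mk sq.I) := by
      have h1 : V.left.toSpecΓ ≫ Spec.map (CommRingCat.ofHom (ψ.comp φ)) =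
          V.left.toSpecΓ ≫ Spec.map (CommRingCat.ofHom (χ.comp (Ideal.Quotient.mk sq.I))) := by
        rw [CommRingCat.ofHom_comp, CommRingCat.ofHom_comp, Spec.map_comp, Spec.map_comp,
          reassoc_of% hψ, reassoc_of% hχ]
        exact (congrArg CommaMorphism.left hpq).symm
      have h2 := congrArg (ΓSpec.adjunction.homEquiv V.left (Opposite.op (CommRingCat.of sq.A))).symm h1
      have h3 : ∀ (k : sq.A →+* Γ(V.left, ⊤)), (ΓSpec.adjunction.homEquiv V.left (Opposite.op (CommRingCat.of sq.A))).symm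
          (V.left.toSpecΓ ≫ Spec.map (CommRingCat.ofHom k)) = (CommRingCat.ofHom k).op := fun k =>
        (ΓSpec.adjunction.homEquiv V.left (Opposite.op (CommRingCat.of sq.A))).symm_apply_apply (CommRingCat.ofHom k).op
      rw [h3, h3] at h2
      exact congrArg CommRingCat.Hom.hom (Quiver.Hom.op_inj h2)
    have hI : sq.I.map φ ≤ RingHom.ker ψ := by
      rw [Ideal.map_le_iff_le_comap]
      intro x hx
      change ψ (φ x) = 0
      rw [← RingHom.comp_apply, heq, RingHom.comp_apply, Ideal.Quotient.eq_zero_iff_mem.2 hx, map_zero]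
    let ψ' : C ⧸ sq.I.map φ →+* Γ(V.left, ⊤) := Ideal.Quotient.lift _ ψ hI
    have hσ : (V.left.toSpecΓ ≫ Spec.map (CommRingCat.ofHom ψ')) ≫ Spec.map (CommRingCat.ofHom (Ideal.Quotient.mk (sq.I.map φ))) = q.left := by
      rw [Category.assoc, ← Spec.map_comp, ← CommRingCat.ofHom_comp]
      exact hψ
    refine ⟨Over.homMk (V.left.toSpecΓ ≫ Spec.map (CommRingCat.ofHom ψ')) ?_, ?_, ?_⟩
    · exact (Category.assoc _ _ _).symm.trans ((congrArg (· ≫ _) hσ).trans (Over.w q))
    · ext : 1
      exact hσ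
    · ext : 1
      change (V.left.toSpecΓ ≫ Spec.map (CommRingCat.ofHom ψ')) ≫ Spec.map (CommRingCat.ofHom _) = p.left
      rw [Category.assoc, ← Spec.map_comp, ← CommRingCat.ofHom_comp]
      refine Eq.trans ?_ hχ
      congr 3
      apply Ideal.Quotient.ringHom_ext
      exact heq
  subst hσ1 hσ2
  exact ((congrArg (· ≫ n ≫ a) ((yon S).map_comp σ sqC.j)).trans
    ((Category.assoc _ _ _).trans ((congrArg (_ ≫ ·) he1).trans
      ((Category.assoc _ _ _).symm.trans
        (congrArg (· ≫ sq.top) ((yon S).map_comp σ (Groth.Agent.SpFP87.specQuotChg φ sq.I sq.str)).symm)))))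

end Groth.Agent.S12195
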