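import Groth.Statements.S1220
import Groth.Agent.FlatCrit65.Purity.ProjOpen

set_option autoImplicit false
universe u
open FlatMor

namespace Groth.Agent.S1220

/-- Ring form, X = Spec B affine: let B be a finitely presented A-algebra and N a finitely presented
B-module flat over A. Then the set of points p of Spec A such that N is pure along the fibre over p
is open. -/
theorem result {A B : Type u} [CommRing A] [CommRing B] [Algebra A B] [Algebra.FinitePresentation A B]
    (N : Type u) [AddCommGroup N] [Module B N] [Module A N] [IsScalarTower A B N] [Module.FinitePresentation B N] [Module.Flat A N] :
    IsOpen {p : PrimeSpectrum A | FlatCA.IsPureAlong A B N p.asIdeal} := by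
  exact Groth.Agent.FlatCrit65.Purity.isOpen_pureLocus N

end Groth.Agent.S1220
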