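import Groth.Statements.S12202
import Groth.Agent.Grpd80.SplitNbhd

set_option autoImplicit false
universe u
open CategoryTheory CategoryTheory.Limits AlgebraicGeometry
open Grpd

namespace Groth.Agent.S12202

/-- Let (U, R, s, t, c) be a groupoid scheme over S with U affine and s, t separated, flat and locally
of finite presentation, and let u ∈ U be a point such that s is quasi-finite at e(u). Then there
exist an etale morphism U' → U with U' affine and a point u' of U' lying over u with trivial residue
field extension κ(u) = κ(u'), such that the restriction R' of R to U' (the groupoid scheme on U'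
whose arrows form the base change of j = (t, s) : R → U ×_S U along U' ×_S U' → U ×_S U) is
quasi-split over u': there is an open subscheme P ⊂ R' which is a subgroupoid (the identity of U',
the inverse of P and the composition of composable pairs of P land in P) with s'|_P and t'|_P finite
(then e'(u') ∈ P automatically). -/
theorem result (S : Scheme.{u}) (G : Grpd.GroupoidScheme S) [IsAffine G.U]
    [IsSeparated G.s] [IsSeparated G.t] [Flat G.s] [Flat G.t]
    [LocallyOfFinitePresentation G.s] [LocallyOfFinitePresentation G.t]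
    (u : ↥G.U) (hqf : Dual3.QuasiFiniteAt G.s (G.e u)) :
    ∃ (G' : Grpd.GroupoidScheme S) (φ : Grpd.GroupoidScheme.Hom G' G) (u' : ↥G'.U),
      IsAffine G'.U ∧ Etale φ.fU ∧ φ.fU u' = u ∧ IsIso (φ.fU.residueFieldMap u') ∧
      IsPullback φ.fR G'.j G.j
        (pullback.map G'.pU G'.pU G.pU G.pU φ.fU φ.fU (𝟙 S)
          ((Category.comp_id _).trans φ.fU_over.symm) ((Category.comp_id _).trans φ.fU_over.symm)) ∧
      ∃ (P : Scheme.{u}) (ιP : P ⟶ G'.R), IsOpenImmersion ιP ∧
        (∃ eP : G'.U ⟶ P, eP ≫ ιP = G'.e) ∧ (∃ iP : P ⟶ P, iP ≫ ιP = ιP ≫ G'.i) ∧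
        (∃ cP : pullback (ιP ≫ G'.s) (ιP ≫ G'.t) ⟶ P,
          cP ≫ ιP = pullback.map (ιP ≫ G'.s) (ιP ≫ G'.t) G'.s G'.t ιP ιP (𝟙 G'.U)
            (Category.comp_id _) (Category.comp_id _) ≫ G'.c) ∧
        IsFinite (ιP ≫ G'.s) ∧ IsFinite (ιP ≫ G'.t) := by
  have hes : G.s (G.e u) = u := by rw [← Scheme.Hom.comp_apply, G.e_s]; rfl
  have het : G.t (G.e u) = u := by rw [← Scheme.Hom.comp_apply, G.e_t]; rfl
  have hiso : IsIso (G.t.residueFieldMap (G.e u)) := by
    have h : IsIso ((G.e ≫ G.t).residueFieldMap u) := by rw [G.e_t]; infer_instance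
    rw [Scheme.residueFieldMap_comp] at h
    have hb := @ConcreteCategory.bijective_of_isIso _ _ _ _ _ _ _ _
      (G.t.residueFieldMap (G.e u) ≫ G.e.residueFieldMap u) h
    rw [ConcreteCategory.isIso_iff_bijective]
    refine ⟨RingHom.injective _, fun y => ?_⟩
    obtain ⟨c, hc⟩ := hb.2 (G.e.residueFieldMap u y)
    exact ⟨c, (G.e.residueFieldMap u).hom.injective hc⟩
  obtain ⟨G', φ, u', h1, h2, h3, h4, h5, P, ιP, h6, h7, h8, h9, h10, h11, -⟩ :=
    Groth.Agent.Grpd80.exists_split_nbhd u {G.e u} (Set.finite_singleton _)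
      (fun r hr => by rw [Set.mem_singleton_iff] at hr; rw [hr, hes])
      (fun r hr => by rw [Set.mem_singleton_iff] at hr; rw [hr, het])
      (Set.mem_singleton _)
      (fun z hz => by
        rw [Set.mem_singleton_iff] at hz
        let σ : G.R ⟶ pullback G.s G.t := pullback.lift (𝟙 G.R) (G.s ≫ G.e)
          (by rw [Category.id_comp, Category.assoc, G.e_t, Category.comp_id])
        have hσc : σ ≫ G.c = 𝟙 G.R := by
          have h := G.comp_e (𝟙 G.R)
          simpa [σ] using h
        let x := pullback.fst G.s G.t z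
        have hf : pullback.fst G.s G.t (σ x) = x := by
          rw [← Scheme.Hom.comp_apply, pullback.lift_fst]; rfl
        have hsx : G.s x = u := by
          rw [← Scheme.Hom.comp_apply, pullback.condition, Scheme.Hom.comp_apply, hz, het]
        have hsn : pullback.snd G.s G.t (σ x) = G.e u := by
          rw [← Scheme.Hom.comp_apply, pullback.lift_snd, Scheme.Hom.comp_apply, hsx]
        have : IsIso (G.t.residueFieldMap (pullback.snd G.s G.t (σ x))) := by rw [hsn]; exact hiso
        have hz' : σ x = z := Groth.Agent.Unr55.pullback_eq_of_fst_eq_of_snd_eq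
          (IsPullback.of_hasPullback G.s G.t) _ _ hf (hsn.trans hz.symm)
        have hc : G.c z = x := by
          rw [← hz', ← Scheme.Hom.comp_apply, hσc]; rfl
        rw [hc])
      (fun r hr => by rw [Set.mem_singleton_iff] at hr; rw [hr]; exact hqf)
  exact ⟨G', φ, u', h1, h2, h3, h4, h5, P, ιP, h6, h7, h8, h9, h10, h11⟩

end Groth.Agent.S12202
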