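import Groth.Statements.S12205
import Groth.Agent.TorMod7.Basic
import Mathlib.LinearAlgebra.TensorProduct.Tower
import Mathlib.Algebra.Module.Torsion.Basic

set_option autoImplicit false
universe u
open CategoryTheory
open scoped TensorProduct
open CAlg

namespace Groth.Agent.S12205

open TensorProduct

theorem injective_of_cover {R : Type u} [CommRing R] (I : Ideal R) {M F K : Type u} [AddCommGroup M]
    [Module R M] [AddCommGroup F] [Module R F] [AddCommGroup K] [Module R K]
    [Module.Flat (R ⧸ I) ((R ⧸ I) ⊗[R] M)] (j : K →ₗ[R] F) (p : F →ₗ[R] M)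
    (hjp : Function.Exact j p) (hp : Function.Surjective p)
    (N : Type u) [AddCommGroup N] [Module R N] (G : Type u) [AddCommGroup G] [Module R G]
    (π : G →ₗ[R] N) (hπ : Function.Surjective π) (hG : ∀ a ∈ I, ∀ x : G, a • x = 0)
    (hinjG : Function.Injective (j.lTensor G)) :
    Function.Injective (j.lTensor N) := by
  let Q : Submodule R G := LinearMap.ker π
  have hQt : Module.IsTorsionBySet R Q (I : Set R) := fun x a => Subtype.ext (hG a a.2 x.1)
  have hGt : Module.IsTorsionBySet R G (I : Set R) := fun x a => hG a a.2 x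
  letI : Module (R ⧸ I) Q := Module.IsTorsionBySet.module (R := R) (M := ↥Q) (I := I) hQt
  letI : Module (R ⧸ I) G := Module.IsTorsionBySet.module (R := R) (M := G) (I := I) hGt
  haveI : IsScalarTower R (R ⧸ I) Q := hQt.isScalarTower
  haveI : IsScalarTower R (R ⧸ I) G := hGt.isScalarTower
  have hQM : Function.Injective (Q.subtype.rTensor M) := by
    let i : Q →ₗ[R ⧸ I] G :=
      LinearMap.extendScalarsOfSurjective Ideal.Quotient.mk_surjective Q.subtype
    have hi : Function.Injective (i.rTensor ((R ⧸ I) ⊗[R] M)) :=
      Module.Flat.rTensor_preserves_injective_linearMap i Q.injective_subtype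
    let eQ := TensorProduct.AlgebraTensorModule.cancelBaseChange R (R ⧸ I) (R ⧸ I) Q M
    let eG := TensorProduct.AlgebraTensorModule.cancelBaseChange R (R ⧸ I) (R ⧸ I) G M
    have key : ∀ z, eG (i.rTensor ((R ⧸ I) ⊗[R] M) z) = Q.subtype.rTensor M (eQ z) := by
      intro z
      induction z using TensorProduct.induction_on with
      | zero => simp
      | add x y hx hy => simp only [map_add, hx, hy]
      | tmul q w =>
        induction w using TensorProduct.induction_on with
        | zero => simp
        | add x y hx hy => simp only [TensorProduct.tmul_add, map_add, hx, hy]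
        | tmul r m =>
          simp only [eQ, eG, LinearMap.rTensor_tmul,
            TensorProduct.AlgebraTensorModule.cancelBaseChange_tmul]
          rw [← map_smul]
          rfl
    intro x y hxy
    apply eQ.symm.injective
    apply hi
    apply eG.injective
    rw [key, key, LinearEquiv.apply_symm_apply, LinearEquiv.apply_symm_apply, hxy]
  have hQπ : Function.Exact Q.subtype π := LinearMap.exact_subtype_ker_map π
  rw [injective_iff_map_eq_zero]
  intro x hx
  obtain ⟨y, rfl⟩ := LinearMap.rTensor_surjective K hπ x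
  have h2 : π.rTensor F (j.lTensor G y) = 0 := by
    rw [← hx, ← LinearMap.comp_apply, ← LinearMap.comp_apply, LinearMap.rTensor_comp_lTensor,
      LinearMap.lTensor_comp_rTensor]
  obtain ⟨q, hq⟩ := ((rTensor_exact F hQπ hπ) _).1 h2
  have h3 : Q.subtype.rTensor M (p.lTensor Q q) = 0 := by
    have e1 : Q.subtype.rTensor M (p.lTensor Q q) = p.lTensor G (Q.subtype.rTensor F q) := by
      rw [← LinearMap.comp_apply, ← LinearMap.comp_apply, LinearMap.rTensor_comp_lTensor,
        LinearMap.lTensor_comp_rTensor]
    rw [e1, hq, ← LinearMap.comp_apply, ← LinearMap.lTensor_comp, hjp.linearMap_comp_eq_zero,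
      LinearMap.lTensor_zero, LinearMap.zero_apply]
  obtain ⟨q', rfl⟩ := ((lTensor_exact Q hjp hp) q).1
    ((injective_iff_map_eq_zero _).1 hQM _ h3)
  have h4 : Q.subtype.rTensor K q' = y := hinjG (by
    rw [← hq, ← LinearMap.comp_apply, ← LinearMap.comp_apply, LinearMap.lTensor_comp_rTensor,
      LinearMap.rTensor_comp_lTensor])
  rw [← h4, ← LinearMap.comp_apply, ← LinearMap.rTensor_comp, hQπ.linearMap_comp_eq_zero,
    LinearMap.rTensor_zero, LinearMap.zero_apply]

theorem injective_of_killed {R : Type u} [CommRing R] (I : Ideal R) {M F K : Type u} [AddCommGroup M]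
    [Module R M] [AddCommGroup F] [Module R F] [AddCommGroup K] [Module R K]
    [Module.Flat (R ⧸ I) ((R ⧸ I) ⊗[R] M)] (j : K →ₗ[R] F) (p : F →ₗ[R] M)
    (hjp : Function.Exact j p) (hp : Function.Surjective p)
    (hI : Function.Injective (j.lTensor (R ⧸ I)))
    (N : Type u) [AddCommGroup N] [Module R N] (hN : ∀ a ∈ I, ∀ x : N, a • x = 0) :
    Function.Injective (j.lTensor N) := by
  let φ : (N →₀ R) →ₗ[R] N := Finsupp.linearCombination R id
  have hφ : ∀ (f : N →₀ R), I ≤ LinearMap.ker (LinearMap.toSpanSingleton R N (φ f)) :=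
    fun f a ha => by rw [LinearMap.mem_ker, LinearMap.toSpanSingleton_apply]; exact hN a ha _
  let b : (N →₀ R) →ₗ[R] (R ⧸ I) →ₗ[R] N :=
    { toFun := fun f => Submodule.liftQ I (LinearMap.toSpanSingleton R N (φ f)) (hφ f)
      map_add' := fun f g => by
        refine Submodule.linearMap_qext _ (LinearMap.ext_ring ?_)
        show (1 : R) • φ (f + g) = (1 : R) • φ f + (1 : R) • φ g
        rw [map_add, smul_add]
      map_smul' := fun r f => by
        refine Submodule.linearMap_qext _ (LinearMap.ext_ring ?_)
        show (1 : R) • φ (r • f) = r • ((1 : R) • φ f)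
        rw [map_smul, one_smul, one_smul] }
  let π : ((N →₀ R) ⊗[R] (R ⧸ I)) →ₗ[R] N := TensorProduct.lift b
  have hπ : Function.Surjective π := fun n => ⟨Finsupp.single n 1 ⊗ₜ Submodule.Quotient.mk 1, by
    show (1 : R) • φ (Finsupp.single n 1) = n
    simp [φ]⟩
  have hG : ∀ a ∈ I, ∀ x : (N →₀ R) ⊗[R] (R ⧸ I), a • x = 0 := by
    intro a ha x
    induction x using TensorProduct.induction_on with
    | zero => simp
    | add x y hx hy => rw [smul_add, hx, hy, add_zero]
    | tmul f r =>
      rw [← TensorProduct.tmul_smul]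
      obtain ⟨r, rfl⟩ := Submodule.Quotient.mk_surjective _ r
      rw [← Submodule.Quotient.mk_smul, smul_eq_mul, (Submodule.Quotient.mk_eq_zero I).2
        (I.mul_mem_right r ha), TensorProduct.tmul_zero]
  -- injectivity for G
  have hinjG : Function.Injective (j.lTensor ((N →₀ R) ⊗[R] (R ⧸ I))) := by
    have h1 : Function.Injective ((j.lTensor (R ⧸ I)).lTensor (N →₀ R)) :=
      Module.Flat.lTensor_preserves_injective_linearMap _ hI
    have key : ∀ z, TensorProduct.assoc R (N →₀ R) (R ⧸ I) F (j.lTensor ((N →₀ R) ⊗[R] (R ⧸ I)) z) =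
        (j.lTensor (R ⧸ I)).lTensor (N →₀ R) (TensorProduct.assoc R (N →₀ R) (R ⧸ I) K z) := by
      intro z
      induction z using TensorProduct.induction_on with
      | zero => simp
      | add x y hx hy => simp only [map_add, hx, hy]
      | tmul g k =>
        induction g using TensorProduct.induction_on with
        | zero => simp
        | add x y hx hy => simp only [TensorProduct.add_tmul, map_add, hx, hy]
        | tmul f r => rfl
    intro x y hxy
    apply (TensorProduct.assoc R (N →₀ R) (R ⧸ I) K).injective
    apply h1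
    rw [← key, ← key, hxy]
  exact injective_of_cover I j p hjp hp N ((N →₀ R) ⊗[R] (R ⧸ I)) π hπ hG hinjG

theorem injective_of_killed_pow {R : Type u} [CommRing R] (I : Ideal R) {M F K : Type u}
    [AddCommGroup M] [Module R M] [AddCommGroup F] [Module R F] [Module.Flat R F] [AddCommGroup K]
    [Module R K] [Module.Flat (R ⧸ I) ((R ⧸ I) ⊗[R] M)] (j : K →ₗ[R] F) (p : F →ₗ[R] M)
    (hjp : Function.Exact j p) (hp : Function.Surjective p)
    (hI : Function.Injective (j.lTensor (R ⧸ I))) (m : ℕ) :
    ∀ (N : Type u) [AddCommGroup N] [Module R N], (∀ a ∈ I ^ m, ∀ x : N, a • x = 0) →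
      Function.Injective (j.lTensor N) := by
  induction m with
  | zero =>
    intro N _ _ hN
    have hN0 : ∀ x : N, x = 0 := fun x => by
      have := hN 1 (by simp) x
      rwa [one_smul] at this
    have : Subsingleton N := ⟨fun a b => (hN0 a).trans (hN0 b).symm⟩
    have : Subsingleton (N ⊗[R] K) :=
      ⟨fun a b => by
        have h0 : ∀ c : N ⊗[R] K, c = 0 := fun c => by
          induction c using TensorProduct.induction_on with
          | zero => rfl
          | add x y hx hy => rw [hx, hy, add_zero]
          | tmul n k => rw [hN0 n, TensorProduct.zero_tmul]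
        rw [h0 a, h0 b]⟩
    exact fun a b _ => Subsingleton.elim a b
  | succ m ih =>
    intro N _ _ hN
    let N' : Submodule R N := I • ⊤
    have hN' : ∀ a ∈ I ^ m, ∀ x : N', a • x = 0 := fun a ha x => by
      apply Subtype.ext
      show a • (x : N) = 0
      refine Submodule.smul_induction_on x.2 (fun r hr n _ => ?_) (fun u v hu hv => ?_)
      · show a • r • n = 0
        rw [smul_smul]
        exact hN _ (pow_succ I m ▸ Ideal.mul_mem_mul ha hr) n
      · show a • (u + v) = 0
        rw [smul_add, show a • u = 0 from hu, show a • v = 0 from hv, add_zero]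
    have hN'' : ∀ a ∈ I, ∀ x : N ⧸ N', a • x = 0 := fun a ha x => by
      obtain ⟨x, rfl⟩ := Submodule.Quotient.mk_surjective _ x
      rw [← Submodule.Quotient.mk_smul, Submodule.Quotient.mk_eq_zero]
      exact Submodule.smul_mem_smul ha trivial
    rw [injective_iff_map_eq_zero]
    intro x hx
    have h1 : N'.mkQ.rTensor K x = 0 := by
      refine (injective_iff_map_eq_zero _).1 (injective_of_killed I j p hjp hp hI _ hN'') _ ?_
      rw [← LinearMap.comp_apply, LinearMap.lTensor_comp_rTensor, ← LinearMap.rTensor_comp_lTensor,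
        LinearMap.comp_apply, hx, map_zero]
    obtain ⟨y, rfl⟩ := ((rTensor_exact K (LinearMap.exact_subtype_mkQ N') N'.mkQ_surjective) x).1 h1
    have h2 : j.lTensor N' y = 0 := by
      refine (injective_iff_map_eq_zero _).1
        (Module.Flat.rTensor_preserves_injective_linearMap N'.subtype N'.injective_subtype) _ ?_
      rw [← LinearMap.comp_apply, LinearMap.rTensor_comp_lTensor, ← LinearMap.lTensor_comp_rTensor,
        LinearMap.comp_apply, hx]
    rw [(injective_iff_map_eq_zero _).1 (ih N' hN') y h2, map_zero]

/-- Let I be an ideal of a commutative ring R and M an R-module such that M/IM is flat over R/I and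
Tor_1^R(R/I, M) = 0. Then Tor_1^R(N, M) = 0 for every R-module N annihilated by I^m for some m ≥ 0.
Here Tor_1^R(N, M) is the first left derived functor of N ⊗_R − evaluated at M. -/
theorem result (R : Type u) [CommRing R] (I : Ideal R) (M : Type u)
    [AddCommGroup M] [Module R M] [Module.Flat (R ⧸ I) ((R ⧸ I) ⊗[R] M)]
    (h : Limits.IsZero (((CategoryTheory.Tor (ModuleCat.{u} R) 1).obj (ModuleCat.of R (R ⧸ I))).obj (ModuleCat.of R M)))
    (N : Type u) [AddCommGroup N] [Module R N] (m : ℕ) (hN : ∀ a : R, a ∈ I ^ m → ∀ x : N, a • x = 0) :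
    Limits.IsZero (((CategoryTheory.Tor (ModuleCat.{u} R) 1).obj (ModuleCat.of R N)).obj (ModuleCat.of R M)) := by
  obtain ⟨p, hp⟩ : ∃ p : (M →₀ R) →ₗ[R] M, Function.Surjective p :=
    ⟨Finsupp.linearCombination R id, Finsupp.linearCombination_id_surjective R M⟩
  have h' : Function.Injective ((LinearMap.ker p).subtype.lTensor (R ⧸ I)) :=
    (Groth.Agent.TorMod7.isZero_tor_one_iff_of_surjective (ModuleCat.of R (R ⧸ I)) p hp).1 h
  have hflat : Module.Flat R (M →₀ R) := inferInstance
  have hex : Function.Exact (LinearMap.ker p).subtype p := LinearMap.exact_subtype_ker_map p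
  refine (Groth.Agent.TorMod7.isZero_tor_one_iff_of_surjective (ModuleCat.of R N) p hp).2 ?_
  show Function.Injective ((LinearMap.ker p).subtype.lTensor N)
  have hfin := @injective_of_killed_pow R _ I M (M →₀ R) ↥(LinearMap.ker p) _ _ _ _ hflat _ _ _
    (LinearMap.ker p).subtype p hex hp h' m N _ _ hN
  exact hfin

end Groth.Agent.S12205
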