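import Groth.Statements.S12209
import Mathlib.RingTheory.Flat.EquationalCriterion
import Mathlib.Algebra.Colimit.Ring
import Mathlib.Data.Finset.Order

set_option autoImplicit false
universe u
open CAlg

namespace Groth.Agent.S12209

/-- Let (R_i) be a system of commutative rings over a nonempty directed preorder, with colimit R, and
let M be an R-module which is flat as an R_i-module for every i (the R_i-module structure being
restriction of scalars along R_i → R). Then M is flat as an R-module. -/
theorem result {ι : Type u} [Preorder ι] [Nonempty ι] [IsDirectedOrder ι]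
    (G : ι → Type u) [∀ i, CommRing (G i)] (f : ∀ i j, i ≤ j → G i →+* G j)
    [DirectedSystem G fun i j h => f i j h]
    (M : Type u) [AddCommGroup M] [Module (Ring.DirectLimit G fun i j h => f i j h) M]
    (hflat : ∀ i, letI : Module (G i) M := Module.compHom M (Ring.DirectLimit.of G (fun i j h => f i j h) i);
      Module.Flat (G i) M) :
    Module.Flat (Ring.DirectLimit G fun i j h => f i j h) M := by
  classical
  rw [Module.Flat.iff_forall_isTrivialRelation]
  intro l c x h
  choose i g hg using fun k => Ring.DirectLimit.exists_of (c k)
  obtain ⟨N, hN⟩ := Finset.exists_le (Finset.univ.image i)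
  let g' : Fin l → G N := fun k => f (i k) N (hN _ (Finset.mem_image_of_mem i (Finset.mem_univ k))) (g k)
  have hg' : ∀ k, Ring.DirectLimit.of G (fun i j h => f i j h) N (g' k) = c k := fun k => by
    rw [Ring.DirectLimit.of_f]; exact hg k
  letI : Module (G N) M := Module.compHom M (Ring.DirectLimit.of G (fun i j h => f i j h) N)
  haveI : Module.Flat (G N) M := hflat N
  have h' : ∑ k, g' k • x k = 0 := by
    show ∑ k, Ring.DirectLimit.of G (fun i j h => f i j h) N (g' k) • x k = 0
    simp only [hg', h]
  obtain ⟨n, a, y, hxy, hay⟩ := Module.Flat.isTrivialRelation_of_sum_smul_eq_zero h'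
  refine ⟨n, fun k j => Ring.DirectLimit.of G (fun i j h => f i j h) N (a k j), y, hxy, fun j => ?_⟩
  simp only [← hg', ← map_mul, ← map_sum, hay, map_zero]

end Groth.Agent.S12209
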