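import Groth.Statements.S12212
import Groth.Agent.Cohen12.SamuelAdd
import Groth.Agent.Len90.Multiplicity

set_option autoImplicit false
universe u
open IntMult

namespace Groth.Agent.S12212

/-- Suppose A is a local Noetherian ring with an ideal of definition I, take M to be a finite A-module,
and fix d with dim Supp(M) ≤ d. Then e_I(M, d) equals Σ_p length_{A_p}(M_p) · e_I(A/p, d), where p
ranges over the primes satisfying dim(A/p) = d (all but finitely many summands vanish); here e_I(N,
d) denotes the limit of d! · length_A(N/I^t N)/t^d, and the formal version says: assuming these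
limits e_p exist for the A-modules A/p, the limit attached to M is the sum shown. -/
theorem result (A : Type u) [CommRing A] [IsNoetherianRing A] [IsLocalRing A]
    (I : Ideal A) (hI : I ≤ IsLocalRing.maximalIdeal A ∧ ∃ n : ℕ, IsLocalRing.maximalIdeal A ^ n ≤ I)
    (M : Type u) [AddCommGroup M] [Module A M] [Module.Finite A M]
    (d : ℕ) (hd : Module.supportDim A M ≤ d) (e : PrimeSpectrum A → ℝ)
    (he : ∀ p : PrimeSpectrum A, ringKrullDim (A ⧸ p.asIdeal) = d →
      Filter.Tendsto (fun t : ℕ => (d.factorial : ℝ) *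
        ((Module.length A ((A ⧸ p.asIdeal) ⧸ (I ^ t • (⊤ : Submodule A (A ⧸ p.asIdeal))))).toNat : ℝ) / (t : ℝ) ^ d)
        Filter.atTop (nhds (e p))) :
    Filter.Tendsto (fun t : ℕ => (d.factorial : ℝ) * ((Module.length A (M ⧸ (I ^ t • (⊤ : Submodule A M)))).toNat : ℝ) / (t : ℝ) ^ d) Filter.atTop
      (nhds (∑ᶠ (p : PrimeSpectrum A) (_ : ringKrullDim (A ⧸ p.asIdeal) = d),
        ((Module.length (Localization.AtPrime p.asIdeal) (LocalizedModule p.asIdeal.primeCompl M)).toNat : ℝ) * e p)) := by
  classical
  obtain ⟨n, hn⟩ := hI.2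
  have hJ : IsLocalRing.maximalIdeal A ≤ I.radical := fun x hx => ⟨n, hn (Ideal.pow_mem_pow hx n)⟩
  let s : Set (PrimeSpectrum A) := {p | ringKrullDim (A ⧸ p.asIdeal) = d}
  -- for a module of dimension at most `d` only finitely many of the relevant localisations survive
  have hfin : ∀ (N : Type u) [AddCommGroup N] [Module A N] [Module.Finite A N],
      Module.supportDim A N ≤ d → (s ∩ Function.support fun p =>
        ((Len90.locLen p.asIdeal N).toNat : ℝ) * e p).Finite := by
    intro N _ _ _ hN
    refine (((Ideal.finite_minimalPrimes_of_isNoetherianRing A (Module.annihilator A N))).preimage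
      fun _ _ _ _ h => PrimeSpectrum.ext h).subset ?_
    rintro p ⟨hp, hp'⟩
    have hsupp : p ∈ Module.support A N := by
      refine Module.mem_support_iff.2 ?_
      by_contra hc
      have : Subsingleton (LocalizedModule p.asIdeal.primeCompl N) := not_nontrivial_iff_subsingleton.1 hc
      exact hp' (by simp [Len90.locLen, Module.length_eq_zero])
    have hle : Module.annihilator A N ≤ p.asIdeal := Module.annihilator_le_of_mem_support hsupp
    obtain ⟨q, hq, hqp⟩ := Ideal.exists_minimalPrimes_le hle
    refine Set.mem_preimage.2 ?_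
    by_contra hne
    have hlt : q < p.asIdeal := lt_of_le_of_ne hqp fun h => hne (h ▸ hq)
    rw [Module.supportDim_eq_ringKrullDim_quotient_annihilator] at hN
    have hq' : ringKrullDim (A ⧸ q) ≤ d :=
      le_trans (ringKrullDim_le_of_surjective _ (Ideal.Quotient.factor_surjective hq.1.2)) hN
    have hqprime : q.IsPrime := hq.1.1
    obtain ⟨x, hxp, hxq⟩ := SetLike.exists_of_lt hlt
    let y : A ⧸ q := Ideal.Quotient.mk q x
    have hy : y ∈ nonZeroDivisors (A ⧸ q) :=
      mem_nonZeroDivisors_of_ne_zero fun h => hxq (Ideal.Quotient.eq_zero_iff_mem.1 h)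
    have h1 := ringKrullDim_quotient_succ_le_of_nonZeroDivisor hy
    have hle2 : Ideal.span {y} ≤ p.asIdeal.map (Ideal.Quotient.mk q) :=
      Ideal.span_le.2 (by rintro z rfl; exact Ideal.mem_map_of_mem _ hxp)
    let ψ : (A ⧸ q) ⧸ Ideal.span {y} →+* A ⧸ p.asIdeal :=
      Ideal.Quotient.lift _ (Ideal.Quotient.factor hqp) fun z hz => by
        obtain ⟨c, rfl⟩ := Ideal.mem_span_singleton'.1 hz
        rw [map_mul, show Ideal.Quotient.factor hqp y = 0 from Ideal.Quotient.eq_zero_iff_mem.2 hxp,
          mul_zero]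
    have hψ : Function.Surjective ψ := fun z => by
      obtain ⟨a, rfl⟩ := Ideal.Quotient.mk_surjective z
      exact ⟨Ideal.Quotient.mk _ (Ideal.Quotient.mk q a), rfl⟩
    have h2 := ringKrullDim_le_of_surjective ψ hψ
    rw [hp] at h2
    have := (add_le_add h2 le_rfl).trans (h1.trans hq')
    rw [← Nat.cast_one, ← Nat.cast_add, Nat.cast_le] at this
    omega
  revert hd
  suffices key : Module.supportDim A M ≤ d →
      Filter.Tendsto (fun t : ℕ => (d.factorial : ℝ) * (LC17.samuel I M t : ℝ) / (t : ℝ) ^ d) Filter.atTop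
        (nhds (∑ᶠ p ∈ s, ((Len90.locLen p.asIdeal M).toNat : ℝ) * e p)) ∧
      ∀ p ∈ s, Len90.locLen p.asIdeal M ≠ ⊤ from fun hd => (key hd).1
  induction ‹Module.Finite A M› using IsNoetherianRing.induction_on_isQuotientEquivQuotientPrime A with
  | subsingleton N =>
    intro _
    have h0 : ∀ p : PrimeSpectrum A, Len90.locLen p.asIdeal N = 0 := fun p => by
      have : Subsingleton (LocalizedModule p.asIdeal.primeCompl N) := by
        refine subsingleton_of_forall_eq 0 fun x => ?_
        induction x using LocalizedModule.induction_on with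
        | h m t => rw [Subsingleton.elim m 0, LocalizedModule.zero_mk]
      exact Module.length_eq_zero
    refine ⟨?_, fun p _ => by simp [h0]⟩
    rw [finsum_mem_congr rfl fun p _ => show ((Len90.locLen p.asIdeal N).toNat : ℝ) * e p = 0 by simp [h0],
      finsum_mem_zero]
    simp [LC17.samuel, Module.length_eq_zero]
  | quotient N q eN =>
    intro hN
    rw [Module.supportDim_eq_of_equiv eN, Module.supportDim_quotient_eq_ringKrullDim] at hN
    have hloc : ∀ p ∈ s, Len90.locLen p.asIdeal N = if p = q then 1 else 0 := by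
      intro p hp
      rw [Len90.locLen_congr _ eN]
      split_ifs with h
      · subst h; exact Len90.locLen_quot_self _
      · refine Len90.locLen_quot_of_not_le _ _ fun hle => h (PrimeSpectrum.ext ?_)
        by_contra hne
        have hlt : q.asIdeal < p.asIdeal := lt_of_le_of_ne hle (Ne.symm hne)
        obtain ⟨x, hxp, hxq⟩ := SetLike.exists_of_lt hlt
        let y : A ⧸ q.asIdeal := Ideal.Quotient.mk q.asIdeal x
        have hy : y ∈ nonZeroDivisors (A ⧸ q.asIdeal) :=
          mem_nonZeroDivisors_of_ne_zero fun h => hxq (Ideal.Quotient.eq_zero_iff_mem.1 h)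
        have h1 := ringKrullDim_quotient_succ_le_of_nonZeroDivisor hy
        let ψ : (A ⧸ q.asIdeal) ⧸ Ideal.span {y} →+* A ⧸ p.asIdeal :=
          Ideal.Quotient.lift _ (Ideal.Quotient.factor hle) fun z hz => by
            obtain ⟨c, rfl⟩ := Ideal.mem_span_singleton'.1 hz
            rw [map_mul, show Ideal.Quotient.factor hle y = 0 from Ideal.Quotient.eq_zero_iff_mem.2 hxp,
              mul_zero]
        have h2 := ringKrullDim_le_of_surjective ψ fun z => by
          obtain ⟨a, rfl⟩ := Ideal.Quotient.mk_surjective z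
          exact ⟨Ideal.Quotient.mk _ (Ideal.Quotient.mk q.asIdeal a), rfl⟩
        rw [hp] at h2
        have := (add_le_add h2 le_rfl).trans (h1.trans hN)
        rw [← Nat.cast_one, ← Nat.cast_add, Nat.cast_le] at this
        omega
    refine ⟨?_, fun p hp => by rw [hloc p hp]; split_ifs <;> simp⟩
    have hsam : ∀ t, LC17.samuel I N t = LC17.samuel I (A ⧸ q.asIdeal) t := fun t => by
      simp only [LC17.samuel]
      congr 1
      exact (Submodule.Quotient.equiv _ _ eN (by
        rw [Submodule.map_smul'', Submodule.map_top, LinearEquiv.range])).length_eq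
    simp only [hsam]
    rw [finsum_mem_congr rfl fun p hp => show ((Len90.locLen p.asIdeal N).toNat : ℝ) * e p =
      if p = q then e p else 0 by rw [hloc p hp]; split_ifs <;> simp]
    by_cases hqd : q ∈ s
    · rw [finsum_mem_def, finsum_eq_single _ q fun p hp => by
        by_cases hps : p ∈ s
        · rw [Set.indicator_of_mem hps, if_neg hp]
        · rw [Set.indicator_of_notMem hps], Set.indicator_of_mem hqd, if_pos rfl]
      exact he q hqd
    · rw [finsum_mem_congr rfl fun p hp => show (if p = q then e p else 0) = 0 by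
        rw [if_neg]; rintro rfl; exact hqd hp, finsum_mem_zero]
      have hne : Nontrivial (A ⧸ q.asIdeal) := Ideal.Quotient.nontrivial_iff.mpr q.2.ne_top
      obtain ⟨d', hd'⟩ := EGA4Alg4.exists_supportDim_eq (A := A) (M := A ⧸ q.asIdeal)
      rw [Module.supportDim_quotient_eq_ringKrullDim] at hd'
      have hdd : d' < d := by
        rw [hd', Nat.cast_le] at hN
        refine lt_of_le_of_ne hN ?_
        rintro rfl
        exact hqd hd'
      obtain ⟨G, hG⟩ := (IsNoetherian.noetherian I : I.FG)
      have hG' : Ideal.span (Set.range (fun i => ((G.equivFin).symm i : A))) = I := by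
        rw [← hG]
        congr 1
        ext x
        constructor
        · rintro ⟨i, rfl⟩; exact ((G.equivFin).symm i).2
        · intro hx; exact ⟨G.equivFin ⟨x, hx⟩, by simp⟩
      obtain ⟨L, hL⟩ := LC17.exists_tendsto_samuel (fun i => ((G.equivFin).symm i : A)) (A ⧸ q.asIdeal)
        (by rw [hG']; exact LC17.isFiniteLength_quot_smul hJ _) d'
        (by rw [Module.supportDim_quotient_eq_ringKrullDim]; exact hd'.le)
      have h0 := ((hL 0).const_mul (d.factorial : ℝ)).mul
        ((tendsto_one_div_atTop_nhds_zero_nat (𝕜 := ℝ)).pow (d - d'))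
      rw [zero_pow (by omega), mul_zero] at h0
      refine h0.congr' (Filter.eventually_atTop.2 ⟨1, fun t ht => ?_⟩)
      have ht0 : (t : ℝ) ≠ 0 := by exact_mod_cast (by omega : t ≠ 0)
      show _ = (d.factorial : ℝ) * _ / (t : ℝ) ^ d
      rw [hG', add_zero, div_pow, one_pow, show (t : ℝ) ^ d = (t : ℝ) ^ d' * (t : ℝ) ^ (d - d') by
        rw [← pow_add]; congr 1; omega]
      field_simp
  | exact N₁ N₂ N₃ f g hf hg hex ih₁ ih₃ =>
    intro hN
    have hN₁ := (Module.supportDim_le_of_injective f hf).trans hN
    have hN₃ := (Module.supportDim_le_of_surjective g hg).trans hN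
    obtain ⟨t₁, f₁⟩ := ih₁ hN₁
    obtain ⟨t₃, f₃⟩ := ih₃ hN₃
    have hadd := fun p : PrimeSpectrum A => Len90.locLen_exact p.asIdeal f g hf hg hex
    refine ⟨?_, fun p hp => by rw [hadd]; exact WithTop.add_ne_top.2 ⟨f₁ p hp, f₃ p hp⟩⟩
    rw [finsum_mem_congr rfl fun p hp => show ((Len90.locLen p.asIdeal N₂).toNat : ℝ) * e p =
        ((Len90.locLen p.asIdeal N₁).toNat : ℝ) * e p + ((Len90.locLen p.asIdeal N₃).toNat : ℝ) * e p by
      rw [hadd, ENat.toNat_add (f₁ p hp) (f₃ p hp)]; push_cast; ring,
      finsum_mem_add_distrib' (hfin N₁ hN₁) (hfin N₃ hN₃)]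
    exact Cohen12.SamuelAdd.tendsto_of_exact I hJ f g hf hg (LinearMap.exact_iff.1 hex).symm d _ _ _
      t₁ t₃ (Nat.cast_nonneg _)

end Groth.Agent.S12212
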