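import Groth.Statements.S12214
import Groth.Agent.FlatCrit65.Assassin.WeakAssFinite

set_option autoImplicit false
universe u
open FlatMor

namespace Groth.Agent.S12214

/-- Let R → S be a ring map of finite presentation, M a finite S-module, and assume R has finitely many
weakly associated primes. Then for every g ∈ S whose basic open D(g) is contained in the flat locus
U = {q : M_q is flat over R}, the localization M_g is a finitely presented S_g-module which is flat
over R. (Openness of U is the companion statement.) -/
theorem result {R S : Type u} [CommRing R] [CommRing S] [Algebra R S]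
    [Algebra.FinitePresentation R S] (hR : (FlatCA.weakAss R R).Finite)
    (M : Type u) [AddCommGroup M] [Module S M] [Module R M] [IsScalarTower R S M] [Module.Finite S M]
    (g : S) (hg : ∀ (q : Ideal S) [q.IsPrime], g ∉ q → FlatCA.FlatAt R q M) :
    Module.FinitePresentation (Localization.Away g) (LocalizedModule (Submonoid.powers g) M) ∧
      Module.Flat R (LocalizedModule (Submonoid.powers g) M) := by
  refine ⟨?_, FlatCrit65.flat_powers_of_forall g fun q hq => hg q.asIdeal hq⟩
  let L := Localization.Away g
  let G : Set S := {g' : S | Module.FinitePresentation (Localization.Away g')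
    (LocalizedModule (Submonoid.powers g') M)}
  have hs : Ideal.span (algebraMap S L '' G) = ⊤ := by
    by_contra hne
    obtain ⟨Q, hQ, hle⟩ := Ideal.exists_le_maximal _ hne
    have hgQ : g ∉ Q.comap (algebraMap S L) := fun h =>
      hQ.ne_top (Ideal.eq_top_of_isUnit_mem _ h (IsLocalization.Away.algebraMap_isUnit g))
    obtain ⟨g', hg', -, hfp⟩ := FlatCrit65.exists_fp_nhd_of_weakAss_finite hR
      (Q.comap (algebraMap S L)) (hg _ hgQ)
    exact hg' (hle (Ideal.subset_span ⟨g', hfp, rfl⟩))
  refine Module.FinitePresentation.of_localizationSpan _ hs ?_
  rintro ⟨_, g', hfp, rfl⟩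
  let P := Localization.Away g'
  let A' := Localization.Away (algebraMap S L g')
  have : Module.FinitePresentation P (LocalizedModule (Submonoid.powers g') M) := hfp
  have hu : IsUnit (algebraMap S A' g') := by
    rw [IsScalarTower.algebraMap_apply S L A']
    exact IsLocalization.Away.algebraMap_isUnit _
  let θ : P →+* A' := IsLocalization.Away.lift g' (g := algebraMap S A') hu
  let _ : Algebra P A' := θ.toAlgebra
  have : IsScalarTower S P A' := IsScalarTower.of_algebraMap_eq fun a =>
    (IsLocalization.Away.lift_eq g' (g := algebraMap S A') hu a).symm
  have : Module.FinitePresentation P (TensorProduct S P M) :=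
    Module.FinitePresentation.of_equiv (LocalizedModule.equivTensorProduct (Submonoid.powers g') M)
  have : Module.FinitePresentation A' (TensorProduct S A' M) :=
    Module.FinitePresentation.of_equiv (R := A') (M := TensorProduct P A' (TensorProduct S P M))
      (N := TensorProduct S A' M) (TensorProduct.AlgebraTensorModule.cancelBaseChange S P A' A' M)
  have h1 : IsBaseChange L (LocalizedModule.mkLinearMap (Submonoid.powers g) M) :=
    IsLocalizedModule.isBaseChange (Submonoid.powers g) L _
  have h2 : IsBaseChange A' (LocalizedModule.mkLinearMap (Submonoid.powers (algebraMap S L g'))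
      (LocalizedModule (Submonoid.powers g) M)) :=
    IsLocalizedModule.isBaseChange (R := L) (Submonoid.powers (algebraMap S L g')) A' _
  exact Module.FinitePresentation.of_equiv (R := A') (M := TensorProduct S A' M)
    (N := LocalizedModule (Submonoid.powers (algebraMap S L g')) (LocalizedModule (Submonoid.powers g) M))
    (h1.comp h2).equiv

end Groth.Agent.S12214
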