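import Groth.Statements.S12217
import Groth.Agent.Gor18.Basic
import Mathlib.RingTheory.AdicCompletion.LocalRing
import Mathlib.RingTheory.PowerSeries.Inverse
import Mathlib.Tactic

set_option linter.style.haveILetI false

set_option autoImplicit false
universe u
open Curves IsLocalRing

namespace Groth.Agent.S12217

open IsLocalRing

variable {A : Type u} [CommRing A] [IsLocalRing A] [IsNoetherianRing A]

local notation "Ahat" => AdicCompletion (IsLocalRing.maximalIdeal A) A

theorem mem_pow_iff (y : AdicCompletion (IsLocalRing.maximalIdeal A) A) (n : ℕ) :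
    y ∈ maximalIdeal (AdicCompletion (IsLocalRing.maximalIdeal A) A) ^ n ↔ y.1 n = 0 := by
  rw [AdicCompletion.maximalIdeal_eq_map, ← Ideal.map_pow, ← Submodule.restrictScalars_mem A,
    ← Ideal.smul_top_eq_map,
    AdicCompletion.pow_smul_top_eq_ker_eval (maximalIdeal A).fg_of_isNoetherianRing,
    LinearMap.mem_ker]
  rfl

theorem algebraMap_mem_pow_iff (a : A) (n : ℕ) :
    algebraMap A (AdicCompletion (IsLocalRing.maximalIdeal A) A) a ∈
      maximalIdeal (AdicCompletion (IsLocalRing.maximalIdeal A) A) ^ n ↔ a ∈ maximalIdeal A ^ n := by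
  rw [mem_pow_iff, AdicCompletion.algebraMap_apply]
  show Submodule.Quotient.mk a = 0 ↔ _
  rw [Submodule.Quotient.mk_eq_zero, smul_eq_mul, Ideal.mul_top]

theorem exists_approx (y : AdicCompletion (IsLocalRing.maximalIdeal A) A) (n : ℕ) :
    ∃ a : A, algebraMap A (AdicCompletion (IsLocalRing.maximalIdeal A) A) a - y ∈
      maximalIdeal (AdicCompletion (IsLocalRing.maximalIdeal A) A) ^ n := by
  obtain ⟨a, ha⟩ := Submodule.Quotient.mk_surjective _ (y.1 n)
  refine ⟨a, (mem_pow_iff _ n).mpr ?_⟩
  show Submodule.Quotient.mk a - y.1 n = 0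
  rw [ha, sub_self]

end Groth.Agent.S12217


namespace Groth.Agent.S12217

/-- In this form A is the local ring of the curve at the point, and a Gorenstein scheme has Gorenstein
local rings. Let k be an algebraically closed field and A a Gorenstein local ring whose completion
with respect to its maximal ideal is isomorphic to the multicross ring with n ≥ 2 branches, the
subring of (k[[t]])^n consisting of the n-tuples of power series having a common constant term. Then
n = 2: a Gorenstein multicross singularity is a node. The isomorphism is given as an injective ring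
map from the completion to (k[[t]])^n with that subring as its range. -/
theorem result (k : Type u) [Field k] [IsAlgClosed k]
    (A : Type u) [CommRing A] [LocCoh.IsGorensteinLocalRing A] (n : ℕ) (hn : 2 ≤ n)
    (φ : AdicCompletion (IsLocalRing.maximalIdeal A) A →+* (Fin n → PowerSeries k))
    (hinj : Function.Injective φ)
    (hrange : Set.range φ = {f : Fin n → PowerSeries k | ∀ i j : Fin n, PowerSeries.constantCoeff (f i) = PowerSeries.constantCoeff (f j)}) :
    n = 2 := by
  set C := AdicCompletion (maximalIdeal A) A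
  set M := maximalIdeal C
  set χ : Fin n → (C →+* PowerSeries k) := fun i => (Pi.evalRingHom _ i).comp φ with hχ
  have hχ' : ∀ i y, χ i y = φ y i := fun i y => rfl
  have hsame : ∀ y i j, PowerSeries.constantCoeff (χ i y) = PowerSeries.constantCoeff (χ j y) := by
    intro y
    have : φ y ∈ Set.range φ := ⟨y, rfl⟩
    rw [hrange] at this
    exact this
  have hsurj : ∀ g : Fin n → PowerSeries k,
      (∀ i j, PowerSeries.constantCoeff (g i) = PowerSeries.constantCoeff (g j)) →
      ∃ y, φ y = g := fun g hg => by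
    have : g ∈ Set.range φ := by rw [hrange]; exact hg
    exact this
  have i₀ : Fin n := ⟨0, by omega⟩
  have hM : ∀ y, y ∈ M ↔ ∀ i, PowerSeries.constantCoeff (χ i y) = 0 := by
    intro y
    constructor
    · intro hy i
      by_contra hc
      obtain ⟨z, hz⟩ := hsurj (fun j => (χ j y)⁻¹)
        (fun a b => by simp only [PowerSeries.constantCoeff_inv, hsame y a b])
      apply (mem_nonunits_iff.mp hy)
      refine IsUnit.of_mul_eq_one z (hinj ?_)
      ext1 j
      rw [map_mul, map_one, hz]
      exact PowerSeries.mul_inv_cancel _ (by rw [← hχ', hsame y j i]; exact hc)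
    · intro hy
      refine mem_nonunits_iff.mpr fun hu => ?_
      exact ((hu.map (χ i₀)).map PowerSeries.constantCoeff).ne_zero (hy i₀)
  have hM2 : ∀ y ∈ M ^ 2, ∀ i, PowerSeries.X ^ 2 ∣ χ i y := by
    intro y hy i
    rw [← Ideal.mem_span_singleton, ← Ideal.span_singleton_pow]
    have h := Ideal.mem_map_of_mem (χ i) hy
    rw [Ideal.map_pow] at h
    refine Ideal.pow_right_mono ?_ 2 h
    rw [Ideal.map_le_iff_le_comap]
    intro z hz
    rw [Ideal.mem_comap, Ideal.mem_span_singleton, PowerSeries.X_dvd_iff]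
    exact (hM z).mp hz i
  have hM2' : ∀ y ∈ M ^ 2, ∀ i, PowerSeries.coeff 1 (χ i y) = 0 := fun y hy i =>
    PowerSeries.X_pow_dvd_iff.mp (hM2 y hy i) 1 one_lt_two
  -- realise linear coefficient vectors in `A`
  have hlift : ∀ v : Fin n → k, ∃ a ∈ maximalIdeal A,
      ∀ i, PowerSeries.coeff 1 (χ i (algebraMap A C a)) = v i := by
    intro v
    obtain ⟨y, hy⟩ := hsurj (fun i => PowerSeries.C (v i) * PowerSeries.X) (by simp)
    have hyM : y ∈ M := (hM y).mpr fun i => by rw [hχ', hy]; simp
    obtain ⟨a, ha⟩ := S12217.exists_approx y 2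
    refine ⟨a, ?_, fun i => ?_⟩
    · have hmem : algebraMap A C a ∈ M := by
        have h := add_mem (Ideal.pow_le_self two_ne_zero ha) hyM
        rwa [sub_add_cancel] at h
      have := (S12217.algebraMap_mem_pow_iff a 1).mp (by rwa [pow_one])
      rwa [pow_one] at this
    · have h := hM2' _ ha i
      rw [map_sub, map_sub, sub_eq_zero] at h
      rw [h, hχ', hy]
      simp
  obtain ⟨x, hxm, hx1⟩ := hlift (fun _ => 1)
  have hfac : ∀ a ∈ maximalIdeal A, ∀ i, ∃ u : PowerSeries k,
      χ i (algebraMap A C a) = PowerSeries.X * u ∧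
      PowerSeries.constantCoeff u = PowerSeries.coeff 1 (χ i (algebraMap A C a)) := by
    intro a ha i
    have hmem : algebraMap A C a ∈ M := by
      have := (S12217.algebraMap_mem_pow_iff a 1).mpr (by rwa [pow_one])
      rwa [pow_one] at this
    obtain ⟨u, hu⟩ := PowerSeries.X_dvd_iff.mpr ((hM _).mp hmem i)
    refine ⟨u, hu, ?_⟩
    rw [hu, PowerSeries.coeff_succ_X_mul, PowerSeries.coeff_zero_eq_constantCoeff]
  have hfac' := hfac
  choose u hu hu0 using hfac x hxm
  have hu1 : ∀ i, PowerSeries.constantCoeff (u i) = 1 := fun i => (hu0 i).trans (hx1 i)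
  have hreg : IsSMulRegular A x := by
    rw [isSMulRegular_iff_right_eq_zero_of_smul]
    intro a ha
    apply AdicCompletion.of_injective (maximalIdeal A) A
    rw [map_zero]
    apply hinj
    rw [map_zero]
    funext i
    have h : χ i (algebraMap A C x) * χ i (algebraMap A C a) = 0 := by
      rw [← map_mul, ← map_mul, ← smul_eq_mul, ha, map_zero, map_zero]
    rw [hu, mul_eq_zero, mul_eq_zero] at h
    rcases h with (h | h) | h
    · exact absurd h PowerSeries.X_ne_zero
    · exact absurd (hu1 i) (by simp [h])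
    · exact h
  have hsq : maximalIdeal A ^ 2 ≤ Ideal.span {x} := by
    refine Submodule.le_of_le_smul_of_le_jacobson_bot (I := maximalIdeal A)
      (Ideal.fg_of_isNoetherianRing _) (IsLocalRing.maximalIdeal_le_jacobson _) ?_
    intro b hb
    have hbC : algebraMap A C b ∈ M ^ 2 := (S12217.algebraMap_mem_pow_iff b 2).mpr hb
    choose r hr using hM2 _ hbC
    obtain ⟨y, hy⟩ := hsurj (fun i => PowerSeries.X * r i * (u i)⁻¹) (by simp)
    have heq : algebraMap A C b = algebraMap A C x * y := by
      apply hinj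
      funext i
      rw [map_mul, Pi.mul_apply, ← hχ', ← hχ' i (algebraMap A C x), hu i, hr i, hy]
      have := PowerSeries.mul_inv_cancel (u i) (by rw [hu1 i]; exact one_ne_zero)
      linear_combination -(PowerSeries.X ^ 2 * r i) * this
    obtain ⟨c, hc⟩ := S12217.exists_approx y 2
    rw [smul_eq_mul, ← pow_succ']
    have h3 : b - x * c ∈ maximalIdeal A ^ (2 + 1) := by
      rw [← S12217.algebraMap_mem_pow_iff, map_sub, map_mul, heq, ← mul_sub, pow_succ']
      refine Ideal.mul_mem_mul ?_ ?_
      · have := (S12217.algebraMap_mem_pow_iff x 1).mpr (by rwa [pow_one])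
        rwa [pow_one] at this
      · rw [← neg_sub]; exact neg_mem hc
    rw [show b = x * c + (b - x * c) by ring]
    exact Submodule.add_mem_sup (Ideal.mul_mem_right _ _ (Ideal.mem_span_singleton_self x)) h3
  -- the Artinian quotient
  haveI := Gor18.isLocalRing_quotient hxm
  haveI : LocCoh.IsGorensteinLocalRing (A ⧸ Ideal.span {x}) :=
    (Gor18.gor_quotient_iff hxm hreg).mp inferInstance
  have hmap : maximalIdeal (A ⧸ Ideal.span {x}) =
      (maximalIdeal A).map (Ideal.Quotient.mk (Ideal.span {x})) := by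
    refine le_antisymm (fun z hz => ?_) ?_
    · obtain ⟨a, rfl⟩ := Ideal.Quotient.mk_surjective z
      exact Ideal.mem_map_of_mem _ (mem_nonunits_iff.mpr fun hua =>
        (mem_nonunits_iff.mp hz) (hua.map _))
    · refine IsLocalRing.le_maximalIdeal fun htop => ?_
      have h := congrArg (Ideal.comap (Ideal.Quotient.mk (Ideal.span {x}))) htop
      rw [Ideal.comap_map_of_surjective _ Ideal.Quotient.mk_surjective, Ideal.comap_top,
        ← RingHom.ker_eq_comap_bot, Ideal.mk_ker, sup_eq_left.mpr
          ((Ideal.span_singleton_le_iff_mem _).mpr hxm)] at h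
      exact (maximalIdeal.isMaximal A).ne_top h
  haveI : IsArtinianRing (A ⧸ Ideal.span {x}) := by
    rw [isArtinianRing_iff_isNilpotent_maximalIdeal]
    refine ⟨2, ?_⟩
    rw [Ideal.zero_eq_bot, hmap, ← Ideal.map_pow, Ideal.map_eq_bot_iff_le_ker, Ideal.mk_ker]
    exact hsq
  haveI := Gor18.artinian_gor_iff_simple_socle.mp
    (inferInstance : LocCoh.IsGorensteinLocalRing (A ⧸ Ideal.span {x}))
  have hsoc : ∀ a ∈ maximalIdeal A, Ideal.Quotient.mk (Ideal.span {x}) a ∈
      LocCoh.torsionBy (maximalIdeal (A ⧸ Ideal.span {x})) (A ⧸ Ideal.span {x}) := by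
    intro a ha
    refine (Submodule.mem_torsionBySet_iff _ _).2 fun m => ?_
    have hm : (m : A ⧸ Ideal.span {x}) ∈ (maximalIdeal A).map (Ideal.Quotient.mk (Ideal.span {x})) :=
      hmap ▸ m.2
    rw [Ideal.mem_map_iff_of_surjective _ Ideal.Quotient.mk_surjective] at hm
    obtain ⟨b, hb, hbm⟩ := hm
    rw [smul_eq_mul, ← hbm, ← map_mul, Ideal.Quotient.eq_zero_iff_mem]
    exact hsq (by rw [pow_two]; exact Ideal.mul_mem_mul hb ha)
  -- linear coefficients of a combination
  have hlin : ∀ (a b : A), b ∈ maximalIdeal A → ∀ i,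
      PowerSeries.coeff 1 (χ i (algebraMap A C (a * b))) =
        PowerSeries.constantCoeff (χ i₀ (algebraMap A C a)) *
          PowerSeries.coeff 1 (χ i (algebraMap A C b)) := by
    intro a b hb i
    obtain ⟨w, hw, hw0⟩ := hfac' b hb i
    rw [map_mul, map_mul, hw, mul_left_comm, PowerSeries.coeff_succ_X_mul,
      PowerSeries.coeff_zero_eq_constantCoeff, map_mul, hsame _ i i₀,
      PowerSeries.coeff_succ_X_mul, PowerSeries.coeff_zero_eq_constantCoeff]
  by_contra hn2
  have i₁ : Fin n := ⟨1, by omega⟩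
  obtain ⟨p, q, r, hpq, hpr, hqr⟩ : ∃ p q r : Fin n, p ≠ q ∧ p ≠ r ∧ q ≠ r :=
    ⟨⟨0, by omega⟩, ⟨1, by omega⟩, ⟨2, by omega⟩, by simp, by simp, by simp⟩
  obtain ⟨a, ham, ha⟩ := hlift (Pi.single p 1)
  obtain ⟨b, hbm, hb⟩ := hlift (Pi.single q 1)
  have hane : (⟨_, hsoc a ham⟩ : LocCoh.torsionBy (maximalIdeal (A ⧸ Ideal.span {x}))
      (A ⧸ Ideal.span {x})) ≠ 0 := by
    intro h
    have h' : Ideal.Quotient.mk (Ideal.span {x}) a = 0 := congrArg Subtype.val h
    rw [Ideal.Quotient.eq_zero_iff_mem, Ideal.mem_span_singleton'] at h'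
    obtain ⟨c, hc⟩ := h'
    have hp := hlin c x hxm p
    have hr' := hlin c x hxm r
    rw [hc, ha, hx1, mul_one] at hp hr'
    rw [Pi.single_eq_same] at hp
    rw [Pi.single_eq_of_ne hpr.symm] at hr'
    exact one_ne_zero (hp.trans hr'.symm)
  obtain ⟨c, hc⟩ := (IsSimpleModule.toSpanSingleton_surjective (A ⧸ Ideal.span {x}) hane)
    ⟨_, hsoc b hbm⟩
  obtain ⟨c, rfl⟩ := Ideal.Quotient.mk_surjective c
  have hc' : Ideal.Quotient.mk (Ideal.span {x}) c * Ideal.Quotient.mk (Ideal.span {x}) a =
      Ideal.Quotient.mk (Ideal.span {x}) b := congrArg Subtype.val hc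
  rw [← map_mul, Ideal.Quotient.eq, Ideal.mem_span_singleton'] at hc'
  obtain ⟨d, hd⟩ := hc'
  have h := fun i => congrArg (fun z => PowerSeries.coeff 1 (χ i (algebraMap A C z))) hd
  simp only [map_sub] at h
  have hq := h q
  have hr' := h r
  rw [hlin d x hxm, hlin c a ham, hx1, ha, hb, mul_one] at hq hr'
  rw [Pi.single_eq_same, Pi.single_eq_of_ne hpq.symm, mul_zero] at hq
  rw [Pi.single_eq_of_ne hpr.symm, Pi.single_eq_of_ne hqr.symm, mul_zero, sub_zero] at hr'
  rw [hr', zero_sub] at hq
  exact one_ne_zero (neg_eq_zero.mp hq.symm)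

end Groth.Agent.S12217
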