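import Groth.Statements.S1222
import Groth.Agent.FlatCrit65.Purity.FiniteSupport

set_option autoImplicit false
universe u
open FlatMor

namespace Groth.Agent.S1222

/-- Ring form, X = Spec B affine hence separated over Spec A: let B be a finite type A-algebra and N a
finite B-module such that for every prime p of A the fibre module of N over p has finite support.
Then the following are equivalent: N is pure relative to Spec A; the scheme-theoretic support of N,
namely B modulo the annihilator of N, is finite over A; N is universally pure relative to Spec A. -/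
theorem result {A B : Type u} [CommRing A] [CommRing B] [Algebra A B] [Algebra.FiniteType A B]
    (N : Type u) [AddCommGroup N] [Module B N] [Module A N] [IsScalarTower A B N] [Module.Finite B N]
    (hfin : ∀ (p : Ideal A) [p.IsPrime], (Module.support (p.Fiber B) (FlatCA.fiberMod p B N)).Finite) :
    [FlatCA.IsPure A B N, Module.Finite A (B ⧸ Module.annihilator B N), FlatCA.IsUnivPure A B N].TFAE := by
  classical
  tfae_have 3 → 1 := fun h p _ A' B' N' _ _ _ _ _ _ _ _ _ _ _ _ _ _ f t' t _ _ P _ _ => h p A' B' N' f t' t P
  tfae_have 2 → 3 := fun _ => Groth.Agent.FlatCrit65.isUnivPure_of_finite_support (A := A) (B := B) N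
  tfae_have 1 → 2 := by
    intro hpure
    let C := B ⧸ Module.annihilator B N
    letI : Module C N := Module.IsTorsionBySet.module fun n b => (Module.mem_annihilator.1 b.2 n)
    haveI : IsScalarTower B C N := Module.IsTorsionBySet.isScalarTower _
    haveI : Module.Finite C N := Module.Finite.of_restrictScalars_finite B C N
    have hN : Module.annihilator C N = ⊥ := by
      refine eq_bot_iff.2 fun c hc => ?_
      obtain ⟨b, rfl⟩ := Ideal.Quotient.mk_surjective c
      exact Ideal.Quotient.eq_zero_iff_mem.2 (Module.mem_annihilator.2 fun n => Module.mem_annihilator.1 hc n)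
    haveI : Algebra.QuasiFinite A C := by
      refine Algebra.QuasiFinite.iff_finite_comap_preimage_singleton.2 fun p => ?_
      let ι := (Algebra.TensorProduct.includeRight (R := A) (A := p.asIdeal.ResidueField) (B := B)).toRingHom
      refine Set.Finite.of_finite_image (f := PrimeSpectrum.comap (Ideal.Quotient.mk (Module.annihilator B N)))
        (((hfin p.asIdeal).image (PrimeSpectrum.comap ι)).subset ?_)
        (PrimeSpectrum.comap_injective_of_surjective _ Ideal.Quotient.mk_surjective).injOn
      rintro _ ⟨Q, hQ, rfl⟩
      haveI : (PrimeSpectrum.comap (Ideal.Quotient.mk (Module.annihilator B N)) Q).asIdeal.LiesOver p.asIdeal := ⟨by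
        rw [← show PrimeSpectrum.comap (algebraMap A C) Q = p from hQ]
        show _ = (Q.asIdeal.comap (Ideal.Quotient.mk _)).comap (algebraMap A B)
        rw [Ideal.comap_comap]
        rfl⟩
      obtain ⟨x, -, hx⟩ := Groth.Agent.RG29.exists_fiber_point p.asIdeal
        (PrimeSpectrum.comap (Ideal.Quotient.mk (Module.annihilator B N)) Q).asIdeal
      refine ⟨x, (Groth.Agent.RG29.mem_support_fiberMod_iff p.asIdeal N x).2 ?_, PrimeSpectrum.ext hx⟩
      rw [Module.support_eq_zeroLocus]
      intro b hb
      show ι b ∈ x.asIdeal
      rw [← Ideal.mem_comap, hx]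
      show Ideal.Quotient.mk (Module.annihilator B N) b ∈ Q.asIdeal
      rw [Ideal.Quotient.eq_zero_iff_mem.2 hb]
      exact Q.asIdeal.zero_mem
    refine Groth.Agent.FlatCrit65.Purity.finite_of_pure hN fun p _ => ?_
    rw [Groth.Agent.FlatMor67.PurePush.isPureAlong_iff_not_hasImpurity,
      Groth.Agent.FlatMor67.PurePush.hasImpurity_iff (B := B) N p _ Ideal.Quotient.mk_surjective,
      ← Groth.Agent.FlatMor67.PurePush.isPureAlong_iff_not_hasImpurity]
    exact hpure p
  tfae_finish

end Groth.Agent.S1222
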