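import Groth.Statements.S12222
import Groth.Agent.Hens22.EtaleLift
import Groth.Agent.Hens22.Stability
import Groth.Agent.EtAlg23.HenselBasic
import Mathlib.RingTheory.Flat.FaithfullyFlat.Algebra
import Mathlib.RingTheory.Etale.Basic
import Mathlib.RingTheory.Smooth.Flat
import Mathlib.RingTheory.Nakayama
-- import your own Groth.Agent.* helpers here

set_option autoImplicit false
universe u
open Hensel

namespace Groth.Agent.S12222

/-- (11) ⇒ (1): let R be a local ring such that every finite-type R-algebra S can be written as a
product A × B with A finite over R and R → B quasi-finite at no prime lying over the maximal ideal —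
concretely, S has an idempotent e with S/(1 − e) finite over R and R → S/(e) quasi-finite at no
prime over the maximal ideal. Then R is henselian. -/
theorem result (R : Type u) [CommRing R] [IsLocalRing R]
    (h : ∀ (S : Type u) [CommRing S] [Algebra R S] [Algebra.FiniteType R S],
      ∃ e : S, IsIdempotentElem e ∧ Module.Finite R (S ⧸ Ideal.span ({1 - e} : Set S)) ∧
        ∀ (q : Ideal (S ⧸ Ideal.span ({e} : Set S))) [q.IsPrime],
          q.LiesOver (IsLocalRing.maximalIdeal R) → ¬ Algebra.QuasiFiniteAt R q) :
    HenselianLocalRing R := by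
  haveI : HenselianRing R (IsLocalRing.maximalIdeal R) :=
    Hens22.henselianRing_of_lift _ (by rw [IsLocalRing.jacobson_eq_maximalIdeal _ bot_ne_top]) fun T _ _ _ σ => by
      obtain ⟨u, hu1, hu2⟩ := Hens22.exists_etale_nbhd (IsLocalRing.maximalIdeal R) T σ
      let Tu := Localization.Away u
      haveI : Algebra.Etale R Tu := Algebra.Etale.comp R T Tu
      let σu : Tu →ₐ[R] R ⧸ (IsLocalRing.maximalIdeal R) := IsLocalization.liftAlgHom (M := Submonoid.powers u) (f := σ) (by
        rintro ⟨y, n, rfl⟩; simp [hu1])
      have hσu : ∀ t, σu (algebraMap T Tu t) = σ t := fun t => IsLocalization.lift_eq _ t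
      have hsur : ∀ z : Tu, ∃ r : R, z - algebraMap R Tu r ∈ (IsLocalRing.maximalIdeal R).map (algebraMap R Tu) := by
        intro z
        obtain ⟨r, hr⟩ := Ideal.Quotient.mk_surjective (σu z)
        obtain ⟨⟨t, ⟨_, n, rfl⟩⟩, ht⟩ := IsLocalization.surj (Submonoid.powers u) (z - algebraMap R Tu r)
        have h0 : σ t = 0 := by
          rw [← hσu, ← ht, map_mul, map_sub, AlgHom.commutes, ← hr, Ideal.Quotient.algebraMap_eq, sub_self, zero_mul]
        have h1 := Ideal.mem_map_of_mem (algebraMap T Tu) (hu2 t h0)
        rw [Ideal.map_map, ← IsScalarTower.algebraMap_eq, map_mul, ← ht] at h1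
        have hu' : IsUnit (algebraMap T Tu u * algebraMap T Tu (u ^ n)) := by
          rw [← map_mul, ← pow_succ']
          exact IsLocalization.map_units Tu (⟨u ^ (n + 1), n + 1, rfl⟩ : Submonoid.powers u)
        refine ⟨r, (Ideal.unit_mul_mem_iff_mem _ hu').mp ?_⟩
        rw [mul_assoc, mul_comm (algebraMap T Tu (u ^ n))]
        exact h1
      obtain ⟨e, he, hfin, hB⟩ := h Tu
      have he1 : σu e = 1 := by
        have hid := he.map σu
        rcases eq_or_ne (σu e) 1 with h1 | h1
        · exact h1
        exfalso
        haveI : IsDomain (R ⧸ (IsLocalRing.maximalIdeal R)) := Ideal.Quotient.isDomain (IsLocalRing.maximalIdeal R)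
        have h0 : σu e = 0 := (IsIdempotentElem.iff_eq_zero_or_one.mp hid).resolve_right h1
        let B := Tu ⧸ Ideal.span ({e} : Set Tu)
        let ρ : B →ₐ[R] R ⧸ (IsLocalRing.maximalIdeal R) := Ideal.Quotient.liftₐ _ σu (fun x hx => by
          obtain ⟨y, rfl⟩ := Ideal.mem_span_singleton'.mp hx
          simp [h0])
        haveI : (RingHom.ker ρ).IsPrime := RingHom.ker_isPrime _
        haveI : (RingHom.ker ρ).LiesOver (IsLocalRing.maximalIdeal R) := ⟨by
          ext r
          rw [Ideal.mem_comap, RingHom.mem_ker, AlgHom.commutes]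
          exact Ideal.Quotient.eq_zero_iff_mem.symm⟩
        haveI : Algebra.QuasiFinite R Tu := Hens22.quasiFinite_of_unramified Tu
        haveI : Algebra.QuasiFinite R B :=
          Algebra.QuasiFinite.of_surjective_algHom (Ideal.Quotient.mkₐ R _) Ideal.Quotient.mk_surjective
        exact hB (RingHom.ker ρ) inferInstance inferInstance
      let I1 : Ideal Tu := Ideal.span {1 - e}
      let A' := Tu ⧸ I1
      let σ' : A' →ₐ[R] R ⧸ (IsLocalRing.maximalIdeal R) := Ideal.Quotient.liftₐ _ σu (fun x hx => by
        obtain ⟨y, rfl⟩ := Ideal.mem_span_singleton'.mp hx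
        simp [he1])
      haveI : IsLocalization.Away e A' := IsLocalization.away_of_isIdempotentElem he Ideal.mk_ker Ideal.Quotient.mk_surjective
      haveI : Algebra.Etale Tu A' := Algebra.Etale.of_isLocalizationAway e
      haveI : Algebra.Etale R A' := Algebra.Etale.comp R Tu A'
      haveI : Module.Finite R A' := hfin
      have hA'sur : Function.Surjective (algebraMap R A') := by
        have : (⊤ : Submodule R A') ≤ LinearMap.range (Algebra.linearMap R A') := by
          refine Submodule.le_of_le_smul_of_le_jacobson_bot Module.Finite.fg_top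
            (le_of_eq (IsLocalRing.jacobson_eq_maximalIdeal ⊥ bot_ne_top).symm) ?_
          rintro a -
          obtain ⟨z, rfl⟩ := Ideal.Quotient.mk_surjective a
          obtain ⟨r, hr⟩ := hsur z
          have h2 := Ideal.mem_map_of_mem (Ideal.Quotient.mk I1) hr
          rw [Ideal.map_map, map_sub] at h2
          have h3 : Ideal.Quotient.mk I1 z = algebraMap R A' r +
              (Ideal.Quotient.mk I1 z - Ideal.Quotient.mk I1 (algebraMap R Tu r)) :=
            (add_sub_cancel _ _).symm
          rw [h3]
          refine Submodule.add_mem_sup ⟨r, rfl⟩ ?_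
          rw [Ideal.smul_top_eq_map]
          exact h2
        exact fun a => this (Submodule.mem_top (x := a))
      have hinj : Function.Injective (algebraMap R A') := by
        haveI : Nontrivial A' := RingHom.domain_nontrivial σ'.toRingHom
        haveI : IsLocalHom (algebraMap R A') := IsLocalHom.of_surjective _ hA'sur
        haveI : IsLocalRing A' := IsLocalRing.of_surjective' _ hA'sur
        haveI : Module.FaithfullyFlat R A' := Module.FaithfullyFlat.of_flat_of_isLocalHom
        exact FaithfulSMul.algebraMap_injective R A'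
      let eqv : R ≃ₐ[R] A' := AlgEquiv.ofBijective (Algebra.ofId R A') ⟨hinj, hA'sur⟩
      let mkA : Tu →ₐ[R] A' := Ideal.Quotient.mkₐ R I1
      let tT : T →ₐ[R] Tu := IsScalarTower.toAlgHom R T Tu
      refine ⟨eqv.symm.toAlgHom.comp (mkA.comp tT), AlgHom.ext fun t => ?_⟩
      let r := eqv.symm (mkA (tT t))
      have hr : algebraMap R A' r = mkA (tT t) := eqv.apply_symm_apply _
      have h4 := congrArg σ' hr
      rw [AlgHom.commutes] at h4
      show algebraMap R (R ⧸ (IsLocalRing.maximalIdeal R)) r = σ t
      rw [h4]
      exact hσu t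
  exact EtAlg23.henselianLocalRing_of_henselianRing R

end Groth.Agent.S12222
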