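import Groth.Statements.S1223
import Groth.Agent.FlatCrit65.Purity.Basic
import Groth.Agent.RG29.GeomIntProj

set_option autoImplicit false
universe u
open FlatMor

namespace Groth.Agent.S1223

/-- Ring form, X = Spec B affine: a finite type, flat A-algebra B with geometrically integral fibres is
universally pure relative to Spec A. -/
theorem result {A B : Type u} [CommRing A] [CommRing B] [Algebra A B] [Algebra.FiniteType A B] [Module.Flat A B]
    (h : FlatCA.GeomIntegralFibres A B) : FlatCA.IsUnivPure A B B := by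
  intro p _ A' B' N' _ _ _ _ _ _ _ _ _ _ _ _ _ _ f t' t _ _ P _ ⟨hpush, hf, hle, hto, hPo, hass, hmiss⟩
  haveI := hpush
  haveI : Algebra.IsPushout A A' B B' := hpush.symm
  haveI := hPo
  let L := t.ResidueField
  let L' := t'.ResidueField
  let ε : TensorProduct A A' B ≃ₐ[A'] B' := Algebra.IsPushout.equiv A A' B B'
  haveI : Module.Flat A' B' := Module.Flat.of_linearEquiv ε.toLinearEquiv.symm
  let E : ∀ (K : Type u) [Field K] [Algebra A' K] [Algebra A K] [IsScalarTower A A' K],
      TensorProduct A' K B' ≃+* TensorProduct A K B := fun K _ _ _ _ =>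
    ((Algebra.TensorProduct.congr (AlgEquiv.refl (R := K) (A₁ := K)) ε.symm).toRingEquiv.trans
      (Algebra.TensorProduct.cancelBaseChange A A' K K B).toRingEquiv)
  haveI : IsDomain (TensorProduct A L' B) := Groth.Agent.RG29.isDomain_field_tensor h
  haveI : IsDomain (TensorProduct A L B) := Groth.Agent.RG29.isDomain_field_tensor h
  haveI : IsDomain (t'.Fiber B') := (E L').toMulEquiv.isDomain
  haveI : IsDomain (t.Fiber B') := (E L).toMulEquiv.isDomain
  -- the point is contained in `t' B'`
  obtain ⟨y, hy⟩ := (Groth.Agent.FlatMor67.PurePush.ass_fiber_iff t' P).1 hass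
  let e : N' ≃ₗ[B'] B' := hf.equiv.symm ≪≫ₗ TensorProduct.AlgebraTensorModule.rid B B' B'
  let Φ : TensorProduct A' N' L' →ₗ[A'] t'.Fiber B' :=
    (TensorProduct.comm A' B' L').toLinearMap ∘ₗ (e.restrictScalars A').toLinearMap.rTensor L'
  have hΦi : Function.Injective Φ :=
    (TensorProduct.comm A' B' L').injective.comp ((LinearEquiv.rTensor L' (e.restrictScalars A')).injective)
  have hΦ : ∀ (b : B') z, Φ (b • z) = Algebra.TensorProduct.includeRight b * Φ z := by
    intro b z
    induction z using TensorProduct.induction_on with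
    | zero => simp
    | add u v hu hv => simp only [smul_add, map_add, mul_add, hu, hv]
    | tmul n x =>
      simp [Φ, TensorProduct.smul_tmul', map_smul]
  have hy0 : Φ y ≠ 0 := fun h0 => Ideal.IsPrime.ne_top ‹P.IsPrime›
    ((Ideal.eq_top_iff_one P).2 ((hy 1).2 ⟨0, by rw [pow_zero, one_smul]; exact hΦi (by rw [h0, map_zero])⟩))
  let I := t'.map (algebraMap A' B')
  have hPI : ∀ b ∈ P, b ∈ I := by
    intro b hb
    obtain ⟨k, hk⟩ := (hy b).1 hb
    have h1 : (Algebra.TensorProduct.includeRight (R := A') (A := L') b : t'.Fiber B') = 0 := by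
      have h2 := hΦ (b ^ k) y
      rw [hk, map_zero, eq_comm, mul_eq_zero, or_iff_left hy0, map_pow] at h2
      exact eq_zero_of_pow_eq_zero h2
    let q : (A' ⧸ t') →ₗ[A'] L' := (IsScalarTower.toAlgHom A' (A' ⧸ t') L').toLinearMap
    have hq : Function.Injective q := IsFractionRing.injective (A' ⧸ t') L'
    have h3 : TensorProduct.tmul A' (1 : A' ⧸ t') b = 0 := by
      apply Module.Flat.rTensor_preserves_injective_linearMap (M := B') q hq
      rw [map_zero, LinearMap.rTensor_tmul]
      simpa [q] using h1
    have h4 := congrArg (Algebra.TensorProduct.quotIdealMapEquivQuotTensor B' t').symm h3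
    rw [map_zero] at h4
    rw [← Ideal.Quotient.eq_zero_iff_mem, ← h4]
    symm
    rw [AlgEquiv.symm_apply_eq]
    exact (Algebra.TensorProduct.quotIdealMapEquivQuotTensor_mk B' t' b).symm
  obtain ⟨M₁, hM₁⟩ := Ideal.exists_maximal (t.Fiber B')
  haveI := hM₁.isPrime
  let P₁ := M₁.comap (Algebra.TensorProduct.includeRight (R := A') (A := L) (B := B')).toRingHom
  haveI : P₁.IsPrime := Ideal.comap_isPrime _ _
  have hP₁ : P₁.LiesOver t := by
    constructor
    ext a
    constructor
    · intro ha
      show (Algebra.TensorProduct.includeRight (R := A') (A := L)) (algebraMap A' B' a) ∈ M₁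
      rw [AlgHom.commutes, IsScalarTower.algebraMap_apply A' L (t.Fiber B'),
        show algebraMap A' L a = 0 from Ideal.algebraMap_residueField_eq_zero.mpr ha, map_zero]
      exact M₁.zero_mem
    · intro ha
      by_contra hn
      exact hM₁.ne_top (Ideal.eq_top_of_isUnit_mem _ ha
        (Groth.Agent.CAlg6.isUnit_includeRight_algebraMap (S := B') hn))
  refine hmiss P₁ (fun b hb => ?_) hP₁
  refine Ideal.map_le_iff_le_comap.mpr (fun a ha => ?_) (hPI b hb)
  rw [Ideal.mem_comap]
  have ha2 := hle ha
  rw [Ideal.over_def P₁ t] at ha2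
  exact ha2

end Groth.Agent.S1223
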