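import Groth.Statements.S12233
import Groth.Agent.FlatCrit65.Basic
import Mathlib.RingTheory.IsTensorProduct
import Mathlib.RingTheory.Localization.BaseChange
import Mathlib.RingTheory.TensorProduct.Maps
import Mathlib.RingTheory.Flat.Stability

set_option autoImplicit false
universe u
open scoped TensorProduct
open CAlg

namespace Groth.Agent.S12233

open TensorProduct

section chase
variable {R R' : Type u} [CommRing R] [CommRing R'] [Algebra R R'] (I : Ideal R) (M : Type u) [AddCommGroup M] [Module R M]

/-- the map a ⊗ m ↦ (1 ⊗ m) ⊗ a -/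
noncomputable def psi0 : I ⊗[R] M →ₗ[R] (R' ⊗[R] M) ⊗[R'] (I.map (algebraMap R R') : Ideal R') :=
  TensorProduct.lift (LinearMap.mk₂ R (fun a m => ((1 : R') ⊗ₜ[R] m) ⊗ₜ[R'] Algebra.idealMap R' I a)
    (fun a b m => by rw [map_add, tmul_add]) (fun c a m => by rw [map_smul, tmul_smul])
    (fun a m m' => by rw [tmul_add, add_tmul]) (fun c a m => by rw [tmul_smul, ← smul_tmul']))

theorem psi0_tmul (a : I) (m : M) :
    psi0 (R' := R') I M (a ⊗ₜ m) = ((1 : R') ⊗ₜ[R] m) ⊗ₜ[R'] Algebra.idealMap R' I a := lift.tmul a m

theorem modIF {F : Type u} [AddCommGroup F] [Module R F] (h2 : Module.Flat (R ⧸ I) ((R ⧸ I) ⊗[R] M))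
    (P : Submodule R F) (w : M ⊗[R] P)
    (hw0 : (I • (⊤ : Submodule R F)).mkQ.lTensor M (P.subtype.lTensor M w) = 0) :
    ∃ w', ((I • (⊤ : Submodule R F)).comap P.subtype).subtype.lTensor M w' = w := by
  let IF : Submodule R F := I • ⊤
  let P0 : Submodule R P := IF.comap P.subtype
  let q0 : P →ₗ[R] F ⧸ IF := IF.mkQ ∘ₗ P.subtype
  let j : LinearMap.range q0 →ₗ[R] F ⧸ IF := (LinearMap.range q0).subtype
  have hj : Function.Injective j := (LinearMap.range q0).injective_subtype
  have tF : Module.IsTorsionBySet R (F ⧸ IF) I := fun x a => by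
    induction x using Submodule.Quotient.induction_on with
    | H x => exact (Submodule.Quotient.mk_eq_zero _).mpr (Submodule.smul_mem_smul a.2 Submodule.mem_top)
  have tP : Module.IsTorsionBySet R (LinearMap.range q0) I := fun x a => hj (by rw [map_smul, map_zero]; exact @tF (j x) a)
  have h5 := FlatCrit65.lTensor_injective_of_killed (M := M) h2 tP tF j hj
  have h6 : q0.rangeRestrict.lTensor M w = 0 := by
    apply h5
    rw [map_zero, ← LinearMap.lTensor_comp_apply, show j ∘ₗ q0.rangeRestrict = IF.mkQ ∘ₗ P.subtype from LinearMap.ext fun _ => rfl,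
      LinearMap.lTensor_comp_apply]
    exact hw0
  have hexq : Function.Exact P0.subtype q0.rangeRestrict := fun p => by
    constructor
    · intro hp
      exact ⟨⟨p, (Submodule.Quotient.mk_eq_zero IF).mp (congrArg Subtype.val hp)⟩, rfl⟩
    · rintro ⟨x, rfl⟩
      exact Subtype.ext ((Submodule.Quotient.mk_eq_zero IF).mpr x.2)
  exact ((lTensor_exact M hexq q0.surjective_rangeRestrict) w).mp h6

theorem chase {N : Type u} [AddCommGroup N] [Module R' N] (g : R' ⊗[R] M →ₗ[R'] N)
    (h2 : Module.Flat (R ⧸ I) ((R ⧸ I) ⊗[R] M))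
    (h3 : ∀ x : I ⊗[R] M, (Submodule.subtype I).rTensor M x = 0 → g.rTensor _ (psi0 (R' := R') I M x) = 0)
    (y : (R' ⊗[R] M) ⊗[R'] (I.map (algebraMap R R') : Ideal R'))
    (hy : (Submodule.subtype (I.map (algebraMap R R'))).lTensor (R' ⊗[R] M) y = 0) :
    g.rTensor _ y = 0 := by
  classical
  let I' : Ideal R' := I.map (algebraMap R R')
  obtain ⟨F, _, _, _, π, hπ⟩ : ∃ (F : Type u) (_ : AddCommGroup F) (_ : Module R F) (_ : Module.Flat R F)
      (π : F →ₗ[R] R'), Function.Surjective π :=
    ⟨R' →₀ R, inferInstance, inferInstance, inferInstance, Finsupp.linearCombination R id,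
      Finsupp.linearCombination_id_surjective R R'⟩
  choose σ hπ1 using hπ
  have hπ : Function.Surjective π := fun r => ⟨σ r, hπ1 r⟩
  let Ψ : (I ⊗[R] M) ⊗[R] F →ₗ[R] (R' ⊗[R] M) ⊗[R'] I' :=
    TensorProduct.lift (LinearMap.mk₂ R (fun x φ => π φ • psi0 (R' := R') I M x)
      (fun a b φ => by rw [map_add, smul_add]) (fun c a φ => by rw [map_smul, smul_comm])
      (fun a φ φ' => by rw [map_add, add_smul]) (fun c a φ => by rw [map_smul, smul_assoc]))
  have hΨ : ∀ x φ, Ψ (x ⊗ₜ φ) = π φ • psi0 (R' := R') I M x := fun x φ => lift.tmul x φ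
  let ν : (I ⊗[R] M) ⊗[R] F →ₗ[R] M ⊗[R] F :=
    ((TensorProduct.lid R M).toLinearMap ∘ₗ (Submodule.subtype I).rTensor M).rTensor F
  have hν : ∀ (a : I) m φ, ν ((a ⊗ₜ m) ⊗ₜ φ) = ((a : R) • m) ⊗ₜ φ := fun a m φ => by simp [ν]
  -- surjectivity
  have hsurj : ∀ y, y ∈ LinearMap.range Ψ := fun y => by
    induction y using TensorProduct.induction_on with
    | zero => exact zero_mem _
    | add p q hp hq => exact add_mem hp hq
    | tmul x i =>
      obtain ⟨i, hi⟩ := i
      induction x using TensorProduct.induction_on with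
      | zero => rw [zero_tmul]; exact zero_mem _
      | add p q hp hq => rw [add_tmul]; exact add_mem hp hq
      | tmul r m =>
        revert r
        induction hi using Submodule.span_induction with
        | mem i hi' =>
          obtain ⟨a, ha, rfl⟩ := hi'
          intro r
          refine ⟨((⟨a, ha⟩ : I) ⊗ₜ m) ⊗ₜ σ r, ?_⟩
          rw [hΨ, hπ1, psi0_tmul, smul_tmul', smul_tmul', smul_eq_mul, mul_one]
          rfl
        | zero => intro r; convert zero_mem (LinearMap.range Ψ); exact tmul_zero _ _
        | add i j hi' hj' ihi ihj =>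
          intro r
          convert add_mem (ihi r) (ihj r) using 1
          rw [← tmul_add]; rfl
        | smul c i hi' ih =>
          intro r
          convert ih (c * r) using 1
          rw [show (⟨c • i, _⟩ : I') = c • ⟨i, hi'⟩ from rfl, tmul_smul, smul_tmul', smul_tmul', smul_eq_mul]
  obtain ⟨z, rfl⟩ := hsurj y
  let e : M ⊗[R] F →ₗ[R] R' ⊗[R] M := (TensorProduct.comm R M R').toLinearMap ∘ₗ π.lTensor M
  have hμ : ∀ z, TensorProduct.rid R' _ ((Submodule.subtype I').lTensor (R' ⊗[R] M) (Ψ z)) = e (ν z) := fun z => by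
    induction z using TensorProduct.induction_on with
    | zero => simp
    | add p q hp hq => simp [hp, hq]
    | tmul x φ =>
      induction x using TensorProduct.induction_on with
      | zero => simp
      | add p q hp hq => simp [add_tmul, hp, hq]
      | tmul a m =>
        rw [hΨ, map_smul, map_smul, psi0_tmul, LinearMap.lTensor_tmul, TensorProduct.rid_tmul, hν]
        simp only [e, LinearMap.comp_apply, LinearEquiv.coe_coe, LinearMap.lTensor_tmul, comm_tmul,
          Submodule.subtype_apply, Algebra.idealMap_apply_coe, smul_tmul', tmul_smul, smul_eq_mul, mul_one]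
        rw [mul_comm, ← Algebra.smul_def]
  have hez : e (ν z) = 0 := by rw [← hμ, hy, map_zero]
  let P : Submodule R F := LinearMap.ker π
  have hw : π.lTensor M (ν z) = 0 := (TensorProduct.comm R M R').map_eq_zero_iff.mp hez
  obtain ⟨w, hw'⟩ := ((@lTensor_exact R (LinearMap.ker π) F R' _ _ _ _ _ _ _
    P.subtype π M _ _ π.exact_subtype_ker_map hπ) _).mp hw
  -- reduce modulo I F
  let IF : Submodule R F := I • ⊤
  have hmod : ∀ z, IF.mkQ.lTensor M (ν z) = 0 := fun z => by
    induction z using TensorProduct.induction_on with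
    | zero => simp
    | add p q hp hq => simp [hp, hq]
    | tmul x φ =>
      induction x using TensorProduct.induction_on with
      | zero => simp
      | add p q hp hq => simp [add_tmul, hp, hq]
      | tmul a m =>
        rw [hν, LinearMap.lTensor_tmul, smul_tmul, ← map_smul,
          show IF.mkQ ((a : R) • φ) = 0 from (Submodule.Quotient.mk_eq_zero _).mpr
            (Submodule.smul_mem_smul a.2 Submodule.mem_top), tmul_zero]
  obtain ⟨w', hw''⟩ := modIF I M h2 P w (by rw [hw']; exact hmod z)
  let P0 : Submodule R P := IF.comap P.subtype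
  have hpre : ∀ (m : M) (p : F), p ∈ IF → ∃ (hp : π p ∈ I') (z' : (I ⊗[R] M) ⊗[R] F),
      ν z' = m ⊗ₜ p ∧ Ψ z' = ((1 : R') ⊗ₜ[R] m) ⊗ₜ[R'] (⟨π p, hp⟩ : I') := fun m p hp => by
    refine Submodule.smul_induction_on hp (fun a ha φ _ => ?_) ?_
    · refine ⟨?_, ((⟨a, ha⟩ : I) ⊗ₜ m) ⊗ₜ φ, ?_, ?_⟩
      · rw [map_smul, Algebra.smul_def]
        exact Ideal.mul_mem_right _ _ (Ideal.mem_map_of_mem _ ha)
      · rw [hν, smul_tmul]
      · rw [hΨ, psi0_tmul, ← tmul_smul]
        congr 1
        refine Subtype.ext ?_
        show π φ * algebraMap R R' a = π (a • φ)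
        rw [map_smul, Algebra.smul_def, mul_comm]
    · rintro p q ⟨hp, z, h1, h2⟩ ⟨hq, z', h1', h2'⟩
      refine ⟨by rw [map_add]; exact add_mem hp hq, z + z', by rw [map_add, h1, h1', tmul_add], ?_⟩
      rw [map_add, h2, h2', ← tmul_add]
      congr 1
      exact Subtype.ext (map_add π p q).symm
  have hlift : ∀ w' : M ⊗[R] P0, ∃ z', ν z' = P.subtype.lTensor M (P0.subtype.lTensor M w') ∧ Ψ z' = 0 := fun w' => by
    induction w' using TensorProduct.induction_on with
    | zero => exact ⟨0, by simp, map_zero _⟩
    | add p q hp hq =>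
      obtain ⟨a, ha, ha'⟩ := hp
      obtain ⟨b, hb, hb'⟩ := hq
      exact ⟨a + b, by simp [ha, hb], by rw [map_add, ha', hb', add_zero]⟩
    | tmul m p =>
      obtain ⟨hp, z', h1, h2⟩ := hpre m _ p.2
      refine ⟨z', h1, h2.trans ?_⟩
      rw [show (⟨π _, hp⟩ : I') = 0 from Subtype.ext (show π ((p : P) : F) = 0 from (p : P).2), tmul_zero]
  obtain ⟨z', hz', hz'0⟩ := hlift w'
  let K := LinearMap.ker ((TensorProduct.lid R M).toLinearMap ∘ₗ (Submodule.subtype I).rTensor M)
  have hker : ν (z - z') = 0 := by rw [map_sub, hz', hw'', hw', sub_self]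
  obtain ⟨k, hk⟩ := ((Module.Flat.rTensor_exact F (LinearMap.exact_subtype_ker_map _)) (z - z')).mp hker
  have hk0 : ∀ k : K ⊗[R] F, g.rTensor _ (Ψ (K.subtype.rTensor F k)) = 0 := fun k => by
    induction k using TensorProduct.induction_on with
    | zero => simp
    | add p q hp hq => simp [hp, hq]
    | tmul x φ =>
      rw [LinearMap.rTensor_tmul, hΨ, map_smul]
      exact (congrArg (π φ • ·) (h3 _ ((TensorProduct.lid R M).map_eq_zero_iff.mp x.2))).trans (smul_zero _)
  have := hk0 k
  rw [hk, map_sub, hz'0] at this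
  exact (congrArg (g.rTensor I') (sub_zero (Ψ z))).symm.trans this

end chase

attribute [local instance] Algebra.TensorProduct.rightAlgebra in

/-- Let R → S, R → R', S → S' and R' → S' be local homomorphisms of Noetherian local rings forming a
commutative square, I ⊊ R an ideal, M a finite S-module, I' = IR' and M' = M ⊗_S S' (given through a
base-change map f : M → M'). Assume (1) S' is a localization of S ⊗_R R' via the induced map, (2)
M/IM is flat over R/I, and (3) the map Tor_1^R(M, R/I) → Tor_1^{R'}(M', R'/I') is zero — with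
Tor_1(−, R/I) computed as the kernel of I ⊗_R M → M, this says that every element of that kernel
goes to zero under the natural map I ⊗_R M → I' ⊗_{R'} M'. Then M' is flat over R'. -/
theorem result
    (R S R' S' : Type u) [CommRing R] [CommRing S] [CommRing R'] [CommRing S']
    [IsLocalRing R] [IsLocalRing S] [IsLocalRing R'] [IsLocalRing S']
    [IsNoetherianRing R] [IsNoetherianRing S] [IsNoetherianRing R'] [IsNoetherianRing S']
    [Algebra R S] [Algebra R R'] [Algebra S S'] [Algebra R' S'] [Algebra R S']
    [IsScalarTower R S S'] [IsScalarTower R R' S']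
    [IsLocalHom (algebraMap R S)] [IsLocalHom (algebraMap R R')] [IsLocalHom (algebraMap S S')]
    [IsLocalHom (algebraMap R' S')]
    (I : Ideal R) (hI : I ≠ ⊤) (M : Type u) [AddCommGroup M] [Module S M] [Module R M] [IsScalarTower R S M]
    [Module.Finite S M]
    (M' : Type u) [AddCommGroup M'] [Module S' M'] [Module R' M'] [IsScalarTower R' S' M']
    [Module S M'] [IsScalarTower S S' M'] [Module R M'] [IsScalarTower R R' M'] [IsScalarTower R S M']
    (f : M →ₗ[S] M') (hf : IsBaseChange S' f)
    (h1 : ∃ W : Submonoid (S ⊗[R] R'),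
      letI : Algebra (S ⊗[R] R') S' :=
        (Algebra.TensorProduct.lift (IsScalarTower.toAlgHom R S S') (IsScalarTower.toAlgHom R R' S')
          (fun s r => Commute.all _ _)).toRingHom.toAlgebra;
      IsLocalization W S')
    (h2 : Module.Flat (R ⧸ I) ((R ⧸ I) ⊗[R] M))
    (h3 : ∀ x : ↥I ⊗[R] M, (Submodule.subtype I).rTensor M x = 0 →
      (TensorProduct.mapOfCompatibleSMul R' R R ↥(I.map (algebraMap R R')) M')
        ((TensorProduct.map (Algebra.idealMap R' I) (f.restrictScalars R)) x) = 0) :
    Module.Flat R' M' := by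
  classical
  let T := S ⊗[R] R'
  let I' : Ideal R' := I.map (algebraMap R R')
  obtain ⟨W, hW⟩ := h1
  letI algTS : Algebra T S' := (Algebra.TensorProduct.lift (IsScalarTower.toAlgHom R S S')
    (IsScalarTower.toAlgHom R R' S') (fun s r => Commute.all _ _)).toRingHom.toAlgebra
  haveI := hW
  haveI : IsScalarTower S T S' := IsScalarTower.of_algebraMap_eq fun s => by
    show algebraMap S S' s = Algebra.TensorProduct.lift _ _ _ (s ⊗ₜ (1 : R'))
    simp
  haveI : IsScalarTower R' T S' := IsScalarTower.of_algebraMap_eq fun r => by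
    show algebraMap R' S' r = Algebra.TensorProduct.lift _ _ _ ((1 : S) ⊗ₜ r)
    simp
  letI : Module T M' := Module.compHom M' (algebraMap T S')
  haveI : IsScalarTower T S' M' := IsScalarTower.of_algebraMap_smul fun t x => rfl
  haveI : IsScalarTower S T M' := IsScalarTower.of_algebraMap_smul fun s x => by
    show algebraMap T S' (algebraMap S T s) • x = s • x
    rw [← IsScalarTower.algebraMap_apply, algebraMap_smul]
  haveI : IsScalarTower R' T M' := IsScalarTower.of_algebraMap_smul fun s x => by
    show algebraMap T S' (algebraMap R' T s) • x = s • x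
    rw [← IsScalarTower.algebraMap_apply, algebraMap_smul]
  let k : T ⊗[S] M →ₗ[T] M' := LinearMap.liftBaseChange T f
  haveI : IsLocalizedModule W k := by
    rw [isLocalizedModule_iff_isBaseChange W S']
    refine IsBaseChange.of_comp (TensorProduct.isBaseChange S M T) ?_
    have e : ((k : T ⊗[S] M →ₗ[S] M') ∘ₗ TensorProduct.mk S T M 1) = f := LinearMap.ext fun m => by simp [k]
    rw [e]
    exact hf
  haveI : Algebra.IsPushout R R' S T := Algebra.IsPushout.symm inferInstance
  let E : R' ⊗[R] M ≃ₗ[R'] T ⊗[S] M := (Algebra.IsPushout.cancelBaseChange R R' S T M).symm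
  have hE : ∀ (r : R') (m : M), E (r ⊗ₜ m) = algebraMap R' T r ⊗ₜ m :=
    fun r m => Algebra.IsPushout.cancelBaseChange_symm_tmul ..
  let g : R' ⊗[R] M →ₗ[R'] M' := (k.restrictScalars R') ∘ₗ E.toLinearMap
  have hg : ∀ m, g (1 ⊗ₜ m) = f m := fun m => by
    show k (E (1 ⊗ₜ m)) = f m
    rw [hE, map_one]
    simp [k]
  -- transfer hypothesis (3)
  have h3' : ∀ x : I ⊗[R] M, (Submodule.subtype I).rTensor M x = 0 → g.rTensor _ (psi0 (R' := R') I M x) = 0 := by
    intro x hx
    have key : g.rTensor _ (psi0 (R' := R') I M x) = TensorProduct.comm R' I' M'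
        ((TensorProduct.mapOfCompatibleSMul R' R R I' M')
          ((TensorProduct.map (Algebra.idealMap R' I) (f.restrictScalars R)) x)) := by
      clear hx
      induction x using TensorProduct.induction_on with
      | zero => simp
      | add p q hp hq => simp [hp, hq]
      | tmul a m =>
        rw [psi0_tmul, LinearMap.rTensor_tmul, hg]
        rfl
    rw [key, h3 x hx, map_zero]
  -- first condition
  have hinj : Function.Injective ((Submodule.subtype I').lTensor M') := by
    refine (injective_iff_map_eq_zero _).mpr fun y hy => ?_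
    obtain ⟨⟨y1, s⟩, hs⟩ := IsLocalizedModule.surj W (AlgebraTensorModule.rTensor R' I' k) y
    dsimp only at hs
    have h0 : AlgebraTensorModule.rTensor R' R' k (AlgebraTensorModule.lTensor T (T ⊗[S] M) (Submodule.subtype I') y1) = 0 := by
      have e1 : AlgebraTensorModule.rTensor R' R' k (AlgebraTensorModule.lTensor T (T ⊗[S] M) (Submodule.subtype I') y1) =
          AlgebraTensorModule.lTensor T M' (Submodule.subtype I') (AlgebraTensorModule.rTensor R' I' k y1) := by
        clear hs
        induction y1 using TensorProduct.induction_on with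
        | zero => simp
        | add p q hp hq => simp only [map_add, hp, hq]
        | tmul a i => simp
      rw [e1, ← hs, Submonoid.smul_def, map_smul,
        show AlgebraTensorModule.lTensor T M' (Submodule.subtype I') y = 0 from hy, smul_zero]
    obtain ⟨t, ht⟩ := (IsLocalizedModule.eq_zero_iff W (AlgebraTensorModule.rTensor R' R' k)).mp h0
    rw [Submonoid.smul_def, ← map_smul] at ht
    have hch := chase I M g h2 h3' ((E.symm.toLinearMap).rTensor I' ((t : T) • y1)) (by
      rw [← LinearMap.comp_apply, LinearMap.lTensor_comp_rTensor, ← LinearMap.rTensor_comp_lTensor, LinearMap.comp_apply]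
      rw [show (Submodule.subtype I').lTensor (T ⊗[S] M) ((t : T) • y1) = 0 from ht, map_zero])
    rw [← LinearMap.rTensor_comp_apply, show g ∘ₗ E.symm.toLinearMap = k.restrictScalars R' from
      LinearMap.ext fun x => by simp [g]] at hch
    change AlgebraTensorModule.rTensor R' I' k ((t : T) • y1) = 0 at hch
    rw [map_smul, ← hs, Submonoid.smul_def, ← mul_smul] at hch
    have hu : Function.Bijective fun x : M' ⊗[R'] I' => ((t : T) * (s : T)) • x :=
      (Module.End.isUnit_iff _).mp (IsLocalizedModule.map_units (AlgebraTensorModule.rTensor R' I' k) (t * s))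
    exact hu.1 (by simpa using hch)
  -- second condition
  have hflat : Module.Flat (R' ⧸ I') ((R' ⧸ I') ⊗[R'] M') := by
    let Q := R' ⧸ I'
    letI : Algebra (R ⧸ I) Q := (Ideal.Quotient.lift I ((Ideal.Quotient.mk I').comp (algebraMap R R')) fun a ha =>
      Ideal.Quotient.eq_zero_iff_mem.mpr (Ideal.mem_map_of_mem _ ha)).toAlgebra
    haveI : IsScalarTower R (R ⧸ I) Q := IsScalarTower.of_algebraMap_eq fun _ => rfl
    haveI := h2
    haveI : Module.Flat Q (Q ⊗[R ⧸ I] ((R ⧸ I) ⊗[R] M)) := inferInstance
    haveI hQ : Module.Flat Q (Q ⊗[R'] (R' ⊗[R] M)) :=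
      Module.Flat.of_linearEquiv (AlgebraTensorModule.cancelBaseChange R R' Q Q M ≪≫ₗ
        (AlgebraTensorModule.cancelBaseChange R (R ⧸ I) Q Q M).symm)
    rw [Module.Flat.iff_rTensor_injective']
    intro J
    let sJ : J →ₗ[R'] Q := (Submodule.subtype J).restrictScalars R'
    have hkill : Function.Injective (sJ.lTensor (R' ⊗[R] M)) :=
      FlatCrit65.lTensor_injective_of_killed (M := R' ⊗[R] M) (I := I') hQ
        (fun x a => Subtype.ext (by
          show (a : R') • (x : Q) = 0
          obtain ⟨y, hy⟩ := Ideal.Quotient.mk_surjective (x : Q)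
          rw [← hy]
          exact Ideal.Quotient.eq_zero_iff_mem.mpr (Ideal.mul_mem_right y _ a.2)))
        (fun x a => by
          obtain ⟨x, rfl⟩ := Ideal.Quotient.mk_surjective x
          exact Ideal.Quotient.eq_zero_iff_mem.mpr (Ideal.mul_mem_right x _ a.2)) sJ J.injective_subtype
    have hkill' : Function.Injective (AlgebraTensorModule.lTensor T (T ⊗[S] M) sJ) := by
      intro a b hab
      apply (TensorProduct.congr E.symm (LinearEquiv.refl R' J)).injective
      apply hkill
      have := congrArg (E.symm.toLinearMap.rTensor Q) (show sJ.lTensor (T ⊗[S] M) a = sJ.lTensor (T ⊗[S] M) b from hab)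
      rw [← LinearMap.comp_apply, ← LinearMap.comp_apply, LinearMap.rTensor_comp_lTensor, ← LinearMap.lTensor_comp_rTensor] at this
      exact this
    have hmap := IsLocalizedModule.map_injective W (AlgebraTensorModule.rTensor R' J k)
      (AlgebraTensorModule.rTensor R' Q k) (AlgebraTensorModule.lTensor T (T ⊗[S] M) sJ) hkill'
    rw [IsLocalizedModule.map_lTensor] at hmap
    have hr : Function.Injective (sJ.rTensor M') := by
      rw [← LinearMap.lTensor_inj_iff_rTensor_inj]
      exact hmap
    have key : ∀ x : J ⊗[Q] (Q ⊗[R'] M'),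
        AlgebraTensorModule.cancelBaseChange R' Q Q Q M' ((Submodule.subtype J).rTensor _ x) =
          sJ.rTensor M' (AlgebraTensorModule.cancelBaseChange R' Q Q J M' x) := by
      intro x
      induction x with
      | zero => rw [map_zero, map_zero, map_zero, map_zero]
      | add a b ha hb => rw [map_add, map_add, ha, hb, map_add, map_add]
      | tmul p y =>
        induction y with
        | zero => rw [tmul_zero, map_zero, map_zero, map_zero, map_zero]
        | add a b ha hb => rw [tmul_add, map_add, map_add, ha, hb, map_add, map_add]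
        | tmul a m =>
          rw [LinearMap.rTensor_tmul, AlgebraTensorModule.cancelBaseChange_tmul, AlgebraTensorModule.cancelBaseChange_tmul,
            LinearMap.rTensor_tmul]
          rfl
    intro a b hab
    apply (AlgebraTensorModule.cancelBaseChange R' Q Q J M').injective
    apply hr
    rw [← key, ← key, hab]
  have hI' : I' ≠ ⊤ := fun h => by
    have : I' ≤ IsLocalRing.maximalIdeal R' := (Ideal.map_mono (IsLocalRing.le_maximalIdeal hI)).trans
      (((IsLocalRing.local_hom_TFAE (algebraMap R R')).out 0 2).mp (show IsLocalHom (algebraMap R R') from inferInstance))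
    exact (IsLocalRing.maximalIdeal.isMaximal R').ne_top (top_le_iff.mp (h ▸ this))
  haveI : Module.Finite S' M' := Module.Finite.equiv hf.equiv
  exact FlatCrit65.flat_of_lexQuot_of_isLocalRing (S := S') hI'
    (FlatCrit65.torTriv_of_injective hinj hflat).lexQuot

end Groth.Agent.S12233
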