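import Groth.Statements.S12235
import Groth.Agent.Ega11.GeomIrrNorm
-- import your own Groth.Agent.* helpers here

set_option autoImplicit false
universe u
open CategoryTheory CategoryTheory.Limits AlgebraicGeometry
open Curves

namespace Groth.Agent.S12235

/-- Let k be a field, X a proper geometrically irreducible curve over k (proper over k, integral, of
dimension one), K/k a field extension and Y_K the normalization of the reduction of X_K (that
reduction is integral). If Y_K is smooth over K then H^0(Y_K, O) = K: the global functions of Y_K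
form a one-dimensional K-vector space. (Stated for proper X; the instance hypotheses on (X_K)_red
always hold.) -/
theorem result (k : Type u) [Field k] (X : Scheme.{u})
    [X.Over (Spec (CommRingCat.of k))] [IsIntegral X] [IsProper (X ↘ (Spec (CommRingCat.of k)))]
    [GeometricallyIrreducible (X ↘ (Spec (CommRingCat.of k)))] (hdim : topologicalKrullDim X = 1)
    (K : Type u) [Field K] [Algebra k K] [IsIntegral ((Curv2.bc k X K).nilradical).subscheme]
    [QuasiCompact ((((Curv2.bc k X K).nilradical).subscheme).fromSpecStalk (genericPoint ((Curv2.bc k X K).nilradical).subscheme))]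
    [QuasiSeparated ((((Curv2.bc k X K).nilradical).subscheme).fromSpecStalk (genericPoint ((Curv2.bc k X K).nilradical).subscheme))]
    (hsm : Smooth (Curv2.normalizationι ((Curv2.bc k X K).nilradical).subscheme ≫ ((Curv2.bc k X K).nilradical).subschemeι ≫ Curv2.bcSnd k X K)) :
    letI : (Curv2.normalization ((Curv2.bc k X K).nilradical).subscheme).Over (Spec (CommRingCat.of K)) := ⟨(Curv2.normalizationι ((Curv2.bc k X K).nilradical).subscheme ≫ ((Curv2.bc k X K).nilradical).subschemeι ≫ Curv2.bcSnd k X K)⟩
    Module.finrank K (Coh.HH (Curv2.normalization ((Curv2.bc k X K).nilradical).subscheme) (Coh.structureModule (Curv2.normalization ((Curv2.bc k X K).nilradical).subscheme)) 0) = 1 := by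
  set Z := ((Curv2.bc k X K).nilradical).subscheme
  set s := ((Curv2.bc k X K).nilradical).subschemeι ≫ Curv2.bcSnd k X K with hs
  haveI : IsProper (Curv2.bcSnd k X K) := MorphismProperty.pullback_snd (P := @IsProper) _ _ inferInstance
  haveI : GeometricallyIrreducible (Curv2.bcSnd k X K) :=
    MorphismProperty.pullback_snd (P := @GeometricallyIrreducible) _ _ inferInstance
  letI : Z.Over (Spec (CommRingCat.of K)) := ⟨s⟩
  haveI : IsProper (Z ↘ Spec (CommRingCat.of K)) :=
    inferInstanceAs (IsProper (((Curv2.bc k X K).nilradical).subschemeι ≫ Curv2.bcSnd k X K))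
  haveI : GeometricallyIrreducible (Z ↘ Spec (CommRingCat.of K)) :=
    Ega11.GeomIrrNorm.geometricallyIrreducible_nilradical (Curv2.bcSnd k X K)
  letI : (Curv2.normalization Z).Over (Spec (CommRingCat.of K)) := ⟨Curv2.normalizationι Z ≫ s⟩
  haveI := Ega11.NormCurve.isFinite K Z
  haveI : IsProper (Curv2.normalization Z ↘ Spec (CommRingCat.of K)) :=
    inferInstanceAs (IsProper (Curv2.normalizationι Z ≫ s))
  haveI : Smooth (Curv2.normalization Z ↘ Spec (CommRingCat.of K)) := hsm
  obtain ⟨V, hne, hiso⟩ := (Groth.Agent.S1585.result K Z).2.2.1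
  haveI := hiso
  haveI : GeometricallyIrreducible (Curv2.normalization Z ↘ Spec (CommRingCat.of K)) :=
    Ega11.GeomIrrNorm.geometricallyIrreducible_of_birational (Curv2.normalizationι Z)
      (Z ↘ Spec (CommRingCat.of K)) V hne
  exact Crv77.finrank_h0_of_smooth K (Curv2.normalization Z)

end Groth.Agent.S12235
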