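import Groth.Statements.S12238
import Groth.Agent.Big47.EtaleFiniteBC
import Groth.Agent.Big45.Exact
import Groth.Agent.Big45.BaseChange
import Groth.Agent.Unr55.Et.FinitePushExact

set_option autoImplicit false
open CategoryTheory CategoryTheory.Limits AlgebraicGeometry Opposite
universe u
open BigSite Groth.Agent

namespace Groth.Agent.S12238

/-- Let f : T → S be a finite morphism of schemes and F an arbitrary abelian sheaf on the small étale
site of T. Then for every q the abelian sheaves π_S⁻¹(R^q f_small,* F) and R^q f_big,*(π_T⁻¹ F) on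
the big étale site of S are isomorphic, where π⁻¹ denotes pullback from the small to the big étale
site. Existence of an isomorphism only; this is what the comparison π_S⁻¹ Rf_small,* K = Rf_big,*
π_T⁻¹ K, valid for every complex K when f is finite, gives on cohomology sheaves for K = F placed in
degree 0. -/
theorem result {T S : Scheme.{u}} (f : T ⟶ S) [IsFinite f]
    (F : EtCoh.Ab T) (q : ℕ) :
    Nonempty ((BigSite.piEtPull Scheme.etalePrecoverage S).obj ((EtCoh.Rpush f q).obj F) ≅
      (BigSite.RpushBig Scheme.etalePrecoverage f q).obj ((BigSite.piEtPull Scheme.etalePrecoverage T).obj F)) := by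
  rcases Nat.eq_zero_or_pos q with rfl | hq
  · have := Big47.isIso_bcMapE f F
    have : PreservesFiniteLimits (EtCoh.push f) :=
      ⟨fun J _ _ => (EtCoh.pullPushAdj f).rightAdjoint_preservesLimits.preservesLimitsOfShape⟩
    have : PreservesFiniteLimits (BigSite.pushBig Scheme.etalePrecoverage f AddCommGrpCat.{u + 1}) :=
      ⟨fun J _ _ => (BigSite.bigAdj Scheme.etalePrecoverage f
        AddCommGrpCat.{u + 1}).rightAdjoint_preservesLimits.preservesLimitsOfShape⟩
    exact ⟨(BigSite.piEtPull Scheme.etalePrecoverage S).mapIso
        ((EtCoh.push f).rightDerivedZeroIsoSelf.app F) ≪≫ asIso (Big47.bcMapE f F) ≪≫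
      ((BigSite.pushBig Scheme.etalePrecoverage f AddCommGrpCat.{u + 1}).rightDerivedZeroIsoSelf.app
        ((BigSite.piEtPull Scheme.etalePrecoverage T).obj F)).symm⟩
  · have h1 : IsZero ((BigSite.piEtPull Scheme.etalePrecoverage S).obj ((EtCoh.Rpush f q).obj F)) :=
      Functor.map_isZero _ (Unr55.EtSh.isZero_Rpush_of_finite f F q hq)
    have h2 : IsZero ((BigSite.RpushBig Scheme.etalePrecoverage f q).obj
        ((BigSite.piEtPull Scheme.etalePrecoverage T).obj F)) := by
      let R := (BigSite.RpushBig Scheme.etalePrecoverage f q).obj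
        ((BigSite.piEtPull Scheme.etalePrecoverage T).obj F)
      have : Mono (0 : R ⟶ R) :=
        Big45.mono_of_resEtAlong _ fun {S'} g => by
          have hz : IsZero ((BigSite.resEtAlong Scheme.etalePrecoverage g).obj R) :=
            (Unr55.EtSh.isZero_Rpush_of_finite (pullback.snd f g) _ q hq).of_iso
              (Big45.rpushAlongIso (IsPullback.of_hasPullback f g) _ q)
          exact ⟨fun a b _ => hz.eq_of_tgt a b⟩
      rw [IsZero.iff_id_eq_zero]
      exact (cancel_mono (0 : R ⟶ R)).1 (by simp)
    exact ⟨h1.iso h2⟩

end Groth.Agent.S12238
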