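import Groth.Statements.S12240
import Groth.Agent.Ega11.NormBC
-- import your own Groth.Agent.* helpers here

set_option autoImplicit false
universe u
open CategoryTheory CategoryTheory.Limits AlgebraicGeometry
open Curves

namespace Groth.Agent.S12240

/-- Stated over the field where the nonsingular projective model is already smooth. Let K be a field and
X a proper geometrically irreducible curve over K (proper over K, integral, of dimension one) whose
normalization Y = X^ν is smooth over K. Then for every field extension Ω of K the base change Y_Ω,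
together with its map to X_Ω, is the normalization of the reduction (X_Ω)_red: there is an
isomorphism from Y_Ω to the normalization of (X_Ω)_red whose composite with the normalization map
and the closed immersion (X_Ω)_red → X_Ω is the base change Y_Ω → X_Ω of Y → X. (Applied to the
reduction of the base change of a geometrically irreducible proper curve to a field over which its
nonsingular projective model becomes smooth, this says that the smooth model is compatible with all
further field extensions; the instance hypotheses on (X_Ω)_red — integrality and the two conditions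
needed to form the normalization — always hold.) -/
theorem result (K : Type u) [Field K] (X : Scheme.{u})
    [X.Over (Spec (CommRingCat.of K))] [IsIntegral X] [IsProper (X ↘ (Spec (CommRingCat.of K)))]
    [GeometricallyIrreducible (X ↘ (Spec (CommRingCat.of K)))] (hdim : topologicalKrullDim X = 1)
    [QuasiCompact (X.fromSpecStalk (genericPoint X))] [QuasiSeparated (X.fromSpecStalk (genericPoint X))]
    (hsm : Smooth (Curv2.normalizationι X ≫ (X ↘ (Spec (CommRingCat.of K)))))
    (Ω : Type u) [Field Ω] [Algebra K Ω]
    [IsIntegral ((Curv2.bc K X Ω).nilradical).subscheme]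
    [QuasiCompact ((((Curv2.bc K X Ω).nilradical).subscheme).fromSpecStalk (genericPoint ((Curv2.bc K X Ω).nilradical).subscheme))]
    [QuasiSeparated ((((Curv2.bc K X Ω).nilradical).subscheme).fromSpecStalk (genericPoint ((Curv2.bc K X Ω).nilradical).subscheme))] :
    ∃ e : Limits.pullback (Curv2.normalizationι X ≫ (X ↘ (Spec (CommRingCat.of K))))
          (Spec.map (CommRingCat.ofHom (algebraMap K Ω))) ≅
        Curv2.normalization ((Curv2.bc K X Ω).nilradical).subscheme,
      e.hom ≫ Curv2.normalizationι ((Curv2.bc K X Ω).nilradical).subscheme ≫ ((Curv2.bc K X Ω).nilradical).subschemeι =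
        Limits.pullback.map (Curv2.normalizationι X ≫ (X ↘ (Spec (CommRingCat.of K))))
          (Spec.map (CommRingCat.ofHom (algebraMap K Ω))) (X ↘ (Spec (CommRingCat.of K)))
          (Spec.map (CommRingCat.ofHom (algebraMap K Ω))) (Curv2.normalizationι X) (𝟙 _) (𝟙 _)
          (Category.comp_id _) ((Category.comp_id _).trans (Category.id_comp _).symm) := by
  set B := Curv2.bc K X Ω
  set sK := X ↘ Spec (CommRingCat.of K) with hsK
  set ω := Spec.map (CommRingCat.ofHom (algebraMap K Ω))
  set π := Curv2.normalizationι X with hπ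
  haveI : IsFinite π := Ega11.NormCurve.isFinite K X
  haveI := hsm
  obtain ⟨V, hne, hiso⟩ := (Groth.Agent.S1585.result K X).2.2.1
  haveI := hiso
  haveI : GeometricallyIrreducible (π ≫ sK) :=
    Ega11.GeomIrrNorm.geometricallyIrreducible_of_birational π sK V hne
  set P := Limits.pullback (π ≫ sK) ω with hP
  haveI : Smooth (pullback.snd (π ≫ sK) ω) := MorphismProperty.pullback_snd (P := @Smooth) _ _ hsm
  haveI : IsReduced P := AlgGrp79.isReduced_of_smooth (pullback.snd (π ≫ sK) ω)
  haveI : IrreducibleSpace ↥P :=
    GeometricallyIrreducible.geometrically_irreducibleSpace (f := π ≫ sK) _ _ _ (IsPullback.of_hasPullback _ _)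
  haveI : IsIntegral P := isIntegral_of_irreducibleSpace_of_isReduced P
  set m := Limits.pullback.map (π ≫ sK) ω sK ω π (𝟙 _) (𝟙 _) (Category.comp_id _)
    ((Category.comp_id _).trans (Category.id_comp _).symm) with hm
  have hpb : IsPullback (pullback.fst (π ≫ sK) ω) m π (pullback.fst sK ω) := by
    refine IsPullback.of_bot ?_ (pullback.lift_fst _ _ _).symm (IsPullback.of_hasPullback sK ω)
    rw [show m ≫ pullback.snd sK ω = pullback.snd (π ≫ sK) ω from (pullback.lift_snd _ _ _).trans (Category.comp_id _)]
    exact IsPullback.of_hasPullback _ _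
  haveI : IsFinite m := MorphismProperty.of_isPullback hpb inferInstance
  set i := (Curv2.bc K X Ω).nilradical.subschemeι
  let g : P ⟶ (Curv2.bc K X Ω).nilradical.subscheme := IsClosedImmersion.lift i m
    (by rw [Scheme.IdealSheafData.ker_subschemeι]; exact Ega11.NormBC.nilradical_le_ker m)
  have hg : g ≫ i = m := IsClosedImmersion.lift_fac _ _ _
  haveI : IsFinite (g ≫ i) := by rw [hg]; infer_instance
  haveI : IsFinite g := IsFinite.of_comp g i
  let VB : (Curv2.bc K X Ω).Opens := pullback.fst sK ω ⁻¹ᵁ V
  haveI hmV : IsIso (m ∣_ VB) := Ega11.NormBC.isIso_restrict_baseChange hpb V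
  let WZ : (Curv2.bc K X Ω).nilradical.subscheme.Opens := i ⁻¹ᵁ VB
  haveI : IsIso (g ∣_ WZ) :=
    haveI : IsIso ((g ≫ i) ∣_ VB) := by rw [hg]; exact hmV
    Ega11.NormBC.isIso_restrict_factor g i VB
  have hWne : (WZ : Set (Curv2.bc K X Ω).nilradical.subscheme).Nonempty := by
    obtain ⟨v, hv⟩ := hne
    obtain ⟨b, hb⟩ := (pullback.fst sK ω).surjective v
    have hb' : b ∈ Set.range i := by
      rw [Scheme.IdealSheafData.range_subschemeι, Scheme.support_nilradical]; trivial
    obtain ⟨z, rfl⟩ := hb'
    exact ⟨z, show pullback.fst sK ω (i z) ∈ V by rw [hb]; exact hv⟩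
  haveI : IsProper (Curv2.bcSnd K X Ω) := MorphismProperty.pullback_snd (P := @IsProper) _ _ inferInstance
  letI : (Curv2.bc K X Ω).nilradical.subscheme.Over (Spec (CommRingCat.of Ω)) := ⟨i ≫ Curv2.bcSnd K X Ω⟩
  haveI : LocallyOfFiniteType ((Curv2.bc K X Ω).nilradical.subscheme ↘ Spec (CommRingCat.of Ω)) :=
    inferInstanceAs (LocallyOfFiniteType (i ≫ Curv2.bcSnd K X Ω))
  haveI := Ega11.NormCurve.isFinite Ω (Curv2.bc K X Ω).nilradical.subscheme
  obtain ⟨W', hW', hiso'⟩ := (Groth.Agent.S1585.result Ω (Curv2.bc K X Ω).nilradical.subscheme).2.2.1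
  haveI := hiso'
  have hfield : Pi1.IsNormalScheme (Spec (CommRingCat.of Ω)) := fun x => by
    have h := (IsLocalRing.isField_iff_maximalIdeal_eq).mpr (FlatMor68.FibreStalk.spec_field_stalk_maximalIdeal Ω x)
    letI := h.toField
    exact ⟨inferInstance, inferInstance⟩
  obtain ⟨e, he⟩ := Ega11.NormBC.exists_iso g
    (FlatMor68.NormSmooth.isNormalScheme_of_smooth (pullback.snd (π ≫ sK) ω) hfield)
    (Ega11.NormCurve.isNormal Ω (Curv2.bc K X Ω).nilradical.subscheme) WZ hWne W' hW'
  exact ⟨e, by rw [reassoc_of% he, hg]⟩

end Groth.Agent.S12240
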