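import Groth.Statements.S1225
import Groth.Agent.FlatCrit65.Purity.Basic

set_option autoImplicit false
universe u
open FlatMor

namespace Groth.Agent.S1225

open IsLocalRing in
/-- Ring form, X = Spec B affine: let A be a local ring, B a finite type A-algebra and N a finite
B-module which is flat over A and pure along the closed fibre. Then a B-linear map φ from N to any
B-module is injective if and only if its localization at q is injective for every prime q of B over
𝔪_A whose extension to the closed fibre ring is an associated prime of the closed fibre module. -/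
theorem result {A B : Type u} [CommRing A] [IsLocalRing A] [CommRing B] [Algebra A B] [Algebra.FiniteType A B]
    (N : Type u) [AddCommGroup N] [Module B N] [Module A N] [IsScalarTower A B N] [Module.Finite B N] [Module.Flat A N]
    (hpure : FlatCA.IsPureAlong A B N (maximalIdeal A))
    (N' : Type u) [AddCommGroup N'] [Module B N'] (φ : N →ₗ[B] N') :
    Function.Injective φ ↔ ∀ (q : Ideal B) [q.IsPrime], q.LiesOver (maximalIdeal A) →
      FlatCA.fiberIdeal (maximalIdeal A) q ∈ associatedPrimes ((maximalIdeal A).Fiber B) (FlatCA.fiberMod (maximalIdeal A) B N) →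
      Function.Injective (LocalizedModule.map q.primeCompl φ) := by
  classical
  constructor
  · intro hφ q _ _ _
    exact LocalizedModule.map_injective q.primeCompl φ hφ
  · intro hloc
    refine (injective_iff_map_eq_zero φ).2 fun n hn => ?_
    by_contra hne
    have hann : (Submodule.span B {n}).annihilator ≠ ⊤ := fun htop => hne (by
      have h1 := Groth.Agent.CAlg5.mem_ann.mp (htop ▸ Submodule.mem_top : (1 : B) ∈ (Submodule.span B {n}).annihilator)
      rwa [one_smul] at h1)
    obtain ⟨M₀, hM₀, hM₀le⟩ := Ideal.exists_le_maximal _ hann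
    obtain ⟨Q, hQ, -⟩ := Ideal.exists_minimalPrimes_le (J := M₀) hM₀le
    haveI := hQ.1.1
    let t' := Q.comap (algebraMap A B)
    haveI : Q.LiesOver t' := ⟨rfl⟩
    have hQw : Q ∈ FlatCA.weakAss B (TensorProduct A N A) := by
      refine ⟨TensorProduct.tmul A n (1 : A), ?_⟩
      have he : (Submodule.span B {TensorProduct.tmul A n (1 : A)}).annihilator = (Submodule.span B {n}).annihilator := by
        ext b
        rw [Groth.Agent.CAlg5.mem_ann, Groth.Agent.CAlg5.mem_ann,
          ← (TensorProduct.AlgebraTensorModule.rid A B N).map_eq_zero_iff, map_smul]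
        simp
      rw [he]
      exact hQ
    obtain ⟨q, hq, hQq, hqo, hqass⟩ := Groth.Agent.FlatCrit65.Purity.exists_ass_over_of_pure
      (fun q _ _ => Groth.Agent.FlatCrit65.Purity.flatAt_of_flat q) hpure t'
      (IsLocalRing.le_maximalIdeal (Ideal.IsPrime.ne_top inferInstance)) Q
      ((Groth.Agent.S1236.result N A t' Q (Groth.Agent.FlatCrit65.Purity.flatAt_of_flat Q)).1 hQw).2
    haveI := hqo
    have h0 : LocalizedModule.mkLinearMap q.primeCompl N n = 0 := by
      refine hloc q hqo hqass ?_
      rw [map_zero]
      show LocalizedModule.map q.primeCompl φ (LocalizedModule.mk n 1) = 0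
      rw [LocalizedModule.map_mk, hn, LocalizedModule.zero_mk]
    obtain ⟨s, hs⟩ := (IsLocalizedModule.eq_zero_iff q.primeCompl (LocalizedModule.mkLinearMap q.primeCompl N)).1 h0
    exact s.2 (hQq (hQ.1.2 (Groth.Agent.CAlg5.mem_ann.mpr hs)))

end Groth.Agent.S1225
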