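import Groth.Statements.S12252
import Groth.Agent.ArtF85.Hull

set_option autoImplicit false
universe u v
open CategoryTheory
open Deform

namespace Groth.Agent.S12252

/-- Let k be an algebraically closed field, Λ a complete local Noetherian k-algebra with residue field k
and F a set-valued functor on local Artinian Λ-algebras with residue field k. If (R, u) and (S, v)
both prorepresent F (complete local Noetherian Λ-algebras with residue field k carrying universal
families), then there is a unique isomorphism of Λ-algebras R ≅ S, compatible with the augmentations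
to k, along which the universal family of R is transported to that of S. -/
theorem result
    {k Λ : Type u} [Field k] [IsAlgClosed k] [CommRing Λ] [IsLocalRing Λ] [IsNoetherianRing Λ]
    [IsAdicComplete (IsLocalRing.maximalIdeal Λ) Λ] [Algebra k Λ] [Algebra Λ k] [IsScalarTower k Λ k]
    {F : ArtFun.Art Λ k ⥤ Type v} (P Q : ArtFun.ProRep F) :
    ∃! e : P.ring.carrier ≃ₐ[Λ] Q.ring.carrier,
      ∃ he : Q.ring.res.comp e.toAlgHom = P.ring.res, P.family.along e.toAlgHom he = Q.family := by
  obtain ⟨g, hg, hgξ⟩ := ArtF85.exists_along_toFormalElt_eq (ArtF85.h0_of_isMiniversal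
    (ArtF85.isMiniversal_of_isUniversal P.universal)) P.family (ArtF85.isVersal_of_isUniversal P.universal)
    Q.ring Q.family.toFormalElt
  obtain ⟨h, hh, hhξ⟩ := ArtF85.exists_along_toFormalElt_eq (ArtF85.h0_of_isMiniversal
    (ArtF85.isMiniversal_of_isUniversal P.universal)) Q.family (ArtF85.isVersal_of_isUniversal Q.universal)
    P.ring P.family.toFormalElt
  have hgξ := ArtF85.family_eq_of_toFormalElt_eq hgξ
  have hhξ := ArtF85.family_eq_of_toFormalElt_eq hhξ
  have c₁ : P.ring.res.comp (h.comp g) = P.ring.res := by rw [← AlgHom.comp_assoc, hh, hg]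
  have c₂ : Q.ring.res.comp (g.comp h) = Q.ring.res := by rw [← AlgHom.comp_assoc, hg, hh]
  have e₁ : h.comp g = AlgHom.id Λ P.ring.carrier := ArtF85.eq_of_along_eq P.universal c₁ (AlgHom.comp_id _) (by
    rw [← ArtF85.along_along P.family g hg h hh c₁, hgξ, hhξ, ArtF85.toFormalElt_along_id])
  have e₂ : g.comp h = AlgHom.id Λ Q.ring.carrier := ArtF85.eq_of_along_eq Q.universal c₂ (AlgHom.comp_id _) (by
    rw [← ArtF85.along_along Q.family h hh g hg c₂, hhξ, hgξ, ArtF85.toFormalElt_along_id])
  refine ⟨AlgEquiv.ofAlgHom g h e₂ e₁, ⟨hg, hgξ⟩, fun e ⟨he, heξ⟩ => AlgEquiv.ext fun x => ?_⟩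
  exact AlgHom.congr_fun (ArtF85.eq_of_along_eq P.universal he hg (heξ.trans hgξ.symm)) x

end Groth.Agent.S12252
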