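import Groth.Statements.S12256
import Groth.Agent.Deform85.NodeDef
import Groth.Prelude.Def_W4c5t1liftcy3defoArt
-- import your own Groth.Agent.* helpers here

set_option autoImplicit false
universe u
open CategoryTheory CategoryTheory.Limits AlgebraicGeometry
open Deform

namespace Groth.Agent.S12256

section Data

open ArtFun ArtFun.Art T1Lift

variable (k : Type u) [Field k]

/-- `(a, e) ↦ a + e t²`. -/
noncomputable def σAlg : DualNumber (Tr k 2) →ₐ[k] Tr k 2 where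
  toFun x := x.fst + x.snd * t k 2 ^ 2
  map_one' := by simp
  map_mul' x y := by
    have h4 : t k 2 ^ 4 = 0 := by
      rw [pow_succ, t_pow, zero_mul]
    rw [TrivSqZeroExt.fst_mul, TrivSqZeroExt.snd_mul]
    simp only [smul_eq_mul, MulOpposite.smul_eq_mul_unop, MulOpposite.unop_op]
    linear_combination (-(x.snd * y.snd)) * h4
  map_zero' := by simp
  map_add' x y := by
    rw [TrivSqZeroExt.fst_add, TrivSqZeroExt.snd_add]
    ring
  commutes' c := by
    rw [TrivSqZeroExt.algebraMap_eq_inl']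
    simp

theorem resA_σAlg (x : DualNumber (Tr k 2)) : resA k 2 (σAlg k x) = resA k 2 x.fst := by
  change resA k 2 (x.fst + x.snd * t k 2 ^ 2) = _
  rw [map_add, map_mul, map_pow, resA_t]
  simp

/-- `σ` as a morphism of test objects. -/
noncomputable def σ : B k 2 ⟶ A k 2 := ArtFun.Art.homMk (σAlg k) (AlgHom.ext (resA_σAlg k))

/-- The projection to `k[ε]`. -/
noncomputable def hB : B k 2 ⟶ dual k k :=
  ArtFun.Art.homMk (dualMap k (resA k 2)) (AlgHom.ext fun _ => rfl)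

theorem resA_eq_zero_of_mul_sq (e : Tr k 2) (h : e * t k 2 ^ 2 = 0) : resA k 2 e = 0 := by
  obtain ⟨b, hb⟩ := eq_algebraMap_add_t_mul k 2 e
  rw [hb] at h
  have h3 : t k 2 * b * t k 2 ^ 2 = 0 := by
    rw [show t k 2 * b * t k 2 ^ 2 = b * t k 2 ^ (2 + 1) by ring, t_pow, mul_zero]
  rw [add_mul, h3, add_zero, ← Algebra.smul_def] at h
  by_contra hc
  have h2 : t k 2 ^ 2 = 0 := (smul_eq_zero_iff_right hc).1 h
  rw [t, ← AdjoinRoot.mk_X, ← map_pow, AdjoinRoot.mk_eq_zero] at h2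
  have h5 := Polynomial.natDegree_le_of_dvd h2 (pow_ne_zero 2 Polynomial.X_ne_zero)
  simp at h5

end Data


/-- Let k be an algebraically closed field and C = Spec k[x, y]/(xy) the union of the two coordinate
axes in the affine plane. Then the local moduli functor Def_C, of isomorphism classes of
deformations of C over local Artinian k-algebras with residue field k, is not prorepresentable by
any complete local Noetherian k-algebra with residue field k. -/
theorem result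
    {k : Type u} [Field k] [IsAlgClosed k] :
    ¬ ArtFun.IsProrepresentable (ArtFun.defFunctor (Λ := k)
      (Spec (CommRingCat.of (MvPolynomial (Fin 2) k ⧸
        Ideal.span {(MvPolynomial.X 0 * MvPolynomial.X 1 : MvPolynomial (Fin 2) k)})))
      (Spec.map (CommRingCat.ofHom (algebraMap k (MvPolynomial (Fin 2) k ⧸
        Ideal.span {(MvPolynomial.X 0 * MvPolynomial.X 1 : MvPolynomial (Fin 2) k)}))))) := by
  rintro ⟨P⟩
  let hT : T1Lift.resA k 2 (T1Lift.t k 2) = 0 := T1Lift.resA_t k 2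
  let K : Ideal (T1Lift.B k 2).carrier :=
    RingHom.ker (T1Lift.β k 2).toAlgHom ⊓ RingHom.ker (σ k).toAlgHom
  have hK : K ≤ IsLocalRing.maximalIdeal (T1Lift.B k 2).carrier :=
    inf_le_left.trans (IsLocalRing.le_maximalIdeal (RingHom.ker_ne_top _))
  let π := ArtFun.Art.quotMk (T1Lift.B k 2) K hK
  have hπ : Function.Surjective π.toAlgHom := ArtFun.Art.quotMk_surjective _ K hK
  let b₁ : (T1Lift.B k 2).carrier := (TrivSqZeroExt.inl (T1Lift.t k 2) : DualNumber (T1Lift.Tr k 2))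
  let b₂ : (T1Lift.B k 2).carrier :=
    (TrivSqZeroExt.inl (T1Lift.t k 2) + DualNumber.eps : DualNumber (T1Lift.Tr k 2))
  have hb₁ : (T1Lift.B k 2).res b₁ = 0 := hT
  have hb₂ : (T1Lift.B k 2).res b₂ = 0 := by
    change T1Lift.resA k 2 (T1Lift.t k 2 + 0) = 0
    rw [add_zero]
    exact hT
  have hβ : Function.Surjective (T1Lift.β k 2).toAlgHom := fun a => ⟨TrivSqZeroExt.inl a, rfl⟩
  have hσ : Function.Surjective (σ k).toAlgHom := fun a => ⟨TrivSqZeroExt.inl a,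
    (show ∀ c : T1Lift.Tr k 2, c + 0 * T1Lift.t k 2 ^ 2 = c from fun c => by rw [zero_mul, add_zero]) a⟩
  have hhB : Function.Surjective (hB k).toAlgHom := fun d =>
    ⟨(algebraMap k (T1Lift.Tr k 2) (TrivSqZeroExt.fst (d : DualNumber k)),
      algebraMap k (T1Lift.Tr k 2) (TrivSqZeroExt.snd (d : DualNumber k))),
      TrivSqZeroExt.ext (AlgHom.commutes _ _) (AlgHom.commutes _ _)⟩
  have hKh : K ≤ RingHom.ker (hB k).toAlgHom := by
    rintro x ⟨hx1, hx2⟩
    have hx1' : (x : DualNumber (T1Lift.Tr k 2)).fst = 0 := hx1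
    have hx2' : (x : DualNumber (T1Lift.Tr k 2)).fst + (x : DualNumber (T1Lift.Tr k 2)).snd * T1Lift.t k 2 ^ 2 = 0 := hx2
    rw [hx1', zero_add] at hx2'
    refine TrivSqZeroExt.ext ((congrArg (T1Lift.resA k 2) hx1').trans (map_zero _)) ?_
    exact resA_eq_zero_of_mul_sq k _ hx2'
  obtain ⟨φ₁, hφ₁⟩ := (P.universal _).2 ((ArtFun.defFunctor _ _).map π
    (Groth.Agent.Deform85.NodeDef.node (T1Lift.B k 2) b₁ hb₁).cl)
  obtain ⟨φ₂, hφ₂⟩ := (P.universal _).2 ((ArtFun.defFunctor _ _).map π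
    (Groth.Agent.Deform85.NodeDef.node (T1Lift.B k 2) b₂ hb₂).cl)
  let βf := ArtFun.Art.quotFactor hK (T1Lift.β k 2) inf_le_left
  let σf := ArtFun.Art.quotFactor hK (σ k) inf_le_right
  let hf := ArtFun.Art.quotFactor hK (hB k) hKh
  have hmap : ∀ {D : ArtFun.Art k k} (f : T1Lift.B k 2 ⟶ D) (g : ArtFun.Art.quot (T1Lift.B k 2) K hK ⟶ D)
      (_ : π ≫ g = f) (hs : Function.Surjective f.toAlgHom) (b : (T1Lift.B k 2).carrier)
      (hb : (T1Lift.B k 2).res b = 0) (b' : D.carrier) (hb' : D.res b' = 0) (_ : f.toAlgHom b = b')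
      (φ : ArtFun.HomSet P.ring.carrier P.ring.res _) (_ : P.family.app _ φ = (ArtFun.defFunctor _ _).map π
        (Groth.Agent.Deform85.NodeDef.node (T1Lift.B k 2) b hb).cl),
      P.family.app D (ArtFun.HomSet.map g φ) = (Groth.Agent.Deform85.NodeDef.node D b' hb').cl := by
    intro D f g hg hs b hb b' hb' hbb φ hφ
    rw [P.family.natural, hφ, ← Functor.map_comp_apply, hg]
    exact Groth.Agent.Deform85.NodeDef.map_cl_node f hs hb hb' hbb
  have hA : (T1Lift.A k 2).res (T1Lift.t k 2) = 0 := hT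
  have hA' : (T1Lift.A k 2).res ((1 + T1Lift.t k 2) * T1Lift.t k 2 : T1Lift.Tr k 2) = 0 := by
    change T1Lift.resA k 2 ((1 + T1Lift.t k 2) * T1Lift.t k 2) = 0
    rw [map_mul, hT, mul_zero]
  have e₁ : ArtFun.HomSet.map βf φ₁ = ArtFun.HomSet.map βf φ₂ := (P.universal _).1 <|
    (hmap (T1Lift.β k 2) βf (ArtFun.Art.quotMk_quotFactor hK _ _) hβ b₁ hb₁ _ hA rfl φ₁ hφ₁).trans
      (hmap (T1Lift.β k 2) βf (ArtFun.Art.quotMk_quotFactor hK _ _) hβ b₂ hb₂ _ hA (add_zero _) φ₂ hφ₂).symm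
  have e₂ : ArtFun.HomSet.map σf φ₁ = ArtFun.HomSet.map σf φ₂ := (P.universal _).1 <|
    (hmap (σ k) σf (ArtFun.Art.quotMk_quotFactor hK _ _) hσ b₁ hb₁ _ hA
      (show T1Lift.t k 2 + 0 * T1Lift.t k 2 ^ 2 = T1Lift.t k 2 by rw [zero_mul, add_zero]) φ₁ hφ₁).trans
    ((Groth.Agent.Deform85.NodeDef.cl_node_eq_of_unit (T1Lift.A k 2) hA' hA
        (1 + T1Lift.t k 2 : T1Lift.Tr k 2) rfl (by
          change T1Lift.resA k 2 (1 + T1Lift.t k 2) = 1
          rw [map_add, map_one, hT, add_zero])).symm.trans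
      (hmap (σ k) σf (ArtFun.Art.quotMk_quotFactor hK _ _) hσ b₂ hb₂ _ hA'
        (show T1Lift.t k 2 + 0 + (0 + 1) * T1Lift.t k 2 ^ 2 = (1 + T1Lift.t k 2) * T1Lift.t k 2 by ring) φ₂ hφ₂).symm)
  have e : φ₁ = φ₂ := Subtype.ext (AlgHom.ext fun r => by
    have h1 := congrArg (fun φ : ArtFun.HomSet P.ring.carrier P.ring.res (T1Lift.A k 2) => φ.1 r) e₁
    have h2 := congrArg (fun φ : ArtFun.HomSet P.ring.carrier P.ring.res (T1Lift.A k 2) => φ.1 r) e₂
    obtain ⟨x, hx⟩ := hπ (φ₁.1 r)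
    obtain ⟨y, hy⟩ := hπ (φ₂.1 r)
    change βf.toAlgHom (φ₁.1 r) = βf.toAlgHom (φ₂.1 r) at h1
    change σf.toAlgHom (φ₁.1 r) = σf.toAlgHom (φ₂.1 r) at h2
    rw [← hx, ← hy] at h1 h2 ⊢
    exact Ideal.Quotient.eq.2 ⟨(RingHom.sub_mem_ker_iff _).2 h1, (RingHom.sub_mem_ker_iff _).2 h2⟩)
  have h0 : (ArtFun.Art.dual k k).res (Groth.Agent.ArtF85.mkDual 0 1) = 0 := rfl
  refine Groth.Agent.Deform85.NodeDef.cl_node_eps_ne h0 ?_
  refine (hmap (hB k) hf (ArtFun.Art.quotMk_quotFactor hK _ _) hhB b₂ hb₂ _ h0 ?_ φ₂ hφ₂).symm.trans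
    ((congrArg _ (congrArg (ArtFun.HomSet.map hf) e.symm)).trans
      (hmap (hB k) hf (ArtFun.Art.quotMk_quotFactor hK _ _) hhB b₁ hb₁ _ (map_zero _) ?_ φ₁ hφ₁))
  · exact TrivSqZeroExt.ext (show T1Lift.resA k 2 (T1Lift.t k 2 + 0) = 0 by rw [add_zero, hT])
      (show T1Lift.resA k 2 (0 + 1) = 1 by rw [zero_add, map_one])
  · exact TrivSqZeroExt.ext hT (show T1Lift.resA k 2 0 = 0 from map_zero _)

end Groth.Agent.S12256
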