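import Groth.Statements.S1226
import Groth.Agent.FlatCrit65.Purity.QuasiFinite

set_option autoImplicit false
universe u
open FlatMor

namespace Groth.Agent.S1226

/-- Ring form, X = Spec B affine: let B be a finite type A-algebra, N a finite B-module and p a prime of
A; let A' be an A-algebra with a prime p' over p such that A' is of finite type over A and
quasi-finite at p', and let B', N' be the base changes of B, N. If N is pure along the fibre over p
then N' is pure along the fibre over p'. -/
theorem result {A B : Type u} [CommRing A] [CommRing B] [Algebra A B] [Algebra.FiniteType A B]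
    (N : Type u) [AddCommGroup N] [Module B N] [Module.Finite B N] (p : Ideal A) [p.IsPrime]
    (A' B' N' : Type u) [CommRing A'] [CommRing B'] [Algebra A A'] [Algebra B B'] [Algebra A' B'] [Algebra A B']
    [IsScalarTower A B B'] [IsScalarTower A A' B'] [Algebra.IsPushout A B A' B']
    [AddCommGroup N'] [Module B' N'] [Module B N'] [IsScalarTower B B' N'] (f : N →ₗ[B] N') (hf : IsBaseChange B' f)
    (p' : Ideal A') [p'.IsPrime] [p'.LiesOver p] [Algebra.FiniteType A A'] [Algebra.QuasiFiniteAt A p']
    (h : FlatCA.IsPureAlong A B N p) : FlatCA.IsPureAlong A' B' N' p' := by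
  rw [Groth.Agent.FlatMor67.PurePush.isPureAlong_iff_not_hasImpurity] at h ⊢
  intro h'
  refine h (Groth.Agent.FlatCrit65.Purity.exists_etaleNhd_of_quasiFinite
    (Groth.Agent.FlatCrit65.Purity.hasImpurity_of_baseChange f hf p' ?_ h'))
  rintro H _ _ _ _ t _ _ ⟨htp, hE, -⟩
  haveI := hE
  refine ⟨htp, Algebra.FiniteType.trans (S := A') inferInstance inferInstance, ?_⟩
  letI : Algebra (Localization.AtPrime p') (Localization.AtPrime t) :=
    Localization.AtPrime.algebraOfLiesOver p' t
  haveI : IsScalarTower A' (Localization.AtPrime p') (Localization.AtPrime t) :=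
    inferInstance
  haveI : IsScalarTower A (Localization.AtPrime p') (Localization.AtPrime t) := IsScalarTower.of_algebraMap_eq fun a => by
    rw [IsScalarTower.algebraMap_apply A A' (Localization.AtPrime t), IsScalarTower.algebraMap_apply A A' (Localization.AtPrime p'),
      ← IsScalarTower.algebraMap_apply A' (Localization.AtPrime p') (Localization.AtPrime t)]
  haveI : Algebra.QuasiFinite A' (Localization.AtPrime t) := inferInstance
  haveI : Algebra.QuasiFinite (Localization.AtPrime p') (Localization.AtPrime t) :=
    Algebra.QuasiFinite.of_restrictScalars A' (Localization.AtPrime p') (Localization.AtPrime t)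
  exact Algebra.QuasiFinite.trans A (Localization.AtPrime p') (Localization.AtPrime t)

end Groth.Agent.S1226
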