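import Groth.Statements.S12261
import Groth.Agent.Hilb85.Fibre
import Groth.Agent.Serre71.Finite
import Groth.Agent.Crv77.Degree
import Groth.Agent.QC70.HomCoh
import Groth.Agent.QCPull72.Sections
import Groth.Agent.WC97.Fixed
import Groth.Agent.ArtF85.Hull
import Groth.Agent.ArtF85.Tangent

set_option autoImplicit false
universe u
open CategoryTheory CategoryTheory.Limits AlgebraicGeometry
open Deform

attribute [-instance] CategoryTheory.catToReflQuiver

namespace Groth.Agent.S12261

/-- Let k be an algebraically closed field, Y a separated k-scheme of finite type and X ⊆ Y the closed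
subscheme of a quasi-coherent ideal sheaf I₀; assume X is projective over k, i.e. X admits a closed
immersion over k into some projective space P^n_k. Then the local Hilbert functor of X in Y (closed
subschemes of Y ×_k Spec A flat over Spec A restricting to X on the closed fibre, for A local
Artinian with residue field k) is prorepresentable by a complete local Noetherian k-algebra with
residue field k. (The published statement assumes only that the space of global sections of the
normal sheaf of X in Y is finite-dimensional, X projective being the named instance; this row states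
the projective case.) -/
theorem result
    {k : Type u} [Field k] [IsAlgClosed k] (Y : Scheme.{u}) (y : Y ⟶ Spec (CommRingCat.of k))
    [LocallyOfFiniteType y] [IsSeparated y] [QuasiCompact y] (I₀ : Y.IdealSheafData)
    (hproj : ∃ (n : ℕ) (c : I₀.subscheme ⟶ CohB1.ProjSpaceOver n (Spec (CommRingCat.of k))),
      IsClosedImmersion c ∧ c ≫ CohB1.ProjSpaceOver.toBase n (Spec (CommRingCat.of k)) = I₀.subschemeι ≫ y) :
    ArtFun.IsProrepresentable (ArtFun.localHilb Y y I₀) := by
  let F := ArtFun.localHilb Y y I₀
  have hS1 : ArtFun.S1 F := fun _ _ _ _ _ _ _ _ h hs => Deform85.HilbGlue.surjective_cmp h hs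
  have hsurj := Hilb85.surjective_toBase_hom (k := k) (ArtFun.Art.dual k k)
  have hH2 : ArtFun.Heps F := fun _ _ _ _ h =>
    ⟨Deform85.HilbGlue.injective_cmp h hsurj, Deform85.HilbGlue.surjective_cmp h hsurj⟩
  have h0 : ArtFun.H0 F := Deform85.HilbGlue.h0
  letI : ArtFun.TangentStr F := ArtF85.tangentStrOf h0 hH2
  let Z := I₀.subscheme
  letI : Z.Over (Spec (CommRingCat.of k)) := ⟨I₀.subschemeι ≫ y⟩
  obtain ⟨n, c, hc, hcy⟩ := hproj
  haveI : IsProper (Z ↘ Spec (CommRingCat.of k)) := by
    haveI := WC97.isProper_toBase n (Spec (CommRingCat.of k))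
    show IsProper (I₀.subschemeι ≫ y)
    rw [← hcy]
    infer_instance
  haveI : IsLocallyNoetherian Y := LocallyOfFiniteType.isLocallyNoetherian y
  haveI : IsLocallyNoetherian Z := LocallyOfFiniteType.isLocallyNoetherian (Z ↘ Spec (CommRingCat.of k))
  haveI := QC70.hasSheafHom_dCoh (Omega.conormal I₀.subschemeι)
  have hcon : Coh.IsCoh (Omega.conormal I₀.subschemeι) := by
    obtain ⟨h1, h2⟩ := Crv77.isCoh_idealMod I₀.subschemeι.ker
    exact ⟨QCPull72.isQuasicoherent_pullback _ _, QCPull72.isFiniteType_pullback _ _⟩
  let N := (DCoh.sheafHom (Omega.conormal I₀.subschemeι)).obj (Coh.structureModule Z)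
  have hN : Coh.IsCoh N :=
    Crv77.isCoh_of_iso ((QC70.sheafHomIso _).app _).symm (QC70.isCoh_homMod hcon Crv77.isCoh_structureModule)
  haveI : Module.Finite k (Coh.HH Z N 0) := Serre71.finite_hh_of_isProper k N hN 0
  obtain ⟨e⟩ := Hilb85.nonempty_tangent_linearEquiv (Hilb85.normalEquiv I₀.subschemeι I₀.ker_subschemeι)
    fun c m U z => Hilb85.normalEquiv_smul I₀.subschemeι I₀.ker_subschemeι k y rfl c m U z
  haveI : Subsingleton (ArtFun.Art.base k k ⟶ ArtFun.Art.dual k k) := ⟨fun a b =>
    ArtFun.Art.hom_ext (AlgHom.ext fun (t : k) => (a.toAlgHom.commutes t).trans (b.toAlgHom.commutes t).symm)⟩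
  exact ArtF85.isProrepresentable_of_conditions h0 hS1 hH2 (Module.Finite.equiv e.symm)
    (fun _ _ _ _ _ _ h hs => Deform85.HilbGlue.injective_cmp h hs.1) fun a b _ => Subsingleton.elim a b

end Groth.Agent.S12261
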