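import Groth.Statements.S12263
import Groth.Agent.Deform85.RigidLift

set_option autoImplicit false
universe u
open CategoryTheory CategoryTheory.Limits AlgebraicGeometry
open Deform

namespace Groth.Agent.S12263

/-- Let k be an algebraically closed field and B₀ a finitely generated commutative k-algebra. Suppose
T^1_{B₀} = 0 in the form: every k-algebra extension of B₀ by the B₀-module B₀ (square-zero kernel)
is trivial. Then B₀ is rigid: every deformation of Spec B₀ over a local Artinian k-algebra A with
residue field k (a scheme flat over Spec A together with a cartesian square exhibiting Spec B₀ as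
the fibre over the closed point) is isomorphic, over Spec A and under Spec B₀, to the product
deformation Spec B₀ ×_k Spec A. (The published statement is for a k-algebra B₀, Noetherian by the
standing convention; this row takes B₀ finitely generated over k, the case covered by the results on
algebraic schemes that its proof cites. It also asserts a semiuniversal formal element when T^1_{B₀}
is finite-dimensional, in particular for isolated singularities; those clauses are instances of
results on all algebraic schemes and are not repeated here. The first-order deformations of B₀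
correspond to the k-algebra extensions of B₀ by B₀, the trivial deformation to the trivial
extension.) -/
theorem result
    {k : Type u} [Field k] [IsAlgClosed k] (B₀ : Type u) [CommRing B₀] [Algebra k B₀] [Algebra.FiniteType k B₀]
    (hT : ∀ E : Exal.Ext k B₀ B₀, E.IsTrivial) (A : ArtFun.Art k k)
    (ξ : ArtFun.DefSch (Spec (CommRingCat.of B₀)) (Spec.map (CommRingCat.ofHom (algebraMap k B₀))) A) :
    Nonempty (ξ.Iso (ArtFun.DefSch.trivial (Spec (CommRingCat.of B₀))
      (Spec.map (CommRingCat.ofHom (algebraMap k B₀))) inferInstance A)) := by
  obtain ⟨X', g, hg, i, hsq⟩ := ξ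
  haveI := hg
  haveI := Groth.Agent.Deform85.isAffine_total A.res hsq
  let hX := Spec.map (CommRingCat.ofHom (algebraMap k B₀))
  letI : Algebra A Γ(X', ⊤) := (Groth.Agent.Deform85.baseMap g).toAlgebra
  letI : Algebra k Γ(X', ⊤) := ((Groth.Agent.Deform85.baseMap g).comp (algebraMap k A)).toAlgebra
  haveI : IsScalarTower k A Γ(X', ⊤) := IsScalarTower.of_algebraMap_eq fun c => rfl
  haveI : Module.Flat A Γ(X', ⊤) := Groth.Agent.Deform85.flat_baseMap (g := g)
  let E := (Scheme.ΓSpecIso (CommRingCat.of B₀)).commRingCatIsoToRingEquiv
  have hE : ∀ c : k, E (Groth.Agent.Deform85.baseMap hX c) = algebraMap k B₀ c := fun c => by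
    have h := congr($(Scheme.ΓSpecIso_inv_naturality (CommRingCat.ofHom (algebraMap k B₀))) c)
    exact (congrArg E h.symm).trans (E.apply_symm_apply _)
  let r : Γ(X', ⊤) →ₐ[k] B₀ := { E.toRingHom.comp i.appTop.hom with
    commutes' := fun c => (congrArg E ((Groth.Agent.Deform85.appTop_baseMap A.res hsq _).trans
      (congrArg (Groth.Agent.Deform85.baseMap hX) (A.res.commutes c)))).trans (hE c) }
  obtain ⟨s, hs⟩ := Groth.Agent.Deform85.exists_section_of_extensions_trivial (A := A) r
    (E.surjective.comp (Groth.Agent.Deform85.appTop_surjective_fibre A.res hsq))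
    (by
      refine Eq.trans ?_ (Groth.Agent.Deform85.ker_appTop_fibre A.res hsq)
      exact RingHom.ker_equiv_comp i.appTop.hom E) hT
  obtain ⟨q, -, hiq, hq⟩ := Groth.Agent.Deform85.exists_trivialisation A.res hsq
    (s.toRingHom.comp E.toRingHom) (fun x => E.injective (hs (E x)))
    (fun c => (congrArg s (hE c)).trans (s.commutes c))
  refine ⟨{ iso := hq.isoPullback, hom_f := hq.isoPullback_hom_snd, i_hom := ?_ }⟩
  apply pullback.hom_ext
  · exact (Category.assoc _ _ _).trans ((congrArg (i ≫ ·) hq.isoPullback_hom_fst).trans
      (hiq.trans (pullback.lift_fst _ _ _).symm))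
  · exact (Category.assoc _ _ _).trans ((congrArg (i ≫ ·) hq.isoPullback_hom_snd).trans
      (hsq.w.trans (pullback.lift_snd _ _ _).symm))

end Groth.Agent.S12263
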