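import Groth.Statements.S12271
import Groth.Agent.Hilb85.Obs
import Groth.Agent.Hilb85.Fibre
import Groth.Agent.Hilb85.NormalH0
import Groth.Agent.Serre71.Finite
import Groth.Agent.Crv77.Degree
import Groth.Agent.QC70.HomCoh
import Groth.Agent.QCPull72.Sections
import Groth.Agent.WC97.Fixed
import Groth.Agent.ArtF85.Hull
import Groth.Agent.Deform85.HullDim
import Groth.Agent.S12327

set_option autoImplicit false
universe u
open CategoryTheory CategoryTheory.Limits AlgebraicGeometry
attribute [local instance] HasDerivedCategory.standard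
open Deform

attribute [-instance] CategoryTheory.catToReflQuiver

namespace Groth.Agent.S12271

/-- Let k be an algebraically closed field, Y a separated k-scheme of finite type and i : X → Y a
regular closed immersion over k (its ideal is locally generated by a regular sequence) with X
projective over k; let N = Hom_{O_X}(I/I², O_X) be the normal sheaf (sheaf Hom of the conormal sheaf
of i, as a right adjoint, assumed to exist). Let R̄ be a complete local Noetherian k-algebra with
residue field k prorepresenting the local Hilbert functor of X in Y (closed subschemes of Y ×_k Spec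
A flat over A restricting to X, X ⊆ Y given by the kernel ideal of i), i.e. carrying a universal
family — the formal universal deformation of X in Y. Then dim R̄ ≤ h⁰(X, N); h⁰(X, N) ≤ dim R̄ +
h¹(X, N); and dim R̄ = h⁰(X, N) if and only if X is unobstructed in Y, i.e. the local Hilbert
functor takes every surjection B → A of local Artinian k-algebras with residue field k to a
surjective map. (The published statement writes the second bound as h⁰(N) − h¹(N) ≤ dim R̄.) -/
theorem result
    {k : Type u} [Field k] [IsAlgClosed k] (Y : Scheme.{u}) (y : Y ⟶ Spec (CommRingCat.of k))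
    [LocallyOfFiniteType y] [IsSeparated y] [QuasiCompact y]
    (X : Scheme.{u}) [X.Over (Spec (CommRingCat.of k))] (i : X ⟶ Y) [IsClosedImmersion i] (hi : i ≫ y = X ↘ (Spec (CommRingCat.of k)))
    (hreg : Mor2.IsRegularClosedImmersion i)
    (hproj : ∃ (n : ℕ) (c : X ⟶ CohB1.ProjSpaceOver n (Spec (CommRingCat.of k))),
      IsClosedImmersion c ∧ c ≫ CohB1.ProjSpaceOver.toBase n (Spec (CommRingCat.of k)) = X ↘ (Spec (CommRingCat.of k)))
    [DCoh.HasSheafHom (Omega.conormal i)]
    (R : ArtFun.ProRep (ArtFun.localHilb Y y i.ker)) :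
    ringKrullDim R.ring.carrier ≤ ((Module.finrank k (Coh.HH X ((DCoh.sheafHom (Omega.conormal i)).obj (Coh.structureModule X)) 0) : ℕ∞) : WithBot ℕ∞) ∧
      ((Module.finrank k (Coh.HH X ((DCoh.sheafHom (Omega.conormal i)).obj (Coh.structureModule X)) 0) : ℕ∞) : WithBot ℕ∞) ≤ ringKrullDim R.ring.carrier + ((Module.finrank k (Coh.HH X ((DCoh.sheafHom (Omega.conormal i)).obj (Coh.structureModule X)) 1) : ℕ∞) : WithBot ℕ∞) ∧
      (ringKrullDim R.ring.carrier = ((Module.finrank k (Coh.HH X ((DCoh.sheafHom (Omega.conormal i)).obj (Coh.structureModule X)) 0) : ℕ∞) : WithBot ℕ∞) ↔ ArtFun.IsSmoothFunctor (ArtFun.localHilb Y y i.ker)) := by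
  let H : ArtFun.Hull (ArtFun.localHilb Y y i.ker) :=
    ⟨R.ring, R.family, ArtF85.isMiniversal_of_isUniversal R.universal⟩
  have h0 := ArtF85.h0_of_isMiniversal H.miniversal
  have h2 := ArtF85.heps_of_isMiniversal H.miniversal
  letI := ArtF85.tangentStrOf h0 h2
  obtain ⟨n, c, hc, hcy⟩ := hproj
  haveI : IsProper (X ↘ Spec (CommRingCat.of k)) := by
    haveI := WC97.isProper_toBase n (Spec (CommRingCat.of k))
    rw [← hcy]
    infer_instance
  haveI : IsLocallyNoetherian Y := LocallyOfFiniteType.isLocallyNoetherian y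
  haveI : IsLocallyNoetherian X := LocallyOfFiniteType.isLocallyNoetherian (X ↘ Spec (CommRingCat.of k))
  have hcon : Coh.IsCoh (Omega.conormal i) := by
    obtain ⟨h1, h2⟩ := Crv77.isCoh_idealMod i.ker
    exact ⟨QCPull72.isQuasicoherent_pullback _ _, QCPull72.isFiniteType_pullback _ _⟩
  let N := (DCoh.sheafHom (Omega.conormal i)).obj (Coh.structureModule X)
  have hN : Coh.IsCoh N :=
    Crv77.isCoh_of_iso ((QC70.sheafHomIso _).app _).symm (QC70.isCoh_homMod hcon Crv77.isCoh_structureModule)
  haveI : Module.Finite k (Coh.HH X N 1) := Serre71.finite_hh_of_isProper k N hN 1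
  obtain ⟨e⟩ := Hilb85.nonempty_tangent_linearEquiv (Hilb85.normalEquiv i rfl)
    fun c m U z => Hilb85.normalEquiv_smul i rfl k y hi.symm c m U z
  have hd : Module.finrank (IsLocalRing.ResidueField H.ring.carrier) (IsLocalRing.CotangentSpace H.ring.carrier) =
      Module.finrank k (Coh.HH X N 0) :=
    (Deform85.HullDim.finrank_cotangent_eq H).trans e.finrank_eq
  obtain ⟨T⟩ := Hilb85.hasObsTheory (i := i) (x := y)
    (Hilb85.IsH1Cover.of_regularImmersion hreg).locLiftable hi.symm
  have h := Groth.Agent.S12327.result _ T H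
  rw [← hd]
  refine ⟨?_, h.2.1, Deform85.HullDim.dim_eq_iff_isSmoothFunctor H⟩
  refine (ringKrullDim_le_spanFinrank_maximalIdeal _).trans ?_
  rw [IsLocalRing.spanFinrank_maximalIdeal_eq_finrank_cotangentSpace]
  exact le_rfl

end Groth.Agent.S12271
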