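import Groth.Statements.S1228
import Groth.Agent.S1219

set_option autoImplicit false
universe u
open FlatMor

namespace Groth.Agent.S1228

open TensorProduct in
/-- Ring form, S = Spec A and X = Spec B affine, test schemes affine: let B be a finitely presented
A-algebra, N a finitely presented B-module which is flat over A and pure relative to Spec A, and u a
surjective B-linear map from N to a B-module N'. Then the functor 'u becomes an isomorphism after
base change' is represented by a closed subscheme of Spec A: there is an ideal I of A such that for
every A-algebra A' the base change A' ⊗_A N → A' ⊗_A N' is bijective if and only if IA' = 0. If N'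
is finitely presented then I is finitely generated. -/
theorem result {A B : Type u} [CommRing A] [CommRing B] [Algebra A B] [Algebra.FinitePresentation A B]
    (N : Type u) [AddCommGroup N] [Module B N] [Module A N] [IsScalarTower A B N] [Module.FinitePresentation B N] [Module.Flat A N]
    (hpure : FlatCA.IsPure A B N)
    (N' : Type u) [AddCommGroup N'] [Module B N'] [Module A N'] [IsScalarTower A B N'] (u : N →ₗ[B] N') (hu : Function.Surjective u) :
    ∃ I : Ideal A, (∀ (A' : Type u) [CommRing A'] [Algebra A A'],
        Function.Bijective ((u.restrictScalars A).baseChange A') ↔ I.map (algebraMap A A') = ⊥) ∧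
      (Module.FinitePresentation B N' → I.FG) := by
  classical
  haveI : Module.Projective A N := (Groth.Agent.S1219.result (A := A) (B := B) N).2 hpure
  obtain ⟨s, hs⟩ := Module.projective_def'.1 (inferInstance : Module.Projective A N)
  let K := LinearMap.ker u
  let I : Ideal A := Ideal.span {a | ∃ k ∈ K, ∃ j, s k j = a}
  refine ⟨I, fun A' _ _ => ?_, fun hfp => ?_⟩
  · have hex := lTensor_exact A' (LinearMap.exact_subtype_ker_map (u.restrictScalars A)) (show Function.Surjective (u.restrictScalars A) from hu)
    have hsurj : Function.Surjective ((u.restrictScalars A).baseChange A') :=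
      LinearMap.lTensor_surjective A' (show Function.Surjective (u.restrictScalars A) from hu)
    have h0 : Function.Bijective ((u.restrictScalars A).baseChange A') ↔ ∀ k ∈ K, (1 : A') ⊗ₜ[A] k = 0 := by
      constructor
      · intro hb k hk
        refine hb.1 ?_
        rw [map_zero, LinearMap.baseChange_tmul, LinearMap.restrictScalars_apply, LinearMap.mem_ker.1 hk, TensorProduct.tmul_zero]
      · intro h
        refine ⟨(injective_iff_map_eq_zero _).2 fun z hz => ?_, hsurj⟩
        obtain ⟨w, rfl⟩ := (hex z).1 hz
        induction w using TensorProduct.induction_on with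
        | zero => exact map_zero _
        | tmul a k =>
          show a ⊗ₜ[A] (k : N) = 0
          rw [← mul_one a, ← smul_eq_mul, ← TensorProduct.smul_tmul', h k k.2, smul_zero]
        | add x y hx hy =>
          rw [map_add] at hz ⊢
          have hxz : ((u.restrictScalars A).baseChange A') ((LinearMap.ker (u.restrictScalars A)).subtype.lTensor A' x) = 0 :=
            (hex _).2 ⟨x, rfl⟩
          have hyz : ((u.restrictScalars A).baseChange A') ((LinearMap.ker (u.restrictScalars A)).subtype.lTensor A' y) = 0 :=
            (hex _).2 ⟨y, rfl⟩
          rw [hx hxz, hy hyz, add_zero]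
    rw [h0, Ideal.map_eq_bot_iff_le_ker, Ideal.span_le]
    constructor
    · rintro h _ ⟨k, hk, j, rfl⟩
      have := congrArg ((Finsupp.lapply j ∘ₗ s).baseChange A') (h k hk)
      rw [LinearMap.baseChange_tmul, map_zero] at this
      have := congrArg (TensorProduct.rid A A') this
      rw [map_zero, TensorProduct.rid_tmul] at this
      show algebraMap A A' (s k j) = 0
      simpa [Algebra.algebraMap_eq_smul_one] using this
    · intro h k hk
      have h1 : k = (s k).sum fun j a => a • j := by
        conv_lhs => rw [show k = Finsupp.linearCombination A id (s k) from (LinearMap.congr_fun hs k).symm]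
        rw [Finsupp.linearCombination_apply]
        rfl
      rw [h1, Finsupp.sum, TensorProduct.tmul_sum]
      refine Finset.sum_eq_zero fun j _ => ?_
      rw [TensorProduct.tmul_smul, ← algebraMap_smul A' (s k j), h ⟨k, hk, j, rfl⟩, zero_smul]
  · obtain ⟨G, hG⟩ := Module.FinitePresentation.fg_ker u hu
    let I' : Ideal A := Ideal.span (↑(G.biUnion fun g => (s g).support.image fun j => s g j) : Set A)
    have hI'K : ∀ k ∈ K, k ∈ (I' • ⊤ : Submodule A N) := by
      intro k hk
      have hk' : k ∈ Submodule.span B (G : Set N) := hG ▸ hk
      induction hk' using Submodule.span_induction with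
      | mem g hg =>
        have h1 : g = (s g).sum fun j a => a • j := by
          conv_lhs => rw [show g = Finsupp.linearCombination A id (s g) from (LinearMap.congr_fun hs g).symm]
          rw [Finsupp.linearCombination_apply]
          rfl
        rw [h1, Finsupp.sum]
        refine Submodule.sum_mem _ fun j hj => Submodule.smul_mem_smul ?_ trivial
        exact Ideal.subset_span (Finset.mem_coe.2 (Finset.mem_biUnion.2 ⟨g, hg, Finset.mem_image.2 ⟨j, hj, rfl⟩⟩))
      | zero => exact Submodule.zero_mem _
      | add x y hxs hys hx hy => exact Submodule.add_mem _ (hx (hG.le hxs)) (hy (hG.le hys))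
      | smul b x hxs hx =>
        have hx' := hx (hG.le hxs)
        clear hx hk
        refine Submodule.smul_induction_on hx' (fun a ha n _ => ?_) fun x y hx hy => ?_
        · rw [smul_comm]
          exact Submodule.smul_mem_smul ha trivial
        · rw [smul_add]
          exact Submodule.add_mem _ hx hy
    suffices hII : I = I' by
      rw [hII]
      exact ⟨_, rfl⟩
    refine le_antisymm (Ideal.span_le.2 ?_) (Ideal.span_le.2 ?_)
    · rintro _ ⟨k, hk, j, rfl⟩
      refine Submodule.smul_induction_on (p := fun x => s x j ∈ I') (hI'K k hk) (fun a ha n _ => ?_) fun x y hx hy => ?_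
      · rw [map_smul, Finsupp.smul_apply, smul_eq_mul]
        exact I'.mul_mem_right _ ha
      · rw [map_add, Finsupp.add_apply]
        exact I'.add_mem hx hy
    · intro a ha
      obtain ⟨g, hg, hga⟩ := Finset.mem_biUnion.1 (Finset.mem_coe.1 ha)
      obtain ⟨j, -, rfl⟩ := Finset.mem_image.1 hga
      exact Ideal.subset_span ⟨g, hG.le (Submodule.subset_span hg), j, rfl⟩

end Groth.Agent.S1228
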