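import Groth.Statements.S12281
import Groth.Agent.Hilb85.HilbEst
import Groth.Agent.Hilb85.CMTwo
import Groth.Agent.WC97.Fixed
import Groth.Agent.H98Proj.SmoothPn
import Groth.Agent.EGA4H10.CMFibre

set_option autoImplicit false
universe u
open CategoryTheory CategoryTheory.Limits AlgebraicGeometry
open scoped TensorProduct
attribute [local instance] HasDerivedCategory.standard
open DefT

attribute [-instance] CategoryTheory.catToReflQuiver

namespace Groth.Agent.S12281

/-- Let k be an algebraically closed field, X = P^n_k, and (H, Z) a Hilbert scheme of X over k: H is a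
locally Noetherian k-scheme and Z ⊆ X ×_k H a closed subscheme, proper and flat over H, such that
every closed subscheme of X ×_k T proper and flat over a locally Noetherian k-scheme T is the
pull-back of Z along a unique k-morphism T → H. Let Y ⊆ X be a closed subscheme, regarded as a
k-scheme through X, with ideal sheaf I and normal sheaf N = Hom_{O_Y}(I/I², O_Y) (the sheaf Hom,
assumed to exist as the right adjoint of tensoring with I/I²), and let y ∈ H be the k-point
classifying Y (the pull-back of Z along Spec k → H is Y). If Y is Cohen–Macaulay of codimension 2 in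
X (every local ring of Y is Cohen–Macaulay and dim O_{X,y'} = dim O_{Y,y'} + 2 at every point y' of
Y) and H^1(Y, N) = 0, then H is nonsingular at y: the local ring O_{H,y} is regular. (The published
statement assumes 'no local obstructions to deformations of Y' and H^1(Y, N) = 0; this row is the
case, named in the text, where the first hypothesis holds because Y is Cohen–Macaulay of codimension
2.) -/
theorem result
    {k : Type u} [Field k] [IsAlgClosed k] (n : ℕ)
    (H : Over (Spec (CommRingCat.of k))) (Z : FGA.HilbSet (CohB1.ProjSpaceOver.toBase n (Spec (CommRingCat.of k))) H) (hH : FGA.HilbRepresentedBy (CohB1.ProjSpaceOver.toBase n (Spec (CommRingCat.of k))) H Z)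
    (Y : Scheme.{u}) (i : Y ⟶ CohB1.ProjSpaceOver n (Spec (CommRingCat.of k))) [IsClosedImmersion i]
    (hCM : ∀ y' : Y, LocCoh.IsCohenMacaulayLocalRing (Y.presheaf.stalk y'))
    (hcodim : ∀ y' : Y, ringKrullDim (Y.presheaf.stalk y') + 2 = ringKrullDim ((CohB1.ProjSpaceOver n (Spec (CommRingCat.of k))).presheaf.stalk (i.base y')))
    [DCoh.HasSheafHom (Omega.conormal i)]
    (y : Over.mk (𝟙 (Spec (CommRingCat.of k))) ⟶ H)
    (hy : FGA.hilbPull (CohB1.ProjSpaceOver.toBase n (Spec (CommRingCat.of k))) y Z.1 = i.ker.comap (pullback.fst (CohB1.ProjSpaceOver.toBase n (Spec (CommRingCat.of k))) (Over.mk (𝟙 (Spec (CommRingCat.of k)))).hom))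
    (h1 : Subsingleton (Coh.HH Y ((DCoh.sheafHom (Omega.conormal i)).obj (Coh.structureModule Y)) 1)) :
    IsRegularLocalRing (H.left.presheaf.stalk (y.left.base (IsLocalRing.closedPoint k))) := by
  haveI := WC97.isProper_toBase n (Spec (CommRingCat.of k))
  haveI := H98Proj.smooth_toBase n (Spec (CommRingCat.of k))
  haveI : IsLocallyNoetherian (CohB1.ProjSpaceOver n (Spec (CommRingCat.of k))) :=
    LocallyOfFiniteType.isLocallyNoetherian (CohB1.ProjSpaceOver.toBase n (Spec (CommRingCat.of k)))
  letI : Y.Over (Spec (CommRingCat.of k)) := ⟨i ≫ CohB1.ProjSpaceOver.toBase n (Spec (CommRingCat.of k))⟩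
  have hloc : Hilb85.LocLiftable i.ker (CohB1.ProjSpaceOver.toBase n (Spec (CommRingCat.of k))) := by
    haveI : IsIso i.toImage := inferInstance
    let e : ∀ z : Y, i.image.presheaf.stalk (i.toImage z) ≃+* Y.presheaf.stalk z := fun z =>
      (asIso (i.toImage.stalkMap z)).commRingCatIsoToRingEquiv
    have hs : ∀ w : i.image, ∃ z : Y, i.toImage z = w := fun w =>
      ⟨(inv i.toImage) w, by rw [← Scheme.Hom.comp_apply]; simp⟩
    intro A' A
    refine Hilb85.locLiftable_of_cmTwo (x := CohB1.ProjSpaceOver.toBase n (Spec (CommRingCat.of k))) (I₀ := i.ker) (fun w => ?_) fun w => ?_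
    · obtain ⟨z, rfl⟩ := hs w
      exact EGA4H10.isCohenMacaulayLocalRing_of_ringEquiv (e z).symm (hCM z)
    · obtain ⟨z, rfl⟩ := hs w
      rw [ringKrullDim_eq_of_ringEquiv (e z), hcodim z]
      congr 2
  exact ((Hilb85.hilb_estimates _ i rfl Z hH y hy hloc).2.1 (Module.finrank_zero_of_subsingleton)).1

end Groth.Agent.S12281
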