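import Groth.Statements.S12286
import Mathlib.RingTheory.Kaehler.Basic

set_option autoImplicit false
universe u w m
open scoped TensorProduct
open DefT

namespace Groth.Agent.S12286

/-- Let A → B be a ring homomorphism, P a presentation of B over A and M a B-module. The canonical
B-linear map from the A-derivations Der_A(B, M) = Hom_B(Ω_{B/A}, M) to T^0(B/A, M) (the kernel of
Hom_B(L₀, M) → Hom_B(L₁, M), L₀ = B ⊗_R Ω_{R/A}), sending a derivation D to b ⊗ dr ↦ b·D(r̄), is
bijective. -/
theorem result
    (A B : Type u) [CommRing A] [CommRing B] [Algebra A B] (ι σ : Type w) (P : Algebra.Presentation A B ι σ)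
    (M : Type m) [AddCommGroup M] [Module B M] [Module A M] [IsScalarTower A B M] :
    Function.Bijective (CotT.derToT0 P M) := by
  classical
  refine ⟨fun D D' e => ?_, fun φ => ?_⟩
  · have key : ∀ i, D (P.val i) = D' (P.val i) := fun i => by
      rw [← CotT.derLift_basis P M D i, ← CotT.derLift_basis P M D' i]
      exact congrArg (fun f : CotT.T0 P M => f.1 (P.cotangentSpaceBasis i)) e
    refine Derivation.ext_of_adjoin_eq_top (Set.range P.val) ?_ (Set.eqOn_range.2 (funext key))
    rw [Algebra.adjoin_range_eq_range_aeval, AlgHom.range_eq_top]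
    exact fun b => ⟨P.σ b, P.aeval_val_σ b⟩
  · have hφ0 : ∀ y, φ.1 (P.toExtension.cotangentComplex y) = 0 := by
      intro y
      obtain ⟨⟨x, hx⟩, rfl⟩ := Algebra.Extension.Cotangent.mk_surjective y
      obtain ⟨f, hf⟩ : ∃ f, CotT.jmap P f = x := LinearMap.mem_range.1 ((CotT.range_jmap P).symm ▸ hx)
      have h := LinearMap.congr_fun (LinearMap.mem_ker.1 φ.2) ((1 : B) ⊗ₜ f)
      rw [LinearMap.zero_apply, CotT.d1Star_apply, LinearMap.comp_apply] at h
      simpa [CotT.d1, CotT.jker_apply, hf] using h
    obtain ⟨ψ, hψ⟩ : ∃ ψ : Ω[B⁄A] →ₗ[B] M, φ.1 = ψ ∘ₗ P.toExtension.toKaehler := by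
      let e := LinearMap.quotKerEquivOfSurjective _ P.toExtension.toKaehler_surjective
      refine ⟨Submodule.liftQ _ φ.1 ?_ ∘ₗ e.symm.toLinearMap, LinearMap.ext fun x => ?_⟩
      · rw [P.toExtension.exact_cotangentComplex_toKaehler.linearMap_ker_eq]
        rintro _ ⟨y, rfl⟩
        exact hφ0 y
      · have : e.symm (P.toExtension.toKaehler x) = Submodule.Quotient.mk x := by
          rw [LinearEquiv.symm_apply_eq]; rfl
        simp [this]
    refine ⟨ψ.compDer (KaehlerDifferential.D A B), Subtype.ext ((P.cotangentSpaceBasis).ext fun i => ?_)⟩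
    change CotT.derLift P M _ (P.cotangentSpaceBasis i) = φ.1 (P.cotangentSpaceBasis i)
    rw [CotT.derLift_basis, hψ, LinearMap.comp_apply, Algebra.Generators.toKaehler_cotangentSpaceBasis]
    rfl

end Groth.Agent.S12286
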