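import Groth.Statements.S1229
import Groth.Agent.Hopf35.FlatLocusHensel
import Groth.Agent.CAlgH2.LocalModel
import Groth.Agent.S6928

set_option autoImplicit false
universe u
open FlatMor

namespace Groth.Agent.S1229

open IsLocalRing in
/-- Let A be a henselian local ring, A → B a local homomorphism of local rings which is essentially of
finite type, and M a finite B-module. Then some ideal I of A has the following property: for any
local ring A' with a local structure map from A, writing B', M' for the base changes of B, M to A'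
(any models), M' is flat over A' at all primes of B' lying above both maximal ideals exactly when
IA' = 0. If A → B is essentially of finite presentation and M is finitely presented over B then I is
finitely generated. -/
theorem result {A B : Type u} [CommRing A] [HenselianLocalRing A] [CommRing B] [IsLocalRing B] [Algebra A B]
    [IsLocalHom (algebraMap A B)] [Algebra.EssFiniteType A B]
    (M : Type u) [AddCommGroup M] [Module B M] [Module A M] [IsScalarTower A B M] [Module.Finite B M] :
    ∃ I : Ideal A,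
      (∀ (A' B' M' : Type u) [CommRing A'] [IsLocalRing A'] [Algebra A A'] [IsLocalHom (algebraMap A A')]
        [CommRing B'] [Algebra B B'] [Algebra A' B'] [Algebra A B'] [IsScalarTower A B B'] [IsScalarTower A A' B']
        [Algebra.IsPushout A B A' B']
        [AddCommGroup M'] [Module B' M'] [Module B M'] [IsScalarTower B B' M'] [Module A' M'] [IsScalarTower A' B' M']
        (f : M →ₗ[B] M'), IsBaseChange B' f →
        ((∀ (q : Ideal B') [q.IsPrime], (maximalIdeal A').map (algebraMap A' B') ⊔ (maximalIdeal B).map (algebraMap B B') ≤ q →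
            FlatCA.FlatAt A' q M') ↔ I.map (algebraMap A A') = ⊥)) ∧
      (FlatCA.EssFinitePresentation A B → Module.FinitePresentation B M → I.FG) := by
  classical
  obtain ⟨I, hI⟩ : ∃ I : Ideal A,
      ∀ (A' B' M' : Type u) [CommRing A'] [IsLocalRing A'] [Algebra A A'] [IsLocalHom (algebraMap A A')]
        [CommRing B'] [Algebra B B'] [Algebra A' B'] [Algebra A B'] [IsScalarTower A B B'] [IsScalarTower A A' B']
        [Algebra.IsPushout A B A' B']
        [AddCommGroup M'] [Module B' M'] [Module B M'] [IsScalarTower B B' M'] [Module A' M'] [IsScalarTower A' B' M']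
        (f : M →ₗ[B] M'), IsBaseChange B' f →
        ((∀ (q : Ideal B') [q.IsPrime], (maximalIdeal A').map (algebraMap A' B') ⊔ (maximalIdeal B).map (algebraMap B B') ≤ q →
            FlatCA.FlatAt A' q M') ↔ I.map (algebraMap A A') = ⊥) := by
    rcases subsingleton_or_nontrivial M with hM | hM
    · refine ⟨⊥, fun A' B' M' _ _ _ _ _ _ _ _ _ _ _ _ _ _ _ _ _ f hf => ?_⟩
      haveI : Subsingleton M' := hf.equiv.symm.toEquiv.subsingleton
      exact ⟨fun _ => Ideal.map_bot, fun _ Q _ _ => Groth.Agent.FlatCrit65.Purity.flatAt_of_flat Q⟩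
    let S := Algebra.EssFiniteType.subalgebra A B
    haveI : IsLocalization (Algebra.EssFiniteType.submonoid A B) B := Algebra.EssFiniteType.isLocalization A B
    let q : Ideal S := (maximalIdeal B).comap (algebraMap S B)
    haveI : IsLocalization.AtPrime B q :=
      Groth.Agent.CAlgH2.isLocalization_atPrime_of_isLocalRing (Algebra.EssFiniteType.submonoid A B)
    haveI : q.LiesOver (maximalIdeal A) := ⟨by
      rw [Ideal.under_def, Ideal.comap_comap, ← IsScalarTower.algebraMap_eq, IsLocalRing.maximalIdeal_comap]⟩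
    obtain ⟨N, hN, hι⟩ := Groth.Agent.Hopf35.FlatLocus.exists_finite_model (B := B) (M := M) q.primeCompl
    haveI := hN
    exact Groth.Agent.Hopf35.FlatLocus.exists_ideal_model q hι
  refine ⟨I, hI, fun hS hfp => ?_⟩
  haveI := hfp
  by_cases htop : I = ⊤
  · rw [htop]
    exact ⟨{1}, by simp⟩
  let G : Finset I → Type u := fun s => A ⧸ Ideal.span (Subtype.val '' (s : Set I))
  have hle : ∀ s : Finset I, Ideal.span (Subtype.val '' (s : Set I)) ≤ I := fun s => by
    rw [Ideal.span_le]
    rintro _ ⟨x, -, rfl⟩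
    exact x.2
  let g : ∀ s t, s ≤ t → G s →+* G t := fun s t h =>
    Ideal.Quotient.factor (Ideal.span_mono (Set.image_mono (Finset.coe_subset.2 h)))
  let R' := A ⧸ I
  letI : ∀ s, Algebra (G s) R' := fun s => (Ideal.Quotient.factor (hle s)).toAlgebra
  haveI : ∀ s, IsScalarTower A (G s) R' := fun s => IsScalarTower.of_algebraMap_eq fun _ => rfl
  haveI : Nontrivial R' := Ideal.Quotient.nontrivial_iff.2 htop
  haveI : IsLocalRing R' := IsLocalRing.of_surjective' (Ideal.Quotient.mk I) Ideal.Quotient.mk_surjective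
  haveI : IsLocalHom (algebraMap A R') := IsLocalHom.of_surjective (Ideal.Quotient.mk I) Ideal.Quotient.mk_surjective
  have hcolim : FlatCA.IsDirectedColimitRing G g R' := by
    refine ⟨⟨fun s t => ⟨s ∪ t, Finset.subset_union_left, Finset.subset_union_right⟩⟩, ⟨∅⟩, fun s => ?_, ?_, ?_, ?_, ?_⟩
    · exact Ideal.Quotient.ringHom_ext (RingHom.ext fun _ => rfl)
    · intro s t v _ _
      exact Ideal.Quotient.ringHom_ext (RingHom.ext fun _ => rfl)
    · intro s t _
      exact Ideal.Quotient.ringHom_ext (RingHom.ext fun _ => rfl)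
    · intro a
      obtain ⟨a, rfl⟩ := Ideal.Quotient.mk_surjective a
      exact ⟨∅, Ideal.Quotient.mk _ a, rfl⟩
    · intro s x hx
      obtain ⟨a, rfl⟩ := Ideal.Quotient.mk_surjective x
      have ha : a ∈ I := Ideal.Quotient.eq_zero_iff_mem.1 hx
      refine ⟨insert ⟨a, ha⟩ s, Finset.subset_insert _ _, ?_⟩
      exact Ideal.Quotient.eq_zero_iff_mem.2 (Ideal.subset_span ⟨⟨a, ha⟩, Finset.mem_insert_self _ _, rfl⟩)
  let Il : ∀ s, Ideal (G s) := fun s => (maximalIdeal A).map (Ideal.Quotient.mk _)
  have hIl : ∀ s t (h : s ≤ t), (Il s).map (g s t h) ≤ Il t := fun s t h => by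
    rw [Ideal.map_map]
    exact le_rfl
  obtain ⟨P, _, _, _, _, _, _, pP, -⟩ :=
    Groth.Agent.Hopf35.FlatLocus.exists_pushout (R := A) (S := B) (T := R')
  haveI := pP
  obtain ⟨MP, _, _, _, _, _, _, f, hf⟩ :=
    Groth.Agent.Hopf35.FlatLocus.exists_model (A := R') (D := B) (D₁ := P) M
  have hflat := (hI R' P MP f hf).2 (Ideal.map_quotient_self I)
  have hmax : (maximalIdeal R') ≤ ⨆ s, (Il s).map (algebraMap (G s) R') := by
    refine le_trans ?_ (le_iSup (fun s => (Il s).map (algebraMap (G s) R')) ∅)
    rw [Ideal.map_map]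
    exact le_of_eq (IsLocalRing.map_maximalIdeal_of_surjective (algebraMap A R') Ideal.Quotient.mk_surjective).symm
  obtain ⟨s, hs⟩ := Groth.Agent.S6928.result (M := M) hS G g (fun _ _ _ => rfl) R' hcolim Il hIl f hf (maximalIdeal B)
    (fun Q _ hQ => hflat Q (le_trans (sup_le_sup_right (Ideal.map_mono hmax) _) hQ))
  refine ⟨s.image Subtype.val, le_antisymm ?_ ?_⟩
  · rw [Finset.coe_image]
    exact hle s
  have hJ : Ideal.span (Subtype.val '' (s : Set I)) ≠ ⊤ := ne_top_of_le_ne_top htop (hle s)
  haveI : Nontrivial (G s) := Ideal.Quotient.nontrivial_iff.2 hJ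
  haveI : IsLocalRing (G s) := IsLocalRing.of_surjective' (Ideal.Quotient.mk _) Ideal.Quotient.mk_surjective
  haveI : IsLocalHom (algebraMap A (G s)) := IsLocalHom.of_surjective (Ideal.Quotient.mk _) Ideal.Quotient.mk_surjective
  obtain ⟨Ps, _, _, _, _, _, _, pPs, -⟩ :=
    Groth.Agent.Hopf35.FlatLocus.exists_pushout (R := A) (S := B) (T := G s)
  haveI := pPs
  obtain ⟨Ms, _, _, _, _, _, _, fs, hfs⟩ :=
    Groth.Agent.Hopf35.FlatLocus.exists_model (A := G s) (D := B) (D₁ := Ps) M
  have hIls : Il s ≤ maximalIdeal (G s) :=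
    le_of_eq (IsLocalRing.map_maximalIdeal_of_surjective _ Ideal.Quotient.mk_surjective)
  have hz := (hI (G s) Ps Ms fs hfs).1 (fun Q _ hQ => hs Ps Ms fs hfs Q
    (le_trans (sup_le_sup_right (Ideal.map_mono hIls) _) hQ))
  rw [Finset.coe_image]
  intro x hx
  exact Ideal.Quotient.eq_zero_iff_mem.1 ((Groth.Agent.Hopf35.FlatLocus.map_eq_bot_iff_le_ker _).1 hz x hx)

end Groth.Agent.S1229
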