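import Groth.Statements.S12293
import Groth.Agent.Deform85.AffineDefExt

set_option autoImplicit false
universe u w m
open CategoryTheory CategoryTheory.Limits AlgebraicGeometry
open scoped TensorProduct
open DefT

namespace Groth.Agent.S12293

/-- Let k be a field and B a k-algebra. The set of isomorphism classes of deformations of X = Spec B
over the dual numbers D = k[ε] (schemes flat over Spec D with a morphism from X identifying X with
the fibre over the closed point, up to isomorphism over Spec D and under X) is in bijection with the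
B-module T^1(B/k, B), computed from the choice-free presentation of B over k. (The published
statement calls the correspondence natural; this row asserts the existence of a bijection.) -/
theorem result
    (k B : Type u) [Field k] [CommRing B] [Algebra k B] :
    Nonempty ((ArtFun.defFunctor (Λ := k) (Spec (CommRingCat.of B)) (Spec.map (CommRingCat.ofHom (algebraMap k B)))).obj
        (ArtFun.Art.dual k k) ≃ CotT.T1 (CotT.canon k B) B) := by
  let X₀ : Scheme.{u} := Spec (CommRingCat.of B)
  let x₀ : X₀ ⟶ ArtFun.Art.specPt k := Spec.map (CommRingCat.ofHom (algebraMap k B))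
  have hx : Flat x₀ := (HasRingHomProperty.Spec_iff (P := @Flat)).mpr
    (RingHom.flat_algebraMap_iff.mpr inferInstance)
  let p : ArtFun.Art.dual k k ⟶ ArtFun.Art.base k k := ArtFun.Art.toBase _
  have hp : ArtFun.Art.IsSemismallExt p := by
    refine ⟨(ArtFun.Art.dual k k).res_surjective, eq_bot_iff.2 (Ideal.mul_le.2 fun a ha t ht => ?_)⟩
    have h1 : TrivSqZeroExt.fst (a : DualNumber k) = 0 := by
      rw [Groth.Agent.Deform85.maximalIdeal_eq_ker (ArtFun.Art.dual k k).res] at ha
      exact ha
    have h2 : TrivSqZeroExt.fst (t : DualNumber k) = 0 := ht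
    have key : ∀ a t : DualNumber k, TrivSqZeroExt.fst a = 0 → TrivSqZeroExt.fst t = 0 → a * t = 0 :=
      fun a t h1 h2 => TrivSqZeroExt.ext (by simp [h1, h2]) (by simp [h1, h2])
    exact key a t h1 h2
  let 𝒳 : ArtFun.DefSch X₀ x₀ (ArtFun.Art.base k k) := ArtFun.DefSch.self X₀ x₀ hx
  -- deformations over the base are uniquely trivial
  have hη : ∀ η : ArtFun.DefSch X₀ x₀ (ArtFun.Art.base k k), IsIso η.i := fun η =>
    IsPullback.isIso_fst_of_isIso η.isPullback
  let toSelf : ∀ η : ArtFun.DefSch X₀ x₀ (ArtFun.Art.base k k), η.Iso 𝒳 := fun η =>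
    haveI := hη η
    ⟨(asIso η.i).symm, (IsIso.inv_comp_eq η.i).2 (η.i_f.trans (ArtFun.Art.comp_specRes_base x₀)).symm,
      IsIso.hom_inv_id η.i⟩
  have huniq : ∀ η : ArtFun.DefSch X₀ x₀ (ArtFun.Art.base k k), ∀ e e' : η.Iso 𝒳, e.iso = e'.iso :=
    fun η e e' => by
      haveI := hη η
      exact Iso.ext ((cancel_epi η.i).1 (e.i_hom.trans e'.i_hom.symm))
  let E : (ArtFun.defFunctor (Λ := k) X₀ x₀).obj (ArtFun.Art.dual k k) ≃
      Quot (Groth.Agent.Deform85.AffineDefExt.extRel p 𝒳) :=
    { toFun := Quotient.lift (s := ArtFun.DefSch.setoid X₀ x₀ _)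
        (fun ξ => Quot.mk _ ⟨ξ, toSelf _⟩)
        (fun ξ ξ' ⟨ψ⟩ => Quot.sound ⟨ψ, huniq _ _ _⟩)
      invFun := Quot.lift (fun a => a.1.cl) (fun a b h => Quotient.sound (h.elim fun ψ _ => ⟨ψ⟩))
      left_inv := fun q => by
        induction q using Quotient.ind with
        | _ ξ => rfl
      right_inv := fun q => by
        induction q using Quot.ind with
        | _ a => exact Quot.sound ⟨ArtFun.DefSch.Iso.refl _, huniq _ _ _⟩ }
  obtain ⟨e⟩ := Groth.Agent.Deform85.AffineDefExt.nonempty_equiv_T1 (p := p) (𝒳 := 𝒳) hp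
    ⟨⟨ArtFun.DefSch.trivial X₀ x₀ hx _, toSelf _⟩⟩
  -- the kernel of the augmentation of the dual numbers is the field
  let c : k ≃ₗ[k] ↥(Groth.Agent.Deform85.AffineDefExt.kerI p) :=
    { toFun := fun a => ⟨(TrivSqZeroExt.inr a : DualNumber k), (TrivSqZeroExt.fst_inr k a : TrivSqZeroExt.fst (TrivSqZeroExt.inr a : DualNumber k) = 0)⟩
      invFun := fun t => TrivSqZeroExt.snd (t.1 : DualNumber k)
      map_add' := fun a b => Subtype.ext (TrivSqZeroExt.inr_add _ a b)
      map_smul' := fun a b => Subtype.ext (TrivSqZeroExt.inr_smul _ a b)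
      left_inv := fun a => TrivSqZeroExt.snd_inr _ _
      right_inv := fun t => Subtype.ext (TrivSqZeroExt.ext (t.2.symm : (0 : k) = TrivSqZeroExt.fst (t.1 : DualNumber k)) rfl) }
  let g : (B ⊗[k] ↥(Groth.Agent.Deform85.AffineDefExt.kerI p)) ≃ₗ[B] B :=
    (TensorProduct.AlgebraTensorModule.congr (LinearEquiv.refl B B) c.symm).trans
      (TensorProduct.AlgebraTensorModule.rid k B B)
  let P := CotT.canon k B
  have hcomp : ∀ {M N : Type u} [AddCommGroup M] [Module B M] [AddCommGroup N] [Module B N] (f : M ≃ₗ[B] N)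
      (x : CotT.T1 P M), CotT.T1map P f.symm.toLinearMap (CotT.T1map P f.toLinearMap x) = x := by
    intro M N _ _ _ _ f x
    induction x using Submodule.Quotient.induction_on with
    | _ φ =>
      refine congrArg (Submodule.Quotient.mk) (Subtype.ext ?_)
      exact LinearMap.ext fun z => f.symm_apply_apply _
  refine ⟨(E.trans e).trans
    { toFun := CotT.T1map P g.toLinearMap
      invFun := CotT.T1map P g.symm.toLinearMap
      left_inv := hcomp g
      right_inv := fun y => by simpa using hcomp g.symm y }⟩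

end Groth.Agent.S12293
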