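import Groth.Statements.S1230
import Groth.Agent.FlatCrit65.Assassin.Local
import Groth.Agent.FlatCrit65.Assassin.MainAss

set_option autoImplicit false
universe u
open FlatMor

namespace Groth.Agent.S1230

open TensorProduct in
/-- Ring form, X = Spec B, X' = Spec B' affine: let B be a finite type A-algebra, N a finite B-module
flat over A, and B' a flat B-algebra such that every prime q of B, over p in A, whose extension to
the fibre ring over p is an associated prime of the fibre module of N is the contraction of a prime
of B'. Then the canonical map N → B' ⊗_B N is injective and remains injective after tensoring over A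
with any A-algebra. -/
theorem result {A B B' : Type u} [CommRing A] [CommRing B] [CommRing B'] [Algebra A B] [Algebra B B'] [Algebra A B'] [IsScalarTower A B B']
    [Algebra.FiniteType A B] [Module.Flat B B']
    (N : Type u) [AddCommGroup N] [Module B N] [Module A N] [IsScalarTower A B N] [Module.Finite B N] [Module.Flat A N]
    (h : ∀ (p : Ideal A) (q : Ideal B) [p.IsPrime] [q.IsPrime] [q.LiesOver p],
      FlatCA.fiberIdeal p q ∈ associatedPrimes (p.Fiber B) (FlatCA.fiberMod p B N) →
      ∃ q' : Ideal B', q'.IsPrime ∧ q'.comap (algebraMap B B') = q) :
    ∀ (A' : Type u) [CommRing A'] [Algebra A A'],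
      Function.Injective (((TensorProduct.mk B B' N 1).restrictScalars A).baseChange A') := by
  intro A' _ _
  show Function.Injective (((TensorProduct.mk B B' N 1).restrictScalars A).lTensor A')
  rw [LinearMap.lTensor_inj_iff_rTensor_inj, injective_iff_map_eq_zero]
  intro z hz
  let e := TensorProduct.AlgebraTensorModule.assoc A B B B' N A'
  have key : ∀ w, e (((TensorProduct.mk B B' N 1).restrictScalars A).rTensor A' w) = TensorProduct.tmul B (1 : B') w := by
    intro w
    induction w using TensorProduct.induction_on with
    | zero => simp only [map_zero, TensorProduct.tmul_zero]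
    | tmul m x => rfl
    | add a b ha hb => simp only [map_add, ha, hb, TensorProduct.tmul_add]
  by_contra hne
  obtain ⟨q, hq, hann⟩ := Groth.Agent.CAlg5.exists_mem_weakAss (R := B) hne
  have := Groth.Agent.CAlg5.weakAss_isPrime hq
  have : q.LiesOver (q.comap (algebraMap A B)) := ⟨rfl⟩
  obtain ⟨-, hass⟩ := Groth.Agent.FlatCrit65.of_mem_weakAss_tensor (p := q.comap (algebraMap A B)) q
    (Groth.Agent.FlatCrit65.flat_localized_of_flat q) hq
  obtain ⟨q', hq', hc⟩ := h _ q hass
  exact Groth.Agent.FlatCrit65.one_tmul_ne_zero q' z (fun s hs => hc.ge (hann s hs))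
    ((key z).symm.trans ((congrArg e hz).trans (map_zero e)))

end Groth.Agent.S1230
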