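import Groth.Statements.S12300
import Groth.Agent.ArtF84.Families

set_option autoImplicit false
universe u v
open CategoryTheory
open ArtFun

namespace Groth.Agent.S12300

theorem result
    {k : Type u} [Field k] [IsAlgClosed k] {F : ArtFun.Art k k ⥤ Type v}
    (R : ArtFun.CRing k k) (ξ : ArtFun.Family R.carrier R.res F) (hξ : ArtFun.IsUniversal ξ)
    (S : ArtFun.CRing k k) (g₁ g₂ : R.carrier →ₐ[k] S.carrier)
    (hg₁ : S.res.comp g₁ = R.res) (hg₂ : S.res.comp g₂ = R.res)
    (h : (ξ.along g₁ hg₁).toFormalElt = (ξ.along g₂ hg₂).toFormalElt) :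
    g₁ = g₂ := by
  refine ArtF84.eq_of_truncHom_comp_eq g₁ g₂ fun n => ?_
  exact congrArg Subtype.val ((hξ _).1 (congrArg (fun v : ArtFun.FormalElt F S => v.elt n) h))

end Groth.Agent.S12300
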