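import Groth.Statements.S12304
import Groth.Agent.Cohen12.Completion
import Groth.Agent.ArtF85.Basic
import Groth.Prelude.Def_ArtFun5
import Mathlib.AlgebraicGeometry.Stalk
-- import your own Groth.Agent.* helpers here

set_option autoImplicit false
universe u
open CategoryTheory CategoryTheory.Limits AlgebraicGeometry
open ArtFun

namespace Groth.Agent.S12304

/-- Let k be an algebraically closed field, M a locally Noetherian k-scheme and x₀ : Spec k → M a
k-rational point. For a local Artinian k-algebra A with residue field k consider the k-morphisms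
Spec A → M whose restriction along the closed point Spec k → Spec A is x₀ (the local functor of M at
x₀, a morphism A → B acting by composition with Spec B → Spec A). This functor is pro-representable:
there are a complete local Noetherian k-algebra R with residue field k and bijections, natural in A,
between the augmentation-compatible k-algebra maps R → A and these morphisms. (The published
statement is phrased for the fine moduli scheme M of a moduli problem, whose local functor at the
point of a given object is this one; M is taken locally Noetherian here so that the coefficient ring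
is Noetherian.) -/
theorem result
    {k : Type u} [Field k] [IsAlgClosed k] (M : Scheme.{u}) (m : M ⟶ Spec (CommRingCat.of k))
    [IsLocallyNoetherian M] (x₀ : Spec (CommRingCat.of k) ⟶ M) (hx₀ : x₀ ≫ m = 𝟙 _) :
    ∃ (R : ArtFun.CRing k k)
      (e : ∀ A : ArtFun.Art k k, ArtFun.HomSet R.carrier R.res A ≃
        {g : ArtFun.Art.spec A ⟶ M // g ≫ m = ArtFun.Art.specMap (ArtFun.Art.ofBase A) ∧ ArtFun.Art.specRes A ≫ g = x₀}),
      ∀ (A B : ArtFun.Art k k) (h : A ⟶ B) (φ : ArtFun.HomSet R.carrier R.res A),
        ((e B) (ArtFun.HomSet.map h φ)).1 = ArtFun.Art.specMap h ≫ ((e A) φ).1 := by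
  open IsLocalRing in
  classical
  let x : M := x₀ (closedPoint k)
  let O : CommRingCat := M.presheaf.stalk x
  let str : CommRingCat.of k ⟶ O := Spec.preimage (M.fromSpecStalk x ≫ m)
  have hstr : Spec.map str = M.fromSpecStalk x ≫ m := Spec.map_preimage _
  let : Algebra k O := str.hom.toAlgebra
  let r₀ : O ⟶ CommRingCat.of k := Scheme.stalkClosedPointTo x₀
  have hr₀ : Spec.map r₀ ≫ M.fromSpecStalk x = x₀ := Scheme.Spec_stalkClosedPointTo_fromSpecStalk x₀
  have hsr : str ≫ r₀ = 𝟙 _ := Spec.map_injective (by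
    rw [Spec.map_comp, hstr, reassoc_of% hr₀, hx₀, Spec.map_id])
  let resO : O →ₐ[k] k :=
    { r₀.hom with commutes' := fun c => congrArg (fun f : CommRingCat.of k ⟶ CommRingCat.of k => f.hom c) hsr }
  have hresO : maximalIdeal O = RingHom.ker resO := by
    have : (RingHom.ker resO).IsMaximal :=
      RingHom.ker_isMaximal_of_surjective resO fun c => ⟨algebraMap k O c, resO.commutes c⟩
    exact (eq_maximalIdeal this).symm
  let I := maximalIdeal O
  have hN : IsNoetherianRing (AdicCompletion I O) := Groth.Agent.Cohen12.isNoetherianRing_completion O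
  have hI : ∀ a ∈ I, resO a = 0 := fun a ha => RingHom.mem_ker.mp (hresO.le ha)
  let res : AdicCompletion I O →ₐ[k] k :=
    (Ideal.Quotient.liftₐ I resO hI).comp
      ((AdicCompletion.evalOneₐ I).restrictScalars k)
  let ι : O →ₐ[k] AdicCompletion I O := IsScalarTower.toAlgHom k O _
  have hι : ∀ a, ι a = AdicCompletion.of I O a := fun a => rfl
  have hresι : ∀ a, res (ι a) = resO a := fun a => by
    show (Ideal.Quotient.liftₐ I resO hI) (AdicCompletion.evalOneₐ I (ι a)) = resO a
    rw [hι, AdicCompletion.evalOneₐ_of]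
    rfl
  let R : ArtFun.CRing k k :=
    { carrier := AdicCompletion I O
      res := res
      res_surjective := fun c => ⟨ι (algebraMap k O c), (hresι _).trans (resO.commutes c)⟩
      isAdicComplete := Groth.Agent.Cohen12.isAdicComplete_completion O }
  let toO : ∀ A : ArtFun.Art k k, ArtFun.HomSet R.carrier R.res A → ArtFun.HomSet O resO A := fun A ψ =>
    ⟨ψ.1.comp ι, AlgHom.ext fun a => (AlgHom.congr_fun ψ.2 (ι a)).trans (hresι a)⟩
  have hcompl : ∀ A, Function.Bijective (toO A) := fun A => by
    obtain ⟨N, hN⟩ := Groth.Agent.ArtF85.exists_pow_maximalIdeal_eq_bot A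
    have hkill : ∀ {T : Type u} [CommRing T] [Algebra k T] [IsLocalRing T] {r : T →ₐ[k] k}
        (ψ : ArtFun.HomSet T r A), ∀ a ∈ maximalIdeal T ^ N, ψ.1 a = 0 := fun {T} _ _ _ {r} ψ a ha => by
      have hmax : RingHom.ker r = maximalIdeal T :=
        eq_maximalIdeal (RingHom.ker_isMaximal_of_surjective r fun c => ⟨algebraMap k T c, r.commutes c⟩)
      have hle : (maximalIdeal T).map ψ.1 ≤ maximalIdeal A := Ideal.map_le_iff_le_comap.mpr fun b hb => by
        rw [Ideal.mem_comap, ArtFun.Art.mem_maximalIdeal_iff]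
        exact (AlgHom.congr_fun ψ.2 b).trans (RingHom.mem_ker.mp (hmax.ge hb))
      have h1 := Ideal.mem_map_of_mem ψ.1 ha
      rw [Ideal.map_pow] at h1
      exact Ideal.mem_bot.mp (hN ▸ Ideal.pow_right_mono hle N h1)
    refine ⟨fun ψ ψ' h => Subtype.ext (AlgHom.ext fun z => ?_), fun φ => ?_⟩
    · obtain ⟨a, ha⟩ := Ideal.Quotient.mk_surjective (AdicCompletion.evalₐ I N z)
      have hz : z - ι a ∈ maximalIdeal (AdicCompletion I O) ^ N := by
        refine (Groth.Agent.Cohen12.evalₐ_eq_zero_iff O N _).mp ?_
        rw [map_sub, hι, AdicCompletion.evalₐ_of, sub_eq_zero]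
        exact ha.symm
      have e1 := hkill (T := AdicCompletion I O) ψ _ hz
      have e2 := hkill (T := AdicCompletion I O) ψ' _ hz
      rw [map_sub, sub_eq_zero] at e1 e2
      exact e1.trans ((congrArg (fun χ : ArtFun.HomSet O resO A => χ.1 a) h).trans e2.symm)
    · have hφk : ∀ a ∈ I ^ N, φ.1 a = 0 := hkill φ
      let ψ : AdicCompletion I O →ₐ[k] A := (Ideal.Quotient.liftₐ (I ^ N) φ.1 hφk).comp
        ((AdicCompletion.evalₐ I N).restrictScalars k)
      have hψ : ∀ a, ψ (ι a) = φ.1 a := fun a => by
        show (Ideal.Quotient.liftₐ _ φ.1 hφk) (AdicCompletion.evalₐ I N (ι a)) = φ.1 a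
        rw [hι, AdicCompletion.evalₐ_of]
        rfl
      have hψres : A.res.comp ψ = res := AlgHom.ext fun z => by
        obtain ⟨a, ha⟩ := Ideal.Quotient.mk_surjective (AdicCompletion.evalₐ I (N + 1) z)
        have hz : z - ι a ∈ maximalIdeal (AdicCompletion I O) ^ (N + 1) := by
          refine (Groth.Agent.Cohen12.evalₐ_eq_zero_iff O _ _).mp ?_
          rw [map_sub, hι, AdicCompletion.evalₐ_of, sub_eq_zero]
          exact ha.symm
        have e1 : ψ (z - ι a) = 0 := by
          have := Ideal.pow_le_pow_right (Nat.le_succ N) hz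
          rw [← Groth.Agent.Cohen12.evalₐ_eq_zero_iff] at this
          show (Ideal.Quotient.liftₐ _ φ.1 hφk) (AdicCompletion.evalₐ I N (z - ι a)) = 0
          rw [this, map_zero]
        have e2 : res (z - ι a) = 0 := (R.mem_maximalIdeal_iff _).mp (Ideal.pow_le_self (Nat.succ_ne_zero N) hz)
        rw [map_sub, sub_eq_zero] at e1 e2
        rw [AlgHom.comp_apply, e1, hψ, e2, hresι]
        exact AlgHom.congr_fun φ.2 a
      exact ⟨⟨ψ, hψres⟩, Subtype.ext (AlgHom.ext hψ)⟩
  let Pt : ArtFun.Art k k → Type u := fun A =>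
    {g : ArtFun.Art.spec A ⟶ M // g ≫ m = ArtFun.Art.specMap (ArtFun.Art.ofBase A) ∧ ArtFun.Art.specRes A ≫ g = x₀}
  let toPt : ∀ A : ArtFun.Art k k, ArtFun.HomSet O resO A → Pt A := fun A φ =>
    ⟨Spec.map (CommRingCat.ofHom φ.1.toRingHom) ≫ M.fromSpecStalk x, by
      rw [Category.assoc, ← hstr, ← Spec.map_comp]
      exact congrArg Spec.map (CommRingCat.hom_ext (RingHom.ext fun c => φ.1.commutes c)), by
      show Spec.map _ ≫ Spec.map _ ≫ _ = x₀
      rw [← Spec.map_comp_assoc, ← hr₀]
      congr 2
      exact CommRingCat.hom_ext (RingHom.ext fun a => AlgHom.congr_fun φ.2 a)⟩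
  have hpt : ∀ A, Function.Bijective (toPt A) := fun A => by
    refine ⟨fun φ φ' h => ?_, fun g => ?_⟩
    · have h' := Spec.map_injective ((cancel_mono (M.fromSpecStalk x)).mp (congrArg Subtype.val h))
      exact Subtype.ext (AlgHom.ext fun a => congrArg (fun f : O ⟶ CommRingCat.of A => f.hom a) h')
    · have hsub : ∀ p : PrimeSpectrum A, p = closedPoint A := fun p =>
        PrimeSpectrum.ext (eq_maximalIdeal (IsArtinianRing.isMaximal_of_isPrime p.asIdeal))
      have hgx : g.1 (closedPoint A) = x := by
        show g.1 (closedPoint A) = x₀ (closedPoint k)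
        refine Eq.trans ?_ (congrArg (fun f : Spec (CommRingCat.of k) ⟶ M => f (closedPoint k)) g.2.2)
        rw [Scheme.Hom.comp_apply]
        exact congrArg g.1 (hsub _).symm
      have hs : g.1 (closedPoint A) ⤳ x := specializes_of_eq hgx
      let φ : O ⟶ CommRingCat.of A := M.presheaf.stalkSpecializes hs ≫ Scheme.stalkClosedPointTo g.1
      have hφ : Spec.map φ ≫ M.fromSpecStalk x = g.1 := by
        rw [Spec.map_comp, Category.assoc, Scheme.SpecMap_stalkSpecializes_fromSpecStalk,
          Scheme.Spec_stalkClosedPointTo_fromSpecStalk]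
      have h1 : str ≫ φ = CommRingCat.ofHom (algebraMap k A) := Spec.map_injective (by
        rw [Spec.map_comp, hstr, reassoc_of% hφ, g.2.1]
        rfl)
      have h2 : φ ≫ CommRingCat.ofHom A.res.toRingHom = r₀ := Spec.map_injective (by
        rw [← cancel_mono (M.fromSpecStalk x), Spec.map_comp, Category.assoc, hφ, hr₀]
        exact g.2.2)
      refine ⟨⟨{ φ.hom with commutes' := fun c => congrArg (fun f : CommRingCat.of k ⟶ CommRingCat.of A => f.hom c) h1 },
        AlgHom.ext fun a => congrArg (fun f : O ⟶ CommRingCat.of k => f.hom a) h2⟩, Subtype.ext hφ⟩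
  refine ⟨R, fun A => (Equiv.ofBijective _ (hcompl A)).trans (Equiv.ofBijective _ (hpt A)), fun A B h φ => ?_⟩
  show Spec.map _ ≫ _ = Spec.map _ ≫ Spec.map _ ≫ _
  rw [← Spec.map_comp_assoc]
  rfl

end Groth.Agent.S12304
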