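import Groth.Statements.S12305
import Groth.Agent.CotT43.T1Away

set_option autoImplicit false
universe u
open CotT

namespace Groth.Agent.S12305

/-- Let k be an algebraically closed field, A a finitely generated k-algebra which is a domain, smooth
over k and of Krull dimension one (the coordinate ring of a nonsingular affine curve T), t ∈ A an
element generating a maximal ideal (a point 0 of T), and B a finitely generated flat A-algebra (an
affine flat family X = Spec B over T). Then the following are equivalent: (i) B is smooth over A at
every prime of B not containing t, that is, every fibre of X over a point of T other than 0 is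
smooth; (ii) there is an integer n₀ such that t^(n₀) annihilates the cotangent module T¹(B/A, M),
computed from the choice-free presentation of B over A, for every finitely generated B-module M. -/
theorem result
    {k : Type u} [Field k] [IsAlgClosed k] (A B : Type u) [CommRing A] [CommRing B] [IsDomain A]
    [Algebra k A] [Algebra.FiniteType k A] [Algebra.Smooth k A] (hdim : ringKrullDim A = 1)
    (t : A) (ht : (Ideal.span {t}).IsMaximal)
    [Algebra A B] [Algebra.FiniteType A B] [Module.Flat A B] :
    (∀ q : PrimeSpectrum B, algebraMap A B t ∉ q.asIdeal → q ∈ Algebra.smoothLocus A B) ↔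
    ∃ n₀ : ℕ, ∀ (M : Type u) [AddCommGroup M] [Module B M] [Module.Finite B M],
      ∀ x : CotT.T1 (CotT.canon A B) M, (algebraMap A B t) ^ n₀ • x = 0 := by
  haveI : IsNoetherianRing A := Algebra.FiniteType.isNoetherianRing k A
  haveI : Algebra.FinitePresentation A B := Algebra.FinitePresentation.of_finiteType.1 inferInstance
  let P := Algebra.Presentation.ofFinitePresentation A B
  refine (show _ ↔ Algebra.FormallySmooth A (Localization.Away (algebraMap A B t)) from
    ⟨fun h => Algebra.basicOpen_subset_smoothLocus_iff.1 fun q hq => h q hq,
      fun h q hq => Algebra.basicOpen_subset_smoothLocus_iff.2 h hq⟩).trans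
    ((Groth.Agent.CotT43.T1_smul_eq_zero_iff P t).symm.trans
      ⟨fun ⟨n, h⟩ => ⟨n, fun M _ _ _ x => ?_⟩, fun ⟨n, h⟩ => ⟨n, fun M _ _ _ x => ?_⟩⟩)
  · apply (CotT85.T1equiv M (CotT.canon A B) P).injective
    rw [map_smul, map_zero]
    exact h M _
  · apply (CotT85.T1equiv M P (CotT.canon A B)).injective
    rw [map_smul, map_zero]
    exact h M _

end Groth.Agent.S12305
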