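import Groth.Statements.S12314
import Mathlib

set_option autoImplicit false
universe u
open CategoryTheory CategoryTheory.Limits AlgebraicGeometry MonObj
open SGA7

namespace Groth.Agent.S12314

/-- Let R be a henselian discrete valuation ring with fraction field K and residue field k, Ω a
separable closure of K, W a valuation subring of Ω lying over R, A and C abelian varieties over K
(proper, geometrically integral commutative group schemes), and u : C → A an isogeny, in the form:
there are a homomorphism v : A → C and an integer n > 0 with v ∘ u = n and u ∘ v = n. Let ℓ be a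
prime invertible in k and consider the ℓ-adic Tate modules of the Ω-points of C and A; call an
element fixed when all its components are fixed by the inertia group at W (for such ℓ the fixed part
is the inertia invariants). Then T_ℓ(u) maps the fixed part of T_ℓ(C) into the fixed part of T_ℓ(A)
and induces an isogeny between them: T_ℓ(u) is injective, and n times every fixed element of T_ℓ(A)
is the image of a fixed element of T_ℓ(C). (The case of a prime equal to the residue characteristic,
where the fixed part is defined through the Néron model, is not stated.) -/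
theorem result (R K Ω : Type u) [CommRing R] [IsDomain R] [IsDiscreteValuationRing R] [HenselianLocalRing R]
    [Field K] [Algebra R K] [IsFractionRing R K] [Field Ω] [Algebra K Ω] [IsSepClosure K Ω]
    (W : ValuationSubring Ω) (hW : SGA7.LiesOver K R W)
    (A C : Over (Spec (CommRingCat.of K))) [GrpObj A] [IsCommMonObj A] [IsProper A.hom] [GeometricallyIntegral A.hom]
    [GrpObj C] [IsCommMonObj C] [IsProper C.hom] [GeometricallyIntegral C.hom]
    (u : C ⟶ A) [IsMonHom u] (v : A ⟶ C) [IsMonHom v] (n : ℕ) (hn : 0 < n)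
    (huv : u ≫ v = (𝟙 C) ^ n) (hvu : v ≫ u = (𝟙 A) ^ n)
    (l : ℕ) (hl : l.Prime) (hlp : (l : IsLocalRing.ResidueField R) ≠ 0) :
    (∀ z : AbDual.TateMod C l (SGA7.pt Ω),
      (∀ (τ : Ω ≃ₐ[K] Ω) (m : ℕ), SGA7.IsInertia W τ →
        SGA7.galAct τ (AbDual.TateMod.component C l (SGA7.pt Ω) m z).toMul =
          (AbDual.TateMod.component C l (SGA7.pt Ω) m z).toMul) →
      (∀ (τ : Ω ≃ₐ[K] Ω) (m : ℕ), SGA7.IsInertia W τ →
        SGA7.galAct τ (AbDual.TateMod.component A l (SGA7.pt Ω) m (AbDual.tateMap u z)).toMul =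
          (AbDual.TateMod.component A l (SGA7.pt Ω) m (AbDual.tateMap u z)).toMul)) ∧
    (∀ z : AbDual.TateMod C l (SGA7.pt Ω), AbDual.tateMap (l := l) (T := SGA7.pt Ω) u z = 0 → z = 0) ∧
    (∀ y : AbDual.TateMod A l (SGA7.pt Ω),
      (∀ (τ : Ω ≃ₐ[K] Ω) (m : ℕ), SGA7.IsInertia W τ →
        SGA7.galAct τ (AbDual.TateMod.component A l (SGA7.pt Ω) m y).toMul =
          (AbDual.TateMod.component A l (SGA7.pt Ω) m y).toMul) →
      ∃ z : AbDual.TateMod C l (SGA7.pt Ω),
        (∀ (τ : Ω ≃ₐ[K] Ω) (m : ℕ), SGA7.IsInertia W τ →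
        SGA7.galAct τ (AbDual.TateMod.component C l (SGA7.pt Ω) m z).toMul =
          (AbDual.TateMod.component C l (SGA7.pt Ω) m z).toMul) ∧
        AbDual.tateMap (l := l) (T := SGA7.pt Ω) u z = n • y) := by
  have hcomm : ∀ {B D : Over (Spec (CommRingCat.of K))} (f : B ⟶ D) (τ : Ω ≃ₐ[K] Ω) (x : SGA7.Pts Ω B),
      SGA7.galAct τ (x ≫ f) = SGA7.galAct τ x ≫ f := fun f τ x => (Category.assoc _ _ _).symm
  refine ⟨fun z hz τ m hτ => ?_, fun z hz => ?_, fun y hy => ⟨AbDual.tateMap v y, fun τ m hτ => ?_, ?_⟩⟩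
  · rw [AbDual.tateMap_component, hcomm, hz τ m hτ]
  · have hn0 : ∀ m, n • (z : ℕ → Additive (SGA7.pt Ω ⟶ C)) m = 0 := fun m => by
      have h := congrArg (fun w => (AbDual.TateMod.component A l (SGA7.pt Ω) m w).toMul) hz
      simp only [AbDual.tateMap_component, map_zero, toMul_zero] at h
      have h2 := congrArg (· ≫ v) h
      simp only [Category.assoc, huv, MonObj.comp_pow, Category.comp_id, MonObj.one_comp] at h2
      exact Additive.toMul.injective h2
    refine AbDual.TateMod.ext fun m => ?_
    have hiter : ∀ a, (l ^ a) • (z : ℕ → Additive (SGA7.pt Ω ⟶ C)) (m + a) = (z : ℕ → Additive (SGA7.pt Ω ⟶ C)) m := by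
      intro a
      induction a with
      | zero => rw [pow_zero, one_nsmul, add_zero]
      | succ a ih => rw [pow_succ, mul_nsmul', ← Nat.add_assoc, AbDual.TateMod.compat z, ih]
    rw [← hiter n]
    obtain ⟨i, -, hi⟩ := (Nat.dvd_prime_pow hl).1 (Nat.gcd_dvd_right n (l ^ (m + n)))
    have hile : i ≤ n := (Nat.lt_pow_self hl.one_lt).le.trans (hi ▸ Nat.le_of_dvd hn (Nat.gcd_dvd_left _ _))
    have h1 := addOrderOf_dvd_of_nsmul_eq_zero (hn0 (m + n))
    have h2 := addOrderOf_dvd_of_nsmul_eq_zero (AbDual.TateMod.torsion z (m + n))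
    exact addOrderOf_dvd_iff_nsmul_eq_zero.1 ((hi ▸ Nat.dvd_gcd h1 h2).trans (pow_dvd_pow l hile))
  · rw [AbDual.tateMap_component, hcomm, hy τ m hτ]
  · refine AbDual.TateMod.ext fun m => Additive.toMul.injective ?_
    show ((AbDual.TateMod.component A l (SGA7.pt Ω) m y).toMul ≫ v) ≫ u =
      (AbDual.TateMod.component A l (SGA7.pt Ω) m (n • y)).toMul
    rw [Category.assoc, hvu, MonObj.comp_pow, Category.comp_id, map_nsmul, toMul_nsmul]

end Groth.Agent.S12314
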