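import Groth.Statements.S12316
import Mathlib
import Groth.Agent.ArtF85.Torsor

set_option autoImplicit false
set_option linter.style.haveILetI false
set_option linter.style.longLine false
universe u v
open CategoryTheory
open SGA7

namespace Groth.Agent.S12316


open ArtFun ArtFun.Art Groth.Agent.ArtF85

/-- Suppose Λ is a Noetherian local ring, complete for its maximal ideal, whose residue field is k (so Λ
→ k is surjective), and work with functors defined on the category of local Artinian Λ-algebras
having residue field k. Take morphisms φ : F → G and ψ : G → H of such functors. Assume that each of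
F(k), G(k), H(k) consists of a single point; that for G the comparison map on fibre products A₁ ×_A
A₂ is surjective as soon as A₂ → A is surjective, and is bijective for products of the form A' ×_k
k[ε]; that for H the comparison map is bijective on every fibre product A₁ ×_A A₂ with A₂ → A
surjective; and that the induced map on tangent spaces G(k[ε]) → H(k[ε]) coming from ψ is injective.
Under these assumptions, φ ≫ ψ is smooth if and only if both φ and ψ are smooth. (The published
statement is for functors of cofibred groupoids with G semi-homogeneous and H homogeneous; this row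
is the case of set-valued functors.) -/
theorem result (Λ k : Type u) [CommRing Λ] [IsLocalRing Λ] [IsNoetherianRing Λ]
    [IsAdicComplete (IsLocalRing.maximalIdeal Λ) Λ] [Field k] [Algebra Λ k]
    (hk : Function.Surjective (algebraMap Λ k))
    {F G H : ArtFun.Art Λ k ⥤ Type v} (φ : F ⟶ G) (ψ : G ⟶ H)
    (hF : ArtFun.H0 F) (hG : ArtFun.H0 G ∧ ArtFun.S1 G ∧ ArtFun.Heps G) (hH0 : ArtFun.H0 H)
    (hH : ∀ ⦃B A A' A'' : ArtFun.Art Λ k⦄ (p' : B ⟶ A') (p'' : B ⟶ A'') (f' : A' ⟶ A) (f'' : A'' ⟶ A)
      (h : ArtFun.Art.IsFibreProd p' p'' f' f''), Function.Surjective f'' → Function.Bijective (ArtFun.cmp H h))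
    (hψ : Function.Injective (ArtFun.TangentSpace.map ψ)) :
    ArtFun.IsSmooth (φ ≫ ψ) ↔ (ArtFun.IsSmooth φ ∧ ArtFun.IsSmooth ψ) := by
  haveI : Module.Finite Λ k := Module.Finite.of_surjective (Algebra.linearMap Λ k) hk
  refine ⟨fun h => ?_, fun h => isSmooth_comp φ ψ h.1 h.2⟩
  have hφ : IsSmooth φ := by
    refine isSmooth_of_small φ fun B A μ hμ x y e => ?_
    obtain ⟨x', rfl, -⟩ := (isSmooth_iff _).1 h μ hμ.1 x (ψ.app B y)
      (by rw [← NatTrans.naturality_apply ψ, ← e]; rfl)
    obtain ⟨P, p₁, p₂, d, Δ, hP, hd, -, -, -⟩ := exists_kernelPair hμ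
    obtain ⟨z, hz₁, hz₂⟩ := (surjective_cmp_iff hP).1 (hG.2.1 _ _ _ _ hP hμ.1) (φ.app B x') y
      (by rw [← NatTrans.naturality_apply φ, e])
    obtain ⟨w, hw₁, hw₂⟩ := (isSmooth_iff _).1 h p₁ (surjective_fst hP hμ.1) x' (ψ.app P z)
      (by rw [← NatTrans.naturality_apply ψ, hz₁]; rfl)
    have hw : φ.app P w = z := (injective_cmp_iff hd).1 (hG.2.2 p₁ d hd).1 _ _
      (by rw [← NatTrans.naturality_apply φ, hw₁, hz₁])
      (hψ (show ψ.app (dual Λ k) (G.map d (φ.app P w)) = ψ.app (dual Λ k) (G.map d z) by
        rw [NatTrans.naturality_apply ψ, NatTrans.naturality_apply ψ]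
        exact congrArg (H.map d) hw₂))
    refine ⟨F.map p₂ w, ?_, by rw [NatTrans.naturality_apply φ, hw, hz₂]⟩
    rw [map_map, ← hP.w, ← map_map, hw₁]
  exact ⟨hφ, isSmooth_of_comp_of_surjective φ ψ
    (surjective_app_of_isSmooth φ hφ (surjective_app_base_of_h0 φ hF hG.1)) h⟩

end Groth.Agent.S12316
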