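import Groth.Statements.S12320
import Mathlib
import Groth.Agent.ArtF85.Torsor

set_option autoImplicit false
set_option linter.style.haveILetI false
set_option linter.style.longLine false
universe u v
open CategoryTheory
open SGA7

namespace Groth.Agent.S12320


open ArtFun ArtFun.Art Groth.Agent.ArtF85

variable {Λ k : Type u} [CommRing Λ] [Field k] [Algebra Λ k]

lemma isSmallExt_dual : IsSmallExt (toBase (dual Λ k)) := by
  refine isSmallExt_of_ker (surjective_toBase _) (t := mkDual 0 1) ?_ ?_ ?_
  · intro h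
    have := congrArg eps h
    simp at this
  · ext x
    rw [RingHom.mem_ker, Ideal.mem_span_singleton']
    refine ⟨fun hx => ⟨mkDual (eps x) 0, dual_ext ?_ ?_⟩, ?_⟩
    · rw [map_mul, res_mkDual, res_mkDual, mul_zero]
      exact hx.symm
    · rw [eps_mul, res_mkDual, res_mkDual, eps_mkDual, eps_mkDual]
      ring
    · rintro ⟨c, rfl⟩
      change (dual Λ k).res (c * mkDual 0 1) = 0
      rw [map_mul, res_mkDual, mul_zero]
  · intro a ha
    rw [mem_maximalIdeal_iff] at ha
    refine dual_ext ?_ ?_
    · rw [map_mul, res_mkDual, mul_zero, map_zero]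
    · rw [eps_mul, res_mkDual, eps_mkDual, ha, eps_zero]
      ring

/-- Suppose Λ is a Noetherian local ring, complete for its maximal ideal, whose residue field is k (so
that Λ → k is onto), and work with functors defined on the category of local Artinian Λ-algebras
having residue field k. Take such a functor F for which F(k) is a singleton, for which the
comparison map F(A₁ ×_A A₂) → F(A₁) ×_{F(A)} F(A₂) is surjective as soon as A₂ → A is surjective,
and for which this map is bijective in the case A' ×_k k[ε]. Call an element a ∈ F(R) versal for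
small prolongations of the base point when, given any object R₀ whose augmentation R₀ → k is a small
extension and any b ∈ F(R₀), some morphism R → R₀ sends a to b. Assume a ∈ F(R) has this versality
property, that π₁ : R₁ → R is a small extension together with a₁ ∈ F(R₁) whose image is a, and that
g : R' → R is a morphism together with a' ∈ F(R') whose image is a. Then a morphism f : R' → R₁
satisfying f ≫ π₁ = g and sending a' to a₁ exists exactly when some morphism f : R' → R₁ satisfying
f ≫ π₁ = g exists at all. (The published statement concerns semi-homogeneous cofibred groupoids;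
this row treats only the set-valued functor case.) -/
theorem result (Λ k : Type u) [CommRing Λ] [IsLocalRing Λ] [IsNoetherianRing Λ]
    [IsAdicComplete (IsLocalRing.maximalIdeal Λ) Λ] [Field k] [Algebra Λ k]
    (hk : Function.Surjective (algebraMap Λ k))
    (F : ArtFun.Art Λ k ⥤ Type v) (hF : ArtFun.H0 F ∧ ArtFun.S1 F ∧ ArtFun.Heps F)
    {R R₁ R' : ArtFun.Art Λ k} (π₁ : R₁ ⟶ R) (hπ : ArtFun.Art.IsSmallExt π₁) (g : R' ⟶ R)
    (a : F.obj R) (a₁ : F.obj R₁) (a' : F.obj R') (h₁ : F.map π₁ a₁ = a) (h' : F.map g a' = a)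
    (hvers : ∀ (R₀ : ArtFun.Art Λ k), ArtFun.Art.IsSmallExt (ArtFun.Art.toBase R₀) →
      ∀ b : F.obj R₀, ∃ φ : R ⟶ R₀, F.map φ a = b) :
    (∃ f : R' ⟶ R₁, f ≫ π₁ = g ∧ F.map f a' = a₁) ↔ (∃ f : R' ⟶ R₁, f ≫ π₁ = g) := by
  refine ⟨fun ⟨f, hf, _⟩ => ⟨f, hf⟩, ?_⟩
  rintro ⟨f, hf⟩
  haveI : Module.Finite Λ k :=
    Module.Finite.of_surjective (Algebra.linearMap Λ k) hk
  obtain ⟨-, hS1, hH⟩ := hF
  obtain ⟨P, p₁, p₂, d, Δ, hP, hd, -, -, -⟩ := exists_kernelPair hπ
  obtain ⟨z, hz₁, hz₂⟩ := (surjective_cmp_iff hP).1 (hS1 _ _ _ _ hP hπ.1) (F.map f a') a₁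
    (by rw [map_map, hf, h', h₁])
  obtain ⟨φ, hφ⟩ := hvers (dual Λ k) isSmallExt_dual (F.map d z)
  have hc : f ≫ toBase R₁ = (g ≫ φ) ≫ toBase (dual Λ k) := by
    rw [comp_toBase, comp_toBase]
  let χ := fibreLift hd f (g ≫ φ) hc
  have hχ : F.map χ a' = z := (injective_cmp_iff hd).1 (hH p₁ d hd).1 _ _
    (by rw [map_map, fibreLift_fst, hz₁])
    (by rw [map_map, fibreLift_snd, ← map_map, h', hφ])
  refine ⟨χ ≫ p₂, ?_, by rw [← map_map, hχ, hz₂]⟩
  rw [Category.assoc, ← hP.w, ← Category.assoc, fibreLift_fst, hf]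

end Groth.Agent.S12320
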