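import Groth.Statements.S12321
import Mathlib
import Groth.Agent.ArtF85.Quot
import Groth.Agent.S12320
import Mathlib.RingTheory.Polynomial.Basic
import Mathlib.RingTheory.KrullDimension.Zero

set_option autoImplicit false
set_option linter.style.haveILetI false
set_option linter.style.longLine false
universe u v
open CategoryTheory
open SGA7

namespace Groth.Agent.S12321


open ArtFun ArtFun.Art Groth.Agent.ArtF85

variable {Λ k : Type u} [CommRing Λ] [IsLocalRing Λ] [IsNoetherianRing Λ] [Field k] [Algebra Λ k]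

/-- A semismall cover of `R` with the same relative cotangent space, mapping to every small extension of `R`. -/
theorem exists_cover (hk : Function.Surjective (algebraMap Λ k)) (R : Art Λ k) :
    ∃ (B : Art Λ k) (p : B ⟶ R), IsSemismallExt p ∧
      (∀ b : B, b ∈ IsLocalRing.maximalIdeal (B : Type u) →
        p b ∈ (IsLocalRing.maximalIdeal (R : Type u)) ^ 2 ⊔ (IsLocalRing.maximalIdeal Λ).map (algebraMap Λ R) →
        b ∈ (IsLocalRing.maximalIdeal (B : Type u)) ^ 2 ⊔ (IsLocalRing.maximalIdeal Λ).map (algebraMap Λ B)) ∧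
      ∀ (R₁ : Art Λ k) (π₁ : R₁ ⟶ R), IsSmallExt π₁ → ∃ f : B ⟶ R₁, f ≫ π₁ = p := by
  classical
  have hΛ : ∀ l : Λ, algebraMap Λ k l = 0 ↔ l ∈ IsLocalRing.maximalIdeal Λ := fun l => by
    haveI := RingHom.ker_isMaximal_of_surjective _ hk
    rw [← IsLocalRing.eq_maximalIdeal (inferInstance : (RingHom.ker (algebraMap Λ k)).IsMaximal),
      RingHom.mem_ker]
  set m := IsLocalRing.maximalIdeal (R : Type u) with hm
  set s : Ideal R := m ^ 2 ⊔ (IsLocalRing.maximalIdeal Λ).map (algebraMap Λ R) with hs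
  let Gen : ℕ → Prop := fun n =>
    ∃ y : Fin n → R, (∀ i, y i ∈ m) ∧ m ≤ Ideal.span (Set.range y) ⊔ s
  have hex : ∃ n, Gen n := by
    obtain ⟨n, y, hy⟩ := Submodule.fg_iff_exists_fin_generating_family.1
      (IsNoetherian.noetherian m)
    exact ⟨n, y, fun i => hy ▸ Submodule.subset_span (Set.mem_range_self i),
      le_trans (le_of_eq hy.symm) le_sup_left⟩
  obtain ⟨n, ⟨y, hym, hgen⟩, hminn⟩ : ∃ n, Gen n ∧ ∀ l < n, ¬ Gen l :=
    ⟨_, Nat.find_spec hex, fun _ hl => Nat.find_min hex hl⟩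
  have hindep : ∀ c : Fin n → R, ∑ i, c i * y i ∈ s → ∀ i, c i ∈ m := by
    intro c hc i
    by_contra hi
    obtain ⟨u, hu⟩ := IsLocalRing.notMem_maximalIdeal.1 hi
    obtain ⟨n', hn'⟩ : ∃ n', n = n' + 1 := ⟨n - 1, by have := i.2; omega⟩
    subst hn'
    refine hminn n' (by omega) ⟨y ∘ i.succAbove, fun j => hym _, ?_⟩
    refine hgen.trans (sup_le (Ideal.span_le.2 ?_) le_sup_right)
    rintro _ ⟨j, rfl⟩
    by_cases hj : j = i
    · subst hj
      have h1 : y j = (↑u⁻¹ : R) * (∑ l, c l * y l) -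
          (↑u⁻¹ : R) * ∑ l, c (j.succAbove l) * y (j.succAbove l) := by
        rw [← mul_sub, Fin.sum_univ_succAbove _ j, add_sub_cancel_right, ← hu, ← mul_assoc,
          Units.inv_mul, one_mul]
      rw [SetLike.mem_coe, h1]
      refine sub_mem (Submodule.mem_sup_right (Ideal.mul_mem_left _ _ hc))
        (Submodule.mem_sup_left (Ideal.mul_mem_left _ _ (Ideal.sum_mem _ fun l _ => ?_)))
      exact Ideal.mul_mem_left _ _ (Ideal.subset_span ⟨l, rfl⟩)
    · obtain ⟨l, rfl⟩ := Fin.exists_succAbove_eq hj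
      exact Submodule.mem_sup_left (Ideal.subset_span ⟨l, rfl⟩)
  let P := MvPolynomial (Fin n) Λ
  let φ : P →ₐ[Λ] R := MvPolynomial.aeval y
  let res₀ : P →ₐ[Λ] k := R.res.comp φ
  set M : Ideal P := RingHom.ker res₀ with hM
  set J : Ideal P := RingHom.ker φ with hJ
  have hres₀ : Function.Surjective res₀ := fun c => by
    obtain ⟨l, rfl⟩ := hk c
    exact ⟨algebraMap Λ P l, res₀.commutes l⟩
  haveI hMmax : M.IsMaximal := RingHom.ker_isMaximal_of_surjective _ hres₀
  have hJM : J ≤ M := fun q hq => by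
    change R.res (φ q) = 0
    rw [RingHom.mem_ker.1 hq, map_zero]
  have hMφ : ∀ q, q ∈ M ↔ φ q ∈ m := fun q => by
    rw [hm, mem_maximalIdeal_iff]; rfl
  -- surjectivity of `φ`
  have h0 : ∀ a : R, ∃ l : Λ, a - algebraMap Λ R l ∈ m := fun a => by
    obtain ⟨l, hl⟩ := hk (R.res a)
    exact ⟨l, by rw [hm, mem_maximalIdeal_iff, map_sub, AlgHom.commutes, hl, sub_self]⟩
  have h1 : ∀ a ∈ m, ∃ q, a - φ q ∈ m ^ 2 := by
    let T : Ideal R :=
      { carrier := {a | a ∈ m ∧ ∃ q, a - φ q ∈ m ^ 2}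
        zero_mem' := ⟨m.zero_mem, 0, by simp⟩
        add_mem' := by
          rintro a b ⟨ha, q, hq⟩ ⟨hb, q', hq'⟩
          refine ⟨add_mem ha hb, q + q', ?_⟩
          have := add_mem hq hq'
          rw [map_add]
          convert this using 1
          ring
        smul_mem' := by
          rintro r a ⟨ha, q, hq⟩
          obtain ⟨l, hl⟩ := h0 r
          refine ⟨m.mul_mem_left r ha, algebraMap Λ P l * q, ?_⟩
          have h := add_mem (Ideal.mul_mem_left (m ^ 2) (algebraMap Λ R l) hq)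
            (show (r - algebraMap Λ R l) * a ∈ m ^ 2 by rw [pow_two]; exact Ideal.mul_mem_mul hl ha)
          rw [map_mul, AlgHom.commutes, smul_eq_mul]
          convert h using 1
          ring }
    have hT : m ≤ T := by
      refine hgen.trans (sup_le (Ideal.span_le.2 ?_) (sup_le ?_ (Ideal.map_le_iff_le_comap.2 ?_)))
      · rintro _ ⟨i, rfl⟩
        refine ⟨hym i, MvPolynomial.X i, ?_⟩
        rw [show φ (MvPolynomial.X i) = y i from MvPolynomial.aeval_X y i, sub_self]
        exact Submodule.zero_mem _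
      · exact fun a ha => ⟨Ideal.pow_le_self two_ne_zero ha, 0, by simpa using ha⟩
      · exact fun l hl => ⟨by rw [hm, mem_maximalIdeal_iff, AlgHom.commutes, hΛ]; exact hl,
          algebraMap Λ P l, by simp⟩
    exact fun a ha => (hT ha).2
  have h2 : ∀ i, ∀ a ∈ m ^ i, ∃ q, a - φ q ∈ m ^ (i + 1) := by
    intro i
    induction i with
    | zero =>
      intro a _
      obtain ⟨l, hl⟩ := h0 a
      exact ⟨algebraMap Λ P l, by rw [AlgHom.commutes, pow_one]; exact hl⟩
    | succ i ih =>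
      intro a ha
      rw [pow_succ] at ha
      refine Submodule.mul_induction_on ha (fun x hx z hz => ?_) (fun x z hx hz => ?_)
      · obtain ⟨q, hq⟩ := ih x hx
        obtain ⟨q', hq'⟩ := h1 z hz
        refine ⟨q * q', ?_⟩
        have hq'm : φ q' ∈ m := by
          have := sub_mem hz (Ideal.pow_le_self two_ne_zero hq')
          simpa using this
        have e1 : x * (z - φ q') ∈ m ^ (i + 1 + 1) := by
          rw [show i + 1 + 1 = i + 2 by ring, pow_add]
          exact Ideal.mul_mem_mul hx hq'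
        have e2 : (x - φ q) * φ q' ∈ m ^ (i + 1 + 1) := by
          rw [pow_succ]
          exact Ideal.mul_mem_mul hq hq'm
        have := add_mem e1 e2
        rw [map_mul]
        convert this using 1
        ring
      · obtain ⟨q, hq⟩ := hx
        obtain ⟨q', hq'⟩ := hz
        refine ⟨q + q', ?_⟩
        have := add_mem hq hq'
        rw [map_add]
        convert this using 1
        ring
  obtain ⟨N, hN⟩ := exists_pow_maximalIdeal_eq_bot R
  rw [← hm] at hN
  have hφ : Function.Surjective φ := by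
    have key : ∀ j i, i + j = N → ∀ a ∈ m ^ i, ∃ q, φ q = a := by
      intro j
      induction j with
      | zero =>
        intro i hi a ha
        rw [show i = N by omega, hN, Ideal.mem_bot] at ha
        exact ⟨0, by rw [map_zero, ha]⟩
      | succ j ih =>
        intro i hi a ha
        obtain ⟨q, hq⟩ := h2 i a ha
        obtain ⟨q', hq'⟩ := ih (i + 1) (by omega) _ hq
        exact ⟨q + q', by rw [map_add, hq']; ring⟩
    intro a
    exact key N 0 (by omega) a (by rw [pow_zero, Ideal.one_eq_top]; trivial)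
  have hMN : M ^ N ≤ J := fun q hq => by
    have h := Ideal.mem_map_of_mem φ hq
    rw [Ideal.map_pow] at h
    have hle : M.map φ ≤ m := Ideal.map_le_iff_le_comap.2 fun q hq => (hMφ q).1 hq
    exact RingHom.mem_ker.2 (Ideal.mem_bot.1 (hN ▸ Ideal.pow_right_mono hle N h))
  set I : Ideal P := M * J with hI
  have hMI : M ^ (N + 1) ≤ I := by
    rw [pow_succ']
    exact Ideal.mul_mono le_rfl hMN
  have hIM : I ≤ M := Ideal.mul_le_right.trans hJM
  haveI : Nontrivial (P ⧸ I) := Ideal.Quotient.nontrivial_iff.2 fun h => hMmax.ne_top (top_le_iff.1 (h ▸ hIM))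
  have hprime : ∀ Q : Ideal (P ⧸ I), Q.IsPrime → Q = M.map (Ideal.Quotient.mk I) := by
    intro Q hQ
    have h : M ≤ Q.comap (Ideal.Quotient.mk I) := by
      haveI := Ideal.IsPrime.comap (Ideal.Quotient.mk I) (K := Q)
      refine Ideal.IsPrime.le_of_pow_le (hMI.trans fun x hx => ?_)
      rw [Ideal.mem_comap, Ideal.Quotient.eq_zero_iff_mem.2 hx]
      exact Q.zero_mem
    have h' := hMmax.eq_of_le (Ideal.comap_ne_top _ hQ.ne_top) h
    rw [h', Ideal.map_comap_of_surjective _ Ideal.Quotient.mk_surjective]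
  haveI : IsLocalRing (P ⧸ I) := by
    obtain ⟨Q, hQ⟩ := Ideal.exists_maximal (P ⧸ I)
    exact IsLocalRing.of_unique_max_ideal
      ⟨Q, hQ, fun Q' hQ' => (hprime Q' hQ'.isPrime).trans (hprime Q hQ.isPrime).symm⟩
  haveI : Ring.KrullDimLE 0 (P ⧸ I) := Ring.KrullDimLE.mk₀ fun Q hQ => by
    obtain ⟨Q', hQ'⟩ := Ideal.exists_maximal (P ⧸ I)
    rwa [hprime Q hQ, ← hprime Q' hQ'.isPrime]
  haveI : IsArtinianRing (P ⧸ I) :=
    isArtinianRing_iff_isNoetherianRing_krullDimLE_zero.2 ⟨inferInstance, inferInstance⟩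
  let resB : (P ⧸ I) →ₐ[Λ] k := Ideal.Quotient.liftₐ I res₀ fun q hq => RingHom.mem_ker.1 (hIM hq)
  let B : Art Λ k := Art.of (P ⧸ I) resB fun c => by
    obtain ⟨q, hq⟩ := hres₀ c
    exact ⟨Ideal.Quotient.mk I q, hq⟩
  let p : B ⟶ R := ⟨Ideal.Quotient.liftₐ I φ fun q hq => RingHom.mem_ker.1
      ((Ideal.mul_le_right : M * J ≤ J) hq), by
    apply AlgHom.ext
    intro x
    obtain ⟨q, rfl⟩ := Ideal.Quotient.mk_surjective x
    rfl⟩
  have hmB : ∀ q : P, (Ideal.Quotient.mk I q : B) ∈ IsLocalRing.maximalIdeal (B : Type u) ↔ q ∈ M :=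
    fun q => (mem_maximalIdeal_iff B _).trans Iff.rfl
  refine ⟨B, p, ⟨fun a => ?_, ?_⟩, fun b hb hpb => ?_, fun R₁ π₁ hπ => ?_⟩
  · obtain ⟨q, hq⟩ := hφ a
    exact ⟨Ideal.Quotient.mk I q, hq⟩
  · rw [eq_bot_iff, Ideal.mul_le]
    intro a ha b hb
    obtain ⟨q, rfl⟩ := Ideal.Quotient.mk_surjective a
    obtain ⟨q', rfl⟩ := Ideal.Quotient.mk_surjective b
    exact Ideal.mem_bot.2 (Ideal.Quotient.eq_zero_iff_mem.2
      (Ideal.mul_mem_mul ((hmB q).1 ha) (RingHom.mem_ker.2 (RingHom.mem_ker.1 hb))))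
  · obtain ⟨q, rfl⟩ := Ideal.Quotient.mk_surjective b
    have hq : q ∈ M := (hmB q).1 hb
    have hX : ∀ q : P, q - MvPolynomial.C (MvPolynomial.constantCoeff q) ∈
        Ideal.span (Set.range (MvPolynomial.X : Fin n → P)) := by
      intro q
      induction q using MvPolynomial.induction_on with
      | C a => simp
      | add f g hf hg =>
        have := add_mem hf hg
        rw [map_add, MvPolynomial.C_add]
        convert this using 1
        ring
      | mul_X f i _ =>
        simpa using Ideal.mul_mem_left _ f (Ideal.subset_span (Set.mem_range_self i))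
    obtain ⟨c, hc⟩ := Ideal.mem_span_range_iff_exists_fun.1 (hX q)
    set l := MvPolynomial.constantCoeff q
    have hsum : ∀ i, φ (MvPolynomial.X i) = y i := fun i => MvPolynomial.aeval_X y i
    have hl : l ∈ IsLocalRing.maximalIdeal Λ := by
      have h3 : res₀ (q - MvPolynomial.C l) = 0 := by
        rw [← hc, map_sum]
        refine Finset.sum_eq_zero fun i _ => ?_
        change R.res (φ (c i * MvPolynomial.X i)) = 0
        rw [map_mul, hsum, map_mul, (mem_maximalIdeal_iff R _).1 (hym i), mul_zero]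
      rw [map_sub, RingHom.mem_ker.1 hq, zero_sub, neg_eq_zero] at h3
      rw [← hΛ]
      exact (res₀.commutes l).symm.trans h3
    have hcM : ∀ i, c i ∈ M := fun i => (hMφ _).2 (hindep (fun i => φ (c i)) (by
      have h4 : ∑ i, φ (c i) * y i = φ q - algebraMap Λ R l := by
        rw [← φ.commutes l, ← map_sub]
        refine Eq.trans ?_ (congrArg φ hc)
        rw [map_sum]
        exact Finset.sum_congr rfl fun i _ => by rw [map_mul, hsum]
      rw [h4]
      exact sub_mem hpb (Submodule.mem_sup_right (Ideal.mem_map_of_mem _ hl))) i)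
    change Ideal.Quotient.mk I q ∈ IsLocalRing.maximalIdeal (P ⧸ I) ^ 2 ⊔
      (IsLocalRing.maximalIdeal Λ).map (algebraMap Λ (P ⧸ I))
    have h5 : Ideal.Quotient.mk I q = (∑ i, Ideal.Quotient.mk I (c i) *
        Ideal.Quotient.mk I (MvPolynomial.X i)) + algebraMap Λ (P ⧸ I) l := by
      have h6 := congrArg (Ideal.Quotient.mk I) hc
      rw [map_sum, map_sub] at h6
      simp only [map_mul] at h6
      rw [h6]
      exact (sub_add_cancel _ _).symm
    rw [h5]
    refine add_mem (Submodule.mem_sup_left (Ideal.sum_mem _ fun i _ => ?_))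
      (Submodule.mem_sup_right (Ideal.mem_map_of_mem _ hl))
    refine (pow_two (IsLocalRing.maximalIdeal (B : Type u))).symm ▸
      Ideal.mul_mem_mul ((hmB _).2 (hcM i)) ((hmB _).2 ((hMφ _).2 ?_))
    rw [hsum]; exact hym i
  · choose r hr using fun i => hπ.1 (y i)
    let ψ : P →ₐ[Λ] R₁ := MvPolynomial.aeval r
    have hψ : π₁.toAlgHom.comp ψ = φ := MvPolynomial.algHom_ext fun i => by
      simp [ψ, φ, hr]
    have hψ' : ∀ q, π₁ (ψ q) = φ q := fun q => AlgHom.congr_fun hψ q
    have hres : ∀ q, R₁.res (ψ q) = res₀ q := fun q => by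
      rw [← res_app π₁, hψ']; rfl
    have hkill : I ≤ RingHom.ker ψ := Ideal.mul_le.2 fun a ha b hb => by
      rw [RingHom.mem_ker, map_mul]
      exact mul_eq_zero_of_isSemismallExt hπ.isSemismallExt
        ((mem_maximalIdeal_iff R₁ _).2 ((hres a).trans (RingHom.mem_ker.1 ha)))
        ((hψ' b).trans (RingHom.mem_ker.1 hb))
    refine ⟨⟨Ideal.Quotient.liftₐ I ψ fun q hq => RingHom.mem_ker.1 (hkill hq), ?_⟩, ?_⟩
    · apply AlgHom.ext
      intro x
      obtain ⟨q, rfl⟩ := Ideal.Quotient.mk_surjective x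
      exact hres q
    · refine hom_ext_apply fun x => ?_
      obtain ⟨q, rfl⟩ := Ideal.Quotient.mk_surjective x
      exact hψ' q

omit [IsLocalRing Λ] [IsNoetherianRing Λ] in
lemma surjective_or_ker_le {B R R₁ : Art Λ k} {p : B ⟶ R} (hp : Function.Surjective p) {π₁ : R₁ ⟶ R}
    (hπ : IsSmallExt π₁) (f : B ⟶ R₁) (hf : f ≫ π₁ = p) :
    Function.Surjective f ∨ RingHom.ker p.toAlgHom ≤ RingHom.ker f.toAlgHom := by
  by_cases h : ∀ b : B, p b = 0 → f b = 0
  · exact Or.inr fun b hb => RingHom.mem_ker.2 (h b (RingHom.mem_ker.1 hb))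
  push_neg at h
  obtain ⟨b, hb, hfb⟩ := h
  obtain ⟨t, ht0, hker, htm⟩ := exists_generator hπ
  have hpf : ∀ x, π₁ (f x) = p x := fun x => by rw [← hf]; rfl
  obtain ⟨c, hc⟩ := Ideal.mem_span_singleton'.1
    (hker ▸ RingHom.mem_ker.2 ((hpf b).trans hb) : f b ∈ Ideal.span {t})
  have hcu : R₁.res c ≠ 0 := fun h0 => hfb (hc ▸ htm c ((mem_maximalIdeal_iff R₁ c).2 h0))
  obtain ⟨w, hw⟩ := B.res_surjective (R₁.res c)⁻¹
  have ht : f (w * b) = t := by
    rw [map_mul, ← hc, ← mul_assoc]
    refine (mul_eq_mul_of_res_eq htm (b := 1) ?_).trans (one_mul t)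
    rw [map_mul, res_app, hw, map_one, inv_mul_cancel₀ hcu]
  refine Or.inl fun a => ?_
  obtain ⟨x, hx⟩ := hp (π₁ a)
  obtain ⟨e, he⟩ := Ideal.mem_span_singleton'.1
    (hker ▸ (sub_mem_ker_iff π₁ a (f x)).2 (by rw [hpf, hx]) : a - f x ∈ Ideal.span {t})
  obtain ⟨e', he'⟩ := B.res_surjective (R₁.res e)
  refine ⟨x + e' * (w * b), ?_⟩
  rw [map_add, map_mul, ht, mul_eq_mul_of_res_eq htm (a := f e') (b := e) (by rw [res_app, he']), he]
  ring

/-- Suppose Λ is a Noetherian local ring that is complete, and k is its residue field, so the map Λ → k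
is surjective. We look at functors on the category of local Artinian Λ-algebras whose residue field
is k. Take such a functor F for which F(k) is a single point, the comparison map F(A₁ ×_A A₂) →
F(A₁) ×_{F(A)} F(A₂) is surjective whenever A₂ → A is surjective, and this map is bijective for A'
×_k k[ε]. Call an element a ∈ F(R) versal for small prolongations of the base point when, for each
object R₀ whose augmentation R₀ → k is a small extension and each b ∈ F(R₀), some morphism R → R₀
sends a to b. Assume a ∈ F(R) has this property. Then one can find an object R', a morphism q : R' →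
R and an element a' ∈ F(R') whose image is a, satisfying the following. First, q is surjective and
the maximal ideal annihilates its kernel. Second, q induces an isomorphism m_{R'}/(m_{R'}² + m_Λ R')
→ m_R/(m_R² + m_Λ R) between relative cotangent spaces (only injectivity is stated; surjectivity
comes for free). Third, a' is versal for small prolongations of a: given any small extension π₁ : R₁
→ R and any a₁ ∈ F(R₁) with image a, there is f : R' → R₁ satisfying f ≫ π₁ = q and sending a' to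
a₁. (The published statement concerns semi-homogeneous cofibred groupoids; this row treats the case
of set-valued functors.) -/
theorem result (Λ k : Type u) [CommRing Λ] [IsLocalRing Λ] [IsNoetherianRing Λ]
    [IsAdicComplete (IsLocalRing.maximalIdeal Λ) Λ] [Field k] [Algebra Λ k]
    (hk : Function.Surjective (algebraMap Λ k))
    (F : ArtFun.Art Λ k ⥤ Type v) (hF : ArtFun.H0 F ∧ ArtFun.S1 F ∧ ArtFun.Heps F)
    (R : ArtFun.Art Λ k) (a : F.obj R)
    (hvers : ∀ (R₀ : ArtFun.Art Λ k), ArtFun.Art.IsSmallExt (ArtFun.Art.toBase R₀) →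
      ∀ b : F.obj R₀, ∃ φ : R ⟶ R₀, F.map φ a = b) :
    ∃ (R' : ArtFun.Art Λ k) (q : R' ⟶ R) (a' : F.obj R'), F.map q a' = a ∧
      ArtFun.Art.IsSemismallExt q ∧
      (∀ x' : R', x' ∈ IsLocalRing.maximalIdeal (R' : Type u) →
        q x' ∈ (IsLocalRing.maximalIdeal (R : Type u)) ^ 2 ⊔ (IsLocalRing.maximalIdeal Λ).map (algebraMap Λ R) →
        x' ∈ (IsLocalRing.maximalIdeal (R' : Type u)) ^ 2 ⊔ (IsLocalRing.maximalIdeal Λ).map (algebraMap Λ R')) ∧
      ∀ (R₁ : ArtFun.Art Λ k) (π₁ : R₁ ⟶ R), ArtFun.Art.IsSmallExt π₁ →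
        ∀ a₁ : F.obj R₁, F.map π₁ a₁ = a → ∃ f : R' ⟶ R₁, f ≫ π₁ = q ∧ F.map f a' = a₁ := by
  haveI : Module.Finite Λ k := Module.Finite.of_surjective (Algebra.linearMap Λ k) hk
  obtain ⟨B, p, hp, hcot, hlift⟩ := exists_cover hk R
  obtain ⟨J₀, hJ₀, hJ₀', ⟨a', ha'⟩, hmin⟩ := exists_least_lift hF.2.1 p hp a
  have hq : quotMk B J₀ hJ₀' ≫ quotFactor hJ₀' p hJ₀ = p := quotMk_quotFactor _ _ _
  refine ⟨quot B J₀ hJ₀', quotFactor hJ₀' p hJ₀, a', ha', ⟨?_, ?_⟩, ?_, ?_⟩
  · exact surjective_of_surjective_comp (f := quotMk B J₀ hJ₀') (hq.symm ▸ hp.1)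
  · rw [eq_bot_iff, Ideal.mul_le]
    intro x hx z hz
    obtain ⟨x, rfl⟩ := quotMk_surjective B J₀ hJ₀' x
    obtain ⟨z, rfl⟩ := quotMk_surjective B J₀ hJ₀' z
    have hx' : x ∈ IsLocalRing.maximalIdeal (B : Type u) := by
      rw [mem_maximalIdeal_iff] at hx ⊢
      exact (res_app (quotMk B J₀ hJ₀') x).symm.trans hx
    rw [Ideal.mem_bot, ← map_mul, mul_eq_zero_of_isSemismallExt hp hx' (RingHom.mem_ker.1 hz),
      map_zero]
  · intro x hx hqx
    obtain ⟨x, rfl⟩ := quotMk_surjective B J₀ hJ₀' x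
    have hx' : x ∈ IsLocalRing.maximalIdeal (B : Type u) := by
      rw [mem_maximalIdeal_iff] at hx ⊢
      exact (res_app (quotMk B J₀ hJ₀') x).symm.trans hx
    have h := Ideal.mem_map_of_mem (quotMk B J₀ hJ₀').toAlgHom (hcot x hx' hqx)
    rw [Ideal.map_sup, Ideal.map_pow] at h
    have hm : (IsLocalRing.maximalIdeal (B : Type u)).map (quotMk B J₀ hJ₀').toAlgHom ≤
        IsLocalRing.maximalIdeal (quot B J₀ hJ₀' : Type u) := by
      refine Ideal.map_le_iff_le_comap.2 fun b hb => ?_
      rw [Ideal.mem_comap, mem_maximalIdeal_iff, res_app, ← mem_maximalIdeal_iff]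
      exact hb
    refine sup_le_sup (Ideal.pow_right_mono hm 2) (Ideal.map_le_iff_le_comap.2
      (Ideal.map_le_iff_le_comap.2 fun l hl => ?_)) h
    rw [Ideal.mem_comap, Ideal.mem_comap, AlgHom.commutes]
    exact Ideal.mem_map_of_mem _ hl
  · intro R₁ π₁ hπ a₁ ha₁
    obtain ⟨f, hf⟩ := hlift R₁ π₁ hπ
    have hle : J₀ ≤ RingHom.ker f.toAlgHom := by
      rcases surjective_or_ker_le hp.1 hπ f hf with hs | hs
      · have hKp : RingHom.ker f.toAlgHom ≤ RingHom.ker p.toAlgHom := fun b hb => by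
          rw [RingHom.mem_ker] at hb ⊢
          rw [← hf]
          exact (congrArg π₁.toAlgHom hb).trans (map_zero _)
        refine hmin _ hKp (ker_le_maximalIdeal f) ?_
        have hb : Function.Bijective (quotFactor (ker_le_maximalIdeal f) f le_rfl) := by
          refine ⟨fun u v e => ?_, surjective_of_surjective_comp (f := quotMk B _ _)
            ((quotMk_quotFactor _ f le_rfl).symm ▸ hs)⟩
          obtain ⟨u, rfl⟩ := Ideal.Quotient.mk_surjective u
          obtain ⟨v, rfl⟩ := Ideal.Quotient.mk_surjective v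
          exact Ideal.Quotient.eq.2 ((sub_mem_ker_iff f u v).2 e)
        obtain ⟨z, hz⟩ := (map_bijective F _ hb).2 a₁
        refine ⟨z, ?_⟩
        rw [show quotFactor (ker_le_maximalIdeal f) p hKp = quotFactor (ker_le_maximalIdeal f) f le_rfl ≫ π₁
          from hom_ext_of_surjective (quotMk_surjective B _ _) (by
            rw [quotMk_quotFactor, ← Category.assoc, quotMk_quotFactor, hf]), ← map_map, hz, ha₁]
      · exact hJ₀.trans hs
    refine (Groth.Agent.S12320.result Λ k hk F hF π₁ hπ (quotFactor hJ₀' p hJ₀) a a₁ a' ha₁ ha' hvers).2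
      ⟨quotFactor hJ₀' f hle, hom_ext_of_surjective (quotMk_surjective B J₀ hJ₀') ?_⟩
    rw [← Category.assoc, quotMk_quotFactor, hf, quotMk_quotFactor]

end Groth.Agent.S12321
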