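import Groth.Statements.S1234
import Groth.Agent.FlatCrit65.Closed.HensAss
import Groth.Agent.CAlg5.WeakAss

set_option autoImplicit false
universe u
open FlatMor

namespace Groth.Agent.S1234

open TensorProduct IsLocalRing in
/-- Ring form, S = Spec A: let M be an A-module and p a prime of A; let Ah be a henselization and Ash a
strict henselization of the local ring A_p. The following are equivalent: p is a weakly associated
prime of M; the maximal ideal of A_p is a weakly associated prime of M_p; the maximal ideal of Ah is
a weakly associated prime of Ah ⊗ M_p; the maximal ideal of Ash is a weakly associated prime of Ash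
⊗ M_p. -/
theorem result {A : Type u} [CommRing A] (M : Type u) [AddCommGroup M] [Module A M] (p : Ideal A) [p.IsPrime]
    (Ah Ash : Type u) [CommRing Ah] [IsLocalRing Ah] [CommRing Ash] [IsLocalRing Ash]
    [Algebra (Localization.AtPrime p) Ah] [IsLocalHom (algebraMap (Localization.AtPrime p) Ah)] [Hensel.IsHenselization (Localization.AtPrime p) Ah]
    [Algebra (Localization.AtPrime p) Ash] [IsLocalHom (algebraMap (Localization.AtPrime p) Ash)] [Hensel.IsStrictHenselization (Localization.AtPrime p) Ash] :
    [p ∈ FlatCA.weakAss A M,
     maximalIdeal (Localization.AtPrime p) ∈ FlatCA.weakAss (Localization.AtPrime p) (LocalizedModule p.primeCompl M),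
     maximalIdeal Ah ∈ FlatCA.weakAss Ah (Ah ⊗[Localization.AtPrime p] LocalizedModule p.primeCompl M),
     maximalIdeal Ash ∈ FlatCA.weakAss Ash (Ash ⊗[Localization.AtPrime p] LocalizedModule p.primeCompl M)].TFAE := by
  have := FlatCrit65.weaklyEtale_henselization (Localization.AtPrime p) Ah
  have := FlatCrit65.weaklyEtale_strictHenselization (Localization.AtPrime p) Ash
  have hdisj : Disjoint (p.primeCompl : Set A) (p : Set A) := Set.disjoint_left.mpr fun _ h h' => h h'
  tfae_have 1 ↔ 2 := by
    rw [CAlg5.mem_weakAss_localized_iff p.primeCompl (LocalizedModule.mkLinearMap p.primeCompl M) hdisj,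
      CAlg5.mem_weakAss_iff_comap_mem p.primeCompl (Localization.AtPrime p) (q := maximalIdeal (Localization.AtPrime p)),
      show (maximalIdeal (Localization.AtPrime p)).comap (algebraMap A _) = p from
        IsLocalization.AtPrime.comap_maximalIdeal _ p]
  tfae_have 2 → 3 := FlatCrit65.maximalIdeal_mem_weakAss_baseChange
    (Henz21.henselization_map_maximalIdeal Ah)
  tfae_have 3 → 2 := FlatCrit65.maximalIdeal_mem_weakAss_of_baseChange fun z =>
    FlatCrit65.exists_etale_rep Ah (Henz21.henselizationEquiv Ah) z
  tfae_have 2 → 4 := FlatCrit65.maximalIdeal_mem_weakAss_baseChange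
    (Henz21.strictHenselization_map_maximalIdeal Ash)
  tfae_have 4 → 2 := FlatCrit65.maximalIdeal_mem_weakAss_of_baseChange fun z =>
    FlatCrit65.exists_etale_rep Ash (Henz21.strictHenselizationEquiv Ash) z
  tfae_finish

end Groth.Agent.S1234
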