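import Groth.Statements.S1238
import Groth.Agent.FlatCrit65.Assassin.WeakAssFinite

set_option autoImplicit false
universe u
open FlatMor

namespace Groth.Agent.S1238

/-- Ring form, X = Spec S, S = Spec R affine: let R be a ring with finitely many weakly associated
primes and S a finite type R-algebra. Then the set of primes q of S with S_q flat over R is open in
Spec S, and every such q has a basic open neighbourhood D(g) with S_g flat and of finite
presentation over R. -/
theorem result {R S : Type u} [CommRing R] [CommRing S] [Algebra R S] [Algebra.FiniteType R S]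
    (hR : (FlatCA.weakAss R R).Finite) :
    IsOpen {q : PrimeSpectrum S | Module.Flat R (Localization.AtPrime q.asIdeal)} ∧
    ∀ (q : Ideal S) [q.IsPrime], Module.Flat R (Localization.AtPrime q) → ∃ g : S, g ∉ q ∧
      Algebra.FinitePresentation R (Localization.Away g) ∧ Module.Flat R (Localization.Away g) := by
  have hloc : ∀ (T : Submonoid S), Nonempty (LocalizedModule T S ≃ₗ[S] Localization T) := fun T =>
    ⟨IsLocalizedModule.linearEquiv T (LocalizedModule.mkLinearMap T S) (Algebra.linearMap S (Localization T))⟩
  have key : ∀ (q : Ideal S) [q.IsPrime], Module.Flat R (Localization.AtPrime q) ↔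
      Module.Flat R (LocalizedModule q.primeCompl S) := fun q _ => by
    obtain ⟨e⟩ := hloc q.primeCompl
    exact ⟨fun _ => Module.Flat.of_linearEquiv (e.restrictScalars R),
      fun _ => Module.Flat.of_linearEquiv (e.restrictScalars R).symm⟩
  refine ⟨?_, fun q _ hq => ?_⟩
  · rw [isOpen_iff_forall_mem_open]
    intro q hq
    obtain ⟨g, hg, hgflat, -, -⟩ :=
      FlatCrit65.exists_relFP_nhd_of_weakAss_finite (N := S) hR q.asIdeal ((key q.asIdeal).mp hq)
    exact ⟨PrimeSpectrum.basicOpen g, fun q' hq' => (key q'.asIdeal).mpr (hgflat q' hq'),
      PrimeSpectrum.isOpen_basicOpen, hg⟩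
  · obtain ⟨g, hg, -, h1, m, φ, hφ, h2⟩ :=
      FlatCrit65.exists_relFP_nhd_of_weakAss_finite (N := S) hR q ((key q).mp hq)
    refine ⟨g, hg, ?_, ?_⟩
    · let P := MvPolynomial (Fin m) R
      let _ : Algebra P (Localization.Away g) := φ.toRingHom.toAlgebra
      let _ : Module P (LocalizedModule (Submonoid.powers g) S) := Module.compHom _ φ.toRingHom
      let e₀ := IsLocalizedModule.linearEquiv (Submonoid.powers g)
        (LocalizedModule.mkLinearMap (Submonoid.powers g) S) (Algebra.linearMap S (Localization.Away g))
      let e := e₀.extendScalarsOfIsLocalization (Submonoid.powers g) (Localization.Away g)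
      let eP : LocalizedModule (Submonoid.powers g) S ≃ₗ[P] Localization.Away g :=
        { e with map_smul' := fun p v => (map_smul e (φ p) v).trans (smul_eq_mul _ _) }
      have : Module.FinitePresentation P (Localization.Away g) := Module.FinitePresentation.of_equiv eP
      exact Algebra.FinitePresentation.of_surjective hφ
        (Module.FinitePresentation.fg_ker (Algebra.linearMap P (Localization.Away g)) hφ)
    · obtain ⟨e⟩ := hloc (Submonoid.powers g)
      exact Module.Flat.of_linearEquiv (e.restrictScalars R).symm

end Groth.Agent.S1238
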