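import Groth.Statements.S12418
import Mathlib.RingTheory.Ideal.Colon

set_option autoImplicit false
universe u
open CAlg

namespace Groth.Agent.S12418

/-- Let R be a Noetherian ring and b ∈ R; for x outside the ideal (b) put I_x = ((b) : x), the ideal of
r with r x ∈ (b). If s ∉ (b) and I_s is maximal among the I_x (x ∉ (b)), then I_s is prime. -/
theorem result {R : Type u} [CommRing R] [IsNoetherianRing R]
    (b s : R) (hs : s ∉ Ideal.span {b})
    (hmax : ∀ x : R, x ∉ Ideal.span {b} →
      Submodule.colon (Ideal.span {b}) (Ideal.span {s}) ≤ Submodule.colon (Ideal.span {b}) (Ideal.span {x}) →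
      Submodule.colon (Ideal.span {b}) (Ideal.span {x}) = Submodule.colon (Ideal.span {b}) (Ideal.span {s})) :
    (Submodule.colon (Ideal.span {b}) (Ideal.span ({s} : Set R))).IsPrime := by
  have mem : ∀ (x r : R), r ∈ Submodule.colon (Ideal.span {b}) (Ideal.span ({x} : Set R)) ↔
      r * x ∈ Ideal.span {b} := by
    intro x r
    rw [Submodule.mem_colon]
    refine ⟨fun h => h x (Ideal.mem_span_singleton_self x), fun h y hy => ?_⟩
    obtain ⟨c, rfl⟩ := Ideal.mem_span_singleton'.1 hy
    rw [smul_eq_mul, mul_left_comm]
    exact Ideal.mul_mem_left _ _ h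
  refine ⟨fun htop => hs ?_, fun {x y} hxy => ?_⟩
  · have := (mem s 1).1 (htop ▸ trivial)
    simpa using this
  · rw [or_iff_not_imp_left]
    intro hx
    rw [mem] at hxy hx
    have h := hmax (x * s) hx fun r hr => by
      rw [mem] at hr ⊢
      rw [mul_left_comm]
      exact Ideal.mul_mem_left _ _ hr
    rw [← h, mem]
    convert! hxy using 1
    ring

end Groth.Agent.S12418
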