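import Groth.Statements.S12419
import Groth.Agent.CAlg7.FlatLimit
import Mathlib.RingTheory.Flat.EquationalCriterion
import Mathlib.LinearAlgebra.TensorProduct.Quotient
import Mathlib.RingTheory.LocalRing.ResidueField.Basic
import Mathlib.LinearAlgebra.Basis.VectorSpace
import Mathlib.RingTheory.Nilpotent.Lemmas
import Mathlib.LinearAlgebra.TensorProduct.Tower
import Mathlib.RingTheory.Flat.Stability
import Mathlib.RingTheory.Noetherian.Basic

set_option autoImplicit false
universe u
open TensorProduct
open CAlg

namespace Groth.Agent.S12419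

/-- Descent of freeness along an injective map, the base having a nilpotent maximal ideal. -/
theorem free_descent (A A' M : Type u) [CommRing A] [CommRing A'] [Algebra A A'] [AddCommGroup M]
    [Module A M] (m : Ideal A) [m.IsMaximal] (hm : IsNilpotent m)
    (hinj : Function.Injective (algebraMap A A')) (r : Ideal A') (hr : IsNilpotent r)
    (hmr : m ≤ r.comap (algebraMap A A')) [Module.Flat A' (A' ⊗[A] M)] : Module.Free A M := by
  classical
  letI : Field (A ⧸ m) := Ideal.Quotient.field m
  let bb := Module.Basis.ofVectorSpace (A ⧸ m) ((A ⧸ m) ⊗[A] M)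
  have hsurj : ∀ y : (A ⧸ m) ⊗[A] M, ∃ x : M, (1 : A ⧸ m) ⊗ₜ[A] x = y := fun y =>
    TensorProduct.mk_surjective A M (A ⧸ m) Ideal.Quotient.mk_surjective y
  choose v hv using fun i => hsurj (bb i)
  -- generation
  have hgen : Submodule.span A (Set.range v) = ⊤ := by
    set N := Submodule.span A (Set.range v)
    obtain ⟨k, hk⟩ := hm
    have h1 : (⊤ : Submodule A M) ≤ N ⊔ m • ⊤ := by
      intro x _
      have hspan : ∀ y : (A ⧸ m) ⊗[A] M, y ∈ N.map (TensorProduct.mk A (A ⧸ m) M 1) := by
        intro y
        have hy := bb.mem_span y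
        rw [← SetLike.mem_coe, ← Submodule.coe_restrictScalars A,
          Submodule.restrictScalars_span A (A ⧸ m) Ideal.Quotient.mk_surjective] at hy
        refine Submodule.span_le.2 ?_ hy
        rintro _ ⟨i, rfl⟩
        exact ⟨v i, Submodule.subset_span ⟨i, rfl⟩, hv i⟩
      obtain ⟨z, hz, hxz⟩ := hspan (1 ⊗ₜ x)
      have : x - z ∈ (m • ⊤ : Submodule A M) := by
        rw [← Submodule.Quotient.eq]
        have := congrArg (TensorProduct.quotTensorEquivQuotSMul M m) hxz
        simpa using this.symm
      exact Submodule.mem_sup.2 ⟨z, hz, x - z, this, by abel⟩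
    have h2 : ∀ j, (⊤ : Submodule A M) ≤ N ⊔ m ^ j • ⊤ := by
      intro j
      induction j with
      | zero => simp
      | succ j ih =>
        refine ih.trans (sup_le le_sup_left ?_)
        calc m ^ j • (⊤ : Submodule A M) ≤ m ^ j • (N ⊔ m • ⊤) := smul_mono_right _ h1
          _ ≤ N ⊔ m ^ (j + 1) • ⊤ := by
              rw [Submodule.smul_sup, ← Submodule.mul_smul, pow_succ]
              exact sup_le_sup_right Submodule.smul_le_right _
    have := h2 k
    rw [hk] at this
    simpa using this
  let C := A' ⧸ r
  let κ : (A ⧸ m) →+* C := Ideal.quotientMap r (algebraMap A A') hmr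
  let co : ∀ i, M →ₗ[A] C := fun i =>
    { toFun := fun x => κ (bb.repr (1 ⊗ₜ x) i)
      map_add' := fun x y => by simp [TensorProduct.tmul_add]
      map_smul' := fun a x => by
        rw [TensorProduct.tmul_smul, ← algebraMap_smul (A ⧸ m) a, map_smul, Finsupp.smul_apply,
          smul_eq_mul, map_mul, RingHom.id_apply, Algebra.smul_def]
        rfl }
  have hco : ∀ i j, co i (v j) = if j = i then 1 else 0 := fun i j => by
    show κ (bb.repr (1 ⊗ₜ v j) i) = _
    rw [hv, bb.repr_self, Finsupp.single_apply]
    split <;> simp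
  let π : (_ →₀ A') →ₗ[A'] A' ⊗[A] M := Finsupp.linearCombination A' fun i => (1 : A') ⊗ₜ[A] v i
  have hπ : Function.Surjective π := by
    rw [← LinearMap.range_eq_top, Finsupp.range_linearCombination, eq_top_iff]
    intro y hy0
    clear hy0
    induction y with
    | zero => simp
    | add y z hy hz => exact add_mem hy hz
    | tmul a x =>
      have hx : x ∈ Submodule.span A (Set.range v) := hgen ▸ trivial
      rw [show a ⊗ₜ[A] x = a • ((1 : A') ⊗ₜ[A] x) by rw [TensorProduct.smul_tmul', smul_eq_mul, mul_one]]
      refine Submodule.smul_mem _ a ?_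
      induction hx using Submodule.span_induction with
      | zero => simp
      | add y z _ _ hy hz => rw [TensorProduct.tmul_add]; exact add_mem hy hz
      | smul c y _ hy => rw [TensorProduct.tmul_smul, ← algebraMap_smul A' c]; exact Submodule.smul_mem _ _ hy
      | mem y hy => obtain ⟨i, rfl⟩ := hy; exact Submodule.subset_span ⟨i, rfl⟩
  have hker : ∀ k : ℕ, ∀ x, π x = 0 → ∀ i, x i ∈ r ^ k := by
    intro k
    induction k with
    | zero => simp
    | succ k ih =>
      intro x hx i₀
      -- coefficients lie in `r`
      have hx1 : ∀ i, x i ∈ r := by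
        intro i
        rw [← Ideal.Quotient.eq_zero_iff_mem]
        have h := congrArg ((co i).liftBaseChange A') hx
        simp [π, Finsupp.linearCombination_apply, Finsupp.sum, hco, Finset.sum_ite_eq',
          Algebra.smul_def] at h
        rcases eq_or_ne (x i) 0 with h0 | h0
        · rw [h0, map_zero]
        · exact h h0
      have hrel : ∑ i : x.support, x i • ((1 : A') ⊗ₜ[A] v i) = 0 := by
        rw [Finset.sum_coe_sort x.support fun i => x i • ((1 : A') ⊗ₜ[A] v i)]
        exact hx
      obtain ⟨l, c, y, hy, hc⟩ := Module.Flat.isTrivialRelation_of_sum_smul_eq_zero hrel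
      choose z hz using fun j => hπ (y j)
      let w : x.support → _ →₀ A' := fun i => Finsupp.single i.1 1 - ∑ j, c i j • z j
      have hw : ∀ i, π (w i) = 0 := by
        intro i
        simp [w, π] at hz ⊢
        simp [hz, hy i]
      have hxw : x = ∑ i : x.support, x i • w i := by
        simp only [w, smul_sub, Finset.smul_sum, Finset.sum_sub_distrib, smul_smul]
        rw [Finset.sum_comm (s := Finset.univ) (t := Finset.univ)]
        simp only [← Finset.sum_smul, hc, zero_smul, Finset.sum_const_zero, sub_zero,
          Finsupp.smul_single, smul_eq_mul, mul_one]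
        rw [Finset.sum_coe_sort x.support fun i => Finsupp.single i (x i)]
        exact x.sum_single.symm
      rw [hxw, Finsupp.finset_sum_apply, pow_succ']
      exact Submodule.sum_mem _ fun i _ => Ideal.mul_mem_mul (hx1 i) (ih _ (hw i) i₀)
  refine Module.Free.of_basis (Module.Basis.mk (v := v) ?_ hgen.ge)
  rw [linearIndependent_iff]
  intro x hx
  obtain ⟨k, hk⟩ := hr
  have h0 : π (x.mapRange (algebraMap A A') (map_zero _)) = 0 := by
    have := congrArg (fun y : M => (1 : A') ⊗ₜ[A] y) hx
    simp only [Finsupp.linearCombination_apply, Finsupp.sum, TensorProduct.tmul_sum,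
      TensorProduct.tmul_zero, TensorProduct.tmul_smul] at this
    simp only [π, Finsupp.linearCombination_apply]
    rw [Finsupp.sum_mapRange_index (by simp)]
    simpa [Finsupp.sum] using this
  ext i
  apply hinj
  have := hker k _ h0 i
  rw [hk] at this
  simpa using this

/-- Let A → B be a local homomorphism of Noetherian local rings, m the maximal ideal of A, and φ : A →
A' a ring homomorphism to a semi-local Noetherian ring A' with Jacobson radical r', such that
φ⁻¹(r') = m and such that every power m^n contains φ⁻¹(r'^N) for some N. Then B is flat over A if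
and only if A' ⊗_A B is flat over A'. (Given φ⁻¹(r') = m, the condition on powers says that the
m-adic topology of A is induced by the r'-adic topology of A', equivalently that the induced
homomorphism of adic completions is injective, which is how the published statement phrases this
hypothesis.) -/
theorem result (A B A' : Type u) [CommRing A] [CommRing B]
    [CommRing A'] [IsNoetherianRing A] [IsLocalRing A] [IsNoetherianRing B] [IsLocalRing B]
    [Algebra A B] [IsLocalHom (algebraMap A B)] [IsNoetherianRing A'] [Finite (MaximalSpectrum A')]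
    [Algebra A A']
    (hrad : (Ideal.jacobson (⊥ : Ideal A')).comap (algebraMap A A') = IsLocalRing.maximalIdeal A)
    (htop : ∀ n : ℕ, ∃ N : ℕ,
      ((Ideal.jacobson (⊥ : Ideal A')) ^ N).comap (algebraMap A A') ≤ (IsLocalRing.maximalIdeal A) ^ n) :
    Module.Flat A B ↔ Module.Flat A' (A' ⊗[A] B) := by
  constructor
  · intro h
    infer_instance
  · intro h
    set m := IsLocalRing.maximalIdeal A
    set r := Ideal.jacobson (⊥ : Ideal A')
    refine CAlg7.flat_of_forall_flat_mod_pow (S := B) m ?_ fun n hn => ?_
    · rw [IsLocalRing.jacobson_eq_maximalIdeal _ bot_ne_top]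
      exact ((IsLocalRing.local_hom_TFAE (algebraMap A B)).out 0 2 rfl rfl).1 ‹_›
    obtain ⟨N, hN⟩ := htop n
    set I := (r ^ N).comap (algebraMap A A') with hI
    let A₀ := A ⧸ I
    let A₁ := A' ⧸ (r ^ N)
    letI : Algebra A₀ A₁ := (Ideal.quotientMap (r ^ N) (algebraMap A A') hI.le).toAlgebra
    haveI : IsScalarTower A A₀ A₁ := IsScalarTower.of_algebraMap_eq' rfl
    haveI : IsScalarTower A A' A₁ := IsScalarTower.of_algebraMap_eq' rfl
    have hIm : I ≤ m := hN.trans (Ideal.pow_le_self (by omega))
    haveI hmax : (m.map (Ideal.Quotient.mk I)).IsMaximal :=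
      Ideal.IsMaximal.map_of_surjective_of_ker_le Ideal.Quotient.mk_surjective (by rwa [Ideal.mk_ker])
    haveI : Module.Flat A₁ (A₁ ⊗[A₀] (A₀ ⊗[A] B)) :=
      Module.Flat.of_linearEquiv ((AlgebraTensorModule.cancelBaseChange A A₀ A₁ A₁ B).trans
        (AlgebraTensorModule.cancelBaseChange A A' A₁ A₁ B).symm)
    haveI : Module.Free A₀ (A₀ ⊗[A] B) := by
      refine free_descent A₀ A₁ _ (m.map (Ideal.Quotient.mk I)) ⟨N, ?_⟩ Ideal.quotientMap_injective
        (r.map (Ideal.Quotient.mk (r ^ N))) ⟨N, ?_⟩ ?_
      · rw [← Ideal.map_pow, Submodule.zero_eq_bot, Ideal.map_eq_bot_iff_le_ker, Ideal.mk_ker, hI,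
          ← Ideal.map_le_iff_le_comap, Ideal.map_pow]
        exact Ideal.pow_right_mono (Ideal.map_le_iff_le_comap.2 hrad.ge) _
      · rw [← Ideal.map_pow, Submodule.zero_eq_bot, Ideal.map_quotient_self]
      · rw [← Ideal.map_le_iff_le_comap, Ideal.map_map]
        show Ideal.map ((Ideal.Quotient.mk (r ^ N)).comp (algebraMap A A')) m ≤ _
        rw [← Ideal.map_map]
        exact Ideal.map_mono (Ideal.map_le_iff_le_comap.2 hrad.ge)
    letI : Algebra A₀ (A ⧸ m ^ n) := (Ideal.Quotient.factor hN).toAlgebra
    haveI : IsScalarTower A A₀ (A ⧸ m ^ n) := IsScalarTower.of_algebraMap_eq' rfl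
    haveI : Module.Flat (A ⧸ m ^ n) ((A ⧸ m ^ n) ⊗[A] B) :=
      Module.Flat.of_linearEquiv
        (AlgebraTensorModule.cancelBaseChange A A₀ (A ⧸ m ^ n) (A ⧸ m ^ n) B).symm
    let e := TensorProduct.quotTensorEquivQuotSMul B (m ^ n)
    exact Module.Flat.of_linearEquiv
      (LinearEquiv.extendScalarsOfSurjective (R := A) Ideal.Quotient.mk_surjective e).symm

end Groth.Agent.S12419
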