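import Groth.Statements.S12420
import Groth.Agent.CAlg7.Chevalley
import Groth.Agent.CAlg1.Complete
import Mathlib.RingTheory.AdicCompletion.AsTensorProduct
import Mathlib.RingTheory.AdicCompletion.LocalRing
import Mathlib.RingTheory.Flat.FaithfullyFlat.Algebra
import Mathlib.RingTheory.EssentialFiniteness
import Mathlib.RingTheory.Localization.FractionRing
import Mathlib.RingTheory.Flat.Localization
import Mathlib.RingTheory.Flat.Stability
import Mathlib.RingTheory.Ideal.MinimalPrime.Basic
import Mathlib.RingTheory.Filtration

set_option autoImplicit false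
universe u
open CAlg

namespace Groth.Agent.S12420

open IsLocalRing TensorProduct in
theorem core {A D : Type u} [CommRing A] [CommRing D] [IsNoetherianRing A] [IsNoetherianRing D]
    [IsLocalRing A] [IsLocalRing D] [IsDomain A] [IsDomain D] [Algebra A D] [FaithfulSMul A D]
    [IsLocalHom (algebraMap A D)] [Algebra.EssFiniteType A D]
    [IsDomain (AdicCompletion (maximalIdeal A) A)] (j : ℕ) :
    ∃ n : ℕ, ((maximalIdeal D) ^ n).comap (algebraMap A D) ≤ (maximalIdeal A) ^ j := by
  classical
  let m := maximalIdeal A
  let H := AdicCompletion m A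
  haveI : IsNoetherianRing (A ⧸ m) := inferInstance
  haveI : IsNoetherianRing H := CAlg1.isNoetherianRing_adicCompletion m (IsNoetherian.noetherian _)
  haveI : Module.FaithfullyFlat A H := Module.FaithfullyFlat.of_flat_of_isLocalHom
  -- a flat module containing D
  let L := FractionRing D
  haveI : FaithfulSMul A L := (faithfulSMul_iff_algebraMap_injective A L).mpr (by
    rw [IsScalarTower.algebraMap_eq A D L]
    exact (IsFractionRing.injective D L).comp (FaithfulSMul.algebraMap_injective A D))
  letI := FractionRing.liftAlgebra A L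
  haveI : Module.Flat A L := Module.Flat.trans A (FractionRing A) L
  have hreg : ∀ a : H, a ≠ 0 → ∀ z : H ⊗[A] D, (a ⊗ₜ[A] (1 : D)) * z = 0 → z = 0 := by
    intro a ha z hz
    let ι := LinearMap.lTensor H ((Algebra.linearMap D L).restrictScalars A)
    have hι : Function.Injective ι := Module.Flat.lTensor_preserves_injective_linearMap _ (IsFractionRing.injective D L)
    let μ : H →ₗ[A] H := LinearMap.mulLeft A a
    have hμ : Function.Injective (μ.rTensor L) :=
      Module.Flat.rTensor_preserves_injective_linearMap _ (mul_right_injective₀ ha)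
    have hcomm : ∀ w : H ⊗[A] D, μ.rTensor L (ι w) = ι ((a ⊗ₜ[A] (1 : D)) * w) := fun w => by
      induction w using TensorProduct.induction_on with
      | zero => simp
      | tmul b d => simp [ι, μ]
      | add p q hp hq => simp [mul_add, hp, hq]
    apply hι
    rw [map_zero]
    apply hμ
    rw [hcomm, hz, map_zero, map_zero]
  haveI : IsNoetherianRing (H ⊗[A] D) := Algebra.EssFiniteType.isNoetherianRing H _
  let C0 := D ⊗[A] H
  haveI : IsNoetherianRing C0 :=
    isNoetherianRing_of_ringEquiv (H ⊗[A] D) (Algebra.TensorProduct.comm A H D).toRingEquiv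
  obtain ⟨⟨Q, hQp⟩, hQ⟩ := PrimeSpectrum.comap_surjective_of_faithfullyFlat (A := D) (B := C0)
    ⟨maximalIdeal D, inferInstance⟩
  have hQ' : Q.comap (algebraMap D C0) = maximalIdeal D := congrArg PrimeSpectrum.asIdeal hQ
  haveI := hQp
  let C := Localization.AtPrime Q
  haveI : IsNoetherianRing C := IsLocalization.isNoetherianRing Q.primeCompl _ inferInstance
  let ψ : H →+* C := (algebraMap C0 C).comp (Algebra.TensorProduct.includeRight (R := A) (A := D) (B := H)).toRingHom
  have hψ : Function.Injective ψ := by
    refine (injective_iff_map_eq_zero ψ).mpr fun a ha => ?_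
    by_contra hne
    obtain ⟨⟨s, hs⟩, h⟩ := (IsLocalization.map_eq_zero_iff Q.primeCompl C _).mp ha
    have h' := congrArg (Algebra.TensorProduct.comm A D H) h
    rw [map_mul, map_zero, mul_comm] at h'
    have h0 := hreg a hne _ (by exact h')
    rw [map_eq_zero_iff _ (Algebra.TensorProduct.comm A D H).injective] at h0
    exact hs ((show s = 0 from h0) ▸ Q.zero_mem)
  obtain ⟨n, hn⟩ := CAlg7.exists_le_pow (fun n => (maximalIdeal C ^ n).comap ψ)
    (fun a b hab => Ideal.comap_mono (Ideal.pow_le_pow_right hab)) (by
      have hk : ⨅ i : ℕ, maximalIdeal C ^ i = ⊥ :=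
        @Ideal.iInf_pow_eq_bot_of_isLocalRing C _ (maximalIdeal C) _ _ (maximalIdeal.isMaximal C).ne_top
      rw [← Ideal.comap_iInf, hk,
        ← RingHom.ker_eq_comap_bot, (RingHom.injective_iff_ker_eq_bot ψ).mp hψ]) j
  refine ⟨n, fun x hx => ?_⟩
  have h1 : (maximalIdeal D).map ((algebraMap C0 C).comp (algebraMap D C0)) ≤ maximalIdeal C := by
    rw [← Ideal.map_map, ← hQ', ← Localization.AtPrime.map_eq_maximalIdeal]
    exact Ideal.map_mono Ideal.map_comap_le
  have h2 : ψ (algebraMap A H x) ∈ maximalIdeal C ^ n := by
    have e : ψ (algebraMap A H x) = ((algebraMap C0 C).comp (algebraMap D C0)) (algebraMap A D x) := by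
      show algebraMap C0 C (Algebra.TensorProduct.includeRight (algebraMap A H x)) = algebraMap C0 C (algebraMap D C0 (algebraMap A D x))
      rw [← IsScalarTower.algebraMap_apply A D C0]
      exact congrArg _ (AlgHom.commutes _ _)
    rw [e]
    refine Ideal.pow_right_mono h1 n ?_
    rw [← Ideal.map_pow]
    exact Ideal.mem_map_of_mem _ hx
  have h3 : algebraMap A H x ∈ maximalIdeal H ^ j := hn h2
  rw [AdicCompletion.maximalIdeal_eq_map, ← Ideal.map_pow] at h3
  exact (Ideal.comap_map_eq_self_of_faithfullyFlat (B := H) (m ^ j)).le h3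

/-- Let φ : A → A' be an injective local homomorphism of Noetherian local rings, essentially of finite
type, such that the adic completion of A at its maximal ideal m is an integral domain. Then every
power m^j contains φ⁻¹(m'^n) for some n, m' the maximal ideal of A': the m-adic topology of A is
induced from the m'-adic topology of A'. (Equivalently, the induced homomorphism of completions Â →
Â' is injective, which is how the published statement phrases the conclusion; the inclusion of
ideals is what its proof establishes.) -/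
theorem result (A A' : Type u) [CommRing A]
    [CommRing A'] [IsNoetherianRing A] [IsNoetherianRing A'] [IsLocalRing A] [IsLocalRing A'] [Algebra A A']
    (hinj : Function.Injective (algebraMap A A')) [IsLocalHom (algebraMap A A')] [Algebra.EssFiniteType A A']
    [IsDomain (AdicCompletion (IsLocalRing.maximalIdeal A) A)] (j : ℕ) :
    ∃ n : ℕ, ((IsLocalRing.maximalIdeal A') ^ n).comap (algebraMap A A') ≤ (IsLocalRing.maximalIdeal A) ^ j := by
  haveI : IsDomain A :=
    (AdicCompletion.of_injective (IsLocalRing.maximalIdeal A) A).isDomain (algebraMap A (AdicCompletion (IsLocalRing.maximalIdeal A) A))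
  haveI : (⊥ : Ideal A).IsPrime := Ideal.isPrime_bot
  obtain ⟨P, hP, -, hPc⟩ := Ideal.exists_comap_eq_of_mem_minimalPrimes (algebraMap A A') (⊥ : Ideal A) (by
    rw [← RingHom.ker_eq_comap_bot, (RingHom.injective_iff_ker_eq_bot _).mp hinj, Ideal.minimalPrimes_eq_subsingleton_self]
    rfl)
  let D := A' ⧸ P
  haveI := hP
  haveI : IsLocalRing D := IsLocalRing.of_surjective' (Ideal.Quotient.mk P) Ideal.Quotient.mk_surjective
  haveI : FaithfulSMul A D := (faithfulSMul_iff_algebraMap_injective A D).mpr ((RingHom.injective_iff_ker_eq_bot _).mpr (by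
    ext x
    rw [RingHom.mem_ker, IsScalarTower.algebraMap_apply A A' D, Ideal.Quotient.algebraMap_eq,
      Ideal.Quotient.eq_zero_iff_mem, ← Ideal.mem_comap, hPc]))
  haveI : IsLocalHom (Ideal.Quotient.mk P) := IsLocalHom.of_surjective _ Ideal.Quotient.mk_surjective
  haveI : IsLocalHom (algebraMap A D) := by
    rw [IsScalarTower.algebraMap_eq A A' D, Ideal.Quotient.algebraMap_eq]
    infer_instance
  haveI : Algebra.EssFiniteType A D := Algebra.EssFiniteType.comp A A' D
  obtain ⟨n, hn⟩ := core (A := A) (D := D) j
  refine ⟨n, fun x hx => hn ?_⟩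
  rw [Ideal.mem_comap] at hx ⊢
  have := Ideal.mem_map_of_mem (Ideal.Quotient.mk P) hx
  rw [Ideal.map_pow] at this
  rw [IsScalarTower.algebraMap_apply A A' D, Ideal.Quotient.algebraMap_eq]
  refine Ideal.pow_right_mono ?_ n this
  exact ((IsLocalRing.local_hom_TFAE (Ideal.Quotient.mk P)).out 0 2).mp (IsLocalHom.of_surjective _ Ideal.Quotient.mk_surjective)

end Groth.Agent.S12420
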