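import Groth.Statements.S12423
import Groth.Agent.Var76.ConormalChart
import Groth.Agent.S10910
import Groth.Agent.FlatMor68.LocFree
import Groth.Agent.Props58.LocFree.Affine
import Groth.Agent.QCPull72.Sections

set_option autoImplicit false
universe u
open CategoryTheory CategoryTheory.Limits AlgebraicGeometry
open NonsingVar

namespace Groth.Agent.S12423

open CategoryTheory CategoryTheory.Limits AlgebraicGeometry TopologicalSpace Opposite
open Groth.Agent Groth.Agent.Var76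
open scoped TensorProduct

set_option backward.isDefEq.respectTransparency false
set_option maxHeartbeats 1000000

/-- Rank and projectivity of the kernel in a short exact sequence. -/
theorem kernel_projective {B C M P : Type u} [CommRing B] [AddCommGroup C] [Module B C] [AddCommGroup M] [Module B M]
    [AddCommGroup P] [Module B P] [Module.Finite B M] [Module.Projective B M] [Module.Projective B P]
    (f : C →ₗ[B] M) (g : M →ₗ[B] P) (hf : Function.Injective f) (hg : Function.Surjective g)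
    (he : Function.Exact f g) : Nonempty (M ≃ₗ[B] C × P) ∧ Module.Projective B C ∧ Module.Finite B C := by
  obtain ⟨l, hl⟩ := LinearMap.exists_rightInverse_of_surjective g (LinearMap.range_eq_top.2 hg)
  let e := (he.splitSurjectiveEquiv hf ⟨l, hl⟩).1
  refine ⟨⟨e⟩, ?_, ?_⟩
  · exact Module.Projective.of_split (e.symm.toLinearMap.comp (LinearMap.inl B C P))
      ((LinearMap.fst B C P).comp e.toLinearMap) (LinearMap.ext fun c => by simp)
  · exact Module.Finite.of_surjective ((LinearMap.fst B C P).comp e.toLinearMap)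
      (Prod.fst_surjective.comp e.surjective)

/-- A monomorphism criterion on preimages of affine opens. -/
theorem mono_of_affine {X Y : Scheme.{u}} (i : Y ⟶ X) [IsClosedImmersion i] {M N : Y.Modules} (φ : M ⟶ N)
    (h : ∀ U : X.Opens, IsAffineOpen U → ∀ z, φ.app (i ⁻¹ᵁ U) z = 0 → z = 0) : Mono φ := by
  refine ⟨fun {Z} a b hab => Scheme.Modules.hom_ext _ _ fun W => ?_⟩
  ext s
  refine QC70.section_ext _ _ _ fun p hp => ?_
  obtain ⟨W₀, hW₀, hW₀W⟩ := i.isEmbedding.isInducing.isOpen_iff.1 W.2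
  have hp' : i p ∈ W₀ := by
    have : p ∈ i ⁻¹' W₀ := hW₀W ▸ hp
    exact this
  obtain ⟨U, hU, hpU, hUW⟩ := exists_isAffineOpen_mem_and_subset (U := (⟨W₀, hW₀⟩ : X.Opens)) (x := i p) hp'
  have hle : i ⁻¹ᵁ U ≤ W := fun q hq => by
    have : q ∈ i ⁻¹' W₀ := hUW hq
    rw [hW₀W] at this
    exact this
  refine ⟨i ⁻¹ᵁ U, hle, hpU, ?_⟩
  rw [← sub_eq_zero]
  refine h U hU _ ?_
  rw [map_sub, QC70.app_res, QC70.app_res, sub_eq_zero]
  exact congrArg (QC70.res N hle) congr(Scheme.Modules.Hom.app $hab W s)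

/-- Let k be an algebraically closed field, X a nonsingular variety over k (integral, separated and of
finite type over k, all local rings regular) of dimension n, i : Y → X an irreducible closed
subscheme of dimension q with ideal sheaf I, (Ω_X, d_X) and (Ω_Y, d_Y) sheaves of differentials of X
and Y over k (universal derivations), and φ : I/I² → i^*Ω_X the canonical map from the conormal
sheaf (class of a local section s of I ↦ pullback of d_X s). Then Y is nonsingular if and only if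
(1) Ω_Y is locally free and (2) φ is a monomorphism (the conormal sequence 0 → I/I² → i^*Ω_X → Ω_Y →
0 is exact on the left too). Moreover in that case I/I² is locally free of rank n − q, the
codimension of Y. (The clause that I is then locally generated by n − q sections is not restated.) -/
theorem result (k : Type u) [Field k]
    [IsAlgClosed k] (n q : ℕ)
    (X : Scheme.{u}) [X.Over (Spec (CommRingCat.of k))] [IsIntegral X] [IsSeparated (X ↘ (Spec (CommRingCat.of k)))]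
    [LocallyOfFiniteType (X ↘ (Spec (CommRingCat.of k)))] [QuasiCompact (X ↘ (Spec (CommRingCat.of k)))]
    (hreg : ∀ x : ↥X, IsRegularLocalRing ↑(X.presheaf.stalk x))
    (hn : topologicalKrullDim ↥X = (n : WithBot ℕ∞))
    (Y : Scheme.{u}) (i : Y ⟶ X) [IsClosedImmersion i] [IrreducibleSpace ↥Y]
    (hq : topologicalKrullDim ↥Y = (q : WithBot ℕ∞))
    (ΩX : X.Modules) (dX : OmegaSh.Der (X ↘ (Spec (CommRingCat.of k))) ΩX) (hX : OmegaSh.IsUniversal dX)
    (ΩY : Y.Modules) (dY : OmegaSh.Der (i ≫ (X ↘ (Spec (CommRingCat.of k)))) ΩY) (hY : OmegaSh.IsUniversal dY)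
    (φ : Omega.conormal i ⟶ (Scheme.Modules.pullback i).obj ΩX) (hφ : OmegaSh.IsConormalDiff i dX φ) :
    ((∀ y : ↥Y, IsRegularLocalRing ↑(Y.presheaf.stalk y)) ↔ (FlatMod.IsFinLocFree ΩY ∧ Mono φ)) ∧
      ((∀ y : ↥Y, IsRegularLocalRing ↑(Y.presheaf.stalk y)) →
        FlatMod.IsFinLocFreeOfRank (n - q) (Omega.conormal i)) := by
  classical
  let qY := i ≫ (X ↘ Spec (CommRingCat.of k))
  letI : Y.Over (Spec (CommRingCat.of k)) := ⟨qY⟩
  have : LocallyOfFiniteType (Y ↘ Spec (CommRingCat.of k)) := inferInstanceAs (LocallyOfFiniteType qY)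
  have : QuasiSeparated (Y ↘ Spec (CommRingCat.of k)) := inferInstanceAs (QuasiSeparated qY)
  obtain ⟨eY0, -⟩ := OmegaUniv.exists_iso (Y ↘ Spec (CommRingCat.of k)) dY hY
  obtain ⟨eX0, -⟩ := OmegaUniv.exists_iso (X ↘ Spec (CommRingCat.of k)) dX hX
  have hXfree : FlatMod.IsFinLocFreeOfRank n ΩX :=
    OmegaRegular.isFinLocFreeOfRank_of_iso eX0 ((OmegaRegular.main (k := k) n hn).2 hreg)
  -- facts on one chart
  have chart : ∀ (U : X.Opens) (hU : IsAffineOpen U), Nonempty (i ⁻¹ᵁ U : Y.Opens) →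
      letI := (BertiniScheme.const (k := k) X U).toAlgebra
      letI := (BertiniScheme.const (k := k) Y (i ⁻¹ᵁ U)).toAlgebra
      letI := (i.app U).hom.toAlgebra
      IsScalarTower k Γ(X, U) Γ(Y, i ⁻¹ᵁ U) ∧
      (IsRegularRing Γ(Y, i ⁻¹ᵁ U) ↔ (Module.Projective Γ(Y, i ⁻¹ᵁ U) Ω[Γ(Y, i ⁻¹ᵁ U)⁄k] ∧
        Function.Injective (KaehlerDifferential.kerCotangentToTensor k Γ(X, U) Γ(Y, i ⁻¹ᵁ U)))) := by
    intro U hU hne
    letI : Algebra k Γ(X, U) := (BertiniScheme.const (k := k) X U).toAlgebra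
    letI : Algebra k Γ(Y, i ⁻¹ᵁ U) := (BertiniScheme.const (k := k) Y (i ⁻¹ᵁ U)).toAlgebra
    letI : Algebra Γ(X, U) Γ(Y, i ⁻¹ᵁ U) := (i.app U).hom.toAlgebra
    have : Nonempty U := ⟨⟨i hne.some.1, hne.some.2⟩⟩
    have : IsScalarTower k Γ(X, U) Γ(Y, i ⁻¹ᵁ U) := IsScalarTower.of_algebraMap_eq fun r => by
      show (Y ↘ Spec (CommRingCat.of k)).appLE ⊤ (i ⁻¹ᵁ U) le_top ((Scheme.ΓSpecIso (CommRingCat.of k)).inv r) =
        i.app U ((X ↘ Spec (CommRingCat.of k)).appLE ⊤ U le_top ((Scheme.ΓSpecIso (CommRingCat.of k)).inv r))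
      rw [← CategoryTheory.comp_apply ((X ↘ Spec (CommRingCat.of k)).appLE _ _ _), Scheme.Hom.app_eq_appLE,
        Scheme.Hom.appLE_comp_appLE]
      rfl
    refine ⟨this, ?_⟩
    have : Algebra.FiniteType k Γ(X, U) := VarDim.finiteType_const (k := k) hU
    have : IsNoetherianRing Γ(X, U) := Algebra.FiniteType.isNoetherianRing k _
    have : IsRegularRing Γ(X, U) := OmegaRegular.regular_chart hU hreg
    exact S10910.result k Γ(X, U) Γ(Y, i ⁻¹ᵁ U) (i.app_surjective U hU)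
      (OmegaRegular.nilradical_isPrime (hU.preimage i))
  -- a regular subscheme
  have fwd : (∀ y : Y, IsRegularLocalRing (Y.presheaf.stalk y)) → FlatMod.IsFinLocFreeOfRank q ΩY ∧ Mono φ := by
    intro hregY
    refine ⟨OmegaRegular.isFinLocFreeOfRank_of_iso eY0 ((OmegaRegular.main (k := k) q hq).2 hregY), ?_⟩
    refine mono_of_affine i φ fun U hU z hz => ?_
    by_cases hne : Nonempty (i ⁻¹ᵁ U : Y.Opens)
    · obtain ⟨hT, hiff⟩ := chart U hU hne
      letI : Algebra k Γ(Y, i ⁻¹ᵁ U) := (BertiniScheme.const (k := k) Y (i ⁻¹ᵁ U)).toAlgebra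
      have : Algebra.FiniteType k Γ(Y, i ⁻¹ᵁ U) := VarDim.finiteType_const (k := k) (hU.preimage i)
      have : IsNoetherianRing Γ(Y, i ⁻¹ᵁ U) := Algebra.FiniteType.isNoetherianRing k _
      have hB : IsRegularRing Γ(Y, i ⁻¹ᵁ U) := OmegaRegular.regular_chart (hU.preimage i) hregY
      obtain ⟨Θ, hinj, -⟩ := ConormalChart.exists_chart dX i hX φ hφ hU
      exact hinj.2 ((hiff.1 hB).2) z hz
    · refine TopCat.Presheaf.section_ext ⟨_, (Omega.conormal i).isSheaf⟩ _ _ _ fun p hp => ?_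
      exact absurd ⟨⟨p, hp⟩⟩ hne
  refine ⟨⟨fun h => ⟨fun y => ?_, (fwd h).2⟩, ?_⟩, fun hregY => ?_⟩
  · obtain ⟨V, hyV, ⟨e⟩⟩ := (fwd h).1 y
    exact ⟨V, q, hyV, ⟨e⟩⟩
  · rintro ⟨hfree, hmono⟩ y
    obtain ⟨U, hU, hyU, -⟩ := exists_isAffineOpen_mem_and_subset (U := (⊤ : X.Opens)) (x := i y) trivial
    obtain ⟨hT, hiff⟩ := chart U hU ⟨⟨y, hyU⟩⟩
    letI : Algebra k Γ(Y, i ⁻¹ᵁ U) := (BertiniScheme.const (k := k) Y (i ⁻¹ᵁ U)).toAlgebra
    obtain ⟨Θ, hinj, -⟩ := ConormalChart.exists_chart dX i hX φ hφ hU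
    obtain ⟨eB, -⟩ := ConormalChart.omega_equiv (k := k) dY hY (hU.preimage i)
    have := Props58.LocFree.projective_sections hfree (hU.preimage i)
    have hB := hiff.2 ⟨Module.Projective.of_equiv eB.symm, hinj.1 fun z hz =>
      QC70.app_injective_of_mono φ _ (hz.trans (map_zero _).symm)⟩
    exact (OmegaRegular.regular_stalk_iff (hU.preimage i) hyU).2
      (IsRegularRing.isRegularLocalRing_localization ((hU.preimage i).primeIdealOf ⟨y, hyU⟩).asIdeal)
  · intro y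
    have : (ClSub.idealMod i.ker).IsQuasicoherent := Omega57.isQuasicoherent_idealMod _
    have hqc : (Omega.conormal i).IsQuasicoherent := QCPull72.isQuasicoherent_pullback i _
    obtain ⟨hYfree, -⟩ := fwd hregY
    obtain ⟨UX, hyUX, ⟨iX⟩⟩ := hXfree (i y)
    obtain ⟨VY, hyVY, ⟨iY⟩⟩ := hYfree y
    obtain ⟨W₀, hW₀, hW₀V⟩ := i.isEmbedding.isInducing.isOpen_iff.1 VY.2
    have hy₀ : i y ∈ W₀ := by
      have : y ∈ i ⁻¹' W₀ := hW₀V ▸ hyVY
      exact this
    -- the sequence on an affine open inside both trivializations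
    have seq : ∀ U : X.Opens, IsAffineOpen U → Nonempty (i ⁻¹ᵁ U : Y.Opens) → U ≤ UX → (U : Set X) ⊆ W₀ →
        Module.Projective Γ(Y, i ⁻¹ᵁ U) Γ(Omega.conormal i, i ⁻¹ᵁ U) ∧
        Module.Finite Γ(Y, i ⁻¹ᵁ U) Γ(Omega.conormal i, i ⁻¹ᵁ U) ∧
        (Module.Free Γ(Y, i ⁻¹ᵁ U) Γ(Omega.conormal i, i ⁻¹ᵁ U) →
          Module.finrank Γ(Y, i ⁻¹ᵁ U) Γ(Omega.conormal i, i ⁻¹ᵁ U) = n - q) := by
      intro U hU hne hUX hUW
      obtain ⟨hT, hiff⟩ := chart U hU hne
      letI : Algebra k Γ(X, U) := (BertiniScheme.const (k := k) X U).toAlgebra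
      letI : Algebra k Γ(Y, i ⁻¹ᵁ U) := (BertiniScheme.const (k := k) Y (i ⁻¹ᵁ U)).toAlgebra
      letI : Algebra Γ(X, U) Γ(Y, i ⁻¹ᵁ U) := (i.app U).hom.toAlgebra
      have := hT
      have : Algebra.FiniteType k Γ(Y, i ⁻¹ᵁ U) := VarDim.finiteType_const (k := k) (hU.preimage i)
      have : IsNoetherianRing Γ(Y, i ⁻¹ᵁ U) := Algebra.FiniteType.isNoetherianRing k _
      have : Nontrivial Γ(Y, i ⁻¹ᵁ U) :=
        (Y.presheaf.germ _ hne.some.1 hne.some.2).hom.domain_nontrivial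
      obtain ⟨hProjB, hinjK⟩ := hiff.1 (OmegaRegular.regular_chart (hU.preimage i) hregY)
      obtain ⟨Θ, hinj, hrange⟩ := ConormalChart.exists_chart dX i hX φ hφ hU
      obtain ⟨eA, -⟩ := ConormalChart.omega_equiv (k := k) dX hX hU
      obtain ⟨eB, -⟩ := ConormalChart.omega_equiv (k := k) dY hY (hU.preimage i)
      obtain ⟨bA⟩ := OmegaRegular.sections_free iX hUX
      have hle : i ⁻¹ᵁ U ≤ VY := fun p hp => by
        have : p ∈ i ⁻¹' W₀ := hUW hp
        rw [hW₀V] at this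
        exact this
      obtain ⟨bB⟩ := OmegaRegular.sections_free iY hle
      have : Module.Free Γ(X, U) Ω[Γ(X, U)⁄k] := Module.Free.of_equiv (bA ≪≫ₗ eA.symm)
      have : Module.Finite Γ(X, U) Ω[Γ(X, U)⁄k] := Module.Finite.equiv (bA ≪≫ₗ eA.symm)
      have : Module.Free Γ(Y, i ⁻¹ᵁ U) Ω[Γ(Y, i ⁻¹ᵁ U)⁄k] := Module.Free.of_equiv (bB ≪≫ₗ eB.symm)
      have : Module.Finite Γ(Y, i ⁻¹ᵁ U) Ω[Γ(Y, i ⁻¹ᵁ U)⁄k] := Module.Finite.equiv (bB ≪≫ₗ eB.symm)
      have hnt : Nontrivial Γ(X, U) := (i.app U).hom.domain_nontrivial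
      let φl : Γ(Omega.conormal i, i ⁻¹ᵁ U) →ₗ[Γ(Y, i ⁻¹ᵁ U)] Γ((Scheme.Modules.pullback i).obj ΩX, i ⁻¹ᵁ U) :=
        { toFun := fun z => φ.app (i ⁻¹ᵁ U) z
          map_add' := fun a b => map_add (φ.app _).hom a b
          map_smul' := fun a z => φ.app_smul a z }
      let ψ : Γ(Omega.conormal i, i ⁻¹ᵁ U) →ₗ[Γ(Y, i ⁻¹ᵁ U)] Γ(Y, i ⁻¹ᵁ U) ⊗[Γ(X, U)] Ω[Γ(X, U)⁄k] :=
        Θ.symm.toLinearMap.comp φl
      have hψ : Function.Injective ψ := by
        rw [injective_iff_map_eq_zero]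
        intro z hz
        exact hinj.2 hinjK z ((map_eq_zero_iff _ Θ.symm.injective).1 hz)
      have hex : Function.Exact ψ (KaehlerDifferential.mapBaseChange k Γ(X, U) Γ(Y, i ⁻¹ᵁ U)) := by
        intro w
        rw [KaehlerDifferential.exact_kerCotangentToTensor_mapBaseChange k Γ(X, U) Γ(Y, i ⁻¹ᵁ U)
          (i.app_surjective U hU) w]
        constructor
        · intro hw
          obtain ⟨z, hz⟩ := (hrange (Θ w)).2 (by rwa [LinearEquiv.symm_apply_apply])
          exact ⟨z, (LinearEquiv.symm_apply_eq Θ).2 hz⟩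
        · rintro ⟨z, rfl⟩
          exact (hrange _).1 ⟨z, rfl⟩
      obtain ⟨⟨e⟩, hP, hF⟩ := kernel_projective ψ (KaehlerDifferential.mapBaseChange k Γ(X, U) Γ(Y, i ⁻¹ᵁ U)) hψ
        (KaehlerDifferential.mapBaseChange_surjective k _ _ (i.app_surjective U hU)) hex
      refine ⟨hP, hF, fun hfr => ?_⟩
      have h1 := e.finrank_eq
      rw [Module.finrank_prod, Module.finrank_baseChange, ← (bA ≪≫ₗ eA.symm).finrank_eq,
        ← (bB ≪≫ₗ eB.symm).finrank_eq, Module.finrank_fin_fun, Module.finrank_fin_fun] at h1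
      omega
    obtain ⟨U, hU, hyU, hUsub⟩ := exists_isAffineOpen_mem_and_subset
      (U := UX ⊓ (⟨W₀, hW₀⟩ : X.Opens)) (x := i y) ⟨hyUX, hy₀⟩
    obtain ⟨hP, hF, -⟩ := seq U hU ⟨⟨y, hyU⟩⟩ (fun p hp => (hUsub hp).1) (fun p hp => (hUsub hp).2)
    have hV := hU.preimage i
    let P := (hV.primeIdealOf ⟨y, hyU⟩).asIdeal
    have : Module.FinitePresentation Γ(Y, i ⁻¹ᵁ U) Γ(Omega.conormal i, i ⁻¹ᵁ U) :=
      Module.finitePresentation_of_projective _ _
    have : Module.Free (Localization.AtPrime P) (LocalizedModule P.primeCompl Γ(Omega.conormal i, i ⁻¹ᵁ U)) :=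
      Module.free_of_flat_of_isLocalRing
    obtain ⟨r, hr, hrfree, -⟩ := Module.FinitePresentation.exists_free_localizedModule_powers
      P.primeCompl (LocalizedModule.mkLinearMap P.primeCompl Γ(Omega.conormal i, i ⁻¹ᵁ U)) (Localization.AtPrime P)
    obtain ⟨g, hg⟩ := i.app_surjective U hU r
    haveI := hrfree
    obtain ⟨hfr, hfi⟩ := FlatMor68.LocFree.free_basicOpen (Omega.conormal i) hV r
    have hyr : y ∈ Y.basicOpen r := by
      have hr' : hV.primeIdealOf ⟨y, hyU⟩ ∈ PrimeSpectrum.basicOpen r := hr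
      rw [← hV.fromSpec_preimage_basicOpen r] at hr'
      change hV.fromSpec (hV.primeIdealOf ⟨y, hyU⟩) ∈ Y.basicOpen r at hr'
      rwa [hV.fromSpec_primeIdealOf] at hr'
    have hpre : i ⁻¹ᵁ X.basicOpen g = Y.basicOpen r := by rw [Scheme.preimage_basicOpen, hg]
    obtain ⟨-, -, hrk⟩ := seq (X.basicOpen g) (hU.basicOpen g) ⟨⟨y, hpre ▸ hyr⟩⟩
      ((X.basicOpen_le g).trans fun p hp => (hUsub hp).1) (fun p hp => (hUsub (X.basicOpen_le g hp)).2)
    refine ⟨i ⁻¹ᵁ X.basicOpen g, hpre ▸ hyr, ?_⟩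
    rw [hpre] at hrk ⊢
    have : Nontrivial Γ(Y, Y.basicOpen r) := (Y.presheaf.germ _ y hyr).hom.domain_nontrivial
    haveI := hfr; haveI := hfi
    exact FlatMor68.LocFree.restrict_iso_free (Omega.conormal i) (hV.basicOpen r) (n - q)
      (Module.finBasisOfFinrankEq _ _ (hrk hfr)).equivFun

end Groth.Agent.S12423
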