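import Groth.Statements.S12428
import Groth.Agent.GMod80.Finite

set_option autoImplicit false
universe u
open CategoryTheory MonoidalCategory CartesianMonoidalCategory MonObj GrpObj AlgebraicGeometry
open scoped TensorProduct
open AGF

namespace Groth.Agent.S12428

/-- Let k be an algebraically closed field, G a linear algebraic group over k (an affine smooth group
scheme over k), i : H → G a closed subgroup (smooth closed subgroup scheme), j : G° → G the identity
component (a connected open subgroup scheme), and K = H ∩ G° the intersection subgroup scheme, with
homomorphisms a : K → H and b : K → G° whose underlying square of schemes is a pullback of i and j.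
Then H is observable in G if and only if K is observable in G°. -/
theorem result (k : Type u) [Field k] [IsAlgClosed k]
    (G : Over (Spec (CommRingCat.of k))) [GrpObj G] [IsAffine G.left] [Smooth G.hom]
    (H : Over (Spec (CommRingCat.of k))) [GrpObj H] [Smooth H.hom] (i : H ⟶ G) [IsMonHom i]
    [IsClosedImmersion i.left]
    (G₀ : Over (Spec (CommRingCat.of k))) [GrpObj G₀] [ConnectedSpace G₀.left] (j : G₀ ⟶ G) [IsMonHom j]
    [IsOpenImmersion j.left]
    (K : Over (Spec (CommRingCat.of k))) [GrpObj K] (a : K ⟶ H) [IsMonHom a] (b : K ⟶ G₀) [IsMonHom b]
    (hK : IsPullback a.left b.left i.left j.left) :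
    AGF.IsObservableIn k i ↔ AGF.IsObservableIn k b := by
  have hc : b ≫ j = a ≫ i := by ext : 1; exact hK.w.symm
  have : IsOpenImmersion a.left := MorphismProperty.of_isPullback hK.flip (inferInstanceAs (IsOpenImmersion j.left))
  have : IsClosedImmersion j.left := Groth.Agent.GMod80.isClosedImmersion_of_open_subgroup j
  have : IsClosedImmersion a.left := Groth.Agent.GMod80.isClosedImmersion_of_open_subgroup a
  have : IsAffine G₀.left := isAffine_of_isAffineHom j.left
  have : Smooth G₀.hom := by rw [← Over.w j]; infer_instance
  have : Smooth K.hom := by rw [← Over.w a]; infer_instance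
  have : IsClosedImmersion (a ≫ i).left := by rw [Over.comp_left]; infer_instance
  have : IsClosedImmersion (b.left ≫ j.left) := by rw [← Over.comp_left, hc]; infer_instance
  have : IsClosedImmersion b.left := IsClosedImmersion.of_comp b.left j.left
  constructor
  · intro h
    have h' := Groth.Agent.GMod80.isObservableIn_comp_open i a h
    refine (Groth.Agent.S11190.result k G₀ K b).2 fun V _ _ _ σ => ?_
    refine Groth.Agent.GMod80.extendsAlong_of_comp j b σ ?_
    rw [hc]
    exact (Groth.Agent.S11190.result k G K (a ≫ i)).1 h' V σ
  · intro h
    refine Groth.Agent.GMod80.isObservableIn_of_open i a ?_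
    refine (Groth.Agent.S11190.result k G K (a ≫ i)).2 fun V _ _ _ σ => ?_
    rw [← hc]
    exact Groth.Agent.GMod80.extendsAlong_trans j b σ
      ((Groth.Agent.S11190.result k G₀ K b).1 h V σ)
      fun W _ _ _ τ => Groth.Agent.S11193.result k G G₀ j W τ

end Groth.Agent.S12428
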