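import Groth.Statements.S12432
import Groth.Agent.VB30.VeryAmpleRows
import Groth.Agent.Curves2.PullInjective
import Groth.Agent.Var76.MumLevel
import Groth.Agent.CrvPic30.Clifford
import Groth.Agent.CrvPic30.Toolkit

set_option autoImplicit false
set_option backward.isDefEq.respectTransparency.types false
universe u
open CategoryTheory CategoryTheory.Limits AlgebraicGeometry
open Curves FunFld
attribute [local instance] Groth.Agent.CrvPic30.ffAlg

namespace Groth.Agent.S12432

/-- In degree d = 6 the curve is canonical. Take k algebraically closed and suppose X is a curve over k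
(integral, proper over k, one-dimensional, with every local ring regular), equipped with a closed
immersion i : X → P^3_k over k whose image lies in no plane — that is, any nonzero global section of
O(1) on P^3_k pulls back to a nonzero global section of i^*O(1). Assume the hyperplane section is
special, meaning H^1(X, i^*O(1)) ≠ 0, and that deg i^*O(1) = 6. Then i^*O(1) is isomorphic to the
canonical sheaf Ω_{X/k}, and X has genus 4 (so X is a canonical curve of genus 4; the isomorphism is
asserted to exist as O_X-modules). -/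
theorem result (k : Type u) [Field k] [IsAlgClosed k] (X : Scheme.{u}) [X.Over (Spec (CommRingCat.of k))]
    [IsIntegral X] [IsProper (X ↘ (Spec (CommRingCat.of k)))] (hdim : topologicalKrullDim X = 1)
    (hreg : ∀ x : X, IsRegularLocalRing (X.presheaf.stalk x))
    (i : X ⟶ CohB1.ProjSpace 3 k) [IsClosedImmersion i] (hi : i ≫ CohB1.ProjSpace.toSpec 3 k = (X ↘ (Spec (CommRingCat.of k))))
    (hplane : ∀ s : LinSer.Sect (CohB1.ProjSpace 3 k) (Twist.twistProjSpace 3 k 1), s ≠ 0 →
      OmegaSh.pullSect i (Twist.twistProjSpace 3 k 1) ⊤ s ≠ 0)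
    (hspecial : Nontrivial (Coh.HH X ((Scheme.Modules.pullback i).obj (Twist.twistProjSpace 3 k 1)) 1))
    (hdeg : Curv2.deg k X ((Scheme.Modules.pullback i).obj (Twist.twistProjSpace 3 k 1)) 1 = 6) :
    Nonempty (((Scheme.Modules.pullback i).obj (Twist.twistProjSpace 3 k 1)) ≅ Omega.sheaf (X ↘ (Spec (CommRingCat.of k)))) ∧ Curv2.genus k X = 4 := by
  classical
  let O1 := Twist.twistProjSpace 3 k 1
  set L := (Scheme.Modules.pullback i).obj O1 with hLdef
  have hL : PicF.IsInvertible L := Amp73.isInvertible_pullback i (Var76.Reg.isInvertible_twist 1)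
  have h := CrvPic30.setup_of_regular (k := k) (C := X) hdim hreg
  have : Smooth (X ↘ Spec (CommRingCat.of k)) := AlgGrp79.smooth_of_regular_stalks _ hreg
  obtain ⟨W, hW, ⟨eW⟩⟩ := h.nonempty_iso_omega
  obtain ⟨D, ⟨eL⟩⟩ := h.exists_iso_O hL
  have hF := h.ffield
  set g := FunFld.genus k X.functionField with hgdef
  rw [h.deg_of_iso eL] at hdeg
  have hW' := FF30.deg_canonical h.ff hW
  have hl4 : 4 ≤ ell D := by
    rw [← h.h0_of_iso eL]
    have := (h.curveCoh).finite _ (Crv77.isCoh_of_isInvertible hL) 0
    have h1 := LinearMap.finrank_le_finrank_of_injective (Curves2.h0PullSect_injective k i hi O1 hplane)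
    have h2 : Module.finrank k (Coh.HH (CohB1.ProjSpace 3 k) O1 0) = 4 :=
      (Var76.Reg.finrank_hh_twist (k := k) (n := 3) 1).trans (by norm_num)
    rwa [h2] at h1
  have hsp : 0 < ell (W - D) := by
    have h1 : 0 < Module.finrank k (Coh.HH X L 1) :=
      have := (h.curveCoh).finite _ (Crv77.isCoh_of_isInvertible hL) 1
      Module.finrank_pos_iff.2 hspecial
    have h2 := h.deg_of_iso eL
    rw [Curv2.deg, h.curveCoh.euler_eq (Crv77.isCoh_of_isInvertible hL), h.curveCoh.euler_eq Crv77.isCoh_structureModule, Crv77.h, Crv77.h, Crv77.h, Crv77.h, h.h0_of_iso eL, h.finrank_h0_structureModule, show Module.finrank k (Coh.HH X (Coh.structureModule X) 1) = g from h.genus_eq, hdeg] at h2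
    have h3 := FF30.riemann_roch' h.ff hW D
    rw [hdeg] at h3
    omega
  have hcl := h.clifford hW (D := D) (by omega) hsp
  rw [hdeg] at hcl
  have hl : ell D = 4 := by omega
  have hdge := CrvPic30.deg_nonneg_of_ell_pos hF hsp
  rw [FF30.deg_sub, hW', hdeg] at hdge
  obtain hg4 | hg5 : g = 4 ∨ 5 ≤ g := by omega
  · have h1 : W - D ∈ prinDivs k X.functionField :=
      CrvPic30.mem_prinDivs_of_deg_zero h.ff (by rw [FF30.deg_sub, hW', hdeg, ← hgdef, hg4]; norm_num) hsp
    refine ⟨h.iso_of_sub_mem eL eW (by rw [← neg_sub]; exact neg_mem h1), ?_⟩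
    exact h.genus_eq.trans hg4
  · exfalso
    obtain ⟨N, hNd, hN⟩ := h.exists_g12_of_clifford_eq hW 3 D (by norm_num) (by rw [hdeg]; norm_num) (by omega) (by omega)
    obtain ⟨A, hA, hprin, hdA⟩ := CrvPic30.exists_eff hF (show 0 < ell N by omega)
    have hpick : ∀ E : Divisor k X.functionField, 0 ≤ E → 1 ≤ E.deg →
        ∃ P, Finsupp.single P 1 ≤ E := by
      intro E hE hd1
      obtain ⟨P, hP⟩ : ∃ P, 0 < E P := by
        by_contra! hn
        have : E = 0 := le_antisymm (fun P => by simpa using hn P) hE
        rw [this, CrvPic30.deg_zero'] at hd1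
        omega
      refine ⟨P, fun R => ?_⟩
      rw [Finsupp.single_apply]
      split_ifs with e
      · subst e; omega
      · exact hE R
    obtain ⟨P, hP⟩ := hpick A hA (by omega)
    obtain ⟨Q, hQ⟩ := hpick (A - Finsupp.single P 1) (sub_nonneg.2 hP)
      (by rw [FF30.deg_sub, hF.deg_single', hdA, hNd]; norm_num)
    have hAeq : Finsupp.single P 1 + Finsupp.single Q 1 = A :=
      hF.eq_of_le_of_deg_le (le_sub_iff_add_le'.1 hQ)
        (by rw [hdA, hNd, FF30.deg_add, hF.deg_single', hF.deg_single']; norm_num)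
    have hs := (VB30.veryAmple_iff_sepDiv h eL).1 ⟨3, i, inferInstance, hi, ⟨Iso.refl _⟩⟩ P Q
    rw [sub_sub, hAeq, hl] at hs
    have hmem := h.sub_nsmul_mem hW hNd hN (r := 3) (D := D) (by omega) (by rw [hdeg]; norm_num) (by omega)
    have h2 : ell (D - A) = ell (2 • N) := FF30.ell_congr hF (by
      have := add_mem hmem hprin
      rw [show D - A - 2 • N = D - 3 • N + (N - A) by abel]
      exact this)
    have := h.ell_nsmul_ge hN 2
    omega

end Groth.Agent.S12432
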