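import Groth.Statements.S12434
import Groth.Agent.RB70.Matlis

set_option autoImplicit false
set_option backward.isDefEq.respectTransparency.types false
universe u
open CategoryTheory CategoryTheory.Limits AlgebraicGeometry
open Coherent

namespace Groth.Agent.S12434

/-- On a locally Noetherian scheme X every injective O_X-module (injective object of the category of all
O_X-modules) is isomorphic to a direct sum of indecomposable injective O_X-modules — a coproduct of
a family of injective modules J_i, each nonzero and such that in any decomposition J_i ≅ A ⊞ B one
of A, B is zero. (The published statement also asserts uniqueness of the decomposition, not restated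
here.) -/
theorem result {X : Scheme.{u}} [IsLocallyNoetherian X]
    (I : X.Modules) (hI : Injective I) :
    ∃ (ι : Type u) (J : ι → X.Modules), (∀ i, Injective (J i)) ∧ (∀ i, ¬ IsZero (J i)) ∧
      (∀ i (A B : X.Modules), Nonempty (J i ≅ A ⊞ B) → IsZero A ∨ IsZero B) ∧ Nonempty (I ≅ ∐ J) := by
  obtain ⟨ι, x, p, e⟩ := @Groth.Agent.RB70.exists_iso_coproduct_indec X _ I hI
  exact ⟨ι, fun i => Groth.Agent.RB70.indec (p i), fun i => Groth.Agent.RB70.injective_indec (p i),
    fun i => Groth.Agent.RB70.not_isZero_indec (p i), fun i A B h => Groth.Agent.RB70.indecomposable_indec (p i) A B h, e⟩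

end Groth.Agent.S12434
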