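import Groth.Statements.S1244
import Mathlib

set_option autoImplicit false
set_option linter.style.haveILetI false
set_option linter.style.longLine false
universe u
open FlatMor

namespace Groth.Agent.S1244

open CategoryTheory AlgebraicGeometry TopologicalSpace Limits

lemma surjective_of_limit {A : Type u} [CommRing A] {A' : ℕ → Type u} [∀ n, CommRing (A' n)]
    {φ : ∀ n, A' (n + 1) →+* A' n} {π : ∀ n, A →+* A' n} (hlim : FlatCA.IsRingLimit A A' φ π)
    (hsurj : ∀ n, Function.Surjective (φ n)) : Function.Surjective (π 0) := fun x => by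
  let seq : ∀ n, A' n := fun n => Nat.rec x (fun k y => (hsurj k y).choose) n
  obtain ⟨a, ha⟩ := hlim.2.2 seq (fun n => (hsurj n (seq n)).choose_spec)
  exact ⟨a, ha 0⟩

lemma isUnit_of_limit {A : Type u} [CommRing A] {A' : ℕ → Type u} [∀ n, CommRing (A' n)]
    {φ : ∀ n, A' (n + 1) →+* A' n} {π : ∀ n, A →+* A' n} (hlim : FlatCA.IsRingLimit A A' φ π)
    (hsurj : ∀ n, Function.Surjective (φ n)) (hnil : ∀ n, ∀ x ∈ RingHom.ker (φ n), IsNilpotent x)
    {a : A} (ha : IsUnit (π 0 a)) : IsUnit a := by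
  have hu : ∀ n, IsUnit (π n a) := by
    intro n
    induction n with
    | zero => exact ha
    | succ k ih =>
      obtain ⟨v, hv⟩ := isUnit_iff_exists_inv.1 ih
      obtain ⟨v', rfl⟩ := hsurj k v
      have hn : IsNilpotent (π (k + 1) a * v' - 1) := hnil k _ (by
        rw [RingHom.mem_ker, map_sub, map_mul, map_one, ← RingHom.comp_apply, hlim.1, hv, sub_self])
      exact isUnit_of_mul_isUnit_left (add_sub_cancel (1 : A' (k + 1)) (π (k + 1) a * v') ▸ hn.isUnit_one_add)
  choose v hv using fun n => isUnit_iff_exists_inv.1 (hu n)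
  obtain ⟨b, hb⟩ := hlim.2.2 v fun n => by
    refine ((hu n).mul_right_inj).1 ?_
    rw [hv n, show π n a = φ n (π (n + 1) a) from (RingHom.congr_fun (hlim.1 n) a).symm, ← map_mul, hv, map_one]
  exact isUnit_iff_exists_inv.2 ⟨b, hlim.2.1 _ _ fun n => by rw [map_mul, hb, hv, map_one]⟩

open AlgebraicGeometry CategoryTheory in
/-- Let A be the limit of an inverse system of rings (A_n) indexed by the natural numbers whose
transition maps are surjective with locally nilpotent kernels. Let T → Spec A be a monomorphism of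
schemes which is locally of finite type. If each Spec A_n → Spec A factors through T, then T → Spec
A is an isomorphism. -/
theorem result {A : Type u} [CommRing A] (A' : ℕ → Type u) [∀ n, CommRing (A' n)]
    (φ : ∀ n, A' (n + 1) →+* A' n) (π : ∀ n, A →+* A' n) (hlim : FlatCA.IsRingLimit A A' φ π)
    (hsurj : ∀ n, Function.Surjective (φ n)) (hnil : ∀ n, ∀ x ∈ RingHom.ker (φ n), IsNilpotent x)
    {T : Scheme.{u}} (h : T ⟶ Spec (CommRingCat.of A)) [Mono h] [LocallyOfFiniteType h]
    (hsec : ∀ n, ∃ g : Spec (CommRingCat.of (A' n)) ⟶ T, g ≫ h = Spec.map (CommRingCat.ofHom (π n))) :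
    IsIso h := by
  choose g hg using hsec
  have hcompat : ∀ n, Spec.map (CommRingCat.ofHom (φ n)) ≫ g (n + 1) = g n := fun n => by
    rw [← cancel_mono h, Category.assoc, hg, hg, ← Spec.map_comp, ← CommRingCat.ofHom_comp, hlim.1]
  haveI : ∀ n, Surjective (Spec.map (CommRingCat.ofHom (φ n))) := fun n => ⟨by
    intro p
    have hker : RingHom.ker (φ n) ≤ (PrimeSpectrum.asIdeal p).comap (RingHom.id _) ⊔ RingHom.ker (φ n) := le_sup_right
    obtain ⟨q, hq⟩ : p ∈ Set.range (PrimeSpectrum.comap (φ n)) := by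
      rw [range_comap_of_surjective _ (φ n) (hsurj n)]
      intro x hx
      obtain ⟨k, hk⟩ := hnil n x hx
      exact p.2.mem_of_pow_mem k (hk ▸ p.asIdeal.zero_mem)
    exact ⟨q, hq⟩⟩
  -- a quasi-compact open containing the common image
  obtain ⟨W, hWa, hW⟩ : ∃ (W : T.Opens), IsCompact (W : Set T) ∧ Set.range (g 0) ⊆ W := by
    have hc : IsCompact (Set.range (g 0)) := isCompact_range (g 0).continuous
    obtain ⟨s, hs⟩ := hc.elim_finite_subcover (fun U : T.affineOpens => (U.1 : Set T)) (fun U => U.1.2) (fun x _ => by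
      obtain ⟨U, hU, hxU, -⟩ := exists_isAffineOpen_mem_and_subset (x := x) (U := (⊤ : T.Opens)) trivial
      exact Set.mem_iUnion.2 ⟨⟨U, hU⟩, hxU⟩)
    refine ⟨⨆ U ∈ s, U.1, ?_, fun x hx => ?_⟩
    · simp only [Opens.coe_iSup]
      exact s.isCompact_biUnion fun U _ => U.2.isCompact
    · simp only [Opens.coe_iSup]
      exact hs hx
  have hin : ∀ n, Set.range (g n) ⊆ W := by
    intro n
    induction n with
    | zero => exact hW
    | succ k ih =>
      rintro _ ⟨x, rfl⟩
      obtain ⟨y, rfl⟩ := (Spec.map (CommRingCat.ofHom (φ k))).surjective x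
      rw [← Scheme.Hom.comp_apply, hcompat]
      exact ih ⟨y, rfl⟩
  haveI : CompactSpace W.toScheme := isCompact_iff_compactSpace.1 hWa
  let h' := W.ι ≫ h
  haveI : LocallyOfFiniteType h' := inferInstanceAs (LocallyOfFiniteType (W.ι ≫ h))
  haveI : Mono h' := inferInstanceAs (Mono (W.ι ≫ h))
  haveI : LocallyQuasiFinite h' := LocallyQuasiFinite.of_injective (Scheme.Hom.injective h')
  -- Zariski's main theorem: an open immersion into an affine scheme over `Spec A`
  obtain ⟨U, hUiso, hU⟩ := h'.exists_isIso_morphismRestrict_toNormalization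
  have htop : h'.toNormalization ⁻¹ᵁ U = ⊤ := Opens.ext (hU.trans (Set.eq_univ_of_forall fun x => h'.quasiFiniteAt x))
  haveI : IsOpenImmersion h'.toNormalization := by
    have e : h'.toNormalization = (Scheme.topIso _).inv ≫ (W.toScheme.isoOfEq htop).inv ≫ (h'.toNormalization ∣_ U) ≫ U.ι := by
      rw [morphismRestrict_ι, Scheme.isoOfEq_inv_ι_assoc, ← Category.assoc]
      simp
    rw [e]
    infer_instance
  haveI : IsAffine h'.normalization := isAffine_of_isAffineHom h'.fromNormalization
  let N := h'.normalization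
  let l : ∀ n, Spec (CommRingCat.of (A' n)) ⟶ W.toScheme := fun n =>
    IsOpenImmersion.lift W.ι (g n) (by rw [Scheme.Opens.range_ι]; exact hin n)
  let j : ∀ n, Spec (CommRingCat.of (A' n)) ⟶ Spec Γ(N, ⊤) := fun n => l n ≫ h'.toNormalization ≫ N.isoSpec.hom
  choose ψ hψ using fun n => (⟨Spec.preimage (j n), Spec.map_preimage _⟩ : ∃ ψ, Spec.map ψ = j n)
  have hl : ∀ n, Spec.map (CommRingCat.ofHom (φ n)) ≫ l (n + 1) = l n := fun n => by
    simp only [l, ← cancel_mono W.ι, Category.assoc, IsOpenImmersion.lift_fac, hcompat]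
  have hψc : ∀ n, ψ (n + 1) ≫ CommRingCat.ofHom (φ n) = ψ n := fun n => Spec.map_injective (by
    rw [Spec.map_comp, hψ, hψ]
    simp only [j, ← Category.assoc]
    rw [hl])
  choose ρ hρ using fun b : Γ(N, ⊤) => hlim.2.2 (fun n => ψ n b) (fun n => congr($(hψc n) b))
  let ρh : Γ(N, ⊤) ⟶ CommRingCat.of A := CommRingCat.ofHom
    { toFun := ρ
      map_one' := hlim.2.1 _ _ fun n => by rw [hρ, map_one, map_one]
      map_mul' := fun x y => hlim.2.1 _ _ fun n => by rw [hρ, map_mul, map_mul, hρ, hρ]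
      map_zero' := hlim.2.1 _ _ fun n => by rw [hρ, map_zero, map_zero]
      map_add' := fun x y => hlim.2.1 _ _ fun n => by rw [hρ, map_add, map_add, hρ, hρ] }
  have hρψ : ∀ n, ρh ≫ CommRingCat.ofHom (π n) = ψ n := fun n =>
    CommRingCat.hom_ext (RingHom.ext fun b => hρ b n)
  let k : Spec (CommRingCat.of A) ⟶ N := Spec.map ρh ≫ N.isoSpec.inv
  have hk : ∀ n, Spec.map (CommRingCat.ofHom (π n)) ≫ k = l n ≫ h'.toNormalization := fun n => by
    simp only [k]
    rw [← Category.assoc, ← Spec.map_comp, hρψ, hψ]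
    simp [j]
  have hrange : Set.range k ⊆ Set.range h'.toNormalization := by
    rintro _ ⟨p, rfl⟩
    obtain ⟨m, hm, hpm⟩ := Ideal.exists_le_maximal p.asIdeal p.2.ne_top
    have hsp : p ⤳ (⟨m, hm.isPrime⟩ : PrimeSpectrum A) := (PrimeSpectrum.le_iff_specializes _ _).1 hpm
    have hker : RingHom.ker (π 0) ≤ m := fun x hx => by
      by_contra hxm
      obtain ⟨y, z, hz, hyz⟩ := hm.exists_inv hxm
      have : IsUnit z := isUnit_of_limit hlim hsurj hnil (by
        have e := congrArg (π 0) hyz
        rw [map_add, map_mul, RingHom.mem_ker.1 hx, mul_zero, zero_add, map_one] at e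
        rw [e]; exact isUnit_one)
      exact hm.ne_top (Ideal.eq_top_of_isUnit_mem _ hz this)
    obtain ⟨q, hq⟩ : (⟨m, hm.isPrime⟩ : PrimeSpectrum A) ∈ Set.range (PrimeSpectrum.comap (π 0)) := by
      rw [range_comap_of_surjective _ (π 0) (surjective_of_limit hlim hsurj)]
      exact hker
    have hmem : k (⟨m, hm.isPrime⟩ : PrimeSpectrum A) ∈ Set.range h'.toNormalization := by
      rw [← hq]
      exact ⟨l 0 q, by
        rw [← Scheme.Hom.comp_apply, ← hk, Scheme.Hom.comp_apply]
        rfl⟩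
    exact (hsp.map k.continuous).mem_open h'.toNormalization.isOpenEmbedding.isOpen_range hmem
  let s := IsOpenImmersion.lift h'.toNormalization k hrange
  have hs : (s ≫ W.ι) ≫ h = 𝟙 _ := by
    obtain ⟨χ, hχ⟩ : ∃ χ, Spec.map χ = (s ≫ W.ι) ≫ h := ⟨_, Spec.map_preimage _⟩
    rw [← hχ, ← Spec.map_id]
    congr 1
    refine CommRingCat.hom_ext (RingHom.ext fun a => hlim.2.1 _ _ fun n => ?_)
    have e : χ ≫ CommRingCat.ofHom (π n) = CommRingCat.ofHom (π n) := Spec.map_injective (by
      have e1 : Spec.map (CommRingCat.ofHom (π n)) ≫ s = l n := by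
        rw [← cancel_mono h'.toNormalization, Category.assoc, IsOpenImmersion.lift_fac, hk]
      rw [Spec.map_comp, hχ, ← Category.assoc, ← Category.assoc, e1]
      simp only [l, IsOpenImmersion.lift_fac, hg])
    exact congr($e a)
  exact ⟨⟨s ≫ W.ι, by rw [← cancel_mono h, Category.assoc, hs, Category.id_comp, Category.comp_id], hs⟩⟩

end Groth.Agent.S1244
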