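import Groth.Statements.S12444
import Groth.Agent.Cat58.Space
-- import your own Groth.Agent.* helpers here

set_option autoImplicit false
universe u
open PtTop

namespace Groth.Agent.S12444

open TopologicalSpace Groth.Agent.Cat58

variable {X : Type u} [TopologicalSpace X]

/-- closure in the ambient space -/
noncomputable def up (S : Set X) : IrreducibleCloseds S ↪o IrreducibleCloseds X :=
  OrderEmbedding.ofMapLEIff
    (fun T => ⟨closure (Subtype.val '' (T : Set S)), (T.isIrreducible.image _ continuous_subtype_val.continuousOn).closure,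
      isClosed_closure⟩)
    fun T T' => by
      refine ⟨fun h x hx => ?_, fun h => closure_mono (Set.image_mono h)⟩
      have : (x : X) ∈ closure (Subtype.val '' (T' : Set S)) := h (subset_closure ⟨x, hx, rfl⟩)
      rw [← closure_subtype, T'.isClosed.closure_eq] at this
      exact this

/-- an irreducible closed set meeting an open piece comes from that piece -/
theorem mem_range_up {U C : Set X} (hU : IsOpen U) (Z : IrreducibleCloseds X)
    (hZU : ((Z : Set X) ∩ U).Nonempty) (hZC : (Z : Set X) ⊆ C) : Z ∈ Set.range (up (U ∩ C)) := by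
  have hsub : (Z : Set X) ⊆ closure ((Z : Set X) ∩ U) :=
    subset_closure_inter_of_isPreirreducible_of_isOpen Z.isIrreducible.2 hU hZU
  have himg : Subtype.val '' ((Subtype.val : ↥(U ∩ C) → X) ⁻¹' (Z : Set X)) = (Z : Set X) ∩ U := by
    ext x
    exact ⟨fun ⟨⟨y, hy⟩, hyZ, e⟩ => e ▸ ⟨hyZ, hy.1⟩, fun hx => ⟨⟨x, hx.2, hZC hx.1⟩, hx.1, rfl⟩⟩
  have hirr : IsIrreducible ((Subtype.val : ↥(U ∩ C) → X) ⁻¹' (Z : Set X)) := by
    refine ⟨?_, ?_⟩
    · obtain ⟨x, hx, hxU⟩ := hZU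
      exact ⟨⟨x, hxU, hZC hx⟩, hx⟩
    · rintro V V' ⟨W, hW, rfl⟩ ⟨W', hW', rfl⟩ ⟨a, haZ, haW⟩ ⟨b, hbZ, hbW⟩
      obtain ⟨y, hyZ, ⟨hyW, hyU⟩, hyW', -⟩ := Z.isIrreducible.2 (W ∩ U) (W' ∩ U) (hW.inter hU) (hW'.inter hU)
        ⟨a, haZ, haW, a.2.1⟩ ⟨b, hbZ, hbW, b.2.1⟩
      exact ⟨⟨y, hyU, hZC hyZ⟩, hyZ, hyW, hyW'⟩
  refine ⟨⟨_, hirr, Z.isClosed.preimage continuous_subtype_val⟩, IrreducibleCloseds.ext ?_⟩
  show closure (Subtype.val '' ((Subtype.val : ↥(U ∩ C) → X) ⁻¹' (Z : Set X))) = (Z : Set X)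
  rw [himg]
  exact Set.Subset.antisymm (closure_minimal Set.inter_subset_left Z.isClosed) hsub

theorem range_up {U C : Set X} (hC : IsClosed C) (T : IrreducibleCloseds ↥(U ∩ C)) :
    ((up (U ∩ C) T : Set X) ∩ U).Nonempty ∧ (up (U ∩ C) T : Set X) ⊆ C := by
  obtain ⟨x, hx⟩ := T.isIrreducible.1
  exact ⟨⟨x, subset_closure ⟨x, hx, rfl⟩, x.2.1⟩, closure_minimal (by rintro _ ⟨y, -, rfl⟩; exact y.2.2) hC⟩

theorem ordConnected_up {U C : Set X} (hU : IsOpen U) (hC : IsClosed C) : (Set.range (up (U ∩ C))).OrdConnected := by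
  refine ⟨?_⟩
  rintro _ ⟨T, rfl⟩ _ ⟨T', rfl⟩ Z ⟨h1, h2⟩
  refine mem_range_up hU Z ?_ (Set.Subset.trans h2 (range_up hC T').2)
  obtain ⟨x, hx, hxU⟩ := (range_up hC T).1
  exact ⟨x, h1 hx, hxU⟩

theorem cat_sub {U C : Set X} (hU : IsOpen U) (hC : IsClosed C) (h : PtTop.IsCatenarySpace X) :
    PtTop.IsCatenarySpace ↥(U ∩ C) :=
  isCatenarySpace_iff.2 ((isCatenarySpace_iff.1 h).of_embedding _ (ordConnected_up hU hC))


/-- A topological space X is catenary if and only if it has an open covering by catenary subspaces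
(here: every point has a catenary open neighbourhood); and if X is catenary then so is every locally
closed subspace of X. -/
theorem result (X : Type u) [TopologicalSpace X] :
    (PtTop.IsCatenarySpace X ↔
      ∀ x : X, ∃ U : TopologicalSpace.Opens X, x ∈ U ∧ PtTop.IsCatenarySpace U) ∧
    (PtTop.IsCatenarySpace X → ∀ S : Set X, IsLocallyClosed S → PtTop.IsCatenarySpace S) := by
  classical
  refine ⟨⟨fun h x => ⟨⊤, trivial, ?_⟩, fun h => ?_⟩, fun h S hS => ?_⟩
  · have := cat_sub (C := Set.univ) isOpen_univ isClosed_univ h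
    rw [Set.inter_univ] at this
    exact this
  · refine isCatenarySpace_iff.2 (cat_of_forall_exists fun a b hab => ?_)
    obtain ⟨x, hx⟩ := a.isIrreducible.1
    obtain ⟨U, hxU, hU⟩ := h x
    have hU' : PtTop.IsCatenarySpace ↥((U : Set X) ∩ Set.univ) := by rw [Set.inter_univ]; exact hU
    refine ⟨Set.range (up ((U : Set X) ∩ Set.univ)), ordConnected_up U.2 isClosed_univ,
      mem_range_up U.2 a ⟨x, hx, hxU⟩ (Set.subset_univ _), mem_range_up U.2 b ⟨x, hab hx, hxU⟩ (Set.subset_univ _), ?_⟩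
    refine (isCatenarySpace_iff.1 hU').of_embedding
      (OrderEmbedding.ofMapLEIff (fun c => c.2.choose) fun c d => by
        rw [← (up _).le_iff_le, c.2.choose_spec, d.2.choose_spec]; rfl) ⟨fun _ _ _ _ e _ =>
          ⟨⟨_, ⟨e, rfl⟩⟩, (up _).injective (Exists.choose_spec (p := fun a => up _ a = up _ e) ⟨e, rfl⟩)⟩⟩
  · obtain ⟨U, C, hU, hC, rfl⟩ := hS
    exact cat_sub hU hC h

end Groth.Agent.S12444
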