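import Groth.Statements.S12445
import Groth.Agent.Cat58.Space

set_option autoImplicit false
universe u
open CategoryTheory AlgebraicGeometry
open Props

namespace Groth.Agent.S12445

/-- (1) ⇔ (3) ⇔ (4): for a scheme S, the underlying topological space of S is catenary if and only if
the coordinate ring of every affine open of S is a catenary ring, if and only if S is covered by
affine opens with catenary coordinate rings. (Clause (2), openness of catenarity, and the final
assertion on locally closed subschemes are the topological statement for open coverings and locally
closed subspaces.) -/
theorem result (S : Scheme.{u}) :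
    (PtTop.IsCatenarySpace S ↔ ∀ U : S.affineOpens, CAlg.IsCatenary Γ(S, U)) ∧
    (PtTop.IsCatenarySpace S ↔
      ∀ s : S, ∃ U : S.affineOpens, s ∈ (U : S.Opens) ∧ CAlg.IsCatenary Γ(S, U)) := by
  exact Groth.Agent.Cat58.isCatenarySpace_iff_affineOpens S

end Groth.Agent.S12445
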