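import Groth.Statements.S12461
import Groth.Agent.QCGroth72.Separator
import Groth.Agent.QCGroth72.PushColim
import Groth.Agent.QCqs72.Basic
import Mathlib.CategoryTheory.Abelian.Subobject
import Mathlib.CategoryTheory.Adjunction.AdjointFunctorTheorems

set_option autoImplicit false
universe u
open CategoryTheory AlgebraicGeometry
open QCohSub

namespace Groth.Agent.S12461

/-- Let i : Z → X be a closed immersion of schemes. The functor i_* : QCoh(O_Z) → QCoh(O_X) has a right
adjoint i^! : QCoh(O_X) → QCoh(O_Z). Stated as: there is a functor L between the full subcategories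
of quasi-coherent modules which agrees with i_* after the inclusion into all O_X-modules (this
determines L up to isomorphism, the inclusion being fully faithful) and which is a left adjoint. -/
theorem result {Z X : Scheme.{u}} (i : Z ⟶ X) [IsClosedImmersion i] :
    ∃ L : QCohCat.QCoh Z ⥤ QCohCat.QCoh X,
      Nonempty (L ⋙ (QCohCat.isQCoh X).ι ≅ (QCohCat.isQCoh Z).ι ⋙ Coh.push i) ∧ L.IsLeftAdjoint := by
  open CategoryTheory.Limits in
  let L : QCohCat.QCoh Z ⥤ QCohCat.QCoh X :=
    (QCohCat.isQCoh X).lift ((QCohCat.isQCoh Z).ι ⋙ Coh.push i) fun M =>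
      haveI : M.obj.IsQuasicoherent := M.property
      Groth.Agent.QCqs72.isQuasicoherent_pushforward (M := M.obj) i
  let e : L ⋙ (QCohCat.isQCoh X).ι ≅ (QCohCat.isQCoh Z).ι ⋙ Coh.push i :=
    NatIso.ofComponents (fun _ => Iso.refl _)
  refine ⟨L, ⟨e⟩, ?_⟩
  have : Limits.PreservesColimitsOfSize.{u, u} (Coh.push i) :=
    Groth.Agent.QCGroth72.preservesColimits_pushforward i
  have : Limits.PreservesColimitsOfSize.{u, u} (L ⋙ (QCohCat.isQCoh X).ι) :=
    Limits.preservesColimits_of_natIso e.symm
  have : Limits.PreservesColimitsOfSize.{u, u} L :=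
    Limits.preservesColimits_of_reflects_of_preserves L (QCohCat.isQCoh X).ι
  exact isLeftAdjoint_of_preservesColimits_of_isSeparating
    Groth.Agent.QCGroth72.isSeparating_sepFamily L

end Groth.Agent.S12461
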