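import Groth.Statements.S12463
import Groth.Agent.Var76.BranchEq
import Groth.Agent.VarDim1.TotalRing
import Mathlib.RingTheory.DiscreteValuationRing.TFAE

set_option autoImplicit false
universe u
open Variety

namespace Groth.Agent.S12463

/-- Let (A, m) be a strictly henselian reduced Nagata local ring of dimension one with δ-invariant equal
to the number of geometric branches minus one, and A' the integral closure of A in its total ring of
fractions. Then A is a wedge of discrete valuation rings: for every maximal ideal m' of A' the
localization A'_{m'} is a discrete valuation ring whose residue field is the image of A, and A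
consists exactly of the elements of A' congruent to an element of A modulo every maximal ideal of A'
(the displayed inclusion; the reverse inclusion is trivial). (The inequality δ ≥ branches − 1 of the
published statement holds for every reduced Nagata local ring of dimension one and is not restated.) -/
theorem result (A : Type u) [CommRing A] [HenselianLocalRing A]
    [IsSepClosed (IsLocalRing.ResidueField A)] [IsReduced A] (hN : CAlg.IsNagata A) (hdim : ringKrullDim A = 1)
    (heq : Curv2.deltaInv A + 1 = Brnch.numGeomBranches A) :
    (∀ m' : MaximalSpectrum ↥(integralClosure A (FractionRing A)),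
        (∃ _ : IsDomain (Localization.AtPrime m'.asIdeal), IsDiscreteValuationRing (Localization.AtPrime m'.asIdeal)) ∧
        Function.Surjective (⇑(IsLocalRing.residue (Localization.AtPrime m'.asIdeal)) ∘
          ⇑(algebraMap ↥(integralClosure A (FractionRing A)) (Localization.AtPrime m'.asIdeal)) ∘
          ⇑(algebraMap A ↥(integralClosure A (FractionRing A))))) ∧
    ∀ a' : ↥(integralClosure A (FractionRing A)),
      (∃ a : A, ∀ m' : MaximalSpectrum ↥(integralClosure A (FractionRing A)),
          a' - algebraMap A _ a ∈ m'.asIdeal) →
      a' ∈ (algebraMap A ↥(integralClosure A (FractionRing A))).range := by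
  obtain ⟨hnoeth, hN2⟩ := hN
  have : Ring.KrullDimLE 1 A := by rw [Ring.KrullDimLE, Order.krullDimLE_iff]; exact hdim.le
  have hfin : Module.Finite A (integralClosure A (FractionRing A)) :=
    VarDim1.finite_integralClosure fun p _ _ => hN2 p (FractionRing (A ⧸ p)) inferInstance
  have hmin : (minimalPrimes A).Finite := minimalPrimes.finite_of_isNoetherianRing A
  rw [VarNorm.numGeomBranches_eq A (FractionRing A) hmin] at heq
  obtain ⟨hres, hcong⟩ := Var76.eq_case_card_sigma_embOf A (integralClosure A (FractionRing A))
    (VarDim1.deltaLength_lt_top (A := A)) heq.le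
  refine ⟨fun m' => ?_, hcong⟩
  have : m'.asIdeal.IsPrime := m'.isMaximal.isPrime
  obtain ⟨hdom, hic⟩ := VarDim1.isDomain_and_isIntegrallyClosed_localization (A := A) m'.asIdeal
  refine ⟨⟨hdom, ?_⟩, fun y => ?_⟩
  · have := hdom
    have := hic
    have : IsNoetherianRing (integralClosure A (FractionRing A)) :=
      IsNoetherianRing.of_finite A _
    have : IsNoetherianRing (Localization.AtPrime m'.asIdeal) :=
      IsLocalization.isNoetherianRing m'.asIdeal.primeCompl _ inferInstance
    have hnf : ¬ IsField (Localization.AtPrime m'.asIdeal) := by
      intro hf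
      have hm : IsLocalRing.maximalIdeal (Localization.AtPrime m'.asIdeal) = ⊥ :=
        IsLocalRing.isField_iff_maximalIdeal_eq.1 hf
      -- a nonzerodivisor of A in the maximal ideal stays one in the integral closure
      obtain ⟨t, htm, ht⟩ : ∃ t ∈ IsLocalRing.maximalIdeal A, t ∈ nonZeroDivisors A := by
        by_contra h
        push Not at h
        have hsub : (IsLocalRing.maximalIdeal A : Set A) ⊆ ⋃ p ∈ minimalPrimes A, (p : Set A) := by
          intro f hf
          by_contra hf'
          exact h f hf (VarDim1.mem_nonZeroDivisors_of_forall_notMem fun p hp hfp =>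
            hf' (Set.mem_biUnion hp hfp))
        obtain ⟨p, hp, hle⟩ := (Ideal.subset_union_prime_finite hmin ⊥ ⊥ fun p hp _ _ => hp.1.1).1 hsub
        have heqm : IsLocalRing.maximalIdeal A = p :=
          (IsLocalRing.maximalIdeal.isMaximal A).eq_of_le hp.1.1.ne_top hle
        have h0 : ringKrullDim A ≤ 0 := by
          have : (IsLocalRing.maximalIdeal A).height = 0 := by
            rw [Ideal.height_eq_zero_iff]
            exact heqm ▸ hp
          rw [← IsLocalRing.maximalIdeal_height_eq_ringKrullDim, this]
          exact le_rfl
        rw [hdim] at h0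
        exact absurd h0 (by norm_num)
      have htm' : algebraMap A (integralClosure A (FractionRing A)) t ∈ m'.asIdeal := by
        have := IsLocalRing.eq_maximalIdeal
          (Ideal.isMaximal_comap_of_isIntegral_of_isMaximal (R := A) m'.asIdeal)
        rw [← this] at htm
        exact htm
      have h1 : algebraMap (integralClosure A (FractionRing A)) (Localization.AtPrime m'.asIdeal)
          (algebraMap A _ t) = 0 := by
        rw [← Ideal.mem_bot, ← hm]
        exact (IsLocalization.AtPrime.to_map_mem_maximal_iff _ m'.asIdeal _).2 htm'
      obtain ⟨⟨s, hs⟩, hs0⟩ := (IsLocalization.map_eq_zero_iff m'.asIdeal.primeCompl _ _).1 h1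
      have hu : IsUnit (algebraMap A (FractionRing A) t) := IsLocalization.map_units (FractionRing A) ⟨t, ht⟩
      have hs0' : (s : FractionRing A) * algebraMap A (FractionRing A) t = 0 := congrArg Subtype.val hs0
      have : s = 0 := Subtype.ext (by simpa using hu.mul_left_eq_zero.1 hs0')
      exact hs (this ▸ m'.asIdeal.zero_mem)
    have : Ring.KrullDimLE 1 (integralClosure A (FractionRing A)) := by
      rw [Ring.KrullDimLE, Order.krullDimLE_iff]
      refine (Order.krullDim_le_of_strictMono
        (PrimeSpectrum.comap (algebraMap A (integralClosure A (FractionRing A)))) ?_).trans hdim.le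
      exact fun I J h => Ideal.IsIntegral.comap_lt_comap (I := I.asIdeal) (J := J.asIdeal) h
    have : Ring.DimensionLEOne (Localization.AtPrime m'.asIdeal) := by
      have : Ring.KrullDimLE 1 (Localization.AtPrime m'.asIdeal) := by
        rw [Ring.KrullDimLE, Order.krullDimLE_iff]
        change ringKrullDim (Localization.AtPrime m'.asIdeal) ≤ 1
        rw [IsLocalization.AtPrime.ringKrullDim_eq_height m'.asIdeal (Localization.AtPrime m'.asIdeal)]
        exact Ideal.height_le_ringKrullDim_of_ne_top m'.isMaximal.ne_top |>.trans ((Order.krullDimLE_iff _ _).1 ‹Ring.KrullDimLE 1 (integralClosure A (FractionRing A))›)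
      exact ⟨fun hp hP => (Ring.krullDimLE_one_iff_of_isPrime_bot.1 inferInstance) _ hp hP⟩
    have : IsDedekindRing (Localization.AtPrime m'.asIdeal) :=
      (isDedekindRing_iff (Localization.AtPrime m'.asIdeal) (FractionRing (Localization.AtPrime m'.asIdeal))).2 ⟨inferInstance, inferInstance, fun h => (isIntegrallyClosed_iff _).1 hic h⟩
    have : IsDedekindDomain (Localization.AtPrime m'.asIdeal) := { }
    have h := (IsDiscreteValuationRing.TFAE (Localization.AtPrime m'.asIdeal) hnf).out 0 2
    exact h.2 ‹IsDedekindDomain _›
  · obtain ⟨y, rfl⟩ := IsLocalRing.residue_surjective y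
    obtain ⟨⟨d, s⟩, rfl⟩ := IsLocalization.mk'_surjective m'.asIdeal.primeCompl y
    obtain ⟨a, ha⟩ := hres m' d
    obtain ⟨b, hb⟩ := hres m' s
    have hmem : ∀ {z}, z ∈ m'.asIdeal → IsLocalRing.residue (Localization.AtPrime m'.asIdeal)
        (algebraMap _ _ z) = 0 := fun hz =>
      (IsLocalRing.residue_eq_zero_iff _).2 ((IsLocalization.AtPrime.to_map_mem_maximal_iff _ m'.asIdeal _).2 hz)
    have hbu : IsUnit b := by
      by_contra hb'
      have h1 : algebraMap A (integralClosure A (FractionRing A)) b ∈ m'.asIdeal := by
        have := IsLocalRing.eq_maximalIdeal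
          (Ideal.isMaximal_comap_of_isIntegral_of_isMaximal (R := A) m'.asIdeal)
        have h : b ∈ IsLocalRing.maximalIdeal A := hb'
        rw [← this] at h
        exact h
      exact s.2 (by simpa using m'.asIdeal.add_mem hb h1)
    refine ⟨a * ↑hbu.unit⁻¹, ?_⟩
    have e1 := hmem ha
    have e2 := hmem hb
    simp only [map_sub, sub_eq_zero] at e1 e2
    have e3 := congrArg (IsLocalRing.residue (Localization.AtPrime m'.asIdeal))
      (IsLocalization.mk'_spec (Localization.AtPrime m'.asIdeal) d s)
    rw [map_mul, e1, e2] at e3
    have e4 : IsLocalRing.residue (Localization.AtPrime m'.asIdeal) (algebraMap _ _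
          (algebraMap A (integralClosure A (FractionRing A)) b)) *
        IsLocalRing.residue (Localization.AtPrime m'.asIdeal) (algebraMap _ _
          (algebraMap A (integralClosure A (FractionRing A)) ↑hbu.unit⁻¹)) = 1 := by
      have h := congrArg ((IsLocalRing.residue (Localization.AtPrime m'.asIdeal)).comp
        ((algebraMap _ (Localization.AtPrime m'.asIdeal)).comp
          (algebraMap A (integralClosure A (FractionRing A))))) hbu.mul_val_inv
      simpa only [RingHom.comp_apply, map_mul, map_one] using h
    simp only [Function.comp_apply, map_mul]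
    exact (congrArg (· * _) e3.symm).trans ((mul_assoc _ _ _).trans ((congrArg (_ * ·) e4).trans (mul_one _)))

end Groth.Agent.S12463
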