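import Groth.Statements.S12469
import Groth.Agent.EGAProj74.VeryAmpleTensor
import Groth.Agent.EGA73.Tensor
import Groth.Agent.EGAProj74.VeryAmpleImm
import Groth.Agent.An92.Ample.Inverse
import Groth.Agent.Amp73.PullTensor
import Groth.Agent.Mero90.Triv

set_option autoImplicit false
universe u
open CategoryTheory CategoryTheory.Limits AlgebraicGeometry TopologicalSpace Opposite
open scoped HomogeneousIdeal
open EGA2

namespace Groth.Agent.S12469

/-- Let q : X → Y be a morphism of schemes, L an invertible O_X-module and K an invertible O_Y-module.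
Then L is very ample relative to q (isomorphic to the inverse image of O(1) along a Y-immersion of X
into the projective bundle P(E) of a quasi-coherent O_Y-module E) if and only if L ⊗ q^*K is. -/
theorem result {X Y : Scheme.{u}} (q : X ⟶ Y) (L : X.Modules)
    (hL : PicF.IsInvertible L) (K : Y.Modules) (hK : PicF.IsInvertible K) :
    RelProj.IsRelVeryAmple q L ↔
      RelProj.IsRelVeryAmple q (CohB1.tensorMod L ((Scheme.Modules.pullback q).obj K)) := by
  have hqK := Amp73.isInvertible_pullback q hK
  refine ⟨fun h => EGAProj74.isRelVeryAmple_tensor hL h hqK (Mero90.isQCoh_of_isInvertible hK) (𝟙 _), fun h => ?_⟩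
  obtain ⟨K', hK', ⟨e⟩⟩ := An92.InvMod.exists_inverse hK
  have := Amp73.isIso_pullTensHom q hK hK'
  have h1 := EGAProj74.isRelVeryAmple_tensor (EGA73.isInvertible_tensorMod hL hqK) h (Amp73.isInvertible_pullback q hK')
    (Mero90.isQCoh_of_isInvertible hK') (𝟙 _)
  exact EGAProj74.isRelVeryAmple_of_iso h1 (EGA73.tensAssoc' L _ _ ≪≫
    EGA73.tensIso (Iso.refl L) ((asIso (Amp73.pullTensHom q K K')).symm ≪≫ (Scheme.Modules.pullback q).mapIso (EGA73.tensComm K K') ≪≫
      (Scheme.Modules.pullback q).mapIso e ≪≫ PicLoc.pullbackStructureIso q) ≪≫ EGA73.tensUnitRight L)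

end Groth.Agent.S12469
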