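import Groth.Statements.S12472
import Groth.Agent.EGAProj74.Fundamental
import Groth.Agent.Mero90.Frames

set_option autoImplicit false
universe u
open CategoryTheory CategoryTheory.Limits AlgebraicGeometry TopologicalSpace Opposite
open scoped HomogeneousIdeal
open EGA2

namespace Groth.Agent.S12472

/-- Let Y be a scheme and L an invertible O_Y-module. Then L is very ample relative to the identity
morphism of Y: there are a quasi-coherent O_Y-module E and a Y-immersion i of Y into the projective
bundle P(E) with L isomorphic to i^*O_{P(E)}(1). -/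
theorem result (Y : Scheme.{u}) (L : Y.Modules) (hL : PicF.IsInvertible L) :
    RelProj.IsRelVeryAmple (𝟙 Y) L := by
  have hq := Mero90.isQCoh_of_isInvertible hL
  obtain ⟨𝒮, j, hj, P, p, chart, hP, O1, lam, hO1⟩ := EGAProj74.exists_projBundle hq
  have := EGAProj74.isIso_pL hL hq hj hP
  obtain ⟨φ, hφ⟩ := EGAProj74.exists_canonical hq hj hO1 hP
  have := EGAProj74.isIso_canonical_of_invertible hq hj hO1 hL hφ
  refine ⟨L, hq, 𝒮, j, hj, P, p, chart, hP, O1, lam, hO1, inv p, inferInstance, IsIso.inv_hom_id p,
    ⟨(Scheme.Modules.pullbackId Y).symm.app L ≪≫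
      (Scheme.Modules.pullbackCongr (IsIso.inv_hom_id p).symm).app L ≪≫
      ((Scheme.Modules.pullbackComp (inv p) p).app L).symm ≪≫
      (Scheme.Modules.pullback (inv p)).mapIso
        (asIso (((Scheme.Modules.pullbackPushforwardAdjunction p).homEquiv L O1).symm φ))⟩⟩

end Groth.Agent.S12472
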