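import Groth.Statements.S12474
import Groth.Agent.EGAProj74.BundleSquare

set_option autoImplicit false
universe u
open CategoryTheory CategoryTheory.Limits AlgebraicGeometry TopologicalSpace Opposite
open scoped HomogeneousIdeal
open EGA2

namespace Groth.Agent.S12474

/-- Let f : X → Y and g : Y' → Y be morphisms of schemes and let X', with g' : X' → X and f' : X' → Y',
be a fibre product of X and Y' over Y (the square is cartesian). If L is an invertible O_X-module
which is very ample relative to f (isomorphic to the inverse image of O(1) along a Y-immersion of X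
into the projective bundle P(E) of a quasi-coherent O_Y-module E), then the inverse image g'^*L is
very ample relative to f'. -/
theorem result {X Y X' Y' : Scheme.{u}} (f : X ⟶ Y) (g : Y' ⟶ Y) (g' : X' ⟶ X) (f' : X' ⟶ Y')
    (hsq : IsPullback g' f' f g) (L : X.Modules) (hL : PicF.IsInvertible L) (hva : RelProj.IsRelVeryAmple f L) :
    RelProj.IsRelVeryAmple f' ((Scheme.Modules.pullback g').obj L) := by
  obtain ⟨E, hE, 𝒮, j, hj, P, p, chart, hP, O1, lam, hO1, i, hi, hip, ⟨e⟩⟩ := hva
  have : E.IsQuasicoherent := hE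
  obtain ⟨𝒮', j', hj', P', p', chart', hP', O1', lam', hO1'⟩ :=
    EGAProj74.exists_projBundle (QCPull72.isQuasicoherent_pullback g E : Coh.IsQCoh _)
  obtain ⟨φ, hφ⟩ := EGAProj74.exists_canonical hE hj hO1 hP
  obtain ⟨G, hG, ⟨τ⟩⟩ := EGAProj74.exists_baseChange hE hj hP hO1 hφ g 𝒮' j' hj' p' chart' hP' O1' lam' hO1'
  have hw : (g' ≫ i) ≫ p = f' ≫ g := by rw [Category.assoc, hip, hsq.w]
  let i' := hG.lift (g' ≫ i) f' hw
  have h2 : IsPullback g' i' i G :=
    IsPullback.of_bot (by rw [hG.lift_snd, hip]; exact hsq) (hG.lift_fst _ _ _).symm hG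
  have : IsImmersion i' := MorphismProperty.of_isPullback h2 hi
  exact ⟨_, (QCPull72.isQuasicoherent_pullback g E : Coh.IsQCoh _), 𝒮', j', hj', P', p', chart', hP', O1', lam', hO1', i', this, hG.lift_snd _ _ _,
    ⟨(Scheme.Modules.pullback g').mapIso e ≪≫ (Scheme.Modules.pullbackComp g' i).app O1 ≪≫
      (Scheme.Modules.pullbackCongr (hG.lift_fst _ _ _).symm).app O1 ≪≫
      ((Scheme.Modules.pullbackComp i' G).app O1).symm ≪≫ (Scheme.Modules.pullback i').mapIso τ⟩⟩

end Groth.Agent.S12474
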