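import Groth.Statements.S12476
import Groth.Agent.EGAProj74.VeryAmpleImm
import Groth.Agent.S12474

set_option autoImplicit false
universe u
open CategoryTheory CategoryTheory.Limits AlgebraicGeometry TopologicalSpace Opposite
open scoped HomogeneousIdeal
open EGA2

namespace Groth.Agent.S12476

/-- Let f : X → Y and g : Y → Z be morphisms of schemes and L an invertible O_X-module which is very
ample relative to the composite X → Y → Z (isomorphic to the inverse image of O(1) along a
Z-immersion of X into the projective bundle of a quasi-coherent O_Z-module). Then L is very ample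
relative to f. -/
theorem result {X Y Z : Scheme.{u}} (f : X ⟶ Y) (g : Y ⟶ Z) (L : X.Modules)
    (hL : PicF.IsInvertible L) (hva : RelProj.IsRelVeryAmple (f ≫ g) L) : RelProj.IsRelVeryAmple f L := by
  let a : X ⟶ pullback (f ≫ g) g := pullback.lift (𝟙 X) f (by rw [Category.id_comp])
  have h1 := S12474.result (f ≫ g) g (pullback.fst (f ≫ g) g) (pullback.snd (f ≫ g) g)
    (IsPullback.of_hasPullback (f ≫ g) g) L hL hva
  have : IsImmersion (a ≫ pullback.fst (f ≫ g) g) := by rw [pullback.lift_fst]; infer_instance
  have : IsImmersion a := IsImmersion.of_comp a (pullback.fst (f ≫ g) g)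
  exact EGAProj74.isRelVeryAmple_of_iso
    (EGAProj74.isRelVeryAmple_comp_immersion h1 a (pullback.lift_snd _ _ _))
    ((Scheme.Modules.pullbackComp a (pullback.fst (f ≫ g) g)).app L ≪≫
      (Scheme.Modules.pullbackCongr (pullback.lift_fst _ _ _)).app L ≪≫ (Scheme.Modules.pullbackId X).app L)

end Groth.Agent.S12476
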