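import Groth.Statements.S1248
import Groth.Agent.FlatCrit65.Purity.Descend
import Groth.Agent.Ind91.Loc
import Groth.Agent.Ind91.Etale
import Groth.Agent.Henz21.Unique
import Groth.Agent.Henz21.IndEtale
import Groth.Agent.RG29.ElemAssemble

set_option autoImplicit false
universe u
open FlatMor

namespace Groth.Agent.S1248

open IsLocalRing in
/-- Ring form, X = Spec B affine: let B be a finite type A-algebra, N a finite B-module and p a prime of
A. If there is an impurity of N above p whose base change ring A' is a henselization of the local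
ring A_p (compatibly with A → A_p) and whose point t is the maximal ideal, then there is an impurity
of N above p for which (A', t) is an elementary étale ring map at p. -/
theorem result {A B : Type u} [CommRing A] [CommRing B] [Algebra A B] [Algebra.FiniteType A B]
    (N : Type u) [AddCommGroup N] [Module B N] [Module.Finite B N] (p : Ideal A) [p.IsPrime]
    (h : FlatCA.HasImpurity A B N p (fun A' _ _ t => ∃ (_ : IsLocalRing A') (_ : Algebra (Localization.AtPrime p) A')
        (_ : IsScalarTower A (Localization.AtPrime p) A') (_ : IsLocalHom (algebraMap (Localization.AtPrime p) A')),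
        Hensel.IsHenselization (Localization.AtPrime p) A' ∧ t = maximalIdeal A')) :
    FlatCA.HasImpurity A B N p (fun A' _ _ t => ∃ _ : t.IsPrime, FlatCA.IsEtaleNhd A A' p t) := by
  classical
  obtain ⟨A₁, B₁, N₁, _, _, _, _, _, _, _, _, _, _, _, _, _, _, f, t', t, _, _, P, _, himp, _, _, _, _, hH, rfl⟩ := h
  have := hH
  have hto : (maximalIdeal A₁).LiesOver p := himp.2.2.2.1
  have := hto
  obtain ⟨s, F, hst, hdesc⟩ := Groth.Agent.FlatCrit65.Purity.exists_descend f t' _ P himp
  have hind : EtPBC.IsIndEtale A A₁ := Groth.Agent.Ind91.isIndEtale_trans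
    (Groth.Agent.Ind91.isIndEtale_of_isLocalization A (Localization.AtPrime p) p.primeCompl)
    (Groth.Agent.Henz21.H.isIndEtale_of_algEquiv (Localization.AtPrime p) _ A₁
      (Groth.Agent.Henz21.henselizationEquiv (R := Localization.AtPrime p) A₁))
  let G := insert s F
  obtain ⟨W, _, _, hW, u, v, huv⟩ := (Groth.Agent.Ind91.isIndEtale_iff A A₁).1 hind (MvPolynomial G A)
    (MvPolynomial.aeval Subtype.val)
  have : Algebra.Etale A W := hW
  have hrange : ∀ a ∈ G, a ∈ Set.range v := fun a ha => ⟨u (MvPolynomial.X ⟨a, ha⟩), by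
    rw [← AlgHom.comp_apply, huv, MvPolynomial.aeval_X]⟩
  obtain ⟨s₀, hs₀⟩ := hrange s (Finset.mem_insert_self _ _)
  let t₀ := (maximalIdeal A₁).comap v.toRingHom
  have : t₀.IsPrime := Ideal.comap_isPrime _ _
  have ht₀ : t₀.LiesOver p := ⟨by
    rw [Ideal.under, Ideal.comap_comap, show v.toRingHom.comp (algebraMap A W) = algebraMap A A₁ from v.comp_algebraMap]
    exact hto.over⟩
  refine hdesc W v (fun a ha => hrange a (Finset.mem_insert_of_mem ha)) s₀ hs₀ t₀ le_rfl ht₀
    (fun h => hst (hs₀ ▸ h)) _ ⟨inferInstance, hW, ht₀, ?_⟩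
  refine Groth.Agent.RG29.bijective_mapₐ_of_quot p t₀ fun w => ?_
  let e := Groth.Agent.Henz21.henselizationEquiv (R := Localization.AtPrime p) A₁
  obtain ⟨r, hr⟩ := residue_surjective (Groth.Agent.Henz21.H.proj (Localization.AtPrime p) _ (e.symm (v w)))
  have hd : e.symm (v w) - algebraMap _ _ r ∈ maximalIdeal _ := by
    rw [Groth.Agent.Henz21.H.maximalIdeal_eq, RingHom.mem_ker, map_sub, AlgHom.commutes, ← hr,
      ResidueField.algebraMap_eq, sub_self]
  have hd' : v w - algebraMap (Localization.AtPrime p) A₁ r ∈ maximalIdeal A₁ := by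
    rw [mem_maximalIdeal, mem_nonunits_iff] at hd ⊢
    intro hu
    refine hd ?_
    have := hu.map e.symm
    rwa [map_sub, AlgEquiv.commutes] at this
  obtain ⟨a, b, rfl⟩ := IsLocalization.exists_mk'_eq p.primeCompl r
  refine ⟨a, b, b.2, ?_⟩
  show v (w * algebraMap A W b - algebraMap A W a) ∈ maximalIdeal A₁
  rw [map_sub, map_mul, AlgHom.commutes, AlgHom.commutes, IsScalarTower.algebraMap_apply A (Localization.AtPrime p) A₁ a,
    ← IsLocalization.mk'_spec (Localization.AtPrime p) a b, map_mul, ← IsScalarTower.algebraMap_apply, ← sub_mul]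
  exact Ideal.mul_mem_right _ _ hd'

end Groth.Agent.S1248
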