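import Groth.Statements.S12481
import Groth.Agent.RVA57.ProjSpace
import Groth.Agent.S12474
import Groth.Agent.EGAProj74.VeryAmpleImm

set_option autoImplicit false
set_option backward.isDefEq.respectTransparency.types false
universe u
open CategoryTheory CategoryTheory.Limits AlgebraicGeometry TopologicalSpace Opposite
open scoped HomogeneousIdeal
open Mor

namespace Groth.Agent.S12481

/-- (2) ⇒ (1): let f : X ⟶ S be of finite type, L an invertible O_X-module and (V_j) an open covering of
S such that for each j the restriction of L to f⁻¹(V_j) is isomorphic to the inverse image of O(1)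
along some immersion of f⁻¹(V_j) into a projective space P^{n_j}_{V_j} over V_j. Then L is very
ample relative to f: there are a quasi-coherent O_S-module E and an S-immersion i of X into the
projective bundle P(E) with L isomorphic to i^*O_{P(E)}(1). (The converse implication of the
published statement is stated separately.) -/
theorem result {X S : Scheme.{u}} (f : X ⟶ S)
    [LocallyOfFiniteType f] [QuasiCompact f] (L : X.Modules) (hLinv : PicF.IsInvertible L)
    {ι : Type u} (V : ι → S.Opens) (hV : (⨆ j, V j) = ⊤)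
    (h : ∀ j, RelAmple.IsRelVeryAmplePn (f ∣_ V j) (L.restrict (f ⁻¹ᵁ V j).ι)) :
    RelProj.IsRelVeryAmple f L := by
  have hva : ∀ j, RelProj.IsRelVeryAmple (f ∣_ V j) (L.restrict (f ⁻¹ᵁ V j).ι) := fun j => by
    obtain ⟨n, i, hi, hif, ⟨e⟩⟩ := h j
    have h0 := RVA57.isRelVeryAmple_twistProjSpace (ULift.{u} ℤ) n
    have hsq := IsPullback.of_hasPullback (CohB1.ProjSpace.toSpec n (ULift.{u} ℤ))
      (specULiftZIsTerminal.from (V j : Scheme.{u}))
    have hT : PicF.IsInvertible (Twist.twistProjSpace n (ULift.{u} ℤ) 1) :=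
      EGA73.isInvertible_twist (RVA57.irrelevant_eq (ULift.{u} ℤ) n) 1
    have h1 := Groth.Agent.S12474.result _ _ _ _ hsq _ hT h0
    exact EGAProj74.isRelVeryAmple_of_iso
      (@EGAProj74.isRelVeryAmple_comp_immersion _ _ _ _ _ h1 i hi _ hif) e.symm
  have hqs : QuasiSeparated f := by
    refine IsZariskiLocalAtTarget.of_iSup_eq_top V hV fun j => ?_
    have : (f ∣_ V j) = (f ∣_ V j) := rfl
    obtain ⟨n, i, hi, hif, -⟩ := h j
    have hsep : IsSeparated (CohB1.ProjSpace.toSpec n (ULift.{u} ℤ)) := by
      have := Proj.isSeparated (CohB1.polyGrading n (ULift.{u} ℤ))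
      exact @MorphismProperty.comp_mem _ _ @IsSeparated _ _ _ _ (Proj.toSpecZero (CohB1.polyGrading n (ULift.{u} ℤ))) _ this
        (inferInstanceAs (IsSeparated (Spec.map (CommRingCat.ofHom (algebraMap (ULift.{u} ℤ) (CohB1.polyGrading n (ULift.{u} ℤ) 0))))))
    have h2 : IsSeparated (pullback.snd (CohB1.ProjSpace.toSpec n (ULift.{u} ℤ)) (specULiftZIsTerminal.from (V j : Scheme.{u}))) :=
      MorphismProperty.pullback_snd _ _ hsep
    rw [← hif]
    have h3 : IsSeparated i := inferInstance
    have h4 : IsSeparated (i ≫ pullback.snd (CohB1.ProjSpace.toSpec n (ULift.{u} ℤ)) (specULiftZIsTerminal.from (V j : Scheme.{u}))) :=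
      @MorphismProperty.comp_mem _ _ @IsSeparated _ _ _ _ i _ h3 h2
    exact @IsSeparated.instQuasiSeparated _ _ _ h4
  exact EGAProj74.isRelVeryAmple_of_openCover f hLinv hqs V hV hva

end Groth.Agent.S12481
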