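import Groth.Statements.S12491
import Groth.Agent.S0563
import Groth.Agent.S0564
import Mathlib.RingTheory.LocalRing.Module
import Mathlib.Algebra.Category.ModuleCat.Projective
import Mathlib.Algebra.Homology.ShortComplex.ModuleCat
import Mathlib.RingTheory.Ideal.Height
import Mathlib.RingTheory.Localization.BaseChange

set_option autoImplicit false
universe u
open VBPn
open CategoryTheory

namespace Groth.Agent.S12491

/-- Let A be a regular local ring, k ≥ 0, and N_0, N_1, … A-modules with N_0 finitely generated and N_1,
…, N_k finitely generated and free, with linear maps d_i : N_i → N_{i+1} such that d_0 is injective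
and the sequence 0 → N_0 → N_1 → ⋯ → N_k is exact. Then for every prime ideal p of A of height at
most k the localization of N_0 at p is a free module over A_p. The published statement is for a
coherent analytic sheaf on a complex manifold that is locally a k-th syzygy sheaf and says its set
of non-free stalks has codimension greater than k; this row is the statement at one stalk, over any
regular local ring. -/
theorem result (A : Type u) [CommRing A] [IsRegularLocalRing A]
    (k : ℕ) (N : ℕ → Type u) [∀ i, AddCommGroup (N i)] [∀ i, Module A (N i)] [Module.Finite A (N 0)]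
    (hfree : ∀ i, 1 ≤ i → i ≤ k → Module.Free A (N i) ∧ Module.Finite A (N i))
    (d : ∀ i, N i →ₗ[A] N (i + 1)) (hinj : Function.Injective (d 0))
    (hex : ∀ i, i + 1 < k → LinearMap.range (d i) = LinearMap.ker (d (i + 1)))
    (p : Ideal A) [p.IsPrime] (hp : p.height ≤ k) :
    Module.Free (Localization.AtPrime p) (LocalizedModule p.primeCompl (N 0)) := by
  classical
  let B := Localization.AtPrime p
  let T : Submonoid A := p.primeCompl
  let M : ℕ → Type u := fun i => LocalizedModule T (N i)
  let e : ∀ i, M i →ₗ[B] M (i + 1) := fun i => LocalizedModule.map T (d i)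
  have hereg : IsRegularLocalRing B := S0564.result A p
  obtain ⟨δ, hδ⟩ : ∃ δ : ℕ, ringKrullDim B = δ ∧ δ ≤ k := by
    have h1 := IsLocalization.AtPrime.ringKrullDim_eq_height p B
    obtain ⟨δ, hδ, hδk⟩ : ∃ δ : ℕ, p.height = δ ∧ δ ≤ k := by
      obtain ⟨δ, hδ⟩ := ENat.ne_top_iff_exists.mp (ne_top_of_le_ne_top (ENat.natCast_ne_top k) hp)
      exact ⟨δ, hδ.symm, Nat.cast_le.mp (hδ ▸ hp)⟩
    exact ⟨δ, by rw [h1, hδ]; rfl, hδk⟩
  have hpd : ∀ (X : ModuleCat.{u} B), HasProjectiveDimensionLT X (δ + 1) := fun X => S0563.result B δ hδ.1 X
  have einj : Function.Injective (e 0) := LocalizedModule.map_injective T (d 0) hinj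
  have eex : ∀ i, i + 1 < k → Function.Exact (e i) (e (i + 1)) := fun i hi =>
    LocalizedModule.map_exact T (d i) (d (i + 1)) (LinearMap.exact_iff.mpr (hex i hi).symm)
  have hfr : ∀ i, 1 ≤ i → i ≤ k → Projective (ModuleCat.of B (M i)) := fun i h1 h2 => by
    have := (hfree i h1 h2).1
    have : Module.Free B (M i) := Module.Free.of_equiv (LocalizedModule.equivTensorProduct T (N i)).symm
    exact (IsProjective.iff_projective _).mp inferInstance
  have step : ∀ i, 1 ≤ i + 1 → i + 1 ≤ k → ∀ (n : ℕ), 1 ≤ n →
      HasProjectiveDimensionLT (ModuleCat.of B (M (i + 1) ⧸ LinearMap.range (e i))) (n + 1) →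
      HasProjectiveDimensionLT (ModuleCat.of B (LinearMap.range (e i))) n := by
    intro i h1 h2 n hn hq
    let S : ShortComplex (ModuleCat.{u} B) := ShortComplex.moduleCatMk (LinearMap.range (e i)).subtype
      (LinearMap.range (e i)).mkQ (LinearMap.ext fun x => by simp)
    have hS : S.ShortExact :=
      { exact := (ShortComplex.ShortExact.moduleCat_exact_iff_function_exact S).mpr (LinearMap.exact_subtype_mkQ _)
        mono_f := (ModuleCat.mono_iff_injective _).mpr (Submodule.injective_subtype _)
        epi_g := (ModuleCat.epi_iff_surjective _).mpr (Submodule.mkQ_surjective _) }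
    have h2' : Projective S.X₂ := hfr (i + 1) h1 h2
    have h3 : HasProjectiveDimensionLT S.X₂ n := hasProjectiveDimensionLT_of_ge _ 1 n hn
    exact hS.hasProjectiveDimensionLT_X₁ n h3 hq
  have hZ : ∀ j, 1 ≤ j → j ≤ k →
      HasProjectiveDimensionLT (ModuleCat.of B (LinearMap.range (e (k - j)))) (max (δ + 1 - j) 1) := by
    intro j hj1 hjk
    induction j, hj1 using Nat.le_induction with
    | base =>
      refine step (k - 1) (by omega) (by omega) _ (le_max_right _ _) ?_
      have := hpd (ModuleCat.of B (M (k - 1 + 1) ⧸ LinearMap.range (e (k - 1))))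
      exact hasProjectiveDimensionLT_of_ge _ (δ + 1) _ (by omega)
    | succ j hj1 ih =>
      refine step (k - (j + 1)) (by omega) (by omega) _ (le_max_right _ _) ?_
      have hex' := LinearMap.exact_iff.mp (eex (k - (j + 1)) (by omega))
      have e1 : (M (k - (j + 1) + 1) ⧸ LinearMap.range (e (k - (j + 1)))) ≃ₗ[B] LinearMap.range (e (k - (j + 1) + 1)) :=
        (Submodule.quotEquivOfEq _ _ hex'.symm).trans (e (k - (j + 1) + 1)).quotKerEquivRange
      have h := ih (by omega)
      rw [show k - j = k - (j + 1) + 1 by omega] at h
      have := h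
      have h' := hasProjectiveDimensionLT_of_iso (LinearEquiv.toModuleIso e1).symm (max (δ + 1 - j) 1)
      exact hasProjectiveDimensionLT_of_ge _ (max (δ + 1 - j) 1) _ (by omega)
  have hproj : HasProjectiveDimensionLT (ModuleCat.of B (M 0)) 1 := by
    rcases Nat.eq_zero_or_pos k with hk | hk
    · have := hpd (ModuleCat.of B (M 0))
      rwa [show δ = 0 by omega] at this
    · have h := hZ k hk le_rfl
      rw [show max (δ + 1 - k) 1 = 1 by omega, Nat.sub_self] at h
      have := h
      exact hasProjectiveDimensionLT_of_iso (LinearEquiv.toModuleIso (LinearEquiv.ofInjective (e 0) einj)).symm 1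
  have : Module.Finite B (M 0) := inferInstance
  have : Module.Projective B (M 0) :=
    (IsProjective.iff_projective _).mpr ((projective_iff_hasProjectiveDimensionLT_one).mpr hproj)
  have : Module.FinitePresentation B (M 0) := Module.finitePresentation_of_projective B (M 0)
  exact Module.free_of_flat_of_isLocalRing

end Groth.Agent.S12491
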