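import Groth.Statements.S12498
import Groth.Agent.Deform85.FlatLift
import Mathlib.RingTheory.Derivation.Basic

set_option autoImplicit false
universe u
open Deform

namespace Groth.Agent.S12498

/-- Let k be an algebraically closed field, A a local Artinian k-algebra with residue field k, and t a
nonzero element of the maximal ideal m_A annihilated by m_A, so that A → A/tA is a small extension.
Let B be a flat A-algebra (a deformation over A of its closed fibre B_0 = B/m_A B), and σ an
A-algebra automorphism of B/tB inducing the identity on B_0. Fix an A-algebra automorphism τ of B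
inducing σ (so τ induces the identity on B_0). Then the A-algebra automorphisms η of B inducing σ
correspond bijectively to the k-derivations d of B_0 through the rule η = τ + t·d, meaning η(b) =
τ(b) + t b′ for all b ∈ B and all b′ ∈ B lifting d applied to the image of b in B_0: every such η
determines a unique d, and every d comes from some such η. (The published statement phrases the
conclusion as a free and transitive action of Der_k(B_0, B_0) on the nonempty set of lifts of σ; the
condition that σ induces the identity on B_0 is expressed here through the chosen lift τ.) -/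
theorem result
    {k : Type u} [Field k] [IsAlgClosed k]
    {A : Type u} [CommRing A] [Algebra k A] [IsLocalRing A] [IsArtinianRing A]
    (hres : ∀ a : A, ∃ c : k, a - algebraMap k A c ∈ IsLocalRing.maximalIdeal A)
    (t : A) (ht : t ∈ IsLocalRing.maximalIdeal A) (ht0 : t ≠ 0)
    (htm : ∀ a ∈ IsLocalRing.maximalIdeal A, a * t = 0)
    {B : Type u} [CommRing B] [Algebra A B] [Module.Flat A B] [Algebra k B] [IsScalarTower k A B]
    (σ : (B ⧸ Ideal.span {algebraMap A B t}) ≃ₐ[A] (B ⧸ Ideal.span {algebraMap A B t}))
    (τ : B ≃ₐ[A] B)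
    (hτ : ∀ b : B, Ideal.Quotient.mk (Ideal.span {algebraMap A B t}) (τ b) =
      σ (Ideal.Quotient.mk (Ideal.span {algebraMap A B t}) b))
    (hτ0 : ∀ b : B, τ b - b ∈ (IsLocalRing.maximalIdeal A).map (algebraMap A B)) :
    (∀ η : B ≃ₐ[A] B, (∀ b : B, Ideal.Quotient.mk (Ideal.span {algebraMap A B t}) (η b) =
        σ (Ideal.Quotient.mk (Ideal.span {algebraMap A B t}) b)) →
      ∃! d : Derivation k (B ⧸ (IsLocalRing.maximalIdeal A).map (algebraMap A B))
          (B ⧸ (IsLocalRing.maximalIdeal A).map (algebraMap A B)),
        ∀ b b' : B, Ideal.Quotient.mk ((IsLocalRing.maximalIdeal A).map (algebraMap A B)) b' =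
            d (Ideal.Quotient.mk ((IsLocalRing.maximalIdeal A).map (algebraMap A B)) b) →
          η b = τ b + algebraMap A B t * b') ∧
    (∀ d : Derivation k (B ⧸ (IsLocalRing.maximalIdeal A).map (algebraMap A B))
        (B ⧸ (IsLocalRing.maximalIdeal A).map (algebraMap A B)),
      ∃ η : B ≃ₐ[A] B, (∀ b : B, Ideal.Quotient.mk (Ideal.span {algebraMap A B t}) (η b) =
          σ (Ideal.Quotient.mk (Ideal.span {algebraMap A B t}) b)) ∧
        ∀ b b' : B, Ideal.Quotient.mk ((IsLocalRing.maximalIdeal A).map (algebraMap A B)) b' =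
            d (Ideal.Quotient.mk ((IsLocalRing.maximalIdeal A).map (algebraMap A B)) b) →
          η b = τ b + algebraMap A B t * b') := by
  classical
  have htmul : ∀ {b : B}, b ∈ (IsLocalRing.maximalIdeal A).map (algebraMap A B) → (algebraMap A B t) * b = 0 :=
    fun hb => Deform85.mul_eq_zero_of_mem_map htm hb
  have hTT : (algebraMap A B t) * (algebraMap A B t) = 0 := htmul (Ideal.mem_map_of_mem _ ht)
  have hmem : ∀ {b : B}, (algebraMap A B t) * b = 0 → b ∈ (IsLocalRing.maximalIdeal A).map (algebraMap A B) :=
    fun hb => Deform85.mem_map_of_mul_eq_zero ht0 htm hb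
  let mk₀ := Ideal.Quotient.mk ((IsLocalRing.maximalIdeal A).map (algebraMap A B))
  have hTeq : ∀ {x y : B}, (algebraMap A B t) * x = (algebraMap A B t) * y ↔ mk₀ x = mk₀ y := fun {x y} =>
    ⟨fun h => Ideal.Quotient.eq.2 (hmem (by rw [mul_sub, h, sub_self])),
      fun h => by rw [← sub_eq_zero, ← mul_sub]; exact htmul (Ideal.Quotient.eq.1 h)⟩
  have hτT : ∀ b b', (algebraMap A B t) * (τ b * b') = (algebraMap A B t) * (b * b') := fun b b' => by
    rw [← sub_eq_zero, ← mul_sub, ← sub_mul, ← mul_assoc, htmul (hτ0 b), zero_mul]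
  refine ⟨fun η hη => ?_, fun d => ?_⟩
  · have hdiff : ∀ b, ∃ c, η b = τ b + (algebraMap A B t) * c := fun b => by
      obtain ⟨c, hc⟩ := Ideal.mem_span_singleton'.1 (Ideal.Quotient.eq.1 ((hη b).trans (hτ b).symm))
      exact ⟨c, by rw [mul_comm (algebraMap A B t) c, hc]; ring⟩
    choose c hc using hdiff
    have hc' : ∀ b x, η b = τ b + (algebraMap A B t) * x → mk₀ (c b) = mk₀ x := fun b x h =>
      hTeq.1 (add_left_cancel ((hc b).symm.trans h))
    have hadd : ∀ b b', mk₀ (c (b + b')) = mk₀ (c b) + mk₀ (c b') := fun b b' => by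
      rw [← map_add]
      exact hc' _ _ (by rw [map_add, map_add, hc, hc]; ring)
    have hmul : ∀ b b', mk₀ (c (b * b')) = mk₀ b * mk₀ (c b') + mk₀ b' * mk₀ (c b) := fun b b' => by
      rw [← map_mul, ← map_mul, ← map_add]
      refine hc' _ _ ?_
      rw [map_mul, map_mul, hc, hc]
      linear_combination (hτT b (c b')) + (hτT b' (c b)) + (c b * c b') * hTT
    have hk : ∀ (e : k) b, mk₀ (c (e • b)) = e • mk₀ (c b) := fun e b => by
      rw [Algebra.smul_def e b, hmul, Algebra.smul_def e (mk₀ (c b))]
      have h0 : mk₀ (c (algebraMap k B e)) = 0 := by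
        rw [← map_zero mk₀]
        refine hc' _ _ ?_
        rw [IsScalarTower.algebraMap_apply k A B, AlgEquiv.commutes, AlgEquiv.commutes, mul_zero, add_zero]
      rw [h0, mul_zero, add_zero]
      rfl
    have hwd : ∀ b b', b - b' ∈ (IsLocalRing.maximalIdeal A).map (algebraMap A B) → mk₀ (c b) = mk₀ (c b') := by
      suffices H : ∀ x ∈ (IsLocalRing.maximalIdeal A).map (algebraMap A B), mk₀ (c x) = 0 from fun b b' h => by
        rw [← sub_add_cancel b b', hadd, H _ h, zero_add]
      intro x hx
      induction hx using Submodule.span_induction with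
      | mem y hy =>
        obtain ⟨a, -, rfl⟩ := hy
        rw [← map_zero mk₀]
        exact hc' _ _ (by rw [AlgEquiv.commutes, AlgEquiv.commutes, mul_zero, add_zero])
      | zero =>
        rw [← map_zero mk₀]
        exact hc' _ _ (by rw [map_zero, map_zero, mul_zero, add_zero])
      | add y z _ _ hy hz => rw [hadd, hy, hz, add_zero]
      | smul r y hym hy =>
        rw [smul_eq_mul, hmul, hy, mul_zero, zero_add]
        exact mul_eq_zero_of_left (Ideal.Quotient.eq_zero_iff_mem.2 hym) _
    let f : B ⧸ (IsLocalRing.maximalIdeal A).map (algebraMap A B) → B ⧸ (IsLocalRing.maximalIdeal A).map (algebraMap A B) :=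
      Quotient.lift (fun b => mk₀ (c b)) fun b b' h => hwd b b' ((Submodule.quotientRel_def _).1 h)
    have hf : ∀ b, f (mk₀ b) = mk₀ (c b) := fun b => rfl
    let L : (B ⧸ (IsLocalRing.maximalIdeal A).map (algebraMap A B)) →ₗ[k]
        (B ⧸ (IsLocalRing.maximalIdeal A).map (algebraMap A B)) :=
      { toFun := f
        map_add' := fun x y => by
          obtain ⟨x, rfl⟩ := Ideal.Quotient.mk_surjective x
          obtain ⟨y, rfl⟩ := Ideal.Quotient.mk_surjective y
          exact hadd x y
        map_smul' := fun e x => by
          obtain ⟨x, rfl⟩ := Ideal.Quotient.mk_surjective x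
          exact hk e x }
    refine ⟨Derivation.mk' L (fun x y => ?_), fun b b' h => ?_, fun d hd => Derivation.ext fun x => ?_⟩
    · obtain ⟨x, rfl⟩ := Ideal.Quotient.mk_surjective x
      obtain ⟨y, rfl⟩ := Ideal.Quotient.mk_surjective y
      exact hmul x y
    · rw [hc b]
      exact congrArg (τ b + ·) (hTeq.2 ((hf b).symm.trans h.symm))
    · obtain ⟨b, rfl⟩ := Ideal.Quotient.mk_surjective x
      obtain ⟨b', hb'⟩ := Ideal.Quotient.mk_surjective (d (mk₀ b))
      exact hb'.symm.trans (hc' b b' (hd b b' hb')).symm
  · choose l hl using fun b : B => Ideal.Quotient.mk_surjective (d (mk₀ b))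
    have hT' : ∀ b x, mk₀ x = d (mk₀ b) → (algebraMap A B t) * l b = (algebraMap A B t) * x := fun b x h => hTeq.2 ((hl b).trans h.symm)
    let η : B →ₐ[A] B :=
      { toFun := fun b => τ b + (algebraMap A B t) * l b
        map_one' := by
          rw [map_one, hT' 1 0 (by rw [map_zero, map_one, Derivation.map_one_eq_zero]), mul_zero, add_zero]
        map_mul' := fun x y => by
          rw [map_mul, hT' (x * y) (x * l y + y * l x) (by
            simp only [map_add, map_mul, mk₀, hl, Derivation.leibniz, smul_eq_mul])]
          linear_combination -(hτT x (l y)) - (hτT y (l x)) - (l x * l y) * hTT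
        map_zero' := by
          rw [map_zero, hT' 0 0 (by rw [map_zero, map_zero]), mul_zero, add_zero]
        map_add' := fun x y => by
          rw [map_add, hT' (x + y) (l x + l y) (by simp only [map_add, mk₀, hl])]
          ring
        commutes' := fun a => by
          obtain ⟨e, he⟩ := hres a
          rw [AlgEquiv.commutes, hT' _ 0 ?_, mul_zero, add_zero]
          have : mk₀ (algebraMap A B a) = algebraMap k _ e := by
            refine (Ideal.Quotient.eq.2 ?_ : mk₀ (algebraMap A B a) = mk₀ (algebraMap k B e))
            rw [IsScalarTower.algebraMap_apply k A B, ← map_sub]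
            exact Ideal.mem_map_of_mem _ he
          rw [map_zero, this, Derivation.map_algebraMap] }
    have hη : ∀ b, Ideal.Quotient.mk (Ideal.span {(algebraMap A B t)}) (η b) = σ (Ideal.Quotient.mk (Ideal.span {(algebraMap A B t)}) b) := fun b => by
      rw [← hτ b]
      exact Ideal.Quotient.eq.2 (Ideal.mem_span_singleton'.2 ⟨l b, by
        change l b * (algebraMap A B t) = τ b + (algebraMap A B t) * l b - τ b
        ring⟩)
    refine ⟨AlgEquiv.ofBijective η (Deform85.bijective_of_lift ht htm σ η hη), hη, fun b b' h => ?_⟩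
    exact congrArg (τ b + ·) (hT' b b' h)

end Groth.Agent.S12498
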