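import Groth.Statements.S12515
import Groth.Agent.FF30.QuadraticRat


set_option autoImplicit false
open FunFld

namespace Groth.Agent.S12515

/-- If `char k ≠ 2` and `K` has degree `2` over the rational function field `k(x)`, then `K = k(x)(y)`
for some `y` with `y² = f(x)`, `f` a squarefree polynomial over `k`. -/
theorem result (k K : Type*) [Field k] [Field K] (h2 : ringChar k ≠ 2)
    [Algebra (RatFunc k) K] (hdeg : Module.finrank (RatFunc k) K = 2) :
    ∃ (y : K) (f : Polynomial k), Squarefree f ∧
      y ^ 2 = algebraMap (RatFunc k) K (algebraMap (Polynomial k) (RatFunc k) f) ∧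
      IntermediateField.adjoin (RatFunc k) ({y} : Set K) = ⊤ := by
  exact Groth.Agent.FF30.exists_sq_eq h2 hdeg

end Groth.Agent.S12515
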