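import Groth.Statements.S12524
import Mathlib.RingTheory.AdicCompletion.RingHom
import Mathlib.RingTheory.PowerSeries.Trunc
import Mathlib.RingTheory.DiscreteValuationRing.Basic
import Mathlib.Algebra.Polynomial.AlgebraMap
import Mathlib.Algebra.Polynomial.Div
import Mathlib.Tactic.LinearCombination

set_option autoImplicit false
universe u v
open CAlg

namespace Groth.Agent.S12524

open IsLocalRing Polynomial in
theorem aeval_trunc_sub {K : Type u} {A : Type v} [CommRing K] [CommRing A] [Algebra K A] (x : A) (n : ℕ) (P : K[X]) :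
    aeval x P - aeval x (PowerSeries.trunc n (P : PowerSeries K)) ∈ Ideal.span {x} ^ n := by
  rw [← map_sub, Ideal.span_singleton_pow, Ideal.mem_span_singleton]
  have h : (X : K[X]) ^ n ∣ P - PowerSeries.trunc n (P : PowerSeries K) := by
    rw [X_pow_dvd_iff]
    intro d hd
    rw [coeff_sub, PowerSeries.coeff_trunc, if_pos hd, Polynomial.coeff_coe, sub_self]
  have := map_dvd (aeval x) h
  simpa using this

open IsLocalRing Polynomial in

open IsLocalRing in
/-- Let `A` be a complete discrete valuation ring with maximal ideal `m`, containing a field `K` such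
that `K → A → A/m` is bijective (a coefficient field), and let `x` be any generator of `m`. Then the
`K`-algebra map `K[X] → A`, `X ↦ x`, extends to a bijective `K`-algebra map `φ : K⟦X⟧ → A`,
characterised by `φ(∑ aᵢ Xⁱ) ≡ ∑_{i<n} aᵢ xⁱ (mod mⁿ)` for every `n`. -/
theorem result (K : Type u) (A : Type v) [Field K]
    [CommRing A] [IsDomain A] [IsDiscreteValuationRing A] [Algebra K A]
    [IsAdicComplete (maximalIdeal A) A]
    (hK : Function.Bijective ((residue A).comp (algebraMap K A)))
    (x : A) (hx : maximalIdeal A = Ideal.span {x}) :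
    ∃ φ : PowerSeries K →ₐ[K] A, φ PowerSeries.X = x ∧ Function.Bijective φ ∧
      ∀ (f : PowerSeries K) (n : ℕ),
        φ f - (Finset.range n).sum (fun i => algebraMap K A (PowerSeries.coeff i f) * x ^ i) ∈
          maximalIdeal A ^ n := by
  classical
  let m := maximalIdeal A
  have hxm : x ∈ m := by show x ∈ maximalIdeal A; rw [hx]; exact Ideal.mem_span_singleton_self x
  let ev : ℕ → PowerSeries K → A := fun n f => aeval x (PowerSeries.trunc n f)
  have hev : ∀ n f, ev n f = (Finset.range n).sum (fun i => algebraMap K A (PowerSeries.coeff i f) * x ^ i) := fun n f => by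
    show aeval x (PowerSeries.trunc n f) = _
    rw [PowerSeries.trunc_apply, Nat.Ico_zero_eq_range, map_sum]
    exact Finset.sum_congr rfl fun i _ => aeval_monomial x
  have hmod : ∀ n (P : K[X]), Ideal.Quotient.mk (m ^ n) (aeval x P) = Ideal.Quotient.mk (m ^ n) (ev n (P : PowerSeries K)) :=
    fun n P => by
      rw [Ideal.Quotient.eq, show m = Ideal.span {x} from hx]
      exact aeval_trunc_sub x n P
  let F : (n : ℕ) → PowerSeries K →+* A ⧸ m ^ n := fun n =>
    { toFun := fun f => Ideal.Quotient.mk (m ^ n) (ev n f)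
      map_one' := by
        rw [← Polynomial.coe_one, ← hmod, map_one, map_one]
      map_zero' := by simp [ev]
      map_add' := fun f g => by simp [ev]
      map_mul' := fun f g => by
        show Ideal.Quotient.mk (m ^ n) (aeval x (PowerSeries.trunc n (f * g))) = _
        rw [← PowerSeries.trunc_trunc_mul_trunc, ← Polynomial.coe_mul, ← hmod, map_mul, map_mul] }
  have hF : ∀ {a b : ℕ} (hle : a ≤ b), (Ideal.Quotient.factorPow m hle).comp (F b) = F a := fun {a b} hle => by
    refine RingHom.ext fun f => ?_
    show Ideal.Quotient.mk (m ^ a) (ev b f) = Ideal.Quotient.mk (m ^ a) (ev a f)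
    rw [hmod a (PowerSeries.trunc b f)]
    show Ideal.Quotient.mk _ (aeval x _) = Ideal.Quotient.mk _ (aeval x _)
    rw [PowerSeries.trunc_trunc_of_le _ hle]
  let φ₀ := IsAdicComplete.liftRingHom m F hF
  have hφ : ∀ f n, φ₀ f - ev n f ∈ m ^ n := fun f n =>
    Ideal.Quotient.eq.1 (IsAdicComplete.mk_liftRingHom m F hF n f)
  have huniq : ∀ a b : A, (∀ n, a - b ∈ m ^ n) → a = b := fun a b h =>
    sub_eq_zero.1 (IsHausdorff.haus (I := m) inferInstance (a - b) fun n => by
      rw [SModEq.zero, smul_eq_mul, Ideal.mul_top]; exact h n)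
  have hpoly : ∀ P : K[X], φ₀ (P : PowerSeries K) = aeval x P := fun P => huniq _ _ fun n => by
    have := sub_mem (hφ (P : PowerSeries K) n) (Ideal.Quotient.eq.1 (hmod n P))
    rwa [sub_sub_sub_cancel_right] at this
  have hcomm : ∀ c : K, φ₀ (algebraMap K (PowerSeries K) c) = algebraMap K A c := fun c => by
    rw [PowerSeries.algebraMap_eq, ← Polynomial.coe_C, hpoly, aeval_C]
  let φ : PowerSeries K →ₐ[K] A := { φ₀ with commutes' := hcomm }
  have hres : ∀ a : A, ∃ c : K, a - algebraMap K A c ∈ m := fun a => by
    obtain ⟨c, hc⟩ := hK.2 (residue A a)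
    refine ⟨c, ?_⟩
    rw [← Ideal.Quotient.eq]
    exact hc.symm
  refine ⟨φ, ?_, ⟨(injective_iff_map_eq_zero φ).2 fun f hf => ?_, fun a => ?_⟩, fun f n => ?_⟩
  · show φ₀ PowerSeries.X = x
    rw [← Polynomial.coe_X, hpoly, aeval_X]
  · ext k
    rw [map_zero]
    induction k using Nat.strong_induction_on with
    | _ k ih =>
      have h1 := hφ f (k + 1)
      rw [show φ₀ f = 0 from hf, zero_sub, neg_mem_iff, hev, Finset.sum_range_succ,
        Finset.sum_eq_zero (fun i hi => by rw [ih i (Finset.mem_range.1 hi), map_zero, zero_mul]), zero_add] at h1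
      by_contra hne
      rw [show m = Ideal.span {x} from hx, Ideal.span_singleton_pow, Ideal.mem_span_singleton] at h1
      have hx0 : x ≠ 0 := fun h => IsDiscreteValuationRing.not_a_field A (by rw [hx]; exact Ideal.span_singleton_eq_bot.2 h)
      rw [((isUnit_iff_ne_zero.2 hne).map (algebraMap K A)).dvd_mul_left, pow_succ] at h1
      have := (mul_dvd_mul_iff_left (pow_ne_zero k hx0)).1 (h1.trans (mul_one _).symm.dvd)
      exact (mem_maximalIdeal x).1 hxm (isUnit_of_dvd_one this)
  · choose c hc using hres
    have hdiv : ∀ a : A, ∃ b, a = algebraMap K A (c a) + x * b := fun a => by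
      have h := hc a
      rw [show m = Ideal.span {x} from hx, Ideal.mem_span_singleton] at h
      obtain ⟨b, hb⟩ := h
      exact ⟨b, by rw [← hb]; ring⟩
    choose nx hnx using hdiv
    let r : ℕ → A := fun n => nx^[n] a
    let f : PowerSeries K := PowerSeries.mk fun n => c (r n)
    have hsum : ∀ n, a = ev n f + x ^ n * r n := by
      intro n
      rw [hev]
      induction n with
      | zero => simp [r]
      | succ n ih =>
        conv_lhs => rw [ih, hnx (r n)]
        rw [Finset.sum_range_succ, show r (n + 1) = nx (r n) from Function.iterate_succ_apply' nx n a,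
          PowerSeries.coeff_mk, pow_succ]
        ring
    refine ⟨f, huniq _ _ fun n => ?_⟩
    rw [show φ f - a = (φ₀ f - ev n f) + (ev n f - a) by simp [φ]]
    refine add_mem (hφ f n) ?_
    rw [show ev n f - a = -(x ^ n * r n) by linear_combination -(hsum n)]
    exact Submodule.neg_mem _ (Ideal.mul_mem_right _ _ (Ideal.pow_mem_pow hxm n))
  · rw [← hev]; exact hφ f n

end Groth.Agent.S12524
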