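import Groth.Statements.S12535
import Groth.Agent.FF30.QuadraticRat

set_option autoImplicit false
open FunFld

namespace Groth.Agent.S12535

/-- Let `char k ≠ 2`, `K` of degree `2` over `k(x)`, and `y ∈ K` with `y² = f(x)`, `f` a squarefree
polynomial of degree `≥ 1`. Then a place `P` of `K` is a zero of `y` exactly when it lies over a
finite place of `k(x)` where `f` has a zero, and in that case `ord_P(y) = 1`: the divisor of zeros
of `y` is `Σ P_i`, one place over each irreducible factor of `f`, with multiplicity one. -/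
theorem result (k K : Type*) [Field k] [Field K] (h2 : ringChar k ≠ 2) [Algebra k K]
    [Algebra (RatFunc k) K] [IsScalarTower k (RatFunc k) K]
    (hdeg : Module.finrank (RatFunc k) K = 2) (y : K) (f : Polynomial k) (hf : Squarefree f)
    (hd : 1 ≤ f.natDegree)
    (heq : y ^ 2 = algebraMap (RatFunc k) K (algebraMap (Polynomial k) (RatFunc k) f)) (P : FunFld.Place k K) :
    (0 < P.ord y → P.ord y = 1) ∧
    (0 < P.ord y ↔ ∃ P₀ : FunFld.Place k (RatFunc k), FunFld.IsOver P P₀ ∧ 0 ≤ P₀.ord (RatFunc.X : RatFunc k) ∧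
      0 < P₀.ord (algebraMap (Polynomial k) (RatFunc k) f)) := by
  have := Groth.Agent.FF30.finite_of_finrank_two hdeg
  have hF := Groth.Agent.FF30.ratFunc_ff k
  have hf0 : f ≠ 0 := by rintro rfl; simp at hd
  obtain ⟨P₀, e, he0, he⟩ := hF.exists_isOverWith P
  have hy2 := Groth.Agent.FF30.ord_y heq he
  have hmain : 0 < P.ord y → P.ord y = 1 ∧ 0 ≤ P₀.ord (RatFunc.X : RatFunc k) ∧
      0 < P₀.ord (algebraMap (Polynomial k) (RatFunc k) f) := by
    intro hpos
    have hfpos : 0 < P₀.ord (algebraMap (Polynomial k) (RatFunc k) f) := by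
      by_contra hle
      have : (e : ℤ) * P₀.ord (algebraMap (Polynomial k) (RatFunc k) f) ≤ 0 :=
        mul_nonpos_of_nonneg_of_nonpos (by positivity) (by omega)
      omega
    have hX : 0 ≤ P₀.ord (RatFunc.X : RatFunc k) := by
      by_contra hlt
      rw [not_le] at hlt
      rw [Groth.Agent.FF30.ord_poly_inf P₀ hlt hf0, Groth.Agent.FF30.ord_inf P₀ hlt] at hfpos
      omega
    refine ⟨?_, hX, hfpos⟩
    obtain ⟨p, hp, hP₀⟩ := Groth.Agent.FF30.exists_irreducible_of_finite P₀ hX
    have hpf : p ∣ f := by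
      by_contra h
      rw [Groth.Agent.FF30.ord_poly_eq_zero P₀ hp hP₀ h] at hfpos
      omega
    obtain ⟨he2, -⟩ := (Groth.Agent.FF30.hyper_ramified hdeg hf heq hp hpf P₀ hP₀).2 P ⟨e, he⟩
    obtain ⟨-, rfl⟩ := Groth.Agent.FF30.isOverWith_unique he he2
    have := Groth.Agent.FF30.ord_squarefree_le_one P₀ hX hf hf0
    push_cast at hy2
    omega
  refine ⟨fun h => (hmain h).1, fun h => ⟨P₀, ⟨e, he⟩, (hmain h).2⟩, ?_⟩
  rintro ⟨P₁, hP₁, -, hpos⟩
  obtain rfl := Groth.Agent.FF30.isOver_unique ⟨e, he⟩ hP₁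
  have : 0 < (e : ℤ) * P₀.ord (algebraMap (Polynomial k) (RatFunc k) f) :=
    mul_pos (by exact_mod_cast he0) hpos
  omega

end Groth.Agent.S12535
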