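import Groth.Statements.S1255
import Groth.Agent.FlatCrit65.Purity.Cover
import Groth.Agent.S1218
import Groth.Agent.RG29.DevBasic
import Groth.Agent.RG29.DevCover

set_option autoImplicit false
universe u
open FlatMor

namespace Groth.Agent.S1255

/-- Ring form, all schemes affine: let B be an A-algebra of finite type, N a finite B-module and p a
prime of A such that N is flat over A at every prime of B over p. Let (A, p) → (A', p') be an
elementary étale ring map and B' an étale B-algebra which is compatibly an A'-algebra of finite
type, with base change N' of N to B', such that N' is pure along the fibre over p' and every prime q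
of B over p whose extension to the fibre ring over p is an associated prime of the fibre module of N
is the contraction of a prime of B' lying over p'. Let B_{A'} and N_{A'} be the base changes of B
and N to A' (any models), with the induced map B_{A'} → B'. Then N is pure along the fibre over p if
and only if: for every prime t' ⊆ p' of A' and every prime Q of B_{A'} over t' whose extension to
the fibre ring over t' is an associated prime of the fibre module of N_{A'}, Q is the contraction of
a prime of B'. (The published statement asks in its covering hypothesis only that the image of Spec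
B' in Spec B contain the associated primes of the fibre module of N over p, without requiring the
covering primes of B' to lie over p'. That is not enough when Spec A' has a second point over p —
with Spec A' = Spec A ⊔ Spec A and Spec B' over the other copy the "only if" fails — so the
hypothesis is stated here in the stronger form: the covering primes of B' lie over p'.) -/
theorem result {A B : Type u} [CommRing A] [CommRing B] [Algebra A B] [Algebra.FiniteType A B]
    (N : Type u) [AddCommGroup N] [Module B N] [Module A N] [IsScalarTower A B N] [Module.Finite B N] (p : Ideal A) [p.IsPrime]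
    (hflat : ∀ (q : Ideal B) [q.IsPrime], q.LiesOver p → FlatCA.FlatAt A q N)
    (A' : Type u) [CommRing A'] [Algebra A A'] (p' : Ideal A') [p'.IsPrime] (het : FlatCA.IsEtaleNhd A A' p p')
    (B' : Type u) [CommRing B'] [Algebra B B'] [Algebra A' B'] [Algebra A B'] [IsScalarTower A B B'] [IsScalarTower A A' B']
    [Algebra.Etale B B'] [Algebra.FiniteType A' B']
    (N' : Type u) [AddCommGroup N'] [Module B' N'] [Module B N'] [IsScalarTower B B' N'] [Module A' N'] [IsScalarTower A' B' N']
    (f : N →ₗ[B] N') (hf : IsBaseChange B' f)
    (hpure : FlatCA.IsPureAlong A' B' N' p')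
    (hcov : ∀ (q : Ideal B) [q.IsPrime], q.LiesOver p →
      FlatCA.fiberIdeal p q ∈ associatedPrimes (p.Fiber B) (FlatCA.fiberMod p B N) →
      ∃ q' : Ideal B', q'.IsPrime ∧ q'.comap (algebraMap B B') = q ∧ q'.comap (algebraMap A' B') = p')
    (BA NA : Type u) [CommRing BA] [Algebra B BA] [Algebra A' BA] [Algebra A BA] [IsScalarTower A B BA] [IsScalarTower A A' BA]
    [Algebra.IsPushout A B A' BA] [Algebra BA B'] [IsScalarTower B BA B'] [IsScalarTower A' BA B']
    [AddCommGroup NA] [Module BA NA] [Module B NA] [IsScalarTower B BA NA] [Module A' NA] [IsScalarTower A' BA NA]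
    (fA : N →ₗ[B] NA) (hfA : IsBaseChange BA fA) :
    FlatCA.IsPureAlong A B N p ↔
      ∀ (t' : Ideal A') [t'.IsPrime], t' ≤ p' → ∀ (Q : Ideal BA) [Q.IsPrime], Q.LiesOver t' →
        FlatCA.fiberIdeal t' Q ∈ associatedPrimes (t'.Fiber BA) (FlatCA.fiberMod t' BA NA) →
        ∃ Q' : Ideal B', Q'.IsPrime ∧ Q'.comap (algebraMap BA B') = Q := by
  classical
  have het' := het
  obtain ⟨hE, ho, hb⟩ := het'
  haveI := hE
  haveI := ho
  haveI : Algebra.Etale B BA := Algebra.Etale.of_equiv (Algebra.IsPushout.equiv A B A' BA)
  haveI : Algebra.Etale BA B' := Algebra.Etale.of_restrictScalars (R := B) (A := BA) (B := B')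
  haveI : Algebra.FiniteType A' BA := Algebra.FiniteType.of_surjective
    (Algebra.IsPushout.equiv A A' B BA (h := Algebra.IsPushout.symm inferInstance)).toAlgHom
    (Algebra.IsPushout.equiv A A' B BA (h := Algebra.IsPushout.symm inferInstance)).surjective
  haveI : Module.Finite BA NA := Module.Finite.equiv hfA.equiv
  have hflatA : ∀ (Q : Ideal BA) [Q.IsPrime], Q.LiesOver p' → FlatCA.FlatAt A' Q NA := fun Q _ hQ => by
    haveI := hQ
    refine Groth.Agent.FlatMor67.FlatAtBC.flatAt_baseChange (R := A) (R' := A') fA hfA Q (hflat _ ⟨?_⟩)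
    haveI : Q.LiesOver p := Ideal.LiesOver.trans Q p' p
    rw [Ideal.under, Ideal.comap_comap, ← IsScalarTower.algebraMap_eq]
    exact Ideal.over_def Q p
  letI : Module BA N' := Module.compHom N' (algebraMap BA B')
  haveI : IsScalarTower BA B' N' := IsScalarTower.of_algebraMap_smul fun _ _ => rfl
  haveI : IsScalarTower B BA N' := IsScalarTower.of_algebraMap_smul fun b n => by
    rw [← algebraMap_smul B' (algebraMap B BA b) n, ← IsScalarTower.algebraMap_apply, algebraMap_smul]
  have hfBA : IsBaseChange B' (hfA.lift f) := IsBaseChange.of_comp hfA (by rw [IsBaseChange.lift_comp]; exact hf)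
  constructor
  · intro hp t' _ ht' Q _ hQ hass
    haveI := hQ
    have hspec : ∃ P : Ideal BA, P.IsPrime ∧ Q ≤ P ∧ P.LiesOver p' := by
      by_contra hne
      push Not at hne
      exact hp A' BA NA fA t' p' Q het
        ⟨inferInstance, hfA, ht', ho, hQ, hass, fun P _ hP hPo => hne P inferInstance hP hPo⟩
    obtain ⟨q, hq, hQq, hqo, hqass⟩ :=
      Groth.Agent.S1221.result NA p' (fun q _ hq => hflatA q hq) t' ht' Q hass hspec
    haveI := hqo
    obtain ⟨hq0o, hq0ass⟩ := Groth.Agent.FlatCrit65.Purity.ass_down (R := A) (R' := A') fA hfA p' p q hqass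
    obtain ⟨q', hq'p, hq'1, hq'2⟩ := hcov _ hq0o hq0ass
    haveI := hq'p
    haveI : (q'.comap (algebraMap BA B')).LiesOver p' := ⟨by
      rw [Ideal.under, Ideal.comap_comap, ← IsScalarTower.algebraMap_eq, hq'2]⟩
    have heq : q'.comap (algebraMap BA B') = q := by
      refine Groth.Agent.RG29.pushout_prime_le (R := A) (S := B) (R' := A') (S' := BA) hb _ q ?_
      rw [Ideal.under, Ideal.comap_comap, ← IsScalarTower.algebraMap_eq, hq'1]
    haveI : q'.LiesOver q := ⟨heq.symm⟩
    obtain ⟨Q', -, hQ'p, hQ'o⟩ := Ideal.exists_ideal_le_liesOver_of_le q' (p := Q) (q := q) hQq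
    exact ⟨Q', hQ'p, hQ'o.over.symm⟩
  · intro hcov'
    rw [Groth.Agent.FlatMor67.PurePush.isPureAlong_iff_not_hasImpurity]
    intro himp
    have himp' : FlatCA.HasImpurity A B N p fun _ _ _ _ => True := by
      obtain ⟨A₁, B₁, N₁, _, _, _, _, _, _, _, _, _, _, _, _, _, _, g, t', t, _, _, P, _, hi, -⟩ := himp
      exact ⟨A₁, B₁, N₁, inferInstance, inferInstance, inferInstance, inferInstance, inferInstance, inferInstance,
        inferInstance, inferInstance, inferInstance, inferInstance, inferInstance, inferInstance, inferInstance,
        inferInstance, g, t', t, inferInstance, inferInstance, P, inferInstance, hi, trivial⟩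
    haveI : Module.Finite B' N' := Module.Finite.equiv hf.equiv
    refine Groth.Agent.FlatCrit65.Purity.not_hasImpurity_of_cover (R := A') (B := BA) (N := NA) (p := p')
      (fun _ : Fin 1 => B') (fun _ => N') (fun _ => hfA.lift f) (fun _ => hfBA) (fun _ => ?_) ?_
      (Groth.Agent.FlatCrit65.Purity.hasImpurity_baseChange fA hfA p' himp')
    · refine (Groth.Agent.FlatMor67.PurePush.isUnivPureAlong_iff_not_hasImpurity N' p').1
        (Groth.Agent.S1218.result N' p' (fun q _ hq => ?_) hpure)
      refine Groth.Agent.FlatCrit65.Purity.flatAt_ascend hfBA q (hflatA _ ⟨?_⟩)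
      rw [Ideal.under, Ideal.comap_comap, ← IsScalarTower.algebraMap_eq]
      exact hq.over
    · intro t' _ ht' Q _ hQ hass
      obtain ⟨Q', hQ'p, hQ'⟩ := hcov' t' ht' Q hQ hass
      exact ⟨0, Q', hQ'p, hQ'⟩

end Groth.Agent.S1255
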