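import Mathlib
import Groth.Statements.S12550

set_option autoImplicit false
universe u
open GIT

namespace Groth.Agent.S12550

theorem result (K : Type u) [Field K]
    (V : Type u) [AddCommGroup V] [Module K V] [FiniteDimensional K V]
    (m : ℕ) (x : Fin (m + 1) → V) (hx : ∀ i, x i ≠ 0)
    (hst : ∀ L : Submodule K V, L ≠ ⊥ → L ≠ ⊤ →
      Set.ncard {i : Fin (m + 1) | x i ∈ L} * Module.finrank K V < Module.finrank K L * (m + 1)) :
    ¬ ∃ L' L'' : Submodule K V, L' ≠ ⊤ ∧ L'' ≠ ⊤ ∧ Disjoint L' L'' ∧ ∀ i, x i ∈ L' ∨ x i ∈ L'' := by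
  classical
  rintro ⟨L', L'', h', h'', hdis, hcov⟩
  have hn : m + 1 ≤ Set.ncard {i | x i ∈ L'} + Set.ncard {i | x i ∈ L''} := by
    refine le_trans ?_ (Set.ncard_union_le _ _)
    rw [show {i | x i ∈ L'} ∪ {i | x i ∈ L''} = Set.univ from Set.eq_univ_of_forall hcov]
    simp [Set.ncard_univ]
  have hz : ∀ L : Submodule K V, L = ⊥ → Set.ncard {i | x i ∈ L} = 0 := by
    intro L hL; subst hL; simp [hx]
  have hd : ∀ L : Submodule K V, L ≠ ⊤ → Set.ncard {i | x i ∈ L} * Module.finrank K V ≤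
      Module.finrank K L * (m + 1) := by
    intro L hL
    by_cases h0 : L = ⊥
    · simp [hz L h0]
    · exact (hst L h0 hL).le
  have hsum : Module.finrank K L' + Module.finrank K L'' ≤ Module.finrank K V := by
    rw [← Submodule.finrank_sup_add_finrank_inf_eq, disjoint_iff.mp hdis]
    simpa using Submodule.finrank_le (L' ⊔ L'')
  by_cases h0 : L' = ⊥
  · have h00 : L'' ≠ ⊥ := fun h => by rw [hz L' h0, hz L'' h] at hn; omega
    have := hst L'' h00 h''
    rw [hz L' h0] at hn
    nlinarith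
  · have := hst L' h0 h'
    have := hd L'' h''
    nlinarith

end Groth.Agent.S12550
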