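import Groth.Agent.Hopf35.ReyUnique
import Groth.Statements.S12555

set_option autoImplicit false
universe u
open TensorProduct
open GIT

namespace Groth.Agent.S12555

theorem result (k : Type u) [Field k] (A : Type u) [CommRing A] [HopfAlgebra k A]
    (hG : HopfRep.IsLinearlyReductive k A) (V : Type u) [AddCommGroup V] [Module k V] [HopfRep.Comod k A V] :
    ∃! E : V →ₗ[k] V, Hoch.IsComodHom A E ∧ E ∘ₗ E = E ∧ ∀ x : V, E x = x ↔ x ∈ HopfRep.fixedPts k A V := by
  exact Groth.Agent.Hopf35.ReyUnique.existsUnique_reynolds hG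

end Groth.Agent.S12555
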