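import Groth.Agent.Hopf35.ReyUnique
import Groth.Statements.S12556

set_option autoImplicit false
universe u
open TensorProduct
open GIT

namespace Groth.Agent.S12556

theorem result (k : Type u) [Field k] (A : Type u) [CommRing A] [HopfAlgebra k A]
    (hG : HopfRep.IsLinearlyReductive k A)
    (R : Type u) [CommRing R] [Algebra k R] [HopfRep.Comod k A R] [GLin.IsCoactAlg k A R]
    (E : R →ₗ[k] R) (h₁ : Hoch.IsComodHom A E) (h₂ : E ∘ₗ E = E)
    (h₃ : ∀ x : R, E x = x ↔ x ∈ GLin.invariants k A R)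
    (x y : R) (hy : y ∈ GLin.invariants k A R) : E (x * y) = E x * y := by
  rw [Groth.Agent.Hopf35.ReyUnique.eq_rey hG h₁ h₂ h₃]; exact Groth.Agent.LinRed34.rey_mul_invariant hG hy x

end Groth.Agent.S12556
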