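import Groth.Agent.Hopf35.ReyUnique
import Groth.Statements.S12557

set_option autoImplicit false
universe u
open TensorProduct
open GIT

namespace Groth.Agent.S12557

theorem result (k : Type u) [Field k] (A : Type u) [CommRing A] [HopfAlgebra k A]
    (hG : HopfRep.IsLinearlyReductive k A)
    (R : Type u) [CommRing R] [Algebra k R] [HopfRep.Comod k A R] [GLin.IsCoactAlg k A R]
    (ι : Type u) (𝔄 : ι → Ideal R) (h𝔄 : ∀ i, HopfRep.IsSubcomod (k := k) (A := A) ((𝔄 i).restrictScalars k)) :
    (⨆ i, (𝔄 i).restrictScalars k) ⊓ Subalgebra.toSubmodule (GLin.invariants k A R) =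
      ⨆ i, ((𝔄 i).restrictScalars k ⊓ Subalgebra.toSubmodule (GLin.invariants k A R)) := by
  exact Groth.Agent.Hopf35.ReyUnique.iSup_inf_fixed hG _ h𝔄

end Groth.Agent.S12557
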