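import Groth.Statements.S12575
import Groth.Agent.Diff31.Special

set_option autoImplicit false
universe u v w
open FunFld

namespace Groth.Agent.S12575

/-- Let `Q` be a place of a finite separable extension `K' = K(y)` of a geometric function field of one
variable `K/k`, over `P` with ramification index `e` and residue degree `1`, both with Laurent
expansions over `k` in local parameters, with `y` integral over `O_P` and `g` its minimal polynomial
over `K`. Then `v_Q(g'(y)) ≥ d(Q|P)`, and when equality holds `O_Q` is the localisation of `O_P[y]`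
at `Q`. -/
theorem result (k : Type u) (K K' : Type v) [Field k] [Field K] [Field K'] [Algebra k K] [Algebra K K'] [Algebra k K']
    [IsScalarTower k K K'] [FiniteDimensional K K'] [Algebra.IsSeparable K K']
    (hK : FunFld.IsFunctionField k K) (hg : FunFld.IsGeometric k K)
    (F F' : Type w) [Field F] [Algebra k F] [Field F'] [Algebra k F']
    (P : FunFld.Place k K) (Q : FunFld.Place k K') (e : ℕ) (he : FunFld.IsOverWith Q P e)
    (φ : K →ₐ[k] LaurentSeries F) (hφ : LocRes.IsExpansionAt P.1 φ)
    (ψ : K' →ₐ[k] LaurentSeries F') (hψ : LocRes.IsExpansionAt Q.1 ψ)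
    (x : K) (hx : LocRes.vDiff φ 1 x ≠ 0) (hx' : LocRes.vDiff ψ 1 (algebraMap K K' x) ≠ 0)
    [P.1.HasExtension Q.1]
    (hf : Function.Surjective (algebraMap (IsLocalRing.ResidueField P.O) (IsLocalRing.ResidueField Q.O)))
    [Algebra P.O K'] [IsScalarTower P.O K K']
    (y : K') (hy : IntermediateField.adjoin K ({y} : Set K') = ⊤) (hyi : IsIntegral P.O y) :
    LocRes.diffExp φ ψ e x ≤ Q.ord (Polynomial.aeval y (Polynomial.derivative (minpoly K y))) ∧
    (Q.ord (Polynomial.aeval y (Polynomial.derivative (minpoly K y))) = LocRes.diffExp φ ψ e x →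
      ∀ z : K', Q.1 z ≤ 1 → ∃ a ∈ Algebra.adjoin P.O ({y} : Set K'), ∃ b ∈ Algebra.adjoin P.O ({y} : Set K'),
        Q.1 b = 1 ∧ z * b = a) := by
  classical
  have hF : Groth.Agent.FF30.FF k K := hK.1
  obtain ⟨-, y₀, hy₀, hy₀v⟩ := Groth.Agent.Diff31.trace_dual_max hK hg hφ hψ he hx hx'
    (fun z hz => Groth.Agent.Diff31.exists_residue_lift hf hz)
  set g' := Polynomial.aeval y (Polynomial.derivative (minpoly K y))
  have hne : g' ≠ 0 :=
    (Algebra.IsSeparable.isSeparable K y).aeval_derivative_ne_zero (minpoly.aeval K y)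
  have hmem : ∀ w : K', IsIntegral P.O w → y₀ * w * g' ∈ Algebra.adjoin P.O ({y} : Set K') := fun w hw =>
    (Groth.Agent.Diff31.trace_dual_adjoin_iff P hy hyi _).1 fun b hb => by
      rw [mul_assoc]; exact hy₀ _ (hw.mul (adjoin_le_integralClosure hyi hb))
  have hle : ∀ a ∈ Algebra.adjoin P.O ({y} : Set K'), Q.1 a ≤ 1 := fun a ha =>
    (hF.isIntegral_iff P a).1 (adjoin_le_integralClosure hyi ha) Q ⟨e, he⟩
  refine ⟨?_, fun heq z hz => ?_⟩
  · have h := hle _ (hmem 1 isIntegral_one)
    rw [mul_one, map_mul, hy₀v, Groth.Agent.FF30.val_eq Q hne, ← WithZero.exp_add, ← WithZero.exp_zero,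
      WithZero.exp_le_exp] at h
    linarith
  · obtain ⟨ε, hε⟩ := Groth.Agent.FF30.exists_approx (hF.finite_setOf_isOver (K' := K') P).toFinset
      (fun R => if R = Q then (1 : K') else 0)
      fun R => if R = Q then -1 else -((R.ord z).natAbs : ℤ)
    have hmemT : ∀ R : FunFld.Place k K', FunFld.IsOver R P →
        R ∈ (hF.finite_setOf_isOver (K' := K') P).toFinset :=
      fun R hR => (hF.finite_setOf_isOver P).mem_toFinset.2 hR
    have hεQ : Q.1 ε = 1 := by
      have h := hε Q (hmemT Q ⟨e, he⟩)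
      simp only [if_true] at h
      rw [show ε = (ε - 1) + 1 by ring, Q.1.map_add_eq_of_lt_right, map_one]
      rw [map_one]
      exact h.trans_lt ((WithZero.exp_lt_exp.2 (by omega : (-1 : ℤ) < 0)).trans_eq WithZero.exp_zero)
    have hεR : ∀ R, FunFld.IsOver R P → R.1 ε ≤ 1 ∧ R.1 (ε * z) ≤ 1 := fun R hR => by
      by_cases hRQ : R = Q
      · subst hRQ; exact ⟨hεQ.le, by rw [map_mul, hεQ, one_mul]; exact hz⟩
      · have h := hε R (hmemT R hR)
        rw [if_neg hRQ, if_neg hRQ, sub_zero] at h
        refine ⟨h.trans ((WithZero.exp_le_exp.2 (by omega : -((R.ord z).natAbs : ℤ) ≤ 0)).trans_eq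
          WithZero.exp_zero), ?_⟩
        rw [map_mul]
        rcases eq_or_ne z 0 with rfl | hz0
        · simp
        · refine (mul_le_mul' h le_rfl).trans ?_
          rw [Groth.Agent.FF30.val_eq R hz0, ← WithZero.exp_add]
          exact (WithZero.exp_le_exp.2 (by omega)).trans_eq WithZero.exp_zero
    refine ⟨_, hmem (ε * z) ((hF.isIntegral_iff P _).2 fun R hR => (hεR R hR).2), _,
      hmem ε ((hF.isIntegral_iff P _).2 fun R hR => (hεR R hR).1), ?_, by ring⟩
    rw [map_mul, map_mul, hεQ, mul_one, hy₀v, Groth.Agent.FF30.val_eq Q hne, heq, ← WithZero.exp_add,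
      add_neg_cancel, WithZero.exp_zero]

end Groth.Agent.S12575
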