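import Groth.Statements.S12588
import Groth.Agent.Diff31.Special
import Groth.Agent.FF30.ArtinSchreier2
import Groth.Agent.FF30.Geometric
import Groth.Agent.FF30.RatPlaces

set_option autoImplicit false
set_option maxHeartbeats 1000000
universe u v w
open FunFld

namespace Groth.Agent.S12588

/-- For `k` perfect of characteristic `2`, `K` separable of degree `2` over `k(x)` with `y² + y = f(x)`,
and a place `p` of `k(x)` where `f` has a pole whose order `2d - 1` is odd: a place `P` of `K` above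
`p` with ramification index `e` (necessarily `e = 2`, `P` unique) has different exponent `d(P|p) =
2d = 1 - ord_p(f)`; the exponent is computed on `dz` through Laurent expansions over `k` at `p` and
`P`. -/
theorem result (k : Type u) (K : Type v) [Field k] [Field K] [Algebra k K] [Algebra (RatFunc k) K] [IsScalarTower k (RatFunc k) K]
    (hK : FunFld.IsFunctionField k K) (hdeg : Module.finrank (RatFunc k) K = 2) [PerfectField k] (h2 : ringChar k = 2)
    [Algebra.IsSeparable (RatFunc k) K]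
    (y : K) (hy : y ∉ Set.range (algebraMap (RatFunc k) K)) (f : RatFunc k)
    (heq : y ^ 2 + y = algebraMap (RatFunc k) K f)
    (p : FunFld.Place k (RatFunc k)) (hp : 1 < p.1 f) (hodd : Odd (p.ord f))
    (P : FunFld.Place k K) (e : ℕ) (he : FunFld.IsOverWith P p e)
    (F F' : Type w) [Field F] [Algebra k F] [Field F'] [Algebra k F']
    (φ : RatFunc k →ₐ[k] LaurentSeries F) (hφ : LocRes.IsExpansionAt p.1 φ)
    (ψ : K →ₐ[k] LaurentSeries F') (hψ : LocRes.IsExpansionAt P.1 ψ)
    (z : RatFunc k) (hz : LocRes.vDiff φ 1 z ≠ 0) (hz' : LocRes.vDiff ψ 1 (algebraMap (RatFunc k) K z) ≠ 0) :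
    LocRes.diffExp φ ψ e z = 1 - p.ord f := by
  have := Groth.Agent.FF30.finite_of_finrank_two hdeg
  have hKr : FunFld.IsFunctionField k (RatFunc k) := Groth.Agent.FF30.ratFunc_isFunctionField k
  have hgr : FunFld.IsGeometric k (RatFunc k) := Groth.Agent.FF30.isGeometric_of_closed hKr.2
  have := Groth.Agent.FF30.charP_two_ratFunc h2
  have := Groth.Agent.FF30.charP_two_top (K := K) h2
  have hneg : p.ord f < 0 := (Groth.Agent.FF30.one_lt_val_iff p).1 hp
  obtain ⟨he2, -⟩ := ((Groth.Agent.FF30.as_ramification h2 hdeg hy heq p).1 ⟨hneg, hodd⟩).2 P ⟨e, he⟩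
  obtain ⟨-, rfl⟩ := Groth.Agent.FF30.isOverWith_unique he he2
  obtain ⟨m, hm⟩ := hodd
  have hf0 : f ≠ 0 := fun h => by rw [h, Groth.Agent.FF30.ord_zero] at hneg; omega
  obtain ⟨τ, hτ0, hτ⟩ := Groth.Agent.FF30.exists_val_eq p (-1)
  set c : RatFunc k := τ ^ (-m : ℤ) with hcdef
  have hc0 : c ≠ 0 := zpow_ne_zero _ hτ0
  have hτord : p.ord τ = 1 := by rw [Groth.Agent.FF30.ord_eq_of_val_eq p hτ]; norm_num
  have hcord : p.ord c = -m := by rw [hcdef, Groth.Agent.FF30.ord_zpow, hτord, mul_one]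
  have hfP := Groth.Agent.FF30.isOverWith_ord he f
  have hcP := Groth.Agent.FF30.isOverWith_ord he c
  rw [← heq] at hfP
  rw [hcord] at hcP
  have hyneg : P.ord y < 0 := by
    by_contra hge
    have hy1 : P.1 y ≤ 1 := (Groth.Agent.FF30.val_le_one_iff P).mpr (not_lt.mp hge)
    have h3 : P.1 (y ^ 2 + y) ≤ 1 :=
      (P.1.map_add _ _).trans (max_le (by rw [map_pow]; exact pow_le_one' hy1 2) hy1)
    rw [Groth.Agent.FF30.val_le_one_iff, hfP] at h3
    push_cast at h3
    omega
  have hy0 : y ≠ 0 := fun h0 => by rw [h0, Groth.Agent.FF30.ord_zero] at hyneg; omega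
  have hsum : P.1 (y ^ 2 + y) = P.1 (y ^ 2) := P.1.map_add_eq_of_lt_left (by
    rw [Groth.Agent.FF30.val_eq P hy0, Groth.Agent.FF30.val_eq P (pow_ne_zero 2 hy0),
      Groth.Agent.FF30.ord_pow, WithZero.exp_lt_exp]
    push_cast
    omega)
  have h4 : P.ord (y ^ 2 + y) = 2 * P.ord y := by
    rw [show P.ord (y ^ 2 + y) = P.ord (y ^ 2) by simp only [FunFld.Place.ord, hsum],
      Groth.Agent.FF30.ord_pow]
    norm_num
  rw [h4] at hfP
  push_cast at hfP hcP
  set s : K := algebraMap (RatFunc k) K c * y with hsdef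
  have hs : P.1 s = WithZero.exp (-1) := by
    have hs0 : s ≠ 0 := mul_ne_zero ((map_ne_zero _).2 hc0) hy0
    rw [Groth.Agent.FF30.val_eq P hs0, hsdef, Groth.Agent.FF30.ord_mul P ((map_ne_zero _).2 hc0) hy0, hcP]
    congr 1
    omega
  have hN0 : f * c ^ 2 ≠ 0 := mul_ne_zero hf0 (pow_ne_zero 2 hc0)
  have hN : p.1 (f * c ^ 2) = WithZero.exp (-1) := by
    rw [Groth.Agent.FF30.val_eq p hN0, Groth.Agent.FF30.ord_mul p hf0 (pow_ne_zero 2 hc0),
      Groth.Agent.FF30.ord_pow, hcord]
    congr 1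
    push_cast
    omega
  have hcle : p.1 c ≤ 1 := by rw [Groth.Agent.FF30.val_le_one_iff, hcord]; omega
  let g : Polynomial (RatFunc k) := Polynomial.X ^ 2 + Polynomial.C c * Polynomial.X - Polynomial.C (f * c ^ 2)
  have hgs : Polynomial.aeval s g = 0 := by
    simp only [g, map_add, map_sub, map_mul, map_pow, Polynomial.aeval_X, Polynomial.aeval_C, hsdef]
    linear_combination (algebraMap (RatFunc k) K c) ^ 2 * heq
  have hgc : ∀ i, p.1 (g.coeff i) ≤ 1 := fun i => by
    simp only [g, Polynomial.coeff_sub, Polynomial.coeff_add, Polynomial.coeff_X_pow,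
      Polynomial.coeff_C_mul, Polynomial.coeff_X, Polynomial.coeff_C]
    refine (p.1.map_sub _ _).trans (max_le ((p.1.map_add _ _).trans (max_le ?_ ?_)) ?_)
    · split <;> simp
    · rw [map_mul]; refine mul_le_one' hcle ?_; split <;> simp
    · split
      · rw [hN]; exact (WithZero.exp_le_exp.2 (by norm_num)).trans_eq WithZero.exp_zero
      · simp
  have hg0 : p.1 (g.coeff 0) = WithZero.exp (-1) := by
    have hg00 : g.coeff 0 = -(f * c ^ 2) := by
      simp only [g, Polynomial.coeff_sub, Polynomial.coeff_add, Polynomial.coeff_X_pow, Polynomial.coeff_C_mul, Polynomial.coeff_X_zero, Polynomial.coeff_C_zero]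
      simp
    rw [hg00, Valuation.map_neg, hN]
  have hd := Groth.Agent.Diff31.val_aeval_deriv hKr hgr hφ hψ he hz hz' hs hgs hgc hg0
  have hg' : Polynomial.aeval s (Polynomial.derivative g) = algebraMap (RatFunc k) K c := by
    simp [g, Polynomial.derivative_X_pow, CharTwo.two_eq_zero, one_add_one_eq_two, Polynomial.derivative_mul, pow_two, CharTwo.add_self_eq_zero]
  rw [hg', Groth.Agent.FF30.val_eq P ((map_ne_zero _).2 hc0), hcP, WithZero.exp_inj] at hd
  omega

end Groth.Agent.S12588
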