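import Groth.Statements.S12589
import Groth.Agent.FF30.IntClosure
import Groth.Agent.FF30.Approx
import Groth.Agent.FF30.Ext

set_option autoImplicit false
universe u v
open FunFld

namespace Groth.Agent.S12589

/-- If a place `P` of a geometric function field of one variable `K/k` is nonsingular with respect to
the finite extension `k'/k` (the integral closure of `O_P` in `K' = k' ⊗_k K` is `O_P[k']`) and `Q`
is a place of `K'` above `P`, then `F_Q = k' F_P`. -/
theorem result (k k' : Type u) (K K' : Type v) [Field k] [Field k'] [Field K] [Field K']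
    [Algebra k k'] [FiniteDimensional k k'] [Algebra k K] [Algebra K K'] [Algebra k' K'] [Algebra k K']
    [IsScalarTower k k' K'] [IsScalarTower k K K']
    (h : Function.Bijective (Algebra.TensorProduct.productMap
      (IsScalarTower.toAlgHom k k' K') (IsScalarTower.toAlgHom k K K')))
    (hK : FunFld.IsFunctionField k K) (hg : FunFld.IsGeometric k K)
    (P : FunFld.Place k K) [Algebra P.O K'] [IsScalarTower P.O K K']
    (hns : (integralClosure P.O K').toSubring = (Algebra.adjoin P.O (Set.range (algebraMap k' K'))).toSubring)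
    (Q : FunFld.Place k K') [P.1.HasExtension Q.1] (hk' : ∀ c : k', Q.1 (algebraMap k' K' c) ≤ 1) :
    Algebra.adjoin (IsLocalRing.ResidueField P.O)
      (Set.range fun c : k' => IsLocalRing.residue Q.O ⟨algebraMap k' K' c, hk' c⟩) = ⊤ := by
  classical
  have hfin : FiniteDimensional K K' := by
    let b := Module.Free.chooseBasis k k'
    have := Fintype.ofFinite (Module.Free.ChooseBasisIndex k k')
    refine Module.Finite.of_surjective (Fintype.linearCombination K fun i => algebraMap k' K' (b i)) ?_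
    intro z
    obtain ⟨w, rfl⟩ := h.2 z
    induction w using TensorProduct.induction_on with
    | zero => exact ⟨0, by simp⟩
    | tmul a y =>
      refine ⟨fun i => b.repr a i • y, ?_⟩
      simp only [Fintype.linearCombination_apply, Algebra.TensorProduct.productMap_apply_tmul,
        IsScalarTower.coe_toAlgHom']
      conv_rhs => rw [← b.sum_repr a, map_sum, Finset.sum_mul]
      refine Finset.sum_congr rfl fun i _ => ?_
      rw [Algebra.smul_def (b.repr a i) y, Algebra.smul_def (b.repr a i) (b i), map_mul, Algebra.smul_def,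
        map_mul, ← IsScalarTower.algebraMap_apply k K K', ← IsScalarTower.algebraMap_apply k k' K']
      ring
    | add a c ha hc =>
      obtain ⟨x, hx⟩ := ha; obtain ⟨y, hy⟩ := hc
      exact ⟨x + y, by rw [map_add, hx, hy, map_add]⟩
  have hF : Groth.Agent.FF30.FF k K := hK.1
  obtain ⟨P', e, -, he⟩ := hF.exists_isOverWith (K' := K') Q
  have hP : P' = P := Groth.Agent.FF30.eq_of_val_le_one_imp fun x hx =>
    (Valuation.HasExtension.val_map_le_one_iff P.1 Q.1 x).1 ((Groth.Agent.FF30.isOverWith_le_one_iff he x).2 hx)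
  subst hP
  rw [eq_top_iff]
  intro r _
  obtain ⟨⟨z, hz⟩, rfl⟩ := IsLocalRing.residue_surjective r
  set T := (hF.finite_setOf_isOver (K' := K') P').toFinset
  obtain ⟨z', hz'⟩ := Groth.Agent.FF30.exists_approx T (fun R => if R = Q then z else 0) (fun _ => -1)
  have hint : ∀ R : FunFld.Place k K', FunFld.IsOver R P' → R.1 z' ≤ 1 := fun R hR => by
    have h1 := hz' R ((hF.finite_setOf_isOver P').mem_toFinset.2 hR)
    have h2 : R.1 (if R = Q then z else 0) ≤ 1 := by
      split_ifs with hR'
      · exact hR' ▸ hz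
      · simp
    rw [show z' = (z' - (if R = Q then z else 0)) + (if R = Q then z else 0) by ring]
    refine (R.1.map_add _ _).trans (max_le (h1.trans ?_) h2)
    rw [← WithZero.exp_zero, WithZero.exp_le_exp]; omega
  have hmem : z' ∈ (Algebra.adjoin P'.O (Set.range (algebraMap k' K'))).toSubring := by
    rw [← hns]; exact (hF.isIntegral_iff P' z').2 hint
  have hQ := hz' Q ((hF.finite_setOf_isOver P').mem_toFinset.2 ⟨e, he⟩)
  rw [if_pos rfl] at hQ
  have hz'1 : Q.1 z' ≤ 1 := hint Q ⟨e, he⟩
  have heq : IsLocalRing.residue Q.O ⟨z, hz⟩ = IsLocalRing.residue Q.O ⟨z', hz'1⟩ := by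
    refine (sub_eq_zero.1 ?_).symm
    rw [← map_sub, IsLocalRing.residue_eq_zero_iff]
    refine (Valuation.mem_maximalIdeal_iff (v := Q.1)).2 (lt_of_le_of_lt hQ ?_)
    rw [← WithZero.exp_zero, WithZero.exp_lt_exp]; omega
  rw [heq]
  suffices key : ∀ w ∈ Algebra.adjoin P'.O (Set.range (algebraMap k' K')), ∃ hw : Q.1 w ≤ 1,
      IsLocalRing.residue Q.O ⟨w, hw⟩ ∈ Algebra.adjoin (IsLocalRing.ResidueField P'.O)
        (Set.range fun c : k' => IsLocalRing.residue Q.O ⟨algebraMap k' K' c, hk' c⟩) by
    obtain ⟨_, hw⟩ := key z' hmem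
    exact hw
  intro w hw
  induction hw using Algebra.adjoin_induction with
  | mem x hx =>
    obtain ⟨c, rfl⟩ := hx
    exact ⟨hk' c, Algebra.subset_adjoin ⟨c, rfl⟩⟩
  | algebraMap x =>
    have hx : Q.1 (algebraMap P'.O K' x) ≤ 1 := by
      rw [Groth.Agent.FF30.algebraMap_O, Valuation.HasExtension.val_map_le_one_iff P'.1 Q.1]; exact x.2
    refine ⟨hx, ?_⟩
    have : IsLocalRing.residue Q.O ⟨algebraMap P'.O K' x, hx⟩ =
        algebraMap (IsLocalRing.ResidueField P'.O) (IsLocalRing.ResidueField Q.O) (IsLocalRing.residue P'.O x) := by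
      rw [show (⟨algebraMap P'.O K' x, hx⟩ : Q.O) = algebraMap P'.O Q.O x from
        Subtype.ext (Groth.Agent.FF30.algebraMap_O P' x)]
      rfl
    rw [this]
    exact Subalgebra.algebraMap_mem _ _
  | add a b _ _ ha hb =>
    obtain ⟨ha', ha⟩ := ha; obtain ⟨hb', hb⟩ := hb
    exact ⟨(Q.1.map_add _ _).trans (max_le ha' hb'),
      (map_add (IsLocalRing.residue Q.O) (⟨a, ha'⟩ : Q.O) ⟨b, hb'⟩).symm ▸ add_mem ha hb⟩
  | mul a b _ _ ha hb =>
    obtain ⟨ha', ha⟩ := ha; obtain ⟨hb', hb⟩ := hb
    exact ⟨by rw [map_mul]; exact mul_le_one' ha' hb',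
      (map_mul (IsLocalRing.residue Q.O) (⟨a, ha'⟩ : Q.O) ⟨b, hb'⟩).symm ▸ mul_mem ha hb⟩

end Groth.Agent.S12589
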