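import Groth.Statements.S1259
import Groth.Agent.RG29.LocalConclusion

set_option autoImplicit false
universe u
open FlatMor

namespace Groth.Agent.S1259

open TensorProduct IsLocalRing in
/-- Ring form, X = Spec S and S = Spec R affine: let S be a finite type R-algebra, N a finite S-module
and p a prime of R such that N_q is flat over R for every prime q of S over p. Then there is an
étale R-algebra R' with a prime p' over p having the same residue field such that, writing A for the
local ring of R' at p' and S_A, N_A for the base changes: there is an étale S_A-algebra C such that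
every prime of S over p is the contraction of a prime of C over the maximal ideal of A, and C ⊗ N_A
is a free A-module. -/
theorem result {R S : Type u} [CommRing R] [CommRing S] [Algebra R S] [Algebra.FiniteType R S]
    (N : Type u) [AddCommGroup N] [Module S N] [Module R N] [IsScalarTower R S N] [Module.Finite S N]
    (p : Ideal R) [p.IsPrime] (hflat : ∀ (q : Ideal S) [q.IsPrime], q.LiesOver p → FlatCA.FlatAt R q N) :
    ∃ (R' : Type u) (_ : CommRing R') (_ : Algebra R R') (p' : Ideal R') (_ : p'.IsPrime), FlatCA.IsEtaleNhd R R' p p' ∧
      ∀ (SA NA : Type u) [CommRing SA] [Algebra R SA] [Algebra S SA] [Algebra (Localization.AtPrime p') SA]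
        [IsScalarTower R S SA] [IsScalarTower R (Localization.AtPrime p') SA]
        [Algebra.IsPushout R S (Localization.AtPrime p') SA]
        [AddCommGroup NA] [Module SA NA] [Module S NA] [IsScalarTower S SA NA]
        (f : N →ₗ[S] NA), IsBaseChange SA f →
        ∃ (C : Type u) (_ : CommRing C) (_ : Algebra SA C) (_ : Algebra (Localization.AtPrime p') C)
          (_ : IsScalarTower (Localization.AtPrime p') SA C) (_ : Algebra S C) (_ : IsScalarTower S SA C),
          Algebra.Etale SA C ∧
          (∀ (q : Ideal S) [q.IsPrime], q.LiesOver p → ∃ x' : Ideal C, x'.IsPrime ∧ x'.comap (algebraMap S C) = q ∧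
            x'.LiesOver (maximalIdeal (Localization.AtPrime p'))) ∧
          Module.Free (Localization.AtPrime p') (RestrictScalars (Localization.AtPrime p') C (C ⊗[SA] NA)) := by
  obtain ⟨R', S', _, _, _, _, _, _, _, _, p', _, hn, het', hcov, hfree, hfp⟩ :=
    Groth.Agent.RG29.exists_free_cover N p hflat
  obtain ⟨het, -, -⟩ := id hn
  haveI := het; haveI := het'
  refine ⟨R', inferInstance, inferInstance, p', inferInstance, hn, ?_⟩
  intro SA NA _ _ _ _ _ _ _ _ _ _ _ f hf
  obtain ⟨C, _, _, _, tA, _, tS, hC, hfr, hfpC, hpts⟩ :=
    Groth.Agent.RG29.local_conclusion (R := R) (S' := S') p' N hfree hfp SA NA f hf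
  have hcov' : ∀ (q : Ideal S) [q.IsPrime], q.LiesOver p → ∃ x' : Ideal C, x'.IsPrime ∧
      x'.comap (algebraMap S C) = q ∧ x'.LiesOver (IsLocalRing.maximalIdeal (Localization.AtPrime p')) := by
    intro q _ hq
    obtain ⟨q', hq', hqp, hqq⟩ := hcov q hq
    haveI := hq'; haveI := hqp; haveI := hqq
    obtain ⟨x', hxp, hx, hxm, -⟩ := hpts q q'
    exact ⟨x', hxp, hx.over.symm, hxm⟩
  exact ⟨C, inferInstance, inferInstance, inferInstance, tA, inferInstance, tS, hC, hcov', hfr⟩

end Groth.Agent.S1259
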