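import Groth.Statements.S12590
import Groth.Agent.Exp31.Local

set_option autoImplicit false
universe u v w
open FunFld

namespace Groth.Agent.S12590

/-- At a place `P` of a geometric function field of one variable `K/k` and for a separating variable
`x`, the local residue `Res_P(y dx)` is nonzero for some `y`; stated at a separable place through a
Laurent expansion over `k`, with `y` found in `K` itself. (The companion assertion on the largest
finite extension of `k` inside the completion is not stated.) -/
theorem result (k : Type u) (K : Type v) [Field k] [Field K] [Algebra k K] (hK : FunFld.IsFunctionField k K) (hg : FunFld.IsGeometric k K)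
    (P : FunFld.Place k K) (F : Type w) [Field F] [Algebra k F] [FiniteDimensional k F]
    (φ : K →ₐ[k] LaurentSeries F) (hφ : LocRes.IsExpansionAt P.1 φ)
    (x : K) (hx : KaehlerDifferential.D k K x ≠ 0) :
    ∃ y : K, LocRes.locRes φ y x ≠ 0 := by
  obtain ⟨t, H, hsep, hH⟩ := Groth.Agent.Exp31.exists_hasse hK hg
  have hne := Groth.Agent.Exp31.D_ne_zero_of_kaehler hφ hH hx
  have hder := Groth.Agent.Exp31.derivation_eq_zero_coeffField (t := t) hφ hH
  have : Algebra.FormallyUnramified k F := by
    refine ⟨?_⟩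
    constructor
    have h : KaehlerDifferential.D k F = 0 := by
      ext a
      by_contra ha
      obtain ⟨l, hl⟩ := not_forall.1 fun h => ha ((Module.forall_dual_apply_eq_zero_iff F _).1 h)
      exact hl (DFunLike.congr_fun (hder (l.compDer (KaehlerDifferential.D k F))) a)
    have htop : (⊥ : Submodule F Ω[F⁄k]) = ⊤ := by
      rw [← KaehlerDifferential.span_range_derivation, eq_comm, Submodule.span_eq_bot]
      rintro _ ⟨a, rfl⟩
      rw [h]; rfl
    exact fun a b => by
      rw [(Submodule.mem_bot F).1 (htop ▸ Submodule.mem_top : a ∈ (⊥ : Submodule F Ω[F⁄k])),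
        (Submodule.mem_bot F).1 (htop ▸ Submodule.mem_top : b ∈ (⊥ : Submodule F Ω[F⁄k]))]
  have : Algebra.IsSeparable k F := Algebra.FormallyUnramified.isSeparable k F
  obtain ⟨a, ha⟩ : ∃ a : F, Algebra.trace k F a ≠ 0 := by
    by_contra h
    push Not at h
    exact Algebra.trace_ne_zero k F (LinearMap.ext h)
  obtain ⟨m, u, hu, hcoef⟩ := Groth.Agent.Exp31.exists_coeff_mul_eq hne (-1 : ℤ)
  obtain ⟨τ, hτ, -⟩ := Groth.Agent.Exp31.exists_unif hφ
  set w := φ (τ ^ (-1 - m)) with hw
  have hvw : Valued.v w = WithZero.exp (-(-1 - m)) := by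
    rw [hw, hφ.1, map_zpow₀, hτ, ← WithZero.exp_zsmul]; simp
  obtain ⟨f, hf, hfa⟩ := hφ.2.1 (a / (w.coeff (-1 - m) * u))
  have hlead := Groth.Agent.Exp31.coeff_ne_zero_of_val_eq hvw
  refine ⟨τ ^ (-1 - m) * f, ?_⟩
  have hfv : ∀ i : ℤ, i < 0 → (φ f).coeff i = 0 :=
    Groth.Agent.Exp31.val_le_iff.1 (by rwa [hφ.1, neg_zero, WithZero.exp_zero])
  have hres : LocRes.resExp φ (τ ^ (-1 - m) * f) x = a := by
    have hprod : (φ (τ ^ (-1 - m) * f)).coeff (-1 - m) = w.coeff (-1 - m) * (φ f).coeff 0 := by
      rw [map_mul, ← hw, HahnSeries.coeff_mul, Finset.sum_eq_single (-1 - m, (0 : ℤ))]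
      · rintro ⟨i, j⟩ hij hne'
        rw [Finset.mem_antidiagonal] at hij
        obtain ⟨hi, hj, hs⟩ := hij
        simp only at hs hi hj ⊢
        exfalso
        have h1 : -1 - m ≤ i := not_lt.1 fun h => hi (Groth.Agent.Exp31.val_le_iff.1 hvw.le i h)
        have h2 : 0 ≤ j := not_lt.1 fun h => hj (hfv j h)
        exact hne' (Prod.ext (by simp only; omega) (by simp only; omega))
      · intro hn
        rw [Finset.mem_antidiagonal] at hn
        by_cases h0 : (φ f).coeff 0 = 0
        · rw [h0, mul_zero]
        · exact absurd ⟨hlead, h0, add_zero _⟩ hn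
    rw [LocRes.resExp, LocRes.res_apply, hcoef, hprod, hfa]
    · field_simp
    · intro i hi
      refine Groth.Agent.Exp31.val_le_iff.1 ?_ i hi
      rw [map_mul, map_mul, ← hw, hvw, hφ.1]
      exact mul_le_of_le_one_right' hf
  rw [LocRes.locRes, hres]
  exact ha

end Groth.Agent.S12590
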