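import Groth.Statements.S12591
import Groth.Agent.Const31.FieldOfDef

set_option autoImplicit false
universe u v
open FunFld

namespace Groth.Agent.S12591

/-- Every place `P` of a geometric function field of one variable `K/k` has a splitting field of finite
degree over `k`: a finite extension `k'` such that every place of `k' ⊗_k K` above `P` has degree
one over `k'`. (The finiteness of the set of singular places and the existence of a purely
inseparable `k'` making `k' ⊗_k K` nonsingular are not stated here.) -/
theorem result (k : Type u) (K : Type v) [Field k] [Field K] [Algebra k K]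
    (hK : FunFld.IsFunctionField k K) (hg : FunFld.IsGeometric k K) (P : FunFld.Place k K) :
    ∃ (k' : Type u) (_ : Field k') (_ : Algebra k k'), FiniteDimensional k k' ∧
      ∀ (K' : Type v) [Field K'] [Algebra K K'] [Algebra k' K'] [Algebra k K']
        [IsScalarTower k k' K'] [IsScalarTower k K K'],
        Function.Bijective (Algebra.TensorProduct.productMap
          (IsScalarTower.toAlgHom k k' K') (IsScalarTower.toAlgHom k K K')) →
        ∀ Q : FunFld.Place k' K', P.1.HasExtension Q.1 → Q.deg = 1 := by
  classical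
  obtain ⟨Kb, _, _, _, _, _, _, hb⟩ := Groth.Agent.Const31.exists_scalarExt hg (AlgebraicClosure k)
  obtain ⟨k', hfin, hk'⟩ := Groth.Agent.Const31.exists_field_of_def hb hK.1
    (Groth.Agent.Const31.finite_fibre hb hK.1 P).toFinset
  refine ⟨k', inferInstance, inferInstance, hfin, ?_⟩
  intro K' _ _ _ _ _ _ h Q hext
  obtain ⟨j, hj1, hj2⟩ := Groth.Agent.Const31.exists_hom (kb := AlgebraicClosure k) (Kb := Kb) h k'.val
  let _ : Algebra K' Kb := j.toAlgebra
  have : IsScalarTower K K' Kb := IsScalarTower.of_algebraMap_eq fun x => (hj2 x).symm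
  have : IsScalarTower k' (AlgebraicClosure k) Kb := IsScalarTower.of_algebraMap_eq fun _ => rfl
  have : IsScalarTower k' K' Kb := IsScalarTower.of_algebraMap_eq fun a => (hj1 a).symm
  have ht := Groth.Agent.Const31.scalarExt_tower h hb
  obtain ⟨hK', -⟩ := Groth.Agent.FF30.scalar_extension h hK hg
  obtain ⟨Qb, hQb⟩ := Groth.Agent.Const31.exists_over ht hK'.1 Q
  have hbelP : Groth.Agent.FF30.Below Qb P := fun x => by
    rw [IsScalarTower.algebraMap_apply K K' Kb, hQb, Valuation.HasExtension.val_map_le_one_iff P.1 Q.1]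
  obtain ⟨⟨z, hz, hzv⟩, hu⟩ := hk' Qb ((Groth.Agent.Const31.finite_fibre hb hK.1 P).mem_toFinset.2 hbelP)
  have hle : Algebra.adjoin K (algebraMap (AlgebraicClosure k) Kb '' (k' : Set (AlgebraicClosure k))) ≤
      (IsScalarTower.toAlgHom K K' Kb).range := by
    refine Algebra.adjoin_le ?_
    rintro _ ⟨c, hc, rfl⟩
    exact ⟨algebraMap k' K' ⟨c, hc⟩, hj1 ⟨c, hc⟩⟩
  obtain ⟨w, hw⟩ := hle hz
  refine le_antisymm (Groth.Agent.Const31.deg_le_one_of_param ht hK' hQb (t := w)
    (by rw [show algebraMap K' Kb w = z from hw]; exact hzv) fun Q' hQ' => hu Q' fun x hx => ?_)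
    ((Groth.Agent.FF30.FF.of_isFunctionField hK').deg_pos Q)
  obtain ⟨x', rfl⟩ := hle hx
  exact (hQ' x').trans (hQb x').symm

end Groth.Agent.S12591
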