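import Groth.Statements.S12592
import Groth.Agent.Const31.Embeddings

set_option autoImplicit false
universe u v
open FunFld

namespace Groth.Agent.S12592

/-- For a nonsingular place `P` of a geometric function field of one variable `K/k` and a finite
extension `k'/k` that is a splitting field for `P`, the scalar extension `k' ⊗_k K` has exactly
`[F_P^{sep} : k]` places above `P`, each with ramification index `[F_P : F_P^{sep}]`. (Part (2), on
the scalar extension to an algebraic closure, is not stated.) -/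
theorem result (k k' : Type u) (K K' : Type v) [Field k] [Field k'] [Field K] [Field K']
    [Algebra k k'] [FiniteDimensional k k'] [Algebra k K] [Algebra K K'] [Algebra k' K'] [Algebra k K']
    [IsScalarTower k k' K'] [IsScalarTower k K K']
    (h : Function.Bijective (Algebra.TensorProduct.productMap
      (IsScalarTower.toAlgHom k k' K') (IsScalarTower.toAlgHom k K K')))
    (hK : FunFld.IsFunctionField k K) (hg : FunFld.IsGeometric k K) (P : FunFld.Place k K)
    (hns : ∀ (k'' : Type u) [Field k''] [Algebra k k''] [FiniteDimensional k k'']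
      (K'' : Type v) [Field K''] [Algebra K K''] [Algebra k'' K''] [Algebra k K'']
      [IsScalarTower k k'' K''] [IsScalarTower k K K''],
      Function.Bijective (Algebra.TensorProduct.productMap
        (IsScalarTower.toAlgHom k k'' K'') (IsScalarTower.toAlgHom k K K'')) →
      integralClosure (P.O.toSubring.map (algebraMap K K'')) K'' =
        Algebra.adjoin (P.O.toSubring.map (algebraMap K K'')) (Set.range (algebraMap k'' K'')))
    (hsplit : ∀ Q : FunFld.Place k' K', (∃ e : ℕ, ∀ z : K, Q.1 (algebraMap K K' z) = P.1 z ^ e) → Q.deg = 1) :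
    {Q : FunFld.Place k' K' | ∃ e : ℕ, ∀ z : K, Q.1 (algebraMap K K' z) = P.1 z ^ e}.Finite ∧
    {Q : FunFld.Place k' K' | ∃ e : ℕ, ∀ z : K, Q.1 (algebraMap K K' z) = P.1 z ^ e}.ncard =
      Field.finSepDegree k (IsLocalRing.ResidueField P.O) ∧
    ∀ Q : FunFld.Place k' K', (∃ e : ℕ, ∀ z : K, Q.1 (algebraMap K K' z) = P.1 z ^ e) →
      ∀ z : K, Q.1 (algebraMap K K' z) = P.1 z ^ Module.finrank (separableClosure k (IsLocalRing.ResidueField P.O)) (IsLocalRing.ResidueField P.O) := by
  classical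
  have hF : Groth.Agent.FF30.FF k K := hK.1
  set κ := IsLocalRing.ResidueField P.O
  have hmod : (IsLocalRing.instModuleResidueFieldOfAlgebra P.O : Module k κ) = Algebra.toModule :=
    Module.ext' _ _ fun c r => (Groth.Agent.FF30.residue_smul_eq_mul P c r).trans (Algebra.smul_def c r).symm
  have hfinκ : @Module.Finite k κ _ _ Algebra.toModule := hmod ▸ hF.finite_residueField P
  have halg : Algebra.IsAlgebraic k κ := ⟨fun r => (hF.isIntegral_residue P r).isAlgebraic⟩
  let kb := AlgebraicClosure k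
  obtain ⟨Kb, _, _, _, _, _, _, hb⟩ := Groth.Agent.Const31.exists_scalarExt hg kb
  let ι : k' →ₐ[k] kb := IsAlgClosed.lift
  let _ : Algebra k' kb := ι.toRingHom.toAlgebra
  have : IsScalarTower k k' kb := IsScalarTower.of_algebraMap_eq fun c => (ι.commutes c).symm
  obtain ⟨j, hj1, hj2⟩ := Groth.Agent.Const31.exists_hom (kb := kb) (Kb := Kb) h ι
  let _ : Algebra K' Kb := j.toAlgebra
  have : IsScalarTower K K' Kb := IsScalarTower.of_algebraMap_eq fun x => (hj2 x).symm
  let _ : Algebra k' Kb := ((algebraMap kb Kb).comp ι.toRingHom).toAlgebra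
  have : IsScalarTower k' kb Kb := IsScalarTower.of_algebraMap_eq fun _ => rfl
  have : IsScalarTower k' K' Kb := IsScalarTower.of_algebraMap_eq fun a => (hj1 a).symm
  have ht := Groth.Agent.Const31.scalarExt_tower h hb
  obtain ⟨hK', -⟩ := Groth.Agent.FF30.scalar_extension h hK hg
  have hF' : Groth.Agent.FF30.FF k' K' := hK'.1
  -- the places of the algebraic closure
  obtain ⟨e, he0, hall⟩ := Groth.Agent.Const31.exists_all_embeddings hb hF P
  choose G hGe hGr using hall
  have hGbel : ∀ ψ, Groth.Agent.FF30.Below (G ψ) P := fun ψ => Groth.Agent.Const31.below_of_pow he0 (hGe ψ)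
  have hGsurj : ∀ Qb : FunFld.Place kb Kb, Groth.Agent.FF30.Below Qb P → ∃ ψ, G ψ = Qb := fun Qb hQb => by
    obtain ⟨ψ, hψ⟩ := Groth.Agent.Const31.exists_residueMap hb hF hQb
    exact ⟨ψ, Groth.Agent.Const31.residueMap_injective hb hF hg hns (hGbel ψ) hQb (hGr ψ) hψ⟩
  have hGinj : Function.Injective G := fun a b hab =>
    Groth.Agent.Const31.IsResidueMap.unique (Qb := G b) (hab ▸ hGr a) (hGr b)
  let _ := Fintype.ofFinite (κ →ₐ[k] kb)
  have hfib : (Groth.Agent.Const31.finite_fibre hb hF P).toFinset = Finset.univ.image G := by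
    ext Qb
    simp only [Set.Finite.mem_toFinset, Set.mem_setOf_eq, Finset.mem_image, Finset.mem_univ, true_and]
    exact ⟨hGsurj Qb, fun ⟨ψ, hψ⟩ => hψ ▸ hGbel ψ⟩
  have hsum := Groth.Agent.Const31.sum_exp_eq_deg hb hF P (fun _ => e) (fun Qb hQb => by
    obtain ⟨ψ, rfl⟩ := hGsurj Qb hQb
    exact hGe ψ)
  rw [hfib, Finset.sum_const, smul_eq_mul, Finset.card_image_of_injective _ hGinj, Finset.card_univ,
    ← Nat.card_eq_fintype_card] at hsum
  have hn : Field.finSepDegree k κ = Nat.card (κ →ₐ[k] kb) := Field.finSepDegree_eq_of_isAlgClosed k κ kb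
  have hdegP : P.deg = Module.finrank k κ := by
    change @Module.finrank k κ _ _ (IsLocalRing.instModuleResidueFieldOfAlgebra P.O) = _
    rw [hmod]
  have hmul : Nat.card (κ →ₐ[k] kb) * Field.finInsepDegree k κ = Nat.card (κ →ₐ[k] kb) * e := by
    rw [hsum, ← hn, hdegP]
    exact Field.finSepDegree_mul_finInsepDegree k κ
  have hnpos : Nat.card (κ →ₐ[k] kb) ≠ 0 := fun h0 => by
    rw [h0, zero_mul] at hsum
    have := hF.deg_pos P
    omega
  have heins : e = Module.finrank (separableClosure k κ) κ := (Nat.eq_of_mul_eq_mul_left (by omega) hmul).symm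
  -- restriction to `K'`
  choose Φ hΦ using fun ψ => Groth.Agent.Const31.exists_below ht hF' (G ψ)
  set Sset := {Q : FunFld.Place k' K' | ∃ e : ℕ, ∀ z : K, Q.1 (algebraMap K K' z) = P.1 z ^ e}
  have hbelK : ∀ (Q : FunFld.Place k' K'), Q ∈ Sset ↔ Groth.Agent.FF30.Below Q P := fun Q =>
    ⟨fun ⟨e', he'⟩ => Groth.Agent.Const31.below_of_pow (Groth.Agent.Const31.pos_of_pow h he') he',
      fun hQ => let ⟨e', _, he'⟩ := Groth.Agent.Const31.exists_pow_of_below hQ; ⟨e', he'⟩⟩
  have hΦP : ∀ ψ, Groth.Agent.FF30.Below (Φ ψ) P := fun ψ x => by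
    rw [← hΦ ψ, ← IsScalarTower.algebraMap_apply K K' Kb]; exact hGbel ψ x
  have hΦdeg : ∀ ψ, (Φ ψ).deg = 1 := fun ψ => hsplit _ ((hbelK _).2 (hΦP ψ))
  have hconst : ∀ ψ (o : P.O), ∃ c : k', (Φ ψ).1 (algebraMap K K' (o : K) - algebraMap k' K' c) < 1 := by
    intro ψ o
    set Q := Φ ψ
    have : Module.Finite k' (IsLocalRing.ResidueField Q.O) := hF'.finite_residueField Q
    have h1 : Module.finrank k' (IsLocalRing.ResidueField Q.O) = 1 := hΦdeg ψ
    have hmem : Q.1 (algebraMap K K' (o : K)) ≤ 1 := (hΦP ψ _).2 o.2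
    obtain ⟨c, hc⟩ := (finrank_eq_one_iff_of_nonzero' (1 : IsLocalRing.ResidueField Q.O) one_ne_zero).1 h1
      (IsLocalRing.residue Q.O ⟨_, hmem⟩)
    refine ⟨c, ?_⟩
    have h2 : IsLocalRing.residue Q.O (⟨_, hmem⟩ - algebraMap k' Q.O c) = 0 := by
      rw [map_sub, ← hc, sub_eq_zero]
      exact (Groth.Agent.FF30.residue_smul_eq_mul Q c 1).trans (mul_one _)
    rw [IsLocalRing.residue_eq_zero_iff] at h2
    exact (Valuation.mem_maximalIdeal_iff (v := Q.1)).1 h2
  have hΦinj : Function.Injective Φ := by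
    intro a b hab
    refine AlgHom.ext fun r => ?_
    obtain ⟨o, rfl⟩ := IsLocalRing.residue_surjective r
    obtain ⟨c, hc⟩ := hconst a o
    have key : ∀ ψ, Φ ψ = Φ a → ψ (IsLocalRing.residue P.O o) = ι c := fun ψ hψ => by
      refine Groth.Agent.Const31.const_unique' (hGr ψ o) ?_
      have h1 := ((hΦ ψ).lt_iff _).2 (hψ ▸ hc)
      rwa [map_sub, ← IsScalarTower.algebraMap_apply K K' Kb, ← IsScalarTower.algebraMap_apply k' K' Kb] at h1
    rw [key a rfl, key b hab.symm]
  have hset : Sset = Set.range Φ := by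
    ext Q
    rw [hbelK]
    refine ⟨fun hQ => ?_, fun ⟨ψ, hψ⟩ => hψ ▸ hΦP ψ⟩
    obtain ⟨Qb, hQb⟩ := Groth.Agent.Const31.exists_over ht hF' Q
    obtain ⟨ψ, rfl⟩ := hGsurj Qb fun x => by
      rw [IsScalarTower.algebraMap_apply K K' Kb, hQb, hQ]
    exact ⟨ψ, (hΦ ψ).unique hQb⟩
  refine ⟨hset ▸ Set.finite_range Φ, ?_, fun Q hQ => ?_⟩
  · change Sset.ncard = _
    rw [hset, Set.ncard_range_of_injective hΦinj, ← hn]
  obtain ⟨ψ, rfl⟩ : Q ∈ Set.range Φ := hset ▸ hQ
  obtain ⟨f, hf0, hf⟩ := Groth.Agent.Const31.exists_pow_of_below (hΦ ψ)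
  have honly : (Groth.Agent.Const31.finite_fibre ht hF' (Φ ψ)).toFinset = {G ψ} := by
    ext Qb
    simp only [Set.Finite.mem_toFinset, Set.mem_setOf_eq, Finset.mem_singleton]
    refine ⟨fun hQb => ?_, fun h => h ▸ hΦ ψ⟩
    obtain ⟨ψ', rfl⟩ := hGsurj Qb fun x => by
      rw [IsScalarTower.algebraMap_apply K K' Kb, hQb, hΦP ψ]
    rw [hΦinj ((hΦ ψ').unique hQb)]
  have hf1 := Groth.Agent.Const31.sum_exp_eq_deg ht hF' (Φ ψ) (fun _ => f) (fun Qb hQb => by
    have h1 : Qb ∈ (Groth.Agent.Const31.finite_fibre ht hF' (Φ ψ)).toFinset :=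
      (Groth.Agent.Const31.finite_fibre ht hF' (Φ ψ)).mem_toFinset.2 hQb
    rw [honly, Finset.mem_singleton] at h1
    exact h1 ▸ hf)
  rw [honly, Finset.sum_singleton, hΦdeg ψ] at hf1
  subst hf1
  intro z
  have h1 := hf (algebraMap K K' z)
  rw [pow_one, ← IsScalarTower.algebraMap_apply K K' Kb, hGe ψ z] at h1
  rw [← h1, heins]

end Groth.Agent.S12592
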