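import Groth.Statements.S12593
import Groth.Agent.Const31.FieldOfDef

set_option autoImplicit false
universe u v
open FunFld

namespace Groth.Agent.S12593

/-- Every divisor of `K̄ = k̄ ⊗_k K`, for a geometric function field of one variable `K/k`, is defined
over a finite extension `k'` of `k`; stated for a single place `Q` of `K̄/k̄`: for some finite `k' ⊆
k̄`, the field `K' = k'K ⊆ K̄` contains a local parameter at `Q` and `Q` is the only place of `K̄`
above its restriction to `K'` (so `Q` is the conorm of the point `Q ∩ K'`). -/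
theorem result (k kbar : Type u) (K Kbar : Type v) [Field k] [Field kbar] [Field K] [Field Kbar]
    [Algebra k kbar] [IsAlgClosure k kbar] [Algebra k K] [Algebra K Kbar] [Algebra kbar Kbar] [Algebra k Kbar]
    [IsScalarTower k kbar Kbar] [IsScalarTower k K Kbar]
    (h : Function.Bijective (Algebra.TensorProduct.productMap
      (IsScalarTower.toAlgHom k kbar Kbar) (IsScalarTower.toAlgHom k K Kbar)))
    (hK : FunFld.IsFunctionField k K) (hg : FunFld.IsGeometric k K) (Q : FunFld.Place kbar Kbar) :
    ∃ k' : IntermediateField k kbar, FiniteDimensional k k' ∧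
      (∃ z ∈ Algebra.adjoin K (Set.range fun c : k' => algebraMap kbar Kbar c), Q.1 z = WithZero.exp (-1)) ∧
      ∀ Q' : FunFld.Place kbar Kbar,
        (∃ e : ℕ, ∀ z ∈ Algebra.adjoin K (Set.range fun c : k' => algebraMap kbar Kbar c), Q'.1 z = Q.1 z ^ e) → Q' = Q := by
  have : Algebra.IsAlgebraic k kbar := IsAlgClosure.isAlgebraic
  obtain ⟨k', hfin, hk'⟩ := Groth.Agent.Const31.exists_field_of_def h hK.1 {Q}
  obtain ⟨hz, hu⟩ := hk' Q (Finset.mem_singleton_self Q)
  refine ⟨k', hfin, ?_⟩
  rw [Groth.Agent.Const31.range_coe]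
  refine ⟨hz, fun Q' ⟨e, he⟩ => hu Q' fun z hz' => ?_⟩
  have he0 : e ≠ 0 := by
    rintro rfl
    have hall : ∀ w : Kbar, Q'.1 w ≤ 1 := by
      intro w
      have hw : w ∈ Algebra.adjoin K (Set.range (algebraMap kbar Kbar)) :=
        Groth.Agent.Const31.gen h ▸ Algebra.mem_top
      induction hw using Algebra.adjoin_induction with
      | mem x hx => obtain ⟨a, rfl⟩ := hx; exact Q'.2.1 a
      | algebraMap x => rw [he _ (Subalgebra.algebraMap_mem _ x), pow_zero]
      | add a b _ _ ha hb => exact (Q'.1.map_add a b).trans (max_le ha hb)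
      | mul a b _ _ ha hb => rw [map_mul]; exact mul_le_one' ha hb
    obtain ⟨v, hv⟩ := Q'.2.2 (WithZero.exp 1)
    have := hall v
    rw [hv, ← WithZero.exp_zero, WithZero.exp_le_exp] at this
    omega
  rw [he z hz', pow_le_one_iff_of_nonneg zero_le he0]

end Groth.Agent.S12593
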