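import Groth.Statements.S12595
import Groth.Agent.SV31.Orders

set_option autoImplicit false
open FunFld

namespace Groth.Agent.S12595

/-- Over an algebraically closed constant field, let `φ` be a birational projective map of the function
field `K` (the ratios `φ i / φ 0` generate `K`), `τ` a `k`-endomorphism of `K` and `H` a total Hasse
derivative. Then the first `τ`-order of `φ` is positive — the column `φ` of `0`-th Hasse derivatives
lies in the `K`-span of the leading column `τ(φ)` — exactly when `τ` is the identity. -/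
theorem result
    (k K : Type*) [Field k] [IsAlgClosed k] [Field K] [Algebra k K]
    (hK : FunFld.IsFunctionField k K) {n : ℕ} (φ : Fin (n + 1) → K) (h0 : φ 0 ≠ 0)
    (hbir : IntermediateField.adjoin k (Set.range fun i => φ i / φ 0) = ⊤)
    (τ : K →ₐ[k] K) (s : K) (H : K →ₐ[k] PowerSeries K) (hH : LocRes.IsHasseFamily s H) :
    ¬ FunFld.IsJump K (FunFld.hcol τ H φ) 1 ↔ τ = AlgHom.id k K := by
  rw [Groth.Agent.SV31.not_isJump_iff, Groth.Agent.SV31.below, show Set.Iio 1 = ({0} : Set ℕ) by ext; simp, Set.image_singleton,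
    Submodule.mem_span_singleton, Groth.Agent.SV31.hcol_one hH]
  refine ⟨fun ⟨c, hc⟩ => ?_, fun h => ⟨1, by subst h; funext i; simp [hcol]⟩⟩
  have hc' : ∀ i, c * τ (φ i) = φ i := fun i => congrFun hc i
  have hc0 : c ≠ 0 := fun h => h0 (by rw [← hc' 0, h, zero_mul])
  ext z
  have hz : z ∈ IntermediateField.adjoin k (Set.range fun i => φ i / φ 0) := hbir ▸ IntermediateField.mem_top
  induction hz using IntermediateField.adjoin_induction with
  | mem w hw =>
    obtain ⟨i, rfl⟩ := hw
    show τ (φ i / φ 0) = φ i / φ 0
    conv_rhs => rw [← hc' i, ← hc' 0, mul_div_mul_left _ _ hc0]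
    exact map_div₀ τ _ _
  | algebraMap a => exact τ.commutes a
  | add a b _ _ ha hb => rw [map_add, map_add, ha, hb]
  | inv a _ ha => rw [map_inv₀, map_inv₀, ha]
  | mul a b _ _ ha hb => rw [map_mul, map_mul, ha, hb]

end Groth.Agent.S12595
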