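import Groth.Statements.S12596
import Groth.Agent.SV31.Orders

set_option autoImplicit false
open FunFld

namespace Groth.Agent.S12596

/-- Over an algebraically closed constant field, replacing a projective map `φ` by `Aφ` for an
invertible matrix `A` over `k` does not change the `τ`-order sequence, and multiplies every
generalized Wronskian determinant `det [τ(φ) | D^(I₁) φ | ⋯ | D^(Iₙ) φ]` (Hasse derivatives taken
with `H`) by `det A`. -/
theorem result
    (k K : Type*) [Field k] [IsAlgClosed k] [Field K] [Algebra k K]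
    (hK : FunFld.IsFunctionField k K) {n : ℕ} (φ : Fin (n + 1) → K) (hφ : LinearIndependent k φ)
    (τ : K →ₐ[k] K) (s : K) (H : K →ₐ[k] PowerSeries K) (hH : LocRes.IsHasseFamily s H)
    (A : Matrix (Fin (n + 1)) (Fin (n + 1)) k) (hA : A.det ≠ 0)
    (φ' : Fin (n + 1) → K) (hφ' : ∀ i, φ' i = ∑ j, A i j • φ j) :
    (∀ J : Fin n → ℕ, FunFld.IsOrders K (FunFld.hcol τ H φ') J ↔ FunFld.IsOrders K (FunFld.hcol τ H φ) J) ∧
    ∀ I : Fin n → ℕ, (FunFld.wrMat τ H φ' I).det = algebraMap k K A.det * (FunFld.wrMat τ H φ I).det := by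
  refine ⟨fun J => Groth.Agent.SV31.isOrders_congr (fun j => ?_) J, fun I => Groth.Agent.SV31.wrMat_det_change τ H A hφ' I⟩
  let f : (Fin (n + 1) → K) →ₗ[K] (Fin (n + 1) → K) := Matrix.mulVecLin (A.map (algebraMap k K))
  have hinj : Function.Injective f := by
    refine Matrix.mulVec_injective_iff_isUnit.2 ?_
    rw [Matrix.isUnit_iff_isUnit_det, ← RingHom.mapMatrix_apply, ← RingHom.map_det, isUnit_iff_ne_zero]
    exact (map_ne_zero _).2 hA
  have hcol' : hcol τ H φ' = fun i => f (hcol τ H φ i) := by
    funext c i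
    cases c with
    | zero => simp [f, hcol, hφ', Matrix.mulVec, dotProduct, Algebra.smul_def]
    | succ c =>
      simp only [f, hcol, hφ', LocRes.hasseD_apply, map_sum, Matrix.mulVecLin_apply, Matrix.mulVec,
        dotProduct, Matrix.map_apply]
      refine Finset.sum_congr rfl fun j _ => ?_
      rw [map_smul, Algebra.smul_def, PowerSeries.algebraMap_apply, PowerSeries.coeff_C_mul]
  rw [hcol', Groth.Agent.SV31.isJump_map f hinj]

end Groth.Agent.S12596
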