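import Groth.Statements.S12599
import Groth.Agent.SV31.Orders

set_option autoImplicit false
open FunFld

namespace Groth.Agent.S12599

/-- Over an algebraically closed constant field, for a place `P` with local parameter `t`, and a
linearly independent tuple `φ = (φ₀, …, φₙ)` of functions integral at `P`, the matrix of values at
`P` of the Hasse derivatives `D_t^(j)(φᵢ)`, `j = 0, 1, …`, has rank `n + 1`: its rows are linearly
independent over the residue field. -/
theorem result
    (k K : Type*) [Field k] [IsAlgClosed k] [Field K] [Algebra k K]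
    (hK : FunFld.IsFunctionField k K) {n : ℕ} (φ : Fin (n + 1) → K) (hφ : LinearIndependent k φ)
    (P : FunFld.Place k K) (hint : ∀ i, P.1 (φ i) ≤ 1) (t : K) (ht : P.1 t = WithZero.exp (-1))
    (Ht : K →ₐ[k] PowerSeries K) (hHt : LocRes.IsHasseFamily t Ht) :
    LinearIndependent (IsLocalRing.ResidueField P.O)
      (fun i : Fin (n + 1) => fun j : ℕ => FunFld.evalP P (LocRes.hasseD Ht j (φ i))) := by
  obtain ⟨ψ, h⟩ := Groth.Agent.SV31.exists_localData hK ht hHt
  rw [Fintype.linearIndependent_iff]
  intro r hr i
  have hb := Groth.Agent.SV31.IsLocalData.residue_bijective hK P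
  choose a ha using fun i => hb.2 (r i)
  have hsum : ∑ i, a i • φ i = 0 := by
    apply ψ.toRingHom.injective
    show ψ _ = ψ 0
    rw [map_zero]
    refine HahnSeries.ext (funext fun m => ?_)
    rw [Groth.Agent.SV31.coeff_sum, HahnSeries.coeff_zero]
    rcases lt_or_ge m 0 with hneg | hpos
    · exact Finset.sum_eq_zero fun i _ => by
        rw [h.coeff_eq_zero (e := 0) (by simpa using hint i) hneg, mul_zero]
    · lift m to ℕ using hpos
      apply hb.1
      rw [map_zero, map_sum]
      have := congrFun hr m
      simp only [Finset.sum_apply, Pi.smul_apply, smul_eq_mul, Pi.zero_apply] at this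
      rw [← this]
      refine Finset.sum_congr rfl fun i _ => ?_
      rw [map_mul, ha, h.evalP_eq (h.deriv_integral (hint i) m), h.deriv_coeff_zero]
  rw [← ha i, Fintype.linearIndependent_iff.1 hφ a hsum i, map_zero]

end Groth.Agent.S12599
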