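import Groth.Statements.S12602
import Groth.Agent.SV31.Orders

set_option autoImplicit false
open FunFld

namespace Groth.Agent.S12602

/-- Over an algebraically closed constant field, for a birational projective map `φ = (φ₀, …, φₙ)`, `n ≥
1`, with orders `j₁ < ⋯ < jₙ`, and `τ ≠ 1`, the `τ`-orders of `φ` are `(0, j₁, …, j_{m-1}, j_{m+1},
…, jₙ)` for some `m`: the jump indices of `[τ(φ) | D^(0) φ | D^(1) φ | ⋯]` after the leading column
are `0` and the `jₗ` with `l ≠ m`. -/
theorem result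
    (k K : Type*) [Field k] [IsAlgClosed k] [Field K] [Algebra k K]
    (hK : FunFld.IsFunctionField k K) {n : ℕ} (hn : 0 < n) (φ : Fin (n + 1) → K) (hφ : LinearIndependent k φ)
    (h0 : φ 0 ≠ 0) (hbir : IntermediateField.adjoin k (Set.range fun i => φ i / φ 0) = ⊤)
    (τ : K →ₐ[k] K) (hτ : τ ≠ AlgHom.id k K) (s : K) (H : K →ₐ[k] PowerSeries K) (hH : LocRes.IsHasseFamily s H)
    (J : Fin n → ℕ) (hJ : FunFld.IsOrders K (FunFld.hcol (AlgHom.id k K) H φ) J) :
    ∃ m : Fin n, ∀ j : ℕ,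
      FunFld.IsJump K (FunFld.hcol τ H φ) (j + 1) ↔ (j = 0 ∨ ∃ l, l ≠ m ∧ J l = j) := by
  classical
  have hfst : FunFld.IsJump K (FunFld.hcol τ H φ) 1 := by
    by_contra hc
    refine hτ ?_
    have hc' := (Groth.Agent.SV31.not_isJump_iff.1 hc)
    rw [Groth.Agent.SV31.below, show Set.Iio 1 = ({0} : Set ℕ) by ext; simp, Set.image_singleton,
      Submodule.mem_span_singleton, Groth.Agent.SV31.hcol_one hH] at hc'
    obtain ⟨c, hc⟩ := hc'
    have hc' : ∀ i, c * τ (φ i) = φ i := fun i => congrFun hc i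
    have hc0 : c ≠ 0 := fun h => h0 (by rw [← hc' 0, h, zero_mul])
    ext z
    have hz : z ∈ IntermediateField.adjoin k (Set.range fun i => φ i / φ 0) := hbir ▸ IntermediateField.mem_top
    induction hz using IntermediateField.adjoin_induction with
    | mem w hw =>
      obtain ⟨i, rfl⟩ := hw
      show τ (φ i / φ 0) = φ i / φ 0
      conv_rhs => rw [← hc' i, ← hc' 0, mul_div_mul_left _ _ hc0]
      exact map_div₀ τ _ _
    | algebraMap a => exact τ.commutes a
    | add a b _ _ ha hb => rw [map_add, map_add, ha, hb]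
    | inv a _ ha => rw [map_inv₀, map_inv₀, ha]
    | mul a b _ _ ha hb => rw [map_mul, map_mul, ha, hb]
  obtain ⟨I, hI⟩ := Groth.Agent.SV31.exists_orders hK hφ τ hH
  have h01 : FunFld.hcol (AlgHom.id k K) H φ 0 = FunFld.hcol τ H φ 1 := (Groth.Agent.SV31.hcol_one hH τ φ).symm
  -- a `τ`-jump after the first derivative column is a jump for the identity
  have hsub : ∀ j, FunFld.IsJump K (FunFld.hcol τ H φ) (j + 2) →
      FunFld.IsJump K (FunFld.hcol (AlgHom.id k K) H φ) (j + 2) := by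
    intro j hj hmem
    refine hj (Submodule.span_le.2 ?_ hmem)
    rintro _ ⟨i, hi, rfl⟩
    simp only [Set.mem_Iio] at hi
    cases i with
    | zero => rw [h01]; exact Groth.Agent.SV31.mem_below_of_lt (by omega)
    | succ i => exact Groth.Agent.SV31.mem_below_of_lt (c := FunFld.hcol τ H φ) (i := i + 1) (by omega)
  have hI0 : I ⟨0, hn⟩ = 0 := by
    obtain ⟨l, hl⟩ := (hI.2 0).2 hfst
    exact Nat.le_zero.1 ((hI.1.monotone (show (⟨0, hn⟩ : Fin n) ≤ l from Nat.zero_le _)).trans hl.le)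
  have hIJ : ∀ l, I l ≠ 0 → ∃ l', J l' = I l := fun l hl => by
    obtain ⟨j, hj⟩ := Nat.exists_eq_succ_of_ne_zero hl
    have h1 := (hI.2 (I l)).1 ⟨l, rfl⟩
    rw [hj] at h1 ⊢
    exact (hJ.2 (j + 1)).2 (hsub j h1)
  have hJpos : ∀ l, J l ≠ 0 := fun l h => by
    have h1 := (hJ.2 0).1 ⟨l, h⟩
    refine h1 ?_
    rw [Groth.Agent.SV31.hcol_one hH]
    exact Groth.Agent.SV31.mem_below_of_lt (c := FunFld.hcol (AlgHom.id k K) H φ) (i := 0) (by omega)
  set S := Finset.univ.image J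
  set T := (Finset.univ.image I).erase 0
  have hTS : T ⊆ S := fun j hj => by
    simp only [T, Finset.mem_erase, Finset.mem_image, Finset.mem_univ, true_and] at hj
    obtain ⟨hj0, l, rfl⟩ := hj
    obtain ⟨l', hl'⟩ := hIJ l hj0
    exact Finset.mem_image.2 ⟨l', Finset.mem_univ _, hl'⟩
  have hScard : S.card = n := by rw [Finset.card_image_of_injective _ hJ.1.injective]; simp
  have hTcard : T.card = n - 1 := by
    rw [Finset.card_erase_of_mem (Finset.mem_image.2 ⟨⟨0, hn⟩, Finset.mem_univ _, hI0⟩),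
      Finset.card_image_of_injective _ hI.1.injective]
    simp
  obtain ⟨a, ha⟩ : ∃ a, S \ T = {a} := Finset.card_eq_one.1 (by
    rw [Finset.card_sdiff_of_subset hTS, hScard, hTcard]; omega)
  have haS : a ∈ S ∧ a ∉ T := Finset.mem_sdiff.1 (by rw [ha]; exact Finset.mem_singleton_self a)
  obtain ⟨m, -, hm⟩ := Finset.mem_image.1 haS.1
  refine ⟨m, fun j => ⟨fun hj => ?_, fun hj => ?_⟩⟩
  · obtain ⟨l, rfl⟩ := (hI.2 j).2 hj
    rcases eq_or_ne (I l) 0 with h | h
    · exact Or.inl h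
    · obtain ⟨l', hl'⟩ := hIJ l h
      refine Or.inr ⟨l', ?_, hl'⟩
      rintro rfl
      exact haS.2 (Finset.mem_erase.2 ⟨hm ▸ hJpos _, Finset.mem_image.2 ⟨l, Finset.mem_univ _, hl'.symm.trans hm⟩⟩)
  · rcases hj with rfl | ⟨l, hl, rfl⟩
    · exact hfst
    · refine (hI.2 _).1 ?_
      have : J l ∈ T := by
        by_contra hnot
        have : J l ∈ S \ T := Finset.mem_sdiff.2 ⟨Finset.mem_image.2 ⟨l, Finset.mem_univ _, rfl⟩, hnot⟩
        rw [ha, Finset.mem_singleton, ← hm] at this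
        exact hl (hJ.1.injective this)
      obtain ⟨l', -, hl'⟩ := Finset.mem_image.1 (Finset.mem_of_mem_erase this)
      exact ⟨l', hl'⟩

end Groth.Agent.S12602
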