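import Groth.Statements.S12607
import Groth.Agent.SV31.Orders

set_option autoImplicit false
open FunFld

namespace Groth.Agent.S12607

/-- Over an algebraically closed constant field, let `φ = (φ₀, …, φₙ)` be an effective projective map
normalized at the place `P`, `t` a local parameter at `P` and `j'₁ < ⋯ < j'ₙ` the orders of `φ` at
`P`, `j'₀ = 0`. Then the span of `φ` has a basis `φ'₀, …, φ'ₙ` with `φ'ₗ = t^(j'ₗ) · (1 + higher
order terms)` at `P`; in particular `j` is one of the `j'ₗ` exactly when some function in the span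
of `φ` has order `j` at `P`. -/
theorem result
    (k K : Type*) [Field k] [IsAlgClosed k] [Field K] [Algebra k K]
    (hK : FunFld.IsFunctionField k K) (P : FunFld.Place k K) {n : ℕ} (φ : Fin (n + 1) → K) (hφ : LinearIndependent k φ)
    (heff : (1 : K) ∈ Submodule.span k (Set.range φ)) (hnorm : ∀ i, P.1 (φ i) ≤ 1)
    (t : K) (ht : P.1 t = WithZero.exp (-1))
    (Ht : K →ₐ[k] PowerSeries K) (hHt : LocRes.IsHasseFamily t Ht)
    (J' : Fin n → ℕ) (hJ' : FunFld.IsOrders (IsLocalRing.ResidueField P.O) (FunFld.hcolAt P Ht φ) J') :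
    (∃ φ' : Fin (n + 1) → K,
      Submodule.span k (Set.range φ') = Submodule.span k (Set.range φ) ∧
      P.1 (φ' 0) = 1 ∧ FunFld.evalP P (φ' 0) = 1 ∧
      ∀ l : Fin n, P.1 (φ' l.succ) = WithZero.exp (-(J' l : ℤ)) ∧
        FunFld.evalP P (φ' l.succ / t ^ J' l) = 1) ∧
    ∀ j : ℕ, (j = 0 ∨ j ∈ Set.range J') ↔
      ∃ f ∈ Submodule.span k (Set.range φ), P.1 f = WithZero.exp (-(j : ℤ)) := by
  obtain ⟨ψ, h⟩ := Groth.Agent.SV31.exists_localData hK ht hHt
  have hJ := (Groth.Agent.SV31.isOrders_hcolAt hK h hnorm J').1 hJ'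
  obtain ⟨φ', -, hspan, h0, hlead, hpos⟩ := Groth.Agent.SV31.exists_adapted_basis h hnorm heff hJ
  have ht0 : t ≠ 0 := fun h0 => by rw [h0, map_zero] at ht; exact WithZero.exp_ne_zero ht.symm
  refine ⟨⟨φ', hspan, by simp [h0], by rw [h0, h.evalP_eq (by simp)]; simp, fun l => ⟨(hlead l).1, ?_⟩⟩,
    fun j => ⟨fun hj => ?_, fun hj => ?_⟩⟩
  · have hle : P.1 (φ' l.succ / t ^ J' l) ≤ 1 := by
      rw [map_div₀, map_pow, ht, (hlead l).1, ← WithZero.exp_nsmul, ← WithZero.exp_sub, ← WithZero.exp_zero,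
        WithZero.exp_le_exp]
      simp
    rw [h.evalP_eq hle, map_div₀, map_pow, h.param, HahnSeries.single_pow, one_pow]
    have e : (HahnSeries.single ((J' l) • (1 : ℤ)) (1 : k))⁻¹ = HahnSeries.single (-(J' l : ℤ)) (1 : k) := by
      refine (eq_inv_of_mul_eq_one_left ?_).symm
      rw [HahnSeries.single_mul_single, one_mul]
      simp
    rw [div_eq_mul_inv, e, mul_comm, HahnSeries.coeff_single_mul, one_mul]
    simp [(hlead l).2]
  · rcases hj with rfl | ⟨l, rfl⟩
    · exact ⟨1, heff, by simp⟩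
    · obtain ⟨-, f, hf, hv⟩ := (Groth.Agent.SV31.isJump_coefCol_iff h hnorm (J' l)).1 ((hJ.2 _).1 ⟨l, rfl⟩)
      exact ⟨f, hf, hv⟩
  · rcases Nat.eq_zero_or_pos j with h' | h'
    · exact Or.inl h'
    · exact Or.inr ((hJ.2 j).2 ((Groth.Agent.SV31.isJump_coefCol_iff h hnorm j).2 ⟨h', hj⟩))

end Groth.Agent.S12607
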