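import Groth.Statements.S12609
import Groth.Agent.SV31.Weights
import Groth.Agent.LLS31.Bridge
import Groth.Agent.FF30.RR

set_option autoImplicit false
open FunFld

namespace Groth.Agent.S12609

/-- Over an algebraically closed constant field, let `φ` be the canonical map (a basis of `L(C)`, `C`
canonical), normalized at the place `P` after multiplication by `y ≠ 0`, and `t` a local parameter
at `P`. For `j ≥ 1`: the canonical orders at `P` include `j` exactly when `j + 1` is a gap number at
`P`, i.e. `L((j+1)P) = L(jP)`. -/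
theorem result
    (k K : Type*) [Field k] [IsAlgClosed k] [Field K] [Algebra k K]
    (hK : FunFld.IsFunctionField k K) (C : FunFld.Divisor k K) (hC : FunFld.IsCanonical k K C)
    {n : ℕ} (φ : Fin (n + 1) → K) (hφ : LinearIndependent k φ)
    (hspan : Submodule.span k (Set.range φ) = FunFld.L C)
    (P : FunFld.Place k K) (y : K) (hy : y ≠ 0)
    (heff : (1 : K) ∈ Submodule.span k (Set.range (y • φ))) (hnorm : ∀ i, P.1 (y * φ i) ≤ 1)
    (t : K) (ht : P.1 t = WithZero.exp (-1))
    (Ht : K →ₐ[k] PowerSeries K) (hHt : LocRes.IsHasseFamily t Ht) (j : ℕ) (hj : 1 ≤ j) :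
    FunFld.IsJump (IsLocalRing.ResidueField P.O) (FunFld.hcolAt P Ht (y • φ)) (j + 1) ↔
      FunFld.L (Finsupp.single P ((j : ℤ) + 1)) = FunFld.L (Finsupp.single P (j : ℤ)) := by
  classical
  obtain ⟨ψ, h⟩ := Groth.Agent.SV31.exists_localData hK ht hHt
  have hnorm' : ∀ i, P.1 ((y • φ) i) ≤ 1 := hnorm
  rw [Groth.Agent.SV31.isJump_hcolAt hK h hnorm', Groth.Agent.SV31.isJump_coefCol_iff h hnorm']
  have hyord : P.1 y = WithZero.exp (-P.ord y) := Groth.Agent.FF30.val_eq P hy
  have hF := Groth.Agent.FF30.FF.of_isFunctionField hK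
  -- the order of `y` is the coefficient of `C`
  have hmem : ∀ g, g ∈ L C → y * g ∈ Submodule.span k (Set.range (y • φ)) := by
    intro g hg
    rw [← hspan, Submodule.mem_span_range_iff_exists_fun] at hg
    obtain ⟨a, rfl⟩ := hg
    rw [Finset.mul_sum]
    exact Submodule.sum_mem _ fun i _ => by
      rw [mul_smul_comm]
      exact Submodule.smul_mem _ _ (Submodule.subset_span ⟨i, rfl⟩)
  have hmem' : ∀ f, f ∈ Submodule.span k (Set.range (y • φ)) → f / y ∈ L C := by
    intro f hf
    rw [Submodule.mem_span_range_iff_exists_fun] at hf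
    obtain ⟨a, rfl⟩ := hf
    rw [Finset.sum_div, ← hspan]
    refine Submodule.sum_mem _ fun i _ => ?_
    rw [smul_div_assoc, show (y • φ) i / y = φ i from mul_div_cancel_left₀ _ hy]
    exact Submodule.smul_mem _ _ (Submodule.subset_span ⟨i, rfl⟩)
  have hRR : ∀ m : ℕ, (ell (C - Finsupp.single P (m : ℤ)) : ℤ) + m + 1 =
      ell (Finsupp.single P (m : ℤ) : Divisor k K) + genus k K := by
    intro m
    have h := Groth.Agent.FF30.riemann_roch' hK hC (Finsupp.single P (m : ℤ))
    rw [Groth.Agent.LLS31.deg_single, Groth.Agent.LLS31.deg_place_eq_one hK] at h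
    push_cast at h
    omega
  have hg : genus k K = n + 1 := by
    rw [← Groth.Agent.FF30.ell_canonical hK hC, ell, ← hspan, finrank_span_eq_card hφ, Fintype.card_fin]
  have hCP : C P = P.ord y := by
    obtain ⟨g, hgm, hgv⟩ : ∃ g ∈ L C, P.1 g = WithZero.exp (C P) := by
      by_contra hc
      push Not at hc
      have hle : L C ≤ L (C - Finsupp.single P (1 : ℤ)) := fun g hg R => by
        rcases eq_or_ne R P with rfl | hR
        · simpa using Groth.Agent.LLS31.le_exp_sub_one_of_lt (lt_of_le_of_ne (hg R) (hc g hg))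
        · simpa [Finsupp.single_eq_of_ne hR] using hg R
      have := hF.finite_L (C - Finsupp.single P (1 : ℤ))
      have h1 := Submodule.finrank_mono hle
      have h2 := hRR 1
      have h3 : ell (Finsupp.single P ((1 : ℕ) : ℤ) : Divisor k K) ≤ 1 :=
        Groth.Agent.LLS31.finrank_L_le_one_of_genus_pos hK (by omega) (by
          rw [Groth.Agent.LLS31.deg_single, Groth.Agent.LLS31.deg_place_eq_one hK]; simp)
      rw [← hspan, finrank_span_eq_card hφ, Fintype.card_fin] at h1
      rw [Nat.cast_one] at h2 h3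
      simp only [ell] at h2 h3
      omega
    have h1 : P.1 (y * g) ≤ 1 := by
      obtain ⟨a, ha⟩ := (Submodule.mem_span_range_iff_exists_fun k).1 (hmem g hgm)
      rw [← ha]
      exact P.1.map_sum_le fun i _ => (Groth.Agent.FF30.val_smul_le P _ _).trans (hnorm' i)
    have h2 := hmem' 1 heff P
    rw [map_mul, hgv, hyord, ← WithZero.exp_add, ← WithZero.exp_zero, WithZero.exp_le_exp] at h1
    rw [map_div₀, map_one, hyord, one_div, ← WithZero.exp_neg, WithZero.exp_le_exp] at h2
    omega
  have key : (∃ f ∈ Submodule.span k (Set.range (y • φ)), P.1 f = WithZero.exp (-(j : ℤ))) ↔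
      L (C - Finsupp.single P ((j : ℤ) + 1)) ≠ L (C - Finsupp.single P (j : ℤ)) := by
    constructor
    · rintro ⟨f, hf, hfv⟩ heq
      have h1 : f / y ∈ L (C - Finsupp.single P (j : ℤ)) := fun R => by
        rcases eq_or_ne R P with rfl | hR
        · rw [map_div₀, hfv, hyord, ← WithZero.exp_sub, Finsupp.sub_apply, Finsupp.single_eq_same, WithZero.exp_le_exp]
          omega
        · simpa [Finsupp.single_eq_of_ne hR] using hmem' f hf R
      rw [← heq] at h1
      have := h1 P
      rw [map_div₀, hfv, hyord, ← WithZero.exp_sub, Finsupp.sub_apply, Finsupp.single_eq_same, WithZero.exp_le_exp] at this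
      omega
    · intro hne
      obtain ⟨g, hg, hg'⟩ := SetLike.exists_of_lt (lt_of_le_of_ne
        (Groth.Agent.LLS31.L_sub_single_mono C P (show (j : ℤ) ≤ j + 1 by omega)) hne)
      have hgC : g ∈ L C := Groth.Agent.LLS31.L_mono (sub_le_self C (Finsupp.single_nonneg.2 (by omega))) hg
      refine ⟨y * g, hmem g hgC, ?_⟩
      have hgv : P.1 g = WithZero.exp (C P - j) := by
        by_contra hlt
        refine hg' fun R => ?_
        rcases eq_or_ne R P with rfl | hR
        · have := Groth.Agent.LLS31.le_exp_sub_one_of_lt (lt_of_le_of_ne (b := WithZero.exp (C R - j))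
            (by simpa using hg R) hlt)
          simpa [sub_sub] using this
        · simpa [Finsupp.single_eq_of_ne hR] using hg R
      rw [map_mul, hgv, hyord, ← WithZero.exp_add]
      congr 1
      omega
  rw [key, and_iff_right (show 0 < j by omega)]
  have hF1 := hF.finite_L (C - Finsupp.single P (j : ℤ))
  have hF2 := hF.finite_L (Finsupp.single P ((j : ℤ) + 1))
  have e1 : L (C - Finsupp.single P ((j : ℤ) + 1)) = L (C - Finsupp.single P (j : ℤ)) ↔
      ell (C - Finsupp.single P ((j : ℤ) + 1)) = ell (C - Finsupp.single P (j : ℤ)) :=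
    ⟨fun h => congrArg (fun V : Submodule k K => Module.finrank k ↥V) h, fun h => Submodule.eq_of_le_of_finrank_eq
      (Groth.Agent.LLS31.L_sub_single_mono C P (by omega)) h⟩
  have e2 : L (Finsupp.single P ((j : ℤ) + 1)) = L (Finsupp.single P (j : ℤ)) ↔
      ell (Finsupp.single P ((j : ℤ) + 1) : Divisor k K) = ell (Finsupp.single P (j : ℤ) : Divisor k K) :=
    ⟨fun h => congrArg (fun V : Submodule k K => Module.finrank k ↥V) h, fun h => (Submodule.eq_of_le_of_finrank_eq
      (Groth.Agent.LLS31.L_mono (Finsupp.single_le_single.2 (by omega))) h.symm).symm⟩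
  rw [ne_eq, e1, e2]
  have a1 := hRR j
  have a2 := hRR (j + 1)
  push_cast at a2
  have b1 := hF.ell_mono (sub_le_sub_left (Finsupp.single_le_single.2 (show (j : ℤ) ≤ j + 1 by omega)) C :
    C - Finsupp.single P ((j : ℤ) + 1) ≤ C - Finsupp.single P (j : ℤ))
  have b2 := hF.ell_sub_le (Finsupp.single_le_single.2 (show (j : ℤ) ≤ j + 1 by omega) :
    (Finsupp.single P (j : ℤ) : Divisor k K) ≤ Finsupp.single P ((j : ℤ) + 1))
  have b3 := hF.ell_mono (Finsupp.single_le_single.2 (show (j : ℤ) ≤ j + 1 by omega) :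
    (Finsupp.single P (j : ℤ) : Divisor k K) ≤ Finsupp.single P ((j : ℤ) + 1))
  rw [Groth.Agent.LLS31.deg_single, Groth.Agent.LLS31.deg_single, Groth.Agent.LLS31.deg_place_eq_one hK] at b2
  push_cast at b2
  omega

end Groth.Agent.S12609
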