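import Groth.Statements.S12610
import Groth.Agent.SV31.Weights

set_option autoImplicit false
open FunFld

namespace Groth.Agent.S12610

/-- Over an algebraically closed constant field, for a birational projective map `φ`, a `k`-endomorphism
`τ ≠ 1` and a place `P` fixed by `τ`, the place `P` is a Weierstrass point of `φ` with respect to
`τ`: the Weierstrass divisor `W(φ, τ) = [w_s(φ, τ)] + [τ(φ)] + n[φ] + j(φ, τ)[ds]` has positive
coefficient at `P` (the divisor of `ds` read through a family of Laurent expansions). -/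
theorem result
    (k K : Type*) [Field k] [IsAlgClosed k] [Field K] [Algebra k K]
    (hK : FunFld.IsFunctionField k K) {n : ℕ} (φ : Fin (n + 1) → K) (hφ : LinearIndependent k φ)
    (h0 : φ 0 ≠ 0) (hbir : IntermediateField.adjoin k (Set.range fun i => φ i / φ 0) = ⊤)
    (τ : K →ₐ[k] K) (hτ : τ ≠ AlgHom.id k K) (P : FunFld.Place k K) (hP : FunFld.IsFixedPt τ P)
    (s : K) (H : K →ₐ[k] PowerSeries K) (hH : LocRes.IsHasseFamily s H)
    (J : Fin n → ℕ) (hJ : FunFld.IsOrders K (FunFld.hcol τ H φ) J)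
    (Φ : FunFld.Place k K → (K →ₐ[k] LaurentSeries k))
    (hΦ : ∀ P : FunFld.Place k K, LocRes.IsExpansionAt P.1 (Φ P)) :
    0 < FunFld.wDiv τ H Φ s φ J P := by
  obtain ⟨y, t, Ht, ψ, hy, ht, hψ, hli, hnorm, heff, hJ', heq⟩ :=
    Groth.Agent.SV31.wDiv_normalized hK Φ hΦ τ hH hφ hJ P
  rw [heq]
  have hint : ∀ i, P.1 ((τ ∘ (y • φ)) i) ≤ 1 := fun i => by
    simpa using Groth.Agent.SV31.val_le_pow_of_isFixedPt hK (d := 1) (Groth.Agent.SV31.isFixedPt_bound hP) ht
      (j := 0) (z := (y • φ) i) (by simpa using hnorm i)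
  have heff' : (1 : K) ∈ Submodule.span k (Set.range (τ ∘ (y • φ))) := by
    rw [Set.range_comp, show (⇑τ : K → K) = ⇑τ.toLinearMap from rfl, ← Submodule.map_span]
    exact ⟨1, heff, map_one τ⟩
  rw [Groth.Agent.SV31.mapDiv_eq_zero hK (Groth.Agent.SV31.linearIndependent_comp τ hli) P hint heff', add_zero]
  have hne : ¬ ∃ c : K, ∀ i, c * τ (φ i) = φ i := by
    rintro ⟨c, hc'⟩
    refine hτ ?_
    have hc0 : c ≠ 0 := fun h => h0 (by rw [← hc' 0, h, zero_mul])
    ext z
    have hz : z ∈ IntermediateField.adjoin k (Set.range fun i => φ i / φ 0) := hbir ▸ IntermediateField.mem_top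
    induction hz using IntermediateField.adjoin_induction with
    | mem w hw =>
      obtain ⟨i, rfl⟩ := hw
      show τ (φ i / φ 0) = φ i / φ 0
      conv_rhs => rw [← hc' i, ← hc' 0, mul_div_mul_left _ _ hc0]
      exact map_div₀ τ _ _
    | algebraMap a => exact τ.commutes a
    | add a b _ _ ha hb => rw [map_add, map_add, ha, hb]
    | inv a _ ha => rw [map_inv₀, map_inv₀, ha]
    | mul a b _ _ ha hb => rw [map_mul, map_mul, ha, hb]
  have hfst : FunFld.IsJump K (FunFld.hcol τ H φ) 1 := by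
    by_contra hc
    have hc' := (Groth.Agent.SV31.not_isJump_iff.1 hc)
    rw [Groth.Agent.SV31.below, show Set.Iio 1 = ({0} : Set ℕ) by ext; simp, Set.image_singleton,
      Submodule.mem_span_singleton, Groth.Agent.SV31.hcol_one hH] at hc'
    obtain ⟨c, hc⟩ := hc'
    exact hne ⟨c, fun i => congrFun hc i⟩
  obtain ⟨l, hl⟩ := (hJ.2 0).2 hfst
  have hn : 0 < n := Fin.pos l
  have hI : J ⟨0, hn⟩ = 0 :=
    Nat.le_zero.1 ((hJ.1.monotone (show (⟨0, hn⟩ : Fin n) ≤ l from Nat.zero_le _)).trans hl.le)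
  exact (Groth.Agent.FF30.val_lt_one_iff P (Groth.Agent.SV31.det_ne_zero_of_isOrders hli hJ')).1
    (Groth.Agent.SV31.val_det_lt_one_of_fixed hK hP hnorm ht hψ hn hI)

end Groth.Agent.S12610
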