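import Groth.Statements.S12617
import Groth.Agent.SV31.Weights

set_option autoImplicit false
open FunFld

namespace Groth.Agent.S12617

/-- Over an algebraically closed constant field, if the effective projective map `φ = (φ₀, …, φₙ)`, `n ≥
1`, normalized at `P`, is nonsingular at `P`, then its first order at `P` is `1`. -/
theorem result
    (k K : Type*) [Field k] [IsAlgClosed k] [Field K] [Algebra k K]
    (hK : FunFld.IsFunctionField k K) (P : FunFld.Place k K) {n : ℕ} (hn : 0 < n) (φ : Fin (n + 1) → K)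
    (hφ : LinearIndependent k φ)
    (heff : (1 : K) ∈ Submodule.span k (Set.range φ)) (hnorm : ∀ i, P.1 (φ i) ≤ 1) (hns : FunFld.IsNonsingularAt φ P)
    (t : K) (ht : P.1 t = WithZero.exp (-1))
    (Ht : K →ₐ[k] PowerSeries K) (hHt : LocRes.IsHasseFamily t Ht)
    (J' : Fin n → ℕ) (hJ' : FunFld.IsOrders (IsLocalRing.ResidueField P.O) (FunFld.hcolAt P Ht φ) J') :
    J' ⟨0, hn⟩ = 1 := by
  classical
  obtain ⟨ψ, h⟩ := Groth.Agent.SV31.exists_localData hK ht hHt
  have hJc := (Groth.Agent.SV31.isOrders_hcolAt hK h hnorm J').1 hJ'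
  by_contra hne
  have hno : ¬ ∃ f ∈ Submodule.span k (Set.range φ), P.1 f = WithZero.exp (-((1 : ℕ) : ℤ)) := by
    intro hex
    obtain ⟨l, hl⟩ := (hJc.2 1).2 ((Groth.Agent.SV31.isJump_coefCol_iff h hnorm 1).2 ⟨one_pos, hex⟩)
    have h0 : J' ⟨0, hn⟩ ≤ 1 := (hJc.1.monotone (show (⟨0, hn⟩ : Fin n) ≤ l from Nat.zero_le _)).trans hl.le
    have h1 := ((Groth.Agent.SV31.isJump_coefCol_iff h hnorm (J' ⟨0, hn⟩)).1 ((hJc.2 _).1 ⟨_, rfl⟩)).1
    exact hne (by omega)
  have hcong : ∀ i, ∃ c : k, P.1 (φ i - algebraMap k K c) ≤ WithZero.exp (-2) := by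
    intro i
    obtain ⟨c, hc⟩ := Groth.Agent.LLS31.exists_val_sub_lt_one hK P (hnorm i)
    refine ⟨c, ?_⟩
    have hmem : φ i - algebraMap k K c ∈ Submodule.span k (Set.range φ) := by
      rw [Algebra.algebraMap_eq_smul_one]
      exact Submodule.sub_mem _ (Submodule.subset_span ⟨i, rfl⟩) (Submodule.smul_mem _ _ heff)
    rcases eq_or_ne (φ i - algebraMap k K c) 0 with h0 | h0
    · rw [h0, map_zero]; exact zero_le
    have h1 : P.ord (φ i - algebraMap k K c) ≠ 1 := fun he =>
      hno ⟨_, hmem, by rw [Groth.Agent.FF30.val_eq P h0, he]; rfl⟩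
    have h2 := (Groth.Agent.FF30.val_lt_one_iff P h0).1 hc
    rw [Groth.Agent.FF30.val_eq P h0, WithZero.exp_le_exp]
    omega
  obtain ⟨j, hj0, hjmax, u, hu, w, hw, hw1, htw⟩ := hns t (by rw [ht, ← WithZero.exp_zero, WithZero.exp_le_exp]; omega)
  have hj1 : P.1 (φ j) = 1 := by
    refine le_antisymm (hnorm j) ?_
    obtain ⟨a, ha⟩ := (Submodule.mem_span_range_iff_exists_fun k).1 heff
    refine le_trans (le_of_eq (show _ = P.1 (∑ l, a l • φ l) by rw [ha, map_one])) ?_
    exact P.1.map_sum_le fun l _ => (Groth.Agent.FF30.val_smul_le P _ _).trans (hjmax l)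
  let R : Subalgebra k K :=
    { carrier := {z | ∃ c : k, P.1 (z - algebraMap k K c) ≤ WithZero.exp (-2)}
      mul_mem' := by
        rintro z z' ⟨c, hc⟩ ⟨c', hc'⟩
        refine ⟨c * c', ?_⟩
        have hle : P.1 z ≤ 1 := by
          rw [← sub_add_cancel z (algebraMap k K c)]
          exact (P.1.map_add _ _).trans (max_le (hc.trans (by rw [← WithZero.exp_zero, WithZero.exp_le_exp]; omega)) (P.2.1 c))
        rw [map_mul, show z * z' - algebraMap k K c * algebraMap k K c' =
          z * (z' - algebraMap k K c') + (z - algebraMap k K c) * algebraMap k K c' by ring]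
        refine (P.1.map_add _ _).trans (max_le ?_ ?_) <;> rw [map_mul]
        · exact (mul_le_of_le_one_left' hle).trans hc'
        · exact (mul_le_of_le_one_right' (P.2.1 c')).trans hc
      add_mem' := by
        rintro z z' ⟨c, hc⟩ ⟨c', hc'⟩
        refine ⟨c + c', ?_⟩
        rw [map_add, add_sub_add_comm]
        exact (P.1.map_add _ _).trans (max_le hc hc')
      algebraMap_mem' := fun c => ⟨c, by simp⟩ }
  have hgen : Algebra.adjoin k (Set.range fun i => φ i / φ j) ≤ R := by
    rw [Algebra.adjoin_le_iff]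
    rintro _ ⟨i, rfl⟩
    obtain ⟨c, hc⟩ := hcong i
    obtain ⟨d, hd⟩ := hcong j
    have hd0 : d ≠ 0 := by
      rintro rfl
      rw [map_zero, sub_zero, hj1, ← WithZero.exp_zero, WithZero.exp_le_exp] at hd
      omega
    refine ⟨c / d, ?_⟩
    rw [map_div₀, div_sub_div _ _ hj0 ((map_ne_zero _).2 hd0), map_div₀, map_mul P.1, hj1,
      Groth.Agent.FF30.val_algebraMap P hd0, one_mul, div_one,
      show φ i * algebraMap k K d - φ j * algebraMap k K c =
        (φ i - algebraMap k K c) * algebraMap k K d - algebraMap k K c * (φ j - algebraMap k K d) by ring]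
    refine (P.1.map_sub _ _).trans (max_le ?_ ?_) <;> rw [map_mul]
    · exact (mul_le_of_le_one_right' (P.2.1 d)).trans hc
    · exact (mul_le_of_le_one_left' (P.2.1 c)).trans hd
  obtain ⟨a, ha⟩ := hgen hu
  have hu1 : P.1 u = WithZero.exp (-1) := by rw [← htw, map_mul, ht, hw1, mul_one]
  rcases eq_or_ne a 0 with rfl | ha0
  · rw [map_zero, sub_zero, hu1, WithZero.exp_le_exp] at ha
    omega
  · have hlt : P.1 (u - algebraMap k K a) < P.1 (algebraMap k K a) := by
      refine ha.trans_lt ?_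
      rw [Groth.Agent.FF30.val_algebraMap P ha0, ← WithZero.exp_zero, WithZero.exp_lt_exp]
      omega
    have h1 := P.1.map_add_eq_of_lt_right hlt
    rw [sub_add_cancel, hu1, Groth.Agent.FF30.val_algebraMap P ha0, ← WithZero.exp_zero, WithZero.exp_inj] at h1
    omega

end Groth.Agent.S12617
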