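import Groth.Statements.S12619
import Groth.Agent.TraceRes95.Main

set_option autoImplicit false
universe u v
open LocRes

namespace Groth.Agent.S12619

/-- Let `F` be a field with a discrete valuation `v`, `K` a perfect field and `φ : F → K((X))` a
`K`-algebra expansion at `v` in a local parameter (it carries `v` to the `X`-adic valuation, the
valuation ring maps onto the coefficient field `K`, and `v` is normalised) which is moreover
surjective — so `F` is complete and `K` is a coefficient field of its valuation ring. Let `E` be a
finite separable extension of `F`, `w` a valuation of `E` extending `v` up to equivalence, and `L` a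
field between `K` and `E`, finite over `K`, with an `L`-algebra expansion `ψ : E → L((X))` at `w` in
a local parameter (so `L` is a coefficient field of the valuation ring of `w` containing `K`; it is
then the algebraic closure of `K` in `E`). Then for `x ∈ F` and `y ∈ E`, the trace from `L` to `K`
of the residue of `y dx` at `w` equals the residue at `v` of `tr_{E/F}(y) dx`, the residues being
the `X⁻¹`-coefficients of `ψ(y)·(ψ x)′` and of `φ(tr y)·(φ x)′`. (The published statement constructs
`L` as the algebraic closure of `K` in `E` and defines residues intrinsically; here the coefficient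
fields and expansions are data and the residues are read through them.) -/
theorem result (K L : Type u) (F E : Type v) [Field K] [PerfectField K] [Field L]
    [Field F] [Field E] [Algebra K F] [Algebra F E] [Algebra K E] [IsScalarTower K F E]
    [FiniteDimensional F E] [Algebra.IsSeparable F E]
    [Algebra K L] [Algebra L E] [IsScalarTower K L E] [FiniteDimensional K L]
    (v : Valuation F (WithZero (Multiplicative ℤ))) (w : Valuation E (WithZero (Multiplicative ℤ)))
    [v.HasExtension w]
    (φ : F →ₐ[K] LaurentSeries K) (hφ : LocRes.IsExpansionAt v φ) (hφs : Function.Surjective φ)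
    (ψ : E →ₐ[L] LaurentSeries L) (hψ : LocRes.IsExpansionAt w ψ)
    (x : F) (y : E) :
    Algebra.trace K L (LocRes.resExp ψ y (algebraMap F E x)) =
      LocRes.resExp φ (Algebra.trace F E y) x := by
  let P : FunFld.Place K F := ⟨v, Groth.Agent.TraceRes95.toPlace v φ hφ⟩
  obtain ⟨h1, h2⟩ := Groth.Agent.TraceRes95.toPlace w ψ hψ
  let Q : FunFld.Place K E := ⟨w, fun c => by rw [IsScalarTower.algebraMap_apply K L E]; exact h1 _, h2⟩
  have hle : ∀ z : F, w (algebraMap F E z) ≤ 1 ↔ v z ≤ 1 := fun z =>
    Valuation.HasExtension.val_map_le_one_iff v w z
  have h : Groth.Agent.TraceRes95.Dat P Q φ ψ := ⟨hφ, hψ, hφs, hle⟩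
  have key := Groth.Agent.TraceRes95.trace_resExp h y x
  unfold LocRes.locRes at key
  rw [Algebra.trace_self_apply] at key
  exact key

end Groth.Agent.S12619
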