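import Groth.Statements.S1262
import Groth.Agent.FlatCrit65.Assassin.FlatAssoc

set_option autoImplicit false
universe u
open FlatMor

namespace Groth.Agent.S1262

/-- Ring form, X = Spec S affine: let S be a finite type R-algebra, N a finite S-module and p a prime of
R. Then the set of points x of the fibre Spec(κ(p) ⊗ S) such that N is flat over R at the prime of S
under x is open in the fibre. -/
theorem result {R S : Type u} [CommRing R] [CommRing S] [Algebra R S] [Algebra.FiniteType R S]
    (N : Type u) [AddCommGroup N] [Module S N] [Module R N] [IsScalarTower R S N] [Module.Finite S N]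
    (p : Ideal R) [p.IsPrime] :
    IsOpen {x : PrimeSpectrum (p.Fiber S) |
      FlatCA.FlatAt R (x.asIdeal.comap (Algebra.TensorProduct.includeRight (R := R) (A := p.ResidueField) (B := S)).toRingHom) N} := by
  classical
  let inc := (Algebra.TensorProduct.includeRight (R := R) (A := p.ResidueField) (B := S)).toRingHom
  rw [← isClosed_compl_iff]
  have hfin := Groth.Agent.FlatCrit65.finite_weakAss_fibre (S := S) (N := N) p
  have heq : {x : PrimeSpectrum (p.Fiber S) | FlatCA.FlatAt R (x.asIdeal.comap inc) N}ᶜ =
      ⋃ q₁ ∈ {q₁ ∈ FlatCA.weakAss S (TensorProduct R N p.ResidueField) |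
        ¬ ∀ _ : q₁.IsPrime, FlatCA.FlatAt R q₁ N}, PrimeSpectrum.zeroLocus (q₁.map inc : Set (p.Fiber S)) := by
    ext x
    simp only [Set.mem_compl_iff, Set.mem_ofPred_eq, Set.mem_iUnion, PrimeSpectrum.mem_zeroLocus, exists_prop,
      SetLike.coe_subset_coe, Ideal.map_le_iff_le_comap]
    constructor
    · intro hx
      by_contra hc
      push Not at hc
      refine hx (Groth.Agent.FlatCrit65.flat_localized_of_assoc p _ ?_ fun q' hq' hle _ hw => ?_)
      · rw [Ideal.comap_comap, show inc.comp (algebraMap R S) = algebraMap R (p.Fiber S) from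
          RingHom.ext fun r =>
            (Algebra.TensorProduct.includeRight (R := R) (A := p.ResidueField) (B := S)).commutes r]
        exact (x.asIdeal.over_def p).symm
      · by_contra hnf
        exact hc q' ⟨hw, hq', hnf⟩ hle
    · rintro ⟨q₁, ⟨hw, hnf⟩, hle⟩ hx
      exact hnf fun _ => (Groth.Agent.FlatCrit65.flat_localized_of_le hle hx)
  rw [show {x : PrimeSpectrum (p.Fiber S) | FlatCA.FlatAt R (x.asIdeal.comap inc) N}ᶜ = _ from heq]
  exact (hfin.subset fun q hq => hq.1).isClosed_biUnion fun q _ => PrimeSpectrum.isClosed_zeroLocus _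

end Groth.Agent.S1262
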