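import Groth.Statements.S12620
import Groth.Agent.LaurentRes95.Basic

set_option autoImplicit false
universe u v w
open LocRes

namespace Groth.Agent.S12620

/-- Let `K` be a field with a valuation `w` into `ℤ ∪ {0}` and `φ : K → F((X))` a `k`-algebra expansion
at `w` in a local parameter (valuation-compatible, valuation ring onto the coefficient field `F`,
`w` normalised). Then for every nonzero `f` the residue of the logarithmic differential `f⁻¹ df`
read through `φ` — the `X⁻¹`-coefficient of `φ(f)⁻¹ · (φ f)′` — is the order of `f` at `w` (the
integer `n` with `w f = exp (-n)`), viewed in `F`. (The published statement is for a complete field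
with a perfect coefficient field and its intrinsic residue; read through an expansion neither
completeness nor perfectness plays a role.) -/
theorem result {k : Type u} {K : Type v} {F : Type w} [CommRing k] [Field K] [Field F]
    [Algebra k K] [Algebra k F]
    (w : Valuation K (WithZero (Multiplicative ℤ))) (φ : K →ₐ[k] LaurentSeries F)
    (hφ : LocRes.IsExpansionAt w φ) (f : K) (hf : f ≠ 0) :
    LocRes.resExp φ f⁻¹ f = ((-WithZero.log (w f) : ℤ) : F) := by
  have hf' : φ f ≠ 0 := (map_ne_zero φ).mpr hf
  rw [LocRes.resExp, map_inv₀, LaurentRes95.res_inv_mul_D (φ f) hf', ← hφ.1 f]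
  congr 1
  have h0 : Valued.v (φ f) ≠ 0 := by simp [hf']
  set e := -WithZero.log (Valued.v (φ f)) with he
  have hv : Valued.v (φ f) = WithZero.exp (-e) := by rw [he, neg_neg, WithZero.exp_log h0]
  refine le_antisymm ?_ ?_
  · by_contra hlt
    push Not at hlt
    have h1 : Valued.v (φ f) ≤ WithZero.exp (-(φ f).order) :=
      (LaurentSeries.valuation_le_iff_coeff_lt_eq_zero F).mpr fun i hi => HahnSeries.coeff_eq_zero_of_lt_order hi
    rw [hv, WithZero.exp_le_exp] at h1
    omega
  · by_contra hlt
    push Not at hlt
    exact HahnSeries.coeff_order_eq_zero.not.mpr hf' ((LaurentSeries.valuation_le_iff_coeff_lt_eq_zero F).mp hv.le _ hlt)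

end Groth.Agent.S12620
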