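import Groth.Statements.S12624
import Groth.Agent.CAlg7.PDiffSigma
import Mathlib.FieldTheory.Perfect

set_option autoImplicit false
universe u v
open CAlg

namespace Groth.Agent.S12624

open Groth.Agent.CAlg7.PDiffSigma in

/-- For a perfect field `K` of characteristic `p > 0` and a commutative `K`-algebra `A`, put `δ_i(x) =
x^(p^i - 1) dx` in `Ω_{A/K}` and let the subsets `Σ^i ⊆ Ω_{A/K}` be given by `Σ^0 = {0}` and
`Σ^(i+1) = {δ_i(x) + σ | x ∈ A, σ ∈ Σ^i}`; then each `Σ^i` is the underlying set of a `K`-submodule
of `Ω_{A/K}` (closed under addition and under multiplication by elements of `K`; the latter uses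
that `K` is perfect). -/
theorem result (K : Type u) (A : Type v) [Field K] [PerfectField K] (p : ℕ) [Fact p.Prime] [CharP K p]
    [CommRing A] [Algebra K A] (i : ℕ) :
    ∃ S : Submodule K (Ω[A⁄K]), (S : Set (Ω[A⁄K])) = W4bk4bump814p2.sigma K A p i := by
  rw [sigma_eq K A p i]
  haveI : ExpChar K p := ExpChar.prime Fact.out
  refine ⟨{ (sub K A p i).toAddSubmonoid with smul_mem' := fun c ω hω => ?_ }, rfl⟩
  change ω ∈ sub K A p i at hω
  change c • ω ∈ sub K A p i
  induction hω using AddSubgroup.closure_induction with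
  | mem ω hω =>
    simp only [Set.mem_iUnion, Finset.mem_range, Set.mem_range] at hω
    obtain ⟨j, hj, x, rfl⟩ := hω
    obtain ⟨e, rfl⟩ := (bijective_iterateFrobenius K p j).2 c
    rw [iterateFrobenius_def]
    have h : e ^ p ^ j • W4bk4bump814p2.delta K A p j x = W4bk4bump814p2.delta K A p j (e • x) := by
      have h1 : p ^ j - 1 + 1 = p ^ j := Nat.sub_add_cancel (Nat.one_le_pow _ _ (Fact.out : p.Prime).pos)
      conv_lhs => rw [← h1, pow_succ]
      simp only [W4bk4bump814p2.delta, Derivation.map_smul, _root_.smul_pow, smul_assoc, mul_smul]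
      congr 1
      rw [smul_comm]
    rw [h]
    exact delta_mem K A p hj _
  | zero => rw [smul_zero]; exact zero_mem _
  | add a b _ _ ha hb => rw [smul_add]; exact add_mem ha hb
  | neg a _ ha => rw [smul_neg]; exact neg_mem ha

end Groth.Agent.S12624
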