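import Groth.Statements.S12626
import Groth.Agent.CAlg7.PDiffSigma
import Mathlib.Algebra.CharP.Algebra

set_option autoImplicit false
universe u v
open CAlg

namespace Groth.Agent.S12626

open Groth.Agent.CAlg7.PDiffSigma in

/-- For a perfect field `K` of characteristic `p > 0` and a commutative `K`-algebra `A`, put `δ_i(x) =
x^(p^i - 1) dx` in `Ω_{A/K}` and let the subsets `Σ^i ⊆ Ω_{A/K}` be given by `Σ^0 = {0}` and
`Σ^(i+1) = {δ_i(x) + σ | x ∈ A, σ ∈ Σ^i}`; then `Σ^i` is stable under multiplication by `p^i`-th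
powers of elements of `A`: for `x ∈ A` and `ω ∈ Σ^i`, `x^(p^i) ω ∈ Σ^i`. This stability is what
turns the rule `x · [ω] = [x^(p^i) ω]` into an `A`-module structure on the quotient `Ω_{A/K} / Σ^i`
(the row states the stability; that `x ↦ [δ_i(x)]` is then a derivation is a direct computation and
is not restated). -/
theorem result (K : Type u) (A : Type v) [Field K] [PerfectField K] (p : ℕ) [Fact p.Prime] [CharP K p]
    [CommRing A] [Algebra K A] (i : ℕ) (x : A)
    (ω : Ω[A⁄K]) (hω : ω ∈ W4bk4bump814p2.sigma K A p i) :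
    (x ^ (p ^ i)) • ω ∈ W4bk4bump814p2.sigma K A p i := by
  rw [sigma_eq K A p i] at hω ⊢
  change ω ∈ sub K A p i at hω
  induction hω using AddSubgroup.closure_induction with
  | mem ω hω =>
    simp only [Set.mem_iUnion, Finset.mem_range, Set.mem_range] at hω
    obtain ⟨j, hj, z, rfl⟩ := hω
    have hp : ((p : ℕ) : A) = 0 := by
      rw [← map_natCast (algebraMap K A), CharP.cast_eq_zero, map_zero]
    have h : x ^ p ^ i • W4bk4bump814p2.delta K A p j z = W4bk4bump814p2.delta K A p j (x ^ p ^ (i - j) * z) := by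
      have h0 : KaehlerDifferential.D K A (x ^ p ^ (i - j)) = 0 := by
        rw [Derivation.leibniz_pow, ← Nat.cast_smul_eq_nsmul A, Nat.cast_pow, hp, zero_pow (by omega), zero_smul]
      have h1 : p ^ j - 1 + 1 = p ^ j := Nat.sub_add_cancel (Nat.one_le_pow _ _ (Fact.out : p.Prime).pos)
      simp only [W4bk4bump814p2.delta, Derivation.leibniz, h0, smul_zero, add_zero, smul_smul]
      congr 1
      rw [mul_pow, mul_right_comm, ← pow_succ, h1, ← pow_mul, ← pow_add, Nat.sub_add_cancel hj.le]
    rw [h]
    exact delta_mem K A p hj _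
  | zero => rw [smul_zero]; exact zero_mem _
  | add a b _ _ ha hb => rw [smul_add]; exact add_mem ha hb
  | neg a _ ha => rw [smul_neg]; exact neg_mem ha

end Groth.Agent.S12626
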