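import Groth.Statements.S12661
import Groth.Agent.Cyc90.Dev.ChernGysin
import Groth.Agent.Cyc90.Dev.ChernComm
open Groth.Agent.Cyc90

set_option autoImplicit false
universe u
open CategoryTheory CategoryTheory.Limits AlgebraicGeometry
open Cyc

namespace Groth.Agent.S12661

/-- Chern class caps commute with the Gysin map of an effective Cartier divisor: for E finite locally
free of rank r on X, (L, s, i : D → X) with L invertible, s a global section of L and i the closed
immersion of its zero scheme Z(s) (Cyc.IsZeroSchemeOf), and α ∈ CH_k(X): c_j(E|_D) ∩ i^*α =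
i^*(c_j(E) ∩ α) in CH_{k-1-j}(D). The Gysin map i^* : Z_k(X) → CH_{k-1}(D) is computed on
coefficient functions as c_1(L) ∩ - with the rational sections s where s is nonzero and a nonzero
fallback w elsewhere (Cyc.gysinChoice), restricted to the points of D; the caps of E|_D are taken
through P_D = D ×_X P (a cartesian square) with the pullback of O_P(1), D and P_D carrying the
restricted dimension functions. Setting: (X, δ) with Cyc.IsSetup stands for a scheme locally of
finite type over the base (S, δ) (X locally Noetherian with universally catenary local rings, δ a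
dimension function); (p : P → X, O_P(1), q) is the projective bundle of E given by its universal
property (KRR.IsProjBundle), p is proper and δP is the induced dimension function (Cyc.DeltaCompat);
a tuple γ with Cyc.IsChernCap represents (c_0(E) ∩ α, …, c_r(E) ∩ α) through the defining relation
Σ_i (-1)^i c_1(O_P(1))^i ∩ p^*(γ_{r-i}) ∼_rat 0 on P, and classes are compared up to rational
equivalence of representing cycles. -/
theorem result (X : Scheme.{u}) (δ : X → ℤ) (hX : Cyc.IsSetup X δ) (r : ℕ) (E : X.Modules) (hPE : FlatMod.IsFinLocFreeOfRank r E) (P : Scheme.{u}) (p : P ⟶ X) (O1 : P.Modules) (q : (Scheme.Modules.pullback p).obj E ⟶ O1) (hP : KRR.IsProjBundle p E O1 q) [IsProper p] (δP : P → ℤ) (hPs : Cyc.IsSetup P δP) (hδ : Cyc.DeltaCompat p δP δ) (L : X.Modules) (hL : PicF.IsInvertible L) (s : L.presheaf.obj (Opposite.op ⊤)) (D : Scheme.{u}) (i : D ⟶ X) [IsClosedImmersion i] (hD : Cyc.IsZeroSchemeOf i L s) (PD : Scheme.{u}) (pD : PD ⟶ D) (i' : PD ⟶ P) (hsq : IsPullback i' pD p i) (w : (ξ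 : X) → Cyc.secFibre L ξ) (hw : ∀ ξ, w ξ ≠ 0) (k : ℤ) (α : AlgebraicCycle X ℤ) (hα : α ∈ Cyc.Zk X δ k) (γ : Fin (r + 1) → AlgebraicCycle X ℤ) (hγ : Cyc.IsChernCap p δ δP O1 r k α γ) (αD : AlgebraicCycle D ℤ) (hαD : ∀ d, αD d = Cyc.c1CapFun δ L ⇑α (Cyc.gysinChoice L s w) (i d)) (γ' : Fin (r + 1) → AlgebraicCycle D ℤ) (hγ' : Cyc.IsChernCap pD (fun d => δ (i d)) (fun y => δP (i' y)) ((Scheme.Modules.pullback i').obj O1) r (k - 1) αD γ') (ζ : Fin (r + 1) → AlgebraicCycle D ℤ) (hζ : ∀ j d, ζ j d = Cyc.c1CapFun δ L ⇑(γ j) (Cyc.gysinChoice L s w) (i d)) (j : Fin (r + 1)) : Cyc.RatEquiv (fun d => δ (i d)) (k - 1 - ((j : ℕ) : ℤ)) (ζ j) (γ' j) := by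
  rcases r with _ | n
  · obtain rfl : j = 0 := Subsingleton.elim (α := Fin 1) _ _
    have e : ζ 0 = γ' 0 := DFunLike.ext _ _ fun d => by rw [hζ, hγ'.1, hαD, hγ.1]
    rw [e]
    exact Dev.ratEquiv_refl (isSetup_closedImmersion i hX) _ _
  · obtain ⟨hB, hflat, hinv⟩ := Dev.projFibres_of_isProjBundle hPE hP
    obtain ⟨hB', hflat', hinv'⟩ := Dev.projFibres_bc hPE hP hsq
    haveI := hflat
    haveI := hflat'
    haveI : IsProper pD := MorphismProperty.of_isPullback hsq inferInstance
    haveI : IsClosedImmersion i' := MorphismProperty.of_isPullback hsq.flip inferInstance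
    have hζ' : ζ j = Dev.gysHom hX hL s i w hw (γ j) := DFunLike.ext _ _ fun d => by
      rw [hζ, Dev.gysHom_apply]
    have hαD' : αD = Dev.gysHom hX hL s i w hw α := DFunLike.ext _ _ fun d => by
      rw [hαD, Dev.gysHom_apply]
    rw [hζ']
    exact Dev.ratEquiv_chernCap (isSetup_closedImmersion i hX) hB' hinv'
      (isSetup_closedImmersion i' hPs) (deltaCompat_square i' i pD p hsq.w.symm hδ)
      (hαD' ▸ Dev.ratEquiv_refl (isSetup_closedImmersion i hX) _ _)
      (Dev.isChernCap_gysin hsq hX hPs hδ hB hinv hB' hL hD w hw hγ) hγ' j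

end Groth.Agent.S12661
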