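import Groth.Statements.S12663
import Groth.Agent.Cyc90.Dev.RootFacts
open Groth.Agent.Cyc90

set_option autoImplicit false
set_option backward.isDefEq.respectTransparency.types false
set_option synthInstance.maxHeartbeats 200000
universe u
open CategoryTheory CategoryTheory.Limits AlgebraicGeometry
open Cyc

namespace Groth.Agent.S12663

/-- If E, F are finite locally free of ranks m + 1, m on X sitting in a short exact sequence 0 → O_X → E
→ F → 0, then c_{m+1}(E) = 0 and c_j(E) = c_j(F) for j = 0, …, m, as cap operations: for every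
k-cycle α, c_{m+1}(E) ∩ α ∼_rat 0 and c_j(E) ∩ α ∼_rat c_j(F) ∩ α. Setting: (X, δ) with Cyc.IsSetup
stands for a scheme locally of finite type over the base (S, δ) (X locally Noetherian with
universally catenary local rings, δ a dimension function); (p : P → X, O_P(1), q) is the projective
bundle of E given by its universal property (KRR.IsProjBundle), p is proper and δP is the induced
dimension function (Cyc.DeltaCompat); a tuple γ with Cyc.IsChernCap represents (c_0(E) ∩ α, …,
c_r(E) ∩ α) through the defining relation Σ_i (-1)^i c_1(O_P(1))^i ∩ p^*(γ_{r-i}) ∼_rat 0 on P, and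
classes are compared up to rational equivalence of representing cycles. -/
theorem result (X : Scheme.{u}) (δ : X → ℤ) (hX : Cyc.IsSetup X δ) (m : ℕ) (E : X.Modules) (hPE : FlatMod.IsFinLocFreeOfRank (m + 1) E) (P : Scheme.{u}) (p : P ⟶ X) (O1 : P.Modules) (q : (Scheme.Modules.pullback p).obj E ⟶ O1) (hP : KRR.IsProjBundle p E O1 q) [IsProper p] (δP : P → ℤ) (hPs : Cyc.IsSetup P δP) (hδ : Cyc.DeltaCompat p δP δ) (F : X.Modules) (hQE : FlatMod.IsFinLocFreeOfRank m F) (Q : Scheme.{u}) (p' : Q ⟶ X) (O1' : Q.Modules) (q' : (Scheme.Modules.pullback p').obj F ⟶ O1') (hQ : KRR.IsProjBundle p' F O1' q') [IsProper p'] (δQ : Q → ℤ) (hQs : Cyc.IsSetup Q δQ) (hδ' : Cyc.DeltaCompat p' δQ δ) (a : Coh.structureModule X ⟶ E) (b : E ⟶ F) (hab : a ≫ b = 0) (hex : (ShortComplex.mk a b hab).ShortExact) (k : ℤ) (α : AlgebraicCycle X ℤ) (hα : α ∈ Cyc.Zk X δ k) (γ : Fin (m + 2) → AlgebraicCycle X ℤ) (hγ : Cyc.IsChernCap p δ δP O1 (m + 1) k α γ) (γ' : Fin (m + 1) → AlgebraicCycle X ℤ) (hγ'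 : Cyc.IsChernCap p' δ δQ O1' m k α γ') : Cyc.RatEquivZero δ (k - ((m : ℤ) + 1)) (γ (Fin.last (m + 1))) ∧ ∀ j : Fin (m + 1), Cyc.RatEquiv δ (k - ((j : ℕ) : ℤ)) (γ (Fin.castSucc j)) (γ' j) := by
  obtain ⟨T, π, d, δT, hπ, hfl, hlft, hT, hd, hc, hall⟩ :=
    Dev.exists_split hX 1 (fun _ => F) (fun _ => m) (fun _ => hQE)
  haveI := hfl
  haveI := hlft
  obtain ⟨ls, hls, hn⟩ := hall 0
  have hLπ := Amp73.isInvertible_pullback π (EGA73.isInvertible_structureModule (X := X))
  have hl : Dev.HasFilt ((Scheme.Modules.pullback π).obj E) (ls ++ [(Scheme.Modules.pullback π).obj (Coh.structureModule X)]) :=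
    .append _ _ _ (Dev.shortExact_pullback_bundle π hex hQE) (.single hLπ) hls
  have hE' := Dev.pullAll_chernCap hX hT hc hd hπ.relDim hPE hP hPs hδ hl (by simp [hn]) hα hγ
  have hF' := Dev.pullAll_chernCap hX hT hc hd hπ.relDim hQE hQ hQs hδ' hls hn hα hγ'
  have hcard : Multiset.card (Dev.rootsOp hT ls) = m := by rw [Dev.card_rootsOp, hn]
  have hroots : ∀ j, (Dev.rootsOp hT (ls ++ [(Scheme.Modules.pullback π).obj (Coh.structureModule X)])).esymm j =
      (Dev.rootsOp hT ls).esymm j := fun j => by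
    rw [Dev.rootsOp_append_single, Dev.lc1_pullback_structureModule, Dev.esymm_cons_zero]
  refine ⟨?_, fun j => ?_⟩
  · have hmem : γ (Fin.last (m + 1)) ∈ Dev.zkSub δ (k - ((m : ℤ) + 1)) := by
      have := hγ.2.1 (Fin.last (m + 1))
      rwa [Fin.val_last, Nat.cast_add, Nat.cast_one] at this
    refine (Dev.clk_eq_zero_iff hX hmem).1 (Dev.clk_eq_zero_of_pullAll hX hT hc hd hπ hmem ?_)
    have h := hE' (Fin.last (m + 1))
    rw [Fin.val_last, Nat.cast_add, Nat.cast_one, hroots,
      Dev.esymm_eq_zero_of_card_lt (by omega), map_zero] at h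
    exact h
  · refine Dev.ratEquiv_of_pullAll hX hT hc hd hπ (hγ.2.1 (Fin.castSucc j)) (hγ'.2.1 j) ?_
    rw [hF' j, ← hroots]
    exact hE' (Fin.castSucc j)

end Groth.Agent.S12663
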