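import Groth.Statements.S12664
import Groth.Agent.Cyc90.Dev.RootFacts
open Groth.Agent.Cyc90

set_option autoImplicit false
set_option backward.isDefEq.respectTransparency.types false
set_option synthInstance.maxHeartbeats 200000
universe u
open CategoryTheory CategoryTheory.Limits AlgebraicGeometry
open Cyc

namespace Groth.Agent.S12664

/-- If 0 → L → E → F → 0 is a short exact sequence on X with L invertible and E, F finite locally free
of ranks m + 1, m, then c(E) = c(L) c(F), that is c_i(E) = c_i(F) + c_1(L) c_{i-1}(F) for i = 1, …,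
m and c_{m+1}(E) = c_1(L) c_m(F), as cap operations on every k-cycle α, with c_1(L) ∩ - computed on
coefficient functions from any nonzero rational sections (Cyc.c1CapFun) applied to the
representatives of c_{i-1}(F) ∩ α. Setting: (X, δ) with Cyc.IsSetup stands for a scheme locally of
finite type over the base (S, δ) (X locally Noetherian with universally catenary local rings, δ a
dimension function); (p : P → X, O_P(1), q) is the projective bundle of E given by its universal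
property (KRR.IsProjBundle), p is proper and δP is the induced dimension function (Cyc.DeltaCompat);
a tuple γ with Cyc.IsChernCap represents (c_0(E) ∩ α, …, c_r(E) ∩ α) through the defining relation
Σ_i (-1)^i c_1(O_P(1))^i ∩ p^*(γ_{r-i}) ∼_rat 0 on P, and classes are compared up to rational
equivalence of representing cycles. -/
theorem result (X : Scheme.{u}) (δ : X → ℤ) (hX : Cyc.IsSetup X δ) (m : ℕ) (E : X.Modules) (hPE : FlatMod.IsFinLocFreeOfRank (m + 1) E) (P : Scheme.{u}) (p : P ⟶ X) (O1 : P.Modules) (q : (Scheme.Modules.pullback p).obj E ⟶ O1) (hP : KRR.IsProjBundle p E O1 q) [IsProper p] (δP : P → ℤ) (hPs : Cyc.IsSetup P δP) (hδ : Cyc.DeltaCompat p δP δ) (F : X.Modules) (hQE : FlatMod.IsFinLocFreeOfRank m F) (Q : Scheme.{u}) (p' : Q ⟶ X) (O1' : Q.Modules) (q' : (Scheme.Modules.pullback p').obj F ⟶ O1') (hQ : KRR.IsProjBundle p' F O1' q') [IsProper p'] (δQ : Q → ℤ) (hQs : Cyc.IsSetup Q δQ) (hδ' : Cyc.DeltaCompat p' δQ δ) (L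 : X.Modules) (hL : PicF.IsInvertible L) (a : L ⟶ E) (b : E ⟶ F) (hab : a ≫ b = 0) (hex : (ShortComplex.mk a b hab).ShortExact) (k : ℤ) (α : AlgebraicCycle X ℤ) (hα : α ∈ Cyc.Zk X δ k) (γ : Fin (m + 2) → AlgebraicCycle X ℤ) (hγ : Cyc.IsChernCap p δ δP O1 (m + 1) k α γ) (γ' : Fin (m + 1) → AlgebraicCycle X ℤ) (hγ' : Cyc.IsChernCap p' δ δQ O1' m k α γ') (t : (ξ : X) → Cyc.secFibre L ξ) (ht : ∀ ξ, t ξ ≠ 0) (ζ : Fin (m + 1) → AlgebraicCycle X ℤ) (hζ : ∀ j, ⇑(ζ j) = Cyc.c1CapFun δ L ⇑(γ' j) t) : (∀ j : Fin m, Cyc.RatEquiv δ (k - ((j : ℕ) : ℤ) - 1) (γ (Fin.succ (Fin.castSucc j))) (γ' (Fin.succ j) + ζ (Fin.castSucc j))) ∧ Cyc.RatEquiv δ (k - (m : ℤ) - 1) (γ (Fin.last (m + 1))) (ζ (Fin.last m)) := by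
  obtain ⟨T, π, d, δT, hπ, hfl, hlft, hT, hd, hc, hall⟩ :=
    Dev.exists_split hX 1 (fun _ => F) (fun _ => m) (fun _ => hQE)
  haveI := hfl
  haveI := hlft
  obtain ⟨ls, hls, hn⟩ := hall 0
  have hLπ := Amp73.isInvertible_pullback π hL
  have hl : Dev.HasFilt ((Scheme.Modules.pullback π).obj E) (ls ++ [(Scheme.Modules.pullback π).obj L]) :=
    .append _ _ _ (Dev.shortExact_pullback_bundle π hex hQE) (.single hLπ) hls
  have hE' := Dev.pullAll_chernCap hX hT hc hd hπ.relDim hPE hP hPs hδ hl (by simp [hn]) hα hγ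
  have hF' := Dev.pullAll_chernCap hX hT hc hd hπ.relDim hQE hQ hQs hδ' hls hn hα hγ'
  have hcard : Multiset.card (Dev.rootsOp hT ls) = m := by rw [Dev.card_rootsOp, hn]
  have hroots : Dev.rootsOp hT (ls ++ [(Scheme.Modules.pullback π).obj L]) =
      Dev.lc1 hT ((Scheme.Modules.pullback π).obj L) ::ₘ Dev.rootsOp hT ls := Dev.rootsOp_append_single hT _ _
  have hζ' : ∀ j, ζ j = Dev.cap1 hX hL t ht (γ' j) := fun j =>
    DFunLike.coe_injective ((hζ j).trans (Dev.coe_cap1 hX hL t ht _).symm)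
  have hζm : ∀ j : Fin (m + 1), ζ j ∈ Dev.zkSub δ (k - (j : ℕ) - 1) := fun j =>
    hζ' j ▸ Dev.cap1_mem_pred hX hL t ht (hγ'.2.1 j)
  have hζp : ∀ j : Fin (m + 1), Dev.pullAll π hT hX hc (Dev.clk hX (k - (j : ℕ) - 1) (ζ j)) =
      Dev.opAct hT (Dev.lc1 hT ((Scheme.Modules.pullback π).obj L) * (Dev.rootsOp hT ls).esymm j)
        (Dev.pullAll π hT hX hc (Dev.clk hX k α)) := fun j => by
    have h := Dev.pullAll_lc1 π hT hX hc hL (Dev.clk hX (k - (j : ℕ)) (γ' j))
    rw [Dev.opAct_lc1, Dev.c1End_clk hX hL t ht (hγ'.2.1 j), ← hζ', hF' j] at h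
    rw [h, map_mul]
    rfl
  refine ⟨fun j => ?_, ?_⟩
  · have e : k - ((j : ℕ) : ℤ) - 1 = k - ((Fin.succ j : Fin (m + 1)) : ℕ) := by
      rw [Fin.val_succ]; push_cast; ring
    have hγm : γ (Fin.succ (Fin.castSucc j)) ∈ Dev.zkSub δ (k - (j : ℕ) - 1) := by
      have := hγ.2.1 (Fin.succ (Fin.castSucc j))
      rw [show k - ((j : ℕ) : ℤ) - 1 = k - ((Fin.succ (Fin.castSucc j) : Fin (m + 2)) : ℕ) by
        rw [Fin.val_succ, Fin.val_castSucc]; push_cast; ring]
      exact this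
    have hγ'm : γ' (Fin.succ j) ∈ Dev.zkSub δ (k - (j : ℕ) - 1) := e ▸ hγ'.2.1 (Fin.succ j)
    have hζj := hζm (Fin.castSucc j)
    refine Dev.ratEquiv_of_pullAll hX hT hc hd hπ hγm (add_mem hγ'm hζj) ?_
    rw [Dev.clk_add hX hγ'm hζj, map_add]
    have h1 := hE' (Fin.succ (Fin.castSucc j))
    rw [hroots, Fin.val_succ, Fin.val_castSucc, Dev.esymm_cons_succ, map_add,
      show k - (((j : ℕ) + 1 : ℕ) : ℤ) = k - (j : ℕ) - 1 by push_cast; ring] at h1
    have h2 := hF' (Fin.succ j)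
    rw [Fin.val_succ, show k - (((j : ℕ) + 1 : ℕ) : ℤ) = k - (j : ℕ) - 1 by push_cast; ring] at h2
    have h3 := hζp (Fin.castSucc j)
    rw [Fin.val_castSucc] at h3
    rw [h1, h2, h3]
    rfl
  · have hζj := hζm (Fin.last m)
    rw [Fin.val_last] at hζj
    have hγm : γ (Fin.last (m + 1)) ∈ Dev.zkSub δ (k - (m : ℕ) - 1) := by
      have := hγ.2.1 (Fin.last (m + 1))
      rwa [Fin.val_last, show k - ((m + 1 : ℕ) : ℤ) = k - m - 1 by push_cast; ring] at this
    refine Dev.ratEquiv_of_pullAll hX hT hc hd hπ hγm hζj ?_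
    have h1 := hE' (Fin.last (m + 1))
    rw [hroots, Fin.val_last, Dev.esymm_cons_succ,
      Dev.esymm_eq_zero_of_card_lt (show Multiset.card (Dev.rootsOp hT ls) < m + 1 by omega), zero_add,
      show k - ((m + 1 : ℕ) : ℤ) = k - m - 1 by push_cast; ring] at h1
    have h3 := hζp (Fin.last m)
    rw [Fin.val_last] at h3
    rw [h1, h3]

end Groth.Agent.S12664
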