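import Groth.Statements.S12665
import Groth.Agent.Cyc90.Dev.SplitPrinciple
open Groth.Agent.Cyc90

set_option autoImplicit false
set_option backward.isDefEq.respectTransparency.types false
set_option synthInstance.maxHeartbeats 200000
universe u
open CategoryTheory CategoryTheory.Limits AlgebraicGeometry
open Cyc

namespace Groth.Agent.S12665

/-- For a short exact sequence 0 → E₁ → E → E₂ → 0 of finite locally free modules of ranks r₁, r₁ + r₂,
r₂ on X, c(E) = c(E₁) c(E₂), that is c_j(E) ∩ α ∼_rat Σ_{a+b=j} c_a(E₁) ∩ (c_b(E₂) ∩ α) for every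
k-cycle α and every j; the inner caps are represented by a tuple for E₂ over α and, for each of its
components, a tuple for E₁ over it. Setting: (X, δ) with Cyc.IsSetup stands for a scheme locally of
finite type over the base (S, δ) (X locally Noetherian with universally catenary local rings, δ a
dimension function); (p : P → X, O_P(1), q) is the projective bundle of E given by its universal
property (KRR.IsProjBundle), p is proper and δP is the induced dimension function (Cyc.DeltaCompat);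
a tuple γ with Cyc.IsChernCap represents (c_0(E) ∩ α, …, c_r(E) ∩ α) through the defining relation
Σ_i (-1)^i c_1(O_P(1))^i ∩ p^*(γ_{r-i}) ∼_rat 0 on P, and classes are compared up to rational
equivalence of representing cycles. -/
theorem result (X : Scheme.{u}) (δ : X → ℤ) (hX : Cyc.IsSetup X δ) (r₁ r₂ : ℕ) (E₁ : X.Modules) (hP₁E : FlatMod.IsFinLocFreeOfRank r₁ E₁) (P₁ : Scheme.{u}) (p₁ : P₁ ⟶ X) (O₁ : P₁.Modules) (q₁ : (Scheme.Modules.pullback p₁).obj E₁ ⟶ O₁) (hP₁ : KRR.IsProjBundle p₁ E₁ O₁ q₁) [IsProper p₁] (δ₁ : P₁ → ℤ) (hP₁s : Cyc.IsSetup P₁ δ₁) (hδ₁ : Cyc.DeltaCompat p₁ δ₁ δ) (E : X.Modules) (hPE : FlatMod.IsFinLocFreeOfRank (r₁ + r₂) E) (P : Scheme.{u}) (p : P ⟶ X) (O1 : P.Modules) (q : (Scheme.Modules.pullback p).obj E ⟶ O1) (hP : KRR.IsProjBundle p E O1 q) [IsProper p] (δP : P → ℤ) (hPs : Cyc.IsSetup P δP) (hδ : Cyc.DeltaCompat p δP δ) (E₂ : X.Modules) (hP₂E : FlatMod.IsFinLocFreeOfRank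 r₂ E₂) (P₂ : Scheme.{u}) (p₂ : P₂ ⟶ X) (O₂ : P₂.Modules) (q₂ : (Scheme.Modules.pullback p₂).obj E₂ ⟶ O₂) (hP₂ : KRR.IsProjBundle p₂ E₂ O₂ q₂) [IsProper p₂] (δ₂ : P₂ → ℤ) (hP₂s : Cyc.IsSetup P₂ δ₂) (hδ₂ : Cyc.DeltaCompat p₂ δ₂ δ) (a : E₁ ⟶ E) (b : E ⟶ E₂) (hab : a ≫ b = 0) (hex : (ShortComplex.mk a b hab).ShortExact) (k : ℤ) (α : AlgebraicCycle X ℤ) (hα : α ∈ Cyc.Zk X δ k) (γ₂ : Fin (r₂ + 1) → AlgebraicCycle X ℤ) (hγ₂ : Cyc.IsChernCap p₂ δ δ₂ O₂ r₂ k α γ₂) (ε : Fin (r₂ + 1) → Fin (r₁ + 1) → AlgebraicCycle X ℤ) (hε : ∀ b : Fin (r₂ + 1), Cyc.IsChernCap p₁ δ δ₁ O₁ r₁ (k - ((b : ℕ) : ℤ)) (γ₂ b) (ε b)) (γ : Fin (r₁ + r₂ + 1) → AlgebraicCycle X ℤ) (hγ : Cyc.IsChernCap p δ δP O1 (r₁ + r₂) k α γ) (j : Fin (r₁ + r₂ + 1)) : Cyc.RatEquiv δ (k - ((j : ℕ) : ℤ)) (γ j) (∑ a : Fin (r₁ + 1), ∑ b : Fin (r₂ + 1), if (a : ℕ) + (b : ℕ) = (j : ℕ) then ε b a else 0) := by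
  classical
  obtain ⟨T, π, d, δT, hπ, hfl, hlft, hT, hd, hc, hall⟩ :=
    Dev.exists_split hX 2 ![E₁, E₂] ![r₁, r₂] (Fin.forall_fin_two.2 ⟨hP₁E, hP₂E⟩)
  haveI := hfl
  haveI := hlft
  obtain ⟨l₁, hl₁, hn₁⟩ := hall 0
  obtain ⟨l₂, hl₂, hn₂⟩ := hall 1
  simp only [Matrix.cons_val_zero, Matrix.cons_val_one] at hl₁ hl₂ hn₁ hn₂
  have hl : Dev.HasFilt ((Scheme.Modules.pullback π).obj E) (l₂ ++ l₁) :=
    .append _ _ _ (Dev.shortExact_pullback_bundle π hex hP₂E) hl₁ hl₂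
  have hterm : ∀ (x : Fin (r₁ + 1)) (y : Fin (r₂ + 1)),
      (if (x : ℕ) + (y : ℕ) = (j : ℕ) then ε y x else 0) ∈ Dev.zkSub δ (k - (j : ℕ)) := fun x y => by
    split_ifs with h
    · have := (hε y).2.1 x
      rwa [show k - ((y : ℕ) : ℤ) - ((x : ℕ) : ℤ) = k - ((j : ℕ) : ℤ) by omega] at this
    · exact zero_mem _
  refine Dev.ratEquiv_of_pullAll hX hT hc hd hπ (hγ.2.1 j) (sum_mem fun x _ => sum_mem fun y _ => hterm x y) ?_
  rw [Dev.pullAll_chernCap hX hT hc hd hπ.relDim hPE hP hPs hδ hl (by simp [hn₁, hn₂, add_comm]) hα hγ j,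
    Dev.clk_sum hX _ _ (fun x _ => sum_mem fun y _ => hterm x y)]
  simp only [map_sum, Dev.clk_sum hX _ _ fun y _ => hterm _ y]
  have hval : ∀ (x : Fin (r₁ + 1)) (y : Fin (r₂ + 1)),
      Dev.pullAll π hT hX hc (Dev.clk hX (k - (j : ℕ)) (if (x : ℕ) + (y : ℕ) = (j : ℕ) then ε y x else 0)) =
        Dev.opAct hT (if (x : ℕ) + (y : ℕ) = (j : ℕ) then
            (Dev.rootsOp hT l₁).esymm x * (Dev.rootsOp hT l₂).esymm y else 0)
          (Dev.pullAll π hT hX hc (Dev.clk hX k α)) := fun x y => by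
    split_ifs with h
    · have h1 := Dev.pullAll_chernCap hX hT hc hd hπ.relDim hP₁E hP₁ hP₁s hδ₁ hl₁ hn₁ (hγ₂.2.1 y) (hε y) x
      rw [show k - ((y : ℕ) : ℤ) - ((x : ℕ) : ℤ) = k - ((j : ℕ) : ℤ) by omega] at h1
      rw [h1, Dev.pullAll_chernCap hX hT hc hd hπ.relDim hP₂E hP₂ hP₂s hδ₂ hl₂ hn₂ hα hγ₂ y, map_mul]
      rfl
    · rw [Dev.clk_zero, map_zero, map_zero]
      rfl
  simp only [hval]
  have hid : (Dev.rootsOp hT (l₂ ++ l₁)).esymm (j : ℕ) = ∑ x : Fin (r₁ + 1), ∑ y : Fin (r₂ + 1),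
      if (x : ℕ) + (y : ℕ) = (j : ℕ) then
        (Dev.rootsOp hT l₁).esymm x * (Dev.rootsOp hT l₂).esymm y else 0 := by
    rw [Dev.rootsOp_append, add_comm, Dev.esymm_add]
    have hx : ∀ x : ℕ, (∑ y : Fin (r₂ + 1), if x + (y : ℕ) = (j : ℕ) then
        (Dev.rootsOp hT l₁).esymm x * (Dev.rootsOp hT l₂).esymm y else 0) = if x ≤ (j : ℕ) then
        (Dev.rootsOp hT l₁).esymm x * (Dev.rootsOp hT l₂).esymm ((j : ℕ) - x) else 0 := fun x => by
      rw [Fin.sum_univ_eq_sum_range (fun y => if x + y = (j : ℕ) then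
        (Dev.rootsOp hT l₁).esymm x * (Dev.rootsOp hT l₂).esymm y else 0)]
      split_ifs with h
      · rw [Finset.sum_eq_single ((j : ℕ) - x) (fun y _ hy => if_neg (by omega)) (fun hmem => ?_),
          if_pos (by omega)]
        rw [Finset.mem_range] at hmem
        rw [if_pos (by omega), Dev.esymm_eq_zero_of_card_lt (s := Dev.rootsOp hT l₂)
          (by rw [Dev.card_rootsOp, hn₂]; omega), mul_zero]
      · exact Finset.sum_eq_zero fun y _ => if_neg (by omega)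
    simp only [hx]
    rw [Fin.sum_univ_eq_sum_range (fun x => if x ≤ (j : ℕ) then
        (Dev.rootsOp hT l₁).esymm x * (Dev.rootsOp hT l₂).esymm ((j : ℕ) - x) else 0), ← Finset.sum_filter]
    refine (Finset.sum_subset (fun x hx => ?_) fun x hx hx' => ?_).symm
    · rw [Finset.mem_filter] at hx
      exact Finset.mem_range.2 (by omega)
    · rw [Finset.mem_range] at hx
      rw [Finset.mem_filter, Finset.mem_range] at hx'
      rw [Dev.esymm_eq_zero_of_card_lt (s := Dev.rootsOp hT l₁) (by rw [Dev.card_rootsOp, hn₁]; omega), zero_mul]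
  rw [hid]
  simp only [map_sum]
  erw [AddMonoidHom.finsetSum_apply]
  refine Finset.sum_congr rfl fun x _ => ?_
  exact AddMonoidHom.finsetSum_apply _ _ _

end Groth.Agent.S12665
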