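import Groth.Statements.S12666
import Groth.Agent.Cyc90.Dev.TensorFilt
import Groth.Agent.Cyc90.Dev.PullPow
import Groth.Agent.TwTens96.Basic
open Groth.Agent.Cyc90

set_option autoImplicit false
set_option backward.isDefEq.respectTransparency.types false
set_option synthInstance.maxHeartbeats 200000
universe u
open CategoryTheory CategoryTheory.Limits AlgebraicGeometry
open Cyc

namespace Groth.Agent.S12666

/-- For E finite locally free of rank r and L invertible on X, c_i(E ⊗ L) = Σ_{j=0}^{i} C(r-i+j, j)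
c_{i-j}(E) c_1(L)^j for i ≤ r, as cap operations on every k-cycle α: c_i(E ⊗ L) ∩ α ∼_rat Σ_j
C(r-i+j, j) c_1(L)^j ∩ (c_{i-j}(E) ∩ α), where c_1(L)^j ∩ - is the j-fold iterated cap on
coefficient functions with any nonzero rational sections (Cyc.c1PowFun) and E ⊗ L is the tensor
product of O_X-modules (CohB1.tensorMod). Setting: (X, δ) with Cyc.IsSetup stands for a scheme
locally of finite type over the base (S, δ) (X locally Noetherian with universally catenary local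
rings, δ a dimension function); (p : P → X, O_P(1), q) is the projective bundle of E given by its
universal property (KRR.IsProjBundle), p is proper and δP is the induced dimension function
(Cyc.DeltaCompat); a tuple γ with Cyc.IsChernCap represents (c_0(E) ∩ α, …, c_r(E) ∩ α) through the
defining relation Σ_i (-1)^i c_1(O_P(1))^i ∩ p^*(γ_{r-i}) ∼_rat 0 on P, and classes are compared up
to rational equivalence of representing cycles. -/
theorem result (X : Scheme.{u}) (δ : X → ℤ) (hX : Cyc.IsSetup X δ) (r : ℕ) (E : X.Modules) (hPE : FlatMod.IsFinLocFreeOfRank r E) (P : Scheme.{u}) (p : P ⟶ X) (O1 : P.Modules) (q : (Scheme.Modules.pullback p).obj E ⟶ O1) (hP : KRR.IsProjBundle p E O1 q) [IsProper p] (δP : P → ℤ) (hPs : Cyc.IsSetup P δP) (hδ : Cyc.DeltaCompat p δP δ) (L : X.Modules) (hL : PicF.IsInvertible L) (hP'E : FlatMod.IsFinLocFreeOfRank r (CohB1.tensorMod E L)) (P' : Scheme.{u}) (p' : P' ⟶ X) (O1' : P'.Modules)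 (q' : (Scheme.Modules.pullback p').obj (CohB1.tensorMod E L) ⟶ O1') (hP' : KRR.IsProjBundle p' (CohB1.tensorMod E L) O1' q') [IsProper p'] (δP' : P' → ℤ) (hPs' : Cyc.IsSetup P' δP') (hδ' : Cyc.DeltaCompat p' δP' δ) (k : ℤ) (α : AlgebraicCycle X ℤ) (hα : α ∈ Cyc.Zk X δ k) (γ : Fin (r + 1) → AlgebraicCycle X ℤ) (hγ : Cyc.IsChernCap p δ δP O1 r k α γ) (γ' : Fin (r + 1) → AlgebraicCycle X ℤ) (hγ' : Cyc.IsChernCap p' δ δP' O1' r k α γ') (t : ℕ → (ξ : X) → Cyc.secFibre L ξ) (ht : ∀ m ξ, t m ξ ≠ 0) (i : Fin (r + 1)) (ζ : Fin (r + 1) → AlgebraicCycle X ℤ) (hζ : ∀ j : Fin (r + 1), (j : ℕ) ≤ (i : ℕ) → ⇑(ζ j) = Cyc.c1PowFun δ L t j ⇑(γ ⟨(i : ℕ) - (j : ℕ), Nat.lt_of_le_of_lt (Nat.sub_le _ _) i.isLt⟩)) : Cyc.RatEquiv δ (k - ((i : ℕ) : ℤ)) (γ' i) (∑ j : Fin (r + 1), if (j : ℕ) ≤ (i : ℕ) then ((Nat.choose (r - i + j) j : ℕ) : ℤ) • ζ j else 0) := by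
  obtain ⟨T, π, d, δT, hπ, hfl, hlft, hT, hd, hc, hall⟩ :=
    Dev.exists_split hX 1 (fun _ => E) (fun _ => r) (fun _ => hPE)
  haveI := hfl
  haveI := hlft
  obtain ⟨ls, hls, hn⟩ := hall 0
  have hLπ := Amp73.isInvertible_pullback π hL
  have hl' : Dev.HasFilt ((Scheme.Modules.pullback π).obj (CohB1.tensorMod E L))
      (ls.map fun A => CohB1.tensorMod A ((Scheme.Modules.pullback π).obj L)) :=
    (hls.twist hLπ).of_iso (TwTens96.pullTensIso π E L).symm
  have hE := Dev.pullAll_chernCap hX hT hc hd hπ.relDim hPE hP hPs hδ hls hn hα hγ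
  have hT' := Dev.pullAll_chernCap hX hT hc hd hπ.relDim hP'E hP' hPs' hδ' hl' (by simp [hn]) hα hγ' i
  have hcard : Multiset.card (Dev.rootsOp hT ls) = r := by rw [Dev.card_rootsOp, hn]
  let γi : Fin (r + 1) → AlgebraicCycle X ℤ := fun j =>
    γ ⟨(i : ℕ) - (j : ℕ), Nat.lt_of_le_of_lt (Nat.sub_le _ _) i.isLt⟩
  have hζ' : ∀ j : Fin (r + 1), (j : ℕ) ≤ (i : ℕ) → ζ j ∈ Dev.zkSub δ (k - (i : ℕ)) ∧
      Dev.pullAll π hT hX hc (Dev.clk hX (k - (i : ℕ)) (ζ j)) =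
        Dev.opAct hT (Dev.lc1 hT ((Scheme.Modules.pullback π).obj L) ^ (j : ℕ) *
            (Dev.rootsOp hT ls).esymm ((i : ℕ) - (j : ℕ)))
          (Dev.pullAll π hT hX hc (Dev.clk hX k α)) := by
    intro j hj
    have he : ζ j = Dev.capPow hX hL t ht (j : ℕ) (γi j) :=
      DFunLike.coe_injective ((hζ j hj).trans (Dev.coe_capPow hX hL t ht _ _).symm)
    have hm : γi j ∈ Dev.zkSub δ (k - ((i : ℕ) - (j : ℕ) : ℕ)) :=
      hγ.2.1 ⟨(i : ℕ) - (j : ℕ), Nat.lt_of_le_of_lt (Nat.sub_le _ _) i.isLt⟩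
    have h1 := Dev.lc1_pow_clk hX hL t ht hm (j : ℕ)
    have h2 := Dev.capPow_mem hX hL t ht hm (j : ℕ)
    rw [← he, show k - (((i : ℕ) - (j : ℕ) : ℕ) : ℤ) - (j : ℕ) = k - (i : ℕ) by omega] at h1 h2
    refine ⟨h2, ?_⟩
    rw [← h1, Dev.pullAll_lc1_pow π hT hX hc hL, map_mul]
    exact congrArg _ (hE ⟨(i : ℕ) - (j : ℕ), Nat.lt_of_le_of_lt (Nat.sub_le _ _) i.isLt⟩)
  have hterm : ∀ j : Fin (r + 1),
      (if (j : ℕ) ≤ (i : ℕ) then ((Nat.choose (r - i + j) j : ℕ) : ℤ) • ζ j else 0) ∈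
        Dev.zkSub δ (k - (i : ℕ)) := by
    intro j
    split_ifs with hj
    · exact zsmul_mem (hζ' j hj).1 _
    · exact zero_mem _
  refine Dev.ratEquiv_of_pullAll hX hT hc hd hπ (hγ'.2.1 i) (sum_mem fun j _ => hterm j) ?_
  rw [hT', Dev.rootsOp_twist hT hls.isInvertible hLπ, Dev.esymm_map_add _ _ (by omega), hcard,
    Dev.clk_sum hX _ _ fun j _ => hterm j, map_sum, map_sum]
  erw [AddMonoidHom.finsetSum_apply]
  have hg : ∀ j : Fin (r + 1), Dev.pullAll π hT hX hc (Dev.clk hX (k - (i : ℕ))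
        (if (j : ℕ) ≤ (i : ℕ) then ((Nat.choose (r - i + j) j : ℕ) : ℤ) • ζ j else 0)) =
      (fun a : ℕ => if a ≤ (i : ℕ) then Dev.opAct hT ((Nat.choose (r - i + a) a : Dev.opRing hT) *
        (Dev.lc1 hT ((Scheme.Modules.pullback π).obj L) ^ a * (Dev.rootsOp hT ls).esymm ((i : ℕ) - a)))
          (Dev.pullAll π hT hX hc (Dev.clk hX k α)) else 0) (j : ℕ) := by
    intro j
    by_cases hj : (j : ℕ) ≤ (i : ℕ)
    · simp only [if_pos hj]
      rw [Dev.clk_zsmul hX (hζ' j hj).1, map_zsmul, (hζ' j hj).2, natCast_zsmul, ← nsmul_eq_mul, map_nsmul]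
      rfl
    · simp only [if_neg hj]
      rw [Dev.clk_zero, map_zero]
  let y := Dev.pullAll π hT hX hc (Dev.clk hX k α)
  let g : ℕ → Dev.ChowAll hT := fun a => Dev.opAct hT ((Nat.choose (r - i + a) a : Dev.opRing hT) *
    (Dev.lc1 hT ((Scheme.Modules.pullback π).obj L) ^ a * (Dev.rootsOp hT ls).esymm ((i : ℕ) - a))) y
  rw [Finset.sum_congr rfl fun j _ => hg j]
  show ∑ a ∈ Finset.range ((i : ℕ) + 1), g a = ∑ j : Fin (r + 1), if (j : ℕ) ≤ (i : ℕ) then g j else 0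
  rw [Fin.sum_univ_eq_sum_range (fun a => if a ≤ (i : ℕ) then g a else 0) (r + 1), ← Finset.sum_filter]
  refine Finset.sum_congr ?_ fun a _ => rfl
  ext a
  simp only [Finset.mem_filter, Finset.mem_range]
  omega

end Groth.Agent.S12666
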