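import Groth.Statements.S12667
import Groth.Agent.Cyc90.Dev.ZeroMain
open Groth.Agent.Cyc90

set_option autoImplicit false
set_option backward.isDefEq.respectTransparency.types false
set_option synthInstance.maxHeartbeats 200000
universe u
open CategoryTheory CategoryTheory.Limits AlgebraicGeometry
open Cyc

namespace Groth.Agent.S12667

/-- Let E be finite locally free of rank r on X with dim_δ(X) ≤ n, s ∈ Γ(X, E) a global section and Z =
Z(s) its zero scheme, the closed subscheme whose ideal is the image of s : E^∨ → O_X (pinned here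
pointwise: Z is the locus where s vanishes in E(x), and at each point of Z the ideal of Z in O_{X,x}
is generated by the coordinates of the germ of s in a basis of the free module E_x). Suppose further
that dim_δ(Z) ≤ n - r, and that whenever ξ is a generic point of Z with δ(ξ) = n - r, the ideal of Z
in the local ring O_{X,ξ} admits r generators forming a regular sequence. Under these hypotheses the
classes c_r(E) ∩ [X]_n and [Z]_{n-r} coincide in CH_{n-r}(X), where [X]_n and [Z]_{n-r} denote the
cycles attached to the closed subschemes (Cyc.subschemeFun). (The published statement is for a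
section of f^*E along any f : X' → X locally of finite type; since f^*E is again finite locally free
of rank r on X', the case f = id stated here for all X and E is the general one.) Setting: (X, δ)
with Cyc.IsSetup stands for a scheme locally of finite type over the base (S, δ) (X locally
Noetherian with universally catenary local rings, δ a dimension function); (p : P → X, O_P(1), q) is
the projective bundle of E given by its universal property (KRR.IsProjBundle), p is proper and δP is
the induced dimension function (Cyc.DeltaCompat); a tuple γ with Cyc.IsChernCap represents (c_0(E) ∩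
α, …, c_r(E) ∩ α) through the defining relation Σ_i (-1)^i c_1(O_P(1))^i ∩ p^*(γ_{r-i}) ∼_rat 0 on
P, and classes are compared up to rational equivalence of representing cycles. -/
theorem result (X : Scheme.{u}) (δ : X → ℤ) (hX : Cyc.IsSetup X δ) (r : ℕ) (E : X.Modules) (hPE : FlatMod.IsFinLocFreeOfRank r E) (P : Scheme.{u}) (p : P ⟶ X) (O1 : P.Modules) (q : (Scheme.Modules.pullback p).obj E ⟶ O1) (hP : KRR.IsProjBundle p E O1 q) [IsProper p] (δP : P → ℤ) (hPs : Cyc.IsSetup P δP) (hδ : Cyc.DeltaCompat p δP δ) (n : ℤ) (hn : ∀ x : X, δ x ≤ n) (s : E.presheaf.obj (Opposite.op ⊤)) (Z : Scheme.{u}) (i : Z ⟶ X) [IsClosedImmersion i] (hZ1 : Set.range ⇑i = {x : X | (E.presheaf.germ ⊤ x trivial) s ∈ IsLocalRing.maximalIdeal (X.presheaf.stalk x) • (⊤ : Submodule (X.presheaf.stalk x) (E.presheaf.stalk x))}) (hZ2 : ∀ z : Z, ∃ b : Module.Basis (Fin r) (X.presheaf.stalk (i z)) (E.presheaf.stalk (i z)), RingHom.ker (i.stalkMap z).hom = Ideal.span (Set.range fun l : Fin r => b.repr ((E.presheaf.germ ⊤ (i z) trivial)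 s) l)) (hZ3 : ∀ z : Z, δ (i z) ≤ n - (r : ℤ)) (hZ4 : ∀ z : Z, δ (i z) = n - (r : ℤ) → ∃ f : Fin r → X.presheaf.stalk (i z), RingTheory.Sequence.IsRegular (X.presheaf.stalk (i z)) (List.ofFn f) ∧ RingHom.ker (i.stalkMap z).hom = Ideal.span (Set.range f)) (α : AlgebraicCycle X ℤ) (hα : ⇑α = Cyc.subschemeFun δ n (𝟙 X)) (γ : Fin (r + 1) → AlgebraicCycle X ℤ) (hγ : Cyc.IsChernCap p δ δP O1 r n α γ) (ζ : AlgebraicCycle X ℤ) (hζ : ⇑ζ = Cyc.subschemeFun δ (n - (r : ℤ)) i) : Cyc.RatEquiv δ (n - (r : ℤ)) (γ (Fin.last r)) ζ := by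
  classical
  have hk : ∀ z : Z, RingHom.ker (i.stalkMap z).hom = Dev.secIdeal E s (i z) := fun z => by
    obtain ⟨b, hb⟩ := hZ2 z
    rw [hb]
    exact (Dev.coordIdeal_eq_span b _).symm
  have hoff : ∀ x ∉ Set.range i, Dev.secIdeal E s x = ⊤ := fun x hx => by
    by_contra h
    rw [hZ1] at hx
    exact hx ((Dev.mem_smul_top_iff_germ hPE s x _).2 (IsLocalRing.le_maximalIdeal h))
  have hmem : ∀ x, Dev.secIdeal E s x ≠ ⊤ → ∃ z, i z = x := fun x hx => by
    by_contra h
    exact hx (hoff x h)
  have hα' := hα.trans (Dev.subschemeFun_id_eq_lenFun δ n)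
  have hζ' := hζ.trans (Dev.subschemeFun_eq_lenFun i δ (n - (r : ℤ)) _ hk hoff)
  have hαz := Dev.mem_zkSub_of_coe_eq_lenFun hα'
  have hζz := Dev.mem_zkSub_of_coe_eq_lenFun hζ'
  obtain ⟨T, π, d, δT, hπ, hfl, hlft, hT, hd, hc, hall⟩ :=
    Dev.exists_split hX 1 ![E] ![r] (fun k => by fin_cases k; exact hPE)
  haveI := hfl
  haveI := hlft
  obtain ⟨ls, hls, hlen⟩ := hall 0
  simp only [Matrix.cons_val_zero] at hls hlen
  refine Dev.ratEquiv_of_pullAll hX hT hc hd hπ (hγ.2.1 (Fin.last r)) hζz ?_
  have h := Dev.pullAll_chernCap hX hT hc hd hπ.relDim hPE hP hPs hδ hls hlen hαz hγ (Fin.last r)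
  simp only [Fin.val_last] at h
  rw [h]
  refine (Dev.topProp r hX hPE s n hn (fun x hx => ?_) (fun x hx hx' => ?_) α ζ hα' hζ' π hT d hc hd
    hπ.relDim ls hls hlen).symm
  · obtain ⟨z, rfl⟩ := hmem x hx
    exact hZ3 z
  · obtain ⟨z, rfl⟩ := hmem x hx
    obtain ⟨f, hf, hf'⟩ := hZ4 z hx'
    exact ⟨f, hf, hf'.symm.trans (hk z)⟩
end Groth.Agent.S12667
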