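import Groth.Statements.S12668
import Groth.Agent.Cyc90.Dev.TensorFilt
import Groth.Agent.TwTens96.Basic
open Groth.Agent.Cyc90

set_option autoImplicit false
set_option backward.isDefEq.respectTransparency.types false
set_option synthInstance.maxHeartbeats 200000
universe u
open CategoryTheory CategoryTheory.Limits AlgebraicGeometry
open Cyc

namespace Groth.Agent.S12668

/-- For E, F finite locally free of ranks r, s on X, c_1(E ⊗ F) = r c_1(F) + s c_1(E), as cap operations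
on every k-cycle α; E ⊗ F is the tensor product of O_X-modules (CohB1.tensorMod), of rank rs, and
enters through its own projective bundle. Stated for r, s ≥ 1. Setting: (X, δ) with Cyc.IsSetup
stands for a scheme locally of finite type over the base (S, δ) (X locally Noetherian with
universally catenary local rings, δ a dimension function); (p : P → X, O_P(1), q) is the projective
bundle of E given by its universal property (KRR.IsProjBundle), p is proper and δP is the induced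
dimension function (Cyc.DeltaCompat); a tuple γ with Cyc.IsChernCap represents (c_0(E) ∩ α, …,
c_r(E) ∩ α) through the defining relation Σ_i (-1)^i c_1(O_P(1))^i ∩ p^*(γ_{r-i}) ∼_rat 0 on P, and
classes are compared up to rational equivalence of representing cycles. -/
theorem result (X : Scheme.{u}) (δ : X → ℤ) (hX : Cyc.IsSetup X δ) (r s : ℕ) (hr : 1 ≤ r) (hs : 1 ≤ s) (E : X.Modules) (hPE : FlatMod.IsFinLocFreeOfRank r E) (P : Scheme.{u}) (p : P ⟶ X) (O1 : P.Modules) (q : (Scheme.Modules.pullback p).obj E ⟶ O1) (hP : KRR.IsProjBundle p E O1 q) [IsProper p] (δP : P → ℤ) (hPs : Cyc.IsSetup P δP) (hδ : Cyc.DeltaCompat p δP δ) (F : X.Modules) (hQE : FlatMod.IsFinLocFreeOfRank s F) (Q : Scheme.{u}) (p' : Q ⟶ X) (O1' : Q.Modules) (q' : (Scheme.Modules.pullback p').obj F ⟶ O1') (hQ : KRR.IsProjBundle p' F O1' q') [IsProper p'] (δQ : Q → ℤ) (hQs : Cyc.IsSetup Q δQ) (hδ' : Cyc.DeltaCompat p' δQ δ) (hTE : FlatMod.IsFinLocFreeOfRank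 (r * s) (CohB1.tensorMod E F)) (T : Scheme.{u}) (p'' : T ⟶ X) (O1'' : T.Modules) (q'' : (Scheme.Modules.pullback p'').obj (CohB1.tensorMod E F) ⟶ O1'') (hT : KRR.IsProjBundle p'' (CohB1.tensorMod E F) O1'' q'') [IsProper p''] (δT : T → ℤ) (hTs : Cyc.IsSetup T δT) (hδ'' : Cyc.DeltaCompat p'' δT δ) (k : ℤ) (α : AlgebraicCycle X ℤ) (hα : α ∈ Cyc.Zk X δ k) (ε : Fin (r + 1) → AlgebraicCycle X ℤ) (hε : Cyc.IsChernCap p δ δP O1 r k α ε) (φ : Fin (s + 1) → AlgebraicCycle X ℤ) (hφ : Cyc.IsChernCap p' δ δQ O1' s k α φ) (τ : Fin (r * s + 1) → AlgebraicCycle X ℤ) (hτ : Cyc.IsChernCap p'' δ δT O1'' (r * s) k α τ) : Cyc.RatEquiv δ (k - 1) (τ ⟨1, Nat.lt_succ_of_le (Nat.mul_pos hr hs)⟩) (((r : ℕ) : ℤ) • φ ⟨1, Nat.lt_succ_of_le hs⟩ + ((s : ℕ) : ℤ) • ε ⟨1, Nat.lt_succ_of_le hr⟩) := by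
  obtain ⟨S, π, d, δS, hπ, hfl, hlft, hS, hd, hc, hall⟩ :=
    Dev.exists_split hX 2 ![E, F] ![r, s] fun i => by
      fin_cases i
      · exact hPE
      · exact hQE
  have := hfl
  have := hlft
  obtain ⟨ls, hls, hn⟩ : ∃ ls, Dev.HasFilt ((Scheme.Modules.pullback π).obj E) ls ∧ ls.length = r := hall 0
  obtain ⟨ls', hls', hn'⟩ : ∃ ls, Dev.HasFilt ((Scheme.Modules.pullback π).obj F) ls ∧ ls.length = s := hall 1
  have hFπ : FlatMod.IsFinLocFree ((Scheme.Modules.pullback π).obj F) := fun x => by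
    obtain ⟨U, hx, h⟩ := Grass5.QuotBC.isFinLocFreeOfRank_pullback π hQE x
    exact ⟨U, s, hx, h⟩
  have hl := (hls.tensor hls' hFπ).of_iso (TwTens96.pullTensIso π E F).symm
  have hT' := Dev.pullAll_chernCap hX hS hc hd hπ.relDim hTE hT hTs hδ'' hl (by simp [hn, hn']) hα hτ
  rw [Dev.rootsOp_tensor hS hls.isInvertible hls'.isInvertible] at hT'
  have hcard : Multiset.card (Dev.rootsOp hS ls) = r := by rw [Dev.card_rootsOp, hn]
  have hcard' : Multiset.card (Dev.rootsOp hS ls') = s := by rw [Dev.card_rootsOp, hn']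
  have hτ1 := hT' ⟨1, Nat.lt_succ_of_le (Nat.mul_pos hr hs)⟩
  have hε1 := Dev.pullAll_chernCap hX hS hc hd hπ.relDim hPE hP hPs hδ hls hn hα hε ⟨1, Nat.lt_succ_of_le hr⟩
  have hφ1 := Dev.pullAll_chernCap hX hS hc hd hπ.relDim hQE hQ hQs hδ' hls' hn' hα hφ ⟨1, Nat.lt_succ_of_le hs⟩
  simp only [Nat.cast_one] at hτ1 hε1 hφ1
  have hmτ : τ ⟨1, Nat.lt_succ_of_le (Nat.mul_pos hr hs)⟩ ∈ Dev.zkSub δ (k - 1) :=
    hτ.2.1 ⟨1, _⟩
  have hmε : ε ⟨1, Nat.lt_succ_of_le hr⟩ ∈ Dev.zkSub δ (k - 1) :=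
    hε.2.1 ⟨1, _⟩
  have hmφ : φ ⟨1, Nat.lt_succ_of_le hs⟩ ∈ Dev.zkSub δ (k - 1) :=
    hφ.2.1 ⟨1, _⟩
  refine Dev.ratEquiv_of_pullAll hX hS hc hd hπ hmτ (add_mem (zsmul_mem hmφ _) (zsmul_mem hmε _)) ?_
  rw [Dev.clk_add hX (zsmul_mem hmφ _) (zsmul_mem hmε _), Dev.clk_zsmul hX hmφ, Dev.clk_zsmul hX hmε,
    map_add, map_zsmul, map_zsmul, hτ1, hε1, hφ1, Dev.esymm_pairSums_one, hcard, hcard', map_add,
    ← nsmul_eq_mul, ← nsmul_eq_mul, map_nsmul, map_nsmul, natCast_zsmul, natCast_zsmul]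
  rfl

end Groth.Agent.S12668
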