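import Groth.Statements.S12669
import Groth.Agent.Cyc90.Dev.TensorFilt
import Groth.Agent.TwTens96.Basic
open Groth.Agent.Cyc90

set_option autoImplicit false
set_option backward.isDefEq.respectTransparency.types false
set_option synthInstance.maxHeartbeats 200000
universe u
open CategoryTheory CategoryTheory.Limits AlgebraicGeometry
open Cyc

namespace Groth.Agent.S12669

/-- For E, F finite locally free of ranks r, s on X, c_2(E ⊗ F) = r c_2(F) + s c_2(E) + C(r,2) c_1(F)^2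
+ (rs - 1) c_1(F) c_1(E) + C(s,2) c_1(E)^2, as cap operations on every k-cycle α; products of
classes are iterated caps represented by nested tuples (a tuple for F, resp. E, over the first
component of a tuple for F; a tuple for E over the first component of a tuple for E), c_2 of a
module of rank < 2 is 0, and E ⊗ F (CohB1.tensorMod, rank rs) enters through its own projective
bundle. Stated for r, s ≥ 1. Setting: (X, δ) with Cyc.IsSetup stands for a scheme locally of finite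
type over the base (S, δ) (X locally Noetherian with universally catenary local rings, δ a dimension
function); (p : P → X, O_P(1), q) is the projective bundle of E given by its universal property
(KRR.IsProjBundle), p is proper and δP is the induced dimension function (Cyc.DeltaCompat); a tuple
γ with Cyc.IsChernCap represents (c_0(E) ∩ α, …, c_r(E) ∩ α) through the defining relation Σ_i
(-1)^i c_1(O_P(1))^i ∩ p^*(γ_{r-i}) ∼_rat 0 on P, and classes are compared up to rational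
equivalence of representing cycles. -/
theorem result (X : Scheme.{u}) (δ : X → ℤ) (hX : Cyc.IsSetup X δ) (r s : ℕ) (hr : 1 ≤ r) (hs : 1 ≤ s) (E : X.Modules) (hPE : FlatMod.IsFinLocFreeOfRank r E) (P : Scheme.{u}) (p : P ⟶ X) (O1 : P.Modules) (q : (Scheme.Modules.pullback p).obj E ⟶ O1) (hP : KRR.IsProjBundle p E O1 q) [IsProper p] (δP : P → ℤ) (hPs : Cyc.IsSetup P δP) (hδ : Cyc.DeltaCompat p δP δ) (F : X.Modules) (hQE : FlatMod.IsFinLocFreeOfRank s F) (Q : Scheme.{u}) (p' : Q ⟶ X) (O1' : Q.Modules) (q' : (Scheme.Modules.pullback p').obj F ⟶ O1') (hQ : KRR.IsProjBundle p' F O1' q') [IsProper p'] (δQ : Q → ℤ) (hQs : Cyc.IsSetup Q δQ) (hδ' : Cyc.DeltaCompat p' δQ δ) (hTE : FlatMod.IsFinLocFreeOfRank (r * s) (CohB1.tensorMod E F)) (T : Scheme.{u}) (p'' : T ⟶ X) (O1'' : T.Modules) (q'' : (Scheme.Modules.pullback p'').obj (CohB1.tensorMod E F) ⟶ O1'') (hT : KRR.IsProjBundle p''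 (CohB1.tensorMod E F) O1'' q'') [IsProper p''] (δT : T → ℤ) (hTs : Cyc.IsSetup T δT) (hδ'' : Cyc.DeltaCompat p'' δT δ) (k : ℤ) (α : AlgebraicCycle X ℤ) (hα : α ∈ Cyc.Zk X δ k) (ε : Fin (r + 1) → AlgebraicCycle X ℤ) (hε : Cyc.IsChernCap p δ δP O1 r k α ε) (φ : Fin (s + 1) → AlgebraicCycle X ℤ) (hφ : Cyc.IsChernCap p' δ δQ O1' s k α φ) (τ : Fin (r * s + 1) → AlgebraicCycle X ℤ) (hτ : Cyc.IsChernCap p'' δ δT O1'' (r * s) k α τ) (φφ : Fin (s + 1) → AlgebraicCycle X ℤ) (hφφ : Cyc.IsChernCap p' δ δQ O1' s (k - 1) (φ ⟨1, Nat.lt_succ_of_le hs⟩) φφ) (εφ : Fin (r + 1) → AlgebraicCycle X ℤ) (hεφ : Cyc.IsChernCap p δ δP O1 r (k - 1) (φ ⟨1, Nat.lt_succ_of_le hs⟩) εφ) (εε : Fin (r + 1) → AlgebraicCycle X ℤ) (hεε : Cyc.IsChernCap p δ δP O1 r (k - 1) (ε ⟨1, Nat.lt_succ_of_le hr⟩) εε) : Cyc.RatEquiv δ (k - 2) (if h2 : 2 ≤ r * s then τ ⟨2, Nat.lt_succ_of_le h2⟩ else 0) (((r : ℕ) : ℤ) • (if h2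 : 2 ≤ s then φ ⟨2, Nat.lt_succ_of_le h2⟩ else 0) + ((s : ℕ) : ℤ) • (if h2 : 2 ≤ r then ε ⟨2, Nat.lt_succ_of_le h2⟩ else 0) + ((Nat.choose r 2 : ℕ) : ℤ) • φφ ⟨1, Nat.lt_succ_of_le hs⟩ + (((r * s : ℕ) : ℤ) - 1) • εφ ⟨1, Nat.lt_succ_of_le hr⟩ + ((Nat.choose s 2 : ℕ) : ℤ) • εε ⟨1, Nat.lt_succ_of_le hr⟩) := by
  obtain ⟨S, π, d, δS, hπ, hfl, hlft, hS, hd, hc, hall⟩ :=
    Dev.exists_split hX 2 ![E, F] ![r, s] fun i => by
      fin_cases i
      · exact hPE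
      · exact hQE
  have := hfl
  have := hlft
  obtain ⟨ls, hls, hn⟩ : ∃ ls, Dev.HasFilt ((Scheme.Modules.pullback π).obj E) ls ∧ ls.length = r := hall 0
  obtain ⟨ls', hls', hn'⟩ : ∃ ls, Dev.HasFilt ((Scheme.Modules.pullback π).obj F) ls ∧ ls.length = s := hall 1
  have hFπ : FlatMod.IsFinLocFree ((Scheme.Modules.pullback π).obj F) := fun x => by
    obtain ⟨U, hx, h⟩ := Grass5.QuotBC.isFinLocFreeOfRank_pullback π hQE x
    exact ⟨U, s, hx, h⟩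
  have hl := (hls.tensor hls' hFπ).of_iso (TwTens96.pullTensIso π E F).symm
  have hT' := Dev.pullAll_chernCap hX hS hc hd hπ.relDim hTE hT hTs hδ'' hl (by simp [hn, hn']) hα hτ
  rw [Dev.rootsOp_tensor hS hls.isInvertible hls'.isInvertible] at hT'
  have hcard : Multiset.card (Dev.rootsOp hS ls) = r := by rw [Dev.card_rootsOp, hn]
  have hcard' : Multiset.card (Dev.rootsOp hS ls') = s := by rw [Dev.card_rootsOp, hn']
  let y := Dev.pullAll π hS hX hc (Dev.clk hX k α)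
  let e1 := (Dev.rootsOp hS ls).esymm 1
  let f1 := (Dev.rootsOp hS ls').esymm 1
  have hmε : ε ⟨1, Nat.lt_succ_of_le hr⟩ ∈ Dev.zkSub δ (k - 1) :=
    hε.2.1 ⟨1, _⟩
  have hmφ : φ ⟨1, Nat.lt_succ_of_le hs⟩ ∈ Dev.zkSub δ (k - 1) :=
    hφ.2.1 ⟨1, _⟩
  have hε1 : Dev.pullAll π hS hX hc (Dev.clk hX (k - 1) (ε ⟨1, Nat.lt_succ_of_le hr⟩)) = Dev.opAct hS e1 y := by
    simpa using Dev.pullAll_chernCap hX hS hc hd hπ.relDim hPE hP hPs hδ hls hn hα hε ⟨1, Nat.lt_succ_of_le hr⟩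
  have hφ1 : Dev.pullAll π hS hX hc (Dev.clk hX (k - 1) (φ ⟨1, Nat.lt_succ_of_le hs⟩)) = Dev.opAct hS f1 y := by
    simpa using Dev.pullAll_chernCap hX hS hc hd hπ.relDim hQE hQ hQs hδ' hls' hn' hα hφ ⟨1, Nat.lt_succ_of_le hs⟩
  have e12 : k - 1 - ((1 : ℕ) : ℤ) = k - 2 := by omega
  have hmφφ : φφ ⟨1, Nat.lt_succ_of_le hs⟩ ∈ Dev.zkSub δ (k - 2) := e12 ▸ hφφ.2.1 ⟨1, Nat.lt_succ_of_le hs⟩
  have hmεφ : εφ ⟨1, Nat.lt_succ_of_le hr⟩ ∈ Dev.zkSub δ (k - 2) := e12 ▸ hεφ.2.1 ⟨1, Nat.lt_succ_of_le hr⟩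
  have hmεε : εε ⟨1, Nat.lt_succ_of_le hr⟩ ∈ Dev.zkSub δ (k - 2) := e12 ▸ hεε.2.1 ⟨1, Nat.lt_succ_of_le hr⟩
  have hφφ1 : Dev.pullAll π hS hX hc (Dev.clk hX (k - 2) (φφ ⟨1, Nat.lt_succ_of_le hs⟩)) =
      Dev.opAct hS (f1 * f1) y := by
    rw [map_mul, ← e12]
    exact (Dev.pullAll_chernCap hX hS hc hd hπ.relDim hQE hQ hQs hδ' hls' hn' hmφ hφφ
      ⟨1, Nat.lt_succ_of_le hs⟩).trans (congrArg _ hφ1)
  have hεφ1 : Dev.pullAll π hS hX hc (Dev.clk hX (k - 2) (εφ ⟨1, Nat.lt_succ_of_le hr⟩)) =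
      Dev.opAct hS (e1 * f1) y := by
    rw [map_mul, ← e12]
    exact (Dev.pullAll_chernCap hX hS hc hd hπ.relDim hPE hP hPs hδ hls hn hmφ hεφ
      ⟨1, Nat.lt_succ_of_le hr⟩).trans (congrArg _ hφ1)
  have hεε1 : Dev.pullAll π hS hX hc (Dev.clk hX (k - 2) (εε ⟨1, Nat.lt_succ_of_le hr⟩)) =
      Dev.opAct hS (e1 * e1) y := by
    rw [map_mul, ← e12]
    exact (Dev.pullAll_chernCap hX hS hc hd hπ.relDim hPE hP hPs hδ hls hn hmε hεε
      ⟨1, Nat.lt_succ_of_le hr⟩).trans (congrArg _ hε1)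
  have hmem : ∀ {n : ℕ} (c : Fin (n + 1) → AlgebraicCycle X ℤ),
      (∀ j : Fin (n + 1), c j ∈ Cyc.Zk X δ (k - (j : ℕ))) →
        (if h2 : 2 ≤ n then c ⟨2, Nat.lt_succ_of_le h2⟩ else 0) ∈ Dev.zkSub δ (k - 2) := fun c hc' => by
    split_ifs with h2
    · exact hc' ⟨2, Nat.lt_succ_of_le h2⟩
    · exact zero_mem _
  have hm2τ := hmem τ hτ.2.1
  have hm2φ := hmem φ hφ.2.1
  have hm2ε := hmem ε hε.2.1
  have h2τ : Dev.pullAll π hS hX hc (Dev.clk hX (k - 2)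
      (if h2 : 2 ≤ r * s then τ ⟨2, Nat.lt_succ_of_le h2⟩ else 0)) =
        Dev.opAct hS ((Dev.pairSums (Dev.rootsOp hS ls) (Dev.rootsOp hS ls')).esymm 2) y := by
    by_cases h2 : 2 ≤ r * s
    · rw [dif_pos h2]
      simpa using hT' ⟨2, Nat.lt_succ_of_le h2⟩
    · rw [dif_neg h2, Dev.clk_zero, map_zero, Dev.esymm_eq_zero_of_card_lt, map_zero]
      · rfl
      · simp [Dev.pairSums, hcard, hcard']; omega
  have h2φ : Dev.pullAll π hS hX hc (Dev.clk hX (k - 2)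
      (if h2 : 2 ≤ s then φ ⟨2, Nat.lt_succ_of_le h2⟩ else 0)) =
        Dev.opAct hS ((Dev.rootsOp hS ls').esymm 2) y := by
    by_cases h2 : 2 ≤ s
    · rw [dif_pos h2]
      simpa using Dev.pullAll_chernCap hX hS hc hd hπ.relDim hQE hQ hQs hδ' hls' hn' hα hφ ⟨2, Nat.lt_succ_of_le h2⟩
    · rw [dif_neg h2, Dev.clk_zero, map_zero, Dev.esymm_eq_zero_of_card_lt (by omega), map_zero]
      rfl
  have h2ε : Dev.pullAll π hS hX hc (Dev.clk hX (k - 2)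
      (if h2 : 2 ≤ r then ε ⟨2, Nat.lt_succ_of_le h2⟩ else 0)) =
        Dev.opAct hS ((Dev.rootsOp hS ls).esymm 2) y := by
    by_cases h2 : 2 ≤ r
    · rw [dif_pos h2]
      simpa using Dev.pullAll_chernCap hX hS hc hd hπ.relDim hPE hP hPs hδ hls hn hα hε ⟨2, Nat.lt_succ_of_le h2⟩
    · rw [dif_neg h2, Dev.clk_zero, map_zero, Dev.esymm_eq_zero_of_card_lt (by omega), map_zero]
      rfl
  have m1 := zsmul_mem hm2φ ((r : ℕ) : ℤ)
  have m2 := zsmul_mem hm2ε ((s : ℕ) : ℤ)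
  have m3 := zsmul_mem hmφφ ((Nat.choose r 2 : ℕ) : ℤ)
  have m4 := zsmul_mem hmεφ (((r * s : ℕ) : ℤ) - 1)
  have m5 := zsmul_mem hmεε ((Nat.choose s 2 : ℕ) : ℤ)
  refine Dev.ratEquiv_of_pullAll hX hS hc hd hπ hm2τ
    (add_mem (add_mem (add_mem (add_mem m1 m2) m3) m4) m5) ?_
  rw [h2τ, Dev.clk_add hX (add_mem (add_mem (add_mem m1 m2) m3) m4) m5,
    Dev.clk_add hX (add_mem (add_mem m1 m2) m3) m4, Dev.clk_add hX (add_mem m1 m2) m3,
    Dev.clk_add hX m1 m2, Dev.clk_zsmul hX hm2φ, Dev.clk_zsmul hX hm2ε, Dev.clk_zsmul hX hmφφ,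
    Dev.clk_zsmul hX hmεφ, Dev.clk_zsmul hX hmεε]
  simp only [map_add, map_zsmul]
  rw [h2φ, h2ε, hφφ1, hεφ1, hεε1, Dev.esymm_pairSums_two, hcard, hcard', pow_two, pow_two,
    show (r : Dev.opRing hS) * (s : Dev.opRing hS) - 1 = ((((r * s : ℕ) : ℤ) - 1 : ℤ) : Dev.opRing hS) by push_cast; ring]
  simp only [map_add, ← zsmul_eq_mul, ← nsmul_eq_mul, map_zsmul, map_nsmul, natCast_zsmul]
  rfl

end Groth.Agent.S12669
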