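import Groth.Statements.S12670
import Groth.Agent.Cyc90.Dev.DualFilt
open Groth.Agent Groth.Agent.Cyc90

set_option autoImplicit false
set_option backward.isDefEq.respectTransparency.types false
set_option synthInstance.maxHeartbeats 200000
universe u
open CategoryTheory CategoryTheory.Limits AlgebraicGeometry
attribute [local instance] HasDerivedCategory.standard
open Cyc

namespace Groth.Agent.S12670

/-- For E finite locally free of rank r on X with dual E^∨, c_j(E^∨) = (-1)^j c_j(E), as cap operations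
on every k-cycle α. The dual is Hom_{O_X}(E, O_X), the value at O_X of the right adjoint of - ⊗ E
(DCoh.sheafHom, its existence carried as a hypothesis), finite locally free of rank r, and enters
through its own projective bundle. Setting: (X, δ) with Cyc.IsSetup stands for a scheme locally of
finite type over the base (S, δ) (X locally Noetherian with universally catenary local rings, δ a
dimension function); (p : P → X, O_P(1), q) is the projective bundle of E given by its universal
property (KRR.IsProjBundle), p is proper and δP is the induced dimension function (Cyc.DeltaCompat);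
a tuple γ with Cyc.IsChernCap represents (c_0(E) ∩ α, …, c_r(E) ∩ α) through the defining relation
Σ_i (-1)^i c_1(O_P(1))^i ∩ p^*(γ_{r-i}) ∼_rat 0 on P, and classes are compared up to rational
equivalence of representing cycles. -/
theorem result (X : Scheme.{u}) (δ : X → ℤ) (hX : Cyc.IsSetup X δ) (r : ℕ) (E : X.Modules) (hPE : FlatMod.IsFinLocFreeOfRank r E) (P : Scheme.{u}) (p : P ⟶ X) (O1 : P.Modules) (q : (Scheme.Modules.pullback p).obj E ⟶ O1) (hP : KRR.IsProjBundle p E O1 q) [IsProper p] (δP : P → ℤ) (hPs : Cyc.IsSetup P δP) (hδ : Cyc.DeltaCompat p δP δ) [DCoh.HasSheafHom E] (hP'E : FlatMod.IsFinLocFreeOfRank r ((DCoh.sheafHom E).obj (Coh.structureModule X))) (P' : Scheme.{u}) (p' : P' ⟶ X) (O1' : P'.Modules) (q' : (Scheme.Modules.pullback p').obj ((DCoh.sheafHom E).obj (Coh.structureModule X)) ⟶ O1') (hP' : KRR.IsProjBundle p' ((DCoh.sheafHom E).obj (Coh.structureModule X)) O1' q') [IsProper p'] (δP' : P' → ℤ) (hPs' : Cyc.IsSetup P' δP') (hδ' : Cyc.DeltaCompat p' δP' δ)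 (k : ℤ) (α : AlgebraicCycle X ℤ) (hα : α ∈ Cyc.Zk X δ k) (γ : Fin (r + 1) → AlgebraicCycle X ℤ) (hγ : Cyc.IsChernCap p δ δP O1 r k α γ) (γ' : Fin (r + 1) → AlgebraicCycle X ℤ) (hγ' : Cyc.IsChernCap p' δ δP' O1' r k α γ') (j : Fin (r + 1)) : Cyc.RatEquiv δ (k - ((j : ℕ) : ℤ)) (γ' j) ((-1 : ℤ) ^ (j : ℕ) • γ j) := by
  obtain ⟨T, π, d, δT, hπ, hfl, hlft, hT, hd, hc, hall⟩ :=
    Dev.exists_split hX 1 (fun _ => E) (fun _ => r) (fun _ => hPE)
  have := hfl
  have := hlft
  obtain ⟨ls, hls, hn⟩ := hall 0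
  have hlf : FlatMod.IsFinLocFree E := fun x => by
    obtain ⟨U, hx, h⟩ := hPE x
    exact ⟨U, r, hx, h⟩

  let e : (Scheme.Modules.pullback π).obj ((DCoh.sheafHom E).obj (Coh.structureModule X)) ≅
      QC70.dualMod ((Scheme.Modules.pullback π).obj E) :=
    (Scheme.Modules.pullback π).mapIso ((QC70.sheafHomIso E).app (Coh.structureModule X)) ≪≫
      @asIso _ _ _ _ (Dev.dualPullHom π hlf) (Dev.isIso_dualPullHom π hlf)
  have hl := hls.dual.of_iso e.symm
  have hE := Dev.pullAll_chernCap hX hT hc hd hπ.relDim hPE hP hPs hδ hls hn hα hγ j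
  have hE' := Dev.pullAll_chernCap hX hT hc hd hπ.relDim hP'E hP' hPs' hδ' hl (by simp [hn]) hα hγ' j
  have hm : γ j ∈ Dev.zkSub δ (k - (j : ℕ)) := hγ.2.1 j
  refine Dev.ratEquiv_of_pullAll hX hT hc hd hπ (hγ'.2.1 j) (zsmul_mem hm _) ?_
  rw [hE', Dev.clk_zsmul hX hm, map_zsmul, hE, Dev.rootsOp_dual hT hls.isInvertible, Dev.esymm_map_neg,
    show ((-1 : Dev.opRing hT) ^ (j : ℕ)) = (((-1 : ℤ) ^ (j : ℕ) : ℤ) : Dev.opRing hT) by push_cast; rfl,
    ← zsmul_eq_mul, map_zsmul]
  rfl

end Groth.Agent.S12670
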