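import Groth.Statements.S12671
import Groth.Agent.Cyc90.Dev.ChernRoots
import Groth.Agent.Cyc90.Dev.FiltFin
import Groth.Agent.Cyc90.Dev.BundleUniv
open Groth.Agent.Cyc90

set_option autoImplicit false
set_option backward.isDefEq.respectTransparency.types false
set_option synthInstance.maxHeartbeats 200000
universe u
open CategoryTheory CategoryTheory.Limits AlgebraicGeometry
open Cyc

namespace Groth.Agent.S12671

/-- Let E be a locally free O_X-module of rank r with a filtration 0 = E_0 ⊂ E_1 ⊂ … ⊂ E_r = E such that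
E_i/E_{i-1} ≅ L_i is invertible for i = 1, …, r. Then c(E) = Π_i (1 + c_1(L_i)), that is c_p(E) ∩ α
∼_rat Σ_{I ⊆ {1,…,r}, |I| = p} (Π_{i ∈ I} c_1(L_i)) ∩ α for every k-cycle α, where the product over
I is the iterated cap applied in increasing order of i on coefficient functions with any nonzero
rational sections (Cyc.c1CapFun); the filtration is given by short exact sequences 0 → E_{i-1} → E_i
→ L_i → 0 with E_0 = 0 and E_r ≅ E. Setting: (X, δ) with Cyc.IsSetup stands for a scheme locally of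
finite type over the base (S, δ) (X locally Noetherian with universally catenary local rings, δ a
dimension function); (p : P → X, O_P(1), q) is the projective bundle of E given by its universal
property (KRR.IsProjBundle), p is proper and δP is the induced dimension function (Cyc.DeltaCompat);
a tuple γ with Cyc.IsChernCap represents (c_0(E) ∩ α, …, c_r(E) ∩ α) through the defining relation
Σ_i (-1)^i c_1(O_P(1))^i ∩ p^*(γ_{r-i}) ∼_rat 0 on P, and classes are compared up to rational
equivalence of representing cycles. -/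
theorem result (X : Scheme.{u}) (δ : X → ℤ) (hX : Cyc.IsSetup X δ) (r : ℕ) (E : X.Modules) (hPE : FlatMod.IsFinLocFreeOfRank r E) (P : Scheme.{u}) (p : P ⟶ X) (O1 : P.Modules) (q : (Scheme.Modules.pullback p).obj E ⟶ O1) (hP : KRR.IsProjBundle p E O1 q) [IsProper p] (δP : P → ℤ) (hPs : Cyc.IsSetup P δP) (hδ : Cyc.DeltaCompat p δP δ) (M : Fin (r + 1) → X.Modules) (h0 : IsZero (M 0)) (e : M (Fin.last r) ≅ E) (L : Fin r → X.Modules) (hL : ∀ i, PicF.IsInvertible (L i)) (a : ∀ i : Fin r, M (Fin.castSucc i) ⟶ M (Fin.succ i)) (b : ∀ i : Fin r, M (Fin.succ i) ⟶ L i) (hab : ∀ i, a i ≫ b i = 0) (hex : ∀ i, (ShortComplex.mk (a i) (b i) (hab i)).ShortExact) (k : ℤ) (α : AlgebraicCycle X ℤ) (hα : α ∈ Cyc.Zk X δ k) (γ : Fin (r + 1) → AlgebraicCycle X ℤ) (hγ : Cyc.IsChernCap p δ δP O1 r k α γ) (t : (i : Fin r) → (ξ : X) → Cyc.secFibre (L i) ξ) (ht : ∀ i ξ, t i ξ ≠ 0) (κ : Finset (Fin r) → AlgebraicCycle X ℤ) (hκ0 : κ ∅ = α) (hκ : ∀ (I : Finset (Fin r)) (i : Fin r), (∀ i' ∈ I, i' < i) →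 ⇑(κ (insert i I)) = Cyc.c1CapFun δ (L i) ⇑(κ I) (t i)) (n : Fin (r + 1)) : Cyc.RatEquiv δ (k - ((n : ℕ) : ℤ)) (γ n) (∑ I ∈ Finset.powersetCard n Finset.univ, κ I) := by
  classical
  have hκc : ∀ I : Finset (Fin r), κ I ∈ Dev.zkSub δ (k - I.card) ∧
      Dev.clk hX (k - I.card) (κ I) =
        Dev.opAct hX (∏ i ∈ I, Dev.lc1 hX (L i)) (Dev.clk hX k α) := by
    intro I
    induction I using Finset.induction_on_max with
    | empty => simpa [hκ0] using (show α ∈ Dev.zkSub δ k from hα)
    | insert i I hi ih =>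
      have hni : i ∉ I := fun h => lt_irrefl i (hi i h)
      have he : κ (insert i I) = Dev.cap1 hX (hL i) (t i) (ht i) (κ I) :=
        DFunLike.coe_injective ((hκ I i hi).trans (Dev.coe_cap1 hX (hL i) (t i) (ht i) _).symm)
      rw [he, Finset.card_insert_of_notMem hni, Finset.prod_insert hni,
        show k - ((I.card + 1 : ℕ) : ℤ) = k - I.card - 1 by push_cast; ring]
      refine ⟨Dev.cap1_mem_pred hX (hL i) (t i) (ht i) ih.1, ?_⟩
      rw [← Dev.c1End_clk hX (hL i) (t i) (ht i) ih.1, ih.2, map_mul]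
      rfl
  have hmem : ∀ I ∈ Finset.powersetCard (n : ℕ) Finset.univ, κ I ∈ Dev.zkSub δ (k - (n : ℕ)) := fun I hI =>
    (Finset.mem_powersetCard.1 hI).2 ▸ (hκc I).1
  refine (Dev.clk_eq_iff hX (hγ.2.1 n) (sum_mem hmem)).1 ?_
  rcases r with _ | m
  · obtain rfl : n = 0 := Subsingleton.elim (α := Fin 1) _ _
    simp [Finset.powersetCard_zero, hγ.1, hκ0]
  · obtain ⟨hB, hflat, hinv⟩ := Dev.projFibres_of_isProjBundle hPE hP
    haveI := hflat
    haveI := hP.epi
    have hfilt := (Dev.hasFilt_of_fin (m + 1) M L a b hab hex h0 hL).of_iso e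
    rw [Dev.chernCap_eq_esymm hX hB hinv hPs hδ (q := q) hfilt (by simp) hα hγ n,
      Dev.clk_sum hX _ _ hmem]
    have hS : (↑(((List.ofFn L).reverse).map (Dev.lc1 hX)) : Multiset (Dev.opRing hX)) =
        (Finset.univ : Finset (Fin (m + 1))).val.map fun i => Dev.lc1 hX (L i) := by
      rw [List.map_reverse, Multiset.coe_reverse, List.map_ofFn, Fin.univ_val_map]
      rfl
    rw [hS, Finset.esymm_map_val, map_sum]
    erw [AddMonoidHom.finsetSum_apply]
    refine Finset.sum_congr rfl fun I hI => ?_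
    obtain ⟨-, hcard⟩ := Finset.mem_powersetCard.1 hI
    have h2 := (hκc I).2
    rw [hcard] at h2
    exact h2.symm

end Groth.Agent.S12671
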