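import Groth.Statements.S14508
import Groth.Agent.Cyc90.Dev.DetFilt
import Groth.Agent.Om3.ExtPowPull
open Groth.Agent.Cyc90

set_option autoImplicit false
set_option backward.isDefEq.respectTransparency.types false
set_option synthInstance.maxHeartbeats 200000
universe u
open CategoryTheory CategoryTheory.Limits AlgebraicGeometry
open IntTh

namespace Groth.Agent.S14508

/-- Let X be a locally Noetherian scheme whose local rings are universally catenary, δ a dimension
function on X, E a finite locally free O_X-module of rank r + 1, (p : P → X, O_P(1), q) its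
projective bundle given by the universal property, p proper, δP the induced dimension function on P,
α a k-cycle on X and γ a tuple representing (c_0(E) ∩ α, …, c_{r+1}(E) ∩ α) through the
projective-bundle relation. Let L be an (r+1)-st exterior power of E (det E) and s a choice of
nonzero rational sections of L at all points. Then γ_1 ∼_rat c_1(L) ∩ α as (k − 1)-cycles, the right
side being the cycle of the divisors of the sections s along the components of α. (The published
statement is for vector bundles of any rank on separated schemes of finite type over a field; this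
row takes E of rank r + 1 ≥ 1 on a locally Noetherian scheme with universally catenary local rings
and a dimension function δ; in rank 0 both sides vanish.) -/
theorem result (X : Scheme.{u}) (δ : X → ℤ) (hX : Cyc.IsSetup X δ)
    (E : X.Modules) (r : ℕ) (hE : FlatMod.IsFinLocFreeOfRank (r + 1) E)
    (P : Scheme.{u}) (p : P ⟶ X) (O1 : P.Modules) (q : (Scheme.Modules.pullback p).obj E ⟶ O1)
    (hP : KRR.IsProjBundle p E O1 q) [IsProper p] (δP : P → ℤ) (hPs : Cyc.IsSetup P δP)
    (hδ : Cyc.DeltaCompat p δP δ) (k : ℤ) (α : AlgebraicCycle X ℤ) (hα : α ∈ Cyc.Zk X δ k)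
    (γ : Fin (r + 2) → AlgebraicCycle X ℤ) (hγ : Cyc.IsChernCap p δ δP O1 (r + 1) k α γ)
    (L : X.Modules) (hL : ExtPow.IsExtPow (r + 1) E L)
    (s : (ξ : X) → Cyc.secFibre L ξ) (hs : ∀ ξ, s ξ ≠ 0)
    (β : AlgebraicCycle X ℤ) (hβ : ⇑β = Cyc.c1CapFun δ L ⇑α s) :
    Cyc.RatEquiv δ (k - 1) (γ 1) β := by
  have hlf : FlatMod.IsFinLocFree E := fun x => by
    obtain ⟨U, hx, h⟩ := hE x
    exact ⟨U, r + 1, hx, h⟩
  obtain ⟨T, π, d, δT, hπ, hfl, hlft, hT, hd, hc, hall⟩ :=
    Dev.exists_split hX 1 (fun _ => E) (fun _ => r + 1) (fun _ => hE)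
  have := hfl
  have := hlft
  have := Groth.Agent.Props58.LocFree.isQuasicoherent_of_isFinLocFree hlf
  obtain ⟨ls, hls, hn⟩ := hall 0
  have hLπ : ExtPow.IsExtPow ls.length ((Scheme.Modules.pullback π).obj E) ((Scheme.Modules.pullback π).obj L) := by
    rw [hn]
    exact Groth.Agent.Om3.isExtPow_pullback π hL
  obtain ⟨-, hdet⟩ := Dev.lc1_det hT hls _ hLπ
  have hLi : PicF.IsInvertible L := Dev.isInvertible_topExtPow hE hL
  have hβ' : β = Dev.cap1 hX hLi s hs α := DFunLike.coe_injective (hβ.trans (Dev.coe_cap1 hX hLi s hs _).symm)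
  have hmβ : β ∈ Dev.zkSub δ (k - 1) := hβ' ▸ Dev.cap1_mem_pred hX hLi s hs hα
  have hm : γ 1 ∈ Dev.zkSub δ (k - 1) := by
    have h := hγ.2.1 1
    simp only [Fin.val_one, Nat.cast_one] at h
    exact h
  have hE' := Dev.pullAll_chernCap hX hT hc hd hπ.relDim hE hP hPs hδ hls hn hα hγ 1
  simp only [Fin.val_one, Nat.cast_one] at hE'
  refine Dev.ratEquiv_of_pullAll hX hT hc hd hπ hm hmβ ?_
  have h2 := Dev.pullAll_lc1 π hT hX hc hLi (Dev.clk hX k α)
  rw [Dev.opAct_lc1, Dev.c1End_clk hX hLi s hs hα, ← hβ'] at h2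
  rw [hE', h2, hdet]

end Groth.Agent.S14508
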