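import Groth.Statements.S1928
import Groth.Agent.Cyc90.Dev.IntNum
import Groth.Agent.Cyc90.FieldSetup
open Groth.Agent.Cyc90 TopologicalSpace

set_option autoImplicit false
universe u
open CategoryTheory AlgebraicGeometry
open Cyc

namespace Groth.Agent.S1928

/-- Let X be proper over a field k with dim X ≤ 1 and L an invertible O_X-module. Then deg(L) := χ(X, L)
− χ(X, O_X) equals the degree Σ_x [κ(x) : k] · n_x of the 0-cycle c_1(L) ∩ [X]_1 = Σ n_x [x],
computed with any nonzero rational sections (the degree is independent of the choice). Dimension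
function: transcendence degree over k. (The source treats finite locally free modules of any
constant rank via c_1 of a vector bundle; only the invertible case is stated.) Here L(ξ) = L_ξ/𝔪_ξ
L_ξ is the space of rational sections of L on the closure of ξ, div_{L|W}(s) and c_1(L) ∩ α are
computed as coefficient functions from chosen nonzero rational sections (Cyc.secDivFun,
Cyc.c1CapFun), and results are compared up to rational equivalence for any cycles with those
coefficients. -/
theorem result (k : Type u) [Field k] (X : Scheme.{u}) [X.Over (Spec (CommRingCat.of k))] [IsProper (X ↘ Spec (CommRingCat.of k))] (hdim : topologicalKrullDim X ≤ 1) (δ : X → ℤ) (hδ : Cyc.DeltaCompat (X ↘ Spec (CommRingCat.of k)) δ (fun _ => 0)) (L : X.Modules) (hL : PicF.IsInvertible L) (s : (ξ : X) → Cyc.secFibre L ξ) (hs : ∀ ξ, s ξ ≠ 0) : Curv2.deg k X L 1 = ∑ᶠ x : X, ((X ↘ Spec (CommRingCat.of k)).residueDegree x : ℤ) * Cyc.c1CapFun δ L (Cyc.subschemeFun δ 1 (𝟙 X)) s x := by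
  have hX : Cyc.IsSetup X δ := isSetup_of_field (X ↘ Spec (CommRingCat.of k)) δ hδ
  have := hX.1
  have hd1 : ∀ x : X, δ x ≤ 1 := fun x => Dev.delta_le_of_dim_closure_le hδ (d := 1)
    ((Topology.IsInducing.subtypeVal (t := closure ({x} : Set X))).topologicalKrullDim_le.trans
      (by exact_mod_cast hdim))
  have hO : Cyc.CohLe δ ((0 : ℤ) + 1) (Coh.structureModule X) :=
    ⟨QC70.isCoh_unit, fun x _ => by simpa using hd1 x⟩
  have hLc : Cyc.CohLe δ ((0 : ℤ) + 1) L :=
    ⟨Amp73.isCoh_of_isInvertible hL, fun x _ => by simpa using hd1 x⟩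
  have hzero : ∀ G, Cyc.CohLe δ ((0 : ℤ) + 1) G → Cyc.CohLe δ ((0 : ℤ) - 1) G → Curv2.euler k X G = 0 :=
    fun G _ hG => Dev.euler_of_isZero k hδ (Dev.isZero_of_cohLe_neg (Dev.delta_nonneg' hδ) (by omega) hG)
  let φ : Cyc.K0CohQuot δ ((0 : ℤ) + 1) ((0 : ℤ) - 1) →+ ℤ :=
    Dev.quotHom (fun G => Curv2.euler k X G) (fun S hS => Dev.euler_shortExact k hδ hX hS) hzero
  have hφ : ∀ G, Cyc.CohLe δ ((0 : ℤ) + 1) G →
      φ (Cyc.toK0CohQuot δ ((0 : ℤ) + 1) ((0 : ℤ) - 1) G) = Curv2.euler k X G :=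
    fun G hG => Dev.quotHom_apply _ _ _ hG
  have hαc := Dev.isCycFun_sheafFun hX hO
  let α : AlgebraicCycle X ℤ :=
    { toFun := Cyc.sheafFun δ ((0 : ℤ) + 1) (Coh.structureModule X)
      supportWithinDomain' := Set.subset_univ _
      supportLocallyFiniteWithinDomain' := fun x _ =>
        ⟨Set.univ, Filter.univ_mem, (Dev.IsCycFun.finite_support k hαc).subset fun y hy => hy.2⟩ }
  obtain ⟨γ, hγ⟩ := exists_c1CapCycle hX hL α s hs
  have hγk : γ ∈ Cyc.Zk X δ 0 := fun x hx => by
    rw [hγ]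
    refine finsum_eq_zero_of_forall_eq_zero fun ξ => ?_
    by_contra h
    have h2 : Cyc.secDivFun δ L ξ (s ξ) x ≠ 0 := right_ne_zero_of_mul h
    unfold Cyc.secDivFun at h2
    split_ifs at h2 with hc
    · have := hαc.dim ξ (left_ne_zero_of_mul h)
      omega
    · exact h2 rfl
  have key := S6469.result X δ hX 0 L hL (Coh.structureModule X) hO.1 hO.2 s hs γ hγk hγ
  rw [Dev.toK_congr_iso (EGA73.tensUnitLeft L) (Dev.cohLe_twist hL hO) hLc] at key
  have hc := Dev.isCycFun_of_cycle hγk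
  have hP := hc.cohLe_pos hX
  have hN : Cyc.CohLe δ 0 (Cyc.cycleSheafNeg ⇑γ) := hc.neg.cohLe_pos hX
  have key2 := congrArg φ key
  rw [map_sub, map_sub, hφ _ hLc, hφ _ hO, hφ _ (Dev.cohLe_mono hP (by omega)),
    hφ _ (Dev.cohLe_mono hN (by omega)), Dev.euler_eq_degFun k hδ hX hP,
    Dev.euler_eq_degFun k hδ hX hN] at key2
  have hsplit : Cyc.sheafFun δ 0 (Cyc.cycleSheafPos ⇑γ) =
      ⇑γ + Cyc.sheafFun δ 0 (Cyc.cycleSheafNeg ⇑γ) := funext fun x => by
    rw [Pi.add_apply, hc.sheafFun_pos hX x,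
      show Cyc.sheafFun δ 0 (Cyc.cycleSheafNeg ⇑γ) x = if 0 < -γ x then -γ x else 0 from
        hc.neg.sheafFun_pos hX x]
    split_ifs <;> omega
  rw [hsplit, Dev.degFun_add k (Dev.IsCycFun.finite_support k hc)
    (Dev.IsCycFun.finite_support k (Dev.isCycFun_sheafFun hX hN)), add_sub_cancel_right, hγ] at key2
  rw [Curv2.deg, Nat.cast_one, one_mul, key2]
  have e : Cyc.subschemeFun δ 1 (𝟙 X) = ⇑α := funext fun x => by
    show (if δ x = 1 then _ else 0) = (if δ x = 0 + 1 then _ else 0)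
    rw [zero_add]
    split_ifs
    · rw [show {z : X | (𝟙 X : X ⟶ X) z = x} = {x} from Set.ext fun z => Iff.rfl, finsum_mem_singleton]
      exact congrArg (fun n : ℕ∞ => (n.toNat : ℤ)) (QC70.unitStalkEquiv x).length_eq
    · rfl
  rw [e]
  rfl

end Groth.Agent.S1928
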