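import Groth.Statements.S12672
import Groth.Agent.S1928
import Groth.Agent.S14508
import Groth.Agent.CurveDeg75.Det
import Groth.Agent.Cyc90.ProdSpace.Deg

set_option autoImplicit false
set_option backward.isDefEq.respectTransparency.types false
set_option synthInstance.maxHeartbeats 200000
set_option linter.style.haveILetI false
universe u
open CategoryTheory CategoryTheory.Limits AlgebraicGeometry
open Cyc

namespace Groth.Agent.S12672

/-- Let X be proper over a field K with dim X ≤ 1 and E a finite locally free O_X-module of constant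
rank r. Then deg(E) = deg(c_1(E) ∩ [X]_1), where deg(E) = χ(X, E) - r·χ(X, O_X) (Curv2.deg) and the
right side is the degree (ChowOps.deg, pushforward to the point) of a representative of c_1(E) ∩
[X]_1, [X]_1 being the 1-cycle of X (Cyc.subschemeFun); for r = 0 both sides are 0. Dimension
function: transcendence degree over K. (This is the general constant-rank case; the invertible case
is a separate result stated with c_1(L) ∩ - of an invertible module.) Setting: (X, δ) with
Cyc.IsSetup stands for a scheme locally of finite type over the base (S, δ) (X locally Noetherian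
with universally catenary local rings, δ a dimension function); (p : P → X, O_P(1), q) is the
projective bundle of E given by its universal property (KRR.IsProjBundle), p is proper and δP is the
induced dimension function (Cyc.DeltaCompat); a tuple γ with Cyc.IsChernCap represents (c_0(E) ∩ α,
…, c_r(E) ∩ α) through the defining relation Σ_i (-1)^i c_1(O_P(1))^i ∩ p^*(γ_{r-i}) ∼_rat 0 on P,
and classes are compared up to rational equivalence of representing cycles. -/
theorem result (K : Type u) [Field K] (X : Scheme.{u}) [X.Over (Spec (CommRingCat.of K))] [IsProper (X ↘ Spec (CommRingCat.of K))] (hdim : topologicalKrullDim X ≤ 1) (δ : X → ℤ) (hX : Cyc.IsSetup X δ) (hK : Cyc.DeltaCompat (X ↘ Spec (CommRingCat.of K)) δ (fun _ => 0)) (r : ℕ) (E : X.Modules) (hPE : FlatMod.IsFinLocFreeOfRank r E) (P : Scheme.{u}) (p : P ⟶ X) (O1 : P.Modules) (q : (Scheme.Modules.pullback p).obj E ⟶ O1) (hP : KRR.IsProjBundle p E O1 q) [IsProper p] (δP : P → ℤ) (hPs : Cyc.IsSetup P δP) (hδ : Cyc.DeltaCompat p δP δ) (α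 : AlgebraicCycle X ℤ) (hα : ⇑α = Cyc.subschemeFun δ 1 (𝟙 X)) (γ : Fin (r + 1) → AlgebraicCycle X ℤ) (hγ : Cyc.IsChernCap p δ δP O1 r 1 α γ) : Curv2.deg K X E r = (if h : 1 ≤ r then ChowOps.deg (X ↘ Spec (CommRingCat.of K)) δ (γ ⟨1, Nat.lt_succ_of_le h⟩) else 0) := by
  classical
  rcases r with _ | r
  · rw [dif_neg (by omega)]
    exact Groth.Agent.CurveDeg75.deg_rank_zero K hdim hPE
  rw [dif_pos (by omega)]
  have hlf : FlatMod.IsFinLocFree E := fun x => by
    obtain ⟨U, hx, h⟩ := hPE x
    exact ⟨U, r + 1, hx, h⟩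
  haveI := Groth.Agent.Props58.LocFree.isQuasicoherent_of_isFinLocFree hlf
  obtain ⟨L, hL⟩ := Groth.Agent.FBase64.ExtPowExists.exists_isExtPow (p := r + 1) (E := E)
  have hLi : PicF.IsInvertible L := Groth.Agent.Cyc90.Dev.isInvertible_topExtPow hPE hL
  obtain ⟨s, hs⟩ := Groth.Agent.Cyc90.Dev.exists_secFibre_family hLi
  have hαm : α ∈ Cyc.Zk X δ 1 := fun x hx => by rw [hα]; exact if_neg hx
  obtain ⟨β, hβ⟩ := Groth.Agent.Cyc90.exists_c1CapCycle hX hLi α s hs
  have hrat := Groth.Agent.S14508.result X δ hX E r hPE P p O1 q hP δP hPs hδ 1 α hαm γ hγ L hL s hs β hβ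
  have hm : γ 1 ∈ Groth.Agent.Cyc90.Dev.zkSub δ 0 := by
    have h := hγ.2.1 1
    simp only [Fin.val_one, Nat.cast_one, sub_self] at h
    exact h
  rw [sub_self] at hrat
  have hb : β ∈ Groth.Agent.Cyc90.Dev.zkSub δ 0 := fun x hx => by
    have := Groth.Agent.Cyc90.Dev.mem_Zk_of_ratEquivZero hrat x hx
    rw [Function.locallyFinsuppWithin.coe_sub, Pi.sub_apply, hm x hx] at this
    omega
  rw [Groth.Agent.CurveDeg75.deg_eq_det K hdim (r + 1) E L hPE hL,
    Groth.Agent.S1928.result K X hdim δ hK L hLi s hs, ← hα, ← hβ]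
  show _ = ChowOps.deg (X ↘ Spec (CommRingCat.of K)) δ (γ 1)
  rw [← Groth.Agent.Cyc90.ProdSpace.degAll_clk (X ↘ Spec (CommRingCat.of K)) hX hK hb,
    ← (Groth.Agent.Cyc90.Dev.clk_eq_iff hX hm hb).2 hrat]
  rw [Groth.Agent.Cyc90.ProdSpace.degAll, AddMonoidHom.comp_apply,
    Groth.Agent.Cyc90.Dev.mapAll_clk _ hX _ hK hm,
    Groth.Agent.Cyc90.ProdSpace.pointDeg_clk K (Groth.Agent.Cyc90.Dev.mapHom_mem _ hm)]
  rfl

end Groth.Agent.S12672
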