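import Groth.Statements.S12674
import Groth.Agent.Cyc90.Dev.VBTop
open Groth.Agent.Cyc90

set_option autoImplicit false
set_option backward.isDefEq.respectTransparency.types false
set_option synthInstance.maxHeartbeats 200000
universe u
open CategoryTheory CategoryTheory.Limits AlgebraicGeometry
attribute [local instance] HasDerivedCategory.standard
open Cyc

namespace Groth.Agent.S12674

/-- For a short exact sequence 0 → N' → N → E → 0 of finite locally free O_X-modules of constant ranks
r', r' + e and e, write π : V = Spec Sym(N^∨) → X and π' : V' = Spec Sym((N')^∨) → X for the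
associated vector bundles and i : V' → V for the closed immersion induced by the dual map N^∨ →
(N')^∨. Then i_*((π')^*α) = π^*(c_e(E) ∩ α) in CH_{k+r'}(V) for every k-cycle α on X (c_e = c_top
for constant rank e). The duals are Hom_{O_X}(-, O_X) (DCoh.sheafHom, existence carried as
hypotheses), the vector bundles are the relative spectra of their symmetric algebras
(RelSpec.IsSymAlg, RelSpec.QCAlg.spec), i is RelSpec.QCAlg.specMap of the algebra map extending the
dual N^∨ → (N')^∨ of N' → N (the mate of N' ⊗ - → N ⊗ - under the tensor-Hom adjunctions), its being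
a closed immersion is carried as a hypothesis, and flat pullbacks are coefficientwise with the
induced dimension functions. (The published statement allows nonconstant ranks through c_top;
constant ranks are stated here.) Setting: (X, δ) with Cyc.IsSetup stands for a scheme locally of
finite type over the base (S, δ) (X locally Noetherian with universally catenary local rings, δ a
dimension function); (p : P → X, O_P(1), q) is the projective bundle of E given by its universal
property (KRR.IsProjBundle), p is proper and δP is the induced dimension function (Cyc.DeltaCompat);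
a tuple γ with Cyc.IsChernCap represents (c_0(E) ∩ α, …, c_r(E) ∩ α) through the defining relation
Σ_i (-1)^i c_1(O_P(1))^i ∩ p^*(γ_{r-i}) ∼_rat 0 on P, and classes are compared up to rational
equivalence of representing cycles. -/
theorem result (X : Scheme.{u}) (δ : X → ℤ) (hX : Cyc.IsSetup X δ) (r' e : ℕ) (N' N E : X.Modules) (hN' : FlatMod.IsFinLocFreeOfRank r' N') (hN : FlatMod.IsFinLocFreeOfRank (r' + e) N) (hPE : FlatMod.IsFinLocFreeOfRank e E) (P : Scheme.{u}) (p : P ⟶ X) (O1 : P.Modules) (q : (Scheme.Modules.pullback p).obj E ⟶ O1) (hP : KRR.IsProjBundle p E O1 q) [IsProper p] (δP : P → ℤ) (hPs : Cyc.IsSetup P δP) (hδ : Cyc.DeltaCompat p δP δ) (a : N' ⟶ N) (b : N ⟶ E) (hab : a ≫ b = 0) (hex : (ShortComplex.mk a b hab).ShortExact) [DCoh.HasSheafHom N] [DCoh.HasSheafHom N'] (hqN : Coh.IsQCoh ((DCoh.sheafHom N).obj (Coh.structureModule X))) (hqN' : Coh.IsQCoh ((DCoh.sheafHom N').obj (Coh.structureModule X))) (A : RelSpec.QCAlg X) (j : ((DCoh.sheafHom N).obj (Coh.structureModule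 X)) ⟶ A.toModule) (hA : RelSpec.IsSymAlg ((DCoh.sheafHom N).obj (Coh.structureModule X)) A j) (A' : RelSpec.QCAlg X) (j' : ((DCoh.sheafHom N').obj (Coh.structureModule X)) ⟶ A'.toModule) (hA' : RelSpec.IsSymAlg ((DCoh.sheafHom N').obj (Coh.structureModule X)) A' j') (φ : A ⟶ A') (hφ : j ≫ RelSpec.QCAlg.Hom.toModuleMap φ = ((CategoryTheory.conjugateEquiv (DCoh.sheafHomAdj N) (DCoh.sheafHomAdj N')) ((DCoh.tensorBi (X := X)).map a)).app (Coh.structureModule X) ≫ j') [IsClosedImmersion (RelSpec.QCAlg.specMap φ)] (δV : ↥A.spec → ℤ) (hV : Cyc.IsSetup A.spec δV) (hpδ : Cyc.DeltaCompat A.π δV δ) (δV' : ↥A'.spec → ℤ) (hV' : Cyc.IsSetup A'.spec δV') (hp'δ : Cyc.DeltaCompat A'.π δV' δ) (k : ℤ) (α : AlgebraicCycle X ℤ) (hα : α ∈ Cyc.Zk X δ k) (γ : Fin (e + 1) → AlgebraicCycle X ℤ) (hγ : Cyc.IsChernCap p δ δP O1 e k α γ) (β' : AlgebraicCycle A'.spec ℤ) (hβ' : ⇑β' = Cyc.pullFun A'.π δV' δ (r' : ℤ) ⇑α) (β : AlgebraicCycle A.spec ℤ) (hβ : ⇑β = Cyc.pullFun A.π δV δ ((r' : ℤ) + e) ⇑(γ (Fin.last e)))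 : Cyc.RatEquiv δV (k + r') (AlgebraicCycle.map (RelSpec.QCAlg.specMap φ) δV' δV β') β := by
  have hEl := Dev.isFinLocFree_of_rank hPE
  have hN'l := Dev.isFinLocFree_of_rank hN'
  let iN : (DCoh.sheafHom N).obj (Coh.structureModule X) ≅ QC70.dualMod N :=
    (QC70.sheafHomIso N).app (Coh.structureModule X)
  let iN' : (DCoh.sheafHom N').obj (Coh.structureModule X) ≅ QC70.dualMod N' :=
    (QC70.sheafHomIso N').app (Coh.structureModule X)
  let b' := ((CategoryTheory.conjugateEquiv (DCoh.sheafHomAdj N) (DCoh.sheafHomAdj N'))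
    ((DCoh.tensorBi (X := X)).map a)).app (Coh.structureModule X)
  have hconj : b' ≫ iN'.hom = iN.hom ≫ Dev.dualMapHom a := Dev.conjugateEquiv_dual a
  have hdual := Dev.shortExact_dual' hex hN'l hEl
  have hb' : b' = iN.hom ≫ Dev.dualMapHom a ≫ iN'.inv := by
    rw [← Category.assoc, ← hconj, Category.assoc, Iso.hom_inv_id, Category.comp_id]
  have hw : (Dev.dualMapHom b ≫ iN.inv) ≫ b' = 0 := by
    rw [hb', Category.assoc, Iso.inv_hom_id_assoc, ← Category.assoc, Dev.dualMapHom_comp (w := hab), zero_comp]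
  have hs : (ShortComplex.mk (Dev.dualMapHom b ≫ iN.inv) b' hw).ShortExact :=
    ShortComplex.shortExact_of_iso (ShortComplex.isoMk (S₁ := ShortComplex.mk (Dev.dualMapHom b) (Dev.dualMapHom a)
      (Dev.dualMapHom_comp (w := hab))) (Iso.refl _) iN.symm iN'.symm (by simp) (by simp [hb'])) hdual
  have hrN : FlatMod.IsFinLocFreeOfRank (r' + e) ((DCoh.sheafHom N).obj (Coh.structureModule X)) := fun x => by
    obtain ⟨U, hx, ⟨u⟩⟩ := Dev.isFinLocFreeOfRank_dualMod hN x
    exact ⟨U, hx, ⟨(Scheme.Modules.restrictFunctor U.ι).mapIso iN ≪≫ u⟩⟩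
  have hrN' : FlatMod.IsFinLocFreeOfRank r' ((DCoh.sheafHom N').obj (Coh.structureModule X)) := fun x => by
    obtain ⟨U, hx, ⟨u⟩⟩ := Dev.isFinLocFreeOfRank_dualMod hN' x
    exact ⟨U, hx, ⟨(Scheme.Modules.restrictFunctor U.ι).mapIso iN' ≪≫ u⟩⟩
  refine Dev.ratEquiv_map_pull_subBundle hX hs (Dev.isFinLocFreeOfRank_dualMod hPE) hrN hrN' hA hA' hφ hV hpδ
    hV' hp'δ hα (γ := γ (Fin.last e))
    (show γ (Fin.last e) ∈ Dev.zkSub δ (k - (e : ℤ)) from hγ.2.1 (Fin.last e)) ?_ β' hβ' β hβ
  intro T τ _ _ d δT hT hd hc hrel ls hls hlen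
  have hfE := Dev.hasFilt_of_dual hEl hls
  have h := Dev.pullAll_chernCap hX hT hc hd hrel hPE hP hPs hδ hfE (by simp [hlen]) hα hγ (Fin.last e)
  simp only [Fin.val_last] at h
  rw [h, Dev.rootsOp_dual hT hls.isInvertible]
  have hcard : Multiset.card ((Dev.rootsOp hT ls).map (fun z => -z)) = e := by
    rw [Multiset.card_map, Dev.card_rootsOp, hlen]
  conv_lhs => rw [← hcard, Dev.esymm_card_eq_prod]
  simp [Dev.rootsOp, Function.comp_def]

end Groth.Agent.S12674
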