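import Groth.Statements.S12675
import Groth.Agent.Cyc90.Dev.ChernOps
import Groth.Agent.Cyc90.Dev.SecIso
open Groth.Agent.Cyc90

set_option autoImplicit false
universe u
open CategoryTheory CategoryTheory.Limits AlgebraicGeometry
open Cyc

namespace Groth.Agent.S12675

/-- Suppose X is integral of δ-dimension n and L is an O_X-module that is invertible; then L's first
Chern class on X, taken in the sense of the projective-bundle characterisation (rank r = 1), agrees
with the Weil divisor class c_1(L) ∩ [X] of L (the divisor of a nonzero rational section,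
Cyc.c1CapFun on the cycle [X]_n). The projective bundle of L is given abstractly by its universal
property, so the identification P(L) = X, O(1) = L is part of what is asserted. Setting: (X, δ) with
Cyc.IsSetup stands for a scheme locally of finite type over the base (S, δ) (X locally Noetherian
with universally catenary local rings, δ a dimension function); (p : P → X, O_P(1), q) is the
projective bundle of E given by its universal property (KRR.IsProjBundle), p is proper and δP is the
induced dimension function (Cyc.DeltaCompat); a tuple γ with Cyc.IsChernCap represents (c_0(E) ∩ α,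
…, c_r(E) ∩ α) through the defining relation Σ_i (-1)^i c_1(O_P(1))^i ∩ p^*(γ_{r-i}) ∼_rat 0 on P,
and classes are compared up to rational equivalence of representing cycles. -/
theorem result (X : Scheme.{u}) (δ : X → ℤ) (hX : Cyc.IsSetup X δ) [IsIntegral X] (n : ℤ) (hn : δ (genericPoint X) = n) (L : X.Modules) (hL : PicF.IsInvertible L) (hPE : FlatMod.IsFinLocFreeOfRank 1 L) (P : Scheme.{u}) (p : P ⟶ X) (O1 : P.Modules) (q : (Scheme.Modules.pullback p).obj L ⟶ O1) (hP : KRR.IsProjBundle p L O1 q) [IsProper p] (δP : P → ℤ) (hPs : Cyc.IsSetup P δP) (hδ : Cyc.DeltaCompat p δP δ) (α : AlgebraicCycle X ℤ) (hα : ⇑α = Cyc.subschemeFun δ n (𝟙 X)) (γ : Fin 2 → AlgebraicCycle X ℤ) (hγ : Cyc.IsChernCap p δ δP O1 1 n α γ) (s : (ξ : X) → Cyc.secFibre L ξ) (hs : ∀ ξ, s ξ ≠ 0) (β : AlgebraicCycle X ℤ) (hβ : ⇑β = Cyc.c1CapFun δ L ⇑α s) : Cyc.RatEquiv δ (n - 1) (γ 1) β := by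
  obtain ⟨hB, hflat, hinv⟩ := Dev.projFibres_of_isProjBundle (n := 0) hPE hP
  have := hP.epi
  have hLP := Groth.Agent.Amp73.isInvertible_pullback p hL
  have : IsIso q := Dev.isIso_of_epi_invertible q hLP hinv
  obtain ⟨t0, ht0⟩ := Dev.exists_secFibre_family hinv
  let t : ℕ → (ξ : P) → Cyc.secFibre O1 ξ := fun _ => t0
  have ht : ∀ i ξ, t i ξ ≠ 0 := fun _ => ht0
  have hαk : α ∈ Cyc.Zk X δ n := fun x hx => by
    rw [hα]
    exact if_neg hx
  have hrel := Dev.chRel_of_isChernCap hB hinv hPs hδ t ht hγ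
  have hβeq : β = Dev.cap1 hX hL s hs α := DFunLike.coe_injective (by rw [Dev.coe_cap1, hβ])
  have hβk : β ∈ Cyc.Zk X δ (n - 1) := by
    rw [hβeq]
    exact Dev.cap1_mem hX hL s hs (by rwa [sub_add_cancel])
  let a : AlgebraicCycle X ℤ := γ 1 - β
  have ha : a ∈ Cyc.Zk X δ (n - 1) :=
    (Dev.zkSub δ (n - 1)).sub_mem (show γ 1 ∈ Cyc.Zk X δ (n - 1) by have := hγ.2.1 1; simpa using this) hβk
  have hkey : Dev.chTerm hB hinv hPs hδ t ht 1 α - Dev.chTerm hB hinv hPs hδ t ht 0 β ∈
      Dev.ratZ hPs (n - 1) := by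
    rw [hβeq]
    show Dev.cap1 hPs hinv t0 ht0 (Dev.pullHom p hPs (Dev.shiftAt_of_fibres hB hδ) α) - Dev.pullHom p hPs (Dev.shiftAt_of_fibres hB hδ) (Dev.cap1 hX hL s hs α) ∈ _
    rw [Dev.pullHom_cap1 p hPs (Dev.shiftAt_of_fibres hB hδ) hX hL s hs α]
    exact Dev.cap1_iso_indep hPs hLP hinv (asIso q) _ (pullSec_ne_zero p hL s hs) t0 ht0
      (by simpa using Dev.pullHom_mem p hPs (Dev.shiftAt_of_fibres hB hδ) hαk)
  have h2 : Dev.chTerm hB hinv hPs hδ t ht 0 a ∈ Dev.ratZ hPs (n - 1) := by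
    have h3 := add_mem ((Dev.mem_ratZ hPs).2 hrel) hkey
    rw [Dev.chRel, Fin.sum_univ_two] at h3
    simp only [Fin.val_zero, Fin.val_one, pow_zero, pow_one, one_smul, neg_smul] at h3
    rw [show (Fin.rev (0 : Fin 2)) = 1 from rfl, show (Fin.rev (1 : Fin 2)) = 0 from rfl, hγ.1] at h3
    show Dev.chTerm hB hinv hPs hδ t ht 0 (γ 1 - β) ∈ _
    rw [map_sub]
    convert h3 using 1
    abel
  have h4 := Dev.chTerm_independent hX hB hinv hPs hδ t ht (k := n - 1) (fun _ => a)
    (fun i => by simpa [Fin.eq_zero i] using ha)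
    (by simpa [Fin.sum_univ_one] using (Dev.mem_ratZ hPs).1 h2) 0
  simpa [Cyc.RatEquiv, a] using h4

end Groth.Agent.S12675
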