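import Groth.Statements.S12676
import Groth.Agent.IntMult12.GraphPull
import Groth.Agent.Curves2.ProjLineProper

set_option autoImplicit false
universe u
open CategoryTheory CategoryTheory.Limits AlgebraicGeometry
attribute [local instance] HasDerivedCategory.standard
open IntMult

namespace Groth.Agent.S12676

/-- Let f : X → Y be a morphism of nonsingular projective varieties over an algebraically closed field
and define f^*α = pr_{X,*}(Γ_f · pr_Y^*α) on Chow groups, with Γ_f ⊂ X × Y the graph and · the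
intersection product of the nonsingular projective variety X × Y. If f is flat, f^*α agrees with the
flat pullback of α (relative dimension dim X - dim Y). Here X, Y and X × Y are nonsingular varieties
over the algebraically closed field K (smooth, separated, quasi-compact, integral) embedded as
closed subschemes of projective spaces over K, with dimension functions the transcendence degree
(Cyc.IsSetup, Cyc.DeltaCompat to Spec K with value 0) and dimensions pinned at the generic points;
the product on CH_*(X × Y) is any mul with ChowOps.IsChowMul (it agrees with the Tor-formula product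
IntMult.interProd on properly meeting cycles, which determines it); [Γ_f] is the prime cycle of the
image of the generic point of X under the graph morphism, pr_Y^* and f^* are coefficientwise flat
pullbacks (Cyc.pullFun), pr_{X,*} is the proper pushforward of a representing cycle, and the two
sides are compared up to rational equivalence on X. (Parts (1)–(3) of the published statement — f^*
is a ring map, functoriality, projection formula — are not stated here.) -/
theorem result (K : Type u) [Field K] [IsAlgClosed K] (X : Scheme.{u}) (fX : X ⟶ Spec (CommRingCat.of K)) [Smooth fX] [IsSeparated fX] [QuasiCompact fX] [IsIntegral X] (δX : X → ℤ) (hX : Cyc.IsSetup X δX) (hδX : Cyc.DeltaCompat fX δX (fun _ => 0)) (dX : ℕ) (hdX : δX (genericPoint X) = dX) (NX : ℕ) (ιX : X ⟶ CohB1.ProjSpace NX K) [IsClosedImmersion ιX] (hιX : ιX ≫ CohB1.ProjSpace.toSpec NX K = fX) (Y : Scheme.{u}) (fY : Y ⟶ Spec (CommRingCat.of K)) [Smooth fY] [IsSeparated fY] [QuasiCompact fY] [IsIntegral Y] (δY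 : Y → ℤ) (hY : Cyc.IsSetup Y δY) (hδY : Cyc.DeltaCompat fY δY (fun _ => 0)) (dY : ℕ) (hdY : δY (genericPoint Y) = dY) (NY : ℕ) (ιY : Y ⟶ CohB1.ProjSpace NY K) [IsClosedImmersion ιY] (hιY : ιY ≫ CohB1.ProjSpace.toSpec NY K = fY) (f : X ⟶ Y) (hf : f ≫ fY = fX) [Flat f] [IsIntegral (pullback fX fY)] (δW : ↥(pullback fX fY) → ℤ) (hW : Cyc.IsSetup (pullback fX fY) δW) (hδW : Cyc.DeltaCompat (pullback.fst fX fY ≫ fX) δW (fun _ => 0)) (hdW : δW (genericPoint ↥(pullback fX fY)) = (dX : ℤ) + (dY : ℤ)) (NW : ℕ) (ιW : (pullback fX fY) ⟶ CohB1.ProjSpace NW K) [IsClosedImmersion ιW] (hιW : ιW ≫ CohB1.ProjSpace.toSpec NW K = pullback.fst fX fY ≫ fX) (mul : (r s : ℤ) → ChowOps.CH (pullback fX fY) δW r → ChowOps.CH (pullback fX fY) δW s → ChowOps.CH (pullback fX fY) δW (r + s - ((dX : ℤ) + (dY : ℤ)))) (hmul : ChowOps.IsChowMul (pullback fX fY) δW ((dX : ℤ) + (dY : ℤ)) mul) (γ : AlgebraicCycle (pullback fX fY) ℤ) (hγ : ⇑γ = Set.indicator {(pullback.lift (𝟙 X) f (Eq.trans (Category.id_comp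 fX) hf.symm)) (genericPoint X)} 1) (hγk : γ ∈ Cyc.Zk (pullback fX fY) δW (dX : ℤ)) (k : ℤ) (α : AlgebraicCycle Y ℤ) (hα : α ∈ Cyc.Zk Y δY k) (αW : AlgebraicCycle (pullback fX fY) ℤ) (hαW : ⇑αW = Cyc.pullFun (pullback.snd fX fY) δW δY (dX : ℤ) ⇑α) (hαWk : αW ∈ Cyc.Zk (pullback fX fY) δW (k + dX)) (ζ : AlgebraicCycle (pullback fX fY) ℤ) (hζk : ζ ∈ Cyc.Zk (pullback fX fY) δW ((dX : ℤ) + (k + dX) - ((dX : ℤ) + (dY : ℤ)))) (hζ : ChowOps.cl ζ hζk = mul (dX : ℤ) (k + dX) (ChowOps.cl γ hγk) (ChowOps.cl αW hαWk)) (αX : AlgebraicCycle X ℤ) (hαX : ⇑αX = Cyc.pullFun f δX δY ((dX : ℤ) - (dY : ℤ)) ⇑α) : Cyc.RatEquiv δX (k + dX - dY) (AlgebraicCycle.map (pullback.fst fX fY) δW δX ζ) αX := by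
  classical
  let Γ : X ⟶ pullback fX fY := pullback.lift (𝟙 X) f (Eq.trans (Category.id_comp fX) hf.symm)
  have hΓ : Γ ≫ pullback.fst fX fY = 𝟙 X := pullback.lift_fst _ _ _
  have hg : Γ ≫ pullback.snd fX fY = f := pullback.lift_snd _ _ _
  haveI : IsClosedImmersion (Γ ≫ pullback.fst fX fY) := by rw [hΓ]; infer_instance
  haveI : IsClosedImmersion Γ := IsClosedImmersion.of_comp Γ (pullback.fst fX fY)
  haveI : IsProper (CohB1.ProjSpace.toSpec NY K) := Curves2.ProjLine.isProper_toSpec K NY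
  haveI : IsProper fY := hιY ▸ inferInstance
  haveI : IsLocallyNoetherian (pullback fX fY) := hW.1
  obtain ⟨hint, hval, hzero, hloc⟩ := IntMult12.interProd_graph fX fY δX δY δW hδX hδY hδW dX dY hdX hdY hdW
    Γ hΓ f hg k α hα
  have hδΓ : δX = fun a => δW (Γ a) := funext fun a => (hloc a).1.symm
  let ζ0 : AlgebraicCycle (pullback fX fY) ℤ := AlgebraicCycle.map Γ δX δW αX
  have hζ0a : ∀ a, ζ0 (Γ a) = αX a := fun a => by
    show AlgebraicCycle.map Γ δX δW αX (Γ a) = αX a
    rw [hδΓ]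
    exact Cyc90.map_closedImmersion_image Γ δW αX a
  have hζ0z : ∀ z ∉ Set.range Γ, ζ0 z = 0 := fun z hz => by
    show AlgebraicCycle.map Γ δX δW αX z = 0
    rw [hδΓ]
    exact Cyc90.map_closedImmersion_notMem Γ δW αX hz
  have hζ0k : ζ0 ∈ Cyc.Zk (pullback fX fY) δW ((dX : ℤ) + (k + dX) - ((dX : ℤ) + (dY : ℤ))) := fun z hz => by
    by_cases h : z ∈ Set.range Γ
    · obtain ⟨a, rfl⟩ := h
      rw [hζ0a, hαX]
      simp only [Cyc.pullFun]
      split_ifs with h1
      · by_contra h2
        have h3 : α (f a) ≠ 0 := fun h0 => h2 (by rw [h0, zero_mul])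
        have h4 : δY (f a) = k := by_contra fun h4 => h3 (hα _ h4)
        rw [(hloc a).1] at hz
        omega
      · rfl
    · exact hζ0z z h
  have hprod : ⇑ζ0 = IntMult.interProd δW ((dX : ℤ) + dY) ⇑γ ⇑αW := by
    rw [hγ, hαW]
    funext z
    by_cases h : z ∈ Set.range Γ
    · obtain ⟨a, rfl⟩ := h
      rw [hζ0a, hαX]
      exact (hval a).symm
    · rw [hζ0z z h]
      exact (hzero z h).symm
  have hm := hmul (dX : ℤ) (k + dX) γ αW hγk hαWk (by rw [hγ, hαW]; exact hint) ζ0 hζ0k hprod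
  have h1 := IntMult12.ratEquiv_of_cl_eq hW hζk hζ0k (hζ.trans hm)
  have hd1 : Cyc.DeltaCompat (pullback.fst fX fY) δW δX := Cyc90.deltaCompat_of_comp _ fX hδW hδX
  have h2 := Cyc90.ratEquivZero_map hW hX (pullback.fst fX fY) hd1 h1
  rw [IntMult12.map_sub_cycle] at h2
  have h3 : AlgebraicCycle.map (pullback.fst fX fY) δW δX ζ0 = αX := by
    refine DFunLike.ext _ _ fun y => ?_
    have hy : (pullback.fst fX fY) (Γ y) = y := by rw [← Scheme.Hom.comp_apply, hΓ]; rfl
    rw [Cyc90.map_apply_eq, finsum_mem_eq_sum_of_inter_support_eq _ (t := {Γ y}) ?_, Finset.sum_singleton,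
      hy, if_pos (hloc y).1, (hloc y).2, hζ0a]
    · simp
    · ext z
      simp only [Set.mem_inter_iff, Set.mem_preimage, Set.mem_singleton_iff, Function.mem_support,
        Finset.coe_singleton]
      constructor
      · rintro ⟨hzy, hz0⟩
        refine ⟨?_, hz0⟩
        by_cases h : z ∈ Set.range Γ
        · obtain ⟨a, rfl⟩ := h
          rw [← Scheme.Hom.comp_apply, hΓ] at hzy
          exact congrArg Γ (show a = y from hzy)
        · exact absurd (by rw [hζ0z z h, zero_mul]) hz0
      · rintro ⟨rfl, hz0⟩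
        exact ⟨hy, hz0⟩
  rw [h3, show (dX : ℤ) + (k + dX) - ((dX : ℤ) + (dY : ℤ)) = k + dX - dY by ring] at h2
  exact h2

end Groth.Agent.S12676
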