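import Groth.Statements.S12681
import Groth.Agent.EGAProj74.RLAmple
import Groth.Agent.EGAProj74.RLPsi
import Groth.Agent.EGAProj74.QMapProps

set_option autoImplicit false
set_option backward.isDefEq.respectTransparency.types false
universe u
open CategoryTheory CategoryTheory.Limits AlgebraicGeometry TopologicalSpace Opposite
open scoped HomogeneousIdeal
noncomputable section
open Mor

namespace Groth.Agent.S12681

/-- Let f : X → Y be a universally closed morphism, L an invertible O_X-module with graded symmetric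
algebra 𝒮L = ⊕_{n≥0} L^{⊗n} (whose relative Proj PL, given with its charts, is identified with X by
its structure morphism) with L ample relative to f (in particular f is quasi-compact), and 𝒜 a
quasi-coherent graded O_Y-algebra given with a graded f-morphism u : 𝒜 → f_*𝒮L which is bijective on
sections over every affine open of Y — so that 𝒜 is the graded algebra ⊕_{n≥0} f_*(L^{⊗n}) and u is
adjoint to the canonical σ : f^*𝒜 → ⊕ L^{⊗n} — P = Proj(𝒜) → Y its relative homogeneous spectrum
with its charts, and r = r_{L,σ} : G(σ) → P the induced morphism on its open of definition G(σ) ⊆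
PL. Then r is everywhere defined (G(σ) is all of PL) and r is an isomorphism onto P = Proj(⊕_{d≥0}
f_*(L^{⊗d})). -/
theorem result {X Y P PL : Scheme.{u}} (f : X ⟶ Y) [UniversallyClosed f]
    (L : X.Modules) (hL : PicF.IsInvertible L) (hLq : Coh.IsQCoh L)
    (𝒮L : RelProj.QCGrAlg X) (jL : L ⟶ 𝒮L.toModule) (hjL : RelProj.IsGrSymAlg L 𝒮L jL)
    (pL : PL ⟶ X) (chartL : ∀ (U : X.Opens) (hU : IsAffineOpen U), (((pL ⁻¹ᵁ U : PL.Opens) : Scheme.{u}) ≅ Proj (𝒮L.deg U hU)))
    (hPL : RelProj.IsRelProj 𝒮L pL chartL)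
    (𝒜 : RelProj.QCGrAlg Y) (u : RelProj.QGrHom f 𝒜 𝒮L)
    (p : P ⟶ Y) (chart : ∀ (U : Y.Opens) (hU : IsAffineOpen U), (((p ⁻¹ᵁ U : P.Opens) : Scheme.{u}) ≅ Proj (𝒜.deg U hU)))
    (hP : RelProj.IsRelProj 𝒜 p chart)
    (r : ((RelProj.domQ u pL chartL : PL.Opens) : Scheme.{u}) ⟶ P)
    (hr : RelProj.IsProjQMapOn u p chart pL chartL (RelProj.domQ u pL chartL) r)
    (hu : ∀ (U : Y.Opens), IsAffineOpen U → Function.Bijective (u.app U).hom)
    (h : RelAmple.IsRelAmple f L) :
    RelProj.domQ u pL chartL = ⊤ ∧ IsIso r := by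
  obtain ⟨htop, hopen, hdom⟩ := Groth.Agent.EGAProj74.RLAmple.isOpenImmersion_isDominant
    hL hLq hjL (u := u) hPL hu hr hP h
  refine ⟨htop, ?_⟩
  have := Groth.Agent.EGAProj74.isIso_pL hL hLq hjL hPL
  have hover := Groth.Agent.EGAProj74.projQMapOn_over u hPL hP hr
  have : IsIso ((RelProj.domQ u pL chartL).ι) := by
    rw [htop]
    exact Scheme.topIso PL |>.isIso_hom
  have h1 : UniversallyClosed (r ≫ p) := by
    rw [hover]
    infer_instance
  have : IsSeparated p :=
    Groth.Agent.EGAProj74.restrict_of_chart (Q := @IsSeparated) hP fun U hU => inferInstance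
  have : UniversallyClosed r := UniversallyClosed.of_comp_of_isSeparated r p
  have hsurj : Surjective r := ⟨by
    rw [← Set.range_eq_univ]
    have hc : IsClosed (Set.range r) := r.isClosedMap.isClosed_range
    rw [← hc.closure_eq]
    exact hdom.1.closure_range⟩
  exact (isIso_iff_isOpenImmersion_and_surjective r).2 ⟨hopen, hsurj⟩

end Groth.Agent.S12681
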