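import Groth.Statements.S12688
import Groth.Agent.EGAProj74.RLFinite
import Groth.Agent.EGAProj74.RLChart
import Groth.Agent.QCqs72.Basic
import Groth.Agent.S12686

set_option autoImplicit false
universe u
open CategoryTheory CategoryTheory.Limits AlgebraicGeometry TopologicalSpace Opposite
open scoped HomogeneousIdeal
noncomputable section
open EGA2

namespace Groth.Agent.S12688

/-- Let Y be a scheme which is either quasi-compact and separated or has Noetherian underlying space, q
: X → Y a morphism of finite type, L an invertible O_X-module with graded symmetric algebra 𝒮L =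
⊕_{n≥0} L^{⊗n} (whose relative Proj PL, given with its charts, is identified with X by its structure
morphism). If L is very ample relative to q, then there are a quasi-coherent O_Y-module E of finite
type with an injective map ι : E → q_*L, its graded symmetric algebra 𝒯 = Sym(E) (structure map jE),
and the graded q-morphism u : 𝒯 → q_*𝒮L extending ι (adjoint to Sym(φ) for φ : q^*E → L the
restriction of the canonical map q^*q_*L → L), such that φ is surjective — every point of X has an
affine neighbourhood V over which the image of a single section of E generates L — and, for the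
projective bundle P(E) = Proj(𝒯) → Y (with its charts) and the induced r = r_{L,φ} : G(φ) → P(E), r
is everywhere defined (G(φ) is all of PL) and an immersion. (The published statement reads 'coherent
of finite type' for E; over an affine base whose ring is not coherent, with q the identity and L
trivial, the only possible E is O_Y itself, which is not coherent, while the published proof,
through the finite-type criterion for immersions, yields E quasi-coherent of finite type, which is
what this row asserts.) -/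
theorem result {X Y PL : Scheme.{u}}
    (hYs : (CompactSpace Y ∧ Y.IsSeparated) ∨ NoetherianSpace Y) (q : X ⟶ Y) [QuasiCompact q] [LocallyOfFiniteType q]
    (L : X.Modules) (hL : PicF.IsInvertible L) (hLq : Coh.IsQCoh L)
    (𝒮L : RelProj.QCGrAlg X) (jL : L ⟶ 𝒮L.toModule) (hjL : RelProj.IsGrSymAlg L 𝒮L jL)
    (pL : PL ⟶ X) (chartL : ∀ (U : X.Opens) (hU : IsAffineOpen U), (((pL ⁻¹ᵁ U : PL.Opens) : Scheme.{u}) ≅ Proj (𝒮L.deg U hU)))
    (hPL : RelProj.IsRelProj 𝒮L pL chartL)
    (h : RelProj.IsRelVeryAmple q L) :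
    ∃ (E : Y.Modules) (_ : Coh.IsQCoh E) (_ : CohB1.IsFT E) (ι : E ⟶ (Scheme.Modules.pushforward q).obj L)
      (_ : ∀ U : Y.Opens, Function.Injective (ι.app U))
      (𝒯 : RelProj.QCGrAlg Y) (jE : E ⟶ 𝒯.toModule) (_ : RelProj.IsGrSymAlg E 𝒯 jE)
      (u : RelProj.QGrHom q 𝒯 𝒮L)
      (_ : ∀ (U : Y.Opens) (x : Γ(E, U)), (u.app U).hom ((jE.app U) x) = (jL.app (q ⁻¹ᵁ U)) ((ι.app U) x)),
      (∀ x : X, ∃ (U : Y.Opens) (hU : IsAffineOpen U) (e : Γ(E, U)) (V : X.Opens) (hV : IsAffineOpen V)
          (hVU : V ≤ q ⁻¹ᵁ U), x ∈ V ∧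
            ((𝒮L.deg V hV 1 : AddSubgroup (𝒮L.presheaf.obj (op V))) : Set (𝒮L.presheaf.obj (op V))) ⊆
              (Ideal.span {(u.appLE U V hVU).hom ((jE.app U) e)} : Set (𝒮L.presheaf.obj (op V)))) ∧
      ∀ (P : Scheme.{u}) (p : P ⟶ Y)
          (chart : ∀ (U : Y.Opens) (hU : IsAffineOpen U), (((p ⁻¹ᵁ U : P.Opens) : Scheme.{u}) ≅ Proj (𝒯.deg U hU)))
          (_ : RelProj.IsRelProj 𝒯 p chart)
          (r : ((RelProj.domQ u pL chartL : PL.Opens) : Scheme.{u}) ⟶ P)
          (_ : RelProj.IsProjQMapOn u p chart pL chartL (RelProj.domQ u pL chartL) r),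
        RelProj.domQ u pL chartL = ⊤ ∧ IsImmersion r := by
  obtain ⟨hc, hY⟩ := EGA73.QuasiProjective.quasiSeparatedSpace_or hYs
  have := EGA73.QuasiProjective.quasiSeparated_of_isRelVeryAmple h
  have : L.IsQuasicoherent := hLq
  have hFq : Coh.IsQCoh ((Scheme.Modules.pushforward q).obj L) := QCqs72.isQuasicoherent_pushforward L q
  obtain ⟨𝒯, jF, h𝒯⟩ := EGAProj74.exists_isGrSymAlg hFq
  obtain ⟨u, hu⟩ := EGAProj74.exists_qGrHom_sym hjL q hFq h𝒯 (𝟙 _)
  have hu' : ∀ (U : Y.Opens) (s : Γ((Scheme.Modules.pushforward q).obj L, U)),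
      (u.app U).hom (jF.app U s) = jL.app (q ⁻¹ᵁ U) s := hu
  have hP := EGAProj74.isRelProj_relProj 𝒯
  obtain ⟨r, hr, -⟩ := EGAProj74.existsUnique_projQMapOn u (p' := pL) (chart' := chartL) hPL hP
  obtain ⟨hdom, himm⟩ := S12686.result q L hL hLq 𝒮L jL hjL pL chartL hPL hFq 𝒯 jF h𝒯 u hu' _ _ hP r hr h
  have hsurj : ∀ x : X, ∃ (U : Y.Opens) (hU : IsAffineOpen U) (e : Γ((Scheme.Modules.pushforward q).obj L, U))
      (V : X.Opens) (hV : IsAffineOpen V) (hVU : V ≤ q ⁻¹ᵁ U), x ∈ V ∧
      ((𝒮L.deg V hV 1 : AddSubgroup (𝒮L.presheaf.obj (op V))) : Set (𝒮L.presheaf.obj (op V))) ⊆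
        (Ideal.span {(u.appLE U V hVU).hom ((jF.app U) e)} : Set (𝒮L.presheaf.obj (op V))) := fun x => by
    obtain ⟨U, T, s, -, c, -, hx, -⟩ := EGA73.QuasiProjective.exists_chart_of_isRelVeryAmple h x
    obtain ⟨V, hV, hxV, hVle⟩ := exists_isAffineOpen_mem_and_subset
      (U := EGA73.BundleImmersion.flocus s) (X.basicOpen_le c hx)
    have hVU : V ≤ q ⁻¹ᵁ U.1 := le_trans hVle (EGA73.BundleImmersion.flocus_le s)
    have hfr : Var76.LineBundle.IsFrame L V (Var76.LineBundle.res L hVU s) := by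
      intro W hW
      have h1 := EGA73.BundleImmersion.isFrame_flocus s W (hW.trans hVle)
      rw [Var76.LineBundle.res_res] at h1 ⊢
      exact h1
    refine ⟨U.1, U.2, s, V, hV, hVU, hxV, ?_⟩
    rw [show (u.appLE U.1 V hVU).hom ((jF.app U.1) s) = EGAProj74.jR jL V (Var76.LineBundle.res L hVU s) from
      (congrArg (𝒮L.presheaf.map (homOfLE hVU).op).hom (hu' U.1 s)).trans (Mero90.app_res jL hVU s).symm]
    have h2 := (EGAProj74.RLRel.span_iff_isUnit (EGAProj74.RLRel.isLineGen_of_frame hLq hjL hV hfr) 1 1).2 isUnit_one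
    rwa [map_one, one_mul, pow_one] at h2
  obtain ⟨E, hEq, hEft, ι, hι, 𝒯₁, jE, hjE, u₁, hu₁, hs₁, huniv⟩ :=
    EGAProj74.RLRel.exists_finiteType_of_isImmersion hL hLq hjL hPL hY hFq h𝒯 u hsurj hP hr hdom himm
  exact ⟨E, hEq, hEft, ι, hι, 𝒯₁, jE, hjE, u₁, fun U x => (hu₁ U x).trans (hu' U _), hs₁, huniv⟩

end Groth.Agent.S12688
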