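import Groth.Statements.S12689
import Groth.Agent.EGAProj74.RLFinite
import Groth.Agent.EGAProj74.SymQHomExt
import Groth.Agent.EGAProj74.QMapFactor

set_option autoImplicit false
universe u
open CategoryTheory CategoryTheory.Limits AlgebraicGeometry TopologicalSpace Opposite
open scoped HomogeneousIdeal
noncomputable section
open EGA2

namespace Groth.Agent.S12689

/-- Let Y be a scheme which is either quasi-compact and separated or has Noetherian underlying space, q
: X → Y a morphism of finite type, L an invertible O_X-module with graded symmetric algebra 𝒮L =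
⊕_{n≥0} L^{⊗n} (whose relative Proj PL, given with its charts, is identified with X by its structure
morphism), F a quasi-coherent O_Y-module with graded symmetric algebra 𝒯 = Sym(F) (structure map jF)
and projective bundle P = P(F) = Proj(𝒯) → Y given with its charts, u : 𝒯 → q_*𝒮L a graded
q-morphism — adjoint to Sym(φ) for the homomorphism φ : q^*F → L it determines in degree one — with
φ surjective (every point of X has an affine neighbourhood V over which the image of a single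
section of F generates L), and r = r_{L,φ} : G(φ) → P the induced morphism on its open of definition
G(φ) ⊆ PL (which is all of PL, φ being surjective). Then r is an immersion if and only if there are
a quasi-coherent O_Y-module E of finite type with an injective map ι : E → F, its graded symmetric
algebra 𝒯' = Sym(E) (structure map jE) and the graded q-morphism u' : 𝒯' → q_*𝒮L obtained from u
through Sym(ι), such that the corresponding φ' : q^*E → L is surjective (in the same stalkwise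
sense) and, for the projective bundle P(E) = Proj(𝒯') → Y (with its charts) and the induced r' =
r_{L,φ'} : G(φ') → P(E), r' is everywhere defined and an immersion. -/
theorem result {X Y P PL : Scheme.{u}}
    (hYs : (CompactSpace Y ∧ Y.IsSeparated) ∨ NoetherianSpace Y) (q : X ⟶ Y) [QuasiCompact q] [LocallyOfFiniteType q]
    (L : X.Modules) (hL : PicF.IsInvertible L) (hLq : Coh.IsQCoh L)
    (𝒮L : RelProj.QCGrAlg X) (jL : L ⟶ 𝒮L.toModule) (hjL : RelProj.IsGrSymAlg L 𝒮L jL)
    (pL : PL ⟶ X) (chartL : ∀ (U : X.Opens) (hU : IsAffineOpen U), (((pL ⁻¹ᵁ U : PL.Opens) : Scheme.{u}) ≅ Proj (𝒮L.deg U hU)))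
    (hPL : RelProj.IsRelProj 𝒮L pL chartL)
    (F : Y.Modules) (hFq : Coh.IsQCoh F) (𝒯 : RelProj.QCGrAlg Y) (jF : F ⟶ 𝒯.toModule) (h𝒯 : RelProj.IsGrSymAlg F 𝒯 jF)
    (u : RelProj.QGrHom q 𝒯 𝒮L)
    (hsurj : ∀ x : X, ∃ (U : Y.Opens) (hU : IsAffineOpen U) (e : Γ(F, U)) (V : X.Opens) (hV : IsAffineOpen V)
        (hVU : V ≤ q ⁻¹ᵁ U), x ∈ V ∧
          ((𝒮L.deg V hV 1 : AddSubgroup (𝒮L.presheaf.obj (op V))) : Set (𝒮L.presheaf.obj (op V))) ⊆
              (Ideal.span {(u.appLE U V hVU).hom ((jF.app U) e)} : Set (𝒮L.presheaf.obj (op V))))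
    (p : P ⟶ Y) (chart : ∀ (U : Y.Opens) (hU : IsAffineOpen U), (((p ⁻¹ᵁ U : P.Opens) : Scheme.{u}) ≅ Proj (𝒯.deg U hU)))
    (hP : RelProj.IsRelProj 𝒯 p chart)
    (r : ((RelProj.domQ u pL chartL : PL.Opens) : Scheme.{u}) ⟶ P)
    (hr : RelProj.IsProjQMapOn u p chart pL chartL (RelProj.domQ u pL chartL) r) :
    IsImmersion r ↔
      ∃ (E : Y.Modules) (_ : Coh.IsQCoh E) (_ : CohB1.IsFT E) (ι : E ⟶ F) (_ : ∀ U : Y.Opens, Function.Injective (ι.app U))
        (𝒯' : RelProj.QCGrAlg Y) (jE : E ⟶ 𝒯'.toModule) (_ : RelProj.IsGrSymAlg E 𝒯' jE)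
        (u' : RelProj.QGrHom q 𝒯' 𝒮L)
        (_ : ∀ (U : Y.Opens) (x : Γ(E, U)), (u'.app U).hom ((jE.app U) x) = (u.app U).hom ((jF.app U) ((ι.app U) x))),
        (∀ x : X, ∃ (U : Y.Opens) (hU : IsAffineOpen U) (e : Γ(E, U)) (V : X.Opens) (hV : IsAffineOpen V)
            (hVU : V ≤ q ⁻¹ᵁ U), x ∈ V ∧
              ((𝒮L.deg V hV 1 : AddSubgroup (𝒮L.presheaf.obj (op V))) : Set (𝒮L.presheaf.obj (op V))) ⊆
              (Ideal.span {(u'.appLE U V hVU).hom ((jE.app U) e)} : Set (𝒮L.presheaf.obj (op V)))) ∧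
        ∀ (P' : Scheme.{u}) (p' : P' ⟶ Y)
            (chart' : ∀ (U : Y.Opens) (hU : IsAffineOpen U), (((p' ⁻¹ᵁ U : P'.Opens) : Scheme.{u}) ≅ Proj (𝒯'.deg U hU)))
            (_ : RelProj.IsRelProj 𝒯' p' chart')
            (r' : ((RelProj.domQ u' pL chartL : PL.Opens) : Scheme.{u}) ⟶ P')
            (_ : RelProj.IsProjQMapOn u' p' chart' pL chartL (RelProj.domQ u' pL chartL) r'),
          RelProj.domQ u' pL chartL = ⊤ ∧ IsImmersion r' := by
  obtain ⟨hc, hY⟩ := EGA73.QuasiProjective.quasiSeparatedSpace_or hYs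
  have hdom : RelProj.domQ u pL chartL = ⊤ := by
    choose U hU e V hV hVU hxV hspan using hsurj
    refine (EGAProj74.RLRel.domQ_eq_top_of_cover hL hLq hjL hPL hr hP (ι := X) (V := fun a => ⟨U a, hU a⟩)
      (n := fun _ => 1) (s := fun a => jF.app (U a) (e a))
      (fun a => ⟨one_pos, h𝒯.2 (U a) (hU a) (e a)⟩) fun x => ⟨x, ?_⟩).1
    exact Opens.mem_iSup.2 ⟨⟨⟨V x, hV x⟩, hVU x, hspan x⟩, hxV x⟩
  constructor
  · intro himm
    exact EGAProj74.RLRel.exists_finiteType_of_isImmersion hL hLq hjL hPL hY hFq h𝒯 u hsurj hP hr hdom himm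
  · rintro ⟨E, hEq, -, ι, -, 𝒯₁, jE, hjE, u₁, hu₁, -, huniv⟩
    obtain ⟨v, hvj, -⟩ := hjE.1 𝒯.toQCAlg (ι ≫ jF)
    have hvE : ∀ (U : Y.Opens) (m : Γ(E, U)), (v.hom.app (op U)).hom (jE.app U m) = jF.app U (ι.app U m) :=
      fun U m => congr(($hvj).app U m)
    have hv : RelProj.IsGradedHom v := EGAProj74.isGradedHom_of_grSym hEq hjE v fun U hU m => by
      rw [hvE U m]
      exact h𝒯.2 U hU _
    obtain ⟨u₂, hu₂⟩ := EGAProj74.RLRel.exists_comp_qGrHom u v hv
    have hu₁₂ : ∀ U : Y.Opens, u₁.app U = v.hom.app (op U) ≫ u.app U := fun U => by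
      rw [← hu₂]
      refine EGAProj74.qHom_app_ext hEq hjE (fun W _ m => ?_) U
      rw [hu₁ W m, ← hvE W m, hu₂]
      rfl
    have hP₁ := EGAProj74.isRelProj_relProj 𝒯₁
    obtain ⟨r₁, hr₁, -⟩ := EGAProj74.existsUnique_projQMapOn u₁ (p' := pL) (chart' := chartL) hPL hP₁
    obtain ⟨h1, h2⟩ := huniv _ _ _ hP₁ r₁ hr₁
    exact (EGAProj74.isImmersion_of_comp hv hu₁₂ hr hP hr₁ hP₁ h1 h2).2

end Groth.Agent.S12689
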