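import Groth.Statements.S1269
import Groth.Agent.RG29.FreeOpen

set_option autoImplicit false
universe u
open FlatMor

namespace Groth.Agent.S1269

open AlgebraicGeometry CategoryTheory TensorProduct in
/-- Ring form, X = Spec S and S = Spec R affine: let S be a finite type R-algebra, N a finite S-module
and q a prime of S over p with N_q flat over R. Then there is an étale R-algebra R' with a prime p'
over p having the same residue field such that, writing A for the local ring of R' at p' and S_A,
N_A for the base changes (any models), there is an S_A-algebra C with Spec C → Spec S_A an open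
immersion (an affine open U'), containing a point lying over q and over the maximal ideal of A, such
that C ⊗_{S_A} N_A is a free A-module. -/
theorem result {R S : Type u} [CommRing R] [CommRing S] [Algebra R S] [Algebra.FiniteType R S]
    (N : Type u) [AddCommGroup N] [Module S N] [Module R N] [IsScalarTower R S N] [Module.Finite S N]
    (p : Ideal R) [p.IsPrime] (q : Ideal S) [q.IsPrime] [q.LiesOver p] (hflat : FlatCA.FlatAt R q N) :
    ∃ (R' : Type u) (_ : CommRing R') (_ : Algebra R R') (p' : Ideal R') (_ : p'.IsPrime), FlatCA.IsEtaleNhd R R' p p' ∧
      ∀ (SA NA : Type u) [CommRing SA] [Algebra R SA] [Algebra S SA] [Algebra (Localization.AtPrime p') SA]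
        [IsScalarTower R S SA] [IsScalarTower R (Localization.AtPrime p') SA]
        [Algebra.IsPushout R S (Localization.AtPrime p') SA]
        [AddCommGroup NA] [Module SA NA] [Module S NA] [IsScalarTower S SA NA]
        (f : N →ₗ[S] NA), IsBaseChange SA f →
        ∃ (C : Type u) (_ : CommRing C) (_ : Algebra SA C) (_ : Algebra (Localization.AtPrime p') C)
          (_ : IsScalarTower (Localization.AtPrime p') SA C) (x' : Ideal C) (_ : x'.IsPrime),
          IsOpenImmersion (Spec.map (CommRingCat.ofHom (algebraMap SA C))) ∧
          (x'.comap (algebraMap SA C)).LiesOver q ∧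
          (x'.comap (algebraMap SA C)).LiesOver (IsLocalRing.maximalIdeal (Localization.AtPrime p')) ∧
          Module.Free (Localization.AtPrime p') (RestrictScalars (Localization.AtPrime p') C (C ⊗[SA] NA)) := by
  obtain ⟨R', _, _, p', _, hn, h⟩ := Groth.Agent.RG29.exists_free_open N p q hflat
  refine ⟨R', inferInstance, inferInstance, p', inferInstance, hn, ?_⟩
  intro SA NA _ _ _ _ _ _ _ _ _ _ _ f hf
  obtain ⟨g, P, hP, hgP, hPq, hPm, hfree⟩ := h SA NA f hf
  haveI := hP
  have hd : Disjoint (Submonoid.powers g : Set SA) (P : Set SA) :=
    (Ideal.disjoint_powers_iff_notMem_of_isPrime _).2 hgP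
  have hx : (P.map (algebraMap SA (Localization.Away g))).comap (algebraMap SA (Localization.Away g)) = P :=
    IsLocalization.under_map_of_isPrime_disjoint (Submonoid.powers g) _ hP hd
  refine ⟨Localization.Away g, inferInstance, inferInstance, inferInstance, inferInstance,
    P.map (algebraMap SA (Localization.Away g)),
    IsLocalization.isPrime_of_isPrime_disjoint (Submonoid.powers g) _ P hP hd,
    IsOpenImmersion.of_isLocalization g, ?_, ?_, hfree⟩
  · rw [hx]; exact hPq
  · rw [hx]; exact hPm

end Groth.Agent.S1269
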