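import Groth.Statements.S12709
import Groth.Agent.ArtF84.Surj
import Groth.Agent.ArtF85.Basic

set_option autoImplicit false
universe u v
open CategoryTheory
open ArtFun ArtFun.Art

namespace Groth.Agent.S12709

theorem result {Λ : Type u} {k : Type u} [CommRing Λ] [Field k] [Algebra Λ k]
    [IsNoetherianRing Λ] [Module.Finite Λ k]
    {A B : ArtFun.Art Λ k} (f : A ⟶ B) :
    List.TFAE [Function.Surjective f,
      Ideal.map f.toAlgHom (IsLocalRing.maximalIdeal A) ⊔ IsLocalRing.maximalIdeal B ^ 2 = IsLocalRing.maximalIdeal B,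
      Ideal.map (algebraMap Λ B) (RingHom.ker (algebraMap Λ k)) ⊔ Ideal.map f.toAlgHom (IsLocalRing.maximalIdeal A) ⊔
        IsLocalRing.maximalIdeal B ^ 2 = IsLocalRing.maximalIdeal B] := by
  obtain ⟨N, hN⟩ := ArtF85.exists_pow_maximalIdeal_eq_bot A
  haveI : IsPrecomplete (IsLocalRing.maximalIdeal A) A :=
    { prec' := fun F hF => ⟨F N, fun n => by
        rw [SModEq.sub_mem, smul_eq_mul, Ideal.mul_top]
        rcases le_total n N with h | h
        · have := SModEq.sub_mem.1 (hF h); rwa [smul_eq_mul, Ideal.mul_top] at this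
        · have := SModEq.sub_mem.1 (hF h)
          rw [smul_eq_mul, Ideal.mul_top, hN, Ideal.mem_bot, sub_eq_zero] at this
          rw [this, sub_self]; exact zero_mem _⟩ }
  exact ArtF84.tfae A.res B.res A.res_surjective B.res_surjective f.toAlgHom f.res_comp

end Groth.Agent.S12709
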