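import Groth.Statements.S1271
import Groth.Agent.FlatCrit65.Closed.FittingEtale
import Mathlib.RingTheory.Unramified.LocalStructure

set_option autoImplicit false
universe u
open FlatMor

namespace Groth.Agent.S1271

/-- Let A → B be an étale ring map, a ∈ A a nonzerodivisor and J a finitely generated ideal of B with
V(J) ⊆ V(aB), i.e. a lies in the radical of J. Then for every prime q of B there exist a finitely
generated ideal I of A with V(I) ⊆ V(a), an element g of B outside q, and a finitely generated ideal
J' of the localization B_g such that the extension of I to B_g equals the product of the extension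
of J with J'. -/
theorem result {A B : Type u} [CommRing A] [CommRing B] [Algebra A B] [Algebra.Etale A B]
    (a : A) (ha : a ∈ nonZeroDivisors A) (J : Ideal B) (hJ : J.FG) (hJa : algebraMap A B a ∈ J.radical)
    (q : Ideal B) [q.IsPrime] :
    ∃ (I : Ideal A) (g : B) (J' : Ideal (Localization.Away g)), I.FG ∧ a ∈ I.radical ∧ g ∉ q ∧ J'.FG ∧
      I.map (algebraMap A (Localization.Away g)) = J.map (algebraMap B (Localization.Away g)) * J' := by
  classical
  obtain ⟨g, hg, hstd⟩ := Algebra.IsEtaleAt.exists_isStandardEtale (R := A) q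
  let P := hstd.nonempty_standardEtalePresentation.some
  let C := AdjoinRoot P.f
  have : Module.Free A C := P.monic_f.free_adjoinRoot
  have : Module.Finite A C := P.monic_f.finite_adjoinRoot
  let h : C := AdjoinRoot.mk P.f P.g
  let T := Localization.Away h
  obtain ⟨ε⟩ : Nonempty (Localization.Away g ≃ₐ[A] T) := ⟨P.equivRing.trans P.P.equivAwayAdjoinRoot⟩
  have : Algebra.Etale A T := Algebra.Etale.of_equiv ε
  obtain ⟨N, hN⟩ := hJa
  let JT : Ideal T := (J.map (algebraMap B (Localization.Away g))).map ε.toAlgHom.toRingHom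
  have hJT : JT.FG := (hJ.map _).map _
  obtain ⟨G, hG⟩ := hJT
  choose c s hcs using fun t : T => IsLocalization.exists_mk'_eq (R := C) (Submonoid.powers h) t
  let J₀ : Ideal C := Ideal.span (c '' (G : Set T)) ⊔ Ideal.span {algebraMap A C (a ^ N)}
  have hJ₀fg : J₀.FG := (Submodule.fg_span (G.finite_toSet.image c)).sup (Submodule.fg_span_singleton _)
  have haJT : algebraMap A T (a ^ N) ∈ JT := by
    rw [← ε.commutes]
    refine Ideal.mem_map_of_mem _ ?_
    rw [IsScalarTower.algebraMap_apply A B (Localization.Away g), map_pow]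
    exact Ideal.mem_map_of_mem _ hN
  have hmap : J₀.map (algebraMap C T) = JT := by
    rw [Ideal.map_sup, Ideal.map_span, Ideal.map_span, Set.image_singleton, ← IsScalarTower.algebraMap_apply]
    have hspan : Ideal.span (algebraMap C T '' (c '' (G : Set T))) = JT := by
      apply le_antisymm
      · refine Ideal.span_le.mpr ?_
        rintro _ ⟨_, ⟨t, ht, rfl⟩, rfl⟩
        rw [← IsLocalization.mk'_spec T (c t) (s t), hcs]
        exact JT.mul_mem_right _ (hG ▸ Submodule.subset_span ht)
      · rw [← hG]
        refine Submodule.span_le.mpr fun t ht => ?_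
        obtain ⟨u, hu⟩ := (IsLocalization.map_units T (s t)).exists_left_inv
        have : u * algebraMap C T (c t) = t := by
          have h1 := IsLocalization.mk'_spec T (c t) (s t)
          rw [hcs] at h1
          rw [← h1, mul_left_comm, hu, mul_one]
        rw [SetLike.mem_coe, ← this]
        exact Ideal.mul_mem_left _ _ (Ideal.subset_span ⟨_, ⟨t, ht, rfl⟩, rfl⟩)
    rw [hspan]
    exact sup_eq_left.mpr ((Ideal.span_singleton_le_iff_mem _).mpr haJT)
  obtain ⟨J'', hI, hfg⟩ := FlatCrit65.exists_fittingZero_eq_mul (A := A) h J₀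
  obtain ⟨hIfg, hJ''fg⟩ := hfg hJ₀fg
  have hsymm : ε.symm.toAlgHom.toRingHom.comp ε.toAlgHom.toRingHom = RingHom.id _ :=
    RingHom.ext fun x => ε.symm_apply_apply x
  refine ⟨FlatCA.fittingZero A (C ⧸ J₀), g, J''.map ε.symm.toAlgHom.toRingHom, hIfg, ?_, hg,
    hJ''fg.map _, ?_⟩
  · obtain ⟨n, x, hx⟩ := Module.Finite.exists_fin (R := A) (M := C ⧸ J₀)
    refine ⟨N * n, Ideal.subset_span ⟨n, x, Matrix.diagonal fun _ => a ^ N, hx, fun i => ?_, ?_⟩⟩
    · rw [Finset.sum_eq_single i (fun j _ hj => by rw [Matrix.diagonal_apply_ne _ hj.symm, zero_smul])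
        (fun h => absurd (Finset.mem_univ i) h), Matrix.diagonal_apply_eq]
      obtain ⟨y, hy⟩ := Ideal.Quotient.mk_surjective (x i)
      rw [← hy, Algebra.smul_def]
      show Ideal.Quotient.mk J₀ (algebraMap A C (a ^ N)) * Ideal.Quotient.mk J₀ y = 0
      rw [← map_mul, Ideal.Quotient.eq_zero_iff_mem]
      exact Ideal.mul_mem_right _ _ (Ideal.mem_sup_right (Ideal.mem_span_singleton_self _))
    · simp [Matrix.det_diagonal, ← pow_mul]
  · have h1 := congrArg (Ideal.map ε.symm.toAlgHom.toRingHom) hI
    rw [Ideal.map_map, Ideal.map_mul, hmap,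
      show ε.symm.toAlgHom.toRingHom.comp (algebraMap A T) = algebraMap A (Localization.Away g) from
        RingHom.ext fun r => ε.symm.commutes r] at h1
    refine h1.trans (congrArg (· * _) ?_)
    show ((J.map (algebraMap B (Localization.Away g))).map ε.toAlgHom.toRingHom).map ε.symm.toAlgHom.toRingHom = _
    rw [Ideal.map_map, hsymm, Ideal.map_id]

end Groth.Agent.S1271
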