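import Groth.Statements.S12718
import Groth.Agent.ArtF85.VersalPS
import Groth.Agent.ArtF85.Classical
-- import your own Groth.Agent.* helpers here

set_option autoImplicit false
universe u v
open CategoryTheory
open ArtFun

namespace Groth.Agent.S12718

/-- Let R → S be a morphism of complete local Noetherian Λ-algebras with residue field k. The induced
morphism h_S → h_R of functors on Artinian local Λ-algebras with residue field k (composition with R
→ S) is smooth if and only if S is isomorphic as an R-algebra to a power series ring R[[X₁, …, Xₙ]]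
for some n. Smoothness of h_S → h_R is written as versality of the corresponding family of h_R over
S. -/
theorem result {Λ : Type u} {k : Type u} [CommRing Λ] [Field k] [Algebra Λ k]
    [IsNoetherianRing Λ] [Module.Finite Λ k]
    (R S : ArtFun.CRing Λ k) [Algebra R.carrier S.carrier] [IsScalarTower Λ R.carrier S.carrier]
    (hRS : S.res.comp (IsScalarTower.toAlgHom Λ R.carrier S.carrier) = R.res) :
    ArtFun.IsVersal ((ArtFun.Family.self R.carrier R.res).along
        (IsScalarTower.toAlgHom Λ R.carrier S.carrier) hRS) ↔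
      ∃ n : ℕ, Nonempty (S.carrier ≃ₐ[R.carrier] MvPowerSeries (Fin n) R.carrier) := by
  open Groth.Agent.ArtF85 in
  open ArtFun.Art in
  classical
  let i : R.carrier →ₐ[Λ] S.carrier := IsScalarTower.toAlgHom Λ R.carrier S.carrier
  have hiR : ∀ a, i a = algebraMap R.carrier S.carrier a := fun a => rfl
  constructor
  · intro hξ
    let ξ := (ArtFun.Family.self R.carrier R.res).along i hRS
    let η := (ArtFun.Family.self R.carrier R.res).toFormalElt
    -- a section on the zeroth truncation
    obtain ⟨ψ₀, -, hψ₀⟩ := hξ (ArtFun.Art.toBase (R.trunc 0)) (surjective_toBase _) (homSetBase S.carrier S.res)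
      (η.elt 0) (@Subsingleton.elim _ subsingleton_homSet_base _ _)
    have step : ∀ n (ψ : {φ : ArtFun.HomSet S.carrier S.res (R.trunc n) // ξ.app _ φ = η.elt n}),
        ∃ ψ' : {φ : ArtFun.HomSet S.carrier S.res (R.trunc (n + 1)) // ξ.app _ φ = η.elt (n + 1)},
          ArtFun.HomSet.map (R.truncMap n) ψ'.1 = ψ.1 := fun n ψ => by
      obtain ⟨ψ', e₁, e₂⟩ := hξ (R.truncMap n) (truncMap_surjective R n) ψ.1 (η.elt (n + 1))
        (by rw [η.compat, ψ.2])
      exact ⟨⟨ψ', e₂⟩, e₁⟩
    choose next hnext using step
    let seq : ∀ n, {φ : ArtFun.HomSet S.carrier S.res (R.trunc n) // ξ.app _ φ = η.elt n} :=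
      Nat.rec ⟨ψ₀, hψ₀⟩ (fun n ψ => next n ψ)
    obtain ⟨p, hp, hpn⟩ := exists_hom_of_compat R (fun n => (seq n).1) fun n => hnext n (seq n)
    have hpi : p.comp i = AlgHom.id Λ R.carrier := AlgHom.ext fun a =>
      (exists_unique_limit R (fun n => (R.truncHom n).1 a) fun n => by
        rw [← homSet_map_apply, R.truncMap_truncHom]).unique
        (fun n => (hpn n (i a)).trans (congrArg (fun φ : ArtFun.HomSet R.carrier R.res (R.trunc n) => φ.1 a) (seq n).2))
        (fun n => rfl)
    obtain ⟨n, e, he⟩ := exists_equiv_powerSeries_of_retract ξ hξ (ArtFun.Family.self R.carrier R.res) i hRS p hp hpi rfl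
    exact ⟨n, ⟨AlgEquiv.ofRingEquiv (f := e.toRingEquiv) fun a => he a⟩⟩
  · rintro ⟨n, ⟨e⟩⟩ B A μ hμ φ y hy
    let e' : S.carrier ≃ₐ[Λ] (psRing R n).carrier := e.restrictScalars Λ
    have hei : ∀ a, e' (i a) = psC R n a := fun a => e.commutes a
    have heX : ∀ j, S.res (e'.symm (psX R n j)) = 0 := fun j => by
      rw [← S.mem_maximalIdeal_iff, IsLocalRing.mem_maximalIdeal]
      intro hu
      have := hu.map e'
      rw [AlgEquiv.apply_symm_apply] at this
      exact (IsLocalRing.mem_maximalIdeal _).mp (((psRing R n).mem_maximalIdeal_iff _).2 (res_psX R n j)) this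
    have hres : S.res.comp e'.symm.toAlgHom = (psRing R n).res := by
      let kT : ArtFun.CRing Λ k := artCRing (ArtFun.Art.base Λ k)
      refine psHom_ext (T := kT) ?_ ?_ (fun j => (heX j).trans (res_psX R n j).symm)
      · refine AlgHom.ext fun z => ?_
        let g : MvPowerSeries (Fin n) R.carrier := z
        obtain ⟨c, hc⟩ := (Submodule.mem_span_range_iff_exists_fun _).1
          (mem_varIdeal_iff.2 (by rw [map_sub, MvPowerSeries.constantCoeff_C, sub_self]) :
            g - MvPowerSeries.C (MvPowerSeries.constantCoeff g) ∈ varIdeal R n)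
        have hgd : g = MvPowerSeries.C (MvPowerSeries.constantCoeff g) + ∑ j, c j * MvPowerSeries.X j :=
          eq_add_of_sub_eq' hc.symm
        let c' : Fin n → (psRing R n).carrier := c
        let a : R.carrier := MvPowerSeries.constantCoeff g
        let w : (psRing R n).carrier := psC R n a
        have hz : z = w + ∑ j, (c' j * psX R n j : (psRing R n).carrier) := hgd
        have hw : e'.symm w = i a := by rw [AlgEquiv.symm_apply_eq]; exact (hei a).symm
        show S.res (e'.symm z) = (psRing R n).res z
        rw [hz, map_add, map_add, map_add, map_sum, map_sum, map_sum, hw]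
        simp only [map_mul, heX, res_psX, mul_zero, Finset.sum_const_zero, add_zero]
        exact (AlgHom.congr_fun hRS a).trans (AlgHom.congr_fun (res_comp_psC R n) a).symm
      · refine AlgHom.ext fun a => ?_
        show S.res (e'.symm (psC R n a)) = (psRing R n).res (psC R n a)
        rw [← hei, AlgEquiv.symm_apply_apply, hei]
        exact (AlgHom.congr_fun hRS a).trans (AlgHom.congr_fun (res_comp_psC R n) a).symm
    choose l hl using fun j => hμ (φ.1 (e'.symm (psX R n j)))
    obtain ⟨G, hG, hGC, hGX⟩ := exists_psHom (R' := R) (n := n) (artCRing B) y.1 l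
      (fun j => (ArtFun.Art.res_app μ (l j)).symm.trans (by rw [hl]; exact (res_homSet_apply φ _).trans (heX j))) y.2
    have he's : ∀ z, e'.symm (e' z) = z := e'.symm_apply_apply
    have hψ : B.res.comp (G.comp e'.toAlgHom) = S.res := AlgHom.ext fun s =>
      (AlgHom.congr_fun hG (e' s)).trans ((AlgHom.congr_fun hres (e' s)).symm.trans (congrArg S.res (he's s)))
    refine ⟨⟨G.comp e'.toAlgHom, hψ⟩, homSet_ext fun s => ?_, homSet_ext fun a => ?_⟩
    · have hG' : (μ.toAlgHom.comp G) = φ.1.comp e'.symm.toAlgHom := by
        refine psHom_ext (T := artCRing A) (AlgHom.ext fun z => (ArtFun.Art.res_app μ _).trans (AlgHom.congr_fun hG z))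
          (AlgHom.ext fun a => ?_) (fun j => (congrArg μ (hGX j)).trans (hl j))
        show μ (G (psC R n a)) = φ.1 (e'.symm (psC R n a))
        rw [show G (psC R n a) = y.1 a from AlgHom.congr_fun hGC a, ← hei, he's]
        exact congrArg (fun ψ : ArtFun.HomSet R.carrier R.res A => ψ.1 a) hy
      exact (AlgHom.congr_fun hG' (e' s)).trans (congrArg φ.1 (he's s))
    · show G (e' (i a)) = y.1 a
      rw [hei]
      exact AlgHom.congr_fun hGC a

end Groth.Agent.S12718
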