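import Groth.Statements.S12735
import Groth.Agent.ArtF85.Hull

set_option autoImplicit false
universe u v
open CategoryTheory
open ArtFun

namespace Groth.Agent.S12735

/-- Let U be a prorepresentable functor on Artinian local Λ-algebras with residue field k and φ : U → U
an endomorphism of functors which is bijective on the tangent space U(k[ε]). Then φ is an
isomorphism: every component is bijective. -/
theorem result {Λ : Type u} {k : Type u} [CommRing Λ] [Field k] [Algebra Λ k]
    [IsNoetherianRing Λ] [Module.Finite Λ k]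
    {U : ArtFun.Art Λ k ⥤ Type v} (hU : ArtFun.IsProrepresentable U)
    (φ : U ⟶ U) (hd : Function.Bijective (ArtFun.TangentSpace.map φ)) (A : ArtFun.Art Λ k) :
    Function.Bijective (φ.app A) := by
  obtain ⟨P⟩ := hU
  have hv := ArtF85.isVersal_of_isUniversal P.universal
  have hl := ArtF85.isLeftExact_of_isUniversal P.universal
  have h0 := ArtF85.h0_of_isMiniversal (ArtF85.isMiniversal_of_isUniversal P.universal)
  obtain ⟨g, hg, hgξ⟩ := ArtF85.exists_along_toFormalElt_eq h0 P.family hv P.ring (P.family.push φ).toFormalElt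
  have hgξ := ArtF85.family_eq_of_toFormalElt_eq hgξ
  have hφ : ∀ C a, φ.app C (P.family.app C a) = (P.family.along g hg).app C a := fun C a =>
    (congrArg (fun η : ArtFun.Family P.ring.carrier P.ring.res U => η.app C a) hgξ).symm
  have hgs : Function.Surjective g := ArtF85.surjective_of_derivations g hg fun δ hδ a => by
    obtain ⟨r, rfl⟩ := ArtF85.truncHom_surjective P.ring 1 a
    have h2 : ArtFun.HomSet.map δ (P.ring.truncHom 1) =
        ArtFun.HomSet.map (ArtF85.zeroHom (ArtFun.Art.base Λ k)) (ArtF85.homSetBase P.ring.carrier P.ring.res) := by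
      refine (P.universal _).1 (hd.1 ?_)
      refine (hφ _ _).trans (((congrArg (P.family.app _) ?_)).trans (hφ _ _).symm)
      refine ArtF85.dual_homSet_ext fun x => ?_
      exact (hδ x).trans (ArtF85.eps_zeroHom _).symm
    exact (congrArg (fun t : ArtFun.HomSet P.ring.carrier P.ring.res (ArtFun.Art.dual Λ k) =>
      ArtF85.eps (t.1 r)) h2).trans (ArtF85.eps_zeroHom _)
  let e : P.ring.carrier ≃ₐ[Λ] P.ring.carrier :=
    AlgEquiv.ofBijective g ⟨ArtF85.injective_of_surjective_endo g.toRingHom hgs, hgs⟩
  refine ⟨fun x y h => ?_, fun y => ?_⟩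
  · obtain ⟨a, rfl⟩ := (P.universal A).2 x
    obtain ⟨b, rfl⟩ := (P.universal A).2 y
    rw [hφ, hφ] at h
    refine congrArg (P.family.app A) (ArtF85.homSet_ext fun r => ?_)
    obtain ⟨s, rfl⟩ := hgs r
    exact congrArg (fun t : ArtFun.HomSet P.ring.carrier P.ring.res A => t.1 s) ((P.universal A).1 h)
  · obtain ⟨b, rfl⟩ := (P.universal A).2 y
    let a : ArtFun.HomSet P.ring.carrier P.ring.res A := ⟨b.1.comp e.symm.toAlgHom, AlgHom.ext fun r =>
      (ArtF85.res_homSet_apply b (e.symm r)).trans
        ((AlgHom.congr_fun hg (e.symm r)).symm.trans (congrArg P.ring.res (e.apply_symm_apply r)))⟩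
    refine ⟨P.family.app A a, (hφ A a).trans (congrArg (P.family.app A) (ArtF85.homSet_ext fun r => ?_))⟩
    exact congrArg b.1 (e.symm_apply_apply r)

end Groth.Agent.S12735
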