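import Groth.Statements.S12746
import Groth.Agent.ArtF85.Torsor
import Groth.Agent.ArtF85.Limits

set_option autoImplicit false
universe u v
open CategoryTheory
open ArtFun

namespace Groth.Agent.S12746

/-- For functors, if F, G, H are functors on Artinian local Λ-algebras with residue field k satisfying
(RS) and f : H → F, g : G → F are morphisms, then the fibre product functor H ×_F G satisfies (RS). -/
theorem result {Λ : Type u} {k : Type u} [CommRing Λ] [Field k] [Algebra Λ k]
    [IsNoetherianRing Λ] [Module.Finite Λ k]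
    {F G H : ArtFun.Art Λ k ⥤ Type v} (f : H ⟶ F) (g : G ⟶ F)
    (hF : (∀ ⦃B A A' A'' : ArtFun.Art Λ k⦄ (p' : B ⟶ A') (p'' : B ⟶ A'') (f' : A' ⟶ A) (f'' : A'' ⟶ A)
        (h : ArtFun.Art.IsFibreProd p' p'' f' f''), Function.Surjective f'' → Function.Bijective (ArtFun.cmp F h))) (hG : (∀ ⦃B A A' A'' : ArtFun.Art Λ k⦄ (p' : B ⟶ A') (p'' : B ⟶ A'') (f' : A' ⟶ A) (f'' : A'' ⟶ A)
        (h : ArtFun.Art.IsFibreProd p' p'' f' f''), Function.Surjective f'' → Function.Bijective (ArtFun.cmp G h))) (hH : (∀ ⦃B A A' A'' : ArtFun.Art Λ k⦄ (p' : B ⟶ A') (p'' : B ⟶ A'') (f' : A' ⟶ A) (f'' : A'' ⟶ A)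
        (h : ArtFun.Art.IsFibreProd p' p'' f' f''), Function.Surjective f'' → Function.Bijective (ArtFun.cmp H h))) :
    (∀ ⦃B A A' A'' : ArtFun.Art Λ k⦄ (p' : B ⟶ A') (p'' : B ⟶ A'') (f' : A' ⟶ A) (f'' : A'' ⟶ A)
        (h : ArtFun.Art.IsFibreProd p' p'' f' f''), Function.Surjective f'' → Function.Bijective (ArtFun.cmp (CategoryTheory.Limits.pullback f g) h)) := by
  intro B A A' A'' p' p'' f' f'' h hf
  refine ⟨(ArtF85.injective_cmp_iff h).2 fun z w e₁ e₂ => ArtF85.pullback_ext f g B ?_ ?_,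
    (ArtF85.surjective_cmp_iff h).2 fun x' x'' e => ?_⟩
  · refine (ArtF85.injective_cmp_iff h).1 (hH p' p'' f' f'' h hf).1 _ _ ?_ ?_ <;>
      rw [← NatTrans.naturality_apply, ← NatTrans.naturality_apply] <;>
      first | rw [e₁] | rw [e₂]
  · refine (ArtF85.injective_cmp_iff h).1 (hG p' p'' f' f'' h hf).1 _ _ ?_ ?_ <;>
      rw [← NatTrans.naturality_apply, ← NatTrans.naturality_apply] <;>
      first | rw [e₁] | rw [e₂]
  · obtain ⟨a, ha', ha''⟩ := (ArtF85.surjective_cmp_iff h).1 (hH p' p'' f' f'' h hf).2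
      ((Limits.pullback.fst f g).app A' x') ((Limits.pullback.fst f g).app A'' x'')
      (by rw [← NatTrans.naturality_apply, ← NatTrans.naturality_apply, e])
    obtain ⟨b, hb', hb''⟩ := (ArtF85.surjective_cmp_iff h).1 (hG p' p'' f' f'' h hf).2
      ((Limits.pullback.snd f g).app A' x') ((Limits.pullback.snd f g).app A'' x'')
      (by rw [← NatTrans.naturality_apply, ← NatTrans.naturality_apply, e])
    have hab : f.app B a = g.app B b := by
      refine (ArtF85.injective_cmp_iff h).1 (hF p' p'' f' f'' h hf).1 _ _ ?_ ?_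
      · rw [← NatTrans.naturality_apply, ← NatTrans.naturality_apply, ha', hb', ArtF85.pullback_w_apply]
      · rw [← NatTrans.naturality_apply, ← NatTrans.naturality_apply, ha'', hb'', ArtF85.pullback_w_apply]
    obtain ⟨z, hz₁, hz₂⟩ := ArtF85.pullback_exists f g B a b hab
    refine ⟨z, ArtF85.pullback_ext f g A' ?_ ?_, ArtF85.pullback_ext f g A'' ?_ ?_⟩
    · rw [NatTrans.naturality_apply, hz₁, ha']
    · rw [NatTrans.naturality_apply, hz₂, hb']
    · rw [NatTrans.naturality_apply, hz₁, ha'']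
    · rw [NatTrans.naturality_apply, hz₂, hb'']

end Groth.Agent.S12746
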