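import Groth.Statements.S12747
import Groth.Agent.ArtF85.Torsor
import Groth.Agent.ArtF85.Limits

set_option autoImplicit false
universe u v
open CategoryTheory
open ArtFun

namespace Groth.Agent.S12747

/-- For functors, let H₁ → G, H₂ → G and q : G → F be morphisms of functors on Artinian local Λ-algebras
with residue field k where F and G are deformation functors (value at k a point, condition (RS)) and
q is injective on tangent spaces. Then the induced morphism H₁ ×_G H₂ → H₁ ×_F H₂ is smooth. (The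
published statement also assumes that infinitesimal automorphisms of G map onto those of F; for
functors that condition is empty.) -/
theorem result {Λ : Type u} {k : Type u} [CommRing Λ] [Field k] [Algebra Λ k]
    [IsNoetherianRing Λ] [Module.Finite Λ k]
    {F G H₁ H₂ : ArtFun.Art Λ k ⥤ Type v} (p₁ : H₁ ⟶ G) (p₂ : H₂ ⟶ G) (q : G ⟶ F)
    (hF0 : ArtFun.H0 F) (hF : (∀ ⦃B A A' A'' : ArtFun.Art Λ k⦄ (p' : B ⟶ A') (p'' : B ⟶ A'') (f' : A' ⟶ A) (f'' : A'' ⟶ A)
        (h : ArtFun.Art.IsFibreProd p' p'' f' f''), Function.Surjective f'' → Function.Bijective (ArtFun.cmp F h)))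
    (hG0 : ArtFun.H0 G) (hG : (∀ ⦃B A A' A'' : ArtFun.Art Λ k⦄ (p' : B ⟶ A') (p'' : B ⟶ A'') (f' : A' ⟶ A) (f'' : A'' ⟶ A)
        (h : ArtFun.Art.IsFibreProd p' p'' f' f''), Function.Surjective f'' → Function.Bijective (ArtFun.cmp G h)))
    (hq : Function.Injective (ArtFun.TangentSpace.map q)) :
    ArtFun.IsSmooth (CategoryTheory.Limits.pullback.map p₁ p₂ (p₁ ≫ q) (p₂ ≫ q) (𝟙 H₁) (𝟙 H₂) q
      (CategoryTheory.Category.id_comp _).symm (CategoryTheory.Category.id_comp _).symm) := by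
  rw [ArtF85.isSmooth_iff]
  intro B A μ hμ x y e
  have hinj : Function.Injective (q.app B) := ArtF85.injective_app_of_tangent q
    (fun _ _ _ _ p' p'' f' f'' h hs => (hG p' p'' f' f'' h hs.1).2)
    (fun _ _ p' p'' h => hG p' p'' _ _ h (ArtF85.surjective_toBase _))
    (fun _ _ _ p₁ p₂ f h hs => (hF p₁ p₂ f f h hs.1).1)
    (fun x y _ => @Subsingleton.elim _ hG0.2 x y) hq B
  have hw := ArtF85.pullback_w_apply (p₁ ≫ q) (p₂ ≫ q) B y
  obtain ⟨z, hz₁, hz₂⟩ := ArtF85.pullback_exists p₁ p₂ B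
    ((Limits.pullback.fst (p₁ ≫ q) (p₂ ≫ q)).app B y) ((Limits.pullback.snd (p₁ ≫ q) (p₂ ≫ q)).app B y)
    (hinj hw)
  set m := Limits.pullback.map p₁ p₂ (p₁ ≫ q) (p₂ ≫ q) (𝟙 H₁) (𝟙 H₂) q
      (CategoryTheory.Category.id_comp _).symm (CategoryTheory.Category.id_comp _).symm with hm
  have m₁ : m ≫ Limits.pullback.fst _ _ = Limits.pullback.fst _ _ :=
    (Limits.pullback.lift_fst _ _ _).trans (Category.comp_id _)
  have m₂ : m ≫ Limits.pullback.snd _ _ = Limits.pullback.snd _ _ :=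
    (Limits.pullback.lift_snd _ _ _).trans (Category.comp_id _)
  have n₁ : ∀ C w, (Limits.pullback.fst (p₁ ≫ q) (p₂ ≫ q)).app C (m.app C w) =
      (Limits.pullback.fst p₁ p₂).app C w := fun C w =>
    ConcreteCategory.congr_hom (congrArg (fun t : _ ⟶ H₁ => t.app C) m₁) w
  have n₂ : ∀ C w, (Limits.pullback.snd (p₁ ≫ q) (p₂ ≫ q)).app C (m.app C w) =
      (Limits.pullback.snd p₁ p₂).app C w := fun C w =>
    ConcreteCategory.congr_hom (congrArg (fun t : _ ⟶ H₂ => t.app C) m₂) w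
  refine ⟨z, ArtF85.pullback_ext p₁ p₂ A ?_ ?_, ArtF85.pullback_ext (p₁ ≫ q) (p₂ ≫ q) B ?_ ?_⟩
  · rw [← n₁ A x, e, NatTrans.naturality_apply, NatTrans.naturality_apply, hz₁]
  · rw [← n₂ A x, e, NatTrans.naturality_apply, NatTrans.naturality_apply, hz₂]
  · rw [n₁, hz₁]
  · rw [n₂, hz₂]

end Groth.Agent.S12747
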