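import Groth.Statements.S12748
import Groth.Agent.ArtF85.PowerSeries

set_option autoImplicit false
universe u v
open CategoryTheory
open ArtFun ArtFun.CRing

namespace Groth.Agent.S12748

/-- Let R' → R be a morphism of complete local Noetherian Λ-algebras with residue field k with an
R'-algebra retraction ρ : R → R', so that R = R' ⊕ I for the ideal I = ker ρ; let x₁, …, x_r ∈ I map
to a basis of I/m_R I and let φ : R'[[X₁, …, X_r]] → R be an R'-algebra map sending X_i to x_i. If
for all large n the induced map R'[[X]]/m^n → R/m_R^n has a left inverse — a Λ-algebra map g_n : R →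
R'[[X]]/m^n with g_n ∘ φ equal to the quotient map — then φ is an isomorphism. -/
theorem result {Λ : Type u} {k : Type u} [CommRing Λ] [Field k] [Algebra Λ k]
    [IsNoetherianRing Λ] [Module.Finite Λ k]
    (R' R : ArtFun.CRing Λ k) [Algebra R'.carrier R.carrier] [IsScalarTower Λ R'.carrier R.carrier]
    (hc : R.res.comp (IsScalarTower.toAlgHom Λ R'.carrier R.carrier) = R'.res)
    (ρ : R.carrier →ₐ[R'.carrier] R'.carrier)
    (r : ℕ) (x : Fin r → R.carrier) (hxI : ∀ i, ρ (x i) = 0)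
    (hspan : Ideal.span (Set.range x) ⊔ IsLocalRing.maximalIdeal R.carrier * RingHom.ker ρ = RingHom.ker ρ)
    (hli : ∀ c : Fin r → R.carrier, (∑ i, c i * x i) ∈ IsLocalRing.maximalIdeal R.carrier * RingHom.ker ρ →
      ∀ i, c i ∈ IsLocalRing.maximalIdeal R.carrier)
    (φ : MvPowerSeries (Fin r) R'.carrier →ₐ[R'.carrier] R.carrier) (hφ : ∀ i, φ (MvPowerSeries.X i) = x i)
    (hinv : ∃ N : ℕ, ∀ n, N ≤ n →
      ∃ g : R.carrier →ₐ[Λ] (MvPowerSeries (Fin r) R'.carrier ⧸
          IsLocalRing.maximalIdeal (MvPowerSeries (Fin r) R'.carrier) ^ n),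
        ∀ s, g (φ s) = Ideal.Quotient.mk _ s) :
    Function.Bijective φ := by
  classical
  obtain ⟨N, hN⟩ := hinv
  haveI := ArtF85.isAdicComplete_ps R' r
  haveI := R.isAdicComplete
  have hinj : Function.Injective φ := (injective_iff_map_eq_zero φ).2 fun s hs => by
    refine CAlg1.eq_zero_of_forall_mem (IsLocalRing.maximalIdeal (MvPowerSeries (Fin r) R'.carrier)) fun n => ?_
    obtain ⟨g, hg⟩ := hN (max N n) (le_max_left _ _)
    have h1 := hg s
    rw [hs, map_zero, eq_comm, Ideal.Quotient.eq_zero_iff_mem] at h1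
    exact Ideal.pow_le_pow_right (le_max_right N n) h1
  refine ⟨hinj, fun a => ?_⟩
  have hlocal : ∀ s ∈ IsLocalRing.maximalIdeal (MvPowerSeries (Fin r) R'.carrier),
      φ s ∈ IsLocalRing.maximalIdeal R.carrier := fun s hs hu => by
    obtain ⟨g, hg⟩ := hN (N + 1) (Nat.le_succ N)
    have h1 : IsUnit (g (φ s)) := hu.map g
    rw [hg] at h1
    haveI : Nontrivial (MvPowerSeries (Fin r) R'.carrier ⧸
        IsLocalRing.maximalIdeal (MvPowerSeries (Fin r) R'.carrier) ^ (N + 1)) :=
      Ideal.Quotient.nontrivial_iff.2 fun h => (IsLocalRing.maximalIdeal.isMaximal _).ne_top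
        (top_le_iff.1 (h ▸ Ideal.pow_le_self (Nat.succ_ne_zero N) :))
    have h2 := h1.pow (N + 1)
    rw [← map_pow, Ideal.Quotient.eq_zero_iff_mem.2 (Ideal.pow_mem_pow hs _)] at h2
    exact not_isUnit_zero h2
  set V : Ideal (MvPowerSeries (Fin r) R'.carrier) := ArtF85.varIdeal R' r
  have hX : ∀ i, x i ∈ V.map φ := fun i => hφ i ▸ Ideal.mem_map_of_mem φ (Ideal.subset_span ⟨i, rfl⟩)
  have hI : RingHom.ker ρ ≤ V.map φ := by
    have h1 : RingHom.ker ρ ≤ Ideal.span (Set.range x) := by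
      refine Submodule.le_of_le_smul_of_le_jacobson_bot (IsNoetherian.noetherian _)
        (IsLocalRing.maximalIdeal_le_jacobson _) ?_
      rw [smul_eq_mul]
      exact hspan.ge
    refine h1.trans (Ideal.span_le.2 ?_)
    rintro _ ⟨i, rfl⟩
    exact hX i
  have hdec : ∀ c, c - φ (MvPowerSeries.C (ρ c)) ∈ V.map φ := fun c => by
    refine hI (RingHom.mem_ker.2 ?_)
    have e : φ (MvPowerSeries.C (ρ c)) = algebraMap R'.carrier R.carrier (ρ c) := φ.commutes (ρ c)
    rw [map_sub, e, AlgHom.commutes, Algebra.algebraMap_self_apply, sub_self]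
  have hstep : ∀ j, ∀ z ∈ (V ^ j).map φ, ∃ v ∈ V ^ j, z - φ v ∈ (V ^ (j + 1)).map φ := fun j z hz => by
    induction hz using Submodule.span_induction with
    | mem y hy =>
      obtain ⟨v, hv, rfl⟩ := hy
      exact ⟨v, hv, by rw [sub_self]; exact Ideal.zero_mem _⟩
    | zero => exact ⟨0, Ideal.zero_mem _, by rw [map_zero, sub_self]; exact Ideal.zero_mem _⟩
    | add y z _ _ hy hz =>
      obtain ⟨v, hv, hv'⟩ := hy
      obtain ⟨w, hw, hw'⟩ := hz
      exact ⟨v + w, Ideal.add_mem _ hv hw, by rw [map_add, add_sub_add_comm]; exact Ideal.add_mem _ hv' hw'⟩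
    | smul c y _ hy =>
      obtain ⟨v, hv, hv'⟩ := hy
      refine ⟨MvPowerSeries.C (ρ c) * v, Ideal.mul_mem_left _ _ hv, ?_⟩
      have e : c • y - φ (MvPowerSeries.C (ρ c) * v) = c * (y - φ v) + (c - φ (MvPowerSeries.C (ρ c))) * φ v := by
        rw [map_mul, smul_eq_mul]; ring
      rw [e]
      refine Ideal.add_mem _ (Ideal.mul_mem_left _ _ hv') ?_
      rw [pow_succ', Ideal.map_mul]
      exact Ideal.mul_mem_mul (hdec c) (Ideal.mem_map_of_mem φ hv)
  choose v hv hv' using fun j z => hstep j z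
  let st : (j : ℕ) → {s : MvPowerSeries (Fin r) R'.carrier // a - φ s ∈ (V ^ j).map φ} := fun j =>
    Nat.rec ⟨0, by simp [Ideal.one_eq_top, Ideal.map_top]⟩
      (fun j s => ⟨s.1 + v j _ s.2, by rw [map_add, ← sub_sub]; exact hv' j _ s.2⟩) j
  obtain ⟨L, hL⟩ := CAlg1.exists_limit V (fun j => (st j).1) fun j => by
    change (st j).1 + v j _ (st j).2 - (st j).1 ∈ V ^ j
    rw [add_sub_cancel_left]
    exact hv j _ (st j).2
  refine ⟨L, (sub_eq_zero.1 (CAlg1.eq_zero_of_forall_mem (IsLocalRing.maximalIdeal R.carrier) fun j => ?_)).symm⟩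
  have hVm : V.map φ ≤ IsLocalRing.maximalIdeal R.carrier := by
    rw [Ideal.map_le_iff_le_comap]
    intro s hs
    refine hlocal s (ArtF85.ps_mem_maximalIdeal_iff.2 ?_)
    rw [ArtF85.mem_varIdeal_iff.1 hs, map_zero]
  have h1 : a - φ L ∈ (V ^ j).map φ := by
    have e : a - φ L = (a - φ (st j).1) - φ (L - (st j).1) := by rw [map_sub]; ring
    rw [e]
    exact Ideal.sub_mem _ (st j).2 (Ideal.mem_map_of_mem φ (hL j))
  rw [Ideal.map_pow] at h1
  exact Ideal.pow_right_mono hVm j h1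

end Groth.Agent.S12748
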