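import Groth.Statements.S1276
import Groth.Agent.S6284
import Mathlib.RingTheory.Finiteness.Ideal
import Mathlib.RingTheory.Support

set_option autoImplicit false
universe u
open FlatMor

namespace Groth.Agent.S1276

/-- Let B be a finite type A-algebra, N a finite B-module and p a prime of A. Then there is a finitely
generated ideal J of B annihilating N (so N is a module on the finitely presented closed subscheme
V(J) of Spec B) such that a point of the fibre Spec(κ(p) ⊗ B) lies in V(J) if and only if it lies in
the support of the fibre module of N. -/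
theorem result {A B : Type u} [CommRing A] [CommRing B] [Algebra A B] [Algebra.FiniteType A B]
    (N : Type u) [AddCommGroup N] [Module B N] [Module A N] [IsScalarTower A B N] [Module.Finite B N] (p : Ideal A) [p.IsPrime] :
    ∃ J : Ideal B, J.FG ∧ J ≤ Module.annihilator B N ∧
      ∀ x : PrimeSpectrum (p.Fiber B), FlatCA.fiberIdeal p J ≤ x.asIdeal ↔ x ∈ Module.support (p.Fiber B) (FlatCA.fiberMod p B N) := by
  classical
  let ι := (Algebra.TensorProduct.includeRight (R := A) (A := p.ResidueField) (B := B)).toRingHom
  let inst : Algebra B (p.Fiber B) := ι.toAlgebra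
  have hfg : (Ideal.map ι (Module.annihilator B N)).FG := by
    have : IsNoetherianRing (p.Fiber B) := Algebra.FiniteType.isNoetherianRing p.ResidueField _
    exact IsNoetherian.noetherian _
  obtain ⟨s, hs⟩ := hfg
  have hex : ∀ z ∈ s, ∃ T : Finset B, ↑T ⊆ (Module.annihilator B N : Set B) ∧
      z ∈ (Ideal.span (T : Set B)).map ι := by
    intro z hz
    have hz' : z ∈ Submodule.span (p.Fiber B) (ι '' (Module.annihilator B N : Set B)) := by
      show z ∈ Ideal.map ι (Module.annihilator B N)
      rw [← hs]
      exact Submodule.subset_span hz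
    obtain ⟨T, hT, hzT⟩ := Submodule.mem_span_finite_of_mem_span hz'
    obtain ⟨T', hT', rfl⟩ := Finset.subset_set_image_iff.mp hT
    refine ⟨T', hT', ?_⟩
    rw [Ideal.map_span, ← Finset.coe_image]
    exact hzT
  choose! T hT hzT using hex
  refine ⟨Ideal.span ((s.biUnion T : Finset B) : Set B), ⟨_, rfl⟩, ?_, fun x => ?_⟩
  · rw [Ideal.span_le]
    intro b hb
    obtain ⟨z, hz, hbz⟩ := Finset.mem_biUnion.mp hb
    exact hT z hz hbz
  have hmap : FlatCA.fiberIdeal p (Ideal.span ((s.biUnion T : Finset B) : Set B)) =
      Ideal.map ι (Module.annihilator B N) := by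
    refine le_antisymm (Ideal.map_mono ?_) ?_
    · rw [Ideal.span_le]
      intro b hb
      obtain ⟨z, hz, hbz⟩ := Finset.mem_biUnion.mp hb
      exact hT z hz hbz
    · rw [← hs]
      refine Submodule.span_le.mpr fun z hz => ?_
      refine Ideal.map_mono (Ideal.span_mono ?_) (hzT z hz)
      intro b hb
      exact Finset.mem_biUnion.mpr ⟨z, hz, hb⟩
  rw [hmap, Ideal.map_le_iff_le_comap]
  have h := Groth.Agent.S6284.result (R := B) (R' := p.Fiber B) N
  rw [Module.support_eq_zeroLocus (R := B) (M := N)] at h
  exact (Set.ext_iff.mp h x).symm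

end Groth.Agent.S1276
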