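import Groth.Statements.S12773
import Groth.Agent.AlgSt88.StackRep
import Groth.Agent.AlgSt88.DiagDescent
import Groth.Agent.SpFP87.FpqcMono

set_option autoImplicit false
set_option backward.isDefEq.respectTransparency false
set_option backward.isDefEq.respectTransparency.types false
open CategoryTheory AlgebraicGeometry
universe u
open AlgSt

namespace Groth.Agent.S12773

/-- Let `f : 𝒳 ⟶ 𝒴` be a 1-morphism of algebraic stacks over `S`, `V` a scheme over `S` and `y : (Sch/V)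
⟶ 𝒴` surjective and smooth. Then there are a scheme `U` over `S`, a morphism `a : U ⟶ V` and a
surjective smooth `x : (Sch/U) ⟶ 𝒳` such that the square 2-commutes: `f ∘ x ≅ y ∘ a`. -/
theorem result {S : Scheme.{u}} {𝒳 𝒴 : AlgSt.Cat S}
    (h𝒳 : AlgSt.IsAlgStack Scheme.fppfPrecoverage 𝒳) (h𝒴 : AlgSt.IsAlgStack Scheme.fppfPrecoverage 𝒴)
    (f : 𝒳 ⥤ᵇ 𝒴) (V : Over S) (y : FibCat.overCat V ⥤ᵇ 𝒴)
    (hy : AlgSt.RepByAlgSpWith (AlgSp.LocP @Smooth) y) (hy' : AlgSt.RepByAlgSpWith AlgSp.IsSurjectiveMor y) :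
    ∃ (U : Over S) (a : U ⟶ V) (x : FibCat.overCat U ⥤ᵇ 𝒳),
      AlgSt.RepByAlgSpWith (AlgSp.LocP @Smooth) x ∧ AlgSt.RepByAlgSpWith AlgSp.IsSurjectiveMor x ∧
        Nonempty (BasedFunctor.comp x f ≅ BasedFunctor.comp (AlgSt.overMap a) y) := by
  let y' := BasedFunctor.comp (AlgSt.toOverCat V) y
  obtain ⟨U, l, hl, hl'⟩ := Groth.Agent.AlgSt88.exists_lift_chart h𝒳 h𝒴 f (V := ⟨_, AlgSp.IsAlgSpace.yon_obj V⟩) y'
  obtain ⟨a, ⟨ι⟩⟩ := Groth.Agent.AlgSt88.exists_overMap_iso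
    (BasedFunctor.comp (AlgSt.ofOverCat U) (BasedFunctor.comp (BasedFunctor.comp l (FibCat.fpSnd f y')) (AlgSt.toOverCat V)))
  have hC := Groth.Agent.AlgSt88.isFibGrpd_fp h𝒳.isStack.1 (Stk.isFibGrpd_ofPsh ((AlgSp.yon S).obj V).obj) h𝒴.isStack.1 f y'
  refine ⟨U, a, BasedFunctor.comp (AlgSt.ofOverCat U) (BasedFunctor.comp l (FibCat.fpFst f y')), ?_, ?_, ⟨?_⟩⟩
  · exact (Groth.Agent.AlgSt88.repByAlgSpWith_precomp_equiv (Groth.Agent.AlgSt88.isEquivOver_ofOverCat U)).2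
      (Groth.Agent.AlgSt88.sm_comp (Stk.isFibGrpd_ofPsh _) hC hl (Groth.Agent.AlgSt88.repByAlgSpWith_fpFst f
        ((Groth.Agent.AlgSt88.repByAlgSpWith_precomp_equiv (Groth.Agent.AlgSt88.isEquivOver_toOverCat V)).2 hy)))
  · exact (Groth.Agent.AlgSt88.repByAlgSpWith_precomp_equiv (Groth.Agent.AlgSt88.isEquivOver_ofOverCat U)).2
      (Groth.Agent.AlgSt88.repByAlgSpWith_surj_comp (Stk.isFibGrpd_ofPsh _) hC hl' (Groth.Agent.AlgSt88.repByAlgSpWith_fpFst f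
        ((Groth.Agent.AlgSt88.repByAlgSpWith_precomp_equiv (Groth.Agent.AlgSt88.isEquivOver_toOverCat V)).2 hy')))
  · exact Groth.Agent.AlgSt88.bLeft (AlgSt.ofOverCat U) (Groth.Agent.AlgSt88.bLeft l (FibCat.fpIso f y')) ≪≫ Groth.Agent.AlgSt88.bRight ι y

end Groth.Agent.S12773
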