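import Groth.Statements.S12783
import Groth.Agent.Fib44.Repr2
-- import your own Groth.Agent.* helpers here

set_option autoImplicit false
open CategoryTheory CategoryTheory.Limits
universe v u
open FibCat

namespace Groth.Agent.S12783

set_option backward.isDefEq.respectTransparency false
set_option backward.isDefEq.respectTransparency.types false

/-- For a morphism `f : X ⟶ Y` in a category `C` with fibre products, the induced functor `C/X ⟶ C/Y`
over `C` is a representable 1-morphism. (The published statement is for schemes over a base; this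
row holds in any category with fibre products.) -/
theorem result {C : Type u} [Category.{v} C] [HasPullbacks C] {X Y : C} (f : X ⟶ Y) :
    FibCat.IsRepresentable1 (⟨Over.map f, Over.mapForget_eq f⟩ : FibCat.overCat X ⥤ᵇ FibCat.overCat Y) := by
  intro U G
  let g : U ⟶ Y := Fib44.overClass G
  let pa : (FibCat.overCat U).obj := (Over.mk (pullback.fst g f) : Over U)
  let pb : (FibCat.overCat X).obj := (Over.mk (pullback.snd g f) : Over X)
  let F : FibCat.overCat X ⥤ᵇ FibCat.overCat Y := ⟨Over.map f, Over.mapForget_eq f⟩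
  have hab : eqToHom (G.w_obj pa) ≫ pullback.snd g f ≫ f = (show Over Y from G.obj pa).hom := by
    rw [← pullback.condition]
    exact (Fib44.overClass_hom G pa).symm
  let ξ : (FibCat.fp G F).obj := Fib44.fpMk pa pb
    (Over.isoMk (eqToIso (G.w_obj pa)) hab : (show Over Y from G.obj pa) ≅ (show Over Y from F.obj pb))
    (IsHomLift.of_fac' _ _ _ (G.w_obj pa) rfl
      (show eqToHom (G.w_obj pa) = _ by simp))
  have hgrp := Fib44.isFibGrpd_fp (F := G) (G := F) (Fib44.overForget_isFibGrpd U)
    (Fib44.overForget_isFibGrpd X) (Fib44.overForget_isFibGrpd Y)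
  refine Fib44.isRepresentable_of_terminal hgrp ξ fun ρ => ?_
  have hι : (FibCat.overCat Y).p.IsHomLift (𝟙 ((FibCat.fp G F).p.obj ρ)) ρ.obj.iso.hom := ρ.property
  have eι := Fib44.over_hom_left (𝟙 ((FibCat.fp G F).p.obj ρ)) ρ.obj.iso.hom
  have hx : (show Over X from ρ.obj.snd).left = (show Over U from ρ.obj.fst).left := Fib44.fp_proj_snd ρ
  have hc : (show Over U from ρ.obj.fst).hom ≫ g =
      (eqToHom hx.symm ≫ (show Over X from ρ.obj.snd).hom) ≫ f := by
    have h := Over.w ρ.obj.iso.hom
    rw [eι, Fib44.overClass_hom G ρ.obj.fst] at h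
    rw [← cancel_epi (eqToHom (G.w_obj ρ.obj.fst))]
    refine Eq.trans ?_ (Eq.trans h.symm ?_)
    · rfl
    · simp
  let l : (show Over U from ρ.obj.fst).left ⟶ pullback g f := pullback.lift _ _ hc
  let α : ρ.obj.fst ⟶ pa := (Over.homMk l (pullback.lift_fst _ _ _) :
    (show Over U from ρ.obj.fst) ⟶ Over.mk (pullback.fst g f))
  let β : ρ.obj.snd ⟶ pb := (Over.homMk (eqToHom hx ≫ l) (by simp [l]) :
    (show Over X from ρ.obj.snd) ⟶ Over.mk (pullback.snd g f))
  have hw : G.map α ≫ ξ.obj.iso.hom = ρ.obj.iso.hom ≫ F.map β := by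
    apply Over.OverMorphism.ext
    change Over.Hom.left (G.map α) ≫ eqToHom (G.w_obj pa) = Over.Hom.left ρ.obj.iso.hom ≫ eqToHom hx ≫ l
    have eG : Over.Hom.left (G.map α) = _ := Fib44.based_map G α
    rw [eG, eι]
    simp [α, l]
    rfl
  refine ⟨{ default := Fib44.fpHom α β hw, uniq := fun τ => ?_ }⟩
  have h2 := Fib44.fp_isHomLift_snd ((FibCat.fp G F).p.map τ) τ
  have e2 : Over.Hom.left τ.hom.snd = eqToHom hx ≫ Over.Hom.left τ.hom.fst := by
    rw [Fib44.over_hom_left ((FibCat.fp G F).p.map τ) τ.hom.snd]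
    simp
    rfl
  have e1 : Over.Hom.left τ.hom.fst = l := by
    apply pullback.hom_ext
    · exact (Over.w τ.hom.fst).trans (pullback.lift_fst _ _ _).symm
    · rw [pullback.lift_snd, ← Over.w τ.hom.snd]
      change _ = eqToHom _ ≫ Over.Hom.left τ.hom.snd ≫ pullback.snd g f
      rw [e2]
      simp
  exact Fib44.fp_hom_ext (Over.OverMorphism.ext e1) (Over.OverMorphism.ext (e2.trans (by rw [e1]; rfl)))

end Groth.Agent.S12783
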