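import Groth.Statements.S12791
import Groth.Agent.AlgSt88.RepCrit

set_option autoImplicit false
open CategoryTheory AlgebraicGeometry
universe u
open AlgSt

namespace Groth.Agent.S12791

/-- (2) ⇔ (3): for an algebraic stack `𝒳` over `S`, the canonical 1-morphism `I_𝒳 ⟶ 𝒳` from the inertia
is an equivalence over `(Sch/S)` if and only if `𝒳` is representable by an algebraic space. -/
theorem result {S : Scheme.{u}} {𝒳 : AlgSt.Cat S}
    (h𝒳 : AlgSt.IsAlgStack Scheme.fppfPrecoverage 𝒳) :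
    FibCat.IsEquivOver (FibCat.inertiaToBase (FibCat.toSelf 𝒳)) ↔ AlgSt.RepByAlgSp 𝒳 := by
  constructor
  · intro h
    refine Groth.Agent.AlgSt88.repByAlgSp_of_setoid_chart h𝒳.isStack (fun {x y} φ φ' e => ?_) h𝒳.atlas
    obtain ⟨χ, h1, h2⟩ := Groth.Agent.AlgSt88.fg_exists_fac h𝒳.isStack.1 φ' φ (𝟙 _) ((Category.id_comp _).trans e.symm)
    haveI : IsIso (𝒳.p.map χ) := by rw [h1]; infer_instance
    haveI := Groth.Agent.AlgSt88.fg_isIso_of_isIso_map h𝒳.isStack.1 χ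
    let o : FibCat.InertiaObj (FibCat.toSelf 𝒳) := ⟨x, asIso χ, h1⟩
    obtain ⟨g, hg⟩ := (Groth.Agent.AlgSt88.isEquivData_of_isEquivOver h).full
      (x := (FibCat.inertiaNeutral (FibCat.toSelf 𝒳)).obj x) (x' := o) (𝟙 x)
    have h3 : 𝟙 x ≫ g.hom = g.hom ≫ χ := g.comm
    rw [show g.hom = 𝟙 x from hg] at h3
    have h4 : χ = 𝟙 x := ((Category.id_comp χ).symm.trans h3.symm).trans (Category.id_comp _)
    rw [← h2, h4, Category.id_comp]
  · intro h
    have hα : ∀ x : FibCat.InertiaObj (FibCat.toSelf 𝒳), x.aut.hom = 𝟙 x.pt := fun x =>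
      Groth.Agent.AlgSt88.hom_ext_of_repByAlgSp h (x.map_aut.trans (𝒳.p.map_id _).symm)
    refine Groth.Agent.AlgSt88.IsEquivData.isEquivOver ⟨fun a b e => FibCat.InertiaObj.hom_ext e, fun {x y} g => ?_,
      fun x => ⟨(FibCat.inertiaNeutral (FibCat.toSelf 𝒳)).obj x, Iso.refl _, IsHomLift.id rfl⟩⟩
    refine ⟨⟨g, ?_⟩, rfl⟩
    rw [hα x, hα y]
    exact (Category.id_comp _).trans (Category.comp_id _).symm

end Groth.Agent.S12791
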