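import Groth.Statements.S12802
import Groth.Agent.Fib44.Site
-- import your own Groth.Agent.* helpers here

set_option autoImplicit false
open CategoryTheory
universe v u
open Stk

namespace Groth.Agent.S12802

set_option backward.isDefEq.respectTransparency false in
set_option backward.isDefEq.respectTransparency.types false in

/-- Let `F : 𝒳 ⟶ 𝒴` be a functor over `C` between categories fibred in groupoids over `C` and endow `𝒳`
and `𝒴` with the topologies inherited from the topology `J` on `C` (generated by the sieves whose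
image in `C` covers). Then `F` maps covering sieves to families generating covering sieves, lifts
coverings (it is cocontinuous), and precomposition with `F` sends sheaves of types on `𝒴` to sheaves
on `𝒳` (it is continuous). (The published statement is for a 1-morphism of fibred categories with
the inherited topologies; this row is the case of categories fibred in groupoids, and the published
statement phrases continuity through the fibre products of covering families and deduces a morphism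
of topoi whose inverse image is precomposition with `F`, which is not stated here.) -/
theorem result {C : Type u} [Category.{v} C] (J : GrothendieckTopology C) {𝒳 𝒴 : BasedCategory.{v, max u v} C}
    (h𝒳 : FibCat.IsFibGrpd 𝒳.p) (h𝒴 : FibCat.IsFibGrpd 𝒴.p) (F : 𝒳 ⥤ᵇ 𝒴) :
    CoverPreserving (𝒳.p.restrictedTopology J) (𝒴.p.restrictedTopology J) F.toFunctor ∧
      F.toFunctor.IsCocontinuous (𝒳.p.restrictedTopology J) (𝒴.p.restrictedTopology J) ∧
      F.toFunctor.IsContinuous (𝒳.p.restrictedTopology J) (𝒴.p.restrictedTopology J) := by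
  have hP : CoverPreserving (𝒳.p.restrictedTopology J) (𝒴.p.restrictedTopology J) F.toFunctor := by
    refine ⟨fun {x S} hS => ?_⟩
    rw [Fib44.mem_restricted_iff h𝒳] at hS
    rw [Fib44.mem_restricted_iff h𝒴]
    refine J.superset_covering ?_ (J.pullback_stable (eqToHom (F.w_obj x)) hS)
    intro V g hg
    obtain ⟨w, ψ, hw, rfl⟩ := Fib44.exists_lift_arrow h𝒴 g
    rw [Fib44.push_arrows_iff h𝒴 _ _ hw, Fib44.push_comp_based F h𝒳 h𝒴]
    have := Sieve.downward_closed _ hg (eqToHom hw)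
    simpa using this
  refine ⟨hP, ⟨fun {x T} hT => ?_⟩, ?_⟩
  · rw [Fib44.mem_restricted_iff h𝒴] at hT
    rw [Fib44.mem_restricted_iff h𝒳]
    refine J.superset_covering ?_ (J.pullback_stable (eqToHom (F.w_obj x).symm) hT)
    intro V g hg
    obtain ⟨z, φ, hz, rfl⟩ := Fib44.exists_lift_arrow h𝒳 g
    rw [Fib44.push_arrows_iff h𝒳 _ _ hz, Fib44.pull_comp_based F h𝒴]
    have := Sieve.downward_closed _ hg (eqToHom hz)
    simpa using this
  · refine Functor.isContinuous_of_coverPreserving ⟨?_⟩ hP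
    intro G x T s hs y₁ y₂ w f₁ f₂ g₁ g₂ hg₁ hg₂ e
    have key : ∀ {y : 𝒳.obj} (f : w ⟶ F.obj y), ∃ (z : 𝒳.obj) (θ : z ⟶ y)
        (i : w ⟶ F.obj z) (_ : 𝒴.p.IsHomLift (𝟙 (𝒴.p.obj w)) i) (h : 𝒳.p.obj z = 𝒴.p.obj w),
        i ≫ F.map θ = f ∧
          𝒳.p.map θ = eqToHom h ≫ 𝒴.p.map f ≫ eqToHom (F.w_obj y) := by
      intro y f
      obtain ⟨z, θ, hz, e'⟩ := Fib44.exists_lift_arrow h𝒳 (𝒴.p.map f ≫ eqToHom (F.w_obj y))
      obtain ⟨i, -, hi, hie⟩ := Fib44.exists_iso_of_map_eq h𝒴 f (F.map θ)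
        ((F.w_obj z).trans hz).symm (by
          rw [← cancel_mono (eqToHom (F.w_obj y)), e', Fib44.based_map F θ]; simp)
      exact ⟨z, θ, i, Fib44.lift_id_of_eq _ ((F.w_obj z).trans hz) hi, hz, hie, by simp [e']⟩
    obtain ⟨z₁, θ₁, i₁, hi₁, hz₁, he₁, hp₁⟩ := key f₁
    obtain ⟨z₂, θ₂, i₂, hi₂, hz₂, he₂, hp₂⟩ := key f₂
    have hm : 𝒴.p.map f₁ ≫ eqToHom (F.w_obj y₁) ≫ 𝒳.p.map g₁ =
        𝒴.p.map f₂ ≫ eqToHom (F.w_obj y₂) ≫ 𝒳.p.map g₂ := by
      have := congrArg (fun t => 𝒴.p.map t ≫ eqToHom (F.w_obj x)) e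
      simpa [Fib44.based_map F] using this
    obtain ⟨ι, -, hι, hιe⟩ := Fib44.exists_iso_of_map_eq h𝒳 (θ₁ ≫ g₁) (θ₂ ≫ g₂)
      (hz₁.trans hz₂.symm) (by simp [hp₁, hp₂, hm])
    have hi : i₁ ≫ F.map ι = i₂ := by
      have hsc := h𝒴.isStronglyCartesian (F.map (θ₂ ≫ g₂))
      refine Fib44.sc_hom_ext 𝒴.p (F.map (θ₂ ≫ g₂)) hsc ?_ ?_
      · have := Fib44.lift_id_of_eq 𝒳.p hz₂ hι
        exact Fib44.map_eq_map_of_isHomLift 𝒴.p (𝟙 (𝒴.p.obj w) ≫ 𝟙 (𝒴.p.obj w)) _ _
      · rw [Category.assoc, ← Functor.map_comp, hιe, Functor.map_comp, Functor.map_comp,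
          ← Category.assoc, he₁, ← Category.assoc, he₂, e]
    have hs' := hs (ι ≫ θ₂) θ₁ hg₂ hg₁ (by rw [Category.assoc]; exact hιe)
    rw [← he₁, ← he₂, ← hi]
    simp only [Functor.comp_map, Functor.op_map, Quiver.Hom.unop_op] at hs'
    simp only [Functor.map_comp, op_comp, types_comp_apply] at hs' ⊢
    rw [hs']

end Groth.Agent.S12802
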