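import Groth.Statements.S12803
import Groth.Agent.Fib44.Site
-- import your own Groth.Agent.* helpers here

set_option autoImplicit false
open CategoryTheory
universe v₂ u₂ v u
open Stk

namespace Groth.Agent.S12803

set_option backward.isDefEq.respectTransparency false in
set_option backward.isDefEq.respectTransparency.types false in

/-- Let `p : 𝒳 ⥤ C` make `𝒳` fibred in groupoids over `C`, let `J` be a topology on `C` and `x` an
object of `𝒳`. The functor `𝒳/x ⥤ C/p(x)` induced by `p` is an equivalence of categories, and it
identifies the localisation at `x` of the topology on `𝒳` inherited from `J` with the localisation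
of `J` at `p x`: a sieve on an object of `𝒳/x` covers if and only if its image covers. -/
theorem result {C : Type u} [Category.{v} C] {𝒳 : Type u₂} [Category.{v₂} 𝒳] (p : 𝒳 ⥤ C)
    (hp : FibCat.IsFibGrpd p) (J : GrothendieckTopology C) (x : 𝒳) :
    (Over.post p : Over x ⥤ Over (p.obj x)).IsEquivalence ∧
      ∀ (a : Over x) (S : Sieve a), S ∈ (p.restrictedTopology J).over x a ↔
        S.functorPushforward (Over.post p) ∈ (J.over (p.obj x)) ((Over.post p).obj a) := by
  refine ⟨?_, fun a S => ?_⟩
  · refine { faithful := ⟨fun {a b f g} h => ?_⟩, full := ⟨fun {a b} g => ?_⟩, essSurj := ⟨fun b => ?_⟩ }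
    · have h1 : p.map f.left = p.map g.left := congrArg CommaMorphism.left h
      exact Over.OverMorphism.ext
        (Fib44.sc_hom_ext p b.hom (hp.isStronglyCartesian _) h1 (by simp))
    · obtain ⟨f, hf, hfe⟩ := ((Fib44.isSC_iff p b.hom).mp (hp.isStronglyCartesian _) g.left a.hom
        (Over.w g).symm).exists
      exact ⟨Over.homMk f hfe, Over.OverMorphism.ext hf⟩
    · obtain ⟨y, φ, hy, e⟩ := Fib44.exists_lift_arrow hp b.hom
      exact ⟨Over.mk φ, ⟨Over.isoMk (eqToIso hy) (by simp [e]; rfl)⟩⟩
  · rw [GrothendieckTopology.mem_over_iff, GrothendieckTopology.mem_over_iff,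
      Fib44.mem_restricted_iff hp]
    simp only [Sieve.overEquiv, RelIso.coe_fn_mk, Equiv.coe_fn_mk, ← Sieve.functorPushforward_comp]
    rfl

end Groth.Agent.S12803
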