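import Groth.Statements.S12804
import Groth.Agent.Fib44.StackBase
-- import your own Groth.Agent.* helpers here

set_option autoImplicit false
open CategoryTheory
universe v u
open Stk

namespace Groth.Agent.S12804

set_option backward.isDefEq.respectTransparency false in
set_option backward.isDefEq.respectTransparency.types false in

/-- Let `𝒳`, `𝒴` be stacks in groupoids over `C` for the topology `J` and `F : 𝒳 ⟶ 𝒴` a functor over `C`
whose underlying functor makes `𝒳` fibred in groupoids over `𝒴`. Then `𝒳`, as a category over `𝒴`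
through `F`, is a stack in groupoids for the topology on `𝒴` inherited from `J`. -/
theorem result {C : Type u} [Category.{v} C] (J : GrothendieckTopology C) {𝒳 𝒴 : BasedCategory.{v, max u v} C}
    (h𝒳 : Stk.IsStack J 𝒳) (h𝒴 : Stk.IsStack J 𝒴) (F : 𝒳 ⥤ᵇ 𝒴) (hF : FibCat.IsFibGrpd F.toFunctor) :
    Stk.IsStack (𝒴.p.restrictedTopology J) (BasedCategory.ofFunctor F.toFunctor) := by
  refine Fib44.isStack_iff.mpr ⟨hF, fun y S hS => ?_⟩
  rw [Fib44.mem_restricted_iff h𝒴.1] at hS
  have hX := (Fib44.isStack_iff.mp h𝒳).2 _ hS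
  have hY := (Fib44.isStack_iff.mp h𝒴).2 _ hS
  exact ⟨Fib44.morGlue_over_base F h𝒳.1 h𝒴.1 S hX.1 hY.1,
    Fib44.objGlue_over_base F hF h𝒴.1 S hX.2 hY.1⟩

end Groth.Agent.S12804
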