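import Groth.Statements.S12806
import Groth.Agent.Fib44.Comp
import Groth.Agent.Fib44.Fp2
-- import your own Groth.Agent.* helpers here

set_option autoImplicit false
open CategoryTheory
universe v u
open FibCat

namespace Groth.Agent.S12806

set_option backward.isDefEq.respectTransparency false in
set_option backward.isDefEq.respectTransparency.types false in

/-- Let `𝒮` be fibred in groupoids over `C`, `U` an object of `C` and `x, y : C/U ⟶ 𝒮` two functors over
`C` (objects over `U` in 2-Yoneda form), with `e` the 2-isomorphism identifying their composites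
with the structure functor. Then the 2-fibre product over `C` of `(x, y) : C/U ⟶ 𝒮 ×_C 𝒮` with the
diagonal `𝒮 ⟶ 𝒮 ×_C 𝒮` is fibred in setoids over `C/U` through its first projection. (The published
statement is for a fibred category with `x`, `y` the functors given by chosen pullbacks; this row is
the case of a category fibred in groupoids, where every functor over `C` out of `C/U` is of that
kind.) -/
theorem result {C : Type u} [Category.{v} C] {𝒮 : BasedCategory.{v, max u v} C} (h𝒮 : FibCat.IsFibGrpd 𝒮.p)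
    (U : C) (x y : FibCat.overCat U ⥤ᵇ 𝒮)
    (e : BasedFunctor.comp x (FibCat.toSelf 𝒮) ≅ BasedFunctor.comp y (FibCat.toSelf 𝒮)) :
    FibCat.IsFibSetoid (FibCat.fpFst (FibCat.fpLift x y e) (FibCat.diag (FibCat.toSelf 𝒮))).toFunctor := by
  have hd : FibCat.IsFibGrpd (FibCat.fp (FibCat.toSelf 𝒮) (FibCat.toSelf 𝒮)).p :=
    Fib44.isFibGrpd_fp h𝒮 h𝒮 Fib44.selfOver_isFibGrpd
  have hU := Fib44.overForget_isFibSet U
  have hp : FibCat.IsFibGrpd (FibCat.fp (FibCat.fpLift x y e) (FibCat.diag (FibCat.toSelf 𝒮))).p :=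
    Fib44.isFibGrpd_fp hU.1 h𝒮 hd
  refine ⟨(Fib44.isFibGrpd_iff_comp_of_isFibSet _ hU).mpr hp,
    fun o a b => ⟨fun f g => ?_⟩⟩
  have := f.2
  have := g.2
  apply CategoryTheory.Functor.Fiber.hom_ext
  have h1 : f.1.hom.fst = g.1.hom.fst :=
    (IsHomLift.fac' (FibCat.fpFst _ _).toFunctor (𝟙 o) f.1).trans
      (IsHomLift.fac' (FibCat.fpFst _ _).toFunctor (𝟙 o) g.1).symm
  refine Fib44.fp_hom_ext h1 ?_
  have h2 := (Fib44.fp_w f.1).symm.trans ((congrArg (fun t => (FibCat.fpLift x y e).map t ≫
    b.1.obj.iso.hom) h1).trans (Fib44.fp_w g.1))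
  have h3 := (cancel_epi a.1.obj.iso.hom).mp h2
  exact congrArg (fun t => t.hom.fst) h3

end Groth.Agent.S12806
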