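import Groth.Statements.S12807
import Groth.Agent.Fib44.Equiv
-- import your own Groth.Agent.* helpers here

set_option autoImplicit false
open CategoryTheory CategoryTheory.Limits
universe v₃ u₃ v₂ u₂ v u
open FibCat

namespace Groth.Agent.S12807

set_option backward.isDefEq.respectTransparency false in
set_option backward.isDefEq.respectTransparency.types false in

/-- Let `u : C ⥤ D` be a functor and `𝒮` a category over `D` whose structure functor is a fibred
category. Then the 2-fibre product `C ×_D 𝒮` of `u` and the structure functor (triples `(U, y, u U ≅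
p y)`), with its first projection, is a fibred category over `C`. (The published statement uses the
strict fibre product, pairs with `u U = p y`; for `𝒮` fibred over `D` it is equivalent over `C` to
the 2-fibre product used here.) -/
theorem result {C : Type u} [Category.{v} C] {D : Type u₂} [Category.{v₂} D] (u : C ⥤ D)
    (𝒮 : BasedCategory.{v₃, u₃} D) [𝒮.p.IsFibered] :
    (CategoricalPullback.π₁ u 𝒮.p).IsFibered := by
  refine Functor.IsFibered.of_exists_isStronglyCartesian fun a V f => ?_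
  obtain ⟨w, ψ, hψ⟩ := Fib44.exists_sc_lift 𝒮.p (x := a.snd) rfl (u.map f ≫ a.iso.hom)
  have hw : 𝒮.p.obj w = u.obj V := IsHomLift.domain_eq 𝒮.p (u.map f ≫ a.iso.hom) ψ
  have hψe : 𝒮.p.map ψ = eqToHom hw ≫ u.map f ≫ a.iso.hom := by
    simpa using IsHomLift.fac' 𝒮.p (u.map f ≫ a.iso.hom) ψ
  let b : CategoricalPullback u 𝒮.p := ⟨V, w, eqToIso hw.symm⟩
  let φ : b ⟶ a := ⟨f, ψ, by simp [b, hψe]⟩
  refine ⟨b, φ, ?_⟩
  change (CategoricalPullback.π₁ u 𝒮.p).IsStronglyCartesian ((CategoricalPullback.π₁ u 𝒮.p).map φ) φ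
  rw [Fib44.isSC_iff]
  intro z g χ hχ
  replace hχ : χ.fst = g ≫ f := hχ
  have hl : 𝒮.p.IsHomLift ((z.iso.inv ≫ u.map g) ≫ u.map f ≫ a.iso.hom) χ.snd :=
    (Fib44.isHomLift_iff_map_eq 𝒮.p _ _).mpr (by
      rw [← cancel_epi z.iso.hom, ← χ.w, hχ]
      simp)
  have hsc : 𝒮.p.IsStronglyCartesian (u.map f ≫ a.iso.hom) ψ := hψ
  obtain ⟨t, ⟨ht, htψ⟩, htu⟩ := hsc.universal_property' (z.iso.inv ≫ u.map g) χ.snd
  have htw : u.map g ≫ eqToHom hw.symm = z.iso.hom ≫ 𝒮.p.map t := by
    rw [IsHomLift.fac' 𝒮.p (z.iso.inv ≫ u.map g) t]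
    simp
  refine ⟨⟨g, t, htw⟩, ⟨rfl, CategoricalPullback.hom_ext hχ.symm htψ⟩,
    fun η ⟨hη1, hη2⟩ => CategoricalPullback.hom_ext hη1 (htu η.snd ⟨?_, ?_⟩)⟩
  · have hη1' : η.fst = g := hη1
    refine IsHomLift.of_fac' 𝒮.p _ _ rfl hw ?_
    have := η.w
    rw [hη1'] at this
    simp [b] at this
    rw [← cancel_mono (eqToHom hw), ← cancel_epi z.iso.hom]
    simp [reassoc_of% this.symm]
  · exact congrArg CategoricalPullback.Hom.snd hη2

end Groth.Agent.S12807
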