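import Groth.Statements.S12816
import Groth.Agent.Fib44.Yoneda
import Groth.Agent.Fib44.Post
-- import your own Groth.Agent.* helpers here

set_option autoImplicit false
open CategoryTheory
universe v u
open Stk

namespace Groth.Agent.S12816

/-- Let `𝒳`, `𝒴` be fibred in groupoids over `C` and `F : 𝒳 ⟶ 𝒴` a functor over `C`. Then the underlying
functor of `F` is fully faithful if and only if, for every object `U` of `C`, postcomposition with
`F` is a fully faithful functor from the category of functors `C/U ⟶ 𝒳` over `C` to that of functors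
`C/U ⟶ 𝒴` over `C`; under the 2-Yoneda lemma the latter says that `F` induces bijections between
morphisms of pullbacks `x|_V ⟶ y|_V` and `F(x)|_V ⟶ F(y)|_V` for all objects `x, y` over `U` and all
`V ⟶ U`, that is, isomorphisms of the presheaves of morphisms. (The published statement is for
stacks over a site, not necessarily in groupoids; the stack property plays no role and is not
assumed here, and this row treats categories fibred in groupoids.) -/
theorem result {C : Type u} [Category.{v} C] {𝒳 𝒴 : BasedCategory.{v, max u v} C}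
    (h𝒳 : FibCat.IsFibGrpd 𝒳.p) (h𝒴 : FibCat.IsFibGrpd 𝒴.p) (F : 𝒳 ⟶ 𝒴) :
    (F.toFunctor.Full ∧ F.toFunctor.Faithful) ↔
      ∀ U : C, (Bicategory.postcomp (FibCat.overCat U) F).Full ∧ (Bicategory.postcomp (FibCat.overCat U) F).Faithful := by
  have := Fib44.isFibered_of_isFibGrpd 𝒳.p (h := h𝒳)
  have key : ∀ U, ((Bicategory.postcomp (FibCat.overCat U) F).Full ↔ (FibCat.fiberFunctor F U).Full) ∧
      ((Bicategory.postcomp (FibCat.overCat U) F).Faithful ↔ (FibCat.fiberFunctor F U).Faithful) := by
    intro U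
    have := Fib44.evalAtId_isEquivalence_of_fibGrpd h𝒳 U
    have := Fib44.evalAtId_isEquivalence_of_fibGrpd h𝒴 U
    let i : Bicategory.postcomp (FibCat.overCat U) F ⋙ FibCat.evalAtId 𝒴 U ≅
        FibCat.evalAtId 𝒳 U ⋙ FibCat.fiberFunctor F U := Iso.refl _
    refine ⟨⟨fun _ => ?_, fun _ => ?_⟩, ⟨fun _ => ?_, fun _ => ?_⟩⟩
    · have := Functor.Full.of_iso i
      have : (((FibCat.evalAtId 𝒳 U).asEquivalence.inverse ⋙ (FibCat.evalAtId 𝒳 U).asEquivalence.functor) ⋙
          FibCat.fiberFunctor F U).Full :=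
        inferInstanceAs ((FibCat.evalAtId 𝒳 U).asEquivalence.inverse ⋙
          (FibCat.evalAtId 𝒳 U ⋙ FibCat.fiberFunctor F U)).Full
      exact Functor.Full.of_iso (Functor.isoWhiskerRight (FibCat.evalAtId 𝒳 U).asEquivalence.counitIso
        (FibCat.fiberFunctor F U) ≪≫ Functor.leftUnitor _)
    · have := Functor.Full.of_iso i.symm
      exact Functor.Full.of_comp_faithful _ (FibCat.evalAtId 𝒴 U)
    · have := Functor.Faithful.of_iso i
      have : (((FibCat.evalAtId 𝒳 U).asEquivalence.inverse ⋙ (FibCat.evalAtId 𝒳 U).asEquivalence.functor) ⋙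
          FibCat.fiberFunctor F U).Faithful :=
        inferInstanceAs ((FibCat.evalAtId 𝒳 U).asEquivalence.inverse ⋙
          (FibCat.evalAtId 𝒳 U ⋙ FibCat.fiberFunctor F U)).Faithful
      exact Functor.Faithful.of_iso (Functor.isoWhiskerRight (FibCat.evalAtId 𝒳 U).asEquivalence.counitIso
        (FibCat.fiberFunctor F U) ≪≫ Functor.leftUnitor _)
    · have := Functor.Faithful.of_iso i.symm
      exact Functor.Faithful.of_comp _ (FibCat.evalAtId 𝒴 U)
  refine ⟨fun ⟨_, _⟩ U => ⟨(key U).1.mpr (Fib44.fiberFunctor_full_of_full F U),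
    (key U).2.mpr (Fib44.fiberFunctor_faithful_of_faithful F U)⟩, fun h => ⟨?_, ?_⟩⟩
  · exact Fib44.full_of_fiber F (Fib44.preservesSC_of_fibGrpd h𝒴 F) fun U => (key U).1.mp (h U).1
  · exact Fib44.faithful_of_fiber F (Fib44.preservesSC_of_fibGrpd h𝒴 F) fun U => (key U).2.mp (h U).2

end Groth.Agent.S12816
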