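import Groth.Statements.S12834
import Groth.Agent.AlgSt88.SpectralPts

set_option autoImplicit false
universe u
open CategoryTheory AlgebraicGeometry
open AlgSt

namespace Groth.Agent.S12834

/-- Let `𝒳` be a quasi-compact algebraic stack over `S` whose diagonal is quasi-compact. Then `|𝒳|` is a
spectral space. Here the diagonal is `𝒳 ⟶ 𝒳 ×_S 𝒳` over the base and `S` is taken quasi-separated,
under which this is the same condition as quasi-compactness of the absolute diagonal used in the
published statement; for a base that is not quasi-separated the relative condition is too weak (take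
`𝒳 = S` quasi-compact and not quasi-separated). -/
theorem result {S : Scheme.{u}} [QuasiSeparatedSpace S]
    {𝒳 : AlgSt.Cat S} (h𝒳 : AlgSt.IsAlgStack Scheme.fppfPrecoverage 𝒳) (hqc : AlgSt.IsQuasiCompact 𝒳)
    (hΔ : AlgSt.RepByAlgSpWith AlgSp.IsQuasiCompactMor (FibCat.diag (FibCat.toSelf 𝒳))) :
    SpectralSpace (AlgSt.Points 𝒳) := by
  haveI := Groth.Agent.AlgSt88.compactSpace_points_of_isQuasiCompact h𝒳 hqc
  obtain ⟨U, x, hU, hx, hx'⟩ := hqc
  haveI := hU
  haveI := Groth.Agent.AlgSt88.spectralSpace_range_ofChart h𝒳 hΔ U x hx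
  have hr : Set.range (AlgSt.Points.ofChart x) = Set.univ :=
    (Groth.Agent.AlgSt88.surjective_ofChart h𝒳.isStack.1 x hx').range_eq
  exact (((Homeomorph.setCongr hr).trans (Homeomorph.Set.univ _)).symm).isOpenEmbedding.spectralSpace

end Groth.Agent.S12834
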