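import Groth.Statements.S12835
import Groth.Agent.AlgSt88.SpectralPts

set_option autoImplicit false
universe u
open CategoryTheory AlgebraicGeometry
open AlgSt

namespace Groth.Agent.S12835

/-- Let `𝒳` be an algebraic stack over `S` whose diagonal is quasi-compact (for instance `𝒳`
quasi-separated). Then `|𝒳|` has an open covering by spectral spaces; in particular `|𝒳|` is sober.
Here the diagonal is `𝒳 ⟶ 𝒳 ×_S 𝒳` over the base and `S` is taken quasi-separated, under which this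
agrees with the absolute condition of the published statement. -/
theorem result {S : Scheme.{u}} [QuasiSeparatedSpace S]
    {𝒳 : AlgSt.Cat S} (h𝒳 : AlgSt.IsAlgStack Scheme.fppfPrecoverage 𝒳)
    (hΔ : AlgSt.RepByAlgSpWith AlgSp.IsQuasiCompactMor (FibCat.diag (FibCat.toSelf 𝒳))) :
    (∀ x : AlgSt.Points 𝒳, ∃ U : Set (AlgSt.Points 𝒳), IsOpen U ∧ x ∈ U ∧ SpectralSpace ↥U) ∧
      QuasiSober (AlgSt.Points 𝒳) ∧ T0Space (AlgSt.Points 𝒳) := by
  have hnhd : ∀ p : AlgSt.Points 𝒳, ∃ W : Set (AlgSt.Points 𝒳), IsOpen W ∧ p ∈ W ∧ SpectralSpace ↥W := by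
    intro p
    obtain ⟨U, u, hu, hu'⟩ := h𝒳.atlas
    obtain ⟨t, rfl⟩ := Groth.Agent.AlgSt88.surjective_ofChart h𝒳.isStack.1 u hu' p
    obtain ⟨V, hV, htV, -⟩ := exists_isAffineOpen_mem_and_subset (X := U.left) (U := ⊤) (x := t) trivial
    let V' : Over S := Over.mk (V.ι ≫ U.hom)
    let j : V' ⟶ U := Over.homMk V.ι rfl
    haveI : IsAffine V'.left := hV
    have hx : AlgSt.RepByAlgSpWith (AlgSp.LocP @Smooth) (BasedFunctor.comp (AlgSt.overMap j) u) :=
      Groth.Agent.AlgSt88.sm_comp (Groth.Agent.AlgSt88.isFibGrpd_overCat V') (Groth.Agent.AlgSt88.isFibGrpd_overCat U)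
        (Groth.Agent.AlgSt88.sm_overMap j (inferInstanceAs (Smooth V.ι))) hu
    refine ⟨_, (Groth.Agent.AlgSt88.isOpenMap_ofChart h𝒳.isStack.1 _ (Groth.Agent.AlgSt88.rep_flat_of_sm hx) (Groth.Agent.AlgSt88.rep_lfp_of_sm hx)).isOpen_range,
      ⟨⟨t, htV⟩, Groth.Agent.AlgSt88.ofChart_overMap j u ⟨t, htV⟩⟩, Groth.Agent.AlgSt88.spectralSpace_range_ofChart h𝒳 hΔ V' _ hx⟩
  choose W hW hpW hsW using hnhd
  refine ⟨fun p => ⟨W p, hW p, hpW p, hsW p⟩, ?_, ?_⟩
  · haveI : ∀ s : ↥(Set.range W), QuasiSober ↥(s : Set (AlgSt.Points 𝒳)) := fun s => by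
      obtain ⟨_, p, rfl⟩ := s
      haveI := hsW p
      infer_instance
    exact quasiSober_of_open_cover (Set.range W) (fun s => by obtain ⟨_, p, rfl⟩ := s; exact hW p)
      (Set.eq_univ_of_forall fun p => ⟨W p, ⟨p, rfl⟩, hpW p⟩)
  · refine ⟨fun p q hpq => ?_⟩
    haveI := hsW p
    have hq : q ∈ W p := (hpq.mem_open_iff (hW p)).1 (hpW p)
    have h2 : Inseparable (⟨p, hpW p⟩ : W p) ⟨q, hq⟩ := subtype_inseparable_iff _ _ |>.2 hpq
    exact congrArg Subtype.val h2.eq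

end Groth.Agent.S12835
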