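import Groth.Statements.S12842
import Groth.Agent.AlgSt88.StackRep
import Groth.Agent.AlgSt88.DiagDescent
import Groth.Agent.SpFP87.FpqcMono

set_option autoImplicit false
set_option backward.isDefEq.respectTransparency false
set_option backward.isDefEq.respectTransparency.types false
open CategoryTheory AlgebraicGeometry
universe u
open AlgSt

namespace Groth.Agent.S12842

/-- (2) ⇒ (1): let `f : 𝒳 ⟶ 𝒴` be a 1-morphism of algebraic stacks over `S`, `W` an algebraic space over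
`S` and `w : W ⟶ 𝒴` surjective, flat and locally of finite presentation. If the 2-fibre product `W
×_𝒴 𝒳` is representable by an algebraic space, then `f` is representable by algebraic spaces. -/
theorem result {S : Scheme.{u}} {𝒳 𝒴 : AlgSt.Cat S}
    (h𝒳 : AlgSt.IsAlgStack Scheme.fppfPrecoverage 𝒳) (h𝒴 : AlgSt.IsAlgStack Scheme.fppfPrecoverage 𝒴)
    (f : 𝒳 ⥤ᵇ 𝒴) (W : AlgSp.Space S) (w : AlgSt.ofSp W.obj ⥤ᵇ 𝒴)
    (hw₁ : AlgSt.RepByAlgSpWith (AlgSp.LocP @Flat) w)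
    (hw₂ : AlgSt.RepByAlgSpWith (AlgSp.LocP @LocallyOfFinitePresentation) w)
    (hw₃ : AlgSt.RepByAlgSpWith AlgSp.IsSurjectiveMor w)
    (h : AlgSt.RepByAlgSp (FibCat.fp w f)) : AlgSt.RepByAlgSp1 f := by
  have hX := h𝒳.isStack.1
  have hY := h𝒴.isStack.1
  have hW := Stk.isFibGrpd_ofPsh W.obj.obj
  have hWs := (Groth.Agent.AlgSt88.isDM_ofSp W).1
  have hA := Groth.Agent.AlgSt88.isAlgStack_fp h𝒴.isStack h𝒴.diag hWs h𝒳 w f
  have hC := hA.isStack.1
  have hB := Groth.Agent.AlgSt88.isAlgStack_fp hWs.isStack hWs.diag hA hA (FibCat.fpFst w f) (FibCat.fpFst w f)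
  have hrep := Groth.Agent.AlgSt88.repByAlgSp1_of_repByAlgSp h (Groth.Agent.AlgSt88.repByAlgSp_ofSp W) (FibCat.fpFst w f)
  haveI := Groth.Agent.AlgSt88.faithful_of_repByAlgSp1 hC hW hrep
  haveI : (FibCat.diag (FibCat.fpFst w f)).toFunctor.Faithful := ⟨fun {a b} _ _ h => congrArg (fun t => t.hom.fst) h⟩
  haveI : (FibCat.diag (FibCat.fpFst w f)).toFunctor.Full := ⟨fun {a b} k => by
    have hw : (FibCat.fpFst w f).map k.hom.fst ≫ 𝟙 _ = 𝟙 _ ≫ (FibCat.fpFst w f).map k.hom.snd := k.hom.w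
    rw [Category.comp_id, Category.id_comp] at hw
    exact ⟨k.hom.fst, Groth.Agent.AlgSt88.fpHom_ext rfl ((FibCat.fpFst w f).toFunctor.map_injective hw)⟩⟩
  have hm := Groth.Agent.AlgSt88.isMono_of_fullyFaithful hA hB (f := FibCat.diag (FibCat.fpFst w f))
  have hd := Groth.Agent.AlgSt88.repByAlgSpWith_diag_descends (g := w) (f := f) (P := MorphismProperty.monomorphisms (AlgSp.Sp S))
    hX hY hW h𝒳.diag h𝒴.diag (fun _ _ _ _ _ _ _ _ _ _ _ _ sq ha => MorphismProperty.of_isPullback sq ha)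
    (Groth.Agent.AlgSt88.fppf_local_of_fpqc Groth.Agent.SpFP87.isLocalOnBase_fpqc_monomorphisms) hw₁ hw₂ hw₃ hm
  haveI := Groth.Agent.AlgSt88.full_of_isMono hX (Groth.Agent.AlgSt88.isFibGrpd_fp hX hX hY f f) hd
  refine (Groth.Agent.AlgSt88.trivKer_iff_repByAlgSp1 h𝒳 h𝒴).2 fun a φ hp hf => ?_
  let k : (FibCat.diag f).obj a ⟶ (FibCat.diag f).obj a := Groth.Agent.AlgSt88.fpHom φ (𝟙 a) (by
    change f.map φ ≫ 𝟙 _ = 𝟙 _ ≫ f.map (𝟙 a)
    rw [hf, Groth.Agent.AlgSt88.map_id' f]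
    first | done | exact Eq.trans (Category.comp_id _) (Category.id_comp _).symm)
  obtain ⟨m, hm⟩ := (FibCat.diag f).toFunctor.map_surjective k
  exact (congrArg (fun t => t.hom.fst) hm).symm.trans (congrArg (fun t => t.hom.snd) hm)

end Groth.Agent.S12842
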