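import Groth.Statements.S12841
import Groth.Agent.AlgSt88.StackRep
import Groth.Agent.AlgSt88.DiagDescent
import Groth.Agent.SpFP87.FpqcMono
import Groth.Agent.S12842
import Groth.Agent.AlgSt88.CompP

set_option autoImplicit false
set_option backward.isDefEq.respectTransparency false
set_option backward.isDefEq.respectTransparency.types false
open CategoryTheory AlgebraicGeometry
universe u
open AlgSt

namespace Groth.Agent.S12841

/-- (1) ⇔ (4): let `f : 𝒳 ⟶ 𝒴` be a 1-morphism of algebraic stacks over `S`, `W` an algebraic space over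
`S` and `w : W ⟶ 𝒴` surjective, flat and locally of finite presentation. Then `f` is a monomorphism
if and only if `W ×_𝒴 𝒳` is an algebraic space `V` and the projection `V ⟶ W` is a monomorphism of
algebraic spaces. The projection is named through an equivalence `e` over `(Sch/S)` from the
category of `V` to the 2-fibre product whose composite with the first projection is 2-isomorphic to
the functor of a morphism `a : V ⟶ W`; being a monomorphism does not depend on these choices. -/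
theorem result {S : Scheme.{u}} {𝒳 𝒴 : AlgSt.Cat S}
    (h𝒳 : AlgSt.IsAlgStack Scheme.fppfPrecoverage 𝒳) (h𝒴 : AlgSt.IsAlgStack Scheme.fppfPrecoverage 𝒴)
    (f : 𝒳 ⥤ᵇ 𝒴) (W : AlgSp.Space S) (w : AlgSt.ofSp W.obj ⥤ᵇ 𝒴)
    (hw₁ : AlgSt.RepByAlgSpWith (AlgSp.LocP @Flat) w)
    (hw₂ : AlgSt.RepByAlgSpWith (AlgSp.LocP @LocallyOfFinitePresentation) w)
    (hw₃ : AlgSt.RepByAlgSpWith AlgSp.IsSurjectiveMor w) :
    AlgSt.IsMono f ↔
      ∃ (V : AlgSp.Space S) (a : V ⟶ W) (e : AlgSt.ofSp V.obj ⥤ᵇ FibCat.fp w f),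
        FibCat.IsEquivOver e ∧
          Nonempty (BasedFunctor.comp e (FibCat.fpFst w f) ≅ AlgSt.ofSpMap a.hom) ∧ Mono a.hom := by
  have hX := h𝒳.isStack.1
  have hY := h𝒴.isStack.1
  have hi : (MorphismProperty.monomorphisms (AlgSp.Sp S)).RespectsIso := inferInstance
  constructor
  · intro hf
    obtain ⟨F, a, e, he, hα, hQ⟩ := Groth.Agent.AlgSt88.exists_space_fp hX hY (Groth.Agent.AlgSt88.repByAlgSp1_of_with hf) W w
    exact ⟨F, ObjectProperty.homMk a, e, he, hα, Groth.Agent.AlgSt88.spaceDescends_mono F W a (hQ _ hi hf)⟩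
  · rintro ⟨V, a, e, he, ⟨α⟩, ha⟩
    have hrep := Groth.Agent.S12842.result h𝒳 h𝒴 f W w hw₁ hw₂ hw₃
      (Groth.Agent.AlgSt88.repByAlgSp_of_equiv (Groth.Agent.AlgSt88.repByAlgSp_ofSp V) he)
    have h1 : AlgSp.RepBySpWith (MorphismProperty.monomorphisms (AlgSp.Sp S)) a.hom.hom :=
      (AlgSp.repBySpWith_hom_iff _ a.hom).2 fun U ξ F' fst snd sq =>
        ⟨Groth.Agent.SpFP87.isAlgSpace_of_isPullback sq V.property (AlgSp.IsAlgSpace.yon_obj U) W.property.diag,
          MorphismProperty.of_isPullback (P := MorphismProperty.monomorphisms (AlgSp.Sp S)) sq ha⟩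
    exact Groth.Agent.AlgSt88.repByAlgSpWith_of_fpFst hX hY (Stk.isFibGrpd_ofPsh W.obj.obj)
      (fun _ _ _ _ _ _ _ _ _ _ _ _ sq h => MorphismProperty.of_isPullback sq h)
      (Groth.Agent.AlgSt88.fppf_local_of_fpqc Groth.Agent.SpFP87.isLocalOnBase_fpqc_monomorphisms) hrep w hw₁ hw₂ hw₃
      ((Groth.Agent.AlgSt88.repByAlgSpWith_precomp_equiv he).1 (Groth.Agent.AlgSt88.repByAlgSpWith_of_iso α.symm
        ((Groth.Agent.AlgSt88.repByAlgSpWith_ofPshMap_iff _ a.hom.hom).1 h1)))

end Groth.Agent.S12841
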