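import Groth.Statements.S12845
import Groth.Agent.AlgSt88.LocalProps
import Groth.Agent.AlgSt88.SepLocP
import Groth.Agent.SpPts86.EtaleMor

set_option autoImplicit false
open CategoryTheory AlgebraicGeometry
universe u
open AlgSt

namespace Groth.Agent.S12845

/-- Let `P` be a property of morphisms of algebraic spaces over `S` which is stable under base change
and fppf local on the base, and `f : 𝒳 ⟶ 𝒴` a 1-morphism of algebraic stacks over `S` representable
by algebraic spaces. Then `f` has `P` (a condition on its base changes to schemes) if and only if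
for every algebraic space `Z` and every `z : Z ⟶ 𝒴` the projection `Z ×_𝒴 𝒳 ⟶ Z` has `P`, the
projection being named by an algebraic space `V`, a morphism `a : V ⟶ Z` and an equivalence over
`(Sch/S)` from the category of `V` to the 2-fibre product whose composite with the first projection
is 2-isomorphic to the functor of `a`. (Stability under base change is asked for every pullback
square of fppf sheaves whose four corners are algebraic spaces.) -/
theorem result {S : Scheme.{u}} {𝒳 𝒴 : AlgSt.Cat S}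
    (h𝒳 : AlgSt.IsAlgStack Scheme.fppfPrecoverage 𝒳) (h𝒴 : AlgSt.IsAlgStack Scheme.fppfPrecoverage 𝒴)
    (P : MorphismProperty (AlgSp.Sp S))
    (hPb : ∀ ⦃X₁ Y₁ X₂ Y₂ : AlgSp.Sp S⦄, AlgSp.IsAlgSpace X₁ → AlgSp.IsAlgSpace Y₁ → AlgSp.IsAlgSpace X₂ →
      AlgSp.IsAlgSpace Y₂ → ∀ (a : X₁ ⟶ Y₁) (b : Y₂ ⟶ Y₁) (a' : X₂ ⟶ Y₂) (b' : X₂ ⟶ X₁),
      IsPullback b' a' a b → P a → P a')
    (hP : AlgSp.IsLocalOnBase AlgSp.IsFppfCover P)
    (f : 𝒳 ⥤ᵇ 𝒴) (hf : AlgSt.RepByAlgSp1 f) :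
    AlgSt.RepByAlgSpWith P f ↔
      ∀ (Z : AlgSp.Space S) (z : AlgSt.ofSp Z.obj ⥤ᵇ 𝒴),
        ∃ (V : AlgSp.Space S) (a : V ⟶ Z) (e : AlgSt.ofSp V.obj ⥤ᵇ FibCat.fp z f),
          FibCat.IsEquivOver e ∧
            Nonempty (BasedFunctor.comp e (FibCat.fpFst z f) ≅ AlgSt.ofSpMap a.hom) ∧ P a.hom := by
  rw [Groth.Agent.AlgSt88.repByAlgSpWith_iff_repSp h𝒳.isStack.1 h𝒴.isStack.1 hPb hP]
  refine ⟨fun h Z z => ?_, fun h Z z => ?_⟩
  · obtain ⟨V, e, he, hPe⟩ := h Z z
    obtain ⟨α⟩ := Groth.Agent.AlgSt88.exists_hom_iso (BasedFunctor.comp e (FibCat.fpFst z f))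
    exact ⟨V, ObjectProperty.homMk _, e, he, ⟨α⟩, hPe⟩
  · obtain ⟨V, a, e, he, ⟨α⟩, hPa⟩ := h Z z
    refine ⟨V, e, he, ?_⟩
    rw [Groth.Agent.AlgSt88.homOfBased_congr α, Groth.Agent.AlgSt88.homOfBased_ofSpMap]
    exact hPa

end Groth.Agent.S12845
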