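import Groth.Statements.S12850
import Groth.Agent.AlgSt88.LocalProps
import Groth.Agent.AlgSt88.SepLocP
import Groth.Agent.SpPts86.EtaleMor

set_option autoImplicit false
open CategoryTheory AlgebraicGeometry
universe u
open AlgSt

namespace Groth.Agent.S12850

/-- Let `P` be a property of morphisms of algebraic spaces over `S` which is stable under base change,
fppf local on the base and local on the source in the etale topology; let `x : 𝒳 ⟶ 𝒴` and `y : 𝒴 ⟶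
𝒵` be 1-morphisms of algebraic stacks over `S` representable by algebraic spaces with `x` surjective
and etale. If `y ∘ x` has `P` then `y` has `P`. (Stability under base change is asked for every
pullback square of fppf sheaves whose four corners are algebraic spaces.) -/
theorem result {S : Scheme.{u}} {𝒳 𝒴 𝒵 : AlgSt.Cat S}
    (h𝒳 : AlgSt.IsAlgStack Scheme.fppfPrecoverage 𝒳) (h𝒴 : AlgSt.IsAlgStack Scheme.fppfPrecoverage 𝒴) (h𝒵 : AlgSt.IsAlgStack Scheme.fppfPrecoverage 𝒵)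
    (P : MorphismProperty (AlgSp.Sp S))
    (hPb : ∀ ⦃X₁ Y₁ X₂ Y₂ : AlgSp.Sp S⦄, AlgSp.IsAlgSpace X₁ → AlgSp.IsAlgSpace Y₁ → AlgSp.IsAlgSpace X₂ →
      AlgSp.IsAlgSpace Y₂ → ∀ (a : X₁ ⟶ Y₁) (b : Y₂ ⟶ Y₁) (a' : X₂ ⟶ Y₂) (b' : X₂ ⟶ X₁),
      IsPullback b' a' a b → P a → P a')
    (hP : AlgSp.IsLocalOnBase AlgSp.IsFppfCover P) (hP' : AlgSp.IsLocalOnSource AlgSp.IsEtCover P)
    (x : 𝒳 ⥤ᵇ 𝒴) (y : 𝒴 ⥤ᵇ 𝒵) (hy : AlgSt.RepByAlgSp1 y)
    (hx₁ : AlgSt.RepByAlgSpWith AlgSp.IsEtaleMor x) (hx₂ : AlgSt.RepByAlgSpWith AlgSp.IsSurjectiveMor x)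
    (h : AlgSt.RepByAlgSpWith P (BasedFunctor.comp x y)) : AlgSt.RepByAlgSpWith P y := by
  haveI := Groth.Agent.AlgSt88.respectsIso_surj (S := S)
  haveI := Groth.Agent.AlgSt88.respectsIso_locP (S := S) @Etale
  refine Groth.Agent.AlgSt88.repByAlgSpWith_of_comp_cover (R := AlgSp.LocP @Etale ⊓ AlgSp.IsSurjectiveMor) h𝒳.isStack.1 h𝒴.isStack.1 hPb hP inferInstance
    (fun F G a ha => ⟨Groth.Agent.AlgSt88.spaceDescends_locP @Etale F G a (by intro U ξ F' fst snd sq; obtain ⟨h', hA, hQ⟩ := ha ξ fst snd sq; exact ⟨h', hA, hQ.1⟩), Groth.Agent.AlgSt88.spaceDescends_surj F G a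
      (by intro U ξ F' fst snd sq; obtain ⟨h', hA, hQ⟩ := ha ξ fst snd sq; exact ⟨h', hA, hQ.2⟩)⟩)
    (fun _ _ _ hF hG hH a b ha hab => Groth.Agent.AlgSt88.local_of_isLocalOnSource (Q := AlgSp.IsEtaleMor) hP' hF hG hH a b
      ⟨Groth.Agent.SpPts86.isEtaleMor_of_locP_etale hG ha.1, ha.2⟩ hab) hy ?_ h
  exact Groth.Agent.AlgSt88.repByAlgSpWith_inf
    (Groth.Agent.AlgSt88.repByAlgSpWith_mono (fun _ _ _ h => Groth.Agent.SpPts86.locP_etale_of_isEtaleMor h) hx₁) hx₂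

end Groth.Agent.S12850
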