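import Groth.Statements.S12852
import Groth.Agent.AlgSt88.SmoothLoc

set_option autoImplicit false
open CategoryTheory AlgebraicGeometry
universe u
open AlgSt

namespace Groth.Agent.S12852

/-- (2) ⇔ (4): suppose `P`, a property of schemes, is local for the smooth topology (for every jointly
surjective family of smooth morphisms `V_i ⟶ U`, `U` has `P` if and only if every `V_i` has `P`) and
`𝒳` an algebraic stack over `S`. Then every scheme admitting a smooth morphism to `𝒳` has `P` if and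
only if every algebraic space `U` admitting a smooth `U ⟶ 𝒳` has `P` (that is, some surjective etale
scheme chart of `U` has `P`). -/
theorem result {S : Scheme.{u}} {𝒳 : AlgSt.Cat S}
    (h𝒳 : AlgSt.IsAlgStack Scheme.fppfPrecoverage 𝒳) (P : Scheme.{u} → Prop)
    (hP : ∀ (U : Scheme.{u}) (R : Presieve U), R ∈ Scheme.precoverage @Smooth U →
      (P U ↔ ∀ ⦃V : Scheme.{u}⦄ (g : V ⟶ U), R g → P V)) :
    AlgSt.SmoothLocally P 𝒳 ↔
      ∀ (U : AlgSp.Space S) (x : AlgSt.ofSp U.obj ⥤ᵇ 𝒳),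
        AlgSt.RepByAlgSpWith (AlgSp.LocP @Smooth) x → AlgSp.EtaleLocally P U.obj := by
  have hX := h𝒳.isStack.1
  refine ⟨fun h U x hx => ?_, fun h T x hx => ?_⟩
  · obtain ⟨T, p, hp, hps⟩ := U.property.atlas
    exact ⟨T, p, hp, hps, Groth.Agent.AlgSt88.of_ofSch h _ (Groth.Agent.AlgSt88.chart_comp hX hx hp hps).1⟩
  · obtain ⟨G, p, hp, hps, hG⟩ := h ⟨_, AlgSp.IsAlgSpace.yon_obj T⟩ (BasedFunctor.comp (AlgSt.toOverCat T) x)
      ((Groth.Agent.AlgSt88.repByAlgSpWith_precomp_equiv (Groth.Agent.AlgSt88.isEquivOver_toOverCat T)).2 hx)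
    obtain ⟨r, rfl⟩ := (AlgSp.yon S).map_surjective p
    have hr : Etale r.left := (Groth.Agent.SpFP87.locP_yon_map_iff (P := @Etale) r).1
      (Groth.Agent.SpFP87.locP_of_repWith (P := @Etale) (AlgSp.IsAlgSpace.yon_obj G).diag (AlgSp.IsAlgSpace.yon_obj T) hp)
    exact Groth.Agent.AlgSt88.of_smooth_maps hP r.left (𝟙 G.left) inferInstance
      (Groth.Agent.AlgSt88.surjective_left_of_map r (Groth.Agent.SpPts86.isSurjectiveMor_of_repWith hps))
      inferInstance hG

end Groth.Agent.S12852
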