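import Groth.Statements.S12856
import Groth.Agent.AlgSt88.QC

set_option autoImplicit false
open CategoryTheory AlgebraicGeometry
universe u
open AlgSt

namespace Groth.Agent.S12856

/-- (2) ⇔ (4): an algebraic stack `𝒳` over `S` admits a surjective smooth morphism from an affine scheme
if and only if it admits a surjective smooth morphism from a quasi-compact algebraic space. -/
theorem result {S : Scheme.{u}} {𝒳 : AlgSt.Cat S}
    (h𝒳 : AlgSt.IsAlgStack Scheme.fppfPrecoverage 𝒳) :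
    AlgSt.IsQuasiCompact 𝒳 ↔
      ∃ (U : AlgSp.Space S) (x : AlgSt.ofSp U.obj ⥤ᵇ 𝒳), AlgSp.IsQuasiCompactSp U.obj ∧
        AlgSt.RepByAlgSpWith (AlgSp.LocP @Smooth) x ∧ AlgSt.RepByAlgSpWith AlgSp.IsSurjectiveMor x := by
  refine ⟨fun ⟨U, x, hU, h1, h2⟩ => ?_, fun ⟨U, x, hU, h1, h2⟩ => ?_⟩
  · haveI := hU
    refine ⟨⟨_, AlgSp.IsAlgSpace.yon_obj U⟩, BasedFunctor.comp (AlgSt.toOverCat U) x, ?_,
      (Groth.Agent.AlgSt88.repByAlgSpWith_precomp_equiv (Groth.Agent.AlgSt88.isEquivOver_toOverCat U)).2 h1,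
      (Groth.Agent.AlgSt88.repByAlgSpWith_precomp_equiv (Groth.Agent.AlgSt88.isEquivOver_toOverCat U)).2 h2⟩
    exact (Groth.Agent.SpPts86.isQuasiCompactSp_iff_compactSpace (AlgSp.IsAlgSpace.yon_obj U)).2
      (AlgSp.Points.schemeHomeo U).compactSpace
  · exact Groth.Agent.AlgSt88.isQuasiCompact_of_surjective h𝒳 (Groth.Agent.AlgSt88.isDM_ofSp U).1 x
      (Groth.Agent.AlgSt88.isSurjective_of_sj h𝒳.isStack.1 h2)
      ((Groth.Agent.AlgSt88.isQuasiCompact_iff (Groth.Agent.AlgSt88.isDM_ofSp U).1).2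
        ((Groth.Agent.AlgSt88.compactSpace_points_ofSp U).2 hU))

end Groth.Agent.S12856
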