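import Groth.Statements.S12861
import Groth.Agent.AlgSt88.SubstackCover

set_option autoImplicit false
open CategoryTheory AlgebraicGeometry
universe u w
open AlgSt

namespace Groth.Agent.S12861

/-- Let `𝒳` be an algebraic stack over `S` and `𝒳_i ⊂ 𝒳` a family of open substacks. Then there is an
open substack `𝒳' ⊂ 𝒳`, the union of the `𝒳_i`, containing every `𝒳_i` and covered by them: its
points in `|𝒳|` are the union of the points of the `𝒳_i`. -/
theorem result {S : Scheme.{u}} {𝒳 : AlgSt.Cat S}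
    (h𝒳 : AlgSt.IsAlgStack Scheme.fppfPrecoverage 𝒳) {ι : Type w} (Q : ι → 𝒳.obj → Prop)
    (hQ : ∀ i, AlgSt.IsOpenSubstack 𝒳 (Q i) Scheme.fppfPrecoverage) :
    ∃ Q' : 𝒳.obj → Prop, AlgSt.IsOpenSubstack 𝒳 Q' Scheme.fppfPrecoverage ∧ (∀ i y, Q i y → Q' y) ∧
      Set.range (AlgSt.Points.map (AlgSt.subIncl 𝒳 Q')) = ⋃ i, Set.range (AlgSt.Points.map (AlgSt.subIncl 𝒳 (Q i))) := by
  let W := ⋃ i, Set.range (AlgSt.Points.map (AlgSt.subIncl 𝒳 (Q i)))
  have hW : IsOpen W := isOpen_iUnion fun i => Groth.Agent.AlgSt88.isOpen_range_substack h𝒳 (hQ i)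
  have hS := Groth.Agent.AlgSt88.isOpenSubstack_inPts h𝒳 hW
  refine ⟨Groth.Agent.AlgSt88.InPts W, hS, fun i => (Groth.Agent.AlgSt88.substack_le_iff h𝒳 (hQ i) hS).2 ?_, Groth.Agent.AlgSt88.range_subIncl_inPts W⟩
  rw [Groth.Agent.AlgSt88.range_subIncl_inPts W]
  exact Set.subset_iUnion_of_subset i (Set.Subset.refl _)

end Groth.Agent.S12861
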