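import Groth.Statements.S12862
import Groth.Agent.AlgSt88.SubstackCover

set_option autoImplicit false
open CategoryTheory AlgebraicGeometry
universe u w
open AlgSt

namespace Groth.Agent.S12862

/-- Let `𝒳` be an algebraic stack over `S`, `𝒳' ⊂ 𝒳` a quasi-compact open substack and `𝒳_i ⊂ 𝒳` a
family of open substacks with `𝒳' ⊂ ⋃ 𝒳_i`. Then `𝒳' ⊂ ⋃_{i ∈ I'} 𝒳_i` for a finite set `I'` of
indices. Containments between open substacks are read on their points in `|𝒳|`, which is the same as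
containment of the substacks. -/
theorem result {S : Scheme.{u}} {𝒳 : AlgSt.Cat S}
    (h𝒳 : AlgSt.IsAlgStack Scheme.fppfPrecoverage 𝒳) (Q' : 𝒳.obj → Prop) (hQ' : AlgSt.IsOpenSubstack 𝒳 Q' Scheme.fppfPrecoverage)
    (hqc : AlgSt.IsQuasiCompact (AlgSt.fullSub 𝒳 Q'))
    {ι : Type w} (Q : ι → 𝒳.obj → Prop) (hQ : ∀ i, AlgSt.IsOpenSubstack 𝒳 (Q i) Scheme.fppfPrecoverage)
    (hcov : Set.range (AlgSt.Points.map (AlgSt.subIncl 𝒳 Q')) ⊆ ⋃ i, Set.range (AlgSt.Points.map (AlgSt.subIncl 𝒳 (Q i)))) :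
    ∃ I' : Finset ι, Set.range (AlgSt.Points.map (AlgSt.subIncl 𝒳 Q')) ⊆ ⋃ i ∈ I', Set.range (AlgSt.Points.map (AlgSt.subIncl 𝒳 (Q i))) := by
  haveI := Groth.Agent.AlgSt88.compactSpace_points_of_isQuasiCompact hQ'.2.1 hqc
  obtain ⟨s, hs⟩ := (isCompact_range (Groth.Agent.AlgSt88.continuous_map h𝒳 (AlgSt.subIncl 𝒳 Q'))).elim_finite_subcover
    (fun i => Set.range (AlgSt.Points.map (AlgSt.subIncl 𝒳 (Q i))))
    (fun i => Groth.Agent.AlgSt88.isOpen_range_substack h𝒳 (hQ i)) hcov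
  exact ⟨s, hs⟩

end Groth.Agent.S12862
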