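import Groth.Statements.S12876
import Groth.Agent.AlgSt88.EquivRep
import Groth.Agent.AlgSt88.FpMap
import Groth.Agent.AlgSt88.EquivCrit

set_option autoImplicit false
set_option backward.isDefEq.respectTransparency false
set_option backward.isDefEq.respectTransparency.types false
open CategoryTheory AlgebraicGeometry
universe u
open AlgSt

namespace Groth.Agent.S12876

/-- Let `i : 𝒳 ⟶ 𝒳'` and `g : 𝒳' ⟶ 𝒴` be 1-morphisms of algebraic stacks over `S` with `i` a
monomorphism. Then the square whose top is the diagonal `𝒳 ⟶ 𝒳 ×_𝒴 𝒳` of `g ∘ i`, whose left side is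
`i`, whose right side is the 1-morphism `𝒳 ×_𝒴 𝒳 ⟶ 𝒳' ×_𝒴 𝒳'` induced by `i` on both factors and
whose bottom is the diagonal of `g` (it commutes strictly, the 2-cell being the identity) is
2-cartesian: the induced 1-morphism from `𝒳` to the 2-fibre product is an equivalence over
`(Sch/S)`. -/
theorem result {S : Scheme.{u}} {𝒳 𝒳' 𝒴 : AlgSt.Cat S}
    (h𝒳 : AlgSt.IsAlgStack Scheme.fppfPrecoverage 𝒳) (h𝒳' : AlgSt.IsAlgStack Scheme.fppfPrecoverage 𝒳') (h𝒴 : AlgSt.IsAlgStack Scheme.fppfPrecoverage 𝒴)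
    (i : 𝒳 ⥤ᵇ 𝒳') (g : 𝒳' ⥤ᵇ 𝒴) (hi : AlgSt.IsMono i) :
    FibCat.IsTwoCartOver
      (F := (FibCat.fpLift (BasedFunctor.comp (FibCat.fpFst (BasedFunctor.comp i g) (BasedFunctor.comp i g)) i)
        (BasedFunctor.comp (FibCat.fpSnd (BasedFunctor.comp i g) (BasedFunctor.comp i g)) i) (FibCat.fpIso (BasedFunctor.comp i g) (BasedFunctor.comp i g))))
      (G := FibCat.diag g) (FibCat.diag (BasedFunctor.comp i g)) i (Iso.refl _) := by
  haveI := Groth.Agent.AlgSt88.full_of_isMono h𝒳.isStack.1 h𝒳'.isStack.1 hi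
  haveI := Groth.Agent.AlgSt88.faithful_of_isMono h𝒳.isStack.1 h𝒳'.isStack.1 hi
  refine Groth.Agent.AlgSt88.IsEquivData.isEquivOver ⟨?_, ?_, ?_⟩
  · intro x x' a b h
    exact i.toFunctor.map_injective (congrArg (fun t => t.hom.snd) h)
  · intro x x' k
    have h1 : i.map k.hom.fst.hom.fst ≫ 𝟙 (i.obj x') = 𝟙 (i.obj x) ≫ k.hom.snd :=
      congrArg (fun t => t.hom.fst) k.hom.w
    have h2 : i.map k.hom.fst.hom.snd ≫ 𝟙 (i.obj x') = 𝟙 (i.obj x) ≫ k.hom.snd :=
      congrArg (fun t => t.hom.snd) k.hom.w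
    replace h1 : i.map k.hom.fst.hom.fst = k.hom.snd :=
      (Category.comp_id _).symm.trans (h1.trans (Category.id_comp _))
    replace h2 : i.map k.hom.fst.hom.snd = k.hom.snd :=
      (Category.comp_id _).symm.trans (h2.trans (Category.id_comp _))
    have h3 : k.hom.fst.hom.fst = k.hom.fst.hom.snd := i.toFunctor.map_injective (h1.trans h2.symm)
    exact ⟨k.hom.fst.hom.fst, Groth.Agent.AlgSt88.fpHom_ext
      (Groth.Agent.AlgSt88.fpHom_ext rfl h3) h1⟩
  · intro z
    let A : i.obj z.obj.fst.obj.fst ≅ z.obj.snd :=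
      { hom := z.obj.iso.hom.hom.fst
        inv := z.obj.iso.inv.hom.fst
        hom_inv_id := congrArg (fun t => t.hom.fst) z.obj.iso.hom_inv_id
        inv_hom_id := congrArg (fun t => t.hom.fst) z.obj.iso.inv_hom_id }
    let B : i.obj z.obj.fst.obj.snd ≅ z.obj.snd :=
      { hom := z.obj.iso.hom.hom.snd
        inv := z.obj.iso.inv.hom.snd
        hom_inv_id := congrArg (fun t => t.hom.snd) z.obj.iso.hom_inv_id
        inv_hom_id := congrArg (fun t => t.hom.snd) z.obj.iso.inv_hom_id }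
    have hw : g.map A.hom ≫ 𝟙 _ = z.obj.fst.obj.iso.hom ≫ g.map B.hom := z.obj.iso.hom.hom.w
    let j : z.obj.fst.obj.fst ≅ z.obj.fst.obj.snd := i.toFunctor.preimageIso (A ≪≫ B.symm)
    have hj : i.map j.hom = A.hom ≫ B.inv := i.toFunctor.map_preimage _
    refine ⟨z.obj.fst.obj.fst, Groth.Agent.AlgSt88.fpObjIso
      (Groth.Agent.AlgSt88.fpObjIso (Iso.refl _) j ?_) A ?_,
      Groth.Agent.AlgSt88.fp_isHomLift _ (Groth.Agent.AlgSt88.fp_isHomLift _ (IsHomLift.id rfl))⟩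
    · change g.map (i.map (𝟙 _)) ≫ z.obj.fst.obj.iso.hom = 𝟙 _ ≫ g.map (i.map j.hom)
      rw [Category.comp_id] at hw
      rw [Groth.Agent.AlgSt88.map_id' i, Groth.Agent.AlgSt88.map_id' g, hj, g.map_comp, hw, Category.id_comp,
        Category.id_comp, Category.assoc, ← g.map_comp, B.hom_inv_id, Groth.Agent.AlgSt88.map_id' g]
      exact (Category.comp_id _).symm
    · apply Groth.Agent.AlgSt88.fpHom_ext
      · change i.map (𝟙 _) ≫ A.hom = 𝟙 _ ≫ A.hom
        rw [Groth.Agent.AlgSt88.map_id' i]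
      · change i.map j.hom ≫ B.hom = 𝟙 _ ≫ A.hom
        rw [hj, Category.assoc, B.inv_hom_id, Category.comp_id, Category.id_comp]

end Groth.Agent.S12876
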