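import Groth.Statements.S12879
import Groth.Agent.RB70.ExtZQCoh

set_option autoImplicit false
set_option backward.isDefEq.respectTransparency.types false
universe u
open CategoryTheory CategoryTheory.Limits TopologicalSpace AlgebraicGeometry
open Coherent

namespace Groth.Agent.S12879

/-- Let X be a locally Noetherian scheme, Z a closed subset with open complement U, F a coherent
O_X-module and G a quasi-coherent O_X-module. Then for every i the local Ext sheaf with supports
ℰxt^i_Z(F, G), the i-th right derived functor of N ↦ Γ_Z(ℋom(F, N)) on O_X-modules evaluated at G,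
is quasi-coherent. (The published statement allows Z locally closed; this row takes Z closed. The
internal Hom functor of F and injective resolutions of O_X-modules are the stated instance
hypotheses, both true.) -/
theorem result (X : Scheme.{u}) [IsLocallyNoetherian X] (U : X.Opens)
    (F G : X.Modules) (hF : Coh.IsCoh F) (hG : Coh.IsQCoh G)
    [ModSite.HasSheafHom (O := X.sheaf) F] [HasInjectiveResolutions (ModSite.Mod X.sheaf)] (i : ℕ) :
    Coh.IsQCoh ((ModSite.extZSh (O := X.sheaf) U F i).obj G) := by
  haveI : HasInjectiveResolutions X.Modules := ‹HasInjectiveResolutions (ModSite.Mod X.sheaf)›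
  haveI := Groth.Agent.QC70.additive_homFunctor F
  let D : X.Modules ⥤ X.Modules := Groth.Agent.QC70.homFunctor F ⋙ Groth.Agent.RB70.supp U
  let T : X.Modules ⥤ X.Modules := ModSite.sheafHom (O := X.sheaf) F
  haveI : T.Additive := Functor.additive_of_iso (Groth.Agent.QC70.sheafHomIso' F).symm
  let e : T ⋙ Groth.Agent.RB70.supp U ≅ D :=
    Functor.isoWhiskerRight (Groth.Agent.QC70.sheafHomIso' F) (Groth.Agent.RB70.supp U)
  haveI : G.IsQuasicoherent := hG
  exact Groth.Agent.QC70.isQuasicoherent_of_iso
    ({ hom := (NatTrans.rightDerived e.inv i).app G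
       inv := (NatTrans.rightDerived e.hom i).app G
       hom_inv_id := by
        rw [← NatTrans.comp_app, ← NatTrans.rightDerived_comp, e.inv_hom_id, NatTrans.rightDerived_id]
        rfl
       inv_hom_id := by
        rw [← NatTrans.comp_app, ← NatTrans.rightDerived_comp, e.hom_inv_id, NatTrans.rightDerived_id]
        rfl } : (D.rightDerived i).obj G ≅ ((T ⋙ Groth.Agent.RB70.supp U).rightDerived i).obj G)
    (Groth.Agent.RB70.isQuasicoherent_rightDerived_supp_hom U hF i G ‹_›)

end Groth.Agent.S12879
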