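import Groth.Statements.S12880
import Groth.Agent.QC70.ExtCoh
import Groth.Agent.GSS45.UGen

set_option autoImplicit false
set_option backward.isDefEq.respectTransparency.types false
set_option linter.style.haveILetI false
universe u
open CategoryTheory CategoryTheory.Limits TopologicalSpace AlgebraicGeometry
open Coherent

namespace Groth.Agent.S12880

/-- `𝓗om(F, N)` is killed by the complement of the support of `F`. -/
theorem isNullOn_homMod {X : Scheme.{u}} (U : X.Opens) (F N : X.Modules)
    (hsupp : ∀ x ∈ CohB1.support F, x ∉ (U : Set X)) :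
    ModSite.IsNullOn X.sheaf U (QC70.homMod F N) := by
  refine (ExtSupp.isNullOn_iff X.sheaf U _).2 fun W g φ => ?_
  refine QC70.HomOn.ext' fun V hV s => ?_
  have hs : s = (0 : Γ(F, V)) := QC70.section_ext F _ _ fun q hq => by
    haveI : Subsingleton (F.presheaf.stalk q) := not_not.1 fun h => hsupp q h (g.le (hV hq))
    obtain ⟨V', hV', hqV', h1⟩ := QC70.germM_eq_zero (M := F) (hx := hq) (s := s) (Subsingleton.elim _ _)
    exact ⟨V', hV', hqV', h1.trans (QC70.res_zero hV').symm⟩
  rw [hs, map_zero]
  exact (map_zero _).symm

/-- Let X be a locally Noetherian scheme, Y a closed subset with open complement U, and F, G coherent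
O_X-modules such that the support of F is contained in Y (no point of U has a non-zero stalk of F).
Then for every i the local Ext sheaf with supports ℰxt^i_Y(F, G) is coherent. (Internal Hom of F and
injective resolutions of O_X-modules are the stated instance hypotheses, both true.) -/
theorem result (X : Scheme.{u}) [IsLocallyNoetherian X] (U : X.Opens)
    (F G : X.Modules) (hF : Coh.IsCoh F) (hG : Coh.IsCoh G)
    (hsupp : ∀ x ∈ CohB1.support F, x ∉ (U : Set X))
    [ModSite.HasSheafHom (O := X.sheaf) F] [HasInjectiveResolutions (ModSite.Mod X.sheaf)] (i : ℕ) :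
    Coh.IsCoh ((ModSite.extZSh (O := X.sheaf) U F i).obj G) := by
  let T := ModSite.sheafHom (O := X.sheaf) F
  let S := ModSite.sectOn X.sheaf U
  let ι : T ⋙ S ⟶ T := Functor.whiskerLeft T (ModSite.sectOnι X.sheaf U) ≫ T.rightUnitor.hom
  haveI : IsIso ι := by
    have : ∀ N, IsIso (ι.app N) := fun N => by
      have hnull : IsZero ((ModSite.restr X.sheaf U).obj (T.obj N)) :=
        IsZero.of_iso (isNullOn_homMod U F N hsupp)
          ((ModSite.restr X.sheaf U).mapIso ((QC70.sheafHomIso' F).app N))
      haveI : (ModSite.pushOver X.sheaf U).PreservesZeroMorphisms :=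
        Functor.preservesZeroMorphisms_of_isRightAdjoint _
      have h0 : (ModSite.restrPushOverAdj X.sheaf U).unit.app (T.obj N) = 0 :=
        ((ModSite.pushOver X.sheaf U).map_isZero hnull).eq_of_tgt _ _
      have : IsIso (kernel.ι ((ModSite.restrPushOverAdj X.sheaf U).unit.app (T.obj N))) :=
        kernel.ι_of_zero h0
      change IsIso (kernel.ι _ ≫ 𝟙 _)
      rw [Category.comp_id]
      exact this
    exact NatIso.isIso_of_isIso_app _
  exact QC70.isCoh_of_iso
    ({ hom := (NatTrans.rightDerived (inv ι) i).app G
       inv := (NatTrans.rightDerived ι i).app G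
       hom_inv_id := by
        rw [← NatTrans.comp_app, ← NatTrans.rightDerived_comp, IsIso.inv_hom_id,
          NatTrans.rightDerived_id]
        rfl
       inv_hom_id := by
        rw [← NatTrans.comp_app, ← NatTrans.rightDerived_comp, IsIso.hom_inv_id,
          NatTrans.rightDerived_id]
        rfl } : (T.rightDerived i).obj G ≅ ((T ⋙ S).rightDerived i).obj G)
    (QC70.isCoh_extSh F G hF hG i)

end Groth.Agent.S12880
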