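import Groth.Statements.S12903
import Groth.Agent.LC16.GammaZQCoh
import Mathlib.RingTheory.Finiteness.Ideal

set_option autoImplicit false
set_option maxSynthPendingDepth 6
set_option linter.style.haveILetI false
set_option backward.isDefEq.respectTransparency.types false
universe u
open CategoryTheory CategoryTheory.Limits AlgebraicGeometry Opposite
open Coherent

namespace Groth.Agent.S12903

/-- Let X be a scheme, j : U → X a quasi-compact open immersion with closed complement Z, F a
quasi-coherent O_X-module, V an affine open of X and I a finitely generated ideal of Γ(V, O_X)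
cutting out Z ∩ V (a point of V lies outside U if and only if it lies in no basic open X_f with f ∈
I). Then a section s of F over V belongs to the subsheaf Γ_Z(F) of sections supported in Z (the
kernel of F → j_*(F|_U)) if and only if I^n s = 0 for some n. -/
theorem result {U X : Scheme.{u}} (j : U ⟶ X) [IsOpenImmersion j] [QuasiCompact j]
    (F : X.Modules) (hF : Coh.IsQCoh F) (V : X.Opens) (hV : IsAffineOpen V)
    (I : Ideal (X.ringCatSheaf.obj.obj (op V))) (hI : I.FG)
    (hZ : ∀ x : X, x ∈ V → (x ∉ Set.range j.base ↔ ∀ f ∈ I, x ∉ X.basicOpen (f : Γ(X, V))))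
    (s : F.val.obj (op V)) :
    s ∈ Set.range ((((CxOX.gammaZι j).app F).val.app (op V)).hom) ↔ ∃ n : ℕ, ∀ a ∈ I ^ n, a • s = 0 := by
  haveI : F.IsQuasicoherent := hF
  let η := (Scheme.Modules.restrictAdjunction j).unit.app F
  let s' : Γ(F, V) := s
  let W : X.Opens := j ''ᵁ (j ⁻¹ᵁ V)
  have hW : W ≤ V := j.image_preimage_le V
  have hloc := Groth.Agent.QC70.isLocAt_of_isQuasicoherent F hV
  have hres : η.app V s' = 0 ↔ Groth.Agent.QC70.res F hW s' = 0 := by
    rw [show η.app V = _ from Scheme.Modules.restrictAdjunction_unit_app_app j F V]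
    rfl
  let I' : Ideal Γ(X, V) := I
  have hcov : ∀ f ∈ I', X.basicOpen f ≤ W := fun f hf x hx => by
    have hxV : x ∈ V := X.basicOpen_le f hx
    obtain ⟨u, hu⟩ : x ∈ Set.range j.base := by
      by_contra h
      exact (hZ x hxV).1 h f hf hx
    exact ⟨u, show j.base u ∈ V from hu.symm ▸ hxV, hu⟩
  have main : Groth.Agent.QC70.res F hW s' = 0 ↔ ∃ n : ℕ, ∀ a ∈ I' ^ n, a • s' = 0 := by
    constructor
    · intro h
      let J : Ideal Γ(X, V) := LinearMap.ker (LinearMap.toSpanSingleton Γ(X, V) Γ(F, V) s')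
      have hrad : I' ≤ J.radical := fun f hf => by
        have h1 : Groth.Agent.QC70.res F (X.basicOpen_le f) s' = 0 := by
          rw [← Groth.Agent.QC70.res_res hW (hcov f hf), h, Groth.Agent.QC70.res_zero]
        obtain ⟨n, hn⟩ := hloc.eq_zero_of f s' h1
        exact ⟨n, by simpa [J, LinearMap.mem_ker] using hn⟩
      obtain ⟨n, hn⟩ := Ideal.exists_pow_le_of_le_radical_of_fg hrad (show I'.FG from hI)
      exact ⟨n, fun a ha => by simpa [J, LinearMap.mem_ker] using hn ha⟩
    · rintro ⟨n, hn⟩
      refine Groth.Agent.QC70.section_ext F _ _ fun x hx => ?_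
      obtain ⟨u, huV, hu⟩ := hx
      have hxV : x ∈ V := hW ⟨u, huV, hu⟩
      obtain ⟨f, hf, hxf⟩ : ∃ f ∈ I', x ∈ X.basicOpen f := by
        by_contra h
        exact (hZ x hxV).2 (fun f hf hxf => h ⟨f, hf, hxf⟩) ⟨u, hu⟩
      refine ⟨X.basicOpen f, hcov f hf, hxf, ?_⟩
      rw [Groth.Agent.QC70.res_zero, Groth.Agent.QC70.res_res]
      have h1 := congrArg (Groth.Agent.QC70.res F (X.basicOpen_le f)) (hn (f ^ n) (Ideal.pow_mem_pow hf n))
      rw [Groth.Agent.QC70.res_smul, Groth.Agent.QC70.res_zero, Groth.Agent.QC70.resO_pow] at h1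
      have hu : IsUnit (Groth.Agent.QC70.resO X (X.basicOpen_le f) f) := RingedSpace.isUnit_res_basicOpen _ f
      exact (IsUnit.smul_eq_zero (hu.pow n)).1 h1
  refine Iff.trans ⟨fun h => ?_, fun h => ?_⟩ main
  · obtain ⟨y, hy⟩ := h
    have hy' : (Limits.kernel.ι η).app V y = s' := hy
    rw [← hres, ← hy']
    exact congr(Scheme.Modules.Hom.app $(Limits.kernel.condition η) V y)
  · exact Groth.Agent.QC70.exists_kernel_app_eq η V s' (hres.2 h)

end Groth.Agent.S12903
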