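import Groth.Statements.S12905
import Groth.Agent.Var76.RegTools
import Groth.Agent.Serre71.ProjFinite
import Groth.Agent.QC70.CohOps

set_option autoImplicit false
universe u
open CategoryTheory CategoryTheory.Limits AlgebraicGeometry
open Variety

namespace Groth.Agent.S12905

/-- Let k be a field and φ : F' → F a monomorphism of coherent modules on P^n_k whose cokernel has
support of Krull dimension at most zero (a finite set of closed points, possibly empty). If F' is
m-regular then F is m-regular. (The published statement is the case of an ideal sheaf contained in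
the ideal sheaf of a curve with quotient supported at finitely many points, phrased as an inequality
of regularities; the argument gives the form stated here.) -/
theorem result (k : Type u) [Field k] (n : ℕ)
    (F' F : (CohB1.ProjSpace n k).Modules) (hF' : Coh.IsCoh F') (hF : Coh.IsCoh F) (φ : F' ⟶ F) [Mono φ]
    (hsupp : topologicalKrullDim (CohB1.support (cokernel φ)) ≤ 0) (m : ℤ)
    (h : Curv2.IsMRegular k n F' m) : Curv2.IsMRegular k n F m := by
  intro i hi hin
  have hproper := Serre71.isProper_projSpace n k
  have : IsLocallyNoetherian (CohB1.ProjSpace n k) :=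
    LocallyOfFiniteType.isLocallyNoetherian (CohB1.ProjSpace.toSpec n k)
  have : CompactSpace (CohB1.ProjSpace n k) :=
    QuasiCompact.compactSpace_of_compactSpace (CohB1.ProjSpace.toSpec n k)
  have : IsNoetherian (CohB1.ProjSpace n k) := { }
  have hC := QC70.isCoh_cokernel φ hF'.1 hF
  have := hC.2
  obtain ⟨hfin, hcl⟩ := Var76.Reg.finite_and_isClosed_singleton_of_dim_le_zero
    (QC70.isClosed_support (cokernel φ)) hsupp
  have hsup : Crv77.SuppIn (cokernel φ) (CohB1.support (cokernel φ)) := fun x hx => not_not.1 hx
  obtain ⟨i', rfl⟩ : ∃ i', i = i' + 1 := ⟨i - 1, by omega⟩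
  obtain ⟨e⟩ := hsup.nonempty_iso_tensorMod hfin hcl
    (Var76.Reg.isInvertible_twist (n := n) (A := k) (m - (i' + 1 : ℕ)))
  have hS : (ShortComplex.mk φ (cokernel.π φ) (cokernel.condition φ)).ShortExact :=
    { exact := ShortComplex.exact_of_g_is_cokernel _ (cokernelIsCokernel φ) }
  exact Var76.Reg.sub_tw_X₂ hS (h _ hi hin)
    (ValVan29.subsingleton_hh_of_iso e _ (hsup.subsingleton_HH hfin hcl i'))

end Groth.Agent.S12905
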