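import Groth.Statements.S12910
import Groth.Agent.Var76.RegChase

set_option autoImplicit false
universe u
open CategoryTheory CategoryTheory.Limits AlgebraicGeometry
open Variety

namespace Groth.Agent.S12910

open CategoryTheory

/-- Let k be a field, d an integer, and E a bounded chain complex ⋯ → E_2 → E_1 → E_0 of coherent
modules on P^n_k (E_s = 0 for s large) such that E_s is (d + s)-regular for every s and, for every i
> 0, the homology sheaf H_i(E) has support of Krull dimension at most 1. Then the cokernel of E_1 →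
E_0 is d-regular and the image of E_1 → E_0 is (d + 1)-regular. -/
theorem result (k : Type u) [Field k] (n : ℕ)
    (E : ChainComplex ((CohB1.ProjSpace n k).Modules) ℕ) (t : ℕ) (hbdd : ∀ s : ℕ, t < s → IsZero (E.X s))
    (hcoh : ∀ s : ℕ, Coh.IsCoh (E.X s)) (d : ℤ)
    (hreg : ∀ s : ℕ, Curv2.IsMRegular k n (E.X s) (d + s))
    (hsupp : ∀ i : ℕ, 0 < i → topologicalKrullDim (CohB1.support (E.homology i)) ≤ 1) :
    Curv2.IsMRegular k n (cokernel (E.d 1 0)) d ∧
      Curv2.IsMRegular k n (Abelian.image (E.d 1 0)) (d + 1) := by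
  have hr : ∀ s : ℕ, Var76.Reg.Reg n k (E.X s) (d + s) := fun s => (Var76.Reg.isMRegular_iff (hcoh s).1).1 (hreg s)
  have hB := Var76.Reg.reg_boundary E hcoh d t hbdd hr hsupp t 0 (by omega)
  simp only [Nat.cast_zero, add_zero, zero_add] at hB
  have hI := Var76.Reg.isCoh_image (E.d 1 0) (hcoh 1) (hcoh 0)
  refine ⟨(Var76.Reg.isMRegular_iff (QC70.isCoh_cokernel (E.d 1 0) (hcoh 1).1 (hcoh 0)).1).2 ?_,
    (Var76.Reg.isMRegular_iff hI.1).2 hB⟩
  have hS : (ShortComplex.mk (Abelian.image.ι (E.d 1 0)) (cokernel.π (E.d 1 0)) (kernel.condition _)).ShortExact :=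
    { exact := ShortComplex.exact_of_f_is_kernel _ (kernelIsKernel (cokernel.π (E.d 1 0))) }
  intro i hi
  refine Var76.Reg.sub_tw_X₃ hS ?_ ?_
  · have := hr 0 i hi
    simpa using this
  · exact hB.vanish hI.1 (by omega) (by push_cast; omega)

end Groth.Agent.S12910
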