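import Groth.Statements.S12912
import Groth.Agent.Curves2.CurveToolkit
import Groth.Agent.Curves2.PullSections
import Groth.Agent.Pn71.Cohomology
import Groth.Agent.Forms14.Basic
import Groth.Agent.Var76.RegTools
import Groth.Agent.Amp73.PullTensor

set_option autoImplicit false
universe u
open CategoryTheory CategoryTheory.Limits AlgebraicGeometry
open Curves

namespace Groth.Agent.S12912

/-- Let k be an algebraically closed field and X a curve over k (integral, proper over k, of dimension
one) with a closed immersion i : X → P^r_k over k whose image lies in no hyperplane: every nonzero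
global section of O(1) on P^r_k pulls back to a nonzero global section of i^* O(1). Then deg i^*
O(1) ≥ r. -/
theorem result (k : Type u) [Field k] [IsAlgClosed k] (r : ℕ)
    (X : Scheme.{u}) [X.Over (Spec (CommRingCat.of k))] [IsIntegral X] [IsProper (X ↘ (Spec (CommRingCat.of k)))]
    (hdim : topologicalKrullDim X = 1)
    (i : X ⟶ CohB1.ProjSpace r k) [IsClosedImmersion i]
    (hi : i ≫ CohB1.ProjSpace.toSpec r k = (X ↘ (Spec (CommRingCat.of k))))
    (hplane : ∀ s : LinSer.Sect (CohB1.ProjSpace r k) (Twist.twistProjSpace r k 1), s ≠ 0 →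
      OmegaSh.pullSect i (Twist.twistProjSpace r k 1) ⊤ s ≠ 0) :
    (r : ℤ) ≤ Curv2.deg k X ((Scheme.Modules.pullback i).obj (Twist.twistProjSpace r k 1)) 1 := by
  have : IsNoetherian X := Crv77.isNoetherian_of_proper k X
  have hC := Crv77.curveCoh_of_proper k X hdim.le
  have hO := Groth.Agent.Curves2.finrank_h0_structureModule k (X := X)
  set L := (Scheme.Modules.pullback i).obj (Twist.twistProjSpace r k 1)
  have hL : PicF.IsInvertible L :=
    Amp73.isInvertible_pullback i (Var76.Reg.isInvertible_twist (n := r) (A := k) 1)
  let ψ := Groth.Agent.Curves2.h0PullSect k i hi (Twist.twistProjSpace r k 1)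
  have hψ : Function.Injective ψ :=
    Groth.Agent.Curves2.h0PullSect_injective k i hi _ hplane
  let e := (Groth.Agent.Pn71.hhZeroEquivNonneg r k (1 : ℤ) (by norm_num)).trans
    (Groth.Agent.Pn71.homogEquiv k 1 _ (Groth.Agent.Pn71.posCellEquiv 1))
  have := hC.finite L (Crv77.isCoh_of_isInvertible hL) 0
  have h1 : Module.finrank k (MvPolynomial.homogeneousSubmodule (Fin (r + 1)) k 1) = r + 1 := by
    rw [Groth.Agent.Forms14.finrank_homogeneousSubmodule]; simp
  have h2 : r + 1 ≤ Module.finrank k (Coh.HH X L 0) := by
    rw [← h1, ← e.finrank_eq]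
    exact LinearMap.finrank_le_finrank_of_injective hψ
  have : Nontrivial (Coh.HH X L 0) := Module.nontrivial_of_finrank_pos (R := k) (by omega)
  have h3 := hC.h0_le_deg_add_one hdim.le hO hL this
  simp only [Crv77.h] at h3
  omega

end Groth.Agent.S12912
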