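import Groth.Statements.S12914
import Groth.Agent.Forms14.Points

set_option autoImplicit false
universe u
open CAlgX

namespace Groth.Agent.S12914

/-- Let k be a field, Z a finite set of nonzero vectors in k^3, regarded as points of the projective
plane, and I the homogeneous vanishing ideal of Z in k[x_0, x_1, x_2]: a polynomial belongs to I
exactly when every one of its homogeneous components vanishes at every vector of Z. If Z lies on a
curve of degree d, that is I contains a nonzero homogeneous form of degree d, then I is generated by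
at most d + 1 elements. -/
theorem result (k : Type u) [Field k]
    (Z : Finset (Fin 3 → k)) (hZ : ∀ p ∈ Z, p ≠ 0) (I : Ideal (MvPolynomial (Fin 3) k))
    (hI : ∀ f : MvPolynomial (Fin 3) k, f ∈ I ↔
      ∀ p ∈ Z, ∀ j : ℕ, MvPolynomial.eval p (MvPolynomial.homogeneousComponent j f) = 0)
    (d : ℕ) (hf : ∃ f ∈ I, MvPolynomial.IsHomogeneous f d ∧ f ≠ 0) :
    Submodule.spanFinrank I ≤ d + 1 := by
  classical
  obtain ⟨f, hfI, hfh, hf0⟩ := hf
  obtain ⟨t, Ψ, π, h1, h2, h3, h4⟩ := Groth.Agent.Forms14.exists_resolution_points Z hZ I hI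
  have htd : t ≤ d := h4 d f hfI hfh hf0
  have hspan : I = Submodule.span (MvPolynomial (Fin 3) k) (Set.range fun i => π (Pi.single i 1)) := by
    rw [← h3]
    refine le_antisymm ?_ (Submodule.span_le.2 (Set.range_subset_iff.2 fun i => LinearMap.mem_range_self π _))
    rintro _ ⟨v, rfl⟩
    rw [pi_eq_sum_univ' v, map_sum]
    exact Submodule.sum_mem _ fun i _ => by rw [map_smul]; exact Submodule.smul_mem _ _ (Submodule.subset_span ⟨i, rfl⟩)
  rw [hspan]
  refine ((Submodule.spanFinrank_span_le_ncard_of_finite (Set.finite_range _)).trans ?_).trans (Nat.succ_le_succ htd)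
  rw [← Set.image_univ]
  exact (Set.ncard_image_le Set.finite_univ).trans (by simp)

end Groth.Agent.S12914
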