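import Groth.Statements.S12918
import Groth.Agent.Comod33.Reynolds
-- import your own Groth.Agent.* helpers here

set_option autoImplicit false
universe u v w
open HopfRep
open scoped TensorProduct

namespace Groth.Agent.S12918

/-- Let `k` be a commutative ring, `A` a commutative Hopf algebra over `k`, flat as a `k`-module and `B`
a commutative `k`-algebra with a coaction `ρ : B → B ⊗ A` that is an algebra map (an action of the
affine group scheme `Spec A` on `Spec B`). Then the action admits a total integral — a comodule map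
`α : A → B`, for the regular coaction on `A`, with `α 1 = 1` — if and only if `ρ` has a left inverse
`B ⊗ A → B` which is a comodule map for the coaction `id ⊗ Δ` on `B ⊗ A`. -/
theorem result
    (k : Type u) [CommRing k] (A : Type v) [CommRing A] [HopfAlgebra k A] [Module.Flat k A]
    (B : Type w) [CommRing B] [Algebra k B] [HopfRep.Comod k A B] [GLin.IsCoactAlg k A B] :
    (∃ α : A →ₗ[k] B, Hoch.IsComodHom A α ∧ α 1 = 1) ↔
      ∃ lam : Hoch.Ind k A B →ₗ[k] B, Hoch.IsComodHom A lam ∧ lam ∘ₗ Hoch.toInd k A B = LinearMap.id := by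
  constructor
  · rintro ⟨α, hα, hα1⟩
    have := Comod33.Avg.isHopfMod_self (k := k) (A := A) (B := B)
    exact ⟨Comod33.Avg.avgInd α, Comod33.Avg.isComodHom_avgInd hα,
      LinearMap.ext fun b => Comod33.Avg.avg_coact hα1 b⟩
  · rintro ⟨lam, hlam, hlam1⟩
    refine ⟨lam ∘ₗ (Hoch.Ind.equiv k A B).toLinearMap ∘ₗ TensorProduct.mk k B A 1, ?_, ?_⟩
    · refine Comod33.isComodHom_comp (φ := (Hoch.Ind.equiv k A B).toLinearMap ∘ₗ TensorProduct.mk k B A 1) ?_ hlam
      unfold Hoch.IsComodHom
      rw [Hoch.Ind.coact_eq]
      ext a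
      show Hoch.Ind.coactAux k A B ((1 : B) ⊗ₜ[k] a) =
        ((Hoch.Ind.equiv k A B).toLinearMap ∘ₗ TensorProduct.mk k B A 1).rTensor A (CoalgebraStruct.comul (R := k) a)
      rw [Hoch.Ind.coactAux_tmul]
      generalize CoalgebraStruct.comul (R := k) a = z
      induction z with
      | zero => simp; rfl
      | tmul p q => simp [Hoch.Ind.equiv]; rfl
      | add p q hp hq => simp only [map_add, TensorProduct.tmul_add, hp, hq]; rfl
    · have h1 := LinearMap.congr_fun hlam1 (1 : B)
      simp only [LinearMap.comp_apply, LinearMap.id_apply, Hoch.toInd, LinearEquiv.coe_coe] at h1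
      rw [GLin.IsCoactAlg.coact_one, Algebra.TensorProduct.one_def] at h1
      exact h1

end Groth.Agent.S12918
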