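import Groth.Statements.S12923
import Groth.Agent.Comod33.Reynolds
-- import your own Groth.Agent.* helpers here

set_option autoImplicit false
universe u v w
open HopfRep
open scoped TensorProduct

namespace Groth.Agent.S12923

/-- Let `k` be a commutative ring, `A` a commutative Hopf algebra over `k`, flat as a `k`-module, `B` a
commutative `k`-algebra with a coaction of `A` that is an algebra map and admits a total integral (a
comodule map `α : A → B` with `α 1 = 1`), `C = B^A`, and `b` an ideal of `B` which is a subcomodule
(a closed subscheme of `Spec B` stable under the action). Then the image of `V(b)` under `Spec B →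
Spec C` is the closed set `V(b ∩ C)`. (The published statement assumes only that taking invariants
is exact on `(B, A)`-modules; a total integral, assumed here, gives that exactness.) -/
theorem result
    (k : Type u) [CommRing k] (A : Type v) [CommRing A] [HopfAlgebra k A] [Module.Flat k A]
    (B : Type w) [CommRing B] [Algebra k B] [HopfRep.Comod k A B] [GLin.IsCoactAlg k A B]
    (htame : ∃ α : A →ₗ[k] B, Hoch.IsComodHom A α ∧ α 1 = 1)
    (b : Ideal B) (hb : HopfRep.IsSubcomod (k := k) (A := A) (b.restrictScalars k)) :
    PrimeSpectrum.comap (algebraMap (GLin.invariants k A B) B) '' PrimeSpectrum.zeroLocus (b : Set B) =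
      PrimeSpectrum.zeroLocus ((b.comap (algebraMap (GLin.invariants k A B) B) : Ideal (GLin.invariants k A B)) : Set (GLin.invariants k A B)) := by
  obtain ⟨α, hα, hα1⟩ := htame
  set f := algebraMap (GLin.invariants k A B) B
  apply Set.Subset.antisymm
  · rintro _ ⟨q, hq, rfl⟩
    rw [PrimeSpectrum.mem_zeroLocus] at hq ⊢
    exact fun x hx => hq hx
  · intro p hp
    rw [PrimeSpectrum.mem_zeroLocus] at hp
    have hret : ∀ x ∈ b, Comod33.Avg.retract α hα x ∈ p.asIdeal := fun x hx =>
      hp (show Comod33.Avg.avg α (x ⊗ₜ[k] 1) ∈ b from Comod33.Avg.avg_mem (U := b) hb α hx 1)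
    have hle := Comod33.Avg.comap_map_eq hα hα1 b p.asIdeal hret
    let g := (Ideal.Quotient.mk b).comp f
    have hg : (p.asIdeal.map g).comap g = p.asIdeal := by
      refine le_antisymm (fun x hx => hle ?_) Ideal.le_comap_map
      rw [Ideal.mem_comap, show p.asIdeal.map g = (p.asIdeal.map f).map (Ideal.Quotient.mk b) from
        (Ideal.map_map _ _).symm, RingHom.comp_apply, ← Ideal.mem_comap,
        Ideal.comap_map_of_surjective' _ Ideal.Quotient.mk_surjective, Ideal.mk_ker] at hx
      exact hx
    obtain ⟨q, hq, hq'⟩ := (Ideal.comap_map_eq_self_iff_of_isPrime p.asIdeal).1 hg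
    refine ⟨⟨q.comap (Ideal.Quotient.mk b), Ideal.comap_isPrime _ q⟩, ?_, ?_⟩
    · rw [PrimeSpectrum.mem_zeroLocus]
      intro x hx
      show Ideal.Quotient.mk b x ∈ q
      rw [Ideal.Quotient.eq_zero_iff_mem.2 hx]
      exact q.zero_mem
    · exact PrimeSpectrum.ext hq'

end Groth.Agent.S12923
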