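import Groth.Statements.S12926
import Groth.Agent.Comod33.Avg
-- import your own Groth.Agent.* helpers here

set_option autoImplicit false
universe u v
open HopfRep
open scoped TensorProduct

namespace Groth.Agent.S12926

/-- Let `k` be a commutative ring and `A` a commutative bialgebra over `k`, flat as a `k`-module. If the
submodule `k · 1` of the regular comodule `A` has a complement `H` which is a subcomodule — the case
used when `A` is cosemisimple, i.e. every subcomodule of every comodule is a direct summand as a
comodule — then the trivial action of `Spec A` on `Spec k` is tame: there is a comodule map `α : A →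
k`, for the regular coaction on `A` and the trivial coaction `r ↦ r ⊗ 1` on `k`, with `α 1 = 1`. -/
theorem result
    (k : Type u) [CommRing k] (A : Type v) [CommRing A] [Bialgebra k A] [Module.Flat k A]
    (H : Submodule k A) (hH : HopfRep.IsSubcomod (k := k) (A := A) H)
    (hc : IsCompl (Submodule.span k {(1 : A)}) H) :
    ∃ α : A →ₗ[k] k, @Hoch.IsComodHom k _ A _ _ _ A _ _ _ k _ _ (HopfRep.Comod.trivial k A k) α ∧ α 1 = 1 := by
  have hH_ := hH
  let q : A →ₗ[k] Submodule.span k {(1 : A)} := Submodule.projectionOnto _ _ hc
  let α : A →ₗ[k] k := CoalgebraStruct.counit (R := k) ∘ₗ (Submodule.subtype _) ∘ₗ q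
  have hsplit : ∀ a, (q a : A) = α a • 1 := fun a => by
    obtain ⟨r, hr⟩ := Submodule.mem_span_singleton.1 (q a).2
    simp [α, ← hr]
  have hH0 : ∀ x ∈ H, α x = 0 := fun x hx => by
    have : q x = 0 := (Submodule.projectionOnto_apply_eq_zero_iff hc).2 hx
    simp [α, this]
  have h1 : α 1 = 1 := by
    have : q 1 = ⟨(1 : A), Submodule.mem_span_singleton_self 1⟩ :=
      Submodule.projectionOnto_apply_left hc ⟨(1 : A), Submodule.mem_span_singleton_self 1⟩
    simp [α, this]
  refine ⟨α, ?_, h1⟩
  unfold Hoch.IsComodHom
  ext a
  show α a ⊗ₜ[k] (1 : A) = α.rTensor A (CoalgebraStruct.comul (R := k) a)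
  have hd : a - (q a : A) ∈ H := by
    refine (Submodule.projectionOnto_apply_eq_zero_iff hc).1 ?_
    rw [map_sub, show Submodule.projectionOnto _ _ hc (q a : A) = q a from
      Submodule.projectionOnto_apply_left hc (q a)]
    exact sub_self _
  obtain ⟨y, hy⟩ := hH_ _ hd
  have hzero : α.rTensor A (CoalgebraStruct.comul (R := k) (a - (q a : A))) = 0 := by
    change α.rTensor A (HopfRep.Comod.coact (k := k) (A := A) (a - (q a : A))) = 0
    rw [← hy, ← LinearMap.comp_apply, ← LinearMap.rTensor_comp]
    have : α ∘ₗ H.subtype = 0 := LinearMap.ext fun x => hH0 x x.2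
    rw [this, LinearMap.rTensor_zero, LinearMap.zero_apply]
  rw [map_sub, map_sub, sub_eq_zero, hsplit, map_smul, map_smul, Bialgebra.comul_one,
    Algebra.TensorProduct.one_def, LinearMap.rTensor_tmul, h1, TensorProduct.smul_tmul', smul_eq_mul,
    mul_one] at hzero
  exact hzero.symm

end Groth.Agent.S12926
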