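import Groth.Statements.S12928
import Groth.Agent.Comod33.DualRing
-- import your own Groth.Agent.* helpers here

set_option autoImplicit false
universe u
open HopfRep

namespace Groth.Agent.S12928

open TensorProduct

/-- Let `k` be a commutative ring, `A` a commutative Hopf algebra over `k` which is finite locally free
(finite projective, in particular flat) as a `k`-module, `B` a commutative `k`-algebra with a
coaction of `A` that is an algebra map, and `C = B^A` the ring of invariants; assume `C` Noetherian
and `B` finite and flat over `C`. If taking invariants is exact on `(B, A)`-modules — for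
`B`-modules `M`, `N` with compatible `A`-coactions (in the universe of `k`, `A`, `B`) every
surjective `B`-linear comodule map `M → N` maps `M^A` onto `N^A` — then the action is tame: there is
a comodule map `α : A → B` with `α 1 = 1`. Together with the converse (a total integral makes
invariants exact) this says that tameness of the action is the exactness of invariants. (The
published statement does not assume `B` finite over `C`; its proof uses that finiteness, which is
assumed here.) -/
theorem result
    (k : Type u) [CommRing k] (A : Type u) [CommRing A] [HopfAlgebra k A] [Module.Flat k A]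
    [Module.Finite k A] [Module.Projective k A]
    (B : Type u) [CommRing B] [Algebra k B] [HopfRep.Comod k A B] [GLin.IsCoactAlg k A B]
    [IsNoetherianRing (GLin.invariants k A B)] [Module.Finite (GLin.invariants k A B) B] [Module.Flat (GLin.invariants k A B) B]
    (hexact : ∀ (M N : Type u) [AddCommGroup M] [Module k M] [Module B M] [IsScalarTower k B M]
      [HopfRep.Comod k A M] [TameAct.IsHopfMod k A B M]
      [AddCommGroup N] [Module k N] [Module B N] [IsScalarTower k B N]
      [HopfRep.Comod k A N] [TameAct.IsHopfMod k A B N] (f : M →ₗ[B] N),
      Hoch.IsComodHom A (f.restrictScalars k) → Function.Surjective f →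
      ∀ n ∈ HopfRep.fixedPts k A N, ∃ m ∈ HopfRep.fixedPts k A M, f m = n) :
    ∃ α : A →ₗ[k] B, Hoch.IsComodHom A α ∧ α 1 = 1 := by
  obtain ⟨d, hd⟩ := Comod33.DualRing.exists_isDual (k := k) (A := A) (V := A) inferInstance
  letI : HopfRep.Comod k A (Module.Dual k A) := d
  letI cM : HopfRep.Comod k A (B ⊗[k] Module.Dual k A) :=
    ComodTens.Comod.tensor (inferInstance : HopfRep.Comod k A B) d
  have hrho : ∀ (b : B) (φ : Module.Dual k A),
      HopfRep.Comod.coact (k := k) (A := A) (b ⊗ₜ[k] φ) =
      TensorProduct.map LinearMap.id (LinearMap.mul' k A)
        (AlgebraTensorModule.tensorTensorTensorComm k k k k B A (Module.Dual k A) A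
          (HopfRep.Comod.coact (k := k) (A := A) b ⊗ₜ[k] d.coact φ)) := fun b φ => rfl
  haveI : TameAct.IsHopfMod k A B B := ⟨fun b m => by
    rw [smul_eq_mul, GLin.IsCoactAlg.coact_mul]
    generalize HopfRep.Comod.coact (k := k) (A := A) b = x
    generalize HopfRep.Comod.coact (k := k) (A := A) m = y
    induction x with
    | zero => simp
    | add p q hp hq => simp only [add_mul, map_add, LinearMap.add_apply, hp, hq]
    | tmul p q =>
      induction y with
      | zero => simp
      | add p' q' hp hq => simp only [mul_add, map_add, hp, hq]
      | tmul p' q' => simp⟩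
  haveI : TameAct.IsHopfMod k A B (B ⊗[k] Module.Dual k A) := ⟨fun b m => by
    induction m with
    | zero => simp
    | add p q hp hq => simp only [smul_add, map_add, hp, hq]
    | tmul c φ =>
      rw [TensorProduct.smul_tmul', smul_eq_mul, hrho, hrho, GLin.IsCoactAlg.coact_mul]
      generalize HopfRep.Comod.coact (k := k) (A := A) b = x
      generalize HopfRep.Comod.coact (k := k) (A := A) c = y
      generalize d.coact φ = z
      induction x with
      | zero => simp
      | add p q hp hq => simp only [add_mul, add_tmul, map_add, LinearMap.add_apply, hp, hq]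
      | tmul p q =>
        induction y with
        | zero => simp
        | add p' q' hp hq => simp only [mul_add, add_tmul, map_add, hp, hq]
        | tmul p' q' =>
          induction z with
          | zero => simp
          | add p'' q'' hp hq => simp only [tmul_add, map_add, hp, hq]
          | tmul p'' q'' => simp [mul_assoc, TensorProduct.smul_tmul']⟩
  let f : B ⊗[k] Module.Dual k A →ₗ[B] B :=
    (AlgebraTensorModule.rid k B B).toLinearMap ∘ₗ
      AlgebraTensorModule.map LinearMap.id (Module.Dual.eval k A 1)
  have hfv : ∀ (b : B) (φ : Module.Dual k A), f (b ⊗ₜ[k] φ) = φ 1 • b := fun b φ => by simp [f]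
  have hf : Hoch.IsComodHom A (f.restrictScalars k) := by
    refine TensorProduct.ext' fun b φ => ?_
    simp only [LinearMap.comp_apply, LinearMap.restrictScalars_apply, hfv, hrho, map_smul]
    have h1 := congrArg (fun L : A →ₗ[k] A => L 1) (hd φ)
    simp only [ComodTens.dualCoactFun_apply, show (inferInstance : HopfRep.Comod k A A).coact 1 =
      (1 : A) ⊗ₜ[k] (1 : A) from Bialgebra.comul_one (R := k) (A := A), map_tmul, lid_tmul,
      HopfAlgebra.antipode_one] at h1
    rw [← one_mul (φ 1 • HopfRep.Comod.coact (k := k) (A := A) b)]
    have h2 : ∀ (y : B ⊗[k] A) (z : Module.Dual k A ⊗[k] A),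
        (f.restrictScalars k).rTensor A (TensorProduct.map LinearMap.id (LinearMap.mul' k A)
          (AlgebraTensorModule.tensorTensorTensorComm k k k k B A (Module.Dual k A) A (y ⊗ₜ[k] z))) =
        y * ((1 : B) ⊗ₜ[k] dualTensorHom k A A z 1) := by
      intro y z
      induction y with
      | zero => simp
      | add p q hp hq => simp only [add_mul, add_tmul, map_add, hp, hq]
      | tmul p q =>
        induction z with
        | zero => simp
        | add p' q' hp hq => simp only [tmul_add, mul_add, map_add, LinearMap.add_apply, hp, hq]
        | tmul p' q' => simp [hfv, TensorProduct.smul_tmul]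
    rw [h2, h1, one_mul, tmul_smul, ← Algebra.TensorProduct.one_def, mul_smul_comm, mul_one]
  have hsurj : Function.Surjective f := fun b =>
    ⟨b ⊗ₜ CoalgebraStruct.counit, by rw [hfv, Bialgebra.counit_one, one_smul]⟩
  have h1f : (1 : B) ∈ HopfRep.fixedPts k A B := by
    show HopfRep.Comod.coact (k := k) (A := A) (1 : B) = (1 : B) ⊗ₜ[k] (1 : A)
    rw [GLin.IsCoactAlg.coact_one, Algebra.TensorProduct.one_def]
  obtain ⟨m, hm, hm1⟩ := hexact (B ⊗[k] Module.Dual k A) B f hf hsurj 1 h1f
  let Φ : B ⊗[k] Module.Dual k A →ₗ[k] (A →ₗ[k] B) :=
    dualTensorHom k A B ∘ₗ (TensorProduct.comm k B (Module.Dual k A)).toLinearMap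
  refine ⟨Φ m, Comod33.DualRing.isComodHom_of_conjFun fun a => ?_, ?_⟩
  · let E : B ⊗[k] Module.Dual k A →ₗ[k] B := LinearMap.applyₗ a ∘ₗ Φ
    suffices ∀ n, E.rTensor A (HopfRep.Comod.coact (k := k) (A := A) n) =
        Comod33.DualRing.conjFun (A := A) (Φ n) a by
      rw [← this, show HopfRep.Comod.coact (k := k) (A := A) m = m ⊗ₜ[k] (1 : A) from hm]
      rfl
    intro n
    induction n with
    | zero => simp [Comod33.DualRing.conjFun]
    | add p q hp hq =>
      simp only [map_add, hp, hq, Comod33.DualRing.conjFun, LinearMap.comp_add,
        TensorProduct.map_add_left, LinearMap.comp_apply, LinearMap.add_apply]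
    | tmul b φ =>
      rw [hrho]
      have h2 : ∀ (y : B ⊗[k] A) (z : Module.Dual k A ⊗[k] A),
          E.rTensor A (TensorProduct.map LinearMap.id (LinearMap.mul' k A)
            (AlgebraTensorModule.tensorTensorTensorComm k k k k B A (Module.Dual k A) A (y ⊗ₜ[k] z))) =
          Comod33.DualRing.mulR B (y ⊗ₜ[k] dualTensorHom k A A z a) := by
        intro y z
        induction y with
        | zero => simp
        | add p q hp hq => simp only [add_tmul, map_add, hp, hq]
        | tmul p q =>
          induction z with
          | zero => simp
          | add p' q' hp hq => simp only [tmul_add, map_add, LinearMap.add_apply, hp, hq]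
          | tmul p' q' => simp [E, Φ, TensorProduct.smul_tmul]
      rw [h2, hd, ComodTens.dualCoactFun_apply]
      simp only [Comod33.DualRing.conjFun, LinearMap.comp_apply]
      generalize HopfRep.Comod.coact (k := k) (A := A) a = t
      induction t with
      | zero => simp
      | add p q hp hq => simp only [map_add, tmul_add, hp, hq]
      | tmul p q => simp [Φ, TensorProduct.smul_tmul', TensorProduct.tmul_smul]
  · rw [← hm1]
    clear hm hm1
    induction m with
    | zero => simp
    | add p q hp hq => simp only [map_add, LinearMap.add_apply, hp, hq]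
    | tmul b φ => simp [Φ, hfv]

end Groth.Agent.S12928
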