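import Groth.Statements.S12929
import Groth.Agent.Comod33.Act
-- import your own Groth.Agent.* helpers here

set_option autoImplicit false
universe u v w w'
open HopfRep
open scoped TensorProduct

namespace Groth.Agent.S12929

/-- Let `k` be a commutative ring, `A` a commutative Hopf algebra over `k`, `M` a right `A`-comodule and
`N` a `k`-module; give `N ⊗ A` the coaction `id ⊗ Δ`. Then for every `k`-linear map `h : M → N` the
composite `(h ⊗ id_A) ∘ ρ_M : M → N ⊗ A` is a comodule map, and every comodule map `f : M → N ⊗ A`
is of this form for exactly one `h` (which is `(id_N ⊗ ε) ∘ f`): comodule maps `M → N ⊗ A`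
correspond bijectively to linear maps `M → N`. -/
theorem result
    (k : Type u) [CommRing k] (A : Type v) [CommRing A] [HopfAlgebra k A]
    (M : Type w) [AddCommGroup M] [Module k M] [HopfRep.Comod k A M]
    (N : Type w') [AddCommGroup N] [Module k N] :
    (∀ h : M →ₗ[k] N, Hoch.IsComodHom A
        ((Hoch.Ind.equiv k A N).toLinearMap ∘ₗ h.rTensor A ∘ₗ HopfRep.Comod.coact (k := k) (A := A))) ∧
      ∀ f : M →ₗ[k] Hoch.Ind k A N, Hoch.IsComodHom A f →
        ∃! h : M →ₗ[k] N,
          f = (Hoch.Ind.equiv k A N).toLinearMap ∘ₗ h.rTensor A ∘ₗ HopfRep.Comod.coact (k := k) (A := A) := by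
  have key : ∀ h : M →ₗ[k] N, ∀ m, Hoch.Ind.counit k A N
      ((Hoch.Ind.equiv k A N) (h.rTensor A (HopfRep.Comod.coact (k := k) (A := A) m))) = h m := by
    intro h m
    show TensorProduct.rid k N ((Coalgebra.counit (R := k) (A := A)).lTensor N
      (h.rTensor A (HopfRep.Comod.coact (k := k) (A := A) m))) = h m
    rw [ComodTens.lTensor_rTensor_comm, Comod33.counit_apply]
    simp
  refine ⟨fun h => ?_, fun f hf => ?_⟩
  · unfold Hoch.IsComodHom
    rw [Hoch.Ind.coact_eq]
    ext m
    show (TensorProduct.assoc k N A A).symm ((Coalgebra.comul (R := k) (A := A)).lTensor N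
        (h.rTensor A (HopfRep.Comod.coact (k := k) (A := A) m))) =
      (h.rTensor A ∘ₗ HopfRep.Comod.coact (k := k) (A := A)).rTensor A
        (HopfRep.Comod.coact (k := k) (A := A) m)
    rw [ComodTens.lTensor_rTensor_comm, ← Comod33.coassoc_apply, LinearMap.rTensor_comp, LinearMap.comp_apply,
      ← ComodTens.assoc_rTensor_rTensor, LinearEquiv.symm_apply_apply]
  · refine ⟨Hoch.Ind.counit k A N ∘ₗ f, ?_, fun h hh => ?_⟩
    · ext m
      have h2 := LinearMap.congr_fun hf m
      rw [Hoch.Ind.coact_eq] at h2
      simp only [LinearMap.comp_apply] at h2 ⊢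
      let ev : TensorProduct k N A →ₗ[k] N :=
        (TensorProduct.rid k N).toLinearMap ∘ₗ (Coalgebra.counit (R := k) (A := A)).lTensor N
      have hy : ∀ y : TensorProduct k N A, y = ev.rTensor A (Hoch.Ind.coactAux k A N y) := by
        intro y
        induction y with
        | zero => simp
        | tmul n a =>
          rw [Hoch.Ind.coactAux_tmul]
          conv_lhs => rw [← one_smul k a, ← TensorProduct.lid_tmul a (1 : k),
            ← Coalgebra.rTensor_counit_comul (R := k) a]
          generalize CoalgebraStruct.comul (R := k) a = z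
          induction z with
          | zero => simp
          | tmul p q => simp [ev, TensorProduct.smul_tmul]
          | add p q hp hq => simp only [map_add, TensorProduct.tmul_add, hp, hq]
        | add p q hp hq => simp only [map_add, ← hp, ← hq]
      show (f m : TensorProduct k N A) = (Hoch.Ind.counit k A N ∘ₗ f).rTensor A
        (HopfRep.Comod.coact (k := k) (A := A) m)
      rw [LinearMap.rTensor_comp, LinearMap.comp_apply, ← h2]
      exact hy _
    · ext m
      rw [hh]
      exact (key h m).symm

end Groth.Agent.S12929
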