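import Groth.Agent.Hopf35.ContentInj
import Groth.Statements.S1293

set_option autoImplicit false
universe u
open FlatMor

namespace Groth.Agent.S1293

open TensorProduct in
theorem result {A B : Type u} [CommRing A] [CommRing B] [Algebra A B] [Algebra.FinitePresentation A B]
    (T : Submonoid B) (N : Type u) [AddCommGroup N] [Module (Localization T) N] [Module A N] [IsScalarTower A (Localization T) N]
    [Module.FinitePresentation (Localization T) N] (h : FlatCA.HasPureSpreadout A B T N) :
    (∀ x : N, ∃ I : Ideal A, x ∈ I • (⊤ : Submodule A N) ∧ ∀ J : Ideal A, x ∈ J • (⊤ : Submodule A N) → I ≤ J) ∧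
    ∀ (M : Type u) [AddCommGroup M] [Module A M] [Module.Flat A M] (u : N →ₗ[A] M),
      (∀ (m : Ideal A) [m.IsMaximal], Function.Injective (u.lTensor (A ⧸ m))) → FlatCA.UnivInj A u := by
  classical
  obtain ⟨C, _, _, _, _, _, _, _, _, _, _, N', _, _, _, _, g, -, -, hg, hproj, hgu⟩ := h
  haveI := hproj
  let σ : C → (N →ₗ[A] N) := fun c => Algebra.lsmul A A N c
  let σ' : C → (N' →ₗ[A] N') := fun c => Algebra.lsmul A A N' c
  let cT : T → C := fun t => algebraMap B C t
  let gA := g.restrictScalars A
  have hgA : ∀ (Q : Type u) [AddCommGroup Q] [Module A Q], Function.Injective (gA.lTensor Q) := hgu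
  have hσg : ∀ (c : C) (n : N'), σ c (gA n) = gA (σ' c n) := fun c n => (g.map_smul c n).symm
  have hbij : ∀ t : T, Function.Bijective (σ (cT t)) := fun t => by
    have hu : IsUnit (algebraMap C (Localization T) (cT t)) := by
      rw [← IsScalarTower.algebraMap_apply B C (Localization T)]
      exact IsLocalization.map_units (Localization T) t
    have h1 : ∀ y : N, σ (cT t) y = algebraMap C (Localization T) (cT t) • y := fun y => (algebraMap_smul _ _ _).symm
    obtain ⟨v, hv⟩ := hu
    refine ⟨fun a b h => ?_, fun y => ⟨(↑v⁻¹ : Localization T) • y, ?_⟩⟩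
    · rw [h1, h1, ← hv] at h
      have := congrArg ((↑v⁻¹ : Localization T) • ·) h
      simpa [smul_smul] using this
    · rw [h1, ← hv, smul_smul, v.mul_inv, one_smul]
  have hmul : ∀ (a b : C) (y : N), σ (a * b) y = σ a (σ b y) := fun a b y => mul_smul a b y
  have hsurj : ∀ x : N, ∃ (t : T) (n : N'), σ (cT t) x = gA n := fun x => by
    induction x using hg.inductionOn with
    | zero => exact ⟨1, 0, by simp⟩
    | tmul n => exact ⟨1, n, by simp [σ, cT, gA]⟩
    | smul s y hy =>
      obtain ⟨t, n, hn⟩ := hy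
      obtain ⟨b, t', rfl⟩ := IsLocalization.exists_mk'_eq T s
      refine ⟨t * t', σ' (algebraMap B C b) n, ?_⟩
      rw [← hσg, ← hn]
      show algebraMap B C (t * t' : T) • IsLocalization.mk' (Localization T) b t' • y =
        algebraMap B C b • algebraMap B C t • y
      simp only [← algebraMap_smul (Localization T) (algebraMap B C _), ← IsScalarTower.algebraMap_apply, smul_smul]
      congr 1
      rw [Submonoid.coe_mul, map_mul]
      calc algebraMap B (Localization T) t * algebraMap B (Localization T) t' * IsLocalization.mk' (Localization T) b t'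
          = algebraMap B (Localization T) t *
            (IsLocalization.mk' (Localization T) b t' * algebraMap B (Localization T) t') := by ring
        _ = _ := by rw [IsLocalization.mk'_spec]; ring
    | add a b ha hb =>
      obtain ⟨t, n, hn⟩ := ha
      obtain ⟨t', n', hn'⟩ := hb
      refine ⟨t * t', σ' (cT t') n + σ' (cT t) n', ?_⟩
      rw [map_add, map_add, ← hσg, ← hσg, ← hn, ← hn', ← hmul, ← hmul, mul_comm (cT t') (cT t)]
      simp [cT]
  have hmem : ∀ (t : T) (J : Ideal A) (x : N), σ (cT t) x ∈ J • (⊤ : Submodule A N) ↔ x ∈ J • (⊤ : Submodule A N) := by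
    intro t J x
    have hmap : Submodule.map (σ (cT t)) (J • ⊤) = J • (⊤ : Submodule A N) := by
      rw [Submodule.map_smul'', Submodule.map_top, LinearMap.range_eq_top.2 (hbij t).2]
    refine ⟨fun h => ?_, fun h => hmap.le (Submodule.mem_map_of_mem h)⟩
    obtain ⟨y, hy, hyx⟩ := hmap.ge h
    rwa [(hbij t).1 hyx] at hy
  have hc : ∀ x : N, ∃ I : Ideal A, I.FG ∧ x ∈ I • (⊤ : Submodule A N) ∧
      ∀ J : Ideal A, x ∈ J • (⊤ : Submodule A N) → I ≤ J := fun x => by
    obtain ⟨t, n, hn⟩ := hsurj x
    obtain ⟨I, hI, hn1, hn2⟩ := Hopf35.ContentInj.exists_content (A := A) n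
    have hiff : ∀ J : Ideal A, x ∈ J • (⊤ : Submodule A N) ↔ n ∈ J • (⊤ : Submodule A N') := fun J => by
      rw [← hmem t J x, hn, Hopf35.ContentInj.mem_smul_iff_of_univInj hgA]
    exact ⟨I, hI, (hiff I).2 hn1, fun J hJ => hn2 J ((hiff J).1 hJ)⟩
  refine ⟨fun x => let ⟨I, _, h1, h2⟩ := hc x; ⟨I, h1, h2⟩, ?_⟩
  intro M _ _ _ u hu Q _ _
  exact Hopf35.ContentInj.univInj_of_mod_maximal hc u hu Q

end Groth.Agent.S1293
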