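import Groth.Statements.S12931
import Mathlib.RingTheory.Idempotents
-- import your own Groth.Agent.* helpers here

set_option autoImplicit false
universe u v w
open HopfRep

namespace Groth.Agent.S12931

/-- Let `R` be a commutative ring, `Γ` a finite set and `T` a commutative `R`-algebra which is
connected: nonzero, with no idempotents other than `0` and `1`. Then `γ ↦ (evaluation at γ : (Γ → R)
→ R → T)` is a bijection from `Γ` onto the `R`-algebra maps `(Γ → R) → T`: every such map sends
exactly one of the indicator functions to `1` and the others to `0`. (Only the bijection of sets is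
stated; when `Γ` is a group, the compatibility with the group structures on both sides is not.) -/
theorem result
    (R : Type u) [CommRing R] (Γ : Type v) [Finite Γ]
    (T : Type w) [CommRing T] [Algebra R T] [Nontrivial T]
    (hT : ∀ e : T, IsIdempotentElem e → e = 0 ∨ e = 1) :
    Function.Bijective (fun γ : Γ => (Algebra.ofId R T).comp (Pi.evalAlgHom R (fun _ : Γ => R) γ)) := by
  classical
  have : Fintype Γ := Fintype.ofFinite Γ
  constructor
  · intro γ δ h
    by_contra hne
    have := DFunLike.congr_fun h (Pi.single γ (1 : R))
    simp [Pi.single_apply, Ne.symm hne] at this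
  · intro f
    have hpair : ∀ γ δ : Γ, γ ≠ δ →
        f (Pi.single γ 1) = 1 → f (Pi.single δ 1) = 0 := by
      intro γ δ hne h
      have : f (Pi.single γ 1 * Pi.single δ 1) = 0 := by
        have hz : (Pi.single γ (1 : R) : Γ → R) * Pi.single δ 1 = 0 := by
          ext x
          by_cases hx : x = γ
          · subst hx; simp [hne]
          · simp [hx]
        rw [hz, map_zero]
      rw [map_mul, h, one_mul] at this
      exact this
    have hsum : ∑ γ, f (Pi.single γ (1 : R)) = 1 := by
      rw [← map_sum, Finset.univ_sum_single (fun _ : Γ => (1 : R))]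
      exact map_one f
    have hone : ∃ γ, f (Pi.single γ 1) = 1 := by
      by_contra h
      push_neg at h
      have h0 : ∀ γ, f (Pi.single γ 1) = 0 := fun γ =>
        (hT _ (by
          show f (Pi.single γ 1) * f (Pi.single γ 1) = f (Pi.single γ 1)
          rw [← map_mul, ← Pi.single_mul, mul_one])).resolve_right (h γ)
      simp [h0] at hsum
    obtain ⟨γ, hγ⟩ := hone
    refine ⟨γ, AlgHom.ext fun x => ?_⟩
    have hx : x = ∑ δ, x δ • (Pi.single δ (1 : R) : Γ → R) := by
      ext δ; simp [Pi.single_apply]
    conv_rhs => rw [hx, map_sum, Finset.sum_eq_single γ (fun δ _ hδ => by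
      rw [map_smul, hpair γ δ (Ne.symm hδ) hγ, smul_zero]) (by simp)]
    simp [hγ, Algebra.algebraMap_eq_smul_one]

end Groth.Agent.S12931
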