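import Groth.Statements.S12932
import Mathlib.RingTheory.Invariant.Basic
import Mathlib.RingTheory.Ideal.GoingUp
import Mathlib.LinearAlgebra.LinearIndependent.Lemmas
import Mathlib.FieldTheory.Fixed

set_option autoImplicit false
universe u v
open scoped BigOperators
open InvTh

namespace Groth.Agent.S12932

open scoped Pointwise in
private theorem aux (B : Type u) [CommRing B] (Γ : Type v) [Group Γ] [Fintype Γ] [MulSemiringAction Γ B] :
    (∃ b : B, ∑ γ : Γ, γ • b = 1) ↔
      ∀ P : Ideal B, P.IsPrime → ((Nat.card (P.inertia Γ) : ℕ) : B ⧸ P) ≠ 0 := by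
  classical
  constructor
  · rintro ⟨b, hb⟩ P hP h0
    let I := P.inertia Γ
    have key : ∀ γ δ : Γ, γ * δ⁻¹ ∈ I → Ideal.Quotient.mk P (γ • b) = Ideal.Quotient.mk P (δ • b) := by
      intro γ δ h
      rw [Ideal.Quotient.eq]
      simpa [smul_smul] using h (δ • b)
    have hsum : Ideal.Quotient.mk P (∑ γ : Γ, γ • b) = 0 := by
      rw [map_sum, ← Finset.sum_fiberwise Finset.univ (fun γ : Γ => Quotient.mk (QuotientGroup.rightRel I) γ)]
      refine Finset.sum_eq_zero fun q _ => ?_
      induction q using Quotient.inductionOn with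
      | h δ =>
        rw [Finset.sum_congr rfl (g := fun _ => Ideal.Quotient.mk P (δ • b))]
        · rw [Finset.sum_const, nsmul_eq_mul]
          convert zero_mul (Ideal.Quotient.mk P (δ • b))
          have : Finset.card {γ : Γ | Quotient.mk (QuotientGroup.rightRel I) γ = Quotient.mk _ δ} = Nat.card I := by
            rw [Nat.card_eq_fintype_card, ← Finset.card_univ]
            refine Finset.card_bij' (fun γ hγ => (⟨γ * δ⁻¹, ?_⟩ : I)) (fun i _ => (i : Γ) * δ) ?_ ?_ ?_ ?_
            · have h2 : (QuotientGroup.rightRel I) δ γ := (Quotient.exact (Finset.mem_filter.1 hγ).2.symm)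
              exact QuotientGroup.rightRel_apply.1 h2
            · intros; simp
            · intro i _
              exact Finset.mem_filter.2 ⟨Finset.mem_univ _, Quotient.sound
                (QuotientGroup.rightRel_apply.2 (by simp))⟩
            · intros; simp
            · intros; simp
          rw [this, h0]
        · intro γ hγ
          have h2 : (QuotientGroup.rightRel I) δ γ := (Quotient.exact (Finset.mem_filter.1 hγ).2.symm)
          exact key γ δ (QuotientGroup.rightRel_apply.1 h2)
    rw [hb, map_one] at hsum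
    exact one_ne_zero hsum
  · intro h
    let A' := FixedPoints.subring B Γ
    have : Algebra.IsInvariant A' B Γ := ⟨fun b hb => ⟨⟨b, hb⟩, rfl⟩⟩
    have : Algebra.IsIntegral A' B := Algebra.IsInvariant.isIntegral A' B Γ
    let tr : B → B := fun b => ∑ γ : Γ, γ • b
    have htr : ∀ b (γ : Γ), γ • tr b = tr b := fun b δ => by
      simp only [tr, Finset.smul_sum]
      exact Fintype.sum_equiv (Equiv.mulLeft δ) _ _ (fun γ => by simp [mul_smul])
    have htrmul : ∀ (a : A') b, tr ((a : B) * b) = a * tr b := fun a b => by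
      simp only [tr, Finset.mul_sum, smul_mul']
      exact Finset.sum_congr rfl fun γ _ => by rw [a.2 γ]
    let T : Ideal A' :=
      { carrier := {a | ∃ b, tr b = (a : B)}
        zero_mem' := ⟨0, by simp [tr]⟩
        add_mem' := by
          rintro a a' ⟨b, hb⟩ ⟨b', hb'⟩
          exact ⟨b + b', by simp [tr, smul_add, Finset.sum_add_distrib, ← hb, ← hb']⟩
        smul_mem' := by
          rintro c a ⟨b, hb⟩
          exact ⟨(c : B) * b, by rw [htrmul, hb]; rfl⟩ }
    by_contra hne
    have hT : T ≠ ⊤ := fun hT => hne ((Ideal.eq_top_iff_one T).1 hT)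
    obtain ⟨p, hp, hTp⟩ := Ideal.exists_le_maximal T hT
    obtain ⟨P, hP, hPp⟩ := Ideal.exists_ideal_over_maximal_of_isIntegral (S := B) p
      (by rw [(RingHom.injective_iff_ker_eq_bot _).1 Subtype.val_injective]; exact bot_le)
    have htP : ∀ b, tr b ∈ P := fun b => by
      have h2 : (⟨tr b, htr b⟩ : A') ∈ p := hTp ⟨b, rfl⟩
      rw [← hPp] at h2
      exact h2
    let D := MulAction.stabilizer Γ P
    let J : Ideal B := (Finset.univ.filter (fun γ : Γ => γ • P ≠ P)).inf (fun γ => γ • P)
    have hJ : P ⊔ J = ⊤ := by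
      by_contra hne
      have h1 : J ≤ P := le_sup_right.trans (Ideal.IsMaximal.eq_of_le ‹_› hne le_sup_left).ge
      obtain ⟨γ, hγ, h2⟩ := (Ideal.IsPrime.inf_le' inferInstance).1 h1
      have h3 : P ≤ γ⁻¹ • P := Ideal.pointwise_smul_subset_iff.1 h2
      have h4 : γ⁻¹ • P = P := smul_eq_of_le_smul h3
      exact (Finset.mem_filter.1 hγ).2 (inv_smul_eq_iff.1 h4).symm
    obtain ⟨q, hq, u, hu, hqu⟩ := Submodule.mem_sup.1 ((Ideal.eq_top_iff_one _).1 hJ)
    let u' := ∏ δ : D, (δ : Γ) • u
    have hu1 : Ideal.Quotient.mk P u' = 1 := by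
      simp only [u', map_prod]
      refine Finset.prod_eq_one fun δ _ => ?_
      rw [← map_one (Ideal.Quotient.mk P), Ideal.Quotient.eq]
      have h := Ideal.smul_mem_pointwise_smul (δ : Γ) q P hq
      rw [MulAction.mem_stabilizer_iff.1 δ.2] at h
      have he : (δ : Γ) • u - 1 = -((δ : Γ) • q) := by
        rw [eq_sub_of_add_eq' hqu, smul_sub, smul_one]
        ring
      rw [he]
      exact neg_mem h
    have hu2 : ∀ γ : Γ, γ ∉ D → γ • u' ∈ P := by
      intro γ hγ
      have hγ' : γ⁻¹ • P ≠ P := fun h => hγ (MulAction.mem_stabilizer_iff.2 (by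
        nth_rw 1 [← h]; rw [smul_inv_smul]))
      have hu' : u ∈ γ⁻¹ • P := Finset.inf_le (f := fun γ : Γ => γ • P)
        (Finset.mem_filter.2 ⟨Finset.mem_univ γ⁻¹, hγ'⟩) hu
      refine Ideal.mem_inv_pointwise_smul_iff.1 ?_
      show ∏ δ : D, (δ : Γ) • u ∈ _
      rw [← Finset.mul_prod_erase _ _ (Finset.mem_univ (1 : D))]
      refine Ideal.mul_mem_right _ _ ?_
      simpa using hu'
    have hu3 : ∀ d ∈ D, d • u' = u' := by
      intro d hd
      simp only [u', Finset.smul_prod']
      exact Fintype.prod_equiv (Equiv.mulLeft ⟨d, hd⟩) _ _ (fun δ => by simp [mul_smul])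
    let f : D → (B →* B ⧸ P) := fun δ =>
      (Ideal.Quotient.mk P).toMonoidHom.comp (MulSemiringAction.toRingHom Γ B δ).toMonoidHom
    have hfib : ∀ δ₀ : D, (Finset.univ.filter (fun δ => f δ = f δ₀)).card = Nat.card (P.inertia Γ) := by
      intro δ₀
      rw [Nat.card_eq_fintype_card, ← Finset.card_univ]
      have hle := Ideal.inertia_le_stabilizer (M := Γ) P
      refine Finset.card_bij' (fun δ hδ => (⟨(δ : Γ) * (δ₀ : Γ)⁻¹, ?_⟩ : P.inertia Γ))
        (fun i _ => (⟨(i : Γ), hle i.2⟩ : D) * δ₀) ?_ ?_ ?_ ?_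
      · intro z
        have h2 := DFunLike.congr_fun (Finset.mem_filter.1 hδ).2 ((δ₀ : Γ)⁻¹ • z)
        change Ideal.Quotient.mk P ((δ : Γ) • ((δ₀ : Γ)⁻¹ • z)) = Ideal.Quotient.mk P ((δ₀ : Γ) • ((δ₀ : Γ)⁻¹ • z)) at h2
        rw [smul_inv_smul, Ideal.Quotient.eq, smul_smul] at h2
        exact h2
      · intros; simp
      · intro i _
        refine Finset.mem_filter.2 ⟨Finset.mem_univ _, MonoidHom.ext fun z => ?_⟩
        show Ideal.Quotient.mk P (((i : Γ) * (δ₀ : Γ)) • z) = Ideal.Quotient.mk P ((δ₀ : Γ) • z)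
        rw [Ideal.Quotient.eq, mul_smul]
        exact i.2 _
      · intros; ext; simp
      · intros; ext; simp
    have hzero : ∀ y : B, ∑ δ : D, f δ y = 0 := by
      intro y
      have h1 := Ideal.Quotient.eq_zero_iff_mem.2 (htP (u' * y))
      simp only [tr, map_sum] at h1
      rw [← Finset.sum_subset (Finset.subset_univ (Finset.univ.filter (fun γ : Γ => γ ∈ D))) (fun γ _ hγ => by
        rw [Ideal.Quotient.eq_zero_iff_mem, smul_mul']
        exact Ideal.mul_mem_right _ _ (hu2 γ (fun hγD => hγ (Finset.mem_filter.2 ⟨Finset.mem_univ _, hγD⟩))))] at h1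
      rw [Finset.sum_subtype (p := fun γ => γ ∈ D) _ (fun γ => by simp)] at h1
      refine Eq.trans (Finset.sum_congr rfl fun δ _ => ?_) h1
      show Ideal.Quotient.mk P ((δ : Γ) • y) = _
      rw [smul_mul', hu3 _ δ.2, map_mul, hu1, one_mul]
    have hlin : ∑ φ ∈ Finset.univ.image f, ((Nat.card (P.inertia Γ) : ℕ) : B ⧸ P) • (φ : B → B ⧸ P) = 0 := by
      funext y
      have h2 := hzero y
      rw [← Finset.sum_fiberwise_of_maps_to (t := Finset.univ.image f) (g := f)
        (fun δ _ => Finset.mem_image_of_mem f (Finset.mem_univ δ))] at h2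
      rw [Finset.sum_apply, Pi.zero_apply]
      refine Eq.trans (Finset.sum_congr rfl fun φ hφ => ?_) h2
      obtain ⟨δ₀, -, rfl⟩ := Finset.mem_image.1 hφ
      rw [Finset.sum_congr rfl (g := fun _ => f δ₀ y)
        (fun δ hδ => by rw [(Finset.mem_filter.1 hδ).2]), Finset.sum_const, hfib, nsmul_eq_mul]
      rfl
    exact h P hP.isPrime (linearIndependent_iff'.1 (linearIndependent_monoidHom B (B ⧸ P)) _
      (fun _ => _) hlin (f 1) (Finset.mem_image_of_mem f (Finset.mem_univ 1)))

/-- Let `B` be a commutative ring with an action of a finite group `Γ` by ring automorphisms, and call a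
prime ideal `P` of `B` tame when the order of its inertia group `{γ | γ • x - x ∈ P for all x}` is
not divisible by the characteristic of `B/P` (its ramification group is trivial). Then every prime
of `B` is tame if and only if the trace `b ↦ Σ_γ γ • b`, which takes values in the invariant ring
`B^Γ` and is `B^Γ`-linear, is onto `B^Γ` — equivalently, some element of `B` has trace `1`. -/
theorem result
    (B : Type u) [CommRing B] (Γ : Type v) [Group Γ] [Fintype Γ] [MulSemiringAction Γ B] :
    (∃ b : B, ∑ γ : Γ, γ • b = 1) ↔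
      ∀ P : Ideal B, P.IsPrime → ((Nat.card (P.inertia Γ) : ℕ) : B ⧸ P) ≠ 0 := by
  exact aux B Γ

end Groth.Agent.S12932
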