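import Groth.Statements.S12934
import Mathlib.GroupTheory.Sylow
import Mathlib.RingTheory.RootsOfUnity.PrimitiveRoots
import Mathlib.RingTheory.IntegralDomain
import Mathlib.RingTheory.LocalRing.ResidueField.Basic
import Mathlib.Algebra.CharP.Lemmas
import Mathlib.Algebra.CharP.Reduced

set_option autoImplicit false
universe u v
open InvTh

namespace Groth.Agent.S12934

/-- Let `B` be a local commutative ring with maximal ideal `m` and residue field `k`, and `Γ` a finite
group acting faithfully on `B` by ring automorphisms, such that every element of `Γ` acts trivially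
modulo `m` (the whole group is inertia) and maps each principal ideal of `B` into itself (every
ideal is stable). Let `S ⊆ Γ` be the set of `γ` with `γ b ∈ b + b m` for all `b`. Then: if `k` has
characteristic `0`, `S = {1}`; if `k` has characteristic `p > 0`, `S` is (the underlying set of) a
Sylow `p`-subgroup; every commutator of `Γ` lies in `S`, so `Γ/S` is abelian; and whenever the class
of `γ` in `Γ/S` has order `n` (`γ^n ∈ S`, no smaller positive power in `S`), `k` contains a
primitive `n`-th root of unity. (The published statement also bounds the number of generators of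
`Γ/S` by the number of generators of the monoid of principal ideals; that clause is not included.) -/
theorem result
    (B : Type u) [CommRing B] [IsLocalRing B]
    (Γ : Type v) [Group Γ] [Finite Γ] [MulSemiringAction Γ B] [FaithfulSMul Γ B]
    (hin : ∀ (γ : Γ) (b : B), γ • b - b ∈ IsLocalRing.maximalIdeal B)
    (hst : ∀ (γ : Γ) (b : B), ∃ u : B, γ • b = b * u)
    (S : Set Γ)
    (hS : ∀ γ : Γ, γ ∈ S ↔ ∀ b : B, ∃ x ∈ IsLocalRing.maximalIdeal B, γ • b = b + b * x) :
    (ringChar (IsLocalRing.ResidueField B) = 0 → S = {1}) ∧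
      (∀ (p : ℕ) [Fact p.Prime], ringChar (IsLocalRing.ResidueField B) = p →
        ∃ Q : Sylow p Γ, (Q : Set Γ) = S) ∧
      (∀ γ δ : Γ, γ * δ * γ⁻¹ * δ⁻¹ ∈ S) ∧
      (∀ (γ : Γ) (n : ℕ), 0 < n → γ ^ n ∈ S → (∀ i : ℕ, 0 < i → i < n → γ ^ i ∉ S) →
        ∃ ζ : IsLocalRing.ResidueField B, IsPrimitiveRoot ζ n) := by
  classical
  let k := IsLocalRing.ResidueField B
  let π : B →+* k := IsLocalRing.residue B
  have hπ : ∀ x, π x = 0 ↔ x ∈ IsLocalRing.maximalIdeal B := fun x => Ideal.Quotient.eq_zero_iff_mem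
  have hπγ : ∀ (γ : Γ) (x : B), π (γ • x) = π x := fun γ x => by
    rw [← sub_eq_zero, ← map_sub, hπ]; exact hin γ x
  have huniq : ∀ b : B, b ≠ 0 → ∀ u v : B, b * u = b * v → π u = π v := by
    intro b hb u v h
    rw [← sub_eq_zero, ← map_sub, hπ]
    by_contra hu
    exact hb ((IsUnit.mul_left_eq_zero (IsLocalRing.notMem_maximalIdeal.1 hu)).1 (by rw [mul_sub, h, sub_self]))
  choose U hU using hst
  let χ : {b : B // b ≠ 0} → Γ →* k := fun b =>
    { toFun := fun γ => π (U γ b)
      map_one' := by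
        rw [← map_one π]
        exact huniq b b.2 _ _ (by rw [← hU, one_smul, mul_one])
      map_mul' := fun γ δ => by
        rw [← hπγ γ (U δ b), ← map_mul]
        exact huniq b b.2 _ _ (by rw [← hU, mul_smul, hU δ, smul_mul', hU γ, mul_assoc]) }
  let N : Subgroup Γ := ⨅ b, (χ b).toHomUnits.ker
  have hN : ∀ γ, γ ∈ N ↔ ∀ b, χ b γ = 1 := fun γ => by
    simp only [N, Subgroup.mem_iInf, MonoidHom.mem_ker, Units.ext_iff, MonoidHom.coe_toHomUnits, Units.val_one]
  have hSN : S = (N : Set Γ) := by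
    ext γ
    rw [hS, SetLike.mem_coe, hN]
    constructor
    · intro h b
      obtain ⟨x, hx, hγ⟩ := h b
      show π (U γ b) = 1
      rw [huniq b b.2 (U γ b) (1 + x) (by rw [← hU, hγ, mul_add, mul_one]), map_add, map_one, (hπ x).2 hx, add_zero]
    · intro h b
      by_cases hb : b = 0
      · exact ⟨0, Submodule.zero_mem _, by simp [hb]⟩
      · refine ⟨U γ b - 1, (hπ _).1 ?_, by rw [hU]; ring⟩
        rw [map_sub, map_one, show π (U γ b) = 1 from h ⟨b, hb⟩, sub_self]
  have hord : ∀ (l : ℕ) (γ : Γ), γ ∈ N → γ ^ l = 1 → (l : k) ≠ 0 → γ = 1 := by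
    intro l γ hγ hγl hl
    refine FaithfulSMul.eq_of_smul_eq_smul (α := B) fun b => ?_
    rw [one_smul]
    have hγS : ∀ b : B, ∃ x ∈ IsLocalRing.maximalIdeal B, γ • b = b + b * x := (hS γ).1 (hSN ▸ hγ)
    obtain ⟨x, hx, hb⟩ := hγS b
    obtain ⟨y, hy, hc⟩ := hγS (b * x)
    have key : ∀ i : ℕ, ∃ z ∈ IsLocalRing.maximalIdeal B, γ ^ i • b = b + b * x * ((i : B) + z) := by
      intro i
      induction i with
      | zero => exact ⟨0, Submodule.zero_mem _, by simp⟩
      | succ i ih =>
        obtain ⟨z, hz, hzi⟩ := ih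
        have hγz : γ • z ∈ IsLocalRing.maximalIdeal B := by rw [← hπ, hπγ, hπ]; exact hz
        refine ⟨γ • z + y * ((i : B) + γ • z), Submodule.add_mem _ hγz (Ideal.mul_mem_right _ _ hy), ?_⟩
        rw [pow_succ', mul_smul, hzi, smul_add, smul_mul', hc, hb, smul_add,
          show γ • (i : B) = (i : B) from map_natCast (MulSemiringAction.toRingHom Γ B γ) i, Nat.cast_succ]
        ring
    obtain ⟨z, hz, hzl⟩ := key l
    rw [hγl, one_smul, left_eq_add] at hzl
    have hu : IsUnit ((l : B) + z) := IsLocalRing.notMem_maximalIdeal.1 fun h =>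
      hl (by have h2 := (hπ _).2 h; rwa [map_add, map_natCast, (hπ z).2 hz, add_zero] at h2)
    rw [hb, hu.mul_left_eq_zero.1 hzl, add_zero]
  refine ⟨fun h0 => ?_, fun p _ hp => ?_, fun γ δ => ?_, fun γ n hn hγn hmin => ?_⟩
  · haveI : CharP k 0 := h0 ▸ ringChar.charP k
    haveI := CharP.charP_to_charZero k
    rw [hSN]
    refine Set.eq_singleton_iff_unique_mem.2 ⟨N.one_mem, fun γ hγ => hord (orderOf γ) γ hγ (pow_orderOf_eq_one γ) ?_⟩
    exact Nat.cast_ne_zero.2 (orderOf_pos γ).ne'
  · haveI : CharP k p := hp ▸ ringChar.charP k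
    have hp' : p.Prime := Fact.out
    have hP : IsPGroup p N := by
      intro γ
      obtain ⟨e, m, hm, hem⟩ := Nat.exists_eq_pow_mul_and_not_dvd (orderOf_pos γ).ne' p hp'.ne_one
      refine ⟨e, ?_⟩
      have h := hord m ((γ : Γ) ^ p ^ e) (N.pow_mem γ.2 _) (by
        rw [← pow_mul, ← hem, ← Subgroup.coe_pow, pow_orderOf_eq_one]; rfl)
        (fun h => hm ((CharP.cast_eq_zero_iff k p m).1 h))
      exact Subtype.ext h
    have hidx : ¬ p ∣ N.index := by
      intro hd
      haveI : N.Normal := Subgroup.normal_iInf_normal fun b => MonoidHom.normal_ker _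
      rw [Subgroup.index] at hd
      obtain ⟨c, hc⟩ := exists_prime_orderOf_dvd_card' (G := Γ ⧸ N) p hd
      obtain ⟨γ, rfl⟩ := QuotientGroup.mk_surjective c
      have hγp : γ ^ p ∈ N := by
        rw [← QuotientGroup.eq_one_iff, QuotientGroup.mk_pow, ← hc, pow_orderOf_eq_one]
      have hγ : γ ∈ N := (hN γ).2 fun b => by
        have h := (hN _).1 hγp b
        rw [map_pow] at h
        haveI : ExpChar k p := ExpChar.prime hp'
        exact (pow_one _).symm.trans ((ExpChar.pow_prime_pow_mul_eq_one_iff p 1 1 (χ b γ)).1 (by rwa [pow_one, mul_one]))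
      rw [(QuotientGroup.eq_one_iff γ).2 hγ, orderOf_one] at hc
      exact hp'.ne_one hc.symm
    refine ⟨hP.toSylow hidx, ?_⟩
    rw [hSN]
    rfl
  · rw [hSN, SetLike.mem_coe, hN]
    intro b
    have h : ∀ g, χ b g * χ b g⁻¹ = 1 := fun g => by rw [← map_mul, mul_inv_cancel, map_one]
    rw [map_mul, map_mul, map_mul, mul_comm (χ b γ), mul_assoc (χ b δ), h, mul_one, h]
  · haveI : NeZero n := ⟨hn.ne'⟩
    rw [hSN, SetLike.mem_coe, hN] at hγn
    let r : {b : B // b ≠ 0} → rootsOfUnity n k := fun b =>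
      ⟨(χ b).toHomUnits γ, by
        rw [mem_rootsOfUnity, ← map_pow]
        exact Units.ext (hγn b)⟩
    let H : Subgroup (rootsOfUnity n k) := Subgroup.closure (Set.range r)
    obtain ⟨g, hg⟩ := IsCyclic.exists_generator (α := H)
    refine ⟨((g : rootsOfUnity n k) : kˣ), IsPrimitiveRoot.coe_units_iff.2 (IsPrimitiveRoot.coe_submonoidClass_iff.2
      (IsPrimitiveRoot.coe_submonoidClass_iff.2 ?_))⟩
    have hgn : g ^ n = 1 := by
      refine Subtype.ext (Subtype.ext ?_)
      exact (mem_rootsOfUnity n _).1 (g : rootsOfUnity n k).2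
    have hle : n ≤ orderOf g := by
      by_contra hlt
      refine hmin (orderOf g) (orderOf_pos g) (not_le.1 hlt) ?_
      rw [hSN, SetLike.mem_coe, hN]
      intro b
      obtain ⟨i, hi⟩ := hg ⟨r b, Subgroup.subset_closure ⟨b, rfl⟩⟩
      have h1 : (⟨r b, Subgroup.subset_closure ⟨b, rfl⟩⟩ : H) ^ orderOf g = 1 := by
        rw [← hi, ← zpow_natCast, ← zpow_mul, mul_comm, zpow_mul, zpow_natCast, pow_orderOf_eq_one, one_zpow]
      have h2 := congrArg (fun x : H => (((x : rootsOfUnity n k) : kˣ) : k)) h1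
      simp [r] at h2
      rw [map_pow]
      exact h2
    exact IsPrimitiveRoot.iff_orderOf.2 (le_antisymm (orderOf_le_of_pow_eq_one hn hgn) hle)

end Groth.Agent.S12934
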