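import Groth.Statements.S12935
import Mathlib.RingTheory.Invariant.Basic
import Mathlib.Algebra.Algebra.Subalgebra.Basic

set_option autoImplicit false
universe u v
open InvTh

namespace Groth.Agent.S12935

open scoped Pointwise in
private theorem aux (B : Type u) [CommRing B] (Γ : Type v) [Group Γ] [Finite Γ] [MulSemiringAction Γ B]
    (Ω : Subgroup Γ) (P : Ideal B) [P.IsPrime] (γ : Γ) :
    ((∀ x : B, (∀ ω ∈ Ω, ω • x = x) → (x ∈ P ↔ γ • x ∈ P)) ↔
        ∃ ω ∈ Ω, ∀ x : B, x ∈ P ↔ (γ * ω) • x ∈ P) ∧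
      ((∀ x : B, (∀ ω ∈ Ω, ω • x = x) → γ • x - x ∈ P) ↔
        ∃ ω ∈ Ω, ∀ x : B, (γ * ω) • x - x ∈ P) := by
  let A' := FixedPoints.subring B Ω
  have : SMulCommClass Ω A' B := ⟨fun ω a b => by
    show ω • ((a : B) * b) = (a : B) * (ω • b)
    rw [smul_mul', a.2 ω]⟩
  have : Algebra.IsInvariant A' B Ω := ⟨fun b hb => ⟨⟨b, hb⟩, rfl⟩⟩
  have dec : (∀ x : B, (∀ ω ∈ Ω, ω • x = x) → (x ∈ P ↔ γ • x ∈ P)) →
      ∃ ω ∈ Ω, ∀ x : B, x ∈ P ↔ (γ * ω) • x ∈ P := by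
    intro h
    have hQ : P.under A' = (γ⁻¹ • P).under A' := by
      ext ⟨a, ha⟩
      show a ∈ P ↔ a ∈ γ⁻¹ • P
      rw [Ideal.mem_inv_pointwise_smul_iff]
      exact h a fun ω hω => ha ⟨ω, hω⟩
    obtain ⟨⟨ω, hω⟩, hω'⟩ := Algebra.IsInvariant.exists_smul_of_under_eq A' B Ω P (γ⁻¹ • P) hQ
    refine ⟨ω, hω, fun x => ?_⟩
    rw [mul_smul, ← Ideal.mem_inv_pointwise_smul_iff, hω']
    exact (Ideal.smul_mem_pointwise_smul_iff (a := ω) (S := P) (x := x)).symm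
  refine ⟨⟨dec, fun ⟨ω, hω, h⟩ x hx => by rw [h x, mul_smul, hx ω hω]⟩, ⟨fun h => ?_,
    fun ⟨ω, hω, h⟩ x hx => by simpa [mul_smul, hx ω hω] using h x⟩⟩
  obtain ⟨ω₁, hω₁, h₁⟩ := dec fun x hx =>
    ⟨fun hP => by simpa using P.add_mem (h x hx) hP,
        fun hP => by simpa using P.sub_mem hP (h x hx)⟩
  let g := γ * ω₁
  let e : (B ⧸ P) ≃+* (B ⧸ P) := Ideal.quotientEquiv P P (MulSemiringAction.toRingEquiv Γ B g) (by
    ext x
    rw [Ideal.map_comap_of_equiv, Ideal.mem_comap]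
    have h2 := h₁ (g⁻¹ • x)
    rw [smul_inv_smul] at h2
    exact h2.symm)
  let p := P.under A'
  let e' : (B ⧸ P) ≃ₐ[A' ⧸ p] (B ⧸ P) := AlgEquiv.ofRingEquiv (f := e) (fun a => by
    induction a using Quotient.inductionOn' with
    | h a =>
      show Ideal.Quotient.mk P (g • (a : B)) = Ideal.Quotient.mk P (a : B)
      rw [Ideal.Quotient.eq]
      simpa [g, mul_smul, show ω₁ • (a : B) = a from a.2 ⟨ω₁, hω₁⟩] using
        h a (fun ω hω => a.2 ⟨ω, hω⟩))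
  obtain ⟨⟨⟨σ, hσ⟩, hσP⟩, hσe⟩ := Ideal.Quotient.stabilizerHom_surjective Ω p P e'
  refine ⟨ω₁ * σ⁻¹, Ω.mul_mem hω₁ (Ω.inv_mem hσ), fun x => ?_⟩
  have h3 : Ideal.Quotient.mk P (σ • (σ⁻¹ • x)) = Ideal.Quotient.mk P (g • (σ⁻¹ • x)) :=
    AlgEquiv.congr_fun hσe (Ideal.Quotient.mk P (σ⁻¹ • x))
  rw [smul_inv_smul, eq_comm, Ideal.Quotient.eq, smul_smul] at h3
  rw [← mul_assoc]
  exact h3

/-- Let `B` be a commutative ring with an action of a finite group `Γ` by ring automorphisms, `Ω` a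
normal subgroup of `Γ`, `B^Ω` the subring of `Ω`-invariants (stable under `Γ`, with the induced
action of `Γ/Ω`), and `P` a prime ideal of `B`. Then (decomposition groups) an element `γ` maps `P ∩
B^Ω` onto itself if and only if `γω` maps `P` onto itself for some `ω ∈ Ω`; and (inertia groups) `γ`
fixes `B^Ω` modulo `P ∩ B^Ω` if and only if `γω` fixes `B` modulo `P` for some `ω ∈ Ω`. In other
words the decomposition and inertia groups of `P ∩ B^Ω` under `Γ/Ω` are the images of those of `P`.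
(The published statement also asserts the same for the ramification groups, the Sylow subgroups of
the inertia groups at the residue characteristic; that clause is not included here.) -/
theorem result
    (B : Type u) [CommRing B] (Γ : Type v) [Group Γ] [Finite Γ] [MulSemiringAction Γ B]
    (Ω : Subgroup Γ) [Ω.Normal] (P : Ideal B) [P.IsPrime] (γ : Γ) :
    ((∀ x : B, (∀ ω ∈ Ω, ω • x = x) → (x ∈ P ↔ γ • x ∈ P)) ↔
        ∃ ω ∈ Ω, ∀ x : B, x ∈ P ↔ (γ * ω) • x ∈ P) ∧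
      ((∀ x : B, (∀ ω ∈ Ω, ω • x = x) → γ • x - x ∈ P) ↔
        ∃ ω ∈ Ω, ∀ x : B, (γ * ω) • x - x ∈ P) := by
  exact aux B Γ Ω P γ

end Groth.Agent.S12935
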