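import Groth.Statements.S12936
import Mathlib.RingTheory.Ideal.Pointwise
import Mathlib.RingTheory.Ideal.Quotient.Operations
import Mathlib.GroupTheory.GroupAction.Quotient
import Mathlib.RingTheory.Invariant.Basic

set_option autoImplicit false
universe u v
open InvTh

namespace Groth.Agent.S12936

open scoped Pointwise in
private theorem aux (B : Type u) [CommRing B] (Γ : Type v) [Group Γ] [Finite Γ] [MulSemiringAction Γ B]
    (P : Ideal B) [P.IsMaximal] (x : B)
    (hx : ∀ γ : Γ, (∀ y : B, y ∈ P ↔ γ • y ∈ P) → γ • x = x) :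
    ∃ c : B, (∀ γ : Γ, γ • c = c) ∧ x - c ∈ P := by
  classical
  have : Fintype Γ := Fintype.ofFinite Γ
  let D := MulAction.stabilizer Γ P
  let J : Ideal B := (Finset.univ.filter (fun γ : Γ => γ • P ≠ P)).inf (fun γ => γ • P)
  have hJ : P ⊔ J = ⊤ := by
    by_contra hne
    have h1 : J ≤ P := le_sup_right.trans (Ideal.IsMaximal.eq_of_le ‹_› hne le_sup_left).ge
    obtain ⟨γ, hγ, h2⟩ := (Ideal.IsPrime.inf_le' inferInstance).1 h1
    have h3 : P ≤ γ⁻¹ • P := Ideal.pointwise_smul_subset_iff.1 h2
    have h4 : γ⁻¹ • P = P := smul_eq_of_le_smul h3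
    exact (Finset.mem_filter.1 hγ).2 (inv_smul_eq_iff.1 h4).symm
  obtain ⟨p, hp, u, hu, hpu⟩ := Submodule.mem_sup.1 ((Ideal.eq_top_iff_one _).1 hJ)
  let y : B := x * ∏ δ : D, (δ : Γ) • u
  have hy1 : Ideal.Quotient.mk P y = Ideal.Quotient.mk P x := by
    simp only [y, map_mul, map_prod]
    rw [Finset.prod_eq_one, mul_one]
    intro δ _
    rw [← map_one (Ideal.Quotient.mk P), Ideal.Quotient.eq]
    have h := Ideal.smul_mem_pointwise_smul (δ : Γ) p P hp
    rw [MulAction.mem_stabilizer_iff.1 δ.2] at h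
    have he : (δ : Γ) • u - 1 = -((δ : Γ) • p) := by
      rw [eq_sub_of_add_eq' hpu, smul_sub, smul_one]
      ring
    rw [he]
    exact neg_mem h
  have hy2 : ∀ γ : Γ, γ ∉ D → γ • y ∈ P := by
    intro γ hγ
    have hγ' : γ⁻¹ • P ≠ P := fun h => hγ (MulAction.mem_stabilizer_iff.2 (by
      nth_rw 1 [← h]; rw [smul_inv_smul]))
    have hu' : u ∈ γ⁻¹ • P := Finset.inf_le (f := fun γ : Γ => γ • P)
      (Finset.mem_filter.2 ⟨Finset.mem_univ γ⁻¹, hγ'⟩) hu
    refine Ideal.mem_inv_pointwise_smul_iff.1 (Ideal.mul_mem_left _ _ ?_)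
    rw [← Finset.mul_prod_erase _ _ (Finset.mem_univ (1 : D))]
    refine Ideal.mul_mem_right _ _ ?_
    simpa using hu'
  have hyD : ∀ d ∈ D, d • y = y := by
    intro d hd
    have hxd : d • x = x := hx d fun z => by
      have hdP : d • P = P := hd
      nth_rw 2 [← hdP]
      rw [Ideal.smul_mem_pointwise_smul_iff]
    simp only [y, smul_mul', hxd, Finset.smul_prod']
    congr 1
    exact Fintype.prod_equiv (Equiv.mulLeft ⟨d, hd⟩) _ _ (fun δ => by simp [mul_smul])
  have : Finite (Γ ⧸ D) := Finite.of_surjective _ (QuotientGroup.mk_surjective (s := D))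
  have : Fintype (Γ ⧸ D) := Fintype.ofFinite _
  let F : Γ ⧸ D → B := fun q => Quotient.liftOn' q (fun γ => γ • y) (fun a b hab => by
    have h := hyD _ (QuotientGroup.leftRel_apply.1 hab)
    rw [mul_smul, inv_smul_eq_iff] at h
    exact h.symm)
  refine ⟨∑ q : Γ ⧸ D, F q, fun g => ?_, ?_⟩
  · rw [Finset.smul_sum]
    refine Fintype.sum_equiv (MulAction.toPerm g) _ _ (fun q => ?_)
    induction q using QuotientGroup.induction_on with
    | H γ =>
      show g • (γ • y) = (g * γ) • y
      rw [mul_smul]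
  · rw [← Ideal.Quotient.eq, ← hy1, map_sum,
      Finset.sum_eq_single_of_mem (QuotientGroup.mk (1 : Γ)) (Finset.mem_univ _)]
    · show _ = Ideal.Quotient.mk P ((1 : Γ) • y)
      rw [one_smul]
    · intro q _ hq
      induction q using QuotientGroup.induction_on with
      | H γ =>
        exact Ideal.Quotient.eq_zero_iff_mem.2 (hy2 γ (fun h => hq (QuotientGroup.eq.2 (by simpa using h))))

/-- Let `B` be a commutative ring with an action of a finite group `Γ` by ring automorphisms and `P` a
maximal ideal of `B`, with decomposition group `D_P = {γ | γP = P}` and decomposition ring `D =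
B^{D_P}`. Then `D = B^Γ + (P ∩ D)`: every element of `B` fixed by `D_P` is congruent modulo `P` to a
`Γ`-invariant element. Hence the residue field of `D` at `P ∩ D` is that of `B^Γ` at `P ∩ B^Γ`; for
an arbitrary prime `P` the same equality of residue fields follows by localising at `P ∩ B^Γ`. (The
published statement prints this residue field as `k(P)`; the proof establishes the equality with the
residue field of `B^Γ` stated here.) -/
theorem result
    (B : Type u) [CommRing B] (Γ : Type v) [Group Γ] [Finite Γ] [MulSemiringAction Γ B]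
    (P : Ideal B) [P.IsMaximal] (x : B)
    (hx : ∀ γ : Γ, (∀ y : B, y ∈ P ↔ γ • y ∈ P) → γ • x = x) :
    ∃ c : B, (∀ γ : Γ, γ • c = c) ∧ x - c ∈ P := by
  exact aux B Γ P x hx

end Groth.Agent.S12936
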