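import Groth.Statements.S12947
import Groth.Agent.AlgSt88.DiagRepProps

set_option autoImplicit false
universe u
open CategoryTheory AlgebraicGeometry
open AlgSt

namespace Groth.Agent.S12947

/-- A morphism of algebraic stacks that is representable by algebraic spaces is DM (its diagonal, a
monomorphism locally of finite type, is unramified). -/
theorem result
    (S : Scheme.{u}) (𝒳 : AlgSt.Cat S) (𝒴 : AlgSt.Cat S)
    (h𝒳 : AlgSt.IsAlgStack Scheme.fppfPrecoverage 𝒳)
    (h𝒴 : AlgSt.IsAlgStack Scheme.fppfPrecoverage 𝒴)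
    (f : 𝒳 ⥤ᵇ 𝒴)
    (hf : AlgSt.RepByAlgSp1 f) :
    AlgSt.IsDMMor f := by
  exact Groth.Agent.AlgSt88.repByAlgSpWith_mono_spaces (fun _ _ hX hY _ h =>
      Groth.Agent.SpFP87.locP_of_repWith hX.diag hY (Groth.Agent.SpPts86.repWith_mono Groth.Agent.AlgSt88.diagLike_le_unr h))
    (Groth.Agent.AlgSt88.diagLike_of_rep h𝒳.isStack.1 h𝒴.isStack.1 hf)

end Groth.Agent.S12947
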