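import Groth.Agent.FlatCrit65.Purity.Descend
import Groth.Statements.S1296

set_option autoImplicit false
universe u
open FlatMor

namespace Groth.Agent.S1296

theorem result {A B : Type u} [CommRing A] [CommRing B] [Algebra A B] [Algebra.FiniteType A B]
    (N : Type u) [AddCommGroup N] [Module B N] [Module.Finite B N] (p : Ideal A) [p.IsPrime]
    {ι : Type u} [Preorder ι] (G : ι → Type u) [∀ i, CommRing (G i)] [∀ i, Algebra A (G i)]
    (g : ∀ i j, i ≤ j → G i →ₐ[A] G j)
    (A' : Type u) [CommRing A'] [Algebra A A'] [∀ i, Algebra (G i) A'] [∀ i, IsScalarTower A (G i) A']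
    (hcolim : FlatCA.IsDirectedColimitRing G (fun i j h => (g i j h).toRingHom) A')
    (B' N' : Type u) [CommRing B'] [Algebra B B'] [Algebra A' B'] [Algebra A B'] [IsScalarTower A B B'] [IsScalarTower A A' B']
    [AddCommGroup N'] [Module B' N'] [Module B N'] [IsScalarTower B B' N'] [Module A' N'] [IsScalarTower A' B' N']
    (f : N →ₗ[B] N') (t' t : Ideal A') [t'.IsPrime] [t.IsPrime] (P : Ideal B') [P.IsPrime]
    (himp : FlatCA.IsImpurity A B N p A' B' N' f t' t P) :
    ∃ i : ι, FlatCA.HasImpurity A B N p (fun A'' _ _ t'' => ∃ e : A'' ≃ₐ[A] G i, t''.map e = t.comap (algebraMap (G i) A')) := by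
  classical
  obtain ⟨hdir, hne, -, -, hcompat, hsurj, -⟩ := hcolim
  haveI := hdir
  haveI := hne
  obtain ⟨-, -, -, hto, -, -, -⟩ := id himp
  obtain ⟨s, F, hst, hdesc⟩ := Groth.Agent.FlatCrit65.Purity.exists_descend f t' t P himp
  choose ix x hx using hsurj
  obtain ⟨i, hi⟩ := Finset.exists_le ((insert s F).image ix)
  have hmem : ∀ a ∈ insert s F, ∃ y : G i, algebraMap (G i) A' y = a := fun a ha => by
    refine ⟨g (ix a) i (hi _ (Finset.mem_image_of_mem ix ha)) (x a), ?_⟩
    have h := congrArg (fun φ : G (ix a) →+* A' => φ (x a)) (hcompat (ix a) i (hi _ (Finset.mem_image_of_mem ix ha)))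
    exact h.trans (hx a)
  obtain ⟨s₀, hs₀⟩ := hmem s (Finset.mem_insert_self _ _)
  haveI : (t.comap (algebraMap (G i) A')).IsPrime := Ideal.comap_isPrime _ _
  refine ⟨i, hdesc (G i) (IsScalarTower.toAlgHom A (G i) A')
    (fun a ha => hmem a (Finset.mem_insert_of_mem ha)) s₀ hs₀ (t.comap (algebraMap (G i) A')) le_rfl ⟨?_⟩
    (fun h => hst (hs₀ ▸ h)) _ ⟨AlgEquiv.refl, Ideal.map_id _⟩⟩
  rw [Ideal.under, Ideal.comap_comap, ← IsScalarTower.algebraMap_eq]
  exact hto.over

end Groth.Agent.S1296
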