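import Groth.Statements.S12960
import Groth.Agent.AlgSt88.DiagDescent
import Groth.Agent.AlgSt88.SepLocP
import Groth.Agent.AlgSt88.SepQs
import Groth.Agent.SpFP87.EtLocInst
import Groth.Agent.S10543

set_option autoImplicit false
universe u
open CategoryTheory AlgebraicGeometry
open AlgSt

namespace Groth.Agent.S12960

/-- Let f : 𝒳 → 𝒴 be a morphism of algebraic stacks and W → 𝒴 a surjective, flat, locally finitely
presented morphism whose source is an algebraic space. Whenever the projection W ×_𝒴 𝒳 → W is DM, f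
is DM too (DM: the diagonal is representable by algebraic spaces and unramified (locally of finite
type and formally unramified)). -/
theorem result
    (S : Scheme.{u}) (𝒳 : AlgSt.Cat S) (𝒴 : AlgSt.Cat S)
    (h𝒳 : AlgSt.IsAlgStack Scheme.fppfPrecoverage 𝒳)
    (h𝒴 : AlgSt.IsAlgStack Scheme.fppfPrecoverage 𝒴)
    (f : 𝒳 ⥤ᵇ 𝒴)
    (W : AlgSp.Space S) (w : AlgSt.ofSp W.obj ⥤ᵇ 𝒴)
    (hw₁ : AlgSt.RepByAlgSpWith (AlgSp.LocP @Flat) w)
    (hw₂ : AlgSt.RepByAlgSpWith (AlgSp.LocP @LocallyOfFinitePresentation) w)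
    (hw₃ : AlgSt.RepByAlgSpWith AlgSp.IsSurjectiveMor w) :
    AlgSt.IsDMMor (FibCat.fpFst w f) → AlgSt.IsDMMor f := by
  intro h
  exact Groth.Agent.AlgSt88.repByAlgSpWith_diag_descends h𝒳.isStack.1 h𝒴.isStack.1
    (Stk.isFibGrpd_ofPsh W.obj.obj) h𝒳.diag h𝒴.diag
    (Groth.Agent.AlgSt88.stableBC_locP _)
    (Groth.Agent.AlgSt88.fppf_local_of_fpqc (Groth.Agent.S10543.result S)) hw₁ hw₂ hw₃ h

end Groth.Agent.S12960
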