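import Groth.Statements.S12971
import Groth.Agent.AlgSt88.EquivRep
import Groth.Agent.S10277
import Groth.Agent.SpFP87.EtLocInst

set_option autoImplicit false
universe u
open CategoryTheory AlgebraicGeometry
open AlgSt

namespace Groth.Agent.S12971

/-- A monomorphism of algebraic stacks (representable by algebraic spaces and a monomorphism) is
separated and DM. -/
theorem result
    (S : Scheme.{u}) (𝒳 : AlgSt.Cat S) (𝒴 : AlgSt.Cat S)
    (h𝒳 : AlgSt.IsAlgStack Scheme.fppfPrecoverage 𝒳)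
    (h𝒴 : AlgSt.IsAlgStack Scheme.fppfPrecoverage 𝒴)
    (f : 𝒳 ⥤ᵇ 𝒴) :
    AlgSt.IsMono f → AlgSt.IsSeparatedMor f ∧ AlgSt.IsDMMor f := by
  intro h
  haveI := Groth.Agent.AlgSt88.full_of_isMono h𝒳.isStack.1 h𝒴.isStack.1 h
  haveI := Groth.Agent.AlgSt88.faithful_of_isMono h𝒳.isStack.1 h𝒴.isStack.1 h
  have he := Groth.Agent.AlgSt88.isEquivOver_diag_of_fullyFaithful h𝒳.isStack.1 h𝒴.isStack.1 f
  refine ⟨Groth.Agent.AlgSt88.repByAlgSpWith_of_isEquivOver he fun U => ?_,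
    Groth.Agent.AlgSt88.repByAlgSpWith_of_isEquivOver he fun U =>
      Groth.Agent.SpFP87.locP_of_isIso (𝟙 _) (AlgSp.IsAlgSpace.yon_obj U) (AlgSp.IsAlgSpace.yon_obj U)⟩
  refine Groth.Agent.S10277.result (X := ⟨_, AlgSp.IsAlgSpace.yon_obj U⟩) (Y := ⟨_, AlgSp.IsAlgSpace.yon_obj U⟩) (𝟙 _) ?_
  change AlgSp.RepWith @IsClosedImmersion (𝟙 ((AlgSp.yon S).obj U))
  exact MorphismProperty.id_mem _ _

end Groth.Agent.S12971
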