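import Groth.Statements.S12976
import Groth.Agent.AlgSt88.RepCrit

set_option autoImplicit false
set_option backward.isDefEq.respectTransparency false
set_option backward.isDefEq.respectTransparency.types false
universe u
open CategoryTheory AlgebraicGeometry
open AlgSt

namespace Groth.Agent.S12976

/-- A morphism f between algebraic stacks is representable by algebraic spaces exactly when its second
diagonal 𝒳 → 𝒳 ×_{𝒳 ×_𝒴 𝒳} 𝒳 is an isomorphism, that is an equivalence over the base. -/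
theorem result
    (S : Scheme.{u}) (𝒳 : AlgSt.Cat S) (𝒴 : AlgSt.Cat S)
    (h𝒳 : AlgSt.IsAlgStack Scheme.fppfPrecoverage 𝒳)
    (h𝒴 : AlgSt.IsAlgStack Scheme.fppfPrecoverage 𝒴)
    (f : 𝒳 ⥤ᵇ 𝒴) :
    AlgSt.RepByAlgSp1 f ↔ FibCat.IsEquivOver (FibCat.diag (FibCat.diag f)) := by
  have hX := h𝒳.isStack.1
  have hF := Groth.Agent.AlgSt88.isFibGrpd_fp hX hX h𝒴.isStack.1 f f
  constructor
  · intro h
    haveI := Groth.Agent.AlgSt88.faithful_of_repByAlgSp1 hX h𝒴.isStack.1 h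
    haveI : (FibCat.diag f).toFunctor.Faithful := ⟨fun {a b} _ _ h => congrArg (fun t => t.hom.fst) h⟩
    haveI : (FibCat.diag f).toFunctor.Full := ⟨fun {a b} k => by
      have hw : f.map k.hom.fst ≫ 𝟙 _ = 𝟙 _ ≫ f.map k.hom.snd := k.hom.w
      rw [Category.comp_id, Category.id_comp] at hw
      exact ⟨k.hom.fst, Groth.Agent.AlgSt88.fpHom_ext rfl (f.toFunctor.map_injective hw)⟩⟩
    exact Groth.Agent.AlgSt88.isEquivOver_diag_of_fullyFaithful hX hF (FibCat.diag f)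
  · intro h
    refine (Groth.Agent.AlgSt88.trivKer_iff_repByAlgSp1 h𝒳 h𝒴).2 fun a φ hp hf => ?_
    haveI : 𝒳.p.IsHomLift (𝟙 (𝒳.p.obj a)) φ := IsHomLift.of_fac' _ _ _ rfl rfl (by simp [hp])
    haveI : IsIso (𝒳.p.map φ) := by rw [hp]; infer_instance
    haveI := Groth.Agent.AlgSt88.fg_isIso_of_isIso_map hX φ
    let k : (FibCat.diag f).obj a ≅ (FibCat.diag f).obj a := Groth.Agent.AlgSt88.fpObjIso (asIso φ) (Iso.refl a) (by
      change f.map φ ≫ 𝟙 _ = 𝟙 _ ≫ f.map (𝟙 a)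
      rw [hf, Groth.Agent.AlgSt88.map_id' f]
      first | done | exact Eq.trans (Category.comp_id _) (Category.id_comp _).symm)
    let z : (FibCat.fp (FibCat.diag f) (FibCat.diag f)).obj := ⟨⟨a, a, k⟩, Groth.Agent.AlgSt88.fp_isHomLift _ (inferInstanceAs
      (𝒳.p.IsHomLift (𝟙 (𝒳.p.obj a)) φ))⟩
    obtain ⟨x, e, -⟩ := (Groth.Agent.AlgSt88.isEquivData_of_isEquivOver h).essSurj z
    have hw := e.hom.hom.w
    have h1 : e.hom.hom.fst ≫ φ = 𝟙 x ≫ e.hom.hom.snd := congrArg (fun t => t.hom.fst) hw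
    have h2 : e.hom.hom.fst ≫ 𝟙 a = 𝟙 x ≫ e.hom.hom.snd := congrArg (fun t => t.hom.snd) hw
    haveI : IsIso e.hom.hom.fst := (FibCat.fpFst (FibCat.diag f) (FibCat.diag f)).toFunctor.map_isIso e.hom
    exact (cancel_epi e.hom.hom.fst).1 (h1.trans h2.symm)

end Groth.Agent.S12976
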