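import Groth.Statements.S12978
import Groth.Agent.AlgSt88.RepCrit

set_option autoImplicit false
set_option backward.isDefEq.respectTransparency false
set_option backward.isDefEq.respectTransparency.types false
universe u
open CategoryTheory AlgebraicGeometry
open AlgSt

namespace Groth.Agent.S12978

/-- A morphism f of algebraic stacks whose diagonal is a monomorphism (representable by algebraic spaces
and a monomorphism) is representable by algebraic spaces. Together with the forward direction (a
morphism representable by algebraic spaces has monomorphic diagonal) this characterises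
representability by the first diagonal. -/
theorem result
    (S : Scheme.{u}) (𝒳 : AlgSt.Cat S) (𝒴 : AlgSt.Cat S)
    (h𝒳 : AlgSt.IsAlgStack Scheme.fppfPrecoverage 𝒳)
    (h𝒴 : AlgSt.IsAlgStack Scheme.fppfPrecoverage 𝒴)
    (f : 𝒳 ⥤ᵇ 𝒴) :
    AlgSt.IsMono (FibCat.diag f) → AlgSt.RepByAlgSp1 f := by
  intro h
  have hX := h𝒳.isStack.1
  haveI := Groth.Agent.AlgSt88.full_of_isMono hX (Groth.Agent.AlgSt88.isFibGrpd_fp hX hX h𝒴.isStack.1 f f) h
  refine (Groth.Agent.AlgSt88.trivKer_iff_repByAlgSp1 h𝒳 h𝒴).2 fun a φ hp hf => ?_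
  let k : (FibCat.diag f).obj a ⟶ (FibCat.diag f).obj a := Groth.Agent.AlgSt88.fpHom φ (𝟙 a) (by
    change f.map φ ≫ 𝟙 _ = 𝟙 _ ≫ f.map (𝟙 a)
    rw [hf, Groth.Agent.AlgSt88.map_id' f]
    first | done | exact Eq.trans (Category.comp_id _) (Category.id_comp _).symm)
  obtain ⟨m, hm⟩ := (FibCat.diag f).toFunctor.map_surjective k
  have h1 : m = φ := congrArg (fun t => t.hom.fst) hm
  have h2 : m = 𝟙 a := congrArg (fun t => t.hom.snd) hm
  exact h1.symm.trans h2

end Groth.Agent.S12978
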