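import Groth.Statements.S12979
import Groth.Agent.AlgSt88.SepRep
import Groth.Agent.AlgSt88.UnivClosedQC

set_option autoImplicit false
universe u
open CategoryTheory AlgebraicGeometry
open AlgSt

namespace Groth.Agent.S12979

/-- If the first and second diagonals of a morphism f of algebraic stacks are both universally closed
(as morphisms representable by algebraic spaces), then f is separated. (The published statement is
an equivalence; this row states the implication from the two diagonals to separatedness.) -/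
theorem result
    (S : Scheme.{u}) (𝒳 : AlgSt.Cat S) (𝒴 : AlgSt.Cat S)
    (h𝒳 : AlgSt.IsAlgStack Scheme.fppfPrecoverage 𝒳)
    (h𝒴 : AlgSt.IsAlgStack Scheme.fppfPrecoverage 𝒴)
    (f : 𝒳 ⥤ᵇ 𝒴) :
    AlgSt.RepByAlgSpWith AlgSp.IsUnivClosedMor (FibCat.diag f) →
      AlgSt.RepByAlgSpWith AlgSp.IsUnivClosedMor (FibCat.diag (FibCat.diag f)) → AlgSt.IsSeparatedMor f := by
  intro h1 h2
  have hs := Groth.Agent.AlgSt88.sep_of_univClosed_diag (Groth.Agent.AlgSt88.repByAlgSp1_of_with h1) h2
  have hl := Groth.Agent.AlgSt88.lft_diag h𝒳 h𝒴 f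
  haveI : (AlgSp.LocP (S := S) @LocallyOfFiniteType).RespectsIso := Groth.Agent.AlgSt88.respectsIso_locP _
  haveI : (AlgSp.IsUnivClosedMor (S := S)).RespectsIso := Groth.Agent.AlgSt88.respectsIso_univClosed
  have h := Groth.Agent.AlgSt88.repByAlgSpWith_inf h1 (Groth.Agent.AlgSt88.repByAlgSpWith_inf hl hs)
  exact Groth.Agent.AlgSt88.repByAlgSpWith_mono_spaces (fun X Y hA hB a ha =>
    ⟨ha.2.2, ⟨ha.2.1, Groth.Agent.AlgSt88.isQuasiCompactMor_of_isUnivClosedMor hA hB ha.1⟩, ha.1⟩) h

end Groth.Agent.S12979
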