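import Groth.Statements.S1298
import Mathlib
import Groth.Agent.NearGen2.Fibre

set_option autoImplicit false
set_option linter.style.haveILetI false
set_option linter.style.longLine false
universe u
open FlatMor

namespace Groth.Agent.S1298

open AlgebraicGeometry Groth.Agent.NearGen2

open AlgebraicGeometry CategoryTheory Limits in
/-- Let f be of finite type with irreducible target and let Z be a closed subset of the source whose
trace on the generic fibre is nowhere dense there. Then over some nonempty open of the target every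
fibre of Z is nowhere dense in the corresponding fibre of f. -/
theorem result {X Y : Scheme.{u}} (f : X ⟶ Y) [IrreducibleSpace ↑Y] [LocallyOfFiniteType f] [QuasiCompact f]
    (Z : Set ↑X) (hZ : IsClosed Z) (h : IsNowhereDense ((f.fiberι (genericPoint ↑Y)) ⁻¹' Z)) :
    ∃ V : Y.Opens, (V : Set ↑Y).Nonempty ∧ ∀ y ∈ V, IsNowhereDense ((f.fiberι y) ⁻¹' Z) := by
  have hd : Dense (f.fiberι (genericPoint ↑Y) ⁻¹' Zᶜ) :=
    (isClosed_isNowhereDense_iff_compl.mp ⟨hZ.preimage (f.fiberι _).continuous, h⟩).2
  obtain ⟨V, hV, hy⟩ := near_dense f hZ.isOpen_compl ((dense_trace_iff f _ _).mp hd)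
  exact ⟨V, hV, fun y hyV => (isClosed_isNowhereDense_iff_compl.mpr
    ⟨(hZ.preimage (f.fiberι y).continuous).isOpen_compl, (dense_trace_iff f y Zᶜ).mpr (hy y hyV)⟩).2⟩

end Groth.Agent.S1298
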