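import Groth.Statements.S12980
import Groth.Agent.AlgSt88.SepRep

set_option autoImplicit false
universe u
open CategoryTheory AlgebraicGeometry
open AlgSt

namespace Groth.Agent.S12980

/-- A morphism f of algebraic stacks is quasi-separated if and only if its first and second diagonals
are both quasi-compact (as morphisms representable by algebraic spaces). -/
theorem result
    (S : Scheme.{u}) (𝒳 : AlgSt.Cat S) (𝒴 : AlgSt.Cat S)
    (h𝒳 : AlgSt.IsAlgStack Scheme.fppfPrecoverage 𝒳)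
    (h𝒴 : AlgSt.IsAlgStack Scheme.fppfPrecoverage 𝒴)
    (f : 𝒳 ⥤ᵇ 𝒴) :
    AlgSt.IsQuasiSeparatedMor f ↔
      AlgSt.RepByAlgSpWith AlgSp.IsQuasiCompactMor (FibCat.diag f) ∧
        AlgSt.RepByAlgSpWith AlgSp.IsQuasiCompactMor (FibCat.diag (FibCat.diag f)) := by
  have hX := h𝒳.isStack.1
  have hY := h𝒴.isStack.1
  have hF := Groth.Agent.AlgSt88.isFibGrpd_fp hX hX hY f f
  constructor
  · intro h
    exact ⟨Groth.Agent.AlgSt88.repByAlgSpWith_mono (fun _ _ _ ha => ha.1) h,
      Groth.Agent.AlgSt88.qc_diag_of_qs hX hF (Groth.Agent.AlgSt88.repByAlgSpWith_mono (fun _ _ _ ha => ha.2) h)⟩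
  · rintro ⟨h1, h2⟩
    haveI := Groth.Agent.AlgSt88.respectsIso_qc (S := S)
    exact Groth.Agent.AlgSt88.repByAlgSpWith_inf h1
      (Groth.Agent.AlgSt88.qs_of_qc_diag (Groth.Agent.AlgSt88.repByAlgSp1_of_with h1) h2)

end Groth.Agent.S12980
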