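import Groth.Statements.S12984
import Groth.Agent.AlgSt88.QCMorSt

set_option autoImplicit false
universe u
open CategoryTheory AlgebraicGeometry
open AlgSt

namespace Groth.Agent.S12984

/-- A closed immersion of algebraic stacks is quasi-compact. -/
theorem result
    (S : Scheme.{u}) (𝒳 : AlgSt.Cat S) (𝒴 : AlgSt.Cat S)
    (h𝒳 : AlgSt.IsAlgStack Scheme.fppfPrecoverage 𝒳)
    (h𝒴 : AlgSt.IsAlgStack Scheme.fppfPrecoverage 𝒴)
    (f : 𝒳 ⥤ᵇ 𝒴) :
    AlgSt.IsClosedImm f → AlgSt.IsQuasiCompactMor Scheme.fppfPrecoverage f := by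
  intro h
  refine (Groth.Agent.AlgSt88.repByAlgSpWith_quasiCompact_iff h𝒳 h𝒴 (Groth.Agent.AlgSt88.repByAlgSp1_of_with h)).1
    (Groth.Agent.AlgSt88.repByAlgSpWith_mono_spaces (fun _ _ _ hB a ha => ?_) h)
  exact Groth.Agent.SpPts86.isQuasiCompactMor_of_repWith hB
    (Groth.Agent.SpPts86.repWith_mono (fun _ _ k hk => by have : IsClosedImmersion k := hk; exact (inferInstance : QuasiCompact k)) ha)

end Groth.Agent.S12984
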