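import Groth.Statements.S12997
import Groth.Agent.AlgSt88.SpQDescend
import Groth.Agent.S10527

set_option autoImplicit false
universe u
open CategoryTheory AlgebraicGeometry
open AlgSt

namespace Groth.Agent.S12997

/-- An open immersion of algebraic stacks is locally of finite presentation. -/
theorem result
    (S : Scheme.{u}) (𝒳 : AlgSt.Cat S) (𝒴 : AlgSt.Cat S)
    (h𝒳 : AlgSt.IsAlgStack Scheme.fppfPrecoverage 𝒳)
    (h𝒴 : AlgSt.IsAlgStack Scheme.fppfPrecoverage 𝒴)
    (f : 𝒳 ⥤ᵇ 𝒴) :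
    AlgSt.IsOpenImm f → AlgSt.LocQ (AlgSp.LocP @LocallyOfFinitePresentation) f := by
  intro h
  refine (Groth.Agent.AlgSt88.locQ_iff_repByAlgSpWith Groth.Agent.AlgSt88.smoothLocal_lfp
    (Groth.Agent.AlgSt88.stableBC_locP _) (Groth.Agent.AlgSt88.fppf_local_of_fpqc (Groth.Agent.S10527.result S))
    h𝒳 h𝒴 (Groth.Agent.AlgSt88.repByAlgSp1_of_with h)).2 ?_
  refine Groth.Agent.AlgSt88.repByAlgSpWith_mono_spaces (fun _ _ hA hB a ha => ?_) h
  exact Groth.Agent.SpFP87.locP_of_repWith (P := @LocallyOfFinitePresentation) hA.diag hB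
    (Groth.Agent.SpPts86.repWith_mono (fun _ _ k hk => by have : IsOpenImmersion k := hk; exact (inferInstance : LocallyOfFinitePresentation k)) ha)

end Groth.Agent.S12997
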