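import Groth.Statements.S13000
import Groth.Agent.AlgSt88.SpQDescend
import Groth.Agent.S10526

set_option autoImplicit false
universe u
open CategoryTheory AlgebraicGeometry
open AlgSt

namespace Groth.Agent.S13000

/-- Let f : 𝒳 → 𝒴 be a morphism of algebraic stacks and W → 𝒴 a surjective, flat, locally finitely
presented morphism whose source is an algebraic space. Whenever the projection to W from W ×_𝒴 𝒳 is
locally of finite type, so is f. -/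
theorem result
    (S : Scheme.{u}) (𝒳 : AlgSt.Cat S) (𝒴 : AlgSt.Cat S)
    (h𝒳 : AlgSt.IsAlgStack Scheme.fppfPrecoverage 𝒳)
    (h𝒴 : AlgSt.IsAlgStack Scheme.fppfPrecoverage 𝒴)
    (f : 𝒳 ⥤ᵇ 𝒴)
    (W : AlgSp.Space S) (w : AlgSt.ofSp W.obj ⥤ᵇ 𝒴)
    (hw₁ : AlgSt.RepByAlgSpWith (AlgSp.LocP @Flat) w)
    (hw₂ : AlgSt.RepByAlgSpWith (AlgSp.LocP @LocallyOfFinitePresentation) w)
    (hw₃ : AlgSt.RepByAlgSpWith AlgSp.IsSurjectiveMor w) :
    AlgSt.LocQ (AlgSp.LocP @LocallyOfFiniteType) (FibCat.fpFst w f) → AlgSt.LocQ (AlgSp.LocP @LocallyOfFiniteType) f := by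
  intro h
  have hW := (Groth.Agent.AlgSt88.isDM_ofSp W).1
  have hr := Groth.Agent.AlgSt88.repByAlgSp1_of_with hw₁
  exact Groth.Agent.AlgSt88.spQ_of_fpFst Groth.Agent.AlgSt88.smoothLocal_lft
    (Groth.Agent.AlgSt88.fppf_local_of_fpqc (Groth.Agent.S10526.result S)) h𝒳 h𝒴 hW w
    (Groth.Agent.AlgSt88.spQ_of_locQ ((Groth.Agent.AlgSt88.locQ_iff_repByAlgSpWith Groth.Agent.AlgSt88.smoothLocal_flat
      (Groth.Agent.AlgSt88.stableBC_locP _) (Groth.Agent.AlgSt88.fppf_local_of_fpqc (Groth.Agent.S10530.result S)) hW h𝒴 hr).2 hw₁))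
    (Groth.Agent.AlgSt88.spQ_of_locQ ((Groth.Agent.AlgSt88.locQ_iff_repByAlgSpWith Groth.Agent.AlgSt88.smoothLocal_lfp
      (Groth.Agent.AlgSt88.stableBC_locP _) (Groth.Agent.AlgSt88.fppf_local_of_fpqc (Groth.Agent.S10527.result S)) hW h𝒴 hr).2 hw₂))
    (Groth.Agent.AlgSt88.isSurjective_of_sj h𝒴.isStack.1 hw₃) (Groth.Agent.AlgSt88.spQ_of_locQ h)

end Groth.Agent.S13000
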