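import Groth.Statements.S13001
import Groth.Agent.AlgSt88.SpQDescend

set_option autoImplicit false
universe u
open CategoryTheory AlgebraicGeometry
open AlgSt

namespace Groth.Agent.S13001

/-- Let 𝒳 → 𝒴 → 𝒵 be morphisms of algebraic stacks with 𝒳 → 𝒵 locally of finite type and with 𝒳 → 𝒴
flat, surjective, locally of finite presentation and representable by algebraic spaces. In this
situation 𝒴 → 𝒵 is also locally of finite type. -/
theorem result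
    (S : Scheme.{u}) (𝒳 : AlgSt.Cat S) (𝒴 : AlgSt.Cat S) (𝒵 : AlgSt.Cat S)
    (h𝒳 : AlgSt.IsAlgStack Scheme.fppfPrecoverage 𝒳)
    (h𝒴 : AlgSt.IsAlgStack Scheme.fppfPrecoverage 𝒴)
    (h𝒵 : AlgSt.IsAlgStack Scheme.fppfPrecoverage 𝒵)
    (f : 𝒳 ⥤ᵇ 𝒴) (g : 𝒴 ⥤ᵇ 𝒵)
    (hf₁ : AlgSt.RepByAlgSpWith (AlgSp.LocP @Flat) f)
    (hf₂ : AlgSt.RepByAlgSpWith (AlgSp.LocP @LocallyOfFinitePresentation) f)
    (hf₃ : AlgSt.RepByAlgSpWith AlgSp.IsSurjectiveMor f) :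
    AlgSt.LocQ (AlgSp.LocP @LocallyOfFiniteType) (BasedFunctor.comp f g) → AlgSt.LocQ (AlgSp.LocP @LocallyOfFiniteType) g := by
  have hr := Groth.Agent.AlgSt88.repByAlgSp1_of_with hf₁
  refine Groth.Agent.AlgSt88.locQ_of_precomp Groth.Agent.AlgSt88.smoothLocal_lft (fun {U V W} a b h1 h2 h3 h4 => ?_)
    h𝒳 h𝒴 h𝒵
    ((Groth.Agent.AlgSt88.locQ_iff_repByAlgSpWith Groth.Agent.AlgSt88.smoothLocal_flat
      (Groth.Agent.AlgSt88.stableBC_locP _) (Groth.Agent.AlgSt88.fppf_local_of_fpqc (Groth.Agent.S10530.result S)) h𝒳 h𝒴 hr).2 hf₁)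
    ((Groth.Agent.AlgSt88.locQ_iff_repByAlgSpWith Groth.Agent.AlgSt88.smoothLocal_lfp
      (Groth.Agent.AlgSt88.stableBC_locP _) (Groth.Agent.AlgSt88.fppf_local_of_fpqc (Groth.Agent.S10527.result S)) h𝒳 h𝒴 hr).2 hf₂)
    (Groth.Agent.AlgSt88.isSurjective_of_sj h𝒴.isStack.1 hf₃)
  exact (Groth.Agent.S10550.result S (fun _ : PUnit.{u + 1} => (AlgSp.yon S).obj U) (fun _ => a)
    (AlgSp.IsAlgSpace.yon_obj V) (fun _ => AlgSp.IsAlgSpace.yon_obj U)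
    (Groth.Agent.AlgSt88.isFppfCover_single a h1 h2 h3) b (AlgSp.IsAlgSpace.yon_obj W)).2 fun _ => h4

end Groth.Agent.S13001
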