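import Groth.Statements.S13006
import Groth.Agent.AlgSt88.SpQDescend
import Groth.Agent.SpPts86.LocPMore

set_option autoImplicit false
universe u
open CategoryTheory AlgebraicGeometry
open AlgSt

namespace Groth.Agent.S13006

/-- If a morphism f of algebraic stacks is locally of finite type then its diagonal is locally of finite
presentation. (The second assertion adds the quasi-compactness clauses on both sides.) -/
theorem result
    (S : Scheme.{u}) (𝒳 : AlgSt.Cat S) (𝒴 : AlgSt.Cat S)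
    (h𝒳 : AlgSt.IsAlgStack Scheme.fppfPrecoverage 𝒳)
    (h𝒴 : AlgSt.IsAlgStack Scheme.fppfPrecoverage 𝒴)
    (f : 𝒳 ⥤ᵇ 𝒴) :
    AlgSt.LocQ (AlgSp.LocP @LocallyOfFiniteType) f → AlgSt.LocQ (AlgSp.LocP @LocallyOfFinitePresentation) (FibCat.diag f) := by
  intro hf
  have hX := h𝒳.isStack.1
  have hF := Groth.Agent.AlgSt88.isAlgStack_fp h𝒴.isStack h𝒴.diag h𝒳 h𝒳 f f
  have hfst : AlgSt.LocQ (AlgSp.LocP @LocallyOfFiniteType) (FibCat.fpFst f f) :=
    (Groth.Agent.AlgSt88.locQ_iff_spQ Groth.Agent.AlgSt88.smoothLocal_lft hF h𝒳).2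
      (Groth.Agent.AlgSt88.spQ_fpFst Groth.Agent.AlgSt88.smoothLocal_lft (Groth.Agent.AlgSt88.stableBC_locP _) h𝒳 h𝒴 h𝒳 f
        (Groth.Agent.AlgSt88.spQ_of_locQ hf))
  obtain ⟨U, u, hu, hus⟩ := h𝒳.atlas
  refine Groth.Agent.AlgSt88.locQ_of_comp (P := @LocallyOfFinitePresentation) (Q := @LocallyOfFiniteType)
    (R := @LocallyOfFinitePresentation) (fun a b h1 h2 => ?_)
    Groth.Agent.AlgSt88.smoothLocal_lfp Groth.Agent.AlgSt88.smoothLocal_lft Groth.Agent.AlgSt88.smoothLocal_lfp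
    h𝒳 hF h𝒳 (g := FibCat.fpFst f f) ?_ hfst
  · haveI := h1
    haveI := h2
    exact Groth.Agent.SpPts86.lfp_of_comp a b
  · refine ⟨U, U, u, u, 𝟙 U, ?_, hu, hus, hu, (Groth.Agent.SpFP87.locP_yon_map_iff (P := @LocallyOfFinitePresentation) (𝟙 U)).2 (by rw [CategoryTheory.Over.id_left]; infer_instance)⟩
    exact Classical.choice (Groth.Agent.AlgSt88.nonempty_iso_of_app_id hX (CategoryTheory.Iso.refl _) (CategoryTheory.IsHomLift.id (u.w_obj _)))

end Groth.Agent.S13006
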