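import Groth.Statements.S13007
import Groth.Agent.AlgSt88.SpQDescend

set_option autoImplicit false
universe u
open CategoryTheory AlgebraicGeometry
open AlgSt

namespace Groth.Agent.S13007

/-- Let 𝒳 → 𝒴 → 𝒵 be morphisms of algebraic stacks with 𝒳 → 𝒵 locally of finite presentation and 𝒳 → 𝒴
flat, surjective and locally of finite presentation. In that case 𝒴 → 𝒵 is locally of finite
presentation as well. -/
theorem result
    (S : Scheme.{u}) (𝒳 : AlgSt.Cat S) (𝒴 : AlgSt.Cat S) (𝒵 : AlgSt.Cat S)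
    (h𝒳 : AlgSt.IsAlgStack Scheme.fppfPrecoverage 𝒳)
    (h𝒴 : AlgSt.IsAlgStack Scheme.fppfPrecoverage 𝒴)
    (h𝒵 : AlgSt.IsAlgStack Scheme.fppfPrecoverage 𝒵)
    (f : 𝒳 ⥤ᵇ 𝒴) (g : 𝒴 ⥤ᵇ 𝒵)
    (hf₁ : AlgSt.LocQ (AlgSp.LocP @Flat) f) (hf₂ : AlgSt.LocQ (AlgSp.LocP @LocallyOfFinitePresentation) f) (hf₃ : AlgSt.IsSurjective f) :
    AlgSt.LocQ (AlgSp.LocP @LocallyOfFinitePresentation) (BasedFunctor.comp f g) → AlgSt.LocQ (AlgSp.LocP @LocallyOfFinitePresentation) g := by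
  refine Groth.Agent.AlgSt88.locQ_of_precomp Groth.Agent.AlgSt88.smoothLocal_lfp (fun {U V W} a b h1 h2 h3 h4 => ?_)
    h𝒳 h𝒴 h𝒵 hf₁ hf₂ hf₃
  exact (Groth.Agent.S10549.result S (fun _ : PUnit.{u + 1} => (AlgSp.yon S).obj U) (fun _ => a)
    (AlgSp.IsAlgSpace.yon_obj V) (fun _ => AlgSp.IsAlgSpace.yon_obj U)
    (Groth.Agent.AlgSt88.isFppfCover_single a h1 h2 h3) b (AlgSp.IsAlgSpace.yon_obj W)).2 fun _ => h4

end Groth.Agent.S13007
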