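import Groth.Statements.S13008
import Groth.Agent.AlgSt88.SmoothLoc

set_option autoImplicit false
universe u
open CategoryTheory AlgebraicGeometry
open AlgSt

namespace Groth.Agent.S13008

/-- A morphism of algebraic stacks which is flat and locally of finite presentation is open on the
spaces of points. -/
theorem result
    (S : Scheme.{u}) (𝒳 : AlgSt.Cat S) (𝒴 : AlgSt.Cat S)
    (h𝒳 : AlgSt.IsAlgStack Scheme.fppfPrecoverage 𝒳)
    (h𝒴 : AlgSt.IsAlgStack Scheme.fppfPrecoverage 𝒴)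
    (f : 𝒳 ⥤ᵇ 𝒴) :
    AlgSt.LocQ (AlgSp.LocP @Flat) f → AlgSt.LocQ (AlgSp.LocP @LocallyOfFinitePresentation) f → AlgSt.IsOpenMor f := by
  intro hflat hlfp
  have hX := h𝒳.isStack.1
  obtain ⟨V, y, hy, hy'⟩ := Groth.Agent.AlgSt88.exists_space_atlas h𝒴
  obtain ⟨U, l, hl, hl'⟩ := Groth.Agent.AlgSt88.exists_lift_chart h𝒳 h𝒴 f (V := Groth.Agent.AlgSt88.spY V) y
  have h1 := (Groth.Agent.AlgSt88.spQ_of_locQ hflat).prop Groth.Agent.AlgSt88.smoothLocal_flat hX h𝒴.isStack.1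
    (U := Groth.Agent.AlgSt88.spY U) (V := Groth.Agent.AlgSt88.spY V) y l hy hl
  have h2 := (Groth.Agent.AlgSt88.spQ_of_locQ hlfp).prop Groth.Agent.AlgSt88.smoothLocal_lfp hX h𝒴.isStack.1
    (U := Groth.Agent.AlgSt88.spY U) (V := Groth.Agent.AlgSt88.spY V) y l hy hl
  have hC := Groth.Agent.AlgSt88.isFibGrpd_fp hX (Stk.isFibGrpd_ofPsh ((AlgSp.yon S).obj V).obj) h𝒴.isStack.1 f y
  have hx := Groth.Agent.AlgSt88.repByAlgSpWith_surj_comp (Stk.isFibGrpd_ofPsh _) hC hl'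
    (Groth.Agent.AlgSt88.repByAlgSpWith_fpFst f hy')
  obtain ⟨γ⟩ := Groth.Agent.AlgSt88.exists_hom_iso (BasedFunctor.comp l (FibCat.fpSnd f y))
  let α := Groth.Agent.AlgSt88.bLeft l (FibCat.fpIso f y) ≪≫ Groth.Agent.AlgSt88.bRight γ y
  let x := BasedFunctor.comp l (FibCat.fpFst f y)
  have hk := Groth.Agent.SpFP87.isOpenMap_of_locP_flat_lfp (Groth.Agent.AlgSt88.spY U).property
    (Groth.Agent.AlgSt88.spY V).property h1 h2
  intro W hW
  have hy0 := Groth.Agent.AlgSt88.isOpenMap_of_flat_lfp h𝒴.isStack.1 (U := Groth.Agent.AlgSt88.spY V) y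
    (Groth.Agent.AlgSt88.rep_flat_of_sm hy) (Groth.Agent.AlgSt88.rep_lfp_of_sm hy)
  have hA : IsOpen (Groth.Agent.AlgSt88.stPt ((AlgSp.yon S).obj U) ⁻¹' (AlgSt.Points.map x ⁻¹' W)) :=
    (hW.preimage (Groth.Agent.AlgSt88.continuous_map h𝒳 x)).preimage
      (Groth.Agent.AlgSt88.isHomeomorph_stPt (Groth.Agent.AlgSt88.spY U)).continuous
  have e : AlgSt.Points.map f '' W = AlgSt.Points.map y '' (Groth.Agent.AlgSt88.stPt ((AlgSp.yon S).obj V) ''
      (AlgSp.Points.map (Groth.Agent.AlgSt88.homOfBased (BasedFunctor.comp l (FibCat.fpSnd f y))) ''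
        (Groth.Agent.AlgSt88.stPt ((AlgSp.yon S).obj U) ⁻¹' (AlgSt.Points.map x ⁻¹' W)))) := by
    ext z
    constructor
    · rintro ⟨w, hw, rfl⟩
      obtain ⟨a, rfl⟩ := Groth.Agent.AlgSt88.isSurjective_of_sj hX hx w
      obtain ⟨υ, rfl⟩ := Groth.Agent.AlgSt88.stPt_bijective.2 a
      refine ⟨_, ⟨_, ⟨υ, hw, rfl⟩, rfl⟩, ?_⟩
      rw [← Groth.Agent.AlgSt88.stPt_natural, ← Groth.Agent.AlgSt88.points_map_comp,
        ← Groth.Agent.AlgSt88.points_map_comp]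
      exact (Groth.Agent.AlgSt88.points_map_congr α _).symm
    · rintro ⟨_, ⟨_, ⟨υ, hυ, rfl⟩, rfl⟩, rfl⟩
      refine ⟨_, hυ, ?_⟩
      rw [← Groth.Agent.AlgSt88.stPt_natural, ← Groth.Agent.AlgSt88.points_map_comp,
        ← Groth.Agent.AlgSt88.points_map_comp]
      exact Groth.Agent.AlgSt88.points_map_congr α _
  rw [e]
  exact hy0 _ ((Groth.Agent.AlgSt88.isHomeomorph_stPt (Groth.Agent.AlgSt88.spY V)).isOpenMap _ (hk _ hA))

end Groth.Agent.S13008
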