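import Groth.Statements.S13016
import Groth.Agent.AlgSt88.Graph
import Groth.Agent.AlgSt88.CompP

set_option autoImplicit false
universe u
open CategoryTheory AlgebraicGeometry
open AlgSt

namespace Groth.Agent.S13016

/-- In a 2-commutative triangle of algebraic stacks f : 𝒳 → 𝒴, a : 𝒳 → 𝒵, b : 𝒴 → 𝒵 with b ∘ f
2-isomorphic to a, if a is affine and the diagonal of b is affine then f is affine. -/
theorem result
    (S : Scheme.{u}) (𝒳 : AlgSt.Cat S) (𝒴 : AlgSt.Cat S) (𝒵 : AlgSt.Cat S)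
    (h𝒳 : AlgSt.IsAlgStack Scheme.fppfPrecoverage 𝒳)
    (h𝒴 : AlgSt.IsAlgStack Scheme.fppfPrecoverage 𝒴)
    (h𝒵 : AlgSt.IsAlgStack Scheme.fppfPrecoverage 𝒵)
    (f : 𝒳 ⥤ᵇ 𝒴) (a : 𝒳 ⥤ᵇ 𝒵) (b : 𝒴 ⥤ᵇ 𝒵) (e : BasedFunctor.comp f b ≅ a) :
    AlgSt.RepByAlgSpWith AlgSp.IsAffineMor a → AlgSt.RepByAlgSpWith AlgSp.IsAffineMor (FibCat.diag b) → AlgSt.RepByAlgSpWith AlgSp.IsAffineMor f := by
  intro ha hb
  have hX := h𝒳.isStack.1
  have hY := h𝒴.isStack.1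
  have hC := Groth.Agent.AlgSt88.isFibGrpd_fp hX hY h𝒵.isStack.1 a b
  let g : 𝒳 ⥤ᵇ FibCat.fp a b := FibCat.fpLift (BasedFunctor.id 𝒳) f (show BasedFunctor.comp (BasedFunctor.id 𝒳) a ≅ BasedFunctor.comp f b from e.symm)
  have hg : AlgSt.RepByAlgSpWith AlgSp.IsAffineMor g := Groth.Agent.AlgSt88.repByAlgSpWith_graph f e.symm hb
  have hp : AlgSt.RepByAlgSpWith AlgSp.IsAffineMor (FibCat.fpSnd a b) := Groth.Agent.AlgSt88.repByAlgSpWith_of_iso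
    (f := BasedFunctor.comp (Groth.Agent.AlgSt88.fpSwap a b) (FibCat.fpFst b a)) (Iso.refl _)
    ((Groth.Agent.AlgSt88.repByAlgSpWith_precomp_equiv Groth.Agent.AlgSt88.isEquivOver_fpSwap).2
      (Groth.Agent.AlgSt88.repByAlgSpWith_fpFst b ha))
  exact Groth.Agent.AlgSt88.repByAlgSpWith_of_iso (f := BasedFunctor.comp g (FibCat.fpSnd a b)) (Iso.refl _)
    (Groth.Agent.AlgSt88.repByAlgSpWith_comp_of hX hC Groth.Agent.AlgSt88.respectsIso_affine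
      Groth.Agent.AlgSt88.spaceDescends_affine
      (fun _ _ _ _ _ _ a b ha hb => Groth.Agent.AlgSt88.affine_comp a b ha hb) hg hp)

end Groth.Agent.S13016
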