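import Groth.Statements.S13040
import Groth.Agent.AlgSt88.RepCrit

set_option autoImplicit false
universe u
open CategoryTheory AlgebraicGeometry
open AlgSt

namespace Groth.Agent.S13040

/-- A morphism f : 𝒳 → 𝒴 between algebraic stacks is representable by algebraic spaces exactly when the
relative inertia 𝓘_{𝒳/𝒴} is trivial over 𝒳, that is its structure functor to 𝒳 is an equivalence
over the base. -/
theorem result
    (S : Scheme.{u}) (𝒳 : AlgSt.Cat S) (𝒴 : AlgSt.Cat S)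
    (h𝒳 : AlgSt.IsAlgStack Scheme.fppfPrecoverage 𝒳)
    (h𝒴 : AlgSt.IsAlgStack Scheme.fppfPrecoverage 𝒴)
    (f : 𝒳 ⥤ᵇ 𝒴) :
    AlgSt.RepByAlgSp1 f ↔ FibCat.IsEquivOver (FibCat.inertiaToBase f) := by
  rw [Groth.Agent.AlgSt88.trivKer_iff_repByAlgSp1 h𝒳 h𝒴]
  constructor
  · intro h
    have hα : ∀ x : FibCat.InertiaObj f, x.aut.hom = 𝟙 x.pt := fun x => by
      refine h x.pt x.aut.hom ?_ x.map_aut
      have h' := congrArg (fun t => 𝒴.p.map t) x.map_aut
      rw [Groth.Agent.AlgSt88.p_map_eq, 𝒴.p.map_id] at h'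
      simpa [eqToHom_comp_iff, comp_eqToHom_iff] using h'
    refine Groth.Agent.AlgSt88.IsEquivData.isEquivOver ⟨fun a b e => FibCat.InertiaObj.hom_ext e, fun {x y} g => ?_,
      fun x => ⟨(FibCat.inertiaNeutral f).obj x, Iso.refl _, IsHomLift.id rfl⟩⟩
    refine ⟨⟨g, ?_⟩, rfl⟩
    rw [hα x, hα y]
    exact (Category.id_comp _).trans (Category.comp_id _).symm
  · intro h a φ hp hf
    haveI : IsIso (𝒳.p.map φ) := by rw [hp]; infer_instance
    haveI := Groth.Agent.AlgSt88.fg_isIso_of_isIso_map h𝒳.isStack.1 φ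
    let x : FibCat.InertiaObj f := ⟨a, asIso φ, hf⟩
    obtain ⟨g, hg⟩ := (Groth.Agent.AlgSt88.isEquivData_of_isEquivOver h).full
      (x := (FibCat.inertiaNeutral f).obj a) (x' := x) (𝟙 a)
    have h1 : 𝟙 a ≫ g.hom = g.hom ≫ φ := g.comm
    rw [show g.hom = 𝟙 a from hg] at h1
    exact ((Category.id_comp φ).symm.trans h1.symm).trans (Category.id_comp _)

end Groth.Agent.S13040
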