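import Groth.Statements.S13041
import Mathlib.RingTheory.Localization.BaseChange
import Mathlib.RingTheory.Flat.TorsionFree

set_option autoImplicit false
universe u
open MaxMod

namespace Groth.Agent.S13041

/-- Let R be a domain with fraction field K, let A → B be a homomorphism of commutative R-algebras that
are flat over R, with B module-finite over A, such that the induced map K ⊗_R A → K ⊗_R B is
bijective. If the A-linear map Hom_A(B, A) → A evaluating at 1 is surjective, then A → B is
bijective. (The published statement concerns a finite morphism of flat schemes over a discrete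
valuation ring, with locally free relative dualizing sheaves, that is an isomorphism over a
schematically dense open and whose trace map on dualizing sheaves is surjective; this row is the
statement about rings to which the printed proof reduces it and which that proof establishes, and
the argument uses only that R is a domain.) -/
theorem result
    (R K A B : Type u) [CommRing R] [IsDomain R] [Field K] [Algebra R K] [IsFractionRing R K]
    [CommRing A] [CommRing B] [Algebra R A] [Algebra R B] [Algebra A B] [IsScalarTower R A B]
    [Module.Flat R A] [Module.Flat R B] [Module.Finite A B]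
    (hK : Function.Bijective
      (Algebra.TensorProduct.map (AlgHom.id R K) (IsScalarTower.toAlgHom R A B)))
    (htr : Function.Surjective (fun u : B →ₗ[A] A => u 1)) :
    Function.Bijective (algebraMap A B) := by
  obtain ⟨u, hu⟩ := htr 1
  change u 1 = 1 at hu
  have hu' : ∀ a : A, u (algebraMap A B a) = a := fun a => by
    rw [Algebra.algebraMap_eq_smul_one, map_smul, hu, smul_eq_mul, mul_one]
  refine ⟨fun a a' h => by rw [← hu' a, h, hu'], fun b => ?_⟩
  obtain ⟨z, hz⟩ := hK.2 ((1 : K) ⊗ₜ[R] b)
  obtain ⟨⟨a, r⟩, hr⟩ := IsLocalizedModule.surj (nonZeroDivisors R) (TensorProduct.mk R K A 1) z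
  simp only [TensorProduct.mk_apply, Submonoid.smul_def] at hr
  have hφ := congrArg (Algebra.TensorProduct.map (AlgHom.id R K) (IsScalarTower.toAlgHom R A B)) hr
  rw [map_smul, hz, Algebra.TensorProduct.map_tmul, AlgHom.id_apply, ← TensorProduct.tmul_smul] at hφ
  obtain ⟨c, hc⟩ := (IsLocalizedModule.eq_iff_exists (nonZeroDivisors R) (TensorProduct.mk R K B 1)).mp hφ
  simp only [Submonoid.smul_def, IsScalarTower.toAlgHom_apply] at hc
  have : ((c : R) * r) • (b - algebraMap A B (u b)) = 0 := by
    have h1 : u (((c : R) * r) • b) = ((c : R) * r) • u b :=
      (u.restrictScalars R).map_smul _ _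
    have h2 : ((c : R) * r) • b = algebraMap A B ((c : R) • a) := by
      rw [mul_smul, hc]; exact (map_smul (IsScalarTower.toAlgHom R A B) _ a).symm
    rw [smul_sub, ← IsScalarTower.toAlgHom_apply R A B (u b), ← map_smul, IsScalarTower.toAlgHom_apply, ← h1, h2, hu', sub_self]
  exact ⟨u b, (sub_eq_zero.mp ((smul_eq_zero.mp this).resolve_left (mul_ne_zero (nonZeroDivisors.ne_zero c.2) (nonZeroDivisors.ne_zero r.2)))).symm⟩

end Groth.Agent.S13041
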