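import Groth.Statements.S13042
import Mathlib.RingTheory.MvPolynomial.Basic
import Mathlib.Algebra.CharP.Lemmas
import Mathlib.RingTheory.Ideal.Quotient.Operations
import Mathlib.RingTheory.LocalRing.MaximalIdeal.Basic
import Mathlib.Algebra.CharP.Algebra
import Mathlib.Tactic.LinearCombination

set_option autoImplicit false
universe u
open MaxMod

namespace Groth.Agent.S13042

open MvPolynomial in
/-- Let p be a prime, R a local ring of characteristic p, λ an element of the maximal ideal of R and f ∈
R. Then there is an isomorphism of R-algebras R[W₁, W₂]/(W₁^p − f, W₂^p − f) ≅ R[x, W]/(x^p, W^p −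
f) with W₁ ↦ x + W + λ·x·W and W₂ ↦ W; that is, Spec R[W]/(W^p − f) with the action w ↦ x + w + λxw
is a torsor under the group scheme Spec R[x]/(x^p) with law x₁ ∘ x₂ = x₁ + x₂ + λx₁x₂. (The
published statement is over a complete discrete valuation ring of characteristic p with λ a nonzero
nonunit, and also asserts that for f in the fraction field with negative valuation v(f) > −p·v(λ)
the torsor W^p = f extends to a torsor over R, using the coordinate 1/W; that second case fails: for
p = 2, λ = π a uniformizer and f = 1/π, every model is Spec R[π^a t] with t² = π, and none of these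
is a torsor since the coaction sends t to t − π(1 + t)x. Only the case f ∈ R is stated, and the
argument there uses only that R is local of characteristic p.) -/
theorem result
    (p : ℕ) [Fact p.Prime] (R : Type u) [CommRing R] [IsLocalRing R] [CharP R p]
    (lam f : R) (hlam : lam ∈ IsLocalRing.maximalIdeal R) :
    ∃ e : (MvPolynomial (Fin 2) R ⧸ Ideal.span {(X 0 ^ p - C f : MvPolynomial (Fin 2) R), X 1 ^ p - C f}) ≃ₐ[R]
        (MvPolynomial (Fin 2) R ⧸ Ideal.span {(X 0 ^ p : MvPolynomial (Fin 2) R), X 1 ^ p - C f}),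
      e (Ideal.Quotient.mk _ (X 0)) = Ideal.Quotient.mk _ (X 0 + X 1 + C lam * X 0 * X 1) ∧
      e (Ideal.Quotient.mk _ (X 1)) = Ideal.Quotient.mk _ (X 1) := by
  let I := Ideal.span {(X 0 ^ p - C f : MvPolynomial (Fin 2) R), X 1 ^ p - C f}
  let J := Ideal.span {(X 0 ^ p : MvPolynomial (Fin 2) R), X 1 ^ p - C f}
  have hp := (Fact.out : p.Prime)
  let a : MvPolynomial (Fin 2) R ⧸ I := Ideal.Quotient.mk I (X 0)
  let b : MvPolynomial (Fin 2) R ⧸ I := Ideal.Quotient.mk I (X 1)
  let x : MvPolynomial (Fin 2) R ⧸ J := Ideal.Quotient.mk J (X 0)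
  let w : MvPolynomial (Fin 2) R ⧸ J := Ideal.Quotient.mk J (X 1)
  have ha : a ^ p = algebraMap R _ f := by
    refine (map_pow (Ideal.Quotient.mk I) _ p).symm.trans (Ideal.Quotient.mk_eq_mk_iff_sub_mem _ _ |>.mpr ?_)
    exact Ideal.subset_span (Or.inl rfl)
  have hb : b ^ p = algebraMap R _ f := by
    refine (map_pow (Ideal.Quotient.mk I) _ p).symm.trans (Ideal.Quotient.mk_eq_mk_iff_sub_mem _ _ |>.mpr ?_)
    exact Ideal.subset_span (Or.inr rfl)
  have hx : x ^ p = 0 := by
    refine (map_pow (Ideal.Quotient.mk J) _ p).symm.trans (Ideal.Quotient.eq_zero_iff_mem.mpr ?_)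
    exact Ideal.subset_span (Or.inl rfl)
  have hw : w ^ p = algebraMap R _ f := by
    refine (map_pow (Ideal.Quotient.mk J) _ p).symm.trans (Ideal.Quotient.mk_eq_mk_iff_sub_mem _ _ |>.mpr ?_)
    exact Ideal.subset_span (Or.inr rfl)
  have hpoly : CharP (MvPolynomial (Fin 2) R) p := inferInstance
  have hmkI : ∀ y z : MvPolynomial (Fin 2) R ⧸ I, (y + z) ^ p = y ^ p + z ^ p := fun y z => by
    obtain ⟨y, rfl⟩ := Ideal.Quotient.mk_surjective y
    obtain ⟨z, rfl⟩ := Ideal.Quotient.mk_surjective z
    simp only [← map_add, ← map_pow, add_pow_char]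
  have hmkJ : ∀ y z : MvPolynomial (Fin 2) R ⧸ J, (y + z) ^ p = y ^ p + z ^ p := fun y z => by
    obtain ⟨y, rfl⟩ := Ideal.Quotient.mk_surjective y
    obtain ⟨z, rfl⟩ := Ideal.Quotient.mk_surjective z
    simp only [← map_add, ← map_pow, add_pow_char]
  have hmem : lam ^ p * f ∈ nonunits R := (IsLocalRing.mem_maximalIdeal _).mp (Ideal.mul_mem_right _ _ (Ideal.pow_mem_of_mem _ hlam p hp.pos))
  obtain ⟨r, hr⟩ : ∃ r, (1 + lam ^ p * f) * r = 1 := by
    have hu : IsUnit (1 + lam ^ p * f) := by
      by_contra hc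
      exact (IsLocalRing.maximalIdeal.isMaximal R).ne_top ((Ideal.eq_top_iff_one _).mpr <| by
        simpa using sub_mem ((IsLocalRing.mem_maximalIdeal _).mpr hc) ((IsLocalRing.mem_maximalIdeal _).mpr hmem))
    exact hu.exists_right_inv
  obtain ⟨u, hu⟩ : ∃ u : MvPolynomial (Fin 2) R ⧸ I, (1 + algebraMap R _ lam * b) * u = 1 := by
    refine ⟨(1 + algebraMap R _ lam * b) ^ (p - 1) * algebraMap R _ r, ?_⟩
    rw [← mul_assoc, ← pow_succ', Nat.sub_add_cancel hp.pos, hmkI, one_pow, mul_pow, hb, ← map_pow, ← map_mul,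
      ← map_one (algebraMap R (MvPolynomial (Fin 2) R ⧸ I)), ← map_add, ← map_mul, hr]
  let F : MvPolynomial (Fin 2) R →ₐ[R] MvPolynomial (Fin 2) R ⧸ J := MvPolynomial.aeval ![x + w + algebraMap R _ lam * x * w, w]
  let G : MvPolynomial (Fin 2) R →ₐ[R] MvPolynomial (Fin 2) R ⧸ I := MvPolynomial.aeval ![(a - b) * u, b]
  have hF : ∀ y ∈ I, F y = 0 := by
    intro y hy
    refine (Ideal.span_le (I := RingHom.ker F.toRingHom)).mpr ?_ hy
    rintro _ (rfl | rfl)
    · simp [F, hmkJ, mul_pow, hx, hw]
    · simp [F, hw]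
  have hG : ∀ y ∈ J, G y = 0 := by
    intro y hy
    refine (Ideal.span_le (I := RingHom.ker G.toRingHom)).mpr ?_ hy
    rintro _ (rfl | rfl)
    · have h1 : (a - b) ^ p = 0 := by
        have := hmkI (a - b) b
        rw [sub_add_cancel, ha, hb] at this
        exact add_eq_right.mp this.symm
      simp [G, mul_pow, h1]
    · simp [G, hb]
  let F' := Ideal.Quotient.liftₐ I F hF
  let G' := Ideal.Quotient.liftₐ J G hG
  have hFa : F' a = x + w + algebraMap R _ lam * x * w := by simp [F', F, a]
  have hFb : F' b = w := by simp [F', F, b]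
  have hGx : G' x = (a - b) * u := by simp [G', G, x]
  have hGw : G' w = b := by simp [G', G, w]
  refine ⟨AlgEquiv.ofAlgHom F' G' ?_ ?_, ?_, ?_⟩
  · refine Ideal.Quotient.algHom_ext _ (MvPolynomial.algHom_ext fun i => ?_)
    have h2 : F' u * (1 + algebraMap R _ lam * w) = 1 := by
      have := congrArg F' hu
      rwa [map_mul, map_add, map_one, map_mul, AlgHom.commutes, hFb, mul_comm] at this
    fin_cases i
    · change F' (G' x) = x
      rw [hGx, map_mul, map_sub, hFa, hFb]
      linear_combination x * h2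
    · change F' (G' w) = w
      rw [hGw, hFb]
  · refine Ideal.Quotient.algHom_ext _ (MvPolynomial.algHom_ext fun i => ?_)
    fin_cases i
    · change G' (F' a) = a
      rw [hFa]
      simp only [map_add, map_mul, AlgHom.commutes, hGx, hGw]
      linear_combination (a - b) * hu
    · change G' (F' b) = b
      rw [hFb, hGw]
  · exact hFa.trans (by simp [x, w, map_add, map_mul]; rfl)
  · exact hFb

end Groth.Agent.S13042
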