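import Groth.Statements.S13043
import Groth.Agent.Div89.AffineCompl

set_option autoImplicit false
universe u
open CoPerf

namespace Groth.Agent.S13043

open CategoryTheory CategoryTheory.Limits

open AlgebraicGeometry in
/-- For a Noetherian scheme S that is separated, and a dense open subset U ⊆ S that is not empty, only
finitely many open subsets V ⊇ U have an affine inclusion morphism V → S, and among them there is
one contained in all the others (a least element for inclusion). -/
theorem result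
    (S : Scheme.{u}) [IsNoetherian S] [S.IsSeparated] (U : S.Opens)
    (hne : (U : Set S).Nonempty) (hU : Dense (U : Set S)) :
    Set.Finite {V : S.Opens | U ≤ V ∧ IsAffineHom V.ι} ∧
      ∃ V₀ : S.Opens, (U ≤ V₀ ∧ IsAffineHom V₀.ι) ∧
        ∀ V : S.Opens, U ≤ V → IsAffineHom V.ι → V₀ ≤ V := by
  classical
  let C : Set S := (U : Set S)ᶜ
  have hC : IsClosed C := U.2.isClosed_compl
  have : TopologicalSpace.NoetherianSpace ↥C := inferInstance
  have : QuasiSober ↥C := hC.isClosedEmbedding_subtypeVal.quasiSober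
  have hfinM : (genericPoints ↥C).Finite :=
    genericPoints.finite TopologicalSpace.NoetherianSpace.finite_irreducibleComponents
  let M : Set S := Subtype.val '' genericPoints ↥C
  have key : ∀ V : S.Opens, U ≤ V → IsAffineHom V.ι → ∀ y : S, y ∉ V → ∃ ξ ∈ M, ξ ∉ V ∧ ξ ⤳ y := by
    intro V hV haff y hy
    haveI := haff
    let D : Set S := (V : Set S)ᶜ
    have hD : IsClosed D := V.2.isClosed_compl
    haveI : QuasiSober ↥D := hD.isClosedEmbedding_subtypeVal.quasiSober
    obtain ⟨⟨ξ, hξ⟩, hξy, hξmax⟩ : ∃ ξ : ↥D, ξ ⤳ ⟨y, hy⟩ ∧ ∀ z : ↥D, z ⤳ ξ → z = ξ := by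
      obtain ⟨ξ, hg⟩ := genericPoints.component_surjective
        ⟨irreducibleComponent (⟨y, hy⟩ : ↥D), irreducibleComponent_mem_irreducibleComponents _⟩
      refine ⟨ξ.1, ?_, fun z hz => ?_⟩
      · rw [specializes_iff_mem_closure]
        exact (congrArg Subtype.val hg).ge mem_irreducibleComponent
      · have h1 : closure ({z} : Set ↥D) ⊆ closure {ξ.1} :=
          ξ.2.2 isIrreducible_singleton.closure (specializes_iff_closure_subset.1 hz)
        exact (specializes_iff_closure_subset.2 h1).antisymm hz |>.eq.symm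
    replace hξy : ξ ⤳ y := hξy.map continuous_subtype_val
    refine ⟨ξ, ?_, hξ, hξy⟩
    have hgen : ∀ z : S, z ∉ V → z ⤳ ξ → z = ξ := fun z hz hzξ =>
      congrArg Subtype.val (hξmax ⟨z, hz⟩ ((subtype_specializes_iff _ _).2 hzξ))
    have hdim := Groth.Agent.Div89.ringKrullDim_stalk_le_one_of_isAffineHom V ξ hξ hgen
    have hmax : ∀ η : S, η ∉ U → η ⤳ ξ → η = ξ := by
      intro η hη hηξ
      by_contra hne
      obtain ⟨ζ, hζ, hζη⟩ : ∃ ζ : S, ζ ∈ U ∧ ζ ⤳ η := by
        by_contra hno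
        push_neg at hno
        obtain ⟨g, hg⟩ := genericPoints.component_surjective
          ⟨irreducibleComponent η, irreducibleComponent_mem_irreducibleComponents η⟩
        have hgη : g.1 ⤳ η := specializes_iff_mem_closure.2 ((congrArg Subtype.val hg).ge mem_irreducibleComponent)
        have hgmax : ∀ z : S, z ⤳ g.1 → z = g.1 := fun z hz => by
          have h1 : closure ({z} : Set S) ⊆ closure {g.1} :=
            g.2.2 isIrreducible_singleton.closure (specializes_iff_closure_subset.1 hz)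
          exact ((specializes_iff_closure_subset.2 h1).antisymm hz).eq.symm
        obtain ⟨W, hgW, hW⟩ := Groth.Agent.Div89.exists_nhd_of_maximal g.1 hgmax
        obtain ⟨w, hwW, hwU⟩ := hU.inter_open_nonempty W W.2 ⟨_, hgW⟩
        exact hno g.1 ((hW w hwW).mem_open U.2 hwU) hgη
      have hr := Scheme.range_fromSpecStalk (X := S) (x := ξ)
      obtain ⟨p, hp⟩ : ∃ p : PrimeSpectrum (S.presheaf.stalk ξ), S.fromSpecStalk ξ p = ζ :=
        Set.mem_range.1 (hr.ge (hζη.trans hηξ))
      obtain ⟨q, hq⟩ : ∃ q : PrimeSpectrum (S.presheaf.stalk ξ), S.fromSpecStalk ξ q = η :=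
        Set.mem_range.1 (hr.ge hηξ)
      have hemb := (S.fromSpecStalk ξ).isEmbedding
      let m : PrimeSpectrum (S.presheaf.stalk ξ) := IsLocalRing.closedPoint (S.presheaf.stalk ξ)
      have hm : S.fromSpecStalk ξ m = ξ := Scheme.fromSpecStalk_closedPoint
      have hpq : p < q := lt_of_le_of_ne ((PrimeSpectrum.le_iff_specializes p q).2
        (hemb.isInducing.specializes_iff.1 (hp.symm ▸ hq.symm ▸ hζη)))
        fun h => hη (by rwa [← hq, ← h, hp])
      have hqm : q < m := lt_of_le_of_ne (show q ≤ m from IsLocalRing.le_maximalIdeal q.2.ne_top)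
        fun h => hne (hq.symm.trans ((congrArg _ h).trans hm))
      let l : LTSeries (PrimeSpectrum (S.presheaf.stalk ξ)) :=
        ((RelSeries.singleton _ p).snoc q hpq).snoc m (by simpa using hqm)
      have h3 : ((2 : ℕ) : WithBot ℕ∞) ≤ 1 := (Order.LTSeries.length_le_krullDim l).trans hdim
      exact absurd (WithBot.coe_le_coe.1 h3) (by norm_num)
    have hξU : ξ ∉ U := fun h => hξ (hV h)
    refine ⟨⟨ξ, hξU⟩, ?_, rfl⟩
    obtain ⟨g, hg⟩ := genericPoints.component_surjective
      ⟨irreducibleComponent (⟨ξ, hξU⟩ : ↥C), irreducibleComponent_mem_irreducibleComponents _⟩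
    have hgξ : g.1 ⤳ ⟨ξ, hξU⟩ := specializes_iff_mem_closure.2 ((congrArg Subtype.val hg).ge mem_irreducibleComponent)
    rw [← show g.1 = ⟨ξ, hξU⟩ from Subtype.ext (hmax g.1.1 g.1.2 (hgξ.map continuous_subtype_val))]
    exact g.2
  have hfin : Set.Finite {V : S.Opens | U ≤ V ∧ IsAffineHom V.ι} := by
    refine Set.Finite.of_finite_image (f := fun V : S.Opens => M \ (V : Set S))
      ((hfinM.image Subtype.val).finite_subsets.subset ?_) ?_
    · rintro _ ⟨V, -, rfl⟩
      exact Set.sdiff_subset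
    · intro V hV W hW he
      have e : M \ (V : Set S) = M \ (W : Set S) := he
      ext y
      constructor <;> intro hy <;> by_contra hny
      · obtain ⟨ξ, hξM, hξ, hs⟩ := key W hW.1 hW.2 y hny
        exact (e.ge ⟨hξM, hξ⟩).2 (hs.mem_open V.2 hy)
      · obtain ⟨ξ, hξM, hξ, hs⟩ := key V hV.1 hV.2 y hny
        exact (e.le ⟨hξM, hξ⟩).2 (hs.mem_open W.2 hy)
  refine ⟨hfin, ?_⟩
  have hinf : ∀ V W : S.Opens, IsAffineHom V.ι → IsAffineHom W.ι → IsAffineHom (V ⊓ W).ι := by
    intro V W hV hW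
    have e : (S.homOfLE (inf_le_left : V ⊓ W ≤ V)) ≫ V.ι = (V ⊓ W).ι := S.homOfLE_ι _
    have hp : IsPullback (S.homOfLE (inf_le_left : V ⊓ W ≤ V)) (S.homOfLE (inf_le_right : V ⊓ W ≤ W)) V.ι W.ι :=
      isPullback_opens_inf V W
    haveI : IsAffineHom (S.homOfLE (inf_le_left : V ⊓ W ≤ V)) :=
      MorphismProperty.of_isPullback (P := @IsAffineHom) hp.flip hW
    haveI := hV
    rw [← e]
    infer_instance
  have htop : IsAffineHom (⊤ : S.Opens).ι := by
    haveI : IsIso (⊤ : S.Opens).ι := inferInstanceAs (IsIso S.topIso.hom)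
    infer_instance
  obtain ⟨V₀, hV₀, hleast⟩ : ∃ V₀ : S.Opens, (U ≤ V₀ ∧ IsAffineHom V₀.ι) ∧ ∀ V ∈ hfin.toFinset, V₀ ≤ V := by
    suffices ∀ s : Finset S.Opens, (∀ V ∈ s, U ≤ V ∧ IsAffineHom V.ι) →
        ∃ V₀ : S.Opens, (U ≤ V₀ ∧ IsAffineHom V₀.ι) ∧ ∀ V ∈ s, V₀ ≤ V from
      this _ fun V hV => hfin.mem_toFinset.1 hV
    intro s
    induction s using Finset.induction with
    | empty => exact fun _ => ⟨⊤, ⟨le_top, htop⟩, by simp⟩
    | insert a s ha ih =>
      intro hs
      obtain ⟨V₀, hV₀, hle⟩ := ih fun V hV => hs V (Finset.mem_insert_of_mem hV)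
      obtain ⟨h1, h2⟩ := hs a (Finset.mem_insert_self a s)
      refine ⟨a ⊓ V₀, ⟨le_inf h1 hV₀.1, hinf _ _ h2 hV₀.2⟩, fun V hV => ?_⟩
      rcases Finset.mem_insert.1 hV with rfl | hV
      · exact inf_le_left
      · exact inf_le_right.trans (hle V hV)
  exact ⟨V₀, hV₀, fun V h1 h2 => hleast V (hfin.mem_toFinset.2 ⟨h1, h2⟩)⟩

end Groth.Agent.S13043
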