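import Groth.Statements.S13044
import Mathlib.AlgebraicGeometry.Morphisms.SchemeTheoreticallyDominant
import Mathlib.AlgebraicGeometry.Morphisms.ClosedImmersion
import Mathlib.RingTheory.DiscreteValuationRing.Basic

set_option autoImplicit false
universe u
open MaxMod

namespace Groth.Agent.S13044

open CategoryTheory Limits AlgebraicGeometry in
/-- Let R be a discrete valuation ring with fraction field K, let Y be a flat separated R-scheme and let
Γ → Y ×_R Y be a closed subscheme, with projections p₁, p₂ : Γ → Y, such that Γ is flat over R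
(equivalently, Γ is the schematic closure of its generic fibre) and p₁, p₂ are flat. If for every
scheme T over Spec K the relation on the T-valued points of Y defined by the T-valued points of Γ is
an equivalence relation, then for every scheme T over Spec R that relation is an equivalence
relation: Γ is a flat equivalence relation on Y. -/
theorem result
    (R K : Type u) [CommRing R] [IsDomain R] [IsDiscreteValuationRing R]
    [Field K] [Algebra R K] [IsFractionRing R K]
    (Y Γ : Scheme.{u}) (f : Y ⟶ Spec (CommRingCat.of R)) [IsSeparated f] [Flat f]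
    (p₁ p₂ : Γ ⟶ Y) (h : p₁ ≫ f = p₂ ≫ f)
    (hΓ : IsClosedImmersion (pullback.lift p₁ p₂ h))
    [Flat (p₁ ≫ f)] [Flat p₁] [Flat p₂]
    (hK : ∀ (T : Scheme.{u}) (t : T ⟶ Spec (CommRingCat.of R)),
      (∃ s : T ⟶ Spec (CommRingCat.of K), t = s ≫ Spec.map (CommRingCat.ofHom (algebraMap R K))) →
      _root_.Equivalence fun a b : {a : T ⟶ Y // a ≫ f = t} =>
        ∃ c : T ⟶ Γ, c ≫ p₁ = a.1 ∧ c ≫ p₂ = b.1) :
    ∀ (T : Scheme.{u}) (t : T ⟶ Spec (CommRingCat.of R)),
      _root_.Equivalence fun a b : {a : T ⟶ Y // a ≫ f = t} =>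
        ∃ c : T ⟶ Γ, c ≫ p₁ = a.1 ∧ c ≫ p₂ = b.1 := by
  let q : Spec (CommRingCat.of K) ⟶ Spec (CommRingCat.of R) := Spec.map (CommRingCat.ofHom (algebraMap R K))
  haveI : IsDominant q := by
    rw [isDominant_iff, DenseRange, dense_iff_closure_eq]
    refine Set.eq_univ_of_forall fun x => ?_
    have hmem : (⟨⊥, Ideal.bot_prime⟩ : PrimeSpectrum R) ∈ Set.range q := by
      refine ⟨⟨⊥, Ideal.bot_prime⟩, PrimeSpectrum.ext ?_⟩
      show (⊥ : Ideal K).comap (algebraMap R K) = ⊥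
      exact Ideal.comap_bot_of_injective _ (IsFractionRing.injective R K)
    have hsp : (⟨⊥, Ideal.bot_prime⟩ : PrimeSpectrum R) ⤳ x :=
      (PrimeSpectrum.le_iff_specializes _ x).1 bot_le
    exact closure_mono (Set.singleton_subset_iff.2 hmem) hsp.mem_closure
  haveI : IsSchemeTheoreticallyDominant q := .of_isDominant q
  haveI := hΓ
  have key : ∀ (W : Scheme.{u}) (w : W ⟶ Spec (CommRingCat.of R)), Flat w → ∀ (u v : W ⟶ Y) (hu : u ≫ f = w)
      (hv : v ≫ f = w), (∃ c : pullback w q ⟶ Γ, c ≫ p₁ = pullback.fst w q ≫ u ∧ c ≫ p₂ = pullback.fst w q ≫ v) →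
      ∃ c : W ⟶ Γ, c ≫ p₁ = u ∧ c ≫ p₂ = v := by
    intro W w hw u v hu hv hc
    obtain ⟨c, hc1, hc2⟩ := hc
    haveI := hw
    let g : W ⟶ pullback f f := pullback.lift u v (hu.trans hv.symm)
    let i : pullback (pullback.lift p₁ p₂ h) g ⟶ W := pullback.snd _ _
    haveI : IsClosedImmersion i := MorphismProperty.pullback_snd _ _ hΓ
    let l : pullback w q ⟶ pullback (pullback.lift p₁ p₂ h) g := pullback.lift c (pullback.fst w q) (by
      apply pullback.hom_ext
      · simp only [g, Category.assoc, pullback.lift_fst]; exact hc1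
      · simp only [g, Category.assoc, pullback.lift_snd]; exact hc2)
    haveI : IsIso i := by
      rw [IsClosedImmersion.isIso_iff_ker_eq_bot, eq_bot_iff, ← Scheme.Hom.ker_eq_bot (pullback.fst w q),
        ← show l ≫ i = pullback.fst w q from pullback.lift_snd _ _ _]
      exact Scheme.Hom.le_ker_comp l i
    refine ⟨inv i ≫ pullback.fst _ _, ?_, ?_⟩
    · have e := congrArg (fun m => inv i ≫ m ≫ pullback.fst f f) (pullback.condition (f := pullback.lift p₁ p₂ h) (g := g))
      simp only [g, Category.assoc, pullback.lift_fst] at e ⊢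
      rw [e, ← Category.assoc, show inv i ≫ pullback.snd _ _ = 𝟙 W from IsIso.inv_hom_id i, Category.id_comp]
    · have e := congrArg (fun m => inv i ≫ m ≫ pullback.snd f f) (pullback.condition (f := pullback.lift p₁ p₂ h) (g := g))
      simp only [g, Category.assoc, pullback.lift_snd] at e ⊢
      rw [e, ← Category.assoc, show inv i ≫ pullback.snd _ _ = 𝟙 W from IsIso.inv_hom_id i, Category.id_comp]
  have hK' : ∀ (W : Scheme.{u}) (w : W ⟶ Spec (CommRingCat.of R)),
      _root_.Equivalence fun a b : {a : pullback w q ⟶ Y // a ≫ f = pullback.fst w q ≫ w} =>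
        ∃ c : pullback w q ⟶ Γ, c ≫ p₁ = a.1 ∧ c ≫ p₂ = b.1 :=
    fun W w => hK _ _ ⟨pullback.snd w q, pullback.condition⟩
  obtain ⟨c₀, hr1, hr2⟩ := key Y f inferInstance (𝟙 Y) (𝟙 Y) (Category.id_comp f) (Category.id_comp f)
    ((hK' Y f).refl ⟨pullback.fst f q ≫ 𝟙 Y, by simp⟩)
  obtain ⟨c₁, hs1, hs2⟩ := key Γ (p₁ ≫ f) inferInstance p₂ p₁ h.symm rfl
    ((hK' Γ (p₁ ≫ f)).symm (x := ⟨pullback.fst (p₁ ≫ f) q ≫ p₁, by simp⟩)
      (y := ⟨pullback.fst (p₁ ≫ f) q ≫ p₂, by simp [h]⟩) ⟨pullback.fst (p₁ ≫ f) q, rfl, rfl⟩)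
  have hw2 : Flat (pullback.fst p₂ p₁ ≫ p₁ ≫ f) := inferInstance
  obtain ⟨c₂, ht1, ht2⟩ := key (pullback p₂ p₁) (pullback.fst p₂ p₁ ≫ p₁ ≫ f) hw2
    (pullback.fst p₂ p₁ ≫ p₁) (pullback.snd p₂ p₁ ≫ p₂) (Category.assoc _ _ _)
    (by rw [Category.assoc, ← h, ← Category.assoc, ← pullback.condition, Category.assoc, ← h])
    ((hK' _ _).trans
      (x := ⟨pullback.fst _ q ≫ pullback.fst p₂ p₁ ≫ p₁, by simp⟩)
      (y := ⟨pullback.fst _ q ≫ pullback.fst p₂ p₁ ≫ p₂, by simp [h]⟩)
      (z := ⟨pullback.fst _ q ≫ pullback.snd p₂ p₁ ≫ p₂, by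
        rw [Category.assoc, Category.assoc, ← h, ← pullback.condition_assoc, ← h]⟩)
      ⟨pullback.fst _ q ≫ pullback.fst p₂ p₁, Category.assoc _ _ _, Category.assoc _ _ _⟩
      ⟨pullback.fst _ q ≫ pullback.snd p₂ p₁, by rw [Category.assoc, ← pullback.condition], Category.assoc _ _ _⟩)
  intro T t
  refine ⟨fun a => ⟨a.1 ≫ c₀, by rw [Category.assoc, hr1, Category.comp_id], by rw [Category.assoc, hr2, Category.comp_id]⟩,
    fun {a b} hab => ?_, fun {a b c} hab hbc => ?_⟩
  · obtain ⟨x, hx1, hx2⟩ := hab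
    exact ⟨x ≫ c₁, by rw [Category.assoc, hs1, hx2], by rw [Category.assoc, hs2, hx1]⟩
  · obtain ⟨x, hx1, hx2⟩ := hab
    obtain ⟨y, hy1, hy2⟩ := hbc
    refine ⟨pullback.lift x y (hx2.trans hy1.symm) ≫ c₂, ?_, ?_⟩
    · rw [Category.assoc, ht1, pullback.lift_fst_assoc, hx1]
    · rw [Category.assoc, ht2, pullback.lift_snd_assoc, hy2]

end Groth.Agent.S13044
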