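import Groth.Statements.S13045
import Mathlib

set_option autoImplicit false
set_option linter.unusedVariables false
universe u
open FrobAlg

namespace Groth.Agent.S13045

open TensorProduct in
/-- Let p be a prime, R a commutative ring of characteristic p and A a commutative R-algebra of
characteristic p, with Frobenius twists A^{p^i/R} = R ⊗_{F^i,R} A, relative Frobenius maps F_i :
A^{p^{i+1}/R} → A^{p^i/R} and preperfection A^{p^∞/R} = lim_i A^{p^i/R} ⊆ Π_i A^{p^i/R}. For every
projective R-module M the natural map M ⊗_R A^{p^∞/R} → Π_i (M ⊗_R A^{p^i/R}), m ⊗ x ↦ (m ⊗ x_i)_i,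
is injective; in particular the base change map M ⊗_R lim_i A^{p^i/R} → lim_i (M ⊗_R A^{p^i/R}) is
injective. (The published statement is phrased for a projective R-algebra R′ in place of M; the
printed argument is the module statement given here.) -/
theorem result
    (p : ℕ) [Fact p.Prime] (R : Type u) [CommRing R] [CharP R p]
    (A : Type u) [CommRing A] [Algebra R A] [CharP A p]
    (M : Type u) [AddCommGroup M] [Module R M] [Module.Projective R M] :
    Function.Injective
      (LinearMap.pi fun i : ℕ =>
        LinearMap.lTensor M
          (((Pi.evalAlgHom R (fun k => W4c1imperftorsors.Twist p R A k) i).comp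
            (W4c1imperftorsors.prePerf p R A).val).toLinearMap) :
        M ⊗[R] ↥(W4c1imperftorsors.prePerf p R A) →ₗ[R] (Π i : ℕ, M ⊗[R] W4c1imperftorsors.Twist p R A i)) := by
  rw [injective_iff_map_eq_zero]
  intro z hz
  -- functionals separate elements
  obtain ⟨s, hs⟩ := Module.projective_def'.1 (inferInstance : Module.Projective R M)
  classical
  set P := ↥(W4c1imperftorsors.prePerf p R A)
  let φ : M → M →ₗ[R] R := fun m => Finsupp.lapply m ∘ₗ s
  have hcoord : ∀ m : M, TensorProduct.lid R P ((φ m).rTensor P z) = 0 := by
    intro m
    refine Subtype.ext (funext fun i => ?_)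
    let g : P →ₗ[R] W4c1imperftorsors.Twist p R A i :=
      ((Pi.evalAlgHom R (fun k => W4c1imperftorsors.Twist p R A k) i).comp
        (W4c1imperftorsors.prePerf p R A).val).toLinearMap
    have hn : ∀ w : M ⊗[R] P, g (TensorProduct.lid R P ((φ m).rTensor P w)) =
        TensorProduct.lid R _ ((φ m).rTensor _ (g.lTensor M w)) := by
      intro w
      induction w using TensorProduct.induction_on with
      | zero => simp
      | tmul a b => simp
      | add a b ha hb => simp only [map_add, ha, hb]
    have hzi : g.lTensor M z = 0 := congrFun hz i
    have := hn z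
    rw [hzi, map_zero, map_zero] at this
    exact this
  have h1 : TensorProduct.finsuppScalarLeft R P M (s.rTensor P z) = 0 := by
    ext m : 1
    have hn : ∀ w : M ⊗[R] P, TensorProduct.finsuppScalarLeft R P M (s.rTensor P w) m =
        TensorProduct.lid R P ((φ m).rTensor P w) := by
      intro w
      induction w using TensorProduct.induction_on with
      | zero => simp
      | tmul a b => simp [φ]
      | add a b ha hb => simp only [map_add, Finsupp.add_apply, ha, hb]
    rw [hn, hcoord]; rfl
  have h2 : s.rTensor P z = 0 := (TensorProduct.finsuppScalarLeft R P M).map_eq_zero_iff.1 h1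
  have h3 := congrArg ((Finsupp.linearCombination R (id : M → M)).rTensor P) h2
  rwa [← LinearMap.comp_apply, ← LinearMap.rTensor_comp, hs, LinearMap.rTensor_id, map_zero] at h3
end Groth.Agent.S13045
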