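import Groth.Statements.S13046
import Mathlib

set_option autoImplicit false
set_option linter.unusedVariables false
universe u
open FrobAlg

namespace Groth.Agent.S13046

open TensorProduct in
/-- Let p be a prime, R a commutative ring of characteristic p and A a commutative R-algebra of
characteristic p, with Frobenius twists A^{p^i/R} = R ⊗_{F^i,R} A, relative Frobenius maps F_i :
A^{p^{i+1}/R} → A^{p^i/R} and preperfection A^{p^∞/R} = lim_i A^{p^i/R} ⊆ Π_i A^{p^i/R}. For every
finitely generated projective R-module M, a sequence y ∈ Π_i (M ⊗_R A^{p^i/R}) lies in the image of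
the natural map M ⊗_R A^{p^∞/R} → Π_i (M ⊗_R A^{p^i/R}), m ⊗ x ↦ (m ⊗ x_i)_i, if and only if (M ⊗
F_i)(y_{i+1}) = y_i for all i: the image is exactly the module of compatible sequences. Together
with the injectivity of that map, which holds for every projective M, this says that the base change
map M ⊗_R lim_i A^{p^i/R} → lim_i (M ⊗_R A^{p^i/R}) is an isomorphism. (The published statement is
phrased for a finite locally free R-algebra R′ in place of M and identifies the target with the
preperfection of A ⊗_R R′ over R′; the printed argument is the module statement given here, and that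
identification is not part of this row; the injectivity half is stated separately for all projective
M.) -/
theorem result
    (p : ℕ) [Fact p.Prime] (R : Type u) [CommRing R] [CharP R p]
    (A : Type u) [CommRing A] [Algebra R A] [CharP A p]
    (M : Type u) [AddCommGroup M] [Module R M] [Module.Finite R M] [Module.Projective R M]
    (y : Π i : ℕ, M ⊗[R] W4c1imperftorsors.Twist p R A i) :
    y ∈ LinearMap.range
        (LinearMap.pi fun i : ℕ =>
        LinearMap.lTensor M
          (((Pi.evalAlgHom R (fun k => W4c1imperftorsors.Twist p R A k) i).comp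
            (W4c1imperftorsors.prePerf p R A).val).toLinearMap) :
        M ⊗[R] ↥(W4c1imperftorsors.prePerf p R A) →ₗ[R] (Π i : ℕ, M ⊗[R] W4c1imperftorsors.Twist p R A i)) ↔
      ∀ i : ℕ, LinearMap.lTensor M (W4c1imperftorsors.relFrob p R A i).toLinearMap (y (i + 1)) = y i := by
  set P := W4c1imperftorsors.prePerf p R A
  let g : ∀ i, ↥P →ₗ[R] W4c1imperftorsors.Twist p R A i := fun i =>
    ((Pi.evalAlgHom R (fun k => W4c1imperftorsors.Twist p R A k) i).comp P.val).toLinearMap
  have hP : ∀ (x : P) (i : ℕ), W4c1imperftorsors.relFrob p R A i (x.1 (i + 1)) = x.1 i := by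
    intro x i
    exact Algebra.mem_iInf.1 x.2 i
  constructor
  · rintro ⟨z, rfl⟩ i
    show LinearMap.lTensor M _ ((g (i + 1)).lTensor M z) = (g i).lTensor M z
    rw [← LinearMap.comp_apply, ← LinearMap.lTensor_comp]
    congr 2
    exact LinearMap.ext fun x => hP x i
  · intro hy
    obtain ⟨n, f, s, hf, -, hfs⟩ := Module.Finite.exists_comp_eq_id_of_projective R M
    classical
    let φ : Fin n → M →ₗ[R] R := fun j => LinearMap.proj j ∘ₗ s
    let xs : Fin n → P := fun j => ⟨fun i => TensorProduct.lid R _ ((φ j).rTensor _ (y i)),
      Algebra.mem_iInf.2 fun i => by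
        show W4c1imperftorsors.relFrob p R A i (TensorProduct.lid R _ ((φ j).rTensor _ (y (i + 1)))) =
          TensorProduct.lid R _ ((φ j).rTensor _ (y i))
        conv_rhs => rw [← hy i]
        generalize y (i + 1) = w
        induction w using TensorProduct.induction_on with
        | zero => simp
        | tmul a b => simp
        | add a b ha hb => simp only [map_add, ha, hb]⟩
    refine ⟨∑ j, f (Pi.single j 1) ⊗ₜ[R] xs j, funext fun i => ?_⟩
    show (g i).lTensor M (∑ j, f (Pi.single j 1) ⊗ₜ[R] xs j) = y i
    rw [map_sum]
    simp only [LinearMap.lTensor_tmul]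
    show ∑ j, f (Pi.single j 1) ⊗ₜ[R] TensorProduct.lid R _ ((φ j).rTensor _ (y i)) = y i
    generalize y i = w
    induction w using TensorProduct.induction_on with
    | zero => simp
    | tmul a b =>
      simp only [LinearMap.rTensor_tmul, TensorProduct.lid_tmul, ← TensorProduct.smul_tmul,
        ← TensorProduct.sum_tmul, ← map_smul, ← map_sum, φ, LinearMap.comp_apply, LinearMap.proj_apply]
      congr 1
      rw [← pi_eq_sum_univ' (s a)]
      exact LinearMap.congr_fun hfs a
    | add a b ha hb => simp only [map_add, TensorProduct.tmul_add, Finset.sum_add_distrib, ha, hb]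
end Groth.Agent.S13046
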