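import Groth.Statements.S13048
import Mathlib

set_option autoImplicit false
set_option linter.unusedVariables false
universe u
open FrobAlg

namespace Groth.Agent.S13048

/-- Let k be an algebraically closed field of characteristic p > 0 and let A be a reduced finitely
generated commutative k-algebra with connected spectrum (A ≠ 0 and 0, 1 are its only idempotents).
If x ∈ A is a p^n-th power in A for every n ≥ 0, then x lies in the image of k; that is, ⋂_n A^{p^n}
= k. (The published statement is: for an artinian local ring R of characteristic p and a flat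
R-algebra A of finite type, the maps A^ét → O(π₀(A)) → A^{p^∞/R} from the largest étale subalgebra
to the preperfection are isomorphisms. This row is the case R = k algebraically closed and A reduced
with connected spectrum, where A^ét = k and the preperfection is ⋂_n A^{p^n}; the printed proof
reduces to this case and its last step proves it.) -/
theorem result
    (p : ℕ) [Fact p.Prime] (k : Type u) [Field k] [IsAlgClosed k] [CharP k p]
    (A : Type u) [CommRing A] [Algebra k A] [Algebra.FiniteType k A] [IsReduced A] [Nontrivial A]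
    (hconn : ∀ e : A, IsIdempotentElem e → e = 0 ∨ e = 1)
    (x : A) (hx : ∀ n : ℕ, ∃ a : A, a ^ p ^ n = x) :
    x ∈ (algebraMap k A).range := by
  haveI : IsNoetherianRing A := Algebra.FiniteType.isNoetherianRing k A
  -- local vanishing at a maximal ideal
  have hloc : ∀ m : Ideal A, m.IsMaximal → ∃ c : k, ∀ n : ℕ, x - algebraMap k A c ∈ m ^ n := by
    intro m hm
    letI : Field (A ⧸ m) := Ideal.Quotient.field m
    haveI : Module.Finite k (A ⧸ m) := finite_of_finite_type_of_isJacobsonRing k (A ⧸ m)
    obtain ⟨c, hc⟩ := (IsAlgClosed.algebraMap_bijective_of_isIntegral (k := k) (K := A ⧸ m)).2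
      (Ideal.Quotient.mk m x)
    refine ⟨c, fun n => ?_⟩
    have hcm : x - algebraMap k A c ∈ m := by
      rw [← Ideal.Quotient.eq, ← hc]; rfl
    obtain ⟨a, ha⟩ := hx n
    obtain ⟨r, hr⟩ := IsAlgClosed.exists_pow_nat_eq c (pow_pos (Fact.out : p.Prime).pos n)
    haveI : CharP A p := charP_of_injective_algebraMap (algebraMap k A).injective p
    have h1 : (a - algebraMap k A r) ^ p ^ n = x - algebraMap k A c := by
      rw [sub_pow_char_pow, ha, ← map_pow, hr]
    have h2 : a - algebraMap k A r ∈ m := hm.isPrime.mem_of_pow_mem _ (h1 ▸ hcm)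
    rw [← h1]
    exact Ideal.pow_le_pow_right (Nat.lt_pow_self (Fact.out : p.Prime).one_lt).le
      (Ideal.pow_mem_pow h2 _)
  have hann : ∀ (y : A) (m : Ideal A), (∀ n : ℕ, y ∈ m ^ n) → ∃ s : A, s - 1 ∈ m ∧ s * y = 0 := by
    intro y m hy
    have h1 : y ∈ (⨅ i : ℕ, m ^ i • (⊤ : Submodule A A)) := by
      simpa [Ideal.mul_top] using hy
    obtain ⟨r, hr⟩ := (Ideal.mem_iInf_smul_pow_eq_bot_iff m y).1 h1
    refine ⟨1 - (r : A), by simpa using m.neg_mem r.2, ?_⟩
    rw [sub_mul, one_mul, sub_eq_zero]
    exact hr.symm
  obtain ⟨m₀, hm₀⟩ := Ideal.exists_maximal A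
  obtain ⟨c, hc⟩ := hloc m₀ hm₀
  set y := x - algebraMap k A c with hy
  suffices y = 0 from ⟨c, (sub_eq_zero.1 this).symm⟩
  -- annihilator and element are comaximal
  let I : Ideal A := LinearMap.ker (LinearMap.mulRight A y) ⊔ Ideal.span {y}
  have hI : I = ⊤ := by
    by_contra hne
    obtain ⟨m, hm, hle⟩ := Ideal.exists_le_maximal I hne
    obtain ⟨c', hc'⟩ := hloc m hm
    have hym : y ∈ m := hle (Ideal.mem_sup_right (Ideal.mem_span_singleton_self y))
    have hc'm := hc' 1
    rw [pow_one] at hc'm
    have hcc : algebraMap k A (c' - c) ∈ m := by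
      have := m.sub_mem hym hc'm
      rw [hy, sub_sub_sub_cancel_left, ← map_sub] at this
      exact this
    have hceq : c' = c := by
      by_contra h
      exact hm.ne_top (Ideal.eq_top_of_isUnit_mem _ hcc
        ((Ne.isUnit (sub_ne_zero.2 h)).map (algebraMap k A)))
    subst hceq
    obtain ⟨s, hs1, hs2⟩ := hann y m hc'
    have hs : s ∈ m := hle (Ideal.mem_sup_left (show s * y = 0 from hs2))
    exact hm.ne_top ((Ideal.eq_top_iff_one _).2 (by simpa using m.sub_mem hs hs1))
  obtain ⟨a, ha, b, hb, hab⟩ := Submodule.mem_sup.1 (show (1 : A) ∈ I from hI ▸ trivial)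
  obtain ⟨t, rfl⟩ := Ideal.mem_span_singleton'.1 hb
  have hay : a * y = 0 := ha
  have he : IsIdempotentElem (t * y) := by
    show t * y * (t * y) = t * y
    linear_combination (t * y) * hab - t * hay
  rcases hconn _ he with h | h
  · linear_combination -y * hab + y * h + hay
  · exfalso
    have hy0 : y ∈ m₀ := by simpa using hc 1
    exact hm₀.ne_top ((Ideal.eq_top_iff_one _).2 (h ▸ m₀.mul_mem_left t hy0))
end Groth.Agent.S13048
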