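import Groth.Statements.S13049
import Mathlib

set_option autoImplicit false
set_option linter.unusedVariables false
universe u
open FrobAlg

namespace Groth.Agent.S13049

/-- Let p be a prime and A a commutative ring of characteristic p whose nilradical N satisfies x^(p^e) =
0 for all x ∈ N and some fixed e (for instance A Noetherian). Then the map between the inverse-limit
perfections along the absolute Frobenius, lim (⋯ → A → A) → lim (⋯ → A/N → A/N), induced by the
projection A → A/N, is bijective. (The published argument takes A of finite type over a field, where
the nilradical is finitely generated; this row assumes only that the nilradical is killed by one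
fixed iterate of Frobenius, which is all that argument uses.) -/
theorem result
    (p : ℕ) [Fact p.Prime] (A : Type u) [CommRing A] [CharP A p]
    [CharP (A ⧸ nilradical A) p] (e : ℕ) (he : ∀ x ∈ nilradical A, x ^ p ^ e = 0) :
    Function.Bijective (Perfection.map p (Ideal.Quotient.mk (nilradical A))) := by
  have hdiff : ∀ a b : A, a - b ∈ nilradical A → a ^ p ^ e = b ^ p ^ e := fun a b h => by
    rw [← sub_eq_zero, ← sub_pow_char_pow, he _ h]
  have hshift : ∀ (f : Perfection A p) (m n : ℕ),
      Perfection.coeff A p (n + m) f ^ p ^ m = Perfection.coeff A p n f := by
    intro f m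
    induction m with
    | zero => intro n; simp
    | succ m ih => intro n; rw [pow_succ', pow_mul, ← add_assoc, Perfection.coeff_pow_p', ih]
  constructor
  · intro f g h
    refine Perfection.ext fun n => ?_
    have h1 := congrArg (Perfection.coeff (A ⧸ nilradical A) p (n + e)) h
    rw [Perfection.coeff_map, Perfection.coeff_map, Ideal.Quotient.eq] at h1
    rw [← hshift f e n, ← hshift g e n]
    exact hdiff _ _ h1
  · intro g
    choose a ha using fun n => Ideal.Quotient.mk_surjective (Perfection.coeff (A ⧸ nilradical A) p n g)
    refine ⟨(⟨fun n => a (n + e) ^ p ^ e, fun n => ?_⟩ : Perfection A p), Perfection.ext fun n => ?_⟩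
    · rw [← pow_mul, mul_comm, pow_mul]
      apply hdiff
      rw [← Ideal.Quotient.eq, map_pow, ha, ha, show n + 1 + e = n + e + 1 by omega, Perfection.coeff_pow_p']
    · refine (show _ = Ideal.Quotient.mk (nilradical A) (a (n + e) ^ p ^ e) from rfl).trans ?_
      rw [map_pow, ha]
      have hs : ∀ (m n : ℕ), Perfection.coeff (A ⧸ nilradical A) p (n + m) g ^ p ^ m =
          Perfection.coeff (A ⧸ nilradical A) p n g := by
        intro m
        induction m with
        | zero => intro n; simp
        | succ m ih => intro n; rw [pow_succ', pow_mul, ← add_assoc, Perfection.coeff_pow_p', ih]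
      exact hs e n
end Groth.Agent.S13049
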