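import Groth.Statements.S13052
import Groth.Agent.Zeta24.Series
-- import your own Groth.Agent.* helpers here

set_option autoImplicit false
universe u
open CategoryTheory AlgebraicGeometry
open Zeta

namespace Groth.Agent.S13052

/-- If X is a scheme of finite type over a finite field k, Y ↪ X a closed subscheme and U = X ∖ Y its
open complement, then Z(X, t) = Z(Y, t) · Z(U, t). Here Y is any scheme with a closed immersion into
X whose image is the complement of U (its scheme structure plays no role), and Y, U are k-schemes
through X. -/
theorem result {k : Type u} [Field k] [Finite k]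
    {X Y : Scheme.{u}} (f : X ⟶ Spec (CommRingCat.of k)) [LocallyOfFiniteType f] [QuasiCompact f]
    (U : X.Opens) (i : Y ⟶ X) [IsClosedImmersion i] (hY : Set.range i.base = (U : Set X)ᶜ) :
    Zeta.zetaFun f = Zeta.zetaFun (i ≫ f) * Zeta.zetaFun (U.ι ≫ f) := by
  let Z : Bool → Scheme.{u} := fun b => bif b then (U : Scheme.{u}) else Y
  let g : ∀ b, Z b ⟶ X := fun b => match b with
    | true => U.ι
    | false => i
  haveI : ∀ b, IsImmersion (g b) := fun b => match b with
    | true => inferInstanceAs (IsImmersion U.ι)
    | false => inferInstanceAs (IsImmersion i)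
  have key := Groth.Agent.Zeta24.zetaFun_partition f Z g fun x _ => by
    have hU : x ∈ Set.range (g true).base ↔ x ∈ U := by
      change x ∈ Set.range U.ι.base ↔ _
      rw [U.range_ι]; rfl
    have hN : x ∈ Set.range (g false).base ↔ x ∉ U := by
      change x ∈ Set.range i.base ↔ _
      rw [hY]; rfl
    by_cases h : x ∈ U
    · exact ⟨true, hU.2 h, fun b hb => by cases b <;> [exact absurd h (hN.1 hb); rfl]⟩
    · exact ⟨false, hN.2 h, fun b hb => by cases b <;> [rfl; exact absurd (hU.1 hb) h]⟩
  rw [key, Fintype.prod_bool, mul_comm]

end Groth.Agent.S13052
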