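import Groth.Statements.S13056
import Groth.Agent.Zeta95.PS

set_option autoImplicit false
universe u v
open Zeta

namespace Groth.Agent.S13056

/-- For an endomorphism φ of a finite-dimensional vector space over a field K, det(Id − tφ) = exp(−∑_{m
≥ 1} tr(φ^m) t^m / m) as power series in t. Stated for a square matrix M, with det(1 − tM) Mathlib's
reversed characteristic polynomial, and over a field of characteristic zero (the exponential series
needs ℚ ⊆ K; this is the case in which the identity is used). -/
theorem result {K : Type u} [Field K] [CharZero K]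
    {n : Type v} [Fintype n] [DecidableEq n] (M : Matrix n n K) :
    ((M.charpolyRev : Polynomial K) : PowerSeries K) =
      PowerSeries.subst (PowerSeries.mk fun m : ℕ => -(Matrix.trace (M ^ m)) / (m : K))
        (PowerSeries.exp K) := by
  let S : PowerSeries K := PowerSeries.mk fun m : ℕ => -(Matrix.trace (M ^ m)) / (m : K)
  have hS0 : PowerSeries.constantCoeff S = 0 := by simp [S]
  have hS : PowerSeries.HasSubst S := PowerSeries.HasSubst.of_constantCoeff_zero' hS0
  have hS' : PowerSeries.derivative K S = PowerSeries.mk fun m => -Matrix.trace (M ^ (m + 1)) := by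
    ext m
    simp only [S, PowerSeries.coeff_derivative, PowerSeries.coeff_mk, Nat.cast_add, Nat.cast_one]
    exact div_mul_cancel₀ _ (Nat.cast_add_one_ne_zero m)
  let Q : PowerSeries K := PowerSeries.subst S (PowerSeries.exp K)
  let P : PowerSeries K := (M.charpolyRev : Polynomial K)
  have hQ' : PowerSeries.derivative K Q = Q * PowerSeries.derivative K S := by
    simp only [Q]
    rw [PowerSeries.derivative_subst hS, PowerSeries.derivative_exp]
  have hQ0 : PowerSeries.constantCoeff Q = 1 := by
    simp only [Q]
    refine (PowerSeries.constantCoeff_subst hS _).trans ?_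
    rw [finsum_eq_single _ 0 fun d hd => ?_]
    · simp
    · rw [map_pow, show MvPowerSeries.constantCoeff S = 0 from hS0, zero_pow hd, smul_zero]
  have hP0 : PowerSeries.constantCoeff P = 1 := by simp [P, Polynomial.coeff_zero_eq_eval_zero, Matrix.eval_charpolyRev]
  have hne : Q ≠ 0 := fun h => by simp [h] at hQ0
  have hu : P * Q⁻¹ = 1 := by
    refine PowerSeries.derivative.ext ?_ (by simp [hP0, hQ0])
    rw [Derivation.leibniz, PowerSeries.derivative_inv', hQ', Derivation.map_one_eq_zero,
      Zeta95.derivative_charpolyRev, ← hS', smul_eq_mul, smul_eq_mul]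
    have h1 : Q * Q⁻¹ = 1 := PowerSeries.mul_inv_cancel Q (by rw [hQ0]; exact one_ne_zero)
    linear_combination (-(P * Q⁻¹ * PowerSeries.derivative K S)) * h1
  have h1 : Q⁻¹ * Q = 1 := PowerSeries.inv_mul_cancel Q (by rw [hQ0]; exact one_ne_zero)
  calc P = P * Q⁻¹ * Q := by rw [mul_assoc, h1, mul_one]
    _ = Q := by rw [hu, one_mul]

end Groth.Agent.S13056
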