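import Groth.Statements.S13057
import Mathlib.RingTheory.PowerSeries.Trunc
import Mathlib.LinearAlgebra.Dual.Lemmas

set_option autoImplicit false
universe u
open Zeta

namespace Groth.Agent.S13057

/-- A power series f = ∑_{m ≥ 0} a_m t^m over a field L lies in L(t), i.e. f · Q = P for some
polynomials P, Q with Q ≠ 0, if and only if there are natural numbers M, N such that the vectors
(a_i, a_{i+1}, …, a_{i+N}) ∈ L^{N+1}, i ≥ M, span a proper subspace. -/
theorem result {L : Type u} [Field L]
    (f : PowerSeries L) :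
    (∃ P Q : Polynomial L, Q ≠ 0 ∧ f * (Q : PowerSeries L) = (P : PowerSeries L)) ↔
      ∃ M N : ℕ, Submodule.span L
          {v : Fin (N + 1) → L | ∃ i : ℕ, M ≤ i ∧ v = fun j : Fin (N + 1) => PowerSeries.coeff (i + (j : ℕ)) f} ≠ ⊤ := by
  have key : ∀ (Q : Polynomial L) (N i : ℕ), Q.natDegree ≤ N →
      PowerSeries.coeff (i + N) (f * (Q : PowerSeries L)) =
        ∑ j : Fin (N + 1), Q.coeff (N - (j : ℕ)) * PowerSeries.coeff (i + (j : ℕ)) f := by
    intro Q N i hQ
    rw [PowerSeries.coeff_mul, Finset.Nat.sum_antidiagonal_eq_sum_range_succ_mk]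
    simp only [Polynomial.coeff_coe]
    rw [show Finset.range (i + N + 1) = Finset.range i ∪ Finset.Ico i (i + N + 1) by
      ext m; simp; omega, Finset.sum_union (by rw [Finset.disjoint_left]; simp; omega)]
    rw [Finset.sum_eq_zero fun m hm => by
      rw [Polynomial.coeff_eq_zero_of_natDegree_lt (by simp at hm; omega), mul_zero], zero_add,
      Finset.sum_Ico_eq_sum_range, show i + N + 1 - i = N + 1 by omega,
      Fin.sum_univ_eq_sum_range (fun j => Q.coeff (N - j) * PowerSeries.coeff (i + j) f)]
    refine Finset.sum_congr rfl fun j hj => ?_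
    rw [mul_comm, show i + N - (i + j) = N - j by omega]
  constructor
  · rintro ⟨P, Q, hQ, hfQ⟩
    refine ⟨P.natDegree + 1, Q.natDegree, fun htop => hQ ?_⟩
    let l : (Fin (Q.natDegree + 1) → L) →ₗ[L] L :=
      Fintype.linearCombination L fun j : Fin (Q.natDegree + 1) => Q.coeff (Q.natDegree - (j : ℕ))
    have hker : LinearMap.ker l = ⊤ := by
      rw [eq_top_iff, ← htop, Submodule.span_le]
      rintro _ ⟨i, hi, rfl⟩
      simp only [SetLike.mem_coe, LinearMap.mem_ker, l, Fintype.linearCombination_apply, smul_eq_mul]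
      rw [Finset.sum_congr rfl fun j _ => mul_comm _ _, ← key Q _ i le_rfl, hfQ, Polynomial.coeff_coe]
      exact Polynomial.coeff_eq_zero_of_natDegree_lt (by omega)
    have := LinearMap.congr_fun (LinearMap.ker_eq_top.mp hker) (Pi.single 0 1)
    simp [l] at this
    exact this
  · rintro ⟨M, N, hne⟩
    obtain ⟨φ, hφ0, hφ⟩ := Submodule.exists_dual_map_eq_bot_of_lt_top (lt_top_iff_ne_top.mpr hne) inferInstance
    let Q : Polynomial L := ∑ j : Fin (N + 1), Polynomial.monomial (N - (j : ℕ)) (φ (Pi.single j 1))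
    have hQc : ∀ j : Fin (N + 1), Q.coeff (N - (j : ℕ)) = φ (Pi.single j 1) := fun j => by
      simp only [Q, Polynomial.finset_sum_coeff, Polynomial.coeff_monomial]
      rw [Finset.sum_eq_single j (fun b _ hb => if_neg fun h => hb (Fin.ext (by omega))) (fun h => absurd (Finset.mem_univ j) h), if_pos rfl]
    have hQd : Q.natDegree ≤ N := Polynomial.natDegree_sum_le_of_forall_le _ _ fun j _ =>
      (Polynomial.natDegree_monomial_le _).trans (Nat.sub_le _ _)
    refine ⟨PowerSeries.trunc (M + N) (f * (Q : PowerSeries L)), Q, fun h => hφ0 ?_, ?_⟩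
    · refine LinearMap.pi_ext' fun j => LinearMap.ext_ring ?_
      simpa [h] using (hQc j).symm
    · ext m
      rw [Polynomial.coeff_coe, PowerSeries.coeff_trunc]
      split_ifs with hm
      · rfl
      · obtain ⟨i, rfl⟩ : ∃ i, m = i + N := ⟨m - N, by omega⟩
        rw [key Q N i hQd]
        have h1 : φ (fun j : Fin (N + 1) => PowerSeries.coeff (i + (j : ℕ)) f) = 0 :=
          (Submodule.eq_bot_iff _).mp hφ _ ⟨_, Submodule.subset_span ⟨i, by omega, rfl⟩, rfl⟩
        rw [LinearMap.pi_apply_eq_sum_univ] at h1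
        simp only [hQc]
        rw [← h1]
        refine Finset.sum_congr rfl fun x _ => ?_
        rw [smul_eq_mul, mul_comm]
        congr 2
        funext j
        simp [Pi.single_apply, eq_comm]

end Groth.Agent.S13057
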