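import Groth.Statements.S13058
import Mathlib.RingTheory.PowerSeries.Trunc
import Mathlib.LinearAlgebra.Basis.VectorSpace
import Mathlib.LinearAlgebra.Dual.Lemmas

set_option autoImplicit false
universe u v
open Zeta

namespace Groth.Agent.S13058

/-- If L'/L is a field extension, a power series f ∈ L⟦t⟧ belongs to L(t) exactly when it belongs to
L'(t); here membership in L(t) means f · Q = P for polynomials P, Q over the field in question with
Q ≠ 0. -/
theorem result {L : Type u} {L' : Type v} [Field L] [Field L']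
    [Algebra L L'] (f : PowerSeries L) :
    (∃ P Q : Polynomial L', Q ≠ 0 ∧
        PowerSeries.map (algebraMap L L') f * (Q : PowerSeries L') = (P : PowerSeries L')) ↔
      ∃ P Q : Polynomial L, Q ≠ 0 ∧ f * (Q : PowerSeries L) = (P : PowerSeries L) := by
  constructor
  swap
  · rintro ⟨P, Q, hQ, h⟩
    refine ⟨P.map (algebraMap L L'), Q.map (algebraMap L L'), (Polynomial.map_ne_zero_iff (algebraMap L L').injective).mpr hQ, ?_⟩
    rw [Polynomial.polynomial_map_coe, Polynomial.polynomial_map_coe, ← map_mul, h]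
  rintro ⟨P, Q, hQ, h⟩
  obtain ⟨ψ, hψ⟩ : ∃ ψ : L' →ₗ[L] L, ψ Q.leadingCoeff ≠ 0 := by
    by_contra hc
    push Not at hc
    exact Polynomial.leadingCoeff_ne_zero.mpr hQ ((Module.forall_dual_apply_eq_zero_iff L _).mp hc)
  let m : Polynomial L' → Polynomial L := fun S => ∑ i ∈ Finset.range (S.natDegree + 1), Polynomial.monomial i (ψ (S.coeff i))
  have hm : ∀ S i, (m S).coeff i = ψ (S.coeff i) := fun S i => by
    simp only [m, Polynomial.finset_sum_coeff, Polynomial.coeff_monomial, Finset.sum_ite_eq', Finset.mem_range]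
    split_ifs with hi
    · rfl
    · rw [Polynomial.coeff_eq_zero_of_natDegree_lt (by omega), map_zero]
  refine ⟨m P, m Q, fun h0 => hψ ?_, ?_⟩
  · rw [Polynomial.leadingCoeff, ← hm, h0, Polynomial.coeff_zero]
  · ext n
    have h1 := congrArg ψ (congrArg (PowerSeries.coeff n) h)
    rw [PowerSeries.coeff_mul, map_sum, Polynomial.coeff_coe] at h1
    rw [PowerSeries.coeff_mul, Polynomial.coeff_coe, hm, ← h1]
    refine Finset.sum_congr rfl fun x _ => ?_
    rw [Polynomial.coeff_coe, Polynomial.coeff_coe, PowerSeries.coeff_map, ← Algebra.smul_def, map_smul, smul_eq_mul, hm]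

end Groth.Agent.S13058
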