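import Groth.Statements.S13059
import Mathlib.LinearAlgebra.Matrix.Charpoly.Coeff
import Mathlib.LinearAlgebra.Charpoly.ToMatrix
import Mathlib.LinearAlgebra.Dual.Basis
import Mathlib.LinearAlgebra.PerfectPairing.Basic
import Mathlib.LinearAlgebra.Determinant

set_option autoImplicit false
universe u
open Zeta

namespace Groth.Agent.S13059

/-- Let B : V × W → K be a perfect pairing of finite-dimensional vector spaces over a field K, c ∈ K
nonzero, and f, g endomorphisms of V, W with B(f v, g w) = c · B(v, w) for all v, w. Then det(Id − t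
g) = (−1)^r c^r t^r det(f)^{−1} det(Id − c^{−1} t^{−1} f) with r the common dimension; stated
cleared of denominators as det(f) · det(Id − t g) = (−1)^r c^r · det(t Id − c^{−1} f) in K[t],
det(Id − t g) being the reverse of the characteristic polynomial of g. -/
theorem result (K : Type u) [Field K] (V W : Type u)
    [AddCommGroup V] [Module K V] [FiniteDimensional K V] [AddCommGroup W] [Module K W]
    [FiniteDimensional K W] (B : V →ₗ[K] W →ₗ[K] K) [B.IsPerfPair] (f : V →ₗ[K] V) (g : W →ₗ[K] W)
    (c : K) (hc : c ≠ 0) (hfg : ∀ (v : V) (w : W), B (f v) (g w) = c * B v w) :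
    LinearMap.det f • (LinearMap.charpoly g).reverse =
      ((-1) ^ Module.finrank K W * c ^ Module.finrank K W) • (c⁻¹ • f).charpoly := by
  classical
  let ι := Module.Free.ChooseBasisIndex K V
  let b : Module.Basis ι K V := Module.Free.chooseBasis K V
  let e : W ≃ₗ[K] Module.Dual K V := B.flip.toPerfPair
  let bw : Module.Basis ι K W := b.dualBasis.map e.symm
  have hB : ∀ i j, B (b i) (bw j) = if j = i then 1 else 0 := fun i j => by
    have h1 : B.flip (bw j) = b.dualBasis j := by
      change e (e.symm (b.dualBasis j)) = _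
      exact e.apply_symm_apply _
    rw [← LinearMap.flip_apply, h1, Module.Basis.dualBasis_apply_self]
    simp [eq_comm]
  let F := LinearMap.toMatrix b b f
  let G := LinearMap.toMatrix bw bw g
  have hFG : F.transpose * G = c • (1 : Matrix ι ι K) := by
    ext i j
    have h1 := hfg (b i) (bw j)
    rw [← b.sum_repr (f (b i)), ← bw.sum_repr (g (bw j))] at h1
    simp only [map_sum, LinearMap.sum_apply, map_smul, LinearMap.smul_apply, hB, smul_eq_mul, mul_ite, mul_one,
      mul_zero, Finset.sum_ite_eq', Finset.sum_ite_eq, Finset.mem_univ, if_true] at h1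
    rw [Matrix.mul_apply, Matrix.smul_apply, Matrix.one_apply]
    simp only [F, G, Matrix.transpose_apply, LinearMap.toMatrix_apply]
    rcases eq_or_ne i j with rfl | hij
    · simpa [mul_comm] using h1
    · simpa [mul_comm, hij, hij.symm] using h1
  have hr : Fintype.card ι = Module.finrank K W := (Module.finrank_eq_card_basis bw).symm
  rw [← LinearMap.det_toMatrix b f, ← LinearMap.charpoly_toMatrix g bw, ← LinearMap.charpoly_toMatrix (c⁻¹ • f) b,
    Matrix.reverse_charpoly, map_smul, ← hr, ← Matrix.charpoly_transpose (c⁻¹ • _), Matrix.transpose_smul]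
  change F.det • G.charpolyRev = _ • (c⁻¹ • F.transpose).charpoly
  rw [← Matrix.det_transpose F, Polynomial.smul_eq_C_mul, Polynomial.smul_eq_C_mul, RingHom.map_det,
    Matrix.charpolyRev, Matrix.charpoly, ← Matrix.det_mul, RingHom.mapMatrix_apply]
  rw [show (-1 : K) ^ Fintype.card ι * c ^ Fintype.card ι = (-c) ^ Fintype.card ι by rw [← mul_pow, neg_one_mul],
    map_pow, ← Matrix.det_smul, Matrix.mul_sub, Matrix.mul_one, Matrix.mul_smul, ← Matrix.map_mul, hFG]
  congr 1
  ext i j
  have hcc : Polynomial.C c * Polynomial.C c⁻¹ = 1 := by rw [← map_mul, mul_inv_cancel₀ hc, map_one]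
  rcases eq_or_ne i j with rfl | hij
  · simp [Matrix.charmatrix_apply, Matrix.sub_apply, mul_sub, -map_inv₀]
    simp only [Polynomial.coeff_C]
    split_ifs <;> field_simp <;> ring
  · simp [Matrix.charmatrix_apply, Matrix.sub_apply, hij, -map_inv₀]
    simp only [Polynomial.coeff_C]
    split_ifs <;> field_simp <;> ring

end Groth.Agent.S13059
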