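import Groth.Statements.S13060
import Mathlib.LinearAlgebra.TensorProduct.Basis
import Mathlib.LinearAlgebra.Basis.VectorSpace
import Mathlib.RepresentationTheory.Invariants

set_option autoImplicit false
universe u v w x
open TensorProduct
open Zeta

namespace Groth.Agent.S13060

/-- Let k be a field, V and W vector spaces over k and G a group acting on V by k-linear automorphisms;
for the induced action on V ⊗_k W (trivial on W) one has (V ⊗_k W)^G = V^G ⊗_k W, i.e. the
invariants of V ⊗ W are the image of V^G ⊗ W → V ⊗ W. -/
theorem result {k : Type u} [Field k] {G : Type v} [Group G]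
    {V : Type w} {W : Type x} [AddCommGroup V] [Module k V] [AddCommGroup W] [Module k W]
    (ρ : Representation k G V) :
    (ρ.tprod (Representation.trivial k G W)).invariants =
      LinearMap.range (TensorProduct.map ρ.invariants.subtype (LinearMap.id : W →ₗ[k] W)) := by
  classical
  let b := Module.Free.chooseBasis k W
  let E := TensorProduct.equivFinsuppOfBasisRight (M := V) b
  have hE : ∀ (g : G) (z : TensorProduct k V W) (i), E ((ρ.tprod (Representation.trivial k G W)) g z) i = ρ g (E z i) := by
    intro g z i
    induction z using TensorProduct.induction_on with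
    | zero => simp
    | tmul v w => simp [E, TensorProduct.equivFinsuppOfBasisRight_apply_tmul_apply]
    | add x y hx hy => simp only [map_add, Finsupp.add_apply, hx, hy]
  ext z
  constructor
  · intro hz
    rw [← E.symm_apply_apply z, TensorProduct.equivFinsuppOfBasisRight_symm_apply]
    refine Submodule.sum_mem _ fun i _ => ⟨(⟨E z i, fun g => ?_⟩ : ρ.invariants) ⊗ₜ b i, rfl⟩
    rw [← hE g z i, hz g]
  · rintro ⟨t, rfl⟩ g
    induction t using TensorProduct.induction_on with
    | zero => simp
    | tmul v w => simp [v.2 g]
    | add x y hx hy => rw [map_add, map_add, hx, hy]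

end Groth.Agent.S13060
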