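import Groth.Statements.S13061
import Mathlib.RingTheory.Ideal.Quotient.Operations
import Mathlib.Algebra.CharP.Lemmas
import Mathlib.Algebra.Polynomial.Expand
import Mathlib.Data.Nat.Factorization.Basic
import Mathlib.Algebra.GroupWithZero.Action.Faithful

set_option autoImplicit false
universe u v w
open Zeta

namespace Groth.Agent.S13061

/-- Let A be a commutative algebra over a field k, G a finite group acting on A by k-algebra
automorphisms and I ⊆ A an ideal preserved by G. If p^n is the largest power of p = char(k) dividing
|G| (with p^n = 1 when char(k) = 0), then for every G-invariant b ∈ A/I the power b^{p^n} lies in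
the image of A^G → (A/I)^G. (The published statement takes A finitely generated over k, which the
proof does not use.) -/
theorem result {k : Type u} [Field k]
    {A : Type v} [CommRing A] [Algebra k A] {G : Type w} [Group G] [Finite G]
    [MulSemiringAction G A] [SMulCommClass G k A] (I : Ideal A)
    (hI : ∀ (g : G) (a : A), a ∈ I → g • a ∈ I) (u : A) (hu : ∀ g : G, g • u - u ∈ I) :
    ∃ a : A, (∀ g : G, g • a = a) ∧
      Ideal.Quotient.mk I a =
        Ideal.Quotient.mk I u ^ (ringChar k ^ (Nat.card G).factorization (ringChar k)) := by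
  classical
  have := Fintype.ofFinite G
  let p := ringChar k
  let q := p ^ (Nat.card G).factorization p
  let P : Polynomial A := ∏ g : G, (Polynomial.X + Polynomial.C (g • u))
  have hP : ∀ h : G, P.map (MulSemiringAction.toRingHom G A h) = P := fun h => by
    simp only [P, Polynomial.map_prod, Polynomial.map_add, Polynomial.map_X, Polynomial.map_C,
      MulSemiringAction.toRingHom_apply, smul_smul]
    exact Equiv.prod_comp (Equiv.mulLeft h) fun g => Polynomial.X + Polynomial.C (g • u)
  have hinv : ∀ (h : G) (j : ℕ), h • P.coeff j = P.coeff j := fun h j => by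
    conv_rhs => rw [← hP h]
    rw [Polynomial.coeff_map, MulSemiringAction.toRingHom_apply]
  have hqN : q ∣ Fintype.card G := Nat.card_eq_fintype_card (α := G) ▸ Nat.ordProj_dvd _ _
  have hmk : Ideal.Quotient.mk I (P.coeff (Fintype.card G - q)) =
      Ideal.Quotient.mk I u ^ q * ((Fintype.card G).choose (Fintype.card G - q) : A ⧸ I) := by
    rw [← Polynomial.coeff_map]
    simp only [P, Polynomial.map_prod, Polynomial.map_add, Polynomial.map_X, Polynomial.map_C]
    rw [Finset.prod_congr rfl fun g _ => by rw [Ideal.Quotient.mk_eq_mk_iff_sub_mem (g • u) u |>.mpr (hu g)],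
      Finset.prod_const, Finset.card_univ, Polynomial.coeff_X_add_C_pow]
    rw [Nat.sub_sub_self (Nat.le_of_dvd Fintype.card_pos hqN)]
  have hne : ((Fintype.card G).choose (Fintype.card G - q) : k) ≠ 0 := by
    rw [Nat.choose_symm (Nat.le_of_dvd Fintype.card_pos hqN)]
    rcases CharP.char_is_prime_or_zero k p with hp | hp
    swap
    · have : CharP k 0 := hp ▸ ringChar.charP k
      have : CharZero k := CharP.charP_to_charZero k
      exact Nat.cast_ne_zero.mpr (Nat.choose_pos (Nat.le_of_dvd Fintype.card_pos hqN)).ne'
    · have : Fact p.Prime := ⟨hp⟩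
      obtain ⟨m, hm⟩ := hqN
      have hpm : ¬ p ∣ m := fun h => by
        have h1 : p ^ ((Nat.card G).factorization p + 1) ∣ Nat.card G := by
          rw [pow_succ]; exact (Nat.mul_dvd_mul dvd_rfl h).trans (dvd_of_eq ((Nat.card_eq_fintype_card (α := G)).trans hm).symm)
        exact Nat.pow_succ_factorization_not_dvd Nat.card_pos.ne' hp h1
      have h2 : (((Fintype.card G).choose q : ℕ) : k) = (m : k) := by
        rw [← Polynomial.coeff_X_add_one_pow k (Fintype.card G) q, hm, pow_mul,
          show ((Polynomial.X : Polynomial k) + 1) ^ q = Polynomial.expand k q (Polynomial.X + 1) by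
            rw [add_pow_char_pow, one_pow, map_add, map_one, Polynomial.expand_X],
          ← map_pow]
        have hq0 : 0 < q := pow_pos hp.pos _
        conv_lhs => arg 2; rw [← Nat.one_mul q]
        rw [Polynomial.coeff_expand_mul hq0, Polynomial.coeff_X_add_one_pow, Nat.choose_one_right]
      rw [h2, Ne, CharP.cast_eq_zero_iff k p]
      exact hpm
  refine ⟨algebraMap k A ((Fintype.card G).choose (Fintype.card G - q) : k)⁻¹ * P.coeff (Fintype.card G - q), fun g => ?_, ?_⟩
  · rw [← Algebra.smul_def, smul_comm g, hinv]
  · have h1 : ((Fintype.card G).choose (Fintype.card G - q) : A ⧸ I) =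
        Ideal.Quotient.mk I (algebraMap k A ((Fintype.card G).choose (Fintype.card G - q) : k)) := by simp
    rw [map_mul, hmk, h1, mul_left_comm, ← map_mul, ← map_mul, inv_mul_cancel₀ hne, map_one, map_one, mul_one]

end Groth.Agent.S13061
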