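import Groth.Statements.S13070
import Groth.Agent.PtCount95.Count
import Mathlib.AlgebraicGeometry.Morphisms.FiniteType
import Mathlib.FieldTheory.Finite.Basic

set_option autoImplicit false
universe u
open CategoryTheory AlgebraicGeometry
open Zeta

namespace Groth.Agent.S13070

/-- For an arithmetic scheme X (of finite type over ℤ) of dimension r there are c_X > 0 and p₀ such that
#X(F_{p^m}) ≤ c_X p^{m(r−1)} for all primes p ≥ p₀ and m ≥ 1, and #X(F_{p^m}) ≤ c_X p^{mr} for p <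
p₀ and m ≥ 1. Here #X(F) is the number of morphisms Spec F → X, and the dimension is only assumed ≤
r. -/
theorem result {X : Scheme.{u}}
    (f : X ⟶ Spec (CommRingCat.of (ULift.{u} ℤ))) [LocallyOfFiniteType f] [QuasiCompact f] (r : ℕ)
    (hr : topologicalKrullDim X ≤ r) :
    ∃ (c : ℝ) (p₀ : ℕ), 0 < c ∧ ∀ (p m : ℕ), p.Prime → 1 ≤ m →
      ∀ (F : Type u) [Field F], Nat.card F = p ^ m →
        (p₀ ≤ p → (Nat.card (Spec (CommRingCat.of F) ⟶ X) : ℝ) ≤
            c * (p : ℝ) ^ ((m : ℝ) * ((r : ℝ) - 1))) ∧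
        (p < p₀ → (Nat.card (Spec (CommRingCat.of F) ⟶ X) : ℝ) ≤ c * (p : ℝ) ^ ((m : ℝ) * r)) := by
  classical
  have : CompactSpace X := QuasiCompact.compactSpace_of_compactSpace f
  let 𝒰 := X.affineCover.finiteSubcover
  have : ∀ i, IsAffine (𝒰.X i) := fun i => inferInstanceAs (IsAffine (X.affineCover.X _))
  -- bounds on each chart
  have key : ∀ i, ∃ (c : ℕ → ℕ) (p₀ cl : ℕ), ∀ (p : ℕ), p.Prime → ∀ (F : Type u) [Field F] [Finite F] [CharP F p],
      Finite (Spec (CommRingCat.of F) ⟶ 𝒰.X i) ∧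
        Nat.card (Spec (CommRingCat.of F) ⟶ 𝒰.X i) ≤ c p * Nat.card F ^ r ∧
        (p₀ ≤ p → Nat.card (Spec (CommRingCat.of F) ⟶ 𝒰.X i) = 0 ∨
          (1 ≤ r ∧ Nat.card (Spec (CommRingCat.of F) ⟶ 𝒰.X i) ≤ cl * Nat.card F ^ (r - 1))) := by
    intro i
    let φ : CommRingCat.of (ULift.{u} ℤ) ⟶ Γ(𝒰.X i, ⊤) := Spec.preimage ((𝒰.X i).isoSpec.inv ≫ 𝒰.f i ≫ f)
    have hφ : Spec.map φ = (𝒰.X i).isoSpec.inv ≫ 𝒰.f i ≫ f := Spec.map_preimage _
    let B : Type u := Γ(𝒰.X i, ⊤)
    let χ : PtCount95.Z0.{u} →+* B := φ.hom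
    let _ : Algebra PtCount95.Z0.{u} B := χ.toAlgebra
    have : Algebra.FiniteType PtCount95.Z0.{u} B := by
      have : LocallyOfFiniteType (Spec.map φ) := hφ ▸ inferInstance
      rw [HasRingHomProperty.Spec_iff (P := @LocallyOfFiniteType)] at this
      exact this
    have hB : ringKrullDim B ≤ r := by
      rw [← PrimeSpectrum.topologicalKrullDim_eq_ringKrullDim]
      exact (((𝒰.X i).isoSpec.inv ≫ 𝒰.f i).isOpenEmbedding.isInducing.topologicalKrullDim_le).trans hr
    have hc : ∀ p : ℕ, ∃ c : ℕ, p.Prime → ∀ (F : Type u) [Field F] [Finite F] [CharP F p],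
        Finite (B →+* F) ∧ Nat.card (B →+* F) ≤ c * Nat.card F ^ r := fun p => by
      by_cases hp : p.Prime
      · have := Fact.mk hp
        obtain ⟨c, hc⟩ := PtCount95.exists_bound_prime hB p
        exact ⟨c, fun _ => hc⟩
      · exact ⟨0, fun h => absurd h hp⟩
    choose c hc using hc
    obtain ⟨cl, p₀, hl⟩ := PtCount95.exists_bound_large hB
    refine ⟨c, p₀, cl, fun p hp F _ _ _ => ?_⟩
    have e : (Spec (CommRingCat.of F) ⟶ 𝒰.X i) ≃ (B →+* F) :=
      ((𝒰.X i).isoSpec.homToEquiv).trans (Spec.homEquiv.trans ⟨fun g => g.hom, fun g => CommRingCat.ofHom g, fun _ => rfl, fun _ => rfl⟩)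
    obtain ⟨hfin, hle⟩ := hc p hp F
    rw [Nat.card_congr e]
    exact ⟨Finite.of_equiv _ e.symm, hle, fun h => hl p F h hp⟩
  choose c p₀ cl hkey using key
  have : Finite 𝒰.I₀ := inferInstance
  have : Fintype 𝒰.I₀ := Fintype.ofFinite _
  let P := Finset.univ.sup p₀
  let C : ℕ := (∑ i, cl i) + (∑ p ∈ Finset.range P, ∑ i, c i p) + 1
  refine ⟨C, P, by positivity, fun p m hp hm F _ hF => ?_⟩
  have : Finite F := Nat.finite_of_card_ne_zero (by rw [hF]; positivity [hp.pos])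
  have : Fintype F := Fintype.ofFinite F
  have := Fact.mk hp
  have : CharP F p := charP_of_card_eq_prime_pow (by rw [← Nat.card_eq_fintype_card, hF])
  have hfin := fun i => (hkey i p hp F).1
  let J : (Σ i, Spec (CommRingCat.of F) ⟶ 𝒰.X i) → (Spec (CommRingCat.of F) ⟶ X) := fun x => x.2 ≫ 𝒰.f x.1
  have hJ : Function.Surjective J := by
    intro g
    let x := g (default : Spec (CommRingCat.of F))
    have hsub : Set.range g ⊆ Set.range (𝒰.f (𝒰.idx x)) := by
      rintro _ ⟨y, rfl⟩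
      rw [Subsingleton.elim y default]
      exact 𝒰.covers x
    exact ⟨⟨_, IsOpenImmersion.lift (𝒰.f (𝒰.idx x)) g hsub⟩, IsOpenImmersion.lift_fac _ _ _⟩
  have hcard : Nat.card (Spec (CommRingCat.of F) ⟶ X) ≤ ∑ i, Nat.card (Spec (CommRingCat.of F) ⟶ 𝒰.X i) :=
    (Nat.card_le_card_of_surjective J hJ).trans (le_of_eq Nat.card_sigma)
  have cast : ∀ (n e : ℕ) (E : ℝ), E = e → n ≤ C * Nat.card F ^ e → (n : ℝ) ≤ (C : ℝ) * (p : ℝ) ^ ((m : ℝ) * E) := by
    intro n e E hE h
    rw [hE, ← Nat.cast_mul, Real.rpow_natCast, pow_mul]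
    rw [hF] at h
    exact_mod_cast h
  refine ⟨fun hP => ?_, fun hP => ?_⟩
  · rcases Nat.eq_zero_or_pos r with hr0 | hr0
    · have h0 : ∀ i, Nat.card (Spec (CommRingCat.of F) ⟶ 𝒰.X i) = 0 := fun i =>
        ((hkey i p hp F).2.2 ((Finset.le_sup (Finset.mem_univ i)).trans hP)).resolve_right (fun h => by omega)
      rw [Finset.sum_eq_zero fun i _ => h0 i, Nat.le_zero] at hcard
      rw [hcard, Nat.cast_zero]
      positivity
    · refine cast _ (r - 1) _ (by rw [Nat.cast_sub hr0, Nat.cast_one]) (hcard.trans ?_)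
      refine (Finset.sum_le_sum fun i _ => ?_).trans (le_of_eq (Finset.sum_mul _ _ _).symm) |>.trans
        (Nat.mul_le_mul_right _ (show ∑ i, cl i ≤ C by simp only [C]; omega))
      rcases (hkey i p hp F).2.2 ((Finset.le_sup (Finset.mem_univ i)).trans hP) with h | h
      · simp [h]
      · exact h.2
  · refine cast _ r _ rfl (hcard.trans ?_)
    refine (Finset.sum_le_sum fun i _ => (hkey i p hp F).2.1).trans (le_of_eq (Finset.sum_mul _ _ _).symm) |>.trans
      (Nat.mul_le_mul_right _ ?_)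
    have := Finset.single_le_sum (f := fun q => ∑ i, c i q) (fun q _ => Nat.zero_le _) (Finset.mem_range.mpr hP)
    simp only [C]
    omega

end Groth.Agent.S13070
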