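import Groth.Statements.S13075
import Groth.Agent.Zeta95.PS

set_option autoImplicit false
open Zeta

namespace Groth.Agent.S13075

/-- For the formal power series exp(t) = ∑_{m ≥ 0} t^m / m! and log(1 + t) = ∑_{m ≥ 1} (−1)^{m+1} t^m /
m over ℚ, log(exp(u)) = u and exp(log(1 + u)) = 1 + u for every u ∈ tℚ⟦t⟧; stated for u = t (the
general case is obtained by substitution): substituting exp(t) − 1 into log(1 + ·) gives t, and
substituting log(1 + t) into exp gives 1 + t. -/
theorem result :
    PowerSeries.subst (PowerSeries.exp ℚ - 1)
        (PowerSeries.mk fun m : ℕ => if m = 0 then (0 : ℚ) else (-1) ^ (m + 1) / (m : ℚ)) =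
      PowerSeries.X ∧
    PowerSeries.subst (PowerSeries.mk fun m : ℕ => if m = 0 then (0 : ℚ) else (-1) ^ (m + 1) / (m : ℚ))
        (PowerSeries.exp ℚ) = 1 + PowerSeries.X := by
  let L : PowerSeries ℚ := PowerSeries.mk fun m : ℕ => if m = 0 then (0 : ℚ) else (-1) ^ (m + 1) / (m : ℚ)
  have hL0 : PowerSeries.constantCoeff L = 0 := by simp [L]
  have hL : PowerSeries.HasSubst L := PowerSeries.HasSubst.of_constantCoeff_zero' hL0
  have hL' : PowerSeries.derivative ℚ L * (1 + PowerSeries.X) = 1 := by
    have h1 : PowerSeries.derivative ℚ L = PowerSeries.mk fun m => (-1 : ℚ) ^ m := by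
      ext m
      simp only [L, PowerSeries.coeff_derivative, PowerSeries.coeff_mk, if_neg (Nat.succ_ne_zero m), Nat.cast_add, Nat.cast_one]
      rw [div_mul_cancel₀ _ (Nat.cast_add_one_ne_zero m), pow_add, pow_add]
      ring
    rw [h1]
    ext m
    rcases m with _ | m
    · simp [mul_add]
    · simp [mul_add, pow_succ]
  have hE : PowerSeries.HasSubst (PowerSeries.exp ℚ - 1) := PowerSeries.HasSubst.of_constantCoeff_zero' (by simp)
  constructor
  · refine PowerSeries.derivative.ext ?_ ?_
    · rw [PowerSeries.derivative_subst hE, PowerSeries.derivative_X, map_sub, Derivation.map_one_eq_zero, sub_zero,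
        PowerSeries.derivative_exp]
      have h2 := congrArg (PowerSeries.substAlgHom hE) hL'
      rw [map_mul, map_add, map_one, PowerSeries.substAlgHom_X, add_sub_cancel, PowerSeries.coe_substAlgHom] at h2
      exact h2
    · rw [PowerSeries.constantCoeff_X]
      refine (PowerSeries.constantCoeff_subst hE _).trans (finsum_eq_zero_of_forall_eq_zero fun d => ?_)
      rcases Nat.eq_zero_or_pos d with rfl | hd
      · simp
      · rw [map_pow, show MvPowerSeries.constantCoeff (PowerSeries.exp ℚ - 1) = 0 from by
          change PowerSeries.constantCoeff _ = _; simp, zero_pow hd.ne', smul_zero]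
  · change PowerSeries.subst L (PowerSeries.exp ℚ) = _
    let F := PowerSeries.subst L (PowerSeries.exp ℚ)
    have hF0 : PowerSeries.constantCoeff F = 1 := by
      refine (PowerSeries.constantCoeff_subst hL _).trans ?_
      rw [finsum_eq_single _ 0 fun d hd => ?_]
      · simp
      · rw [map_pow, show MvPowerSeries.constantCoeff L = 0 from hL0, zero_pow hd, smul_zero]
    have hF' : PowerSeries.derivative ℚ F = F * PowerSeries.derivative ℚ L := by
      simp only [F]; rw [PowerSeries.derivative_subst hL, PowerSeries.derivative_exp]
    have hFL : F * PowerSeries.derivative ℚ L = 1 := by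
      refine PowerSeries.derivative.ext ?_ ?_
      · have h2 := congrArg (PowerSeries.derivative ℚ) hL'
        rw [Derivation.leibniz, map_add, Derivation.map_one_eq_zero, zero_add, PowerSeries.derivative_X] at h2
        rw [Derivation.leibniz, hF', Derivation.map_one_eq_zero]
        simp only [smul_eq_mul, mul_one] at h2 ⊢
        linear_combination (F * PowerSeries.derivative ℚ L) * h2 - F * (PowerSeries.derivative ℚ (PowerSeries.derivative ℚ L)) * hL'
      · have h3 := congrArg PowerSeries.constantCoeff hL'
        simp at h3
        simp [hF0, h3]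
    calc F = F * (PowerSeries.derivative ℚ L * (1 + PowerSeries.X)) := by rw [hL', mul_one]
      _ = 1 + PowerSeries.X := by rw [← mul_assoc, hFL, one_mul]

end Groth.Agent.S13075
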