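import Groth.Agent.Lie3Mod51.Core
import Groth.Statements.S13087
-- import your own Groth.Agent.* helpers here

set_option autoImplicit false
universe u
open Lie3Mod

namespace Groth.Agent.Lie3Mod51

open MvPolynomial

lemma isRegular3 {R : Type*} [CommRing R] {a b c : R} (ha : RegMod ⊥ a)
    (hb : RegMod (Ideal.span {a}) b) (hc : RegMod (Ideal.span {a} ⊔ Ideal.span {b}) c)
    (htop : Ideal.span {a, b, c} ≠ ⊤) : RingTheory.Sequence.IsRegular R [a, b, c] := by
  refine ⟨⟨fun i hi => ?_⟩, ?_⟩
  · rw [isSMulRegular_quotient_iff_mem_of_smul_mem]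
    intro x hx
    simp only [smul_eq_mul, Ideal.mul_top, List.length_cons, List.length_nil] at hx hi ⊢
    interval_cases i
    · simpa using ha x (by simpa using hx)
    · simpa using hb x (by simpa using hx)
    · simpa using hc x (by simpa [Ideal.span_insert] using hx)
  · intro h
    apply htop
    simpa [Ideal.span_insert, smul_eq_mul] using h.symm

lemma regMod_of_coord {A : Type*} [CommRing A] {I : Ideal (Lie3Mod.D A)}
    {J : Ideal (MvPolynomial (Fin 9) A)} {a : Lie3Mod.D A} {b : MvPolynomial (Fin 9) A}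
    (hI : I.map (coord A).toRingEquiv.toRingHom = J) (hab : coord A a = b) (h : RegMod J b) :
    RegMod I a := fun x hx => by
  rw [← mem_map_coord, hI] at hx ⊢
  rw [map_mul, hab] at hx
  exact h _ hx

lemma regular_L (A : Type*) [CommRing A] [Nontrivial A] :
    RingTheory.Sequence.IsRegular (Lie3Mod.D A) [Lie3Mod.L1 A, Lie3Mod.L2 A, Lie3Mod.L3 A] := by
  have h1 : coord A (Lie3Mod.L1 A) = X 6 := by simp [coord, Lie3Mod.L1]
  have h2 : coord A (Lie3Mod.L2 A) = X 7 := by simp [coord, Lie3Mod.L2]
  have h3 : coord A (Lie3Mod.L3 A) = X 8 := by simp [coord, Lie3Mod.L3]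
  refine isRegular3 (regMod_of_coord (Ideal.map_bot) h1 ?_)
    (regMod_of_coord ?_ h2 (regMod_X {(6 : Fin 9)} (by decide)))
    (regMod_of_coord ?_ h3 (regMod_X {(6 : Fin 9), 7} (by decide))) ?_
  · exact regMod_bot (X_regular _)
  · simp [Ideal.map_span, h1]
  · simp [Ideal.map_span, Ideal.map_sup, h1, h2, Set.image_insert_eq, Ideal.span_insert]
  · intro h
    have hle : Ideal.span {Lie3Mod.L1 A, Lie3Mod.L2 A, Lie3Mod.L3 A} ≤
        RingHom.ker (eval (0 : Fin 9 → A)) := by
      simp [Ideal.span_le, Set.insert_subset_iff, Lie3Mod.L1, Lie3Mod.L2, Lie3Mod.L3]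
    exact one_ne_zero (α := A) ((map_one (eval (0 : Fin 9 → A))).symm.trans
      (RingHom.mem_ker.1 (hle (h ▸ Submodule.mem_top (x := (1 : Lie3Mod.D A))))))

lemma regular_Q (A : Type*) [CommRing A] [Nontrivial A] :
    RingTheory.Sequence.IsRegular (Lie3Mod.D A) [Lie3Mod.Q1 A, Lie3Mod.Q2 A, Lie3Mod.Q3 A] := by
  refine isRegular3 (regMod_of_coord (Ideal.map_bot) coord_Q1 reg9_q1.neg)
    (regMod_of_coord ?_ coord_Q2 reg9_q2.neg) (regMod_of_coord ?_ coord_Q3 reg9_q3) ?_
  · simp [Ideal.map_span, coord_Q1, Ideal.span_singleton_neg]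
  · simp [Ideal.map_span, Ideal.map_sup, coord_Q1, coord_Q2, Ideal.span_singleton_neg]
  · intro h
    have hle : Ideal.span {Lie3Mod.Q1 A, Lie3Mod.Q2 A, Lie3Mod.Q3 A} ≤
        RingHom.ker (eval (0 : Fin 9 → A)) := by
      simp [Ideal.span_le, Set.insert_subset_iff, Lie3Mod.Q1, Lie3Mod.Q2, Lie3Mod.Q3]
    exact one_ne_zero (α := A) ((map_one (eval (0 : Fin 9 → A))).symm.trans
      (RingHom.mem_ker.1 (hle (h ▸ Submodule.mem_top (x := (1 : Lie3Mod.D A))))))

end Groth.Agent.Lie3Mod51

namespace Groth.Agent.S13087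

/-- Let A be a nontrivial commutative ring and D = A[a,b,c,d,e,f,g,h,i] the polynomial ring in nine
variables. Then the linear forms a − i, b + f, d + h form a regular sequence on D, and so do the
three Jacobi polynomials Q1 = ah + di − fg − bg, Q2 = ie + bd − fh − ae, Q3 = hc + dc − af − bi
(each term is a non-zero-divisor on the quotient of D by the preceding terms, and the quotient by
all three is non-zero). (The published statement is made with a regular base ring in force; the
printed argument does not use that hypothesis, and the statement is given here over every nontrivial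
commutative base ring.) -/
theorem result (A : Type u) [CommRing A] [Nontrivial A] :
    RingTheory.Sequence.IsRegular (Lie3Mod.D A) [Lie3Mod.L1 A, Lie3Mod.L2 A, Lie3Mod.L3 A] ∧
      RingTheory.Sequence.IsRegular (Lie3Mod.D A) [Lie3Mod.Q1 A, Lie3Mod.Q2 A, Lie3Mod.Q3 A] := by
  exact ⟨Lie3Mod51.regular_L A, Lie3Mod51.regular_Q A⟩

end Groth.Agent.S13087
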