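import Groth.Statements.S13096
import Mathlib.RingTheory.FinitePresentation
import Mathlib.RingTheory.FiniteType
import Mathlib.RingTheory.Polynomial.Basic
import Mathlib.RingTheory.Noetherian.Basic
import Mathlib.RingTheory.Adjoin.FG
import Groth.Agent.S6277

set_option autoImplicit false
universe u v
open CAlg

namespace Groth.Agent.S13096

open MvPolynomial in
theorem exists_lift {R : Type u} [CommRing R] (R₀ : Subalgebra ℤ R) {n : ℕ} (p : MvPolynomial (Fin n) R)
    (h : (↑p.coeffs : Set R) ⊆ R₀) : ∃ q : MvPolynomial (Fin n) R₀, map (R₀.val : R₀ →ₐ[ℤ] R).toRingHom q = p :=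
  mem_range_map_iff_coeffs_subset.2 (fun x hx => ⟨⟨x, h hx⟩, rfl⟩)

open MvPolynomial in
set_option maxHeartbeats 1000000 in

/-- Let R be a commutative ring and R' a commutative R-algebra of finite presentation. Then every
surjective R-algebra endomorphism α : R' → R' is bijective (an automorphism). -/
theorem result (R : Type u) [CommRing R]
    (R' : Type v) [CommRing R'] [Algebra R R'] [Algebra.FinitePresentation R R']
    (α : R' →ₐ[R] R') (hα : Function.Surjective α) : Function.Bijective α := by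
  classical
  obtain ⟨n, π, hπ, hker⟩ := ‹Algebra.FinitePresentation R R'›.out
  obtain ⟨g, hg⟩ := hker
  choose a ha using fun i => hπ (α (π (X i)))
  choose b hb using fun i => (hα (π (X i))).imp fun y hy => hy
  choose b' hb' using fun i => hπ (b i)
  refine ⟨(injective_iff_map_eq_zero α).2 fun x hx => ?_, hα⟩
  obtain ⟨c, rfl⟩ := hπ x
  have hcomp : ∀ q, π (aeval a q) = α (π q) := by
    intro q
    rw [← AlgHom.comp_apply, ← AlgHom.comp_apply]
    congr 1
    ext i
    simp [ha]
  have hmem : ∀ q, π q = 0 → q ∈ Submodule.span (MvPolynomial (Fin n) R) (Set.range fun k : (g : Set (MvPolynomial (Fin n) R)) => (k : MvPolynomial (Fin n) R)) := by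
    intro q hq
    rw [Subtype.range_coe]
    have : q ∈ RingHom.ker π.toRingHom := hq
    rw [← hg] at this
    exact this
  choose h₁ hh₁ using fun k : (g : Set (MvPolynomial (Fin n) R)) => (Submodule.mem_span_range_iff_exists_fun _).1
    (hmem (aeval a k.1) (by
      rw [hcomp, show π k.1 = 0 from (hg ▸ Submodule.subset_span k.2 : k.1 ∈ RingHom.ker π.toRingHom), map_zero]))
  choose h₂ hh₂ using fun i => (Submodule.mem_span_range_iff_exists_fun _).1
    (hmem (aeval a (b' i) - X i) (by rw [map_sub, hcomp, hb', hb, sub_self]))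
  obtain ⟨h₃, hh₃⟩ := (Submodule.mem_span_range_iff_exists_fun _).1 (hmem (aeval a c) (by rw [hcomp]; exact hx))
  let T : Finset R := g.biUnion coeffs ∪ Finset.univ.biUnion (fun i => (a i).coeffs ∪ (b' i).coeffs) ∪ c.coeffs ∪
    Finset.univ.biUnion (fun k => Finset.univ.biUnion fun l => (h₁ k l).coeffs) ∪
    Finset.univ.biUnion (fun i => Finset.univ.biUnion fun l => (h₂ i l).coeffs) ∪
    Finset.univ.biUnion (fun l => (h₃ l).coeffs)
  let R₀ : Subalgebra ℤ R := Algebra.adjoin ℤ (T : Set R)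
  haveI : Algebra.FiniteType ℤ R₀ := R₀.fg_iff_finiteType.1 ⟨T, rfl⟩
  haveI : IsNoetherianRing R₀ := Algebra.FiniteType.isNoetherianRing ℤ R₀
  have hsub : (T : Set R) ⊆ R₀ := Algebra.subset_adjoin
  let ι : R₀ →+* R := (R₀.val : R₀ →ₐ[ℤ] R).toRingHom
  let M : MvPolynomial (Fin n) R₀ →+* MvPolynomial (Fin n) R := map ι
  have hM : Function.Injective M := map_injective ι Subtype.val_injective
  have L : ∀ p : MvPolynomial (Fin n) R, (∀ x ∈ p.coeffs, x ∈ T) → ∃ q, M q = p := fun p hp =>
    exists_lift R₀ p fun x hx => hsub (hp x hx)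
  choose a₀ ha₀ using fun i => L (a i) fun x hx =>
    Finset.mem_union_left _ <| Finset.mem_union_left _ <| Finset.mem_union_left _ <| Finset.mem_union_left _ <| Finset.mem_union_right _ <|
      Finset.mem_biUnion.2 ⟨i, Finset.mem_univ _, Finset.mem_union_left _ hx⟩
  choose b₀ hb₀ using fun i => L (b' i) fun x hx =>
    Finset.mem_union_left _ <| Finset.mem_union_left _ <| Finset.mem_union_left _ <| Finset.mem_union_left _ <| Finset.mem_union_right _ <|
      Finset.mem_biUnion.2 ⟨i, Finset.mem_univ _, Finset.mem_union_right _ hx⟩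
  obtain ⟨c₀, hc₀⟩ := L c fun x hx =>
    Finset.mem_union_left _ <| Finset.mem_union_left _ <| Finset.mem_union_left _ <| Finset.mem_union_right _ hx
  choose g₀ hg₀ using fun k : (g : Set (MvPolynomial (Fin n) R)) => L k.1 fun x hx =>
    Finset.mem_union_left _ <| Finset.mem_union_left _ <| Finset.mem_union_left _ <| Finset.mem_union_left _ <| Finset.mem_union_left _ <|
      Finset.mem_biUnion.2 ⟨k.1, k.2, hx⟩
  choose e₁ he₁ using fun k l => L (h₁ k l) fun x hx =>
    Finset.mem_union_left _ <| Finset.mem_union_left _ <| Finset.mem_union_right _ <|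
      Finset.mem_biUnion.2 ⟨k, Finset.mem_univ _, Finset.mem_biUnion.2 ⟨l, Finset.mem_univ _, hx⟩⟩
  choose e₂ he₂ using fun i l => L (h₂ i l) fun x hx =>
    Finset.mem_union_left _ <| Finset.mem_union_right _ <|
      Finset.mem_biUnion.2 ⟨i, Finset.mem_univ _, Finset.mem_biUnion.2 ⟨l, Finset.mem_univ _, hx⟩⟩
  choose e₃ he₃ using fun l => L (h₃ l) fun x hx =>
    Finset.mem_union_right _ <| Finset.mem_biUnion.2 ⟨l, Finset.mem_univ _, hx⟩
  let J : Ideal (MvPolynomial (Fin n) R₀) := Ideal.span (Set.range g₀)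
  have hMa : ∀ q, M (aeval a₀ q) = aeval a (M q) := by
    intro q
    induction q using MvPolynomial.induction_on with
    | C r => rw [aeval_C, algebraMap_eq, map_C, aeval_C, algebraMap_eq]
    | add p q hp hq => simp only [map_add, hp, hq]
    | mul_X p i hp => rw [map_mul, map_mul, map_mul, map_mul, hp, aeval_X, map_X, aeval_X, ha₀]
  have hin : ∀ (q : MvPolynomial (Fin n) R₀) (e : ↥(g : Set (MvPolynomial (Fin n) R)) → MvPolynomial (Fin n) R₀),
      ∑ l, M (e l) • (l : MvPolynomial (Fin n) R) = M q → q ∈ J := by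
    intro q e he
    have : q = ∑ l, e l * g₀ l := hM (by rw [map_sum, ← he]; exact Finset.sum_congr rfl fun l _ => by rw [map_mul, hg₀]; rfl)
    rw [this]
    exact Submodule.sum_mem _ fun l _ => J.mul_mem_left _ (Ideal.subset_span ⟨l, rfl⟩)
  have hstab : J ≤ J.comap (aeval a₀ : MvPolynomial (Fin n) R₀ →ₐ[R₀] _) := by
    rw [Ideal.span_le]
    rintro _ ⟨k, rfl⟩
    exact hin _ (e₁ k) (by simp only [he₁]; rw [hh₁, hMa, hg₀])
  let α₀ : (MvPolynomial (Fin n) R₀ ⧸ J) →+* (MvPolynomial (Fin n) R₀ ⧸ J) :=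
    Ideal.quotientMap J (aeval a₀ : MvPolynomial (Fin n) R₀ →ₐ[R₀] _).toRingHom hstab
  have hX : ∀ i, α₀ (Ideal.Quotient.mk J (b₀ i)) = Ideal.Quotient.mk J (X i) := fun i => by
    rw [show α₀ (Ideal.Quotient.mk J (b₀ i)) = Ideal.Quotient.mk J (aeval a₀ (b₀ i)) from rfl, Ideal.Quotient.eq]
    exact hin _ (e₂ i) (by
      simp only [he₂]
      rw [hh₂, map_sub, map_X]
      exact congrArg (· - X i) (by rw [← hb₀]; exact (hMa _).symm))
  have hsurj : Function.Surjective α₀ := fun z => by
    obtain ⟨q, rfl⟩ := Ideal.Quotient.mk_surjective z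
    induction q using MvPolynomial.induction_on with
    | C r => exact ⟨Ideal.Quotient.mk J (C r), by
        rw [show α₀ (Ideal.Quotient.mk J (C r)) = Ideal.Quotient.mk J (aeval a₀ (C r)) from rfl, aeval_C]; rfl⟩
    | add p q hp hq =>
      obtain ⟨u, hu⟩ := hp; obtain ⟨v, hv⟩ := hq
      exact ⟨u + v, by rw [map_add, hu, hv, map_add]⟩
    | mul_X p i hp =>
      obtain ⟨u, hu⟩ := hp
      exact ⟨u * Ideal.Quotient.mk J (b₀ i), by rw [map_mul, hu, hX, map_mul]⟩
  have hinj := (Groth.Agent.S6277.result (R := MvPolynomial (Fin n) R₀ ⧸ J) α₀ hsurj).1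
  have hcJ : c₀ ∈ J := by
    rw [← Ideal.Quotient.eq_zero_iff_mem]
    refine hinj ?_
    rw [map_zero, show α₀ (Ideal.Quotient.mk J c₀) = Ideal.Quotient.mk J (aeval a₀ c₀) from rfl, Ideal.Quotient.eq_zero_iff_mem]
    exact hin _ e₃ (by simp only [he₃]; rw [hh₃, ← hc₀]; exact (hMa _).symm)
  have hle : J ≤ (RingHom.ker π.toRingHom).comap M := by
    rw [Ideal.span_le]
    rintro _ ⟨k, rfl⟩
    show M (g₀ k) ∈ RingHom.ker π.toRingHom
    rw [hg₀, ← hg]
    exact Submodule.subset_span k.2
  have := hle hcJ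
  rw [Ideal.mem_comap, hc₀] at this
  exact this

end Groth.Agent.S13096
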