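import Groth.Statements.S13097
import Groth.Agent.UH57.Basic
import Groth.Agent.FlatMor66.Thickening
import Mathlib.AlgebraicGeometry.ZariskisMainTheorem
import Groth.Agent.FlatMor68.SchDense

set_option autoImplicit false
universe u
open FlatMor

namespace Groth.Agent.S13097

open CategoryTheory CategoryTheory.Limits AlgebraicGeometry TopologicalSpace Groth.Agent.FlatMor68.SchDense

open CategoryTheory AlgebraicGeometry in
/-- Let f : X → S be a quasi-compact, separated morphism of schemes with a section e : S → X (e followed
by f is the identity of S), and U ⊆ S an open subscheme such that f⁻¹(U) is schematically dense in X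
(for every open V of X, restriction of functions from V to V ∩ f⁻¹(U) is injective) and such that
the restriction f⁻¹(U) → U of f is a homeomorphism of underlying spaces. Then f is universally a
homeomorphism (every base change of f is a homeomorphism), and f is finite as soon as it is locally
of finite type. (The published statement also lists surjectivity of f, which a section forces, and
offers as an alternative to the section the hypothesis that f be flat, still with f⁻¹(U) → U only a
homeomorphism; that flat alternative fails: the spectrum of a separable quadratic field extension
over the spectrum of the ground field, with U the whole base, is flat, surjective, quasi-compact,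
separated and a homeomorphism over U, yet not universally injective. Only the case of a section,
whose published proof is complete, is stated here.) -/
theorem result {X S : Scheme.{u}} (f : X ⟶ S)
    [QuasiCompact f] [IsSeparated f] (U : S.Opens)
    (hdense : CInt.IsSchematicallyDense (f ⁻¹ᵁ U)) (hU : IsHomeomorph (f ∣_ U).base)
    (e : S ⟶ X) (he : e ≫ f = 𝟙 S) :
    FlatMor.IsUnivHomeo f ∧ (LocallyOfFiniteType f → IsFinite f) := by
  have : IsClosedImmersion (e ≫ f) := by rw [he]; infer_instance
  have hec : IsClosedImmersion e := IsClosedImmersion.of_comp e f
  have hfe : ∀ s, f (e s) = s := fun s => by rw [← Scheme.Hom.comp_apply, he]; rfl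
  have hsurj : Surjective e := by
    refine ⟨fun x => ?_⟩
    have hsub : (f ⁻¹ᵁ U : Set X) ⊆ Set.range e := by
      intro y hy
      refine ⟨f y, ?_⟩
      have hy' : e (f y) ∈ f ⁻¹ᵁ U := show f (e (f y)) ∈ U by rw [hfe]; exact hy
      have := hU.injective (a₁ := ⟨e (f y), hy'⟩) (a₂ := ⟨y, hy⟩) (Subtype.ext (by simp [hfe]))
      exact congrArg Subtype.val this
    exact (closure_minimal hsub e.isClosedEmbedding.isClosed_range)
      (by rw [(dense_of_isSchematicallyDense _ hdense).closure_eq]; trivial)
  have : Surjective (e ≫ f) := by rw [he]; infer_instance
  have hfs : Surjective f := Surjective.of_comp e f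
  have : UniversallyClosed f := UniversallyClosed.of_comp_surjective e f
  have : UniversallyInjective (e ≫ f) := by rw [he]; infer_instance
  have : UniversallyInjective f := Groth.Agent.FlatMor66.universallyInjective_of_comp_surjective e f
  refine ⟨(Groth.Agent.UH57.isUnivHomeo_iff' f).2 ⟨inferInstance, inferInstance, hfs⟩, fun h => ?_⟩
  have : IsProper f := {}
  exact IsFinite.of_isProper_of_locallyQuasiFinite f

end Groth.Agent.S13097
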