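import Groth.Statements.S13098
import Mathlib.Tactic.Module
import Mathlib.Tactic.LinearCombination
import Mathlib.LinearAlgebra.LinearIndependent.Basic
import Mathlib.LinearAlgebra.Basis.Basic
import Mathlib.Algebra.BigOperators.Fin
-- import your own Groth.Agent.* helpers here

set_option autoImplicit false
universe u v
open Lie3Mod

namespace Groth.Agent.S13098

/-- Let R be a commutative ring, M an R-module with a basis x = bs 0, y = bs 1, z = bs 2 indexed by Fin
3, and B an R-bilinear alternating map on M (B m m = 0) with B x y = a x + b y + c z, B x z = d x +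
e y + f z and B y z = g x + h y + i z. Then B satisfies the Jacobi identity for all triples if and
only if the three Jacobi polynomials vanish: ah + di − fg − bg = 0, ie + bd − fh − ae = 0 and hc +
dc − af − bi = 0. (This is the statement that Lie brackets on a based free module of rank 3 are the
points of the closed subscheme of affine 9-space defined by these three equations.) -/
theorem result (R : Type u) [CommRing R] (M : Type v) [AddCommGroup M] [Module R M]
    (bs : Module.Basis (Fin 3) R M) (B : M →ₗ[R] M →ₗ[R] M) (halt : ∀ m : M, B m m = 0)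
    (a b c d e f g h i : R)
    (hxy : B (bs 0) (bs 1) = a • bs 0 + b • bs 1 + c • bs 2)
    (hxz : B (bs 0) (bs 2) = d • bs 0 + e • bs 1 + f • bs 2)
    (hyz : B (bs 1) (bs 2) = g • bs 0 + h • bs 1 + i • bs 2) :
    (∀ u v w : M, B u (B v w) + B v (B w u) + B w (B u v) = 0) ↔
      (a * h + d * i - f * g - b * g = 0 ∧ i * e + b * d - f * h - a * e = 0 ∧
        h * c + d * c - a * f - b * i = 0) := by
  have hsk : ∀ u v : M, B u v = -B v u := fun u v => by
    have h := halt (u + v)
    simp only [map_add, LinearMap.add_apply, halt, zero_add, add_zero] at h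
    exact eq_neg_of_add_eq_zero_right h
  have hyx := hsk (bs 1) (bs 0)
  have hzx := hsk (bs 2) (bs 0)
  have hzy := hsk (bs 2) (bs 1)
  rw [hxy] at hyx
  rw [hxz] at hzx
  rw [hyz] at hzy
  have key : B (bs 0) (B (bs 1) (bs 2)) + B (bs 1) (B (bs 2) (bs 0)) + B (bs 2) (B (bs 0) (bs 1)) =
      (a * h + d * i - f * g - b * g) • bs 0 + (i * e + b * d - f * h - a * e) • bs 1 +
        (h * c + d * c - a * f - b * i) • bs 2 := by
    simp only [map_add, map_smul, map_neg, LinearMap.add_apply, LinearMap.smul_apply,
      LinearMap.neg_apply, hxy, hxz, hyz, hzx, hzy, hyx, halt, smul_zero, add_zero, zero_add]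
    module
  constructor
  · intro hJ
    have h0 := hJ (bs 0) (bs 1) (bs 2)
    rw [key] at h0
    have hz := Fintype.linearIndependent_iff.1 bs.linearIndependent
      ![a * h + d * i - f * g - b * g, i * e + b * d - f * h - a * e,
        h * c + d * c - a * f - b * i] (by simpa [Fin.sum_univ_three] using h0)
    exact ⟨hz 0, hz 1, hz 2⟩
  · rintro ⟨q1, q2, q3⟩
    intro u v w
    rw [← bs.sum_repr u, ← bs.sum_repr v, ← bs.sum_repr w]
    simp only [Fin.sum_univ_three, map_add, map_smul, map_neg, LinearMap.add_apply,
      LinearMap.smul_apply, LinearMap.neg_apply, hxy, hxz, hyz, hzx, hzy, hyx, halt, smul_zero,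
      smul_add, smul_neg, add_zero, zero_add, neg_zero]
    match_scalars
    · linear_combination
        (bs.repr u 0 * (bs.repr v 1 * bs.repr w 2 - bs.repr v 2 * bs.repr w 1) -
          bs.repr u 1 * (bs.repr v 0 * bs.repr w 2 - bs.repr v 2 * bs.repr w 0) +
          bs.repr u 2 * (bs.repr v 0 * bs.repr w 1 - bs.repr v 1 * bs.repr w 0)) * q1
    · linear_combination
        (bs.repr u 0 * (bs.repr v 1 * bs.repr w 2 - bs.repr v 2 * bs.repr w 1) -
          bs.repr u 1 * (bs.repr v 0 * bs.repr w 2 - bs.repr v 2 * bs.repr w 0) +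
          bs.repr u 2 * (bs.repr v 0 * bs.repr w 1 - bs.repr v 1 * bs.repr w 0)) * q2
    · linear_combination
        (bs.repr u 0 * (bs.repr v 1 * bs.repr w 2 - bs.repr v 2 * bs.repr w 1) -
          bs.repr u 1 * (bs.repr v 0 * bs.repr w 2 - bs.repr v 2 * bs.repr w 0) +
          bs.repr u 2 * (bs.repr v 0 * bs.repr w 1 - bs.repr v 1 * bs.repr w 0)) * q3

end Groth.Agent.S13098
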