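import Groth.Statements.S13099
import Mathlib


set_option autoImplicit false
universe u
open GrpSch

namespace Groth.Agent.S13099

open MvPolynomial in
lemma coeff_defect {A : Type u} [CommRing A] (q : Polynomial A) (d : Fin 2 →₀ ℕ) (h0 : d 0 ≠ 0) (h1 : d 1 ≠ 0) :
    coeff d (Polynomial.aeval (X 0 + X 1 : MvPolynomial (Fin 2) A) q - Polynomial.aeval (X 0 : MvPolynomial (Fin 2) A) q -
      Polynomial.aeval (X 1 : MvPolynomial (Fin 2) A) q) = q.coeff (d 0 + d 1) * ((d 0 + d 1).choose (d 0) : A) := by
  classical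
  simp only [Polynomial.aeval_eq_sum_range, coeff_sub, coeff_sum, coeff_smul, coeff_add_pow, coeff_X_pow,
    Finset.HasAntidiagonal.mem_antidiagonal]
  have e0 : ∀ (i : Fin 2) (n : ℕ), Finsupp.single i n ≠ d := by
    intro i n h
    subst h
    fin_cases i <;> simp at h0 h1
  simp only [e0, if_false, smul_zero, Finset.sum_const_zero, sub_zero, smul_eq_mul, mul_ite, mul_zero,
    Nat.cast_ite, Nat.cast_zero]
  rw [Finset.sum_ite_eq]
  split_ifs with h
  · rfl
  · rw [Polynomial.coeff_eq_zero_of_natDegree_lt, zero_mul]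
    simpa [Finset.mem_range, Nat.lt_succ_iff] using h

lemma choose_ppow {p : ℕ} [Fact p.Prime] (v m : ℕ) : ((p ^ v * m).choose (p ^ v) : ZMod p) = m := by
  rw [← Polynomial.coeff_X_add_one_pow, pow_mul, add_pow_char_pow, one_pow,
    show ((Polynomial.X : Polynomial (ZMod p)) ^ p ^ v + 1) ^ m =
      Polynomial.expand (ZMod p) (p ^ v) ((Polynomial.X + 1) ^ m) by simp]
  have := Polynomial.coeff_expand_mul (pow_pos (Nat.Prime.pos (p := p) Fact.out) v)
    ((Polynomial.X + 1) ^ m : Polynomial (ZMod p)) 1
  rw [one_mul] at this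
  rw [this, Polynomial.coeff_X_add_one_pow, Nat.choose_one_right]


open Polynomial in
/-- Let p be a prime and A a commutative ring of characteristic p, and consider the infinitesimal group
scheme Spec A[X]/(X^{p²}) with the additive group law. In coordinates: (1) a polynomial q ∈ A[X] of
degree less than p² satisfies q(Y + Z) − q(Y) − q(Z) ∈ (Y^{p²}, Z^{p²}) in A[Y, Z] (that is, X ↦ q
respects the comultiplication) if and only if q = a₁ X + a_p X^p for some a₁, a_p ∈ A; (2) an
A-algebra endomorphism of A[X]/(X^{p²}) that sends the class of X to the class of a₁ X + a_p X^p is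
bijective if and only if a₁ is a unit of A. (The printed statement is that the automorphism group
scheme of this group scheme is the semidirect product of the additive group by the multiplicative
group, v acting on u by v^{p−1}u; this row records the two computations it consists of, in
coordinates.) -/
theorem result (p : ℕ) [Fact p.Prime] (A : Type u) [CommRing A] [CharP A p] :
    (∀ q : A[X], q.natDegree < p ^ 2 →
      (Polynomial.aeval (MvPolynomial.X 0 + MvPolynomial.X 1 : MvPolynomial (Fin 2) A) q -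
            Polynomial.aeval (MvPolynomial.X 0 : MvPolynomial (Fin 2) A) q -
            Polynomial.aeval (MvPolynomial.X 1 : MvPolynomial (Fin 2) A) q ∈
          Ideal.span ({MvPolynomial.X 0 ^ p ^ 2, MvPolynomial.X 1 ^ p ^ 2} : Set (MvPolynomial (Fin 2) A)) ↔
        ∃ a₁ ap : A, q = Polynomial.C a₁ * X + Polynomial.C ap * X ^ p)) ∧
    (∀ (a₁ ap : A) (φ : (A[X] ⧸ Ideal.span ({X ^ p ^ 2} : Set A[X])) →ₐ[A] (A[X] ⧸ Ideal.span ({X ^ p ^ 2} : Set A[X]))),
      φ (Ideal.Quotient.mk (Ideal.span ({X ^ p ^ 2} : Set A[X])) X) =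
          Ideal.Quotient.mk (Ideal.span ({X ^ p ^ 2} : Set A[X])) (Polynomial.C a₁ * X + Polynomial.C ap * X ^ p) →
        (Function.Bijective φ ↔ IsUnit a₁)) := by
  classical
  have hp : p.Prime := Fact.out
  have h2 : 2 ≤ p ^ 2 := le_trans hp.two_le (Nat.le_self_pow two_ne_zero p)
  let I : Ideal (MvPolynomial (Fin 2) A) :=
    Ideal.span ({MvPolynomial.X 0 ^ p ^ 2, MvPolynomial.X 1 ^ p ^ 2} : Set (MvPolynomial (Fin 2) A))
  have hI : ∀ x, x ∈ I ↔ ∀ d, d 0 < p ^ 2 → d 1 < p ^ 2 → MvPolynomial.coeff d x = 0 := by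
    intro x
    have hs : ({MvPolynomial.X 0 ^ p ^ 2, MvPolynomial.X 1 ^ p ^ 2} : Set (MvPolynomial (Fin 2) A)) =
        (fun s => MvPolynomial.monomial s (1 : A)) '' {Finsupp.single 0 (p ^ 2), Finsupp.single 1 (p ^ 2)} := by
      simp [Set.image_pair, MvPolynomial.X_pow_eq_monomial]
    simp only [I, hs, MvPolynomial.mem_ideal_span_monomial_image, MvPolynomial.mem_support_iff,
      Set.mem_insert_iff, Set.mem_singleton_iff, exists_eq_or_imp, exists_eq_left, Finsupp.single_le_iff]
    exact ⟨fun h d h0 h1 => by_contra fun hne => (h d hne).elim (not_le.2 h0) (not_le.2 h1),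
      fun h d hne => by_contra fun hc => hne (h d (not_le.1 fun hh => hc (Or.inl hh)) (not_le.1 fun hh => hc (Or.inr hh)))⟩
  refine ⟨fun q hq => ⟨fun h => ?_, ?_⟩, fun a₁ ap φ hφ => ?_⟩
  · have h' := (hI _).1 h
    refine ⟨q.coeff 1, q.coeff p, Polynomial.ext fun n => ?_⟩
    simp only [Polynomial.coeff_add, Polynomial.coeff_C_mul, Polynomial.coeff_X, Polynomial.coeff_X_pow]
    rcases eq_or_ne n 1 with rfl | hn1
    · simp [hp.one_lt.ne]
    rcases eq_or_ne n p with rfl | hnp
    · simp [hp.one_lt.ne]
    simp only [Ne.symm hn1, hnp, if_false, mul_zero, add_zero]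
    rcases le_or_gt (p ^ 2) n with hn | hn
    · exact Polynomial.coeff_eq_zero_of_natDegree_lt (hq.trans_le hn)
    rcases Nat.eq_zero_or_pos n with rfl | hn0
    · have := h' 0 (by simp [hp.pos]) (by simp [hp.pos])
      rw [← MvPolynomial.constantCoeff_eq] at this
      simpa [← Polynomial.aeval_algHom_apply, Polynomial.coeff_zero_eq_eval_zero, Polynomial.aeval_def,
        Polynomial.hom_eval₂] using this
    obtain ⟨v, m, hm, rfl⟩ := Nat.exists_eq_pow_mul_and_not_dvd hn0.ne' p hp.ne_one
    have hm1 : m ≠ 1 := by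
      rintro rfl
      rw [mul_one] at hn1 hnp hn
      rcases v with _ | _ | v
      · simp at hn1
      · simp at hnp
      · exact absurd hn (not_lt.2 (Nat.pow_le_pow_right hp.pos (by omega)))
    have hm0 : 2 ≤ m := by
      rcases m with _ | _ | m
      · simp at hm
      · exact absurd rfl hm1
      · omega
    have hlt : p ^ v < p ^ v * m := lt_mul_of_one_lt_right (pow_pos hp.pos v) (by omega)
    let d : Fin 2 →₀ ℕ := Finsupp.single 0 (p ^ v) + Finsupp.single 1 (p ^ v * m - p ^ v)
    have hd0 : d 0 = p ^ v := by simp [d]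
    have hd1 : d 1 = p ^ v * m - p ^ v := by simp [d]
    have h3 := h' d (by rw [hd0]; omega) (by rw [hd1]; omega)
    rw [coeff_defect q d (by rw [hd0]; exact (pow_pos hp.pos v).ne') (by rw [hd1]; omega), hd0, hd1,
      Nat.add_sub_cancel' hlt.le] at h3
    have hu : IsUnit ((p ^ v * m).choose (p ^ v) : A) := by
      have : IsUnit ((p ^ v * m).choose (p ^ v) : ZMod p) := by
        rw [choose_ppow, isUnit_iff_ne_zero, Ne, CharP.cast_eq_zero_iff (ZMod p) p]
        exact hm
      simpa using this.map (ZMod.castHom dvd_rfl A)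
    exact hu.mul_left_eq_zero.1 h3
  · rintro ⟨a₁, ap, rfl⟩
    convert I.zero_mem
    haveI : CharP (MvPolynomial (Fin 2) A) p := inferInstance
    simp only [map_add, map_mul, map_pow, Polynomial.aeval_C, Polynomial.aeval_X, add_pow_char]
    ring
  · constructor
    · intro hb
      obtain ⟨r, hr⟩ := hb.2 (Ideal.Quotient.mk _ X)
      obtain ⟨s, rfl⟩ := Ideal.Quotient.mk_surjective r
      have e : φ (Ideal.Quotient.mk _ s) = Ideal.Quotient.mk _ (s.comp (Polynomial.C a₁ * X + Polynomial.C ap * X ^ p)) := by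
        have : φ.comp (Ideal.Quotient.mkₐ A _) =
            (Ideal.Quotient.mkₐ A _).comp (Polynomial.aeval (Polynomial.C a₁ * X + Polynomial.C ap * X ^ p)) :=
          Polynomial.algHom_ext (by simpa using hφ)
        exact AlgHom.congr_fun this s
      rw [e, Ideal.Quotient.eq, Ideal.mem_span_singleton, Polynomial.X_pow_dvd_iff] at hr
      have h1 := hr 1 h2
      rw [Polynomial.coeff_sub, Polynomial.coeff_X_one, sub_eq_zero] at h1
      have hD : ∀ f : A[X], f.coeff 1 = f.derivative.eval 0 := fun f => by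
        rw [← Polynomial.coeff_zero_eq_eval_zero, Polynomial.coeff_derivative]; simp
      rw [hD, Polynomial.derivative_comp, Polynomial.eval_mul] at h1
      refine IsUnit.of_mul_eq_one (a := a₁) (eval 0 ((derivative s).comp (Polynomial.C a₁ * X + Polynomial.C ap * X ^ p))) (Eq.trans ?_ h1)
      simp [zero_pow hp.ne_zero, Polynomial.derivative_X_pow, CharP.cast_eq_zero]
      first | rfl | skip
    · intro hu
      haveI : Module.Finite A (A[X] ⧸ Ideal.span ({X ^ p ^ 2} : Set A[X])) :=
        Polynomial.Monic.finite_adjoinRoot (Polynomial.monic_X_pow (R := A) (p ^ 2))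
      obtain ⟨b, hb⟩ := hu.exists_left_inv
      have hs : Function.Surjective φ := by
        rw [← AlgHom.range_eq_top, eq_top_iff]
        let x : A[X] ⧸ Ideal.span ({X ^ p ^ 2} : Set A[X]) := Ideal.Quotient.mk _ X
        have hy : φ x = algebraMap A _ a₁ * x + algebraMap A _ ap * x ^ p := by
          simp only [x, hφ, map_add, map_mul, map_pow]; rfl
        have hx0 : x ^ (p * p) = 0 := by
          simp only [x, ← pow_two, ← map_pow, Ideal.Quotient.eq_zero_iff_mem, Ideal.mem_span_singleton, dvd_refl]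
        have hyp : φ x ^ p = algebraMap A _ (a₁ ^ p) * x ^ p := by
          rw [hy]
          obtain ⟨k, hk⟩ := exists_add_pow_prime_eq hp (algebraMap A _ a₁ * x) (algebraMap A _ ap * x ^ p)
          rw [hk, mul_pow, mul_pow, ← pow_mul, hx0, ← map_pow]
          simp [← map_natCast (algebraMap A (A[X] ⧸ Ideal.span ({X ^ p ^ 2} : Set A[X]))), CharP.cast_eq_zero]
        have hx : x ∈ φ.range := by
          have h1 : algebraMap A _ b * (φ x - algebraMap A _ (ap * b ^ p) * φ x ^ p) = x := by
            have e1 : algebraMap A (A[X] ⧸ Ideal.span ({X ^ p ^ 2} : Set A[X])) (b * a₁) = 1 := by rw [hb, map_one]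
            have e2 : algebraMap A (A[X] ⧸ Ideal.span ({X ^ p ^ 2} : Set A[X])) (b ^ p * a₁ ^ p) = 1 := by
              rw [← mul_pow, hb, one_pow, map_one]
            rw [hyp, hy]
            simp only [map_mul] at e1 e2 ⊢
            linear_combination x * e1 - algebraMap A (A[X] ⧸ Ideal.span ({X ^ p ^ 2} : Set A[X])) b *
              algebraMap A (A[X] ⧸ Ideal.span ({X ^ p ^ 2} : Set A[X])) ap * x ^ p * e2
          rw [← h1]
          exact mul_mem (Subalgebra.algebraMap_mem _ _) (sub_mem ⟨x, rfl⟩
            (mul_mem (Subalgebra.algebraMap_mem _ _) (pow_mem (show φ x ∈ φ.range from ⟨x, rfl⟩) p)))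
        intro r _
        obtain ⟨s, rfl⟩ := Ideal.Quotient.mk_surjective r
        have : Ideal.Quotient.mk (Ideal.span ({X ^ p ^ 2} : Set A[X])) s = Polynomial.aeval x s := by
          rw [show x = Ideal.Quotient.mkₐ A _ X from rfl, Polynomial.aeval_algHom_apply, Polynomial.aeval_X_left_apply]
          rfl
        rw [this]
        exact Polynomial.aeval_mem_adjoin_singleton A x |> (Algebra.adjoin_le (Set.singleton_subset_iff.2 hx) ·)
      exact ⟨OrzechProperty.injective_of_surjective_endomorphism φ.toLinearMap hs, hs⟩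

end Groth.Agent.S13099
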