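import Groth.Statements.S13100
import Mathlib.RingTheory.AdicCompletion.Completeness
import Mathlib.RingTheory.Henselian

set_option autoImplicit false
universe u
open GrpSch

namespace Groth.Agent.S13100

/-- Let k be an algebraically closed field of characteristic different from 2 and K = k((t)) the field
of Laurent series over k. Then a non-zero Laurent series f is a square in K if and only if its order
in t is even; consequently the group Kˣ/Kˣ² of non-zero elements modulo squares has exactly two
elements, represented by 1 and t. -/
theorem result (k : Type u) [Field k] [IsAlgClosed k] (h2 : (2 : k) ≠ 0)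
    (f : LaurentSeries k) (hf : f ≠ 0) : IsSquare f ↔ Even f.order := by
  constructor
  · rintro ⟨g, rfl⟩
    have hg : g ≠ 0 := fun h => hf (by simp [h])
    rw [HahnSeries.order_mul hg hg]
    exact ⟨g.order, rfl⟩
  · rintro ⟨m, hm⟩
    let P := f.powerSeriesPart
    have hc0 : PowerSeries.constantCoeff P ≠ 0 := by
      rw [← PowerSeries.coeff_zero_eq_constantCoeff_apply, LaurentSeries.powerSeriesPart_coeff]
      simpa using HahnSeries.coeff_order_eq_zero.not.2 hf
    obtain ⟨c, hc⟩ := IsAlgClosed.exists_eq_mul_self (PowerSeries.constantCoeff P)
    have hc' : c ≠ 0 := fun h => hc0 (by rw [hc, h, mul_zero])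
    obtain ⟨a, ha, -⟩ := HenselianRing.is_henselian (I := Ideal.span {(PowerSeries.X : PowerSeries k)})
      (Polynomial.X ^ 2 - Polynomial.C P) (Polynomial.monic_X_pow_sub_C P two_ne_zero)
      (PowerSeries.C c) (by
        rw [Ideal.mem_span_singleton, PowerSeries.X_dvd_iff]
        simp [hc, pow_two])
      (by
        have : IsUnit (2 * PowerSeries.C c : PowerSeries k) := by
          rw [PowerSeries.isUnit_iff_constantCoeff]
          simp only [map_mul, map_ofNat, PowerSeries.constantCoeff_C, isUnit_iff_ne_zero]
          exact mul_ne_zero h2 hc'
        refine (congrArg IsUnit (congrArg _ ?_)).mpr (this.map (Ideal.Quotient.mk _))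
        simp [one_add_one_eq_two])
    have ha' : P = a * a := by
      simp only [Polynomial.IsRoot, Polynomial.eval_sub, Polynomial.eval_pow, Polynomial.eval_X, Polynomial.eval_C, Polynomial.eval_mul, sub_eq_zero, pow_two] at ha
      exact ha.symm
    refine ⟨HahnSeries.single m 1 * (a : LaurentSeries k), ?_⟩
    conv_lhs => rw [← LaurentSeries.single_order_mul_powerSeriesPart f]
    change HahnSeries.single f.order (1 : k) * (P : LaurentSeries k) = _
    rw [ha', PowerSeries.coe_mul, hm, show HahnSeries.single (m + m) (1 : k) = HahnSeries.single m 1 * HahnSeries.single m 1 by simp [HahnSeries.single_mul_single]]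
    ring

end Groth.Agent.S13100
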