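import Groth.Statements.S13101
import Groth.Agent.MorE57.Lie3

set_option autoImplicit false
universe u v
open GrpSch

namespace Groth.Agent.S13101

/-- Let A be a commutative ring in which 2 is a unit, and L a Lie algebra over A, free as a module with
basis x = bs 0, y = bs 1, z = bs 2 and brackets [x,y] = y, [x,z] = y + z, [y,z] = 0. Then for every
Lie algebra automorphism φ of L over A there are b, c, h ∈ A and a unit i of A with φ(x) = x + b y +
c z, φ(y) = i y and φ(z) = h y + i z. Only the form of an automorphism is stated, not that every map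
of this form is one. (The published statement identifies the automorphism group scheme with a
semidirect product of two additive groups by the product of the multiplicative and additive group,
for algebras over a field of Laurent series of characteristic not 2, and deduces the vanishing of
its first cohomology; this row records the determination of the automorphisms, over any base ring
with 2 invertible; the cohomological consequence is not restated.) -/
theorem result (A : Type u) [CommRing A] (h2 : IsUnit (2 : A))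
    (L : Type v) [LieRing L] [LieAlgebra A L] (bs : Module.Basis (Fin 3) A L)
    (hxy : ⁅bs 0, bs 1⁆ = bs 1) (hxz : ⁅bs 0, bs 2⁆ = bs 1 + bs 2) (hyz : ⁅bs 1, bs 2⁆ = 0)
    (φ : L ≃ₗ⁅A⁆ L) :
    ∃ b c h i : A, IsUnit i ∧ φ (bs 0) = bs 0 + b • bs 1 + c • bs 2 ∧ φ (bs 1) = i • bs 1 ∧
      φ (bs 2) = h • bs 1 + i • bs 2 := by
  have hq : bs 1 = (1 : A) • bs 1 + (0 : A) • bs 2 := by module
  have hr : bs 1 + bs 2 = (1 : A) • bs 1 + (1 : A) • bs 2 := by module
  have sp := Groth.Agent.MorE57.span_of_lie bs hxy hxz hyz 1 0 1 1 hq hr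
  have hy : ∀ ψ : L ≃ₗ⁅A⁆ L, ∃ e f : A, ψ (bs 1) = e • bs 1 + f • bs 2 := fun ψ => by
    have h := ψ.toLieHom.map_lie (bs 0) (bs 1)
    simp only [LieEquiv.coe_coe, hxy] at h
    rw [h]; exact sp _ _
  have hz : ∀ ψ : L ≃ₗ⁅A⁆ L, ∃ g i : A, ψ (bs 2) = g • bs 1 + i • bs 2 := fun ψ => by
    have h1 := ψ.toLieHom.map_lie (bs 0) (bs 1)
    have h2 := ψ.toLieHom.map_lie (bs 0) (bs 2)
    simp only [LieEquiv.coe_coe, hxy] at h1
    rw [hxz, map_add] at h2
    simp only [LieEquiv.coe_coe] at h2
    obtain ⟨s, t, hst⟩ := sp (ψ (bs 0)) (ψ (bs 1))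
    obtain ⟨s', t', hst'⟩ := sp (ψ (bs 0)) (ψ (bs 2))
    exact ⟨s' - s, t' - t, by linear_combination (norm := module) h2 + hst' - h1 - hst⟩
  obtain ⟨a, b, c, e, f, g, i, hx, hey, hgz, hdet, p1, p2, p3, p4⟩ :=
    Groth.Agent.MorE57.lie_aut_coord bs hxy hxz hyz 1 0 1 1 hq hr hy hz φ
  have k1 : (a - 1) * f = 0 := by linear_combination p2
  have k2 : f = (1 - a) * e := by linear_combination p1 - k1
  have k3 : f = (a - 1) * i := by linear_combination -p4
  have k4 : (a - 1) * e * (a - 1) = 0 := by linear_combination -k1 + (a - 1) * k2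
  have k5 : (a - 1) * i * (a - 1) = 0 := by linear_combination k1 - (a - 1) * k3
  have n2 : (a - 1) * (a - 1) = 0 := hdet.mul_left_eq_zero.mp
    (by linear_combination i * k4 - (a - 1) * g * k1)
  have n1 : (a - 1) * i = 0 := h2.mul_left_eq_zero.mp
    (by linear_combination -k3 + k2 + (a - 1) * p3 - g * n2 - i * n2)
  have hf : f = 0 := k3.trans n1
  have ha : a - 1 = 0 := hdet.mul_left_eq_zero.mp
    (by linear_combination -i * (k2.symm.trans hf) - g * k1)
  have ha1 : a = 1 := sub_eq_zero.1 ha
  subst hf
  have hei : e = i := by linear_combination (g + i) * ha - p3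
  subst hei ha1
  refine ⟨b, c, g, e, ?_, ?_, ?_, hgz⟩
  · simp only [mul_zero, zero_mul, sub_zero, isUnit_mul_self_iff] at hdet; exact hdet
  · rw [hx, one_smul]
  · rw [hey, zero_smul, add_zero]

end Groth.Agent.S13101
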