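import Groth.Statements.S13102
import Groth.Agent.MorE57.Lie3

set_option autoImplicit false
universe u v w
open GrpSch

namespace Groth.Agent.S13102

/-- Let K be a field, α ∈ K, A a commutative K-algebra and L a Lie algebra over A which is free as an
A-module with basis x = bs 0, y = bs 1, z = bs 2 and brackets [x,y] = y, [x,z] = α z, [y,z] = 0. If
α² ≠ 1 then every Lie algebra automorphism φ of L over A satisfies φ(x) = x + b y + c z, φ(y) = e y,
φ(z) = i z for some b, c ∈ A and units e, i of A. If α = 1 then every such φ satisfies φ(x) = x + b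
y + c z, φ(y) = e y + f z, φ(z) = h y + i z with e i − f h a unit of A. (The printed statement
identifies the automorphism group schemes with the corresponding semidirect products, treats also α
= −1 in characteristic not 2, and computes first cohomology over a field of Laurent series; those
clauses are not restated here.) -/
theorem result (K : Type u) [Field K] (α : K) (A : Type v) [CommRing A] [Algebra K A]
    (L : Type w) [LieRing L] [LieAlgebra A L] (bs : Module.Basis (Fin 3) A L)
    (hxy : ⁅bs 0, bs 1⁆ = bs 1) (hxz : ⁅bs 0, bs 2⁆ = algebraMap K A α • bs 2) (hyz : ⁅bs 1, bs 2⁆ = 0)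
    (φ : L ≃ₗ⁅A⁆ L) :
    (α ^ 2 ≠ 1 → ∃ b c e i : A, IsUnit e ∧ IsUnit i ∧ φ (bs 0) = bs 0 + b • bs 1 + c • bs 2 ∧
        φ (bs 1) = e • bs 1 ∧ φ (bs 2) = i • bs 2) ∧
    (α = 1 → ∃ b c e f h i : A, IsUnit (e * i - f * h) ∧ φ (bs 0) = bs 0 + b • bs 1 + c • bs 2 ∧
        φ (bs 1) = e • bs 1 + f • bs 2 ∧ φ (bs 2) = h • bs 1 + i • bs 2) := by
  have hq : bs 1 = (1 : A) • bs 1 + (0 : A) • bs 2 := by module
  have hr : algebraMap K A α • bs 2 = (0 : A) • bs 1 + algebraMap K A α • bs 2 := by module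
  have sp := Groth.Agent.MorE57.span_of_lie bs hxy hxz hyz 1 0 0 _ hq hr
  have hy : ∀ ψ : L ≃ₗ⁅A⁆ L, ∃ e f : A, ψ (bs 1) = e • bs 1 + f • bs 2 := fun ψ => by
    have h := ψ.toLieHom.map_lie (bs 0) (bs 1)
    simp only [LieEquiv.coe_coe, hxy] at h
    rw [h]; exact sp _ _
  refine ⟨fun hα => ?_, fun hα => ?_⟩
  all_goals
    have hα0 : α ≠ 0 → ∀ ψ : L ≃ₗ⁅A⁆ L, ∃ g i : A, ψ (bs 2) = g • bs 1 + i • bs 2 := fun h ψ => by
      have h2 := ψ.toLieHom.map_lie (bs 0) (bs 2)
      rw [hxz, map_smul] at h2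
      simp only [LieEquiv.coe_coe] at h2
      obtain ⟨s, t, hst⟩ := sp (ψ (bs 0)) (ψ (bs 2))
      obtain ⟨w, hw⟩ := ((algebraMap K A).isUnit_map (Ne.isUnit h)).exists_left_inv
      refine ⟨w * s, w * t, ?_⟩
      have h3 := congrArg (fun v => w • v) (h2.trans hst)
      simp only [smul_smul, hw, one_smul, smul_add] at h3
      exact h3
  · have hz : ∀ ψ : L ≃ₗ⁅A⁆ L, ∃ g i : A, ψ (bs 2) = g • bs 1 + i • bs 2 := by
      by_cases h0 : α = 0
      · subst h0
        simp only [map_zero, zero_smul] at hxz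
        intro ψ
        refine ⟨0, bs.repr (ψ (bs 2)) 2, ?_⟩
        have hc : ∀ v : L, ⁅bs 2, v⁆ = 0 := fun v => by
          rw [Groth.Agent.MorE57.coord3 bs v]
          simp only [lie_add, lie_smul, lie_self, ← lie_skew (bs 2) (bs 0), ← lie_skew (bs 2) (bs 1),
            hxz, hyz, neg_zero, smul_zero, add_zero]
        have hc' : ∀ v : L, ⁅ψ (bs 2), v⁆ = 0 := fun v => by
          have h := ψ.toLieHom.map_lie (bs 2) (ψ.symm v)
          simp only [LieEquiv.coe_coe, LieEquiv.apply_symm_apply, hc] at h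
          exact h.symm.trans (map_zero ψ.toLieHom)
        have e1 := hc' (bs 0)
        have e2 := hc' (bs 1)
        rw [Groth.Agent.MorE57.coord3 bs (ψ (bs 2))] at e1 e2
        simp only [add_lie, smul_lie, lie_self, ← lie_skew (bs 1) (bs 0), ← lie_skew (bs 2) (bs 0),
          ← lie_skew (bs 2) (bs 1), hxy, hxz, hyz, neg_zero, smul_zero, add_zero, zero_add] at e1 e2
        have c1 := Groth.Agent.MorE57.coord_eq bs (a := 0) (b := -bs.repr (ψ (bs 2)) 1) (c := 0)
          (a' := 0) (b' := 0) (c' := 0) (by linear_combination (norm := module) e1)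
        have c2 := Groth.Agent.MorE57.coord_eq bs (a := 0) (b := bs.repr (ψ (bs 2)) 0) (c := 0)
          (a' := 0) (b' := 0) (c' := 0) (by linear_combination (norm := module) e2)
        conv_lhs => rw [Groth.Agent.MorE57.coord3 bs (ψ (bs 2))]
        rw [c2.2.1, neg_eq_zero.1 c1.2.1]
        module
      · exact hα0 h0
    obtain ⟨a, b, c, e, f, g, i, hx, hey, hgz, hdet, p1, p2, p3, p4⟩ :=
      Groth.Agent.MorE57.lie_aut_coord bs hxy hxz hyz 1 0 0 _ hq hr hy hz φ
    have x1 : (a - 1) * (a - algebraMap K A α) = 0 := hdet.mul_left_eq_zero.mp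
      (by linear_combination i * (a - algebraMap K A α) * p1 - f * (a - 1) * p3)
    have x2 : (a - 1) * (a * algebraMap K A α - 1) = 0 := hdet.mul_left_eq_zero.mp
      (by linear_combination i * (a * algebraMap K A α - 1) * p1 - g * (a - 1) * p2)
    have hu : IsUnit (algebraMap K A (1 - α ^ 2)) :=
      (algebraMap K A).isUnit_map (Ne.isUnit fun h => hα (sub_eq_zero.1 h).symm)
    have ha : a - 1 = 0 := hu.mul_left_eq_zero.mp (by
      rw [map_sub, map_one, map_pow]; linear_combination algebraMap K A α * x1 - x2)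
    have hu2 : IsUnit (algebraMap K A (1 - α)) :=
      (algebraMap K A).isUnit_map (Ne.isUnit fun h => hα (by rw [← sub_eq_zero.1 h, one_pow]))
    have hf : f = 0 := hu2.mul_left_eq_zero.mp (by
      rw [map_sub, map_one]; linear_combination -p2 + algebraMap K A α * f * ha)
    have hg : g = 0 := hu2.mul_left_eq_zero.mp (by
      rw [map_sub, map_one]; linear_combination p3 - g * ha)
    have ha1 : a = 1 := sub_eq_zero.1 ha
    subst ha1 hf hg
    rw [mul_zero, sub_zero, IsUnit.mul_iff] at hdet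
    exact ⟨b, c, e, i, hdet.1, hdet.2, by rw [hx, one_smul], by rw [hey, zero_smul, add_zero],
      by rw [hgz, zero_smul, zero_add]⟩
  · subst hα
    obtain ⟨a, b, c, e, f, g, i, hx, hey, hgz, hdet, p1, p2, p3, p4⟩ :=
      Groth.Agent.MorE57.lie_aut_coord bs hxy hxz hyz 1 0 0 _ hq hr hy (hα0 one_ne_zero) φ
    simp only [map_one] at p1 p2 p3 p4
    have ha : a - 1 = 0 := hdet.mul_left_eq_zero.mp
      (by linear_combination i * p1 - g * p2)
    exact ⟨b, c, e, f, g, i, hdet, by rw [hx, sub_eq_zero.1 ha, one_smul], hey, hgz⟩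

end Groth.Agent.S13102
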