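import Groth.Agent.Lie3Mod51.Chart
import Groth.Statements.S13105
-- import your own Groth.Agent.* helpers here

set_option autoImplicit false
universe u
open Lie3Mod

namespace Groth.Agent.Lie3Mod51

open MvPolynomial

variable {k : Type u} [Field k]

lemma mem_idJ_of_eq {z : Lie3Mod.D k} (a b c d : Lie3Mod.D k)
    (h : z = a * Lie3Mod.Q1 k + b * Lie3Mod.Q2 k + c * Lie3Mod.Q3 k + d * Lie3Mod.detM k) :
    z ∈ Lie3Mod.idJ k := by
  rw [h]
  exact add_mem (add_mem (add_mem (Ideal.mul_mem_left _ _ (Ideal.subset_span (by simp)))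
    (Ideal.mul_mem_left _ _ (Ideal.subset_span (by simp))))
    (Ideal.mul_mem_left _ _ (Ideal.subset_span (by simp))))
    (Ideal.mul_mem_left _ _ (Ideal.subset_span (by simp)))

/-- Chart where `L₂` is invertible. -/
theorem chart_L2 (t : k) (ht : 1 + t ≠ 0) (P : Ideal (Lie3Mod.D k ⧸ Lie3Mod.idJ k)) [P.IsPrime]
    (hP : P = Ideal.map (Ideal.Quotient.mk (Lie3Mod.idJ k))
      (RingHom.ker (eval ![0, 1, 0, 0, 0, t, 0, 0, 0]))) :
    IsRegularLocalRing (Localization.AtPrime P) ∧ ringKrullDim (Localization.AtPrime P) = 6 := by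
  let Hn : MvPolynomial (Fin 6) k := X 4 * X 5 - X 2 * X 5 - X 3 * X 0
  let In : MvPolynomial (Fin 6) k := X 5 * X 1 - X 2 * X 3
  let U : MvPolynomial (Fin 6) k := X 4 * X 4
  refine regular_of_chart ![0, 1, 0, 0, 0, t, 0, 0, 0] ![0, 0, t, 0, 1 + t, 0] U
    ![X 4 * In + U * X 3, U * (X 4 - X 2), U * X 1, U * X 5 - X 4 * Hn, U * X 0, U * X 2,
      Hn * X 3 + In * X 5, X 4 * Hn, X 4 * In]
    ![Lie3Mod.ve, Lie3Mod.vc, Lie3Mod.vf, Lie3Mod.L1 k, Lie3Mod.L2 k, Lie3Mod.L3 k]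
    ?_ ?_ ?_ ?_ ?_ ?_ ?_ P hP
  · simp [U, ht]
  · refine ⟨?_, ?_, ?_, ?_⟩ <;>
      simp [Lie3Mod.Q1, Lie3Mod.Q2, Lie3Mod.Q3, Lie3Mod.detM, U, Hn, In] <;> ring
  · intro i T _ _ a w
    fin_cases i <;> simp [Lie3Mod.L1, Lie3Mod.L2, Lie3Mod.L3] <;> ring
  · intro i
    fin_cases i <;> simp [Lie3Mod.L1, Lie3Mod.L2, Lie3Mod.L3, U] <;> ring
  · intro j
    fin_cases j
    · refine mem_idJ_of_eq 0 0 (-Lie3Mod.L2 k) 0 ?_
      simp [U, In, Lie3Mod.L1, Lie3Mod.L2, Lie3Mod.L3, Lie3Mod.Q3]; ring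
    · refine mem_idJ_of_eq 0 0 0 0 ?_
      simp [U, Lie3Mod.L2]
    · refine mem_idJ_of_eq 0 0 0 0 ?_
      simp [U]
    · refine mem_idJ_of_eq 0 (Lie3Mod.L2 k) 0 0 ?_
      simp [U, Hn, Lie3Mod.L1, Lie3Mod.L2, Lie3Mod.L3, Lie3Mod.Q2]; ring
    · refine mem_idJ_of_eq 0 0 0 0 ?_
      simp [U]
    · refine mem_idJ_of_eq 0 0 0 0 ?_
      simp [U]
    · refine mem_idJ_of_eq (-Lie3Mod.L2 k) (-Lie3Mod.L1 k) (-Lie3Mod.L3 k) 0 ?_
      simp [U, Hn, In, Lie3Mod.L1, Lie3Mod.L2, Lie3Mod.L3, Lie3Mod.Q1, Lie3Mod.Q2, Lie3Mod.Q3]; ring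
    · refine mem_idJ_of_eq 0 (-Lie3Mod.L2 k) 0 0 ?_
      simp [U, Hn, Lie3Mod.L1, Lie3Mod.L2, Lie3Mod.L3, Lie3Mod.Q2]; ring
    · refine mem_idJ_of_eq 0 0 (-Lie3Mod.L2 k) 0 ?_
      simp [U, In, Lie3Mod.L1, Lie3Mod.L2, Lie3Mod.L3, Lie3Mod.Q3]; ring
  · intro i
    fin_cases i <;> simp [Lie3Mod.L1, Lie3Mod.L2, Lie3Mod.L3]
  · intro j
    fin_cases j <;> simp [U, Hn, In] <;> ring

/-- Chart where the minor `b f - e c` is invertible. -/
theorem chart_minor (t : k) (ht : t ≠ 0) (P : Ideal (Lie3Mod.D k ⧸ Lie3Mod.idJ k)) [P.IsPrime]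
    (hP : P = Ideal.map (Ideal.Quotient.mk (Lie3Mod.idJ k))
      (RingHom.ker (eval ![0, 1, 0, 0, 0, t, 0, 0, 0]))) :
    IsRegularLocalRing (Localization.AtPrime P) ∧ ringKrullDim (Localization.AtPrime P) = 6 := by
  let U : MvPolynomial (Fin 6) k := X 5 * X 4 - X 0 * X 1
  let C11 : MvPolynomial (Fin 6) k := -(X 2 * X 1) + X 5 * X 3
  let C13 : MvPolynomial (Fin 6) k := X 0 * X 3 - X 2 * X 4
  refine regular_of_chart ![0, 1, 0, 0, 0, t, 0, 0, 0] ![0, 0, 0, 0, t, 1] U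
    ![U * X 3 - C11 * (X 5 + X 4), U * X 5, U * X 1, -(C13 * (X 5 + X 4)) - U * X 2, U * X 0,
      U * X 4, -(X 2 * C11 + X 3 * C13), U * X 2, U * X 3]
    ![Lie3Mod.ve, Lie3Mod.vc, Lie3Mod.vh, Lie3Mod.vi, Lie3Mod.vf, Lie3Mod.vb]
    ?_ ?_ ?_ ?_ ?_ ?_ ?_ P hP
  · simp [U, ht]
  · refine ⟨?_, ?_, ?_, ?_⟩ <;>
      simp [Lie3Mod.Q1, Lie3Mod.Q2, Lie3Mod.Q3, Lie3Mod.detM, U, C11, C13] <;> ring
  · intro i T _ _ a w
    fin_cases i <;> simp <;> ring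
  · intro i
    fin_cases i <;> simp
  · intro j
    fin_cases j
    · refine mem_idJ_of_eq 0 Lie3Mod.vc (-Lie3Mod.vb) 0 ?_
      simp [U, C11, Lie3Mod.Q2, Lie3Mod.Q3]; ring
    · refine mem_idJ_of_eq 0 0 0 0 ?_
      simp [U]
    · refine mem_idJ_of_eq 0 0 0 0 ?_
      simp [U]
    · refine mem_idJ_of_eq 0 Lie3Mod.vf (-Lie3Mod.ve) 0 ?_
      simp [U, C13, Lie3Mod.Q2, Lie3Mod.Q3]; ring
    · refine mem_idJ_of_eq 0 0 0 0 ?_
      simp [U]
    · refine mem_idJ_of_eq 0 0 0 0 ?_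
      simp [U]
    · refine mem_idJ_of_eq 0 0 0 1 ?_
      simp [U, C11, C13, Lie3Mod.detM]; ring
    · refine mem_idJ_of_eq 0 0 0 0 ?_
      simp [U]
    · refine mem_idJ_of_eq 0 0 0 0 ?_
      simp [U]
  · intro i
    fin_cases i <;> simp
  · intro j
    fin_cases j <;> simp [U, C11, C13] <;> ring

end Groth.Agent.Lie3Mod51

namespace Groth.Agent.S13105

open MvPolynomial in
/-- Let k be a field, t ∈ k, D = k[a,b,c,d,e,f,g,h,i] and J = (Q1, Q2, Q3, det M) with Q1 = ah + di − fg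
− bg, Q2 = ie + bd − fh − ae, Q3 = hc + dc − af − bi, det M = −ch² + gbf + ei² − gec + hbi − ihf.
The maximal ideal (a, b − 1, c, d, e, f − t, g, h, i) of D contains J (it is the point given by the
Lie algebra with [x,y] = y, [x,z] = t z, [y,z] = 0), and the localization of D/J at the
corresponding prime is a regular local ring of Krull dimension 6: the scheme Spec(D/J) has a smooth
k-rational point. -/
theorem result (k : Type u) [Field k] (t : k)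
    (P : Ideal (Lie3Mod.D k ⧸ Lie3Mod.idJ k)) [P.IsPrime]
    (hP : P = Ideal.map (Ideal.Quotient.mk (Lie3Mod.idJ k))
      (Ideal.span ({X 0, X 1 - 1, X 2, X 3, X 4, X 5 - C t, X 6, X 7, X 8} : Set (Lie3Mod.D k)))) :
    IsRegularLocalRing (Localization.AtPrime P) ∧ ringKrullDim (Localization.AtPrime P) = 6 := by
  have hspan : (Ideal.span ({X 0, X 1 - 1, X 2, X 3, X 4, X 5 - C t, X 6, X 7, X 8} :
      Set (Lie3Mod.D k))) = RingHom.ker (eval ![0, 1, 0, 0, 0, t, 0, 0, 0]) := by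
    rw [Lie3Mod51.ker_eval_eq_span]
    congr 1
    ext y
    simp [Fin.exists_fin_succ, eq_comm]
  rw [hspan] at hP
  by_cases ht : t = 0
  · exact Lie3Mod51.chart_L2 t (by simp [ht]) P hP
  · exact Lie3Mod51.chart_minor t ht P hP

end Groth.Agent.S13105
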