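import Groth.Statements.S13114
import Mathlib
-- import your own Groth.Agent.* helpers here

set_option autoImplicit false
universe u
open HilbChow

namespace Groth.Agent.S13114

/-- Let k be an algebraically closed field, A a commutative local k-algebra of finite dimension n over k
and u a unit of A. Then the determinant of multiplication by u on the k-vector space A, mapped to
the residue field of A, equals the n-th power of the residue class of u. -/
theorem result
    (k A : Type u) [Field k] [IsAlgClosed k] [CommRing A] [Algebra k A] [IsLocalRing A]
    [Module.Finite k A] (u : Aˣ) :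
    algebraMap k (IsLocalRing.ResidueField A) (Algebra.norm k (u : A)) =
      IsLocalRing.residue A (u : A) ^ Module.finrank k A := by
  classical
  obtain ⟨c, hc⟩ := (IsAlgClosed.algebraMap_bijective_of_isIntegral (k := k)).2 (IsLocalRing.residue A (u : A))
  let ν : A := (u : A) - algebraMap k A c
  have hν : IsNilpotent ν := by
    haveI : IsArtinianRing A := IsArtinianRing.of_finite k A
    rw [← mem_nilradical]
    have h1 : ν ∈ IsLocalRing.maximalIdeal A := by
      rw [← IsLocalRing.residue_eq_zero_iff, map_sub, ← hc, IsScalarTower.algebraMap_apply k A (IsLocalRing.ResidueField A)]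
      exact sub_self _
    have h2 : nilradical A = IsLocalRing.maximalIdeal A := by
      refine le_antisymm (IsLocalRing.le_maximalIdeal ?_) ?_
      · exact fun h => not_isNilpotent_one (mem_nilradical.1 (h.ge (Submodule.mem_top (x := (1 : A)))))
      · rw [nilradical_eq_sInf]
        exact le_sInf fun q hq => by
          have : q.IsPrime := hq
          rw [IsLocalRing.eq_maximalIdeal (IsArtinianRing.isMaximal_of_isPrime q)]
    rwa [← h2] at h1
  rw [← hc, ← map_pow]
  congr 1
  let N : Module.End k A := Algebra.lmul k A ν
  have hN : IsNilpotent N := hν.map _
  have hlu : Algebra.lmul k A (u : A) = c • (1 : Module.End k A) + N := by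
    rw [show (u : A) = algebraMap k A c + ν from (add_sub_cancel _ _).symm, map_add, AlgHom.commutes, Algebra.algebraMap_eq_smul_one]
  have h := LinearMap.eval_charpoly (-N) c
  rw [(IsNilpotent.neg hN).charpoly_eq_X_pow_finrank, Polynomial.eval_pow, Polynomial.eval_X] at h
  rw [h, Algebra.norm_apply]
  congr 1
  rw [hlu, sub_neg_eq_add, Algebra.algebraMap_eq_smul_one]

end Groth.Agent.S13114
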