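import Groth.Statements.S13115
import Groth.Agent.Small51.SymTensor
-- import your own Groth.Agent.* helpers here

set_option autoImplicit false
universe u
open scoped TensorProduct
open HilbChow

namespace Groth.Agent.S13115

/-- Let k be an infinite field, V a k-vector space and m a natural number. Then every symmetric tensor
in the m-fold tensor power of V — one fixed by every permutation of the factors — is a k-linear
combination of pure powers v ⊗ ⋯ ⊗ v with v in V. (The published statement concerns the ring of
functions of an affine scheme over an infinite field, where it gives the uniqueness of the algebra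
map defining the Hilbert-to-Chow morphism for zero-cycles; this row states it for any vector space.) -/
theorem result
    (k V : Type u) [Field k] [Infinite k] [AddCommGroup V] [Module k V] (m : ℕ)
    (x : ⨂[k] _ : Fin m, V)
    (hx : ∀ σ : Equiv.Perm (Fin m), PiTensorProduct.reindex k (fun _ : Fin m => V) σ x = x) :
    x ∈ Submodule.span k (Set.range fun v : V => PiTensorProduct.tprod k (fun _ : Fin m => v)) := by
  classical
  let b := Module.Free.chooseBasis k V
  let B := Basis.piTensorProduct (R := k) fun _ : Fin m => b
  by_contra hxn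
  obtain ⟨φ, hφx, hφ⟩ := Submodule.exists_dual_map_eq_bot_of_notMem hxn inferInstance
  refine hφx ?_
  let c := B.repr x
  let s : Finset (Module.Free.ChooseBasisIndex k V) := c.support.biUnion fun f => Finset.univ.image f
  let cnt : (Fin m → s) → (s →₀ ℕ) := fun g => ∑ i, Finsupp.single (g i) 1
  have hcnt : ∀ g g', cnt g = cnt g' → c (fun i => (g i : _)) = c (fun i => (g' i : _)) := by
    intro g g' he
    have hcard : ∀ (g : Fin m → s) l, Nat.card {i // g i = l} = cnt g l := fun g l => by
      rw [Nat.card_eq_fintype_card, Fintype.card_subtype, Finsupp.finsetSum_apply, Finset.card_filter]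
      exact Finset.sum_congr rfl fun i _ => (Finsupp.single_apply).symm
    obtain ⟨σ, hσ⟩ := Groth.Agent.Small51.fun_comp_eq_of_fibre_card g g' fun l => by rw [hcard, hcard, he]
    have h2 := Groth.Agent.Small51.repr_reindex b σ x (fun i => (g' i : _))
    rw [hx σ] at h2
    show B.repr x _ = B.repr x _
    refine ((h2.trans ?_).symm)
    rw [← hσ]; rfl
  let G : (s →₀ ℕ) → k := fun d => if h : ∃ g, cnt g = d then c (fun i => (h.choose i : _)) else 0
  have hG : ∀ g, G (cnt g) = c (fun i => (g i : _)) := fun g => by
    have h : ∃ g', cnt g' = cnt g := ⟨g, rfl⟩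
    simp only [G, dif_pos h]
    exact hcnt _ _ h.choose_spec
  let P : MvPolynomial s k := ∑ g : Fin m → s, MvPolynomial.monomial (cnt g) (φ (B fun i => (g i : _)))
  have hP : P = 0 := by
    refine MvPolynomial.funext fun z => ?_
    rw [map_zero]
    have hv := ((LinearMap.le_ker_iff_map (f := φ)).2 hφ) (Submodule.subset_span ⟨∑ l : s, z l • b l, rfl⟩)
    rw [LinearMap.mem_ker] at hv
    simp only at hv
    rw [MultilinearMap.map_sum, map_sum] at hv
    rw [← hv, map_sum]
    refine Finset.sum_congr rfl fun g _ => ?_
    rw [MultilinearMap.map_smul_univ, map_smul, MvPolynomial.eval_monomial, smul_eq_mul, mul_comm,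
      Basis.piTensorProduct_apply]
    congr 1
    rw [← Finsupp.prod_finsetSum_index (fun _ => pow_zero _) (fun _ _ _ => pow_add _ _ _)]
    exact Finset.prod_congr rfl fun i _ => by simp
  let Λ : MvPolynomial s k →ₗ[k] k := (MvPolynomial.basisMonomials s k).constr k G
  have hΛ : ∀ d a, Λ (MvPolynomial.monomial d a) = a * G d := fun d a => by
    rw [← mul_one a, ← smul_eq_mul, ← MvPolynomial.smul_monomial, map_smul, smul_eq_mul, smul_eq_mul, mul_one]
    congr 1
    exact (MvPolynomial.basisMonomials s k).constr_basis k G d
  have h0 : Λ P = 0 := by rw [hP, map_zero]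
  rw [map_sum] at h0
  simp only [hΛ, hG] at h0
  rw [← B.linearCombination_repr x, Finsupp.linearCombination_apply, Finsupp.sum, map_sum, ← h0]
  let emb : (Fin m → s) ↪ (Fin m → Module.Free.ChooseBasisIndex k V) :=
    ⟨fun g i => (g i : _), fun g g' h => funext fun i => Subtype.ext (congrFun h i)⟩
  have hsub : c.support ⊆ Finset.univ.map emb := fun f hf => Finset.mem_map.2
    ⟨fun i => ⟨f i, Finset.mem_biUnion.2 ⟨f, hf, Finset.mem_image.2 ⟨i, Finset.mem_univ i, rfl⟩⟩⟩,
      Finset.mem_univ _, rfl⟩
  rw [Finset.sum_subset hsub (fun f _ hf => by rw [Finsupp.notMem_support_iff.1 hf, zero_smul, map_zero]),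
    Finset.sum_map]
  refine Finset.sum_congr rfl fun g _ => ?_
  rw [map_smul, smul_eq_mul, mul_comm]
  rfl

end Groth.Agent.S13115
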