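import Groth.Statements.S13117
import Mathlib
-- import your own Groth.Agent.* helpers here

set_option autoImplicit false
set_option maxRecDepth 4000
universe u
open HilbChow

namespace Groth.Agent.S13117

theorem det_one_add_comp {R : Type*} [CommRing R] {M N : Type*} [AddCommGroup M] [Module R M] [AddCommGroup N]
    [Module R N] [Module.Free R M] [Module.Finite R M] [Module.Free R N] [Module.Finite R N]
    (u : N →ₗ[R] M) (v : M →ₗ[R] N) :
    LinearMap.det (LinearMap.id + u ∘ₗ v) = LinearMap.det (LinearMap.id + v ∘ₗ u) := by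
  classical
  rcases subsingleton_or_nontrivial R with h | h
  · exact Subsingleton.elim _ _
  let bM := Module.Free.chooseBasis R M
  let bN := Module.Free.chooseBasis R N
  rw [← LinearMap.det_toMatrix bM, ← LinearMap.det_toMatrix bN, map_add, map_add,
    LinearMap.toMatrix_comp bM bN bM, LinearMap.toMatrix_comp bN bM bN, LinearMap.toMatrix_id, LinearMap.toMatrix_id,
    Matrix.det_one_add_mul_comm]

theorem det_piMap' {R : Type*} [CommRing R] {ι : Type*} [Fintype ι] (M : ι → Type*) [∀ i, AddCommGroup (M i)]
    [∀ i, Module R (M i)] [∀ i, Module.Free R (M i)] [∀ i, Module.Finite R (M i)] (g : ∀ i, M i →ₗ[R] M i) :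
    LinearMap.det (LinearMap.pi fun i => g i ∘ₗ LinearMap.proj i) = ∏ i, LinearMap.det (g i) := by
  classical
  let T : Finset ι → ((∀ i, M i) →ₗ[R] (∀ i, M i)) := fun s =>
    LinearMap.pi fun i => (if i ∈ s then g i else LinearMap.id) ∘ₗ LinearMap.proj i
  suffices h : ∀ s, LinearMap.det (T s) = ∏ i ∈ s, LinearMap.det (g i) by
    have := h Finset.univ
    simpa [T] using this
  intro s
  induction s using Finset.induction_on with
  | empty =>
    rw [Finset.prod_empty, show T ∅ = LinearMap.id from LinearMap.ext fun v => funext fun i => by simp [T],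
      LinearMap.det_id]
  | insert a s ha ih =>
    have h1 : T (insert a s) =
        (LinearMap.id + LinearMap.single R M a ∘ₗ ((g a - LinearMap.id) ∘ₗ LinearMap.proj a)) ∘ₗ T s := by
      refine LinearMap.ext fun v => funext fun i => ?_
      by_cases hi : i = a
      · subst hi
        simp [T, ha]
      · simp [T, hi]
    rw [h1, LinearMap.det_comp, det_one_add_comp, ih, Finset.prod_insert ha]
    congr 2
    refine LinearMap.ext fun v => ?_
    simp

theorem norm_eq_pow_of_local {k A : Type*} [Field k] [CommRing A] [Algebra k A] [IsLocalRing A] [Module.Finite k A]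
    (φ : A →ₐ[k] k) (x : A) : Algebra.norm k x = φ x ^ Module.finrank k A := by
  classical
  haveI : IsArtinianRing A := IsArtinianRing.of_finite k A
  have hν : IsNilpotent (x - algebraMap k A (φ x)) := by
    rw [← mem_nilradical, nilradical_eq_sInf, Submodule.mem_sInf]
    intro (q : Ideal A) hq
    have : q.IsPrime := hq
    have hker : (RingHom.ker φ.toRingHom).IsPrime := RingHom.ker_isPrime _
    have hmax := IsArtinianRing.isMaximal_of_isPrime (R := A) q
    have hmax' := IsArtinianRing.isMaximal_of_isPrime (R := A) (RingHom.ker φ.toRingHom)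
    rw [IsLocalRing.eq_maximalIdeal hmax, ← IsLocalRing.eq_maximalIdeal hmax', RingHom.mem_ker]
    simp
  let N : Module.End k A := Algebra.lmul k A (x - algebraMap k A (φ x))
  have hN : IsNilpotent N := hν.map _
  have hlu : Algebra.lmul k A x = φ x • (1 : Module.End k A) + N := by
    conv_lhs => rw [← add_sub_cancel (algebraMap k A (φ x)) x]
    rw [map_add, AlgHom.commutes, Algebra.algebraMap_eq_smul_one]
  have h := LinearMap.eval_charpoly (-N) (φ x)
  rw [(IsNilpotent.neg hN).charpoly_eq_X_pow_finrank, Polynomial.eval_pow, Polynomial.eval_X] at h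
  rw [h, Algebra.norm_apply]
  congr 1
  rw [hlu, sub_neg_eq_add, Algebra.algebraMap_eq_smul_one]


/-- Let k be an algebraically closed field, A a finite-dimensional commutative k-algebra (the coordinate
ring of a zero-dimensional subscheme Z of length dim_k A) and f ∈ A. Then the determinant of
multiplication by f on A is the product over the points x of Z — the k-algebra homomorphisms A → k —
of the value f(x) raised to the length of the local ring of Z at x, that length being the
k-dimension of the localisation of A at the corresponding maximal ideal. This is the formula by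
which the Hilbert-to-Chow morphism for zero-cycles sends Z to its fundamental cycle Σ ℓ(O_{Z,x})[x]. -/
theorem result
    (k A : Type u) [Field k] [IsAlgClosed k] [CommRing A] [Algebra k A] [Module.Finite k A] (f : A) :
    Algebra.norm k f =
      ∏ᶠ φ : A →ₐ[k] k, φ f ^ Module.finrank k (Localization.AtPrime (Ideal.comap φ ⊥)) := by
  classical
  haveI : IsArtinianRing A := IsArtinianRing.of_finite k A
  haveI : Fintype (PrimeSpectrum A) := Fintype.ofFinite _
  let e : A ≃ₐ[k] PrimeSpectrum.PiLocalization A :=
    AlgEquiv.ofBijective ((Algebra.ofId A (PrimeSpectrum.PiLocalization A)).restrictScalars k)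
      PrimeSpectrum.toPiLocalization_bijective
  haveI : ∀ p : PrimeSpectrum A, Module.Finite k (Localization.AtPrime p.asIdeal) := fun p =>
    Module.Finite.of_surjective ((LinearMap.proj (R := k) p).comp e.toLinearMap) fun y =>
      ⟨e.symm (Pi.single p y), by simp⟩
  have hdet : Algebra.norm k f = ∏ p : PrimeSpectrum A, Algebra.norm k (algebraMap A (Localization.AtPrime p.asIdeal) f) := by
    simp only [Algebra.norm_apply]
    rw [← det_piMap', ← LinearMap.det_conj (Algebra.lmul k A f) e.toLinearEquiv]
    congr 1
    refine LinearMap.ext fun v => ?_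
    show e (f * e.symm v) = _
    rw [map_mul, AlgEquiv.apply_symm_apply]
    rfl
  let E : (A →ₐ[k] k) → PrimeSpectrum A := fun φ => ⟨Ideal.comap φ (⊥ : Ideal k), Ideal.comap_isPrime φ ⊥⟩
  have hE : Function.Bijective E := by
    refine ⟨fun φ ψ h => AlgHom.ext fun a => ?_, fun p => ?_⟩
    · have h1 : a - algebraMap k A (φ a) ∈ (E φ).asIdeal := by
        show φ (a - algebraMap k A (φ a)) ∈ (⊥ : Ideal k)
        rw [Ideal.mem_bot, map_sub, AlgHom.commutes, Algebra.algebraMap_self_apply, sub_self]
      rw [h] at h1
      have h2 : ψ (a - algebraMap k A (φ a)) = 0 := Ideal.mem_bot.1 h1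
      rw [map_sub, AlgHom.commutes, Algebra.algebraMap_self_apply, sub_eq_zero] at h2
      exact h2.symm
    · haveI := IsArtinianRing.isMaximal_of_isPrime p.asIdeal
      let q : A →ₐ[k] A ⧸ p.asIdeal := Ideal.Quotient.mkₐ k p.asIdeal
      letI := Ideal.Quotient.field p.asIdeal
      haveI : Algebra.IsIntegral k (A ⧸ p.asIdeal) := Algebra.IsIntegral.of_finite k _
      let r : k ≃ₐ[k] (A ⧸ p.asIdeal) :=
        AlgEquiv.ofBijective (Algebra.ofId k (A ⧸ p.asIdeal)) (IsAlgClosed.algebraMap_bijective_of_isIntegral)
      refine ⟨r.symm.toAlgHom.comp q, PrimeSpectrum.ext (Ideal.ext fun a => ?_)⟩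
      show r.symm (q a) ∈ (⊥ : Ideal k) ↔ _
      rw [Ideal.mem_bot, map_eq_zero_iff _ r.symm.injective]
      exact Ideal.Quotient.eq_zero_iff_mem
  haveI : Fintype (A →ₐ[k] k) := Fintype.ofBijective _ (Equiv.ofBijective E hE).symm.bijective
  rw [hdet, finprod_eq_prod_of_fintype]
  refine (Fintype.prod_bijective E hE _ _ fun φ => ?_).symm
  show φ f ^ _ = _
  have hu : ∀ y : (Ideal.comap φ (⊥ : Ideal k)).primeCompl, IsUnit (φ y) := fun y => isUnit_iff_ne_zero.2 fun h0 => y.2 (Ideal.mem_bot.2 h0 : φ y ∈ (⊥ : Ideal k))
  haveI : (Ideal.comap φ (⊥ : Ideal k)).IsPrime := Ideal.comap_isPrime φ ⊥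
  haveI : Module.Finite k (Localization.AtPrime (Ideal.comap φ (⊥ : Ideal k))) :=
    ‹∀ p : PrimeSpectrum A, Module.Finite k (Localization.AtPrime p.asIdeal)› (E φ)
  let ψ : Localization.AtPrime (Ideal.comap φ (⊥ : Ideal k)) →ₐ[k] k :=
    { IsLocalization.lift (S := Localization.AtPrime (Ideal.comap φ (⊥ : Ideal k))) (g := φ.toRingHom) hu with
      commutes' := fun c => by
        show IsLocalization.lift (S := Localization.AtPrime (Ideal.comap φ (⊥ : Ideal k))) (g := φ.toRingHom) hu
          (algebraMap k (Localization.AtPrime (Ideal.comap φ (⊥ : Ideal k))) c) = _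
        rw [IsScalarTower.algebraMap_apply k A (Localization.AtPrime (Ideal.comap φ (⊥ : Ideal k))), IsLocalization.lift_eq]
        exact φ.commutes c }
  have hψ : ψ (algebraMap A (Localization.AtPrime (Ideal.comap φ (⊥ : Ideal k))) f) = φ f := IsLocalization.lift_eq _ f
  rw [← hψ]
  exact (norm_eq_pow_of_local ψ _).symm

end Groth.Agent.S13117
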