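import Groth.Statements.S13118
import Groth.Agent.Small51.NormBundle
-- import your own Groth.Agent.* helpers here

set_option autoImplicit false
universe u
open scoped TensorProduct
open HilbChow

namespace Groth.Agent.S13118

theorem d_comp {A B : Type*} [CommRing A] [CommRing B] [Algebra A B] {X Y Z : Type*}
    [AddCommGroup X] [Module B X] [Module A X] [IsScalarTower A B X]
    [AddCommGroup Y] [Module B Y] [Module A Y] [IsScalarTower A B Y]
    [AddCommGroup Z] [Module B Z] [Module A Z] [IsScalarTower A B Z] {n : ℕ} (g : Y →ₗ[B] Z) (f : X →ₗ[B] Y) :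
    exteriorPower.map n ((g ∘ₗ f).restrictScalars A) =
      exteriorPower.map n (g.restrictScalars A) ∘ₗ exteriorPower.map n (f.restrictScalars A) :=
  exteriorPower.map_comp (f.restrictScalars A) (g.restrictScalars A)

theorem d_scalar {A B : Type*} [CommRing A] [CommRing B] [Algebra A B] {X Y : Type*}
    [AddCommGroup X] [Module B X] [Module A X] [IsScalarTower A B X]
    [AddCommGroup Y] [Module B Y] [Module A Y] [IsScalarTower A B Y] {n : ℕ} (a : A) (f g : X →ₗ[B] Y)
    (h : ∀ x, f x = a • g x) :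
    exteriorPower.map n (f.restrictScalars A) = a ^ n • exteriorPower.map n (g.restrictScalars A) := by
  rw [← NormBundle51.map_smul_map]
  exact congrArg _ (LinearMap.ext h)


/-- Let A → B be a ring homomorphism making B a finite locally free A-module of constant rank n, and let
M₁, M₂ be locally free B-modules of rank 1. Then, as A-modules, ∧ⁿ_A B ⊗_A ∧ⁿ_A(M₁ ⊗_B M₂) ≅ ∧ⁿ_A M₁
⊗_A ∧ⁿ_A M₂. (The published statement gives a specific, canonical isomorphism and covers any finite
family M₁, …, M_r, with the (r−1)-st tensor power of ∧ⁿ_A B; this row asserts only that an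
isomorphism exists, for two modules, the case from which the general one follows by induction.)
Locally free of rank r is expressed as finitely generated projective with all localisations at
primes of rank r. -/
theorem result
    (A B : Type u) [CommRing A] [CommRing B] [Algebra A B] [Module.Finite A B] [Module.Projective A B]
    (n : ℕ) (hn : ∀ q : PrimeSpectrum A, Module.finrank (Localization.AtPrime q.asIdeal) (LocalizedModule q.asIdeal.primeCompl B) = n)
    (M₁ M₂ : Type u) [AddCommGroup M₁] [Module B M₁] [Module A M₁] [IsScalarTower A B M₁]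
    [AddCommGroup M₂] [Module B M₂] [Module A M₂] [IsScalarTower A B M₂]
    [Module.Finite B M₁] [Module.Projective B M₁] [Module.Finite B M₂] [Module.Projective B M₂]
    (h₁ : ∀ q : PrimeSpectrum B, Module.finrank (Localization.AtPrime q.asIdeal) (LocalizedModule q.asIdeal.primeCompl M₁) = 1)
    (h₂ : ∀ q : PrimeSpectrum B, Module.finrank (Localization.AtPrime q.asIdeal) (LocalizedModule q.asIdeal.primeCompl M₂) = 1) :
    Nonempty ((⋀[A]^n B) ⊗[A] (⋀[A]^n (M₁ ⊗[B] M₂)) ≃ₗ[A] (⋀[A]^n M₁) ⊗[A] (⋀[A]^n M₂)) := by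
  classical
  have happ : NormBundle51.Approx A B n := NormBundle51.approx_of_finrank hn
  let Q := { q : Ideal A // q.IsMaximal }
  choose a₁ ha₁ e₁ v₁ hv₁ hx₁ using NormBundle51.exists_gen (A := A) (NormBundle51.approx_of_finrank h₁)
  choose a₂ ha₂ e₂ v₂ hv₂ hx₂ using NormBundle51.exists_gen (A := A) (NormBundle51.approx_of_finrank h₂)
  let a : Q → A := fun i => a₁ i.1 i.2 * a₂ i.1 i.2
  let u : (i : Q) → B →ₗ[B] M₁ := fun i => LinearMap.toSpanSingleton B M₁ (e₁ i.1 i.2)
  let w : (i : Q) → B →ₗ[B] M₂ := fun i => LinearMap.toSpanSingleton B M₂ (e₂ i.1 i.2)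
  let uw : (i : Q) → B →ₗ[B] M₁ ⊗[B] M₂ := fun i =>
    LinearMap.toSpanSingleton B _ (e₁ i.1 i.2 ⊗ₜ[B] e₂ i.1 i.2)
  let v : (i : Q) → M₁ →ₗ[B] B := fun i => algebraMap A B (a₂ i.1 i.2) • v₁ i.1 i.2
  let z : (i : Q) → M₂ →ₗ[B] B := fun i => algebraMap A B (a₁ i.1 i.2) • v₂ i.1 i.2
  let vz : (i : Q) → M₁ ⊗[B] M₂ →ₗ[B] B := fun i =>
    (TensorProduct.lid B B).toLinearMap ∘ₗ TensorProduct.map (v i) (z i)
  have hvu : ∀ i x, (v i ∘ₗ u i) x = a i • (LinearMap.id : B →ₗ[B] B) x := fun i x => by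
    simp [u, v, a, hv₁, Algebra.smul_def]
    ring
  have hzw : ∀ i x, (z i ∘ₗ w i) x = a i • (LinearMap.id : B →ₗ[B] B) x := fun i x => by
    simp [w, z, a, hv₂, Algebra.smul_def]
    ring
  have huv : ∀ i x, (u i ∘ₗ v i) x = a i • (LinearMap.id : M₁ →ₗ[B] M₁) x := fun i x => by
    simp only [u, v, a, LinearMap.comp_apply, LinearMap.toSpanSingleton_apply, LinearMap.smul_apply,
      smul_eq_mul, mul_smul, hx₁, LinearMap.id_apply, algebraMap_smul]
    rw [smul_assoc, hx₁, smul_comm]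
  have hwz : ∀ i x, (w i ∘ₗ z i) x = a i • (LinearMap.id : M₂ →ₗ[B] M₂) x := fun i x => by
    simp only [w, z, a, LinearMap.comp_apply, LinearMap.toSpanSingleton_apply, LinearMap.smul_apply,
      smul_eq_mul, mul_smul, hx₂, LinearMap.id_apply, algebraMap_smul]
    rw [smul_assoc, hx₂]
  have huwvz : ∀ i x, (uw i ∘ₗ vz i) x = (a i * a i) • (LinearMap.id : M₁ ⊗[B] M₂ →ₗ[B] M₁ ⊗[B] M₂) x :=
    fun i x => by
    induction x using TensorProduct.induction_on with
    | zero => simp
    | add x y hx hy => simp only [map_add, smul_add] at *; rw [hx, hy]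
    | tmul x y =>
      show (v i x * z i y) • (e₁ i.1 i.2 ⊗ₜ[B] e₂ i.1 i.2) = _
      rw [← TensorProduct.smul_tmul_smul]
      show (u i (v i x)) ⊗ₜ[B] (w i (z i y)) = _
      rw [show u i (v i x) = a i • x from huv i x, show w i (z i y) = a i • y from hwz i y]
      simp [← TensorProduct.smul_tmul', TensorProduct.tmul_smul, mul_smul]
  have hvzuw : ∀ i x, (vz i ∘ₗ uw i) x = (a i * a i) • (LinearMap.id : B →ₗ[B] B) x := fun i x => by
    have h1 := hvu i 1
    have h2 := hzw i 1
    simp only [u, w, LinearMap.comp_apply, LinearMap.toSpanSingleton_apply, one_smul, LinearMap.id_apply] at h1 h2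
    simp only [uw, vz, LinearMap.comp_apply, LinearMap.toSpanSingleton_apply, map_smul, LinearEquiv.coe_coe,
      TensorProduct.map_tmul, TensorProduct.lid_tmul, h1, h2, LinearMap.id_apply]
    simp [Algebra.smul_def]
    ring
  let d {X Y : Type u} [AddCommGroup X] [Module B X] [Module A X] [IsScalarTower A B X] [AddCommGroup Y]
    [Module B Y] [Module A Y] [IsScalarTower A B Y] (f : X →ₗ[B] Y) : ⋀[A]^n X →ₗ[A] ⋀[A]^n Y :=
    exteriorPower.map n (f.restrictScalars A)
  have hid : ∀ (X : Type u) [AddCommGroup X] [Module B X] [Module A X] [IsScalarTower A B X],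
      d (LinearMap.id : X →ₗ[B] X) = LinearMap.id := fun X => exteriorPower.map_id
  have hcomp : ∀ {X Y Z : Type u} [AddCommGroup X] [Module B X] [Module A X] [IsScalarTower A B X]
      [AddCommGroup Y] [Module B Y] [Module A Y] [IsScalarTower A B Y]
      [AddCommGroup Z] [Module B Z] [Module A Z] [IsScalarTower A B Z] (g : Y →ₗ[B] Z) (f : X →ₗ[B] Y),
      d g ∘ₗ d f = d (g ∘ₗ f) := fun g f => (d_comp g f).symm
  have hcov : ∀ q : Ideal A, q.IsMaximal → ∃ i : Q, a i ^ n ∉ q := fun q hq =>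
    ⟨⟨q, hq⟩, fun h => (hq.isPrime.mem_or_mem (hq.isPrime.mem_of_pow_mem n h)).elim (ha₁ q hq) (ha₂ q hq)⟩
  have key : ∀ {X Y : Type u} [AddCommGroup X] [Module B X] [Module A X] [IsScalarTower A B X]
      [AddCommGroup Y] [Module B Y] [Module A Y] [IsScalarTower A B Y] (g : Y →ₗ[B] X) (f : X →ₗ[B] Y) (r : A),
      (∀ x, (g ∘ₗ f) x = r • (LinearMap.id : X →ₗ[B] X) x) → d g ∘ₗ d f = r ^ n • LinearMap.id := by
    intro X Y _ _ _ _ _ _ _ _ g f r h
    rw [hcomp, ← hid X]
    exact d_scalar r _ _ h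
  refine NormBundle51.exists_equiv_tensor (fun i => a i ^ n) (NormBundle51.exists_cover _ hcov _)
    (NormBundle51.exists_cover _ hcov _) (fun i => d (u i)) (fun i => d (v i)) (fun i => d (w i)) (fun i => d (z i))
    (fun i => d (uw i)) (fun i => d (vz i)) (fun i => key _ _ _ (huv i)) (fun i => key _ _ _ (hvu i))
    (fun i => key _ _ _ (hwz i)) (fun i => key _ _ _ (hzw i))
    (fun i => (key _ _ _ (huwvz i)).trans (by rw [mul_pow, ← pow_two]))
    (fun i => (key _ _ _ (hvzuw i)).trans (by rw [mul_pow, ← pow_two]))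
    (fun i j => ?_)
  obtain ⟨c, hc⟩ := NormBundle51.exists_scalar happ (d (v j ∘ₗ u i))
  obtain ⟨c', hc'⟩ := NormBundle51.exists_scalar happ (d (z j ∘ₗ w i))
  refine ⟨c, c', (hcomp _ _).trans hc, (hcomp _ _).trans hc', ?_⟩
  have h0 : uw j ∘ₗ ((v j ∘ₗ u i) ∘ₗ (z j ∘ₗ w i)) = (algebraMap A B (a j * a j)) • uw i := by
    ext
    simp only [LinearMap.comp_apply, LinearMap.smul_apply, u, w, uw, LinearMap.toSpanSingleton_apply,
      one_smul, map_smul, smul_eq_mul, algebraMap_smul]
    rw [mul_comm, ← TensorProduct.smul_tmul_smul]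
    show u j (v j (e₁ i.1 i.2)) ⊗ₜ[B] w j (z j (e₂ i.1 i.2)) = _
    rw [show u j (v j (e₁ i.1 i.2)) = a j • (e₁ i.1 i.2) from huv j _,
      show w j (z j (e₂ i.1 i.2)) = a j • (e₂ i.1 i.2) from hwz j _]
    simp [← TensorProduct.smul_tmul', TensorProduct.tmul_smul, mul_smul]
  have h1 : d (uw j) ∘ₗ (d (v j ∘ₗ u i) ∘ₗ d (z j ∘ₗ w i)) = d (uw j ∘ₗ ((v j ∘ₗ u i) ∘ₗ (z j ∘ₗ w i))) := by
    rw [hcomp, hcomp]
  rw [hc, hc', h0] at h1
  simp only [LinearMap.smul_comp, LinearMap.comp_smul, LinearMap.comp_id, smul_smul] at h1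
  rw [mul_comm c c', h1, show d (algebraMap A B (a j * a j) • uw i) = _ from
    d_scalar (a j * a j) _ (uw i) (fun x => by simp [mul_smul])]
  show (a j * a j) ^ n • d (uw i) = (a j ^ n) ^ 2 • d (uw i)
  rw [mul_pow, pow_two]

end Groth.Agent.S13118
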