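import Groth.Statements.S13119
import Groth.Agent.Small51.TopFrames
-- import your own Groth.Agent.* helpers here

set_option autoImplicit false
universe u
open scoped TensorProduct
open HilbChow

namespace Groth.Agent.S13119

/-- Let A → B be a ring homomorphism making B a finite locally free A-module of constant rank n, and
take a B-module M that is locally free of rank k, with k at least 1. Then, as A-modules, ∧^{nk}_A M
≅ (∧ⁿ_A B)^{⊗(k−1)} ⊗_A ∧ⁿ_A(∧^k_B M). (The published statement gives a specific, canonical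
isomorphism, allows k = 0 with the exponent k − 1 read in the Picard group, and has a companion
formula for duals; this row asserts only that an isomorphism exists, for k ≥ 1, since with a
natural-number exponent k = 0 would change the meaning, and omits the dual formula.) Locally free of
rank r is expressed as finitely generated projective with all localisations at primes of rank r. -/
theorem result
    (A B : Type u) [CommRing A] [CommRing B] [Algebra A B] [Module.Finite A B] [Module.Projective A B]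
    (n : ℕ) (hn : ∀ q : PrimeSpectrum A, Module.finrank (Localization.AtPrime q.asIdeal) (LocalizedModule q.asIdeal.primeCompl B) = n)
    (M : Type u) [AddCommGroup M] [Module B M] [Module A M] [IsScalarTower A B M]
    [Module.Finite B M] [Module.Projective B M] (k : ℕ) (hk : 1 ≤ k)
    (hM : ∀ q : PrimeSpectrum B, Module.finrank (Localization.AtPrime q.asIdeal) (LocalizedModule q.asIdeal.primeCompl M) = k) :
    Nonempty ((⋀[A]^(n * k) M) ≃ₗ[A]
      (TensorPower A (k - 1) (⋀[A]^n B)) ⊗[A] (⋀[A]^n (⋀[B]^k M))) := by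
  classical
  let Q := { q : Ideal A // q.IsMaximal }
  have hB : NormBundle51.Approx A B n := NormBundle51.approx_of_finrank hn
  choose w hw W Z hWZ hZW using hB
  choose a ha U V hUV hVU using NormBundle51.exists_basis (A := A) (NormBundle51.approx_of_finrank hM)
  obtain ⟨τ⟩ := NormBundle51.top_iso (Pi.basisFun B (Fin k))
  let R : Q → B →ₗ[B] ⋀[B]^k M := fun i => exteriorPower.map k (U i.1 i.2) ∘ₗ τ.symm.toLinearMap
  let S : Q → ⋀[B]^k M →ₗ[B] B := fun i => τ.toLinearMap ∘ₗ exteriorPower.map k (V i.1 i.2)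
  have hSR : ∀ i j (c : B), S j (R i c) = LinearMap.det (V j.1 j.2 ∘ₗ U i.1 i.2) * c := fun i j c => by
    simp only [R, S, LinearMap.comp_apply, LinearEquiv.coe_coe]
    rw [← LinearMap.comp_apply (exteriorPower.map k (V j.1 j.2)), ← exteriorPower.map_comp,
      NormBundle51.map_eq_det (Pi.basisFun B (Fin k))]
    simp
  have hSR' : ∀ i c, S i (R i c) = a i.1 i.2 ^ k • c := fun i c => by
    simp only [R, S, LinearMap.comp_apply, LinearEquiv.coe_coe]
    rw [← LinearMap.comp_apply (exteriorPower.map k (V i.1 i.2)), ← exteriorPower.map_comp,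
      show V i.1 i.2 ∘ₗ U i.1 i.2 = algebraMap A B (a i.1 i.2) • LinearMap.id from
        LinearMap.ext fun x => (hVU i.1 i.2 x).trans (algebraMap_smul B _ _).symm,
      NormBundle51.map_smul_id]
    simp only [LinearMap.smul_apply, LinearMap.id_apply, map_smul, τ.apply_symm_apply]
    rw [← map_pow, algebraMap_smul]
  have hRS' : ∀ i x, R i (S i x) = a i.1 i.2 ^ k • x := fun i x => by
    simp only [R, S, LinearMap.comp_apply, LinearEquiv.coe_coe, LinearEquiv.symm_apply_apply]
    rw [← LinearMap.comp_apply (exteriorPower.map k (U i.1 i.2)), ← exteriorPower.map_comp,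
      show U i.1 i.2 ∘ₗ V i.1 i.2 = algebraMap A B (a i.1 i.2) • LinearMap.id from
        LinearMap.ext fun x => (hUV i.1 i.2 x).trans (algebraMap_smul B _ _).symm,
      NormBundle51.map_smul_id, LinearMap.smul_apply, LinearMap.id_apply, ← map_pow, algebraMap_smul]
  -- frames of both sides
  have h1 := NormBundle51.frames_exterior (X := B) (Pi.basisFun A (Fin n)) (fun i : Q => w i.1 i.2)
    (fun i => W i.1 i.2) (fun i => Z i.1 i.2) (fun i => hZW i.1 i.2) (fun i => hWZ i.1 i.2)
  have h2 := NormBundle51.frames_exterior (X := ⋀[B]^k M) (Pi.basisFun A (Fin n))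
    (fun i : Q => w i.1 i.2 * a i.1 i.2 ^ k) (fun i => (R i).restrictScalars A ∘ₗ W i.1 i.2)
    (fun i => Z i.1 i.2 ∘ₗ (S i).restrictScalars A)
    (fun i => LinearMap.ext fun c => by
      show Z i.1 i.2 (S i (R i (W i.1 i.2 c))) = _
      rw [hSR', map_smul, show Z i.1 i.2 (W i.1 i.2 c) = _ from LinearMap.congr_fun (hZW i.1 i.2) c]
      simp [smul_smul, mul_comm])
    (fun i => LinearMap.ext fun x => by
      show R i (W i.1 i.2 (Z i.1 i.2 (S i x))) = _
      rw [show W i.1 i.2 (Z i.1 i.2 (S i x)) = _ from LinearMap.congr_fun (hWZ i.1 i.2) (S i x)]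
      simp [LinearMap.map_smul_of_tower, hRS', smul_smul])
  have h3 := NormBundle51.frames_exterior (X := M)
    ((Pi.basisFun A (Fin k × Fin n)).reindex ((Equiv.prodComm (Fin k) (Fin n)).trans finProdFinEquiv))
    (fun i : Q => w i.1 i.2 * a i.1 i.2) (fun i => (U i.1 i.2).restrictScalars A ∘ₗ NormBundle51.blockW (W i.1 i.2))
    (fun i => NormBundle51.blockZ (Z i.1 i.2) ∘ₗ (V i.1 i.2).restrictScalars A)
    (fun i => LinearMap.ext fun c => funext fun bj => by
      show Z i.1 i.2 (V i.1 i.2 (U i.1 i.2 (NormBundle51.blockW (W i.1 i.2) c)) bj.1) bj.2 = _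
      rw [hVU, Pi.smul_apply, map_smul, NormBundle51.blockW_apply,
        show Z i.1 i.2 (W i.1 i.2 _) = _ from LinearMap.congr_fun (hZW i.1 i.2) _]
      simp [mul_assoc, mul_comm, mul_left_comm])
    (fun i => LinearMap.ext fun x => by
      show U i.1 i.2 (NormBundle51.blockW (W i.1 i.2) (NormBundle51.blockZ (Z i.1 i.2) (V i.1 i.2 x))) = _
      rw [show NormBundle51.blockW (W i.1 i.2) (NormBundle51.blockZ (Z i.1 i.2) (V i.1 i.2 x)) =
        w i.1 i.2 • V i.1 i.2 x from funext fun b => LinearMap.congr_fun (hWZ i.1 i.2) (V i.1 i.2 x b)]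
      simp [LinearMap.map_smul_of_tower, hUV, smul_smul])
  have h4 := (h1.tensorPower (k - 1)).tensor h2
  have hk' : ∀ i : Q, (w i.1 i.2 * a i.1 i.2) ^ (n * k) =
      (w i.1 i.2 ^ n) ^ (k - 1) * (w i.1 i.2 * a i.1 i.2 ^ k) ^ n := fun i => by
    obtain ⟨d, rfl⟩ : ∃ d, k = d + 1 := ⟨k - 1, by omega⟩
    simp only [Nat.add_sub_cancel, mul_pow, ← pow_mul]
    ring
  simp only [← hk'] at h4
  have hcov : ∀ q : Ideal A, q.IsMaximal → ∃ i : Q, w i.1 i.2 * a i.1 i.2 ∉ q := fun q hq =>
    ⟨⟨q, hq⟩, fun h => (hq.isPrime.mem_or_mem h).elim (hw q hq) (ha q hq)⟩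
  have hsigma : ∀ i j : Q,
      LinearMap.det ((NormBundle51.blockZ (Z j.1 j.2) ∘ₗ (V j.1 j.2).restrictScalars A) ∘ₗ
        ((U i.1 i.2).restrictScalars A ∘ₗ NormBundle51.blockW (W i.1 i.2))) =
      LinearMap.det (Z j.1 j.2 ∘ₗ W i.1 i.2) ^ (k - 1) *
        LinearMap.det ((Z j.1 j.2 ∘ₗ (S j).restrictScalars A) ∘ₗ ((R i).restrictScalars A ∘ₗ W i.1 i.2)) := fun i j => by
    refine (NormBundle51.det_block (NormBundle51.approx_of_finrank hn) hk (W i.1 i.2) (Z j.1 j.2)
      (V j.1 j.2 ∘ₗ U i.1 i.2)).trans ?_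
    congr 2
    exact LinearMap.ext fun c => congrArg (Z j.1 j.2) (hSR i j _).symm
  rw [show (fun i j : Q => LinearMap.det ((NormBundle51.blockZ (Z j.1 j.2) ∘ₗ (V j.1 j.2).restrictScalars A) ∘ₗ
        ((U i.1 i.2).restrictScalars A ∘ₗ NormBundle51.blockW (W i.1 i.2)))) = _ from funext₂ hsigma] at h3
  letI : AddCommGroup (TensorPower A (k - 1) (⋀[A]^n B)) := Module.addCommMonoidToAddCommGroup A
  refine h3.equiv h4 (NormBundle51.exists_cover _ hcov _) ?_
  simp only [← pow_mul]
  exact NormBundle51.exists_cover _ hcov _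

end Groth.Agent.S13119
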