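import Mathlib.Algebra.MvPolynomial.Derivation
import Mathlib.RingTheory.Adjoin.Basic
import Mathlib.Algebra.CharP.Defs
import Mathlib.Data.Fin.VecNotation
import Mathlib

set_option autoImplicit false
universe u
namespace KumFam
end KumFam
open KumFam

namespace Groth.Agent.S13120

section Aux

open MvPolynomial

variable {R : Type u} [CommRing R]

local notation "uX" => (X 0 : MvPolynomial (Fin 2) R)
local notation "vX" => (X 1 : MvPolynomial (Fin 2) R)
local notation "e" => (expand 2 : MvPolynomial (Fin 2) R →ₐ[R] MvPolynomial (Fin 2) R)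

/-- the exponent vector `(i, j)` -/
noncomputable def vec (i j : ℕ) : Fin 2 →₀ ℕ := Finsupp.single 0 i + Finsupp.single 1 j

@[simp] lemma vec_zero (i j : ℕ) : vec i j 0 = i := by simp [vec]
@[simp] lemma vec_one (i j : ℕ) : vec i j 1 = j := by simp [vec]

lemma coeff_comp (i j i' j' : ℕ) (hi : i < 2) (hj : j < 2) (hi' : i' < 2) (hj' : j' < 2)
    (q : MvPolynomial (Fin 2) R) (m : Fin 2 →₀ ℕ) :
    coeff (vec i' j' + 2 • m) (monomial (vec i j) 1 * e q) =
      if i = i' ∧ j = j' then coeff m q else 0 := by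
  rw [coeff_monomial_mul', one_mul]
  by_cases h : i = i' ∧ j = j'
  · obtain ⟨rfl, rfl⟩ := h
    rw [if_pos le_self_add, if_pos (show i = i ∧ j = j from ⟨rfl, rfl⟩), add_tsub_cancel_left,
      coeff_expand_smul _ (by norm_num)]
  · rw [if_neg h]
    split_ifs with hle
    · have h0 := hle 0
      have h1 := hle 1
      simp at h0 h1
      by_cases hii : i = i'
      · refine coeff_expand_of_not_dvd _ (i := 1) ?_
        have : j ≠ j' := fun hh => h ⟨hii, hh⟩
        simp [Finsupp.tsub_apply]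
        omega
      · refine coeff_expand_of_not_dvd _ (i := 0) ?_
        simp [Finsupp.tsub_apply]
        omega
    · rfl

lemma monomial_vec (i j : ℕ) : monomial (vec i j) (1 : R) = uX ^ i * vX ^ j := by
  rw [vec, X_pow_eq_monomial, X_pow_eq_monomial, monomial_mul, mul_one]

lemma comp_eq (a b c d : MvPolynomial (Fin 2) R) :
    e a + uX * e b + vX * e c + uX * vX * e d = monomial (vec 0 0) 1 * e a + monomial (vec 1 0) 1 * e b +
      monomial (vec 0 1) 1 * e c + monomial (vec 1 1) 1 * e d := by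
  simp [monomial_vec]

lemma comp_unique {a b c d : MvPolynomial (Fin 2) R}
    (h : e a + uX * e b + vX * e c + uX * vX * e d = 0) : a = 0 ∧ b = 0 ∧ c = 0 ∧ d = 0 := by
  rw [comp_eq] at h
  have key := fun (i j : ℕ) (hi : i < 2) (hj : j < 2) (m : Fin 2 →₀ ℕ) =>
    congrArg (coeff (vec i j + 2 • m)) h
  refine ⟨?_, ?_, ?_, ?_⟩
  · ext m; simpa [coeff_comp] using key 0 0 (by norm_num) (by norm_num) m
  · ext m; simpa [coeff_comp] using key 1 0 (by norm_num) (by norm_num) m
  · ext m; simpa [coeff_comp] using key 0 1 (by norm_num) (by norm_num) m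
  · ext m; simpa [coeff_comp] using key 1 1 (by norm_num) (by norm_num) m

lemma exists_comp (p : MvPolynomial (Fin 2) R) :
    ∃ a b c d, p = e a + uX * e b + vX * e c + uX * vX * e d := by
  induction p using MvPolynomial.induction_on' with
  | monomial m r =>
    obtain ⟨i, hi⟩ : ∃ i, i = m 0 % 2 := ⟨_, rfl⟩
    obtain ⟨j, hj⟩ : ∃ j, j = m 1 % 2 := ⟨_, rfl⟩
    have hm : monomial m r =
        monomial (vec i j) 1 * e (monomial (vec (m 0 / 2) (m 1 / 2)) r) := by
      rw [expand_monomial, monomial_mul, one_mul]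
      congr 2
      ext k
      fin_cases k <;> simp [hi, hj] <;> omega
    rw [hm, monomial_vec]
    rcases Nat.mod_two_eq_zero_or_one (m 0) with h0 | h0 <;>
      rcases Nat.mod_two_eq_zero_or_one (m 1) with h1 | h1 <;> rw [hi, hj, h0, h1]
    · exact ⟨monomial (vec (m 0 / 2) (m 1 / 2)) r, 0, 0, 0, by simp⟩
    · exact ⟨0, 0, monomial (vec (m 0 / 2) (m 1 / 2)) r, 0, by simp⟩
    · exact ⟨0, monomial (vec (m 0 / 2) (m 1 / 2)) r, 0, 0, by simp⟩
    · exact ⟨0, 0, 0, monomial (vec (m 0 / 2) (m 1 / 2)) r, by simp⟩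
  | add p q hp hq =>
    obtain ⟨a, b, c, d, rfl⟩ := hp
    obtain ⟨a', b', c', d', rfl⟩ := hq
    exact ⟨a + a', b + b', c + c', d + d', by simp only [map_add]; ring⟩

/-- no monomial has exponent one in either variable -/
def good : Subalgebra R (MvPolynomial (Fin 2) R) where
  carrier := {p | ∀ m : Fin 2 →₀ ℕ, (m 0 = 1 ∨ m 1 = 1) → coeff m p = 0}
  add_mem' hp hq m hm := by rw [coeff_add, hp m hm, hq m hm, add_zero]
  mul_mem' := fun {p q} hp hq m hm => by
    classical
    rw [coeff_mul]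
    refine Finset.sum_eq_zero fun x hx => ?_
    rw [Finset.HasAntidiagonal.mem_antidiagonal] at hx
    by_cases h : x.1 0 = 1 ∨ x.1 1 = 1
    · rw [hp _ h, zero_mul]
    · by_cases h' : x.2 0 = 1 ∨ x.2 1 = 1
      · rw [hq _ h', mul_zero]
      · rw [← hx] at hm
        simp at hm
        omega
  algebraMap_mem' r m hm := by
    classical
    rw [algebraMap_eq, coeff_C, if_neg]
    rintro rfl
    simp at hm

lemma coeff_eq_zero_of_mem_adjoin {p : MvPolynomial (Fin 2) R}
    (hp : p ∈ Algebra.adjoin R ({uX ^ 2, uX ^ 3, vX ^ 2, vX ^ 3} : Set (MvPolynomial (Fin 2) R)))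
    (m : Fin 2 →₀ ℕ) (hm : m 0 = 1 ∨ m 1 = 1) : coeff m p = 0 := by
  refine (Algebra.adjoin_le (S := good) ?_ hp : p ∈ good) m hm
  intro x hx m hm
  classical
  rcases hx with rfl | rfl | rfl | rfl <;> rw [coeff_X_pow, if_neg] <;> rintro rfl <;> simp at hm

end Aux


open MvPolynomial in
/-- Let R be a commutative ring of characteristic 2 and l0, l2, l4, s0, s2, s4, τ ∈ R with τ a unit.
Inside R[u, v] (u = X 0, v = X 1) let A = R[u², u³, v², v³] be the coordinate ring of the product of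
two cuspidal curves, and let D be the R-derivation of R[u, v] with D(u) = v²(l0 u⁴ + τ u³ + l2 u² +
l4) and D(v) = u²(s0 v⁴ + τ v³ + s2 v² + s4); D is u²v² times the rational vector field (l0 u² + τ u
+ l2 + l4 u⁻²) ∂_u + (s0 v² + τ v + s2 + s4 v⁻²) ∂_v, which maps A into itself, and u²v² is a
non-zero-divisor, so the kernel of that vector field on A is the set of a ∈ A with D(a) = 0. Then
for a ∈ A: D(a) = 0 if and only if a ∈ R[u², v², g], where g = (s0 v⁴ + s2 v² + s4) u³ + (l0 u⁴ + l2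
u² + l4) v³ + τ u³ v³. (The published statement identifies this kernel with the ring of invariants
of the corresponding action of the group scheme of square roots of unity; this row states the kernel
computation that is actually carried out.) -/
theorem result (R : Type u) [CommRing R] [CharP R 2]
    (l0 l2 l4 s0 s2 s4 τ : R) (hτ : IsUnit τ) (a : MvPolynomial (Fin 2) R)
    (ha : a ∈ Algebra.adjoin R
      ({X 0 ^ 2, X 0 ^ 3, X 1 ^ 2, X 1 ^ 3} : Set (MvPolynomial (Fin 2) R))) :
    MvPolynomial.mkDerivation R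
        (![X 1 ^ 2 * (C l0 * X 0 ^ 4 + C τ * X 0 ^ 3 + C l2 * X 0 ^ 2 + C l4),
          X 0 ^ 2 * (C s0 * X 1 ^ 4 + C τ * X 1 ^ 3 + C s2 * X 1 ^ 2 + C s4)] :
          Fin 2 → MvPolynomial (Fin 2) R) a = 0 ↔
      a ∈ Algebra.adjoin R
        ({X 0 ^ 2, X 1 ^ 2,
          (C s0 * X 1 ^ 4 + C s2 * X 1 ^ 2 + C s4) * X 0 ^ 3 +
            (C l0 * X 0 ^ 4 + C l2 * X 0 ^ 2 + C l4) * X 1 ^ 3 +
            C τ * X 0 ^ 3 * X 1 ^ 3} : Set (MvPolynomial (Fin 2) R)) := by
  classical
  obtain ⟨τu, hτu⟩ := hτ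
  set τi : R := ((τu⁻¹ : Rˣ) : R) with hτi
  set P : MvPolynomial (Fin 2) R := C l0 * X 0 ^ 2 + C l2 * X 0 + C l4 with hP
  set Q : MvPolynomial (Fin 2) R := C s0 * X 1 ^ 2 + C s2 * X 1 + C s4 with hQ
  set D := MvPolynomial.mkDerivation R
    (![X 1 ^ 2 * (C l0 * X 0 ^ 4 + C τ * X 0 ^ 3 + C l2 * X 0 ^ 2 + C l4),
      X 0 ^ 2 * (C s0 * X 1 ^ 4 + C τ * X 1 ^ 3 + C s2 * X 1 ^ 2 + C s4)] :
      Fin 2 → MvPolynomial (Fin 2) R) with hD
  have hDu : D (X 0) = expand 2 (X 1 * P) + X 0 * expand 2 (C τ * X 0 * X 1) := by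
    rw [hD, mkDerivation_X]
    simp [hP]
    ring
  have hDv : D (X 1) = expand 2 (X 0 * Q) + X 1 * expand 2 (C τ * X 0 * X 1) := by
    rw [hD, mkDerivation_X]
    simp [hQ]
    ring
  have h2 : (2 : MvPolynomial (Fin 2) R) = 0 := by
    have h : (2 : R) = 0 := CharTwo.two_eq_zero
    rw [show (2 : MvPolynomial (Fin 2) R) = C 2 from (map_ofNat C 2).symm, h, map_zero]
  have hDe : ∀ q : MvPolynomial (Fin 2) R, D (expand 2 q) = 0 := by
    intro q
    induction q using MvPolynomial.induction_on with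
    | C r => rw [expand_C]; exact derivation_C _ _
    | add p q hp hq => rw [map_add, map_add, hp, hq, add_zero]
    | mul_X p i hp =>
      rw [map_mul, Derivation.leibniz, hp, expand_X, pow_two, Derivation.leibniz, smul_zero, add_zero]
      simp only [smul_eq_mul]
      linear_combination (expand 2 p * X i * D (X i)) * h2
  constructor
  · intro h0
    obtain ⟨a00, a10, a01, a11, rfl⟩ := exists_comp a
    have hc : ∀ m : Fin 2 →₀ ℕ, (m 0 = 0 ∨ m 1 = 0) → coeff m a11 = 0 := by
      intro m hm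
      have := coeff_eq_zero_of_mem_adjoin ha (vec 1 1 + 2 • m) (by simp; omega)
      rw [comp_eq] at this
      simpa [coeff_comp] using this
    obtain ⟨c, rfl⟩ : ∃ c, a11 = X 0 * X 1 * c := by
      refine ⟨divMonomial a11 (vec 1 1), ?_⟩
      have hmod : modMonomial a11 (vec 1 1) = 0 := by
        ext m
        by_cases hle : vec 1 1 ≤ m
        · rw [coeff_modMonomial_of_le _ hle, coeff_zero]
        · rw [coeff_modMonomial_of_not_le _ hle, coeff_zero]
          refine hc m ?_
          by_contra hh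
          apply hle
          intro k
          fin_cases k <;> simp <;> omega
      conv_lhs => rw [← divMonomial_add_modMonomial a11 (vec 1 1), hmod, add_zero, monomial_vec,
        pow_one, pow_one]
    simp only [map_add, Derivation.leibniz, smul_eq_mul, hDe, smul_zero, mul_zero,
      zero_add] at h0
    rw [hDu, hDv] at h0
    have h0' : expand 2 (X 1 * P * a10 + X 0 * Q * a01) +
        X 0 * expand 2 (X 0 * X 1 * (C τ * a10 + X 0 * Q * c)) +
        X 1 * expand 2 (X 0 * X 1 * (C τ * a01 + X 1 * P * c)) +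
        X 0 * X 1 * expand 2 0 = 0 := by
      simp only [map_add, map_mul, expand_X, expand_C, map_zero] at h0 ⊢
      linear_combination h0 -
        (X 0 * X 1 * C τ * (X 0 ^ 2 * X 1 ^ 2 * expand 2 c) * (X 0 ^ 2 * X 1 ^ 2)) * h2
    obtain ⟨-, e1, e2, -⟩ := comp_unique h0'
    have hcancel : ∀ p : MvPolynomial (Fin 2) R, X 0 * X 1 * p = 0 → p = 0 := by
      intro p hp
      rw [mul_assoc] at hp
      ext m
      have h1 := congrArg (coeff (Finsupp.single 0 1 + (Finsupp.single 1 1 + m))) hp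
      rw [coeff_X_mul, coeff_X_mul, coeff_zero] at h1
      rw [h1, coeff_zero]
    have hti : C τi * C τ = (1 : MvPolynomial (Fin 2) R) := by
      rw [← map_mul, ← hτu, hτi, Units.inv_mul, map_one]
    have ha10 : a10 = C τi * (X 0 * Q * c) := by
      linear_combination C τi * hcancel _ e1 - a10 * hti - (C τi * (X 0 * Q * c)) * h2
    have ha01 : a01 = C τi * (X 1 * P * c) := by
      linear_combination C τi * hcancel _ e2 - a01 * hti - (C τi * (X 1 * P * c)) * h2
    set T := Algebra.adjoin R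
      ({X 0 ^ 2, X 1 ^ 2,
        (C s0 * X 1 ^ 4 + C s2 * X 1 ^ 2 + C s4) * X 0 ^ 3 +
          (C l0 * X 0 ^ 4 + C l2 * X 0 ^ 2 + C l4) * X 1 ^ 3 +
          C τ * X 0 ^ 3 * X 1 ^ 3} : Set (MvPolynomial (Fin 2) R)) with hT
    have hexp : ∀ q : MvPolynomial (Fin 2) R, expand 2 q ∈ T := by
      intro q
      induction q using MvPolynomial.induction_on with
      | C r => rw [expand_C]; exact T.algebraMap_mem r
      | add p q hp hq => rw [map_add]; exact add_mem hp hq
      | mul_X p i hp =>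
        rw [map_mul, expand_X]
        refine mul_mem hp ?_
        fin_cases i
        · exact Algebra.subset_adjoin (Or.inl rfl)
        · exact Algebra.subset_adjoin (Or.inr (Or.inl rfl))
    have hg := Algebra.subset_adjoin (R := R) (s := ({X 0 ^ 2, X 1 ^ 2,
        (C s0 * X 1 ^ 4 + C s2 * X 1 ^ 2 + C s4) * X 0 ^ 3 +
          (C l0 * X 0 ^ 4 + C l2 * X 0 ^ 2 + C l4) * X 1 ^ 3 +
          C τ * X 0 ^ 3 * X 1 ^ 3} : Set (MvPolynomial (Fin 2) R))) (Or.inr (Or.inr rfl))
    rw [show expand 2 a00 + X 0 * expand 2 a10 + X 1 * expand 2 a01 +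
        X 0 * X 1 * expand 2 (X 0 * X 1 * c) = expand 2 a00 + expand 2 (C τi * c) *
          ((C s0 * X 1 ^ 4 + C s2 * X 1 ^ 2 + C s4) * X 0 ^ 3 +
          (C l0 * X 0 ^ 4 + C l2 * X 0 ^ 2 + C l4) * X 1 ^ 3 +
          C τ * X 0 ^ 3 * X 1 ^ 3) by
      rw [ha10, ha01, hP, hQ]
      simp only [map_add, map_mul, map_pow, expand_X, expand_C]
      linear_combination -(X 0 * X 1 * (X 0 ^ 2 * X 1 ^ 2 * expand 2 c)) * hti]
    exact add_mem (hexp _) (mul_mem (hexp _) hg)
  · intro h
    clear ha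
    induction h using Algebra.adjoin_induction with
    | algebraMap r => exact D.map_algebraMap r
    | add x y _ _ hx hy => rw [map_add, hx, hy, add_zero]
    | mul x y _ _ hx hy => rw [Derivation.leibniz, hx, hy, smul_zero, smul_zero, add_zero]
    | mem x hx =>
      rcases hx with rfl | rfl | rfl
      · rw [← expand_X]; exact hDe _
      · rw [← expand_X]; exact hDe _
      · rw [show (C s0 * X 1 ^ 4 + C s2 * X 1 ^ 2 + C s4) * X 0 ^ 3 +
            (C l0 * X 0 ^ 4 + C l2 * X 0 ^ 2 + C l4) * X 1 ^ 3 +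
            C τ * X 0 ^ 3 * X 1 ^ 3 = X 0 * expand 2 (X 0 * Q) + X 1 * expand 2 (X 1 * P) +
              X 0 * X 1 * expand 2 (C τ * X 0 * X 1) by
          simp [hP, hQ]; ring]
        simp only [map_add, Derivation.leibniz, smul_eq_mul, hDe, mul_zero, zero_add]
        rw [hDu, hDv]
        simp only [map_mul, expand_X, expand_C]
        linear_combination (X 1 ^ 2 * X 0 ^ 2 * expand 2 P * expand 2 Q +
          X 0 * X 1 * (X 0 ^ 4 * X 1 ^ 4 * C τ ^ 2) +
          X 1 * (X 0 ^ 2 * X 1 ^ 4) * C τ * expand 2 P + X 0 * (X 0 ^ 4 * X 1 ^ 2) * C τ * expand 2 Q) * h2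

end Groth.Agent.S13120
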