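import Groth.Statements.S13121
import Mathlib
-- import your own Groth.Agent.* helpers here

set_option autoImplicit false
universe u
open KumFam

namespace Groth.Agent.S13121

open MvPolynomial

theorem coeff_term {R : Type*} [CommRing R] (c : R) (i j : ℕ) (B : MvPolynomial (Fin 2) R) (m : Fin 2 →₀ ℕ)
    (h' : ¬ (i ≤ m 0 ∧ j ≤ m 1 ∧ 2 ∣ (m 0 - i) ∧ 2 ∣ (m 1 - j))) :
    (C c * X 0 ^ i * X 1 ^ j * expand 2 B).coeff m = 0 := by
  rw [X_pow_eq_monomial, X_pow_eq_monomial, C_mul_monomial, monomial_mul, coeff_monomial_mul']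
  split_ifs with hle
  · by_cases h0 : 2 ∣ (m 0 - i)
    · have h1 : ¬ 2 ∣ (m 1 - j) := fun h1 => h' ⟨by simpa using hle 0, by simpa using hle 1, h0, h1⟩
      rw [coeff_expand_of_not_dvd _ (i := 1) (by simpa using h1), mul_zero]
    · rw [coeff_expand_of_not_dvd _ (i := 0) (by simpa using h0), mul_zero]
  · rfl


open MvPolynomial in
/-- Let R be a commutative ring of characteristic 2 and l0, l2, l4, s0, s2, s4, τ ∈ R with τ a unit. In
R[u, v] (u = X 0, v = X 1) put g = (s0 v⁴ + s2 v² + s4) u³ + (l0 u⁴ + l2 u² + l4) v³ + τ u³ v³. Then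
the kernel of the R-algebra homomorphism R[a, b, c] → R[u, v] (a = X 0, b = X 1, c = X 2) with a ↦
u², b ↦ v², c ↦ g is the ideal generated by c² + s0² a³ b⁴ + s2² a³ b² + s4² a³ + l0² a⁴ b³ + l2² a²
b³ + l4² b³ + τ² a³ b³; its image is the subalgebra R[u², v², g], which is therefore presented by
this one equation. -/
theorem result (R : Type u) [CommRing R] [CharP R 2]
    (l0 l2 l4 s0 s2 s4 τ : R) (hτ : IsUnit τ) :
    RingHom.ker (MvPolynomial.aeval (R := R) (S₁ := MvPolynomial (Fin 2) R)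
        ![X 0 ^ 2, X 1 ^ 2,
          (C s0 * X 1 ^ 4 + C s2 * X 1 ^ 2 + C s4) * X 0 ^ 3 +
            (C l0 * X 0 ^ 4 + C l2 * X 0 ^ 2 + C l4) * X 1 ^ 3 +
            C τ * X 0 ^ 3 * X 1 ^ 3]) =
      Ideal.span {(X 2 ^ 2 + C (s0 ^ 2) * X 0 ^ 3 * X 1 ^ 4 + C (s2 ^ 2) * X 0 ^ 3 * X 1 ^ 2 +
        C (s4 ^ 2) * X 0 ^ 3 + C (l0 ^ 2) * X 0 ^ 4 * X 1 ^ 3 + C (l2 ^ 2) * X 0 ^ 2 * X 1 ^ 3 +
        C (l4 ^ 2) * X 1 ^ 3 + C (τ ^ 2) * X 0 ^ 3 * X 1 ^ 3 : MvPolynomial (Fin 3) R)} := by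
  classical
  haveI : CharP (MvPolynomial (Fin 2) R) 2 := inferInstance
  set φ := MvPolynomial.aeval (R := R) (S₁ := MvPolynomial (Fin 2) R)
        ![X 0 ^ 2, X 1 ^ 2,
          (C s0 * X 1 ^ 4 + C s2 * X 1 ^ 2 + C s4) * X 0 ^ 3 +
            (C l0 * X 0 ^ 4 + C l2 * X 0 ^ 2 + C l4) * X 1 ^ 3 +
            C τ * X 0 ^ 3 * X 1 ^ 3] with hφ
  set r0 : MvPolynomial (Fin 2) R := C (s0 ^ 2) * X 0 ^ 3 * X 1 ^ 4 + C (s2 ^ 2) * X 0 ^ 3 * X 1 ^ 2 +
        C (s4 ^ 2) * X 0 ^ 3 + C (l0 ^ 2) * X 0 ^ 4 * X 1 ^ 3 + C (l2 ^ 2) * X 0 ^ 2 * X 1 ^ 3 +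
        C (l4 ^ 2) * X 1 ^ 3 + C (τ ^ 2) * X 0 ^ 3 * X 1 ^ 3 with hr0
  let ε : MvPolynomial (Fin 2) R →ₐ[R] MvPolynomial (Fin 3) R := rename Fin.castSucc
  set P : MvPolynomial (Fin 3) R := X 2 ^ 2 + C (s0 ^ 2) * X 0 ^ 3 * X 1 ^ 4 + C (s2 ^ 2) * X 0 ^ 3 * X 1 ^ 2 +
        C (s4 ^ 2) * X 0 ^ 3 + C (l0 ^ 2) * X 0 ^ 4 * X 1 ^ 3 + C (l2 ^ 2) * X 0 ^ 2 * X 1 ^ 3 +
        C (l4 ^ 2) * X 1 ^ 3 + C (τ ^ 2) * X 0 ^ 3 * X 1 ^ 3 with hP
  have hPε : P = X 2 ^ 2 + ε r0 := by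
    simp only [hP, hr0, ε, map_add, map_mul, map_pow, rename_C, rename_X, Fin.castSucc_zero]
    rw [show (Fin.castSucc (1 : Fin 2) : Fin 3) = 1 from rfl]
    ring
  have hdec : ∀ F : MvPolynomial (Fin 3) R, ∃ A B, F - (ε A + X 2 * ε B) ∈ Ideal.span {P} := by
    intro F
    induction F using MvPolynomial.induction_on with
    | C a => exact ⟨C a, 0, by simp [ε]⟩
    | add F G hF hG =>
      obtain ⟨A, B, h⟩ := hF
      obtain ⟨A', B', h'⟩ := hG
      exact ⟨A + A', B + B', by convert add_mem h h' using 1; rw [map_add, map_add]; ring⟩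
    | mul_X F i hF =>
      obtain ⟨A, B, h⟩ := hF
      fin_cases i
      · refine ⟨A * X 0, B * X 0, ?_⟩
        have := Ideal.mul_mem_right (X (0 : Fin 3)) _ h
        convert this using 1
        simp only [ε, map_mul, rename_X, Fin.castSucc_zero, Fin.zero_eta]
        ring
      · refine ⟨A * X 1, B * X 1, ?_⟩
        have := Ideal.mul_mem_right (X (1 : Fin 3)) _ h
        convert this using 1
        simp only [ε, map_mul, rename_X, Fin.mk_one, show (Fin.castSucc (1 : Fin 2) : Fin 3) = 1 from rfl]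
        ring
      · refine ⟨-(B * r0), A, ?_⟩
        have := add_mem (Ideal.mul_mem_right (X (2 : Fin 3)) _ h)
          (Ideal.mul_mem_left _ (ε B) (Ideal.mem_span_singleton_self P))
        convert this using 1
        rw [hPε, map_neg, map_mul]
        simp only [Fin.reduceFinMk]
        ring
  have hφε : φ.comp ε = expand 2 := MvPolynomial.algHom_ext fun i => by
    fin_cases i
    · simp [φ, ε]
    · simp [φ, ε, show (Fin.castSucc (1 : Fin 2) : Fin 3) = 1 from rfl]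
  have hφP : φ P = 0 := by
    have h2 : (2 : MvPolynomial (Fin 2) R) = 0 := CharP.cast_eq_zero (MvPolynomial (Fin 2) R) 2
    have hX : φ (X 2) = (C s0 * X 1 ^ 4 + C s2 * X 1 ^ 2 + C s4) * X 0 ^ 3 +
        (C l0 * X 0 ^ 4 + C l2 * X 0 ^ 2 + C l4) * X 1 ^ 3 + C τ * X 0 ^ 3 * X 1 ^ 3 := by simp [φ]
    rw [hPε, map_add, map_pow, hX, ← AlgHom.comp_apply φ ε, hφε, hr0]
    simp only [map_add, map_mul, map_pow, expand_C, expand_X]
    simp only [CharTwo.add_sq, mul_pow, ← pow_mul, add_mul]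
    ring_nf
    simp [h2]
  refine le_antisymm (fun F hF => ?_) ((Ideal.span_le).2 (Set.singleton_subset_iff.2 hφP))
  obtain ⟨A, B, h⟩ := hdec F
  have h0 : φ (ε A + X 2 * ε B) = 0 := by
    obtain ⟨Q, hQ⟩ := Ideal.mem_span_singleton.1 h
    have h1 := congrArg φ hQ
    rw [map_sub, map_mul, hφP, zero_mul, RingHom.mem_ker.1 hF, zero_sub, neg_eq_zero] at h1
    exact h1
  rw [map_add, map_mul, ← AlgHom.comp_apply φ ε A, ← AlgHom.comp_apply φ ε B, hφε] at h0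
  have hX : φ (X 2) = C s0 * X 0 ^ 3 * X 1 ^ 4 + C s2 * X 0 ^ 3 * X 1 ^ 2 + C s4 * X 0 ^ 3 * X 1 ^ 0 +
      C l0 * X 0 ^ 4 * X 1 ^ 3 + C l2 * X 0 ^ 2 * X 1 ^ 3 + C l4 * X 0 ^ 0 * X 1 ^ 3 +
      C τ * X 0 ^ 3 * X 1 ^ 3 := by simp [φ]; ring
  have hB : B = 0 := by
    refine MvPolynomial.ext _ _ fun d => ?_
    let m : Fin 2 →₀ ℕ := 2 • d + (Finsupp.single 0 3 + Finsupp.single 1 3)
    have h1 := congrArg (fun p => coeff m p) h0
    simp only [hX, add_mul, coeff_add, coeff_zero] at h1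
    have m0 : m 0 = 2 * d 0 + 3 := by simp [m]
    have m1 : m 1 = 2 * d 1 + 3 := by simp [m]
    have hA : coeff m (expand 2 A) = 0 := coeff_expand_of_not_dvd _ (i := 0) (by rw [m0]; omega)
    have hτB : coeff m (C τ * X 0 ^ 3 * X 1 ^ 3 * expand 2 B) = τ * coeff d B := by
      rw [X_pow_eq_monomial, X_pow_eq_monomial, C_mul_monomial, monomial_mul, coeff_monomial_mul',
        if_pos (by simp [m]), mul_one, mul_one]
      simp only [m, add_tsub_cancel_right]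
      rw [coeff_expand_smul _ (by norm_num)]
    simp (disch := (rw [m0, m1]; omega)) only [coeff_term, hA, hτB, zero_add, add_zero] at h1
    rw [coeff_zero]
    exact hτ.mul_right_eq_zero.1 h1
  have hA : A = 0 := by
    rw [hB] at h0
    simp only [map_zero, mul_zero, add_zero] at h0
    exact expand_injective (σ := Fin 2) (R := R) two_pos (h0.trans (map_zero _).symm)
  simpa [hA, hB] using h

end Groth.Agent.S13121
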