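import Groth.Statements.S13122
import Groth.Agent.S13120

set_option autoImplicit false
universe u
open KumFam

namespace Groth.Agent.S13122

open MvPolynomial in
/-- Let R be a commutative ring of characteristic 2 and l0, l2, l4, s0, s2, s4, τ ∈ R with τ a unit. On
R[x, y] (x = X 0, y = X 1; the coordinates u⁻¹, v⁻¹ of the smooth chart of the product of two
cuspidal curves) let D be the R-derivation with D(x) = l4 x⁴ + l2 x² + τ x + l0 and D(y) = s4 y⁴ +
s2 y² + τ y + s0, and put h = (s4 y⁴ + s2 y² + s0) x + (l4 x⁴ + l2 x² + l0) y + τ x y. Then: (1) for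
p ∈ R[x, y], D(p) = 0 if and only if p lies in the image of the R-algebra homomorphism R[a, b, c] →
R[x, y] (a = X 0, b = X 1, c = X 2) with a ↦ x², b ↦ y², c ↦ h; (2) the kernel of that homomorphism
is the ideal generated by c² + τ² a b + (s4² b⁴ + s2² b² + s0²) a + (l4² a⁴ + l2² a² + l0²) b. (The
published statement asserts that the ring of invariants of the action of the group scheme of square
roots of unity given by this vector field is R[a, b, c] modulo this equation, by the same
computation as on the other chart; this row pins the generator h and states the kernel computation.) -/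
theorem result (R : Type u) [CommRing R]
    [CharP R 2] (l0 l2 l4 s0 s2 s4 τ : R) (hτ : IsUnit τ) :
    (∀ p : MvPolynomial (Fin 2) R,
      MvPolynomial.mkDerivation R
          (![C l4 * X 0 ^ 4 + C l2 * X 0 ^ 2 + C τ * X 0 + C l0,
            C s4 * X 1 ^ 4 + C s2 * X 1 ^ 2 + C τ * X 1 + C s0] :
            Fin 2 → MvPolynomial (Fin 2) R) p = 0 ↔
        p ∈ (MvPolynomial.aeval (R := R) (S₁ := MvPolynomial (Fin 2) R)
          ![X 0 ^ 2, X 1 ^ 2,
            (C s4 * X 1 ^ 4 + C s2 * X 1 ^ 2 + C s0) * X 0 +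
              (C l4 * X 0 ^ 4 + C l2 * X 0 ^ 2 + C l0) * X 1 + C τ * X 0 * X 1]).range) ∧
    RingHom.ker (MvPolynomial.aeval (R := R) (S₁ := MvPolynomial (Fin 2) R)
        ![X 0 ^ 2, X 1 ^ 2,
          (C s4 * X 1 ^ 4 + C s2 * X 1 ^ 2 + C s0) * X 0 +
            (C l4 * X 0 ^ 4 + C l2 * X 0 ^ 2 + C l0) * X 1 + C τ * X 0 * X 1]) =
      Ideal.span {(X 2 ^ 2 + C (τ ^ 2) * X 0 * X 1 +
        (C (s4 ^ 2) * X 1 ^ 4 + C (s2 ^ 2) * X 1 ^ 2 + C (s0 ^ 2)) * X 0 +
        (C (l4 ^ 2) * X 0 ^ 4 + C (l2 ^ 2) * X 0 ^ 2 + C (l0 ^ 2)) * X 1 : MvPolynomial (Fin 3) R)} := by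
  classical
  obtain ⟨τu, hτu⟩ := hτ
  set τi : R := ((τu⁻¹ : Rˣ) : R) with hτi
  have hti : (C τi * C τ : MvPolynomial (Fin 2) R) = 1 := by
    rw [← map_mul, ← hτu, hτi, Units.inv_mul, map_one]
  have h2 : (2 : MvPolynomial (Fin 2) R) = 0 := by
    rw [show (2 : MvPolynomial (Fin 2) R) = C 2 from (map_ofNat C 2).symm, CharTwo.two_eq_zero (R := R), map_zero]
  have h2' : (2 : MvPolynomial (Fin 3) R) = 0 := by
    rw [show (2 : MvPolynomial (Fin 3) R) = C 2 from (map_ofNat C 2).symm, CharTwo.two_eq_zero (R := R), map_zero]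
  set D := MvPolynomial.mkDerivation R
    (![C l4 * X 0 ^ 4 + C l2 * X 0 ^ 2 + C τ * X 0 + C l0,
      C s4 * X 1 ^ 4 + C s2 * X 1 ^ 2 + C τ * X 1 + C s0] : Fin 2 → MvPolynomial (Fin 2) R) with hD
  set ψ := MvPolynomial.aeval (R := R) (S₁ := MvPolynomial (Fin 2) R)
    ![X 0 ^ 2, X 1 ^ 2,
      (C s4 * X 1 ^ 4 + C s2 * X 1 ^ 2 + C s0) * X 0 +
        (C l4 * X 0 ^ 4 + C l2 * X 0 ^ 2 + C l0) * X 1 + C τ * X 0 * X 1] with hψ
  set L : MvPolynomial (Fin 2) R := C l4 * X 0 ^ 2 + C l2 * X 0 + C l0 with hL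
  set S : MvPolynomial (Fin 2) R := C s4 * X 1 ^ 2 + C s2 * X 1 + C s0 with hS
  have heL : expand 2 L = C l4 * X 0 ^ 4 + C l2 * X 0 ^ 2 + C l0 := by
    simp [hL]; ring
  have heS : expand 2 S = C s4 * X 1 ^ 4 + C s2 * X 1 ^ 2 + C s0 := by
    simp [hS]; ring
  let lift : MvPolynomial (Fin 2) R →ₐ[R] MvPolynomial (Fin 3) R := rename Fin.castSucc
  have hlift : ∀ q, ψ (lift q) = expand 2 q := by
    have : ψ.comp lift = expand 2 := algHom_ext fun i => by fin_cases i <;> simp [lift, hψ]
    exact AlgHom.congr_fun this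
  have hψ2 : ψ (X 2) = expand 2 S * X 0 + expand 2 L * X 1 + C τ * X 0 * X 1 := by
    rw [heS, heL, hψ, aeval_X]; rfl
  have hDx : D (X 0) = expand 2 L + C τ * X 0 := by
    rw [hD, mkDerivation_X, heL]; simp; ring
  have hDy : D (X 1) = expand 2 S + C τ * X 1 := by
    rw [hD, mkDerivation_X, heS]; simp; ring
  have hDe : ∀ q : MvPolynomial (Fin 2) R, D (expand 2 q) = 0 := by
    intro q
    induction q using MvPolynomial.induction_on with
    | C r => rw [expand_C]; exact derivation_C _ _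
    | add p q hp hq => rw [map_add, map_add, hp, hq, add_zero]
    | mul_X p i hp =>
      rw [map_mul, Derivation.leibniz, hp, expand_X, pow_two, Derivation.leibniz, smul_zero, add_zero]
      simp only [smul_eq_mul]
      linear_combination (expand 2 p * X i * D (X i)) * h2
  refine ⟨fun p => ⟨fun h0 => ?_, ?_⟩, ?_⟩
  · obtain ⟨a, b, c, d, rfl⟩ := Groth.Agent.S13120.exists_comp p
    simp only [map_add, Derivation.leibniz, smul_eq_mul, hDe, mul_zero, zero_add, hDx, hDy] at h0
    have h0' : expand 2 (b * L + c * S) + X 0 * expand 2 (C τ * b + d * S) +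
        X 1 * expand 2 (C τ * c + d * L) + X 0 * X 1 * expand 2 0 = 0 := by
      simp only [map_add, map_mul, expand_C, map_zero, mul_zero, add_zero]
      linear_combination h0 - (C τ * X 0 * X 1 * expand 2 d) * h2
    obtain ⟨-, eb, ec, -⟩ := Groth.Agent.S13120.comp_unique h0'
    have hb : b = C τi * d * S := by linear_combination C τi * eb - b * hti - (C τi * d * S) * h2
    have hc : c = C τi * d * L := by linear_combination C τi * ec - c * hti - (C τi * d * L) * h2
    refine ⟨lift a + lift (C τi * d) * X 2, ?_⟩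
    change ψ (lift a + lift (C τi * d) * X 2) = _
    rw [map_add, map_mul, hlift, hlift, hψ2, hb, hc]
    simp only [map_mul, expand_C]
    linear_combination (X 0 * X 1 * expand 2 d) * hti
  · rintro ⟨q, rfl⟩
    change D (ψ q) = 0
    induction q using MvPolynomial.induction_on with
    | C r => rw [algHom_C]; exact D.map_algebraMap r
    | add p q hp hq => rw [map_add, map_add, hp, hq, add_zero]
    | mul_X p i hp =>
      have hi : D (ψ (X i)) = 0 := by
        fin_cases i
        · have := hDe (X 0); rwa [expand_X, ← show ψ (X 0) = X 0 ^ 2 by simp [hψ]] at this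
        · have := hDe (X 1); rwa [expand_X, ← show ψ (X 1) = X 1 ^ 2 by simp [hψ]] at this
        · show D (ψ (X 2)) = 0
          simp only [hψ2, map_add, Derivation.leibniz, smul_eq_mul, hDe, derivation_C, mul_zero, add_zero,
            zero_add, hDx, hDy]
          linear_combination (expand 2 S * expand 2 L + C τ * X 0 * expand 2 S + C τ * X 1 * expand 2 L +
            C τ * C τ * X 0 * X 1) * h2
      rw [map_mul, Derivation.leibniz, hp, hi, smul_zero, smul_zero, add_zero]
  · set F : MvPolynomial (Fin 3) R := X 2 ^ 2 + C (τ ^ 2) * X 0 * X 1 +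
        (C (s4 ^ 2) * X 1 ^ 4 + C (s2 ^ 2) * X 1 ^ 2 + C (s0 ^ 2)) * X 0 +
        (C (l4 ^ 2) * X 0 ^ 4 + C (l2 ^ 2) * X 0 ^ 2 + C (l0 ^ 2)) * X 1 with hF
    set G : MvPolynomial (Fin 2) R := C (τ ^ 2) * X 0 * X 1 +
        (C (s4 ^ 2) * X 1 ^ 4 + C (s2 ^ 2) * X 1 ^ 2 + C (s0 ^ 2)) * X 0 +
        (C (l4 ^ 2) * X 0 ^ 4 + C (l2 ^ 2) * X 0 ^ 2 + C (l0 ^ 2)) * X 1 with hG
    have hFG : F = X 2 ^ 2 + lift G := by
      simp [hF, hG, lift]; ring
    have hψF : ψ F = 0 := by
      rw [hFG, map_add, map_pow, hψ2, hlift, hG, heS, heL]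
      simp only [map_add, map_mul, map_pow, expand_C, expand_X]
      linear_combination (C τ ^ 2 * X 0 ^ 2 * X 1 ^ 2 +
        ((C s4 ^ 2 * X 1 ^ 8 + C s2 ^ 2 * X 1 ^ 4 + C s0 ^ 2) + C s4 * C s2 * X 1 ^ 6 + C s4 * C s0 * X 1 ^ 4 +
          C s2 * C s0 * X 1 ^ 2) * X 0 ^ 2 +
        ((C l4 ^ 2 * X 0 ^ 8 + C l2 ^ 2 * X 0 ^ 4 + C l0 ^ 2) + C l4 * C l2 * X 0 ^ 6 + C l4 * C l0 * X 0 ^ 4 +
          C l2 * C l0 * X 0 ^ 2) * X 1 ^ 2 +
        (C s4 * X 1 ^ 4 + C s2 * X 1 ^ 2 + C s0) * (C l4 * X 0 ^ 4 + C l2 * X 0 ^ 2 + C l0) * X 0 * X 1 +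
        (C s4 * X 1 ^ 4 + C s2 * X 1 ^ 2 + C s0) * C τ * X 0 ^ 2 * X 1 +
        (C l4 * X 0 ^ 4 + C l2 * X 0 ^ 2 + C l0) * C τ * X 0 * X 1 ^ 2) * h2
    have hdiv : ∀ q : MvPolynomial (Fin 3) R, ∃ a b : MvPolynomial (Fin 2) R,
        q - (lift a + lift b * X 2) ∈ Ideal.span {F} := by
      intro q
      induction q using MvPolynomial.induction_on with
      | C r => exact ⟨C r, 0, by simp [lift]⟩
      | add p q hp hq =>
        obtain ⟨a, b, h⟩ := hp
        obtain ⟨a', b', h'⟩ := hq
        refine ⟨a + a', b + b', ?_⟩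
        have := add_mem h h'
        convert this using 1
        simp only [map_add]; ring
      | mul_X p i hp =>
        obtain ⟨a, b, h⟩ := hp
        fin_cases i
        · refine ⟨a * X 0, b * X 0, ?_⟩
          have := Ideal.mul_mem_right (X 0) _ h
          convert this using 1
          simp [lift]; ring
        · refine ⟨a * X 1, b * X 1, ?_⟩
          have := Ideal.mul_mem_right (X 1) _ h
          convert this using 1
          simp [lift]; ring
        · refine ⟨b * G, a, ?_⟩
          have := add_mem (Ideal.mul_mem_right (X 2) _ h)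
            (Ideal.mul_mem_left (Ideal.span {F}) (lift b) (Ideal.mem_span_singleton_self F))
          convert this using 1
          rw [hFG]
          simp only [map_mul]
          change p * X 2 - (lift b * lift G + lift a * X 2) = _
          linear_combination -(lift b * lift G) * h2'
    refine le_antisymm (fun q hq => ?_) ?_
    · obtain ⟨a, b, h⟩ := hdiv q
      have hq0 : ψ q = 0 := hq
      have : ψ (lift a + lift b * X 2) = 0 := by
        obtain ⟨c, hc⟩ := Ideal.mem_span_singleton'.1 h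
        have := congrArg ψ hc
        rwa [map_mul, hψF, mul_zero, map_sub, hq0, zero_sub, eq_comm, neg_eq_zero] at this
      have h0' : expand 2 a + X 0 * expand 2 (b * S) + X 1 * expand 2 (b * L) +
          X 0 * X 1 * expand 2 (C τ * b) = 0 := by
        rw [map_add, map_mul, hlift, hlift, hψ2] at this
        simp only [map_mul, expand_C]
        linear_combination this
      obtain ⟨ha, -, -, hb⟩ := Groth.Agent.S13120.comp_unique h0'
      have hb0 : b = 0 := by linear_combination C τi * hb - b * hti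
      simpa [ha, hb0] using h
    · rw [Ideal.span_singleton_le_iff_mem]
      exact hψF

end Groth.Agent.S13122
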