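import Groth.Statements.S13124
import Mathlib
-- import your own Groth.Agent.* helpers here

set_option autoImplicit false
universe u v w
open KumFam
open scoped TensorProduct

namespace Groth.Agent.S13124

/-- Let k be a commutative ring, A a commutative k-bialgebra that is flat over k, and R a commutative
k-algebra which is an integrally closed domain, with a coaction R → R ⊗ A that is an algebra
homomorphism. Then the ring of invariants (the elements f with coaction f ⊗ 1) is an integrally
closed domain. (The published statement is for a finite group scheme acting on a normal scheme whose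
quotient is, locally, the spectrum of the ring of invariants; this row is the affine integral case
and allows any commutative bialgebra flat over k, flatness being automatic over a field.) -/
theorem result (k : Type u) [CommRing k]
    (A : Type v) [CommRing A] [Bialgebra k A] [Module.Flat k A]
    (R : Type w) [CommRing R] [Algebra k R] [IsDomain R] [IsIntegrallyClosed R]
    [HopfRep.Comod k A R] [GLin.IsCoactAlg k A R] :
    IsIntegrallyClosed (GLin.invariants k A R) := by
  let T := GLin.invariants k A R
  refine (isIntegrallyClosed_iff (FractionRing T)).2 fun {x} hx => ?_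
  obtain ⟨⟨a, b⟩, hab⟩ := IsLocalization.surj (nonZeroDivisors T) x
  have hb0 : ((b : T) : R) ≠ 0 := fun h => nonZeroDivisors.ne_zero b.2 (Subtype.ext h)
  have hinj : Function.Injective (algebraMap T (FractionRing R)) := by
    rw [IsScalarTower.algebraMap_eq T R (FractionRing R)]
    exact (IsFractionRing.injective R (FractionRing R)).comp Subtype.val_injective
  let ι : FractionRing T →ₐ[T] FractionRing R := IsFractionRing.liftAlgHom (g := Algebra.ofId T (FractionRing R)) hinj
  obtain ⟨y, hy⟩ := (isIntegrallyClosed_iff (FractionRing R)).1 ‹_› (x := ι x)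
    ((hx.map ι).tower_top (A := R))
  have hyb : y * (b : T) = (a : R) := by
    refine IsFractionRing.injective R (FractionRing R) ?_
    have h := congrArg ι hab
    rw [map_mul, AlgHom.commutes, AlgHom.commutes] at h
    rw [map_mul, hy]
    exact h
  have hreg : ∀ z : R ⊗[k] A, ((b : T) : R) ⊗ₜ[k] (1 : A) * z = 0 → z = 0 := fun z hz => by
    have hi : Function.Injective ((LinearMap.mulLeft k ((b : T) : R)).rTensor A) :=
      Module.Flat.rTensor_preserves_injective_linearMap _ (mul_right_injective₀ hb0)
    have he : ∀ w : R ⊗[k] A,
        (LinearMap.mulLeft k ((b : T) : R)).rTensor A w = ((b : T) : R) ⊗ₜ[k] (1 : A) * w := fun w => by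
      induction w using TensorProduct.induction_on with
      | zero => simp
      | tmul r c => simp
      | add u v hu hv => rw [map_add, mul_add, hu, hv]
    exact hi ((he z).trans (hz.trans (map_zero _).symm))
  have hyT : y ∈ T := by
    show HopfRep.Comod.coact (k := k) (A := A) y = y ⊗ₜ[k] (1 : A)
    refine sub_eq_zero.1 (hreg _ ?_)
    have hbm : HopfRep.Comod.coact (k := k) (A := A) ((b : T) : R) = ((b : T) : R) ⊗ₜ[k] (1 : A) := (b : T).2
    have ham : HopfRep.Comod.coact (k := k) (A := A) (a : R) = (a : R) ⊗ₜ[k] (1 : A) := a.2
    rw [mul_sub, ← hbm, ← GLin.IsCoactAlg.coact_mul, mul_comm, hyb, ham, hbm, Algebra.TensorProduct.tmul_mul_tmul,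
      mul_comm, hyb, one_mul, sub_self]
  refine ⟨⟨y, hyT⟩, ι.toRingHom.injective ?_⟩
  show ι (algebraMap T (FractionRing T) ⟨y, hyT⟩) = ι x
  rw [AlgHom.commutes, ← hy]
  rfl

end Groth.Agent.S13124
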