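import Groth.Statements.S13126
import Mathlib
-- import your own Groth.Agent.* helpers here

set_option autoImplicit false
universe u
open KumFam

namespace Groth.Agent.S13126

theorem pi_zero {R ι : Type*} [CommRing R] {A : Type*} [CommRing A] [Algebra R A] {B : ι → Type*} [∀ i, CommRing (B i)]
    [∀ i, Algebra R (B i)] (g : ∀ i, A →ₐ[R] B i) (f : A) (h : AlgHom.pi g f = 0) (i : ι) : g i f = 0 :=
  congrFun h i

open Polynomial in
/-- Let R be a commutative ring, n a natural number which is a unit in R, and ζ ∈ R with ζ^n = 1 and 1 −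
ζ^i a unit for 0 < i < n (a primitive n-th root of unity in the fibrewise sense: the powers ζ^0, …,
ζ^(n−1) are roots of X^n − 1 with pairwise unit differences; over an integral domain in which n is a
unit this is the same as ζ having multiplicative order n). Then the R-algebra homomorphism R[X] →
(Fin n → R) sending a polynomial to its values at ζ^0, …, ζ^(n−1) is surjective and its kernel is
the ideal generated by X^n − 1; hence R[X]/(X^n − 1) ≅ R^n as R-algebras, i.e. the scheme of n-th
roots of unity over Spec R is the disjoint union of n copies of Spec R. (The published statement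
asks that R contain a primitive n-th root of unity without defining the term; its Chinese-remainder
argument uses that the ideals (X − ζ^i), i < n, are pairwise comaximal, which is the unit-difference
condition taken as the hypothesis here, whereas under the reading 'ζ has multiplicative order n'
alone the surjectivity fails over a product of two fields. The published statement also asserts that
the isomorphism respects the group-scheme structures of the n-th roots of unity and of the constant
group ℤ/n; this row does not state that.) -/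
theorem result (R : Type u) [CommRing R]
    (n : ℕ) (hn : IsUnit (n : R)) (ζ : R) (hζ : ζ ^ n = 1)
    (hprim : ∀ i : ℕ, 0 < i → i < n → IsUnit (1 - ζ ^ i)) :
    Function.Surjective (AlgHom.pi (fun i : Fin n => Polynomial.aeval (R := R) (ζ ^ (i : ℕ)))) ∧
      RingHom.ker (AlgHom.pi (fun i : Fin n => Polynomial.aeval (R := R) (ζ ^ (i : ℕ)))) =
        Ideal.span {(X ^ n - 1 : R[X])} := by
  classical
  rcases subsingleton_or_nontrivial R with hR | hR
  · exact ⟨fun y => ⟨0, Subsingleton.elim _ _⟩, Subsingleton.elim _ _⟩
  let v : Fin n → R := fun i => ζ ^ (i : ℕ)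
  have hu : ∀ i : ℕ, IsUnit (ζ ^ i) := fun i => by
    rcases Nat.eq_zero_or_pos n with rfl | hn0
    · simp at hn
    exact (IsUnit.of_mul_eq_one (ζ ^ (n - 1)) (by rw [← pow_succ', Nat.sub_add_cancel hn0, hζ])).pow i
  have hdet : IsUnit (Matrix.vandermonde v).det := by
    rw [Matrix.det_vandermonde]
    refine IsUnit.prod_iff.2 fun i _ => IsUnit.prod_iff.2 fun j hj => ?_
    have hij' : i < j := Finset.mem_Ioi.1 hj
    have hij : (i : ℕ) < j := hij'
    have h1 : ζ ^ (i : ℕ) - ζ ^ (j : ℕ) = ζ ^ (i : ℕ) * (1 - ζ ^ ((j : ℕ) - i)) := by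
      rw [mul_sub, mul_one, ← pow_add, Nat.add_sub_cancel' hij.le]
    have h2 : IsUnit (v i - v j) := by
      show IsUnit (ζ ^ (i : ℕ) - ζ ^ (j : ℕ))
      rw [h1]
      exact (hu _).mul (hprim _ (Nat.sub_pos_of_lt hij) (lt_of_le_of_lt (Nat.sub_le _ _) j.2))
    simpa using h2.neg
  have hval : ∀ c : Fin n → R, AlgHom.pi (fun i : Fin n => Polynomial.aeval (R := R) (ζ ^ (i : ℕ)))
      (∑ j : Fin n, C (c j) * X ^ (j : ℕ)) = (Matrix.vandermonde v).mulVec c := fun c => funext fun i => by
    show Polynomial.aeval (R := R) (ζ ^ (i : ℕ)) (∑ j : Fin n, C (c j) * X ^ (j : ℕ)) = _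
    simp only [map_sum, map_mul, aeval_C, map_pow, aeval_X, Matrix.mulVec, dotProduct, Algebra.algebraMap_self_apply, Matrix.vandermonde_apply]
    exact Finset.sum_congr rfl fun j _ => mul_comm _ _
  have hbij := (Matrix.mulVec_surjective_iff_isUnit.2 ((Matrix.isUnit_iff_isUnit_det _).2 hdet))
  refine ⟨fun y => ?_, le_antisymm (fun f hf => ?_) ?_⟩
  · obtain ⟨c, rfl⟩ := hbij y
    exact ⟨_, hval c⟩
  · have hn0 : 0 < n := Nat.pos_of_ne_zero fun h => by subst h; simp at hn
    have hm : (X ^ n - 1 : R[X]).Monic := monic_X_pow_sub_C (1 : R) hn0.ne'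
    rw [Ideal.mem_span_singleton]
    rw [← Polynomial.modByMonic_eq_zero_iff_dvd hm]
    set g := f %ₘ (X ^ n - 1) with hg
    have hdeg : g.natDegree < n := by
      have := Polynomial.natDegree_modByMonic_lt f hm (by
        intro h
        have := congrArg Polynomial.natDegree h
        rw [← map_one (C : R →+* R[X]), natDegree_X_pow_sub_C, natDegree_C] at this
        omega)
      rwa [← map_one (C : R →+* R[X]), natDegree_X_pow_sub_C] at this
    have hsum : ∑ j : Fin n, C (g.coeff j) * X ^ (j : ℕ) = g := by
      conv_rhs => rw [g.as_sum_range' n hdeg]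
      rw [Finset.sum_range]
      exact Finset.sum_congr rfl fun j _ => (C_mul_X_pow_eq_monomial).trans rfl
    clear_value g
    have h0 : (Matrix.vandermonde v).mulVec (fun j => g.coeff j) = 0 := by
      rw [← hval, hsum]
      funext i
      have hroot : Polynomial.aeval (R := R) (ζ ^ (i : ℕ)) (X ^ n - 1 : R[X]) = 0 := by
        rw [map_sub, map_pow, aeval_X, map_one, ← pow_mul, mul_comm, pow_mul, hζ, one_pow, sub_self]
      have hf0 : AlgHom.pi (fun i : Fin n => Polynomial.aeval (R := R) (ζ ^ (i : ℕ))) f = 0 := RingHom.mem_ker.1 hf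
      have hf' : Polynomial.aeval (R := R) (ζ ^ (i : ℕ)) f = 0 := pi_zero _ f hf0 i
      rw [← Polynomial.modByMonic_add_div f (X ^ n - 1), map_add, map_mul, hroot, zero_mul, add_zero] at hf'
      show Polynomial.aeval (R := R) (ζ ^ (i : ℕ)) g = 0
      rw [hg]
      exact hf'
    have hinj : Function.Injective (Matrix.vandermonde v).mulVec :=
      Matrix.mulVec_injective_of_isUnit ((Matrix.isUnit_iff_isUnit_det _).2 hdet)
    have hz : (fun j : Fin n => g.coeff j) = 0 := by
      apply hinj
      rw [h0, Matrix.mulVec_zero]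
    rw [← hsum]
    exact Finset.sum_eq_zero fun j _ => by rw [show g.coeff j = 0 from congrFun hz j, map_zero, zero_mul]
  · rw [Ideal.span_le, Set.singleton_subset_iff, SetLike.mem_coe, RingHom.mem_ker]
    funext i
    show Polynomial.aeval (R := R) (ζ ^ (i : ℕ)) (X ^ n - 1 : R[X]) = 0
    rw [map_sub, map_pow, aeval_X, map_one, ← pow_mul, mul_comm, pow_mul, hζ, one_pow, sub_self]

end Groth.Agent.S13126
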