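import Groth.Statements.S13127
import Groth.Agent.MvInv51.Char2

set_option autoImplicit false
universe u
open KumFam

namespace Groth.Agent.S13127

open MvPowerSeries in
/-- Let R be a commutative ring of characteristic 2 and l0, l2, l4, s0, s2, s4, τ, lam, sig ∈ R with l4,
s4, lam, sig units, and let κ₁, κ₂ ∈ R satisfy s4² κ₁³ = sig² and l4² κ₂³ = lam² (cube roots of
sig²/s4² and lam²/l4²). In the power series ring R[[a, b, c]] (a = X 0, b = X 1, c = X 2) put F = c²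
+ s0² a³ b⁴ + s2² a³ b² + s4² a³ + l0² a⁴ b³ + l2² a² b³ + l4² b³ + τ² a³ b³ and F₀ = c² + sig² a³ +
lam² b³. Then some R-algebra automorphism of R[[a, b, c]] maps F to F₀; consequently R[[a, b,
c]]/(F) ≅ R[[a, b, c]]/(F₀). (In the published statement lam, sig are the representatives in the
ground field of the residues of l4, s4 at a rational point, so that F₀ is the equation of the
special fibre made constant; this row takes them to be arbitrary units.) -/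
theorem result (R : Type u) [CommRing R] [CharP R 2]
    (l0 l2 l4 s0 s2 s4 τ lam sig κ₁ κ₂ : R) (hl4 : IsUnit l4) (hs4 : IsUnit s4) (hlam : IsUnit lam)
    (hsig : IsUnit sig) (h₁ : s4 ^ 2 * κ₁ ^ 3 = sig ^ 2) (h₂ : l4 ^ 2 * κ₂ ^ 3 = lam ^ 2) :
    ∃ φ : MvPowerSeries (Fin 3) R ≃ₐ[R] MvPowerSeries (Fin 3) R,
      φ ((X 2 ^ 2 + C (s0 ^ 2) * X 0 ^ 3 * X 1 ^ 4 + C (s2 ^ 2) * X 0 ^ 3 * X 1 ^ 2 +
          C (s4 ^ 2) * X 0 ^ 3 + C (l0 ^ 2) * X 0 ^ 4 * X 1 ^ 3 + C (l2 ^ 2) * X 0 ^ 2 * X 1 ^ 3 +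
          C (l4 ^ 2) * X 1 ^ 3 + C (τ ^ 2) * X 0 ^ 3 * X 1 ^ 3 : MvPowerSeries (Fin 3) R)) =
        (X 2 ^ 2 + C (sig ^ 2) * X 0 ^ 3 + C (lam ^ 2) * X 1 ^ 3 : MvPowerSeries (Fin 3) R) := by
  obtain ⟨uL, rfl⟩ := hl4
  obtain ⟨uS, rfl⟩ := hs4
  have hk₁ : IsUnit κ₁ := by
    have : IsUnit ((uS : R) ^ 2 * κ₁ ^ 3) := h₁ ▸ hsig.pow 2
    exact (isUnit_pow_iff (by norm_num)).1 (IsUnit.mul_iff.1 this).2
  have hk₂ : IsUnit κ₂ := by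
    have : IsUnit ((uL : R) ^ 2 * κ₂ ^ 3) := h₂ ▸ hlam.pow 2
    exact (isUnit_pow_iff (by norm_num)).1 (IsUnit.mul_iff.1 this).2
  obtain ⟨k₁, rfl⟩ := hk₁
  obtain ⟨k₂, rfl⟩ := hk₂
  have hX : ∀ i : Fin 3, constantCoeff (X i : MvPowerSeries (Fin 3) R) = 0 := constantCoeff_X
  have hg₁ : C ((uS⁻¹ : Rˣ) : R) ^ 2 * (C ((uS : R) ^ 2) + C (s2 ^ 2) * X 1 ^ 2 +
      C (s0 ^ 2) * X 1 ^ 4 + C (τ ^ 2) * X 1 ^ 3) - 1 ∈ Groth.Agent.MvInv51.J (τ := Fin 3) (R := R) 1 := by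
    rw [Groth.Agent.MvInv51.mem_J_one]
    simp [hX, ← mul_pow]
  have hg₂ : C ((uL⁻¹ : Rˣ) : R) ^ 2 * (C ((uL : R) ^ 2) + C (l2 ^ 2) * X 0 ^ 2 +
      C (l0 ^ 2) * X 0 ^ 4) - 1 ∈ Groth.Agent.MvInv51.J (τ := Fin 3) (R := R) 1 := by
    rw [Groth.Agent.MvInv51.mem_J_one]
    simp [hX, ← mul_pow]
  obtain ⟨w₁, hw₁, e₁⟩ := Groth.Agent.MvInv51.exists_cube_root hg₁
  obtain ⟨w₂, hw₂, e₂⟩ := Groth.Agent.MvInv51.exists_cube_root hg₂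
  let a : Fin 3 → MvPowerSeries (Fin 3) R :=
    ![C ((k₁⁻¹ : Rˣ) : R) * (X 0 * (1 + w₁)), C ((k₂⁻¹ : Rˣ) : R) * (X 1 * (1 + w₂)), X 2]
  have ha : ∀ i, a i - C ((![k₁⁻¹, k₂⁻¹, 1] : Fin 3 → Rˣ) i : R) * X i ∈
      Groth.Agent.MvInv51.J 2 := by
    intro i
    fin_cases i
    · simpa [a, mul_add] using Ideal.mul_mem_left _ (C ((k₁⁻¹ : Rˣ) : R))
        (Groth.Agent.MvInv51.mul_mem_J (Groth.Agent.MvInv51.X_mem_J_one (0 : Fin 3)) hw₁)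
    · simpa [a, mul_add] using Ideal.mul_mem_left _ (C ((k₂⁻¹ : Rˣ) : R))
        (Groth.Agent.MvInv51.mul_mem_J (Groth.Agent.MvInv51.X_mem_J_one (1 : Fin 3)) hw₂)
    · simp [a]
  obtain ⟨φ, hφ⟩ := Groth.Agent.MvInv51.exists_algEquiv a ![k₁⁻¹, k₂⁻¹, 1] ha
  refine ⟨φ, Eq.trans (congrArg φ ?_) (hφ _)⟩
  have hs : HasSubst a := hasSubst_of_constantCoeff_zero fun i => by
    fin_cases i <;> simp [a, hX]
  have c₁ : (C sig : MvPowerSeries (Fin 3) R) ^ 2 = C (uS : R) ^ 2 * C (k₁ : R) ^ 3 := by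
    rw [← map_pow, ← map_pow, ← map_pow, ← map_mul, h₁]
  have c₂ : (C lam : MvPowerSeries (Fin 3) R) ^ 2 = C (uL : R) ^ 2 * C (k₂ : R) ^ 3 := by
    rw [← map_pow, ← map_pow, ← map_pow, ← map_mul, h₂]
  have i₁ : (C (k₁ : R) : MvPowerSeries (Fin 3) R) * C ((k₁⁻¹ : Rˣ) : R) = 1 := by
    rw [← map_mul, Units.mul_inv, map_one]
  have i₂ : (C (k₂ : R) : MvPowerSeries (Fin 3) R) * C ((k₂⁻¹ : Rˣ) : R) = 1 := by
    rw [← map_mul, Units.mul_inv, map_one]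
  have j₁ : (C (uS : R) : MvPowerSeries (Fin 3) R) * C ((uS⁻¹ : Rˣ) : R) = 1 := by
    rw [← map_mul, Units.mul_inv, map_one]
  have j₂ : (C (uL : R) : MvPowerSeries (Fin 3) R) * C ((uL⁻¹ : Rˣ) : R) = 1 := by
    rw [← map_mul, Units.mul_inv, map_one]
  simp only [map_pow] at e₁ e₂ ⊢
  rw [subst_add hs, subst_add hs, subst_mul hs, subst_mul hs, subst_pow hs, subst_pow hs,
    subst_pow hs, subst_pow hs, subst_pow hs, subst_C, subst_C, subst_X hs, subst_X hs, subst_X hs,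
    c₁, c₂]
  have E₁ : (C (uS : R) : MvPowerSeries (Fin 3) R) ^ 2 * C (k₁ : R) ^ 3 * a 0 ^ 3 =
      X 0 ^ 3 * (C (uS : R) ^ 2 + C s2 ^ 2 * X 1 ^ 2 + C s0 ^ 2 * X 1 ^ 4 + C τ ^ 2 * X 1 ^ 3) := by
    calc _ = C (uS : R) ^ 2 * (C (k₁ : R) * C ((k₁⁻¹ : Rˣ) : R)) ^ 3 * X 0 ^ 3 * (1 + w₁) ^ 3 := by
          simp only [a, Matrix.cons_val_zero]; ring
      _ = _ := by
          rw [i₁, e₁]
          linear_combination (X 0 ^ 3 * (C (uS : R) ^ 2 + C s2 ^ 2 * X 1 ^ 2 + C s0 ^ 2 * X 1 ^ 4 +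
            C τ ^ 2 * X 1 ^ 3)) * (C (uS : R) * C ((uS⁻¹ : Rˣ) : R) + 1) * j₁
  have E₂ : (C (uL : R) : MvPowerSeries (Fin 3) R) ^ 2 * C (k₂ : R) ^ 3 * a 1 ^ 3 =
      X 1 ^ 3 * (C (uL : R) ^ 2 + C l2 ^ 2 * X 0 ^ 2 + C l0 ^ 2 * X 0 ^ 4) := by
    calc _ = C (uL : R) ^ 2 * (C (k₂ : R) * C ((k₂⁻¹ : Rˣ) : R)) ^ 3 * X 1 ^ 3 * (1 + w₂) ^ 3 := by
          simp only [a, Matrix.cons_val_one, Matrix.cons_val_zero]; ring
      _ = _ := by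
          rw [i₂, e₂]
          linear_combination (X 1 ^ 3 * (C (uL : R) ^ 2 + C l2 ^ 2 * X 0 ^ 2 + C l0 ^ 2 * X 0 ^ 4)) *
            (C (uL : R) * C ((uL⁻¹ : Rˣ) : R) + 1) * j₂
  rw [E₁, E₂, show a 2 = X 2 from rfl]
  ring

end Groth.Agent.S13127
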