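import Groth.Statements.S13128
import Groth.Agent.MvInv51.Char2

set_option autoImplicit false
universe u
open KumFam

namespace Groth.Agent.S13128

open MvPowerSeries in
/-- Let R be a commutative ring of characteristic 2, l0, l2, l4, s0, s2, s4, τ ∈ R with τ a unit, and α,
β ∈ R with l4² α⁴ + l2² α² + τ² α + l0² = 0 and s4² β⁴ + s2² β² + τ² β + s0² = 0. In characteristic
2 these relations give τ² α = (l4 α² + l2 α + l0)² and τ² β = (s4 β² + s2 β + s0)², so α = α′² and β
= β′² with α′ = (l4 α² + l2 α + l0)/τ and β′ = (s4 β² + s2 β + s0)/τ. In R[[a, b, c]] (a = X 0, b =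
X 1, c = X 2) put h = c² + τ² a b + (s4² b⁴ + s2² b²) a + (l4² a⁴ + l2² a²) b + l4² β a⁴ + l2² β a²
+ s4² α b⁴ + s2² α b²; this is the chart equation c² + τ² a b + (s4² b⁴ + s2² b² + s0²) a + (l4² a⁴
+ l2² a² + l0²) b after the substitution a ↦ a + α, b ↦ b + β, c ↦ c + τ α′ β′, which moves the
point (α, β, τ α′ β′) of that surface, where all partial derivatives vanish, to the origin. Then
some R-algebra automorphism of R[[a, b, c]] maps h to c² + a b; consequently R[[a, b, c]]/(h) ≅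
R[[a, b, c]]/(c² + a b), the completed local ring of an ordinary double point, constant over R. (The
published statement translates only a and b, so that its h carries the additional constant term τ² α
β; with that term h is a unit of R[[a, b, c]] whenever τ α β is a unit, for instance c² + a b + 1
over the field with two elements with l0 = s0 = τ = α = β = 1 and l2 = l4 = s2 = s4 = 0, and no ring
automorphism carries a unit to c² + a b. The published proof begins by shifting c by a polynomial in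
a, b whose constant term is τ α′ β′, a substitution of the polynomial ring which removes the term τ²
α β, and the rest of its argument takes place in R[[a, b, c]]; this row states the result for the
fully translated equation, which is what that argument proves.) -/
theorem result (R : Type u) [CommRing R] [CharP R 2]
    (l0 l2 l4 s0 s2 s4 τ α β : R) (hτ : IsUnit τ)
    (hα : l4 ^ 2 * α ^ 4 + l2 ^ 2 * α ^ 2 + τ ^ 2 * α + l0 ^ 2 = 0)
    (hβ : s4 ^ 2 * β ^ 4 + s2 ^ 2 * β ^ 2 + τ ^ 2 * β + s0 ^ 2 = 0) :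
    ∃ φ : MvPowerSeries (Fin 3) R ≃ₐ[R] MvPowerSeries (Fin 3) R,
      φ ((X 2 ^ 2 + C (τ ^ 2) * X 0 * X 1 + (C (s4 ^ 2) * X 1 ^ 4 + C (s2 ^ 2) * X 1 ^ 2) * X 0 +
          (C (l4 ^ 2) * X 0 ^ 4 + C (l2 ^ 2) * X 0 ^ 2) * X 1 + C (l4 ^ 2 * β) * X 0 ^ 4 +
          C (l2 ^ 2 * β) * X 0 ^ 2 + C (s4 ^ 2 * α) * X 1 ^ 4 + C (s2 ^ 2 * α) * X 1 ^ 2 :
          MvPowerSeries (Fin 3) R)) =
        (X 2 ^ 2 + X 0 * X 1 : MvPowerSeries (Fin 3) R) := by
  obtain ⟨ut, rfl⟩ := hτ
  have h2 : (2 : MvPowerSeries (Fin 3) R) = 0 := Groth.Agent.MvInv51.two_eq_zero_mvPowerSeries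
  have r2 : (2 : R) = 0 := CharTwo.two_eq_zero
  let iv : R := ((ut⁻¹ : Rˣ) : R)
  have hiv : (ut : R) * iv = 1 := ut.mul_inv
  let α' : R := iv * (l4 * α ^ 2 + l2 * α + l0)
  let β' : R := iv * (s4 * β ^ 2 + s2 * β + s0)
  have hα' : α' ^ 2 = α := by
    linear_combination iv ^ 2 * hα - α * ((ut : R) * iv + 1) * hiv +
      (iv ^ 2 * (l4 * l2 * α ^ 3 + l4 * l0 * α ^ 2 + l2 * l0 * α) - α) * r2
  have hβ' : β' ^ 2 = β := by
    linear_combination iv ^ 2 * hβ - β * ((ut : R) * iv + 1) * hiv +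
      (iv ^ 2 * (s4 * s2 * β ^ 3 + s4 * s0 * β ^ 2 + s2 * s0 * β) - β) * r2
  let q : MvPowerSeries (Fin 3) R := C (β' * l4) * X 0 ^ 2 + C (β' * l2) * X 0 +
    C (α' * s4) * X 1 ^ 2 + C (α' * s2) * X 1
  let W : MvPowerSeries (Fin 3) R := C ((ut : R) ^ 2) + C (s4 ^ 2) * X 1 ^ 3 +
    C (s2 ^ 2) * X 1 + C (l4 ^ 2) * X 0 ^ 3 + C (l2 ^ 2) * X 0
  let t : Fin 3 → MvPowerSeries (Fin 3) R := ![X 0, X 1, X 2 + q]
  let a : Fin 3 → MvPowerSeries (Fin 3) R := ![X 0 * W, X 1, X 2]
  have hX : ∀ i : Fin 3, constantCoeff (X i : MvPowerSeries (Fin 3) R) = 0 := constantCoeff_X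
  have hst : HasSubst t := hasSubst_of_constantCoeff_zero fun i => by
    fin_cases i <;> simp [t, q, hX]
  have hsa : HasSubst a := hasSubst_of_constantCoeff_zero fun i => by
    fin_cases i <;> simp [a, hX]
  have htt : ∀ i, subst t (t i) = X i := by
    intro i
    fin_cases i <;> simp only [t, q, Fin.zero_eta, Fin.mk_one, Fin.reduceFinMk, Matrix.cons_val]
    · rw [subst_X hst]; rfl
    · rw [subst_X hst]; rfl
    · simp only [subst_add hst, subst_mul hst, subst_pow hst, subst_C, subst_X hst, t, q,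
        Matrix.cons_val]
      linear_combination (C (β' * l4) * X 0 ^ 2 + C (β' * l2) * X 0 +
        C (α' * s4) * X 1 ^ 2 + C (α' * s2) * X 1) * h2
  have hinv : ∀ f : MvPowerSeries (Fin 3) R, subst t (subst t f) = f := fun f => by
    rw [subst_comp_subst_apply hst hst, show (fun s => subst t (t s)) = X from funext htt,
      subst_self, id]
  let T : MvPowerSeries (Fin 3) R ≃ₐ[R] MvPowerSeries (Fin 3) R :=
    AlgEquiv.ofBijective (substAlgHom (R := R) hst) ⟨
      Function.LeftInverse.injective (g := subst t) fun f => by rw [substAlgHom_apply, hinv],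
      fun f => ⟨subst t f, by rw [substAlgHom_apply, hinv]⟩⟩
  have hW : W - C ((ut : R) ^ 2) ∈ Groth.Agent.MvInv51.J 1 := by
    rw [Groth.Agent.MvInv51.mem_J_one]
    simp [W, hX]
  have ha : ∀ i, a i - C ((![ut ^ 2, 1, 1] : Fin 3 → Rˣ) i : R) * X i ∈
      Groth.Agent.MvInv51.J 2 := by
    intro i
    fin_cases i
    · have := Groth.Agent.MvInv51.mul_mem_J (Groth.Agent.MvInv51.X_mem_J_one (0 : Fin 3)) hW
      simpa [a, mul_sub, mul_comm] using this
    · simp [a]
    · simp [a]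
  obtain ⟨φ, hφ⟩ := Groth.Agent.MvInv51.exists_algEquiv a ![ut ^ 2, 1, 1] ha
  refine ⟨T.trans φ, Eq.trans (congrArg φ ?_) (hφ _)⟩
  change substAlgHom (R := R) hst _ = _
  rw [substAlgHom_apply]
  refine Eq.trans (congrArg (subst t) ?_) (hinv _)
  simp only [subst_add hsa, subst_mul hsa, subst_pow hsa, subst_X hsa, a, Matrix.cons_val]
  have hA : (C (α : R) : MvPowerSeries (Fin 3) R) = C α' ^ 2 := by rw [← map_pow, hα']
  have hB : (C (β : R) : MvPowerSeries (Fin 3) R) = C β' ^ 2 := by rw [← map_pow, hβ']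
  simp only [W, subst_add hst, subst_mul hst, subst_pow hst, subst_C, subst_X hst]
  simp only [t, q, Matrix.cons_val, map_mul, map_pow, hA, hB]
  linear_combination (-(X 2 * (C β' * C l4 * X 0 ^ 2 + C β' * C l2 * X 0 + C α' * C s4 * X 1 ^ 2 + C α' * C s2 * X 1) +
    C β' * C l4 * X 0 ^ 2 * (C β' * C l2 * X 0) +
    C β' * C l4 * X 0 ^ 2 * (C α' * C s4 * X 1 ^ 2) +
    C β' * C l4 * X 0 ^ 2 * (C α' * C s2 * X 1) +
    C β' * C l2 * X 0 * (C α' * C s4 * X 1 ^ 2) +
    C β' * C l2 * X 0 * (C α' * C s2 * X 1) +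
    C α' * C s4 * X 1 ^ 2 * (C α' * C s2 * X 1))) * h2

end Groth.Agent.S13128
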