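import Groth.Statements.S13131
import Mathlib
-- import your own Groth.Agent.* helpers here

set_option autoImplicit false
universe u
open CategoryTheory CategoryTheory.Limits AlgebraicGeometry
open KumFam

namespace Groth.Agent.S13131

/-- Let S be a scheme, M a set and p : T → S a scheme over S. The S-morphisms T → ∐_{m ∈ M} S (the
constant S-scheme on M, with its structure map the codiagonal) are in bijection with the locally
constant maps T → M, a morphism f corresponding to the function sending t to the index of the copy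
of S containing f(t). (In the published statement M is a group and ∐_M S the constant group scheme;
the group structures play no role in this description of T-points.) -/
theorem result (S : Scheme.{u}) (M : Type u)
    (T : Scheme.{u}) (p : T ⟶ S) :
    ∃ e : {f : T ⟶ ∐ (fun _ : M => S) // f ≫ Sigma.desc (fun _ : M => 𝟙 S) = p} ≃
        LocallyConstant T M,
      ∀ (f : {f : T ⟶ ∐ (fun _ : M => S) // f ≫ Sigma.desc (fun _ : M => 𝟙 S) = p}) (t : T),
        e f t = ((sigmaMk (fun _ : M => S)).symm (f.1.base t)).1 := by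
  classical
  let X : M → Scheme.{u} := fun _ => S
  let idx : ↥(∐ X) → M := fun x => ((sigmaMk X).symm x).1
  have hidx : IsLocallyConstant idx := by
    have h0 : IsLocallyConstant (fun z : (Σ m : M, ↥(X m)) => z.1) :=
      IsLocallyConstant.iff_isOpen_fiber.2 fun m => by
        rw [isOpen_sigma_iff]
        intro i
        by_cases hi : i = m
        · subst hi
          convert isOpen_univ using 1
          ext z
          exact ⟨fun _ => trivial, fun _ => rfl⟩
        · convert isOpen_empty using 1
          ext z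
          simp [hi]
    exact h0.comp_continuous (sigmaMk X).symm.continuous
  let F : {f : T ⟶ ∐ X // f ≫ Sigma.desc (fun _ : M => 𝟙 S) = p} → LocallyConstant T M := fun f =>
    ⟨fun t => idx (f.1.base t), hidx.comp_continuous f.1.continuous⟩
  have hι : ∀ m (x : S), idx ((Sigma.ι X m).base x) = m := fun m x => by
    show ((sigmaMk X).symm ((Sigma.ι X m).base x)).1 = m
    rw [← sigmaMk_mk (f := X) m x, Homeomorph.symm_apply_apply]
  suffices h : Function.Bijective F by exact ⟨Equiv.ofBijective F h, fun f t => rfl⟩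
  refine ⟨fun f g hfg => ?_, fun φ => ?_⟩
  · -- two sections with the same index function agree on the open pieces
    let U : M → T.Opens := fun m => ⟨{t | idx (f.1.base t) = m}, (hidx.comp_continuous f.1.continuous).isOpen_fiber m⟩
    have hU : iSup U = ⊤ := TopologicalSpace.Opens.ext (Set.eq_univ_of_forall fun t => by
      rw [TopologicalSpace.Opens.coe_iSup]
      exact Set.mem_iUnion.2 ⟨idx (f.1.base t), rfl⟩)
    refine Subtype.ext ((Scheme.openCoverOfIsOpenCover T U hU).hom_ext _ _ fun m => ?_)
    have hfac : ∀ h : {f : T ⟶ ∐ X // f ≫ Sigma.desc (fun _ : M => 𝟙 S) = p},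
        (∀ t : T, idx (h.1.base t) = idx (f.1.base t)) → (U m).ι ≫ h.1 = ((U m).ι ≫ p) ≫ Sigma.ι X m := fun h hh => by
      have hr : Set.range ((U m).ι ≫ h.1).base ⊆ Set.range (Sigma.ι X m).base := by
        rintro _ ⟨t, rfl⟩
        have ht : idx (h.1.base ((U m).ι.base t)) = m := (hh _).trans t.2
        obtain ⟨⟨i, x⟩, hx⟩ := (sigmaMk X).surjective (h.1.base ((U m).ι.base t))
        rw [sigmaMk_mk] at hx
        have hxi : i = m := by
          rw [← hx, hι] at ht
          exact ht
        subst hxi
        exact ⟨x, hx⟩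
      have h1 := IsOpenImmersion.lift_fac (Sigma.ι X m) ((U m).ι ≫ h.1) hr
      have h2 : IsOpenImmersion.lift (Sigma.ι X m) ((U m).ι ≫ h.1) hr = (U m).ι ≫ p := by
        have h3 := congrArg (· ≫ Sigma.desc (fun _ : M => 𝟙 S)) h1
        simp only [Category.assoc, h.2] at h3
        rw [show Sigma.ι X m ≫ Sigma.desc (fun _ : M => 𝟙 S) = 𝟙 S from Sigma.ι_desc _ _] at h3
        exact ((Category.comp_id _).symm.trans h3).trans (congrArg ((U m).ι ≫ ·) h.2)
      rw [← h1, h2]
    show (U m).ι ≫ f.1 = (U m).ι ≫ g.1
    rw [hfac f fun _ => rfl, hfac g fun t => (congrArg (fun e : LocallyConstant T M => e t) hfg).symm]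
  · let U : M → T.Opens := fun m => ⟨φ ⁻¹' {m}, φ.isLocallyConstant.isOpen_fiber m⟩
    have hU : iSup U = ⊤ := TopologicalSpace.Opens.ext (Set.eq_univ_of_forall fun t => by
      rw [TopologicalSpace.Opens.coe_iSup]
      exact Set.mem_iUnion.2 ⟨φ t, rfl⟩)
    let 𝒰 := Scheme.openCoverOfIsOpenCover T U hU
    let g : ∀ m, 𝒰.X m ⟶ ∐ X := fun m => ((U m).ι ≫ p) ≫ Sigma.ι X m
    have hg : ∀ m n, pullback.fst (𝒰.f m) (𝒰.f n) ≫ g m = pullback.snd (𝒰.f m) (𝒰.f n) ≫ g n := fun m n => by
      by_cases hmn : m = n
      · subst hmn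
        show pullback.fst (U m).ι (U m).ι ≫ g m = pullback.snd (U m).ι (U m).ι ≫ g m
        rw [fst_eq_snd_of_mono_eq]
      · haveI : IsEmpty ↥(pullback (𝒰.f m) (𝒰.f n)) := ⟨fun z => by
          have h1 := congrArg (fun h => h.base z) (pullback.condition (f := (U m).ι) (g := (U n).ι))
          simp only [Scheme.Hom.comp_base, TopCat.comp_app] at h1
          have hm : φ ((U m).ι.base ((pullback.fst (U m).ι (U n).ι).base z)) = m := ((pullback.fst (U m).ι (U n).ι).base z).2
          have hn : φ ((U n).ι.base ((pullback.snd (U m).ι (U n).ι).base z)) = n := ((pullback.snd (U m).ι (U n).ι).base z).2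
          exact hmn (hm.symm.trans ((congrArg φ h1).trans hn))⟩
        exact (isInitialOfIsEmpty).hom_ext _ _
    refine ⟨⟨𝒰.glueMorphisms g hg, 𝒰.hom_ext _ _ fun m => ?_⟩, ?_⟩
    · rw [← Category.assoc, 𝒰.ι_glueMorphisms]
      show (((U m).ι ≫ p) ≫ Sigma.ι X m) ≫ _ = (U m).ι ≫ p
      simp
    · refine LocallyConstant.ext fun t => ?_
      show idx ((𝒰.glueMorphisms g hg).base t) = φ t
      have := congrArg (fun h => h.base ⟨t, (rfl : φ t = φ t)⟩) (𝒰.ι_glueMorphisms g hg (φ t))
      simp only [Scheme.Hom.comp_base, TopCat.comp_app] at this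
      erw [this]
      exact hι _ _

end Groth.Agent.S13131
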