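import Groth.Statements.S13132
import Groth.Agent.CAlg7.ArtinFlat

set_option autoImplicit false
universe u v
open CAlg

namespace Groth.Agent.S13132

open Groth.Agent.CAlg7.ArtinFlat RingTheory.Sequence in
theorem nzd_iff {R : Type*} [CommRing R] (f : R) : f ∈ nonZeroDivisors R ↔ IsSMulRegular R f := by
  rw [mem_nonZeroDivisors_iff_left]
  exact ⟨fun h x y hxy => sub_eq_zero.1 (h _ (by rw [mul_sub]; exact sub_eq_zero.2 hxy)),
    fun h x hx => h (show f • x = f • 0 by rw [smul_eq_mul, smul_eq_mul, hx, mul_zero])⟩

open Groth.Agent.CAlg7.ArtinFlat RingTheory.Sequence in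

/-- Let A' be an Artinian local ring, I a proper ideal of A' and S' a flat A'-algebra. An element f' of
S' is a non-zero-divisor exactly when its image in S'/IS' is one; and when f' is a non-zero-divisor,
the quotient S'/(f') is flat over A'. (The published statement is for local Artinian algebras with a
fixed residue field over a ring of Witt vectors and a surjection between two of them; the argument
uses only that A' is Artinian local and I is a proper ideal, which is the form taken here.) -/
theorem result
    {A' : Type u} [CommRing A'] [IsArtinianRing A'] [IsLocalRing A'] (I : Ideal A') (hI : I ≠ ⊤)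
    {S' : Type v} [CommRing S'] [Algebra A' S'] [Module.Flat A' S'] (f' : S') :
    (f' ∈ nonZeroDivisors S' ↔
      Ideal.Quotient.mk (I.map (algebraMap A' S')) f' ∈ nonZeroDivisors (S' ⧸ I.map (algebraMap A' S'))) ∧
    (f' ∈ nonZeroDivisors S' → Module.Flat A' (S' ⧸ Ideal.span {f'})) := by
  have h1 : IsWeaklyRegular (S' ⧸ (I.map (algebraMap A' S') • (⊤ : Submodule S' S'))) [f'] ↔
      IsWeaklyRegular S' [f'] := isWeaklyRegular_iff hI [f']
  rw [isWeaklyRegular_quot _ Ideal.Quotient.mk_surjective Ideal.mk_ker] at h1
  simp only [List.map_cons, List.map_nil, isWeaklyRegular_singleton_iff] at h1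
  refine ⟨by rw [nzd_iff, nzd_iff, h1], fun h => ?_⟩
  haveI := flat_of_isWeaklyRegular (A := A') [f'] ((isWeaklyRegular_singleton_iff S' f').2 ((nzd_iff f').1 h))
  exact Module.Flat.of_linearEquiv (((Submodule.quotEquivOfEq (Ideal.ofList [f'] • (⊤ : Submodule S' S'))
    (Ideal.span {f'}) (by rw [Ideal.ofList_singleton, smul_eq_mul, Ideal.mul_top])).restrictScalars A').symm)

end Groth.Agent.S13132
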