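import Groth.Statements.S13133
import Groth.Agent.CAlg7.ArtinFlat

set_option autoImplicit false
universe u v
open CAlg

namespace Groth.Agent.S13133

open Groth.Agent.CAlg7.ArtinFlat RingTheory.Sequence in

/-- Let A' be an Artinian local ring, I a proper ideal of A', S' a flat A'-algebra and f'_1, …, f'_n
elements of S' with n ≥ 1. A family f'_1, …, f'_n in S' is a regular sequence exactly when its
reduction modulo I·S' is a regular sequence of S'/IS'. (Regular sequences are defined in the
published text over Noetherian rings; this row does not assume S' Noetherian, which the argument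
does not use. The published statement is for a surjection of local Artinian algebras with a fixed
residue field over a ring of Witt vectors; only the Artinian local base and the proper ideal are
used, which is the form taken here.) -/
theorem result
    {A' : Type u} [CommRing A'] [IsArtinianRing A'] [IsLocalRing A'] (I : Ideal A') (hI : I ≠ ⊤)
    {S' : Type v} [CommRing S'] [Algebra A' S'] [Module.Flat A' S'] {n : ℕ} (hn : 1 ≤ n)
    (f' : Fin n → S') :
    RingTheory.Sequence.IsRegular S' (List.ofFn f') ↔
      RingTheory.Sequence.IsRegular (S' ⧸ I.map (algebraMap A' S'))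
        (List.ofFn fun i => Ideal.Quotient.mk (I.map (algebraMap A' S')) (f' i)) := by
  let π := Ideal.Quotient.mk (I.map (algebraMap A' S'))
  have hw := (isWeaklyRegular_quot π Ideal.Quotient.mk_surjective Ideal.mk_ker (List.ofFn f')).symm.trans
    (isWeaklyRegular_iff hI _)
  rw [List.map_ofFn] at hw
  rw [isRegular_iff, isRegular_iff]
  refine and_congr hw.symm (not_congr ?_)
  simp only [smul_eq_mul, Ideal.mul_top]
  have hl : Ideal.ofList (List.ofFn fun i => π (f' i)) = (Ideal.ofList (List.ofFn f')).map π := by
    rw [Ideal.map_ofList, List.map_ofFn]; rfl
  rw [eq_comm, hl, eq_comm (a := (⊤ : Ideal (S' ⧸ _))),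
    span_ne_top_iff π Ideal.Quotient.mk_surjective (by rw [Ideal.mk_ker]; exact isNilpotent_map hI)]

end Groth.Agent.S13133
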