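import Groth.Statements.S13134
import Groth.Agent.CAlg7.ArtinFlat
import Mathlib.RingTheory.Flat.EquationalCriterion
import Mathlib.RingTheory.Polynomial.Basic
import Mathlib.Algebra.MvPolynomial.Eval
import Mathlib.RingTheory.Ideal.Maps

set_option autoImplicit false
universe u v
open CAlg

namespace Groth.Agent.S13134

open Groth.Agent.CAlg7.ArtinFlat in

/-- Let A' be an Artinian local ring, I a proper ideal, A = A'/I and f_1, …, f_m ∈ A[x_1, …, x_n]. Every
flat A'-algebra B' equipped with a surjection π onto A[x]/(f_1, …, f_m) with kernel I·B', compatible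
with A' → A, is a quotient of A'[x_1, …, x_n] by the ideal generated by some lifts f'_1, …, f'_m of
the f_i, compatibly with π and with reduction of polynomials modulo I. (The published statement is
for a surjection of local Artinian algebras with a fixed residue field over a ring of Witt vectors;
only the Artinian local base and the proper ideal are used, which is the form taken here.) -/
theorem result
    {A' : Type u} [CommRing A'] [IsArtinianRing A'] [IsLocalRing A'] (I : Ideal A') (hI : I ≠ ⊤)
    {n m : ℕ} (f : Fin m → MvPolynomial (Fin n) (A' ⧸ I))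
    {B' : Type v} [CommRing B'] [Algebra A' B'] [Module.Flat A' B']
    (π : B' →+* MvPolynomial (Fin n) (A' ⧸ I) ⧸ Ideal.span (Set.range f))
    (hπ : Function.Surjective π) (hker : RingHom.ker π = I.map (algebraMap A' B'))
    (hcomp : π.comp (algebraMap A' B') =
      ((Ideal.Quotient.mk (Ideal.span (Set.range f))).comp MvPolynomial.C).comp (Ideal.Quotient.mk I)) :
    ∃ (f' : Fin m → MvPolynomial (Fin n) A') (ψ : MvPolynomial (Fin n) A' →ₐ[A'] B'),
      (∀ i, MvPolynomial.map (Ideal.Quotient.mk I) (f' i) = f i) ∧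
      Function.Surjective ψ ∧ RingHom.ker ψ.toRingHom = Ideal.span (Set.range f') ∧
      ∀ q, π (ψ q) = Ideal.Quotient.mk (Ideal.span (Set.range f)) (MvPolynomial.map (Ideal.Quotient.mk I) q) := by
  classical
  let S' := MvPolynomial (Fin n) A'
  let red : S' →+* MvPolynomial (Fin n) (A' ⧸ I) := MvPolynomial.map (Ideal.Quotient.mk I)
  have hred : Function.Surjective red := MvPolynomial.map_surjective _ Ideal.Quotient.mk_surjective
  have hredker : RingHom.ker red = I.map (algebraMap A' S') := by
    rw [MvPolynomial.ker_map, Ideal.mk_ker, MvPolynomial.algebraMap_eq]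
  let mk := Ideal.Quotient.mk (Ideal.span (Set.range f))
  choose t ht using fun i : Fin n => hπ (mk (MvPolynomial.X i))
  let ψ : S' →ₐ[A'] B' := MvPolynomial.aeval t
  have hcompat : ∀ q, π (ψ q) = mk (red q) := by
    refine RingHom.congr_fun (MvPolynomial.ringHom_ext (f := π.comp ψ.toRingHom) (g := mk.comp red) (fun r => ?_) (fun i => ?_))
    · show π (MvPolynomial.aeval t (MvPolynomial.C r)) = mk (red (MvPolynomial.C r))
      rw [MvPolynomial.aeval_C, MvPolynomial.map_C]
      exact RingHom.congr_fun hcomp r
    · show π (MvPolynomial.aeval t (MvPolynomial.X i)) = mk (red (MvPolynomial.X i))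
      rw [MvPolynomial.aeval_X, MvPolynomial.map_X]
      exact ht i
  have hmapI : (I.map (algebraMap A' S')).map ψ.toRingHom = I.map (algebraMap A' B') := by
    rw [Ideal.map_map, AlgHom.toRingHom_eq_coe, AlgHom.comp_algebraMap]
  obtain ⟨N, hN⟩ := isNilpotent_map (S := S') hI
  have hsurj : Function.Surjective ψ := by
    have step : ∀ b : B', ∃ q, b - ψ q ∈ I.map (algebraMap A' B') := by
      intro b
      obtain ⟨p, hp⟩ := Ideal.Quotient.mk_surjective (π b)
      obtain ⟨q, rfl⟩ := hred p
      exact ⟨q, by rw [← hker, RingHom.mem_ker, map_sub, hcompat, hp, sub_self]⟩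
    let J := I.map (algebraMap A' B')
    have key : ∀ (k : ℕ) (b : B'), ∃ q, b - ψ q ∈ J ^ k := by
      intro k
      induction k with
      | zero => exact fun b => ⟨0, by rw [pow_zero, Ideal.one_eq_top]; trivial⟩
      | succ k ih =>
        have h2 : ∀ c ∈ J ^ k, ∃ q, c - ψ q ∈ J ^ (k + 1) := by
          intro c hc
          rw [← Ideal.map_pow] at hc
          induction hc using Submodule.span_induction with
          | zero => exact ⟨0, by simp⟩
          | add u v _ _ hu hv =>
            obtain ⟨a, ha⟩ := hu; obtain ⟨b, hb⟩ := hv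
            exact ⟨a + b, by rw [map_add, add_sub_add_comm]; exact add_mem ha hb⟩
          | mem u hu =>
            obtain ⟨a, -, rfl⟩ := hu
            exact ⟨algebraMap A' S' a, by simp⟩
          | smul r u hu' hu =>
            obtain ⟨a, ha⟩ := hu
            obtain ⟨q, hq⟩ := step r
            refine ⟨q * a, ?_⟩
            rw [map_mul, smul_eq_mul, show r * u - ψ q * ψ a = (r - ψ q) * u + ψ q * (u - ψ a) by ring]
            refine add_mem ?_ (Ideal.mul_mem_left _ _ ha)
            rw [pow_succ']
            refine Ideal.mul_mem_mul hq ?_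
            show u ∈ J ^ k
            rw [← Ideal.map_pow]
            exact hu'
        intro b
        obtain ⟨q, hq⟩ := ih b
        obtain ⟨q', hq'⟩ := h2 _ hq
        exact ⟨q + q', by rwa [map_add, ← sub_sub]⟩
    intro b
    obtain ⟨q, hq⟩ := key N b
    have hJN : J ^ N = ⊥ := by
      show (I.map (algebraMap A' B')) ^ N = ⊥
      rw [← hmapI, ← Ideal.map_pow, hN, Ideal.zero_eq_bot, Ideal.map_bot]
    rw [hJN, Ideal.mem_bot, sub_eq_zero] at hq
    exact ⟨q, hq.symm⟩
  let K := RingHom.ker ψ.toRingHom
  have hlift : ∀ i, ∃ q : S', red q = f i ∧ q ∈ K := by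
    intro i
    obtain ⟨g, hg⟩ := hred (f i)
    have h1 : ψ g ∈ I.map (algebraMap A' B') := by
      rw [← hker, RingHom.mem_ker, hcompat, hg, Ideal.Quotient.eq_zero_iff_mem]
      exact Ideal.subset_span ⟨i, rfl⟩
    rw [← hmapI] at h1
    obtain ⟨e, he, hee⟩ := (Ideal.mem_map_iff_of_surjective ψ.toRingHom hsurj).1 h1
    refine ⟨g - e, ?_, ?_⟩
    · rw [← hredker, RingHom.mem_ker] at he
      rw [map_sub, he, hg, sub_zero]
    · show ψ (g - e) = 0
      rw [map_sub, show ψ e = ψ g from hee, sub_self]
  choose f' hf' hf'K using hlift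
  refine ⟨f', ψ, hf', hsurj, ?_, hcompat⟩
  let F : Ideal S' := Ideal.span (Set.range f')
  have hFK : F ≤ K := by rw [Ideal.span_le]; rintro _ ⟨i, rfl⟩; exact hf'K i
  have hKle : K ≤ F ⊔ I.map (algebraMap A' S') := by
    intro q hq
    have h1 : mk (red q) = 0 := by rw [← hcompat, show ψ q = 0 from hq, map_zero]
    rw [Ideal.Quotient.eq_zero_iff_mem, show Ideal.span (Set.range f) = F.map red by
      rw [Ideal.map_span, ← Set.range_comp, show (red ∘ f') = f from funext hf']] at h1
    obtain ⟨p, hp, hpq⟩ := (Ideal.mem_map_iff_of_surjective red hred).1 h1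
    refine Submodule.mem_sup.2 ⟨p, hp, q - p, ?_, by ring⟩
    rw [← hredker, RingHom.mem_ker, map_sub, hpq, sub_self]
  have hinter : K ⊓ I.map (algebraMap A' S') ≤ I.map (algebraMap A' S') * K := by
    rintro z ⟨hzK, hzI⟩
    have hzI' : z ∈ Submodule.span S' (algebraMap A' S' '' (I : Set A')) := hzI
    obtain ⟨c, hc⟩ := (Finsupp.mem_span_iff_linearCombination S' _ _).1 hzI'
    choose a ha hae using fun x : (algebraMap A' S' '' (I : Set A')) => x.2
    have hsum : ∑ x : c.support, a x.1 • ψ (c x.1) = 0 := by
      rw [← show ψ z = 0 from hzK, ← hc, Finsupp.linearCombination_apply, Finsupp.sum, map_sum]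
      refine (Finset.sum_congr rfl fun (x : c.support) _ => ?_).trans
        (Finset.sum_coe_sort c.support (fun x => ψ (c x • (x : S'))))
      rw [smul_eq_mul, map_mul, ← hae x.1, AlgHom.commutes, Algebra.smul_def, mul_comm]
    obtain ⟨k, m, y, hy, hm⟩ := Module.Flat.isTrivialRelation_of_sum_smul_eq_zero hsum
    choose s hs using fun j => hsurj (y j)
    have hz : z = ∑ x : c.support, algebraMap A' S' (a x.1) * (c x.1 - ∑ j, m x j • s j) := by
      have h0 : ∑ x : c.support, algebraMap A' S' (a x.1) * ∑ j, m x j • s j = 0 := by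
        simp only [← Algebra.smul_def, Finset.smul_sum, smul_smul]
        rw [Finset.sum_comm]
        simp only [← Finset.sum_smul, hm, zero_smul, Finset.sum_const_zero]
      simp only [mul_sub, Finset.sum_sub_distrib, h0, sub_zero]
      rw [← hc, Finsupp.linearCombination_apply, Finsupp.sum, ← Finset.sum_coe_sort]
      refine Finset.sum_congr rfl fun x _ => ?_
      rw [smul_eq_mul, hae x.1, mul_comm]
    rw [hz]
    refine Submodule.sum_mem _ fun x _ => Ideal.mul_mem_mul (Ideal.mem_map_of_mem _ (ha x.1)) ?_
    show ψ _ = 0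
    rw [map_sub, map_sum, sub_eq_zero]
    refine (hy x).trans ?_
    exact Finset.sum_congr rfl fun j _ => by rw [map_smul, hs]
  have hstep : ∀ k, K ≤ F ⊔ I.map (algebraMap A' S') ^ k := by
    intro k
    induction k with
    | zero => rw [pow_zero, Ideal.one_eq_top, sup_top_eq]; exact le_top
    | succ k ih =>
      have h1 : K ≤ F ⊔ I.map (algebraMap A' S') * K := by
        intro q hq
        obtain ⟨p, hp, r, hr, rfl⟩ := Submodule.mem_sup.1 (hKle hq)
        exact Submodule.mem_sup.2 ⟨p, hp, r, hinter ⟨(add_mem_cancel_left (hFK hp)).1 hq, hr⟩, rfl⟩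
      refine h1.trans (sup_le le_sup_left ?_)
      refine (Ideal.mul_mono_right ih).trans ?_
      rw [Ideal.mul_sup, ← pow_succ']
      exact sup_le_sup_right Ideal.mul_le_right _
  refine le_antisymm ?_ hFK
  have := hstep N
  rwa [hN, Ideal.zero_eq_bot, sup_bot_eq] at this

end Groth.Agent.S13134
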