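import Groth.Statements.S13135
import Groth.Agent.CAlg7.ArtinFlat
import Mathlib.RingTheory.Polynomial.Basic
import Mathlib.Algebra.MvPolynomial.Eval

set_option autoImplicit false
universe u
open CAlg

namespace Groth.Agent.S13135

open Groth.Agent.CAlg7.ArtinFlat RingTheory.Sequence in

/-- Let A' be an Artinian local ring, I a proper ideal, A = A'/I and f_1, …, f_m a regular sequence in
A[x_1, …, x_n]. For every choice of lifts f'_1, …, f'_m in A'[x_1, …, x_n] the quotient A'[x]/(f'_1,
…, f'_m) is flat over A' (so it is a flat lifting of A[x]/(f_1, …, f_m)). (The published statement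
is for a surjection of local Artinian algebras with a fixed residue field over a ring of Witt
vectors; only the Artinian local base and the proper ideal are used, which is the form taken here.) -/
theorem result
    {A' : Type u} [CommRing A'] [IsArtinianRing A'] [IsLocalRing A'] (I : Ideal A') (hI : I ≠ ⊤)
    {n m : ℕ} (f : Fin m → MvPolynomial (Fin n) (A' ⧸ I))
    (hreg : RingTheory.Sequence.IsRegular (MvPolynomial (Fin n) (A' ⧸ I)) (List.ofFn f))
    (f' : Fin m → MvPolynomial (Fin n) A') (hf' : ∀ i, MvPolynomial.map (Ideal.Quotient.mk I) (f' i) = f i) :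
    Module.Flat A' (MvPolynomial (Fin n) A' ⧸ Ideal.span (Set.range f')) := by
  let π : MvPolynomial (Fin n) A' →+* MvPolynomial (Fin n) (A' ⧸ I) := MvPolynomial.map (Ideal.Quotient.mk I)
  have hπ : Function.Surjective π := MvPolynomial.map_surjective _ Ideal.Quotient.mk_surjective
  have hker : RingHom.ker π = I.map (algebraMap A' (MvPolynomial (Fin n) A')) := by
    rw [MvPolynomial.ker_map, Ideal.mk_ker, MvPolynomial.algebraMap_eq]
  have hw : IsWeaklyRegular (MvPolynomial (Fin n) A') (List.ofFn f') := by
    rw [← isWeaklyRegular_iff hI, isWeaklyRegular_quot π hπ hker, List.map_ofFn,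
      show (π ∘ f') = f from funext hf']
    exact hreg.toIsWeaklyRegular
  haveI := flat_of_isWeaklyRegular (A := A') _ hw
  refine Module.Flat.of_linearEquiv (((Submodule.quotEquivOfEq (Ideal.ofList (List.ofFn f') • (⊤ : Submodule (MvPolynomial (Fin n) A') (MvPolynomial (Fin n) A'))) (Ideal.span (Set.range f')) ?_).restrictScalars A').symm)
  rw [smul_eq_mul, Ideal.mul_top, Ideal.ofList]
  exact congrArg Ideal.span (Set.ext fun x => by simp [List.mem_ofFn'])

end Groth.Agent.S13135
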