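import Groth.Statements.S13137
import Groth.Agent.FrobAlg53.W2Basic

set_option autoImplicit false
set_option linter.unusedVariables false
universe u v
open FrobAlg

namespace Groth.Agent.S13137

/-- For a perfect field k of characteristic p, a flat W₂(k)-algebra B and an ideal J of B, the quotient
B/J is flat over W₂(k) if and only if (p) ∩ J = pJ in B. (With B a flat lifting of A = B/pB this
says: B/J is a flat lifting of A modulo the image of J exactly when (p) ∩ J = pJ.) -/
theorem result
    (p : ℕ) [Fact p.Prime] (k : Type u) [Field k] [CharP k p] [PerfectRing k p]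
    (B : Type v) [CommRing B] [Algebra (FrobAlg.W2 p k) B] [Module.Flat (FrobAlg.W2 p k) B]
    (J : Ideal B) :
    Module.Flat (FrobAlg.W2 p k) (B ⧸ J) ↔
      Ideal.span {(p : B)} ⊓ J = Ideal.span {(p : B)} * J := by
  have hB := (Groth.Agent.FrobAlg53.flat_iff (p := p) (k := k) B).1 inferInstance
  have hsmul : ∀ b : B, (p : FrobAlg.W2 p k) • b = (p : B) * b := fun b => by
    rw [Algebra.smul_def, map_natCast]
  have hq : ∀ b : B, (p : FrobAlg.W2 p k) • (Ideal.Quotient.mk J b) =
      Ideal.Quotient.mk J ((p : B) * b) := fun b => by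
    rw [← hsmul]; rfl
  rw [Groth.Agent.FrobAlg53.flat_iff]
  constructor
  · intro h
    refine le_antisymm ?_ Ideal.mul_le_inf
    rintro x ⟨hx1, hx2⟩
    obtain ⟨b, rfl⟩ := Ideal.mem_span_singleton.1 hx1
    obtain ⟨m', hm'⟩ := h (Ideal.Quotient.mk J b) (by rw [hq, Ideal.Quotient.eq_zero_iff_mem]; exact hx2)
    obtain ⟨c, rfl⟩ := Ideal.Quotient.mk_surjective m'
    rw [hq, Ideal.Quotient.eq] at hm'
    rw [Ideal.mem_span_singleton_mul]
    refine ⟨b - (p : B) * c, hm', ?_⟩
    have hp2 : (p : B) * (p : B) = 0 := by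
      have := congrArg (algebraMap (FrobAlg.W2 p k) B) (Groth.Agent.FrobAlg53.p_sq (p := p) (k := k))
      simpa using this
    rw [mul_sub, ← mul_assoc, hp2, zero_mul, sub_zero]
  · intro h m hm
    obtain ⟨b, rfl⟩ := Ideal.Quotient.mk_surjective m
    rw [hq, Ideal.Quotient.eq_zero_iff_mem] at hm
    have h1 : (p : B) * b ∈ Ideal.span {(p : B)} * J :=
      h ▸ ⟨Ideal.mem_span_singleton.2 (dvd_mul_right _ _), hm⟩
    obtain ⟨j, hj, hjb⟩ := Ideal.mem_span_singleton_mul.1 h1
    obtain ⟨c, hc⟩ := hB (b - j) (by rw [hsmul, mul_sub, hjb, sub_self])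
    rw [hsmul] at hc
    refine ⟨Ideal.Quotient.mk J c, ?_⟩
    rw [hq, Ideal.Quotient.eq, ← hc, sub_sub_cancel]
    exact hj
end Groth.Agent.S13137
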