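import Mathlib
import Groth.Statements.S13140

set_option autoImplicit false
universe u v w
open GrpAlg

namespace Groth.Agent.S13140

open TensorProduct Finset

theorem result
    (R : Type u) [CommRing R] (G : Type v) [Group G] [Finite G] (hG : IsUnit ((Nat.card G : ℕ) : R))
    (M : Type w) [AddCommGroup M] [Module R M] [Module (MonoidAlgebra R G) M]
    [IsScalarTower R (MonoidAlgebra R G) M] [Module.Projective R M] :
    Module.Projective (MonoidAlgebra R G) M := by
  have := Fintype.ofFinite G
  let p : (M →₀ MonoidAlgebra R G) →ₗ[MonoidAlgebra R G] M := Finsupp.linearCombination _ id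
  obtain ⟨i, hi⟩ := Module.projective_lifting_property (p.restrictScalars R) LinearMap.id
    (Finsupp.linearCombination_id_surjective _ M)
  refine Module.Projective.of_split ((hG.unit⁻¹ : Rˣ).val • LinearMap.sumOfConjugatesEquivariant G i) p ?_
  ext m
  have hcalc : ∀ g : G, p (i.conjugate g m) = m := fun g => by
    rw [LinearMap.conjugate_apply, map_smul]
    have := LinearMap.congr_fun hi (MonoidAlgebra.single g (1:R) • m)
    simp only [LinearMap.coe_comp, Function.comp_apply, LinearMap.coe_restrictScalars, LinearMap.id_apply] at this
    rw [this, ← mul_smul, MonoidAlgebra.single_mul_single, inv_mul_cancel, mul_one, ← MonoidAlgebra.one_def, one_smul]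
  simp only [LinearMap.comp_apply, LinearMap.id_apply, LinearMap.smul_apply, LinearMap.sumOfConjugatesEquivariant_apply,
    LinearMap.sumOfConjugates_apply, LinearMap.map_smul_of_tower, map_sum, hcalc, sum_const, card_univ]
  rw [← Nat.cast_smul_eq_nsmul R, smul_smul, ← Nat.card_eq_fintype_card]
  rw [IsUnit.val_inv_mul, one_smul]

end Groth.Agent.S13140
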