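import Mathlib
import Groth.Statements.S13141

set_option autoImplicit false
universe u v w w'
open scoped TensorProduct
open GrpAlg

namespace Groth.Agent.S13141

open TensorProduct Finset

theorem result
    (R : Type u) [CommRing R] (G : Type v) [Group G] [Finite G] (hG : IsUnit ((Nat.card G : ℕ) : R))
    (M : Type w) [AddCommGroup M] [Module R M] [Module.Projective R M] (ρ : Representation R G M)
    (S : Type w') [CommRing S] [Algebra R S] :
    Function.Injective (TensorProduct.map ρ.invariants.subtype (LinearMap.id : S →ₗ[R] S)) ∧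
    LinearMap.range (TensorProduct.map ρ.invariants.subtype (LinearMap.id : S →ₗ[R] S)) =
      ⨅ g : G, LinearMap.eqLocus (LinearMap.rTensor S (ρ g)) LinearMap.id := by
  have := Fintype.ofFinite G
  have hG' : IsUnit ((Fintype.card G : ℕ) : R) := by rwa [Nat.card_eq_fintype_card] at hG
  have := hG'.invertible
  let P : M →ₗ[R] ρ.invariants := ρ.averageMap.codRestrict _ ρ.averageMap_invariant
  have hP : P ∘ₗ ρ.invariants.subtype = LinearMap.id := LinearMap.ext fun x => Subtype.ext (ρ.averageMap_id x.1 x.2)
  have hPg : ∀ x : M ⊗[R] S, LinearMap.rTensor S (ρ.averageMap) x = ⅟(Fintype.card G : R) • ∑ g : G, LinearMap.rTensor S (ρ g) x := by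
    intro x
    induction x using TensorProduct.induction_on with
    | zero => simp
    | tmul m s => simp [Representation.averageMap, GroupAlgebra.average, Representation.asAlgebraHom_single, sum_tmul, smul_tmul']
    | add x y hx hy => simp only [map_add, sum_add_distrib, smul_add]; rw [hx, hy]
  refine ⟨Function.LeftInverse.injective (g := LinearMap.rTensor S P) fun x => ?_, ?_⟩
  · rw [← LinearMap.rTensor_def, ← LinearMap.rTensor_comp_apply, hP, LinearMap.rTensor_id, LinearMap.id_apply]
  refine le_antisymm ?_ fun x hx => ?_
  · rintro _ ⟨y, rfl⟩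
    simp only [Submodule.mem_iInf, LinearMap.mem_eqLocus, LinearMap.id_apply]
    intro g
    rw [← LinearMap.rTensor_def, ← LinearMap.rTensor_comp_apply, show ρ g ∘ₗ ρ.invariants.subtype = ρ.invariants.subtype from LinearMap.ext fun z => z.2 g]
  · simp only [Submodule.mem_iInf, LinearMap.mem_eqLocus, LinearMap.id_apply] at hx
    refine ⟨LinearMap.rTensor S P x, ?_⟩
    rw [← LinearMap.rTensor_def, ← LinearMap.rTensor_comp_apply, LinearMap.subtype_comp_codRestrict, hPg]
    simp only [hx, sum_const, card_univ]
    rw [← Nat.cast_smul_eq_nsmul R, smul_smul, invOf_mul_self, one_smul]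

end Groth.Agent.S13141
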