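import Mathlib
import Groth.Statements.S13142

set_option autoImplicit false
universe u v
open GrpAlg

namespace Groth.Agent.S13142

open TensorProduct Finset

theorem result
    (R : Type u) [CommRing R] (G : Type v) [Group G] [Finite G] (hG : IsUnit ((Nat.card G : ℕ) : R))
    (n : ℕ) (ρ : G →* (MvPolynomial (Fin n) R ≃ₐ[R] MvPolynomial (Fin n) R)) :
    Module.Flat R ↥(⨅ g : G, LinearMap.eqLocus (ρ g).toLinearMap (LinearMap.id : MvPolynomial (Fin n) R →ₗ[R] MvPolynomial (Fin n) R)) := by
  have := Fintype.ofFinite G
  have hG' : IsUnit ((Fintype.card G : ℕ) : R) := by rwa [Nat.card_eq_fintype_card] at hG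
  have := hG'.invertible
  let σ : Representation R G (MvPolynomial (Fin n) R) :=
    { toFun := fun g => (ρ g).toLinearMap, map_one' := by ext x; simp, map_mul' := fun a b => by ext x; simp }
  have e : (⨅ g : G, LinearMap.eqLocus (ρ g).toLinearMap (LinearMap.id : MvPolynomial (Fin n) R →ₗ[R] MvPolynomial (Fin n) R)) = σ.invariants := by
    ext x; simp [Submodule.mem_iInf, σ]
  rw [e]
  exact Module.Flat.of_retract σ.invariants.subtype (σ.averageMap.codRestrict _ σ.averageMap_invariant)
    (LinearMap.ext fun x => Subtype.ext (σ.averageMap_id x.1 x.2))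

end Groth.Agent.S13142
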