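import Groth.Statements.S13147
import Groth.Agent.FrobAlg53.Lift

set_option autoImplicit false
set_option linter.unusedVariables false
universe u
open FrobAlg

namespace Groth.Agent.S13147

/-- Let k be a perfect field of characteristic p and (A, φ) a k-algebra with a Frobenius splitting (φ
additive, φ(a^p b) = a φ(b), φ(1) = 1). The quotient of W₂(A) by the ideal generated by the Witt
vectors (0, a) with φ(a) = 0 — the ring of twisted Witt vectors of (A, φ) — is a flat lifting of A
over W₂(k): flat over W₂(k), with reduction map onto A induced by (a₀, a₁) ↦ a₀ whose kernel is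
generated by the maximal ideal of W₂(k). (The published statement also asserts that a morphism of
algebras with Frobenius splittings compatible with the splittings induces a ring map between these
quotients; that part is not stated here.) -/
theorem result
    (p : ℕ) [Fact p.Prime] (k : Type u) [Field k] [CharP k p] [PerfectRing k p]
    (A : Type u) [CommRing A] [Algebra k A] (φ : A →+ A)
    (hφ : ∀ a b : A, φ (a ^ p * b) = a * φ b) (hφ1 : φ 1 = 1) :
    FrobAlg.IsLift p k A (FrobAlg.W2 p A ⧸ FrobAlg.splitIdeal p A φ)
      ((Ideal.Quotient.mk (FrobAlg.splitIdeal p A φ)).comp (WittGrp.truncMap p 2 (algebraMap k A)))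
      (FrobAlg.splitRes p A φ) := by
  have hp : p.Prime := Fact.out
  have hpA : (p : A) = 0 := Groth.Agent.FrobAlg53.p_eq_zero_of_algebra p (k := k) A
  -- coordinates of products
  have hcoeff : ∀ X : WittVector p A, (WittVector.truncate 2 ((X : WittVector p A) * p) : FrobAlg.W2 p A).coeff 0 = 0 ∧
      (WittVector.truncate 2 ((X : WittVector p A) * p) : FrobAlg.W2 p A).coeff 1 = X.coeff 0 ^ p := by
    intro X
    rcases subsingleton_or_nontrivial A with h | h
    · exact ⟨Subsingleton.elim _ _, Subsingleton.elim _ _⟩
    · haveI : CharP A p := (CharP.charP_iff_prime_eq_zero hp).2 hpA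
      rw [WittVector.coeff_truncate, WittVector.coeff_truncate]
      exact ⟨WittVector.mul_charP_coeff_zero X, WittVector.mul_charP_coeff_succ X 0⟩
  have hpx : ∀ x : FrobAlg.W2 p A, ((p : FrobAlg.W2 p A) * x).coeff 0 = 0 ∧
      ((p : FrobAlg.W2 p A) * x).coeff 1 = x.coeff 0 ^ p := by
    intro x
    obtain ⟨X, rfl⟩ := WittVector.truncate_surjective p 2 A x
    rw [← map_natCast (WittVector.truncate (p := p) (R := A) 2), ← map_mul, mul_comm, WittVector.coeff_truncate X]
    exact hcoeff X
  have hφp : ∀ a : A, φ (a ^ p) = a := fun a => by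
    have := hφ a 1
    rwa [mul_one, hφ1, mul_one] at this
  -- a vector killed by the residue map is congruent to a multiple of p
  have hkey : ∀ x : FrobAlg.W2 p A, FrobAlg.res p A x = 0 →
      ∃ y : FrobAlg.W2 p A, x - (p : FrobAlg.W2 p A) * y ∈ FrobAlg.splitIdeal p A φ := by
    intro x hx
    obtain ⟨X, rfl⟩ := WittVector.truncate_surjective p 2 A x
    rw [FrobAlg.res_truncate] at hx
    set a := φ (X.coeff 1) with ha
    refine ⟨WittVector.truncate 2 (WittVector.teichmuller p a), ?_⟩
    let Y : WittVector p A := WittVector.mk p fun i => if i = 1 then X.coeff 1 - a ^ p else 0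
    have hY : WittVector.truncate 2 Y ∈ FrobAlg.splitIdeal p A φ := by
      refine Ideal.subset_span ⟨?_, ?_⟩
      · rw [FrobAlg.res_truncate]; simp [Y]
      · rw [WittVector.coeff_truncate]; simp [Y, map_sub, hφp, ha]
    refine (congrArg (· ∈ FrobAlg.splitIdeal p A φ) ?_).mpr hY
    rw [sub_eq_iff_eq_add, ← map_natCast (WittVector.truncate (p := p) (R := A) 2), ← map_mul, ← map_add]
    refine TruncatedWittVector.ext fun i => ?_
    have h2 := hcoeff (WittVector.teichmuller p a)
    rw [WittVector.coeff_truncate, WittVector.coeff_truncate] at h2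
    simp only [mul_comm (p : WittVector p A), WittVector.coeff_truncate]
    have hd : (Y + WittVector.teichmuller p a * p).coeff 0 = 0 := by
      show WittVector.constantCoeff (Y + WittVector.teichmuller p a * (p : WittVector p A)) = 0
      rw [map_add]
      show Y.coeff 0 + (WittVector.teichmuller p a * p).coeff 0 = 0
      simpa [Y] using h2.1
    have hadd : (Y + WittVector.teichmuller p a * p).coeff 1 = X.coeff 1 := by
      have hY0 : Y.coeff 0 = 0 := by simp [Y]
      have hY1 : Y.coeff 1 = X.coeff 1 - a ^ p := by simp [Y]
      have : ∀ U V : WittVector p A, U.coeff 0 = 0 → V.coeff 0 = 0 →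
          (U + V).coeff 1 = U.coeff 1 + V.coeff 1 := by
        intro U V hU hV
        rw [WittVector.eq_iterate_verschiebung (n := 1) (x := U) (by simpa using hU),
          WittVector.eq_iterate_verschiebung (n := 1) (x := V) (by simpa using hV)]
        simp only [Function.iterate_one, ← map_add, WittVector.verschiebung_coeff_succ]
        exact map_add (WittVector.constantCoeff (p := p) (R := A)) _ _
      rw [this _ _ hY0 (by simpa using h2.1), hY1]
      have h21 : (WittVector.teichmuller p a * (p : WittVector p A)).coeff 1 = a ^ p := by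
        simpa using h2.2
      rw [h21, sub_add_cancel]
    fin_cases i
    · simpa [hd] using hx
    · simpa [hadd] using hadd.symm
  have hmem : ∀ x ∈ FrobAlg.splitIdeal p A φ, FrobAlg.res p A x = 0 ∧ φ (x.coeff 1) = 0 := by
    intro x hx
    induction hx using Submodule.span_induction with
    | mem y hy => exact hy
    | zero => exact ⟨map_zero _, by rw [TruncatedWittVector.coeff_zero, map_zero]⟩
    | add y z _ _ hy hz =>
      refine ⟨by rw [map_add, hy.1, hz.1, add_zero], ?_⟩
      obtain ⟨U, rfl⟩ := WittVector.truncate_surjective p 2 A y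
      obtain ⟨V, rfl⟩ := WittVector.truncate_surjective p 2 A z
      rw [FrobAlg.res_truncate, WittVector.coeff_truncate] at hy hz
      rw [← map_add, WittVector.coeff_truncate,
        WittVector.eq_iterate_verschiebung (n := 1) (x := U) (by simpa using hy.1),
        WittVector.eq_iterate_verschiebung (n := 1) (x := V) (by simpa using hz.1)]
      simp only [Function.iterate_one, ← map_add, Fin.val_one, WittVector.verschiebung_coeff_succ]
      rw [show (U.shift 1 + V.shift 1).coeff 0 = (U.shift 1).coeff 0 + (V.shift 1).coeff 0 from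
        map_add (WittVector.constantCoeff (p := p) (R := A)) _ _, map_add, WittVector.shift_coeff, WittVector.shift_coeff]
      simpa using by rw [show φ (U.coeff 1) = 0 from hy.2, show φ (V.coeff 1) = 0 from hz.2, add_zero]
    | smul s y _ hy =>
      refine ⟨by rw [smul_eq_mul, map_mul, hy.1, mul_zero], ?_⟩
      obtain ⟨S, rfl⟩ := WittVector.truncate_surjective p 2 A s
      obtain ⟨U, rfl⟩ := WittVector.truncate_surjective p 2 A y
      rw [FrobAlg.res_truncate, WittVector.coeff_truncate] at hy
      rw [smul_eq_mul, ← map_mul, WittVector.coeff_truncate,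
        WittVector.eq_iterate_verschiebung (n := 1) (x := U) (by simpa using hy.1)]
      simp only [Function.iterate_one, Fin.val_one, mul_comm S, ← WittVector.verschiebung_mul_frobenius,
        WittVector.verschiebung_coeff_succ]
      have hfr : (WittVector.frobenius S).coeff 0 = S.coeff 0 ^ p := by
        rcases subsingleton_or_nontrivial A with h | h
        · exact Subsingleton.elim _ _
        · haveI : CharP A p := (CharP.charP_iff_prime_eq_zero hp).2 hpA
          exact WittVector.coeff_frobenius_charP p S 0
      rw [WittVector.mul_coeff_zero, hfr, mul_comm, hφ, WittVector.shift_coeff,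
        show φ (U.coeff (1 + 0)) = 0 from hy.2, mul_zero]
  refine Groth.Agent.FrobAlg53.isLift_mk ?_ ?_ ?_ ?_
  · intro q hq
    obtain ⟨x, rfl⟩ := Ideal.Quotient.mk_surjective q
    rw [← map_natCast (Ideal.Quotient.mk (FrobAlg.splitIdeal p A φ)), ← map_mul,
      Ideal.Quotient.eq_zero_iff_mem] at hq
    have h0 : FrobAlg.res p A x = 0 := by
      have := (hmem _ hq).2
      rwa [(hpx x).2, hφp, ← FrobAlg.res_apply] at this
    obtain ⟨y, hy⟩ := hkey x h0
    exact ⟨Ideal.Quotient.mk _ y, by
      rw [← map_natCast (Ideal.Quotient.mk (FrobAlg.splitIdeal p A φ)), ← map_mul, Ideal.Quotient.eq]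
      exact hy⟩
  · intro a
    exact ⟨Ideal.Quotient.mk _ (WittVector.truncate 2 (WittVector.teichmuller p a)), by
      show FrobAlg.res p A (WittVector.truncate 2 (WittVector.teichmuller p a)) = a
      rw [FrobAlg.res_truncate, WittVector.teichmuller_coeff_zero]⟩
  · intro q hq
    obtain ⟨x, rfl⟩ := Ideal.Quotient.mk_surjective q
    obtain ⟨y, hy⟩ := hkey x hq
    exact ⟨Ideal.Quotient.mk _ y, by
      rw [← map_natCast (Ideal.Quotient.mk (FrobAlg.splitIdeal p A φ)), ← map_mul, Ideal.Quotient.eq]
      exact hy⟩
  · refine RingHom.ext fun w => ?_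
    show FrobAlg.res p A (WittGrp.truncMap p 2 (algebraMap k A) w) = algebraMap k A (FrobAlg.res p k w)
    rw [FrobAlg.res_apply, FrobAlg.res_apply, WittGrp.coeff_truncMap]
end Groth.Agent.S13147
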