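import Groth.Statements.S13149
import Mathlib.LinearAlgebra.Matrix.Determinant.Basic
import Mathlib.LinearAlgebra.Matrix.NonsingularInverse
import Mathlib.Algebra.Field.ZMod
import Mathlib.RingTheory.LocalRing.MaximalIdeal.Basic
import Mathlib.Tactic.LinearCombination

set_option autoImplicit false
universe u
open CAlg

namespace Groth.Agent.S13149

open Matrix

variable {A : Type u} [CommRing A]

theorem det_eq_zero_of_orth [IsLocalRing A] (a b c : Fin 3 → A) (n : Fin 3 → A) (hn : ∃ i, IsUnit (n i))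
    (ha : dotProduct a n = 0) (hb : dotProduct b n = 0) (hc : dotProduct c n = 0) :
    Matrix.det (Matrix.of ![a, b, c]) = 0 := by
  obtain ⟨i, hi⟩ := hn
  have h : Matrix.of ![a, b, c] *ᵥ n = 0 := by
    funext j; fin_cases j <;> simp [Matrix.mulVec, *]
  have h2 := congrArg ((Matrix.of ![a, b, c]).adjugate *ᵥ ·) h
  simp only [Matrix.mulVec_mulVec, Matrix.adjugate_mul, Matrix.mulVec_zero, Matrix.smul_mulVec,
    Matrix.one_mulVec] at h2
  exact (IsUnit.mul_left_eq_zero hi).1 (congrFun h2 i)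

/-- Let A be a local ring and ρ a map from the points of the projective plane over F_p to the points of
the projective plane over A (vectors with a unit coordinate, up to units) taking collinear triples
to collinear triples (three points are collinear when a vector with a unit coordinate is orthogonal
to all three). If ρ sends the standard frame (1:0:0), (0:1:0), (0:0:1), (1:1:1) to four points in
general position, then p = 0 in A. (The published statement asks only that ρ preserve collinearity;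
a constant map does so over any ring, and the published argument begins by moving the images of the
standard frame to the standard frame, which needs them in general position — that condition is made
a hypothesis here.) -/
theorem result
    (p : ℕ) [Fact p.Prime] (A : Type u) [CommRing A] [IsLocalRing A]
    (ρ : (Fin 3 → ZMod p) → (Fin 3 → A))
    (hpt : ∀ v : Fin 3 → ZMod p, v ≠ 0 → ∃ i, IsUnit (ρ v i))
    (hcol : ∀ u v w : Fin 3 → ZMod p, u ≠ 0 → v ≠ 0 → w ≠ 0 →
      Matrix.det (Matrix.of ![u, v, w]) = 0 →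
      ∃ n : Fin 3 → A, (∃ i, IsUnit (n i)) ∧
        dotProduct (ρ u) n = 0 ∧ dotProduct (ρ v) n = 0 ∧ dotProduct (ρ w) n = 0)
    (hgen : IsUnit (Matrix.det (Matrix.of ![ρ (Pi.single 0 1), ρ (Pi.single 1 1), ρ (Pi.single 2 1)])) ∧
      IsUnit (Matrix.det (Matrix.of ![ρ (Pi.single 0 1), ρ (Pi.single 1 1), ρ (fun _ => 1)])) ∧
      IsUnit (Matrix.det (Matrix.of ![ρ (Pi.single 0 1), ρ (Pi.single 2 1), ρ (fun _ => 1)])) ∧
      IsUnit (Matrix.det (Matrix.of ![ρ (Pi.single 1 1), ρ (Pi.single 2 1), ρ (fun _ => 1)]))) :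
    (p : A) = 0 := by
  classical
  set e₀ : Fin 3 → ZMod p := Pi.single 0 1 with he₀
  set e₁ : Fin 3 → ZMod p := Pi.single 1 1 with he₁
  set e₂ : Fin 3 → ZMod p := Pi.single 2 1 with he₂
  set e₃ : Fin 3 → ZMod p := fun _ => 1 with he₃
  obtain ⟨g3, g2, g1, g0⟩ := hgen
  -- matrix whose columns are the images of the frame
  let M : Matrix (Fin 3) (Fin 3) A := (Matrix.of ![ρ e₀, ρ e₁, ρ e₂])ᵀ
  have hM : IsUnit M.det := by rw [Matrix.det_transpose]; exact g3
  let l : Fin 3 → A := M⁻¹ *ᵥ ρ e₃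
  have hl : ρ e₃ = l 0 • ρ e₀ + l 1 • ρ e₁ + l 2 • ρ e₂ := by
    have : M *ᵥ l = ρ e₃ := by
      rw [Matrix.mulVec_mulVec, Matrix.mul_nonsing_inv _ hM, Matrix.one_mulVec]
    rw [← this]
    funext i
    simp [M, Matrix.mulVec, dotProduct, Fin.sum_univ_three, mul_comm]
  have hlu : ∀ i, IsUnit (l i) := by
    intro i
    fin_cases i
    · show IsUnit (l 0)
      have : Matrix.det (Matrix.of ![ρ e₁, ρ e₂, ρ e₃]) =
          l 0 * Matrix.det (Matrix.of ![ρ e₀, ρ e₁, ρ e₂]) := by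
        rw [hl]; simp [Matrix.det_fin_three]; ring
      rw [this] at g0; exact isUnit_of_mul_isUnit_left g0
    · show IsUnit (l 1)
      have : Matrix.det (Matrix.of ![ρ e₀, ρ e₂, ρ e₃]) =
          -(l 1) * Matrix.det (Matrix.of ![ρ e₀, ρ e₁, ρ e₂]) := by
        rw [hl]; simp [Matrix.det_fin_three]; ring
      rw [this] at g1; exact IsUnit.neg_iff _ |>.1 (isUnit_of_mul_isUnit_left g1)
    · show IsUnit (l 2)
      have : Matrix.det (Matrix.of ![ρ e₀, ρ e₁, ρ e₃]) =
          l 2 * Matrix.det (Matrix.of ![ρ e₀, ρ e₁, ρ e₂]) := by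
        rw [hl]; simp [Matrix.det_fin_three]; ring
      rw [this] at g2; exact isUnit_of_mul_isUnit_left g2
  -- change of coordinates
  let N : Matrix (Fin 3) (Fin 3) A := M * Matrix.diagonal l
  have hN : IsUnit N.det := by
    rw [Matrix.det_mul, Matrix.det_diagonal]
    exact hM.mul (IsUnit.prod_iff.2 fun i _ => hlu i)
  obtain ⟨σ, hNσ⟩ : ∃ σ : (Fin 3 → ZMod p) → (Fin 3 → A), ∀ v, N *ᵥ σ v = ρ v :=
    ⟨fun v => N⁻¹ *ᵥ ρ v, fun v => by
      rw [Matrix.mulVec_mulVec, Matrix.mul_nonsing_inv _ hN, Matrix.one_mulVec]⟩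
  have hpt' : ∀ v : Fin 3 → ZMod p, v ≠ 0 → ∃ i, IsUnit (σ v i) := by
    intro v hv
    by_contra hcon
    rw [not_exists] at hcon
    obtain ⟨i, hi⟩ := hpt v hv
    rw [← hNσ v] at hi
    have : ∑ j, N i j * σ v j ∈ IsLocalRing.maximalIdeal A :=
      Submodule.sum_mem _ fun j _ => Ideal.mul_mem_left _ _
        ((IsLocalRing.mem_maximalIdeal _).2 (hcon j))
    exact (IsLocalRing.mem_maximalIdeal _).1 this hi
  have hcol' : ∀ u v w : Fin 3 → ZMod p, u ≠ 0 → v ≠ 0 → w ≠ 0 →
      Matrix.det (Matrix.of ![u, v, w]) = 0 → Matrix.det (Matrix.of ![σ u, σ v, σ w]) = 0 := by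
    intro a b c ha hb hc habc
    obtain ⟨n, hn, n1, n2, n3⟩ := hcol a b c ha hb hc habc
    have h0 := det_eq_zero_of_orth _ _ _ n hn n1 n2 n3
    have : Matrix.of ![ρ a, ρ b, ρ c] = Matrix.of ![σ a, σ b, σ c] * Nᵀ := by
      ext i j
      rw [Matrix.mul_apply, ← hNσ a, ← hNσ b, ← hNσ c]
      fin_cases i
      · show ∑ k, N j k * σ a k = ∑ k, σ a k * N j k
        exact Finset.sum_congr rfl fun k _ => mul_comm _ _
      · show ∑ k, N j k * σ b k = ∑ k, σ b k * N j k
        exact Finset.sum_congr rfl fun k _ => mul_comm _ _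
      · show ∑ k, N j k * σ c k = ∑ k, σ c k * N j k
        exact Finset.sum_congr rfl fun k _ => mul_comm _ _
    rw [this, Matrix.det_mul, Matrix.det_transpose] at h0
    exact (IsUnit.mul_left_eq_zero hN).1 h0
  have hNinj : Function.Injective (N *ᵥ ·) :=
    Matrix.mulVec_injective_of_isUnit ((Matrix.isUnit_iff_isUnit_det _).2 hN)
  obtain ⟨u0, hu0⟩ := hlu 0
  obtain ⟨u1, hu1⟩ := hlu 1
  obtain ⟨u2, hu2⟩ := hlu 2
  have sX : σ e₀ = ![(↑u0⁻¹ : A), 0, 0] := hNinj (by
    simp only [hNσ]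
    funext i; simp [N, M, Matrix.mulVec, dotProduct, Matrix.mul_apply, Fin.sum_univ_three, ← hu0, mul_assoc])
  have sY : σ e₁ = ![0, (↑u1⁻¹ : A), 0] := hNinj (by
    simp only [hNσ]
    funext i; simp [N, M, Matrix.mulVec, dotProduct, Matrix.mul_apply, Fin.sum_univ_three, ← hu1, mul_assoc])
  have sO : σ e₂ = ![0, 0, (↑u2⁻¹ : A)] := hNinj (by
    simp only [hNσ]
    funext i; simp [N, M, Matrix.mulVec, dotProduct, Matrix.mul_apply, Fin.sum_univ_three, ← hu2, mul_assoc])
  have sE : σ e₃ = ![1, 1, 1] := hNinj (by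
    simp only [hNσ]
    rw [hl]
    funext i; simp [N, M, Matrix.mulVec, dotProduct, Matrix.mul_apply, Fin.sum_univ_three, mul_comm])
  have ne : ∀ (v : Fin 3 → ZMod p) (i : Fin 3), v i = 1 → v ≠ 0 := fun v i hv h0 => by
    rw [h0] at hv; exact zero_ne_one hv
  have neX : e₀ ≠ 0 := ne _ 0 (by simp [e₀])
  have neY : e₁ ≠ 0 := ne _ 1 (by simp [e₁])
  have neO : e₂ ≠ 0 := ne _ 2 (by simp [e₂])
  have neE : e₃ ≠ 0 := ne _ 0 rfl
  -- the point (1:1:0)
  have hD0 : (![1, 1, 0] : Fin 3 → ZMod p) ≠ 0 := ne _ 0 rfl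
  obtain ⟨d, hd, hdu⟩ : ∃ d : A, σ ![1, 1, 0] = ![d, d, 0] ∧ IsUnit d := by
    have c1 := hcol' e₀ e₁ _ neX neY hD0 (by simp [e₀, e₁, Matrix.det_fin_three])
    have c2 := hcol' e₂ e₃ _ neO neE hD0 (by simp [e₂, e₃, Matrix.det_fin_three])
    simp [sX, sY, Matrix.det_fin_three] at c1
    simp [sO, sE, Matrix.det_fin_three] at c2
    simp only [← mul_sub, mul_assoc, Units.mul_right_eq_zero] at c1 c2
    have c2' : σ ![1, 1, 0] 1 = σ ![1, 1, 0] 0 := sub_eq_zero.1 c2
    refine ⟨σ ![1, 1, 0] 0, by funext i; fin_cases i <;> simp [c1, c2'], ?_⟩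
    obtain ⟨i, hi⟩ := hpt' _ hD0
    fin_cases i <;> simp_all
  have key : ∀ n : ℕ, ∃ r : A, IsUnit r ∧ σ ![(n : ZMod p), 0, 1] = ![(n : A) * r, 0, r] := by
    intro n
    induction n with
    | zero =>
      refine ⟨↑u2⁻¹, Units.isUnit _, ?_⟩
      rw [show (![((0 : ℕ) : ZMod p), 0, 1] : Fin 3 → ZMod p) = e₂ from by
        funext i; fin_cases i <;> simp [e₂], sO]
      simp
    | succ n ih =>
      obtain ⟨r, hr, hP⟩ := ih
      have hP0 : (![(n : ZMod p), 0, 1] : Fin 3 → ZMod p) ≠ 0 := ne _ 2 rfl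
      have hQ0 : (![((n + 1 : ℕ) : ZMod p), 1, 1] : Fin 3 → ZMod p) ≠ 0 := ne _ 2 rfl
      have hR0 : (![((n + 1 : ℕ) : ZMod p), 0, 1] : Fin 3 → ZMod p) ≠ 0 := ne _ 2 rfl
      set q := σ ![((n + 1 : ℕ) : ZMod p), 1, 1] with hq
      set s := σ ![((n + 1 : ℕ) : ZMod p), 0, 1] with hs
      have c1 := hcol' e₀ e₃ _ neX neE hQ0 (by simp [e₀, e₃, Matrix.det_fin_three])
      have c2 := hcol' _ _ _ hP0 hD0 hQ0 (by simp [Matrix.det_fin_three])
      rw [← hq, sX, sE] at c1
      rw [← hq, hP, hd] at c2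
      simp [Matrix.det_fin_three] at c1
      simp only [← mul_sub, Units.mul_right_eq_zero] at c1
      have q12 : q 1 = q 2 := (sub_eq_zero.1 c1).symm
      simp [Matrix.det_fin_three] at c2
      have q0 : q 0 = ((n : A) + 1) * q 2 := by
        refine (hdu.mul hr).mul_right_cancel ?_
        linear_combination -c2 + (d * r) * q12
      have qu : IsUnit (q 2) := by
        obtain ⟨i, hi⟩ := hpt' _ hQ0
        rw [← hq] at hi
        fin_cases i
        · exact isUnit_of_mul_isUnit_right (x := (n : A) + 1) (by rw [← q0]; exact hi)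
        · rw [← q12]; exact hi
        · exact hi
      have c3 := hcol' e₀ e₂ _ neX neO hR0 (by simp [e₀, e₂, Matrix.det_fin_three])
      have c4 := hcol' e₁ _ _ neY hQ0 hR0 (by simp [e₁, Matrix.det_fin_three])
      rw [← hs, sX, sO] at c3
      rw [← hq, ← hs, sY] at c4
      simp [Matrix.det_fin_three] at c3
      simp [Matrix.det_fin_three] at c4
      simp only [mul_assoc, Units.mul_right_eq_zero] at c3
      have s0 : s 0 = ((n : A) + 1) * s 2 := by
        refine qu.mul_right_cancel ?_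
        linear_combination (u1 : A) * c4 + (s 2) * q0 - (q 2 * s 0 - q 0 * s 2) * u1.mul_inv
      refine ⟨s 2, ?_, by funext i; fin_cases i <;> simp [c3, s0]⟩
      obtain ⟨i, hi⟩ := hpt' _ hR0
      rw [← hs] at hi
      fin_cases i
      · exact isUnit_of_mul_isUnit_right (x := (n : A) + 1) (by rw [← s0]; exact hi)
      · exact absurd (by rw [← c3]; exact hi) not_isUnit_zero
      · exact hi
  obtain ⟨r, hr, h1⟩ := key p
  obtain ⟨r', -, h2⟩ := key 0
  rw [ZMod.natCast_self] at h1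
  rw [Nat.cast_zero] at h2
  have := congrFun (h1.symm.trans h2) 0
  simp at this
  exact (IsUnit.mul_left_eq_zero hr).1 this

end Groth.Agent.S13149
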