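import Groth.Statements.S13151
import Mathlib.RingTheory.Polynomial.ScaleRoots
import Mathlib.RingTheory.IntegralClosure.IntegrallyClosed

set_option autoImplicit false
universe u
open CAlg

namespace Groth.Agent.S13151

/-- Let A → B be an injective ring homomorphism of integral domains which is integral, with A integrally
closed, and let π be an element of A. Then the contraction to A of the ideal πB is πA, i.e. an
element of A which is a multiple of π in B is already a multiple of π in A; in particular if B/πB is
an integral domain then A/πA is an integral domain. (The published statement is for an integral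
dominant morphism of integral schemes flat over a discrete valuation ring, with normal target and π
a uniformizer; flatness and the valuation ring play no role, so π is an arbitrary element here.) -/
theorem result {A B : Type u} [CommRing A] [CommRing B]
    [IsDomain A] [IsDomain B] [IsIntegrallyClosed A] [Algebra A B] [Algebra.IsIntegral A B]
    (hinj : Function.Injective (algebraMap A B)) (π : A) :
    (Ideal.span {algebraMap A B π}).comap (algebraMap A B) = Ideal.span {π} ∧
      (IsDomain (B ⧸ Ideal.span {algebraMap A B π}) → IsDomain (A ⧸ Ideal.span {π})) := by
  have h1 : (Ideal.span {algebraMap A B π}).comap (algebraMap A B) = Ideal.span {π} := by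
    refine le_antisymm (fun a ha => ?_) ?_
    · rw [Ideal.mem_comap, Ideal.mem_span_singleton'] at ha
      obtain ⟨b, hb⟩ := ha
      by_cases hπ : π = 0
      · subst hπ
        rw [map_zero, mul_zero] at hb
        simp [hinj (hb.symm.trans (map_zero _).symm)]
      obtain ⟨P, hP, hPb⟩ := Algebra.IsIntegral.isIntegral (R := A) b
      have h2 : (P.scaleRoots π).eval a = 0 := by
        apply hinj
        rw [map_zero, ← Polynomial.eval₂_at_apply, ← hb, mul_comm,
          Polynomial.scaleRoots_eval₂_mul, hPb, mul_zero]
      let K := FractionRing A
      have hπK : algebraMap A K π ≠ 0 :=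
        (map_ne_zero_iff _ (IsFractionRing.injective A K)).2 hπ
      have h3 : IsIntegral A (algebraMap A K a / algebraMap A K π) := by
        refine ⟨P, hP, ?_⟩
        have h4 : (P.scaleRoots π).eval₂ (algebraMap A K)
            (algebraMap A K π * (algebraMap A K a / algebraMap A K π)) = 0 := by
          rw [mul_div_cancel₀ _ hπK, Polynomial.eval₂_at_apply, h2, map_zero]
        rw [Polynomial.scaleRoots_eval₂_mul] at h4
        exact (mul_eq_zero.1 h4).resolve_left (pow_ne_zero _ hπK)
      obtain ⟨c, hc⟩ := IsIntegrallyClosed.isIntegral_iff.1 h3
      rw [eq_div_iff hπK, ← map_mul] at hc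
      exact Ideal.mem_span_singleton'.2 ⟨c, IsFractionRing.injective A K hc⟩
    · rw [Ideal.span_singleton_le_iff_mem, Ideal.mem_comap]
      exact Ideal.mem_span_singleton_self _
  refine ⟨h1, fun h => ?_⟩
  rw [Ideal.Quotient.isDomain_iff_prime] at h ⊢
  rw [← h1]
  exact h.comap _

end Groth.Agent.S13151
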