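import Groth.Statements.S13153
import Mathlib.RingTheory.Smooth.Field
import Mathlib.RingTheory.Kaehler.Polynomial
import Mathlib.RingTheory.Etale.Kaehler
import Mathlib.FieldTheory.Perfect
import Mathlib.RingTheory.Flat.FaithfullyFlat.Algebra
import Mathlib.RingTheory.Localization.FractionRing
import Mathlib.RingTheory.DiscreteValuationRing.Basic
import Mathlib.RingTheory.AlgebraicIndependent.TranscendenceBasis
import Mathlib.RingTheory.Algebraic.Basic

set_option autoImplicit false
universe u
open CAlg

namespace Groth.Agent.S13153

open Polynomial
open scoped TensorProduct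

/-- In characteristic zero, a transcendental element has non-zero differential. -/
theorem D_ne_zero (K L : Type u) [Field K] [CharZero K] [Field L] [Algebra K L] (x : L)
    (hx : Transcendental K x) : KaehlerDifferential.D K L x ≠ 0 := by
  classical
  let φ : K[X] →ₐ[K] L := aeval x
  have hφ : Function.Injective φ := transcendental_iff_injective.1 hx
  letI : Algebra K[X] L := φ.toRingHom.toAlgebra
  haveI : IsScalarTower K K[X] L := IsScalarTower.of_algebraMap_eq fun c => (aeval_C x c).symm
  haveI : FaithfulSMul K[X] L := (faithfulSMul_iff_algebraMap_injective _ _).2 hφ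
  let E := FractionRing K[X]
  letI : Algebra E L := (IsFractionRing.lift (A := K[X]) (K := E) hφ).toAlgebra
  haveI : IsScalarTower K[X] E L := IsScalarTower.of_algebraMap_eq fun p =>
    (IsFractionRing.lift_algebraMap hφ p).symm
  haveI : CharZero E := charZero_of_injective_algebraMap (algebraMap K E).injective
  obtain ⟨s, hs⟩ := exists_isTranscendenceBasis E L
  haveI : Algebra.IsAlgebraic (IntermediateField.adjoin E (Set.range ((↑) : s → L))) L :=
    hs.isAlgebraic_field
  haveI : Algebra.IsSeparable (IntermediateField.adjoin E (Set.range ((↑) : s → L))) L :=
    Algebra.IsAlgebraic.isSeparable_of_perfectField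
  haveI : Algebra.FormallySmooth E L := .of_algebraicIndependent_of_isSeparable hs.1
  haveI : Algebra.FormallySmooth K[X] E := .of_isLocalization (nonZeroDivisors K[X])
  haveI : Algebra.FormallySmooth K[X] L := .comp _ E _
  intro h0
  have h1 : KaehlerDifferential.mapBaseChange K K[X] L ((1 : L) ⊗ₜ KaehlerDifferential.D K K[X] X) = 0 := by
    rw [KaehlerDifferential.mapBaseChange_tmul, one_smul, KaehlerDifferential.map_D,
      show algebraMap K[X] L X = x from aeval_X x]
    exact h0
  obtain ⟨z, hz⟩ := (Algebra.H1Cotangent.exact_δ_mapBaseChange K K[X] L _).1 h1
  have hz0 : z = 0 := Subsingleton.elim _ _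
  rw [hz0, map_zero] at hz
  have h2 := congrArg ((TensorProduct.AlgebraTensorModule.rid K[X] L L).toLinearMap ∘ₗ
    ((KaehlerDifferential.polynomialEquiv K).toLinearMap.baseChange L)) hz.symm
  simp at h2

/-- Let R be a discrete valuation ring whose fraction field K has characteristic zero, A an integral
domain which is a faithfully flat R-algebra, with fraction field L, such that K is algebraically
closed in L (every element of L algebraic over K is in the image of K). If f ∈ A has vanishing
differential, df = 0 in Ω_{A/R}, then f is the image of an element of R. (The published statement is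
the sheaf form: for a faithfully flat morphism X → Spec R with geometrically integral generic fibre,
the kernel of d : O_X → Ω¹_{X/R} is the inverse image of O_{Spec R}; for integral X, geometric
integrality of the generic fibre in characteristic zero amounts to K being algebraically closed in
the function field, which is the form used here, and this row is the case of global sections over an
affine X = Spec A.) -/
theorem result (R : Type u) [CommRing R] [IsDomain R]
    [IsDiscreteValuationRing R] [CharZero R] (K : Type u) [Field K] [Algebra R K] [IsFractionRing R K]
    (A : Type u) [CommRing A] [IsDomain A] [Algebra R A] [Module.FaithfullyFlat R A]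
    (L : Type u) [Field L] [Algebra A L] [IsFractionRing A L] [Algebra R L] [Algebra K L]
    [IsScalarTower R A L] [IsScalarTower R K L]
    (hac : ∀ x : L, IsAlgebraic K x → x ∈ (algebraMap K L).range)
    (f : A) (hf : KaehlerDifferential.D R A f = 0) : f ∈ (algebraMap R A).range := by
  haveI : CharZero K := (IsFractionRing.injective R K).comp Nat.cast_injective |>
    fun h => ⟨fun a b hab => h (by simpa using hab)⟩
  haveI : IsScalarTower R A L := inferInstance
  set y := algebraMap A L f
  have hy : KaehlerDifferential.D K L y = 0 := by
    have h := KaehlerDifferential.map_D R K A L f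
    rw [hf, map_zero] at h
    exact h.symm
  obtain ⟨k, hk⟩ := hac y (by
    by_contra hcon
    exact D_ne_zero K L y hcon hy)
  obtain ⟨⟨r, s⟩, hrs⟩ := IsLocalization.surj (nonZeroDivisors R) k
  have hfs : algebraMap R A s * f = algebraMap R A r := by
    apply IsFractionRing.injective A L
    rw [map_mul, ← IsScalarTower.algebraMap_apply, ← IsScalarTower.algebraMap_apply,
      IsScalarTower.algebraMap_apply R K L, IsScalarTower.algebraMap_apply R K L r]
    show _ * y = _
    rw [← hk, ← map_mul, mul_comm]
    exact congrArg _ hrs
  have hr : r ∈ Ideal.span {(s : R)} := by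
    rw [← Ideal.comap_map_eq_self_of_faithfullyFlat (B := A) (Ideal.span {(s : R)}),
      Ideal.mem_comap, Ideal.map_span, Set.image_singleton, Ideal.mem_span_singleton]
    exact ⟨f, hfs.symm⟩
  obtain ⟨c, rfl⟩ := Ideal.mem_span_singleton.1 hr
  refine ⟨c, ?_⟩
  have hinj : Function.Injective (algebraMap R A) := FaithfulSMul.algebraMap_injective R A
  have hs0 : algebraMap R A s ≠ 0 := by
    rw [map_ne_zero_iff _ hinj]
    exact nonZeroDivisors.ne_zero s.2
  exact mul_left_cancel₀ hs0 (by rw [hfs, map_mul])

end Groth.Agent.S13153
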