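import Groth.Statements.S13154
import Mathlib.RingTheory.Flat.FaithfullyFlat.Basic
import Mathlib.RingTheory.Localization.FractionRing
import Mathlib.RingTheory.TensorProduct.Maps

set_option autoImplicit false
universe u
open scoped TensorProduct
open CAlg

namespace Groth.Agent.S13154

variable (R : Type u) [CommRing R] [IsDomain R] (K : Type u) [Field K] [Algebra R K]
  [IsFractionRing R K] (A : Type u) [CommRing A] [Algebra R A] [Module.FaithfullyFlat R A]
  (B : Type u) [CommRing B] [Algebra R B] [Module.Flat R B]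

theorem includeRight_inj : Function.Injective
    (Algebra.TensorProduct.includeRight : B →ₐ[R] K ⊗[R] B) := by
  have h := Module.Flat.rTensor_preserves_injective_linearMap (M := B) (Algebra.linearMap R K)
    (IsFractionRing.injective R K)
  intro a b hab
  exact (TensorProduct.lid R B).symm.injective (h (by simpa using hab))

theorem jA_inj : Function.Injective
    (Algebra.TensorProduct.map (Algebra.TensorProduct.includeRight : A →ₐ[R] K ⊗[R] A)
      (AlgHom.id R B)) :=
  Module.Flat.rTensor_preserves_injective_linearMap (M := B)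
    (Algebra.TensorProduct.includeRight : A →ₐ[R] K ⊗[R] A).toLinearMap (includeRight_inj R K A)

theorem glue (x : K ⊗[R] B) (y : A ⊗[R] B)
    (h : Algebra.TensorProduct.map (Algebra.TensorProduct.includeLeft : K →ₐ[R] K ⊗[R] A) (AlgHom.id R B) x =
      Algebra.TensorProduct.map (Algebra.TensorProduct.includeRight : A →ₐ[R] K ⊗[R] A) (AlgHom.id R B) y) :
    ∃ b : B, x = 1 ⊗ₜ b ∧ y = 1 ⊗ₜ b := by
  set i := Algebra.TensorProduct.map (Algebra.TensorProduct.includeLeft : K →ₐ[R] K ⊗[R] A) (AlgHom.id R B)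
  set j := Algebra.TensorProduct.map (Algebra.TensorProduct.includeRight : A →ₐ[R] K ⊗[R] A) (AlgHom.id R B)
  have hij : ∀ b : B, i (1 ⊗ₜ b) = j (1 ⊗ₜ b) := fun b => by
    simp [i, j, Algebra.TensorProduct.one_def]
  obtain ⟨r, hr, b, hb⟩ : ∃ r : R, r ≠ 0 ∧ ∃ b : B, r • x = 1 ⊗ₜ b := by
    clear h
    induction x with
    | zero => exact ⟨1, one_ne_zero, 0, by simp⟩
    | tmul k c =>
      obtain ⟨⟨a, s⟩, hs⟩ := IsLocalization.surj (nonZeroDivisors R) k
      refine ⟨s, nonZeroDivisors.ne_zero s.2, a • c, ?_⟩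
      rw [TensorProduct.smul_tmul', TensorProduct.tmul_smul, TensorProduct.smul_tmul']
      congr 1
      rw [Algebra.smul_def, Algebra.smul_def, mul_one, mul_comm]
      exact hs
    | add x y hx hy =>
      obtain ⟨r, hr, b, hb⟩ := hx
      obtain ⟨r', hr', b', hb'⟩ := hy
      refine ⟨r * r', mul_ne_zero hr hr', r' • b + r • b', ?_⟩
      rw [smul_add, TensorProduct.tmul_add, TensorProduct.tmul_smul, TensorProduct.tmul_smul,
        ← hb, ← hb', smul_smul, smul_smul, mul_comm r' r]
  have hy : r • y = 1 ⊗ₜ b := jA_inj R K A B (by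
    show j (r • y) = j (1 ⊗ₜ b)
    rw [map_smul, ← h, ← map_smul, hb, hij])
  have hbr : b ∈ LinearMap.range (LinearMap.lsmul R B r) := by
    set S : Submodule R B := LinearMap.range (LinearMap.lsmul R B r)
    rw [← Submodule.Quotient.mk_eq_zero (p := S)]
    refine (Module.FaithfullyFlat.one_tmul_eq_zero_iff R (B ⧸ S) (A := A) _).1 ?_
    have h1 : S.mkQ.lTensor A (1 ⊗ₜ b) = 0 := by
      rw [← hy, map_smul]
      generalize y = z
      induction z with
      | zero => simp
      | tmul a c =>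
        rw [LinearMap.lTensor_tmul, ← TensorProduct.tmul_smul, ← map_smul,
          show S.mkQ (r • c) = 0 from (Submodule.Quotient.mk_eq_zero _).2 ⟨c, rfl⟩, TensorProduct.tmul_zero]
      | add u v hu hv => rw [map_add, smul_add, hu, hv, add_zero]
    simpa using h1
  obtain ⟨b', hb'⟩ := hbr
  have hx : x = 1 ⊗ₜ b' := by
    have e : algebraMap R K r • x = algebraMap R K r • (1 ⊗ₜ b' : K ⊗[R] B) := by
      rw [algebraMap_smul, algebraMap_smul, hb, ← TensorProduct.tmul_smul]
      exact congrArg _ hb'.symm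
    exact smul_right_injective _ ((map_ne_zero_iff _ (IsFractionRing.injective R K)).2 hr) e
  exact ⟨b', hx, jA_inj R K A B (by
    show j y = j (1 ⊗ₜ b')
    rw [← h, hx, hij])⟩

/-- Let R be a discrete valuation ring with fraction field K, A a faithfully flat R-algebra (an affine
faithfully flat base change S' → S = Spec R) and B₁, B₂ flat R-algebras (two affine S-schemes X₁ =
Spec B₁, X₂ = Spec B₂, flat over S). Suppose given a K-algebra homomorphism φ_K : K ⊗ B₂ → K ⊗ B₁ (a
morphism of the generic fibres X₁,K → X₂,K) and an A-algebra homomorphism φ_A : A ⊗ B₂ → A ⊗ B₁ (a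
morphism X₁ ×_S S' → X₂ ×_S S' over S') which coincide after base change to K ⊗ A, in the sense that
for every b ∈ B₂ the images of φ_K(1 ⊗ b) and φ_A(1 ⊗ b) in (K ⊗ A) ⊗ B₁ agree. Then there is
exactly one R-algebra homomorphism φ : B₂ → B₁ (a morphism X₁ → X₂) whose base changes to K and to A
are φ_K and φ_A. (The published statement assumes only X₂ flat over S; flatness of X₁ is also
needed: with B₂ = R[t], B₁ = R[e]/(e², πe) for a uniformizer π and A = R[x], the maps t ↦ 0 over K
and t ↦ e x over A agree over K ⊗ A = K[x] but come from no map over R.) -/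
theorem result (R : Type u) [CommRing R] [IsDomain R]
    [IsDiscreteValuationRing R] (K : Type u) [Field K] [Algebra R K] [IsFractionRing R K]
    (A : Type u) [CommRing A] [Algebra R A] [Module.FaithfullyFlat R A]
    (B₁ B₂ : Type u) [CommRing B₁] [CommRing B₂] [Algebra R B₁] [Algebra R B₂]
    [Module.Flat R B₁] [Module.Flat R B₂]
    (φK : K ⊗[R] B₂ →ₐ[K] K ⊗[R] B₁) (φA : A ⊗[R] B₂ →ₐ[A] A ⊗[R] B₁)
    (hcomp : ∀ b : B₂,
      Algebra.TensorProduct.map (Algebra.TensorProduct.includeLeft : K →ₐ[R] K ⊗[R] A) (AlgHom.id R B₁)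
          (φK (1 ⊗ₜ b)) =
        Algebra.TensorProduct.map (Algebra.TensorProduct.includeRight : A →ₐ[R] K ⊗[R] A) (AlgHom.id R B₁)
          (φA (1 ⊗ₜ b))) :
    ∃! φ : B₂ →ₐ[R] B₁, (∀ b : B₂, φK (1 ⊗ₜ b) = 1 ⊗ₜ φ b) ∧ (∀ b : B₂, φA (1 ⊗ₜ b) = 1 ⊗ₜ φ b) := by
  have hex : ∀ b : B₂, ∃ c : B₁, φK (1 ⊗ₜ b) = 1 ⊗ₜ c ∧ φA (1 ⊗ₜ b) = 1 ⊗ₜ c := fun b =>
    glue R K A B₁ _ _ (hcomp b)
  choose f hf using hex
  let ι : B₁ →ₐ[R] K ⊗[R] B₁ := Algebra.TensorProduct.includeRight
  have hι : Function.Injective ι := includeRight_inj R K B₁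
  let ψ : B₂ →ₐ[R] K ⊗[R] B₁ := (φK.restrictScalars R).comp Algebra.TensorProduct.includeRight
  have hψ : ∀ b, ι (f b) = ψ b := fun b => (hf b).1.symm
  refine ⟨{ toFun := f
            map_one' := hι (by rw [hψ, map_one, map_one])
            map_mul' := fun a b => hι (by rw [hψ, map_mul, map_mul, hψ, hψ])
            map_zero' := hι (by rw [hψ, map_zero, map_zero])
            map_add' := fun a b => hι (by rw [hψ, map_add, map_add, hψ, hψ])
            commutes' := fun r => hι (by rw [hψ, AlgHom.commutes, AlgHom.commutes]) },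
    ⟨fun b => (hf b).1, fun b => (hf b).2⟩, ?_⟩
  rintro φ ⟨h1, -⟩
  ext b
  exact hι ((h1 b).symm.trans (hf b).1)

end Groth.Agent.S13154
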