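import Groth.Statements.S13155
import Mathlib.RingTheory.AdjoinRoot
import Mathlib.RingTheory.Localization.Away.Basic
import Mathlib.RingTheory.IntegralClosure.IsIntegralClosure.Basic

set_option autoImplicit false
universe u
open CAlg

namespace Groth.Agent.S13155

theorem aux {A : Type u} [CommRing A] [IsDomain A] (π : A) (hπ : Prime π) :
    ∀ (N : ℕ) (f g : A), f * g = π ^ N → ∃ (e : ℕ) (u : Aˣ), f = π ^ e * u := by
  intro N
  induction N with
  | zero => intro f g h; exact ⟨0, (IsUnit.of_mul_eq_one g (by simpa using h)).unit, by simp⟩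
  | succ N ih =>
    intro f g h
    rcases hπ.dvd_or_dvd ⟨π ^ N, by rw [h, pow_succ']⟩ with ⟨f', rfl⟩ | ⟨g', rfl⟩
    · obtain ⟨e, u, rfl⟩ := ih f' g (mul_left_cancel₀ hπ.ne_zero (by rw [← mul_assoc, h, pow_succ']))
      exact ⟨e + 1, u, by ring⟩
    · exact ih f g' (mul_left_cancel₀ hπ.ne_zero (by rw [← mul_assoc, mul_comm π f, mul_assoc, h, pow_succ']))
theorem core {A S : Type u} [CommRing A] [CommRing S] [Algebra A S] (π : A) (u : Aˣ) (e m : ℕ) (hm : 0 < m)
    (hunit : IsUnit (algebraMap A S π)) (z : S) (hz : z ^ m = algebraMap A S (π ^ e * u))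
    (hsp : (Ideal.span {algebraMap A (integralClosure A S) π}).IsPrime) : e % m = 0 := by
  classical
  by_contra hr
  let a : A →+* S := algebraMap A S
  change IsUnit (a π) at hunit
  change z ^ m = a (π ^ e * u) at hz
  let W : S := z * ((↑hunit.unit⁻¹ : S) ^ (e / m))
  have hW : W ^ m = a (π ^ (e % m) * u) := by
    have h2 : W ^ m * a π ^ (m * (e / m)) = a (π ^ (e % m) * u) * a π ^ (m * (e / m)) := by
      rw [mul_pow, hz, mul_assoc, ← pow_mul, mul_comm (e / m) m, ← mul_pow, IsUnit.val_inv_mul, one_pow, mul_one,
        ← map_pow, ← map_mul, mul_right_comm, ← pow_add, Nat.mod_add_div]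
    exact (hunit.pow _).mul_right_cancel h2
  have hWint : IsIntegral A W := IsIntegral.of_pow hm (hW ▸ isIntegral_algebraMap)
  let w : integralClosure A S := ⟨W, hWint⟩
  have hw : w ^ m ∈ Ideal.span {algebraMap A (integralClosure A S) π} := by
    rw [show w ^ m = algebraMap A _ (π ^ (e % m) * u) from Subtype.ext hW, map_mul, map_pow]
    exact Ideal.mul_mem_right _ _ (Ideal.pow_mem_of_mem _ (Ideal.mem_span_singleton_self _) _ (Nat.pos_of_ne_zero hr))
  obtain ⟨b, hb⟩ := Ideal.mem_span_singleton'.mp (hsp.mem_of_pow_mem m hw)
  have h3 : a (u : A) = a π ^ (m - e % m) * (b : S) ^ m := by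
    refine (hunit.pow (e % m)).mul_left_cancel ?_
    rw [← mul_assoc, ← pow_add, Nat.add_sub_cancel' (Nat.mod_lt e hm).le, ← mul_pow, ← map_pow, ← map_mul, ← hW]
    congr 1
    have := congrArg Subtype.val hb
    simp only [Subalgebra.coe_mul, Subalgebra.coe_algebraMap] at this
    rw [mul_comm, this]
  refine hsp.ne_top (Ideal.span_singleton_eq_top.mpr ?_)
  have h4 : algebraMap A (integralClosure A S) (u : A) =
      algebraMap A (integralClosure A S) π ^ (m - e % m) * b ^ m := by
    refine Subtype.ext ?_
    simpa using h3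
  have h5 : IsUnit (algebraMap A (integralClosure A S) π ^ (m - e % m)) :=
    isUnit_of_mul_isUnit_left (h4 ▸ u.isUnit.map _)
  exact (isUnit_pow_iff (by have := Nat.mod_lt e hm; omega)).mp h5

/-- Let R be a discrete valuation ring of characteristic zero with uniformizer π, and A a Noetherian
integrally closed domain which is an R-algebra with injective structure map and in which πA is a
prime ideal (X = Spec A is normal, flat over R, with integral special fibre). Let m ≥ 1 and let f ∈
A be invertible in A[1/π] (so Z^m = f defines a μ_m-torsor over the generic fibre), such that S =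
A[1/π][Z]/(Z^m − f) is an integral domain and, writing B for the integral closure of A in S (the
normalization of X in that cover), πB is a prime ideal of B (the normalization has integral special
fibre). Then f is, up to a unit of A, an m-th power of a power of π: f = π^{mq}·u with q ≥ 0 and u ∈
A^×, so that the cover extends to the μ_m-torsor Z^m = u over all of X. (The published statement is
the existence and uniqueness of the extending μ_m-torsor over a normal faithfully flat R-scheme with
integral fibres, R containing a primitive m-th root of unity; this row is the affine computation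
that carries the proof.) -/
theorem result (R : Type u) [CommRing R]
    [IsDomain R] [IsDiscreteValuationRing R] [CharZero R] (ϖ : R) (hϖ : Irreducible ϖ)
    (A : Type u) [CommRing A] [IsDomain A] [IsNoetherianRing A] [IsIntegrallyClosed A] [Algebra R A]
    (hinj : Function.Injective (algebraMap R A)) (hprime : (Ideal.span {algebraMap R A ϖ}).IsPrime)
    (m : ℕ) (hm : 0 < m) (f : A) (hf : IsUnit (algebraMap A (Localization.Away (algebraMap R A ϖ)) f))
    [IsDomain (AdjoinRoot (Polynomial.X ^ m - Polynomial.C (algebraMap A (Localization.Away (algebraMap R A ϖ)) f)))]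
    (hsp : (Ideal.span {algebraMap A (integralClosure A
        (AdjoinRoot (Polynomial.X ^ m - Polynomial.C (algebraMap A (Localization.Away (algebraMap R A ϖ)) f))))
          (algebraMap R A ϖ)}).IsPrime) :
    ∃ (q : ℕ) (u : Aˣ), f = algebraMap R A ϖ ^ (m * q) * (u : A) := by
  classical
  set π := algebraMap R A ϖ with hπdef
  have hπ0 : π ≠ 0 := (map_ne_zero_iff _ hinj).mpr hϖ.ne_zero
  have hπ : Prime π := (Ideal.span_singleton_prime hπ0).mp hprime
  obtain ⟨⟨g, ⟨t, ht⟩⟩, hg⟩ := IsLocalization.surj (Submonoid.powers π) (↑hf.unit⁻¹ : Localization.Away π)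
  obtain ⟨N, rfl⟩ := ht
  have hfg : f * g = π ^ N := by
    apply IsLocalization.injective (Localization.Away π) (powers_le_nonZeroDivisors_of_noZeroDivisors hπ0)
    simp only at hg
    rw [map_mul, ← hg, ← mul_assoc, IsUnit.mul_val_inv, one_mul]
  obtain ⟨e, u, rfl⟩ := aux π hπ N f g hfg
  refine ⟨e / m, u, ?_⟩
  suffices hr : e % m = 0 by rw [Nat.mul_div_cancel' (Nat.dvd_of_mod_eq_zero hr)]
  let S := AdjoinRoot (Polynomial.X ^ m - Polynomial.C (algebraMap A (Localization.Away π) (π ^ e * u)))
  have hunit : IsUnit (algebraMap A S π) := by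
    have := (IsLocalization.Away.algebraMap_isUnit (S := Localization.Away π) π).map (algebraMap (Localization.Away π) S)
    rwa [← IsScalarTower.algebraMap_apply] at this
  have hroot : (AdjoinRoot.root (Polynomial.X ^ m - Polynomial.C (algebraMap A (Localization.Away π) (π ^ e * u)))) ^ m
      = algebraMap A S (π ^ e * u) := by
    have h1 := AdjoinRoot.eval₂_root (Polynomial.X ^ m - Polynomial.C (algebraMap A (Localization.Away π) (π ^ e * u)))
    rw [Polynomial.eval₂_sub, Polynomial.eval₂_X_pow, Polynomial.eval₂_C, sub_eq_zero] at h1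
    rw [h1, ← AdjoinRoot.algebraMap_eq, ← IsScalarTower.algebraMap_apply]
  exact core π u e m hm hunit _ hroot hsp

end Groth.Agent.S13155
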