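import Groth.Statements.S13157
import Mathlib.Algebra.Polynomial.Derivative
import Mathlib.Tactic.LinearCombination
import Mathlib.Tactic.Ring
import Mathlib.Algebra.BigOperators.Intervals

set_option autoImplicit false
universe u
open scoped Polynomial
open CAlg

namespace Groth.Agent.S13157

open Polynomial Finset in
theorem rel_iff {A : Type u} [CommRing A] (μ : A) (F : A[X]) :
    F * C (F.coeff 1) = derivative F * (1 + C μ * X) ↔
      ∀ r : ℕ, F.coeff r * F.coeff 1 = F.coeff (r + 1) * (r + 1) + μ * ((r : A) * F.coeff r) := by
  rw [Polynomial.ext_iff]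
  refine forall_congr' fun r => ?_
  rw [coeff_mul_C, show derivative F * (1 + C μ * X) = derivative F + C μ * (derivative F * X) by ring, coeff_add,
    coeff_derivative, coeff_C_mul]
  cases r with
  | zero => simp
  | succ r => rw [coeff_mul_X, coeff_derivative]; push_cast; ring_nf

theorem isUnit_factorial {A : Type u} [CommRing A] {n : ℕ} (h : IsUnit ((n.factorial : ℕ) : A)) {r : ℕ} (hr : r ≤ n) :
    IsUnit ((r.factorial : ℕ) : A) := by
  obtain ⟨c, hc⟩ := Nat.factorial_dvd_factorial hr
  rw [hc, Nat.cast_mul] at h
  exact isUnit_of_mul_isUnit_left h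

open Polynomial Finset in

/-- (i) ⇔ (ii): let p be a prime number, A a commutative ring in which (p−1)! is invertible, μ ∈ A, and
F ∈ A[X] a polynomial of degree at most p − 1 with constant term a_0 = 1 and coefficients a_1, a_2,
…. Then the relations a_{r−1}·a_1 = (r − 1)μ·a_{r−1} + r·a_r for 1 ≤ r ≤ p (with a_p = 0), written
here as the single identity a_1·F = F′·(1 + μX), hold if and only if r!·a_r = ∏_{k=0}^{r−1} (a_1 −
kμ) for every 1 ≤ r ≤ p − 1 and ∏_{k=0}^{p−1} (a_1 − kμ) = 0. (The published statement lists the
relations only for 1 ≤ r ≤ p − 1, while its proof uses and derives the relation for r = p as well,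
which is needed for the vanishing of the last product; it is included here. The published setting is
the quotient of a discrete valuation ring of residue characteristic p by a nonzero non-unit; only
the invertibility of 1, …, p − 1 is used.) -/
theorem result (A : Type u) [CommRing A] (p : ℕ) [Fact p.Prime]
    (hu : IsUnit ((Nat.factorial (p - 1) : ℕ) : A)) (μ : A) (F : A[X]) (hF : F.natDegree < p)
    (h0 : F.coeff 0 = 1) :
    F * Polynomial.C (F.coeff 1) = Polynomial.derivative F * (1 + Polynomial.C μ * Polynomial.X) ↔
      ((∀ r : ℕ, 1 ≤ r → r < p →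
          (r.factorial : A) * F.coeff r = ∏ k ∈ Finset.range r, (F.coeff 1 - (k : A) * μ)) ∧
        ∏ k ∈ Finset.range p, (F.coeff 1 - (k : A) * μ) = 0) := by
  rw [rel_iff]
  have hp : 1 ≤ p := (Fact.out : p.Prime).one_le
  have htop : ∀ r, p ≤ r → F.coeff r = 0 := fun r hr => coeff_eq_zero_of_natDegree_lt (hF.trans_le hr)
  constructor
  · intro h
    have key : ∀ r : ℕ, (r.factorial : A) * F.coeff r = ∏ k ∈ Finset.range r, (F.coeff 1 - (k : A) * μ) := by
      intro r
      induction r with
      | zero => simp [h0]
      | succ r ih =>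
        rw [Finset.prod_range_succ, ← ih, Nat.factorial_succ]
        push_cast
        linear_combination (-(r.factorial : A)) * h r
    refine ⟨fun r _ _ => key r, ?_⟩
    rw [← key p, htop p le_rfl, mul_zero]
  · rintro ⟨h, hlast⟩ r
    have hu' : r < p → IsUnit ((r.factorial : ℕ) : A) := fun hr => isUnit_factorial hu (by omega)
    rcases lt_or_ge r p with hr | hr
    · refine (hu' hr).mul_left_cancel ?_
      have hr0 : (r.factorial : A) * F.coeff r = ∏ k ∈ Finset.range r, (F.coeff 1 - (k : A) * μ) := by
        rcases Nat.eq_zero_or_pos r with rfl | h1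
        · simp [h0]
        · exact h r h1 hr
      have h2 : ((r + 1).factorial : A) * F.coeff (r + 1) = ∏ k ∈ Finset.range (r + 1), (F.coeff 1 - (k : A) * μ) := by
        rcases (Nat.succ_le_of_lt hr).lt_or_eq with h3 | h3
        · exact h (r + 1) (by omega) h3
        · rw [htop (r + 1) h3.ge, mul_zero, show r + 1 = p from h3, hlast]
      rw [Finset.prod_range_succ, ← hr0, Nat.factorial_succ] at h2
      push_cast at h2
      linear_combination -h2
    · rw [htop r hr, htop (r + 1) (by omega)]; ring

end Groth.Agent.S13157
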