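import Groth.Statements.S13156
import Mathlib.Algebra.Polynomial.Derivative
import Mathlib.Algebra.Polynomial.AlgebraMap
import Mathlib.RingTheory.Polynomial.Basic
import Mathlib.Algebra.MvPolynomial.Equiv
import Groth.Agent.S13157

set_option autoImplicit false
universe u
open scoped Polynomial
open CAlg

namespace Groth.Agent.S13156

open Polynomial in

/-- Let p be a prime number, A a commutative ring in which (p−1)! is invertible, μ an element of A, and
F ∈ A[X] a polynomial of degree at most p − 1 with coefficients a_0, a_1, …. Then the identity
F(S)·F(T) − a_0² = F(S + T + μST) − a_0 holds in the polynomial ring A[S, T] if and only if a_1·F(S)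
= F′(S)·(1 + μS) holds in A[S], F′ the formal derivative. (The published statement is over the
quotient of a discrete valuation ring of residue characteristic p by a nonzero element of its
maximal ideal; only the invertibility of 1, …, p − 1 is used, so an arbitrary such ring A is allowed
here.) -/
theorem result (A : Type u) [CommRing A] (p : ℕ) [Fact p.Prime]
    (hu : IsUnit ((Nat.factorial (p - 1) : ℕ) : A)) (μ : A) (F : A[X]) (hF : F.natDegree < p) :
    (Polynomial.aeval (MvPolynomial.X 0 : MvPolynomial (Fin 2) A) F *
          Polynomial.aeval (MvPolynomial.X 1 : MvPolynomial (Fin 2) A) F - MvPolynomial.C (F.coeff 0 ^ 2) =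
        Polynomial.aeval (MvPolynomial.X 0 + MvPolynomial.X 1 +
            MvPolynomial.C μ * MvPolynomial.X 0 * MvPolynomial.X 1 : MvPolynomial (Fin 2) A) F -
          MvPolynomial.C (F.coeff 0)) ↔
      F * Polynomial.C (F.coeff 1) = Polynomial.derivative F * (1 + Polynomial.C μ * Polynomial.X) := by
  let φ : MvPolynomial (Fin 2) A →ₐ[A] A[X][X] :=
    MvPolynomial.aeval ![C (X : A[X]), (X : A[X][X])]
  have hφ : Function.Injective φ := by
    let ψ₁ : A[X] →ₐ[A] MvPolynomial (Fin 2) A := aeval (MvPolynomial.X 0)
    let ψ : A[X][X] →+* MvPolynomial (Fin 2) A := eval₂RingHom ψ₁.toRingHom (MvPolynomial.X 1)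
    have h : ψ.comp φ.toRingHom = RingHom.id _ := by
      refine MvPolynomial.ringHom_ext (fun r => ?_) (fun i => ?_)
      · simp [φ, ψ, ψ₁, Polynomial.algebraMap_apply, MvPolynomial.algebraMap_eq]
      · fin_cases i <;> simp [φ, ψ, ψ₁]
    exact Function.LeftInverse.injective (RingHom.congr_fun h)
  set a₀ := F.coeff 0
  set a₁ := F.coeff 1
  let S : A[X][X] := C X
  let U : A[X][X] := S + X + algebraMap A A[X][X] μ * S * X
  let G : A[X][X] := aeval S F * aeval (X : A[X][X]) F - algebraMap A _ (a₀ ^ 2) -
    (aeval U F - algebraMap A _ a₀)
  have hG : (aeval (MvPolynomial.X 0 : MvPolynomial (Fin 2) A) F *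
          aeval (MvPolynomial.X 1 : MvPolynomial (Fin 2) A) F - MvPolynomial.C (a₀ ^ 2) =
        aeval (MvPolynomial.X 0 + MvPolynomial.X 1 +
            MvPolynomial.C μ * MvPolynomial.X 0 * MvPolynomial.X 1 : MvPolynomial (Fin 2) A) F -
          MvPolynomial.C a₀) ↔ G = 0 := by
    rw [← hφ.eq_iff, ← sub_eq_zero, ← MvPolynomial.algebraMap_eq]
    simp only [map_sub, map_mul, ← aeval_algHom_apply, map_add, AlgHom.commutes]
    simp [φ, G, U, S, AlgHom.commutes]
  rw [hG]
  have hd' : ∀ (f : A[X]) (z : A[X][X]), derivative (aeval z f) = derivative z * aeval z (derivative f) := by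
    intro f z
    induction f using Polynomial.induction_on' with
    | add f g hf hg => simp only [map_add, derivative_add, hf, hg, mul_add]
    | monomial n c =>
      rw [aeval_monomial, derivative_monomial, aeval_monomial, IsScalarTower.algebraMap_apply A A[X] A[X][X],
        Polynomial.algebraMap_eq, derivative_C_mul, derivative_pow, map_mul, map_natCast]
      rw [map_natCast]
      simp only [IsScalarTower.algebraMap_apply A A[X] A[X][X], Polynomial.algebraMap_eq]
      ring
  have hd := hd' F
  have hμd : derivative U = 1 + algebraMap A A[X][X] μ * S := by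
    simp [U, S, IsScalarTower.algebraMap_apply A A[X] A[X][X]]
  have hdG : derivative G = aeval S F * aeval (X : A[X][X]) (derivative F) -
      (1 + algebraMap A A[X][X] μ * S) * aeval U (derivative F) := by
    simp only [G, derivative_sub, derivative_mul, hd, hμd, derivative_X, one_mul,
      IsScalarTower.algebraMap_apply A A[X] A[X][X], Polynomial.algebraMap_eq, derivative_C, sub_zero, S]
    ring
  have hev : ∀ (z : A[X][X]) (f : A[X]), (aeval z f).eval 0 = aeval (z.eval 0) f := fun z f => by
    rw [← coe_aeval_eq_eval]
    exact (aeval_algHom_apply ((aeval (0 : A[X])).restrictScalars A) z f).symm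
  constructor
  · intro h
    have h1 := congrArg (fun g => (derivative g).eval 0) h
    simp only [hdG, derivative_zero, eval_zero, eval_sub, eval_mul, hev] at h1
    simp only [S, U, eval_C, eval_X, eval_add, eval_mul, eval_one, mul_zero, add_zero,
      aeval_X_left_apply, IsScalarTower.algebraMap_apply A A[X] A[X][X], Polynomial.algebraMap_eq] at h1
    rw [show aeval (0 : A[X]) (derivative F) = C a₁ by
      rw [aeval_def, eval₂_at_zero, coeff_derivative, Polynomial.algebraMap_eq]; simp [a₁]] at h1
    linear_combination h1
  · intro h
    have hrel := (Groth.Agent.S13157.rel_iff μ F).1 h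
    have ha : a₁ * (a₀ - 1) = 0 := by
      have := hrel 0
      simp at this
      linear_combination this
    have hall : ∀ r, 1 ≤ r → F.coeff r * (a₀ - 1) = 0 := by
      intro r hr
      induction r with
      | zero => omega
      | succ r ih =>
        rcases Nat.lt_or_ge (r + 1) p with hrp | hrp
        · rcases Nat.eq_zero_or_pos r with rfl | hr0
          · exact ha
          · have hu1 : IsUnit (((r + 1 : ℕ)) : A) := by
              have h3 : IsUnit (((r + 1).factorial : ℕ) : A) := Groth.Agent.S13157.isUnit_factorial hu (by omega)
              rw [Nat.factorial_succ, Nat.cast_mul] at h3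
              exact isUnit_of_mul_isUnit_left h3
            refine hu1.mul_right_eq_zero.1 ?_
            push_cast
            linear_combination (a₁ - (r : A) * μ) * ih hr0 - (a₀ - 1) * hrel r
        · rw [coeff_eq_zero_of_natDegree_lt (hF.trans_le hrp), zero_mul]
    have h00 : (F - C a₀) * C (a₀ - 1) = 0 := by
      ext r
      rw [coeff_mul_C, coeff_sub, coeff_C, coeff_zero]
      cases r with
      | zero => simp [a₀]
      | succ r => rw [if_neg (Nat.succ_ne_zero r), sub_zero]; exact hall _ (by omega)
    have hz : ∀ z : A[X][X], aeval z F * algebraMap A _ a₁ =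
        aeval z (derivative F) * (1 + algebraMap A _ μ * z) := fun z => by
      have := congrArg (aeval z) h
      simpa using this
    have hdiff : (1 + algebraMap A A[X][X] μ * X) * derivative G = algebraMap A _ a₁ * G := by
      have ha' : algebraMap A A[X][X] a₁ * (algebraMap A _ (a₀ ^ 2) - algebraMap A _ a₀) = 0 := by
        rw [← map_sub, ← map_mul, show a₁ * (a₀ ^ 2 - a₀) = 0 by linear_combination a₀ * ha, map_zero]
      rw [hdG]
      have hU : (1 : A[X][X]) + algebraMap A _ μ * U = (1 + algebraMap A _ μ * S) * (1 + algebraMap A _ μ * X) := by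
        simp only [U]; ring
      have h1 := hz X
      have h2 := hz U
      rw [hU] at h2
      simp only [G]
      linear_combination (-aeval S F) * h1 + h2 + ha'
    have hG0 : G.coeff 0 = 0 := by
      rw [coeff_zero_eq_eval_zero]
      simp only [G, eval_sub, eval_mul, hev]
      simp only [S, U, eval_C, eval_X, eval_add, eval_mul, mul_zero, add_zero, aeval_X_left_apply,
        IsScalarTower.algebraMap_apply A A[X] A[X][X], Polynomial.algebraMap_eq]
      rw [show aeval (0 : A[X]) F = C a₀ by rw [aeval_def, eval₂_at_zero, Polynomial.algebraMap_eq]]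
      simp only [map_pow]
      have := h00
      rw [map_sub, map_one] at this
      linear_combination this
    have hdegG : G.natDegree < p := by
      have hb : ∀ z : A[X][X], z.natDegree ≤ 1 → (aeval z F).natDegree ≤ F.natDegree := fun z hz => by
        rw [aeval_eq_sum_range]
        refine natDegree_sum_le_of_forall_le _ _ fun i hi => (natDegree_smul_le _ _).trans ?_
        exact natDegree_pow_le.trans (by have := Finset.mem_range.1 hi; nlinarith)
      refine lt_of_le_of_lt ?_ hF
      simp only [G, IsScalarTower.algebraMap_apply A A[X] A[X][X], Polynomial.algebraMap_eq]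
      refine (natDegree_sub_le _ _).trans (max_le ?_ ?_)
      · rw [natDegree_sub_C]
        refine natDegree_mul_le.trans ?_
        have h1 : (aeval S F).natDegree = 0 := by
          rw [show S = IsScalarTower.toAlgHom A A[X] A[X][X] X from rfl, aeval_algHom_apply]
          exact natDegree_C _
        rw [h1, zero_add]
        exact hb _ natDegree_X_le
      · rw [natDegree_sub_C]
        refine hb _ ?_
        simp only [U, S, IsScalarTower.algebraMap_apply A A[X] A[X][X], Polynomial.algebraMap_eq]
        refine (natDegree_add_le _ _).trans (max_le ((natDegree_add_le _ _).trans (max_le ?_ natDegree_X_le)) ?_)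
        · rw [natDegree_C]; exact Nat.zero_le _
        · rw [← C_mul]; exact (natDegree_C_mul_le _ _).trans natDegree_X_le
    ext1 r
    rw [coeff_zero]
    rcases lt_or_ge r p with hr | hr
    swap
    · exact coeff_eq_zero_of_natDegree_lt (hdegG.trans_le hr)
    induction r with
    | zero => exact hG0
    | succ r ih =>
      have hc := congrArg (fun g => g.coeff r) hdiff
      simp only [IsScalarTower.algebraMap_apply A A[X] A[X][X], Polynomial.algebraMap_eq, add_mul, one_mul, coeff_add,
        mul_assoc, coeff_C_mul, coeff_derivative, ih (by omega), mul_zero] at hc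
      have hX : (X * derivative G).coeff r = 0 := by
        cases r with
        | zero => simp
        | succ r => rw [coeff_X_mul, coeff_derivative, ih (by omega), zero_mul]
      rw [hX, mul_zero, add_zero] at hc
      have hu1 : IsUnit (((r + 1 : ℕ)) : A[X]) := by
        have h3 : IsUnit (((r + 1).factorial : ℕ) : A) := Groth.Agent.S13157.isUnit_factorial hu (by omega)
        rw [Nat.factorial_succ, Nat.cast_mul] at h3
        have h4 := (isUnit_of_mul_isUnit_left h3).map (C : A →+* A[X])
        rwa [map_natCast] at h4
      refine hu1.mul_left_eq_zero.1 ?_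
      push_cast
      exact hc

end Groth.Agent.S13156
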