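import Groth.Statements.S13158
import Mathlib.Data.Nat.Choose.Factorization
import Mathlib.RingTheory.IntegralClosure.IntegrallyClosed
import Mathlib.RingTheory.Flat.FaithfullyFlat.Algebra
import Mathlib.Algebra.Polynomial.Monic
import Mathlib.Algebra.BigOperators.Intervals
import Mathlib.Tactic.LinearCombination
import Mathlib.RingTheory.DiscreteValuationRing.Basic

set_option autoImplicit false
universe u
open CAlg

namespace Groth.Agent.S13158

theorem arith {p : ℕ} (hp : 1 ≤ p) (n j : ℕ) (hj : j ≤ n) :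
    p ^ n ≤ p ^ (n - 1) * (p - 1) * (n - j) + p ^ j := by
  induction n, hj using Nat.le_induction with
  | base => simp
  | succ m hjm ih =>
    obtain ⟨q, rfl⟩ : ∃ q, p = q + 1 := ⟨p - 1, by omega⟩
    have h1 : (q + 1) ^ (m - 1) ≤ (q + 1) ^ m := Nat.pow_le_pow_right (by omega) (by omega)
    rw [show m + 1 - j = (m - j) + 1 by omega, Nat.add_sub_cancel, Nat.add_sub_cancel] at *
    rw [pow_succ]
    have h2 : (q + 1) ^ (m - 1) * q * (m - j) ≤ (q + 1) ^ m * q * (m - j) :=
      Nat.mul_le_mul_right _ (Nat.mul_le_mul_right _ h1)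
    nlinarith

theorem dvd_choose_mul {R : Type u} [CommRing R] {p n : ℕ} (hp : p.Prime) {lam : R}
    (hstar : lam ^ (p ^ (n - 1) * (p - 1)) ∣ (p : R)) {k : ℕ} (hk : k ≠ 0) (hkn : k ≤ p ^ n) :
    lam ^ (p ^ n) ∣ ((p ^ n).choose k : R) * lam ^ k := by
  set j := k.factorization p
  have hjk : p ^ j ≤ k := Nat.le_of_dvd (Nat.pos_of_ne_zero hk) (Nat.ordProj_dvd k p)
  have hjn : j ≤ n := (Nat.pow_le_pow_iff_right hp.one_lt).1 (hjk.trans hkn)
  have h1 : p ^ (n - j) ∣ (p ^ n).choose k := by
    rw [← Nat.factorization_choose_prime_pow hp hkn hk]; exact Nat.ordProj_dvd _ _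
  have h2 : lam ^ (p ^ (n - 1) * (p - 1) * (n - j)) ∣ ((p ^ n).choose k : R) := by
    rw [pow_mul]
    refine (pow_dvd_pow_of_dvd hstar _).trans ?_
    rw [← Nat.cast_pow]
    exact Nat.cast_dvd_cast h1
  refine (pow_dvd_pow lam ((arith hp.one_le n j hjn).trans (Nat.add_le_add_left hjk _))).trans ?_
  rw [pow_add]
  exact mul_dvd_mul_right h2 _

open Polynomial in

/-- Let R be a discrete valuation ring of characteristic zero whose maximal ideal contains the prime
number p, let n ≥ 1, and let λ be a nonzero element of R such that λ^(p^(n−1)(p−1)) divides p (the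
condition v(p) ≥ p^(n−1)(p−1)·v(λ) under which the polynomial ((1 + λT)^(p^n) − 1)/λ^(p^n) has
coefficients in R). Let A be an integrally closed integral domain which is a faithfully flat
R-algebra. Then for every unit x of A, λ^(p^n) divides x^(p^n) − 1 in A if and only if λ divides x −
1 in A. -/
theorem result (R : Type u) [CommRing R]
    [IsDomain R] [IsDiscreteValuationRing R] [CharZero R] (p n : ℕ) [Fact p.Prime] (hn : 1 ≤ n)
    (hp : (p : R) ∈ IsLocalRing.maximalIdeal R) (lam : R) (hlam : lam ≠ 0)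
    (hstar : lam ^ (p ^ (n - 1) * (p - 1)) ∣ (p : R))
    (A : Type u) [CommRing A] [IsDomain A] [IsIntegrallyClosed A] [Algebra R A] [Module.FaithfullyFlat R A]
    (x : Aˣ) :
    (algebraMap R A lam ^ p ^ n ∣ (x : A) ^ p ^ n - 1) ↔ (algebraMap R A lam ∣ (x : A) - 1) := by
  classical
  have hinj : Function.Injective (algebraMap R A) := FaithfulSMul.algebraMap_injective R A
  set N := p ^ n with hN
  set l := algebraMap R A lam with hl
  have hl0 : l ≠ 0 := fun h => hlam (hinj (by rw [map_zero]; exact h))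
  have hN0 : 0 < N := pow_pos (Fact.out : p.Prime).pos n
  have hc : ∀ k, k ≠ 0 → k ≤ N → ∃ e : A, ((N.choose k : ℕ) : A) * l ^ k = l ^ N * e := fun k hk hkn => by
    have h := map_dvd (algebraMap R A) (dvd_choose_mul (Fact.out : p.Prime) hstar hk hkn)
    rw [map_mul, map_pow, map_pow, map_natCast] at h
    exact h
  choose! e he using hc
  constructor
  · intro hdvd
    obtain ⟨w, hw⟩ := hdvd
    let K := FractionRing A
    let ι := algebraMap A K
    have hι : Function.Injective ι := IsFractionRing.injective A K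
    have hιl : ι l ≠ 0 := fun h => hl0 (hι (by rw [h, map_zero]))
    let z : K := ι ((x : A) - 1) / ι l
    have hz : ι (x : A) = ι l * z + 1 := by
      simp only [z]; rw [mul_div_cancel₀ _ hιl, map_sub, map_one, sub_add_cancel]
    let tail : A[X] := ∑ k ∈ Finset.Ico 1 N, C (e k) * X ^ k - C w
    have hdeg : tail.degree < N := by
      refine (degree_sub_le _ _).trans_lt (max_lt ?_ (degree_C_le.trans_lt (by exact_mod_cast hN0)))
      refine (degree_sum_le _ _).trans_lt ((Finset.sup_lt_iff (WithBot.bot_lt_coe _)).2 fun k hk => ?_)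
      exact (degree_C_mul_X_pow_le k _).trans_lt (by exact_mod_cast (Finset.mem_Ico.1 hk).2)
    have hroot : eval₂ ι z (X ^ N + tail) = 0 := by
      refine mul_left_cancel₀ (pow_ne_zero N hιl) ?_
      simp only [tail, eval₂_add, eval₂_sub, eval₂_finsetSum, eval₂_mul, eval₂_C, eval₂_pow, eval₂_X, mul_zero]
      have hw' : (ι l * z + 1) ^ N - 1 = ι l ^ N * ι w := by
        rw [← hz, ← map_pow, ← map_one ι, ← map_sub, ← map_pow, ← map_mul]; exact congrArg ι hw
      rw [add_pow, Finset.range_eq_Ico, Finset.sum_eq_sum_Ico_succ_bot (Nat.succ_pos N), Finset.sum_Ico_succ_top (by omega : 1 ≤ N)] at hw'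
      simp only [pow_zero, one_pow, mul_one, Nat.choose_zero_right, Nat.cast_one, Nat.choose_self, mul_pow] at hw'
      rw [mul_add, mul_sub, Finset.mul_sum]
      rw [Finset.sum_congr rfl (fun k hk => ?_ : ∀ k ∈ Finset.Ico 1 N, ι l ^ N * (ι (e k) * z ^ k) = ι l ^ k * z ^ k * (N.choose k : K))]
      · linear_combination hw'
      · obtain ⟨h1, h2⟩ := Finset.mem_Ico.1 hk
        have := congrArg ι (he k (by omega) h2.le)
        rw [map_mul, map_mul, map_pow, map_pow, map_natCast] at this
        linear_combination (-(z ^ k)) * this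
    obtain ⟨a, ha⟩ := IsIntegrallyClosed.isIntegral_iff.1 (⟨_, monic_X_pow_add hdeg, hroot⟩ : IsIntegral A z)
    refine ⟨a, hι ?_⟩
    rw [map_mul]
    show ι ((x : A) - 1) = ι l * ι a
    rw [show ι a = z from ha]
    simp only [z]
    rw [mul_div_cancel₀ _ hιl]
  · rintro ⟨z, hz⟩
    rw [show (x : A) = l * z + 1 by rw [← hz]; ring, add_pow, Finset.range_eq_Ico,
      Finset.sum_eq_sum_Ico_succ_bot (Nat.succ_pos N)]
    simp only [pow_zero, one_pow, mul_one, Nat.choose_zero_right, Nat.cast_one, add_sub_cancel_left, mul_pow]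
    refine Finset.dvd_sum fun k hk => ?_
    obtain ⟨h1, h2⟩ := Finset.mem_Ico.1 hk
    exact ⟨e k * z ^ k, by linear_combination (z ^ k) * he k (by omega) (by omega)⟩

end Groth.Agent.S13158
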