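import Groth.Statements.S13159
import Mathlib.RingTheory.IntegralClosure.IntegrallyClosed
import Mathlib.RingTheory.IntegralClosure.Algebra.Basic
import Mathlib.RingTheory.Polynomial.RationalRoot
import Mathlib.RingTheory.DiscreteValuationRing.Basic

set_option autoImplicit false
universe u
open CAlg

namespace Groth.Agent.S13159

/-- Let R be a discrete valuation ring with fraction field K, C an R-algebra which is finitely generated
as an R-module (the coordinate ring of a finite R-scheme G), and A an integral domain which is an
R-algebra with injective structure map and fraction field L, K → L being compatible, such that every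
element of L algebraic over K lies in the image of K (the condition satisfied by the rings of
nonempty opens of an R-scheme with geometrically integral fibres). Then every R-algebra homomorphism
C → A factors uniquely through the structure map R → A: the points of G with values in A are the
R-points of G. (The published statement is that for Y → Spec R with geometrically integral fibres
and G finite flat, the map H¹(Y, G) → H⁰(Y_Zar, R¹f_*G) from the Leray spectral sequence of Y_fl →
Y_Zar is bijective; this row is the step asserting that G restricted to the Zariski site of Y is the
constant sheaf G(R), for an affine open with function ring A.) -/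
theorem result (R : Type u) [CommRing R]
    [IsDomain R] [IsDiscreteValuationRing R] (K : Type u) [Field K] [Algebra R K] [IsFractionRing R K]
    (C : Type u) [CommRing C] [Algebra R C] [Module.Finite R C]
    (A : Type u) [CommRing A] [IsDomain A] [Algebra R A] (hinj : Function.Injective (algebraMap R A))
    (L : Type u) [Field L] [Algebra A L] [IsFractionRing A L] [Algebra R L] [Algebra K L]
    [IsScalarTower R A L] [IsScalarTower R K L]
    (hac : ∀ x : L, IsAlgebraic K x → x ∈ (algebraMap K L).range)
    (φ : C →ₐ[R] A) : ∃! ψ : C →ₐ[R] R, φ = (Algebra.ofId R A).comp ψ := by
  have hKL : Function.Injective (algebraMap K L) := (algebraMap K L).injective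
  have hAL : Function.Injective (algebraMap A L) := IsFractionRing.injective A L
  have hex : ∀ c : C, ∃ r : R, algebraMap R A r = φ c := by
    intro c
    have hint : IsIntegral R (algebraMap A L (φ c)) :=
      ((Algebra.IsIntegral.isIntegral (R := R) c).map φ).map (IsScalarTower.toAlgHom R A L)
    have halg : IsAlgebraic K (algebraMap A L (φ c)) := (hint.tower_top (A := K)).isAlgebraic
    obtain ⟨k, hk⟩ := hac _ halg
    have hk' : IsIntegral R k := by
      rw [← hk] at hint
      exact (isIntegral_algHom_iff (IsScalarTower.toAlgHom R K L) hKL).1 hint
    obtain ⟨r, rfl⟩ := IsIntegrallyClosed.isIntegral_iff.1 hk'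
    refine ⟨r, hAL ?_⟩
    rw [← IsScalarTower.algebraMap_apply R A L, IsScalarTower.algebraMap_apply R K L, hk]
  choose r hr using hex
  let ψ : C →ₐ[R] R :=
    { toFun := r
      map_one' := hinj (by rw [hr, map_one, map_one])
      map_mul' := fun x y => hinj (by rw [hr, map_mul, map_mul, hr, hr])
      map_zero' := hinj (by rw [hr, map_zero, map_zero])
      map_add' := fun x y => hinj (by rw [hr, map_add, map_add, hr, hr])
      commutes' := fun z => hinj (by rw [hr, φ.commutes]; rfl) }
  refine ⟨ψ, AlgHom.ext fun c => (hr c).symm, fun ψ' h => AlgHom.ext fun c => hinj ?_⟩
  show algebraMap R A (ψ' c) = algebraMap R A (r c)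
  rw [hr, h]
  rfl

end Groth.Agent.S13159
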