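import Groth.Statements.S13160
import Mathlib.RingTheory.WittVector.Frobenius
import Mathlib.RingTheory.MvPolynomial.Ideal
import Mathlib.RingTheory.IntegralClosure.IntegrallyClosed
import Mathlib.RingTheory.DiscreteValuationRing.Basic
import Mathlib.RingTheory.Polynomial.RationalRoot

set_option autoImplicit false
universe u
open CAlg

namespace Groth.Agent.S13160

open MvPolynomial in
theorem wittAdd_mem (p : ℕ) [Fact p.Prime] : ∀ n,
    WittVector.wittAdd p n - X (0, n) - X (1, n) ∈ idealOfVars (Fin 2 × ℕ) ℤ ^ p := by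
  intro n
  induction n using Nat.strong_induction_on with
  | _ n ih =>
    have hp : p.Prime := Fact.out
    let I := idealOfVars (Fin 2 × ℕ) ℤ ^ p
    have hX : ∀ z : Fin 2 × ℕ, (X z : MvPolynomial (Fin 2 × ℕ) ℤ) ∈ idealOfVars _ _ := fun z => Ideal.subset_span ⟨z, rfl⟩
    have hS : ∀ i, i < n → WittVector.wittAdd p i ∈ idealOfVars (Fin 2 × ℕ) ℤ := fun i hi => by
      have h1 := Ideal.pow_le_self hp.ne_zero (ih i hi)
      have := add_mem (add_mem h1 (hX (1, i))) (hX (0, i))
      simpa using this
    have hpow : ∀ {z : MvPolynomial (Fin 2 × ℕ) ℤ} {i : ℕ}, i < n → z ∈ idealOfVars _ _ → z ^ p ^ (n - i) ∈ I :=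
      fun {z i} hi hz => Ideal.pow_le_pow_right (Nat.le_self_pow (by omega) p) (Ideal.pow_mem_pow hz _)
    have h := wittStructureInt_prop p (X 0 + X 1 : MvPolynomial (Fin 2) ℤ) n
    rw [map_add, bind₁_X_right, bind₁_X_right, wittPolynomial_eq_sum_C_mul_X_pow] at h
    simp only [map_sum, map_add, map_mul, map_pow, bind₁_X_right, rename_X, bind₁_C_right, rename_C,
      Finset.sum_range_succ, Nat.sub_self, pow_zero, pow_one] at h
    have key : C ((p : ℤ) ^ n) * (WittVector.wittAdd p n - X (0, n) - X (1, n)) ∈ I := by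
      have e : C ((p : ℤ) ^ n) * (WittVector.wittAdd p n - X (0, n) - X (1, n)) =
          (∑ i ∈ Finset.range n, C (p : ℤ) ^ i * X ((0 : Fin 2), i) ^ p ^ (n - i)) +
            (∑ i ∈ Finset.range n, C (p : ℤ) ^ i * X ((1 : Fin 2), i) ^ p ^ (n - i)) -
              ∑ i ∈ Finset.range n, C (p : ℤ) ^ i * WittVector.wittAdd p i ^ p ^ (n - i) := by
        simp only [WittVector.wittAdd, map_pow] at h ⊢
        linear_combination h
      rw [e]
      refine sub_mem (add_mem ?_ ?_) ?_ <;>
        exact Submodule.sum_mem _ fun i hi => Ideal.mul_mem_left _ _ (hpow (Finset.mem_range.1 hi) (by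
          first | exact hX _ | exact hS i (Finset.mem_range.1 hi)))
    rw [mem_pow_idealOfVars_iff'] at key ⊢
    intro d hd
    have := key d hd
    rw [coeff_C_mul] at this
    exact (mul_eq_zero.1 this).resolve_left (pow_ne_zero _ (by exact_mod_cast hp.ne_zero))

open MvPolynomial in

/-- Let R be a discrete valuation ring, p a prime number and λ an element of R dividing p (so that R/λR
is an 𝔽_p-algebra), and let a and b be p-typical Witt vectors with coefficients in R/λR which are
killed by the Frobenius endomorphism. Then the Witt sum a + b has components a_n + b_n for every n.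
(The published statement allows an arbitrary λ ∈ R and is stated for Witt vectors with finitely many
nonzero components; this row assumes that λ divides p, so that p = 0 in R/λR, and allows all Witt
vectors.) -/
theorem result (R : Type u) [CommRing R] [IsDomain R]
    [IsDiscreteValuationRing R] (p : ℕ) [Fact p.Prime] (lam : R) (hlam : lam ∣ (p : R))
    (a b : WittVector p (R ⧸ Ideal.span {lam})) (ha : WittVector.frobenius a = 0)
    (hb : WittVector.frobenius b = 0) (n : ℕ) : (a + b).coeff n = a.coeff n + b.coeff n := by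
  classical
  by_cases htriv : Subsingleton (R ⧸ Ideal.span {lam})
  · exact Subsingleton.elim _ _
  haveI : Nontrivial (R ⧸ Ideal.span {lam}) := not_subsingleton_iff_nontrivial.1 htriv
  haveI : CharP (R ⧸ Ideal.span {lam}) p := by
    refine CharP.ringChar_of_prime_eq_zero (R := R ⧸ Ideal.span {lam}) (Fact.out : p.Prime) ?_ ▸ ringChar.charP _
    rw [← map_natCast (Ideal.Quotient.mk (Ideal.span {lam})), Ideal.Quotient.eq_zero_iff_mem, Ideal.mem_span_singleton]
    exact hlam
  let v : Fin 2 × ℕ → R ⧸ Ideal.span {lam} := Function.uncurry ![a.coeff, b.coeff]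
  have hv : ∀ z, v z ^ p = 0 := by
    rintro ⟨i, j⟩
    fin_cases i
    · show a.coeff j ^ p = 0
      rw [← WittVector.coeff_frobenius_charP, ha, WittVector.zero_coeff]
    · show b.coeff j ^ p = 0
      rw [← WittVector.coeff_frobenius_charP, hb, WittVector.zero_coeff]
  choose y hy using fun z => Ideal.Quotient.mk_surjective (v z)
  have hdiv : ∀ z, lam ∣ y z ^ p := fun z => by
    rw [← Ideal.mem_span_singleton, ← Ideal.Quotient.eq_zero_iff_mem, map_pow, hy, hv]
  rw [WittVector.add_coeff]
  show aeval v (WittVector.wittAdd p n) = _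
  have hzero : aeval v (WittVector.wittAdd p n - X (0, n) - X (1, n)) = 0 := by
    rw [as_sum (WittVector.wittAdd p n - X (0, n) - X (1, n)), map_sum]
    refine Finset.sum_eq_zero fun d hd => ?_
    have hdeg : p ≤ Finsupp.degree d := (mem_pow_idealOfVars_iff p _).1 (wittAdd_mem p n) d hd
    rw [aeval_monomial]
    suffices h : (d.prod fun z e => v z ^ e) = 0 by rw [h, mul_zero]
    have h1 : lam ^ p ∣ (∏ z ∈ d.support, y z ^ d z) ^ p := by
      refine (pow_dvd_pow lam hdeg).trans ?_
      rw [Finsupp.degree_apply, ← Finset.prod_pow_eq_pow_sum, ← Finset.prod_pow]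
      refine Finset.prod_dvd_prod_of_dvd _ _ fun z _ => ?_
      rw [← pow_mul, mul_comm, pow_mul]
      exact pow_dvd_pow_of_dvd (hdiv z) _
    rw [IsIntegrallyClosed.pow_dvd_pow_iff (Nat.Prime.ne_zero Fact.out), ← Ideal.mem_span_singleton,
      ← Ideal.Quotient.eq_zero_iff_mem, map_prod] at h1
    simpa [Finsupp.prod, hy] using h1
  rw [map_sub, map_sub, aeval_X, aeval_X, sub_sub, sub_eq_zero] at hzero
  exact hzero

end Groth.Agent.S13160
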