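import Groth.Statements.S13161
import Mathlib.RingTheory.Localization.BaseChange
import Mathlib.RingTheory.Localization.FractionRing
import Mathlib.Algebra.Module.LocalizedModule.Basic
import Mathlib.RingTheory.Finiteness.Basic
import Mathlib.RingTheory.TensorProduct.Basic

set_option autoImplicit false
universe u
open scoped TensorProduct
open CAlg

namespace Groth.Agent.S13161

open TensorProduct in

/-- Let R be a discrete valuation ring with fraction field K, A an R-algebra which is semireflexive as
an R-module (the map to its double dual is injective: every nonzero a ∈ A has an R-linear form f : A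
→ R with f(a) ≠ 0), and B an A-algebra which is finitely generated as an A-module and flat over R.
Suppose B ⊗ K is semireflexive as a module over A ⊗ K, which for such B amounts to: every nonzero b
∈ B has an A-linear map g : B → A ⊗_R K with g(b) ≠ 0. Then B is semireflexive as an R-module: every
nonzero b ∈ B has an R-linear form h : B → R with h(b) ≠ 0. (The published statement phrases the
hypothesis on B_K as an A_K-module; for B flat over R and finite over A this is the elementwise
condition used here.) -/
theorem result (R : Type u) [CommRing R] [IsDomain R]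
    [IsDiscreteValuationRing R] (K : Type u) [Field K] [Algebra R K] [IsFractionRing R K]
    (A B : Type u) [CommRing A] [CommRing B] [Algebra R A] [Algebra R B] [Algebra A B] [IsScalarTower R A B]
    [Module.Finite A B] [Module.Flat R B]
    (hA : ∀ a : A, a ≠ 0 → ∃ f : A →ₗ[R] R, f a ≠ 0)
    (hBK : ∀ b : B, b ≠ 0 → ∃ g : B →ₗ[A] A ⊗[R] K, g b ≠ 0) :
    ∀ b : B, b ≠ 0 → ∃ h : B →ₗ[R] R, h b ≠ 0 := by
  classical
  intro b hb
  obtain ⟨g, hg⟩ := hBK b hb
  let j : A →ₗ[A] A ⊗[R] K := (Algebra.TensorProduct.includeLeft : A →ₐ[A] A ⊗[R] K).toLinearMap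
  let S := nonZeroDivisors R
  let c : K ⊗[R] A ≃ₗ[R] A ⊗[R] K := TensorProduct.comm R K A
  have hcj : ∀ a, c (TensorProduct.mk R K A 1 a) = j a := fun a => rfl
  haveI hloc : IsLocalizedModule S (TensorProduct.mk R K A 1) :=
    (isLocalizedModule_iff_isBaseChange S K _).2 (TensorProduct.isBaseChange R A K)
  have hinj : Function.Injective j := by
    refine (injective_iff_map_eq_zero _).2 fun a ha => ?_
    rw [← hcj, c.map_eq_zero_iff, IsLocalizedModule.eq_zero_iff S] at ha
    obtain ⟨⟨s, hs⟩, hsa⟩ := ha
    by_contra hne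
    obtain ⟨f, hf⟩ := hA a hne
    refine hf ((mul_eq_zero.1 ?_).resolve_left (nonZeroDivisors.ne_zero hs))
    have := congrArg f hsa
    rw [map_zero, Submonoid.smul_def, map_smul] at this
    exact this
  have hden : ∀ z : A ⊗[R] K, ∃ s ∈ S, s • z ∈ LinearMap.range j := by
    intro z
    obtain ⟨z, rfl⟩ := c.surjective z
    obtain ⟨⟨a, s⟩, hs⟩ := IsLocalizedModule.surj S (TensorProduct.mk R K A 1) z
    refine ⟨s, s.2, a, ?_⟩
    rw [← hcj, ← hs, Submonoid.smul_def, map_smul]
  obtain ⟨n, π, hπ⟩ := Module.Finite.exists_fin' A B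
  choose s hs hmem using fun i => hden (g (π (Pi.single i 1)))
  let d := ∏ i, s i
  have hd : d ∈ S := Submonoid.prod_mem _ fun i _ => hs i
  have hrange : ∀ x, d • g x ∈ LinearMap.range j := by
    intro x
    obtain ⟨v, rfl⟩ := hπ x
    rw [← (Pi.basisFun A (Fin n)).sum_repr v, map_sum, map_sum, Finset.smul_sum]
    refine Submodule.sum_mem _ fun i _ => ?_
    rw [map_smul, map_smul, smul_comm, Pi.basisFun_apply]
    refine Submodule.smul_mem _ _ ?_
    show (∏ k, s k) • _ ∈ _
    rw [← Finset.prod_erase_mul _ _ (Finset.mem_univ i), mul_smul]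
    exact Submodule.smul_of_tower_mem _ _ (hmem i)
  choose g' hg' using hrange
  let G : B →ₗ[A] A :=
    { toFun := g'
      map_add' := fun x y => hinj (by rw [map_add, hg', hg', hg', map_add, smul_add])
      map_smul' := fun a x => hinj (by rw [RingHom.id_apply, map_smul j, hg', hg', map_smul, smul_comm]) }
  have hG : g' b ≠ 0 := by
    intro h
    have h1 : d • g b = 0 := by rw [← hg', h, map_zero]
    obtain ⟨z, hz⟩ := c.surjective (g b)
    rw [← hz, ← map_smul, c.map_eq_zero_iff] at h1
    have h2 : z = 0 := ((IsLocalizedModule.map_units (TensorProduct.mk R K A 1) (⟨d, hd⟩ : S)) |>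
      (Module.End.isUnit_iff _).1).1 (by simpa using h1)
    exact hg (by rw [← hz, h2, map_zero])
  obtain ⟨f, hf⟩ := hA (g' b) hG
  exact ⟨f ∘ₗ G.restrictScalars R, hf⟩

end Groth.Agent.S13161
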