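import Groth.Statements.S13162
import Mathlib

set_option autoImplicit false
universe u v
open ZeroCyc

namespace Groth.Agent.S13162

/-- Let a finite group G act on a commutative ring A by ring automorphisms and let p be a prime such
that every integer prime to p is a unit in A. If I is an ideal of A and f ∈ A has G-invariant class
modulo I, then f^(p^k) is congruent modulo I to a G-invariant element of A, where p^k is the exact
power of p dividing the order of G. (The published statement assumes I stable under G, so that G
acts on A/I and the claim reads: the p^k-th power of an invariant of A/I lies in the image of the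
invariants of A; the form here asks only that the class of f be invariant.) -/
theorem result {A : Type u} [CommRing A] {G : Type v} [Group G] [Fintype G]
    [MulSemiringAction G A] (p : ℕ) [Fact p.Prime]
    (hA : ∀ m : ℕ, ¬ p ∣ m → IsUnit (m : A))
    (I : Ideal A) (f : A) (hf : ∀ g : G, g • f - f ∈ I) :
    ∃ a : A, (∀ g : G, g • a = a) ∧ a - f ^ (p ^ (Fintype.card G).factorization p) ∈ I := by
  classical
  obtain ⟨P⟩ : Nonempty (Sylow p G) := inferInstance
  let N : A := ∏ h : (P : Subgroup G), (h : G) • f
  have hN : ∀ h : (P : Subgroup G), (h : G) • N = N := fun h => by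
    simp only [N, Finset.smul_prod', ← mul_smul]
    exact Fintype.prod_equiv (Equiv.mulLeft h) _ _ fun _ => rfl
  let F : G ⧸ (P : Subgroup G) → A := fun q => Quotient.liftOn' q (fun g => g • N) (fun a b hab => by
    have h1 := hN ⟨_, QuotientGroup.leftRel_apply.mp hab⟩
    change a • N = b • N
    conv_lhs => rw [← h1]
    rw [← mul_smul, mul_inv_cancel_left])
  have hP : Fintype.card (P : Subgroup G) = p ^ (Fintype.card G).factorization p := by
    rw [← Nat.card_eq_fintype_card, Sylow.card_eq_multiplicity, Nat.card_eq_fintype_card]
  have hf' : ∀ g : G, Ideal.Quotient.mk I (g • f) = Ideal.Quotient.mk I f := fun g => Ideal.Quotient.eq.mpr (hf g)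
  have hFI : ∀ q, Ideal.Quotient.mk I (F q) = Ideal.Quotient.mk I (f ^ p ^ (Fintype.card G).factorization p) := by
    intro q
    induction q using QuotientGroup.induction_on with
    | _ g =>
      change Ideal.Quotient.mk I (g • N) = _
      simp only [N, Finset.smul_prod', map_prod, ← mul_smul, hf', Finset.prod_const, Finset.card_univ, hP, map_pow]
  have hm : IsUnit ((Fintype.card (G ⧸ (P : Subgroup G)) : ℕ) : A) := hA _ (by
    rw [← Nat.card_eq_fintype_card]; exact P.not_dvd_index)
  obtain ⟨u, hu⟩ := hm
  refine ⟨((u⁻¹ : Aˣ) : A) * ∑ q, F q, fun g => ?_, ?_⟩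
  · have h1 : g • (u : A) = u := by rw [hu]; exact map_natCast (MulSemiringAction.toRingHom G A g) _
    have h2 : g • ((u⁻¹ : Aˣ) : A) = ((u⁻¹ : Aˣ) : A) := by
      have := congrArg (g • ·) u.inv_mul
      simp only [smul_mul', smul_one, h1] at this
      calc g • ((u⁻¹ : Aˣ) : A) = g • ((u⁻¹ : Aˣ) : A) * ((u : A) * ((u⁻¹ : Aˣ) : A)) := by rw [u.mul_inv, mul_one]
        _ = _ := by rw [← mul_assoc, this, one_mul]
    rw [smul_mul', h2, Finset.smul_sum]
    congr 1
    refine Fintype.sum_equiv (MulAction.toPerm g) _ _ fun q => ?_
    induction q using QuotientGroup.induction_on with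
    | _ x => exact (mul_smul g x N).symm
  · rw [← Ideal.Quotient.eq, map_mul, map_sum]
    simp only [hFI, Finset.sum_const, Finset.card_univ, nsmul_eq_mul]
    rw [← map_natCast (Ideal.Quotient.mk I), ← hu, ← mul_assoc, ← map_mul, u.inv_mul, map_one, one_mul]

end Groth.Agent.S13162
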