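import Groth.Statements.S13163


set_option autoImplicit false
universe u
open ZeroCyc

namespace Groth.Agent.S13163

open Polynomial in
/-- Let P_d(T) = ∏_{0 ≤ i < j ≤ d} (T^i − T^j) − 1 ∈ ℤ[T]. Every residue field of ℤ[T]/(P_d), i.e. every
field receiving a ring homomorphism from it, has at least d + 1 elements. -/
theorem result (d : ℕ) (k : Type u) [Field k]
    (φ : (ℤ[X] ⧸ Ideal.span {(∏ j ∈ Finset.range (d + 1), ∏ i ∈ Finset.range j,
        ((X : ℤ[X]) ^ i - X ^ j)) - 1}) →+* k) :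
    ((d + 1 : ℕ) : Cardinal) ≤ Cardinal.mk k := by
  set a := φ (Ideal.Quotient.mk _ X)
  have h : (∏ j ∈ Finset.range (d + 1), ∏ i ∈ Finset.range j, (a ^ i - a ^ j)) = 1 := by
    have h0 := congrArg φ (Ideal.Quotient.eq.mpr (Ideal.subset_span rfl) :
      Ideal.Quotient.mk (Ideal.span {(∏ j ∈ Finset.range (d + 1), ∏ i ∈ Finset.range j,
        ((X : ℤ[X]) ^ i - X ^ j)) - 1}) (∏ j ∈ Finset.range (d + 1), ∏ i ∈ Finset.range j,
        ((X : ℤ[X]) ^ i - X ^ j)) = Ideal.Quotient.mk _ 1)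
    simpa [map_prod, a] using h0
  have hne : ∀ i j, i < j → j < d + 1 → a ^ i ≠ a ^ j := fun i j hij hj e => by
    refine one_ne_zero (h.symm.trans ?_)
    exact Finset.prod_eq_zero (Finset.mem_range.mpr hj)
      (Finset.prod_eq_zero (Finset.mem_range.mpr hij) (sub_eq_zero.mpr e))
  have hinj : Function.Injective (fun i : ULift.{u} (Fin (d + 1)) => a ^ (i.down : ℕ)) := by
    intro i j e
    rcases lt_trichotomy (i.down : ℕ) j.down with h1 | h1 | h1
    · exact absurd e (hne _ _ h1 j.down.2)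
    · exact ULift.ext _ _ (Fin.ext h1)
    · exact absurd e.symm (hne _ _ h1 i.down.2)
  simpa using Cardinal.mk_le_of_injective hinj

end Groth.Agent.S13163
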