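import Groth.Statements.S13166
import Mathlib

set_option autoImplicit false
universe u
open ZeroCyc

namespace Groth.Agent.S13166

/-- Let k be a field, B a k-algebra generated as an algebra by a k-subspace V, k'/k a field extension
and x_1, …, x_d pairwise distinct k'-points of B ⊗_k k' (equivalently, distinct k-algebra
homomorphisms B → k'). If k has at least d(d − 1)/2 elements, then there is b ∈ V whose values at
x_1, …, x_d are pairwise distinct. -/
theorem result {k : Type u} [Field k] {B : Type u} [CommRing B] [Algebra k B] (V : Submodule k B)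
    (hV : Algebra.adjoin k (V : Set B) = ⊤) {k' : Type u} [Field k'] [Algebra k k']
    {d : ℕ} (x : Fin d → (B →ₐ[k] k')) (hx : Function.Injective x)
    (hk : ((d.choose 2 : ℕ) : Cardinal) ≤ Cardinal.mk k) :
    ∃ b ∈ V, Function.Injective fun i => x i b := by
  classical
  have key : ∀ t : Finset (Submodule k V), (∀ W ∈ t, W ≠ ⊤) → (t.card : Cardinal) ≤ Cardinal.mk k →
      ∃ z : V, ∀ W ∈ t, z ∉ W := by
    intro t
    induction t using Finset.induction with
    | empty => exact fun _ _ => ⟨0, by simp⟩
    | insert W t hWt ih =>
      intro hne hc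
      rw [Finset.card_insert_of_notMem hWt] at hc
      obtain ⟨z, hz⟩ := ih (fun U hU => hne U (Finset.mem_insert_of_mem hU))
        (le_trans (Nat.cast_le.mpr (Nat.le_succ _)) hc)
      by_cases hzW : z ∈ W
      · obtain ⟨y, hy⟩ : ∃ y : V, y ∉ W := by
          by_contra h; push Not at h; exact hne W (Finset.mem_insert_self _ _) (eq_top_iff.mpr fun y _ => h y)
        -- each of the other subspaces contains at most one point of the line
        have huniq : ∀ U ∈ t, ∀ c c' : k, y + c • z ∈ U → y + c' • z ∈ U → c = c' := by
          intro U hU c c' h h'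
          by_contra hcc
          have h1 := U.sub_mem h h'
          replace h1 : (c - c') • z ∈ U := by rw [add_sub_add_left_eq_sub] at h1; rw [show (c - c') • z = c • z - c' • z from sub_smul c c' z]; exact h1
          exact hz U hU ((U.smul_mem_iff (sub_ne_zero.mpr hcc)).mp h1)
        let bad : Finset k := t.biUnion fun U =>
          if h : ∃ c : k, y + c • z ∈ U then {h.choose} else ∅
        have hbad : bad.card ≤ t.card := Finset.card_biUnion_le.trans (by
          rw [Finset.card_eq_sum_ones]; exact Finset.sum_le_sum fun U _ => by split <;> simp)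
        obtain ⟨c, hc'⟩ : ∃ c : k, c ∉ bad := by
          rcases finite_or_infinite k with hk | hk
          · haveI := Fintype.ofFinite k
            by_contra h; push Not at h
            have h2 : Fintype.card k ≤ bad.card := Finset.card_le_card (fun c _ => h c)
            rw [Cardinal.mk_fintype, Nat.cast_le] at hc
            omega
          · exact Infinite.exists_notMem_finset bad
        refine ⟨y + c • z, fun U hU => ?_⟩
        rcases Finset.mem_insert.mp hU with rfl | hU
        · intro h; exact hy (by simpa using U.sub_mem h (U.smul_mem c hzW))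
        · intro h
          have hex : ∃ c : k, y + c • z ∈ U := ⟨c, h⟩
          exact hc' (Finset.mem_biUnion.mpr ⟨U, hU, by rw [dif_pos hex, Finset.mem_singleton]; exact huniq U hU _ _ h hex.choose_spec⟩)
      · exact ⟨z, fun U hU => by rcases Finset.mem_insert.mp hU with rfl | hU; exacts [hzW, hz U hU]⟩
  let pairs := (Finset.univ : Finset (Fin d × Fin d)).filter fun q => q.1 < q.2
  let Kq : Fin d × Fin d → Submodule k V := fun q =>
    LinearMap.ker (((x q.1).toLinearMap - (x q.2).toLinearMap).comp V.subtype)
  have hpairs : pairs.card = d.choose 2 := by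
    simpa [pairs] using Fintype.card_product_filter_lt (α := Fin d)
  obtain ⟨z, hz⟩ := key (pairs.image Kq) (by
    intro W hW
    obtain ⟨q, hq, rfl⟩ := Finset.mem_image.mp hW
    intro htop
    refine (Finset.mem_filter.mp hq).2.ne (hx (AlgHom.ext_of_adjoin_eq_top hV fun v hv => ?_))
    have h1 : (⟨v, hv⟩ : V) ∈ Kq q := htop ▸ Submodule.mem_top
    simpa [Kq, sub_eq_zero] using h1) (le_trans (Nat.cast_le.mpr (Finset.card_image_le.trans hpairs.le)) hk)
  refine ⟨z, z.2, fun i j hij => ?_⟩
  by_contra hne
  rcases lt_or_gt_of_ne hne with h | h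
  · exact hz _ (Finset.mem_image_of_mem _ (show (i, j) ∈ pairs by simp [pairs, h])) (by simpa [Kq, sub_eq_zero] using hij)
  · exact hz _ (Finset.mem_image_of_mem _ (show (j, i) ∈ pairs by simp [pairs, h])) (by simpa [Kq, sub_eq_zero] using hij.symm)

end Groth.Agent.S13166
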