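import Groth.Statements.S13167
import Mathlib.RingTheory.LocalRing.ResidueField.Ideal
import Mathlib.Tactic.Module

set_option autoImplicit false
universe u
open AlgebraicGeometry
open ZeroCyc

namespace Groth.Agent.S13167

/-- Let B be a graded R-algebra generated by its degree-one part B_1, with B_1 a finitely generated
R-module, and let x_1, …, x_d be points of X = Proj B lying over one and the same prime p of R. If
the residue field of p has at least d elements, then some f ∈ B_1 ⊆ Γ(X, O_X(1)) has all the x_i in
D_+(f). (Without the hypothesis on the residue field such an f exists in some B_n with n ≥ 1; that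
first assertion is a known property of ample sheaves and is not restated here.) -/
theorem result {R A : Type u} [CommRing R] [CommRing A] [Algebra R A] (𝒜 : ℕ → Submodule R A) [GradedAlgebra 𝒜]
    (hgen : Algebra.adjoin R (𝒜 1 : Set A) = ⊤) (hfg : (𝒜 1).FG)
    (p : Ideal R) [p.IsPrime] {d : ℕ} (x : Fin d → Proj 𝒜)
    (hx : ∀ i, ((x i).asHomogeneousIdeal.toIdeal).comap (algebraMap R A) = p)
    (hcard : (d : Cardinal) ≤ Cardinal.mk p.ResidueField) :
    ∃ g ∈ 𝒜 1, ∀ i, x i ∈ Proj.basicOpen 𝒜 g := by
  classical
  have hne : ∀ i, ∃ h ∈ 𝒜 1, h ∉ (x i).asHomogeneousIdeal.toIdeal := by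
    intro i
    by_contra hc
    push Not at hc
    refine (x i).not_irrelevant_le fun a ha => ?_
    have hdiff : ∀ b : A, b - GradedRing.projZeroRingHom 𝒜 b ∈ (x i).asHomogeneousIdeal.toIdeal := by
      intro b
      have hb : b ∈ Algebra.adjoin R (𝒜 1 : Set A) := hgen ▸ Algebra.mem_top
      induction hb using Algebra.adjoin_induction with
      | mem b hb =>
        rw [GradedRing.projZeroRingHom_apply, DirectSum.decompose_of_mem_ne 𝒜 hb one_ne_zero, sub_zero]
        exact hc b hb
      | algebraMap r =>
        rw [GradedRing.projZeroRingHom_apply, DirectSum.decompose_of_mem_same 𝒜 (SetLike.algebraMap_mem_graded 𝒜 r), sub_self]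
        exact zero_mem _
      | add a b _ _ ha hb => rw [map_add, add_sub_add_comm]; exact add_mem ha hb
      | mul a b _ _ ha hb =>
        rw [map_mul, show a * b - GradedRing.projZeroRingHom 𝒜 a * GradedRing.projZeroRingHom 𝒜 b =
          (a - GradedRing.projZeroRingHom 𝒜 a) * b + GradedRing.projZeroRingHom 𝒜 a * (b - GradedRing.projZeroRingHom 𝒜 b) by ring]
        exact add_mem (Ideal.mul_mem_right _ _ ha) (Ideal.mul_mem_left _ _ hb)
    have h0 := hdiff a
    rw [GradedRing.projZeroRingHom_apply, ← GradedRing.proj_apply, (HomogeneousIdeal.mem_irrelevant_iff 𝒜 a).mp ha, sub_zero] at h0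
    exact h0
  have key : ∀ m ≤ d, ∃ g ∈ 𝒜 1, ∀ i : Fin d, (i : ℕ) < m → g ∉ (x i).asHomogeneousIdeal.toIdeal := by
    intro m
    induction m with
    | zero => exact fun _ => ⟨0, zero_mem _, fun i hi => absurd hi (Nat.not_lt_zero _)⟩
    | succ m ih =>
      intro hm
      obtain ⟨g, hg, hgi⟩ := ih (by omega)
      obtain ⟨h, hh, hhi⟩ := hne ⟨m, hm⟩
      by_cases hgm : g ∈ (x ⟨m, hm⟩).asHomogeneousIdeal.toIdeal
      swap
      · refine ⟨g, hg, fun i hi => ?_⟩
        rcases Nat.lt_succ_iff_lt_or_eq.mp hi with hi | hi
        · exact hgi i hi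
        · rwa [show i = ⟨m, hm⟩ from Fin.ext hi]
      have hrs : ∀ t : p.ResidueField, ∃ r s : R, s ∉ p ∧
          t = algebraMap R p.ResidueField r / algebraMap R p.ResidueField s := fun t => by
        obtain ⟨a, b, hb, rfl⟩ := IsFractionRing.div_surjective (A := R ⧸ p) t
        obtain ⟨r, rfl⟩ := Ideal.Quotient.mk_surjective a
        obtain ⟨s, rfl⟩ := Ideal.Quotient.mk_surjective b
        refine ⟨r, s, fun hs => nonZeroDivisors.ne_zero hb (Ideal.Quotient.eq_zero_iff_mem.mpr hs), ?_⟩
        rw [← Ideal.Quotient.algebraMap_eq, ← IsScalarTower.algebraMap_apply, ← IsScalarTower.algebraMap_apply]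
      choose r s hs hrs using hrs
      by_contra hc
      push_neg at hc
      have hbad := fun t : p.ResidueField =>
        hc (r t • g + s t • h) (Submodule.add_mem _ (Submodule.smul_mem _ _ hg) (Submodule.smul_mem _ _ hh))
      choose i hi hmem using hbad
      have him : ∀ t, (i t : ℕ) < m := fun t => by
        rcases Nat.lt_succ_iff_lt_or_eq.mp (hi t) with h1 | h1
        · exact h1
        · exfalso
          have h2 := hmem t
          rw [show i t = ⟨m, hm⟩ from Fin.ext h1] at h2
          have h3 : s t • h ∈ (x ⟨m, hm⟩).asHomogeneousIdeal.toIdeal := by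
            have := sub_mem h2 (Submodule.smul_of_tower_mem _ (r t) hgm)
            simpa using this
          rw [Algebra.smul_def] at h3
          rcases (x ⟨m, hm⟩).isPrime.mem_or_mem h3 with h4 | h4
          · exact hs t (hx ⟨m, hm⟩ ▸ Ideal.mem_comap.mpr h4)
          · exact hhi h4
      have hinj : Function.Injective (fun t => (⟨i t, him t⟩ : Fin m)) := by
        intro t t' htt
        have hii : i t = i t' := Fin.ext (Fin.mk.inj htt)
        have h1 := hmem t
        have h2 := hmem t'
        rw [← hii] at h2
        have h3 : (r t * s t' - r t' * s t) • g ∈ (x (i t)).asHomogeneousIdeal.toIdeal := by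
          have := sub_mem (Submodule.smul_of_tower_mem _ (s t') h1) (Submodule.smul_of_tower_mem _ (s t) h2)
          convert this using 1
          module
        rw [Algebra.smul_def] at h3
        have h4 : r t * s t' - r t' * s t ∈ p := by
          rcases (x (i t)).isPrime.mem_or_mem h3 with h4 | h4
          · exact hx (i t) ▸ Ideal.mem_comap.mpr h4
          · exact absurd h4 (hgi _ (him t))
        rw [← Ideal.algebraMap_residueField_eq_zero, map_sub, map_mul, map_mul, sub_eq_zero] at h4
        rw [hrs t, hrs t', div_eq_div_iff (mt Ideal.algebraMap_residueField_eq_zero.mp (hs t))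
          (mt Ideal.algebraMap_residueField_eq_zero.mp (hs t'))]
        exact h4
      have hle := Cardinal.lift_mk_le_lift_mk_of_injective hinj
      simp only [Cardinal.mk_fin, Cardinal.lift_natCast, Cardinal.lift_uzero] at hle
      have hdm : d ≤ m := Nat.cast_le.mp (hcard.trans hle)
      omega
  obtain ⟨g, hg, hgi⟩ := key d le_rfl
  exact ⟨g, hg, fun i => (ProjectiveSpectrum.mem_basicOpen 𝒜 g (x i)).mpr (hgi i i.2)⟩

end Groth.Agent.S13167
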