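import Groth.Statements.S13168
import Groth.Agent.Misc95.GradedGen

set_option autoImplicit false
universe u
open AlgebraicGeometry
open ZeroCyc

namespace Groth.Agent.S13168

/-- Let B be a graded R-algebra generated by homogeneous elements f_1, …, f_s of positive degrees d_1,
…, d_s, let l be the least common multiple of the d_i and X = Proj B. For n = a l with a ≥ 1, X is
the union of the opens D_+(g), g ∈ B_n. -/
theorem result {R A : Type u} [CommRing R] [CommRing A] [Algebra R A] (𝒜 : ℕ → Submodule R A) [GradedAlgebra 𝒜]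
    {s : ℕ} (f : Fin s → A) (deg : Fin s → ℕ) (hdeg : ∀ i, 0 < deg i) (hf : ∀ i, f i ∈ 𝒜 (deg i))
    (hgen : Algebra.adjoin R (Set.range f) = ⊤) (a : ℕ) (ha : 0 < a) :
    (⨆ g : 𝒜 (a * Finset.univ.lcm deg), Proj.basicOpen 𝒜 (g : A)) = ⊤ := by
  classical
  have h0 : (⨆ i, Proj.basicOpen 𝒜 (f i)) = ⊤ := by
    refine Proj.iSup_basicOpen_eq_top' 𝒜 f (fun i => ⟨_, hf i⟩) ?_
    rw [eq_top_iff]
    rintro x -
    have hx : x ∈ Algebra.adjoin R (Set.range f) := hgen ▸ Algebra.mem_top
    induction hx using Algebra.adjoin_induction with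
    | mem x hx => exact Algebra.subset_adjoin hx
    | algebraMap r => exact Subalgebra.algebraMap_mem _ (⟨algebraMap R A r, SetLike.algebraMap_mem_graded 𝒜 r⟩ : 𝒜 0)
    | add x y _ _ hx hy => exact add_mem hx hy
    | mul x y _ _ hx hy => exact mul_mem hx hy
  rw [eq_top_iff, ← h0]
  refine iSup_le fun i => ?_
  obtain ⟨q, hq⟩ : deg i ∣ a * Finset.univ.lcm deg := Dvd.dvd.mul_left (Finset.dvd_lcm (Finset.mem_univ i)) a
  have hq0 : q ≠ 0 := by
    rintro rfl
    rw [mul_zero, mul_eq_zero, Finset.lcm_eq_zero_iff] at hq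
    rcases hq with hq | ⟨j, -, hj⟩
    · omega
    · exact (hdeg j).ne' hj
  refine le_iSup_of_le ⟨f i ^ q, by simpa [hq, mul_comm] using SetLike.pow_mem_graded q (hf i)⟩ ?_
  rw [Proj.basicOpen_pow _ _ _ (Nat.pos_of_ne_zero hq0)]

end Groth.Agent.S13168
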