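import Groth.Statements.S13169
import Groth.Agent.TwistGen95.Basic
import Groth.Agent.TwistGen95.Ample

set_option autoImplicit false
universe u
open AlgebraicGeometry
open ZeroCyc

namespace Groth.Agent.S13169

/-- Let B be a graded R-algebra generated by homogeneous elements f_1, …, f_s of positive degrees d_1,
…, d_s, let l be the least common multiple of the d_i and X = Proj B. For n = a l with a ≥ 1, the
twisting sheaf O_X(n) is ample and is generated by its global sections b/1, b ∈ B_n. -/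
theorem result {R A : Type u} [CommRing R] [CommRing A] [Algebra R A] (𝒜 : ℕ → Submodule R A) [GradedAlgebra 𝒜]
    {s : ℕ} (f : Fin s → A) (deg : Fin s → ℕ) (hdeg : ∀ i, 0 < deg i) (hf : ∀ i, f i ∈ 𝒜 (deg i))
    (hgen : Algebra.adjoin R (Set.range f) = ⊤) (a : ℕ) (ha : 0 < a) :
    CohB1.IsAmple (Twist.twist 𝒜 ((a * Finset.univ.lcm deg : ℕ) : ℤ)) ∧
      ProjUP.GeneratedBy (Twist.twist 𝒜 ((a * Finset.univ.lcm deg : ℕ) : ℤ))
        (fun b : 𝒜 (a * Finset.univ.lcm deg) =>
          (Twist.globalOf 𝒜 b : ProjUP.Γm (Twist.twist 𝒜 ((a * Finset.univ.lcm deg : ℕ) : ℤ)))) := by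
  classical
  let l := Finset.univ.lcm deg
  have hl : 0 < l := Nat.pos_of_ne_zero fun h => by
    obtain ⟨i, -, hi⟩ := Finset.lcm_eq_zero_iff.mp h
    exact (hdeg i).ne' hi
  have hdvd : ∀ i, deg i ∣ a * l := fun i => Dvd.dvd.mul_left (Finset.dvd_lcm (Finset.mem_univ i)) a
  let g : Fin s → A := fun i => f i ^ (a * l / deg i)
  have hg : ∀ i, g i ∈ 𝒜 (a * l) := fun i => by
    simpa [g, smul_eq_mul, Nat.div_mul_cancel (hdvd i)] using SetLike.pow_mem_graded (a * l / deg i) (hf i)
  have hcover : ∀ x : ProjectiveSpectrum 𝒜, ∃ i, g i ∉ x.asHomogeneousIdeal := by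
    intro x
    by_contra hc
    push Not at hc
    refine x.not_irrelevant_le fun c hc' => ?_
    have hdiff : ∀ b : A, b - GradedRing.projZeroRingHom 𝒜 b ∈ x.asHomogeneousIdeal.toIdeal := by
      intro b
      have hb : b ∈ Algebra.adjoin R (Set.range f) := hgen ▸ Algebra.mem_top
      induction hb using Algebra.adjoin_induction with
      | mem b hb =>
        obtain ⟨i, rfl⟩ := hb
        rw [GradedRing.projZeroRingHom_apply, DirectSum.decompose_of_mem_ne 𝒜 (hf i) (hdeg i).ne', sub_zero]
        exact x.isPrime.mem_of_pow_mem _ (hc i)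
      | algebraMap r =>
        rw [GradedRing.projZeroRingHom_apply, DirectSum.decompose_of_mem_same 𝒜 (SetLike.algebraMap_mem_graded 𝒜 r), sub_self]
        exact zero_mem _
      | add a b _ _ ha hb => rw [map_add, add_sub_add_comm]; exact add_mem ha hb
      | mul a b _ _ ha hb =>
        rw [map_mul, show a * b - GradedRing.projZeroRingHom 𝒜 a * GradedRing.projZeroRingHom 𝒜 b =
          (a - GradedRing.projZeroRingHom 𝒜 a) * b + GradedRing.projZeroRingHom 𝒜 a * (b - GradedRing.projZeroRingHom 𝒜 b) by ring]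
        exact add_mem (Ideal.mul_mem_right _ _ ha) (Ideal.mul_mem_left _ _ hb)
    have h0 := hdiff c
    rw [GradedRing.projZeroRingHom_apply, ← GradedRing.proj_apply, (HomogeneousIdeal.mem_irrelevant_iff 𝒜 c).mp hc', sub_zero] at h0
    exact h0
  refine ⟨TwistGen95.isAmple_twist (Nat.mul_pos ha hl) (Finset.univ.image g) (fun c hc => ?_) fun x => ?_,
    TwistGen95.generatedBy_of_cover _ fun x => ?_⟩
  · obtain ⟨i, -, rfl⟩ := Finset.mem_image.mp hc
    exact hg i
  · obtain ⟨i, hi⟩ := hcover x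
    exact ⟨g i, Finset.mem_image_of_mem g (Finset.mem_univ i), hi⟩
  · obtain ⟨i, hi⟩ := hcover x
    exact ⟨g i, hg i, hi⟩

end Groth.Agent.S13169
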