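import Groth.Statements.S13171
import Groth.Agent.TwistGen95.Basic
import Mathlib.Tactic.Linarith

set_option autoImplicit false
universe u
open AlgebraicGeometry
open ZeroCyc

namespace Groth.Agent.S13171

/-- Let B be a graded R-algebra generated by homogeneous elements f_1, …, f_s of positive degrees d_1,
…, d_s, let l be the least common multiple of the d_i and X = Proj B. For n ≥ (s − 1)(l − 1), O_X(n)
is generated by its global sections b/1, b ∈ B_n. -/
theorem result {R A : Type u} [CommRing R] [CommRing A] [Algebra R A] (𝒜 : ℕ → Submodule R A) [GradedAlgebra 𝒜]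
    {s : ℕ} (f : Fin s → A) (deg : Fin s → ℕ) (hdeg : ∀ i, 0 < deg i) (hf : ∀ i, f i ∈ 𝒜 (deg i))
    (hgen : Algebra.adjoin R (Set.range f) = ⊤) (n : ℕ) (hn : (s - 1) * (Finset.univ.lcm deg - 1) ≤ n) :
    ProjUP.GeneratedBy (Twist.twist 𝒜 (n : ℤ))
      (fun b : 𝒜 n => (Twist.globalOf 𝒜 b : ProjUP.Γm (Twist.twist 𝒜 (n : ℤ)))) := by
  classical
  let l := Finset.univ.lcm deg
  have hl : 0 < l := Nat.pos_of_ne_zero fun h => by
    obtain ⟨i, -, hi⟩ := Finset.lcm_eq_zero_iff.mp h
    exact (hdeg i).ne' hi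
  have hdvd : ∀ i, deg i ∣ l := fun i => Finset.dvd_lcm (Finset.mem_univ i)
  have hmon : ∀ e : Fin s → ℕ, (∏ i, f i ^ e i) ∈ 𝒜 (∑ i, e i * deg i) := fun e => by
    simpa [smul_eq_mul] using SetLike.prod_mem_graded 𝒜 (F := Finset.univ) (fun i => e i * deg i) (fun i => f i ^ e i)
      fun i _ => by simpa [smul_eq_mul] using SetLike.pow_mem_graded (e i) (hf i)
  have hsplit : ∀ (k : ℕ) (e : Fin s → ℕ), (∑ i, e i * deg i) = k * l + n →
      (∏ i, f i ^ e i) ∈ 𝒜 (k * l) * 𝒜 n := by
    intro k
    induction k with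
    | zero =>
      intro e he
      rw [Nat.zero_mul, Nat.zero_add] at he
      rw [← one_mul (∏ i, f i ^ e i), Nat.zero_mul]
      exact Submodule.mul_mem_mul SetLike.GradedOne.one_mem (he ▸ hmon e)
    | succ k ih =>
      intro e he
      obtain ⟨i, hi⟩ : ∃ i, l ≤ e i * deg i := by
        by_contra hc
        push Not at hc
        have h1 : (∑ i, e i * deg i) ≤ ∑ _i : Fin s, (l - 1) := Finset.sum_le_sum fun i _ => by
          have := hc i; omega
        rw [Finset.sum_const, Finset.card_univ, Fintype.card_fin, smul_eq_mul, he] at h1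
        have h2 : s * (l - 1) < (k + 1) * l + n := by
          rcases Nat.eq_zero_or_pos s with rfl | hs
          · simp; nlinarith
          · obtain ⟨s', rfl⟩ := Nat.exists_eq_succ_of_ne_zero hs.ne'
            have hn' : s' * (l - 1) ≤ n := hn
            rw [Nat.succ_mul]
            have : (k + 1) * l = k * l + l := Nat.succ_mul k l
            omega
        omega
      obtain ⟨m, hm⟩ := hdvd i
      rw [Nat.mul_comm] at hm
      have hme : m ≤ e i := Nat.le_of_mul_le_mul_right (hm ▸ hi) (hdeg i)
      let e' := Function.update e i (e i - m)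
      have hsum : (∑ j, e' j * deg j) = k * l + n := by
        have h1 := Finset.add_sum_erase Finset.univ (fun j => e j * deg j) (Finset.mem_univ i)
        have h2 := Finset.add_sum_erase Finset.univ (fun j => e' j * deg j) (Finset.mem_univ i)
        have h3 : ∑ j ∈ Finset.univ.erase i, e' j * deg j = ∑ j ∈ Finset.univ.erase i, e j * deg j :=
          Finset.sum_congr rfl fun j hj => by simp [e', Finset.ne_of_mem_erase hj]
        have h4 : e' i * deg i + l = e i * deg i := by
          rw [hm, ← Nat.add_mul, show e' i = e i - m by simp [e'], Nat.sub_add_cancel hme]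
        have h5 : (k + 1) * l = k * l + l := Nat.succ_mul k l
        omega
      have hprod : (∏ j, f j ^ e j) = f i ^ m * ∏ j, f j ^ e' j := by
        rw [← Finset.mul_prod_erase Finset.univ (fun j => f j ^ e j) (Finset.mem_univ i),
          ← Finset.mul_prod_erase Finset.univ (fun j => f j ^ e' j) (Finset.mem_univ i), ← mul_assoc, ← pow_add]
        congr 1
        · simp [e', Nat.add_sub_cancel' hme]
        · exact Finset.prod_congr rfl fun j hj => by simp [e', Finset.ne_of_mem_erase hj]
      rw [hprod]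
      have h6 : 𝒜 l * (𝒜 (k * l) * 𝒜 n) ≤ 𝒜 ((k + 1) * l) * 𝒜 n := by
        rw [← mul_assoc]
        refine Submodule.mul_le.mpr fun p hp q hq => Submodule.mul_mem_mul ?_ hq
        refine (Submodule.mul_le.mpr fun u h1 v h2 => ?_) hp
        rw [Nat.succ_mul, Nat.add_comm]
        exact SetLike.mul_mem_graded h1 h2
      refine h6 (Submodule.mul_mem_mul ?_ (ih e' hsum))
      rw [hm, show m * deg i = m • deg i from rfl]
      exact SetLike.pow_mem_graded m (hf i)
  have hall : ∀ (k : ℕ) (a : A), GradedAlgebra.proj 𝒜 (k * l + n) a ∈ 𝒜 (k * l) * 𝒜 n := by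
    intro k a
    have ha : a ∈ Subalgebra.toSubmodule (Algebra.adjoin R (Set.range f)) := by rw [hgen]; trivial
    rw [Algebra.adjoin_eq_span] at ha
    induction ha using Submodule.span_induction with
    | mem a ha =>
      obtain ⟨e, rfl⟩ := Submonoid.mem_closure_range_iff_of_fintype.mp ha
      rw [GradedAlgebra.proj_apply]
      by_cases he : (∑ i, e i * deg i) = k * l + n
      · rw [DirectSum.decompose_of_mem_same 𝒜 (he ▸ hmon e)]
        exact hsplit k e he
      · rw [DirectSum.decompose_of_mem_ne 𝒜 (hmon e) he]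
        exact zero_mem _
    | zero => rw [map_zero]; exact zero_mem _
    | add a b _ _ ha hb => rw [map_add]; exact add_mem ha hb
    | smul c a _ ha => rw [map_smul]; exact Submodule.smul_mem _ c ha
  refine TwistGen95.generatedBy n fun x i j a t ht hij => ?_
  have h1 : t.1 ^ (l - 1) ∈ 𝒜 ((l - 1) * j) := by
    simpa [smul_eq_mul] using SetLike.pow_mem_graded (l - 1) t.2
  refine ⟨(l - 1) * j, ⟨_, h1⟩, fun hmem => ht (x.isPrime.mem_of_pow_mem _ hmem), ?_⟩
  have h2 : (l - 1) * j + j = j * l := by
    rw [← Nat.succ_mul, Nat.succ_eq_add_one, Nat.sub_add_cancel hl, Nat.mul_comm]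
  have h3 : a.1 * t.1 ^ (l - 1) ∈ 𝒜 (j * l + n) := by
    rw [show j * l + n = i + (l - 1) * j by omega]
    exact SetLike.mul_mem_graded a.2 h1
  rw [h2, show a.1 * (⟨t.1 ^ (l - 1), h1⟩ : 𝒜 ((l - 1) * j)).1 = GradedAlgebra.proj 𝒜 (j * l + n) (a.1 * t.1 ^ (l - 1)) by
    rw [GradedAlgebra.proj_apply, DirectSum.decompose_of_mem_same 𝒜 h3]]
  exact hall j _

end Groth.Agent.S13171
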