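import Groth.Statements.S13173
import Groth.Agent.TwistGen95.Ample

set_option autoImplicit false
universe u
open AlgebraicGeometry
open ZeroCyc

namespace Groth.Agent.S13173

/-- Let B be a graded R-algebra generated by elements of degree at most d, such that X = Proj B is
quasi-compact and covered by the opens D_+(g), g ∈ B_1. Then O_X(n) is ample for every n ≥ 1. (The
published statement does not assume X quasi-compact, which ampleness as used here requires and which
fails for a polynomial ring in infinitely many degree-one variables; this row assumes it.) -/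
theorem result {R A : Type u} [CommRing R] [CommRing A] [Algebra R A] (𝒜 : ℕ → Submodule R A) [GradedAlgebra 𝒜]
    (d : ℕ) (hgen : Algebra.adjoin R (⋃ i ∈ Finset.range (d + 1), (𝒜 i : Set A)) = ⊤)
    (hcov : (⨆ g : 𝒜 1, Proj.basicOpen 𝒜 (g : A)) = ⊤) [CompactSpace (Proj 𝒜)] (n : ℕ) (hn : 0 < n) :
    CohB1.IsAmple (Twist.twist 𝒜 (n : ℤ)) := by
  classical
  obtain ⟨t, ht⟩ := isCompact_univ.elim_finite_subcover (fun g : 𝒜 1 => (Proj.basicOpen 𝒜 (g : A) : Set (Proj 𝒜)))
    (fun g => (Proj.basicOpen 𝒜 (g : A)).2) (fun x _ => Set.mem_iUnion.2 (TopologicalSpace.Opens.mem_iSup.mp (hcov.ge (Set.mem_univ x))))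
  refine Groth.Agent.TwistGen95.isAmple_twist hn (t.image fun g : 𝒜 1 => (g : A) ^ n) ?_ fun x => ?_
  · intro f hf
    obtain ⟨g, -, rfl⟩ := Finset.mem_image.1 hf
    simpa [smul_eq_mul] using SetLike.pow_mem_graded n g.2
  · obtain ⟨g, hgt, hg⟩ := Set.mem_iUnion₂.1 (ht (Set.mem_univ (x : Proj 𝒜)))
    exact ⟨_, Finset.mem_image.2 ⟨g, hgt, rfl⟩,
      fun h => (ProjectiveSpectrum.mem_basicOpen 𝒜 _ _).mp hg (x.isPrime.mem_of_pow_mem n h)⟩

end Groth.Agent.S13173
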