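import Groth.Statements.S13177
import Groth.Agent.Fam20.QuotGeom

set_option autoImplicit false
universe u
open CategoryTheory CategoryTheory.Limits AlgebraicGeometry
open ZeroCyc

namespace Groth.Agent.S13177

/-- Let a finite group G act on a scheme X with quotient q : X → Y (affine, G-invariant, O_Y = the
invariant sections), let i : Z → X be a G-stable closed subscheme with the induced action and r : Z
→ W a quotient of Z by G, and let q(Z) be the scheme-theoretic image of Z in Y. Then the morphism W
→ q(Z) through which Z → q(Z) factors via r is a schematically dominant universal homeomorphism.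
(The published statement assumes the quotient of X exists; here both quotients are hypotheses.) -/
theorem result {X Y Z W : Scheme.{u}} {G : Type u} [Group G] [Finite G]
    (ρ : G →* Aut X) (q : X ⟶ Y) (hquot : SGA1.IsQuot ρ q)
    (i : Z ⟶ X) [IsClosedImmersion i] (ρZ : G →* Aut Z) (hρZ : ∀ σ : G, (ρZ σ).hom ≫ i = i ≫ (ρ σ).hom)
    (r : Z ⟶ W) (hr : SGA1.IsQuot ρZ r)
    (m : W ⟶ (i ≫ q).ker.subscheme) (hm : r ≫ m ≫ (i ≫ q).ker.subschemeι = i ≫ q) :
    FlatMor.IsUnivHomeo m ∧ IsSchemeTheoreticallyDominant m := by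
  have hr' : Surjective r := ⟨Quot84.surjective hr⟩
  have hq' : IsIntegralHom q := Quot84.isIntegralHom hquot
  have hrm : r ≫ m = (i ≫ q).toImage := by
    rw [← cancel_mono (i ≫ q).ker.subschemeι, Category.assoc, hm]
    exact (Scheme.Hom.toImage_imageι (i ≫ q)).symm
  have huc : UniversallyClosed (r ≫ m) := by
    have : UniversallyClosed ((r ≫ m) ≫ (i ≫ q).ker.subschemeι) := by
      rw [Category.assoc, hm]; infer_instance
    exact UniversallyClosed.of_comp_of_isSeparated _ (i ≫ q).ker.subschemeι
  have hsd : IsSchemeTheoreticallyDominant (r ≫ m) := by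
    rw [hrm]; exact Groth.Agent.Fam20.isSchemeTheoreticallyDominant_toImage _
  have hs : Surjective (r ≫ m) := by
    refine ⟨fun y => ?_⟩
    have hd : DenseRange (r ≫ m) := Scheme.Hom.denseRange (r ≫ m)
    have hc : IsClosed (Set.range (r ≫ m)) := (r ≫ m).isClosedMap.isClosed_range
    have := hd.closure_range
    rw [hc.closure_eq] at this
    exact this.ge (Set.mem_univ y)
  refine ⟨Groth.Agent.Fam20.isUnivHomeo_of_conj (ρ := ρZ) r hr.inv m fun Ω _ a b hab => ?_,
    Groth.Agent.Fam20.isSchemeTheoreticallyDominant_of_comp r m⟩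
  obtain ⟨σ, hσ⟩ := Groth.Agent.Fam20.exists_conj_of_isQuot hquot (a ≫ i) (b ≫ i) (by
    rw [Category.assoc, Category.assoc, ← hm, reassoc_of% hab])
  refine ⟨σ, ?_⟩
  rw [← cancel_mono i, Category.assoc, hρZ σ, ← Category.assoc]
  exact hσ

end Groth.Agent.S13177
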