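import Groth.Statements.S13183
import Groth.Agent.TwistGen95.Closed

set_option autoImplicit false
universe u
open CategoryTheory CategoryTheory.Limits AlgebraicGeometry
open ZeroCyc

namespace Groth.Agent.S13183

/-- Let B be a graded R-algebra of finite type, generated by elements of degrees between 1 and d, such
that X = Proj B is covered by the opens D_+(g), g ∈ B_1. For n ≥ d, n ≥ 1, there is a closed
immersion i of X into a projective space over R, over Spec R, with O_X(n) ≅ i^*O(1); in particular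
O_X(n) is very ample relative to Spec R. (The published statement assumes neither finite generation
nor that the generators have positive degree, and its target is P(B_n) with i the canonical morphism
given by B_n; a closed immersion into a projective space of finite type over R needs X proper over
R, so B is taken of finite type with generators of positive degree; existence of the isomorphism
only.) -/
theorem result {R A : Type u} [CommRing R] [CommRing A] [Algebra R A] (𝒜 : ℕ → Submodule R A) [GradedAlgebra 𝒜]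
    (d : ℕ) (hgen : Algebra.adjoin R (⋃ i ∈ Finset.Icc 1 d, (𝒜 i : Set A)) = ⊤)
    (hcov : (⨆ g : 𝒜 1, Proj.basicOpen 𝒜 (g : A)) = ⊤) [Algebra.FiniteType R A] (n : ℕ) (hn : d ≤ n) (hn1 : 0 < n) :
    ∃ (N : ℕ) (i : Proj 𝒜 ⟶ CohB1.ProjSpaceOver N (Spec (CommRingCat.of R))), IsClosedImmersion i ∧
      i ≫ pullback.snd (CohB1.ProjSpace.toSpec N (ULift.{u} ℤ)) (specULiftZIsTerminal.from (Spec (CommRingCat.of R))) =
        Proj.toSpecZero 𝒜 ≫ Spec.map (CommRingCat.ofHom (algebraMap R (𝒜 0))) ∧
      Nonempty (Twist.twist 𝒜 (n : ℤ) ≅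
        (Scheme.Modules.pullback i).obj (Twist.twistOver N (Spec (CommRingCat.of R)) 1)) := by
  classical
  obtain ⟨T, hT, hgen'⟩ := Groth.Agent.TwistGen95.exists_finset_adjoin_eq_top hgen
  have hex : ∀ t : T, ∃ i, i ∈ Finset.Icc 1 d ∧ t.1 ∈ 𝒜 i := fun t => by simpa using hT t.2
  choose dg hd1 hd2 using hex
  let e := T.equivFin.symm
  let f : Fin T.card → A := fun i => (e i).1
  let deg : Fin T.card → ℕ := fun i => dg (e i)
  have hdeg : ∀ i, 0 < deg i := fun i => (Finset.mem_Icc.mp (hd1 (e i))).1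
  have hle : ∀ i, deg i ≤ n := fun i => (Finset.mem_Icc.mp (hd1 (e i))).2.trans hn
  have hf : ∀ i, f i ∈ 𝒜 (deg i) := fun i => hd2 (e i)
  have hr : Set.range f = (T : Set A) := by
    ext y
    exact ⟨fun ⟨i, hi⟩ => hi ▸ (e i).2, fun hy => ⟨e.symm ⟨y, hy⟩, by simp [f]⟩⟩
  have hgf : Algebra.adjoin R (Set.range f) = ⊤ := hr ▸ hgen'
  refine Groth.Agent.TwistGen95.exists_closedImmersion_of_ratios hn1
    (Groth.Agent.TwistGen95.surjective_algebraMap_zero f deg hdeg hf hgf)
    (Groth.Agent.TwistGen95.monos f deg hf n) fun x => ?_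
  obtain ⟨g, hg⟩ := TopologicalSpace.Opens.mem_iSup.mp ((hcov ▸ trivial : x ∈ ⨆ g : 𝒜 1, Proj.basicOpen 𝒜 (g : A)))
  obtain ⟨i₀, h1, hi₀⟩ : ∃ i, deg i = 1 ∧ f i ∉ x.asHomogeneousIdeal := by
    by_contra hc
    push Not at hc
    refine hg (Submodule.span_induction (p := fun z _ => z ∈ x.asHomogeneousIdeal) ?_ (zero_mem _)
      (fun _ _ _ _ => add_mem) (fun r z _ hz => ?_) (Groth.Agent.TwistGen95.mem_span_mono f deg hf hgf 1 g.1 g.2))
    · rintro _ ⟨v, hv, rfl⟩
      obtain ⟨i, -, hi⟩ := Finset.exists_ne_zero_of_sum_ne_zero (show ∑ i, v i * deg i ≠ 0 by rw [hv]; omega)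
      have hi1 : deg i = 1 := by
        have h := Finset.single_le_sum (f := fun i => v i * deg i) (fun _ _ => Nat.zero_le _) (Finset.mem_univ i)
        simp only [Set.mem_setOf_eq] at hv h
        have h2 : deg i ≤ v i * deg i := Nat.le_mul_of_pos_left _ (Nat.pos_of_ne_zero (left_ne_zero_of_mul hi))
        have := hdeg i
        omega
      exact Ideal.mem_of_dvd _ ((dvd_pow_self _ (left_ne_zero_of_mul hi)).trans
        (Finset.dvd_prod_of_mem (fun i => f i ^ v i) (Finset.mem_univ i))) (hc i hi1)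
    · rw [Algebra.smul_def]
      exact Ideal.mul_mem_left _ _ hz
  have hsum : ∑ i, (Pi.single i₀ n : Fin T.card → ℕ) i * deg i = n := by
    rw [Finset.sum_eq_single i₀ (fun k _ hk => by simp [Pi.single_eq_of_ne hk]) (by simp), Pi.single_eq_same, h1, mul_one]
  obtain ⟨j, hj⟩ := Groth.Agent.TwistGen95.exists_monos (𝒜 := 𝒜) f deg hdeg hf _ hsum
  have hj' : (Groth.Agent.TwistGen95.monos f deg hf n j).1 = f i₀ ^ n := hj.trans (by
    rw [Groth.Agent.TwistGen95.mono, Finset.prod_eq_single i₀ (fun k _ hk => by simp [Pi.single_eq_of_ne hk]) (by simp),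
      Pi.single_eq_same])
  refine ⟨j, fun h => hi₀ (x.isPrime.mem_of_pow_mem n (hj' ▸ h)), ?_⟩
  exact Groth.Agent.TwistGen95.ratioRing_eq_top_of_le f deg hf hgf hn1 hle i₀ h1 hdeg j hj'


end Groth.Agent.S13183
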