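import Groth.Statements.S13184
import Mathlib.FieldTheory.SeparableClosure
import Mathlib.Algebra.CharP.Algebra
import Mathlib.FieldTheory.IsAlgClosed.Basic
import Mathlib.Algebra.CharP.Lemmas

set_option autoImplicit false
universe u
open ZeroCyc

namespace Groth.Agent.S13184

/-- Let k ⊆ K be a finite extension of fields of characteristic p > 0, viewed inside an algebraically
closed field Ω, and for e ≥ 0 let k^{p^{-e}} ⊆ Ω be the field of elements whose p^e-th power lies in
k. Then the compositum k^{p^{-e}}K is separable over k^{p^{-e}} if and only if x^{p^e} is separable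
over k for every x ∈ K; hence the exponent of K/k (the least n ≥ 1 with K^n separable over k, a
power of p) is the least p^e for which k^{p^{-e}} ⊆ k^{p^{-e}}K is separable. -/
theorem result {k : Type u} [Field k] (p : ℕ) [Fact p.Prime] [CharP k p]
    {K : Type u} [Field K] [Algebra k K] [FiniteDimensional k K]
    {Ω : Type u} [Field Ω] [Algebra k Ω] [Algebra K Ω] [IsScalarTower k K Ω] [IsAlgClosed Ω] (e : ℕ) :
    (∀ x : Ω, x ∈ IntermediateField.adjoin k {y : Ω | y ^ (p ^ e) ∈ Set.range (algebraMap k Ω)} ⊔
        IntermediateField.adjoin k (Set.range (algebraMap K Ω)) →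
      IsSeparable (IntermediateField.adjoin k {y : Ω | y ^ (p ^ e) ∈ Set.range (algebraMap k Ω)}) x) ↔
    ∀ x : K, x ^ (p ^ e) ∈ separableClosure k K := by
  classical
  let L : IntermediateField k Ω := IntermediateField.adjoin k {y : Ω | y ^ (p ^ e) ∈ Set.range (algebraMap k Ω)}
  have : CharP Ω p := charP_of_injective_algebraMap (algebraMap k Ω).injective p
  have : ExpChar Ω p := ExpChar.prime Fact.out
  let φ : Ω →+* Ω := iterateFrobenius Ω p e
  have hφ : ∀ y, φ y = y ^ p ^ e := fun y => iterateFrobenius_def ..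
  have hL : ∀ y, y ∈ L → φ y ∈ (algebraMap k Ω).range := by
    intro y hy
    induction hy using IntermediateField.adjoin_induction with
    | mem y hy => exact hφ y ▸ hy
    | algebraMap c => exact ⟨c ^ p ^ e, by rw [hφ, map_pow]⟩
    | add y z _ _ hy hz => rw [map_add]; exact add_mem hy hz
    | inv y _ hy => rw [map_inv₀]; obtain ⟨c, hc⟩ := hy; exact ⟨c⁻¹, by rw [map_inv₀, hc]⟩
    | mul y z _ _ hy hz => rw [map_mul]; exact mul_mem hy hz
  choose ψ hψ using fun y : L => hL y.1 y.2
  let Ψ : L →+* k :=
    { toFun := ψ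
      map_one' := (algebraMap k Ω).injective (by rw [hψ, map_one]; simp)
      map_mul' := fun a b => (algebraMap k Ω).injective (by rw [hψ, map_mul, hψ, hψ]; simp)
      map_zero' := (algebraMap k Ω).injective (by rw [hψ, map_zero]; simp)
      map_add' := fun a b => (algebraMap k Ω).injective (by rw [hψ, map_add, hψ, hψ]; simp) }
  have hΨ : Function.Bijective Ψ := by
    refine ⟨Ψ.injective, fun c => ?_⟩
    obtain ⟨y, hy⟩ := IsAlgClosed.exists_pow_nat_eq (algebraMap k Ω c) (pow_pos (Fact.out : p.Prime).pos e)
    have hyL : y ∈ L := IntermediateField.subset_adjoin k _ ⟨c, hy.symm⟩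
    exact ⟨⟨y, hyL⟩, (algebraMap k Ω).injective ((hψ _).trans ((hφ y).trans hy))⟩
  have hcomp : φ.comp (algebraMap L Ω) = (algebraMap k Ω).comp Ψ := RingHom.ext fun y => (hψ y).symm
  have key : ∀ x : Ω, IsSeparable L x ↔ IsSeparable k (x ^ p ^ e) := by
    intro x
    have hev : ∀ P : Polynomial L, (Polynomial.aeval (x ^ p ^ e)) (P.map Ψ) = φ (Polynomial.aeval x P) := fun P => by
      rw [Polynomial.aeval_def, Polynomial.eval₂_map, ← hcomp, ← hφ, ← Polynomial.hom_eval₂, ← Polynomial.aeval_def]
    refine ⟨fun h => ?_, fun h => ?_⟩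
    · exact (Polynomial.Separable.map h (f := Ψ)).of_dvd (minpoly.dvd k _ (by rw [hev, minpoly.aeval, map_zero]))
    · let Ψe := RingEquiv.ofBijective Ψ hΨ
      have hm : ((minpoly k (x ^ p ^ e)).map Ψe.symm.toRingHom).map Ψ = minpoly k (x ^ p ^ e) := by
        rw [Polynomial.map_map]
        conv_rhs => rw [← Polynomial.map_id (p := minpoly k (x ^ p ^ e))]
        congr 1
        exact RingHom.ext fun c => Ψe.apply_symm_apply c
      refine (Polynomial.Separable.map h (f := Ψe.symm.toRingHom)).of_dvd (minpoly.dvd L _ ?_)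
      refine φ.injective ?_
      rw [← hev, hm, minpoly.aeval, map_zero]
  have keyK : ∀ x : K, IsSeparable k ((algebraMap K Ω x) ^ p ^ e) ↔ x ^ (p ^ e) ∈ separableClosure k K := fun x => by
    rw [mem_separableClosure_iff, ← map_pow, IsSeparable, IsSeparable, minpoly.algebraMap_eq (algebraMap K Ω).injective]
  constructor
  · intro h x
    exact (keyK x).mp ((key _).mp (h _ (SetLike.le_def.mp le_sup_right (IntermediateField.subset_adjoin k _ ⟨x, rfl⟩))))
  · intro h x hx
    have hle : L ⊔ IntermediateField.adjoin k (Set.range (algebraMap K Ω)) ≤ (separableClosure L Ω).restrictScalars k := by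
      refine sup_le (fun y hy => ?_) (IntermediateField.adjoin_le_iff.mpr ?_)
      · exact (IntermediateField.algebraMap_mem (separableClosure L Ω) (⟨y, hy⟩ : L))
      · rintro _ ⟨y, rfl⟩
        exact mem_separableClosure_iff.mpr ((key _).mpr ((keyK y).mpr (h y)))
    exact mem_separableClosure_iff.mp (hle hx)

end Groth.Agent.S13184
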