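import Groth.Statements.S13186
import Groth.Agent.GalH1.GLn

set_option autoImplicit false
universe u
open GalCoh

namespace Groth.Agent.S13186

theorem result (K L : Type u) [Field K] [Field L]
    [Algebra K L] [FiniteDimensional K L] [IsGalois K L] (n : ℕ)
    (B : (L ≃ₐ[K] L) → GL (Fin n) L)
    (hB : ∀ σ τ : L ≃ₐ[K] L,
      (B σ : Matrix (Fin n) (Fin n) L) * (B τ : Matrix (Fin n) (Fin n) L).map σ =
        (B (σ * τ) : Matrix (Fin n) (Fin n) L))
    (hdet : ∀ σ : L ≃ₐ[K] L, Matrix.det (B σ : Matrix (Fin n) (Fin n) L) = 1) :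
    ∃ A : GL (Fin n) L, Matrix.det (A : Matrix (Fin n) (Fin n) L) = 1 ∧ ∀ σ : L ≃ₐ[K] L,
      (B σ : Matrix (Fin n) (Fin n) L) =
        ((A⁻¹ : GL (Fin n) L) : Matrix (Fin n) (Fin n) L) * (A : Matrix (Fin n) (Fin n) L).map σ := by
  obtain ⟨A, hA⟩ := GalH1.exists_eq_inv_mul_map B (fun σ τ => (hB σ τ).symm)
  rcases isEmpty_or_nonempty (Fin n) with hn | hn
  · exact ⟨A, Matrix.det_isEmpty, hA⟩
  obtain ⟨i⟩ := hn
  set d := Matrix.det (A : Matrix (Fin n) (Fin n) L) with hd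
  have hd0 : d ≠ 0 := ((Matrix.isUnit_iff_isUnit_det _).1 A.isUnit).ne_zero
  have hfix : ∀ σ : L ≃ₐ[K] L, σ d = d := fun σ => by
    have hmul : (A : Matrix (Fin n) (Fin n) L) * (B σ : Matrix (Fin n) (Fin n) L) =
        (A : Matrix (Fin n) (Fin n) L).map σ := by
      rw [hA σ, ← mul_assoc, Units.mul_inv, one_mul]
    have := congrArg Matrix.det hmul
    rw [Matrix.det_mul, hdet, mul_one] at this
    exact (AlgEquiv.map_det σ _).trans this.symm
  let v : Fin n → L := Function.update (fun _ => 1) i d⁻¹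
  have hv : ∀ j, v j ≠ 0 := fun j => by
    by_cases hj : j = i
    · subst hj; simp [v, hd0]
    · simp [v, hj]
  have hvσ : ∀ (σ : L ≃ₐ[K] L) (j : Fin n), σ (v j) = v j := fun σ j => by
    by_cases hj : j = i
    · subst hj; simp [v, hfix σ]
    · simp [v, hj]
  have hdv : Matrix.det (Matrix.diagonal v) = d⁻¹ := by
    rw [Matrix.det_diagonal, Finset.prod_update_of_mem (Finset.mem_univ i)]
    simp
  obtain ⟨D, hD⟩ : IsUnit (Matrix.diagonal v) := by
    rw [Matrix.isUnit_iff_isUnit_det, hdv]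
    exact (inv_ne_zero hd0).isUnit
  refine ⟨D * A, ?_, fun σ => ?_⟩
  · rw [Units.val_mul, Matrix.det_mul, hD, hdv, ← hd, inv_mul_cancel₀ hd0]
  · have hmap : (D : Matrix (Fin n) (Fin n) L).map σ = D := by
      rw [hD, Matrix.diagonal_map (map_zero σ)]
      exact congrArg Matrix.diagonal (funext (hvσ σ))
    rw [hA σ, mul_inv_rev, Units.val_mul, Units.val_mul, Matrix.map_mul, hmap, mul_assoc,
      ← mul_assoc _ (D : Matrix (Fin n) (Fin n) L), Units.inv_mul, one_mul]

end Groth.Agent.S13186
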