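import Groth.Statements.S13187
import Groth.Agent.Ci77.Basic

set_option autoImplicit false
universe u v
open Curves

namespace Groth.Agent.S13187
theorem isCi_adjoin {k : Type u} [Field k] {m : ℕ} (hk : Curves.IsCi k m) : ∀ (j : ℕ)
    {K : Type v} [Field K] [Algebra k K] (x : Fin j → K), AlgebraicIndependent k x →
    Curves.IsCi (IntermediateField.adjoin k (Set.range x)) (m + j)
  | 0, K, _, _, x, _ => by
    have h : IntermediateField.adjoin k (Set.range x) = ⊥ := by simp
    exact Ci77.isCi_of_ringEquiv ((IntermediateField.botEquiv k K).symm.trans
      (IntermediateField.equivOfEq h.symm)).toRingEquiv hk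
  | j + 1, K, _, _, x, hx => by
    let x' := x ∘ Fin.castSucc
    set F0 := IntermediateField.adjoin k (Set.range x') with hF0
    set t := x (Fin.last j)
    have hF : Curves.IsCi F0 (m + j) :=
      isCi_adjoin hk j x' (hx.comp _ (Fin.castSucc_injective j))
    have ht : Transcendental F0 t := by
      rw [hF0, IntermediateField.transcendental_adjoin_iff]
      have := hx.transcendental_adjoin (s := Set.range Fin.castSucc) (i := Fin.last j) (by simp)
      rwa [← Set.range_comp] at this
    have heq : (IntermediateField.adjoin F0 {t}).restrictScalars k =
        IntermediateField.adjoin k (Set.range x) := by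
      rw [hF0, IntermediateField.adjoin_adjoin_left]
      congr 1
      ext y
      simp only [x', t, Set.mem_union, Set.mem_range, Set.mem_singleton_iff, Function.comp_apply]
      constructor
      · rintro (⟨i, rfl⟩ | rfl)
        · exact ⟨_, rfl⟩
        · exact ⟨_, rfl⟩
      · rintro ⟨i, rfl⟩
        induction i using Fin.lastCases with
        | last => exact Or.inr rfl
        | cast i => exact Or.inl ⟨i, rfl⟩
    refine Ci77.isCi_of_ringEquiv ?_ (Ci77.isCi_succ_ratFunc hF)
    exact (RatFunc.algEquivOfTranscendental t ht).toRingEquiv.trans
      (IntermediateField.equivOfEq heq).toRingEquiv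



/-- If a field k has property C_m for systems of forms and the extension field K of k has a finite
transcendence basis with t elements, then K has property C_{m+t} for systems of forms. (Property C_m
is the systems version: any r forms of positive degrees d_1, …, d_r in n variables with Σ d_i^m < n
have a common non-trivial zero.) -/
theorem result (k : Type u) [Field k] (K : Type v) [Field K] [Algebra k K]
    (m t : ℕ) (x : Fin t → K) (hx : IsTranscendenceBasis k x) (hk : Curves.IsCi k m) :
    Curves.IsCi K (m + t) := by
  have := isCi_adjoin hk t x hx.1
  have := hx.isAlgebraic_field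
  exact Ci77.isCi_of_isAlgebraic (by assumption)

end Groth.Agent.S13187
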