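import Groth.Statements.S13188
import Groth.Agent.Ci77.Basic
import Groth.Agent.Csa25.RedNormRange

set_option autoImplicit false
universe u v w
open Brauer

namespace Groth.Agent.S13188

/-- Let K be a field with property C_2 for systems of forms and D a finite-dimensional central division
algebra over K with dim_K D = d². Let N : D → K be multiplicative, a reduced norm of D over K, and
given in the coordinates of a K-basis b of D by a homogeneous polynomial F of degree d, i.e. N(Σ x_i
b_i) = F(x) for every coordinate vector x (the reduced norm of a central simple algebra of dimension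
d² is such a polynomial map of degree d; these data record it). Then N : D → K is surjective. -/
theorem result (K : Type u) [Field K] (hK : Curves.IsCi K 2)
    (D : Type v) [DivisionRing D] [Algebra K D] [Algebra.IsCentral K D] [FiniteDimensional K D]
    (d : ℕ) (hd : Module.finrank K D = d ^ 2)
    (N : D →* K) (hN : CSAGal.IsRedNorm K D N)
    {ι : Type w} [Fintype ι] (b : Module.Basis ι K D)
    (F : MvPolynomial ι K) (hF : F.IsHomogeneous d)
    (hNF : ∀ x : ι → K, N (∑ i, x i • b i) = MvPolynomial.eval x F) :
    Function.Surjective N := by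
  classical
  intro c
  rcases eq_or_ne c 0 with rfl | hc
  · refine ⟨0, ?_⟩
    by_contra h
    rw [Groth.Agent.Csa25.eq_redNorm hN] at h
    exact not_isUnit_zero ((Groth.Agent.Csa25.isUnit_iff_redNorm_ne_zero (0 : D)).2 h)
  have hd0 : 0 < d := Nat.pos_of_ne_zero fun h => by
    rw [h] at hd; exact Module.finrank_pos.ne' (by simpa using hd)
  let G : MvPolynomial (Option ι) K :=
    MvPolynomial.rename some F - MvPolynomial.C c * MvPolynomial.X none ^ d
  have hG : G.IsHomogeneous d :=
    hF.rename_isHomogeneous.sub ((MvPolynomial.isHomogeneous_X_pow none d).C_mul c)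
  obtain ⟨a, ha, h⟩ := Groth.Agent.Ci77.isCi_apply hK (P := Unit) (σ := Option ι) (fun _ => G)
    (fun _ => d) (fun _ => hG) (fun _ => hd0) (by
      simp [Fintype.card_option, ← Module.finrank_eq_card_basis b, hd])
  have h0 := h ()
  simp only [G, map_sub, map_mul, map_pow, MvPolynomial.eval_C, MvPolynomial.eval_X,
    MvPolynomial.eval_rename, ← hNF, sub_eq_zero] at h0
  have ht : a none ≠ 0 := by
    intro ht
    rw [ht, zero_pow hd0.ne', mul_zero] at h0
    have hx : ∑ i, (a ∘ some) i • b i = 0 := by
      by_contra hx
      exact (IsUnit.map N (Ne.isUnit hx)).ne_zero h0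
    have := Fintype.linearIndependent_iff.1 b.linearIndependent _ hx
    exact ha (funext fun o => by rcases o with _ | i <;> [exact ht; exact this i])
  refine ⟨(a none)⁻¹ • ∑ i, (a ∘ some) i • b i, ?_⟩
  rw [Groth.Agent.Csa25.eq_redNorm hN] at h0 ⊢
  rw [Groth.Agent.Csa25.redNorm_smul (hd.trans (sq d))]
  refine Eq.trans (congrArg _ h0) ?_
  rw [inv_pow, mul_comm c, ← mul_assoc, inv_mul_cancel₀ (pow_ne_zero _ ht), one_mul]

end Groth.Agent.S13188
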