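import Groth.Statements.S13189
import Mathlib.Combinatorics.Nullstellensatz
import Mathlib.FieldTheory.Finite.Basic

set_option autoImplicit false
universe u
open CAlg

namespace Groth.Agent.S13189

/-- For a finite field K of cardinality q and n ≥ 0, a polynomial p in n variables over K vanishes at
every point of K^n if and only if p belongs to the ideal generated by the X_i^q − X_i, i = 1, …, n;
in other words that ideal is the kernel of the evaluation homomorphism from K[X_1, …, X_n] to the
ring of K-valued functions on K^n. -/
theorem result (K : Type u) [Field K] [Fintype K]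
    (n : ℕ) (p : MvPolynomial (Fin n) K) :
    (∀ a : Fin n → K, MvPolynomial.eval a p = 0) ↔
      p ∈ Ideal.span (Set.range fun i : Fin n =>
        (MvPolynomial.X i ^ Fintype.card K - MvPolynomial.X i : MvPolynomial (Fin n) K)) := by
  have hP : ∀ i : Fin n, (∏ s ∈ (Finset.univ : Finset K), (MvPolynomial.X i - MvPolynomial.C s :
      MvPolynomial (Fin n) K)) = MvPolynomial.X i ^ Fintype.card K - MvPolynomial.X i := by
    intro i
    have hm : (Polynomial.X ^ Fintype.card K - Polynomial.X : Polynomial K).Monic :=
      Polynomial.monic_X_pow_sub (by rw [Polynomial.degree_X]; exact_mod_cast Fintype.one_lt_card)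
    have hd : (Polynomial.X ^ Fintype.card K - Polynomial.X : Polynomial K).natDegree =
        Fintype.card K := FiniteField.X_pow_card_sub_X_natDegree_eq K Fintype.one_lt_card
    have hr : (Finset.univ.val.map fun a : K => Polynomial.X - Polynomial.C a).prod =
        (Polynomial.X ^ Fintype.card K - Polynomial.X : Polynomial K) := by
      have := Polynomial.prod_multiset_X_sub_C_of_monic_of_roots_card_eq hm
        (by rw [FiniteField.roots_X_pow_card_sub_X, hd]; rfl)
      rwa [FiniteField.roots_X_pow_card_sub_X] at this
    have := congrArg (Polynomial.aeval (MvPolynomial.X i : MvPolynomial (Fin n) K)) hr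
    rw [map_multiset_prod, Multiset.map_map] at this
    simp only [Function.comp_def, map_sub, map_pow, Polynomial.aeval_X, Polynomial.aeval_C, MvPolynomial.algebraMap_eq] at this
    exact this
  constructor
  · intro h
    obtain ⟨c, -, hc⟩ := MvPolynomial.combinatorial_nullstellensatz_exists_linearCombination
      (fun _ => (Finset.univ : Finset K)) (fun _ => Finset.univ_nonempty) p (fun x _ => h x)
    rw [hc, Finsupp.linearCombination_apply]
    refine Submodule.sum_mem _ fun i _ => Ideal.mul_mem_left _ _ (Ideal.subset_span ⟨i, (hP i).symm⟩)
  · intro h a
    have hle : Ideal.span (Set.range fun i : Fin n =>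
        (MvPolynomial.X i ^ Fintype.card K - MvPolynomial.X i : MvPolynomial (Fin n) K)) ≤
        RingHom.ker (MvPolynomial.eval a) := by
      rw [Ideal.span_le]
      rintro _ ⟨i, rfl⟩
      simp [RingHom.mem_ker, FiniteField.pow_card]
    exact hle h

end Groth.Agent.S13189
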