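import Groth.Statements.S13190

set_option autoImplicit false
universe u v w
open GalCoh

namespace Groth.Agent.S13190

theorem result {G : Type u} {A : Type v} {E : Type w}
    [Group G] [Group A] [MulDistribMulAction G A]
    [MulAction G E] [MulAction Aᵐᵒᵖ E]
    (hfree : ∀ m₁ m₂ : E, ∃! a : A, m₂ = MulOpposite.op a • m₁)
    (hcompat : ∀ (g : G) (a : A) (m : E), g • (MulOpposite.op a • m) = MulOpposite.op (g • a) • g • m)
    (m : E) (a : G → A) (ha : ∀ g : G, g • m = MulOpposite.op (a g) • m) :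
    GpH1.IsOneCocycle a := by
  intro σ τ
  obtain ⟨b, -, hb⟩ := hfree m ((σ * τ) • m)
  rw [hb _ (ha _), hb (a σ * σ • a τ) ?_]
  beta_reduce
  rw [mul_smul, ha τ, hcompat, ha σ, ← mul_smul, MulOpposite.op_mul]

end Groth.Agent.S13190
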