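import Groth.Statements.S13191

set_option autoImplicit false
universe u v w x
open GalCoh

namespace Groth.Agent.S13191

theorem result {G : Type u} {A : Type v} {E : Type w} {E' : Type x}
    [Group G] [Group A] [MulDistribMulAction G A]
    [MulAction G E] [MulAction Aᵐᵒᵖ E]
    (hfree : ∀ m₁ m₂ : E, ∃! a : A, m₂ = MulOpposite.op a • m₁)
    (hcompat : ∀ (g : G) (a : A) (m : E), g • (MulOpposite.op a • m) = MulOpposite.op (g • a) • g • m)
    [MulAction G E'] [MulAction Aᵐᵒᵖ E']
    (hfree' : ∀ m₁ m₂ : E', ∃! a : A, m₂ = MulOpposite.op a • m₁)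
    (hcompat' : ∀ (g : G) (a : A) (m : E'), g • (MulOpposite.op a • m) = MulOpposite.op (g • a) • g • m)
    (m : E) (a : G → A) (ha : ∀ g : G, g • m = MulOpposite.op (a g) • m)
    (m' : E') (a' : G → A) (ha' : ∀ g : G, g • m' = MulOpposite.op (a' g) • m') :
    (∃ f : E ≃ E', (∀ (g : G) (e : E), f (g • e) = g • f e) ∧
        ∀ (b : A) (e : E), f (MulOpposite.op b • e) = MulOpposite.op b • f e) ↔
      GpH1.Cohomologous a a' := by
  have cancel : ∀ (e : E) (b b' : A), MulOpposite.op b • e = MulOpposite.op b' • e → b = b' :=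
    fun e b b' h => (hfree e (MulOpposite.op b • e)).unique rfl h
  have cancel' : ∀ (e : E') (b b' : A), MulOpposite.op b • e = MulOpposite.op b' • e → b = b' :=
    fun e b b' h => (hfree' e (MulOpposite.op b • e)).unique rfl h
  constructor
  · rintro ⟨f, hG, hA⟩
    obtain ⟨c, hc, -⟩ := hfree' m' (f m)
    refine ⟨c, fun g => cancel' (f m) _ _ ?_⟩
    rw [← hA, ← ha g, hG, hc, hcompat', ha' g, ← mul_smul, ← MulOpposite.op_mul, ← mul_smul,
      ← MulOpposite.op_mul]
    simp only [mul_assoc, mul_inv_cancel_left]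
  · rintro ⟨c, hc⟩
    have hbij : Function.Bijective fun b : A => MulOpposite.op b • m :=
      ⟨fun b b' h => cancel m b b' h, fun e => (hfree m e).exists.imp fun _ h => h.symm⟩
    have hbij' : Function.Bijective fun b : A => MulOpposite.op b • MulOpposite.op c • m' :=
      ⟨fun b b' h => cancel' _ b b' h,
        fun e => (hfree' (MulOpposite.op c • m') e).exists.imp fun _ h => h.symm⟩
    let f : E ≃ E' := (Equiv.ofBijective _ hbij).symm.trans (Equiv.ofBijective _ hbij')
    have hf : ∀ b : A, f (MulOpposite.op b • m) = MulOpposite.op b • MulOpposite.op c • m' := fun b => by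
      show (Equiv.ofBijective _ hbij') ((Equiv.ofBijective _ hbij).symm ((Equiv.ofBijective _ hbij) b)) = _
      rw [Equiv.symm_apply_apply]
      rfl
    refine ⟨f, fun g e => ?_, fun b e => ?_⟩
    · obtain ⟨b, rfl, -⟩ := hfree m e
      rw [hcompat, ha g, ← mul_smul, ← MulOpposite.op_mul, hf, hf, hcompat', hcompat', ha' g]
      simp only [← mul_smul, ← MulOpposite.op_mul, hc g, mul_assoc, mul_inv_cancel_left]
    · obtain ⟨b', rfl, -⟩ := hfree m e
      rw [← mul_smul, ← MulOpposite.op_mul, hf, hf, ← mul_smul, ← mul_smul, ← mul_smul,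
        MulOpposite.op_mul, mul_assoc]

end Groth.Agent.S13191
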