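import Groth.Statements.S13192

set_option autoImplicit false
universe u v
open GalCoh

namespace Groth.Agent.S13192

theorem result {G : Type u} {A : Type v}
    [Group G] [Group A] [MulDistribMulAction G A] (a : G → A) (ha : GpH1.IsOneCocycle a) :
    ∃ (E : Type v) (_ : MulAction G E) (_ : MulAction Aᵐᵒᵖ E) (m : E),
      (∀ m₁ m₂ : E, ∃! b : A, m₂ = MulOpposite.op b • m₁) ∧
      (∀ (g : G) (b : A) (e : E), g • (MulOpposite.op b • e) = MulOpposite.op (g • b) • g • e) ∧
      ∀ g : G, g • m = MulOpposite.op (a g) • m := by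
  refine ⟨A,
    { smul := fun g x => a g * g • x, one_smul := fun x => ?_, mul_smul := fun g h x => ?_ },
    inferInstanceAs (MulAction Aᵐᵒᵖ A), 1, fun m₁ m₂ => ?_, fun g b e => ?_, fun g => ?_⟩
  · show a (g * h) * (g * h) • x = a g * g • (a h * h • x)
    rw [ha, mul_smul, smul_mul', mul_assoc]
  · show a 1 * (1 : G) • x = x
    have h1 := ha 1 1
    rw [mul_one, one_smul, left_eq_mul] at h1
    rw [h1, one_smul, one_mul]
  · exact ⟨m₁⁻¹ * m₂, (mul_inv_cancel_left _ _).symm,
      fun y hy => by
        have hy' : m₂ = m₁ * y := hy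
        rw [hy', inv_mul_cancel_left]⟩
  · show a g * g • (e * b) = a g * g • e * g • b
    rw [smul_mul', mul_assoc]
  · show a g * g • (1 : A) = 1 * a g
    rw [smul_one, mul_one, one_mul]

end Groth.Agent.S13192
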