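import Groth.Statements.S13193

set_option autoImplicit false
universe u v w
open GalCoh

namespace Groth.Agent.S13193

theorem result {G : Type u} {A : Type v} {A' : Type w}
    [Group G] [Group A] [Group A'] [MulDistribMulAction G A] [MulDistribMulAction G A']
    (a : G → A) (ha : GpH1.IsOneCocycle a) (φ : A' ≃* A)
    (hφ : ∀ (g : G) (x : A'), φ (g • x) = a g * g • φ x * (a g)⁻¹) :
    (∀ b : G → A', GpH1.IsOneCocycle b → GpH1.IsOneCocycle (fun σ => φ (b σ) * a σ)) ∧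
    (∀ b b' : G → A', GpH1.IsOneCocycle b → GpH1.IsOneCocycle b' →
      (GpH1.Cohomologous b b' ↔
        GpH1.Cohomologous (fun σ => φ (b σ) * a σ) (fun σ => φ (b' σ) * a σ))) ∧
    (∀ c : G → A, GpH1.IsOneCocycle c →
      ∃ b : G → A', GpH1.IsOneCocycle b ∧ GpH1.Cohomologous c (fun σ => φ (b σ) * a σ)) := by
  refine ⟨fun b hb σ τ => ?_, fun b b' hb hb' => ⟨?_, ?_⟩, fun c hc => ?_⟩
  · show φ (b (σ * τ)) * a (σ * τ) = φ (b σ) * a σ * σ • (φ (b τ) * a τ)
    rw [hb, map_mul, hφ, ha, smul_mul']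
    group
  · rintro ⟨x, hx⟩
    refine ⟨φ x, fun σ => ?_⟩
    show φ (b σ) * a σ = (φ x)⁻¹ * (φ (b' σ) * a σ) * σ • φ x
    rw [hx σ, map_mul, map_mul, map_inv, hφ]
    group
  · rintro ⟨x, hx⟩
    refine ⟨φ.symm x, fun σ => φ.injective ?_⟩
    have e : φ (b σ) * a σ = x⁻¹ * (φ (b' σ) * a σ) * σ • x := hx σ
    rw [map_mul, map_mul, map_inv, hφ, φ.apply_symm_apply, eq_mul_inv_of_mul_eq e]
    group
  · refine ⟨fun σ => φ.symm (c σ * (a σ)⁻¹), fun σ τ => φ.injective ?_, 1, fun σ => ?_⟩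
    · rw [map_mul, hφ, φ.apply_symm_apply, φ.apply_symm_apply, φ.apply_symm_apply, hc, ha,
        smul_mul', smul_inv', mul_inv_rev]
      group
    · simp only [φ.apply_symm_apply, smul_one]
      group

end Groth.Agent.S13193
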