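import Groth.Statements.S13194
import Groth.Agent.GalH1.LocConst
import Mathlib.FieldTheory.Finite.Basic

set_option autoImplicit false
universe u
open GalCoh

namespace Groth.Agent.S13194

theorem result (p : ℕ) [Fact p.Prime]
    (K L : Type u) [Field K] [Field L] [Algebra K L] [CharP K p] [IsSepClosure K L]
    (χ : (L ≃ₐ[K] L) → ZMod p) (hχ : ∀ σ τ : L ≃ₐ[K] L, χ (σ * τ) = χ σ + χ τ)
    (hlc : IsLocallyConstant χ) :
    ∃ x : L, x ^ p - x ∈ Set.range (algebraMap K L) ∧
      ∀ σ : L ≃ₐ[K] L, σ x - x = ((χ σ).val : L) := by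
  have : CharP L p := charP_of_injective_algebraMap' K p
  let j := ZMod.castHom (dvd_refl p) L
  obtain ⟨y, hy⟩ := GalH1.exists_add_coboundary (fun σ : L ≃ₐ[K] L => j (χ σ))
    (fun σ τ => by
      show j (χ (σ * τ)) = j (χ σ) + σ (j (χ τ))
      rw [hχ, map_add]
      congr 1
      show _ = (σ : L →+* L) (j (χ τ))
      rw [← RingHom.comp_apply, Subsingleton.elim ((σ : L →+* L).comp j) j])
    (hlc.comp j)
  have hj : ∀ a : ZMod p, j a = ((a.val : ℕ) : L) := fun a => by
    conv_lhs => rw [← ZMod.natCast_zmod_val a]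
    rw [map_natCast]
  refine ⟨y, (InfiniteGalois.mem_range_algebraMap_iff_fixed _).2 fun σ => ?_, fun σ => (hy σ).symm.trans (hj _)⟩
  have hsy : σ y = y + j (χ σ) := by rw [hy σ]; ring
  rw [map_sub, map_pow, hsy, add_pow_char, ← map_pow, ZMod.pow_card]
  ring

end Groth.Agent.S13194
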