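import Groth.Statements.S13200
import Groth.Agent.Hensel20.GeomNormal
import Groth.Agent.S4754
import Groth.Agent.EGA4H10.OpenFormal
import Groth.Agent.EGA4H10.CplQuot
import Groth.Agent.Ega11.FormalDescent
import Groth.Agent.CAlg1.GRingBasic
import Groth.Agent.Henz21.FiniteLocal
-- import your own Groth.Agent.* helpers here

set_option autoImplicit false
universe u
open Hensel

namespace Groth.Agent.S13200

/-- Let R be an excellent local ring which is strictly henselian (henselian with separably closed
residue field), and let R^ denote its completion at the maximal ideal. An element Δ of R is a prime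
element of R exactly when its image in R^ is a prime element of R^. -/
theorem result
    (R : Type u) [CommRing R] [HenselianLocalRing R] [IsSepClosed (IsLocalRing.ResidueField R)]
    (hR : EGA4.IsExcellent R) (Δ : R) :
    Prime Δ ↔ Prime (algebraMap R (AdicCompletion (IsLocalRing.maximalIdeal R) R) Δ) := by
  have : IsNoetherianRing R := hR.1
  let Rh := AdicCompletion (IsLocalRing.maximalIdeal R) R
  have : Module.FaithfullyFlat R Rh := EGA4H10.faithfullyFlat_cpl R
  have hinj : Function.Injective (algebraMap R Rh) := FaithfulSMul.algebraMap_injective R Rh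
  have hmap : (Ideal.span {Δ}).map (algebraMap R Rh) = Ideal.span {algebraMap R Rh Δ} := by
    rw [Ideal.map_span, Set.image_singleton]
  constructor
  · intro h
    have hp : (Ideal.span {Δ}).IsPrime := (Ideal.span_singleton_prime h.ne_zero).2 h
    have hne : algebraMap R Rh Δ ≠ 0 := fun h0 => h.ne_zero (hinj (h0.trans (map_zero _).symm))
    rw [← Ideal.span_singleton_prime hne, ← hmap]
    let P := Ideal.span {Δ}
    have : Nontrivial (R ⧸ P) := Ideal.Quotient.nontrivial_iff.2 hp.ne_top
    have : IsLocalRing (R ⧸ P) := IsLocalRing.of_surjective' (Ideal.Quotient.mk P) Ideal.Quotient.mk_surjective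
    have : Algebra.IsIntegral R (R ⧸ P) :=
      ⟨fun z => by obtain ⟨a, rfl⟩ := Ideal.Quotient.mk_surjective z; exact isIntegral_algebraMap⟩
    have : HenselianLocalRing (R ⧸ P) := Henz21.henselianLocalRing_of_isIntegral (A := R)
    have : IsDomain (R ⧸ P) := Ideal.Quotient.isDomain P
    have hN : EGA4.HasGeomNormalFormalFibres R := fun p _ =>
      (Ega11.FormalDescent.isNormalHom_of_isRegularHom _ _ (CAlg1.GR.regular_of_isGRing_local hR.2.2.1)).2 p
    have : IsDomain (AdicCompletion (IsLocalRing.maximalIdeal (R ⧸ P)) (R ⧸ P)) :=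
      Hensel20.isDomain_cpl (R ⧸ P) (S4754.result R hN P)
    have e := EGA4H10.cplQuotEquiv R (R ⧸ P) Ideal.Quotient.mk_surjective
    have hker : RingHom.ker (algebraMap R (R ⧸ P)) = P := Ideal.mk_ker
    rw [hker] at e
    rw [← Ideal.Quotient.isDomain_iff_prime]
    exact e.toMulEquiv.isDomain _
  · intro h
    have hne : Δ ≠ 0 := fun h0 => h.ne_zero (by rw [h0, map_zero])
    rw [← Ideal.span_singleton_prime hne, ← Ideal.comap_map_eq_self_of_faithfullyFlat (B := Rh) (Ideal.span {Δ}),
      hmap]
    have := (Ideal.span_singleton_prime h.ne_zero).2 h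
    exact Ideal.IsPrime.comap _

end Groth.Agent.S13200
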