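import Groth.Statements.S13202
import Groth.Agent.Henz21.StrictQuotient
import Groth.Agent.Henz21.BaseChangeHenz
import Groth.Agent.Henz21.SmoothUnibranch
import Groth.Agent.Henz21.IntegralSh
import Groth.Agent.Henz21.FaithfullyFlat
import Groth.Agent.Hensel20.HenzBranch
import Groth.Agent.Brnch26.CplHensel
-- import your own Groth.Agent.* helpers here

set_option autoImplicit false
universe u
open Hensel

namespace Groth.Agent.S13202

open TensorProduct

set_option maxHeartbeats 1600000 in
/-- Let R be a Noetherian regular ring (every localization at a prime ideal is a regular local ring) and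
Δ ∈ R. The element Δ is étale-universally prime — meaning that for every prime ideal p of R
containing Δ and every strict henselization T of R_p, the image of Δ in T is a prime element —
exactly when for every smooth R-algebra R', every prime ideal q of R' and every strict henselization
T of R'_q, the image of Δ in T is either invertible or a prime element. (Smooth R-algebras and their
strict henselizations are taken in the universe of R.) -/
theorem result
    (R : Type u) [CommRing R] [IsNoetherianRing R]
    (hreg : ∀ (p : Ideal R) [p.IsPrime], IsRegularLocalRing (Localization.AtPrime p)) (Δ : R) :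
    (∀ (p : Ideal R) [p.IsPrime], Δ ∈ p →
        ∀ (T : Type u) [CommRing T] [IsLocalRing T] [Algebra (Localization.AtPrime p) T]
          [IsLocalHom (algebraMap (Localization.AtPrime p) T)]
          [Hensel.IsStrictHenselization (Localization.AtPrime p) T],
          Prime (algebraMap (Localization.AtPrime p) T (algebraMap R (Localization.AtPrime p) Δ))) ↔
    (∀ (R' : Type u) [CommRing R'] [Algebra R R'] [Algebra.Smooth R R'] (q : Ideal R') [q.IsPrime]
        (T : Type u) [CommRing T] [IsLocalRing T] [Algebra (Localization.AtPrime q) T]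
          [IsLocalHom (algebraMap (Localization.AtPrime q) T)]
          [Hensel.IsStrictHenselization (Localization.AtPrime q) T],
        IsUnit (algebraMap (Localization.AtPrime q) T (algebraMap R' (Localization.AtPrime q) (algebraMap R R' Δ))) ∨
          Prime (algebraMap (Localization.AtPrime q) T (algebraMap R' (Localization.AtPrime q) (algebraMap R R' Δ)))) := by
  classical
  constructor
  · intro h R' _ _ _ q _ T _ _ _ _ hT
    by_cases hΔ : algebraMap R R' Δ ∈ q
    swap
    · exact Or.inl ((IsLocalization.map_units _ (⟨_, hΔ⟩ : q.primeCompl)).map _)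
    right
    let p := q.comap (algebraMap R R')
    have : q.LiesOver p := ⟨rfl⟩
    let Rp := Localization.AtPrime p
    let Sq := Localization.AtPrime q
    let Tp := Henz21.StrictHenselization Rp
    have hx : Prime (algebraMap Rp Tp (algebraMap R Rp Δ)) := h p hΔ Tp
    let _ : Algebra R Tp := ((algebraMap Rp Tp).comp (algebraMap R Rp)).toAlgebra
    have : IsScalarTower R Rp Tp := IsScalarTower.of_algebraMap_eq' rfl
    let i : Rp →+* Sq := Localization.localRingHom p q (algebraMap R R') rfl
    have : IsLocalHom i := Localization.isLocalHom_localRingHom p q (algebraMap R R') rfl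
    let _ : Algebra R' T := ((algebraMap Sq T).comp (algebraMap R' Sq)).toAlgebra
    have : IsScalarTower R' Sq T := IsScalarTower.of_algebraMap_eq' rfl
    let _ : Algebra R T := ((algebraMap R' T).comp (algebraMap R R')).toAlgebra
    have : IsScalarTower R R' T := IsScalarTower.of_algebraMap_eq' rfl
    have : HenselianLocalRing T := hT.henselian
    have : IsSepClosed (IsLocalRing.ResidueField T) := hT.isSepClosure.sep_closed
    obtain ⟨g, hg, hgl⟩ := Henz21.exists_map_of_strictHenselization (Ash := Tp) ((algebraMap Sq T).comp i)
    let _ : Algebra Tp T := g.toAlgebra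
    have : IsScalarTower R Tp T := IsScalarTower.of_algebraMap_eq fun r => by
      show algebraMap R' T (algebraMap R R' r) = g (algebraMap Rp Tp (algebraMap R Rp r))
      rw [← RingHom.comp_apply g, hg, RingHom.comp_apply,
        Localization.localRingHom_to_map p q (algebraMap R R') rfl r]
      rfl
    let C := Tp ⊗[R] R'
    let φ : C →ₐ[R] T :=
      Algebra.TensorProduct.productMap (IsScalarTower.toAlgHom R Tp T) (IsScalarTower.toAlgHom R R' T)
    let Q := (IsLocalRing.maximalIdeal T).comap φ.toRingHom
    have : Q.IsPrime := Ideal.IsPrime.comap _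
    let L := Localization.AtPrime Q
    let E := Henz21.StrictHenselization L
    obtain ⟨e, he⟩ := Henz21.exists_strictHenselization_baseChange_equiv R R' p q Tp T φ
      (fun x s => rfl) Q (fun d => Iff.rfl) E
    let δ : C := algebraMap R C Δ
    have hne : algebraMap R T Δ ≠ 0 := by
      let _ : Algebra Rp Sq := i.toAlgebra
      have : IsScalarTower R Rp Sq := IsScalarTower.of_algebraMap_eq fun r =>
        ((Localization.localRingHom_to_map p q (algebraMap R R') rfl r).trans
          (IsScalarTower.algebraMap_apply R R' Sq r).symm).symm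
      have : IsLocalHom (algebraMap Rp Sq) := ‹IsLocalHom i›
      have : Module.Flat R Sq := Module.Flat.trans R R' Sq
      have : Module.Flat Rp Sq :=
        (Module.flat_iff_of_isLocalization Rp p.primeCompl Sq).2 inferInstance
      have : Module.FaithfullyFlat Rp Sq := Module.FaithfullyFlat.of_flat_of_isLocalHom
      have : Module.FaithfullyFlat Sq T := Henz21.strictHenselization_faithfullyFlat T
      intro h0
      have h1 : algebraMap Sq T (i (algebraMap R Rp Δ)) = 0 := by
        rw [Localization.localRingHom_to_map p q (algebraMap R R') rfl]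
        exact h0
      have h2 : algebraMap Rp Sq (algebraMap R Rp Δ) = 0 :=
        FaithfulSMul.algebraMap_injective Sq T (h1.trans (map_zero _).symm)
      have h3 : algebraMap R Rp Δ = 0 :=
        FaithfulSMul.algebraMap_injective Rp Sq (h2.trans (map_zero _).symm)
      exact hx.ne_zero (by rw [h3, map_zero])
    show Prime (algebraMap R T Δ)
    rw [← φ.commutes Δ, ← he δ]
    refine (MulEquiv.prime_iff e.toMulEquiv).2 ?_
    have hne' : algebraMap L E (algebraMap C L δ) ≠ 0 := fun h0 => hne (by
      rw [← φ.commutes Δ, ← he δ, h0, map_zero])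
    rw [← Ideal.span_singleton_prime hne', ← Ideal.Quotient.isDomain_iff_prime]
    let I : Ideal L := Ideal.span {algebraMap C L δ}
    have hI : I.map (algebraMap L E) = Ideal.span {algebraMap L E (algebraMap C L δ)} := by
      rw [Ideal.map_span, Set.image_singleton]
    rw [← hI]
    have hδQ : δ ∈ Q := by
      show φ δ ∈ IsLocalRing.maximalIdeal T
      rw [φ.commutes]
      show algebraMap Sq T (algebraMap R' Sq (algebraMap R R' Δ)) ∈ _
      exact map_nonunit _ _ ((IsLocalization.AtPrime.to_map_mem_maximal_iff Sq q _).2 hΔ)
    have hItop : I ≠ ⊤ := fun htop => by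
      have h1 : I ≤ IsLocalRing.maximalIdeal L := (Ideal.span_singleton_le_iff_mem _).2
        ((IsLocalization.AtPrime.to_map_mem_maximal_iff L Q _).2 hδQ)
      exact (IsLocalRing.maximalIdeal.isMaximal L).ne_top (top_le_iff.1 (htop ▸ h1))
    obtain ⟨_, _, _, hsh⟩ := Henz21.isStrictHenselization_quotient L E I hItop
    rw [← Hensel20.isDomain_strictHenselization_iff (R := L ⧸ I)]
    -- the smooth algebra over the quotient
    let P : Ideal Tp := Ideal.span {algebraMap R Tp Δ}
    have hP : P.IsPrime := (Ideal.span_singleton_prime hx.ne_zero).2 hx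
    let D := Tp ⧸ P
    have : IsDomain D := Ideal.Quotient.isDomain P
    have : HenselianLocalRing D :=
      Henz21.henselianLocalRing_of_surjective (Ideal.Quotient.mk P) Ideal.Quotient.mk_surjective
    have : IsSepClosed (IsLocalRing.ResidueField D) := by
      have : IsSepClosed (IsLocalRing.ResidueField Tp) :=
        (inferInstance : Hensel.IsStrictHenselization Rp Tp).isSepClosure.sep_closed
      have hl : IsLocalHom (algebraMap Tp D) := IsLocalHom.of_surjective _ Ideal.Quotient.mk_surjective
      have : Algebra.IsIntegral Tp D :=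
        ⟨fun z => by obtain ⟨a, rfl⟩ := Ideal.Quotient.mk_surjective z; exact isIntegral_algebraMap⟩
      exact Henz21.isSepClosed_residueField_of_isIntegral (P := Tp)
    let R'' := D ⊗[R] R'
    let π : C →ₐ[R] R'' := Algebra.TensorProduct.map (Ideal.Quotient.mkₐ R P) (AlgHom.id R R')
    have hπs : Function.Surjective π :=
      TensorProduct.map_surjective Ideal.Quotient.mk_surjective fun z => ⟨z, rfl⟩
    have hπk : RingHom.ker π = Ideal.span {δ} := by
      have hk : RingHom.ker (Ideal.Quotient.mkₐ R P) = P := Ideal.Quotient.mkₐ_ker R P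
      rw [Algebra.TensorProduct.rTensor_ker _ Ideal.Quotient.mk_surjective, hk, Ideal.map_span,
        Set.image_singleton]
      rfl
    have hQπ : RingHom.ker π ≤ Q := hπk.le.trans ((Ideal.span_singleton_le_iff_mem _).2 hδQ)
    let Q'' : Ideal R'' := Q.map π.toRingHom
    have : Q''.IsPrime := Ideal.map_isPrime_of_surjective hπs hQπ
    have hQ'' : Q = Q''.comap π.toRingHom := by
      show Q = (Q.map π.toRingHom).comap π.toRingHom
      rw [Ideal.comap_map_of_surjective π.toRingHom hπs, sup_eq_left.2]
      exact hQπ
    let ℓ := Localization.localRingHom Q Q'' π.toRingHom hQ''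
    have hℓs : Function.Surjective ℓ := by
      intro z
      obtain ⟨r, s, rfl⟩ := IsLocalization.exists_mk'_eq Q''.primeCompl z
      obtain ⟨r', rfl⟩ := hπs r
      obtain ⟨s', hs'⟩ := hπs s
      have hs'Q : s' ∈ Q.primeCompl := fun hmem => s.2 (hs' ▸ Ideal.mem_map_of_mem π.toRingHom hmem)
      refine ⟨IsLocalization.mk' L r' (⟨s', hs'Q⟩ : Q.primeCompl), ?_⟩
      rw [Localization.localRingHom_mk']
      congr 1
      exact Subtype.ext hs'
    have hℓk : RingHom.ker ℓ = I := by
      refine le_antisymm (fun z hz => ?_) ((Ideal.span_singleton_le_iff_mem _).2 ?_)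
      · obtain ⟨c, s, rfl⟩ := IsLocalization.exists_mk'_eq Q.primeCompl z
        rw [RingHom.mem_ker, Localization.localRingHom_mk', IsLocalization.mk'_eq_zero_iff] at hz
        obtain ⟨⟨t, ht⟩, htc⟩ := hz
        obtain ⟨t', rfl⟩ := hπs t
        have ht' : t' ∈ Q.primeCompl := fun hmem => ht (Ideal.mem_map_of_mem π.toRingHom hmem)
        have h2 : t' * c ∈ Ideal.span {δ} := by
          rw [← hπk, RingHom.mem_ker, map_mul]
          exact htc
        have h3 : algebraMap C L (t' * c) ∈ I := by
          have := Ideal.mem_map_of_mem (algebraMap C L) h2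
          rwa [Ideal.map_span, Set.image_singleton] at this
        rw [map_mul] at h3
        rw [IsLocalization.mk'_eq_mul_mk'_one]
        exact Ideal.mul_mem_right _ _
          ((Ideal.unit_mul_mem_iff_mem I (IsLocalization.map_units L (⟨t', ht'⟩ : Q.primeCompl))).1 h3)
      · rw [RingHom.mem_ker, Localization.localRingHom_to_map]
        have : δ ∈ RingHom.ker π := hπk ▸ Ideal.mem_span_singleton_self δ
        rw [RingHom.mem_ker] at this
        exact (congrArg _ this).trans (map_zero _)
    let eL : L ⧸ I ≃+* Localization.AtPrime Q'' :=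
      (Ideal.quotEquivOfEq hℓk.symm).trans (RingHom.quotientKerEquivOfSurjective hℓs)
    obtain ⟨hdom, hgu⟩ := Henz21.SmoothUnib.main D R'' Q'' (fun z hz => by
      refine (Ideal.map_le_iff_le_comap.2 fun d hd => ?_) hz
      obtain ⟨t, rfl⟩ := Ideal.Quotient.mk_surjective d
      have ht : t ∈ IsLocalRing.maximalIdeal Tp := fun hu => hd (hu.map _)
      have h1 : t ⊗ₜ[R] (1 : R') ∈ Q := by
        show φ (t ⊗ₜ 1) ∈ IsLocalRing.maximalIdeal T
        rw [Algebra.TensorProduct.productMap_apply_tmul, map_one, mul_one]
        exact map_nonunit g t ht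
      exact Ideal.mem_map_of_mem π.toRingHom h1)
    refine ⟨isReduced_of_injective eL eL.injective, ?_⟩
    rw [← Brnch26.isGeomUnibranch_iff, Brnch26.numGeomBranches_congr (A := L ⧸ I) (B := Localization.AtPrime Q'') eL]
    exact (Brnch26.isGeomUnibranch_iff _).2 hgu
  · intro h p _ hΔ T _ _ _ _ hT
    rcases h R p T with h1 | h1
    · refine absurd h1 ?_
      rw [Algebra.algebraMap_self, RingHom.id_apply]
      exact map_nonunit _ _ ((IsLocalization.AtPrime.to_map_mem_maximal_iff _ p _).2 hΔ)
    · rwa [Algebra.algebraMap_self, RingHom.id_apply] at h1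

end Groth.Agent.S13202
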