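import Groth.Statements.S13206
import Groth.Agent.AlgGrp79.Act

set_option autoImplicit false
universe u
open CategoryTheory AlgebraicGeometry
open AlgGrp

namespace Groth.Agent.S13206
open CategoryTheory.Limits

/-- Let X → S be a separated morphism of schemes and let a finite group G act on X through
S-automorphisms. Then the functor of G-fixed points is represented by a closed subscheme of X: there
are a scheme Z and a closed immersion i : Z → X with i ∘ g = i for all g ∈ G such that every
morphism x : T → X with g ∘ x = x for all g ∈ G factors uniquely through i. (The published statement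
is for an algebraic space X over S, also treats the locally separated case and notes compatibility
with base change; this row is the separated case for schemes.) -/
theorem result
    {X S : Scheme.{u}} (p : X ⟶ S) [IsSeparated p]
    (G : Type u) [Group G] [Finite G] (ρ : G →* Aut X) (hρ : ∀ g : G, (ρ g).hom ≫ p = p) :
    ∃ (Z : Scheme.{u}) (i : Z ⟶ X), IsClosedImmersion i ∧ (∀ g : G, i ≫ (ρ g).hom = i) ∧
      ∀ (T : Scheme.{u}) (x : T ⟶ X), (∀ g : G, x ≫ (ρ g).hom = x) → ∃! z : T ⟶ Z, z ≫ i = x := by
  classical
  suffices H : ∀ s : Finset G, ∃ (Z : Scheme.{u}) (i : Z ⟶ X), IsClosedImmersion i ∧ (∀ g ∈ s, i ≫ (ρ g).hom = i) ∧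
      ∀ (T : Scheme.{u}) (x : T ⟶ X), (∀ g ∈ s, x ≫ (ρ g).hom = x) → ∃ z : T ⟶ Z, z ≫ i = x by
    have := Fintype.ofFinite G
    obtain ⟨Z, i, hi, hfix, huniv⟩ := H Finset.univ
    refine ⟨Z, i, hi, fun g => hfix g (Finset.mem_univ g), fun T x hx => ?_⟩
    obtain ⟨z, hz⟩ := huniv T x (fun g _ => hx g)
    exact ⟨z, hz, fun y hy => (cancel_mono i).1 (hy.trans hz.symm)⟩
  intro s
  induction s using Finset.induction with
  | empty => exact ⟨X, 𝟙 X, inferInstance, by simp, fun T x _ => ⟨x, Category.comp_id _⟩⟩
  | insert g s hg ih =>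
    obtain ⟨Z, i, hi, hfix, huniv⟩ := ih
    let X' : Over S := Over.mk p
    have : IsSeparated X'.hom := ‹_›
    let f : Over.mk (i ≫ p) ⟶ X' := Over.homMk (i ≫ (ρ g).hom) (by simp [X', hρ])
    let f0 : Over.mk (i ≫ p) ⟶ X' := Over.homMk i (by simp [X'])
    refine ⟨(equalizer f f0).left, (equalizer.ι f f0).left ≫ i, ?_, ?_, ?_⟩
    · have := isClosedImmersion_equalizer_ι_left f f0
      infer_instance
    · intro h hh
      rcases Finset.mem_insert.1 hh with rfl | hh
      · exact congr($(equalizer.condition f f0).left)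
      · rw [Category.assoc]
        exact congrArg _ (hfix h hh)
    · intro T x hx
      obtain ⟨z, hz⟩ := huniv T x (fun h hh => hx h (Finset.mem_insert_of_mem hh))
      let z' : Over.mk (z ≫ i ≫ p) ⟶ Over.mk (i ≫ p) := Over.homMk z
      have hz' : z' ≫ f = z' ≫ f0 := by
        ext
        show z ≫ i ≫ (ρ g).hom = z ≫ i
        rw [← Category.assoc, hz]
        exact hx g (Finset.mem_insert_self g s)
      refine ⟨(equalizer.lift z' hz').left, ?_⟩
      rw [← Category.assoc]
      exact (congrArg (· ≫ i) congr($(equalizer.lift_ι z' hz').left)).trans hz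
end Groth.Agent.S13206
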