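import Groth.Statements.S13208
import Groth.Agent.Hens22.NodeSection
import Groth.Agent.Cohen12.Completion
import Groth.Agent.CAlg1.NagataUnram
import Groth.Agent.SGA3a.FiniteComplete
import Groth.Agent.S0548
import Groth.Agent.CAlg1.Regular
-- import your own Groth.Agent.* helpers here

set_option autoImplicit false
set_option linter.style.haveILetI false
universe u
open IsLocalRing
open Hensel

namespace Groth.Agent.S13208

open MvPowerSeries in
/-- Let R be a strictly henselian excellent regular local ring with completion R^, let Δ ≠ 0 and t₁, t₂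
be elements of the maximal ideal with t₁ t₂ = Δ, and let C be a local R-algebra, essentially of
finite type over R with local structure map, given with a ring isomorphism ψ from the completion C^
of C onto R^[[u,v]]/(uv − Δ) compatible with the structure maps from R. Then there are an R-algebra
homomorphism g : C → R and a ring homomorphism ĝ : C^ → R^ inducing g (ĝ restricted to C is g
followed by R → R^) such that ĝ(ψ⁻¹(u)) generates the ideal t₁R^ and ĝ(ψ⁻¹(v)) generates t₂R^. (This
is the statement, for an excellent regular base S, a geometric point s̄, an S-scheme X of finite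
presentation and a closed point x of the geometric fibre whose completed étale local ring is
presented as R^[[u,v]]/(uv − Δ) over R = the étale local ring of S at s̄, that some étale
neighbourhood of s̄ carries a section of X through x sending u, v to generators of (t₁), (t₂):
written for the local ring C of X ×_S Spec R at x, an R-retraction of which is such a section by
finite presentation. The published statement allows Δ = 0; this row assumes Δ ≠ 0.) -/
theorem result
    (R : Type u) [CommRing R] [IsRegularLocalRing R] [HenselianLocalRing R]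
    [IsSepClosed (ResidueField R)] (hR : EGA4.IsExcellent R)
    (Δ t₁ t₂ : R) (hΔ : Δ ≠ 0) (ht₁ : t₁ ∈ maximalIdeal R) (ht₂ : t₂ ∈ maximalIdeal R) (ht : t₁ * t₂ = Δ)
    (C : Type u) [CommRing C] [IsLocalRing C] [Algebra R C] [IsLocalHom (algebraMap R C)]
    [Algebra.EssFiniteType R C]
    (ψ : AdicCompletion (maximalIdeal C) C ≃+*
      (MvPowerSeries (Fin 2) (AdicCompletion (maximalIdeal R) R) ⧸
        Ideal.span {(X 0 * X 1 - MvPowerSeries.C (algebraMap R (AdicCompletion (maximalIdeal R) R) Δ) :
          MvPowerSeries (Fin 2) (AdicCompletion (maximalIdeal R) R))}))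
    (hψ : ψ.toRingHom.comp ((algebraMap C (AdicCompletion (maximalIdeal C) C)).comp (algebraMap R C)) =
      (Ideal.Quotient.mk _).comp ((MvPowerSeries.C : AdicCompletion (maximalIdeal R) R →+*
        MvPowerSeries (Fin 2) (AdicCompletion (maximalIdeal R) R)).comp
          (algebraMap R (AdicCompletion (maximalIdeal R) R)))) :
    ∃ (g : C →ₐ[R] R) (ĝ : AdicCompletion (maximalIdeal C) C →+* AdicCompletion (maximalIdeal R) R),
      ĝ.comp (algebraMap C (AdicCompletion (maximalIdeal C) C)) =
        (algebraMap R (AdicCompletion (maximalIdeal R) R)).comp g.toRingHom ∧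
      Ideal.span {ĝ (ψ.symm (Ideal.Quotient.mk _ (X 0)))} =
        Ideal.span {algebraMap R (AdicCompletion (maximalIdeal R) R) t₁} ∧
      Ideal.span {ĝ (ψ.symm (Ideal.Quotient.mk _ (X 1)))} =
        Ideal.span {algebraMap R (AdicCompletion (maximalIdeal R) R) t₂} := by
  haveI : IsRegularLocalRing (AdicCompletion (maximalIdeal R) R) :=
    (S0548.result R).1 inferInstance
  haveI : IsDomain (AdicCompletion (maximalIdeal R) R) := CAlg1.isDomain_regular _
  haveI : HenselianRing R (maximalIdeal R) := inferInstance
  let K := AdicCompletion (maximalIdeal R) R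
  haveI : IsNoetherianRing K := Cohen12.isNoetherianRing_completion R
  haveI : IsAdicComplete (maximalIdeal K) K := Cohen12.isAdicComplete_completion R
  haveI : IsNoetherianRing C := Algebra.EssFiniteType.isNoetherianRing R C
  let Ĉ := AdicCompletion (maximalIdeal C) C
  haveI : IsNoetherianRing Ĉ := Cohen12.isNoetherianRing_completion C
  haveI : IsAdicComplete (maximalIdeal Ĉ) Ĉ := Cohen12.isAdicComplete_completion C
  let d := algebraMap R K Δ
  let ψ' : Ĉ ≃+* Hens22.Node.P d := ψ
  haveI : IsLocalRing (Hens22.Node.P d) := ψ'.isLocalRing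
  haveI : IsNoetherianRing (Hens22.Node.P d) := isNoetherianRing_of_ringEquiv Ĉ ψ'
  letI : Algebra Ĉ (Hens22.Node.P d) := ψ'.toRingHom.toAlgebra
  haveI : Module.Finite Ĉ (Hens22.Node.P d) :=
    Module.Finite.of_surjective (Algebra.linearMap Ĉ (Hens22.Node.P d)) ψ'.surjective
  have hψm : (maximalIdeal Ĉ).map ψ'.toRingHom = maximalIdeal (Hens22.Node.P d) :=
    IsLocalRing.eq_maximalIdeal (Ideal.map_isMaximal_of_equiv ψ')
  haveI : IsAdicComplete (maximalIdeal (Hens22.Node.P d)) (Hens22.Node.P d) := by
    have h := SGA3a.isAdicComplete_map_of_finite (A := Ĉ) (Hens22.Node.P d)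
    rwa [show (maximalIdeal Ĉ).map (algebraMap Ĉ (Hens22.Node.P d)) = maximalIdeal (Hens22.Node.P d) from hψm] at h
  letI : Algebra C (Hens22.Node.P d) := (ψ'.toRingHom.comp (algebraMap C Ĉ)).toAlgebra
  haveI : Module.FaithfullyFlat C (Hens22.Node.P d) := by
    haveI := CAlg1.Nag.faithfullyFlat_completion C
    let e : Ĉ ≃ₐ[C] Hens22.Node.P d := AlgEquiv.ofRingEquiv (f := ψ') fun _ => rfl
    exact Module.FaithfullyFlat.of_linearEquiv _ _ e.symm.toLinearEquiv
  obtain ⟨g, χ, w, hg, hu, hv⟩ := Hens22.Node.exists_node_section (R := R) (K := K)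
    (fun a b h => by
      rw [← sub_eq_zero]
      refine IsHausdorff.haus (I := maximalIdeal R) inferInstance _ fun n => ?_
      rw [SModEq.zero, smul_eq_mul, Ideal.mul_top, ← Cohen12.algebraMap_mem_pow_iff, map_sub, h, sub_self]
      exact Ideal.zero_mem _)
    AdicCompletion.maximalIdeal_eq_map.symm
    (fun a => by
      obtain ⟨r, hr⟩ := Cohen12.exists_sub_mem_pow R 1 a
      exact ⟨r, by rw [pow_one] at hr; exact hr⟩)
    Δ t₁ t₂ hΔ ht₁ ht₂ ht (C := C) (fun r => RingHom.congr_fun hψ r)
    (by
      show (maximalIdeal C).map (ψ'.toRingHom.comp (algebraMap C Ĉ)) = _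
      rw [← Ideal.map_map, ← AdicCompletion.maximalIdeal_eq_map, hψm])
    (fun x n => by
      obtain ⟨c, hc⟩ := Cohen12.exists_sub_mem_pow C n (ψ'.symm x)
      refine ⟨c, ?_⟩
      have h1 := Ideal.mem_map_of_mem ψ'.toRingHom hc
      rw [Ideal.map_pow, hψm, map_sub] at h1
      have h2 : ψ'.toRingHom (ψ'.symm x) = x := ψ'.apply_symm_apply x
      rw [h2, ← neg_mem_iff, neg_sub] at h1
      exact h1)
  refine ⟨g, χ.comp ψ'.toRingHom, RingHom.ext fun x => hg x, ?_, ?_⟩
  · have h1 : (χ.comp ψ'.toRingHom) (ψ'.symm (Hens22.Node.uN d)) = algebraMap R K t₁ * w := by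
      rw [RingHom.comp_apply]
      exact (congrArg χ (ψ'.apply_symm_apply _)).trans hu
    exact (congrArg (fun t : K => Ideal.span {t}) h1).trans (Ideal.span_singleton_mul_right_unit w.isUnit _)
  · have h1 : (χ.comp ψ'.toRingHom) (ψ'.symm (Hens22.Node.vN d)) = algebraMap R K t₂ * (w⁻¹ : Kˣ) := by
      rw [RingHom.comp_apply]
      exact (congrArg χ (ψ'.apply_symm_apply _)).trans hv
    exact (congrArg (fun t : K => Ideal.span {t}) h1).trans (Ideal.span_singleton_mul_right_unit (w⁻¹).isUnit _)

end Groth.Agent.S13208
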