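import Groth.Statements.S1328
import Mathlib
import Groth.Agent.NearGen2.Fibre

set_option autoImplicit false
set_option linter.style.haveILetI false
set_option linter.style.longLine false
universe u
open FlatMor

namespace Groth.Agent.S1328

open AlgebraicGeometry Groth.Agent.NearGen2

open AlgebraicGeometry CategoryTheory Limits in
/-- Let f be of finite type with irreducible target. If the generic fibre has exactly n irreducible
components, then over some nonempty open of the target every fibre has at least n irreducible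
components. -/
theorem result {X Y : Scheme.{u}} (f : X ⟶ Y) [IrreducibleSpace ↑Y] [LocallyOfFiniteType f] [QuasiCompact f] (n : ℕ)
    (h : (irreducibleComponents ↑(f.fiber (genericPoint ↑Y))).encard = n) :
    ∃ V : Y.Opens, (V : Set ↑Y).Nonempty ∧ ∀ y ∈ V, (n : ℕ∞) ≤ (irreducibleComponents ↑(f.fiber y)).encard := by
  classical
  set η := genericPoint ↑Y
  have hfin : (irreducibleComponents ↑(f.fiber η)).Finite :=
    Set.finite_of_encard_eq_coe h
  have : Finite ↥(irreducibleComponents ↑(f.fiber η)) := hfin.to_subtype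
  have hopen : ∀ C : ↥(irreducibleComponents ↑(f.fiber η)),
      IsOpen (⋃ D ∈ irreducibleComponents ↑(f.fiber η) \ {C.1}, D)ᶜ := fun C =>
    ((hfin.sdiff).isClosed_biUnion fun D hD => isClosed_of_mem_irreducibleComponents D hD.1).isOpen_compl
  choose W hW hWtr using fun C => exists_open_trace f η (hopen C)
  have hne : ∀ C, Near fun y => (f.fiberι y ⁻¹' W C).Nonempty := by
    intro C
    refine near_nonempty f (hW C) ?_
    rw [hWtr C]
    by_contra hE
    rw [Set.not_nonempty_iff_eq_empty, Set.compl_empty_iff] at hE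
    obtain ⟨ξ, hξ⟩ := QuasiSober.sober C.2.1 (isClosed_of_mem_irreducibleComponents _ C.2)
    obtain ⟨D, hD, hξD⟩ := Set.mem_iUnion₂.mp (hE.ge (Set.mem_univ ξ))
    have hCD : C.1 ⊆ D := by
      rw [← hξ.def]
      exact (isClosed_of_mem_irreducibleComponents D hD.1).closure_subset_iff.mpr (by simpa using hξD)
    exact hD.2 (le_antisymm (C.2.2 hD.1.1 hCD) hCD : D = C.1)
  have hdis : ∀ p : {p : ↥(irreducibleComponents ↑(f.fiber η)) × ↥(irreducibleComponents ↑(f.fiber η)) // p.1 ≠ p.2},
      Near fun y => Disjoint (f.fiberι y ⁻¹' W p.1.1) (f.fiberι y ⁻¹' W p.1.2) := by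
    rintro ⟨⟨C, D⟩, hCD⟩
    refine near_disjoint f (hW C) (hW D) ?_
    rw [hWtr C, hWtr D, Set.disjoint_left]
    intro z hzC hzD
    have hmem : irreducibleComponent z ∈ irreducibleComponents ↑(f.fiber η) :=
      irreducibleComponent_mem_irreducibleComponents z
    have h1 : irreducibleComponent z = C.1 := by
      by_contra hn
      exact hzC (Set.mem_iUnion₂.mpr ⟨_, ⟨hmem, hn⟩, mem_irreducibleComponent⟩)
    have h2 : irreducibleComponent z = D.1 := by
      by_contra hn
      exact hzD (Set.mem_iUnion₂.mpr ⟨_, ⟨hmem, hn⟩, mem_irreducibleComponent⟩)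
    exact hCD (Subtype.ext (h1.symm.trans h2))
  obtain ⟨V, hV, hy⟩ := (Near.all hne).and (Near.all hdis)
  refine ⟨V, hV, fun y hyV => ?_⟩
  choose z hz using (hy y hyV).1
  have hinj : Function.Injective fun C =>
      (⟨irreducibleComponent (z C), irreducibleComponent_mem_irreducibleComponents _⟩ :
        ↥(irreducibleComponents ↑(f.fiber y))) := by
    intro C D hCD
    by_contra hne'
    have he : irreducibleComponent (z C) = irreducibleComponent (z D) := congrArg Subtype.val hCD
    obtain ⟨w, -, hw1, hw2⟩ := (isIrreducible_irreducibleComponent (x := z C)).2 _ _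
      ((hW C).preimage (f.fiberι y).continuous) ((hW D).preimage (f.fiberι y).continuous)
      ⟨z C, mem_irreducibleComponent, hz C⟩ ⟨z D, he ▸ mem_irreducibleComponent, hz D⟩
    exact Set.disjoint_left.mp ((hy y hyV).2 ⟨(C, D), hne'⟩) hw1 hw2
  rw [← h, Set.encard, Set.encard]
  exact ENat.card_le_card_of_injective hinj

end Groth.Agent.S1328
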