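import Groth.Statements.S1329
import Mathlib
import Groth.Agent.NearGen2.Fibre

set_option autoImplicit false
set_option linter.style.haveILetI false
set_option linter.style.longLine false
universe u
open FlatMor

namespace Groth.Agent.S1329

open AlgebraicGeometry Groth.Agent.NearGen2

open AlgebraicGeometry CategoryTheory Limits in
/-- Let f be of finite type with irreducible target. If the generic fibre has exactly n connected
components, then over some nonempty open of the target every fibre has at least n connected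
components. -/
theorem result {X Y : Scheme.{u}} (f : X ⟶ Y) [IrreducibleSpace ↑Y] [LocallyOfFiniteType f] [QuasiCompact f] (n : ℕ)
    (h : ENat.card (_root_.ConnectedComponents ↑(f.fiber (genericPoint ↑Y))) = n) :
    ∃ V : Y.Opens, (V : Set ↑Y).Nonempty ∧ ∀ y ∈ V, (n : ℕ∞) ≤ ENat.card (_root_.ConnectedComponents ↑(f.fiber y)) := by
  classical
  set η := genericPoint ↑Y
  have : Finite (_root_.ConnectedComponents ↑(f.fiber η)) :=
    ENat.card_lt_top.mp (h ▸ ENat.coe_lt_top n)
  have hopen : ∀ c : _root_.ConnectedComponents ↑(f.fiber η),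
      IsOpen ((_root_.ConnectedComponents.mk ⁻¹' {c}) : Set ↑(f.fiber η)) :=
    fun c => (isOpen_discrete _).preimage ConnectedComponents.continuous_coe
  choose W hW hWtr using fun c => exists_open_trace f η (hopen c)
  have hne : ∀ c, Near fun y => (f.fiberι y ⁻¹' W c).Nonempty := fun c => by
    refine near_nonempty f (hW c) ?_
    rw [hWtr c]
    obtain ⟨z, hz⟩ := ConnectedComponents.surjective_coe c
    exact ⟨z, hz⟩
  have hdis : ∀ p : {p : _root_.ConnectedComponents ↑(f.fiber η) × _root_.ConnectedComponents ↑(f.fiber η) // p.1 ≠ p.2},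
      Near fun y => Disjoint (f.fiberι y ⁻¹' W p.1.1) (f.fiberι y ⁻¹' W p.1.2) := by
    rintro ⟨⟨c, d⟩, hcd⟩
    refine near_disjoint f (hW c) (hW d) ?_
    rw [hWtr c, hWtr d]
    exact (Set.disjoint_singleton.mpr hcd).preimage _
  have hcov : Near fun y => ⋃ c, f.fiberι y ⁻¹' W c = Set.univ := by
    refine near_cover f W hW ?_
    exact Set.eq_univ_of_forall fun z => Set.mem_iUnion.mpr ⟨ConnectedComponents.mk z, (hWtr _).ge rfl⟩
  obtain ⟨V, hV, hy⟩ := ((Near.all hne).and (Near.all hdis)).and hcov
  refine ⟨V, hV, fun y hyV => ?_⟩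
  obtain ⟨⟨hne', hdis'⟩, hcov'⟩ := hy y hyV
  have hc : ∀ z, ∃ c, z ∈ f.fiberι y ⁻¹' W c := fun z => Set.mem_iUnion.mp (hcov'.ge (Set.mem_univ z))
  choose c hc using hc
  have hcw : ∀ z d, z ∈ f.fiberι y ⁻¹' W d → c z = d := fun z d hd => by
    by_contra hne''
    exact Set.disjoint_left.mp (hdis' ⟨(c z, d), hne''⟩) (hc z) hd
  have hlc : Continuous c := ⟨fun s _ => by
    have : c ⁻¹' s = ⋃ d ∈ s, f.fiberι y ⁻¹' W d := by
      ext z
      exact ⟨fun hz => Set.mem_iUnion₂.mpr ⟨c z, hz, hc z⟩, fun hz => by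
        obtain ⟨d, hd, hzd⟩ := Set.mem_iUnion₂.mp hz
        show c z ∈ s
        rw [hcw z d hzd]; exact hd⟩
    rw [this]
    exact isOpen_biUnion fun d _ => (hW d).preimage (f.fiberι y).continuous⟩
  have hs : Function.Surjective hlc.connectedComponentsLift := fun d => by
    obtain ⟨z, hz⟩ := hne' d
    exact ⟨ConnectedComponents.mk z, hcw z d hz⟩
  rw [← h]
  exact ENat.card_le_card_of_injective (Function.injective_surjInv hs)

end Groth.Agent.S1329
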