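import Groth.Statements.S1332
import Mathlib
import Groth.Agent.NearGen2.GeomReduced

set_option autoImplicit false
set_option linter.style.haveILetI false
set_option linter.style.longLine false
universe u
open FlatMor

namespace Groth.Agent.S1332

open AlgebraicGeometry Groth.Agent.NearGen2
open CategoryTheory CategoryTheory.Limits

open AlgebraicGeometry CategoryTheory Limits in
/-- Let f be of finite type with irreducible target. If the generic fibre has dimension n, then over
some nonempty open of the target every fibre has dimension n. -/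
theorem result {X Y : Scheme.{u}} (f : X ⟶ Y) [IrreducibleSpace ↑Y] [LocallyOfFiniteType f] [QuasiCompact f] (n : ℕ)
    (h : topologicalKrullDim ↑(f.fiber (genericPoint ↑Y)) = n) :
    ∃ V : Y.Opens, (V : Set ↑Y).Nonempty ∧ ∀ y ∈ V, topologicalKrullDim ↑(f.fiber y) = n := by
  obtain ⟨M⟩ := exists_model f
  obtain ⟨a, d, ha, hd⟩ := Groth.Agent.ConsProp93.exists_dim_pullback (A := M.A) M.fam
  have key : ∀ p : ↥(Spec M.A), p ∈ (PrimeSpectrum.basicOpen a : Set (PrimeSpectrum M.A)) →
      topologicalKrullDim ↥(f.fiber (M.r p)) = d := by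
    intro p hp
    obtain ⟨m, hm, -, -⟩ := M.exists_fiber_iso p
    rw [← Groth.Agent.ConsProp93.dim_of_iso m]
    obtain ⟨ψ, hψ⟩ := Spec.map_surjective ((Spec M.A).fromSpecResidueField p)
    letI : Algebra M.A ((Spec M.A).residueField p) := ψ.hom.toAlgebra
    rw [← hd ((Spec M.A).residueField p) ?_]
    · show topologicalKrullDim ↥(pullback M.fam _) = topologicalKrullDim ↥(pullback M.fam (Spec.map ψ))
      rw [hψ]
    · intro h0
      let w : ↥(Spec ((Spec M.A).residueField p)) := Classical.arbitrary _
      have hw : Spec.map ψ w = p := by rw [hψ, Scheme.fromSpecResidueField_apply]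
      apply hp
      show a ∈ p.asIdeal
      rw [← hw]
      show ψ.hom a ∈ w.asIdeal
      rw [show ψ.hom a = 0 from h0]
      exact zero_mem _
  let η := _root_.genericPoint ↥(Spec M.A)
  have hη : η ∈ (PrimeSpectrum.basicOpen a : Set (PrimeSpectrum M.A)) :=
    ((genericPoint_spec ↥(Spec M.A)).mem_open_set_iff (PrimeSpectrum.basicOpen a).2).mpr
      ⟨(⊥ : PrimeSpectrum M.A), trivial, fun h => ha h⟩
  have hdn : d = n := by
    rw [← key η hη, M.r_genericPoint]; exact h
  exact M.near (Q := fun y => topologicalKrullDim ↥(f.fiber y) = n)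
    ⟨PrimeSpectrum.basicOpen a, ⟨η, hη⟩, fun p hp => (key p hp).trans hdn⟩

end Groth.Agent.S1332
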