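import Groth.Statements.S1333
import Mathlib
import Groth.Agent.NearGen2.GeomReduced

set_option autoImplicit false
set_option linter.style.haveILetI false
set_option linter.style.longLine false
universe u
open FlatMor

namespace Groth.Agent.S1333

open AlgebraicGeometry Groth.Agent.NearGen2

open AlgebraicGeometry CategoryTheory Limits in
/-- For a morphism of finite presentation (locally of finite presentation, quasi-compact,
quasi-separated), each level set of the function sending a point of the target to the dimension of
its fibre is locally constructible. -/
theorem result {X Y : Scheme.{u}} (f : X ⟶ Y) [LocallyOfFinitePresentation f] [QuasiCompact f] [QuasiSeparated f]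
    (n : WithBot ℕ∞) :
    Topology.IsLocallyConstructible {y : ↑Y | topologicalKrullDim ↑(f.fiber y) = n} := by
  have hc : ConsProp.IsConsMod.{u} (fun Y T g F => topologicalKrullDim ↥Y ∈ ({n} : Set (WithBot ℕ∞))) := by
    have h := Groth.Agent.ConsProp93.isCons_dim.{u} ({n} : Set (WithBot ℕ∞))
    exact ⟨fun Y Y' T T' g g' e k _ _ _ _ _ _ hsq F F' _ _ => h.1 g g' e k hsq,
      fun X' S v _ _ _ _ F _ => h.2 v⟩
  have := Groth.Agent.LimTop61.isQuasicoherent_structureModule X
  have := Groth.Agent.LimTop61.isFP_structureModule' X
  exact Groth.Agent.ConsProp93.isLocallyConstructible_locusMod hc f (Coh.structureModule X)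

end Groth.Agent.S1333
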