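import Groth.Statements.S13340
import Groth.Agent.FCompl13.ComplNat
import Groth.Agent.S3854
import Groth.Agent.Div89.FreeStalks
import Groth.Agent.S13345

set_option autoImplicit false
open CategoryTheory CategoryTheory.Limits
universe u
open FCompl

namespace Groth.Agent.S13340

open AlgebraicGeometry in
/-- Let X be a locally Noetherian scheme, 𝓘 a quasi-coherent ideal sheaf and X̂ the completion of X
along 𝓘 (the system of the closed subschemes of the powers of 𝓘, as a ringed space with structure
sheaf lim O_{X_k}). Completion F ↦ F̂ = lim_k (u_k)_* i_k^* F of coherent O_X-modules is exact: for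
a short exact sequence 0 → F' → F → F'' → 0 of coherent modules the induced sequence of completed
O_X̂-modules has zero composite and is short exact. -/
theorem result (X : Scheme.{u}) [IsLocallyNoetherian X] (𝓘 : X.IdealSheafData)
    (h : (FSch.completionAlong X 𝓘).IsFormal) (S : ShortComplex X.Modules) (hS : S.ShortExact)
    (h1 : Coh.IsCoh S.X₁) (h2 : Coh.IsCoh S.X₂) (h3 : Coh.IsCoh S.X₃) :
    FSch.ModSys.realModMap h (FSch.complModMap 𝓘 S.f) ≫ FSch.ModSys.realModMap h (FSch.complModMap 𝓘 S.g) = 0 ∧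
      ∀ w : FSch.ModSys.realModMap h (FSch.complModMap 𝓘 S.f) ≫ FSch.ModSys.realModMap h (FSch.complModMap 𝓘 S.g) = 0,
        (ShortComplex.mk _ _ w).ShortExact := by
  have hn := Groth.Agent.S3854.result X 𝓘
  let T := FSch.toSchemeMor (FSch.completionAlong X 𝓘) h (FSch.completionToX X 𝓘) (FSch.completionToX_comm X 𝓘)
  have p1 : S.X₁.IsFinitePresentation := Div89.isFP_of_isCoh h1
  have p2 : S.X₂.IsFinitePresentation := Div89.isFP_of_isCoh h2
  have p3 : S.X₃.IsFinitePresentation := Div89.isFP_of_isCoh h3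
  obtain ⟨e1, he1⟩ := FCompl13.exists_pull_iso_schSys (FSch.completionAlong X 𝓘) h (FSch.completionToX X 𝓘) (FSch.completionToX_comm X 𝓘) hn S.X₁
  obtain ⟨e2, he2⟩ := FCompl13.exists_pull_iso_schSys (FSch.completionAlong X 𝓘) h (FSch.completionToX X 𝓘) (FSch.completionToX_comm X 𝓘) hn S.X₂
  obtain ⟨e3, he3⟩ := FCompl13.exists_pull_iso_schSys (FSch.completionAlong X 𝓘) h (FSch.completionToX X 𝓘) (FSch.completionToX_comm X 𝓘) hn S.X₃
  have n1 := FCompl13.schPull_natural_gen (FSch.completionAlong X 𝓘) h (FSch.completionToX X 𝓘) (FSch.completionToX_comm X 𝓘) S.f e1.hom e2.hom he1 he2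
  have n2 := FCompl13.schPull_natural_gen (FSch.completionAlong X 𝓘) h (FSch.completionToX X 𝓘) (FSch.completionToX_comm X 𝓘) S.g e2.hom e3.hom he2 he3
  rw [FCompl13.schSys_completion X 𝓘 S.f] at n1
  rw [FCompl13.schSys_completion X 𝓘 S.g] at n2
  let P : X.Modules ⥤ FSch.ModF (FSch.completionAlong X 𝓘) h := T.pull
  haveI : PreservesFiniteLimits P := Groth.Agent.S13345.result X 𝓘 h
  haveI : PreservesColimitsOfSize.{0, 0} P := T.adj.leftAdjoint_preservesColimits
  haveI : PreservesFiniteColimits P := ⟨fun _ _ _ => inferInstance⟩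
  haveI : P.Additive := Functor.additive_of_preserves_binary_products P
  have hT := hS.map_of_exact P
  have w : FSch.ModSys.realModMap h (FSch.complModMap 𝓘 S.f) ≫ FSch.ModSys.realModMap h (FSch.complModMap 𝓘 S.g) = 0 := by
    refine (cancel_epi e1.hom).1 ?_
    refine ((Category.assoc _ _ _).symm.trans ?_).trans comp_zero.symm
    refine (congrArg (· ≫ _) n1.symm).trans ((Category.assoc _ _ _).trans ?_)
    refine (congrArg (T.pull.map S.f ≫ ·) n2.symm).trans ((Category.assoc _ _ _).symm.trans ?_)
    exact (congrArg (· ≫ e3.hom) ((P.map_comp S.f S.g).symm.trans ((congrArg P.map S.zero).trans (P.map_zero _ _)))).trans zero_comp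
  exact ⟨w, fun _ => ShortComplex.shortExact_of_iso (ShortComplex.isoMk e1 e2 e3 n1.symm n2.symm) hT⟩

end Groth.Agent.S13340
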