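import Groth.Statements.S13341
import Groth.Prelude.Def_FSch4
import Mathlib.AlgebraicGeometry.Morphisms.Separated

set_option autoImplicit false
open CategoryTheory
universe u
open FCompl

namespace Groth.Agent.S13341

open AlgebraicGeometry in
open CategoryTheory.Limits in
theorem isPullback_section {C : Type*} [Category C] {A A' P P' B B' : C} {ιX : A ⟶ A'} (ιP : P ⟶ P')
    {g : A ⟶ P} {g' : A' ⟶ P'} (a : P ⟶ A) (a' : P' ⟶ A') (b : P ⟶ B) (b' : P' ⟶ B') (ιB : B ⟶ B') [Mono ιB]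
    (f : A ⟶ B) (f' : A' ⟶ B') (hga : g ≫ a = 𝟙 A) (hga' : g' ≫ a' = 𝟙 A') (hgb : g ≫ b = f) (hgb' : g' ≫ b' = f')
    (hPa : ιP ≫ a' = a ≫ ιX) (hPb : ιP ≫ b' = b ≫ ιB) (hf : f ≫ ιB = ιX ≫ f') (hg : g ≫ ιP = ιX ≫ g')
    (hext : ∀ {Z : C} {u v : Z ⟶ P}, u ≫ a = v ≫ a → u ≫ b = v ≫ b → u = v) : IsPullback ιX g g' ιP := by
  refine ⟨⟨hg.symm⟩, ⟨PullbackCone.IsLimit.mk _ (fun s => s.snd ≫ a) (fun s => ?_) (fun s => ?_) (fun s m _ h2 => ?_)⟩⟩
  · rw [Category.assoc, ← hPa, reassoc_of% s.condition.symm, hga', Category.comp_id]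
  · refine hext (by rw [Category.assoc, hga, Category.comp_id]) ?_
    rw [Category.assoc, hgb, ← cancel_mono ιB, Category.assoc, Category.assoc, Category.assoc, hf, ← reassoc_of% hPa,
      reassoc_of% s.condition.symm, reassoc_of% hga', ← hPb, reassoc_of% s.condition.symm, hgb']
  · rw [← h2, Category.assoc, hga, Category.comp_id]

open AlgebraicGeometry in
theorem closedImm_of_comp_eq_id {X Y : Scheme.{u}} (g : X ⟶ Y) (a : Y ⟶ X) [IsSeparated a] (e : g ≫ a = 𝟙 X) :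
    IsClosedImmersion g :=
  have : IsClosedImmersion (g ≫ a) := by rw [e]; infer_instance
  IsClosedImmersion.of_comp g a

open AlgebraicGeometry in

/-- Formal schemes are presented as locally Noetherian adic systems of thickenings and the fibre product
is taken levelwise (it presents the fibre product of formal schemes since one factor is adic over
the base). Let 𝔖 be a locally Noetherian formal system, 𝔛 and 𝔜 locally Noetherian formal systems
over 𝔖 such that 𝔛 or 𝔜 is of finite type over 𝔖, and 𝔜 separated over 𝔖 at level 0. Then for every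
𝔖-morphism f : 𝔛 → 𝔜 the graph morphism 𝔛 → 𝔛 ×_𝔖 𝔜 is a closed immersion: adic, with level 0 a
closed immersion. -/
theorem result {𝔛 𝔜 𝔖 : FSch.Sys.{u}} (h𝔖 : 𝔖.IsLocNoethFormal) (h𝔛 : 𝔛.IsLocNoethFormal)
    (h𝔜 : 𝔜.IsLocNoethFormal) (p : 𝔛 ⟶ 𝔖) (q : 𝔜 ⟶ 𝔖) (hpq : FSch.IsFiniteTypeHom p ∨ FSch.IsFiniteTypeHom q)
    (hq : IsSeparated ((q : FSch.Hom 𝔜 𝔖).app 0)) (f : 𝔛 ⟶ 𝔜) (w : f ≫ q = p) :
    FSch.IsClosedImmHom (FSch.graph f p q w) := by
  refine ⟨fun n => ?_, ?_⟩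
  · have := (h𝔜.1 n).1
    exact isPullback_section (FSch.pullbackSys p q |>.ι n) (CategoryTheory.Limits.pullback.fst _ _) (CategoryTheory.Limits.pullback.fst _ _)
      (CategoryTheory.Limits.pullback.snd _ _) (CategoryTheory.Limits.pullback.snd _ _) (𝔜.ι n)
      _ _ (CategoryTheory.Limits.pullback.lift_fst _ _ _) (CategoryTheory.Limits.pullback.lift_fst _ _ _)
      (CategoryTheory.Limits.pullback.lift_snd _ _ _) (CategoryTheory.Limits.pullback.lift_snd _ _ _)
      (CategoryTheory.Limits.pullback.lift_fst _ _ _) (CategoryTheory.Limits.pullback.lift_snd _ _ _)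
      ((f : FSch.Hom 𝔛 𝔜).comm n) ((FSch.graph f p q w : FSch.Hom _ _).comm n) (fun h1 h2 => CategoryTheory.Limits.pullback.hom_ext h1 h2)
  · have : IsSeparated ((q : FSch.Hom 𝔜 𝔖).app 0) := hq
    have e : (FSch.graph f p q w : FSch.Hom _ _).app 0 ≫ CategoryTheory.Limits.pullback.fst ((p : FSch.Hom 𝔛 𝔖).app 0) ((q : FSch.Hom 𝔜 𝔖).app 0) = 𝟙 _ :=
      CategoryTheory.Limits.pullback.lift_fst _ _ _
    have : IsSeparated (CategoryTheory.Limits.pullback.fst ((p : FSch.Hom 𝔛 𝔖).app 0) ((q : FSch.Hom 𝔜 𝔖).app 0)) :=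
      MorphismProperty.of_isPullback (P := @IsSeparated) (IsPullback.of_hasPullback _ _).flip hq
    exact @closedImm_of_comp_eq_id _ _ _ _ this e


end Groth.Agent.S13341
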