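import Groth.Statements.S13343
import Groth.Agent.FCompl13.OpenMonoEpi

set_option autoImplicit false
open CategoryTheory CategoryTheory.Limits
universe u
open FCompl

namespace Groth.Agent.S13343

open AlgebraicGeometry in
/-- On a Noetherian formal scheme (an adic system of locally Noetherian thickenings with common
quasi-compact underlying space) let 𝔉 and 𝔊 be coherent O_𝔛-modules. In Hom(𝔉, 𝔊), topologised by
the subgroups of morphisms vanishing into 𝔊 ⊗ O_{X_n} (that is, with values in 𝓘^{n+1}𝔊), the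
injective, the surjective and the bijective morphisms form open subsets: for every θ there is an n
such that θ + ψ is a monomorphism whenever θ is, and an epimorphism whenever θ is, for all ψ whose
composite with 𝔊 → (u_n)_* u_n^* 𝔊 is zero. -/
theorem result (𝔛 : FSch.Sys.{u}) (h𝔛 : 𝔛.IsLocNoethFormal)
    [CompactSpace (𝔛.X 0)] (𝔉 𝔊 : FSch.ModF 𝔛 h𝔛.1) (h𝔉 : FSch.IsCohF 𝔛 h𝔛.1 𝔉) (h𝔊 : FSch.IsCohF 𝔛 h𝔛.1 𝔊)
    (θ : 𝔉 ⟶ 𝔊) :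
    ∃ n : ℕ, ∀ ψ : 𝔉 ⟶ 𝔊, ψ ≫ (FSch.levelMor 𝔛 h𝔛.1 n).adj.unit.app 𝔊 = 0 →
      (Mono θ → Mono (θ + ψ)) ∧ (Epi θ → Epi (θ + ψ)) := by
  open Groth.Agent.FCompl13 in
  classical
  have := h𝔉
  have := h𝔊
  have := isIso_toReal h𝔛 𝔉
  have := isIso_toReal h𝔛 𝔊
  let a := toReal h𝔛.1 𝔉
  let b := toReal h𝔛.1 𝔊
  let Θ := inv a ≫ θ ≫ b
  obtain ⟨n, hn⟩ : ∃ n : ℕ, Mono θ → ∀ ψ, ψ ≫ FSch.realProj 𝔛 h𝔛.1 (sysOf h𝔛.1 𝔊).F
      (sysOf h𝔛.1 𝔊).toPush n = 0 → Mono (Θ + ψ) := by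
    by_cases hm : Mono θ
    · have : Mono Θ := inferInstanceAs (Mono (inv a ≫ θ ≫ b))
      obtain ⟨n, hn⟩ := exists_mono_bound h𝔛 (isCoh_sysOf h𝔛.1 𝔉) (isCoh_sysOf h𝔛.1 𝔊) Θ
      exact ⟨n, fun _ => hn⟩
    · exact ⟨0, fun h => absurd h hm⟩
  refine ⟨n, fun ψ hψ => ⟨fun hm => ?_, fun he => epi_add h𝔛 θ ψ n hψ⟩⟩
  have hb : b ≫ FSch.realProj 𝔛 h𝔛.1 (sysOf h𝔛.1 𝔊).F (sysOf h𝔛.1 𝔊).toPush n =
      (FSch.levelMor 𝔛 h𝔛.1 n).adj.unit.app 𝔊 := toReal_realProj h𝔛.1 𝔊 n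
  have := hn hm (inv a ≫ ψ ≫ b) (by
    refine ((Category.assoc _ _ _).trans (congrArg (inv a ≫ ·) ((Category.assoc _ _ _).trans
      ((congrArg (ψ ≫ ·) hb).trans hψ)))).trans comp_zero)
  have e : θ + ψ = a ≫ (Θ + inv a ≫ ψ ≫ b) ≫ inv b := by
    simp [Θ]
  rw [e]
  have h2 : Mono ((Θ + inv a ≫ ψ ≫ b) ≫ inv b) := @mono_comp _ _ _ _ _ (Θ + inv a ≫ ψ ≫ b) this (inv b) inferInstance
  exact @mono_comp _ _ _ _ _ a inferInstance _ h2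

end Groth.Agent.S13343
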