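import Groth.Statements.S13348
import Groth.Agent.FCompl13.TftCompl

set_option autoImplicit false
universe u
open FCompl

namespace Groth.Agent.S13348

open AlgebraicGeometry in
open CategoryTheory in
/-- Let R be a base ring of class (N) or (V) for the ideal I, A an R-algebra topologically of finite
type, and M, N finite A-modules. Present the formal spectrum Spf A as the completion of Spec A along
IA, with structure sheaf the limit of the structure sheaves of the closed subschemes V((IA)^(n+1)),
and let M^Δ be the O_Spf A-module obtained as the limit of the direct images of the modules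
associated to M/(IA)^(n+1)M (the pullbacks of the sheaf associated to M). Then u ↦ u^Δ is a
bijection from Hom_A(M, N) onto the set of O_Spf A-module homomorphisms M^Δ → N^Δ. -/
theorem result
    (R : Type u) [CommRing R] (I : Ideal R) (hR : AdicRing.IsBase R I)
    (A : Type u) [CommRing A] [Algebra R A] (hA : AdicRing.TopFiniteType R I A)
    (h : (FSch.completionAlong (Spec (CommRingCat.of A)) (FSch.idealSpec A (I.map (algebraMap R A)))).IsFormal)
    (M N : ModuleCat.{u} A) [Module.Finite A M] [Module.Finite A N] :
    Function.Bijective (fun u : M ⟶ N =>
      FSch.ModSys.realModMap h (FSch.complModMap (FSch.idealSpec A (I.map (algebraMap R A))) ((tilde.functor (CommRingCat.of A)).map u))) := by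
  have : IsAdicComplete (I.map (algebraMap R A)) N := FCompl13.isAdicComplete_tft hR hA N
  have h2 := FCompl13.realModMap_bijective (R := CommRingCat.of A) (p := FSch.completionToX _ (FSch.idealSpec A (I.map (algebraMap R A))))
    h (FSch.completionToX_comm _ (FSch.idealSpec A (I.map (algebraMap R A)))) (FSch.idealSpec A (I.map (algebraMap R A)))
    (fun n => Scheme.IdealSheafData.ker_subschemeι _) (FCompl13.levKer_idealSpec _)
    (FCompl13.idealSpec_fg ((Frg27.base_fg hR).map _)) M N
  have e : (fun u : M ⟶ N =>
      FSch.ModSys.realModMap h (FSch.complModMap (FSch.idealSpec A (I.map (algebraMap R A))) ((tilde.functor (CommRingCat.of A)).map u))) =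
      fun u : M ⟶ N => FSch.ModSys.realModMap h (FCompl13.schSysMap
        (FSch.completionAlong (Spec (CommRingCat.of A)) (FSch.idealSpec A (I.map (algebraMap R A))))
        (FSch.completionToX _ (FSch.idealSpec A (I.map (algebraMap R A))))
        (FSch.completionToX_comm _ (FSch.idealSpec A (I.map (algebraMap R A))))
        ((tilde.functor (CommRingCat.of A)).map u)) :=
    funext fun u => congrArg _ (FCompl13.schSys_completion (Spec (CommRingCat.of A)) (FSch.idealSpec A (I.map (algebraMap R A))) _).symm
  rw [e]
  exact h2


end Groth.Agent.S13348
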