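import Groth.Statements.S13350
import Groth.Agent.FCompl13.TftReflect
import Groth.Agent.FCompl13.TftCompl
import Groth.Agent.FCompl13.TftDelta
import Groth.Agent.FCompl13.AffCompl

set_option autoImplicit false
universe u
open FCompl

namespace Groth.Agent.S13350

open AlgebraicGeometry in
open CategoryTheory in
/-- Let R be a base ring of class (N) or (V) for the ideal I, A an R-algebra topologically of finite
presentation (hence a coherent ring), and u : M' → M, v : M → M'' homomorphisms of finitely
presented A-modules. Present Spf A as the completion of Spec A along IA, with structure sheaf the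
limit of the structure sheaves of the closed subschemes V((IA)^(n+1)), and let M^Δ be the limit of
the direct images of the modules associated to M/(IA)^(n+1)M. If u^Δ and v^Δ compose to zero and 0 →
M'^Δ → M^Δ → M''^Δ → 0 is a short exact sequence of O_Spf A-modules, then u and v compose to zero
and 0 → M' → M → M'' → 0 is short exact. -/
theorem result
    (R : Type u) [CommRing R] (I : Ideal R) (hR : AdicRing.IsBase R I)
    (A : Type u) [CommRing A] [Algebra R A] (hA : AdicRing.TopFinitePresentation R I A)
    (h : (FSch.completionAlong (Spec (CommRingCat.of A)) (FSch.idealSpec A (I.map (algebraMap R A)))).IsFormal)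
    (M₁ M₂ M₃ : ModuleCat.{u} A) [Module.FinitePresentation A M₁] [Module.FinitePresentation A M₂]
    [Module.FinitePresentation A M₃] (u : M₁ ⟶ M₂) (v : M₂ ⟶ M₃)
    (hΔ : ∃ w : FSch.ModSys.realModMap h (FSch.complModMap (FSch.idealSpec A (I.map (algebraMap R A))) ((tilde.functor (CommRingCat.of A)).map u)) ≫
        FSch.ModSys.realModMap h (FSch.complModMap (FSch.idealSpec A (I.map (algebraMap R A))) ((tilde.functor (CommRingCat.of A)).map v)) = 0,
      (ShortComplex.mk _ _ w).ShortExact) :
    ∃ w : u ≫ v = 0, (ShortComplex.mk u v w).ShortExact := by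
  have hA' : AdicRing.TopFiniteType R I A := ⟨hA.choose, hA.choose_spec.choose, hA.choose_spec.choose_spec.1⟩
  let J : Ideal A := I.map (algebraMap R A)
  let X := Spec (CommRingCat.of A)
  let 𝓘 := FSch.idealSpec A J
  haveI : IsAdicComplete J A := FCompl13.isAdicComplete_tft hR hA' A
  haveI : IsAdicComplete J M₁ := FCompl13.isAdicComplete_tft hR hA' M₁
  haveI : IsAdicComplete J M₂ := FCompl13.isAdicComplete_tft hR hA' M₂
  haveI : IsAdicComplete J M₃ := FCompl13.isAdicComplete_tft hR hA' M₃
  refine FCompl13.shortExact_of_realModMap (R := CommRingCat.of A) (J := J) (p := FSch.completionToX X 𝓘) h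
    (FSch.completionToX_comm X 𝓘) 𝓘 (fun n => Scheme.IdealSheafData.ker_subschemeι _)
    (FCompl13.levKer_idealSpec (A := A) J)
    (fun a hD => (FCompl13.idealSpec_ideal_basicOpen _ a hD).trans (FCompl13.ideal_map_algebraMap_Spec _ _))
    (fun q hq => ?_) M₁ M₂ M₃ u v ?_
  · have h1 : q ∈ Set.range (FSch.completionToX X 𝓘 0).base := by
      change q ∈ Set.range (𝓘 ^ (0 + 1)).subschemeι.base
      rw [zero_add, pow_one, Scheme.IdealSheafData.range_subschemeι]
      show q ∈ (((Spec.map (CommRingCat.ofHom (Ideal.Quotient.mk J))).ker.support) : Set (Spec (CommRingCat.of A)))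
      rw [Scheme.Hom.support_ker]
      refine subset_closure ?_
      have : q ∈ Set.range (PrimeSpectrum.comap (Ideal.Quotient.mk J)) := by
        rw [_root_.range_comap_of_surjective _ _ Ideal.Quotient.mk_surjective]
        simpa [PrimeSpectrum.mem_zeroLocus, Ideal.mk_ker] using hq
      exact this
    exact h1
  · rw [FCompl13.schSys_completion X 𝓘, FCompl13.schSys_completion X 𝓘]
    exact hΔ


end Groth.Agent.S13350
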