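import Groth.Statements.S13351
import Groth.Agent.FCompl13.TftCoh
import Groth.Agent.FCompl13.AffCompl

set_option autoImplicit false
universe u
open FCompl

namespace Groth.Agent.S13351

open AlgebraicGeometry in
open CategoryTheory in
/-- Let R be a base ring of class (N) or (V) for the ideal I and A an R-algebra topologically of finite
presentation. Present Spf A as the completion of Spec A along IA, with structure sheaf the limit of
the structure sheaves of the closed subschemes V((IA)^(n+1)). Then every O_Spf A-module of finite
presentation (for such formal schemes this is the same as coherent) is isomorphic to M^Δ, the limit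
of the direct images of the modules associated to M/(IA)^(n+1)M, for some finitely presented (that
is, coherent) A-module M. -/
theorem result
    (R : Type u) [CommRing R] (I : Ideal R) (hR : AdicRing.IsBase R I)
    (A : Type u) [CommRing A] [Algebra R A] (hA : AdicRing.TopFinitePresentation R I A)
    (h : (FSch.completionAlong (Spec (CommRingCat.of A)) (FSch.idealSpec A (I.map (algebraMap R A)))).IsFormal)
    (F : FSch.ModF (FSch.completionAlong (Spec (CommRingCat.of A)) (FSch.idealSpec A (I.map (algebraMap R A)))) h)
    (hF : FSch.IsCohF (FSch.completionAlong (Spec (CommRingCat.of A)) (FSch.idealSpec A (I.map (algebraMap R A)))) h F) :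
    ∃ M : ModuleCat.{u} A, Module.FinitePresentation A M ∧
      Nonempty (F ≅ (FSch.complMod (FSch.idealSpec A (I.map (algebraMap R A))) (tilde M)).realMod h) := by
  have hA' : AdicRing.TopFiniteType R I A := ⟨hA.choose, hA.choose_spec.choose, hA.choose_spec.choose_spec.1⟩
  let J : Ideal A := I.map (algebraMap R A)
  let X := Spec (CommRingCat.of A)
  let 𝓘 := FSch.idealSpec A J
  haveI := hF
  let : Algebra R (CommRingCat.of A) := (inferInstance : Algebra R A)
  exact FCompl13.exists_iso_realMod_tft (R := CommRingCat.of A) hR hA' (p := FSch.completionToX X 𝓘) h
    (FSch.completionToX_comm X 𝓘) 𝓘 (fun n => Scheme.IdealSheafData.ker_subschemeι _)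
    (fun a hD => (FCompl13.idealSpec_ideal_basicOpen _ a hD).trans (FCompl13.ideal_map_algebraMap_Spec _ _))
    (FCompl13.levKer_idealSpec (A := A) J) F


end Groth.Agent.S13351
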