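import Groth.Statements.S13352
import Groth.Agent.Frg27.RigLemmas
import Groth.Agent.S11525

set_option autoImplicit false
universe u
open scoped TensorProduct
open AdicRing

namespace Groth.Agent.S13352

/-- Let R be a complete valuation ring of height one with t a nonzero element generating an ideal of
definition and K its field of fractions, A an admissible R-algebra, and f_1, ..., f_n elements of A
⊗_R K that are integral over A. Then A' = A[f_1, ..., f_n], a subalgebra of A ⊗_R K, is an
admissible R-algebra which is finite over A. (The published hypothesis is that each f_i has supremum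
seminorm at most 1 on the affinoid algebra A ⊗_R K; integrality of the f_i over A is what is derived
from it and used, and is the hypothesis taken here.) -/
theorem result
    (R : Type u) [CommRing R] [IsDomain R] [ValuationRing R] [Ring.KrullDimLE 1 R]
    (t : R) (ht : t ≠ 0) [IsAdicComplete (Ideal.span {t}) R]
    (A : Type u) [CommRing A] [Algebra R A] (hA : AdicRing.Admissible R (Ideal.span {t}) A)
    (n : ℕ) (f : Fin n → A ⊗[R] FractionRing R) (hf : ∀ i, IsIntegral A (f i)) :
    AdicRing.Admissible R (Ideal.span {t}) ↥(Algebra.adjoin A (Set.range f)) ∧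
      Module.Finite A ↥(Algebra.adjoin A (Set.range f)) := by
  have hI := Frg27.base_fg (Frg27.isBase_rank1 (R := R) ht)
  suffices H : ∀ (C : Type u) [CommRing C] [Algebra R C] [Algebra A C] [IsScalarTower R A C],
      Module.Finite A C → AdicRing.NoPowTorsion (Ideal.span {t}) C → AdicRing.Admissible R (Ideal.span {t}) C by
    have hfin : Module.Finite A (Algebra.adjoin A (Set.range f)) := Module.Finite.iff_fg.mpr
      (fg_adjoin_of_finite (Set.finite_range f) (by rintro - ⟨i, rfl⟩; exact hf i))
    refine ⟨H _ hfin (Frg27.noPowTorsion_iff_span.mpr fun x hx => Subtype.ext ?_), hfin⟩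
    have h1 : t • (x : A ⊗[R] FractionRing R) = 0 := by simpa using congrArg Subtype.val hx
    have hu : IsUnit (algebraMap A (A ⊗[R] FractionRing R) (algebraMap R A t)) :=
      IsLocalization.map_units (A ⊗[R] FractionRing R)
        (⟨_, ⟨t, mem_nonZeroDivisors_of_ne_zero ht, rfl⟩⟩ : Frg27.genM R A)
    refine hu.mul_right_eq_zero.mp (Eq.trans ?_ h1)
    exact (Algebra.smul_def _ _).symm.trans (algebraMap_smul A t (x : A ⊗[R] FractionRing R))
  intro C _ _ _ _ hfin hT
  have hS := Frg27.tft_of_admissible hA
  haveI : IsAdicComplete (Ideal.span {t}) C :=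
    Frg27.isAdicComplete_of_finite_tft (Frg27.isBase_rank1 (R := R) ht) hS C
  haveI : IsAdicComplete ((Ideal.span {t}).map (algebraMap R C)) C :=
    (IsAdicComplete.map_algebraMap_iff _ _).mpr inferInstance
  set J := (Ideal.span {t}).map (algebraMap R A)
  set J' := (Ideal.span {t}).map (algebraMap R C) with hJ'
  haveI : Algebra.FiniteType R (C ⧸ J') := by
    haveI := Frg27.finiteType_quotient hI hS
    haveI : Module.Finite A (C ⧸ J.map (algebraMap A C)) :=
      Module.Finite.of_surjective (Ideal.Quotient.mkₐ A _).toLinearMap Ideal.Quotient.mk_surjective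
    haveI : Algebra.FiniteType (A ⧸ J) (C ⧸ J.map (algebraMap A C)) :=
      Algebra.FiniteType.of_restrictScalars_finiteType A _ _
    haveI : IsScalarTower R (A ⧸ J) (C ⧸ J.map (algebraMap A C)) := IsScalarTower.of_algebraMap_eq fun r =>
      congrArg (Ideal.Quotient.mk _) (IsScalarTower.algebraMap_apply R A C r)
    have h : Algebra.FiniteType R (C ⧸ J.map (algebraMap A C)) :=
      Algebra.FiniteType.trans (S := A ⧸ J) inferInstance inferInstance
    exact h.of_surjective (Ideal.quotientEquivAlgOfEq R (by
      rw [hJ', Ideal.map_map, ← IsScalarTower.algebraMap_eq])).toAlgHom (AlgEquiv.surjective _)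
  exact ⟨S11525.result R _ (Frg27.isBase_rank1 ht) _ (Frg27.tft_of_finiteType_quotient hI inferInstance) hT,
    hT⟩

end Groth.Agent.S13352
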