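import Groth.Statements.S13353
import Groth.Agent.Frg27.RigLemmas
import Mathlib.RingTheory.Polynomial.ScaleRoots

set_option autoImplicit false
universe u
open scoped TensorProduct
open AdicRing

namespace Groth.Agent.S13353

/-- Let R be a complete valuation ring of height one with t a nonzero element generating an ideal of
definition and K its field of fractions, A an admissible R-algebra, f_1, ..., f_n elements of A ⊗_R
K integral over A, c a nonzero element of R and g_1, ..., g_n elements of A with g_i = c f_i in A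
⊗_R K; put 𝔞 = (c, g_1, ..., g_n) and A' = A[f_1, ..., f_n] ⊂ A ⊗_R K. If D is an admissible
R-algebra and φ : A → D an R-algebra homomorphism such that the ideal 𝔞D is generated by the image
of c, or by the image of some g_i, then 𝔞D is generated by c and φ extends to exactly one R-algebra
homomorphism A' → D. (This is the universal property through which Spf A' → Spf A is identified with
the formal blowing-up of 𝔞 on Spf A; the published hypothesis on the f_i is a supremum-seminorm
bound, from which their integrality over A is derived.) -/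
theorem result
    (R : Type u) [CommRing R] [IsDomain R] [ValuationRing R] [Ring.KrullDimLE 1 R]
    (t : R) (ht : t ≠ 0) [IsAdicComplete (Ideal.span {t}) R]
    (A : Type u) [CommRing A] [Algebra R A] (hA : AdicRing.Admissible R (Ideal.span {t}) A)
    (n : ℕ) (f : Fin n → A ⊗[R] FractionRing R) (hf : ∀ i, IsIntegral A (f i))
    (c : R) (hc : c ≠ 0) (g : Fin n → A)
    (hg : ∀ i, algebraMap A (A ⊗[R] FractionRing R) (g i) = c • f i)
    (D : Type u) [CommRing D] [Algebra R D] (hD : AdicRing.Admissible R (Ideal.span {t}) D)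
    (φ : A →ₐ[R] D)
    (hgen : (Ideal.span (insert (algebraMap R A c) (Set.range g))).map φ =
          Ideal.span {algebraMap R D c} ∨
      ∃ i, (Ideal.span (insert (algebraMap R A c) (Set.range g))).map φ = Ideal.span {φ (g i)}) :
    (Ideal.span (insert (algebraMap R A c) (Set.range g))).map φ = Ideal.span {algebraMap R D c} ∧
      ∃! ψ : ↥(Algebra.adjoin A (Set.range f)) →ₐ[R] D,
        ψ.comp (IsScalarTower.toAlgHom R A ↥(Algebra.adjoin A (Set.range f))) = φ := by
  have hD0 : ∀ x : D, t • x = 0 → x = 0 := Frg27.noPowTorsion_iff_span.mp hD.2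
  have hnzd : ∀ {a : R}, a ≠ 0 → ∀ x : D, algebraMap R D a * x = 0 → x = 0 := fun ha x hx =>
    Frg27.eq_zero_of_smul ht hD0 ha (by rwa [Algebra.smul_def])
  set M := Frg27.genM R A
  let M' : Submonoid D := Frg27.genM R D
  let DK := Localization M'
  have hinjD : Function.Injective (algebraMap D DK) := by
    refine IsLocalization.injective DK (M := M') fun x hx => ?_
    obtain ⟨a, ha, rfl⟩ := hx
    exact mem_nonZeroDivisors_iff_right.mpr fun x hx =>
      hnzd (mem_nonZeroDivisors_iff_ne_zero.mp ha) x (by rwa [mul_comm] at hx)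
  have hunit : ∀ {a : R}, a ≠ 0 → IsUnit (algebraMap D DK (algebraMap R D a)) := fun {a} ha =>
    IsLocalization.map_units DK (⟨_, ⟨a, mem_nonZeroDivisors_of_ne_zero ha, rfl⟩⟩ : M')
  let Ψ : (A ⊗[R] FractionRing R) →+* DK := IsLocalization.lift (M := M) (g := (algebraMap D DK).comp φ.toRingHom) fun s => by
    obtain ⟨a, ha, hs⟩ := s.2
    have : φ s.1 = algebraMap R D a := by rw [← hs]; exact φ.commutes a
    rw [RingHom.comp_apply, AlgHom.toRingHom_eq_coe, RingHom.coe_coe, this]
    exact hunit (mem_nonZeroDivisors_iff_ne_zero.mp ha)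
  have hΨ : ∀ x, Ψ (algebraMap A (A ⊗[R] FractionRing R) x) = algebraMap D DK (φ x) := fun x => IsLocalization.lift_eq _ x
  have hΨR : ∀ r, Ψ (algebraMap R (A ⊗[R] FractionRing R) r) = algebraMap D DK (algebraMap R D r) := fun r => by
    rw [IsScalarTower.algebraMap_apply R A (A ⊗[R] FractionRing R), hΨ, φ.commutes]
  have hcf' : ∀ i, algebraMap A (A ⊗[R] FractionRing R) (g i) = algebraMap A (A ⊗[R] FractionRing R) (algebraMap R A c) * f i := fun i =>
    ((Algebra.smul_def (algebraMap R A c) (f i)).symm.trans ((algebraMap_smul A c (f i)).trans (hg i).symm)).symm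
  have hcf : ∀ i, algebraMap D DK (φ (g i)) = algebraMap D DK (algebraMap R D c) * Ψ (f i) := fun i => by
    rw [← hΨ, hcf', map_mul, hΨ, φ.commutes]
  set K := (Ideal.span (insert (algebraMap R A c) (Set.range g))).map φ with hK
  have hcK : algebraMap R D c ∈ K := by
    rw [hK, ← φ.commutes]
    exact Ideal.mem_map_of_mem _ (Ideal.subset_span (Set.mem_insert _ _))
  have hgK : ∀ i, φ (g i) ∈ K := fun i =>
    Ideal.mem_map_of_mem _ (Ideal.subset_span (Set.mem_insert_of_mem _ (Set.mem_range_self i)))
  have hfirst : K = Ideal.span {algebraMap R D c} := by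
    rcases hgen with h | ⟨i, h⟩
    · exact h
    obtain ⟨u, hu⟩ := Ideal.mem_span_singleton'.mp ((h ▸ hcK :) : algebraMap R D c ∈ Ideal.span {φ (g i)})
    suffices hu1 : IsUnit u by rw [h, ← hu, Ideal.span_singleton_mul_left_unit hu1]
    rcases subsingleton_or_nontrivial D with h0 | h0
    · exact isUnit_of_subsingleton u
    obtain ⟨p, hp, hpf⟩ := hf i
    have h1 := Polynomial.scaleRoots_eval₂_eq_zero (algebraMap A (A ⊗[R] FractionRing R)) (s := algebraMap R A c) hpf
    rw [← hcf', Polynomial.eval₂_at_apply] at h1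
    have h2 : φ ((p.scaleRoots (algebraMap R A c)).eval (g i)) = 0 :=
      hinjD (by rw [← hΨ, h1, map_zero, map_zero])
    set q := p.map φ.toRingHom
    have hq : q.Monic := hp.map _
    have h3 : ((q.scaleRoots u).scaleRoots (φ (g i))).eval (φ (g i) * 1) = 0 := by
      rw [← Polynomial.scaleRoots_mul, mul_one, hu, ← φ.commutes, ← h2]
      change _ = φ.toRingHom _
      rw [← Polynomial.eval_map_apply, Polynomial.map_scaleRoots _ _ _ (by simp [hp.leadingCoeff])]
      rfl
    rw [← Polynomial.eval₂_id] at h3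
    have h4 := (Polynomial.scaleRoots_eval₂_mul (RingHom.id D) (p := q.scaleRoots u) 1 (φ (g i))).symm.trans h3
    rw [RingHom.id_apply, Polynomial.eval₂_id] at h4
    have hd : ∀ (k : ℕ) x, φ (g i) ^ k * x = 0 → x = 0 := by
      intro k
      induction k with
      | zero => intro x hx; simpa using hx
      | succ k ih => exact fun x hx => hnzd hc x (by
          rw [← hu, mul_assoc, ih (φ (g i) * x) (by rw [← mul_assoc, ← pow_succ]; exact hx), mul_zero])
    have h5 := hd _ _ h4
    rw [Polynomial.eval_eq_sum_range, Polynomial.natDegree_scaleRoots, Finset.sum_range_succ] at h5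
    refine isUnit_of_dvd_one ?_
    have h6 : u ∣ ∑ x ∈ Finset.range q.natDegree, (q.scaleRoots u).coeff x * (1 : D) ^ x :=
      Finset.dvd_sum fun x hx => by
        rw [one_pow, mul_one, Polynomial.coeff_scaleRoots]
        exact Dvd.dvd.mul_left (dvd_pow_self u (by have := Finset.mem_range.mp hx; omega)) _
    rw [one_pow, mul_one, Polynomial.coeff_scaleRoots, hq.coeff_natDegree, Nat.sub_self, pow_zero,
      mul_one] at h5
    exact (dvd_add_right h6).mp (h5 ▸ dvd_zero u)
  refine ⟨hfirst, ?_⟩
  set A' := Algebra.adjoin A (Set.range f)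
  let ι : D →ₐ[R] DK := IsScalarTower.toAlgHom R D DK
  have hrange : ∀ x ∈ A', Ψ x ∈ ι.range := fun x hx => by
    induction hx using Algebra.adjoin_induction with
    | mem x hx =>
      obtain ⟨i, rfl⟩ := hx
      obtain ⟨e, he⟩ := Ideal.mem_span_singleton'.mp ((hfirst ▸ hgK i :) : φ (g i) ∈ _)
      refine ⟨e, (hunit hc).mul_left_cancel ?_⟩
      rw [← hcf, ← he, map_mul, mul_comm]
      rfl
    | algebraMap a => exact ⟨φ a, (hΨ a).symm⟩
    | add x y _ _ hx hy => rw [map_add]; exact add_mem hx hy
    | mul x y _ _ hx hy => rw [map_mul]; exact mul_mem hx hy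
  let ψ0 : A' →ₐ[R] DK :=
    { Ψ.comp A'.val.toRingHom with commutes' := fun r => hΨR r }
  let ψ : A' →ₐ[R] D := (AlgEquiv.ofInjective ι hinjD).symm.toAlgHom.comp
    (ψ0.codRestrict ι.range fun x => hrange x x.2)
  have hψ : ψ.comp (IsScalarTower.toAlgHom R A ↥A') = φ := by
    refine AlgHom.ext fun a => hinjD ?_
    refine (congrArg Subtype.val ((AlgEquiv.ofInjective ι hinjD).apply_symm_apply
      (ψ0.codRestrict ι.range (fun x => hrange x x.2) (algebraMap A A' a)))).trans ?_
    exact hΨ a
  refine ⟨ψ, hψ, fun ψ' hψ' => AlgHom.ext fun x => ?_⟩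
  obtain ⟨⟨b, s⟩, hs⟩ := IsLocalization.surj M (x : (A ⊗[R] FractionRing R))
  obtain ⟨a, ha, has⟩ := s.2
  have hx : algebraMap R A' a * x = algebraMap A A' b := Subtype.ext (by
    change algebraMap R (A ⊗[R] FractionRing R) a * x.1 = algebraMap A (A ⊗[R] FractionRing R) b
    rw [mul_comm, ← hs, ← has, IsScalarTower.algebraMap_apply R A (A ⊗[R] FractionRing R)])
  have h1 : ∀ χ : A' →ₐ[R] D, χ.comp (IsScalarTower.toAlgHom R A ↥A') = φ →
      algebraMap R D a * χ x = φ b := fun χ hχ => by
    rw [← χ.commutes, ← map_mul, hx]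
    exact AlgHom.congr_fun hχ b
  refine sub_eq_zero.mp (hnzd (mem_nonZeroDivisors_iff_ne_zero.mp ha) _ ?_)
  rw [mul_sub, h1 ψ' hψ', h1 ψ hψ, sub_self]

end Groth.Agent.S13353
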