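import Groth.Statements.S13354
import Groth.Agent.Frg27.RigLemmas

set_option autoImplicit false
universe u
open AdicRing

namespace Groth.Agent.S13354

/-- Let R be a complete valuation ring of height one with t a nonzero element generating an ideal of
definition, B an admissible R-algebra which is a local integral domain of Krull dimension one (the
algebra of a rig-point), and b_1, ..., b_n elements of B, not all zero. Then there is a B-subalgebra
B' of the field of fractions of B which is finite over B, is again a local ring of Krull dimension
one, and in which the ideal generated by b_1, ..., b_n is generated by one of the b_i alone (hence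
is invertible). (This is the algebraic step by which a rig-point is lifted along the formal
blowing-up of a finitely generated open ideal; the resulting bijection between rig-points of the
blowing-up and of the base is not stated here.) -/
theorem result
    (R : Type u) [CommRing R] [IsDomain R] [ValuationRing R] [Ring.KrullDimLE 1 R]
    (t : R) (ht : t ≠ 0) [IsAdicComplete (Ideal.span {t}) R]
    (B : Type u) [CommRing B] [Algebra R B] [IsDomain B] [IsLocalRing B]
    (hB : AdicRing.Admissible R (Ideal.span {t}) B) (hdim : ringKrullDim B = 1)
    (n : ℕ) (b : Fin n → B) (hb : ∃ i, b i ≠ 0) :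
    ∃ B' : Subalgebra B (FractionRing B), Module.Finite B ↥B' ∧ IsLocalRing ↥B' ∧ ringKrullDim ↥B' = 1 ∧
      ∃ i, Ideal.span (Set.range (fun j => algebraMap B ↥B' (b j))) =
        Ideal.span {algebraMap B ↥B' (b i)} := by
  classical
  have htB := Frg27.algebraMap_ne_zero_of_noPowTorsion hB.2
  haveI := Frg27.krullDimLE_one_of_eq hdim
  haveI : Module.Finite R B := Frg27.finite_of_krullDimLE_one ht (Frg27.tft_of_admissible hB) htB
  set L := FractionRing B
  have hinjR : Function.Injective (algebraMap R L) := by
    rw [IsScalarTower.algebraMap_eq R B L]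
    refine (IsFractionRing.injective B L).comp ((injective_iff_map_eq_zero (algebraMap R B)).mpr fun r hr => ?_)
    by_contra hr0
    exact one_ne_zero (α := B) (Frg27.eq_zero_of_smul ht (Frg27.smul_t_cancel_of_isDomain htB) hr0
      (by rw [Algebra.smul_def, hr, zero_mul]))
  have halg : ∀ c : B, IsAlgebraic R (algebraMap B L c) := fun c =>
    ((IsIntegral.of_finite R c).map (IsScalarTower.toAlgHom R B L)).isAlgebraic
  -- an element of largest absolute value
  obtain ⟨i, hi0, hi⟩ : ∃ i, b i ≠ 0 ∧ ∀ j, IsIntegral R (algebraMap B L (b j) / algebraMap B L (b i)) := by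
    obtain ⟨i₀, hi₀⟩ := hb
    suffices H : ∀ s : Finset (Fin n), ∃ i, b i ≠ 0 ∧
        ∀ j ∈ s, IsIntegral R (algebraMap B L (b j) / algebraMap B L (b i)) by
      obtain ⟨i, hi, h⟩ := H Finset.univ
      exact ⟨i, hi, fun j => h j (Finset.mem_univ j)⟩
    intro s
    induction s using Finset.induction with
    | empty => exact ⟨i₀, hi₀, fun j hj => absurd hj (Finset.notMem_empty j)⟩
    | insert j s _ ih =>
      obtain ⟨i, hi, h⟩ := ih
      have hiL : algebraMap B L (b i) ≠ 0 := fun h0 =>
        hi (IsFractionRing.injective B L (h0.trans (map_zero _).symm))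
      rcases Frg27.isIntegral_or_inv ht hinjR
          (by rw [div_eq_mul_inv]; exact (halg (b j)).mul (halg (b i)).inv :
            IsAlgebraic R (algebraMap B L (b j) / algebraMap B L (b i))) with h1 | h1
      · exact ⟨i, hi, fun l hl => (Finset.mem_insert.mp hl).elim (fun e => e ▸ h1) (h l)⟩
      · by_cases hj : b j = 0
        · exact ⟨i, hi, fun l hl => (Finset.mem_insert.mp hl).elim
            (fun e => by rw [e, hj, map_zero, zero_div]; exact isIntegral_zero) (h l)⟩
        have hjL : algebraMap B L (b j) ≠ 0 := fun h0 =>
          hj (IsFractionRing.injective B L (h0.trans (map_zero _).symm))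
        refine ⟨j, hj, fun l hl => (Finset.mem_insert.mp hl).elim
          (fun e => by rw [e, div_self hjL]; exact isIntegral_one) fun hl => ?_⟩
        rw [← div_mul_div_cancel₀ hiL]
        rw [inv_div] at h1
        exact (h l hl).mul h1
  set S : Set L := Set.range fun j => algebraMap B L (b j) / algebraMap B L (b i) with hS
  haveI hfin : Module.Finite B (Algebra.adjoin B S) := Module.Finite.iff_fg.mpr
    (fg_adjoin_of_finite (Set.finite_range _) (by rintro - ⟨j, rfl⟩; exact (hi j).tower_top))
  haveI : Module.Finite R (Algebra.adjoin B S) := Module.Finite.trans B _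
  have htB' : algebraMap R (Algebra.adjoin B S) t ≠ 0 := fun h => ht (hinjR (by
    rw [map_zero]; exact congrArg Subtype.val h))
  refine ⟨Algebra.adjoin B S, hfin, Frg27.isLocalRing_of_finite (R := R) ht,
    Frg27.ringKrullDim_eq_one_of_finite ht htB', i, le_antisymm (Ideal.span_le.mpr ?_) ?_⟩
  · rintro - ⟨j, rfl⟩
    refine Ideal.mem_span_singleton'.mpr ⟨⟨_, Algebra.subset_adjoin ⟨j, rfl⟩⟩, Subtype.ext ?_⟩
    exact div_mul_cancel₀ _ fun h0 => hi0 (IsFractionRing.injective B L (h0.trans (map_zero _).symm))
  · exact Ideal.span_mono (Set.singleton_subset_iff.mpr ⟨i, rfl⟩)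

end Groth.Agent.S13354
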