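import Groth.Statements.S13356
import Groth.Agent.Zeta95.PS

set_option autoImplicit false
universe u
open GaDual

namespace Groth.Agent.S13356

/-- Over a commutative algebra A over the rationals, the polynomials f with f(0) = 1 and f(X+Y) =
f(X)f(Y) (the characters of the additive group into the multiplicative group over A) are exactly the
polynomials exp(aX) with a in A nilpotent. -/
theorem result (A : Type u) [CommRing A] [Algebra ℚ A] (f : Polynomial A) :
    (f.eval 0 = 1 ∧
      Polynomial.aeval (MvPolynomial.X 0 + MvPolynomial.X 1 : MvPolynomial (Fin 2) A) f =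
        Polynomial.aeval (MvPolynomial.X 0 : MvPolynomial (Fin 2) A) f *
          Polynomial.aeval (MvPolynomial.X 1 : MvPolynomial (Fin 2) A) f) ↔
      ∃ a : A, IsNilpotent a ∧ (f : PowerSeries A) = PowerSeries.rescale a (PowerSeries.exp A) := by
  have hX : ∀ k : Fin 2, PowerSeries.HasSubst (MvPowerSeries.X k : MvPowerSeries (Fin 2) A) := fun k => PowerSeries.HasSubst.X k
  have hadd : PowerSeries.HasSubst (MvPowerSeries.X 0 + MvPowerSeries.X 1 : MvPowerSeries (Fin 2) A) :=
    PowerSeries.HasSubst.of_constantCoeff_zero (by simp)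
  let φ : MvPolynomial (Fin 2) A →ₐ[A] MvPowerSeries (Fin 2) A := MvPolynomial.coeToMvPowerSeries.algHom A
  have hinj : Function.Injective φ := fun p q h => MvPolynomial.coe_injective _ _ (by simpa [φ] using h)
  have hφX : ∀ k, φ (MvPolynomial.X k) = MvPowerSeries.X k := fun k => by simp [φ]
  have key : (Polynomial.aeval (MvPolynomial.X 0 + MvPolynomial.X 1 : MvPolynomial (Fin 2) A) f =
        Polynomial.aeval (MvPolynomial.X 0 : MvPolynomial (Fin 2) A) f *
          Polynomial.aeval (MvPolynomial.X 1 : MvPolynomial (Fin 2) A) f) ↔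
      PowerSeries.subst (MvPowerSeries.X 0 + MvPowerSeries.X 1 : MvPowerSeries (Fin 2) A) (f : PowerSeries A) =
        PowerSeries.subst (MvPowerSeries.X 0 : MvPowerSeries (Fin 2) A) (f : PowerSeries A) *
          PowerSeries.subst (MvPowerSeries.X 1 : MvPowerSeries (Fin 2) A) (f : PowerSeries A) := by
    rw [← hinj.eq_iff, map_mul, ← Polynomial.aeval_algHom_apply, ← Polynomial.aeval_algHom_apply,
      ← Polynomial.aeval_algHom_apply, map_add, hφX, hφX, PowerSeries.subst_coe hadd, PowerSeries.subst_coe (hX 0),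
      PowerSeries.subst_coe (hX 1)]
  rw [key, Zeta95.subst_add_eq_mul_iff, show f.eval 0 = PowerSeries.constantCoeff (f : PowerSeries A) by
    rw [Polynomial.constantCoeff_coe, Polynomial.coeff_zero_eq_eval_zero], Zeta95.char_iff]
  refine ⟨fun ⟨a, ha⟩ => ⟨a, ⟨f.natDegree + 1, ?_⟩, ha⟩, fun ⟨a, _, ha⟩ => ⟨a, ha⟩⟩
  have h1 := congrArg (PowerSeries.coeff (f.natDegree + 1)) ha
  rw [Polynomial.coeff_coe, Polynomial.coeff_eq_zero_of_natDegree_lt (Nat.lt_succ_self _), PowerSeries.coeff_rescale,
    PowerSeries.coeff_exp] at h1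
  have h2 : IsUnit (algebraMap ℚ A (1 / (f.natDegree + 1).factorial)) :=
    (IsUnit.mk0 _ (one_div_ne_zero (Nat.cast_ne_zero.mpr (Nat.factorial_ne_zero _)))).map _
  exact h2.mul_left_eq_zero.mp h1.symm

end Groth.Agent.S13356
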