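import Groth.Statements.S13361
import Groth.Agent.PC28.Basic
-- import your own Groth.Agent.* helpers here

set_option autoImplicit false
universe u
open ProCompl

namespace Groth.Agent.S13361

/-- A finite abelian group with a nonzero element contained in every nonzero subgroup is isomorphic to a
cyclic group of prime-power order Z/p^n. -/
theorem result {A : Type u} [AddCommGroup A] [Finite A]
    (a : A) (ha : a ≠ 0) (h : ∀ B : AddSubgroup A, B ≠ ⊥ → a ∈ B) :
    ∃ p n : ℕ, p.Prime ∧ Nonempty (A ≃+ ZMod (p ^ n)) := by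
  classical
  obtain ⟨ι, _, q, hq, e, ⟨f⟩⟩ := AddCommGroup.equiv_directSum_zmod_of_finite A
  have huniq : ∀ i j : ι, e i ≠ 0 → e j ≠ 0 → i = j := by
    intro i j hi hj
    by_contra hij
    have hne : ∀ k, e k ≠ 0 → (f.symm.toAddMonoidHom.comp
        (DirectSum.of (fun i => ZMod (q i ^ e i)) k)).range ≠ ⊥ := by
      intro k hk hb
      have : Fact (1 < q k ^ e k) := ⟨Nat.one_lt_pow hk (hq k).one_lt⟩
      have h1 : f.symm (DirectSum.of (fun i => ZMod (q i ^ e i)) k 1) = 0 := by
        rw [← AddSubgroup.mem_bot, ← hb]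
        exact ⟨1, rfl⟩
      rw [map_eq_zero_iff _ f.symm.injective] at h1
      exact one_ne_zero (DirectSum.of_injective k (h1.trans (map_zero _).symm))
    obtain ⟨x, hx⟩ := h _ (hne i hi)
    obtain ⟨y, hy⟩ := h _ (hne j hj)
    have hxy : DirectSum.of (fun i => ZMod (q i ^ e i)) i x =
        DirectSum.of (fun i => ZMod (q i ^ e i)) j y := f.symm.injective (hx.trans hy.symm)
    have hx0 := congrArg (fun z => z i) hxy
    simp only [DirectSum.of_eq_same, DirectSum.of_eq_of_ne _ _ _ hij] at hx0
    exact ha (by rw [← hx, hx0, map_zero])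
  have hex : ∃ i, e i ≠ 0 := by
    by_contra hc
    simp only [not_exists, not_not] at hc
    have : ∀ i, Subsingleton (ZMod (q i ^ e i)) := fun i => by
      rw [hc i, pow_zero]
      infer_instance
    exact ha (f.injective (DFinsupp.ext fun i => Subsingleton.elim _ _))
  obtain ⟨i₀, hi₀⟩ := hex
  let g : A →+ ZMod (q i₀ ^ e i₀) :=
    { toFun := fun z => f z i₀, map_zero' := by simp, map_add' := fun x y => by simp }
  refine ⟨q i₀, e i₀, hq i₀, ⟨AddEquiv.ofBijective g
    ⟨fun x y hxy => ?_, fun z => ⟨f.symm (DirectSum.of (fun i => ZMod (q i ^ e i)) i₀ z), by simp [g]⟩⟩⟩⟩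
  apply f.injective
  refine DFinsupp.ext fun i => ?_
  by_cases hi : e i = 0
  · have : Subsingleton (ZMod (q i ^ e i)) := by rw [hi, pow_zero]; infer_instance
    exact Subsingleton.elim _ _
  · obtain rfl := huniq i i₀ hi hi₀
    exact hxy

end Groth.Agent.S13361
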