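import Groth.Statements.S13365
import Groth.Agent.PC28.Basic
-- import your own Groth.Agent.* helpers here

set_option autoImplicit false
universe u
open ProCompl

namespace Groth.Agent.S13365

/-- The quotient of a profinite (compact, Hausdorff, totally disconnected) abelian topological group by
a compact subgroup is profinite. -/
theorem result {A : Type u} [AddCommGroup A] [TopologicalSpace A]
    [IsTopologicalAddGroup A] [CompactSpace A] [T2Space A] [TotallyDisconnectedSpace A]
    (B : AddSubgroup A) (hB : IsCompact (B : Set A)) :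
    CompactSpace (A ⧸ B) ∧ T2Space (A ⧸ B) ∧ TotallyDisconnectedSpace (A ⧸ B) := by
  have hBc : IsClosed (B : Set A) := hB.isClosed
  haveI : IsClosed (B : Set A) := hBc
  refine ⟨inferInstance, inferInstance, ?_⟩
  haveI : TotallySeparatedSpace (A ⧸ B) := by
    refine totallySeparatedSpace_iff_exists_isClopen.2 fun x y hxy => ?_
    obtain ⟨a, rfl⟩ := QuotientAddGroup.mk_surjective x
    obtain ⟨b, rfl⟩ := QuotientAddGroup.mk_surjective y
    have hab : a - b ∉ B := fun h => hxy (QuotientAddGroup.eq_iff_sub_mem.2 h)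
    have h0 : (fun z => a - b - z) ⁻¹' (B : Set A)ᶜ ∈ nhds (0 : A) := by
      apply (continuous_const.sub continuous_id).continuousAt.preimage_mem_nhds
      simpa using hBc.isOpen_compl.mem_nhds hab
    obtain ⟨V, hV, hVs⟩ := PC28.exists_open_subgroup h0
    have hVo : IsOpen ((V.map (QuotientAddGroup.mk' B) : AddSubgroup (A ⧸ B)) : Set (A ⧸ B)) :=
      QuotientAddGroup.isOpenMap_coe _ hV
    have hVcl := AddSubgroup.isClosed_of_isOpen _ hVo
    refine ⟨(fun z => (a : A ⧸ B) - z) ⁻¹'
      ((V.map (QuotientAddGroup.mk' B) : AddSubgroup (A ⧸ B)) : Set (A ⧸ B)),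
      ⟨hVcl.preimage (continuous_const.sub continuous_id),
        hVo.preimage (continuous_const.sub continuous_id)⟩, ?_, ?_⟩
    · show (a : A ⧸ B) - (a : A ⧸ B) ∈ V.map (QuotientAddGroup.mk' B)
      rw [sub_self]
      exact zero_mem _
    · intro hmem
      obtain ⟨v, hv, hvab⟩ := hmem
      apply hVs hv
      show a - b - v ∈ B
      exact QuotientAddGroup.eq_iff_sub_mem.1 hvab.symm
  infer_instance

end Groth.Agent.S13365
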