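import Groth.Statements.S13366
import Groth.Agent.CAlg24.SemilinearHensel
-- import your own Groth.Agent.* helpers here

set_option autoImplicit false
universe u v
open FrobMod

namespace Groth.Agent.S13366

/-- Over a strictly Henselian local ring R of prime characteristic p (Henselian, separably closed
residue field), let M be a free module of finite rank n and T an additive Frobenius-semilinear
self-map of M (T(rm) = r^p T(m)) whose values generate M as an R-module; for a basis (e_i) this says
that the matrix of coefficients of the elements T(e_i) is invertible. Then the map T − 1 is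
surjective and its kernel has cardinality p^n. (The published statement calls T a
Frobenius-semilinear isomorphism; this row asks only that the values of T generate M over R, which
is the property of T the published proof uses. Requiring T itself to be bijective would, for M ≠ 0,
force the Frobenius of R to be surjective.) -/
theorem result (p : ℕ) [Fact p.Prime] {R : Type u} [CommRing R]
    [HenselianLocalRing R] [IsSepClosed (IsLocalRing.ResidueField R)] [CharP R p]
    {M : Type v} [AddCommGroup M] [Module R M] [Module.Free R M] [Module.Finite R M]
    (T : M →+ M) (hT : ∀ (r : R) (m : M), T (r • m) = r ^ p • T m)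
    (hspan : Submodule.span R (Set.range T) = ⊤) :
    Function.Surjective (fun m => T m - m) ∧ Nat.card {m : M // T m = m} = p ^ Module.finrank R M := by
  classical
  set n := Module.finrank R M
  let b := Module.finBasis R M
  let e := b.equivFun
  let a : Matrix (Fin n) (Fin n) R := Matrix.of fun i j => e (T (b j)) i
  have hTa : ∀ m, e (T m) = Groth.Agent.CAlg24.sigmaMap p a (e m) := by
    intro m
    conv_lhs => rw [← b.sum_equivFun m, map_sum]
    simp only [hT, map_sum, map_smul]
    funext i
    simp [Groth.Agent.CAlg24.sigmaMap, a, Matrix.mulVec, dotProduct, Finset.sum_apply, mul_comm, e]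
    rfl
  have ha : IsUnit a.det := by
    rw [← Matrix.isUnit_iff_isUnit_det, ← Matrix.mulVec_surjective_iff_isUnit]
    intro z
    have hz : e.symm z ∈ Submodule.span R (Set.range T) := hspan ▸ Submodule.mem_top
    have hle : Submodule.span R (Set.range T) ≤ (LinearMap.range a.mulVecLin).comap e.toLinearMap := by
      rw [Submodule.span_le]
      rintro _ ⟨m, rfl⟩
      exact ⟨fun j => e m j ^ p, (hTa m).symm⟩
    obtain ⟨w, hw⟩ := hle hz
    exact ⟨w, by simpa using hw⟩
  obtain ⟨h1, h2⟩ := Groth.Agent.CAlg24.main p a ha
  refine ⟨fun m => ?_, ?_⟩
  · obtain ⟨x, hx⟩ := h1 (e m)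
    exact ⟨e.symm x, e.injective (by rw [map_sub, hTa, LinearEquiv.apply_symm_apply, hx])⟩
  · rw [← h2]
    refine Nat.card_congr (Equiv.subtypeEquiv e.toEquiv fun m => ?_)
    show T m = m ↔ Groth.Agent.CAlg24.sigmaMap p a (e m) = e m
    rw [← hTa, e.injective.eq_iff]

end Groth.Agent.S13366
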