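import Groth.Statements.S13368
import Mathlib.RingTheory.Kaehler.Basic
import Mathlib.RingTheory.DiscreteValuationRing.Basic
import Mathlib.Algebra.CharP.Algebra
import Mathlib.Algebra.CharP.Lemmas
import Mathlib.LinearAlgebra.FiniteDimensional.Lemmas
import Mathlib.RingTheory.Localization.FractionRing

set_option autoImplicit false
universe u
open GaDual

namespace Groth.Agent.S13368

theorem dvd_coeff {p : ℕ} [Fact p.Prime] {R : Type u} [CommRing R] [IsDomain R] {π : R} (hπ : Prime π)
    (c : Fin p → R) (h : π ^ p ∣ ∑ i : Fin p, π ^ (i : ℕ) * c i ^ p) (i : Fin p) : π ∣ c i := by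
  induction i using WellFoundedLT.induction with
  | ind i ih =>
    have hrest : π ^ ((i : ℕ) + 1) ∣ ∑ j ∈ Finset.univ.erase i, π ^ (j : ℕ) * c j ^ p := by
      refine Finset.dvd_sum fun j hj => ?_
      rcases lt_or_gt_of_ne (Finset.ne_of_mem_erase hj) with hlt | hgt
      · obtain ⟨e, he⟩ := ih j hlt
        refine (pow_dvd_pow π (Nat.succ_le_of_lt i.2)).trans ⟨π ^ (j : ℕ) * e ^ p, ?_⟩
        rw [he, mul_pow]; ring
      · exact dvd_mul_of_dvd_left (pow_dvd_pow π (Nat.succ_le_of_lt hgt)) _
    have hall : π ^ ((i : ℕ) + 1) ∣ ∑ j : Fin p, π ^ (j : ℕ) * c j ^ p :=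
      (pow_dvd_pow π (Nat.succ_le_of_lt i.2)).trans h
    rw [← Finset.add_sum_erase _ _ (Finset.mem_univ i)] at hall
    have h1 : π ^ ((i : ℕ) + 1) ∣ π ^ (i : ℕ) * c i ^ p := (dvd_add_left hrest).mp hall
    rw [pow_succ, mul_dvd_mul_iff_left (pow_ne_zero _ hπ.ne_zero)] at h1
    exact hπ.dvd_of_dvd_pow h1

theorem coeff_eq_zero {p : ℕ} [Fact p.Prime] {R : Type u} [CommRing R] [IsDomain R]
    [IsDiscreteValuationRing R] {π : R} (hπ : Irreducible π)
    (c : Fin p → R) (h : ∑ i : Fin p, π ^ (i : ℕ) * c i ^ p = 0) (i : Fin p) : c i = 0 := by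
  have key : ∀ (m : ℕ) (c : Fin p → R), ∑ i : Fin p, π ^ (i : ℕ) * c i ^ p = 0 → ∀ i, π ^ m ∣ c i := by
    intro m
    induction m with
    | zero => simp
    | succ m ih =>
      intro c hc i
      choose e he using dvd_coeff hπ.prime c (by rw [hc]; exact dvd_zero _)
      have h2 : ∑ i : Fin p, π ^ (i : ℕ) * e i ^ p = 0 := by
        refine (mul_eq_zero.mp (?_ : π ^ p * _ = 0)).resolve_left (pow_ne_zero _ hπ.ne_zero)
        rw [← hc, Finset.mul_sum]
        exact Finset.sum_congr rfl fun j _ => by rw [he j, mul_pow]; ring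
      rw [he i, pow_succ']
      exact mul_dvd_mul_left π (ih e h2 i)
  by_contra hne
  obtain ⟨m, w, hw⟩ := IsDiscreteValuationRing.eq_unit_mul_pow_irreducible hne hπ
  have h3 := key (m + 1) c h i
  rw [hw, (w.isUnit.dvd_mul_left), pow_succ] at h3
  exact hπ.not_isUnit (isUnit_of_dvd_one ((mul_dvd_mul_iff_left (pow_ne_zero m hπ.ne_zero)).mp
    (by rwa [mul_one])))

/-- Let R be a discrete valuation ring of prime characteristic p whose fraction field k has degree p
over its subfield k^p of p-th powers, and π a uniformizer. Then every element of R is, in a unique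
way, a sum of π^i c_i^p over 0 ≤ i < p with c_i in R, and the Kähler differentials of R (absolute,
i.e. over the integers, equivalently over the prime field) form a free module of rank one generated
by dπ. -/
theorem result (p : ℕ) [Fact p.Prime] {R : Type u} [CommRing R]
    [IsDomain R] [IsDiscreteValuationRing R] [CharP R p]
    (kp : Subfield (FractionRing R)) (hkp : ∀ x : FractionRing R, x ∈ kp ↔ ∃ y : FractionRing R, y ^ p = x)
    (hdeg : Module.finrank kp (FractionRing R) = p)
    (π : R) (hπ : Irreducible π) :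
    (∀ r : R, ∃! c : Fin p → R, r = ∑ i : Fin p, π ^ (i : ℕ) * c i ^ p) ∧
      Function.Bijective (fun r : R => r • KaehlerDifferential.D ℤ R π) := by
  classical
  let K := FractionRing R
  haveI : CharP K p := charP_of_injective_algebraMap (IsFractionRing.injective R K) p
  haveI : ExpChar R p := ExpChar.prime (Fact.out : p.Prime)
  have hadd : ∀ c d : Fin p → R, ∑ i : Fin p, π ^ (i : ℕ) * (c i + d i) ^ p =
      (∑ i : Fin p, π ^ (i : ℕ) * c i ^ p) + ∑ i : Fin p, π ^ (i : ℕ) * d i ^ p := fun c d => by
    rw [← Finset.sum_add_distrib]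
    exact Finset.sum_congr rfl fun i _ => by rw [add_pow_char, mul_add]
  have huniq : ∀ c d : Fin p → R, ∑ i : Fin p, π ^ (i : ℕ) * c i ^ p = ∑ i : Fin p, π ^ (i : ℕ) * d i ^ p → c = d := by
    intro c d h
    funext i
    refine sub_eq_zero.mp (coeff_eq_zero hπ (fun j => c j - d j) ?_ i)
    simp only [sub_pow_char, mul_sub, Finset.sum_sub_distrib, h, sub_self]
  have hex : ∀ r : R, ∃ c : Fin p → R, r = ∑ i : Fin p, π ^ (i : ℕ) * c i ^ p := by
    let f : Fin p → K := fun i => algebraMap R K π ^ (i : ℕ)
    have hli : LinearIndependent kp f := by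
      rw [Fintype.linearIndependent_iff]
      intro g hg
      choose y hy using fun i => (hkp (g i)).mp (g i).2
      obtain ⟨s, hs⟩ := IsLocalization.exist_integer_multiples (nonZeroDivisors R) Finset.univ y
      choose c hc using fun i => hs i (Finset.mem_univ i)
      have h0 : ∑ i : Fin p, π ^ (i : ℕ) * c i ^ p = 0 := by
        apply IsFractionRing.injective R K
        rw [map_sum, map_zero]
        calc ∑ i : Fin p, algebraMap R K (π ^ (i : ℕ) * c i ^ p)
            = algebraMap R K (s : R) ^ p * ∑ i : Fin p, g i • f i := by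
              rw [Finset.mul_sum]
              refine Finset.sum_congr rfl fun i _ => ?_
              rw [map_mul, map_pow, map_pow, hc i, show (s : R) • y i = algebraMap R K s * y i from Algebra.smul_def _ _, mul_pow, Subfield.smul_def, smul_eq_mul, hy i]
              ring
          _ = 0 := by rw [hg, mul_zero]
      intro i
      have hci := coeff_eq_zero hπ c h0 i
      have hyi : y i = 0 := by
        have := hc i
        rw [hci, map_zero, Algebra.smul_def] at this
        exact (mul_eq_zero.mp this.symm).resolve_left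
          (IsFractionRing.to_map_ne_zero_of_mem_nonZeroDivisors s.2)
      exact Subtype.ext (by rw [← hy i, hyi, zero_pow (Fact.out : p.Prime).ne_zero]; rfl)
    have hspan : Submodule.span kp (Set.range f) = ⊤ := by
      haveI : Nonempty (Fin p) := ⟨⟨0, (Fact.out : p.Prime).pos⟩⟩
      exact hli.span_eq_top_of_card_eq_finrank (by rw [Fintype.card_fin, hdeg])
    intro r
    obtain ⟨g, hg⟩ := (Submodule.mem_span_range_iff_exists_fun kp).mp
      (hspan ▸ Submodule.mem_top : algebraMap R K r ∈ Submodule.span kp (Set.range f))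
    choose y hy using fun i => (hkp (g i)).mp (g i).2
    obtain ⟨s, hs⟩ := IsLocalization.exist_integer_multiples (nonZeroDivisors R) Finset.univ y
    choose c hc using fun i => hs i (Finset.mem_univ i)
    have h0 : (s : R) ^ p * r = ∑ i : Fin p, π ^ (i : ℕ) * c i ^ p := by
      apply IsFractionRing.injective R K
      rw [map_mul, map_pow, map_sum, ← hg, Finset.mul_sum]
      refine Finset.sum_congr rfl fun i _ => ?_
      rw [map_mul, map_pow, map_pow, hc i, show (s : R) • y i = algebraMap R K s * y i from Algebra.smul_def _ _, mul_pow, Subfield.smul_def, smul_eq_mul, hy i]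
      ring
    obtain ⟨N, w, hw⟩ := IsDiscreteValuationRing.eq_unit_mul_pow_irreducible (nonZeroDivisors.ne_zero s.2) hπ
    have h1 : ∀ (N : ℕ) (c : Fin p → R), (π ^ N) ^ p * r = ∑ i : Fin p, π ^ (i : ℕ) * c i ^ p →
        ∃ d : Fin p → R, r = ∑ i : Fin p, π ^ (i : ℕ) * d i ^ p := by
      intro N
      induction N with
      | zero => intro c hc; exact ⟨c, by rw [← hc]; simp⟩
      | succ N ih =>
        intro c hc
        choose e he using dvd_coeff hπ.prime c (hc ▸ ⟨(π ^ N) ^ p * r, by rw [pow_succ, mul_pow]; ring⟩)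
        refine ih e (mul_left_cancel₀ (pow_ne_zero p hπ.ne_zero) ?_)
        rw [Finset.mul_sum, ← mul_assoc, ← mul_pow, ← pow_succ', hc]
        exact Finset.sum_congr rfl fun j _ => by rw [he j, mul_pow]; ring
    refine h1 N (fun i => (↑w⁻¹ : R) * c i) ?_
    calc (π ^ N) ^ p * r = (↑w⁻¹ : R) ^ p * ((s : R) ^ p * r) := by
          rw [hw, mul_pow (↑w : R), ← mul_assoc, ← mul_assoc, ← mul_pow, Units.inv_mul, one_pow, one_mul]
      _ = _ := by
          rw [h0, Finset.mul_sum]
          exact Finset.sum_congr rfl fun i _ => by rw [mul_pow]; ring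
  refine ⟨fun r => ?_, ?_, ?_⟩
  · obtain ⟨c, hc⟩ := hex r
    exact ⟨c, hc, fun d hd => huniq d c (hd.symm.trans hc)⟩
  · -- injectivity: the derivation with `π ↦ 1`
    choose co hco using hex
    let e : ℕ → R := fun m => (m : R) * π ^ (m - 1)
    let δ₀ : R → R := fun r => ∑ i : Fin p, e i * co r i ^ p
    have hco' : ∀ (r : R) (c : Fin p → R), r = ∑ i : Fin p, π ^ (i : ℕ) * c i ^ p → co r = c :=
      fun r c h => huniq _ _ ((hco r).symm.trans h)
    have hδadd : ∀ r s : R, δ₀ (r + s) = δ₀ r + δ₀ s := fun r s => by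
      have h : co (r + s) = fun i => co r i + co s i := hco' _ _ (by rw [hadd, ← hco, ← hco])
      simp only [δ₀, h, add_pow_char, mul_add, Finset.sum_add_distrib]
    have hδsmul : ∀ c r : R, δ₀ (c ^ p * r) = c ^ p * δ₀ r := fun c r => by
      have h : co (c ^ p * r) = fun i => c * co r i := hco' _ _ (by
        conv_lhs => rw [hco r, Finset.mul_sum]
        exact Finset.sum_congr rfl fun i _ => by rw [mul_pow]; ring)
      simp only [δ₀, h, Finset.mul_sum]
      exact Finset.sum_congr rfl fun i _ => by rw [mul_pow]; ring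
    let δA : R →+ R := AddMonoidHom.mk' δ₀ hδadd
    have hpow : ∀ m, m < p → δ₀ (π ^ m) = e m := fun m hm => by
      have h : co (π ^ m) = fun i => if i = ⟨m, hm⟩ then 1 else 0 := hco' _ _ (by
        simp [zero_pow (Fact.out : p.Prime).ne_zero, Finset.sum_ite_eq', ite_pow])
      simp [δ₀, h, zero_pow (Fact.out : p.Prime).ne_zero, Finset.sum_ite_eq', ite_pow]
    have hpow2 : ∀ m, m < 2 * p → δ₀ (π ^ m) = e m := fun m hm => by
      by_cases hmp : m < p
      · exact hpow m hmp
      · obtain ⟨j, rfl⟩ := Nat.exists_eq_add_of_le (le_of_not_gt hmp)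
        rw [pow_add, hδsmul, hpow j (by omega)]
        simp only [e, Nat.cast_add, CharP.cast_eq_zero R p, zero_add]
        rcases j.eq_zero_or_pos with rfl | hj
        · simp
        · rw [show p + j - 1 = p + (j - 1) by omega, pow_add]; ring
    have hleib : ∀ r s : R, δ₀ (r * s) = r * δ₀ s + s * δ₀ r := fun r s => by
      have hL : r * s = ∑ i : Fin p, ∑ j : Fin p, (co r i * co s j) ^ p * π ^ ((i : ℕ) + j) := by
        conv_lhs => rw [hco r, hco s, Finset.sum_mul_sum]
        exact Finset.sum_congr rfl fun i _ => Finset.sum_congr rfl fun j _ => by rw [mul_pow, pow_add]; ring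
      have hR : δ₀ (r * s) = ∑ i : Fin p, ∑ j : Fin p, (co r i * co s j) ^ p * e ((i : ℕ) + j) := by
        rw [hL]
        show δA _ = _
        rw [map_sum]
        refine Finset.sum_congr rfl fun i _ => ?_
        rw [map_sum]
        refine Finset.sum_congr rfl fun j _ => ?_
        show δ₀ _ = _
        rw [hδsmul, hpow2 _ (by omega)]
      have h1 : r * δ₀ s = ∑ i : Fin p, ∑ j : Fin p, π ^ (i : ℕ) * co r i ^ p * (e j * co s j ^ p) := by
        rw [← Finset.sum_mul_sum, ← hco r]
      have h2 : s * δ₀ r = ∑ i : Fin p, ∑ j : Fin p, π ^ (j : ℕ) * co s j ^ p * (e i * co r i ^ p) := by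
        rw [Finset.sum_comm, ← Finset.sum_mul_sum, ← hco s]
      rw [hR, h1, h2, ← Finset.sum_add_distrib]
      refine Finset.sum_congr rfl fun i _ => ?_
      rw [← Finset.sum_add_distrib]
      refine Finset.sum_congr rfl fun j _ => ?_
      have he : ∀ a b : ℕ, e (a + b) = π ^ a * e b + π ^ b * e a := by
        intro a b
        rcases a with _ | a
        · simp [e]
        rcases b with _ | b
        · simp [e]
        simp only [e]
        rw [show a + 1 + (b + 1) - 1 = a + b + 1 by omega, Nat.add_sub_cancel, Nat.add_sub_cancel]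
        push_cast
        ring
      rw [he, mul_pow]
      ring
    let δ : Derivation ℤ R R := Derivation.mk' δA.toIntLinearMap hleib
    have hδπ : δ π = 1 := by
      have := hpow 1 (Fact.out : p.Prime).one_lt
      show δ₀ π = 1
      simpa [e] using this
    intro a b hab
    have := congrArg δ.liftKaehlerDifferential hab
    simpa [hδπ] using this
  · -- surjectivity
    choose co hco using hex
    intro ω
    have hω : ω ∈ LinearMap.range (LinearMap.toSpanSingleton R _ (KaehlerDifferential.D ℤ R π)) := by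
      refine (show (⊤ : Submodule R _) ≤ _ from ?_) (Submodule.mem_top (x := ω))
      rw [← KaehlerDifferential.span_range_derivation, Submodule.span_le]
      rintro _ ⟨r, rfl⟩
      rw [hco r, map_sum]
      refine Submodule.sum_mem _ fun i _ => ?_
      refine ⟨co r i ^ p * ((i : ℕ) * π ^ ((i : ℕ) - 1)), ?_⟩
      rw [LinearMap.toSpanSingleton_apply, Derivation.leibniz, Derivation.leibniz_pow, Derivation.leibniz_pow]
      rw [← Nat.cast_smul_eq_nsmul R p, CharP.cast_eq_zero R p, zero_smul, smul_zero, zero_add,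
        ← Nat.cast_smul_eq_nsmul R, smul_smul, smul_smul]
      congr 1
      ring
    exact hω

end Groth.Agent.S13368
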