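import Groth.Statements.S13369
import Groth.Agent.S2148
import Mathlib.RingTheory.Localization.FractionRing
import Mathlib.FieldTheory.Perfect
import Mathlib.Algebra.Field.ULift
import Mathlib.Algebra.Field.ZMod
import Mathlib.Algebra.CharP.Algebra
import Mathlib.RingTheory.IntegralClosure.IntegrallyClosed

set_option autoImplicit false
universe u
open GaDual

namespace Groth.Agent.S13369

/-- For a normal Noetherian domain A of prime characteristic p, an element whose differential vanishes
in the absolute Kähler differentials of A is a p-th power; that is, the sequence F : A → A, d : A →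
Ω_A (F the Frobenius) is exact at the middle term. (The published statement is for normal locally
Noetherian schemes of characteristic p; this row is the case of the spectrum of a normal Noetherian
domain.) -/
theorem result (p : ℕ) [Fact p.Prime] {A : Type u} [CommRing A] [IsDomain A]
    [IsNoetherianRing A] [IsIntegrallyClosed A] [CharP A p] (s : A) (hs : KaehlerDifferential.D ℤ A s = 0) :
    ∃ f : A, f ^ p = s := by
  have : CharP (FractionRing A) p := charP_of_injective_algebraMap (IsFractionRing.injective A (FractionRing A)) p
  let K := FractionRing A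
  let _ : Algebra (ULift.{u} (ZMod p)) K := ((ZMod.castHom dvd_rfl K).comp ULift.ringEquiv.toRingHom).toAlgebra
  have : CharP (ULift.{u} (ZMod p)) p := charP_of_injective_ringHom (f := (ULift.ringEquiv.symm : ZMod p ≃+* ULift.{u} (ZMod p)).toRingHom) (RingEquiv.injective _) p
  have : PerfectRing (ULift.{u} (ZMod p)) p := inferInstance
  let _ : Module A Ω[K⁄ULift.{u} (ZMod p)] := Module.compHom _ (algebraMap A K)
  let d : Derivation ℤ A Ω[K⁄ULift.{u} (ZMod p)] := Derivation.mk'
    (((KaehlerDifferential.D (ULift.{u} (ZMod p)) K).toLinearMap.toAddMonoidHom.comp (algebraMap A K).toAddMonoidHom).toIntLinearMap)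
    (fun a b => by
      change KaehlerDifferential.D (ULift.{u} (ZMod p)) K (algebraMap A K (a * b)) =
        (algebraMap A K a) • KaehlerDifferential.D (ULift.{u} (ZMod p)) K (algebraMap A K b) +
          (algebraMap A K b) • KaehlerDifferential.D (ULift.{u} (ZMod p)) K (algebraMap A K a)
      rw [map_mul, Derivation.leibniz])
  have h1 : KaehlerDifferential.D (ULift.{u} (ZMod p)) K (algebraMap A K s) = 0 := by
    have h0 := d.liftKaehlerDifferential_comp_D s
    rw [hs, map_zero] at h0
    exact h0.symm
  obtain ⟨b, hb⟩ := (S2148.result (k := ULift.{u} (ZMod p)) (K := K) p (algebraMap A K s)).mp h1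
  have hint : IsIntegral A b := IsIntegral.of_pow (Fact.out : p.Prime).pos (by rw [hb]; exact isIntegral_algebraMap)
  obtain ⟨f, rfl⟩ := IsIntegrallyClosed.isIntegral_iff.mp hint
  exact ⟨f, IsFractionRing.injective A K (by rw [map_pow, hb])⟩

end Groth.Agent.S13369
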