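import Groth.Statements.S13370
import Mathlib.AlgebraicGeometry.AffineSpace
import Mathlib.AlgebraicGeometry.Properties
import Mathlib.RingTheory.MvPolynomial.Basic
import Mathlib.RingTheory.Polynomial.Nilpotent

set_option autoImplicit false
universe u
open GaDual

namespace Groth.Agent.S13370

open AlgebraicGeometry in
open CategoryTheory in
/-- Over a reduced scheme X, each invertible global function on 𝔸ⁿ_X comes, by pullback along the
projection to X, from an invertible global function on X. -/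
theorem result (n : Type u) [Finite n] (X : Scheme.{u}) [IsReduced X]
    (w : Γ(𝔸(n; X), ⊤)) (hw : IsUnit w) :
    ∃ v : Γ(X, ⊤), IsUnit v ∧ (𝔸(n; X) ↘ X).appTop v = w := by
  let p : 𝔸(n; X) ⟶ X := 𝔸(n; X) ↘ X
  let z : X ⟶ 𝔸(n; X) := AffineSpace.homOfVector (𝟙 X) 0
  refine ⟨z.appTop w, hw.map z.appTop.hom, ?_⟩
  have hzp : ∀ U : Scheme.{u}, (AffineSpace.homOfVector (𝟙 U) (0 : n → Γ(U, ⊤))) ≫ 𝔸(n; U) ↘ U = 𝟙 U :=
    fun U => AffineSpace.homOfVector_over _ _
  have haff : ∀ (U : Scheme.{u}) [IsAffine U] [IsReduced U] (a : Γ(𝔸(n; U), ⊤)), IsUnit a →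
      ((𝔸(n; U) ↘ U) ≫ AffineSpace.homOfVector (𝟙 U) (0 : n → Γ(U, ⊤))).appTop a = a := by
    intro U _ _ a ha
    let e := AffineSpace.isoOfIsAffine n U
    let R := CommRingCat.of (MvPolynomial n Γ(U, ⊤))
    obtain ⟨q, hq⟩ := (ConcreteCategory.bijective_of_isIso (Scheme.ΓSpecIso R).inv).2 (e.inv.appTop a)
    have hqu : IsUnit q := by
      have h1 : (Scheme.ΓSpecIso R).hom (e.inv.appTop a) = q := by
        rw [← hq, ← ConcreteCategory.comp_apply, Iso.inv_hom_id]; rfl
      rw [← h1]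
      exact (ha.map e.inv.appTop.hom).map (Scheme.ΓSpecIso R).hom.hom
    obtain ⟨-, hnil⟩ := MvPolynomial.isUnit_iff.mp hqu
    have hC : q = MvPolynomial.C (q.coeff 0) := by
      classical
      ext m
      rw [MvPolynomial.coeff_C]
      split_ifs with hm
      · rw [hm]
      · exact (hnil m (Ne.symm hm)).eq_zero
    let x₀ := (Scheme.ΓSpecIso Γ(U, ⊤)).inv (q.coeff 0)
    have hy : U.isoSpec.inv.appTop (U.isoSpec.hom.appTop x₀) = x₀ := by
      rw [← ConcreteCategory.comp_apply, ← Scheme.Hom.comp_appTop, Iso.inv_hom_id]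
      rfl
    let y := U.isoSpec.hom.appTop x₀
    have hay : a = (𝔸(n; U) ↘ U).appTop y := by
      have hinj : Function.LeftInverse e.hom.appTop e.inv.appTop := fun b => by
        rw [← ConcreteCategory.comp_apply, ← Scheme.Hom.comp_appTop, Iso.hom_inv_id]
        rfl
      apply hinj.injective
      rw [← ConcreteCategory.comp_apply (𝔸(n; U) ↘ U).appTop, ← Scheme.Hom.comp_appTop,
        AffineSpace.isoOfIsAffine_inv_over, Scheme.Hom.comp_appTop, ConcreteCategory.comp_apply, hy, ← hq,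
        ← ConcreteCategory.comp_apply _ (Spec.map _).appTop, ← Scheme.ΓSpecIso_inv_naturality, hC]
      classical
      rw [MvPolynomial.coeff_C, if_pos rfl]
      rfl
    rw [hay, ← ConcreteCategory.comp_apply, ← Scheme.Hom.comp_appTop, Category.assoc, hzp, Category.comp_id]
  apply (AffineSpace.toSpecMvPolyIntEquiv PUnit.{u+1}).symm.injective.comp (fun a b h => congrFun h PUnit.unit :
    Function.Injective fun (a : Γ(𝔸(n; X), ⊤)) (_ : PUnit.{u+1}) => a)
  show (AffineSpace.toSpecMvPolyIntEquiv PUnit.{u+1}).symm (fun _ => p.appTop (z.appTop w)) =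
    (AffineSpace.toSpecMvPolyIntEquiv PUnit.{u+1}).symm (fun _ => w)
  refine Scheme.Cover.hom_ext (X.affineCover.pullback₁ p) _ _ fun (j : X.affineCover.I₀) => ?_
  haveI : IsReduced (X.affineCover.X j) := isReduced_of_isOpenImmersion (X.affineCover.f j)
  let U := X.affineCover.X j
  let G : 𝔸(n; U) ⟶ 𝔸(n; X) := AffineSpace.map n (X.affineCover.f j)
  let i := (AffineSpace.isPullback_map (n := n) (X.affineCover.f j)).isoPullback
  show Limits.pullback.fst (𝔸(n; X) ↘ X) (X.affineCover.f j) ≫ _ = Limits.pullback.fst (𝔸(n; X) ↘ X) (X.affineCover.f j) ≫ _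
  refine (cancel_epi i.hom).1 ?_
  rw [← Category.assoc, ← Category.assoc]
  show (i.hom ≫ Limits.pullback.fst _ _) ≫ _ = (i.hom ≫ Limits.pullback.fst _ _) ≫ _
  rw [IsPullback.isoPullback_hom_fst]
  apply (AffineSpace.toSpecMvPolyIntEquiv PUnit.{u+1}).injective
  funext t
  rw [AffineSpace.toSpecMvPolyIntEquiv_comp, AffineSpace.toSpecMvPolyIntEquiv_comp, Equiv.apply_symm_apply,
    Equiv.apply_symm_apply]
  have hcomm : G ≫ p ≫ z = ((𝔸(n; U) ↘ U) ≫ AffineSpace.homOfVector (𝟙 U) (0 : n → Γ(U, ⊤))) ≫ G := by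
    apply AffineSpace.hom_ext
    · simp [G, p, z, hzp]
    · intro i
      simp only [G, p, z, Scheme.Hom.comp_appTop, ConcreteCategory.comp_apply, AffineSpace.homOfVector_appTop_coord,
        AffineSpace.map_appTop_coord, Pi.zero_apply, map_zero]
  have h := haff U (G.appTop w) (hw.map G.appTop.hom)
  rw [← ConcreteCategory.comp_apply, ← Scheme.Hom.comp_appTop, ← hcomm] at h
  exact h

end Groth.Agent.S13370
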