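import Groth.Statements.S13371
import Groth.Agent.RedPts82.GaCoord
import Mathlib.AlgebraicGeometry.Properties
import Mathlib.RingTheory.Polynomial.Nilpotent

set_option autoImplicit false
universe u
open GaDual

namespace Groth.Agent.S13371

open CategoryTheory AlgebraicGeometry MonObj CartesianMonoidalCategory in
/-- If S is a reduced scheme, every homomorphism of S-group schemes from the additive group to the
multiplicative group over S is the trivial homomorphism. -/
theorem result (S : Scheme.{u}) [IsReduced S] (φ : Red.Ga S ⟶ Red.Gm S)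
    [IsMonHom φ] : φ = 1 := by
  refine RedPts82.hom_ext_affine fun Z _ x => ?_
  rw [MonObj.comp_one]
  have key : ∀ (Y : Over S) (_ : IsAffine Y.left) (_ : IsReduced Y.left) (W : Over S) (z : W ⟶ Y) (v : W ⟶ Red.Ga S),
      v ≫ φ = 1 := by
    intro Y hY hYr W z v
    haveI := hY
    haveI := hYr
    obtain ⟨w, -, hw, -⟩ := RedPts82.exists_gaLift z v
    suffices RedPts82.gaTu Y ≫ φ = 1 by rw [← hw, Category.assoc, this, MonObj.comp_one]
    obtain ⟨w₀, -, hw₀, hw₀'⟩ := RedPts82.exists_gaLift (𝟙 Y) (1 : Y ⟶ Red.Ga S)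
    obtain ⟨q, hq⟩ := (RedPts82.gaCoordHom_bijective Y).2 (Red.gmFn (RedPts82.gaTu Y ≫ φ))
    have hu : IsUnit q := by
      let e := RingEquiv.ofBijective _ (RedPts82.gaCoordHom_bijective Y)
      have h1 : IsUnit (e q) := by
        show IsUnit (RedPts82.gaCoordHom Y q)
        rw [hq]; exact RedPts82.gmFn_isUnit _
      simpa using h1.map e.symm
    obtain ⟨-, hnil⟩ := Polynomial.isUnit_iff_coeff_isUnit_isNilpotent.mp hu
    have hC : q = Polynomial.C (q.coeff 0) := Polynomial.ext fun i => by
      rcases eq_or_ne i 0 with rfl | hi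
      · simp
      · rw [Polynomial.coeff_C, if_neg hi]; exact (hnil i hi).eq_zero
    have h0 : RedPts82.evalGa (𝟙 Y) (1 : Y ⟶ Red.Ga S) q = 1 := by
      rw [← hw₀', hq, ← RedPts82.gmFn_comp, ← Category.assoc, hw₀, MonObj.one_comp φ, RedPts82.gmFn_one]
    rw [hC, RedPts82.evalGa_C] at h0
    have h1 : q.coeff 0 = 1 := by simpa using h0
    apply RedPts82.gmFn_injective
    rw [RedPts82.gmFn_one, ← hq, hC, h1, map_one, map_one]
  apply Over.OverMorphism.ext
  let 𝒰 := (S.affineCover.pullback₁ Z.hom)
  refine Scheme.Cover.hom_ext 𝒰 _ _ fun (j : S.affineCover.I₀) => ?_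
  haveI : IsReduced (S.affineCover.X j) := isReduced_of_isOpenImmersion (S.affineCover.f j)
  let Y : Over S := Over.mk (S.affineCover.f j)
  let W : Over S := Over.mk (Limits.pullback.snd Z.hom (S.affineCover.f j) ≫ S.affineCover.f j)
  let g : W ⟶ Z := Over.homMk (Limits.pullback.fst Z.hom (S.affineCover.f j)) Limits.pullback.condition
  have h := key Y (inferInstanceAs (IsAffine (S.affineCover.X j))) ‹IsReduced (S.affineCover.X j)› W
    (Over.homMk (Limits.pullback.snd Z.hom (S.affineCover.f j)) rfl) (g ≫ x)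
  rw [Category.assoc] at h
  exact congrArg CommaMorphism.left (h.trans (MonObj.comp_one g).symm)

end Groth.Agent.S13371
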