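import Groth.Statements.S13378
import Groth.Agent.PC28.Basic
import Groth.Agent.PC28.Profinite
-- import your own Groth.Agent.* helpers here

set_option autoImplicit false
universe u
open ProCompl

namespace Groth.Agent.S13378

/-- For an abelian group A (written multiplicatively, discrete) and a subgroup A' such that the quotient
A/A' has no nontrivial divisible element and its torsion elements are killed by one positive
integer, the map induced on profinite completions by the inclusion of A' in A is injective. (The
published statement is for topological abelian groups in which every nA is open, with completions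
formed from open subgroups of finite index; this row is the case of the discrete topology.) -/
theorem result (A : Type u) [CommGroup A] (A' : Subgroup A)
    (hdiv : ∀ x : A ⧸ A', (∀ n : ℕ, 0 < n → ∃ y : A ⧸ A', y ^ n = x) → x = 1)
    (htors : ∃ N : ℕ, 0 < N ∧ ∀ x : A ⧸ A', IsOfFinOrder x → x ^ N = 1) :
    Function.Injective (ProfiniteGrp.profiniteCompletion.map (GrpCat.ofHom A'.subtype)).hom := by
  refine (injective_iff_map_eq_one
    (ProfiniteGrp.profiniteCompletion.map (GrpCat.ofHom A'.subtype)).hom).2 fun x hx => ?_
  apply Subtype.ext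
  funext H
  let U : AddSubgroup (Additive A') := H.toSubgroup.toAddSubgroup
  haveI : U.FiniteIndex := ⟨by
    show H.toSubgroup.toAddSubgroup.index ≠ 0
    rw [Subgroup.index_toAddSubgroup]
    exact H.isFiniteIndex'.index_ne_zero⟩
  let i : Additive A' →+ Additive A := MonoidHom.toAdditive A'.subtype
  obtain ⟨K, -, hKfi, hKU⟩ := PC28.exists_finiteIndex_comap_le i U ⊥ fun a ha => by
    let S : AddSubgroup (Additive A) := U.map i
    let G := Additive A ⧸ S
    have hinj : Function.Injective i := fun p q h => Subtype.ext h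
    let f : (Additive A' ⧸ U) →+ G := QuotientAddGroup.map U S i fun u hu => ⟨u, hu, rfl⟩
    let g : G →+ Additive (A ⧸ A') :=
      QuotientAddGroup.lift S (MonoidHom.toAdditive (QuotientGroup.mk' A')) (by
        rintro _ ⟨u, -, rfl⟩
        rw [AddMonoidHom.mem_ker]
        exact (QuotientGroup.eq_one_iff _).2 (Additive.toMul u).2)
    have hf : Function.Injective f := by
      rw [injective_iff_map_eq_zero]
      intro z hz
      obtain ⟨z, rfl⟩ := QuotientAddGroup.mk_surjective z
      obtain ⟨u, hu, huz⟩ := (QuotientAddGroup.eq_zero_iff (i z)).1 hz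
      exact (QuotientAddGroup.eq_zero_iff z).2 (hinj huz ▸ hu)
    have hfg : g.ker = f.range := by
      apply le_antisymm
      · intro z hz
        obtain ⟨z, rfl⟩ := QuotientAddGroup.mk_surjective z
        have hz' : Additive.toMul z ∈ A' := (QuotientGroup.eq_one_iff _).1 hz
        exact ⟨((Additive.ofMul ⟨_, hz'⟩ : Additive A') : Additive A' ⧸ U), rfl⟩
      · rintro _ ⟨z, rfl⟩
        obtain ⟨z, rfl⟩ := QuotientAddGroup.mk_surjective z
        exact (QuotientGroup.eq_one_iff _).2 (Additive.toMul z).2
    obtain ⟨N, hN, htor⟩ := htors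
    have hnd : ¬ ∀ n : ℕ, 0 < n → ∃ y : G, n • y = ((i a : Additive A) : G) := by
      intro hdivis
      have h0 := PC28.divisible_eq_zero_of_extension f g hf hfg
        (fun y hy => by
          obtain ⟨y', hy'⟩ := hy (Nat.card (Additive A' ⧸ U)) Nat.card_pos
          rw [← hy', card_nsmul_eq_zero'])
        (fun y hy => by
          refine Additive.toMul.injective (hdiv _ fun n hn => ?_)
          obtain ⟨w, hw⟩ := hy n hn
          exact ⟨Additive.toMul w, congrArg Additive.toMul hw⟩)
        ⟨N, hN, fun y hy => by
          refine Additive.toMul.injective ?_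
          exact htor _ (isOfFinAddOrder_ofMul_iff.1 hy)⟩
        _ hdivis
      obtain ⟨u, hu, hua⟩ := (QuotientAddGroup.eq_zero_iff (i a)).1 h0
      exact ha (hinj hua ▸ hu)
    simp only [not_forall, not_exists] at hnd
    obtain ⟨n, hn, hna⟩ := hnd
    obtain ⟨K', hK', hKfi', haK'⟩ := PC28.exists_finiteIndex_avoiding_of_nsmul n hn.ne'
      (i a) (S ⊔ (nsmulAddMonoidHom n : Additive A →+ Additive A).range)
      (fun z => AddSubgroup.mem_sup_right ⟨z, rfl⟩) (fun hmem => by
        obtain ⟨s, hs, _, ⟨z, rfl⟩, hsz⟩ := AddSubgroup.mem_sup.1 hmem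
        apply hna (z : G)
        rw [← hsz, QuotientAddGroup.mk_add, (QuotientAddGroup.eq_zero_iff s).2 hs, zero_add]
        rfl)
    exact ⟨K', bot_le, fun u hu => hK' (AddSubgroup.mem_sup_left ⟨u, hu, rfl⟩), hKfi', haK'⟩
  haveI : (Subgroup.toAddSubgroup.symm K).FiniteIndex := ⟨by
    show (AddSubgroup.toSubgroup' K).index ≠ 0
    rw [← Subgroup.index_toAddSubgroup]
    simpa using hKfi.index_ne_zero⟩
  let K₀ : FiniteIndexNormalSubgroup A :=
    FiniteIndexNormalSubgroup.ofSubgroup (Subgroup.toAddSubgroup.symm K)
  have h1 : ((ProfiniteGrp.profiniteCompletion.map (GrpCat.ofHom A'.subtype)).hom x).val K₀ = 1 := by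
    rw [hx]; rfl
  rw [PC28.completion_map_apply] at h1
  obtain ⟨a, ha⟩ := QuotientGroup.mk_surjective (x.val (K₀.comap A'.subtype))
  rw [← ha] at h1
  have h2 : A'.subtype a ∈ K₀.toSubgroup := (QuotientGroup.eq_one_iff (A'.subtype a)).1 h1
  have hle : K₀.comap A'.subtype ≤ H := fun z hz => hKU (x := Additive.ofMul z) hz
  refine (x.property (CategoryTheory.homOfLE hle)).symm.trans ?_
  show QuotientGroup.map _ _ (MonoidHom.id A') hle (x.val (K₀.comap A'.subtype)) = 1
  rw [← ha]
  exact (QuotientGroup.eq_one_iff a).2 (hle h2)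

end Groth.Agent.S13378
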