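import Groth.Statements.S13379
import Groth.Agent.PC28.Profinite
-- import your own Groth.Agent.* helpers here

set_option autoImplicit false
universe u
open ProCompl

namespace Groth.Agent.S13379

/-- Profinite completion is right exact: for an abelian group A (written multiplicatively, discrete) and
a subgroup A', the map on profinite completions induced by A → A/A' is surjective and its kernel is
the image of the completion of A'. (The published statement is right-exactness for topological
abelian groups with completions formed from open subgroups of finite index; this row is the case of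
the discrete topology.) -/
theorem result (A : Type u) [CommGroup A] (A' : Subgroup A) :
    Function.Surjective (ProfiniteGrp.profiniteCompletion.map (GrpCat.ofHom (QuotientGroup.mk' A'))).hom ∧
      (ProfiniteGrp.profiniteCompletion.map (GrpCat.ofHom (QuotientGroup.mk' A'))).hom.toMonoidHom.ker =
        (ProfiniteGrp.profiniteCompletion.map (GrpCat.ofHom A'.subtype)).hom.toMonoidHom.range := by
  have hcomp := fun (x : A) => PC28.completion_map_eta (QuotientGroup.mk' A') x
  refine ⟨?_, le_antisymm ?_ ?_⟩
  · intro y
    have hc : IsClosed (Set.range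
        (ProfiniteGrp.profiniteCompletion.map (GrpCat.ofHom (QuotientGroup.mk' A'))).hom) :=
      (isCompact_range (ProfiniteGrp.profiniteCompletion.map
        (GrpCat.ofHom (QuotientGroup.mk' A'))).hom.continuous_toFun).isClosed
    refine closure_minimal ?_ hc (ProfiniteGrp.ProfiniteCompletion.denseRange _ y)
    rintro _ ⟨b, rfl⟩
    obtain ⟨a, rfl⟩ := QuotientGroup.mk'_surjective A' b
    exact ⟨_, hcomp a⟩
  · intro x hx
    let f := (ProfiniteGrp.profiniteCompletion.map (GrpCat.ofHom A'.subtype)).hom
    let T : FiniteIndexNormalSubgroup A → Set (ProfiniteGrp.profiniteCompletion.obj (GrpCat.of A')) :=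
      fun M => {z | (f z).val M = x.val M}
    have hT : ∀ M, IsClosed (T M) := fun M => isClosed_eq
      (((continuous_apply M).comp continuous_subtype_val).comp f.continuous_toFun) continuous_const
    obtain ⟨z, hz⟩ := CompactSpace.iInter_nonempty hT fun s => by
      haveI hMfi : (⨅ M : s, (M.1 : FiniteIndexNormalSubgroup A).toSubgroup).FiniteIndex :=
        Subgroup.finiteIndex_iInf fun M => M.1.isFiniteIndex'
      let M₀ : FiniteIndexNormalSubgroup A :=
        FiniteIndexNormalSubgroup.ofSubgroup (⨅ M : s, (M.1 : FiniteIndexNormalSubgroup A).toSubgroup)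
      haveI hKfi : (M₀.toSubgroup.map (QuotientGroup.mk' A')).FiniteIndex := ⟨fun h0 =>
        M₀.isFiniteIndex'.index_ne_zero (Nat.eq_zero_of_zero_dvd
          (h0 ▸ Subgroup.index_map_dvd M₀.toSubgroup (QuotientGroup.mk'_surjective A')))⟩
      let K : FiniteIndexNormalSubgroup (A ⧸ A') :=
        FiniteIndexNormalSubgroup.ofSubgroup (M₀.toSubgroup.map (QuotientGroup.mk' A'))
      have hMK : M₀ ≤ K.comap (QuotientGroup.mk' A') := fun m hm => ⟨m, hm, rfl⟩
      obtain ⟨b, hb⟩ := QuotientGroup.mk_surjective (x.val M₀)
      have h1 : ((ProfiniteGrp.profiniteCompletion.map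
          (GrpCat.ofHom (QuotientGroup.mk' A'))).hom x).val K = 1 := by
        rw [show (ProfiniteGrp.profiniteCompletion.map
          (GrpCat.ofHom (QuotientGroup.mk' A'))).hom x = 1 from hx]
        rfl
      rw [PC28.completion_map_apply, ← x.property (CategoryTheory.homOfLE hMK)] at h1
      have h2 : QuotientGroup.mk' A' b ∈ M₀.toSubgroup.map (QuotientGroup.mk' A') := by
        refine (QuotientGroup.eq_one_iff (N := K.toSubgroup) (QuotientGroup.mk' A' b)).1 ?_
        refine Eq.trans ?_ h1
        show _ = QuotientGroup.map (K.comap (QuotientGroup.mk' A')).toSubgroup K.toSubgroup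
          (QuotientGroup.mk' A') (fun _ h => h)
          (QuotientGroup.map M₀.toSubgroup (K.comap (QuotientGroup.mk' A')).toSubgroup
            (MonoidHom.id A) hMK (x.val M₀))
        rw [← hb]
        rfl
      obtain ⟨m, hm, hmb⟩ := h2
      have hk : m⁻¹ * b ∈ A' := QuotientGroup.eq.1 hmb
      refine ⟨ProfiniteGrp.ProfiniteCompletion.etaFn (GrpCat.of A') ⟨_, hk⟩,
        Set.mem_iInter₂.2 fun M hM => ?_⟩
      show (f _).val M = x.val M
      have hle : M₀ ≤ M := fun z hz => (Subgroup.mem_iInf.1 hz ⟨M, hM⟩ : z ∈ M.toSubgroup)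
      rw [PC28.completion_map_eta A'.subtype, ← x.property (CategoryTheory.homOfLE hle)]
      show (QuotientGroup.mk (m⁻¹ * b) : A ⧸ M.toSubgroup) =
        QuotientGroup.map _ _ (MonoidHom.id A) hle (x.val M₀)
      rw [← hb]
      show (QuotientGroup.mk (m⁻¹ * b) : A ⧸ M.toSubgroup) = QuotientGroup.mk b
      rw [QuotientGroup.eq]
      have : (m⁻¹ * b)⁻¹ * b = m := by rw [mul_inv_rev, inv_inv, mul_comm b⁻¹, mul_assoc, inv_mul_cancel, mul_one]
      rw [this]
      exact hle hm
    exact ⟨z, Subtype.ext (funext fun M => Set.mem_iInter.1 hz M)⟩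
  · rintro _ ⟨z, rfl⟩
    rw [MonoidHom.mem_ker]
    apply Subtype.ext
    funext K
    show ((ProfiniteGrp.profiniteCompletion.map (GrpCat.ofHom (QuotientGroup.mk' A'))).hom
      ((ProfiniteGrp.profiniteCompletion.map (GrpCat.ofHom A'.subtype)).hom z)).val K = 1
    rw [PC28.completion_map_apply, PC28.completion_map_apply]
    obtain ⟨a, ha⟩ := QuotientGroup.mk_surjective
      (z.val ((K.comap (QuotientGroup.mk' A')).comap A'.subtype))
    rw [← ha]
    show (QuotientGroup.mk (QuotientGroup.mk' A' (A'.subtype a)) : (A ⧸ A') ⧸ K.toSubgroup) = 1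
    rw [show QuotientGroup.mk' A' (A'.subtype a) = 1 from (QuotientGroup.eq_one_iff _).2 a.2]
    rfl

end Groth.Agent.S13379
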