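import Groth.Statements.S13386
import Mathlib.RingTheory.TensorProduct.IsBaseChangeHom
import Mathlib.RingTheory.Localization.BaseChange


set_option autoImplicit false
universe u
open scoped TensorProduct
open ZeroCyc

namespace Groth.Agent.S13386

/-- Let A' = T⁻¹A be a localization of the ring A, M an A-module and M' = A' ⊗_A M. In the divided power
algebra Γ_{A'}(M') the A'-span of the d-th divided powers γ_d(1 ⊗ m), m ∈ M, is the A'-span of
γ_d(M'). (The published statement phrases this as the surjectivity of the natural map from (γ_d(M))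
⊗_A A' onto (γ_d(M')); its further clause through the base-change isomorphism Γ_A(M) ⊗_A A' ≅
Γ_{A'}(M') is not restated here.) -/
theorem result {A A' M : Type u} [CommRing A] [CommRing A']
    [Algebra A A'] (T : Submonoid A) [IsLocalization T A'] [AddCommGroup M] [Module A M] (d : ℕ) :
    Submodule.span A' (Set.range fun m : M => DividedPowerAlgebra.dp A' d ((1 : A') ⊗ₜ[A] m)) =
      Submodule.span A' (Set.range (DividedPowerAlgebra.dp A' d (M := A' ⊗[A] M))) := by
  apply le_antisymm
  · exact Submodule.span_mono (by rintro _ ⟨m, rfl⟩; exact ⟨_, rfl⟩)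
  · rw [Submodule.span_le]
    rintro _ ⟨x, rfl⟩
    have : ∃ (c : A') (m : M), c • ((1 : A') ⊗ₜ[A] m) = x := by
      obtain ⟨⟨m, t⟩, h⟩ := IsLocalizedModule.surj T (TensorProduct.mk A A' M 1) x
      refine ⟨IsLocalization.mk' A' 1 t, m, ?_⟩
      simp only [TensorProduct.mk_apply, Submonoid.smul_def] at h
      rw [← h, ← algebraMap_smul A' (t : A) x, smul_smul, IsLocalization.mk'_spec, map_one, one_smul]
    obtain ⟨c, m, rfl⟩ := this
    rw [DividedPowerAlgebra.dp_smul]
    exact Submodule.smul_mem _ _ (Submodule.subset_span ⟨m, rfl⟩)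

end Groth.Agent.S13386
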