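import Groth.Statements.S13402
import Groth.Agent.Comod33.HopfProj
import Mathlib.LinearAlgebra.Dimension.Constructions
import Mathlib.LinearAlgebra.FiniteDimensional.Basic

set_option autoImplicit false
universe u v w
open Hopf

namespace Groth.Agent.S13402

open scoped TensorProduct
/-- Let k be a field and let A and B be finite-dimensional commutative and cocommutative Hopf algebras
over k (finite commutative k-group schemes G = Spec A and H = Spec B). Let f : B → A be a bialgebra
map (a homomorphism G → H) which is injective and such that the ideal of A generated by the image of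
the augmentation ideal of B is the augmentation ideal of A (the homomorphism G → H has trivial
kernel). Then f is bijective, so G → H is an isomorphism; this is what makes the category of finite
commutative k-group schemes abelian. -/
theorem result (k : Type u) [Field k] (A : Type v) (B : Type w)
    [CommRing A] [HopfAlgebra k A] [Module.Finite k A] [Coalgebra.IsCocomm k A]
    [CommRing B] [HopfAlgebra k B] [Module.Finite k B] [Coalgebra.IsCocomm k B]
    (f : B →ₐc[k] A) (hinj : Function.Injective f)
    (hker : Ideal.map f (RingHom.ker (Bialgebra.counitAlgHom k B)) = RingHom.ker (Bialgebra.counitAlgHom k A)) :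
    Function.Bijective f := by
  letI : Algebra B A := (f : B →+* A).toAlgebra
  haveI : IsScalarTower k B A := IsScalarTower.of_algebraMap_eq fun r => ((f : B →ₐ[k] A).commutes r).symm
  haveI hff : Module.FaithfullyFlat B A :=
    RingHom.faithfullyFlat_algebraMap_iff.1 (Comod33.HopfFlat.faithfullyFlat_of_injective f hinj)
  have hmap : ∀ b : B, CoalgebraStruct.comul (R := k) (algebraMap B A b) =
      TensorProduct.map (IsScalarTower.toAlgHom k B A).toLinearMap
        (IsScalarTower.toAlgHom k B A).toLinearMap (CoalgebraStruct.comul (R := k) b) :=
    fun b => (CoalgHomClass.map_comp_comul_apply f b).symm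
  have hcou : ∀ b : B, CoalgebraStruct.counit (R := k) (algebraMap B A b) = CoalgebraStruct.counit (R := k) b :=
    fun b => CoalgHomClass.counit_comp_apply f b
  let e := Comod33.HopfFlat.galois (k := k) (A := B) (B := A) (M := A) (Comod33.HopfFlat.compat_self hmap) hmap hcou
  have hbar : Module.finrank k (Comod33.HopfFlat.Mbar k B A) = 1 := by
    have h : ((Comod33.HopfFlat.augI k B • ⊤ : Submodule B A).restrictScalars k) =
        (RingHom.ker (Bialgebra.counitAlgHom k A)).restrictScalars k := by
      rw [Ideal.smul_top_eq_map]
      exact congrArg (Submodule.restrictScalars k) hker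
    have hs : Function.Surjective (Bialgebra.counitAlgHom k A).toLinearMap :=
      fun c => ⟨algebraMap k A c, (Bialgebra.counitAlgHom k A).commutes c⟩
    rw [show Module.finrank k (Comod33.HopfFlat.Mbar k B A) =
        Module.finrank k (A ⧸ (RingHom.ker (Bialgebra.counitAlgHom k A)).restrictScalars k) from
        (Submodule.quotEquivOfEq _ _ h).finrank_eq,
      show Module.finrank k (A ⧸ (RingHom.ker (Bialgebra.counitAlgHom k A)).restrictScalars k) =
        Module.finrank k k from (LinearMap.quotKerEquivOfSurjective _ hs).finrank_eq, Module.finrank_self]
  have hfin : Module.Finite k (A ⊗[B] A) := Module.Finite.equiv (e.restrictScalars k).symm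
  have hdim : Module.finrank k (A ⊗[B] A) = Module.finrank k A := by
    rw [(e.restrictScalars k).finrank_eq, Module.finrank_tensorProduct, hbar, mul_one]
  let i : A →ₗ[k] A ⊗[B] A := (Algebra.TensorProduct.includeLeft : A →ₐ[k] A ⊗[B] A).toLinearMap
  have hi : Function.Injective i :=
    Function.LeftInverse.injective (g := Algebra.TensorProduct.lmul' B) fun a => by simp [i]
  have hsurj : Function.Surjective i := (LinearMap.injective_iff_surjective_of_finrank_eq_finrank hdim.symm).1 hi
  refine ⟨hinj, ?_⟩
  have h : Function.Surjective ((Algebra.linearMap B A).lTensor A) := fun z => by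
    obtain ⟨a, rfl⟩ := hsurj z
    exact ⟨a ⊗ₜ[B] (1 : B), by simp [i]⟩
  exact (Module.FaithfullyFlat.lTensor_surjective_iff_surjective B A (Algebra.linearMap B A)).1 h

end Groth.Agent.S13402
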