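import Groth.Statements.S13403
import Groth.Agent.Font54.Main

set_option autoImplicit false
universe u v w
open Font

namespace Groth.Agent.S13403

/-- Let O be a complete discrete valuation ring with fraction field of characteristic zero and residue
characteristic p, and let A be an O-algebra isomorphic to a quotient O[[x_1, ..., x_m]]/(f_1, ...,
f_m) of a power series ring in m variables by m power series, with A finite and flat over O. Suppose
a is a non-zero element of O such that the module of Kähler differentials of A over O is a free
module over A/aA (so a kills it). Let S be a finite flat O-algebra and I an ideal of S equipped with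
a divided power structure which is topologically nilpotent: the divided-power ideals of I (generated
by the products of divided powers of elements of I of total degree at least n) have zero
intersection over all n. Then (1) two O-algebra maps A → S which agree modulo I are equal, and (2)
an O-algebra map A → S/I lifts to an O-algebra map A → S if and only if it lifts to an O-algebra map
A → S/aI. (The published statement asserts only (2); (1) is the uniqueness its proof establishes.) -/
theorem result (O : Type u) [CommRing O] [IsDomain O] [IsDiscreteValuationRing O]
    [IsAdicComplete (IsLocalRing.maximalIdeal O) O] [CharZero O] (p : ℕ) [Fact p.Prime]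
    (hp : (p : O) ∈ IsLocalRing.maximalIdeal O)
    (m : ℕ) (f : Fin m → MvPowerSeries (Fin m) O) (A : Type v) [CommRing A] [Algebra O A]
    (e : (MvPowerSeries (Fin m) O ⧸ Ideal.span (Set.range f)) ≃ₐ[O] A)
    [Module.Finite O A] [Module.Flat O A] (a : O) (ha : a ≠ 0) (r : ℕ)
    (hΩ : Nonempty (KaehlerDifferential O A ≃ₗ[A] (Fin r → A ⧸ Ideal.span {algebraMap O A a})))
    (S : Type w) [CommRing S] [Algebra O S] [Module.Finite O S] [Module.Flat O S]
    (I : Ideal S) (hI : DividedPowers I) (htn : W4c1noabschz1.IsDPTopNilpotent hI) :
    Function.Injective (fun χ : A →ₐ[O] S => (Ideal.Quotient.mkₐ O I).comp χ) ∧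
      Set.range (fun χ : A →ₐ[O] S => (Ideal.Quotient.mkₐ O I).comp χ) =
        Set.range (fun ψ : A →ₐ[O] (S ⧸ Ideal.span {algebraMap O S a} * I) =>
          (Ideal.Quotient.factorₐ O (Ideal.mul_le_right (I := Ideal.span {algebraMap O S a}) (J := I))).comp ψ) := by
  exact Font54.lifts_of_kaehler_free f e a ha r hΩ hI htn (Font54.le_nS hI p hp)

end Groth.Agent.S13403
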