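import Groth.Statements.S13405
import Groth.Agent.S7949
import Groth.Agent.AdicC27.Approx
import Groth.Agent.Ega11.CTensorFlat
import Groth.Agent.FinHopf34.PSPresent
import Mathlib.RingTheory.Flat.Basic
import Mathlib.RingTheory.LocalRing.Module
import Mathlib.LinearAlgebra.Dimension.Constructions

set_option autoImplicit false
universe u v
open Hopf

namespace Groth.Agent.S13405

open TensorProduct IsLocalRing Groth.Agent.FinHopf34
/-- Let R be a complete discrete valuation ring whose residue field is perfect of characteristic p > 0,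
and let G = Spec A be a connected finite flat group scheme over R: A is a commutative Hopf algebra
over R, finite and flat as an R-module, and a local ring. Then for some n there are natural numbers
e_1, ..., e_n and power series f_1, ..., f_n in R[[x_1, ..., x_n]] such that A is isomorphic as an
R-algebra to R[[x_1, ..., x_n]]/(f_1, ..., f_n) and each f_i is x_i ^ (p ^ e_i) plus a polynomial
all of whose coefficients lie in the maximal ideal of R and whose degree in x_i is less than p ^
e_i. -/
theorem result (R : Type u) [CommRing R] [IsDomain R]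
    [IsDiscreteValuationRing R] [IsAdicComplete (IsLocalRing.maximalIdeal R) R]
    (p : ℕ) [Fact p.Prime] [CharP (IsLocalRing.ResidueField R) p] [PerfectField (IsLocalRing.ResidueField R)]
    (A : Type v) [CommRing A] [HopfAlgebra R A] [Module.Finite R A] [Module.Flat R A] [IsLocalRing A] :
    ∃ (n : ℕ) (e : Fin n → ℕ) (g : Fin n → MvPolynomial (Fin n) R),
      (∀ i, (∀ d, (g i).coeff d ∈ IsLocalRing.maximalIdeal R) ∧ (g i).degreeOf i < p ^ e i) ∧
      Nonempty (A ≃ₐ[R] (MvPowerSeries (Fin n) R ⧸
        Ideal.span (Set.range fun i => (MvPowerSeries.X i : MvPowerSeries (Fin n) R) ^ p ^ e i + ↑(g i)))) := by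
  classical
  let k := ResidueField R
  let Ak := k ⊗[R] A
  haveI : Module.Free R A := Module.free_of_flat_of_isLocalRing
  let π : A →ₐ[R] Ak := Algebra.TensorProduct.includeRight
  have hπ : Function.Surjective π := fun z => by
    induction z using TensorProduct.induction_on with
    | zero => exact ⟨0, map_zero π⟩
    | tmul c a =>
      obtain ⟨r, rfl⟩ := residue_surjective c
      exact ⟨r • a, by
        show (1 : k) ⊗ₜ[R] (r • a) = _
        rw [← TensorProduct.smul_tmul, Algebra.smul_def, mul_one]; rfl⟩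
    | add p q hp hq =>
      obtain ⟨a, rfl⟩ := hp
      obtain ⟨b, rfl⟩ := hq
      exact ⟨a + b, map_add π a b⟩
  have hker : ∀ z, π z = 0 → z ∈ (maximalIdeal R • ⊤ : Submodule R A) := fun z hz => by
    have h : TensorProduct.quotTensorEquivQuotSMul A (maximalIdeal R) (π z) = 0 := by
      rw [hz]; exact map_zero _
    have h1 : π z = (Ideal.Quotient.mk (maximalIdeal R) (1 : R)) ⊗ₜ[R] z := rfl
    rw [h1, TensorProduct.quotTensorEquivQuotSMul_mk_tmul, one_smul] at h
    exact (Submodule.Quotient.mk_eq_zero _).1 h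
  haveI : Nontrivial Ak := Module.nontrivial_of_finrank_pos (R := k) (by
    rw [Module.finrank_baseChange]
    exact Module.finrank_pos)
  haveI : IsLocalRing Ak := IsLocalRing.of_surjective' π.toRingHom hπ
  obtain ⟨n, e, he, ⟨ε⟩⟩ := Groth.Agent.S7949.result k Ak p
  let q : Fin n → ℕ := fun i => p ^ e i
  have hq : ∀ i, 0 < q i := fun i => pow_pos (Fact.out (p := p.Prime)).pos _
  choose a ha using fun i => hπ (ε.symm (Ideal.Quotient.mk _ (MvPolynomial.X i)))
  have hεa : ∀ P : MvPolynomial (Fin n) R,
      ε (π (MvPolynomial.aeval a P)) = Ideal.Quotient.mk _ (MvPolynomial.map (residue R) P) := by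
    refine fun P => RingHom.congr_fun (MvPolynomial.ringHom_ext
      (f := ε.toAlgHom.toRingHom.comp (π.toRingHom.comp (MvPolynomial.aeval a : MvPolynomial (Fin n) R →ₐ[R] A).toRingHom))
      (g := (Ideal.Quotient.mk _).comp (MvPolynomial.map (residue R))) (fun r => ?_) fun i => ?_) P
    · show ε (π (MvPolynomial.aeval a (MvPolynomial.C r))) = Ideal.Quotient.mk _ (MvPolynomial.map (residue R) _)
      rw [MvPolynomial.aeval_C, AlgHom.commutes, MvPolynomial.map_C, IsScalarTower.algebraMap_apply R k Ak,
        AlgEquiv.commutes]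
      rfl
    · show ε (π (MvPolynomial.aeval a (MvPolynomial.X i))) = Ideal.Quotient.mk _ (MvPolynomial.map (residue R) _)
      rw [MvPolynomial.aeval_X, MvPolynomial.map_X, ha, AlgEquiv.apply_symm_apply]
  let extc : (↥(PSPresent.box q) → R) →ₗ[R] (Fin n →₀ ℕ) → R :=
    { toFun := fun c d => if h : d ∈ PSPresent.box q then c ⟨d, h⟩ else 0
      map_add' := fun c c' => funext fun d => by by_cases h : d ∈ PSPresent.box q <;> simp [h]
      map_smul' := fun r c => funext fun d => by by_cases h : d ∈ PSPresent.box q <;> simp [h] }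
  let θ := (MvPolynomial.aeval a).toLinearMap ∘ₗ PSPresent.boxPoly q ∘ₗ extc
  have hbox : ∀ c : (Fin n →₀ ℕ) → R, θ (fun d => c d.1) = MvPolynomial.aeval a (PSPresent.boxPoly q c) := fun c => by
    show MvPolynomial.aeval a (PSPresent.boxPoly q (extc _)) = _
    congr 1
    refine Finset.sum_congr rfl fun d hd => ?_
    rw [show extc (fun d : {d // d ∈ PSPresent.box q} => c d.1) d = c d from dif_pos hd]
  have hθs : Function.Surjective θ := by
    rw [← LinearMap.range_eq_top, eq_top_iff]
    refine Submodule.le_of_le_smul_of_le_jacobson_bot (I := maximalIdeal R) Module.Finite.fg_top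
      (maximalIdeal_le_jacobson _) fun z _ => ?_
    obtain ⟨P, hP⟩ := Ideal.Quotient.mk_surjective (ε (π z))
    obtain ⟨P', hP1, hP2⟩ := Groth.Agent.Comod33.TruncPoly.exists_small q P
    let c : (Fin n →₀ ℕ) → R := fun d => Function.surjInv residue_surjective (MvPolynomial.coeff d P')
    have hc : MvPolynomial.map (residue R) (PSPresent.boxPoly q c) = P' := MvPolynomial.ext _ _ fun d => by
      rw [MvPolynomial.coeff_map, PSPresent.coeff_boxPoly]
      by_cases hd : d ∈ PSPresent.box q
      · rw [if_pos hd]; exact Function.surjInv_eq residue_surjective _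
      · rw [if_neg hd, map_zero, eq_comm, ← MvPolynomial.notMem_support_iff]
        exact fun h => hd ((PSPresent.mem_box q).2 (hP2 d h))
    refine Submodule.mem_sup.2 ⟨θ (fun d => c d.1), ⟨_, rfl⟩, z - θ (fun d => c d.1), hker _ ?_, by abel⟩
    rw [map_sub, sub_eq_zero]
    refine ε.injective ?_
    rw [hbox, hεa, hc, ← hP]
    exact Ideal.Quotient.eq.2 hP1
  have hθ : Function.Bijective θ := by
    have hr : Module.finrank R A = Module.finrank R (↥(PSPresent.box q) → R) := by
      rw [Module.finrank_fintype_fun_eq_card, Fintype.card_coe, PSPresent.card_box,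
        ← Module.finrank_baseChange (R := k) (M' := A), ε.toLinearEquiv.finrank_eq]
      exact Groth.Agent.Comod33.TruncPoly.finrank_quotient q
    let E : A ≃ₗ[R] (↥(PSPresent.box q) → R) := LinearEquiv.ofFinrankEq _ _ hr
    have h1 := OrzechProperty.bijective_of_surjective_endomorphism (E.toLinearMap ∘ₗ θ) (E.surjective.comp hθs)
    exact ⟨fun x y h => h1.1 (congrArg E h), hθs⟩
  have hπm : ∀ i, a i ∈ maximalIdeal A := fun i hu => by
    have hnil : IsNilpotent (π (a i)) := ⟨q i, ε.injective (by
      rw [map_pow, ha, AlgEquiv.apply_symm_apply, map_zero, ← map_pow, Ideal.Quotient.eq_zero_iff_mem]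
      exact Ideal.subset_span ⟨i, rfl⟩)⟩
    exact hnil.not_isUnit (hu.map π)
  obtain ⟨ϖ, hϖ⟩ := IsPrincipalIdealRing.principal (maximalIdeal R)
  change maximalIdeal R = Ideal.span {ϖ} at hϖ
  have hrel : ∀ i, ∃ c : (Fin n →₀ ℕ) → R, a i ^ q i + MvPolynomial.aeval a (PSPresent.boxPoly q (ϖ • c)) = 0 := by
    intro i
    have h0 : π (a i ^ q i) = 0 := ε.injective (by
      rw [map_pow, map_pow, ha, AlgEquiv.apply_symm_apply, map_zero, ← map_pow, Ideal.Quotient.eq_zero_iff_mem]
      exact Ideal.subset_span ⟨i, rfl⟩)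
    have h1 := hker _ h0
    rw [hϖ, Submodule.ideal_span_singleton_smul, Submodule.mem_smul_pointwise_iff_exists] at h1
    obtain ⟨z, -, hz⟩ := h1
    obtain ⟨c, rfl⟩ := hθs z
    refine ⟨-extc c, ?_⟩
    rw [smul_neg, map_neg, map_neg, map_smul, map_smul, ← sub_eq_add_neg, sub_eq_zero]
    exact hz.symm
  choose cs hcs using hrel
  refine ⟨n, e, fun i => PSPresent.boxPoly q (ϖ • cs i), fun i => ⟨fun d => ?_, ?_⟩, ?_⟩
  · rw [PSPresent.coeff_boxPoly, hϖ]
    split_ifs
    · exact Ideal.mem_span_singleton'.2 ⟨cs i d, by rw [mul_comm]; rfl⟩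
    · exact zero_mem _
  · rw [MvPolynomial.degreeOf_lt_iff (hq i)]
    exact fun d hd => (PSPresent.mem_box q).1 (PSPresent.mem_box_of_mem_support q hd) i
  haveI : IsAdicComplete (maximalIdeal A) A := by
    haveI : IsAdicComplete (maximalIdeal R) A := Groth.Agent.AdicC27.isAdicComplete_of_finite A
    haveI : IsAdicComplete ((maximalIdeal R).map (algebraMap R A)) A := (IsAdicComplete.map_algebraMap_iff _ _).2 inferInstance
    haveI : IsArtinianRing Ak := IsArtinianRing.of_finite k Ak
    obtain ⟨N, hN⟩ := IsArtinianRing.isNilpotent_jacobson_bot (R := Ak)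
    rw [IsLocalRing.jacobson_eq_maximalIdeal ⊥ bot_ne_top] at hN
    refine Groth.Agent.Ega11.CTensorFlat.isAdicComplete_of_pow_le (b := (maximalIdeal R).map (algebraMap R A))
      (n := N + 1) (Nat.succ_pos _) ?_ fun z hz => ?_
    · refine Ideal.map_le_iff_le_comap.2 fun r hr hu => ?_
      have hu' : IsUnit (algebraMap R Ak r) := π.commutes r ▸ hu.map π
      refine hu'.ne_zero ?_
      rw [IsScalarTower.algebraMap_apply R k Ak, ResidueField.algebraMap_eq, (residue_eq_zero_iff r).2 hr, map_zero]
    · have h1 : π z = 0 := by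
        have h2 := Ideal.mem_map_of_mem π.toRingHom hz
        rw [Ideal.map_pow] at h2
        have hle : (maximalIdeal A).map π.toRingHom ≤ maximalIdeal Ak :=
          IsLocalRing.le_maximalIdeal fun h => by
            have h3 := Ideal.comap_map_of_surjective π.toRingHom hπ (maximalIdeal A)
            rw [h, Ideal.comap_top] at h3
            refine (maximalIdeal.isMaximal A).ne_top (top_le_iff.1 (h3.le.trans (sup_le le_rfl ?_)))
            exact IsLocalRing.le_maximalIdeal (Ideal.comap_ne_top _ bot_ne_top)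
        have h4 : π z ∈ (⊥ : Ideal Ak) := by
          rw [← Ideal.zero_eq_bot, ← hN]
          exact Ideal.pow_le_pow_right (Nat.le_succ N) (Ideal.pow_right_mono hle _ h2)
        exact (Submodule.mem_bot Ak).1 h4
      have h5 := hker z h1
      rwa [Ideal.smul_top_eq_map, Submodule.restrictScalars_mem] at h5
  haveI : IsAdicComplete (Ideal.span {ϖ}) R := hϖ ▸ inferInstance
  obtain ⟨Φ, hΦ⟩ := PSPresent.exists_hom (R := R) (maximalIdeal A) a hπm
  let f : Fin n → MvPowerSeries (Fin n) R := fun i =>
    MvPowerSeries.X i ^ q i + ((PSPresent.boxPoly q (ϖ • cs i) : MvPolynomial (Fin n) R) : MvPowerSeries (Fin n) R)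
  have hΦf : ∀ i, Φ (f i) = 0 := fun i => by
    rw [map_add, hΦ, map_pow, ← MvPolynomial.coe_X, hΦ, MvPolynomial.aeval_X]
    exact hcs i
  have hIle : Ideal.span (Set.range f) ≤ RingHom.ker Φ := Ideal.span_le.2 (by rintro _ ⟨i, rfl⟩; exact hΦf i)
  let Ψ := Ideal.Quotient.liftₐ (Ideal.span (Set.range f)) Φ (fun z hz => hIle hz)
  refine ⟨(AlgEquiv.ofBijective Ψ ⟨?_, fun z => ?_⟩).symm⟩
  · rw [injective_iff_map_eq_zero]
    intro w hw
    obtain ⟨F, rfl⟩ := Ideal.Quotient.mk_surjective w
    obtain ⟨c, hc⟩ := PSPresent.exists_div_perturbed q ϖ cs F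
    have h0 : Φ F = Φ (PSPresent.boxPoly q c : MvPowerSeries (Fin n) R) := by
      rw [← sub_eq_zero, ← map_sub]
      exact hIle hc
    have hw' : Φ F = 0 := hw
    rw [h0, hΦ, ← hbox] at hw'
    have hz : PSPresent.boxPoly q c = 0 := by
      have h2 := hθ.1 (hw'.trans (map_zero θ).symm)
      refine Finset.sum_eq_zero fun d hd => ?_
      rw [show c d = 0 from congrFun h2 ⟨d, hd⟩, map_zero]
    rw [hz, MvPolynomial.coe_zero, sub_zero] at hc
    exact Ideal.Quotient.eq_zero_iff_mem.2 hc
  · obtain ⟨c, hc⟩ := hθ.2 z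
    exact ⟨Ideal.Quotient.mk _ (PSPresent.boxPoly q (extc c) : MvPowerSeries (Fin n) R), (hΦ _).trans hc⟩

end Groth.Agent.S13405
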