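import Groth.Statements.S13410
import Groth.Agent.CombH

set_option autoImplicit false
universe u v
open CombGraph

namespace Groth.Agent.S13410

/-- Let `A` be an abelian group and `G` a finite connected simple graph on `V`, bipartite for a
two-colouring `c`. Consider the additive group of labellings `x : Sym2 V → A` vanishing off the edge
set and with `∑_{e ∋ v} x e = 0` at every vertex `v`. If `e₀` is an edge whose deletion leaves `G`
connected, then evaluation at `e₀` restricted to this group is surjective and split: there is an
additive map `φ : A → (Sym2 V → A)` with values in this group and with `φ a e₀ = a` for all `a`.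
(The published statement concerns finite bipartite graphs in general; this row treats simple
graphs.) -/
theorem result {V : Type u} [Fintype V]
    [DecidableEq V] (G : SimpleGraph V) [DecidableRel G.Adj] (hconn : G.Connected) (c : V → Bool)
    (hbip : ∀ v w : V, G.Adj v w → c v ≠ c w) (A : Type v) [AddCommGroup A] (e₀ : Sym2 V)
    (he₀ : e₀ ∈ G.edgeSet) (hdel : (G.deleteEdges {e₀}).Connected) :
    ∃ φ : A →+ (Sym2 V → A),
      (∀ a : A, (∀ e : Sym2 V, e ∉ G.edgeSet → φ a e = 0) ∧
        ∀ v : V, ∑ e ∈ G.incidenceFinset v, φ a e = 0) ∧
      ∀ a : A, φ a e₀ = a := by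
  induction e₀ using Sym2.ind with
  | h u w =>
  obtain ⟨φ, hs, hb, he⟩ := CombH.exists_cycle_through (A := A) G c hbip
    (he₀ : G.Adj u w) (G.deleteEdges {s(u, w)}) (G.deleteEdges_le _)
    (by simp) (hdel u w)
  refine ⟨φ, fun a => ⟨fun e he' => hs a e (fun h => he' ?_) (fun h => he' ?_), fun v => ?_⟩, he⟩
  · exact SimpleGraph.edgeSet_mono (G.deleteEdges_le _) h
  · exact h ▸ he₀
  · exact congrFun (hb a) v

end Groth.Agent.S13410
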