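import Groth.Statements.S13428
import Groth.Agent.NeronHD28.EtaleIso
-- import your own Groth.Agent.* helpers here

set_option autoImplicit false
universe u
open CategoryTheory AlgebraicGeometry
open NeronHD

namespace Groth.Agent.S13428

/-- Let S be a normal Noetherian scheme over a field of characteristic 0 and S₀ ⊆ S a
scheme-theoretically dense open. Let N be a smooth, separated and quasi-compact S-scheme with the
Néron mapping property for S₀ ⊆ S (restriction to S₀ of S-morphisms from smooth S-schemes is
bijective) such that N|S₀ → S₀ is étale, so that N is a quasi-projective Néron model of the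
quasi-projective étale S₀-scheme N|S₀. If M is a separated, quasi-compact, étale S-scheme and φ : M
→ N is an S-morphism restricting to an isomorphism over S₀ (so M is another quasi-projective étale
extension of N|S₀, and φ is its canonical map to the Néron model), then φ is an open immersion.
(Case of schemes of the published statement.) -/
theorem result {k : Type u} [Field k] [CharZero k] {S : Scheme.{u}} (σ : S ⟶ Spec (CommRingCat.of k)) [IsNoetherian S] (hS : Pi1.IsNormalScheme S) (S₀ : S.Opens) (hS₀ : CInt.IsSchematicallyDense S₀)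
    (N : Over S) [Smooth N.hom] [IsSeparated N.hom] [QuasiCompact N.hom]
    (hN : ∀ Z : Over S, Smooth Z.hom → Function.Bijective (fun g : Z ⟶ N => (Over.pullback S₀.ι).map g))
    [Etale ((Over.pullback S₀.ι).obj N).hom]
    (M : Over S) [Etale M.hom] [IsSeparated M.hom] [QuasiCompact M.hom]
    (φ : M ⟶ N) [IsIso ((Over.pullback S₀.ι).map φ)] :
    IsOpenImmersion φ.left := by
  haveI : IsLocallyNoetherian M.left := LocallyOfFiniteType.isLocallyNoetherian M.hom
  haveI : Etale (N.hom ∣_ S₀) := by
    rw [(by rw [← pullbackRestrictIsoRestrict_hom_morphismRestrict, Iso.inv_hom_id_assoc] : N.hom ∣_ S₀ =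
        (pullbackRestrictIsoRestrict N.hom S₀).inv ≫ Limits.pullback.snd N.hom S₀.ι)]
    haveI : Etale (Limits.pullback.snd N.hom S₀.ι) := ‹Etale ((Over.pullback S₀.ι).obj N).hom›
    infer_instance
  haveI : Etale N.hom := NeronHD28.etale_of_smooth_of_etale_restrict N.hom hS₀
  haveI : Etale (φ.left ≫ N.hom) := by rw [Over.w φ]; infer_instance
  haveI : Etale φ.left := Etale.of_comp φ.left N.hom
  haveI : IsSeparated (φ.left ≫ N.hom) := by rw [Over.w φ]; infer_instance
  haveI : IsSeparated φ.left := IsSeparated.of_comp φ.left N.hom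
  refine NeronHD28.isOpenImmersion_of_etale_separated_dense φ.left (M.hom ⁻¹ᵁ S₀)
    (An92.Rat.schDense_preimage_of_flat M.hom hS₀) ?_
  intro W a b ha hab
  have hw : a ≫ M.hom = b ≫ M.hom := by
    rw [← Over.w φ, ← Category.assoc, ← Category.assoc, hab]
  have hr : Set.range (a ≫ M.hom).base ⊆ Set.range S₀.ι.base := by
    rw [Scheme.Opens.range_ι]
    rintro _ ⟨t, rfl⟩
    exact ha t
  let l := IsOpenImmersion.lift S₀.ι (a ≫ M.hom) hr
  have hl : a ≫ M.hom = l ≫ S₀.ι := (IsOpenImmersion.lift_fac _ _ _).symm
  let Ψ : Limits.pullback M.hom S₀.ι ⟶ Limits.pullback N.hom S₀.ι :=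
    Limits.pullback.lift (Limits.pullback.fst M.hom S₀.ι ≫ φ.left) (Limits.pullback.snd M.hom S₀.ι)
      (by rw [Category.assoc, Over.w φ, Limits.pullback.condition])
  haveI : IsIso Ψ :=
    inferInstanceAs (IsIso ((Over.forget _).map ((Over.pullback S₀.ι).map φ)))
  have h : Limits.pullback.lift a l hl = Limits.pullback.lift b l (hw.symm.trans hl) := by
    rw [← cancel_mono Ψ]
    refine Limits.pullback.hom_ext ?_ ?_
    · simp only [Ψ, Category.assoc, Limits.pullback.lift_fst, Limits.pullback.lift_fst_assoc]
      exact hab
    · simp only [Ψ, Category.assoc, Limits.pullback.lift_snd]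
  have := congrArg (fun g => g ≫ Limits.pullback.fst M.hom S₀.ι) h
  simpa only [Limits.pullback.lift_fst] using this

end Groth.Agent.S13428
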