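import Groth.Statements.S13429
import Groth.Agent.NeronHD28.EtaleNormalization
import Groth.Agent.NeronHD28.NeronOpen
import Groth.Agent.NormY57.Scheme
import Groth.Agent.NagaNorm57.Scheme
import Mathlib.AlgebraicGeometry.ZariskisMainTheorem
-- import your own Groth.Agent.* helpers here

set_option autoImplicit false
universe u
open CategoryTheory AlgebraicGeometry
open NeronHD

namespace Groth.Agent.S13429

/-- Let S be a normal Noetherian scheme over a field of characteristic 0, S₀ ⊆ S a scheme-theoretically
dense open, and N₀ → S₀ separated, quasi-compact and étale (a quasi-projective étale S₀-scheme).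
Then N₀ has a quasi-projective Néron model: there exist a separated, quasi-compact, étale S-scheme N
and an isomorphism of S₀-schemes N|S₀ ≅ N₀ such that N has the Néron mapping property for S₀ ⊆ S,
i.e. for every smooth S-scheme Z restriction to S₀ is a bijection from S-morphisms Z → N onto
S₀-morphisms Z|S₀ → N|S₀ (this determines N up to unique isomorphism). (Case of schemes, with smooth
test schemes, of the published statement.) -/
theorem result {k : Type u} [Field k] [CharZero k] {S : Scheme.{u}} (σ : S ⟶ Spec (CommRingCat.of k)) [IsNoetherian S] (hS : Pi1.IsNormalScheme S) (S₀ : S.Opens) (hS₀ : CInt.IsSchematicallyDense S₀)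
    (N₀ : Over (S₀ : Scheme.{u})) [Etale N₀.hom] [IsSeparated N₀.hom] [QuasiCompact N₀.hom] :
    ∃ (N : Over S) (e : (Over.pullback S₀.ι).obj N ≅ N₀), Etale N.hom ∧ IsSeparated N.hom ∧ QuasiCompact N.hom ∧
      ∀ Z : Over S, Smooth Z.hom → Function.Bijective (fun g : Z ⟶ N => (Over.pullback S₀.ι).map g) := by
  let f : N₀.left ⟶ S := N₀.hom ≫ S₀.ι
  haveI : QuasiCompact S₀.ι := inferInstance
  haveI : Etale f := inferInstanceAs (Etale (N₀.hom ≫ S₀.ι))
  haveI : IsSeparated f := inferInstanceAs (IsSeparated (N₀.hom ≫ S₀.ι))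
  haveI : QuasiCompact f := inferInstanceAs (QuasiCompact (N₀.hom ≫ S₀.ι))
  haveI : LocallyQuasiFinite f := ((SchBasics.etale_iff_smooth_and_locallyQuasiFinite f).1 inferInstance).2
  haveI : IsLocallyNoetherian N₀.left := LocallyOfFiniteType.isLocallyNoetherian f
  let π : f.normalization ⟶ S := f.fromNormalization
  haveI : IsFinite π := NeronHD28.isFinite_fromNormalization_of_etale f hS
  haveI : LocallyOfFinitePresentation π := LocallyOfFinitePresentation.iff_locallyOfFiniteType.2 inferInstance
  have hT : Pi1.IsNormalScheme f.normalization :=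
    NormY57.isNormalScheme_normalization f (NeronHD28.isNormalScheme_of_smooth f hS)
      NagaNorm57.locallyFinite_irreducibleComponents
  let j : N₀.left ⟶ f.normalization := f.toNormalization
  haveI : IsOpenImmersion j := inferInstanceAs (IsOpenImmersion f.toNormalization)
  have hj : j ≫ π = f := f.toNormalization_fromNormalization
  have hWsm : j.opensRange ≤ π.smoothLocus := by
    rintro _ ⟨x, rfl⟩
    show x ∈ j ⁻¹ᵁ π.smoothLocus
    rw [Scheme.Hom.preimage_smoothLocus_eq]
    haveI : Smooth (j ≫ π) := by rw [hj]; infer_instance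
    rw [(j ≫ π).smoothLocus_eq_top]
    trivial
  let O := NeronHD28.neronOpen π S₀ j.opensRange
  let Nh : (O : Scheme.{u}) ⟶ S := O.ι ≫ π
  have hr : Set.range j ⊆ Set.range O.ι := by
    rw [Scheme.Opens.range_ι]
    exact fun t ht => NeronHD28.le_neronOpen π S₀ j.opensRange hWsm ht
  let fG : N₀.left ⟶ (O : Scheme.{u}) := IsOpenImmersion.lift O.ι j hr
  have hfG : fG ≫ O.ι = j := IsOpenImmersion.lift_fac _ _ _
  have hw : fG ≫ Nh = N₀.hom ≫ S₀.ι := by
    show fG ≫ O.ι ≫ π = _
    rw [← Category.assoc, hfG, hj]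
  have hland : ∀ {Y : Scheme.{u}} (a : Y ⟶ (O : Scheme.{u})) (b : Y ⟶ (S₀ : Scheme.{u})),
      a ≫ Nh = b ≫ S₀.ι → Set.range (a ≫ O.ι) ⊆ Set.range j := by
    intro Y a b hab
    rintro _ ⟨y, rfl⟩
    refine NeronHD28.mem_of_mem_neronOpen π S₀ j.opensRange (a y).2 ?_
    have e := congrArg (fun (k : Y ⟶ S) => k y) hab
    exact (show π (a y).1 = (b y).1 from e) ▸ (b y).2
  have hsq : IsPullback fG N₀.hom Nh S₀.ι := IsPullback.of_isLimit' ⟨hw⟩
    (Limits.PullbackCone.IsLimit.mk _
      (fun s => IsOpenImmersion.lift j (s.fst ≫ O.ι) (hland s.fst s.snd s.condition))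
      (fun s => by
        rw [← cancel_mono O.ι, Category.assoc, hfG, IsOpenImmersion.lift_fac])
      (fun s => by
        rw [← cancel_mono S₀.ι]
        refine (Category.assoc _ _ _).trans ?_
        show IsOpenImmersion.lift j (s.fst ≫ O.ι) _ ≫ f = _
        refine (congrArg (IsOpenImmersion.lift j (s.fst ≫ O.ι) _ ≫ ·) hj.symm).trans ?_
        rw [IsOpenImmersion.lift_fac_assoc, Category.assoc]
        exact s.condition)
      (fun s l h1 h2 => by
        rw [← cancel_mono j, IsOpenImmersion.lift_fac, ← hfG, ← Category.assoc, h1]))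
  let N : Over S := Over.mk Nh
  let e : (Over.pullback S₀.ι).obj N ≅ N₀ :=
    Over.isoMk hsq.isoPullback.symm (by
      show hsq.isoPullback.inv ≫ N₀.hom = Limits.pullback.snd Nh S₀.ι
      exact hsq.isoPullback_inv_snd)
  refine ⟨N, e, NeronHD28.etale_neronOpen π S₀ j.opensRange, inferInstanceAs (IsSeparated (O.ι ≫ π)), ?_, ?_⟩
  · haveI : IsLocallyNoetherian f.normalization := LocallyOfFiniteType.isLocallyNoetherian π
    exact inferInstanceAs (QuasiCompact (O.ι ≫ π))
  · intro Z hZ
    rw [NeronHD28.bijective_iff_extProp]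
    exact NeronHD28.extProp_neronOpen π S₀ j.opensRange hS hT hS₀ Z.hom

end Groth.Agent.S13429
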