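import Groth.Statements.S13434
import Groth.Agent.Hilb37.Misc

set_option autoImplicit false
universe u
open W4c1hilbpn

namespace Groth.Agent.S13434

open W4c1hilbpn in
/-- Let k be an infinite field, n ≥ 2, S the polynomial ring over k in n variables, I a monomial ideal
of S of finite colength and T(I) = Hom_S(I, S/I) with its grading by integer vectors. The graded
piece of T(I) in every multidegree all of whose entries are nonnegative, or all of whose entries are
negative, vanishes, and T(I) is spanned by its pieces of non-constant sign pattern (the spans, over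
the sets N of variable indices that are neither empty nor all indices, of the graded pieces whose
multidegree is negative exactly at N). -/
theorem result (k : Type u) [Field k] [Infinite k]
    (n : ℕ) (hn : 2 ≤ n) (I : Ideal (MvPolynomial (Fin n) k)) (hI : IsMonomial I)
    [Module.Finite k (MvPolynomial (Fin n) k ⧸ I)] :
    (∀ α : Fin n → ℤ, ((∀ i, 0 ≤ α i) ∨ (∀ i, α i < 0)) → tPiece I α = ⊥) ∧
      (⨆ N : {N : Set (Fin n) // N.Nonempty ∧ N ≠ Set.univ}, sigPiece I N.1) = ⊤ := by
  have hbot : ∀ α : Fin n → ℤ, ((∀ i, 0 ≤ α i) ∨ (∀ i, α i < 0)) → tPiece I α = ⊥ := fun α h => by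
    refine Hilb37.tPiece_eq_bot hI α fun f hf => ?_
    rcases h with h | h
    · exact Hilb37.RegFun.eq_zero_of_nonneg h hf
    · exact Hilb37.RegFun.eq_zero_of_nonpos hI (i := ⟨0, by omega⟩) (j := ⟨1, by omega⟩) (by simp) (h _) (h _)
        (fun l => (h l).le) hf
  refine ⟨hbot, ?_⟩
  rw [eq_top_iff, ← Hilb37.iSup_all hI]
  refine iSup_le fun α => ?_
  by_cases h : (∀ i, 0 ≤ α i) ∨ (∀ i, α i < 0)
  · rw [hbot α h]; exact bot_le
  · simp only [not_or, not_forall, not_le, not_lt] at h
    obtain ⟨⟨i, hi⟩, ⟨j, hj⟩⟩ := h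
    refine le_iSup_of_le ⟨{x | α x < 0}, ⟨i, hi⟩, fun e => ?_⟩ (le_iSup_of_le ⟨α, fun x => Iff.rfl⟩ le_rfl)
    exact absurd (show j ∈ {x | α x < 0} by rw [e]; trivial) (not_lt.mpr hj)

end Groth.Agent.S13434
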