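import Groth.Statements.S13438
import Groth.Agent.Hilb37.Misc

set_option autoImplicit false
universe u
open W4c1hilbpn

namespace Groth.Agent.S13438

open W4c1hilbpn in
/-- Let k be an infinite field, S = k[x,y,z], and T(I) = Hom_S(I, S/I) graded by triples of integers (a
graded piece is indexed by its multidegree; its sign pattern records which of the three entries are
negative); let I be a monomial ideal of finite colength whose minimal monomial generators include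
x^a1 y^a2, x^b1 z^b3 and y^c2 z^c3 with all six exponents positive, and assume a1 ≥ b1 and a2 ≥ c2,
or b1 ≥ a1 and b3 ≥ c3, or c2 ≥ a2 and c3 ≥ b3. Then T(I) has a nonzero graded piece whose sign
pattern is negative at exactly two of the three variables. (The published statement draws the
conclusion that the corresponding point of the Hilbert scheme of points of affine 3-space is
singular; this row records the nonvanishing of a tangent piece of forbidden sign pattern, from which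
singularity follows by the smoothness criterion for monomial points.) -/
theorem result (k : Type u) [Field k] [Infinite k]
    (I : Ideal (MvPolynomial (Fin 3) k)) (hI : IsMonomial I) [Module.Finite k (MvPolynomial (Fin 3) k ⧸ I)]
    (a1 a2 b1 b3 c2 c3 : ℕ) (ha1 : 0 < a1) (ha2 : 0 < a2) (hb1 : 0 < b1) (hb3 : 0 < b3)
    (hc2 : 0 < c2) (hc3 : 0 < c3)
    (hA : e3 a1 a2 0 ∈ exps I ∧ e3 (a1 - 1) a2 0 ∉ exps I ∧ e3 a1 (a2 - 1) 0 ∉ exps I)
    (hB : e3 b1 0 b3 ∈ exps I ∧ e3 (b1 - 1) 0 b3 ∉ exps I ∧ e3 b1 0 (b3 - 1) ∉ exps I)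
    (hC : e3 0 c2 c3 ∈ exps I ∧ e3 0 (c2 - 1) c3 ∉ exps I ∧ e3 0 c2 (c3 - 1) ∉ exps I)
    (hcase : (b1 ≤ a1 ∧ c2 ≤ a2) ∨ (a1 ≤ b1 ∧ c3 ≤ b3) ∨ (a2 ≤ c2 ∧ b3 ≤ c3)) :
    sigPiece I ({0, 1} : Set (Fin 3)) ≠ ⊥ ∨ sigPiece I ({0, 2} : Set (Fin 3)) ≠ ⊥ ∨
      sigPiece I ({1, 2} : Set (Fin 3)) ≠ ⊥ := by
  obtain ⟨hA, hA1, hA2⟩ := hA
  obtain ⟨hB, hB1, hB3⟩ := hB
  obtain ⟨hC, hC2, hC3⟩ := hC
  have mA : ∀ x, ![(a1 : ℤ), a2, (0 : ℕ)] - Hilb37.ev x ∉ Hilb37.expZ I := fun x =>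
    Hilb37.sub_ev_notMem x (fun _ => Or.inr hA1) (fun _ => Or.inr hA2) (fun _ => Or.inl rfl)
  have mB : ∀ x, ![(b1 : ℤ), (0 : ℕ), b3] - Hilb37.ev x ∉ Hilb37.expZ I := fun x =>
    Hilb37.sub_ev_notMem x (fun _ => Or.inr hB1) (fun _ => Or.inl rfl) (fun _ => Or.inr hB3)
  have mC : ∀ x, ![((0 : ℕ) : ℤ), c2, c3] - Hilb37.ev x ∉ Hilb37.expZ I := fun x =>
    Hilb37.sub_ev_notMem x (fun _ => Or.inl rfl) (fun _ => Or.inr hC2) (fun _ => Or.inr hC3)
  have eA := Hilb37.e3_mem_expZ.mpr hA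
  have eB := Hilb37.e3_mem_expZ.mpr hB
  have eC := Hilb37.e3_mem_expZ.mpr hC
  rcases hcase with ⟨h1, h2⟩ | ⟨h1, h2⟩ | ⟨h1, h2⟩
  · left
    refine Hilb37.three_gen hI 2 (by ext x; fin_cases x <;> simp) eA mA eB (mB _) eC (mC _)
      ?_ ?_ ?_ ?_ ?_ ?_ ?_ ?_ ?_ <;> simp <;> omega
  · right; left
    refine Hilb37.three_gen hI 1 (by ext x; fin_cases x <;> simp) eB mB eC (mC _) eA (mA _)
      ?_ ?_ ?_ ?_ ?_ ?_ ?_ ?_ ?_ <;> simp <;> omega
  · right; right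
    refine Hilb37.three_gen hI 0 (by ext x; fin_cases x <;> simp) eC mC eA (mA _) eB (mB _)
      ?_ ?_ ?_ ?_ ?_ ?_ ?_ ?_ ?_ <;> simp <;> omega

end Groth.Agent.S13438
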