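import Groth.Statements.S13439
import Groth.Agent.Hilb37.Misc

set_option autoImplicit false
universe u
open W4c1hilbpn

namespace Groth.Agent.S13439

open W4c1hilbpn in
/-- Let k be an infinite field, S = k[x,y,z], and T(I) = Hom_S(I, S/I) graded by triples of integers (a
graded piece is indexed by its multidegree; its sign pattern records which of the three entries are
negative); let I be a strongly stable ideal of finite colength (variables ordered x > y > z). Then x
lies in I if and only if the three graded pieces of T(I) whose sign pattern is negative at exactly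
two of the three variables all vanish. (The published statement phrases the right-hand side as
smoothness of the corresponding point of the Hilbert scheme of points of affine 3-space, which for a
monomial point is equivalent to this vanishing; the row records the vanishing condition, which is
what the argument establishes.) -/
theorem result (k : Type u) [Field k] [Infinite k]
    (I : Ideal (MvPolynomial (Fin 3) k)) (hI : IsStronglyStable I) [Module.Finite k (MvPolynomial (Fin 3) k ⧸ I)] :
    (MvPolynomial.X 0 : MvPolynomial (Fin 3) k) ∈ I ↔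
      (sigPiece I ({1, 2} : Set (Fin 3)) = ⊥ ∧ sigPiece I ({0, 2} : Set (Fin 3)) = ⊥ ∧
        sigPiece I ({0, 1} : Set (Fin 3)) = ⊥) := by
  classical
  have hM := hI.1
  have hX : (MvPolynomial.X 0 : MvPolynomial (Fin 3) k) ∈ I ↔ Hilb37.ev (0 : Fin 3) ∈ Hilb37.expZ I := by
    rw [show Hilb37.ev (0 : Fin 3) = Hilb37.toZ (Finsupp.single 0 1) from
      funext fun i => by fin_cases i <;> simp [Hilb37.ev, Hilb37.toZ], Hilb37.toZ_mem_expZ]
    exact Iff.rfl
  constructor
  · intro hx
    have h0 := hX.mp hx
    have hzero : ∀ x ∈ Hilb37.stand I, x 0 = 0 := fun x hx => by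
      by_contra hne
      refine Hilb37.not_expZ_of_stand hx (Hilb37.expZ_mono h0 fun i => ?_)
      have := hx.1 0; have := hx.1 1; have := hx.1 2
      fin_cases i <;> simp [Hilb37.ev] <;> omega
    have key : ∀ (α : Fin 3 → ℤ) (y : Fin 3), y ≠ 0 → α 0 < 0 → α y < 0 → ∀ f ∈ Hilb37.RegFun I α, f = 0 := by
      intro α y hy hα hαy f hf
      funext γ
      by_contra hne
      have h : γ ∈ Hilb37.stand I ∧ γ - α ∈ Hilb37.expZ I := by by_contra h; exact hne (hf.1 γ h)
      have h1 := h.1.1 y
      refine hne (Hilb37.RegFun.eq_zero hf (γ := Function.update γ y (α y)) ?_ ?_ ⟨y, by simpa using hαy⟩)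
      · refine Hilb37.expZ_mono h0 fun i => ?_
        have := h.2.1 i
        simp only [Pi.sub_apply] at this
        have := hzero γ h.1
        simp only [Hilb37.ev, Pi.sub_apply, Function.update_apply, Pi.single_apply]
        by_cases hi : i = y
        · subst hi; simp [hy]
        · simp [hi]; split_ifs <;> (try subst_vars) <;> simp at this ⊢ <;> omega
      · intro i
        simp only [Function.update_apply]
        split_ifs with hi
        · subst hi; omega
        · exact le_rfl
    refine ⟨Hilb37.sig_bot hM fun α hα => ?_, Hilb37.sig_bot hM fun α hα => key α 2 (by decide)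
        ((hα 0).mpr (by simp)) ((hα 2).mpr (by simp)),
      Hilb37.sig_bot hM fun α hα => key α 1 (by decide) ((hα 0).mpr (by simp)) ((hα 1).mpr (by simp))⟩
    intro f hf
    have ha : ¬ α 0 < 0 := fun h => by simpa using (hα 0).mp h
    by_cases h00 : α 0 = 0
    · exact Hilb37.RegFun.eq_zero_of_nonpos hM (i := 1) (j := 2) (by decide) ((hα 1).mpr (by simp))
        ((hα 2).mpr (by simp)) ((Hilb37.forall_fin3 0).mpr
          ⟨h00.le, ((hα 1).mpr (by simp)).le, ((hα 2).mpr (by simp)).le⟩) hf
    · funext γ
      refine hf.1 γ fun h => ?_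
      have := h.2.1 0
      have := hzero γ h.1
      simp only [Pi.sub_apply] at *
      omega
  · rintro ⟨-, -, h2⟩
    by_contra hx
    have hx' : Hilb37.ev (0 : Fin 3) ∈ Hilb37.stand I :=
      (Hilb37.stand_or_expZ (Hilb37.ev_nonneg 0)).resolve_right fun h => hx (hX.mpr h)
    have h0s : (0 : Fin 3 → ℤ) ∈ Hilb37.stand I :=
      Hilb37.stand_mono hx' (Hilb37.ev_nonneg 0) (fun _ => le_rfl)
    obtain ⟨t, ht, ht'⟩ := Hilb37.exists_exit hM 0 hx'
    set u : Fin 3 → ℤ := (t : ℤ) • Hilb37.ev 0 + Hilb37.ev 0 with hu
    have hus : u ∈ Hilb37.stand I := by rw [hu, add_comm]; exact ht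
    have hu' : u + Hilb37.ev 0 ∈ Hilb37.expZ I := by
      convert ht' using 1
      funext i
      simp only [hu, Pi.add_apply, Pi.smul_apply, smul_eq_mul]
      push_cast
      ring
    obtain ⟨p, hp, hp'⟩ := Hilb37.exists_exit hM 1 hus
    obtain ⟨z, hz, hz'⟩ := Hilb37.exists_exit hM 2 h0s
    set A : Fin 3 → ℤ := u + ((p + 1 : ℕ) : ℤ) • Hilb37.ev 1 with hA
    set γ : Fin 3 → ℤ := 0 + (z : ℤ) • Hilb37.ev 2 with hγ
    have cu : u 0 = t + 1 ∧ u 1 = 0 ∧ u 2 = 0 := by simp [hu, Hilb37.ev]
    have cA : A 0 = t + 1 ∧ A 1 = p + 1 ∧ A 2 = 0 := by simp [hA, Hilb37.ev, cu.1, cu.2.1, cu.2.2]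
    have cγ : γ 0 = 0 ∧ γ 1 = 0 ∧ γ 2 = z := by simp [hγ, Hilb37.ev]
    have hz1 : γ + Hilb37.ev 2 ∈ Hilb37.expZ I := by
      convert hz' using 1
      funext i
      simp only [hγ, Pi.add_apply, Pi.smul_apply, smul_eq_mul]
      push_cast
      ring
    refine Hilb37.socle_ne_bot hM (A := A) (γ := γ) hp' (Hilb37.min_expZ fun i => ?_) hz
      (Hilb37.max_stand hz.1 fun i => ?_) ?_ h2
    · have hpred : u + (p : ℤ) • Hilb37.ev 1 ∉ Hilb37.expZ I := Hilb37.not_expZ_of_stand hp
      fin_cases i
      · intro h
        refine hpred ?_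
        have hs := Hilb37.stable_expZ hI (γ := A - Hilb37.ev 0) h (i := 0) (j := 1) (by decide)
          (by simp [Hilb37.ev, cA.2.1] <;> omega)
        convert hs using 1
        funext i
        simp only [hA, Pi.add_apply, Pi.sub_apply, Pi.smul_apply, smul_eq_mul]
        push_cast
        ring
      · intro h
        refine hpred ?_
        convert h using 1
        funext i
        simp only [hA, Pi.add_apply, Pi.sub_apply, Pi.smul_apply, smul_eq_mul, Fin.mk_one]
        push_cast
        ring
      · intro h
        have := h.1 2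
        simp [Hilb37.ev, cA.2.2] at this
    · fin_cases i
      · convert Hilb37.stable_expZ hI hz1 (i := 0) (j := 2) (by decide) (by simp [Hilb37.ev, cγ.2.2] <;> omega) using 1
        simp
      · convert Hilb37.stable_expZ hI hz1 (i := 1) (j := 2) (by decide) (by simp [Hilb37.ev, cγ.2.2] <;> omega) using 1
        simp
      · exact hz1
    · intro i
      fin_cases i <;> simp [cA.1, cA.2.1, cA.2.2, cγ.1, cγ.2.1, cγ.2.2] <;> omega

end Groth.Agent.S13439
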