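import Groth.Statements.S1344
import Groth.Agent.FlatMor66.CMLocalDim

set_option autoImplicit false
universe u
open FlatMor

namespace Groth.Agent.S1344

open AlgebraicGeometry CategoryTheory Limits in
/-- Let f be locally of finite type between locally Noetherian schemes and Cohen–Macaulay at every
point. Then for every point x of the source with image y, the local dimension of the source at x
equals the local dimension of the target at y plus the local dimension at x of the fibre over y. -/
theorem result {X Y : Scheme.{u}} (f : X ⟶ Y) [IsLocallyNoetherian X] [IsLocallyNoetherian Y] [LocallyOfFiniteType f]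
    (hf : ∀ x : X, MoreMor.IsCMAt f x) (x : X) :
    FlatMor.localDim ↑X x = FlatMor.localDim ↑Y (f x) + FlatMor.fibreDimAt f x := by
  have : Flat f := (Flat.iff_flat_stalkMap f).2 fun z => (hf z).1
  obtain ⟨z, -, -, hd, -, -⟩ := Groth.Agent.E4O.exists_fibreDimAt_eq f x
  obtain ⟨U, g, hxU, hg, hqf, hfl⟩ := Groth.Agent.CM62.exists_flat_qf_toAffineSpace f x _ hd (hf x)
  rw [hd]
  exact Groth.Agent.FlatMor66.CMLocalDim.localDim_eq_add f U
    (fun a ha => Groth.Agent.CM62.fibreDimAt_eq f g hg ⟨a, ha⟩) x hxU

end Groth.Agent.S1344
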