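import Groth.Statements.S13440
import Groth.Agent.Hilb37.Bound

set_option autoImplicit false
universe u
open W4c1hilbpn

namespace Groth.Agent.S13440

open W4c1hilbpn in
/-- Let k be an infinite field, S = k[x,y,z], and T(I) = Hom_S(I, S/I) graded by triples of integers (a
graded piece is indexed by its multidegree; its sign pattern records which of the three entries are
negative); let I be a monomial ideal of finite colength with staircase numbers b_{i,j} = the number
of c with x^i y^j z^c outside I. For all natural numbers a1, a2, the span of the graded pieces of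
T(I) of multidegrees (a1, a2, c) with c < 0 has dimension at most the sum, over all i ≥ a1 and j ≥
a2, of b_{i,j} - max(b_{i+1,j}, b_{i,j+1}) (a sum with finitely many nonzero terms). -/
theorem result (k : Type u) [Field k] [Infinite k]
    (I : Ideal (MvPolynomial (Fin 3) k)) (hI : IsMonomial I) [Module.Finite k (MvPolynomial (Fin 3) k ⧸ I)] (a1 a2 : ℕ) :
    Module.finrank k ↥(⨆ α : {α : Fin 3 → ℤ // α 0 = (a1 : ℤ) ∧ α 1 = (a2 : ℤ) ∧ α 2 < 0}, tPiece I α.1) ≤
      ∑ᶠ p : ℕ × ℕ, (if a1 ≤ p.1 ∧ a2 ≤ p.2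
        then stairZ I p.1 p.2 - max (stairZ I (p.1 + 1) p.2) (stairZ I p.1 (p.2 + 1)) else 0) := by
  classical
  obtain ⟨N, hN⟩ := Hilb37.exists_bound hI
  let s : Finset ℤ := (Finset.Icc (-(N : ℤ)) N).filter (· < 0)
  have hbot : ∀ α : Fin 3 → ℤ, (α 0 = (a1 : ℤ) ∧ α 1 = (a2 : ℤ) ∧ α 2 < 0) →
      α ∉ s.image (fun c => Hilb37.pt 2 a1 a2 c) → tPiece I α = ⊥ := fun α hα hn => by
    refine Hilb37.tPiece_eq_bot hI α (hN.2 α fun h => hn (Finset.mem_image.mpr ⟨α 2, ?_, ?_⟩))
    · exact Finset.mem_filter.mpr ⟨Finset.mem_Icc.mpr (Hilb37.mem_box.mp h 2), hα.2.2⟩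
    · rw [Hilb37.pt_two_eq]
      funext i
      fin_cases i <;> simp [hα.1, hα.2.1]
  rw [Hilb37.finrank_iSup hI hbot, Finset.filter_true_of_mem (fun α hα => ?_), Finset.sum_image fun x _ y _ e => ?_]
  · refine (Hilb37.colSum_neg_le hI hN 2 a1 a2 s).trans (le_of_eq ?_)
    rw [finsum_eq_sum_of_support_subset (s := Finset.range (N + 1) ×ˢ Finset.range (N + 1)) _ fun p hp => ?_,
      Finset.sum_product]
    · simp only [Hilb37.nbr, Hilb37.stairs_two]
    · by_contra h
      simp only [Finset.coe_product, Set.mem_prod, Finset.coe_range, Set.mem_Iio, not_and_or, not_lt] at h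
      refine hp ?_
      show (if _ then _ else _) = 0
      rw [← Hilb37.stairs_two, Hilb37.stairs_eq_zero hI hN 2 (by omega)]
      simp
  · have := congrFun e 2
    rwa [Hilb37.pt_self, Hilb37.pt_self] at this
  · obtain ⟨c, hc, rfl⟩ := Finset.mem_image.mp hα
    exact ⟨Hilb37.pt_one 2 (a1 : ℤ) a2 c, Hilb37.pt_two 2 (a1 : ℤ) a2 c, (Finset.mem_filter.mp hc).2⟩

end Groth.Agent.S13440
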