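import Groth.Statements.S13441
import Groth.Agent.Hilb37.Misc

set_option autoImplicit false
universe u
open W4c1hilbpn

namespace Groth.Agent.S13441

open W4c1hilbpn in
/-- Let k be an infinite field, S = k[x,y,z] with variables ordered x > y > z, and I a strongly stable
ideal of finite colength, with staircase numbers b^z_{i,j} = the number of c with x^i y^j z^c
outside I and b^y_{i,j} = the number of b with x^i y^b z^j outside I. Then b^z_{i+1,j} ≤ b^z_{i,j+1}
and b^y_{i+1,j} ≤ b^y_{i,j+1} for all i and j (equivalently the maximum of the two neighbouring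
staircase numbers is the second one). -/
theorem result (k : Type u) [Field k] [Infinite k]
    (I : Ideal (MvPolynomial (Fin 3) k)) (hI : IsStronglyStable I) [Module.Finite k (MvPolynomial (Fin 3) k ⧸ I)] (i j : ℕ) :
    stairZ I (i + 1) j ≤ stairZ I i (j + 1) ∧ stairY I (i + 1) j ≤ stairY I i (j + 1) := by
  classical
  have hstand := Hilb37.stand_finite hI.1
  constructor
  · haveI := hstand.to_subtype
    haveI : Finite {c : ℕ // e3 i (j + 1) c ∉ exps I} := Finite.of_injective
      (β := Hilb37.stand I) (fun c => ⟨Hilb37.toZ (e3 i (j + 1) c.1), Hilb37.toZ_mem_stand.mpr c.2⟩) fun c c' e => by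
        have h := congrFun (congrArg Subtype.val e) 2
        exact Subtype.ext (Int.ofNat_inj.mp h)
    refine Nat.card_le_card_of_injective (fun c => (⟨c.1, fun h => c.2 ?_⟩ : {c : ℕ // e3 i (j + 1) c ∉ exps I}))
      fun a b h => Subtype.ext (congrArg Subtype.val h : _)
    convert hI.2 _ h 0 1 (by decide) (Nat.succ_pos j) using 1
    ext x
    simp only [Finsupp.add_apply, Finsupp.tsub_apply, Finsupp.single_apply]
    fin_cases x <;> simp [(Hilb37.e3_apply _ _ _).1, (Hilb37.e3_apply _ _ _).2.1, (Hilb37.e3_apply _ _ _).2.2]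
  · haveI := hstand.to_subtype
    haveI : Finite {c : ℕ // e3 i c (j + 1) ∉ exps I} := Finite.of_injective
      (β := Hilb37.stand I) (fun c => ⟨Hilb37.toZ (e3 i c.1 (j + 1)), Hilb37.toZ_mem_stand.mpr c.2⟩) fun c c' e => by
        have h := congrFun (congrArg Subtype.val e) 1
        exact Subtype.ext (Int.ofNat_inj.mp h)
    refine Nat.card_le_card_of_injective (fun c => (⟨c.1, fun h => c.2 ?_⟩ : {c : ℕ // e3 i c (j + 1) ∉ exps I}))
      fun a b h => Subtype.ext (congrArg Subtype.val h : _)
    convert hI.2 _ h 0 2 (by decide) (Nat.succ_pos j) using 1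
    ext x
    simp only [Finsupp.add_apply, Finsupp.tsub_apply, Finsupp.single_apply]
    fin_cases x <;> simp [(Hilb37.e3_apply _ _ _).1, (Hilb37.e3_apply _ _ _).2.1, (Hilb37.e3_apply _ _ _).2.2]

end Groth.Agent.S13441
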