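import Groth.Statements.S13445
import Groth.Agent.Hilb37.Coords
import Groth.Agent.Hilb37.PowerBound

set_option autoImplicit false
universe u
open W4c1hilbpn

namespace Groth.Agent.S13445

open W4c1hilbpn in
/-- Let k be an infinite field, S = k[x,y,z] with irrelevant ideal m, and d, r natural numbers with d ≤
C(r+2, 3). For every ideal I of S of colength d, three times the dimension of Hom_S(I, S/I) is at
most four times the dimension of Hom_S(m^r, S/m^r). -/
theorem result (k : Type u) [Field k] [Infinite k] (d r : ℕ)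
    (hdr : d ≤ Nat.choose (r + 2) 3) (I : Ideal (MvPolynomial (Fin 3) k)) [Module.Finite k (MvPolynomial (Fin 3) k ⧸ I)]
    (hd : Module.finrank k (MvPolynomial (Fin 3) k ⧸ I) = d) :
    3 * Module.finrank k (Tgt I) ≤ 4 * Module.finrank k (Tgt ((Ideal.span (Set.range (MvPolynomial.X : Fin 3 → MvPolynomial (Fin 3) k))) ^ r)) := by
  obtain ⟨f, hf, hf0, hfr⟩ := Hilb37.exists_low_degree r I (by
    have h1 : (r + 2 + 1).choose 3 = (r + 2).choose 2 + (r + 2).choose 3 := Nat.choose_succ_succ _ _
    have h2 : 0 < (r + 2).choose 2 := Nat.choose_pos (by omega)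
    rw [show r + 3 = (r + 2) + 1 from rfl, hd]
    omega)
  have hq : MvPolynomial.homogeneousComponent f.totalDegree f ≠ 0 := by
    intro h
    obtain ⟨c, hc, hce⟩ := f.support.exists_mem_eq_sup (MvPolynomial.support_nonempty.mpr hf0) (fun s => s.sum fun _ e => e)
    have h' := congrArg (MvPolynomial.coeff c) h
    rw [MvPolynomial.coeff_homogeneousComponent, MvPolynomial.coeff_zero, if_pos (by exact hce.symm)] at h'
    exact MvPolynomial.mem_support_iff.mp hc h'
  obtain ⟨v, hv, hv'⟩ := Hilb37.exists_eval_ne hq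
  set φ := Hilb37.sub0Equiv v hv with hφ
  obtain ⟨hfin, hdim, hle⟩ := Hilb37.finrank_tgt_le_map φ I
  set I' := I.map (φ : MvPolynomial (Fin 3) k →+* MvPolynomial (Fin 3) k) with hI'
  set m : MonomialOrder (Fin 3) := MonomialOrder.degLex with hm
  have hlead : Finsupp.single 0 f.totalDegree ∈ Hilb37.initExps m I' := by
    refine ⟨Hilb37.sub0 v f, Ideal.mem_map_of_mem (φ : MvPolynomial (Fin 3) k →+* MvPolynomial (Fin 3) k) hf,
      fun h => hf0 (φ.injective ((show φ f = 0 from h).trans (map_zero φ).symm)), ?_⟩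
    exact Hilb37.degLex_sub0 v hv'
  have := Hilb37.finite_quot_initI m I'
  have hp : ∀ γ ∈ Hilb37.stand (Hilb37.initI m I'), γ 0 < (f.totalDegree : ℤ) := fun γ hγ => by
    by_contra h
    push Not at h
    refine hγ.2 ?_
    rw [Hilb37.exps_initI]
    refine Hilb37.initExps_mono m I' hlead ?_
    rw [Finsupp.single_le_iff, Hilb37.toN_apply]
    omega
  have hT := Hilb37.finrank_tgt_le_of_pow (Hilb37.isMonomial_initI m I') hp
  rw [Hilb37.finrank_quot_initI, hdim, hd] at hT
  refine le_trans (Nat.mul_le_mul_left 3 (hle.trans ((Hilb37.finrank_tgt_le_initI m I').trans hT))) ?_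
  rw [show Module.finrank k (Tgt ((Ideal.span (Set.range (MvPolynomial.X : Fin 3 → MvPolynomial (Fin 3) k))) ^ r)) = _
    from Hilb37.finrank_tgt_mPow]
  have h3 : 6 * (r + 2).choose 3 = (r + 2) * (r + 1) * r := by
    have := Nat.descFactorial_eq_factorial_mul_choose (r + 2) 3
    simp [Nat.descFactorial_succ, Nat.factorial] at this
    rw [← this]; ring
  have h2 : 2 * (r + 2).choose 2 = (r + 2) * (r + 1) := by
    have := Nat.descFactorial_eq_factorial_mul_choose (r + 2) 2
    simp [Nat.descFactorial_succ, Nat.factorial] at this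
    rw [← this]; ring
  have h1 : 2 * (r + 1).choose 2 = (r + 1) * r := by
    have := Nat.descFactorial_eq_factorial_mul_choose (r + 1) 2
    simp [Nat.descFactorial_succ, Nat.factorial] at this
    rw [← this]; ring
  have e : 3 * ((2 * f.totalDegree + 1) * d) * 4 ≤ 4 * ((r + 2).choose 2 * (r + 1).choose 2) * 4 := by
    calc 3 * ((2 * f.totalDegree + 1) * d) * 4 ≤ 3 * ((2 * r + 1) * (r + 2).choose 3) * 4 :=
          Nat.mul_le_mul_right _ (Nat.mul_le_mul_left _ (Nat.mul_le_mul (by omega) hdr))
      _ = 2 * (2 * r + 1) * (6 * (r + 2).choose 3) := by ring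
      _ ≤ 4 * (r + 1) * (6 * (r + 2).choose 3) := Nat.mul_le_mul_right _ (by omega)
      _ = 4 * (2 * (r + 2).choose 2) * (2 * (r + 1).choose 2) := by rw [h3, h2, h1]; ring
      _ = _ := by ring
  omega

end Groth.Agent.S13445
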