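import Groth.Statements.S13446
import Groth.Agent.Hilb37.PowerBound

set_option autoImplicit false
universe u
open W4c1hilbpn

namespace Groth.Agent.S13446

open W4c1hilbpn in
/-- Let k be an infinite field, S = k[x,y,z] with irrelevant ideal m, and d, r, p natural numbers with d
≤ C(r+2, 3) and 4p ≤ 3r + 1. For every monomial ideal I of S of colength d containing x^p, the
dimension of Hom_S(I, S/I) is at most that of Hom_S(m^r, S/m^r). -/
theorem result (k : Type u) [Field k] [Infinite k] (d r p : ℕ)
    (hdr : d ≤ Nat.choose (r + 2) 3) (hp : 4 * p ≤ 3 * r + 1) (I : Ideal (MvPolynomial (Fin 3) k)) (hI : IsMonomial I)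
    [Module.Finite k (MvPolynomial (Fin 3) k ⧸ I)] (hd : Module.finrank k (MvPolynomial (Fin 3) k ⧸ I) = d)
    (hx : (MvPolynomial.X 0 : MvPolynomial (Fin 3) k) ^ p ∈ I) :
    Module.finrank k (Tgt I) ≤ Module.finrank k (Tgt ((Ideal.span (Set.range (MvPolynomial.X : Fin 3 → MvPolynomial (Fin 3) k))) ^ r)) := by
  have hI' : ∀ γ ∈ Hilb37.stand I, γ 0 < (p : ℤ) := fun γ hγ => by
    by_contra h
    push Not at h
    refine hγ.2 (Hilb37.exps_mono (β := Finsupp.single 0 p) ?_ ?_)
    · show MvPolynomial.monomial (Finsupp.single 0 p) (1 : k) ∈ I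
      rwa [← MvPolynomial.X_pow_eq_monomial]
    · rw [Finsupp.single_le_iff, Hilb37.toN_apply]
      omega
  refine le_trans (Hilb37.finrank_tgt_le_of_pow hI hI') ?_
  rw [hd, show Module.finrank k (Tgt ((Ideal.span (Set.range (MvPolynomial.X : Fin 3 → MvPolynomial (Fin 3) k))) ^ r)) = _
    from Hilb37.finrank_tgt_mPow]
  refine le_trans (Nat.mul_le_mul_left _ hdr) ?_
  have h3 : 6 * (r + 2).choose 3 = (r + 2) * (r + 1) * r := by
    have := Nat.descFactorial_eq_factorial_mul_choose (r + 2) 3
    simp [Nat.descFactorial_succ, Nat.factorial] at this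
    rw [← this]; ring
  have h2 : 2 * (r + 2).choose 2 = (r + 2) * (r + 1) := by
    have := Nat.descFactorial_eq_factorial_mul_choose (r + 2) 2
    simp [Nat.descFactorial_succ, Nat.factorial] at this
    rw [← this]; ring
  have h1 : 2 * (r + 1).choose 2 = (r + 1) * r := by
    have := Nat.descFactorial_eq_factorial_mul_choose (r + 1) 2
    simp [Nat.descFactorial_succ, Nat.factorial] at this
    rw [← this]; ring
  have e : (2 * p + 1) * (r + 2).choose 3 * 12 ≤ (r + 2).choose 2 * (r + 1).choose 2 * 12 := by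
    calc (2 * p + 1) * (r + 2).choose 3 * 12 = 2 * (2 * p + 1) * (6 * (r + 2).choose 3) := by ring
      _ ≤ 3 * (r + 1) * (6 * (r + 2).choose 3) := Nat.mul_le_mul_right _ (by omega)
      _ = 3 * (2 * (r + 2).choose 2) * (2 * (r + 1).choose 2) := by rw [h3, h2, h1]; ring
      _ = _ := by ring
  omega

end Groth.Agent.S13446
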