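import Groth.Statements.S13455
import Mathlib.RingTheory.MvPolynomial.Ideal

set_option autoImplicit false
universe u
open W4c1hilbpn

namespace Groth.Agent.S13455

/-- Let k be an algebraically closed field of characteristic different from 2, k0 ≥ 1 and n ≥ 2k0 - 1
natural numbers, S = k[x_0, ..., x_n], and e1 ≤ e2 ≤ k0 - 1. The ideal generated by all products x_p
x_q with e1 ≤ p, q ≤ e2 together with the products x_p x_{n-k0+1+q} for e1 ≤ p < q ≤ e2 is the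
intersection, over j from e1 to e2, of the ideals generated by the variables x_i with e1 ≤ i ≤ e2
and i ≠ j, the square x_j^2, and the variables x_{n-k0+1+q} for j < q ≤ e2 (a primary decomposition
of this monomial ideal). -/
theorem result (k : Type u) [Field k] [IsAlgClosed k] (hchar : ringChar k ≠ 2)
    (n k0 e1 e2 : ℕ) (hk : 1 ≤ k0) (hn : 2 * k0 ≤ n + 1) (he : e1 ≤ e2) (he2 : e2 + 1 ≤ k0) :
    Ideal.span ({f : MvPolynomial (Fin (n + 1)) k | ∃ p q : Fin (n + 1), e1 ≤ p.val ∧ p.val ≤ e2 ∧ e1 ≤ q.val ∧ q.val ≤ e2 ∧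
        f = MvPolynomial.X p * MvPolynomial.X q} ∪
      {f : MvPolynomial (Fin (n + 1)) k | ∃ p q m : Fin (n + 1), e1 ≤ p.val ∧ p.val < q.val ∧ q.val ≤ e2 ∧
        m.val + k0 = n + 1 + q.val ∧ f = MvPolynomial.X p * MvPolynomial.X m}) =
    ⨅ j : Fin (n + 1), ⨅ (_ : e1 ≤ j.val ∧ j.val ≤ e2),
      Ideal.span ({f : MvPolynomial (Fin (n + 1)) k | ∃ i : Fin (n + 1), e1 ≤ i.val ∧ i.val ≤ e2 ∧ i ≠ j ∧ f = MvPolynomial.X i} ∪
        {MvPolynomial.X j ^ 2} ∪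
        {f : MvPolynomial (Fin (n + 1)) k | ∃ q m : Fin (n + 1), j.val < q.val ∧ q.val ≤ e2 ∧ m.val + k0 = n + 1 + q.val ∧
          f = MvPolynomial.X m}) := by
  classical
  have hX : ∀ i : Fin (n + 1), (MvPolynomial.X i : MvPolynomial (Fin (n + 1)) k) =
      MvPolynomial.monomial (Finsupp.single i 1) (1 : k) := fun i => rfl
  have hXX : ∀ i j : Fin (n + 1), (MvPolynomial.X i * MvPolynomial.X j : MvPolynomial (Fin (n + 1)) k) =
      MvPolynomial.monomial (Finsupp.single i 1 + Finsupp.single j 1) (1 : k) := fun i j => by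
    rw [hX, hX, MvPolynomial.monomial_mul, one_mul]
  have hX2 : ∀ i : Fin (n + 1), (MvPolynomial.X i ^ 2 : MvPolynomial (Fin (n + 1)) k) =
      MvPolynomial.monomial (Finsupp.single i 2) (1 : k) := fun i => MvPolynomial.X_pow_eq_monomial
  let E : Fin (n + 1) → Prop := fun i => e1 ≤ i.val ∧ i.val ≤ e2
  let L : Set (Fin (n + 1) →₀ ℕ) := {β | ∃ p q : Fin (n + 1), E p ∧ E q ∧ β = Finsupp.single p 1 + Finsupp.single q 1} ∪
    {β | ∃ p q m : Fin (n + 1), e1 ≤ p.val ∧ p.val < q.val ∧ q.val ≤ e2 ∧ m.val + k0 = n + 1 + q.val ∧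
      β = Finsupp.single p 1 + Finsupp.single m 1}
  let J : Fin (n + 1) → Set (Fin (n + 1) →₀ ℕ) := fun j =>
    {β | ∃ i : Fin (n + 1), E i ∧ i ≠ j ∧ β = Finsupp.single i 1} ∪ {Finsupp.single j 2} ∪
    {β | ∃ q m : Fin (n + 1), j.val < q.val ∧ q.val ≤ e2 ∧ m.val + k0 = n + 1 + q.val ∧ β = Finsupp.single m 1}
  rw [show {f : MvPolynomial (Fin (n + 1)) k | ∃ p q : Fin (n + 1), e1 ≤ p.val ∧ p.val ≤ e2 ∧ e1 ≤ q.val ∧
      q.val ≤ e2 ∧ f = MvPolynomial.X p * MvPolynomial.X q} ∪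
      {f : MvPolynomial (Fin (n + 1)) k | ∃ p q m : Fin (n + 1), e1 ≤ p.val ∧ p.val < q.val ∧ q.val ≤ e2 ∧
        m.val + k0 = n + 1 + q.val ∧ f = MvPolynomial.X p * MvPolynomial.X m} =
      (fun β => MvPolynomial.monomial β (1 : k)) '' L from ?_]
  swap
  · ext f
    constructor
    · rintro (⟨p, q, h1, h2, h3, h4, rfl⟩ | ⟨p, q, m, h1, h2, h3, h4, rfl⟩)
      · exact ⟨_, Or.inl ⟨p, q, ⟨h1, h2⟩, ⟨h3, h4⟩, rfl⟩, (hXX p q).symm⟩
      · exact ⟨_, Or.inr ⟨p, q, m, h1, h2, h3, h4, rfl⟩, (hXX p m).symm⟩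
    · rintro ⟨_, ⟨p, q, h1, h2, rfl⟩ | ⟨p, q, m, h1, h2, h3, h4, rfl⟩, rfl⟩
      · exact Or.inl ⟨p, q, h1.1, h1.2, h2.1, h2.2, (hXX p q).symm⟩
      · exact Or.inr ⟨p, q, m, h1, h2, h3, h4, (hXX p m).symm⟩
  have hJ : ∀ j : Fin (n + 1), ({f : MvPolynomial (Fin (n + 1)) k | ∃ i : Fin (n + 1), e1 ≤ i.val ∧ i.val ≤ e2 ∧
      i ≠ j ∧ f = MvPolynomial.X i} ∪ {MvPolynomial.X j ^ 2} ∪
      {f : MvPolynomial (Fin (n + 1)) k | ∃ q m : Fin (n + 1), j.val < q.val ∧ q.val ≤ e2 ∧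
        m.val + k0 = n + 1 + q.val ∧ f = MvPolynomial.X m}) = (fun β => MvPolynomial.monomial β (1 : k)) '' J j := by
    intro j
    ext f
    constructor
    · rintro ((⟨i, h1, h2, h3, rfl⟩ | rfl) | ⟨q, m, h1, h2, h3, rfl⟩)
      · exact ⟨_, Or.inl (Or.inl ⟨i, ⟨h1, h2⟩, h3, rfl⟩), (hX i).symm⟩
      · exact ⟨_, Or.inl (Or.inr rfl), (hX2 j).symm⟩
      · exact ⟨_, Or.inr ⟨q, m, h1, h2, h3, rfl⟩, (hX m).symm⟩
    · rintro ⟨_, (⟨i, h1, h3, rfl⟩ | rfl) | ⟨q, m, h1, h2, h3, rfl⟩, rfl⟩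
      · exact Or.inl (Or.inl ⟨i, h1.1, h1.2, h3, (hX i).symm⟩)
      · exact Or.inl (Or.inr (hX2 j).symm)
      · exact Or.inr ⟨q, m, h1, h2, h3, (hX m).symm⟩
  have hs1 : ∀ (i : Fin (n + 1)) (c : ℕ) (β : Fin (n + 1) →₀ ℕ), Finsupp.single i c ≤ β ↔ c ≤ β i :=
    fun i c β => Finsupp.single_le_iff
  have hs2 : ∀ (i j : Fin (n + 1)) (β : Fin (n + 1) →₀ ℕ),
      Finsupp.single i 1 + Finsupp.single j 1 ≤ β ↔ if i = j then 2 ≤ β i else 1 ≤ β i ∧ 1 ≤ β j := by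
    intro i j β
    split_ifs with h
    · subst h
      rw [← Finsupp.single_add]
      exact hs1 _ _ _
    · refine ⟨fun hle => ⟨?_, ?_⟩, fun hle x => ?_⟩
      · simpa [Finsupp.single_apply, Ne.symm h] using hle i
      · simpa [Finsupp.single_apply, h] using hle j
      · simp only [Finsupp.add_apply, Finsupp.single_apply]
        split_ifs with a b b
        · exact absurd (a.trans b.symm) h
        · subst a; simpa using hle.1
        · subst b; simpa using hle.2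
        · simp
  ext f
  simp only [Submodule.mem_iInf, hJ, MvPolynomial.mem_ideal_span_monomial_image]
  constructor
  · intro hf j hj β hβ
    obtain ⟨s, hs, hle⟩ := hf β hβ
    rcases hs with ⟨p, q, hp, hq, rfl⟩ | ⟨p, q, m, h1, h2, h3, h4, rfl⟩
    · rw [hs2] at hle
      by_cases hpj : p = j
      · by_cases hqj : q = j
        · rw [if_pos (hpj.trans hqj.symm)] at hle
          exact ⟨_, Or.inl (Or.inr rfl), (hs1 _ _ _).mpr (hpj ▸ hle)⟩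
        · refine ⟨_, Or.inl (Or.inl ⟨q, hq, hqj, rfl⟩), (hs1 _ _ _).mpr ?_⟩
          rw [if_neg (fun e => hqj (e.symm.trans hpj))] at hle
          exact hle.2
      · refine ⟨_, Or.inl (Or.inl ⟨p, hp, hpj, rfl⟩), (hs1 _ _ _).mpr ?_⟩
        split_ifs at hle with h
        · omega
        · exact hle.1
    · have hne : p ≠ m := fun e => by have := congrArg Fin.val e; omega
      rw [hs2, if_neg hne] at hle
      by_cases hpj : p = j
      · exact ⟨_, Or.inr ⟨q, m, hpj ▸ h2, h3, h4, rfl⟩, (hs1 _ _ _).mpr hle.2⟩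
      · exact ⟨_, Or.inl (Or.inl ⟨p, ⟨h1, by omega⟩, hpj, rfl⟩), (hs1 _ _ _).mpr hle.1⟩
  · intro hf β hβ
    have hlast := hf ⟨e2, by omega⟩ ⟨he, le_rfl⟩ β hβ
    obtain ⟨p, hp, hpos⟩ : ∃ p, E p ∧ 1 ≤ β p := by
      obtain ⟨s, (⟨i, hi, -, rfl⟩ | rfl) | ⟨q, m, h1, h2, -, rfl⟩, hle⟩ := hlast
      · exact ⟨i, hi, (hs1 _ _ _).mp hle⟩
      · exact ⟨⟨e2, by omega⟩, ⟨he, le_rfl⟩, le_trans (by omega) ((hs1 _ _ _).mp hle)⟩
      · exact absurd h1 (by simp; omega)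
    obtain ⟨s, (⟨i, hi, hne, rfl⟩ | rfl) | ⟨q, m, h1, h2, h3, rfl⟩, hle⟩ := hf p hp β hβ
    · refine ⟨_, Or.inl ⟨p, i, hp, hi, rfl⟩, (hs2 _ _ _).mpr ?_⟩
      rw [if_neg hne.symm]
      exact ⟨hpos, (hs1 _ _ _).mp hle⟩
    · refine ⟨_, Or.inl ⟨p, p, hp, hp, rfl⟩, (hs2 _ _ _).mpr ?_⟩
      rw [if_pos rfl]
      exact (hs1 _ _ _).mp hle
    · refine ⟨_, Or.inr ⟨p, q, m, hp.1, h1, h2, h3, rfl⟩, (hs2 _ _ _).mpr ?_⟩
      have hp2 : p.val ≤ e2 := hp.2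
      rw [if_neg (fun e => by have := congrArg Fin.val e; omega)]
      exact ⟨hpos, (hs1 _ _ _).mp hle⟩

end Groth.Agent.S13455
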