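import Groth.Statements.S13458
import Groth.Agent.Var76.OmegaUniv
import Groth.Agent.Amp73.PullTensor
import Groth.Agent.Props58.LocFree.Affine
import Groth.Prelude.Def_FrameBundle
import Mathlib.RingTheory.Etale.Kaehler
import Mathlib.RingTheory.Etale.Field
import Mathlib.RingTheory.Smooth.StandardSmoothCotangent
import Mathlib.AlgebraicGeometry.Morphisms.Smooth
import Mathlib.AlgebraicGeometry.FunctionField
import Mathlib.AlgebraicGeometry.Noetherian
import Mathlib.AlgebraicGeometry.ResidueField
import Mathlib.LinearAlgebra.Dimension.OrzechProperty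

set_option autoImplicit false
universe u
open CategoryTheory CategoryTheory.Limits AlgebraicGeometry TopologicalSpace
open SmVar

namespace Groth.Agent.S13458

open CategoryTheory CategoryTheory.Limits AlgebraicGeometry TopologicalSpace Opposite
open Groth.Agent
open Groth.Agent.Props58.LocFree
open scoped TensorProduct

set_option backward.isDefEq.respectTransparency false
set_option maxHeartbeats 400000

/-- Images of the differentials of a formally étale subring span, and their span has the expected
dimension. -/
theorem span_and_rank (R B L : Type u) [CommRing R] [CommRing B] [Field L] [Algebra R B] [Algebra R L] [Algebra B L]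
    [IsScalarTower R B L] [Algebra.FormallyEtale B L] [Module.Free B Ω[B⁄R]] [Module.Finite B Ω[B⁄R]] [Nontrivial B] :
    Submodule.span L (Set.range fun b : B => KaehlerDifferential.D R L (algebraMap B L b)) = ⊤ ∧
      Module.finrank L (Ω[L⁄R]) = Module.finrank B (Ω[B⁄R]) := by
  let e := KaehlerDifferential.tensorKaehlerEquivOfFormallyEtale R B L
  refine ⟨eq_top_iff.2 fun z _ => ?_, ?_⟩
  · obtain ⟨w, rfl⟩ := e.surjective z
    induction w using TensorProduct.induction_on with
    | zero => rw [map_zero]; exact zero_mem _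
    | add a b ha hb => rw [map_add]; exact add_mem (ha trivial) (hb trivial)
    | tmul l m =>
      have hm : m ∈ Submodule.span B (Set.range (KaehlerDifferential.D R B)) := by
        rw [KaehlerDifferential.span_range_derivation]; trivial
      induction hm using Submodule.span_induction generalizing l with
      | mem y hy =>
        obtain ⟨b, rfl⟩ := hy
        have h1 : e (l ⊗ₜ[B] KaehlerDifferential.D R B b) = l • KaehlerDifferential.D R L (algebraMap B L b) := by
          simp [e]
        rw [h1]
        exact Submodule.smul_mem _ _ (Submodule.subset_span ⟨b, rfl⟩)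
      | zero => rw [TensorProduct.tmul_zero, map_zero]; exact zero_mem _
      | add a b _ _ ha hb => rw [TensorProduct.tmul_add, map_add]; exact add_mem (ha l trivial) (hb l trivial)
      | smul a m' _ h =>
        rw [TensorProduct.tmul_smul, ← algebraMap_smul L a, map_smul]
        exact Submodule.smul_mem _ _ (h l trivial)
  · rw [← e.finrank_eq, Module.finrank_baseChange]

/-- An injective on sections map of modules is a monomorphism. -/
theorem mono_of_injective {X : Scheme.{u}} {M N : X.Modules} (c : M ⟶ N)
    (h : ∀ W : X.Opens, Function.Injective (c.app W)) : Mono c := by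
  refine ⟨fun {Z} f g hfg => Scheme.Modules.hom_ext _ _ fun W => ?_⟩
  ext s
  refine h W ?_
  exact congr(Scheme.Modules.Hom.app $hfg W s)

/-- Linear independence from the spanning property at the generic point. -/
theorem eq_zero_of_comb {A L : Type u} [CommRing A] [Field L] [Algebra A L] {M : Type u} [AddCommGroup M] [Module A M]
    {W : Type u} [AddCommGroup W] [Module L W] [Module A W] [IsScalarTower A L W] [FiniteDimensional L W]
    (hinj : Function.Injective (algebraMap A L)) {n : ℕ} (hn : Module.finrank L W = n)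
    (l : M →ₗ[A] W) (v : Fin n → M) (S : Set W) (hS : Submodule.span L S = ⊤)
    (hSv : ∀ w ∈ S, ∃ a : Fin n → A, w = l (∑ i, a i • v i)) (a : Fin n → A)
    (ha : l (∑ i, a i • v i) = 0) : a = 0 := by
  have hspan : ⊤ ≤ Submodule.span L (Set.range fun i => l (v i)) := by
    rw [← hS, Submodule.span_le]
    intro w hw
    obtain ⟨b, rfl⟩ := hSv w hw
    simp only [map_sum, map_smul, SetLike.mem_coe, ← algebraMap_smul L (b _)]
    exact Submodule.sum_mem _ fun i _ => Submodule.smul_mem _ _ (Submodule.subset_span ⟨i, rfl⟩)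
  have hli := linearIndependent_of_top_le_span_of_card_eq_finrank hspan (by rw [Fintype.card_fin, hn])
  have h0 := Fintype.linearIndependent_iff.1 hli (fun i => algebraMap A L (a i)) (by
    rw [← ha, map_sum]
    simp only [map_smul, algebraMap_smul])
  funext i
  exact hinj (by rw [h0 i, Pi.zero_apply, map_zero])

/-- The residue field at the generic point is the fraction field of any affine chart. -/
theorem isLocalization_residueField {Y : Scheme.{u}} [AlgebraicGeometry.IsIntegral Y] {V : Y.Opens} (hV : IsAffineOpen V)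
    (y : Y) (hy : y = genericPoint Y) (hyV : y ∈ V) :
    letI := (Y.evaluation V y hyV).hom.toAlgebra
    IsLocalization (nonZeroDivisors Γ(Y, V)) (Y.residueField y) := by
  subst hy
  have : Nonempty V := ⟨⟨_, hyV⟩⟩
  letI := (Y.evaluation V (genericPoint Y) hyV).hom.toAlgebra
  have hfr : IsFractionRing Γ(Y, V) Y.functionField := functionField_isFractionRing_of_isAffineOpen Y V hV
  have hbij : Function.Bijective (Y.residue (genericPoint Y)).hom :=
    ⟨RingHom.injective (Y.residue (genericPoint Y)).hom, IsLocalRing.residue_surjective⟩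
  exact IsLocalization.isLocalization_of_algEquiv (S := Y.functionField) _
    (AlgEquiv.ofRingEquiv (f := RingEquiv.ofBijective (Y.residue (genericPoint Y)).hom hbij) fun b => rfl)

/-- Let k be a field, X and Y integral schemes each smooth over Spec k and of the same dimension, and φ
: X → Y a morphism over k which is dominant and separable: the residue field of X at its generic
point is a separable algebraic extension of the residue field of Y at the image point (the function
field of Y, as φ is dominant). Let Ω_Y and Ω_X be sheaves of differentials of Y and of X over k,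
given as universal derivations, and c : φ^*Ω_Y → Ω_X the compatible map (it sends the pullback of
d_Y s to d_X(φ^♯ s)). Then c is a monomorphism of O_X-modules, so the relative cotangent sequence of
φ is exact on the left as well. (The injectivity is what is stated here; the identification of the
cokernel with Ω_{X/Y} is the general cotangent sequence.) -/
theorem result (k : Type u) [Field k] {X Y : Scheme.{u}}
    (pX : X ⟶ Spec (CommRingCat.of k)) (pY : Y ⟶ Spec (CommRingCat.of k)) (φ : X ⟶ Y) (w : φ ≫ pY = pX)
    [IsIntegral X] [IsIntegral Y] [Smooth pX] [Smooth pY]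
    (hdim : topologicalKrullDim X = topologicalKrullDim Y) (hdom : DenseRange φ.base)
    (hsep : letI := (φ.residueFieldMap (genericPoint X)).hom.toAlgebra
      Algebra.IsSeparable (Y.residueField (φ.base (genericPoint X))) (X.residueField (genericPoint X)))
    (ΩY : Y.Modules) (dY : OmegaSh.Der pY ΩY) (hY : OmegaSh.IsUniversal dY)
    (ΩX : X.Modules) (dX : OmegaSh.Der pX ΩX) (hX : OmegaSh.IsUniversal dX)
    (c : (Scheme.Modules.pullback φ).obj ΩY ⟶ ΩX) (hc : OmegaSh.IsDiffCompat φ dY dX c) :
    Mono c := by
  classical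
  have : IsLocallyNoetherian Y := LocallyOfFiniteType.isLocallyNoetherian pY
  have : IsLocallyNoetherian X := LocallyOfFiniteType.isLocallyNoetherian pX
  obtain ⟨eY, heY⟩ := Var76.OmegaUniv.exists_iso pY dY hY
  obtain ⟨eX, heX⟩ := Var76.OmegaUniv.exists_iso pX dX hX
  have heX' : ∀ (W : X.Opens) (a : Γ(X, W)), eX.hom.app W (OmegaSh.dSect pX W a) = dX.app W a := fun W a => by
    rw [← Var76.OmegaUniv.dOmega_app (f := pX) W a, ← heX]
    rfl
  have heY' : ∀ (W : Y.Opens) (a : Γ(Y, W)), eY.hom.app W (OmegaSh.dSect pY W a) = dY.app W a := fun W a => by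
    rw [← Var76.OmegaUniv.dOmega_app (f := pY) W a, ← heY]
    rfl
  refine mono_of_injective c fun W₀ => ?_
  rw [injective_iff_map_eq_zero]
  intro z hz
  refine QC70.section_ext _ _ _ fun x hx => ?_
  -- charts
  obtain ⟨U, hU, V, hV, hφx, hVU, hss⟩ := Smooth.exists_isStandardSmooth pY (φ x)
  obtain ⟨A, hA, hxA, hAsub⟩ := exists_isAffineOpen_mem_and_subset (U := W₀ ⊓ φ ⁻¹ᵁ V) (x := x) ⟨hx, hφx⟩
  have hAW : A ≤ W₀ := fun p hp => (hAsub hp).1
  have hAV : A ≤ φ ⁻¹ᵁ V := fun p hp => (hAsub hp).2
  refine ⟨A, hAW, hxA, ?_⟩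
  have hAU : A ≤ pX ⁻¹ᵁ U := fun p hp => by
    show pX p ∈ U
    rw [← w, Scheme.Hom.comp_apply]
    exact hVU (hAV hp)
  letI : Algebra Γ(Spec (CommRingCat.of k), U) Γ(Y, V) := (pY.appLE U V hVU).hom.toAlgebra
  letI : Algebra Γ(Spec (CommRingCat.of k), U) Γ(X, A) := (pX.appLE U A hAU).hom.toAlgebra
  have : Algebra.IsStandardSmooth Γ(Spec (CommRingCat.of k), U) Γ(Y, V) := hss
  have : Nonempty V := ⟨⟨_, hφx⟩⟩
  -- points
  set η := genericPoint X
  have hη : φ η = genericPoint Y := by
    refine (IsGenericPoint.eq ?_ (genericPoint_spec Y))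
    show closure {φ η} = Set.univ
    refine Set.eq_univ_of_univ_subset ?_
    rw [← hdom.closure_range]
    refine closure_minimal ?_ isClosed_closure
    rintro _ ⟨p, rfl⟩
    exact ((genericPoint_specializes p).map φ.continuous).mem_closure
  have hηA : η ∈ A := (genericPoint_specializes x).mem_open A.isOpen hxA
  have hηV : φ η ∈ V := hAV hηA
  letI := (φ.residueFieldMap η).hom.toAlgebra
  letI : Algebra Γ(Y, V) (Y.residueField (φ η)) := (Y.evaluation V (φ η) hηV).hom.toAlgebra
  letI : Algebra Γ(X, A) (X.residueField η) := (X.evaluation A η hηA).hom.toAlgebra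
  letI : Algebra Γ(Y, V) (X.residueField η) := ((φ.residueFieldMap η).hom.comp (Y.evaluation V (φ η) hηV).hom).toAlgebra
  have : IsScalarTower Γ(Y, V) (Y.residueField (φ η)) (X.residueField η) := IsScalarTower.of_algebraMap_eq fun _ => rfl
  letI : Algebra Γ(Spec (CommRingCat.of k), U) (X.residueField η) :=
    ((algebraMap Γ(X, A) (X.residueField η)).comp (algebraMap _ Γ(X, A))).toAlgebra
  have : IsScalarTower Γ(Spec (CommRingCat.of k), U) Γ(X, A) (X.residueField η) :=
    IsScalarTower.of_algebraMap_eq fun _ => rfl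
  have hsq : ∀ b : Γ(Y, V), (φ.residueFieldMap η).hom (Y.evaluation V (φ η) hηV b) =
      X.evaluation A η hηA (φ.appLE V A hAV b) := by
    intro b
    have h1 := Scheme.evaluation_naturality_apply φ η hηV b
    refine h1.trans ?_
    show X.residue η (X.presheaf.germ _ η hηV (φ.app V b)) = X.residue η (X.presheaf.germ A η hηA (φ.appLE V A hAV b))
    rw [Scheme.Hom.appLE, CategoryTheory.comp_apply, X.presheaf.germ_res_apply]
  have : IsScalarTower Γ(Spec (CommRingCat.of k), U) Γ(Y, V) (X.residueField η) :=
    IsScalarTower.of_algebraMap_eq fun r => by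
      show X.evaluation A η hηA (pX.appLE U A hAU r) =
        (φ.residueFieldMap η).hom (Y.evaluation V (φ η) hηV (pY.appLE U V hVU r))
      rw [hsq, ← CategoryTheory.comp_apply (pY.appLE _ _ _), Scheme.Hom.appLE_comp_appLE]
      congr 1
      simp only [w]
  have : Algebra.IsSeparable (Y.residueField (φ η)) (X.residueField η) := hsep
  have : Algebra.FormallyEtale (Y.residueField (φ η)) (X.residueField η) := Algebra.FormallyEtale.of_isSeparable _ _
  have : IsLocalization (nonZeroDivisors Γ(Y, V)) (Y.residueField (φ η)) :=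
    isLocalization_residueField hV (φ η) hη hηV
  have : Algebra.FormallyEtale Γ(Y, V) (Y.residueField (φ η)) := Algebra.FormallyEtale.of_isLocalization (nonZeroDivisors Γ(Y, V))
  have : Algebra.FormallyEtale Γ(Y, V) (X.residueField η) := Algebra.FormallyEtale.comp _ (Y.residueField (φ η)) _
  obtain ⟨hspan, hrank⟩ := span_and_rank Γ(Spec (CommRingCat.of k), U) Γ(Y, V) (X.residueField η)
  -- frame of ΩY on V
  have := Omega57.isIso_toSect pY hV hU hVU
  have : (Omega.sheaf pY).IsQuasicoherent := Omega57.isQuasicoherent_omega pY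
  have : ΩY.IsQuasicoherent := QC70.isQuasicoherent_of_iso eY inferInstance
  set n := Module.finrank Γ(Y, V) Ω[Γ(Y, V)⁄Γ(Spec (CommRingCat.of k), U)]
  let lY : Ω[Γ(Y, V)⁄Γ(Spec (CommRingCat.of k), U)] ≃ₗ[Γ(Y, V)] Γ(ΩY, V) :=
    (asIso (OmAff.toSect pY U V hVU)).toLinearEquiv.trans
      (LinearEquiv.ofBijective
        { toFun := fun m => eY.hom.app V m
          map_add' := fun a b => map_add (eY.hom.app V).hom a b
          map_smul' := fun a m => eY.hom.app_smul a m }
        (ConcreteCategory.bijective_of_isIso (eY.hom.app V)))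
  obtain ⟨iY⟩ := Props58.LocFree.nonempty_iso_of_stalkBasis
    (Props58.LocFree.stalkBasis_of_basis hV ((Module.finBasis Γ(Y, V) Ω[Γ(Y, V)⁄Γ(Spec (CommRingCat.of k), U)]).map lY))
  obtain ⟨s, hs⟩ := Props58.LocFree.exists_stalkBasis_of_iso
    ((((Amp73.pullRestrictIso φ V).app ΩY).symm ≪≫
      (Scheme.Modules.pullback (φ ∣_ V)).mapIso
        (((Scheme.Modules.restrictFunctorIsoPullback V.ι).app ΩY).symm ≪≫ iY) ≪≫
      FrB.pullbackFreeIso (φ ∣_ V) n :
        ((Scheme.Modules.pullback φ).obj ΩY).restrict (φ ⁻¹ᵁ V).ι ≅ FlatMod.freeMod _ n))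
  have hb := hs.bijective hAV
  -- the linear map to the differentials of the function field
  have := Omega57.isIso_toSect pX hA hU hAU
  let eXl : Γ(ΩX, A) →ₗ[Γ(X, A)] Γ(Omega.sheaf pX, A) :=
    { toFun := fun m => eX.inv.app A m
      map_add' := fun a b => map_add (eX.inv.app A).hom a b
      map_smul' := fun a m => eX.inv.app_smul a m }
  let lX : Γ(ΩX, A) →ₗ[Γ(X, A)] Ω[X.residueField η⁄Γ(Spec (CommRingCat.of k), U)] :=
    (KaehlerDifferential.map Γ(Spec (CommRingCat.of k), U) Γ(Spec (CommRingCat.of k), U) Γ(X, A) (X.residueField η)).comp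
      ((asIso (OmAff.toSect pX U A hAU)).toLinearEquiv.symm.toLinearMap.comp eXl)
  have hlX : ∀ a : Γ(X, A), lX (dX.app A a) =
      KaehlerDifferential.D Γ(Spec (CommRingCat.of k), U) (X.residueField η) (algebraMap Γ(X, A) (X.residueField η) a) := by
    intro a
    have h1 : eX.inv.app A (dX.app A a) = OmegaSh.dSect pX A a := by
      rw [← heX' A a]
      exact congr(Scheme.Modules.Hom.app $(eX.hom_inv_id) A (OmegaSh.dSect pX A a))
    show KaehlerDifferential.map _ _ _ _ ((asIso (OmAff.toSect pX U A hAU)).toLinearEquiv.symm (eX.inv.app A (dX.app A a))) = _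
    rw [h1, ← OmAff.toSect_d pX U A hAU a]
    have h2 : (asIso (OmAff.toSect pX U A hAU)).toLinearEquiv.symm
        (OmAff.toSect pX U A hAU (CommRingCat.KaehlerDifferential.d a)) = CommRingCat.KaehlerDifferential.d a :=
      LinearEquiv.symm_apply_apply _ _
    rw [h2]
    exact KaehlerDifferential.map_D _ _ _ _ a
  -- restriction of the morphism to `A`
  let cA : Γ((Scheme.Modules.pullback φ).obj ΩY, A) →ₗ[Γ(X, A)] Γ(ΩX, A) :=
    { toFun := fun m => c.app A m
      map_add' := fun a b => map_add (c.app A).hom a b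
      map_smul' := fun a m => c.app_smul a m }
  let v : Fin n → Γ((Scheme.Modules.pullback φ).obj ΩY, A) := fun i => QC70.res _ hAV (s i)
  obtain ⟨a, ha⟩ := hb.2 (QC70.res _ hAW z)
  have ha' : ∑ i, a i • v i = QC70.res _ hAW z := ha
  have hzero : (lX.comp cA) (∑ i, a i • v i) = 0 := by
    rw [ha']
    show lX (c.app A (QC70.res _ hAW z)) = 0
    rw [QC70.app_res, hz, QC70.res, map_zero, map_zero]
  have hinj : Function.Injective (algebraMap Γ(X, A) (X.residueField η)) := by
    have : Nonempty A := ⟨⟨x, hxA⟩⟩
    have hbij : Function.Injective (X.residue η).hom := RingHom.injective (X.residue η).hom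
    exact hbij.comp (germ_injective_of_isIntegral X η hηA)
  have : FiniteDimensional (X.residueField η) Ω[X.residueField η⁄Γ(Spec (CommRingCat.of k), U)] :=
    Module.Finite.equiv (KaehlerDifferential.tensorKaehlerEquivOfFormallyEtale Γ(Spec (CommRingCat.of k), U) Γ(Y, V) (X.residueField η))
  have hav := eq_zero_of_comb hinj hrank (lX.comp cA) v _ hspan (by
    rintro _ ⟨b, rfl⟩
    obtain ⟨cf, hcf⟩ := hb.2 (QC70.res _ hAV (OmegaSh.pullSect φ ΩY V (dY.app V b)))
    refine ⟨cf, ?_⟩
    have hcf' : ∑ i, cf i • v i = QC70.res _ hAV (OmegaSh.pullSect φ ΩY V (dY.app V b)) := hcf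
    rw [hcf']
    show _ = lX (c.app A (QC70.res _ hAV (OmegaSh.pullSect φ ΩY V (dY.app V b))))
    rw [QC70.app_res, hc V b]
    show _ = lX (QC70.res ΩX hAV (dX.app (φ ⁻¹ᵁ V) (φ.app V b)))
    rw [show QC70.res ΩX hAV (dX.app (φ ⁻¹ᵁ V) (φ.app V b)) = dX.app A (φ.appLE V A hAV b) from
      (Var76.OmegaUniv.Der.res dX hAV (φ.app V b)).symm, hlX]
    exact congrArg (fun t => KaehlerDifferential.D Γ(Spec (CommRingCat.of k), U) (X.residueField η) t) (hsq b)) a hzero
  rw [← ha, hav]
  show _ = QC70.res _ hAW 0
  rw [QC70.res, map_zero]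
  simp [Groth.Agent.Props58.LocFree.germComb]

end Groth.Agent.S13458
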