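import Groth.Statements.S13461
import Groth.Agent.Crv77.GeomConn
import Groth.Agent.Crv77.OmegaCanon
import Groth.Agent.Crv77.RR
import Groth.Agent.Crv77.DegreeInt
import Groth.Agent.Var76.MumLevel
import Groth.Agent.Amp73.PullTensor
import Groth.Agent.Curves2.PullSections
import Groth.Agent.Curves2.CurveToolkit
import Groth.Agent.SpFP87.Reduced

set_option autoImplicit false
universe u
open CategoryTheory CategoryTheory.Limits AlgebraicGeometry TopologicalSpace
open Curves

namespace Groth.Agent.S13461

/-- Let k be a field and X a smooth proper geometrically connected curve over k (proper, smooth and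
geometrically connected over k, of dimension one) of genus dim_k H^1(X, O_X) = 4, and let i : X →
P^3_k be a closed immersion over k whose pullback of O(1) is isomorphic to the sheaf of
differentials Ω_{X/k} (X is canonically embedded, hence not hyperelliptic). Then X lies on a quadric
surface: there is a nonzero global section Q of O_{P^3_k}(2) whose pullback along i is the zero
section of i^*O(2). (The published statement goes on to assert that X is the complete intersection
of such a quadric with a cubic surface; this row states only the existence of the quadric.) -/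
theorem result (k : Type u) [Field k] (X : Scheme.{u}) [X.Over (Spec (CommRingCat.of k))]
    [IsProper (X ↘ (Spec (CommRingCat.of k)))] [Smooth (X ↘ (Spec (CommRingCat.of k)))] [GeometricallyConnected (X ↘ (Spec (CommRingCat.of k)))]
    (hdim : topologicalKrullDim X = 1) (hg : Curv2.genus k X = 4)
    (i : X ⟶ CohB1.ProjSpace 3 k) [IsClosedImmersion i] (hi : i ≫ CohB1.ProjSpace.toSpec 3 k = X ↘ (Spec (CommRingCat.of k)))
    (hcan : Nonempty ((Scheme.Modules.pullback i).obj (Twist.twistProjSpace 3 k 1) ≅ Omega.sheaf (X ↘ (Spec (CommRingCat.of k))))) :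
    ∃ Q : Γ(Twist.twistProjSpace 3 k 2, ⊤), Q ≠ 0 ∧
      OmegaSh.pullSect i (Twist.twistProjSpace 3 k 2) ⊤ Q = 0 := by
  have := Crv77.geometricallyIrreducible_of_connected k X
  have : IrreducibleSpace X := GeometricallyIrreducible.irreducibleSpace (X ↘ (Spec (CommRingCat.of k))) (X ↘ (Spec (CommRingCat.of k))).isOpenMap
  have : AlgebraicGeometry.IsReduced X := SpFP87.isReduced_of_smooth (X ↘ (Spec (CommRingCat.of k)))
  have : IsIntegral X := isIntegral_of_irreducibleSpace_of_isReduced X
  have : IsNoetherian X := Crv77.isNoetherian_of_proper k X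
  have hX := Crv77.curveCoh_of_proper k X hdim.le
  have h0 := Crv77.finrank_h0_of_connected k X
  obtain ⟨hdegΩ, -⟩ := Crv77.deg_omega_of_connected k X hdim
  have hΩ := Crv77.isInvertible_omega_of_irreducible k X hdim
  obtain ⟨eΩ⟩ := hcan
  let P2 := (Scheme.Modules.pullback i).obj (Twist.twistProjSpace 3 k 2)
  obtain ⟨e2⟩ := Var76.Reg.nonempty_twist_add (n := 3) (A := k) (show (1 : ℤ) + 1 = 2 by norm_num)
  have hinv1 := Var76.Reg.isInvertible_twist (n := 3) (A := k) 1
  have := Amp73.isIso_pullTensHom i hinv1 hinv1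
  let e3 := asIso (Amp73.pullTensHom i (Twist.twistProjSpace 3 k 1) (Twist.twistProjSpace 3 k 1))
  let e : P2 ≅ CohB1.tensorMod (Omega.sheaf (X ↘ (Spec (CommRingCat.of k)))) (Omega.sheaf (X ↘ (Spec (CommRingCat.of k)))) :=
    (Scheme.Modules.pullback i).mapIso e2.symm ≪≫ e3 ≪≫ EGA73.tensIso eΩ eΩ
  have hinv : PicF.IsInvertible P2 := EGA73.isInvertible_of_iso e.symm (EGA73.isInvertible_tensorMod hΩ hΩ)
  have hdeg2 : Curv2.deg k X P2 1 = 12 := by
    rw [Curves2.deg_congr (k := k) e, Crv77.CurveCoh.deg_tensorMod hX hdim.le hΩ hΩ, hdegΩ, hg]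
    norm_num
  have h1 := Crv77.CurveCoh.h1_eq_zero_of_deg_gt hX hdim h0 hinv (by rw [hg, hdeg2]; norm_num)
  have h2 := hX.euler_eq (Crv77.isCoh_of_isInvertible hinv)
  have hO := hX.euler_eq (Crv77.isCoh_structureModule (X := X))
  have h9 : Module.finrank k (Coh.HH X P2 0) = 9 := by
    have hd : Curv2.deg k X P2 1 = Curv2.euler k X P2 - 1 * Curv2.euler k X (Coh.structureModule X) := rfl
    have hz : Module.finrank k (Coh.HH X P2 1) = 0 := Module.finrank_zero_of_subsingleton
    simp only [Crv77.h, hz, h0] at h2 hO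
    rw [show Module.finrank k (Coh.HH X (Coh.structureModule X) 1) = 4 from hg] at hO
    rw [hdeg2, h2, hO] at hd
    omega
  have h10 : Module.finrank k (Coh.HH (CohB1.ProjSpace 3 k) (Twist.twistProjSpace 3 k 2) 0) = 10 := by
    exact (Var76.Reg.finrank_hh_twist (k := k) (n := 3) 2).trans rfl
  let f := Curves2.h0PullSect k i hi (Twist.twistProjSpace 3 k 2)
  have : Module.Finite k (Coh.HH X P2 0) := hX.finite _ (Crv77.isCoh_of_isInvertible hinv) 0
  have hf : ¬ Function.Injective f := fun h => by
    have h' := LinearMap.finrank_le_finrank_of_injective h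
    rw [h10, h9] at h'
    omega
  rw [← LinearMap.ker_eq_bot, ← ne_eq, Submodule.ne_bot_iff] at hf
  obtain ⟨x, hx, hx0⟩ := hf
  refine ⟨Crv77.sec _ x, fun h => hx0 ((Crv77.sec _).injective (h.trans (map_zero _).symm)), ?_⟩
  rw [← Curves2.sec_h0PullSect k i hi, show Curves2.h0PullSect k i hi _ x = 0 from hx, map_zero]
  rfl

end Groth.Agent.S13461
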