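import Groth.Agent.Hopf35.GmChar
import Groth.Agent.Hopf35.GrpLikeIndex
import Groth.Statements.S13469

set_option autoImplicit false
universe u
open GmDual

namespace Groth.Agent.S13469

open CategoryTheory AlgebraicGeometry MonObj Groth.Agent.Hopf35.GL in
theorem result (k : Type u) [Field k]
    (H G : Over (Spec (CommRingCat.of k))) [GrpObj H] [IsCommMonObj H] [GrpObj G] [IsCommMonObj G]
    [IsAffine H.left] [LocallyOfFiniteType H.hom] [IsAffine G.left] [LocallyOfFiniteType G.hom]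
    (i : H ⟶ G) [IsMonHom i] [IsClosedImmersion i.left] :
    (Preadditive.leftComp (CGrpSh2.Gm Scheme.fppfPrecoverage (Spec (CommRingCat.of k)))
      (CGrpSh.ptsMap Scheme.fppfPrecoverage i)).range.FiniteIndex := by
  classical
  obtain ⟨A, _, _, ψ, hψ⟩ := Groth.Agent.GMod80.exists_coord G
  obtain ⟨B, _, _, ψ', hψ'⟩ := Groth.Agent.GMod80.exists_coord H
  have := isCocomm ψ
  haveI : Algebra.FiniteType k B := Groth.Agent.GMod80.finiteType ψ'
  have hsurj : Function.Surjective (Groth.Agent.GMod80.pullBialg ψ ψ' i) :=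
    Groth.Agent.GMod80.pull_surjective ψ ψ' i
  choose c hc1 hc2 using fun g : GroupLike k B => exists_char_eq ψ' g.2
  let f : Additive (GroupLike k B) →+ (CGrpSh.pts Scheme.fppfPrecoverage H ⟶
      CGrpSh2.Gm Scheme.fppfPrecoverage (Spec (CommRingCat.of k))) :=
    AddMonoidHom.mk' (fun g => haveI := hc1 g.toMul; CGrpSh.ptsMap Scheme.fppfPrecoverage (c g.toMul))
      fun a b => by
        haveI := hc1 a.toMul
        haveI := hc1 b.toMul
        haveI := hc1 (a + b).toMul
        have e : c (a + b).toMul = c a.toMul * c b.toMul := charFn_injective ψ' (by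
          rw [charFn_mul, hc2, hc2, hc2]; rfl)
        refine Sheaf.hom_ext (NatTrans.ext (funext fun T => AddCommGrpCat.ext fun x => ?_))
        refine ULift.ext _ _ (congrArg Additive.ofMul ?_)
        show x.down.toMul ≫ c (a + b).toMul = (x.down.toMul ≫ c a.toMul) * (x.down.toMul ≫ c b.toMul)
        rw [e, MonObj.comp_mul]
  have hf : Function.Surjective f := fun φ => by
    obtain ⟨χ, hχ, rfl⟩ := exists_ptsMap_eq Scheme.fppfPrecoverage φ
    refine ⟨Additive.ofMul ⟨_, Groth.Agent.GMod80.isGroupLike_charFn ψ' χ⟩, ?_⟩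
    have e := charFn_injective ψ' (hc2 ⟨_, Groth.Agent.GMod80.isGroupLike_charFn ψ' χ⟩)
    show CGrpSh.ptsMap Scheme.fppfPrecoverage (c _) = _
    congr 1
  haveI : Group.FG (GroupLike k B) := fg_groupLike
  haveI hfg : AddGroup.FG (CGrpSh.pts Scheme.fppfPrecoverage H ⟶
      CGrpSh2.Gm Scheme.fppfPrecoverage (Spec (CommRingCat.of k))) := AddGroup.fg_of_surjective hf
  set R := (Preadditive.leftComp (CGrpSh2.Gm Scheme.fppfPrecoverage (Spec (CommRingCat.of k)))
      (CGrpSh.ptsMap Scheme.fppfPrecoverage i)).range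
  haveI : _root_.Finite ((CGrpSh.pts Scheme.fppfPrecoverage H ⟶
      CGrpSh2.Gm Scheme.fppfPrecoverage (Spec (CommRingCat.of k))) ⧸ R) := by
    refine AddCommGroup.finite_of_fg_isAddTorsion _ fun q => ?_
    obtain ⟨φ, rfl⟩ := QuotientAddGroup.mk_surjective q
    obtain ⟨g, rfl⟩ := hf φ
    obtain ⟨m, a, hm, ha, hab⟩ := exists_pow_lift (Groth.Agent.GMod80.pullBialg ψ ψ' i) hsurj g.toMul.2
    rw [isOfFinAddOrder_iff_nsmul_eq_zero]
    refine ⟨m, hm, ?_⟩
    rw [← QuotientAddGroup.mk_nsmul, QuotientAddGroup.eq_zero_iff, ← map_nsmul]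
    obtain ⟨χ', hχ', rfl⟩ := exists_char_eq ψ ha
    refine ⟨CGrpSh.ptsMap Scheme.fppfPrecoverage χ', ?_⟩
    haveI := hc1 (m • g).toMul
    show CGrpSh.ptsMap Scheme.fppfPrecoverage i ≫ CGrpSh.ptsMap Scheme.fppfPrecoverage χ' =
      CGrpSh.ptsMap Scheme.fppfPrecoverage (c (m • g).toMul)
    have e : i ≫ χ' = c (m • g).toMul := charFn_injective ψ' ((charFn_comp ψ ψ' i χ').trans (by
      rw [hc2]; exact hab.trans (by simp)))
    rw [← CGrpSh.ptsMap_comp]
    congr 1
  exact AddSubgroup.finiteIndex_of_finite_quotient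

end Groth.Agent.S13469
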