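import Groth.Agent.Hopf35.GmChar
import Groth.Agent.Hopf35.GrpLikeLift
import Groth.Statements.S13470

set_option autoImplicit false
universe u
open GmDual

namespace Groth.Agent.S13470

open CategoryTheory AlgebraicGeometry MonObj Groth.Agent.Hopf35.GL in
theorem result (k : Type u) [Field k] [IsAlgClosed k]
    (H G : Over (Spec (CommRingCat.of k))) [GrpObj H] [IsCommMonObj H] [GrpObj G] [IsCommMonObj G]
    [IsAffine H.left] [LocallyOfFiniteType H.hom] [IsAffine G.left] [LocallyOfFiniteType G.hom]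
    (i : H ⟶ G) [IsMonHom i] [IsClosedImmersion i.left] :
    Function.Surjective (Preadditive.leftComp (CGrpSh2.Gm Scheme.fppfPrecoverage (Spec (CommRingCat.of k)))
      (CGrpSh.ptsMap Scheme.fppfPrecoverage i)) := by
  intro φ
  obtain ⟨χ, hχ, rfl⟩ := exists_ptsMap_eq Scheme.fppfPrecoverage φ
  obtain ⟨A, _, _, ψ, hψ⟩ := Groth.Agent.GMod80.exists_coord G
  obtain ⟨B, _, _, ψ', hψ'⟩ := Groth.Agent.GMod80.exists_coord H
  have := isCocomm ψ
  have hsurj : Function.Surjective (Groth.Agent.GMod80.pullBialg ψ ψ' i) := Groth.Agent.GMod80.pull_surjective ψ ψ' i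
  obtain ⟨a, ha, hab⟩ := exists_grouplike_lift (Groth.Agent.GMod80.pullBialg ψ ψ' i).toCoalgHom hsurj
    (Groth.Agent.GMod80.isGroupLike_charFn ψ' χ)
  obtain ⟨χ', hχ', rfl⟩ := exists_char_eq ψ ha
  refine ⟨CGrpSh.ptsMap Scheme.fppfPrecoverage χ', ?_⟩
  show CGrpSh.ptsMap Scheme.fppfPrecoverage i ≫ CGrpSh.ptsMap Scheme.fppfPrecoverage χ' = _
  have e : i ≫ χ' = χ := charFn_injective ψ' ((charFn_comp ψ ψ' i χ').trans hab)
  rw [← CGrpSh.ptsMap_comp]
  subst e
  rfl

end Groth.Agent.S13470
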