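import Groth.Statements.S13478
import Groth.Agent.GaExt25.HomLiftAlong
import Groth.Agent.GaExt25.ExtShLocal
-- import your own Groth.Agent.* helpers here

set_option autoImplicit false
universe u
open GaDual

namespace Groth.Agent.S13478

open CategoryTheory AlgebraicGeometry CategoryTheory.Limits in
/-- For a scheme S over the prime field with p elements (p = 0 in the global sections of S), the fppf
sheaf 𝓔xt^1_S(G_a, G_m), the first Ext sheaf of the additive group with values in the multiplicative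
group on the big fppf site of S, vanishes. (This fails for schemes over the rationals.) -/
theorem result (S : Scheme.{u}) (p : ℕ) [Fact p.Prime]
    (hp : (p : Γ(S, ⊤)) = 0) :
    IsZero ((HomSh.extSh (QuotSh.J Scheme.fppfPrecoverage S) (CGrpSh2.Ga Scheme.fppfPrecoverage S) 1).obj (CGrpSh2.Gm Scheme.fppfPrecoverage S)) := by
  refine GaExt25.isZero_extSh_one_of_local_lift _ _ fun E Q a b w hse T φ => ?_
  have key : ∀ V : T.left.affineOpens, ∃ (Y : Over S) (q : Y ⟶ T), Flat q.left ∧ LocallyOfFinitePresentation q.left ∧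
      (∀ t ∈ (V : T.left.Opens), t ∈ Set.range q.left) ∧
      ∃ ψ : (CGrpSh2.Ga Scheme.fppfPrecoverage S).over Y ⟶ E.over Y,
        ∀ (U : Over S) (f : U ⟶ Y) (x : (CGrpSh2.Ga Scheme.fppfPrecoverage S).obj.obj (Opposite.op U)),
          b.hom.app (Opposite.op U) (GaExt25.comp' ψ f x) = GaExt25.comp' φ (f ≫ q) x := by
    intro V
    let A := Γ(T.left, V)
    let j : Spec (CommRingCat.of A) ⟶ S := V.2.fromSpec ≫ T.hom
    have hA : (p : A) = 0 := by
      have h1 : (p : Γ(T.left, ⊤)) = 0 := by rw [← map_natCast T.hom.appTop.hom, hp, map_zero]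
      rw [← map_natCast (T.left.presheaf.map (homOfLE (le_top : (V : T.left.Opens) ≤ ⊤)).op).hom, h1, map_zero]
    have halg : Spec.map (CommRingCat.ofHom (algebraMap A A)) = 𝟙 (Spec (CommRingCat.of A)) :=
      (congrArg Spec.map (rfl : CommRingCat.ofHom (algebraMap A A) = 𝟙 (CommRingCat.of A))).trans (Spec.map_id _)
    let π : Groth.Agent.Sga84.sp j A ⟶ T := Over.homMk V.2.fromSpec (by
      show V.2.fromSpec ≫ T.hom = Spec.map (CommRingCat.ofHom (algebraMap A A)) ≫ j
      rw [halg, Category.id_comp])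
    obtain ⟨Y, q, hfl, hfp, hsj, ψ, hψ⟩ := GaExt25.exists_hom_lift_along (p := p) hA j (X := ⟨E, a, b, w, hse⟩)
      (GaExt25.mkComp (fun U f => GaExt25.comp' φ (f ≫ π))
        (fun U V g f x => by rw [GaExt25.comp'_natural, Category.assoc]))
    have : IsOpenImmersion V.2.fromSpec := V.2.isOpenImmersion_fromSpec
    refine ⟨Y, q ≫ π, ?_, ?_, fun t ht => ?_, ψ, fun U f x => ?_⟩
    · exact MorphismProperty.comp_mem (W := @Flat) _ _ hfl (inferInstanceAs (Flat V.2.fromSpec))
    · exact MorphismProperty.comp_mem (W := @LocallyOfFinitePresentation) _ _ hfp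
        (inferInstanceAs (LocallyOfFinitePresentation V.2.fromSpec))
    · obtain ⟨s, rfl⟩ : t ∈ Set.range V.2.fromSpec := by rw [V.2.range_fromSpec]; exact ht
      obtain ⟨y, rfl⟩ := hsj.surj s
      exact ⟨y, rfl⟩
    · refine (hψ U f x).trans ?_
      show GaExt25.comp' φ ((f ≫ q) ≫ π) x = _
      rw [Category.assoc]
  choose Y q hfl hfp hsurj ψ hψ using key
  refine ⟨_, GaExt25.generate_mem q hfl hfp (fun t => ?_), ?_⟩
  · obtain ⟨V, hV, htV, -⟩ := exists_isAffineOpen_mem_and_subset (U := (⊤ : T.left.Opens)) (x := t) trivial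
    exact ⟨⟨V, hV⟩, hsurj ⟨V, hV⟩ t htV⟩
  · rintro T' g ⟨Z, c, _, ⟨V⟩, rfl⟩
    refine ⟨GaExt25.mkComp (fun U f => GaExt25.comp' (ψ V) (f ≫ c))
      (fun U W g f x => by rw [GaExt25.comp'_natural, Category.assoc]), fun U f x => ?_⟩
    refine (hψ V U (f ≫ c) x).trans ?_
    rw [Category.assoc]

end Groth.Agent.S13478
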