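import Groth.Statements.S13490
import Groth.Agent.DerComp18.PushPerp
import Groth.Agent.DerComp18.CoverImage
import Groth.Agent.Mod48.PushProd
-- import your own Groth.Agent.* helpers here

set_option autoImplicit false
universe u
open CategoryTheory CategoryTheory.Limits Opposite
attribute [local instance] HasDerivedCategory.standard
open DerComp

namespace Groth.Agent.S13490

/-- Let f be a morphism of ringed sites from (C, O_C) to (D, O_D), let I be a finite type sheaf of
ideals of O_D and let I' be the sheaf of ideals of O_C generated by the image of I under the ring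
map of f. Then Rf_* commutes with derived completion: for K in D(O_C) the canonical map from the
I-completion of Rf_*K to Rf_* of the I'-completion of K, obtained from the universal property of
derived completion and the fact (taken as a hypothesis) that the target is derived complete, is an
isomorphism. (The published statement is for a morphism of ringed topoi; this row takes a morphism
of ringed sites.) -/
theorem result {C D : Type u} [SmallCategory C] [SmallCategory D] {J : GrothendieckTopology C} {K : GrothendieckTopology D} {O_C : Sheaf J CommRingCat.{u}} {O_D : Sheaf K CommRingCat.{u}} (f : ModSite.RMor O_C O_D) [SiteCmp.HasRpushD f] (I : DerComp.IdealSh O_D) (hI : I.IsFiniteType) (I' : DerComp.IdealSh O_C) (hI' : DerComp.RIsIdealExt f I I') [DerComp.HasDerCompletion O_D I] [DerComp.HasDerCompletion O_C I'] (M : DerivedCategory (ModSite.Mod O_C)) (h : DerComp.IsDerComp O_D I ((SiteCmp.RpushD f).obj ((DerComp.derCompletion O_C I').obj M).obj)) : IsIso (((DerComp.derCompletionAdj O_D I).homEquiv ((SiteCmp.RpushD f).obj M) ⟨(SiteCmp.RpushD f).obj ((DerComp.derCompletion O_C I').obj M).obj, h⟩).symm ((SiteCmp.RpushD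 f).map (DerComp.toDerCompletion I' M))) := by
  obtain ⟨T, a, b, hT, hT'⟩ := Groth.Agent.DerComp18.exists_triangle_perp I' M
  obtain ⟨c, hc⟩ := Groth.Agent.Mod48.exists_distinguished_push (SiteCmp.RpushD f) (Groth.Agent.Mod48.pushUnit f)
    (Groth.Agent.Mod48.isIso_pushUnit f) (Groth.Agent.Mod48.enoughKInj_mod O_C) _ _ b hT
  have hI₀ := Groth.Agent.DerComp18.locSpanned_of_isFiniteType I hI
  exact Groth.Agent.DerComp18.isIso_homEquiv_symm h _ _ _ hc
    (Groth.Agent.DerComp18.perp_rpushD f hI₀ (Groth.Agent.DerComp18.locSpanned_ext f hI' hI₀) hI' hT')

end Groth.Agent.S13490
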