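import Groth.Statements.S13501
import Groth.Agent.Cons51.Colim

set_option autoImplicit false
universe u
open CategoryTheory CategoryTheory.Limits AlgebraicGeometry Opposite
open EtPBC

namespace Groth.Agent.S13501

/-- Let X be a quasi-compact and quasi-separated scheme and F a torsion abelian sheaf on X_et. If Hom(F,
-) commutes with filtered colimits (of shape any small filtered category in the universe of the
sheaf category's morphisms), then F is constructible. This is the converse of the compactness of
constructible sheaves. -/
theorem result (X : Scheme.{u}) [CompactSpace X]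
    [QuasiSeparatedSpace X] (F : EtCoh.Ab X) (hF : EtCoh.IsTorsion F)
    (hc : ∀ (J : Type (u + 1)) [SmallCategory J] [IsFiltered J],
      PreservesColimitsOfShape J (coyoneda.obj (op F))) :
    EtPBC.IsConstructible F := by
  obtain ⟨J, i1, i2, D, c, hcc, ⟨e⟩, hD⟩ :=
    Groth.Agent.Cons51.exists_isColimit (Groth.Agent.Cons51.generating_of_isTorsion hF)
  haveI := hc J
  obtain ⟨j, s, hs⟩ := Types.jointly_surjective_of_isColimit
    (isColimitOfPreserves (coyoneda.obj (op F)) hcc) e.inv
  let p : D.obj j ⟶ F := c.ι.app j ≫ e.hom
  have hsp : s ≫ p = 𝟙 F := by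
    show s ≫ c.ι.app j ≫ e.hom = 𝟙 F
    rw [← Category.assoc, show s ≫ c.ι.app j = e.inv from hs, e.inv_hom_id]
  let d : D.obj j ⟶ D.obj j := 𝟙 _ - p ≫ s
  have h1 : s ≫ d = 0 := by
    simp only [d, Preadditive.comp_sub, Category.comp_id, ← Category.assoc, hsp, Category.id_comp, sub_self]
  refine Groth.Agent.Cons51.isConstructible_of_iso ?_
    (Groth.Agent.Cons51.isConstructible_kernel_cokernel d (hD j) (hD j)).1
  refine ⟨kernel.ι d ≫ p, kernel.lift d s h1, ?_, ?_⟩
  · rw [← cancel_mono (kernel.ι d), Category.assoc, kernel.lift_ι, Category.id_comp, Category.assoc]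
    have h2 := kernel.condition d
    simp only [d, Preadditive.comp_sub, Category.comp_id, sub_eq_zero] at h2
    exact h2.symm
  · rw [kernel.lift_ι_assoc, hsp]

end Groth.Agent.S13501
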