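import Groth.Statements.S1351
import Groth.Agent.S1216
import Groth.Agent.S2049
import Mathlib

set_option autoImplicit false
universe u
open FlatMor

namespace Groth.Agent.S1351

/-- Let A be a valuation ring, A → B a local homomorphism of local rings essentially of finite type, and
u : N → M a B-linear map of finite B-modules with M flat over A. If u is injective after tensoring
with the residue field of A (that is, modulo the maximal ideal of A), then u is injective and its
cokernel is flat over A. -/
theorem result {A B : Type u} [CommRing A] [IsDomain A] [ValuationRing A] [CommRing B] [IsLocalRing B]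
    [Algebra A B] [IsLocalHom (algebraMap A B)] [Algebra.EssFiniteType A B]
    {N M : Type u} [AddCommGroup N] [Module B N] [Module A N] [IsScalarTower A B N] [Module.Finite B N]
    [AddCommGroup M] [Module B M] [Module A M] [IsScalarTower A B M] [Module.Finite B M] [Module.Flat A M]
    (u : N →ₗ[B] M)
    (hu : Function.Injective (Submodule.mapQ (IsLocalRing.maximalIdeal A • ⊤ : Submodule A N) (IsLocalRing.maximalIdeal A • ⊤ : Submodule A M) (u.restrictScalars A)
      (fun n hn => Submodule.smul_top_le_comap_smul_top _ _ hn))) :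
    Function.Injective u ∧ Module.Flat A (M ⧸ LinearMap.range u) := by
  let m := IsLocalRing.maximalIdeal A
  have hmem : ∀ n : N, u n ∈ m • (⊤ : Submodule A M) → n ∈ m • (⊤ : Submodule A N) := fun n hn => by
    refine (Submodule.Quotient.mk_eq_zero _).1 ((map_eq_zero_iff _ hu).1 ?_)
    rw [Submodule.mapQ_apply]
    exact (Submodule.Quotient.mk_eq_zero _).2 hn
  let R : Submodule B M := LinearMap.range u
  have htfM : Module.IsTorsionFree A M := inferInstance
  have : Module.IsTorsionFree A R :=
    Function.Injective.moduleIsTorsionFree (R.subtype.restrictScalars A) Subtype.val_injective fun a x => rfl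
  have : Module.Flat A R := (Module.Flat.flat_iff_torsion_eq_bot_of_isBezout).2
    (Submodule.isTorsionFree_iff_torsion_eq_bot.1 inferInstance)
  have : Module.FinitePresentation B R := Groth.Agent.S2049.result (A := A) (B := B) (M := R)
  have hsm : ∀ n : N, n ∈ m • (⊤ : Submodule A N) → n ∈ (m.map (algebraMap A B)) • (⊤ : Submodule B N) := fun n hn => by
    refine Submodule.smul_induction_on hn (fun a ha x _ => ?_) fun x y hx hy => add_mem hx hy
    rw [← algebraMap_smul B a x]
    exact Submodule.smul_mem_smul (Ideal.mem_map_of_mem _ ha) trivial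
  have hmB : m.map (algebraMap A B) ≤ IsLocalRing.maximalIdeal B :=
    Ideal.map_le_iff_le_comap.2 fun a ha => map_nonunit (algebraMap A B) a ha
  -- kernel
  let K := LinearMap.ker u
  have hKfg : K.FG := by
    have h := Module.FinitePresentation.fg_ker u.rangeRestrict u.surjective_rangeRestrict
    rwa [LinearMap.ker_rangeRestrict] at h
  have hK : ∀ k ∈ K, k ∈ (m.map (algebraMap A B)) • K := by
    intro k hk
    have hex : Function.Exact (LinearMap.ker u).subtype u.rangeRestrict := by
      rw [LinearMap.exact_iff, LinearMap.ker_rangeRestrict, Submodule.range_subtype]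
    have hkm : k ∈ m • (⊤ : Submodule A N) := hmem k (by rw [show u k = 0 from hk]; exact zero_mem _)
    obtain ⟨c, hc, hkc⟩ : ∃ c ∈ m, k ∈ Submodule.span A {c} • (⊤ : Submodule A N) := by
      refine Submodule.smul_induction_on
        (p := fun k : N => ∃ c ∈ m, k ∈ Submodule.span A {c} • (⊤ : Submodule A N)) hkm
        (fun a ha x _ => ⟨a, ha, Submodule.smul_mem_smul (Submodule.mem_span_singleton_self a) trivial⟩) ?_
      rintro x y ⟨a, ha, hxa⟩ ⟨b, hb, hyb⟩
      rcases ValuationRing.dvd_total a b with h | h
      · exact ⟨a, ha, add_mem hxa (Submodule.smul_mono_left (Ideal.span_singleton_le_span_singleton.2 h) hyb)⟩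
      · exact ⟨b, hb, add_mem (Submodule.smul_mono_left (Ideal.span_singleton_le_span_singleton.2 h) hxa) hyb⟩
    rw [Submodule.ideal_span_singleton_smul, Submodule.mem_smul_pointwise_iff_exists] at hkc
    obtain ⟨z, -, rfl⟩ := hkc
    by_cases hc0 : c = 0
    · rw [hc0, zero_smul]; exact zero_mem _
    have hz : z ∈ K := by
      have h1 : c • u z = 0 := (LinearMap.map_smul_of_tower u c z).symm.trans hk
      exact (smul_eq_zero_iff_right hc0).1 h1
    rw [← algebraMap_smul B c z]
    exact Submodule.smul_mem_smul (Ideal.mem_map_of_mem _ hc) hz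
  have hK0 : K = ⊥ := Submodule.eq_bot_of_le_smul_of_le_jacobson_bot _ K hKfg hK
    (hmB.trans (IsLocalRing.maximalIdeal_le_jacobson _))
  have hinj : Function.Injective u := LinearMap.ker_eq_bot.1 hK0
  refine ⟨hinj, (Module.Flat.flat_iff_torsion_eq_bot_of_isBezout).2
    (Submodule.isTorsionFree_iff_torsion_eq_bot.1 (Module.isTorsionFree_iff_smul_eq_zero.2 fun b q hbq => ?_))⟩
  by_cases hb : b = 0
  · exact Or.inl hb
  refine Or.inr ?_
  obtain ⟨x, rfl⟩ := Submodule.Quotient.mk_surjective _ q
  rw [← Submodule.Quotient.mk_smul, Submodule.Quotient.mk_eq_zero] at hbq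
  refine (Submodule.Quotient.mk_eq_zero _).2 ?_
  by_contra hx
  let y : R := ⟨b • x, hbq⟩
  obtain ⟨I, ⟨c, rfl⟩, hyI, hmin⟩ := Groth.Agent.S1216.result (A := A) (B := B) R y
  rw [Submodule.ideal_span_singleton_smul, Submodule.mem_smul_pointwise_iff_exists] at hyI
  obtain ⟨z, -, hz⟩ := hyI
  have hzx : c • (z : M) = b • x := congrArg Subtype.val hz
  rcases ValuationRing.dvd_total b c with ⟨e, rfl⟩ | ⟨d, rfl⟩
  · rw [mul_smul] at hzx
    refine hx ?_
    rw [← smul_right_injective M hb hzx, ← algebraMap_smul B e (z : M)]
    exact R.smul_mem _ z.2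
  have hc : c ≠ 0 := fun h => hb (by rw [h, zero_mul])
  rw [mul_smul] at hzx
  have hzd : (z : M) = d • x := smul_right_injective M hc hzx
  by_cases hd : IsUnit d
  · refine hx ?_
    obtain ⟨d', rfl⟩ := hd
    rw [show x = ((d'⁻¹ : Aˣ) : A) • (z : M) by rw [hzd, smul_smul, Units.inv_mul, one_smul],
      ← algebraMap_smul B]
    exact R.smul_mem _ z.2
  obtain ⟨n, hn⟩ := z.2
  have hnm : n ∈ m • (⊤ : Submodule A N) := hmem n (by rw [hn, hzd]; exact Submodule.smul_mem_smul hd trivial)
  have hzm : z ∈ m • (⊤ : Submodule A R) := by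
    have h := Submodule.mem_map_of_mem (f := u.rangeRestrict.restrictScalars A) hnm
    rw [Submodule.map_smul''] at h
    have h' : u.rangeRestrict n ∈ m • (⊤ : Submodule A R) := Submodule.smul_mono le_rfl le_top h
    rwa [show u.rangeRestrict n = z from Subtype.ext hn] at h'
  have hy2 : y ∈ (Ideal.span {c} * m) • (⊤ : Submodule A R) := by
    rw [Submodule.mul_smul, ← hz]
    exact Submodule.smul_mem_smul (Submodule.mem_span_singleton_self c) hzm
  obtain ⟨t, ht, htc⟩ := Ideal.mem_span_singleton_mul.1 (hmin _ hy2 (Submodule.mem_span_singleton_self c))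
  exact ht (by rw [show t = 1 from mul_left_cancel₀ hc (htc.trans (mul_one c).symm)]; exact isUnit_one)

end Groth.Agent.S1351
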