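import Groth.Statements.S1352
import Mathlib.RingTheory.MvPolynomial.Localization
import Mathlib.Data.Finsupp.Interval
import Mathlib.RingTheory.Jacobson.Ring
import Mathlib.Algebra.MvPolynomial.Nilpotent
import Mathlib.Algebra.MvPolynomial.NoZeroDivisors
import Mathlib.RingTheory.Localization.Ideal
import Mathlib.FieldTheory.IsAlgClosed.Basic
import Mathlib.FieldTheory.IsAlgClosed.AlgebraicClosure

set_option autoImplicit false
universe u
open FlatMor

namespace Groth.Agent.S1352

open MvPolynomial

variable {A : Type u} [CommRing A] [IsDomain A]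

/-- An ideal of a polynomial ring over a domain without geometric generic point meets the constants. -/
theorem exists_const_mem {σ : Type*} [Finite σ] (I : Ideal (MvPolynomial σ A))
    (h : ∀ x : σ → AlgebraicClosure (FractionRing A),
      ¬ ∀ p ∈ I, eval₂ (algebraMap A (AlgebraicClosure (FractionRing A))) x p = 0) :
    ∃ f : A, f ≠ 0 ∧ C f ∈ I := by
  classical
  let K := FractionRing A
  let : Algebra (MvPolynomial σ A) (MvPolynomial σ K) := algebraMvPolynomial
  have : IsLocalization ((nonZeroDivisors A).map (C (σ := σ))) (MvPolynomial σ K) :=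
    MvPolynomial.isLocalization _ K
  by_contra hcon
  push Not at hcon
  have hne : Ideal.map (algebraMap (MvPolynomial σ A) (MvPolynomial σ K)) I ≠ ⊤ := by
    rw [IsLocalization.map_algebraMap_ne_top_iff_disjoint ((nonZeroDivisors A).map (C (σ := σ)))]
    rw [Set.disjoint_left]
    intro p hp hpI
    obtain ⟨f, hf, rfl⟩ := Submonoid.mem_map.1 hp
    exact hcon f (nonZeroDivisors.ne_zero hf) hpI
  obtain ⟨m, hm, hIm⟩ := Ideal.exists_le_maximal _ hne
  let := Ideal.Quotient.field m
  have : Module.Finite K (MvPolynomial σ K ⧸ m) := finite_of_finite_type_of_isJacobsonRing K _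
  let φ : (MvPolynomial σ K ⧸ m) →ₐ[K] AlgebraicClosure (FractionRing A) := IsAlgClosed.lift
  let ψ : MvPolynomial σ K →ₐ[K] AlgebraicClosure (FractionRing A) := φ.comp (Ideal.Quotient.mkₐ K m)
  refine h (fun i => ψ (X i)) fun p hp => ?_
  have h0 : ψ (algebraMap (MvPolynomial σ A) (MvPolynomial σ K) p) = 0 := by
    show φ (Ideal.Quotient.mk m _) = 0
    rw [Ideal.Quotient.eq_zero_iff_mem.2 (hIm (Ideal.mem_map_of_mem _ hp)), map_zero]
  rw [← h0, aeval_unique ψ]
  simp only [algebraMap_def, aeval_def, eval₂_map, eval₂_X, ← IsScalarTower.algebraMap_eq]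

section Generic

variable {n : ℕ}

/-- Exponents with all entries `≤ d` and total degree `≤ a`. -/
noncomputable def mons (n d a : ℕ) : Finset (Fin n →₀ ℕ) :=
  (Finset.Iic (Finsupp.equivFunOnFinite.symm fun _ : Fin n => d)).filter fun m => m.sum (fun _ e => e) ≤ a

theorem mem_mons {d a : ℕ} (had : a ≤ d) {m : Fin n →₀ ℕ} (hm : m.sum (fun _ e => e) ≤ a) :
    m ∈ mons n d a := by
  refine Finset.mem_filter.2 ⟨Finset.mem_Iic.2 fun i => ?_, hm⟩
  show m i ≤ d
  refine le_trans ?_ (hm.trans had)
  by_cases hi : i ∈ m.support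
  · exact Finset.single_le_sum (f := fun i => m i) (fun _ _ => Nat.zero_le _) hi
  · rw [Finsupp.notMem_support_iff] at hi; rw [hi]; exact Nat.zero_le _

theorem totalDegree_sum_mons {R : Type*} [CommRing R] (d a : ℕ) (x : ↥(mons n d a) → R) :
    (∑ m : ↥(mons n d a), monomial m.1 (x m)).totalDegree ≤ a := by
  refine (totalDegree_finsetSum _ _).trans (Finset.sup_le fun m _ => ?_)
  refine (totalDegree_monomial_le m.1 (x m)).trans ?_
  exact (Finset.mem_filter.1 m.2).2

theorem sum_mons_eq {R : Type*} [CommRing R] {d a : ℕ} (had : a ≤ d) (Q : MvPolynomial (Fin n) R)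
    (hQ : Q.totalDegree ≤ a) : ∑ m : ↥(mons n d a), monomial m.1 (coeff m.1 Q) = Q := by
  rw [Finset.sum_coe_sort (mons n d a) (fun m => monomial m (coeff m Q))]
  conv_rhs => rw [Q.as_sum]
  refine (Finset.sum_subset (fun m hm => mem_mons had ((le_totalDegree hm).trans hQ)) fun m _ hm => ?_).symm
  rw [notMem_support_iff.1 hm, map_zero]

end Generic

/-- For a domain A and a polynomial P in finitely many variables over A which is irreducible over an
algebraic closure of the fraction field of A: Then there is a nonzero f in A such that for every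
ring map from A[1/f] to a field (in the same universe) the image of P is irreducible. (The source
leaves the nonvanishing of f implicit; for f = 0 the conclusion would be vacuous.) -/
theorem result {A : Type u} [CommRing A] [IsDomain A] {n : ℕ} (P : MvPolynomial (Fin n) A)
    (hP : Irreducible (MvPolynomial.map (algebraMap A (AlgebraicClosure (FractionRing A))) P)) :
    ∃ f : A, f ≠ 0 ∧ ∀ (κ : Type u) [Field κ] (φ : Localization.Away f →+* κ),
      Irreducible (MvPolynomial.map (φ.comp (algebraMap A (Localization.Away f))) P) := by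
  classical
  let Ω := AlgebraicClosure (FractionRing A)
  have hinj : Function.Injective (algebraMap A Ω) := by
    rw [IsScalarTower.algebraMap_eq A (FractionRing A) Ω]
    exact (algebraMap (FractionRing A) Ω).injective.comp (IsFractionRing.injective A _)
  let d := P.totalDegree
  have hdΩ : (map (algebraMap A Ω) P).totalDegree = d := by
    simp only [totalDegree, support_map_of_injective _ hinj, d]
  have hd : 1 ≤ d := by
    rw [Nat.one_le_iff_ne_zero]
    intro h0
    rw [← hdΩ, totalDegree_eq_zero_iff_eq_C] at h0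
    by_cases hc : coeff 0 (map (algebraMap A Ω) P) = 0
    · exact hP.ne_zero (by rw [h0, hc, map_zero])
    · exact hP.not_isUnit (by rw [h0]; exact (isUnit_iff_ne_zero.2 hc).map _)
  have hP0 : P ≠ 0 := fun h => hP.ne_zero (by rw [h, map_zero])
  obtain ⟨m₀, hm₀, hdeg₀⟩ := Finset.exists_mem_eq_sup P.support (support_nonempty.2 hP0)
    (fun s => s.sum fun _ e => e)
  -- the certificates
  have cert : ∀ a : ↥(Finset.Ico 1 d), ∃ f : A, f ≠ 0 ∧ ∀ (κ : Type u) [Field κ] (ψ : A →+* κ),
      ψ f ≠ 0 → ∀ Q R : MvPolynomial (Fin n) κ, Q.totalDegree ≤ a.1 → R.totalDegree ≤ d - a.1 →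
        map ψ P ≠ Q * R := by
    rintro ⟨a, ha⟩
    rw [Finset.mem_Ico] at ha
    let σ := ↥(mons n d a) ⊕ ↥(mons n d (d - a))
    let Qg : MvPolynomial (Fin n) (MvPolynomial σ A) := ∑ m : ↥(mons n d a), monomial m.1 (X (Sum.inl m))
    let Rg : MvPolynomial (Fin n) (MvPolynomial σ A) :=
      ∑ m : ↥(mons n d (d - a)), monomial m.1 (X (Sum.inr m))
    let I : Ideal (MvPolynomial σ A) :=
      Ideal.span (Set.range fun m => coeff m (Qg * Rg - map C P))
    have hev : ∀ {κ : Type u} [Field κ] (ψ : A →+* κ) (x : σ → κ),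
        map (eval₂Hom ψ x) (Qg * Rg - map C P) =
          (∑ m : ↥(mons n d a), monomial m.1 (x (Sum.inl m))) *
            (∑ m : ↥(mons n d (d - a)), monomial m.1 (x (Sum.inr m))) - map ψ P := by
      intro κ _ ψ x
      simp only [map_sub, map_mul, Qg, Rg, map_sum, map_monomial, eval₂Hom_X', map_map]
      rw [show (eval₂Hom ψ x).comp C = ψ from RingHom.ext fun r => eval₂Hom_C _ _ r]
    have hI : ∀ x : σ → Ω, ¬ ∀ p ∈ I, eval₂ (algebraMap A Ω) x p = 0 := by
      intro x hx
      have hz : map (eval₂Hom (algebraMap A Ω) x) (Qg * Rg - map C P) = 0 := by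
        ext m
        rw [coeff_map, coeff_zero]
        exact hx _ (Ideal.subset_span ⟨m, rfl⟩)
      rw [hev, sub_eq_zero] at hz
      set Q₀ := ∑ m : ↥(mons n d a), monomial m.1 (x (Sum.inl m)) with hQ₀
      set R₀ := ∑ m : ↥(mons n d (d - a)), monomial m.1 (x (Sum.inr m)) with hR₀
      have h1 : Q₀.totalDegree ≤ a := totalDegree_sum_mons d a _
      have h2 : R₀.totalDegree ≤ d - a := totalDegree_sum_mons d _ _
      have hQ0 : Q₀ ≠ 0 := fun h => hP.ne_zero (by rw [← hz, h, zero_mul])
      have hR0 : R₀ ≠ 0 := fun h => hP.ne_zero (by rw [← hz, h, mul_zero])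
      have h3 := totalDegree_mul_of_isDomain hQ0 hR0
      rw [hz, hdΩ] at h3
      rcases hP.isUnit_or_isUnit hz.symm with hu | hu
      · have := (isUnit_iff_totalDegree_of_isReduced.1 hu).2; omega
      · have := (isUnit_iff_totalDegree_of_isReduced.1 hu).2; omega
    obtain ⟨f, hf0, hfI⟩ := exists_const_mem I hI
    refine ⟨f, hf0, fun κ _ ψ hψ Q R hQ hR hPQR => hψ ?_⟩
    let x : σ → κ := Sum.elim (fun m => coeff m.1 Q) (fun m => coeff m.1 R)
    have hker : I ≤ RingHom.ker (eval₂Hom ψ x) := by
      rw [Ideal.span_le]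
      rintro _ ⟨m, rfl⟩
      rw [SetLike.mem_coe, RingHom.mem_ker, ← coeff_map, hev]
      simp only [x, Sum.elim_inl, Sum.elim_inr]
      rw [sum_mons_eq (d := d) (a := a) (by omega) Q hQ, sum_mons_eq (d := d) (a := d - a) (by omega) R hR, hPQR, sub_self,
        coeff_zero]
    simpa using hker hfI
  choose f hf0 hf using cert
  refine ⟨coeff m₀ P * ∏ a, f a, mul_ne_zero (mem_support_iff.1 hm₀)
    (Finset.prod_ne_zero_iff.2 fun a _ => hf0 a), fun κ _ φ => ?_⟩
  obtain ⟨ψ, hψdef⟩ : ∃ ψ : A →+* κ, φ.comp (algebraMap A (Localization.Away (coeff m₀ P * ∏ a, f a))) = ψ := ⟨_, rfl⟩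
  rw [hψdef]
  have hψg : ψ (coeff m₀ P * ∏ a, f a) ≠ 0 := by
    rw [← hψdef]; exact (((IsLocalization.Away.algebraMap_isUnit _).map φ)).ne_zero
  rw [map_mul] at hψg
  have hψc : ψ (coeff m₀ P) ≠ 0 := left_ne_zero_of_mul hψg
  have hψf : ∀ a, ψ (f a) ≠ 0 := fun a => by
    have := right_ne_zero_of_mul hψg
    rw [map_prod, Finset.prod_ne_zero_iff] at this
    exact this a (Finset.mem_univ a)
  have hdκ : (map ψ P).totalDegree = d := by
    refine le_antisymm ?_ ?_
    · exact Finset.sup_mono (support_map_subset _ _)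
    · show P.totalDegree ≤ _
      rw [totalDegree, hdeg₀]
      exact le_totalDegree (mem_support_iff.2 (by rw [coeff_map]; exact hψc))
  refine ⟨fun hu => ?_, fun Q R hQR => ?_⟩
  · have := (isUnit_iff_totalDegree_of_isReduced.1 hu).2; omega
  · by_contra hcon
    push Not at hcon
    have hne : map ψ P ≠ 0 := fun h => by rw [h, totalDegree_zero] at hdκ; omega
    have hQ0 : Q ≠ 0 := fun h => hne (by rw [hQR, h, zero_mul])
    have hR0 : R ≠ 0 := fun h => hne (by rw [hQR, h, mul_zero])
    have h3 := totalDegree_mul_of_isDomain hQ0 hR0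
    rw [← hQR, hdκ] at h3
    have hu : ∀ T : MvPolynomial (Fin n) κ, T ≠ 0 → ¬ IsUnit T → 1 ≤ T.totalDegree := by
      intro T hT hT'
      rw [Nat.one_le_iff_ne_zero]
      intro h0
      rw [totalDegree_eq_zero_iff_eq_C] at h0
      refine hT' ?_
      rw [h0]
      refine (isUnit_iff_ne_zero.2 fun hc => hT ?_).map _
      rw [h0, hc, map_zero]
    have hQ1 := hu Q hQ0 hcon.1
    have hR1 := hu R hR0 hcon.2
    exact hf ⟨Q.totalDegree, Finset.mem_Ico.2 ⟨hQ1, by omega⟩⟩ κ ψ (hψf _) Q R le_rfl
      (by show R.totalDegree ≤ d - Q.totalDegree; omega) hQR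

end Groth.Agent.S1352
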