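import Groth.Statements.S9734
import Mathlib.RingTheory.Etale.StandardEtale
import Mathlib.AlgebraicGeometry.Morphisms.Etale
import Mathlib.FieldTheory.PrimitiveElement
import Mathlib.RingTheory.Polynomial.ScaleRoots
import Mathlib.AlgebraicGeometry.ResidueField
import Groth.Agent.FlatMor68.ResidueNbhd

set_option autoImplicit false
universe u
open FlatMor

namespace Groth.Agent.S9734

open CategoryTheory CategoryTheory.Limits AlgebraicGeometry TopologicalSpace Polynomial IntermediateField Groth.Agent.FlatMor68.ResidueNbhd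

open AlgebraicGeometry CategoryTheory Limits in
/-- Let S be a scheme, s a point of S and k a finite separable field extension of the residue field
κ(s). Then there is an étale neighbourhood (U, u) ⟶ (S, s) whose residue field extension κ(u)/κ(s)
is isomorphic to k/κ(s). -/
theorem result (S : Scheme.{u}) (s : S) (k : Type u) [Field k]
    [Algebra (S.residueField s) k] [FiniteDimensional (S.residueField s) k] [Algebra.IsSeparable (S.residueField s) k] :
    ∃ (U : Scheme.{u}) (g : U ⟶ S) (u : U) (hu : g u = s), Etale g ∧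
      letI := ((S.residueFieldCongr hu).inv ≫ g.residueFieldMap u).hom.toAlgebra
      Nonempty (k ≃ₐ[S.residueField s] U.residueField u) := by
  obtain ⟨V, hV, hsV, -⟩ := exists_isAffineOpen_mem_and_subset (X := S) (x := s) (U := ⊤) trivial
  let ψ : Γ(S, V) ⟶ S.residueField s := S.presheaf.germ V s hsV ≫ S.residue s
  have hψ : ∀ c : S.residueField s, ∃ a b, ψ.hom b ≠ 0 ∧ c * ψ.hom b = ψ.hom a := by
    intro c
    obtain ⟨c, rfl⟩ := S.residue_surjective s c
    letI := (S.presheaf.germ V s hsV).hom.toAlgebra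
    haveI : IsLocalization.AtPrime (S.presheaf.stalk s) (hV.primeIdealOf ⟨s, hsV⟩).asIdeal :=
      hV.isLocalization_stalk ⟨s, hsV⟩
    obtain ⟨⟨a, b⟩, hab⟩ := IsLocalization.surj (hV.primeIdealOf ⟨s, hsV⟩).asIdeal.primeCompl c
    refine ⟨a, b.1, ((IsLocalization.map_units (S.presheaf.stalk s) b).map (S.residue s).hom).ne_zero, ?_⟩
    show (S.residue s).hom c * (S.residue s).hom _ = (S.residue s).hom _
    rw [← map_mul]
    exact congrArg _ hab
  obtain ⟨θ, F, hF, hroot, hsep, hgen⟩ := exists_monic_primitive_separable (k := k) ψ.hom hψ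
  let P : StandardEtalePair Γ(S, V) := ⟨F, hF, derivative F, 1, 0, 1, by simp⟩
  let φ : CommRingCat.of Γ(S, V) ⟶ CommRingCat.of P.Ring := CommRingCat.ofHom (algebraMap Γ(S, V) P.Ring)
  let g : Spec (CommRingCat.of P.Ring) ⟶ S := Spec.map φ ≫ hV.fromSpec
  have hgE : Etale g := by
    haveI : Etale (Spec.map φ) := (HasRingHomProperty.Spec_iff (P := @Etale)).2
      (RingHom.etale_algebraMap.2 inferInstance)
    infer_instance
  letI algK : Algebra Γ(S, V) k := ((algebraMap (S.residueField s) k).comp ψ.hom).toAlgebra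
  let ρ' : P.Ring →ₐ[Γ(S, V)] k := P.lift θ ⟨hroot, isUnit_iff_ne_zero.2 hsep⟩
  let ρ : CommRingCat.of P.Ring ⟶ CommRingCat.of k := CommRingCat.ofHom ρ'.toRingHom
  let c : S.residueField s ⟶ CommRingCat.of k := CommRingCat.ofHom (algebraMap (S.residueField s) k)
  have hρ : φ ≫ ρ = ψ ≫ c := CommRingCat.hom_ext (AlgHom.comp_algebraMap ρ')
  let Φ : Spec (CommRingCat.of k) ⟶ Spec (CommRingCat.of P.Ring) := Spec.map ρ
  have hΦg : Φ ≫ g = Spec.map c ≫ S.fromSpecResidueField s := by
    rw [← Category.assoc, ← Spec.map_comp, hρ, Spec.map_comp, Scheme.fromSpecResidueField,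
      Category.assoc, Spec.map_comp, Category.assoc, ← hV.fromSpecStalk_eq_fromSpecStalk hsV]
    rfl
  obtain ⟨⟨u, χ⟩, hχ⟩ := (Scheme.SpecToEquivOfField k (Spec (CommRingCat.of P.Ring))).symm.surjective Φ
  change Spec.map χ ≫ (Spec (CommRingCat.of P.Ring)).fromSpecResidueField u = Φ at hχ
  have hu : g u = s := by
    let pt : Spec (CommRingCat.of k) := IsLocalRing.closedPoint k
    have hu' : Φ pt = u := by
      rw [← hχ, Scheme.Hom.comp_apply]
      exact Scheme.fromSpecResidueField_apply u (Spec.map χ pt)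
    rw [← hu', ← Scheme.Hom.comp_apply, hΦg, Scheme.Hom.comp_apply]
    exact Scheme.fromSpecResidueField_apply s (Spec.map c pt)
  refine ⟨_, g, u, hu, hgE, ?_⟩
  letI := ((S.residueFieldCongr hu).inv ≫ g.residueFieldMap u).hom.toAlgebra
  have hcompat : ((S.residueFieldCongr hu).inv ≫ g.residueFieldMap u) ≫ χ = c := by
    apply Spec.map_injective
    rw [← cancel_mono (S.fromSpecResidueField s)]
    rw [Spec.map_comp, Spec.map_comp, Category.assoc, Category.assoc, Scheme.residueFieldCongr_inv,
      Scheme.residueFieldCongr_fromSpecResidueField, Scheme.Hom.SpecMap_residueFieldMap_fromSpecResidueField,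
      ← Category.assoc, hχ, hΦg]
  let r : CommRingCat.of P.Ring ⟶ (Spec (CommRingCat.of P.Ring)).residueField u :=
    Spec.preimage ((Spec (CommRingCat.of P.Ring)).fromSpecResidueField u)
  have hr : r ≫ χ = ρ := by
    apply Spec.map_injective
    rw [Spec.map_comp, Spec.map_preimage]
    exact hχ
  let χ' : (Spec (CommRingCat.of P.Ring)).residueField u →ₐ[S.residueField s] k :=
    { χ.hom with commutes' := fun a => congr(CommRingCat.Hom.hom $hcompat a) }
  refine ⟨(AlgEquiv.ofBijective χ' ⟨χ'.toRingHom.injective, ?_⟩).symm⟩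
  rw [← AlgHom.fieldRange_eq_top, eq_top_iff, ← hgen, adjoin_simple_le_iff, AlgHom.mem_fieldRange]
  refine ⟨r.hom P.X, ?_⟩
  show (r ≫ χ).hom P.X = θ
  rw [hr]
  exact P.lift_X θ ⟨hroot, isUnit_iff_ne_zero.2 hsep⟩

end Groth.Agent.S9734
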