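import Groth.Statements.S1355
import Groth.Agent.GeoConn24.Basic
import Groth.Agent.S9734
-- import your own Groth.Agent.* helpers here

set_option autoImplicit false
universe u
open FlatMor

namespace Groth.Agent.S1355

open AlgebraicGeometry CategoryTheory Limits in
/-- Let f : X → S and s a point of S. The fibre of f over s is geometrically connected if and only if
for every étale morphism U → S and every point u over s, the fibre over u of the base change of f to
U is connected. -/
theorem result {X S : Scheme.{u}} (f : X ⟶ S) (s : S) :
    GeometricallyConnected (f.fiberToSpecResidueField s) ↔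
      ∀ (U : Scheme.{u}) (g : U ⟶ S) (u : U), Etale g → g u = s → ConnectedSpace ↑((pullback.snd f g).fiber u) := by
  constructor
  · intro hf U g u hg hu
    subst hu
    have h := isPullback_fiberToSpecResidueField_of_isPullback (IsPullback.of_hasPullback f g) u
    have hgc : GeometricallyConnected ((pullback.snd f g).fiberToSpecResidueField u) :=
      MorphismProperty.of_isPullback (P := @GeometricallyConnected) h hf
    haveI := hgc
    exact GeometricallyConnected.connectedSpace_of_subsingleton ((pullback.snd f g).fiberToSpecResidueField u)
  · intro H
    refine Groth.Agent.GeoConn24.geometricallyConnected_of_forall_finite_separable (k := ↑(S.residueField s)) _ fun K _ _ _ _ => ?_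
    obtain ⟨U, g, u, hu, hg, he⟩ := Groth.Agent.S9734.result S s K
    subst hu
    letI := ((S.residueFieldCongr (rfl : g u = g u)).inv ≫ g.residueFieldMap u).hom.toAlgebra
    obtain ⟨e⟩ := he
    have := H U g u hg rfl
    have h := isPullback_fiberToSpecResidueField_of_isPullback (IsPullback.of_hasPullback f g) u
    have key : CommRingCat.ofHom (algebraMap (S.residueField (g u)) K) ≫ (e.toRingEquiv.toCommRingCatIso).hom =
        g.residueFieldMap u := by
      refine CommRingCat.hom_ext (RingHom.ext fun c => ?_)
      show e (algebraMap _ K c) = _
      rw [e.commutes]
      show ((S.residueFieldCongr (rfl : g u = g u)).inv ≫ g.residueFieldMap u).hom c = _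
      simp
    have h' := h.of_iso (Iso.refl _) (Iso.refl _) (asIso (Spec.map (e.toRingEquiv.toCommRingCatIso.hom)))
      (Iso.refl _) (fst' := _) (snd' := (pullback.snd f g).fiberToSpecResidueField u ≫ Spec.map ((e.toRingEquiv.toCommRingCatIso).hom))
      (f' := f.fiberToSpecResidueField (g u)) (g' := Spec.map (CommRingCat.ofHom (algebraMap (S.residueField (g u)) K)))
      rfl (Category.id_comp _).symm (Category.id_comp _).symm (by
        rw [Iso.refl_hom, Category.comp_id]; exact (congrArg Spec.map key).symm.trans (Spec.map_comp _ _))
    exact (Scheme.homeoOfIso h'.isoPullback).surjective.connectedSpace (Scheme.homeoOfIso h'.isoPullback).continuous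

end Groth.Agent.S1355
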