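import Groth.Statements.S1453
import Mathlib
import Groth.Agent.S1326
import Groth.Agent.S1327
import Groth.Agent.FBase64.Geometric
import Mathlib.Topology.Spectral.ConstructibleTopology
import Groth.Agent.ConsProp93.Basic
import Groth.Agent.ConsProp93.Fibrewise
import Mathlib.AlgebraicGeometry.AlgClosed.Basic

set_option autoImplicit false
set_option linter.style.haveILetI false
set_option linter.style.longLine false
universe u
open FlatMor

namespace Groth.Agent.S1453

section
open AlgebraicGeometry CategoryTheory Limits Topology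

lemma isClopen_constructibleTopology_of_isConstructible {α : Type*} [TopologicalSpace α] [CompactSpace α]
    {s : Set α} (hs : IsConstructible s) :
    IsOpen[constructibleTopology α] s ∧ IsOpen[constructibleTopology α] sᶜ := by
  induction hs using IsConstructible.empty_union_induction with
  | open_retrocompact U hU hU' =>
    exact ⟨(hU'.isCompact).isOpen_constructibleTopology_of_isOpen hU,
      IsCompact.isOpen_constructibleTopology_of_isClosed (by rw [compl_compl]; exact hU'.isCompact) hU.isClosed_compl⟩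
  | union s hs t ht ihs iht =>
    refine ⟨@IsOpen.union _ _ _ (constructibleTopology α) ihs.1 iht.1, ?_⟩
    rw [Set.compl_union]
    exact @IsOpen.inter _ (constructibleTopology α) _ _ ihs.2 iht.2
  | compl s hs ih => exact ⟨ih.2, by rw [compl_compl]; exact ih.1⟩

lemma isCompact_of_isConstructible {α : Type*} [TopologicalSpace α] [CompactSpace α] [QuasiSeparatedSpace α]
    [PrespectralSpace α] [QuasiSober α] {s : Set α} (hs : IsConstructible s) : IsCompact s := by
  have hcont : Continuous (WithTopology.ofTopology : WithConstructibleTopology α → α) := by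
    rw [continuous_def]
    intro U hU
    rw [isOpen_iff_forall_mem_open]
    intro x hx
    obtain ⟨V, ⟨hVo, hVc⟩, hxV, hVU⟩ := (PrespectralSpace.isTopologicalBasis (X := α)).exists_subset_of_mem_open
      (show WithTopology.ofTopology x ∈ U from hx) hU
    exact ⟨_, Set.preimage_mono hVU,
      WithConstructibleTopology.isOpen_iff.mpr (hVc.isOpen_constructibleTopology_of_isOpen hVo), hxV⟩
  have hcl : IsClosed (WithTopology.ofTopology ⁻¹' s : Set (WithConstructibleTopology α)) := by
    rw [← isOpen_compl_iff, ← Set.preimage_compl]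
    exact WithConstructibleTopology.isOpen_iff.mpr (isClopen_constructibleTopology_of_isConstructible hs).2
  have h := hcl.isCompact.image hcont
  rwa [Set.image_preimage_eq s (fun a => ⟨WithTopology.toTopology _ a, rfl⟩)] at h

theorem eq_of_specializes {X Y : Scheme.{u}} (g : X ⟶ Y) [LocallyQuasiFinite g] {a b : X} (h : a ⤳ b)
    (hg : g a = g b) : a = b := by
  have := (g.isDiscrete_preimage_singleton (g b)).to_subtype
  exact congrArg Subtype.val ((subtype_specializes_iff (⟨a, hg⟩ : g ⁻¹' {g b}) ⟨b, rfl⟩).2 h).eq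

end

open AlgebraicGeometry CategoryTheory Limits in
/-- Let f : X → Y be flat and of finite presentation with all fibres geometrically reduced, let Z → Y be
finite locally free with a Y-morphism σ : Z → X, and let y be a point with Z_y nonempty and X_y
geometrically connected. Then there is a quasi-compact open X⁰ of X containing the whole fibre X_y
such that every nonempty fibre of X⁰ → Y is geometrically connected. -/
theorem result {X Y Z : Scheme.{u}} (f : X ⟶ Y) [Flat f] [LocallyOfFinitePresentation f] [QuasiCompact f] [QuasiSeparated f]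
    [GeometricallyReduced f] (g : Z ⟶ Y) (hg : Mor2.IsFinLocFree g) (σ : Z ⟶ X) (hσ : σ ≫ f = g) (y : Y) (hZy : y ∈ Set.range ⇑g)
    (hXy : GeometricallyConnected (f.fiberToSpecResidueField y)) :
    ∃ U : X.Opens, IsCompact (U : Set ↑X) ∧ f ⁻¹' {y} ⊆ (U : Set ↑X) ∧
      ∀ y' : Y, (∃ x ∈ U, f x = y') → GeometricallyConnected ((U.ι ≫ f).fiberToSpecResidueField y') := by
  classical
  obtain ⟨_, _, _⟩ := hg
  let fZ := pullback.snd f g
  let p := pullback.fst f g
  let τ : Z ⟶ pullback f g := pullback.lift σ (𝟙 Z) (by rw [hσ, Category.id_comp])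
  have hτ : τ ≫ fZ = 𝟙 Z := pullback.lift_snd _ _ _
  let E : Set ↥(pullback f g) := MoreMor.sectionComponents fZ τ
  have hE : IsOpen E := isOpen_iff_forall_mem_open.mpr fun x hx =>
    ⟨interior E, interior_subset, isOpen_interior, S1327.result fZ τ hτ (fZ x) inferInstance hx⟩
  -- the fibres over `y`
  have hfull : ∀ z, g z = y → fZ ⁻¹' {z} ⊆ E := by
    intro z hz x hx
    have hx' : fZ x = z := hx
    subst hx'
    obtain ⟨q, -, sqz⟩ := ConsProp93.exists_isPullback_fiber (IsPullback.of_hasPullback f g) (fZ x)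
    haveI : GeometricallyConnected (f.fiberToSpecResidueField (g (fZ x))) := by rw [hz]; exact hXy
    haveI : GeometricallyConnected (fZ.fiberToSpecResidueField (fZ x)) :=
      MorphismProperty.of_isPullback sqz ‹GeometricallyConnected (f.fiberToSpecResidueField (g (fZ x)))›
    haveI : ConnectedSpace ↥(fZ.fiber (fZ x)) := GeometricallyConnected.connectedSpace_of_subsingleton (fZ.fiberToSpecResidueField (fZ x))
    have hc : _root_.IsPreconnected (fZ ⁻¹' {fZ x}) := by
      rw [← fZ.range_fiberι]
      exact isPreconnected_range (fZ.fiberι _).continuous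
    show x ∈ connectedComponentIn (fZ ⁻¹' {fZ x}) (τ (fZ x))
    rw [hc.connectedComponentIn (show fZ (τ (fZ x)) = fZ x by rw [← Scheme.Hom.comp_apply, hτ]; rfl)]
    rfl
  let q : pullback g g ⟶ pullback f g :=
    pullback.lift (pullback.snd g g ≫ σ) (pullback.fst g g) (by rw [Category.assoc, hσ, pullback.condition])
  let bad : Set Y := (pullback.fst g g ≫ g) '' (q ⁻¹' E)ᶜ
  have hbad : IsClosed bad :=
    (pullback.fst g g ≫ g).isClosedMap _ (hE.preimage q.continuous).isClosed_compl
  have hyb : y ∉ bad := by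
    rintro ⟨w, hw, hwy⟩
    rw [Scheme.Hom.comp_apply] at hwy
    exact hw (hfull _ hwy (by
      show fZ (q w) = pullback.fst g g w
      rw [← Scheme.Hom.comp_apply, pullback.lift_snd]))
  obtain ⟨V, hV, hyV, hVsub⟩ := exists_isAffineOpen_mem_and_subset
    (U := (⟨badᶜ, hbad.isOpen_compl⟩ : Y.Opens) ⊓ ⟨Set.range g, g.isOpenMap.isOpen_range⟩) ⟨hyb, hZy⟩
  let U : X.Opens := ⟨p '' E ∩ f ⁻¹' (V : Set Y), (p.isOpenMap _ hE).inter (V.2.preimage f.continuous)⟩
  have hpf : ∀ x, f (p x) = g (fZ x) := fun x => by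
    rw [← Scheme.Hom.comp_apply, pullback.condition, Scheme.Hom.comp_apply]
  refine ⟨U, ?_, ?_, ?_⟩
  · -- quasi-compactness
    let W : (pullback f g).Opens := fZ ⁻¹ᵁ (g ⁻¹ᵁ V)
    haveI : IsAffine (g ⁻¹ᵁ V : Scheme.{u}) := hV.preimage g
    haveI : CompactSpace ↥(W : Scheme.{u}) := QuasiCompact.compactSpace_of_compactSpace (fZ ∣_ (g ⁻¹ᵁ V))
    haveI : QuasiSeparatedSpace ↥(W : Scheme.{u}) := quasiSeparatedSpace_of_quasiSeparated (fZ ∣_ (g ⁻¹ᵁ V))
    have h1 : Topology.IsConstructible (W.ι ⁻¹' E) :=
      ((S1326.result fZ τ hτ).preimage_of_isOpenEmbedding W.ι.isOpenEmbedding).isConstructible_of_subset_of_isCompact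
        (Set.subset_univ _) isCompact_univ
    have h2 := ((isCompact_of_isConstructible h1).image W.ι.continuous).image p.continuous
    convert h2 using 1
    ext x
    constructor
    · rintro ⟨⟨e, he, rfl⟩, hx⟩
      exact ⟨e, ⟨⟨e, show g (fZ e) ∈ V from hpf e ▸ hx⟩, he, rfl⟩, rfl⟩
    · rintro ⟨_, ⟨e, he, rfl⟩, rfl⟩
      exact ⟨⟨_, he, rfl⟩, show f (p _) ∈ V from (hpf _).symm ▸ e.2⟩
  · intro x hx
    obtain ⟨z, hz⟩ := hZy
    obtain ⟨e, he, hez⟩ := Scheme.Pullback.exists_preimage_pullback (f := f) (g := g) x z (hx.trans hz.symm)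
    exact ⟨⟨e, hfull z hz hez, he⟩, show f x ∈ V from hx.symm ▸ hyV⟩
  -- geometric connectedness of the fibres
  rintro y' ⟨x₀, hx₀, rfl⟩
  have hyV' : f x₀ ∈ V := hx₀.2
  obtain ⟨hgood, hrange⟩ := hVsub hyV'
  let k := Y.residueField (f x₀)
  let K := AlgebraicClosure k
  let t : Spec (CommRingCat.of K) ⟶ Spec k := Spec.map (CommRingCat.ofHom (algebraMap k K))
  let yK : Spec (CommRingCat.of K) ⟶ Y := t ≫ Y.fromSpecResidueField (f x₀)
  let o : ↥(Spec (CommRingCat.of K)) := IsLocalRing.closedPoint K
  have hyK : ∀ a, yK a = f x₀ := fun a => by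
    rw [Scheme.Hom.comp_apply, Scheme.fromSpecResidueField_apply]
  let π := pullback.fst f yK
  let sK := pullback.snd f yK
  let zK := pullback.snd g yK
  have hclosed : ∀ z' : ↥(pullback g yK), IsClosed ({z'} : Set ↥(pullback g yK)) := fun z' => by
    refine closure_eq_iff_isClosed.mp (Set.eq_singleton_iff_unique_mem.mpr ⟨subset_closure rfl, fun w hw => ?_⟩)
    exact (eq_of_specializes zK (specializes_iff_mem_closure.mpr hw) (Subsingleton.elim (α := PrimeSpectrum K) _ _)).symm
  have hpt : ∀ z' : ↥(pullback g yK), ∃ ζ : Spec (CommRingCat.of K) ⟶ Z, ∃ ζ' : Spec (CommRingCat.of K) ⟶ pullback g yK,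
      ζ' ≫ pullback.fst g yK = ζ ∧ ζ' ≫ zK = 𝟙 _ ∧ ζ ≫ g = yK ∧ ζ' o = z' := fun z' =>
    ⟨_, pointOfClosedPoint zK z' (hclosed z'), rfl, pointOfClosedPoint_comp _ _ _, by
      rw [Category.assoc, pullback.condition, pointOfClosedPoint_comp_assoc], pointOfClosedPoint_apply _ _ _ _⟩
  -- components through the sections
  let s' : ∀ ζ : Spec (CommRingCat.of K) ⟶ Z, ζ ≫ g = yK → (Spec (CommRingCat.of K) ⟶ pullback f yK) := fun ζ h =>
    pullback.lift (ζ ≫ σ) (𝟙 _) (by rw [Category.assoc, hσ, h, Category.id_comp])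
  let m : ∀ ζ : Spec (CommRingCat.of K) ⟶ Z, ζ ≫ g = yK → (pullback f yK ⟶ pullback f g) := fun ζ h =>
    pullback.lift π (sK ≫ ζ) (by rw [Category.assoc, h, pullback.condition])
  have key : ∀ ζ h, ∀ x, x ∈ connectedComponent (s' ζ h o) ↔ m ζ h x ∈ E := by
    intro ζ h x
    have sq : IsPullback (m ζ h) sK fZ ζ := by
      refine IsPullback.of_right ?_ (pullback.lift_snd _ _ _) (IsPullback.of_hasPullback f g)
      rw [pullback.lift_fst, h]
      exact IsPullback.of_hasPullback f yK
    have := GeomCount24.sectionComponents_baseChange fZ τ hτ sK (m ζ h) ζ sq (s' ζ h) (pullback.lift_snd _ _ _) (by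
      apply pullback.hom_ext
      · simp only [s', m, τ, π, sK, Category.assoc]
        erw [pullback.lift_fst, pullback.lift_fst, pullback.lift_fst]
      · simp only [s', m, τ, π, sK, Category.assoc]
        erw [pullback.lift_snd, pullback.lift_snd_assoc, pullback.lift_snd]
        exact (Category.id_comp _).trans (Category.comp_id _).symm)
    show _ ↔ x ∈ m ζ h ⁻¹' E
    rw [← this]
    show _ ↔ x ∈ connectedComponentIn (sK ⁻¹' {sK x}) (s' ζ h (sK x))
    rw [Set.eq_univ_of_forall (s := sK ⁻¹' {sK x}) fun w => Subsingleton.elim (α := PrimeSpectrum K) _ _,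
      connectedComponentIn_univ, show sK x = o from Subsingleton.elim (α := PrimeSpectrum K) _ _]
  obtain ⟨z₀, hz₀⟩ := hrange
  obtain ⟨z₀', -, -⟩ := Scheme.Pullback.exists_preimage_pullback (f := g) (g := yK) z₀ o (hz₀.trans (hyK o).symm)
  obtain ⟨ζ₀, -, -, -, h₀, -⟩ := hpt z₀'
  have hpair : ∀ ζ h, connectedComponent (s' ζ h o) = connectedComponent (s' ζ₀ h₀ o) := by
    intro ζ h
    refine connectedComponent_eq ((key ζ h _).mpr ?_)
    have e : s' ζ₀ h₀ ≫ m ζ h = pullback.lift ζ ζ₀ (h.trans h₀.symm) ≫ q := by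
      apply pullback.hom_ext
      · simp only [s', m, q, π, sK, Category.assoc]
        erw [pullback.lift_fst, pullback.lift_fst, pullback.lift_fst, pullback.lift_snd_assoc]
      · simp only [s', m, q, π, sK, Category.assoc]
        erw [pullback.lift_snd, pullback.lift_snd_assoc, pullback.lift_snd, pullback.lift_fst]
        exact Category.id_comp _
    rw [← Scheme.Hom.comp_apply, e, Scheme.Hom.comp_apply]
    by_contra hne
    refine hgood ⟨_, hne, ?_⟩
    rw [← Scheme.Hom.comp_apply, pullback.lift_fst_assoc, h, hyK]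
  have hUK : π ⁻¹' (U : Set X) = connectedComponent (s' ζ₀ h₀ o) := by
    ext w
    constructor
    · rintro ⟨⟨e, he, hew⟩, -⟩
      obtain ⟨t₁, ht₁, ht₂⟩ := Scheme.Pullback.exists_preimage_pullback (f := p) (g := π) e w hew
      let hh : pullback p π ⟶ pullback g yK := pullback.lift (pullback.fst p π ≫ fZ) (pullback.snd p π ≫ sK) (by
        rw [Category.assoc, Category.assoc, ← pullback.condition, ← pullback.condition, pullback.condition_assoc])
      obtain ⟨ζ, ζ', e1, e2, h, hζ⟩ := hpt (hh t₁)
      obtain ⟨r, hr, -⟩ := Scheme.Pullback.exists_preimage_pullback (f := hh) (g := ζ') t₁ o hζ.symm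
      let r₀ := pullback.fst hh ζ'
      have e3 : r₀ ≫ pullback.fst p π = r₀ ≫ pullback.snd p π ≫ m ζ h := by
        have hz : r₀ ≫ pullback.snd p π ≫ sK = pullback.snd hh ζ' := by
          have := congrArg (fun a => a ≫ zK) (pullback.condition (f := hh) (g := ζ'))
          simp only [Category.assoc, e2, Category.comp_id] at this
          rwa [show hh ≫ zK = pullback.snd p π ≫ sK from pullback.lift_snd _ _ _] at this
        have hz' : r₀ ≫ pullback.fst p π ≫ fZ = pullback.snd hh ζ' ≫ ζ := by
          have := congrArg (fun a => a ≫ pullback.fst g yK) (pullback.condition (f := hh) (g := ζ'))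
          simp only [Category.assoc, e1] at this
          rwa [show hh ≫ pullback.fst g yK = pullback.fst p π ≫ fZ from pullback.lift_fst _ _ _] at this
        apply pullback.hom_ext
        · simp only [m, Category.assoc, pullback.lift_fst]
          exact congrArg (fun a => r₀ ≫ a) pullback.condition
        · simp only [m, Category.assoc, pullback.lift_snd]
          rw [hz', ← hz]
          simp
      have e4 : pullback.fst p π t₁ = m ζ h (pullback.snd p π t₁) := by
        rw [← hr, ← Scheme.Hom.comp_apply, e3]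
        rfl
      rw [← hpair ζ h]
      refine (key ζ h w).mpr ?_
      rw [← ht₂, ← e4, ht₁]
      exact he
    · intro hw
      replace hw := (key ζ₀ h₀ w).mp hw
      refine ⟨⟨_, hw, ?_⟩, ?_⟩
      · rw [← Scheme.Hom.comp_apply, pullback.lift_fst]
      · show f (π w) ∈ V
        rw [← Scheme.Hom.comp_apply, pullback.condition, Scheme.Hom.comp_apply, hyK]
        exact hyV'
  refine @FBase64.geometricallyConnected_of_sepClosed k _ _ ((U.ι ≫ f).fiberToSpecResidueField (f x₀)) K _
    (algebraMap k K) inferInstance ?_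
  refine (pullbackLeftPullbackSndIso (U.ι ≫ f) _ t).hom.homeomorph.symm.connectedSpace_iff.mp ?_ 
  let j : pullback (U.ι ≫ f) yK ⟶ pullback f yK :=
    pullback.map (U.ι ≫ f) yK f yK U.ι (𝟙 _) (𝟙 _) (by simp) (by simp)
  have hj : Set.range j = π ⁻¹' (U : Set X) := by
    rw [Scheme.Pullback.range_map, Scheme.Opens.range_ι]
    simp [π]
  rw [connectedSpace_iff_univ]
  have hne : (Set.univ : Set ↥(pullback (U.ι ≫ f) yK)).Nonempty := by
    obtain ⟨a, -⟩ := hj.ge (hUK.ge mem_connectedComponent)
    exact ⟨a, trivial⟩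
  refine ⟨hne, ?_⟩
  rw [← j.isOpenEmbedding.isEmbedding.isInducing.isPreconnected_image, Set.image_univ, hj, hUK]
  exact isPreconnected_connectedComponent

end Groth.Agent.S1453
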