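import Groth.Statements.S1356
import Mathlib
import Groth.Agent.NearGen2.MultiSection
import Groth.Agent.S1453
import Groth.Agent.FlatMor66.ElemNbhd
import Groth.Agent.ConsProp93.Criterion
import Groth.Agent.E4O.InfNbhd
import Groth.Agent.NearGen2.GeomReduced

set_option autoImplicit false
set_option linter.style.haveILetI false
set_option linter.style.longLine false
universe u
open FlatMor

namespace Groth.Agent.S1356

section
open AlgebraicGeometry CategoryTheory Limits

theorem monoSquare {A B C : Scheme.{u}} (f : A ⟶ B) (m : B ⟶ C) [Mono m] : IsPullback (𝟙 A) f (f ≫ m) m := by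
  have h1 : IsPullback (𝟙 A) f f (𝟙 B) := IsPullback.of_horiz_isIso ⟨by simp⟩
  have h2 := h1.paste_vert (show IsPullback (𝟙 B) (𝟙 B) m m from IsKernelPair.id_of_mono m)
  rwa [Category.comp_id] at h2

theorem geometricallyReduced_open_comp {A B C : Scheme.{u}} (j : A ⟶ B) [IsOpenImmersion j] (t : B ⟶ C)
    [GeometricallyReduced t] : GeometricallyReduced (j ≫ t) :=
  ⟨geometrically_iff_of_isClosedUnderIsomorphisms.mpr fun K _ y => by
    haveI : IsReduced (pullback t y) := pullback_of_geometrically GeometricallyReduced.geometrically_isReduced K y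
    let m : pullback (j ≫ t) y ⟶ pullback t y := pullback.map (j ≫ t) y t y j (𝟙 _) (𝟙 _) (by simp) (by simp)
    exact isReduced_of_isOpenImmersion m⟩

theorem fiber_open_iff (P : MorphismProperty Scheme.{u}) [P.RespectsIso] {X S : Scheme.{u}} (f : X ⟶ S)
    (W : X.Opens) (s : S) (T : (f.fiber s).Opens) (hT : f.fiberι s ⁻¹ᵁ W = T) :
    P ((W.ι ≫ f).fiberToSpecResidueField s) ↔ P (T.ι ≫ f.fiberToSpecResidueField s) := by
  let q := pullback.snd W.ι (f.fiberι s)
  have hr : Set.range q = Set.range T.ι := by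
    rw [Scheme.Pullback.range_snd, Scheme.Opens.range_ι, Scheme.Opens.range_ι, ← hT]
    rfl
  have he : (pullbackRightPullbackFstIso f (S.fromSpecResidueField s) W.ι).inv ≫ q ≫ f.fiberToSpecResidueField s =
      (W.ι ≫ f).fiberToSpecResidueField s := pullbackRightPullbackFstIso_inv_snd_snd _ _ _
  have h1 : q ≫ f.fiberToSpecResidueField s =
      (IsOpenImmersion.isoOfRangeEq q T.ι hr).hom ≫ T.ι ≫ f.fiberToSpecResidueField s := by
    rw [← Category.assoc, IsOpenImmersion.isoOfRangeEq_hom_fac q T.ι hr]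
  constructor
  · intro h
    rw [← he] at h
    have h' := (P.cancel_left_of_respectsIso _ _).mp h
    exact (P.cancel_left_of_respectsIso _ _).mp ((congrArg (fun a => P a) h1).mp h')
  · intro h
    rw [← he]
    refine (P.cancel_left_of_respectsIso _ _).mpr ?_
    exact (congrArg (fun a => P a) h1).mpr ((P.cancel_left_of_respectsIso _ _).mpr h)

end

open AlgebraicGeometry CategoryTheory Limits in
/-- Let h : Y → S be flat and of finite presentation with all fibres geometrically reduced, let s be a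
point of S and T an open of the fibre over s which is geometrically connected over the residue field
of s. Then there are an affine elementary étale neighbourhood (S', s') of (S, s) and a quasi-compact
open V of the base change of Y to S', with every fibre of V → S' geometrically connected, whose
points over s' are exactly the points of the base change over s' whose image in Y lies in T. -/
theorem result {Y S : Scheme.{u}} (h : Y ⟶ S) [Flat h] [LocallyOfFinitePresentation h] [QuasiCompact h] [QuasiSeparated h]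
    [GeometricallyReduced h] (s : S) (T : (h.fiber s).Opens) (hT : GeometricallyConnected (T.ι ≫ h.fiberToSpecResidueField s)) :
    ∃ (S' : Scheme.{u}) (g : S' ⟶ S) (s' : S'), IsAffine S' ∧ Hens2.IsEtaleNbhd g s' s ∧
      ∃ V : (pullback h g).Opens, IsCompact (V : Set ↑(pullback h g)) ∧ GeometricallyConnected (V.ι ≫ pullback.snd h g) ∧
        ∀ y' : ↑(pullback h g), pullback.snd h g y' = s' → (y' ∈ V ↔ pullback.fst h g y' ∈ (h.fiberι s) '' (T : Set ↑(h.fiber s))) := by
  classical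
  haveI : GeometricallyReduced (h.fiberToSpecResidueField s) := inferInstance
  have hTne : (T : Set ↥(h.fiber s)).Nonempty := by
    haveI := hT
    obtain ⟨a, -⟩ := (T.ι ≫ h.fiberToSpecResidueField s).surjective (IsLocalRing.closedPoint (S.residueField s))
    exact ⟨_, a.2⟩
  obtain ⟨Z, π, z, hπ, hzs, hzT⟩ := NearGen2.exists_etale_multisection h s inferInstance T hTne
  haveI := hπ
  haveI : LocallyQuasiFinite (π ≫ h) := FlatMor66.lqf_of_etale _
  obtain ⟨U₁, g₁, u₁, hg₁, hfp₁⟩ := FlatMor66.exists_hasFinitePart (π ≫ h) z ((π ≫ h).quasiFiniteAt z)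
  rw [hzs] at hg₁
  obtain ⟨U₀, hU₀, hu₀, -⟩ := exists_isAffineOpen_mem_and_subset (U := ⊤) (TopologicalSpace.Opens.mem_top u₁)
  let U : Scheme.{u} := U₀
  haveI : IsAffine U := hU₀
  let u : U := ⟨u₁, hu₀⟩
  let g : U ⟶ S := U₀.ι ≫ g₁
  haveI := hg₁.etale
  obtain ⟨V₁, v, hv, hfin, hvu, huniq, hvz, -⟩ :=
    FlatMor66.HasFinitePart.refine (π ≫ h) hfp₁ U₀.ι u rfl (E4O.residueFieldMap_bijective_of_preimmersion _ _)
  have hgu : g u = s := hg₁.base_eq
  have hgb : Function.Bijective (g.residueFieldMap u) := by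
    rw [Scheme.residueFieldMap_comp]
    exact (E4O.residueFieldMap_bijective_of_preimmersion U₀.ι u).comp hg₁.residue_bijective
  let F := pullback.snd h g
  let pr := pullback.fst h g
  haveI : CompactSpace ↥(pullback h g) := QuasiCompact.compactSpace_of_compactSpace F
  haveI : QuasiSeparatedSpace ↥(pullback h g) := quasiSeparatedSpace_of_quasiSeparated F
  let gZ := V₁.ι ≫ pullback.snd (π ≫ h) g
  haveI : Etale gZ := inferInstanceAs (Etale (V₁.ι ≫ pullback.snd (π ≫ h) g))
  haveI : IsFinite gZ := hfin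
  let σ : (V₁ : Scheme.{u}) ⟶ pullback h g :=
    pullback.lift (V₁.ι ≫ pullback.fst (π ≫ h) g ≫ π) gZ (by simp [gZ, pullback.condition])
  have hσ : σ ≫ F = gZ := pullback.lift_snd _ _ _
  -- the open `W`
  obtain ⟨O, hOo, hO⟩ := (h.fiberι s).isEmbedding.isInducing.isOpen_iff.1 T.2
  have hmemO : ∀ y, h y = s → (y ∈ O ↔ y ∈ h.fiberι s '' (T : Set ↥(h.fiber s))) := fun y hy => by
    obtain ⟨w, rfl⟩ := (h.range_fiberι s).ge hy
    rw [(h.fiberι s).isEmbedding.injective.mem_set_image]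
    exact Set.ext_iff.mp hO w
  let A : Set ↥(pullback h g) := F ⁻¹' {u} ∩ pr ⁻¹' O
  haveI : IsLocallyNoetherian (F.fiber u) := LocallyOfFiniteType.isLocallyNoetherian (F.fiberToSpecResidueField u)
  haveI : CompactSpace ↥(F.fiber u) := QuasiCompact.compactSpace_of_compactSpace (F.fiberToSpecResidueField u)
  haveI : IsNoetherian (F.fiber u) := { }
  have hA : IsCompact A := by
    have : A = F.fiberι u '' (F.fiberι u ⁻¹' (pr ⁻¹' O)) := by
      rw [Set.image_preimage_eq_inter_range, F.range_fiberι, Set.inter_comm]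
    rw [this]
    exact (TopologicalSpace.NoetherianSpace.isCompact _).image (F.fiberι u).continuous
  let prO : (pullback h g).Opens := ⟨pr ⁻¹' O, hOo.preimage pr.continuous⟩
  obtain ⟨t, ht, htfin, hcov⟩ := hA.elim_finite_subcover_image (b := {B : (pullback h g).affineOpens | B.1 ≤ prO})
    (c := fun B => (B.1 : Set ↥(pullback h g))) (fun B _ => B.1.2) (fun x hx => by
      obtain ⟨B, hB, hxB, hBU⟩ := exists_isAffineOpen_mem_and_subset (U := prO) hx.2
      exact Set.mem_biUnion (x := (⟨B, hB⟩ : (pullback h g).affineOpens)) hBU hxB)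
  let W : (pullback h g).Opens := ⟨⋃ B ∈ t, (B.1 : Set _), isOpen_biUnion fun B _ => B.1.2⟩
  have hWc : IsCompact (W : Set ↥(pullback h g)) := htfin.isCompact_biUnion fun B _ => B.2.isCompact
  have hW : ∀ y, F y = u → (y ∈ W ↔ pr y ∈ O) := fun y hy =>
    ⟨fun hyW => by
      obtain ⟨B, hB, hyB⟩ := Set.mem_iUnion₂.mp hyW
      exact ht hB hyB, fun hyO => hcov ⟨hy, hyO⟩⟩
  -- shrink so that the multisection lands in `W`
  let bad : Set U := gZ '' (σ ⁻¹' (W : Set _))ᶜ
  have hbad : IsClosed bad := gZ.isClosedMap _ (W.2.preimage σ.continuous).isClosed_compl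
  have hub : u ∉ bad := by
    rintro ⟨w, hw, hwu⟩
    have hwu' : pullback.snd (π ≫ h) g w.1 = u := hwu
    have hwv : w.1 = v := huniq w.1 w.2 hwu'
    refine hw ((hW (σ w) (by rw [← Scheme.Hom.comp_apply, hσ]; exact hwu)).mpr ?_)
    have e : pr (σ w) = π z := by
      rw [← Scheme.Hom.comp_apply, pullback.lift_fst, Scheme.Hom.comp_apply, Scheme.Hom.comp_apply]
      show π (pullback.fst (π ≫ h) g w.1) = π z
      rw [hwv, hvz]
    rw [e, hmemO _ (by rw [← Scheme.Hom.comp_apply]; exact hzs)]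
    exact hzT
  obtain ⟨U', hU', huU', hU'bad⟩ := exists_isAffineOpen_mem_and_subset (U := (⟨badᶜ, hbad.isOpen_compl⟩ : U.Opens)) hub
  let W' := W ⊓ F ⁻¹ᵁ U'
  have hW'c : IsCompact (W' : Set ↥(pullback h g)) :=
    QuasiSeparatedSpace.inter_isCompact _ _ W.2 hWc (F ⁻¹ᵁ U').2 (F.isCompact_preimage hU'.isCompact)
  haveI : IsAffine (U' : Scheme.{u}) := hU'
  haveI : CompactSpace ↥(W' : Scheme.{u}) := isCompact_iff_compactSpace.mp hW'c
  haveI : QuasiSeparatedSpace ↥(W' : Scheme.{u}) := QuasiSeparatedSpace.of_isOpenEmbedding W'.ι.isOpenEmbedding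
  let j := (pullback h g).homOfLE (inf_le_right : W' ≤ F ⁻¹ᵁ U')
  let f' : (W' : Scheme.{u}) ⟶ (U' : Scheme.{u}) := j ≫ F ∣_ U'
  have hf' : f' ≫ U'.ι = W'.ι ≫ F := by
    simp only [f', j, Category.assoc, morphismRestrict_ι, Scheme.homOfLE_ι_assoc]
    rfl
  haveI : GeometricallyReduced f' := geometricallyReduced_open_comp j (F ∣_ U')
  let Z' := gZ ⁻¹ᵁ U'
  let σ' : (Z' : Scheme.{u}) ⟶ (W' : Scheme.{u}) := IsOpenImmersion.lift W'.ι (Z'.ι ≫ σ) (by
    rw [Scheme.Opens.range_ι]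
    rintro _ ⟨w, rfl⟩
    refine ⟨?_, ?_⟩
    · by_contra hne
      exact hU'bad (show gZ w.1 ∈ U' from w.2) ⟨w.1, hne, rfl⟩
    · show F (σ w.1) ∈ U'
      rw [← Scheme.Hom.comp_apply, hσ]
      exact w.2)
  have hσ' : σ' ≫ f' = gZ ∣_ U' := by
    rw [← cancel_mono U'.ι, Category.assoc, hf', ← Category.assoc, IsOpenImmersion.lift_fac, Category.assoc, hσ,
      morphismRestrict_ι]
  let u' : (U' : Scheme.{u}) := ⟨u, huU'⟩
  obtain ⟨m, hm, sqm⟩ := ConsProp93.exists_isPullback_fiber (IsPullback.of_hasPullback h g) u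
  have hgc : GeometricallyConnected (f'.fiberToSpecResidueField u') := by
    have hsq : IsPullback (𝟙 _) f' (W'.ι ≫ F) U'.ι := hf' ▸ monoSquare f' U'.ι
    refine (NearGen2.fiber_prop_iff_of_preimmersion (P := @GeometricallyConnected) hsq u').mpr ?_
    show GeometricallyConnected ((W'.ι ≫ F).fiberToSpecResidueField u)
    cases hgu
    refine (fiber_open_iff @GeometricallyConnected F W' u (m ⁻¹ᵁ T) ?_).mpr ?_
    · ext w
      have hFw : F (F.fiberι u w) = u := (F.range_fiberι u).le ⟨w, rfl⟩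
      show F.fiberι u w ∈ W' ↔ m w ∈ T
      rw [show F.fiberι u w ∈ W' ↔ F.fiberι u w ∈ W from ⟨And.left, fun hh => ⟨hh, show F (F.fiberι u w) ∈ U' from hFw.symm ▸ huU'⟩⟩,
        hW _ hFw, ← Scheme.Hom.comp_apply, ← hm, Scheme.Hom.comp_apply]
      exact Set.ext_iff.mp hO (m w)
    · exact MorphismProperty.of_isPullback (P := @GeometricallyConnected) ((isPullback_morphismRestrict m T).paste_vert sqm) hT
  obtain ⟨X₀, hX₀c, hX₀u, hX₀⟩ := S1453.result f' (gZ ∣_ U') ⟨inferInstance, inferInstance, inferInstance⟩ σ' hσ' u'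
    ⟨⟨⟨v, hv⟩, show gZ ⟨v, hv⟩ ∈ U' from (show gZ ⟨v, hv⟩ = u from hvu).symm ▸ huU'⟩,
      U'.ι.isOpenEmbedding.injective (by rw [← Scheme.Hom.comp_apply, morphismRestrict_ι]; exact hvu)⟩ hgc
  let i := X₀.ι ≫ W'.ι
  let X₁ := i.opensRange
  have hX₁c : IsCompact (X₁ : Set ↥(pullback h g)) := by
    show IsCompact (Set.range i)
    rw [Scheme.Hom.comp_base, TopCat.coe_comp, Set.range_comp, Scheme.Opens.range_ι]
    exact hX₀c.image W'.ι.continuous
  have hfib : ∀ y : (U' : Scheme.{u}), (∃ x ∈ X₀, f' x = y) → GeometricallyConnected ((X₁.ι ≫ F).fiberToSpecResidueField y.1) := by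
    intro y hy
    have e1 : (X₀.ι ≫ f') ≫ U'.ι = i.isoOpensRange.hom ≫ X₁.ι ≫ F := by
      rw [Category.assoc, hf', Scheme.Hom.isoOpensRange_hom_ι_assoc]
      simp [i]
    have sq0 : IsPullback (𝟙 _) (X₀.ι ≫ f') (i.isoOpensRange.hom ≫ X₁.ι ≫ F) U'.ι := e1 ▸ monoSquare (X₀.ι ≫ f') U'.ι
    have sq := sq0.paste_horiz (IsPullback.of_horiz_isIso (fst := i.isoOpensRange.hom) (snd := i.isoOpensRange.hom ≫ X₁.ι ≫ F)
      (f := X₁.ι ≫ F) (g := 𝟙 U) ⟨by simp⟩)
    rw [Category.comp_id] at sq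
    exact (NearGen2.fiber_prop_iff_of_preimmersion (P := @GeometricallyConnected) sq y).mp (hX₀ y hy)
  obtain ⟨w₀, hw₀⟩ : ∃ w, F w = u ∧ w ∈ X₁ := by
    haveI := hgc
    obtain ⟨w', -⟩ := (f'.fiberToSpecResidueField u').surjective (IsLocalRing.closedPoint (_ : CommRingCat))
    obtain ⟨w, hw⟩ : ∃ w, f' w = u' := ⟨f'.fiberι u' w', (f'.range_fiberι u').le ⟨w', rfl⟩⟩
    refine ⟨W'.ι w, ?_, ⟨⟨w, hX₀u hw⟩, rfl⟩⟩
    rw [← Scheme.Hom.comp_apply, ← hf', Scheme.Hom.comp_apply, hw]
    rfl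
  obtain ⟨U'', hU'', huU'', hU''sub⟩ := exists_isAffineOpen_mem_and_subset
    (U := (⟨F '' (X₁ : Set _), F.isOpenMap _ X₁.2⟩ : U.Opens) ⊓ U') ⟨⟨w₀, hw₀.2, hw₀.1⟩, huU'⟩
  haveI : IsAffine (U'' : Scheme.{u}) := hU''
  let g'' := U''.ι ≫ g
  let F'' := pullback.snd h g''
  let p : pullback h g'' ⟶ pullback h g :=
    pullback.lift (pullback.fst h g'') (F'' ≫ U''.ι) (by rw [Category.assoc]; exact pullback.condition)
  have hsq : IsPullback p F'' F U''.ι := by
    refine IsPullback.of_right ?_ (pullback.lift_snd _ _ _) (IsPullback.of_hasPullback h g)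
    rw [pullback.lift_fst]
    exact IsPullback.of_hasPullback h g''
  haveI : IsOpenImmersion p := MorphismProperty.of_isPullback hsq.flip inferInstance
  have hpr : ∀ y, F (p y) = (F'' y).1 := fun y => by
    rw [← Scheme.Hom.comp_apply, hsq.w]
    rfl
  refine ⟨U'', g'', ⟨u, huU''⟩, hU'', ⟨inferInstance, hgu, ?_⟩, p ⁻¹ᵁ X₁, ?_, ?_, ?_⟩
  · rw [Scheme.residueFieldMap_comp]
    exact (E4O.residueFieldMap_bijective_of_preimmersion U''.ι ⟨u, huU''⟩).comp hgb
  · rw [p.isOpenEmbedding.isEmbedding.isCompact_iff]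
    show IsCompact (p '' (p ⁻¹' (X₁ : Set _)))
    rw [Set.image_preimage_eq_inter_range, show Set.range p = F ⁻¹' (U'' : Set U) by
      ext a
      refine ⟨?_, fun ha => ?_⟩
      · rintro ⟨b, rfl⟩
        exact show F (p b) ∈ U'' from (hpr b).symm ▸ (F'' b).2
      · obtain ⟨b, hb, -⟩ := Scheme.exists_preimage_of_isPullback hsq a ⟨F a, ha⟩ rfl
        exact ⟨b, hb⟩]
    exact QuasiSeparatedSpace.inter_isCompact _ _ X₁.2 hX₁c (F ⁻¹ᵁ U'').2 (F.isCompact_preimage hU''.isCompact)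
  · refine (GeometricallyConnected.iff_geometricallyConnected_fiber (f := (p ⁻¹ᵁ X₁).ι ≫ F'')).mpr fun y => ?_
    have sqV : IsPullback (p ∣_ X₁) ((p ⁻¹ᵁ X₁).ι ≫ F'') (X₁.ι ≫ F) U''.ι :=
      (isPullback_morphismRestrict p X₁).paste_vert hsq
    refine (NearGen2.fiber_prop_iff_of_preimmersion (P := @GeometricallyConnected) sqV y).mpr ?_
    obtain ⟨⟨w, ⟨a, rfl⟩, hwy⟩, hyU'⟩ := hU''sub y.2
    exact hfib ⟨y.1, hyU'⟩ ⟨a.1, a.2, U'.ι.isOpenEmbedding.injective (by
      rw [← Scheme.Hom.comp_apply, hf']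
      exact hwy)⟩
  · intro y' hy'
    have hFy : F (p y') = u := (hpr y').trans (congrArg Subtype.val hy')
    rw [show pullback.fst h g'' y' = pr (p y') by rw [← Scheme.Hom.comp_apply, pullback.lift_fst],
      ← hmemO _ (by rw [← Scheme.Hom.comp_apply, pullback.condition, Scheme.Hom.comp_apply, hFy, hgu]), ← hW _ hFy]
    constructor
    · rintro ⟨a, ha⟩
      exact ha ▸ (a.1.2).1
    · intro hyW
      exact ⟨⟨⟨p y', hyW, show F (p y') ∈ U' from hFy.symm ▸ huU'⟩, hX₀u (U'.ι.isOpenEmbedding.injective (by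
        rw [← Scheme.Hom.comp_apply, hf']
        exact hFy))⟩, rfl⟩

end Groth.Agent.S1356
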