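import Groth.Statements.S13564
import Groth.Agent.DR39.TrivDual

set_option autoImplicit false
universe u
open CategoryTheory CategoryTheory.Limits MonoidalCategory
attribute [local instance] HasDerivedCategory.standard
open Dual2

namespace Groth.Agent.S13564

/-- Let R → A and R → R' be ring maps and A' = A ⊗_R R' (a cocartesian square of commutative rings),
with A and R' tor independent over R (Tor_p^R(A, R') = 0 for p ≥ 1). The derived base-change
functors (left adjoint to restriction), the trivial-duality functors R Hom(A, −) : D(R) ⥤ D(A) and R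
Hom(A', −) : D(R') ⥤ D(A') (right adjoint to restriction), and the symmetric monoidal structure and
internal RHom of D(R) are given as data / structure binders. Let K be an object of D(R) such that
the comparison map (K|_R) ⊗^L_R R' → (K ⊗^L_A A')|_{R'} at R Hom(A, K) is an isomorphism. Then the
base-change map of trivial duality R Hom(A, K) ⊗^L_A A' → R Hom(A', K ⊗^L_R R') is an isomorphism if
and only if the evaluation map R' ⊗^L_R RHom_R(A, K) → RHom_R(A, R' ⊗^L_R K) in D(R) is an
isomorphism, where A and R' are regarded as objects of D(R) by restriction of scalars. -/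
theorem result (R A R' A' : Type u) [CommRing R] [CommRing A] [CommRing R'] [CommRing A']
    [Algebra R A] [Algebra R R'] [Algebra A A'] [Algebra R' A'] [Algebra R A'] [IsScalarTower R A A'] [IsScalarTower R R' A']
    [Algebra.IsPushout R A R' A']
    (htor : ∀ p : ℕ, 1 ≤ p → Subsingleton (DRing.Tor R p A R'))
    [DRing.HasLBaseChange (algebraMap R R')] [DRing.HasLBaseChange (algebraMap A A')]
    (adjρ : DRing.LBaseChange (algebraMap R R') ⊣ DRing.restrictD (algebraMap R R'))
    (adjα : DRing.LBaseChange (algebraMap A A') ⊣ DRing.restrictD (algebraMap A A'))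
    (h : (algebraMap A A').comp (algebraMap R A) = (algebraMap R' A').comp (algebraMap R R'))
    (Rφ : Dual.D R ⥤ Dual.D A) (adj : DRing.restrictD (algebraMap R A) ⊣ Rφ)
    (Rφ' : Dual.D R' ⥤ Dual.D A') (adj' : DRing.restrictD (algebraMap R' A') ⊣ Rφ')
    (K : Dual.D R) (hc : IsIso (TrivBC.cmp adjρ adjα h (Rφ.obj K)))
    [DTen.HasLTen R] [DTen.HasLTen₃ R] [DTen.IsSymMonoidal R] [DTen.HasRHom R] :
    IsIso (TrivBC.bcMap adjρ adjα h adj adj' K hc) ↔
      IsIso (DTen.evalTen ((DRing.restrictD (algebraMap R R')).obj (DTen.unit R')) K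
        ((DRing.restrictD (algebraMap R A)).obj (DTen.unit A))) := by
  haveI := Groth.Agent.DTen43.hasLTen (A := A)
  haveI := Groth.Agent.DTen43.hasLTen₃ A
  haveI := Groth.Agent.DTen43.isSymMonoidal A
  haveI := Groth.Agent.DTen43.hasLTen (A := R')
  haveI := Groth.Agent.DTen43.hasLTen₃ R'
  haveI := Groth.Agent.DTen43.isSymMonoidal R'
  haveI := Groth.Agent.DTen43.hasLBase (algebraMap R A)
  haveI := Groth.Agent.DTen43.hasResTen (algebraMap R A)
  haveI := Groth.Agent.DTen43.resLegIso (algebraMap R A)
  haveI := Groth.Agent.DTen43.hasLBase (algebraMap R R')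
  haveI := Groth.Agent.DTen43.hasResTen (algebraMap R R')
  haveI := Groth.Agent.DTen43.resLegIso (algebraMap R R')
  exact (Groth.Agent.DR39.Triv.isIso_bcMap_iff h adjρ adjα adj adj' (fun U => Groth.Agent.S13563.result R A R' A' htor adjρ adjα h U) K hc)

end Groth.Agent.S13564
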