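import Groth.Statements.S1358
import Mathlib
import Groth.Agent.NearGen2.PIModel
import Groth.Agent.AWN93.Normalization
import Mathlib.RingTheory.Spectrum.Prime.Topology

set_option autoImplicit false
set_option linter.style.haveILetI false
set_option linter.style.longLine false
universe u
open FlatMor

namespace Groth.Agent.S1358

open AlgebraicGeometry CategoryTheory Limits in
/-- Let f be of finite type with irreducible target Y. Then there are a nonempty open V of Y, a finite
universal homeomorphism g from an integral affine scheme Y' to V, and a reduced scheme X' with a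
surjective closed immersion into the base change of X to Y' (so X' is the reduction of that base
change), such that X' → Y' is flat and of finite presentation and its generic fibre is geometrically
reduced. -/
theorem result {X Y : Scheme.{u}} (f : X ⟶ Y) [IrreducibleSpace ↑Y] [LocallyOfFiniteType f] [QuasiCompact f] :
    ∃ (V : Y.Opens) (Y' : Scheme.{u}) (g : Y' ⟶ (V : Scheme.{u})) (X' : Scheme.{u}) (r : X' ⟶ pullback f (g ≫ V.ι)) (hY' : IsIntegral Y'),
      (V : Set ↑Y).Nonempty ∧ IsAffine Y' ∧ IsFinite g ∧ FlatMor.IsUnivHomeo g ∧ IsClosedImmersion r ∧ Surjective r ∧ IsReduced X' ∧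
      Flat (r ≫ pullback.snd f (g ≫ V.ι)) ∧ LocallyOfFinitePresentation (r ≫ pullback.snd f (g ≫ V.ι)) ∧
      QuasiCompact (r ≫ pullback.snd f (g ≫ V.ι)) ∧ QuasiSeparated (r ≫ pullback.snd f (g ≫ V.ι)) ∧
      GeometricallyReduced ((r ≫ pullback.snd f (g ≫ V.ι)).fiberToSpecResidueField (genericPoint ↑Y')) := by
  classical
  obtain ⟨U₀, hU₀, hηU, -⟩ := exists_isAffineOpen_mem_and_subset (U := ⊤) (TopologicalSpace.Opens.mem_top (genericPoint Y))
  let R := Γ(Y, U₀)
  haveI : IrreducibleSpace ↥(U₀ : Scheme.{u}) := by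
    haveI : Nonempty ↥(U₀ : Scheme.{u}) := ⟨⟨_, hηU⟩⟩
    exact U₀.ι.isOpenEmbedding.irreducibleSpace
  haveI : IrreducibleSpace (PrimeSpectrum R) := hU₀.isoSpec.hom.homeomorph.irreducibleSpace_iff.mp ‹_›
  haveI : (nilradical R).IsPrime := PrimeSpectrum.irreducibleSpace_iff_isPrime_nilradical.mp ‹_›
  let A : CommRingCat.{u} := CommRingCat.of (R ⧸ nilradical R)
  haveI : IsDomain A := inferInstanceAs (IsDomain (R ⧸ nilradical R))
  let t₀ : Spec A ⟶ Spec R := Spec.map (CommRingCat.ofHom (Ideal.Quotient.mk (nilradical R)))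
  let j₀ : Spec A ⟶ Y := t₀ ≫ hU₀.fromSpec
  let fA := pullback.snd f j₀
  let K := FractionRing A
  let yK : Spec (CommRingCat.of K) ⟶ Spec A := Spec.map (CommRingCat.ofHom (algebraMap A K))
  let gK := pullback.snd fA yK
  haveI : LocallyOfFiniteType gK := inferInstanceAs (LocallyOfFiniteType (pullback.snd fA yK))
  haveI : QuasiCompact gK := inferInstanceAs (QuasiCompact (pullback.snd fA yK))
  haveI : Finite ↥(irreducibleComponents ↥(pullback fA yK)) := by
    have : IsLocallyNoetherian (pullback fA yK) := LocallyOfFiniteType.isLocallyNoetherian gK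
    have : CompactSpace ↥(pullback fA yK) := QuasiCompact.compactSpace_of_compactSpace gK
    have : IsNoetherian (pullback fA yK) := { }
    exact TopologicalSpace.NoetherianSpace.finite_irreducibleComponents.to_subtype
  obtain ⟨L, iL, iKL, hfd, hpi, hGR⟩ := NearGen2.exists_finite_purelyInseparable_reduced gK
  letI iAL : Algebra A L := ((algebraMap K L).comp (algebraMap A K)).toAlgebra
  haveI : IsScalarTower A K L := IsScalarTower.of_algebraMap_eq fun _ => rfl
  obtain ⟨A', hfin, hAA', hfrac, q, hq, hpow⟩ := NearGen2.exists_finite_pi_subalgebra (A := A) L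
  let t : Spec (CommRingCat.of A') ⟶ Spec A := Spec.map (CommRingCat.ofHom (algebraMap A A'))
  let T : Spec (CommRingCat.of A') ⟶ Spec R := t ≫ t₀
  haveI : IsFinite t := (IsFinite.SpecMap_iff _).mpr (RingHom.finite_algebraMap.mpr hfin)
  haveI : IsClosedImmersion t₀ := IsClosedImmersion.spec_of_surjective _ Ideal.Quotient.mk_surjective
  haveI : IsFinite T := inferInstanceAs (IsFinite (t ≫ t₀))
  letI : Algebra R A' := ((algebraMap A A').comp (Ideal.Quotient.mk (nilradical R))).toAlgebra
  have hT : T = Spec.map (CommRingCat.ofHom (algebraMap R A')) := by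
    show t ≫ t₀ = _
    rw [← Spec.map_comp, ← CommRingCat.ofHom_comp]
  have hTu : FlatMor.IsUnivHomeo T := by
    rw [hT]
    refine NearGen2.isUnivHomeo_of_pow (R := R) (S := A') q (fun r hr => ?_) fun s => ?_
    · exact Ideal.Quotient.eq_zero_iff_mem.mp (hAA' ((show algebraMap A A' (Ideal.Quotient.mk _ r) = 0 from hr).trans (map_zero _).symm))
    · obtain ⟨n, a, ha⟩ := hpow s
      obtain ⟨r, rfl⟩ := Ideal.Quotient.mk_surjective a
      exact ⟨n, r, ha⟩
  let j : Spec (CommRingCat.of A') ⟶ Y := T ≫ hU₀.fromSpec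
  have hj : j = t ≫ j₀ := Category.assoc _ _ _
  let g' := pullback.snd fA t
  haveI : LocallyOfFiniteType g' := inferInstanceAs (LocallyOfFiniteType (pullback.snd fA t))
  haveI : QuasiCompact g' := inferInstanceAs (QuasiCompact (pullback.snd fA t))
  let r₁ := (pullback fA t).nilradical.subschemeι
  let h1 := r₁ ≫ g'
  haveI : IsReduced (pullback fA t).nilradical.subscheme := FlatMor67.isReduced_subscheme_nilradical _
  haveI : Surjective r₁ := ⟨Set.range_eq_univ.mp (by
    rw [Scheme.IdealSheafData.range_subschemeι, Scheme.support_nilradical]; rfl)⟩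
  -- the generic fibre of the reduced model
  have hAinj : Function.Injective (algebraMap A' L) := IsFractionRing.injective A' L
  let y₀ : Spec (CommRingCat.of L) ⟶ Spec (CommRingCat.of A') :=
    Spec.map (CommRingCat.ofHom (algebraMap A' L))
  haveI : IsPreimmersion y₀ := IsPreimmersion.of_isLocalization (nonZeroDivisors A')
  haveI : Flat y₀ := by
    rw [HasRingHomProperty.Spec_iff (P := @Flat)]
    exact RingHom.flat_algebraMap_iff.mpr (IsLocalization.flat _ (nonZeroDivisors A'))
  let b : Spec (CommRingCat.of L) ⟶ Spec (CommRingCat.of K) := Spec.map (CommRingCat.ofHom (algebraMap K L))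
  have hbt : b ≫ yK = y₀ ≫ t := by
    rw [← Spec.map_comp, ← Spec.map_comp, ← CommRingCat.ofHom_comp, ← CommRingCat.ofHom_comp]
    congr 2
  have hQ0 : IsPullback (FBase.bcπ gK L ≫ pullback.fst fA yK) (FBase.bcStr gK L) fA (b ≫ yK) :=
    (IsPullback.of_hasPullback gK b).paste_horiz (IsPullback.of_hasPullback fA yK)
  let c : FBase.bc gK L ⟶ pullback fA t := pullback.lift (FBase.bcπ gK L ≫ pullback.fst fA yK)
    (FBase.bcStr gK L ≫ y₀) (by rw [hQ0.w, Category.assoc, hbt])
  have hc : IsPullback c (FBase.bcStr gK L) g' y₀ := by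
    refine IsPullback.of_right ?_ (pullback.lift_snd _ _ _) (IsPullback.of_hasPullback fA t)
    rw [pullback.lift_fst, ← hbt]
    exact hQ0
  haveI : IsPreimmersion c := MorphismProperty.of_isPullback hc.flip ‹IsPreimmersion y₀›
  haveI : Flat c := MorphismProperty.of_isPullback hc.flip ‹Flat y₀›
  let P₁ := pullback r₁ c
  let m : P₁ ⟶ FBase.bc gK L := pullback.snd r₁ c
  haveI : ∀ z : P₁, _root_.IsReduced (P₁.presheaf.stalk z) := fun z => by
    haveI := Tors37.isIso_stalkMap_of_flat_preimmersion (pullback.fst r₁ c) z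
    exact isReduced_of_injective (inv ((pullback.fst r₁ c).stalkMap z)).hom
      (ConcreteCategory.bijective_of_isIso _).1
  haveI : IsReduced P₁ := isReduced_of_isReduced_stalk P₁
  haveI : IsReduced (FBase.bc gK L).nilradical.subscheme := FlatMor67.isReduced_subscheme_nilradical _
  obtain ⟨e, he⟩ := NearGen2.exists_iso_of_range_eq m (FBase.bc gK L).nilradical.subschemeι (by
    rw [Scheme.Pullback.range_snd, Set.range_eq_univ.mpr r₁.surjective, Set.preimage_univ,
      Scheme.IdealSheafData.range_subschemeι, Scheme.support_nilradical]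
    rfl)
  haveI hGRm : GeometricallyReduced (m ≫ FBase.bcStr gK L) := by
    rw [← he, Category.assoc]
    exact (MorphismProperty.cancel_left_of_respectsIso @GeometricallyReduced e.hom _).mpr hGR
  let η' := genericPoint ↥(Spec (CommRingCat.of A'))
  have hgen : GeometricallyReduced (h1.fiberToSpecResidueField η') := by
    have hp : IsPullback (pullback.fst r₁ c) (m ≫ FBase.bcStr gK L) h1 y₀ :=
      (IsPullback.of_hasPullback r₁ c).paste_vert hc
    have h2 : GeometricallyReduced ((m ≫ FBase.bcStr gK L).fiberToSpecResidueField (Classical.arbitrary _)) :=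
      inferInstance
    have h3 := (NearGen2.fiber_prop_iff_of_preimmersion (P := @GeometricallyReduced) hp _).mp h2
    rwa [show y₀ (Classical.arbitrary _) = η' from
      NearGen2.SpecMap_apply_eq_genericPoint (A := CommRingCat.of A') _ hAinj _] at h3
  -- flatness and quasi-separatedness near the generic point
  obtain ⟨U1, hU1, hflat, hlfp⟩ := FlatCrit65.exists_dense_flat_lfp h1
  obtain ⟨U2, hU2, hqs⟩ := NearGen2.near_quasiSeparated h1
  have hη1 : η' ∈ U1 ⊓ U2 := ⟨((genericPoint_spec _).mem_open_set_iff U1.2).mpr (by simpa using hU1.nonempty),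
    ((genericPoint_spec _).mem_open_set_iff U2.2).mpr (by simpa using hU2)⟩
  have hTh : IsHomeomorph T := AWN93.uh_isHomeomorph hTu
  obtain ⟨_, ⟨a, rfl⟩, hηa, hasub⟩ := PrimeSpectrum.isTopologicalBasis_basic_opens.exists_subset_of_mem_open
    (show T η' ∈ T '' ((U1 ⊓ U2 : (Spec (CommRingCat.of A')).Opens) : Set _) from ⟨η', hη1, rfl⟩)
    (hTh.isOpenMap _ (U1 ⊓ U2).2)
  let W : (Spec R).Opens := PrimeSpectrum.basicOpen a
  have hW : IsAffineOpen W := IsAffineOpen.Spec_basicOpen a
  let O := T ⁻¹ᵁ W
  have hOsub : O ≤ U1 ⊓ U2 := fun x hx => by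
    obtain ⟨y, hy, hyx⟩ := hasub hx
    rw [← hTh.injective hyx]
    exact hy
  let jW : (W : Scheme.{u}) ⟶ Y := W.ι ≫ hU₀.fromSpec
  let g : (O : Scheme.{u}) ⟶ (jW.opensRange : Scheme.{u}) := (T ∣_ W) ≫ jW.isoOpensRange.hom
  have hg : g ≫ jW.opensRange.ι = O.ι ≫ t ≫ j₀ := by
    rw [← hj]
    simp [g, jW, O, j, morphismRestrict_ι_assoc]
  haveI : IsFinite (T ∣_ W) := MorphismProperty.of_isPullback (isPullback_morphismRestrict T W).flip ‹_›
  haveI : Nonempty O := ⟨⟨η', hηa⟩⟩
  haveI hint : IsIntegral (O : Scheme.{u}) := inferInstance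
  have hgu : FlatMor.IsUnivHomeo g :=
    (MorphismProperty.cancel_right_of_respectsIso FlatMor.IsUnivHomeo _ jW.isoOpensRange.hom).mpr
      (MorphismProperty.of_isPullback (isPullback_morphismRestrict T W).flip hTu)
  -- the model over `O`
  let sd : pullback f (g ≫ jW.opensRange.ι) ⟶ (O : Scheme.{u}) := pullback.snd f (g ≫ jW.opensRange.ι)
  have hbig : IsPullback (pullback.fst fA t ≫ pullback.fst f j₀) g' f (t ≫ j₀) :=
    (IsPullback.of_hasPullback _ t).paste_horiz (IsPullback.of_hasPullback f j₀)
  let p : pullback f (g ≫ jW.opensRange.ι) ⟶ pullback fA t :=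
    hbig.lift (pullback.fst f (g ≫ jW.opensRange.ι)) (sd ≫ O.ι) (by
      exact pullback.condition.trans ((congrArg (fun k => sd ≫ k) hg).trans (Category.assoc _ _ _).symm))
  have hp : IsPullback p sd g' O.ι := by
    refine IsPullback.of_right ?_ (hbig.lift_snd _ _ _) hbig
    rw [hbig.lift_fst, ← hg]
    exact IsPullback.of_hasPullback f (g ≫ jW.opensRange.ι)
  haveI : IsOpenImmersion p := MorphismProperty.of_isPullback hp.flip inferInstance
  haveI : IsReduced (pullback r₁ p) := isReduced_of_isOpenImmersion (pullback.fst r₁ p)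
  have hP : IsPullback (pullback.fst r₁ p) (pullback.snd r₁ p ≫ sd) h1 O.ι :=
    (IsPullback.of_hasPullback r₁ p).paste_vert hp
  have key : ∀ (Q : MorphismProperty Scheme.{u}) [Q.IsStableUnderBaseChange] (U : (Spec (CommRingCat.of A')).Opens),
      O ≤ U → Q (h1 ∣_ U) → Q (pullback.snd r₁ p ≫ sd) := fun Q _ U hle hQ => by
    have sqF := hP.flip
    rw [← Scheme.homOfLE_ι _ hle] at sqF
    exact MorphismProperty.of_isPullback (IsPullback.of_bot' sqF (isPullback_morphismRestrict h1 U)).flip hQ
  refine ⟨jW.opensRange, O, g, pullback r₁ p, pullback.snd r₁ p, hint, ⟨_, ⟨⟨T η', hηa⟩, rfl⟩⟩, hW.preimage T,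
    inferInstanceAs (IsFinite ((T ∣_ W) ≫ jW.isoOpensRange.hom)), hgu, inferInstance, inferInstance, inferInstance,
    key @Flat U1 (hOsub.trans inf_le_left) hflat, key @LocallyOfFinitePresentation U1 (hOsub.trans inf_le_left) hlfp,
    MorphismProperty.of_isPullback hP (inferInstanceAs (QuasiCompact (r₁ ≫ g'))),
    key @QuasiSeparated U2 (hOsub.trans inf_le_right) hqs, ?_⟩
  refine (NearGen2.fiber_prop_iff_of_preimmersion (P := @GeometricallyReduced) hP _).mpr ?_
  rwa [show O.ι (genericPoint ↥(O : Scheme.{u})) = η' from genericPoint_eq_of_isOpenImmersion O.ι]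

end Groth.Agent.S1358
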