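import Groth.Statements.S13585
import Groth.Agent.CAlg8.Canon.Smooth
-- import your own Groth.Agent.* helpers here

set_option autoImplicit false
universe u
open CategoryTheory CategoryTheory.Limits AlgebraicGeometry
open Canon

namespace Groth.Agent.S13585

/-- Let `f : X ⟶ Y` and `g : Y ⟶ Z` be morphisms of schemes with `g` smooth of relative dimension `n`,
and let `Γ : X ⟶ X ×_Z Y` be the graph of `f`. Then `Γ` is a regular immersion of codimension `n`,
and the top exterior power of its conormal sheaf is `f^* ω_{Y/Z}`, where `ω_{Y/Z} = Λ^n Ω_{Y/Z}`;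
that is, the canonical sheaf of the immersion `Γ` is the dual of `f^* ω_{Y/Z}`. (This row takes `X`
locally Noetherian and `g` separated, so that the graph is a closed immersion and the criterion for
sections of smooth morphisms over a locally Noetherian base, through which the published proof goes,
applies; the published statement has arbitrary preschemes.) -/
theorem result {X Y Z : Scheme.{u}} [IsLocallyNoetherian X]
    (f : X ⟶ Y) (g : Y ⟶ Z) (n : ℕ) [SmoothOfRelativeDimension n g] [IsSeparated g]
    (ωY : Y.Modules) (hω : Canon.IsTopDiff g n ωY) :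
    RegImm.IsRegularImmersionOfCodim .regular n (pullback.lift (𝟙 X) f (Category.id_comp (f ≫ g))) ∧
      ExtPow.IsExtPow n (Omega.conormal (pullback.lift (𝟙 X) f (Category.id_comp (f ≫ g))))
        ((Scheme.Modules.pullback f).obj ωY) := by
  have sq := IsPullback.of_hasPullback (f ≫ g) g
  set Γ' : X ⟶ pullback (f ≫ g) g := pullback.lift (𝟙 X) f (Category.id_comp (f ≫ g))
  have e₁ : Γ' ≫ pullback.fst (f ≫ g) g = 𝟙 X := pullback.lift_fst _ _ _
  have e₂ : Γ' ≫ pullback.snd (f ≫ g) g = f := pullback.lift_snd _ _ _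
  have hL := CAlg8.Canon.isExtPow_conormal_graph f g sq Γ' e₁ e₂ inferInstance hω
  haveI : IsClosedImmersion Γ' := by
    haveI : IsClosedImmersion (Γ' ≫ pullback.fst (f ≫ g) g) := e₁ ▸ inferInstance
    exact IsClosedImmersion.of_comp Γ' (pullback.fst (f ≫ g) g)
  haveI hp : SmoothOfRelativeDimension n (pullback.fst (f ≫ g) g) :=
    (smoothOfRelativeDimension_isStableUnderBaseChange n).of_isPullback sq.flip inferInstance
  refine ⟨?_, hL⟩
  haveI := Omega57.isQuasicoherent_omega (pullback.fst (f ≫ g) g)
  haveI := Omega57.isQuasicoherent_omega (𝟙 X)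
  obtain ⟨ω₁, h₁⟩ := FBase64.ExtPowExists.exists_isExtPow (E := Omega.sheaf (pullback.fst (f ≫ g) g)) (p := n)
  obtain ⟨ω₀, h₀⟩ := FBase64.ExtPowExists.exists_isExtPow (E := Omega.sheaf (𝟙 X)) (p := 0)
  exact (Om3.TopForms.result (pullback.fst (f ≫ g) g) (𝟙 X) n 0 (Nat.zero_le n) Γ' e₁ ω₁ h₁ ω₀ h₀ _ hL).1

end Groth.Agent.S13585
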