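import Groth.Statements.S13589
import Groth.Agent.Inv43.Autoequiv

set_option autoImplicit false
universe u
open CategoryTheory CategoryTheory.Limits MonoidalCategory
attribute [local instance] HasDerivedCategory.standard
open DTen

namespace Groth.Agent.S13589

/-- Let `A` be a Noetherian commutative ring and `F` an `A`-linear triangulated equivalence from
`D^b_{Coh}(A)` (the full subcategory of `D(A)` of objects with bounded cohomology consisting of
finite `A`-modules, a triangulated subcategory) to itself. Then `F(A)` is an invertible object of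
`D(A)`: there is an object `L` with `F(A) ⊗^L L ≅ A` and `L ⊗^L F(A) ≅ A`. The membership of `A[0]`
in `D^b_{Coh}(A)` and the fact that this subcategory is triangulated are taken as (true) hypotheses.
(The published statement asks only for an `A`-linear equivalence of categories; this row takes the
equivalence compatible with shifts and distinguished triangles, which is what the published proof
uses and how the result is applied.) -/
theorem result (A : Type u) [CommRing A]
    [IsNoetherianRing A] [DTen.HasLTen A] [DTen.KFlatComputes A]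
    (P : ObjectProperty (Dual.D A))
    (hP : ∀ K : Dual.D A, P K ↔
      ((∀ i : ℤ, Module.Finite A (Dual.HD A K i)) ∧ ∃ a b : ℤ, ∀ i : ℤ, (i < a ∨ b < i) → Subsingleton (Dual.HD A K i)))
    [P.IsTriangulated]
    (F : P.FullSubcategory ⥤ P.FullSubcategory) [F.CommShift ℤ] [F.IsTriangulated] [F.IsEquivalence]
    [F.Additive] [F.Linear A]
    (hA : P (DTen.unit A)) :
    DTen.IsInvertible A (F.obj ⟨DTen.unit A, hA⟩).obj := by
  haveI : DTen.HasLTen₃ A := Groth.Agent.DTen43.hasLTen₃ A
  let u : P.FullSubcategory := ⟨DTen.unit A, hA⟩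
  let L := (F.obj u).obj
  have hLP : P L := (F.obj u).property
  have hk : ∀ (m : Ideal A) [m.IsMaximal], P (Dual.inD A (A ⧸ m)) := fun m _ => by
    have hz : ∀ i : ℤ, i ≠ 0 → IsZero ((DerivedCategory.homologyFunctor (ModuleCat.{u} A) i).obj
        (Dual.inD A (A ⧸ m))) := fun i hi => by
      rcases lt_or_gt_of_ne hi with h | h
      · exact DerivedCategory.isZero_of_isGE _ 0 i h
      · exact DerivedCategory.isZero_of_isLE _ 0 i h
    refine (hP _).2 ⟨fun i => ?_, 0, 0, fun i hi =>
      ModuleCat.subsingleton_of_isZero (hz i (by omega))⟩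
    by_cases hi : i = 0
    · subst hi
      exact Module.Finite.equiv (Groth.Agent.DR39.inDH0 (A := A) (A ⧸ m)).symm.toLinearEquiv
    · haveI := ModuleCat.subsingleton_of_isZero (hz i hi)
      infer_instance
  obtain ⟨hfin, a, b, hab⟩ := (hP L).1 hLP
  have hz : ∀ i, (i < a ∨ b < i) → IsZero ((DerivedCategory.homologyFunctor (ModuleCat.{u} A) i).obj L) :=
    fun i hi => @ModuleCat.isZero_of_subsingleton _ _ _ (hab i hi)
  have hone : Groth.Agent.Inv43.OneDeg L := fun m _ => by
    obtain ⟨a', b', hab'⟩ := ((hP _).1 (F.obj ⟨_, hk m⟩).property).2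
    obtain ⟨t, V, ⟨e⟩, s, hs⟩ := Groth.Agent.Inv43.point_image F m (hk m) a' b' fun i hi =>
      @ModuleCat.isZero_of_subsingleton _ _ _ (hab' i hi)
    obtain ⟨r, hr⟩ : ∃ r : ℤ, r = -t := ⟨_, rfl⟩
    refine ⟨r, fun i hi f => ?_⟩
    letI := Ideal.Quotient.field m
    let I := DerivedCategory.singleFunctor (ModuleCat.{u} A) 0
    -- the residue field is a retract of `V`
    haveI : Mono s := hs
    obtain ⟨N, hN⟩ : ∃ N : ℤ, N = i + t := ⟨_, rfl⟩
    let σ : (I.obj V)⟦i⟧ ≅ (F.obj ⟨_, hk m⟩).obj⟦N⟧ :=
      ((DerivedCategory.singleFunctors (ModuleCat.{u} A)).shiftIso i (-i) 0 (by omega)).app V ≪≫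
        (((DerivedCategory.singleFunctors (ModuleCat.{u} A)).shiftIso N (-i) t (by omega)).app V).symm ≪≫
        (shiftFunctor (Dual.D A) N).mapIso e.symm
    have h0 : (f ≫ (I.map s)⟦i⟧') ≫ σ.hom = 0 :=
      Groth.Agent.Inv43.ext_transfer F u ⟨_, hk m⟩ N
        (fun g => Groth.Agent.Inv43.hom_ring_eq_zero (A ⧸ m) N (by omega) g) _
    have h1 : f ≫ (I.map s)⟦i⟧' = 0 := (cancel_mono σ.hom).1 (h0.trans zero_comp.symm)
    haveI : IsSplitMono s := Groth.Agent.Inv43.isSplitMono_residue m s
      (Groth.Agent.Inv43.smul_eq_zero_of_iso F m (hk m) e)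
    exact (cancel_mono ((I.map s)⟦i⟧')).1 (h1.trans zero_comp.symm)
  have hproj : ∀ i, Module.Projective A ((DerivedCategory.homologyFunctor (ModuleCat.{u} A) i).obj L) := by
    obtain ⟨w, hw⟩ : ∃ w : ℕ, b < a + w := ⟨(b - a).toNat + 1, by omega⟩
    exact Groth.Agent.Inv43.projective_homology a w L (fun i hi => hz i (Or.inr (by omega)))
      (fun i hi => hz i (Or.inl hi)) hfin hone
  refine Groth.Agent.Inv43.isInvertible_of_projective_homology L a b hz hfin hproj ?_ fun n hn =>
    Groth.Agent.Inv43.ext_transfer F u u n fun g => Groth.Agent.Inv43.hom_ring_eq_zero A n hn g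
  exact Groth.Agent.Inv43.scalar_transfer F hA

end Groth.Agent.S13589
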