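import Groth.Statements.S13599
import Groth.Agent.VarGal.Action
import Groth.Agent.Cyc90.FlatFinFibre
import Groth.Agent.Cyc90.FlatPull
import Groth.Agent.Cyc90.LimitPts
import Mathlib.AlgebraicGeometry.Morphisms.UniversallyInjective
import Mathlib.AlgebraicGeometry.Morphisms.Etale
import Mathlib.FieldTheory.PurelyInseparable.Basic
import Mathlib.RingTheory.Unramified.Field
-- import your own Groth.Agent.* helpers here

set_option autoImplicit false
set_option backward.isDefEq.respectTransparency.types false
set_option linter.style.haveILetI false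
set_option linter.unusedVariables false
universe u
open CategoryTheory AlgebraicGeometry
open CategoryTheory.Limits
open Cyc

namespace Groth.Agent.S13599

open Groth.Agent.Cyc90 IsLocalRing

/-- An unramified morphism has reduced fibres, pointwise. -/
theorem length_fibre_unramified {Y X : Scheme.{u}} (f : Y ⟶ X) [FormallyUnramified f] [LocallyOfFiniteType f] (y : Y) :
    (maximalIdeal (X.presheaf.stalk (f y))).map (f.stalkMap y).hom = maximalIdeal (Y.presheaf.stalk y) := by
  algebraize [(f.stalkMap y).hom]
  haveI : IsLocalHom (algebraMap (X.presheaf.stalk (f y)) (Y.presheaf.stalk y)) :=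
    inferInstanceAs <| IsLocalHom (f.stalkMap y).hom
  haveI : Algebra.EssFiniteType (X.presheaf.stalk (f y)) (Y.presheaf.stalk y) := by
    rw [← RingHom.essFiniteType_algebraMap, RingHom.algebraMap_toAlgebra]
    exact LocallyOfFiniteType.stalkMap f y
  haveI : Algebra.FormallyUnramified (X.presheaf.stalk (f y)) (Y.presheaf.stalk y) := by
    rw [← RingHom.formallyUnramified_algebraMap, RingHom.algebraMap_toAlgebra]
    exact FormallyUnramified.stalkMap f y
  exact Algebra.FormallyUnramified.map_maximalIdeal

/-- The multiplicities of the fibres of a base change to a finite extension divide the inseparable degree. -/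
theorem length_dvd {k : Type u} [Field k] {k' : Type u} [Field k'] [Algebra k k'] [FiniteDimensional k k']
    {X : Scheme.{u}} (f : X ⟶ Spec (CommRingCat.of k)) [LocallyOfFiniteType f]
    (z : ↥(pullback f (Spec.map (CommRingCat.ofHom (algebraMap k k'))))) :
    (Module.length ((pullback f (Spec.map (CommRingCat.ofHom (algebraMap k k')))).presheaf.stalk z) ((pullback f (Spec.map (CommRingCat.ofHom (algebraMap k k')))).presheaf.stalk z ⧸
      (maximalIdeal (X.presheaf.stalk (pullback.fst f (Spec.map (CommRingCat.ofHom (algebraMap k k'))) z))).map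
        ((pullback.fst f (Spec.map (CommRingCat.ofHom (algebraMap k k')))).stalkMap z).hom)).toNat ∣
      Field.finInsepDegree k k' := by
  let S := separableClosure k k'
  let a₁ := Spec.map (CommRingCat.ofHom (algebraMap S k'))
  let a₂ := Spec.map (CommRingCat.ofHom (algebraMap k S))
  let a := Spec.map (CommRingCat.ofHom (algebraMap k k'))
  have ha : a = a₁ ≫ a₂ := by
    rw [← Spec.map_comp, ← CommRingCat.ofHom_comp, ← IsScalarTower.algebraMap_eq]
  let p := pullback.fst f a
  let p₂ := pullback.fst f a₂
  let p₁ : pullback f a ⟶ pullback f a₂ := pullback.lift p (pullback.snd f a ≫ a₁)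
    (by rw [Category.assoc, ← ha]; exact pullback.condition)
  have hp : p₁ ≫ p₂ = p := pullback.lift_fst _ _ _
  have hsq : IsPullback p₁ (pullback.snd f a) (pullback.snd f a₂) a₁ := by
    refine IsPullback.of_right ?_ (pullback.lift_snd _ _ _) (IsPullback.of_hasPullback f a₂)
    rw [hp, ← ha]
    exact IsPullback.of_hasPullback f a
  haveI : IsFinite a₁ := by
    rw [IsFinite.SpecMap_iff]
    exact RingHom.finite_algebraMap.2 (inferInstance : Module.Finite S k')
  haveI : Flat a₁ := by
    rw [HasRingHomProperty.Spec_iff (P := @Flat)]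
    exact RingHom.flat_algebraMap_iff.2 (inferInstance : Module.Flat S k')
  haveI : UniversallyInjective a₁ := by
    refine ((tfae_universallyInjective (f := a₁)).out 0 1).2 fun K i g₁ g₂ h => ?_
    letI : Field K := i
    obtain ⟨x, rfl⟩ := Spec.map_surjective g₁
    obtain ⟨y, rfl⟩ := Spec.map_surjective g₂
    have h' := congrArg CommRingCat.Hom.hom (Spec.map_injective (show Spec.map (CommRingCat.ofHom (algebraMap S k') ≫ x) =
      Spec.map (CommRingCat.ofHom (algebraMap S k') ≫ y) by rw [Spec.map_comp, Spec.map_comp]; exact h))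
    exact congrArg Spec.map (CommRingCat.hom_ext (IsPurelyInseparable.injective_comp_algebraMap S k' K h'))
  haveI : Algebra.FormallyUnramified k S := Algebra.FormallyUnramified.of_isSeparable k S
  haveI : FormallyUnramified a₂ := by
    rw [HasRingHomProperty.Spec_iff (P := @FormallyUnramified)]
    exact RingHom.formallyUnramified_algebraMap.2 inferInstance
  haveI : LocallyOfFiniteType a₂ := by
    rw [HasRingHomProperty.Spec_iff (P := @LocallyOfFiniteType)]
    exact RingHom.finiteType_algebraMap.2 (inferInstance : Algebra.FiniteType k S)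
  haveI : IsFinite p₁ := MorphismProperty.of_isPullback (P := @IsFinite) hsq.flip inferInstance
  haveI : Flat p₁ := MorphismProperty.of_isPullback (P := @Flat) hsq.flip inferInstance
  haveI : UniversallyInjective p₁ := MorphismProperty.of_isPullback (P := @UniversallyInjective) hsq.flip inferInstance
  haveI : FormallyUnramified p₂ := MorphismProperty.of_isPullback (P := @FormallyUnramified) (IsPullback.of_hasPullback f a₂).flip inferInstance
  haveI : LocallyOfFiniteType p₂ := MorphismProperty.of_isPullback (P := @LocallyOfFiniteType) (IsPullback.of_hasPullback f a₂).flip inferInstance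
  haveI : IsLocallyNoetherian X := LocallyOfFiniteType.isLocallyNoetherian f
  haveI : IsLocallyNoetherian (pullback f a₂) := LocallyOfFiniteType.isLocallyNoetherian p₂
  have hd : p₁.finrank (p₁ z) = Field.finInsepDegree k k' := by
    rw [Scheme.Hom.finrank_of_isPullback (pullback.snd f a) p₁ a₁ (pullback.snd f a₂) hsq.flip,
      Scheme.Hom.finrank_SpecMap_algebraMap, Module.rankAtStalk_eq_finrank_of_free]
    rfl
  obtain ⟨-, -, hsum⟩ := finite_flat_fibre p₁ (p₁ z)
  rw [show p₁ ⁻¹' {p₁ z} = {z} from Set.ext fun w => ⟨fun hw => p₁.injective hw, fun hw => by rw [hw]; rfl⟩,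
    finsum_mem_singleton, hd] at hsum
  have hlen := length_fibre_comp p₁ p₂ z
  have key : ∀ g : pullback f a ⟶ X, g = p₁ ≫ p₂ →
      (Module.length ((pullback f a).presheaf.stalk z) ((pullback f a).presheaf.stalk z ⧸
        (maximalIdeal (X.presheaf.stalk (g z))).map (g.stalkMap z).hom)).toNat ∣ Field.finInsepDegree k k' := by
    rintro g rfl
    rw [hlen, ENat.toNat_mul, length_fibre_eq_one p₂ (length_fibre_unramified p₂ _), one_mul]
    exact Dvd.intro_left _ hsum
  exact key p hp.symm

/-- Let k be a field, X a separated k-scheme of finite type, and k' a finite normal extension field of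
k, with G the group of k-automorphisms of k'; put X' = X ×_k Spec k' with first projection p. The
group G acts on X' over X (σ acts through Spec σ on the second factor). If Z' is a cycle on X' (an
integer-valued function on the points of X' with locally finite support) invariant under every σ ∈
G, then there is exactly one cycle Z on X with [k' : k]_insep · Z' = p^*Z, where [k' : k]_insep is
the inseparable degree and p^*Z is the flat pullback of cycles along p: its coefficient at x' is Z(p
x') times the length of the Artinian local ring O_{X',x'}/𝔪_{p x'}O_{X',x'} (p has discrete fibres,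
so there is no dimension condition; the two auxiliary dimension functions are taken to be zero). -/
theorem result
    {k : Type u} [Field k] {k' : Type u} [Field k'] [Algebra k k'] [FiniteDimensional k k'] [Normal k k']
    {X : Scheme.{u}} (f : X ⟶ Spec (CommRingCat.of k)) [LocallyOfFiniteType f] [QuasiCompact f]
    [IsSeparated f]
    (Z' : AlgebraicCycle (pullback f (Spec.map (CommRingCat.ofHom (algebraMap k k')))) ℤ)
    (hZ' : ∀ (σ : k' ≃ₐ[k] k')
      (t : pullback f (Spec.map (CommRingCat.ofHom (algebraMap k k'))) ⟶
        pullback f (Spec.map (CommRingCat.ofHom (algebraMap k k')))),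
      t ≫ pullback.fst f _ = pullback.fst f _ →
      t ≫ pullback.snd f _ = pullback.snd f _ ≫ Spec.map (CommRingCat.ofHom σ.toAlgHom.toRingHom) →
      ∀ x', Z' (t.base x') = Z' x') :
    ∃! Z : AlgebraicCycle X ℤ, ∀ x' : ↥(pullback f (Spec.map (CommRingCat.ofHom (algebraMap k k')))),
      (Field.finInsepDegree k k' : ℤ) * Z' x' =
        Cyc.pullFun (pullback.fst f (Spec.map (CommRingCat.ofHom (algebraMap k k'))))
          (fun _ => 0) (fun _ => 0) 0 ⇑Z x' := by
  classical
  letI : X.Over (Spec (CommRingCat.of k)) := ⟨f⟩
  let a := Spec.map (CommRingCat.ofHom (algebraMap k k'))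
  let p := pullback.fst f a
  haveI : IsFinite a := by
    rw [IsFinite.SpecMap_iff]
    exact RingHom.finite_algebraMap.2 inferInstance
  haveI : Flat a := by
    rw [HasRingHomProperty.Spec_iff (P := @Flat)]
    exact RingHom.flat_algebraMap_iff.2 inferInstance
  haveI : Surjective a := ⟨fun x => ⟨Inhabited.default (α := PrimeSpectrum k'), Subsingleton.elim (α := PrimeSpectrum k) _ _⟩⟩
  haveI : IsFinite p := MorphismProperty.pullback_fst f a inferInstance
  haveI : Flat p := MorphismProperty.pullback_fst f a inferInstance
  haveI : Surjective p := MorphismProperty.pullback_fst f a inferInstance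
  haveI : IsLocallyNoetherian X := LocallyOfFiniteType.isLocallyNoetherian f
  haveI : CompactSpace X := QuasiCompact.compactSpace_of_compactSpace f
  haveI : CompactSpace ↥(pullback f a) := QuasiCompact.compactSpace_of_compactSpace p
  let d : ℤ := (Field.finInsepDegree k k' : ℤ)
  let L : ↥(pullback f a) → ℤ := fun z => ((Module.length ((pullback f a).presheaf.stalk z) ((pullback f a).presheaf.stalk z ⧸
    (maximalIdeal (X.presheaf.stalk (p z))).map (p.stalkMap z).hom)).toNat : ℤ)
  have hpull : ∀ (C : AlgebraicCycle X ℤ) z, Cyc.pullFun p (fun _ => 0) (fun _ => 0) 0 ⇑C z = C (p z) * L z :=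
    fun C z => by rw [Cyc.pullFun, if_pos (add_zero 0).symm]
  have hdvd : ∀ z, L z ∣ d := fun z => Int.natCast_dvd_natCast.2 (length_dvd f z)
  have hL0 : ∀ z, L z ≠ 0 := fun z h0 => by
    obtain ⟨q, hq⟩ := hdvd z
    rw [h0, zero_mul] at hq
    exact (NeZero.ne (Field.finInsepDegree k k')) (Int.natCast_eq_zero.1 hq)
  have hLinv : ∀ (σ : k' ≃ₐ[k] k') z, L ((Curv2.galAct k X k' σ).base z) = L z := by
    intro σ z
    let t : pullback f a ⟶ pullback f a := Curv2.galAct k X k' σ
    haveI : IsIso t := VarGal.isIso_galAct σ
    have key : ∀ g : pullback f a ⟶ X, g = t ≫ p →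
        ((Module.length ((pullback f a).presheaf.stalk z) ((pullback f a).presheaf.stalk z ⧸
          (maximalIdeal (X.presheaf.stalk (g z))).map (g.stalkMap z).hom)).toNat : ℤ) = L (t z) := by
      rintro g rfl
      rw [length_fibre_comp t p z, ENat.toNat_mul]
      rw [length_fibre_eq_one t (IsLocalRing.map_maximalIdeal_of_surjective _
        (ConcreteCategory.bijective_of_isIso (t.stalkMap z)).2), mul_one]
    exact (key p (VarGal.galAct_fst (k := k) (X := X) (K := k') σ).symm).symm
  choose s hs using fun x => p.surjective x
  let Zf : X → ℤ := fun x => d / L (s x) * Z' (s x)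
  have hfin : (Function.support Zf).Finite := by
    have h := LocallyFiniteSupport.finite_inter_support_of_isCompact (f := (Z' : ↥(pullback f a) → ℤ))
      (fun z => Z'.supportLocallyFiniteWithinDomain' z trivial) isCompact_univ
    rw [Set.univ_inter] at h
    exact (h.image p).subset fun x hx => ⟨s x, right_ne_zero_of_mul hx, hs x⟩
  let Z : AlgebraicCycle X ℤ :=
    { toFun := Zf
      supportWithinDomain' := Set.subset_univ _
      supportLocallyFiniteWithinDomain' := fun _ _ =>
        ⟨Set.univ, Filter.univ_mem, hfin.subset fun _ hy => hy.2⟩ }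
  refine ⟨Z, fun z => ?_, fun C hC => ?_⟩
  · obtain ⟨σ, hσ⟩ := VarGal.exists_galAct_apply_eq (k := k) (X := X) (K := k') (z := z) (z' := s (p z)) (hs (p z)).symm
    have hZ : Z' (s (p z)) = Z' z := by
      rw [← hσ]
      exact hZ' σ (Curv2.galAct k X k' σ) (VarGal.galAct_fst σ) (VarGal.galAct_snd σ) z
    have hL : L (s (p z)) = L z := by rw [← hσ]; exact hLinv σ z
    rw [hpull]
    show d * Z' z = d / L (s (p z)) * Z' (s (p z)) * L z
    rw [hZ, hL]
    obtain ⟨q, hq⟩ := hdvd z
    rw [hq, Int.mul_ediv_cancel_left q (hL0 z)]
    ring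
  · ext x
    show C x = d / L (s x) * Z' (s x)
    have h := hC (s x)
    rw [hpull, hs] at h
    obtain ⟨q, hq⟩ := hdvd (s x)
    rw [hq, Int.mul_ediv_cancel_left q (hL0 _)]
    refine mul_right_cancel₀ (hL0 (s x)) ?_
    rw [← h]
    show d * Z' (s x) = _
    rw [hq]
    ring

end Groth.Agent.S13599
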