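import Groth.Statements.S13600
import Groth.Agent.An92.DivDesc.Descent
import Groth.Agent.Div89.UFD
-- import your own Groth.Agent.* helpers here

set_option autoImplicit false
set_option linter.style.haveILetI false
universe u
open CategoryTheory AlgebraicGeometry
open Cyc

namespace Groth.Agent.S13600

open Groth.Agent.Div89 Groth.Agent.An92.DivDesc IsLocalRing in
/-- An embedded point, read off from the stalk of the ideal. -/
theorem bad_iff_isAssociatedPrime {X : Scheme.{u}} [IsLocallyNoetherian X] (J : X.IdealSheafData)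
    (z : J.subscheme) :
    Bad (stalkIdeal J (J.subschemeι z)) ↔
      IsAssociatedPrime (maximalIdeal ↑(J.subscheme.presheaf.stalk z)) ↑(J.subscheme.presheaf.stalk z) := by
  haveI : IsLocallyNoetherian J.subscheme := LocallyOfFiniteType.isLocallyNoetherian J.subschemeι
  rw [isAssociatedPrime_iff]
  constructor
  · rintro ⟨c, hc, hmc⟩
    refine ⟨(maximalIdeal.isMaximal _).isPrime, (J.subschemeι.stalkMap z).hom c,
      le_antisymm (fun t ht => ?_) (le_maximalIdeal fun h => hc ?_)⟩
    · obtain ⟨t, rfl⟩ := J.subschemeι.stalkMap_surjective z t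
      rw [Submodule.mem_colon_singleton, Submodule.mem_bot, smul_eq_mul, ← map_mul]
      exact (stalkMap_subschemeι_eq_zero_iff J z _).2 (hmc t fun hu => ht (hu.map _))
    · rw [Ideal.eq_top_iff_one, Submodule.mem_colon_singleton, Submodule.mem_bot, one_smul] at h
      exact (stalkMap_subschemeι_eq_zero_iff J z c).1 h
  · rintro ⟨-, e, he⟩
    obtain ⟨c, rfl⟩ := J.subschemeι.stalkMap_surjective z e
    refine ⟨c, fun hc => ?_, fun t ht => ?_⟩
    · refine (maximalIdeal.isMaximal _).ne_top (he.trans ((Ideal.eq_top_iff_one _).2 ?_))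
      rw [Submodule.mem_colon_singleton, Submodule.mem_bot, one_smul]
      exact (stalkMap_subschemeι_eq_zero_iff J z c).2 hc
    · refine (stalkMap_subschemeι_eq_zero_iff J z _).1 ?_
      rw [map_mul]
      have h1 : (J.subschemeι.stalkMap z).hom t ∈ maximalIdeal _ :=
        fun hu => ht (IsUnit.of_map _ _ hu)
      rw [he, Submodule.mem_colon_singleton, Submodule.mem_bot] at h1
      exact h1

/-- The self-length of a quotient ring is the coheight of the kernel. -/
theorem length_of_surjective {A S : Type u} [CommRing A] [CommRing S] (φ : A →+* S)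
    (hs : Function.Surjective φ) {J : Ideal A} (hJ : ∀ c, c ∈ J ↔ φ c = 0) :
    Module.length S S = Order.coheight J := by
  letI := φ.toAlgebra
  have hker : J = LinearMap.ker (Algebra.linearMap A S) := SetLike.ext hJ
  rw [← Module.length_quotient, ((Submodule.quotEquivOfEq _ _ hker).trans
    ((Algebra.linearMap A S).quotKerEquivOfSurjective hs)).length_eq]
  exact (Module.length_eq_of_surjective (R := S) (M := S) (S := A) hs).symm

open Groth.Agent.Div89 IsLocalRing in
/-- The length of the local ring of a closed subscheme is the colength of the stalk ideal. -/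
theorem length_subscheme_stalk {X : Scheme.{u}} (J : X.IdealSheafData) (z : J.subscheme) :
    Module.length ↑(J.subscheme.presheaf.stalk z) ↑(J.subscheme.presheaf.stalk z) =
      Order.coheight (stalkIdeal J (J.subschemeι z)) :=
  length_of_surjective (J.subschemeι.stalkMap z).hom (J.subschemeι.stalkMap_surjective z)
    fun c => (stalkMap_subschemeι_eq_zero_iff J z c).symm

open IsLocalRing in
/-- In a discrete valuation ring an ideal is determined by a finite colength. -/
theorem eq_pow_of_coheight {R : Type u} [CommRing R] [IsDomain R] [IsDiscreteValuationRing R]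
    {J : Ideal R} {n : ℕ} (h : Order.coheight J = n) : J = maximalIdeal R ^ n := by
  let e := IsDiscreteValuationRing.idealOrderIsoENat R
  have hk : OrderDual.ofDual (e J) = (n : ℕ∞) := by
    rw [← h, ← Order.height_enat (OrderDual.ofDual (e J)), ← Order.coheight_toDual]
    exact Order.coheight_orderIso e J
  calc J = e.symm (e J) := (e.symm_apply_apply J).symm
    _ = e.symm (n : ℕ∞) := congrArg e.symm (show e J = OrderDual.toDual (n : ℕ∞) from hk)
    _ = maximalIdeal R ^ n := IsDiscreteValuationRing.idealOrderIsoENat_symm_apply_coe R n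

open Groth.Agent.Div89 Groth.Agent.An92.DivDesc IsLocalRing

/-- Let X be a separated Noetherian scheme and W = Σ a_i z_i an effective cycle on X (a function from
the points of X to the integers, non-negative and with finite support) whose points z_i (those with
a_i ≠ 0) have codimension 1 with X regular there, i.e. O_{X,z_i} is a discrete valuation ring. Then
X has a unique closed subscheme Z (a quasi-coherent ideal sheaf) such that (1) Z has no embedded
components (every point of Z at which the maximal ideal of the local ring of Z is an associated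
prime is a maximal point of Z) and (2) the cycle of Z is W: every maximal point z of Z has O_{Z,z}
of length W(z), and every point with W ≠ 0 is a maximal point of Z. -/
theorem result (X : Scheme.{u}) [IsNoetherian X]
    [X.IsSeparated] (W : X → ℤ) (hfin : {x | W x ≠ 0}.Finite) (hpos : ∀ x, 0 ≤ W x)
    (hreg : ∀ x, W x ≠ 0 → ∃ _ : IsDomain ↑(X.presheaf.stalk x), IsDiscreteValuationRing ↑(X.presheaf.stalk x)) :
    ∃! 𝓘 : X.IdealSheafData,
      (∀ z : ↥𝓘.subscheme,
        IsAssociatedPrime (IsLocalRing.maximalIdeal ↑(𝓘.subscheme.presheaf.stalk z))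
          ↑(𝓘.subscheme.presheaf.stalk z) → ∀ z' : ↥𝓘.subscheme, z' ⤳ z → z' = z) ∧
      (∀ z : ↥𝓘.subscheme, (∀ z' : ↥𝓘.subscheme, z' ⤳ z → z' = z) →
        Module.length ↑(𝓘.subscheme.presheaf.stalk z) ↑(𝓘.subscheme.presheaf.stalk z) =
          ((W (𝓘.subschemeι.base z)).toNat : ℕ∞)) ∧
      (∀ x : X, W x ≠ 0 → ∃ z : ↥𝓘.subscheme, 𝓘.subschemeι.base z = x ∧
        ∀ z' : ↥𝓘.subscheme, z' ⤳ z → z' = z) := by
  classical
  let n : X → ℕ := fun x => (W x).toNat
  have hn0 : ∀ x, n x ≠ 0 ↔ W x ≠ 0 := fun x => by have := hpos x; simp only [n]; omega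
  have hn : ∀ q, n q ≠ 0 → ringKrullDim (X.presheaf.stalk q) = 1 := fun q hq => by
    obtain ⟨h, h'⟩ := hreg q ((hn0 q).1 hq)
    exact IsPrincipalIdealRing.ringKrullDim_eq_one _ (IsDiscreteValuationRing.not_isField _)
  have hfinn : ∀ V : X.affineOpens, {q : X | q ∈ V.1 ∧ n q ≠ 0}.Finite := fun V =>
    hfin.subset fun q hq => (hn0 q).1 hq.2
  let I := ordSheaf n hfinn
  have hIq : ∀ q, n q ≠ 0 → stalkIdeal I q = maximalIdeal (X.presheaf.stalk q) ^ n q :=
    fun q hq => stalkIdeal_ordSheaf_of_dim_one hn q (hn q hq)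
  have hsupp : ∀ x ∈ I.support, ∃ q, q ⤳ x ∧ n q ≠ 0 := fun x hx => by
    by_contra! h
    refine (Ideal.IsMaximal.ne_top (maximalIdeal.isMaximal (X.presheaf.stalk x))) (top_le_iff.1 ?_)
    refine le_trans (fun c _ => ?_) ((mem_support_iff_stalkIdeal I x).1 hx)
    exact (mem_stalkIdeal_ordSheaf x c).2 fun q hq => by rw [h q hq]; simp
  have hmem : ∀ q, n q ≠ 0 → q ∈ I.support := fun q hq => (mem_support_iff_stalkIdeal I q).2 (by
    rw [hIq q hq]; exact Ideal.pow_le_self hq)
  have hdim1 : ∀ {q q' : X}, n q ≠ 0 → ringKrullDim (X.presheaf.stalk q') = 1 → q ⤳ q' → q = q' :=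
    fun {q q'} hq hq' h => by_contra fun hne => by
      have hlt := ringKrullDim_lt_of_specializes h hne
      rw [hn q hq, hq'] at hlt
      exact lt_irrefl _ hlt
  -- the properties
  have hP : (∀ z : ↥I.subscheme,
        IsAssociatedPrime (maximalIdeal ↑(I.subscheme.presheaf.stalk z))
          ↑(I.subscheme.presheaf.stalk z) → ∀ z' : ↥I.subscheme, z' ⤳ z → z' = z) ∧
      (∀ z : ↥I.subscheme, (∀ z' : ↥I.subscheme, z' ⤳ z → z' = z) →
        Module.length ↑(I.subscheme.presheaf.stalk z) ↑(I.subscheme.presheaf.stalk z) =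
          ((W (I.subschemeι.base z)).toNat : ℕ∞)) ∧
      (∀ x : X, W x ≠ 0 → ∃ z : ↥I.subscheme, I.subschemeι.base z = x ∧
        ∀ z' : ↥I.subscheme, z' ⤳ z → z' = z) := by
    have hmaxq : ∀ z : I.subscheme, n (I.subschemeι z) ≠ 0 → ∀ z' : ↥I.subscheme, z' ⤳ z → z' = z := by
      intro z hz
      refine (maximal_in_support_iff I z).2 fun y hy hyz => ?_
      obtain ⟨q, hqy, hq⟩ := hsupp y hy
      obtain rfl := hdim1 hq (hn _ hz) (hqy.trans hyz)
      exact (hyz.antisymm hqy).eq
    have hsub : ∀ z : I.subscheme, I.subschemeι z ∈ I.support := fun z => by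
      rw [← SetLike.mem_coe, ← I.range_subschemeι]
      exact Set.mem_range_self z
    refine ⟨fun z hz => hmaxq z ?_, fun z hz => ?_, fun x hx => ?_⟩
    · obtain ⟨q, hqx, hq⟩ := hsupp _ (hsub z)
      rw [← hdim1 hq (dim_eq_one_of_bad hn _ ((bad_iff_isAssociatedPrime I z).2 hz)) hqx]
      exact hq
    · obtain ⟨q, hqx, hq⟩ := hsupp _ (hsub z)
      obtain rfl := (maximal_in_support_iff I z).1 hz q (hmem q hq) hqx
      obtain ⟨h, h'⟩ := hreg _ ((hn0 _).1 hq)
      rw [length_subscheme_stalk, hIq _ hq, IsDiscreteValuationRing.coheight_pow_maximalIdeal]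
    · obtain ⟨z, rfl⟩ := exists_preimage_of_mem_support (hmem x ((hn0 x).2 hx))
      exact ⟨z, rfl, hmaxq z ((hn0 _).2 hx)⟩
  refine ⟨I, hP, fun J hJ => ?_⟩
  -- every solution has the same stalk at the marked points, and is only bad there
  have key : ∀ J : X.IdealSheafData, ((∀ z : ↥J.subscheme,
        IsAssociatedPrime (maximalIdeal ↑(J.subscheme.presheaf.stalk z))
          ↑(J.subscheme.presheaf.stalk z) → ∀ z' : ↥J.subscheme, z' ⤳ z → z' = z) ∧
      (∀ z : ↥J.subscheme, (∀ z' : ↥J.subscheme, z' ⤳ z → z' = z) →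
        Module.length ↑(J.subscheme.presheaf.stalk z) ↑(J.subscheme.presheaf.stalk z) =
          ((W (J.subschemeι.base z)).toNat : ℕ∞)) ∧
      (∀ x : X, W x ≠ 0 → ∃ z : ↥J.subscheme, J.subschemeι.base z = x ∧
        ∀ z' : ↥J.subscheme, z' ⤳ z → z' = z)) →
      (∀ x, W x ≠ 0 → stalkIdeal J x = maximalIdeal _ ^ n x) ∧
        ∀ x, Bad (stalkIdeal J x) → W x ≠ 0 := by
    rintro J ⟨h1, h2, h3⟩
    constructor
    · intro x hx
      obtain ⟨z, rfl, hz⟩ := h3 x hx
      obtain ⟨h, h'⟩ := hreg _ hx
      exact eq_pow_of_coheight ((length_subscheme_stalk J z).symm.trans (h2 z hz))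
    · intro x hb hx
      have hxs : x ∈ J.support :=
        (mem_support_iff_stalkIdeal J x).2 (le_maximalIdeal hb.ne_top)
      obtain ⟨z, rfl⟩ := exists_preimage_of_mem_support hxs
      have h0 : Module.length ↑(J.subscheme.presheaf.stalk z) ↑(J.subscheme.presheaf.stalk z) = 0 := by
        rw [h2 z (h1 z ((bad_iff_isAssociatedPrime J z).1 hb)), hx]
        simp
      rw [Module.length_eq_zero_iff] at h0
      exact not_subsingleton _ h0
  obtain ⟨hJ1, hJ2⟩ := key J hJ
  obtain ⟨hI1, hI2⟩ := key I hP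
  exact le_antisymm
    (le_of_bad J I fun x hx => (hJ1 x (hI2 x hx)).trans (hI1 x (hI2 x hx)).symm |>.le)
    (le_of_bad I J fun x hx => (hI1 x (hJ2 x hx)).trans (hJ1 x (hJ2 x hx)).symm |>.le)

end Groth.Agent.S13600
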