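import Groth.Statements.S13601
import Groth.Agent.SymP31.Chart
import Groth.Agent.PolLaw95.FlatTS

set_option autoImplicit false
universe u
open CategoryTheory AlgebraicGeometry
open SymProd

namespace Groth.Agent.S13601

/-- Let f : X ⟶ S be a flat morphism of schemes such that every finite set of points of X lying over a
single point of S is contained in an affine open of X, let n ≥ 0, and let (Y, q, g) be an n-th
symmetric power of X over S: q : X ×_S ⋯ ×_S X ⟶ Y (n factors) is a quotient by the symmetric group
on n letters permuting the factors (affine, invariant, identifying sections of O_Y with invariant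
sections) and g : Y ⟶ S satisfies q ≫ g = the structure map of the fibre power. Then g is flat. -/
theorem result {X S Y : Scheme.{u}} (f : X ⟶ S) [Flat f]
    (hAF : SymProd.IsAF f) (n : ℕ) (q : SymProd.fibPow f n ⟶ Y) (g : Y ⟶ S)
    (hq : SymProd.IsSymProd f n q g) : Flat g := by
  have hstab : RingHom.StableUnderCompositionWithLocalizationAwaySource RingHom.Flat :=
    (RingHom.Flat.stableUnderComposition.stableUnderCompositionWithLocalizationAway
      RingHom.Flat.holdsForLocalizationAway).left
  refine (HasRingHomProperty.iff_exists_appLE (P := @Flat) hstab).mpr fun y => ?_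
  obtain ⟨V, hV, hyV, -⟩ := exists_isAffineOpen_mem_and_subset (x := g y) (U := ⊤) trivial
  obtain ⟨U, hU, hle, W', hyW, hW', hWV, hWW⟩ := SymP31.exists_chart hAF hq y hV hyV
  refine ⟨⟨V, hV⟩, ⟨W', hW'⟩, hyW, hWV, ?_⟩
  let := (f.appLE V U hle).hom.toAlgebra
  let := (g.appLE V W' hWV).hom.toAlgebra
  have : Module.Flat Γ(S, V) Γ(X, U) :=
    HasRingHomProperty.appLE @Flat f inferInstance ⟨V, hV⟩ ⟨U, hU⟩ hle
  obtain ⟨e⟩ := SymP31.exists_algEquiv_TS hq hV hU hle hWV hWW
  have : Module.Flat Γ(S, V) (SymTen.TS Γ(S, V) Γ(X, U) n) :=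
    Groth.Agent.PolLaw95.flat_TS_of_surjective (MvPolynomial.basisMonomials Γ(X, U) Γ(S, V))
      (MvPolynomial.aeval id : MvPolynomial Γ(X, U) Γ(S, V) →ₐ[Γ(S, V)] Γ(X, U))
      fun b => ⟨MvPolynomial.X b, MvPolynomial.aeval_X _ _⟩
  exact Module.Flat.of_linearEquiv e.toLinearEquiv

end Groth.Agent.S13601
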