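import Groth.Statements.S13603
import Mathlib.GroupTheory.GroupAction.Basic
import Mathlib.Algebra.BigOperators.Group.Finset.Basic
import Mathlib.Algebra.BigOperators.Ring.Finset

set_option autoImplicit false
universe u v
open CAlg

namespace Groth.Agent.S13603

/-- Let a group G act on a commutative ring B by ring automorphisms so that every element of B has a
finite orbit, and let S ⊆ B be a multiplicative set of G-fixed elements (so each g ∈ G induces an
endomorphism of the localization S⁻¹B; the hypothesis that g maps S into S is implied by the
previous one and is only carried to name that endomorphism). Then an element of S⁻¹B is fixed by all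
of G if and only if it is a fraction b/s with b fixed by G and s ∈ S: the canonical map S⁻¹(B^G) →
(S⁻¹B)^G is onto. -/
theorem result {B : Type u} [CommRing B]
    {G : Type v} [Group G] [MulSemiringAction G B] (hfin : ∀ b : B, (MulAction.orbit G b).Finite)
    (S : Submonoid B) (hS : ∀ (g : G) (s : B), s ∈ S → g • s = s)
    (hS' : ∀ g : G, S ≤ S.comap (MulSemiringAction.toRingHom G B g)) (x : Localization S) :
    (∀ g : G, IsLocalization.map (Localization S) (MulSemiringAction.toRingHom G B g) (hS' g) x = x) ↔
      ∃ (b : B) (s : S), (∀ g : G, g • b = b) ∧ x = IsLocalization.mk' (Localization S) b s := by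
  constructor
  · intro h
    obtain ⟨⟨b, s⟩, rfl⟩ := IsLocalization.mk'_surjective S x
    have hw : ∀ c ∈ MulAction.orbit G b, ∃ t : S, (t : B) * (s * c) = t * (s * b) := by
      rintro _ ⟨g, rfl⟩
      have hg := h g
      rw [IsLocalization.map_mk', IsLocalization.mk'_eq_iff_eq'] at hg
      obtain ⟨t, ht⟩ := (IsLocalization.eq_iff_exists S (Localization S)).1 hg
      refine ⟨t, ?_⟩
      simp only [MulSemiringAction.toRingHom_apply, hS g s s.2] at ht
      rw [mul_comm (s : B), mul_comm (s : B)]
      exact ht
    choose! t ht using hw
    let T : S := ∏ c ∈ (hfin b).toFinset, t c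
    refine ⟨T * s * b, T * s * s, fun g => ?_, ?_⟩
    · have hc : g • b ∈ (hfin b).toFinset := by simpa using MulAction.mem_orbit b g
      obtain ⟨u, hu⟩ : t (g • b) ∣ T := Finset.dvd_prod_of_mem _ hc
      rw [smul_mul', smul_mul', hS g T T.2, hS g s s.2, mul_assoc, mul_assoc, hu, Submonoid.coe_mul,
        mul_comm ((t (g • b) : S) : B), mul_assoc, mul_assoc, ht _ (MulAction.mem_orbit b g)]
    · refine IsLocalization.mk'_eq_of_eq' ?_
      show (T : B) * s * b * (s : B) = b * ((T * s * s : S) : B)
      push_cast
      ring
  · rintro ⟨b, s, hb, rfl⟩ g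
    rw [IsLocalization.map_mk']
    congr 1
    · exact hb g
    · exact Subtype.ext (hS g s s.2)

end Groth.Agent.S13603
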