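import Groth.Statements.S13604
import Groth.Agent.Div89.Cartier
import Mathlib.AlgebraicGeometry.Morphisms.Flat
import Mathlib.RingTheory.Flat.FaithfullyFlat.Algebra
-- import your own Groth.Agent.* helpers here

set_option autoImplicit false
set_option linter.style.haveILetI false
set_option linter.unusedVariables false
universe u
open CategoryTheory AlgebraicGeometry
open CategoryTheory.Limits
open Cyc

namespace Groth.Agent.S13604

open nonZeroDivisors in
/-- A generator of the extension of an ideal along a flat local homomorphism descends. -/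
theorem descend_generator {A B : Type u} [CommRing A] [CommRing B] [IsLocalRing A] [IsLocalRing B]
    (φ : A →+* B) [IsLocalHom φ] (hφ : φ.Flat) {J : Ideal A} {b : B} (hb : b ∈ B⁰)
    (hJ : J.map φ = Ideal.span {b}) : ∃ a ∈ A⁰, J = Ideal.span {a} := by
  algebraize [φ]
  haveI : IsLocalHom (algebraMap A B) := ‹IsLocalHom φ›
  haveI : Module.FaithfullyFlat A B := Module.FaithfullyFlat.of_flat_of_isLocalHom
  have hinj : Function.Injective φ := FaithfulSMul.algebraMap_injective A B
  obtain ⟨a, ha, hspan⟩ : ∃ a ∈ J, J.map φ = Ideal.span {φ a} := by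
    by_contra! hne
    have hle : J.map φ ≤ Ideal.span {b} * IsLocalRing.maximalIdeal B := by
      rw [Ideal.map_le_iff_le_comap]
      intro a ha
      obtain ⟨c, hc⟩ := Ideal.mem_span_singleton'.1 (hJ.le (Ideal.mem_map_of_mem φ ha))
      refine Ideal.mem_span_singleton_mul.2 ⟨c, fun hu => hne a ha ?_, by rw [mul_comm, hc]⟩
      rw [hJ, ← hc, Ideal.span_singleton_mul_left_unit hu]
    rw [hJ, Ideal.span_singleton_le_iff_mem, Ideal.mem_span_singleton_mul] at hle
    obtain ⟨c, hc, hbc⟩ := hle
    have h1 : c = 1 := sub_eq_zero.1 ((mem_nonZeroDivisors_iff_right.1 hb) _ (by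
      rw [sub_mul, one_mul, mul_comm, hbc, sub_self]))
    exact (IsLocalRing.maximalIdeal.isMaximal B).ne_top ((Ideal.eq_top_iff_one _).2 (h1 ▸ hc))
  refine ⟨a, ?_, ?_⟩
  · refine mem_nonZeroDivisors_iff_right.2 fun x hx => hinj ?_
    have hm : φ a ∈ B⁰ := by
      obtain ⟨r, hr⟩ := Ideal.mem_span_singleton'.1 ((hJ.symm.trans hspan).le (Ideal.mem_span_singleton_self b))
      rw [← hr] at hb
      exact (mul_mem_nonZeroDivisors.1 hb).2
    rw [map_zero]
    exact (mem_nonZeroDivisors_iff_right.1 hm) _ (by rw [← map_mul, hx, map_zero])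
  · rw [← Ideal.comap_map_eq_self_of_faithfullyFlat (B := B) J,
      ← Ideal.comap_map_eq_self_of_faithfullyFlat (B := B) (Ideal.span {a})]
    congr 1
    rw [Ideal.map_span, Set.image_singleton]
    exact hspan

/-- Let k be a field, X a separated k-scheme of finite type, smooth of relative dimension r, and Z ⊆ X a
closed subscheme (a quasi-coherent ideal sheaf) of pure dimension r − 1, i.e. the local ring of X at
every maximal point of Z has dimension 1. If for some field extension K/k the base change Z_K ⊆ X_K
= X ×_k Spec K (the inverse image ideal sheaf along the first projection) is an effective Cartier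
divisor, then the ideal of Z is locally generated by a single non-zero-divisor, i.e. Z too is
effective Cartier. -/
theorem result {k : Type u} [Field k] {K : Type u} [Field K]
    [Algebra k K] {X : Scheme.{u}} (f : X ⟶ Spec (CommRingCat.of k)) (r : ℕ) [SmoothOfRelativeDimension r f]
    [QuasiCompact f] [IsSeparated f] (𝓘 : X.IdealSheafData)
    (hpure : ∀ z : ↥𝓘.subscheme, (∀ z' : ↥𝓘.subscheme, z' ⤳ z → z' = z) →
      ringKrullDim ↑(X.presheaf.stalk (𝓘.subschemeι.base z)) = 1)
    (hK : BlowUp.IsEffCartierIdeal
      (𝓘.comap (pullback.fst f (Spec.map (CommRingCat.ofHom (algebraMap k K)))))) :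
    BlowUp.IsEffCartierIdeal 𝓘 := by
  haveI : Smooth f := SmoothOfRelativeDimension.smooth r f
  haveI : IsLocallyNoetherian X := LocallyOfFiniteType.isLocallyNoetherian f
  let g := Spec.map (CommRingCat.ofHom (algebraMap k K))
  haveI : Flat g := by
    rw [HasRingHomProperty.Spec_iff (P := @Flat)]
    exact RingHom.flat_algebraMap_iff.2 inferInstance
  haveI : Surjective g := ⟨fun p => ⟨Inhabited.default (α := PrimeSpectrum K), Subsingleton.elim (α := PrimeSpectrum k) _ _⟩⟩
  let π := pullback.fst f g
  haveI : Flat π := MorphismProperty.pullback_fst f g inferInstance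
  haveI : Surjective π := MorphismProperty.pullback_fst f g inferInstance
  refine Div89.isEffCartier_of_stalk fun x _ => ?_
  obtain ⟨y, rfl⟩ := π.surjective x
  obtain ⟨b, hb, hbI⟩ := Div89.exists_stalk_generator hK y
  rw [Div89.stalkIdeal_comap] at hbI
  exact descend_generator (π.stalkMap y).hom (Flat.stalkMap π y) hb hbI

end Groth.Agent.S13604
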