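import Groth.Statements.S13605
import Groth.Agent.SymP31.Basic
import Groth.Agent.Quot84.Finiteness

set_option autoImplicit false
universe u
open CategoryTheory AlgebraicGeometry
open CategoryTheory.Limits
open SymProd

namespace Groth.Agent.S13605

/-- Let f : X ⟶ S be a morphism of schemes satisfying (AF) (every finite set of points of X over a
single point of S lies in an affine open of X), let 𝒮 be a cover of S by affine opens, let d ≥ 1 and
let (Y, q, g) be a d-th symmetric power of X over S: q : X ×_S ⋯ ×_S X ⟶ Y is a quotient by the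
symmetric group on d letters permuting the factors (affine, invariant, sections of O_Y = invariant
sections) and q ≫ g is the structure map of the fibre power. Then Y is covered by affine opens of
the form Sym^d(U/V) with V in the given cover: for every point y of Y there are V ∈ 𝒮 and an affine
open U ⊆ f⁻¹V of X such that the open W = ⋂_i pr_i⁻¹ U of the fibre power (the fibre power of U over
V) is affine and stable under every permutation of the factors, and an affine open W' of Y
containing y with q⁻¹ W' = W. (The published statement also fixes an affine open cover of X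
subordinate to the cover of S, in which any d points over a common point of a member V lie in a
common member mapping into V, and concludes that the corresponding opens Sym^d(U/V) cover Y; this
row states the pointwise form, producing U for each y.) -/
theorem result {X S Y : Scheme.{u}} (f : X ⟶ S) (hAF : SymProd.IsAF f)
    (𝒮 : Set S.Opens) (h𝒮 : ∀ V ∈ 𝒮, IsAffineOpen V) (hcov : ∀ s : S, ∃ V ∈ 𝒮, s ∈ V)
    (d : ℕ) (hd : 0 < d) (q : SymProd.fibPow f d ⟶ Y) (g : Y ⟶ S) (hq : SymProd.IsSymProd f d q g) (y : Y) :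
    ∃ V ∈ 𝒮, ∃ U : X.Opens, IsAffineOpen U ∧ U ≤ f ⁻¹ᵁ V ∧
      ∃ W : (SymProd.fibPow f d).Opens,
        (W : Set ↥(SymProd.fibPow f d)) =
          ⋂ i : Fin d, (WidePullback.π (fun _ : Fin d => f) i).base ⁻¹' (U : Set X) ∧
        IsAffineOpen W ∧ (∀ σ : Equiv.Perm (Fin d), (SymProd.permHom f d σ) ⁻¹ᵁ W = W) ∧
        ∃ W' : Y.Opens, y ∈ W' ∧ IsAffineOpen W' ∧ q ⁻¹ᵁ W' = W := by
  obtain ⟨x, rfl⟩ := Quot84.surjective hq.isQuot y
  obtain ⟨V, hV, hxV⟩ := hcov (WidePullback.base (fun _ : Fin d => f) x)
  obtain ⟨U, hU, hle, hx⟩ := SymP31.exists_box f d hAF x hxV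
  have hW := SymP31.isAffineOpen_box f d (h𝒮 V hV) hU hle
  have hst : ∀ σ, SymProd.permHom f d σ ⁻¹ᵁ SymP31.box f d V U = SymP31.box f d V U :=
    SymP31.preimage_permHom_box f d V U
  refine ⟨V, hV, U, hU, hle, SymP31.box f d V U, ?_, hW, hst, ?_⟩
  · ext z
    rw [SetLike.mem_coe, SymP31.mem_box, Set.mem_iInter]
    refine ⟨fun h => h.2, fun h => ⟨?_, h⟩⟩
    rw [← SymP31.base_apply f d ⟨0, hd⟩]
    exact hle (h _)
  have hpre : ⇑q ⁻¹' (⇑q '' (SymP31.box f d V U : Set ↥(SymProd.fibPow f d))) =
      (SymP31.box f d V U : Set ↥(SymProd.fibPow f d)) := by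
    refine (Set.subset_preimage_image _ _).antisymm' ?_
    rintro z ⟨w, hw, e⟩
    obtain ⟨g, rfl⟩ := Quot84.exists_of_base_eq hq.isQuot e
    show w ∈ SymProd.permHom f d g.down ⁻¹ᵁ SymP31.box f d V U
    rwa [hst]
  let W' : Y.Opens := ⟨⇑q '' (SymP31.box f d V U : Set ↥(SymProd.fibPow f d)),
    (Quot84.isQuotientMap hq.isQuot).isOpen_preimage.mp (hpre.symm ▸ (SymP31.box f d V U).2)⟩
  have hWW : q ⁻¹ᵁ W' = SymP31.box f d V U := TopologicalSpace.Opens.ext hpre
  refine ⟨W', ⟨x, hx, rfl⟩, ?_, hWW⟩
  have : IsAffine (q ⁻¹ᵁ W').toScheme := by rw [hWW]; exact hW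
  exact Quot84.isAffine_of_isAffine (Quot84.isQuot_restrict hq.isQuot W')

end Groth.Agent.S13605
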