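import Groth.Statements.S13608
import Mathlib.RingTheory.AdicCompletion.Basic
import Mathlib.RingTheory.Finiteness.Ideal

set_option autoImplicit false
universe u v
open CAlg

namespace Groth.Agent.S13608

/-- Let A be a commutative ring, I a finitely generated ideal of A and (M_n) an inverse system of
A-modules with transition maps f_n : M_(n+1) → M_n such that I^(n+1) M_n = 0 for every n. If L is an
inverse limit of the system (projections π_n compatible with the f_n, jointly injective, and such
that every compatible family of elements lifts to L), then L is complete and separated for the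
I-adic topology. No surjectivity of the transition maps is assumed. -/
theorem result
    (A : Type u) [CommRing A] (I : Ideal A) (hI : I.FG)
    (M : ℕ → Type v) [∀ n, AddCommGroup (M n)] [∀ n, Module A (M n)]
    (f : ∀ n, M (n + 1) →ₗ[A] M n)
    (hkill : ∀ n, I ^ (n + 1) • (⊤ : Submodule A (M n)) = ⊥)
    (L : Type v) [AddCommGroup L] [Module A L] (π : ∀ n, L →ₗ[A] M n)
    (hπ : ∀ n, f n ∘ₗ π (n + 1) = π n)
    (hinj : ∀ x : L, (∀ n, π n x = 0) → x = 0)
    (hlift : ∀ y : (∀ n, M n), (∀ n, f n (y (n + 1)) = y n) → ∃ x : L, ∀ n, π n x = y n) :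
    IsAdicComplete I L := by
  have hvan : ∀ (m : ℕ) (x : L), x ∈ I ^ m • (⊤ : Submodule A L) → ∀ k, k < m → π k x = 0 := by
    intro m x hx k hk
    have h1 : π k x ∈ I ^ m • (⊤ : Submodule A (M k)) :=
      Submodule.smul_mono le_rfl le_top ((Submodule.map_smul'' _ _ (π k)).le
        (Submodule.mem_map_of_mem hx))
    have h2 : I ^ m • (⊤ : Submodule A (M k)) ≤ I ^ (k + 1) • ⊤ :=
      Submodule.smul_mono_left (Ideal.pow_le_pow_right hk)
    simpa [hkill] using h2 h1
  have hπ' : ∀ k (x : L), f k (π (k + 1) x) = π k x := fun k x => LinearMap.congr_fun (hπ k) x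
  refine { haus' := fun x hx => hinj x fun n => ?_, prec' := fun c hc => ?_ }
  · exact hvan (n + 1) x (SModEq.zero.1 (hx (n + 1))) n (Nat.lt_succ_self n)
  have hc' : ∀ {m n}, m ≤ n → c n - c m ∈ I ^ m • (⊤ : Submodule A L) := fun {m n} h => by
    have := Submodule.neg_mem _ (SModEq.sub_mem.1 (hc h))
    rwa [neg_sub] at this
  have hstab : ∀ k m, k < m → π k (c m) = π k (c (k + 1)) := fun k m h => by
    rw [← sub_eq_zero, ← map_sub]
    exact hvan (k + 1) _ (hc' h) k (Nat.lt_succ_self k)
  obtain ⟨x, hx⟩ := hlift (fun k => π k (c (k + 1))) fun k => by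
    show f k (π (k + 1) (c (k + 1 + 1))) = π k (c (k + 1))
    rw [hπ', hstab k _ (by omega)]
  refine ⟨x, fun n => ?_⟩
  classical
  obtain ⟨G, hG⟩ := hI.pow (n := n)
  have hdec : ∀ (j : ℕ) (z : L), z ∈ I ^ n • (I ^ j • (⊤ : Submodule A L)) →
      ∃ w : G → L, (∀ g, w g ∈ I ^ j • (⊤ : Submodule A L)) ∧ z = ∑ g : G, (g : A) • w g := by
    intro j z hz
    refine Submodule.smul_induction_on hz (fun r hr u hu => ?_) (fun a b ha hb => ?_)
    · rw [← hG] at hr
      obtain ⟨e, -, he⟩ := Submodule.mem_span_finset.1 hr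
      refine ⟨fun g => e g • u, fun g => Submodule.smul_mem _ _ hu, ?_⟩
      rw [← he, ← Finset.sum_coe_sort G fun g => e g • g, Finset.sum_smul]
      refine Finset.sum_congr rfl fun g _ => ?_
      rw [smul_smul, smul_eq_mul, mul_comm]
    · obtain ⟨wa, hwa, rfl⟩ := ha
      obtain ⟨wb, hwb, rfl⟩ := hb
      exact ⟨wa + wb, fun g => add_mem (hwa g) (hwb g), by simp [Finset.sum_add_distrib]⟩
  have hstep : ∀ j, ∃ w : G → L, (∀ g, w g ∈ I ^ j • (⊤ : Submodule A L)) ∧
      c (n + j + 1) - c (n + j) = ∑ g : G, (g : A) • w g := fun j => hdec j _ (by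
    rw [← Submodule.mul_smul, ← pow_add]; exact hc' (Nat.le_succ _))
  choose w hw hws using hstep
  have hZ : ∀ g : G, ∃ Z : L, ∀ k, π k Z = π k (∑ j ∈ Finset.range (k + 1), w j g) := fun g => by
    obtain ⟨Z, hZ⟩ := hlift (fun k => π k (∑ j ∈ Finset.range (k + 1), w j g)) fun k => by
      show f k (π (k + 1) (∑ j ∈ Finset.range (k + 1 + 1), w j g)) = _
      rw [hπ', Finset.sum_range_succ, map_add, hvan (k + 1) _ (hw (k + 1) g) k (by omega), add_zero]
    exact ⟨Z, hZ⟩
  choose Z hZ using hZ
  have hxZ : x - c n = ∑ g : G, (g : A) • Z g := by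
    rw [← sub_eq_zero]
    refine hinj _ fun k => ?_
    rw [map_sub, map_sub, hx, sub_eq_zero, ← map_sub]
    have h2 : π k (∑ g : G, (g : A) • Z g) = π k (∑ j ∈ Finset.range (k + 1), ∑ g : G, (g : A) • w j g) := by
      rw [Finset.sum_comm]
      simp only [map_sum, map_smul, hZ, Finset.smul_sum]
    rw [h2, ← Finset.sum_congr rfl fun j _ => hws j]
    rw [show (∑ j ∈ Finset.range (k + 1), (c (n + j + 1) - c (n + j))) = c (n + (k + 1)) - c n from
      Finset.sum_range_sub (fun j => c (n + j)) (k + 1)]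
    rw [map_sub, map_sub, hstab k (n + (k + 1)) (by omega)]
  have hmem : x - c n ∈ I ^ n • (⊤ : Submodule A L) := by
    rw [hxZ]
    exact Submodule.sum_mem _ fun g _ =>
      Submodule.smul_mem_smul (hG ▸ Ideal.subset_span g.2) trivial
  rw [SModEq.sub_mem]
  simpa using Submodule.neg_mem _ hmem

end Groth.Agent.S13608
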