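import Groth.Statements.S13609
import Mathlib.RingTheory.AdicCompletion.Basic

set_option autoImplicit false
universe u v
open CAlg

namespace Groth.Agent.S13609

/-- A direct summand of a module that is complete and separated for the I-adic topology is again
complete and separated: for a commutative ring A, an ideal I and A-modules M₁, M₂, if M₁ × M₂ is
I-adically complete then so is M₁. -/
theorem result (A : Type u) [CommRing A] (I : Ideal A)
    (M₁ M₂ : Type v) [AddCommGroup M₁] [Module A M₁] [AddCommGroup M₂] [Module A M₂]
    [IsAdicComplete I (M₁ × M₂)] : IsAdicComplete I M₁ := by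
  refine { haus' := fun x hx => ?_, prec' := fun f hf => ?_ }
  · have := IsHausdorff.haus (inferInstance : IsHausdorff I (M₁ × M₂)) (x, 0) fun n => ?_
    · exact congrArg Prod.fst this
    · have h := hx n
      rw [SModEq.zero] at h ⊢
      exact (Submodule.map_smul'' _ _ (LinearMap.inl A M₁ M₂)).le.trans
        (Submodule.smul_mono le_rfl le_top) (Submodule.mem_map_of_mem h)
  · obtain ⟨L, hL⟩ := IsPrecomplete.prec (inferInstance : IsPrecomplete I (M₁ × M₂))
      (f := fun n => (f n, 0)) fun {m n} hmn => by
        have h := hf hmn
        rw [SModEq.sub_mem] at h ⊢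
        have := (Submodule.map_smul'' _ _ (LinearMap.inl A M₁ M₂)).le.trans
          (Submodule.smul_mono le_rfl le_top) (Submodule.mem_map_of_mem h)
        simpa using this
    refine ⟨L.1, fun n => ?_⟩
    have h := hL n
    rw [SModEq.sub_mem] at h ⊢
    have := (Submodule.map_smul'' _ _ (LinearMap.fst A M₁ M₂)).le.trans
      (Submodule.smul_mono le_rfl le_top) (Submodule.mem_map_of_mem h)
    simpa using this

end Groth.Agent.S13609
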