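import Groth.Statements.S1361
import Mathlib
import Groth.Agent.S1356
import Groth.Agent.NearGen2.GeomConn
import Groth.Agent.NearGen2.GIMain
import Groth.Agent.FBase64.Geometric
import Groth.Agent.SchBasics.TopNoeth
import Mathlib.RingTheory.Etale.StandardEtale
import Mathlib.FieldTheory.PrimitiveElement

set_option autoImplicit false
set_option linter.style.haveILetI false
set_option linter.style.longLine false
universe u
open FlatMor

namespace Groth.Agent.S1361

section
open AlgebraicGeometry CategoryTheory Limits Polynomial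

/-- A finite separable extension of a residue field is the residue field of a point of an étale algebra. -/
theorem exists_etale_point (R : Type u) [CommRing R] (p : Ideal R) [p.IsPrime] (L : Type u) [Field L]
    [Algebra p.ResidueField L] [FiniteDimensional p.ResidueField L] [Algebra.IsSeparable p.ResidueField L]
    [Algebra R L] [IsScalarTower R p.ResidueField L] :
    ∃ (R' : Type u) (_ : CommRing R') (_ : Algebra R R') (_ : Algebra.Etale R R') (φ : R' →ₐ[R] L),
      IsPreimmersion (Spec.map (CommRingCat.ofHom φ.toRingHom)) := by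
  classical
  let k := p.ResidueField
  obtain ⟨θ, hθ⟩ := Field.exists_primitive_element k L
  let m := minpoly k θ
  have hint : IsIntegral k θ := Algebra.IsIntegral.isIntegral θ
  obtain ⟨d, hd⟩ := IsLocalization.exist_integer_multiples_of_finset (nonZeroDivisors (R ⧸ p))
    (Finset.image (fun i => m.coeff i) (Finset.range m.natDegree))
  let c : k := algebraMap (R ⧸ p) k d
  have hc : c ≠ 0 := IsFractionRing.to_map_ne_zero_of_mem_nonZeroDivisors d.2
  let n := m.natDegree
  let m₁ : k[X] := C (c ^ n) * m.comp (C c⁻¹ * X)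
  have hcoeff : ∀ i, m₁.coeff i = c ^ n * (m.coeff i * c⁻¹ ^ i) := fun i => by
    show (C (c ^ n) * m.comp (C c⁻¹ * X)).coeff i = _
    rw [coeff_C_mul, comp_C_mul_X_coeff]
  have hdeg : m₁.natDegree ≤ n := natDegree_le_iff_coeff_eq_zero.mpr fun i hi => by
    rw [hcoeff, coeff_eq_zero_of_natDegree_lt hi, zero_mul, mul_zero]
  have htop : m₁.coeff n = 1 := by
    rw [hcoeff, show m.coeff n = 1 from (minpoly.monic hint).coeff_natDegree, one_mul, ← mul_pow, mul_inv_cancel₀ hc,
      one_pow]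
  have hmon : m₁.Monic := monic_of_natDegree_le_of_coeff_eq_one n hdeg htop
  have hrange : ∀ a : R ⧸ p, algebraMap (R ⧸ p) k a ∈ (algebraMap R k).range := fun a => by
    obtain ⟨r, rfl⟩ := Ideal.Quotient.mk_surjective a
    exact ⟨r, (IsScalarTower.algebraMap_apply R (R ⧸ p) k r)⟩
  have hlift : m₁ ∈ Polynomial.lifts (algebraMap R k) := by
    rw [Polynomial.lifts_iff_coeff_lifts]
    intro i
    show m₁.coeff i ∈ ((algebraMap R k).range : Set k)
    rcases lt_trichotomy i n with hi | hi | hi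
    · obtain ⟨a, ha⟩ := hd (m.coeff i) (Finset.mem_image_of_mem _ (Finset.mem_range.mpr hi))
      have : m₁.coeff i = c ^ (n - i - 1) * algebraMap (R ⧸ p) k a := by
        rw [hcoeff, ha, Algebra.smul_def, inv_pow]
        have e : c ^ n = c ^ (n - i - 1) * c * c ^ i := by rw [mul_assoc, ← pow_succ', ← pow_add]; congr 1; omega
        rw [e, show algebraMap (R ⧸ p) k (d : R ⧸ p) = c from rfl]
        calc _ = c ^ (n - i - 1) * (c * m.coeff i) * (c ^ i * (c ^ i)⁻¹) := by ring
          _ = _ := by rw [mul_inv_cancel₀ (pow_ne_zero _ hc), mul_one]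
      rw [this]
      exact Subring.mul_mem _ (Subring.pow_mem _ (hrange _) _) (hrange _)
    · subst hi; rw [htop]; exact Subring.one_mem _
    · rw [coeff_eq_zero_of_natDegree_lt (hdeg.trans_lt hi)]; exact Subring.zero_mem _
  obtain ⟨F, hF, -, hFmon⟩ := Polynomial.lifts_and_natDegree_eq_and_monic hlift hmon
  let θ' : L := algebraMap k L c * θ
  have hev : ∀ q : k[X], aeval θ' (q.comp (C c⁻¹ * X)) = aeval θ q := fun q => by
    rw [aeval_comp, map_mul, aeval_C, aeval_X]
    simp only [θ', ← mul_assoc, ← map_mul, inv_mul_cancel₀ hc, map_one, one_mul]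
  have h0 : aeval θ' F = 0 := by
    rw [← aeval_map_algebraMap k θ' F, hF]
    simp only [m₁, map_mul, hev, minpoly.aeval, mul_zero, m]
  have h1 : aeval θ' (derivative F) ≠ 0 := by
    rw [← aeval_map_algebraMap k θ' (derivative F), ← derivative_map, hF]
    simp only [m₁, derivative_C_mul, derivative_comp, derivative_C_mul, derivative_X, mul_one, map_mul, hev, aeval_C]
    refine mul_ne_zero ((_root_.map_ne_zero _).mpr (pow_ne_zero _ hc)) (mul_ne_zero ((_root_.map_ne_zero _).mpr (inv_ne_zero hc)) ?_)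
    exact Separable.aeval_derivative_ne_zero (Algebra.IsSeparable.isSeparable k θ) (minpoly.aeval k θ)
  let P : StandardEtalePair R := ⟨F, hFmon, derivative F, 1, 0, 1, by simp⟩
  let φ : P.Ring →ₐ[R] L := P.lift θ' ⟨h0, isUnit_iff_ne_zero.mpr h1⟩
  refine ⟨P.Ring, inferInstance, inferInstance, inferInstance, φ, ?_⟩
  let q : Ideal P.Ring := RingHom.ker φ.toRingHom
  haveI : q.IsPrime := RingHom.ker_isPrime _
  have hpq : p = q.comap (Algebra.ofId R P.Ring).toRingHom := by
    ext r
    show r ∈ p ↔ φ (algebraMap R P.Ring r) = 0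
    rw [AlgHom.commutes, IsScalarTower.algebraMap_apply R k L, map_eq_zero_iff _ (algebraMap k L).injective,
      Ideal.algebraMap_residueField_eq_zero]
  let j : q.ResidueField →ₐ[R] L := Ideal.ResidueField.liftₐ q φ (fun b hb => hb) (fun b hb => isUnit_iff_ne_zero.2 hb)
  let μ : k →ₐ[R] q.ResidueField := Ideal.ResidueField.mapₐ p q (Algebra.ofId R P.Ring) hpq
  have hjμ : j.comp μ = IsScalarTower.toAlgHom R k L := Ideal.ResidueField.algHom_ext (by ext)
  letI : Algebra k q.ResidueField := μ.toRingHom.toAlgebra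
  let j' : q.ResidueField →ₐ[k] L := { j.toRingHom with commutes' := fun a => DFunLike.congr_fun hjμ a }
  have hθ' : θ' ∈ j'.fieldRange := ⟨algebraMap P.Ring q.ResidueField P.X, by
    show j (algebraMap P.Ring q.ResidueField P.X) = θ'
    rw [Ideal.ResidueField.liftₐ_algebraMap]
    exact P.lift_X _ _⟩
  have htopj : j'.fieldRange = ⊤ := by
    rw [eq_top_iff, ← hθ, IntermediateField.adjoin_simple_le_iff]
    have : θ = algebraMap k L c⁻¹ * θ' := by
      simp only [θ', ← mul_assoc, ← map_mul, inv_mul_cancel₀ hc, map_one, one_mul]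
    rw [this]
    exact mul_mem (IntermediateField.algebraMap_mem _ _) hθ'
  haveI : IsIso (CommRingCat.ofHom j.toRingHom) := (ConcreteCategory.isIso_iff_bijective _).mpr
    ⟨j.toRingHom.injective, fun a => by
      obtain ⟨b, hb⟩ : a ∈ j'.fieldRange := htopj ▸ IntermediateField.mem_top
      exact ⟨b, hb⟩⟩
  have hφ : CommRingCat.ofHom φ.toRingHom = CommRingCat.ofHom (algebraMap P.Ring (P.Ring ⧸ q)) ≫
      CommRingCat.ofHom (algebraMap (P.Ring ⧸ q) q.ResidueField) ≫ CommRingCat.ofHom j.toRingHom := by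
    refine CommRingCat.hom_ext (RingHom.ext fun a => ?_)
    show φ a = j (algebraMap (P.Ring ⧸ q) q.ResidueField (algebraMap P.Ring (P.Ring ⧸ q) a))
    rw [← IsScalarTower.algebraMap_apply, Ideal.ResidueField.liftₐ_algebraMap]
  haveI : IsPreimmersion (Spec.map (CommRingCat.ofHom (algebraMap (P.Ring ⧸ q) q.ResidueField))) :=
    IsPreimmersion.of_isLocalization (nonZeroDivisors (P.Ring ⧸ q))
  haveI : IsClosedImmersion (Spec.map (CommRingCat.ofHom (algebraMap P.Ring (P.Ring ⧸ q)))) :=
    IsClosedImmersion.spec_of_surjective _ Ideal.Quotient.mk_surjective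
  rw [hφ, Spec.map_comp, Spec.map_comp]
  infer_instance

end

open AlgebraicGeometry CategoryTheory Limits in
/-- Let f : X → S be flat, locally of finite presentation, with geometrically reduced fibres. Then for
every point x of X there are an étale morphism X' → X whose image contains x, an étale morphism S' →
S and a factorization X' → S' → S of X' → X → S such that X' → S' is a flat morphism of finite
presentation all of whose fibres are geometrically connected and geometrically reduced. -/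
theorem result {X S : Scheme.{u}} (f : X ⟶ S) [Flat f] [LocallyOfFinitePresentation f] [GeometricallyReduced f] (x : X) :
    ∃ (X' S' : Scheme.{u}) (a : X' ⟶ X) (b : X' ⟶ S') (c : S' ⟶ S), Etale a ∧ x ∈ Set.range ⇑a ∧ Etale c ∧ a ≫ f = b ≫ c ∧
      Flat b ∧ LocallyOfFinitePresentation b ∧ QuasiCompact b ∧ QuasiSeparated b ∧ GeometricallyConnected b ∧ GeometricallyReduced b := by
  classical
  obtain ⟨V, hV, hxV, -⟩ := exists_isAffineOpen_mem_and_subset (U := ⊤) (TopologicalSpace.Opens.mem_top (f x))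
  obtain ⟨U, hU, hxU, hUV⟩ := exists_isAffineOpen_mem_and_subset (U := f ⁻¹ᵁ V) hxV
  let R := Γ(S, V)
  let f₀ : Spec Γ(X, U) ⟶ Spec R := Spec.map (f.appLE V U hUV)
  have hf₀ : f₀ ≫ hV.fromSpec = hU.fromSpec ≫ f := IsAffineOpen.SpecMap_appLE_fromSpec f hV hU hUV
  have sq₀ := S1356.monoSquare f₀ hV.fromSpec
  haveI : GeometricallyReduced (f₀ ≫ hV.fromSpec) := by rw [hf₀]; exact S1356.geometricallyReduced_open_comp _ _
  haveI : Flat (f₀ ≫ hV.fromSpec) := by rw [hf₀]; infer_instance
  haveI : LocallyOfFinitePresentation (f₀ ≫ hV.fromSpec) := by rw [hf₀]; infer_instance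
  haveI : GeometricallyReduced f₀ := MorphismProperty.of_isPullback sq₀ ‹_›
  haveI : Flat f₀ := MorphismProperty.of_isPullback sq₀ ‹_›
  haveI : LocallyOfFinitePresentation f₀ := MorphismProperty.of_isPullback sq₀ ‹_›
  let x₀ : ↥(Spec Γ(X, U)) := hU.primeIdealOf ⟨x, hxU⟩
  let pp : ↥(Spec R) := f₀ x₀
  let k := pp.asIdeal.ResidueField
  let yk : Spec (CommRingCat.of k) ⟶ Spec R := Spec.map (CommRingCat.ofHom (algebraMap R k))
  let t := pullback.snd f₀ yk
  haveI : LocallyOfFiniteType t := inferInstanceAs (LocallyOfFiniteType (pullback.snd f₀ yk))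
  haveI : QuasiCompact t := inferInstanceAs (QuasiCompact (pullback.snd f₀ yk))
  haveI := NearGen2.finite_irreducibleComponents_of_field t
  obtain ⟨L, _, _, hfd, hsep, hL⟩ := FBase64.exists_finite_separable_irreducibleComponents t
    fun Z hZ => VarGal.residueFieldProp_finite_separableClosure _ _
  letI : Algebra R L := ((algebraMap k L).comp (algebraMap R k)).toAlgebra
  haveI : IsScalarTower R k L := IsScalarTower.of_algebraMap_eq fun _ => rfl
  obtain ⟨R', _, _, hR', φ, hφ⟩ := exists_etale_point R pp.asIdeal L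
  let g₁ : Spec (CommRingCat.of R') ⟶ Spec R := Spec.map (CommRingCat.ofHom (algebraMap R R'))
  haveI : Etale g₁ := HasRingHomProperty.Spec_iff.mpr (RingHom.etale_algebraMap.mpr hR')
  let yL : Spec (CommRingCat.of L) ⟶ Spec (CommRingCat.of R') := Spec.map (CommRingCat.ofHom φ.toRingHom)
  haveI : IsPreimmersion yL := hφ
  let bk : Spec (CommRingCat.of L) ⟶ Spec (CommRingCat.of k) := Spec.map (CommRingCat.ofHom (algebraMap k L))
  have hyL : bk ≫ yk = yL ≫ g₁ := by
    rw [← Spec.map_comp, ← Spec.map_comp, ← CommRingCat.ofHom_comp, ← CommRingCat.ofHom_comp]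
    congr 2
    exact (φ.comp_algebraMap).symm
  let o : ↥(Spec (CommRingCat.of L)) := IsLocalRing.closedPoint L
  let q := yL o
  let h₁ := pullback.snd f₀ g₁
  have hP : IsPullback (FBase.bcπ t L ≫ pullback.fst f₀ yk) (FBase.bcStr t L) f₀ (bk ≫ yk) :=
    (IsPullback.of_hasPullback t bk).paste_horiz (IsPullback.of_hasPullback f₀ yk)
  let c : FBase.bc t L ⟶ pullback f₀ g₁ := pullback.lift (FBase.bcπ t L ≫ pullback.fst f₀ yk)
    (FBase.bcStr t L ≫ yL) (by rw [hP.w, Category.assoc, hyL])
  have hc : IsPullback c (FBase.bcStr t L) h₁ yL := by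
    refine IsPullback.of_right ?_ (pullback.lift_snd _ _ _) (IsPullback.of_hasPullback f₀ g₁)
    rw [pullback.lift_fst, ← hyL]
    exact hP
  haveI : IsPreimmersion c := MorphismProperty.of_isPullback hc.flip ‹IsPreimmersion yL›
  -- a point over `x`
  have hyk : ∀ a, yk a = pp := fun a => by
    refine PrimeSpectrum.ext (Ideal.ext fun r => ?_)
    show algebraMap R k r ∈ (a : PrimeSpectrum k).asIdeal ↔ r ∈ pp.asIdeal
    rw [(Ideal.eq_bot_or_top (a : PrimeSpectrum k).asIdeal).resolve_right (a : PrimeSpectrum k).2.ne_top,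
      Ideal.mem_bot, Ideal.algebraMap_residueField_eq_zero]
  obtain ⟨P₁, hP₁, -⟩ := Scheme.exists_preimage_of_isPullback hP x₀ o
    ((hyk (bk o)).symm.trans (Scheme.Hom.comp_apply bk yk o).symm)
  -- its connected component is geometrically connected
  haveI : LocallyOfFiniteType (FBase.bcStr t L) :=
    MorphismProperty.of_isPullback (IsPullback.of_hasPullback t bk) (inferInstanceAs (LocallyOfFiniteType t))
  haveI : QuasiCompact (FBase.bcStr t L) :=
    MorphismProperty.of_isPullback (IsPullback.of_hasPullback t bk) (inferInstanceAs (QuasiCompact t))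
  haveI : IsLocallyNoetherian (FBase.bc t L) := LocallyOfFiniteType.isLocallyNoetherian (FBase.bcStr t L)
  haveI : CompactSpace ↥(FBase.bc t L) := QuasiCompact.compactSpace_of_compactSpace (FBase.bcStr t L)
  haveI : IsNoetherian (FBase.bc t L) := { }
  let T : (FBase.bc t L).Opens := ⟨connectedComponent P₁, SchBasics.isOpen_connectedComponent_of_noetherianSpace P₁⟩
  haveI : ConnectedSpace ↥(T : Scheme.{u}) := by
    show ConnectedSpace ↥(connectedComponent P₁)
    exact isConnected_iff_connectedSpace.mp isConnected_connectedComponent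
  have hC : irreducibleComponent P₁ ⊆ connectedComponent P₁ :=
    isIrreducible_irreducibleComponent.isConnected.subset_connectedComponent mem_irreducibleComponent
  let Cc : TopologicalSpace.Closeds ↥(T : Scheme.{u}) :=
    ⟨T.ι ⁻¹' irreducibleComponent P₁, isClosed_irreducibleComponent.preimage T.ι.continuous⟩
  let ι := (Scheme.IdealSheafData.vanishingIdeal Cc).subschemeι
  have hrι : Set.range ι = (Cc : Set _) := SchBasics.range_vanishingIdeal_subschemeι _
  haveI : Nonempty ↥(Scheme.IdealSheafData.vanishingIdeal Cc).subscheme := by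
    obtain ⟨a, -⟩ : (⟨P₁, mem_connectedComponent⟩ : ↥(T : Scheme.{u})) ∈ Set.range ι := by
      rw [hrι]; exact mem_irreducibleComponent
    exact ⟨a⟩
  haveI : GeometricallyIrreducible (ι ≫ T.ι ≫ FBase.bcStr t L) := by
    refine ⟨geometrically_iff_of_commRing_of_isClosedUnderIsomorphisms.mpr fun K _ _ => ?_⟩
    let s : Spec (CommRingCat.of K) ⟶ Spec (CommRingCat.of L) := Spec.map (CommRingCat.ofHom (algebraMap L K))
    have hsq : IsPullback (pullback.fst (T.ι ≫ FBase.bcStr t L) s) (pullback.snd (T.ι ≫ FBase.bcStr t L) s) _ _ :=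
      IsPullback.of_hasPullback _ _
    refine NearGen2.irreducibleSpace_of_preimage ι (T.ι ≫ FBase.bcStr t L) s hsq ?_
    have hirr := hL K (irreducibleComponent P₁) (irreducibleComponent_mem_irreducibleComponents P₁)
    let m : pullback (T.ι ≫ FBase.bcStr t L) s ⟶ FBase.bc (FBase.bcStr t L) K :=
      pullback.map (T.ι ≫ FBase.bcStr t L) s (FBase.bcStr t L) s T.ι (𝟙 _) (𝟙 _) (by simp) (by simp)
    have hm : m ≫ FBase.bcπ (FBase.bcStr t L) K = pullback.fst (T.ι ≫ FBase.bcStr t L) s ≫ T.ι := pullback.lift_fst _ _ _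
    have heq : pullback.fst (T.ι ≫ FBase.bcStr t L) s ⁻¹' Set.range ι =
        m ⁻¹' (FBase.bcπ (FBase.bcStr t L) K ⁻¹' irreducibleComponent P₁) := by
      rw [hrι, ← Set.preimage_comp, ← TopCat.coe_comp, ← Scheme.Hom.comp_base, hm]
      rfl
    rw [heq]
    haveI : IsOpenImmersion m := inferInstanceAs (IsOpenImmersion (pullback.map (T.ι ≫ FBase.bcStr t L) s (FBase.bcStr t L) s T.ι (𝟙 _) (𝟙 _) _ _))
    refine hirr.preimage m.isOpenEmbedding ?_
    obtain ⟨w, hw⟩ := hirr.nonempty
    obtain ⟨v, hv, -⟩ := Scheme.Pullback.exists_preimage_pullback (f := T.ι ≫ FBase.bcStr t L) (g := s)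
      ⟨FBase.bcπ (FBase.bcStr t L) K w, hC hw⟩ (FBase.bcStr (FBase.bcStr t L) K w)
      (Subsingleton.elim (α := PrimeSpectrum L) _ _)
    refine ⟨m v, ?_, ⟨v, rfl⟩⟩
    show FBase.bcπ (FBase.bcStr t L) K (m v) ∈ irreducibleComponent P₁
    rw [← Scheme.Hom.comp_apply, hm, Scheme.Hom.comp_apply, hv]
    exact hw
  haveI := FBase64.geometricallyConnected_of_geometricallyIrreducible (ι ≫ T.ι ≫ FBase.bcStr t L)
  haveI hTgc : GeometricallyConnected (T.ι ≫ FBase.bcStr t L) :=
    FBase64.geometricallyConnected_of_source (f := T.ι ≫ FBase.bcStr t L) ι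
  obtain ⟨O₀, hO₀o, hO₀⟩ := c.isEmbedding.isInducing.isOpen_iff.1 T.2
  let O : (pullback f₀ g₁).Opens := ⟨O₀, hO₀o⟩
  have hcO : c ⁻¹ᵁ O = T := TopologicalSpace.Opens.ext hO₀
  have sqO : IsPullback (c ∣_ O) ((c ⁻¹ᵁ O).ι ≫ FBase.bcStr t L) (O.ι ≫ h₁) yL :=
    (isPullback_morphismRestrict c O).paste_vert hc
  haveI : GeometricallyConnected ((c ⁻¹ᵁ O).ι ≫ FBase.bcStr t L) := by rw [hcO]; exact hTgc
  have hGCq : GeometricallyConnected ((h₁.fiberι q ⁻¹ᵁ O).ι ≫ h₁.fiberToSpecResidueField q) :=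
    (S1356.fiber_open_iff @GeometricallyConnected h₁ O q _ rfl).mp
      ((NearGen2.fiber_prop_iff_of_preimmersion (P := @GeometricallyConnected) sqO o).mp inferInstance)
  obtain ⟨S₂, g₂, s₂, hS₂, hg₂, V₂, hV₂c, hV₂gc, hV₂⟩ := S1356.result h₁ q (h₁.fiberι q ⁻¹ᵁ O) hGCq
  haveI := hS₂
  haveI := hg₂.etale
  let b := V₂.ι ≫ pullback.snd h₁ g₂
  haveI : CompactSpace ↥(V₂ : Scheme.{u}) := isCompact_iff_compactSpace.mp hV₂c
  haveI : GeometricallyReduced h₁ := inferInstanceAs (GeometricallyReduced (pullback.snd f₀ g₁))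
  refine ⟨V₂, S₂, V₂.ι ≫ pullback.fst h₁ g₂ ≫ pullback.fst f₀ g₁ ≫ hU.fromSpec, b, g₂ ≫ g₁ ≫ hV.fromSpec,
    inferInstance, ?_, inferInstance, ?_, inferInstance, inferInstance, inferInstance, inferInstance, hV₂gc,
    S1356.geometricallyReduced_open_comp _ _⟩
  · have hcq : h₁ (c P₁) = q := by
      rw [← Scheme.Hom.comp_apply, hc.w, Scheme.Hom.comp_apply]
      exact congrArg yL (Subsingleton.elim (α := PrimeSpectrum L) _ _)
    obtain ⟨w, hw₁, hw₂⟩ := Scheme.Pullback.exists_preimage_pullback (f := h₁) (g := g₂) (c P₁) s₂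
      (hcq.trans hg₂.base_eq.symm)
    have hwV : w ∈ V₂ := by
      obtain ⟨u, hu⟩ := (h₁.range_fiberι q).ge hcq
      rw [hV₂ w hw₂, hw₁]
      refine ⟨u, ?_, hu⟩
      show h₁.fiberι q u ∈ O₀
      rw [hu]
      exact (Set.ext_iff.mp hO₀ P₁).mpr mem_connectedComponent
    refine ⟨⟨w, hwV⟩, ?_⟩
    show (V₂.ι ≫ pullback.fst h₁ g₂ ≫ pullback.fst f₀ g₁ ≫ hU.fromSpec) ⟨w, hwV⟩ = x
    rw [Scheme.Hom.comp_apply, Scheme.Hom.comp_apply, Scheme.Hom.comp_apply]
    show hU.fromSpec (pullback.fst f₀ g₁ (pullback.fst h₁ g₂ w)) = x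
    rw [hw₁, ← Scheme.Hom.comp_apply (f := c), pullback.lift_fst, hP₁]
    exact hU.fromSpec_primeIdealOf ⟨x, hxU⟩
  · simp only [b, Category.assoc, ← hf₀]
    rw [pullback.condition_assoc]
    show V₂.ι ≫ pullback.fst h₁ g₂ ≫ h₁ ≫ g₁ ≫ hV.fromSpec = _
    rw [pullback.condition_assoc]

end Groth.Agent.S1361
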