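import Groth.Statements.S13615
import Groth.Agent.EtModAR45.EtDetect
import Groth.Agent.EtModAR45.Transfer

set_option autoImplicit false
open CategoryTheory CategoryTheory.Limits AlgebraicGeometry Opposite
universe u
open EtModW

namespace Groth.Agent.S13615

/-- Let X be a Noetherian scheme, i : A → X a closed immersion and j : U → X an open immersion whose
images are complementary, Λ a Noetherian ring, I an ideal of Λ and F = (F_n) an inverse system of
constructible sheaves of Λ-modules on the small etale site of X with I^(n+1) F_n = 0 for all n. Then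
F is AR I-adic (receives a morphism with kernel and cokernel null up to translation from an I-adic
system of constructible sheaves) if and only if both restricted systems (j^* F_n)_n on U and (i^*
F_n)_n on A are AR I-adic in the same sense. -/
theorem result
    (Λ : Type (u + 1)) [CommRing Λ] [IsNoetherianRing Λ] (I : Ideal Λ)
    {X A U : Scheme.{u}} [IsNoetherian X] (i : A ⟶ X) [IsClosedImmersion i] (j : U ⟶ X) [IsOpenImmersion j]
    (hAU : Set.range (fun a => i.base a) = (Set.range (fun t => j.base t))ᶜ)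
    (F : ARSys.PS (EtModW.Mod Λ X)) (hc : ∀ n : ℕ, EtModW.IsConstructible Λ (F.obj (op n)))
    (hk : ARSys.TermKilled I F) :
    (ARSys.TermKilled I F ∧ ∃ (Y : ARSys.PS (EtModW.Mod Λ X)) (v : Y ⟶ F), ARSys.IsAdic I Y ∧ (∀ n : ℕ, EtModW.IsConstructible Λ (Y.obj (op n))) ∧ ARSys.IsARIso v) ↔
      ((ARSys.TermKilled I (F ⋙ EtModW.pull Λ j) ∧ ∃ (Y : ARSys.PS (EtModW.Mod Λ U)) (v : Y ⟶ (F ⋙ EtModW.pull Λ j)), ARSys.IsAdic I Y ∧ (∀ n : ℕ, EtModW.IsConstructible Λ (Y.obj (op n))) ∧ ARSys.IsARIso v) ∧ (ARSys.TermKilled I (F ⋙ EtModW.pull Λ i) ∧ ∃ (Y : ARSys.PS (EtModW.Mod Λ A)) (v : Y ⟶ (F ⋙ EtModW.pull Λ i)), ARSys.IsAdic I Y ∧ (∀ n : ℕ, EtModW.IsConstructible Λ (Y.obj (op n))) ∧ ARSys.IsARIso v)) :=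
  by
  constructor
  · intro h
    haveI := Groth.Agent.Six47.preservesFiniteColimits_pullMod Λ i
    haveI := Groth.Agent.Six47.preservesFiniteColimits_pullMod Λ j
    exact ⟨Groth.Agent.EtModAR45.arAdic_map (EtModW.pull Λ j) (P := EtModW.IsConstructible Λ)
        (Q := EtModW.IsConstructible Λ) (fun M hM => Groth.Agent.ModCons93.isConstructible_pull j hM) h,
      Groth.Agent.EtModAR45.arAdic_map (EtModW.pull Λ i) (P := EtModW.IsConstructible Λ)
        (Q := EtModW.IsConstructible Λ) (fun M hM => Groth.Agent.ModCons93.isConstructible_pull i hM) h⟩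
  · rintro ⟨⟨-, Y, v, hY, -, hv⟩, ⟨-, Y', v', hY', -, hv'⟩⟩
    refine Groth.Agent.EtModAR45.arAdic_of_pieces hk hc (fun b : Bool => bif b then U else A)
      (fun b => match b with | true => j | false => i) (fun K _ _ η => ?_)
      (fun b => match b with | true => ⟨Y, v, hY, hv⟩ | false => ⟨Y', v', hY', hv'⟩)
    by_cases h : η default ∈ Set.range j
    · obtain ⟨ζ, hζ⟩ := Groth.Agent.Cons51.exists_lift η j (by
        rintro _ ⟨a, rfl⟩
        rw [Groth.Agent.Unr55.EtSh.default_eq a]
        exact h)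
      exact ⟨true, ζ, hζ⟩
    · obtain ⟨ζ, hζ⟩ := Groth.Agent.Cons51.exists_lift η i (by
        rintro _ ⟨a, rfl⟩
        rw [Groth.Agent.Unr55.EtSh.default_eq a]
        exact hAU.ge h)
      exact ⟨false, ζ, hζ⟩

end Groth.Agent.S13615
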