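import Groth.Statements.S13621
import Groth.Agent.AR46.Shift
-- import your own Groth.Agent.* helpers here

set_option autoImplicit false
open CategoryTheory CategoryTheory.Limits Opposite
universe v u
open ARSys

namespace Groth.Agent.S13621

open Groth.Agent.AR46

/-- The inverse limit is a well-defined functor on projective systems up to translation. Concretely: in
an abelian category with limits of shape ℕᵒᵖ, a morphism u : X ⟶ Y of projective systems indexed by
the natural numbers whose kernel and cokernel are null up to translation induces an isomorphism lim
X ⟶ lim Y. (The published statement is the functoriality of lim on the category of systems up to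
translation; combined with the description of isomorphisms there as the morphisms with null kernel
and cokernel, this is the form stated.) -/
theorem result {C : Type u} [Category.{v} C] [Abelian C] [HasLimitsOfShape ℕᵒᵖ C]
    {X Y : ARSys.PS C} (u : X ⟶ Y) (hu : ARSys.IsARIso u) : IsIso (limMap u) := by
  obtain ⟨s, w, hw⟩ := (isARIso_iff_exists_shiftInverse u).1 hu
  let c : Cone X :=
    { pt := limit Y
      π :=
        { app := fun n => limit.π Y (op (n.unop + s)) ≫ w n.unop
          naturality := fun n m f => by
            refine (Category.id_comp _).trans ?_
            rw [Category.assoc]
            change _ = _ ≫ w n.unop ≫ ARSys.tr X f.unop.le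
            rw [← hw.natural, limit.w_assoc] } }
  refine ⟨limit.lift X c, ?_, ?_⟩
  · refine limit.hom_ext fun n => ?_
    simp only [Category.assoc, limit.lift_π, limMap_π_assoc, c, Category.id_comp]
    rw [hw.comp_inv]
    exact limit.w X _
  · refine limit.hom_ext fun n => ?_
    simp only [Category.assoc, limMap_π, limit.lift_π_assoc, c, Category.id_comp]
    rw [hw.inv_comp]
    exact limit.w Y _

end Groth.Agent.S13621
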