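import Groth.Statements.S13622
import Groth.Agent.AdicC27.Limit
import Mathlib.RingTheory.AdicCompletion.Functoriality
import Mathlib.RingTheory.AdicCompletion.Algebra

set_option autoImplicit false
universe u v
open CAlg

namespace Groth.Agent.S13622

/-- Let A be a commutative ring, I a finitely generated ideal and (M_n) an inverse system of finitely
generated A-modules whose transition maps f_n : M_(n+1) → M_n are surjective with kernel I^(n+1)
M_(n+1), and with I^(n+1) M_n = 0 for all n. If L is an inverse limit of the system (projections π_n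
compatible with the f_n, jointly injective, every compatible family lifting to L), endowed with a
module structure over the I-adic completion A^ of A that is compatible with its A-module structure,
then L is finitely generated as an A^-module. No completeness of A is assumed. -/
theorem result
    (A : Type u) [CommRing A] (I : Ideal A) (hI : I.FG)
    (M : ℕ → Type v) [∀ n, AddCommGroup (M n)] [∀ n, Module A (M n)] [∀ n, Module.Finite A (M n)]
    (f : ∀ n, M (n + 1) →ₗ[A] M n) (hf : ∀ n, Function.Surjective (f n))
    (hker : ∀ n, LinearMap.ker (f n) = I ^ (n + 1) • (⊤ : Submodule A (M (n + 1))))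
    (hkill : ∀ n, I ^ (n + 1) • (⊤ : Submodule A (M n)) = ⊥)
    (L : Type v) [AddCommGroup L] [Module A L] (π : ∀ n, L →ₗ[A] M n)
    (hπ : ∀ n, f n ∘ₗ π (n + 1) = π n)
    (hinj : ∀ x : L, (∀ n, π n x = 0) → x = 0)
    (hlift : ∀ y : (∀ n, M n), (∀ n, f n (y (n + 1)) = y n) → ∃ x : L, ∀ n, π n x = y n)
    [Module (AdicCompletion I A) L] [IsScalarTower A (AdicCompletion I A) L] :
    Module.Finite (AdicCompletion I A) L := by
  let S : Groth.Agent.AdicC27.LimSys I M L := ⟨f, hf, hker, π, hπ, hinj, hlift⟩
  obtain ⟨m, g, hg⟩ := Module.Finite.exists_fin' A (M 0)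
  choose e he using fun i => S.π_surjective 0 (g (Pi.single i 1))
  let Ah := AdicCompletion I A
  let P := AdicCompletion I (Fin m → A)
  haveI : IsAdicComplete I P := AdicCompletion.isAdicComplete hI
  let ψ : P →ₗ[Ah] L := Fintype.linearCombination Ah e ∘ₗ (AdicCompletion.piEquivFin I m).toLinearMap
  let φ : P →ₗ[A] L := ψ.restrictScalars A
  have h0 : Function.Surjective (S.π 0 ∘ₗ φ) := fun y => by
    obtain ⟨a, rfl⟩ := hg y
    refine ⟨(AdicCompletion.piEquivFin I m).symm fun i => algebraMap A Ah (a i), ?_⟩
    show S.π 0 (Fintype.linearCombination Ah e ((AdicCompletion.piEquivFin I m) _)) = g a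
    rw [LinearEquiv.apply_symm_apply, Fintype.linearCombination_apply, map_sum]
    conv_rhs => rw [← (Pi.basisFun A (Fin m)).sum_repr a, map_sum]
    refine Finset.sum_congr rfl fun i _ => ?_
    rw [algebraMap_smul, map_smul, he, map_smul, Pi.basisFun_apply, Pi.basisFun_repr]
  have hs := S.comp_surjective φ h0
  refine Module.Finite.of_surjective (Fintype.linearCombination Ah e) fun x => ?_
  obtain ⟨p, hp⟩ := hs 0 (S.π 0 x)
  obtain ⟨q, -, hq⟩ := S.ker_π_le_map φ hs 0 (x := x - φ p) (by
    rw [LinearMap.mem_ker, map_sub, sub_eq_zero]; exact hp.symm)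
  refine ⟨AdicCompletion.piEquivFin I m (q + p), ?_⟩
  show φ (q + p) = x
  rw [map_add, hq, sub_add_cancel]

end Groth.Agent.S13622
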