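import Groth.Statements.S13623
import Mathlib.RingTheory.LocalRing.Module
import Mathlib.RingTheory.Spectrum.Prime.Module
import Mathlib.RingTheory.GradedAlgebra.Basic
import Mathlib.FieldTheory.IsAlgClosed.AlgebraicClosure
import Mathlib.LinearAlgebra.TensorProduct.RightExactness
import Mathlib.RingTheory.LocalRing.ResidueField.Ideal
import Mathlib.LinearAlgebra.Dimension.Constructions

set_option autoImplicit false
universe u
open TensorProduct
open CAlg

namespace Groth.Agent.S13623

open TensorProduct in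

/-- Let A be a commutative ring and B a commutative A-algebra, graded by A-submodules B_m (m ≥ 0)
forming a graded-algebra structure, such that every B_m is a finitely generated A-module. If for
every algebraically closed field k and every A-algebra structure on k the k-algebra k ⊗_A B is
generated by the image of B_1 under b ↦ 1 ⊗ b, then its degree-one part B_1 generates the A-algebra
B. (Algebraically closed fields are taken in the universe of A.) -/
theorem result
    (A : Type u) [CommRing A] (B : Type u) [CommRing B] [Algebra A B]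
    (𝒜 : ℕ → Submodule A B) [GradedAlgebra 𝒜]
    (hfin : ∀ m : ℕ, Module.Finite A (𝒜 m))
    (hgen : ∀ (k : Type u) [Field k] [IsAlgClosed k] [Algebra A k],
      Algebra.adjoin k ((Algebra.TensorProduct.includeRight : B →ₐ[A] k ⊗[A] B) '' (𝒜 1 : Set B)) = ⊤) :
    Algebra.adjoin A (𝒜 1 : Set B) = ⊤ := by
  classical
  let S := Algebra.adjoin A (𝒜 1 : Set B)
  suffices h : ∀ m, (𝒜 m : Submodule A B) ≤ S.toSubmodule by
    rw [eq_top_iff]
    rintro b -
    rw [← DirectSum.sum_support_decompose 𝒜 b]
    exact S.toSubmodule.sum_mem fun i _ => h i (SetLike.coe_mem _)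
  intro m
  let P : Submodule A (𝒜 m) := S.toSubmodule.comap (𝒜 m).subtype
  suffices hP : Subsingleton ((𝒜 m) ⧸ P) by
    intro x hx
    have : (⟨x, hx⟩ : 𝒜 m) ∈ P := by rw [Submodule.Quotient.subsingleton_iff.1 hP]; trivial
    exact this
  let C := (𝒜 m) ⧸ P
  by_contra hC
  haveI : Nontrivial C := not_subsingleton_iff_nontrivial.1 hC
  haveI := hfin m
  obtain ⟨p, hp⟩ := Module.nonempty_support_of_nontrivial (R := A) (M := C)
  rw [Module.mem_support_iff_nontrivial_residueField_tensorProduct] at hp
  let κ := p.asIdeal.ResidueField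
  let k := AlgebraicClosure κ
  let π : B →ₗ[A] C := P.mkQ ∘ₗ ((DFinsupp.lapply m : (DirectSum ℕ fun i => 𝒜 i) →ₗ[A] 𝒜 m) ∘ₗ
    (DirectSum.decomposeLinearEquiv 𝒜).toLinearMap)
  have hπs : Function.Surjective π := fun c => by
    obtain ⟨c, rfl⟩ := Submodule.Quotient.mk_surjective _ c
    refine ⟨c, ?_⟩
    show P.mkQ ((DirectSum.decompose 𝒜 (c : B)) m) = _
    rw [DirectSum.decompose_coe, DirectSum.of_eq_same]; rfl
  let Φ := π.baseChange k
  have hΦs : Function.Surjective Φ := LinearMap.lTensor_surjective k hπs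
  have hgr : ∀ x ∈ Submonoid.closure (𝒜 1 : Set B), x ∈ S ∧ ∃ j, x ∈ 𝒜 j := by
    intro x hx
    induction hx using Submonoid.closure_induction with
    | mem x hx => exact ⟨Algebra.subset_adjoin hx, 1, hx⟩
    | one => exact ⟨one_mem _, 0, SetLike.one_mem_graded 𝒜⟩
    | mul x y _ _ hx hy =>
      obtain ⟨hx, i, hi⟩ := hx; obtain ⟨hy, j, hj⟩ := hy
      exact ⟨mul_mem hx hy, i + j, SetLike.mul_mem_graded hi hj⟩
  have hzero : Φ = 0 := by
    have hspan : Submodule.span k (Submonoid.closure
        ((Algebra.TensorProduct.includeRight : B →ₐ[A] k ⊗[A] B) '' (𝒜 1 : Set B)) : Set (k ⊗[A] B)) = ⊤ := by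
      rw [← Algebra.adjoin_eq_span, hgen k, Algebra.top_toSubmodule]
    refine LinearMap.ext_on hspan ?_
    intro z hz
    have hz' : z ∈ (Submonoid.closure (𝒜 1 : Set B)).map
        (Algebra.TensorProduct.includeRight : B →ₐ[A] k ⊗[A] B).toMonoidHom := by
      rw [MonoidHom.map_mclosure]; exact hz
    obtain ⟨x, hx, rfl⟩ := hz'
    obtain ⟨hxS, j, hj⟩ := hgr x hx
    show π.baseChange k ((1 : k) ⊗ₜ x) = 0
    rw [LinearMap.baseChange_tmul, show π x = 0 from ?_, TensorProduct.tmul_zero]
    show P.mkQ ((DirectSum.decompose 𝒜 x) m) = 0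
    rw [Submodule.mkQ_apply, Submodule.Quotient.mk_eq_zero]
    show ((DirectSum.decompose 𝒜 x) m : B) ∈ S.toSubmodule
    rcases eq_or_ne j m with rfl | hne
    · rw [DirectSum.decompose_of_mem_same 𝒜 hj]; exact hxS
    · rw [DirectSum.decompose_of_mem_ne 𝒜 hj hne]; exact zero_mem _
  haveI hk : Subsingleton (k ⊗[A] C) := subsingleton_of_forall_eq 0 fun z => by
    obtain ⟨z, rfl⟩ := hΦs z
    rw [hzero]; rfl
  have e := (TensorProduct.AlgebraTensorModule.cancelBaseChange A κ k k C).finrank_eq
  rw [Module.finrank_baseChange, Module.finrank_zero_of_subsingleton (M := k ⊗[A] C)] at e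
  exact not_subsingleton_iff_nontrivial.2 hp (Module.finrank_zero_iff.1 e)

end Groth.Agent.S13623
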