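import Groth.Statements.S13626
import Groth.Agent.TopCoh49.Compare
import Groth.Agent.GSS45.SchemeSS
import Groth.Agent.Coh69.OpenSub
import Groth.Agent.Coh69.Sections
import Groth.Agent.QC70.ExtZero
import Groth.Agent.ValVan29.PushTwist
import Groth.Agent.Amp73.PullTensor
import Groth.Agent.EGA73.Tensor
import Groth.Agent.TopCoh49.MV

set_option autoImplicit false
universe u
open CategoryTheory CategoryTheory.Limits AlgebraicGeometry
open Coh

namespace Groth.Agent.S13626

set_option backward.isDefEq.respectTransparency.types false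
open Groth.Agent.Coh69 Limits in
theorem bijective_emap_toAb {X : Scheme.{u}} (W : X.Opens) {A B : X.Modules} (φ : A ⟶ B)
    [hφ : IsIso ((Scheme.Modules.restrictFunctor W.ι).map φ)] (n : ℕ) {V : X.Opens} (hV : V ≤ W) :
    Function.Bijective (TopCoh49.emap ((SheafOfModules.toSheaf X.ringCatSheaf).map φ) n (V : TopologicalSpace.Opens X)) := by
  let hj := W.ι.isOpenEmbedding
  haveI : IsIso ((restrSh hj).map ((SheafOfModules.toSheaf X.ringCatSheaf).map φ)) :=
    ((SheafOfModules.toSheaf W.toScheme.ringCatSheaf).mapIso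
      (@asIso _ _ _ _ ((Scheme.Modules.restrictFunctor W.ι).map φ) hφ)).isIso_hom
  have h := bijective_HE_of_isIso_restr hj ((SheafOfModules.toSheaf X.ringCatSheaf).map φ) n (W.ι ⁻¹ᵁ V)
  have e : W.ι ''ᵁ (W.ι ⁻¹ᵁ V) = V := by
    rw [Scheme.Hom.image_preimage_eq_opensRange_inf, Scheme.Opens.opensRange_ι, inf_eq_right.2 hV]
  have key : ∀ V' : X.Opens, W.ι ''ᵁ (W.ι ⁻¹ᵁ V) = V' →
      Function.Bijective (TopCoh49.emap ((SheafOfModules.toSheaf X.ringCatSheaf).map φ) n (V' : TopologicalSpace.Opens X)) := by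
    rintro _ rfl
    exact h
  exact key V e

/-- Let f : X → Y be a morphism of schemes with R^i f_* O_X = 0 for every i ≥ 1 and f_* O_X ≅ O_Y. Then
for every invertible O_Y-module L and every p ≥ 0 the groups H^p(X, f^* L) and H^p(Y, L) are
isomorphic (existence of a group isomorphism; the higher direct images are the right derived
functors of f_* on O_X-modules, under the instance argument recording that O_X-modules have
injective resolutions). -/
theorem result
    {X Y : Scheme.{u}} (f : X ⟶ Y) [HasInjectiveResolutions X.Modules]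
    (hR : ∀ i : ℕ, IsZero ((Coh.Rpush f (i + 1)).obj (Coh.structureModule X)))
    (h0 : Nonempty ((Coh.push f).obj (Coh.structureModule X) ≅ Coh.structureModule Y))
    (L : Y.Modules) (hL : PicF.IsInvertible L) (p : ℕ) :
    Nonempty (Coh.HH X ((Scheme.Modules.pullback f).obj L) p ≃+ Coh.HH Y L p) := by
  let M := (Scheme.Modules.pullback f).obj L
  have hz : ∀ i, IsZero ((Coh.RpushAb f (i + 1)).obj (Coh.toAb (Coh.structureModule X))) := fun i => by
    obtain ⟨e⟩ := Groth.Agent.GSS45.nonempty_toAb_Rpush f (Coh.structureModule X) (i + 1)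
    exact (Functor.map_isZero (SheafOfModules.toSheaf Y.ringCatSheaf) (hR i)).of_iso e.symm
  have hO := TopCoh49.locallyAcyclic_of_isZero_Rpush f.base (Coh.toAb (Coh.structureModule X)) hz
  have hM : TopCoh49.LocallyAcyclic f.base (Coh.toAb M) := by
    intro q U s y hy
    obtain ⟨W, hyW, ⟨i⟩⟩ := hL y
    let V' := f ⁻¹ᵁ W
    let θ₁ : M.restrict V'.ι ≅ Coh.structureModule V'.toScheme :=
      ((Amp73.pullRestrictIso f W).app L).symm ≪≫
        (Scheme.Modules.pullback (f ∣_ W)).mapIso
          (((Scheme.Modules.restrictFunctorIsoPullback W.ι).app L).symm ≪≫ i) ≪≫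
        PicLoc.pullbackStructureIso (f ∣_ W)
    let θ₂ : (Coh.structureModule X).restrict V'.ι ≅ Coh.structureModule V'.toScheme :=
      (Scheme.Modules.restrictFunctorIsoPullback V'.ι).app _ ≪≫ PicLoc.pullbackStructureIso V'.ι
    let J := CxOX.extZeroUnit V'.ι
    let φ₁ : J ⟶ M := ((CxOX.extZeroAdj V'.ι).homEquiv _ _).symm θ₁.inv
    let φ₂ : J ⟶ Coh.structureModule X := ((CxOX.extZeroAdj V'.ι).homEquiv _ _).symm θ₂.inv
    have hiso : ∀ {A : X.Modules} (θ : A.restrict V'.ι ≅ Coh.structureModule V'.toScheme),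
        IsIso ((Scheme.Modules.restrictFunctor V'.ι).map
          (((CxOX.extZeroAdj V'.ι).homEquiv _ _).symm θ.inv : J ⟶ A)) := by
      intro A θ
      have h := (CxOX.extZeroAdj V'.ι).homEquiv_unit (X := Coh.structureModule V'.toScheme) (Y := A)
        (f := ((CxOX.extZeroAdj V'.ι).homEquiv _ _).symm θ.inv)
      rw [Equiv.apply_symm_apply] at h
      haveI : IsIso ((CxOX.extZeroAdj V'.ι).unit.app (Coh.structureModule V'.toScheme) ≫
          (Scheme.Modules.restrictFunctor V'.ι).map
            (((CxOX.extZeroAdj V'.ι).homEquiv _ _).symm θ.inv : J ⟶ A)) := by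
        rw [← h]; infer_instance
      exact IsIso.of_isIso_comp_left ((CxOX.extZeroAdj V'.ι).unit.app _) _
    haveI : IsIso ((Scheme.Modules.restrictFunctor V'.ι).map φ₁) := hiso θ₁
    haveI : IsIso ((Scheme.Modules.restrictFunctor V'.ι).map φ₂) := hiso θ₂
    let W₁ : Y.Opens := U ⊓ W
    have hW₁ : f ⁻¹ᵁ W₁ ≤ V' := f.preimage_mono inf_le_right
    have hUW : (TopologicalSpace.Opens.map f.base).obj W₁ ≤ (TopologicalSpace.Opens.map f.base).obj U :=
      f.preimage_mono inf_le_left
    obtain ⟨c, hc⟩ := (bijective_emap_toAb V' φ₁ (q + 1) hW₁).2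
      (TopCoh49.eres (Coh.toAb M) (q + 1) hUW s)
    obtain ⟨V, hV, hyV, h0⟩ := hO q W₁
      (TopCoh49.emap ((SheafOfModules.toSheaf X.ringCatSheaf).map φ₂) (q + 1) _ c) y ⟨hy, hyW⟩
    have hVV : f ⁻¹ᵁ V ≤ V' := (f.preimage_mono hV).trans hW₁
    rw [TopCoh49.eres_emap] at h0
    have hc0 := (bijective_emap_toAb V' φ₂ (q + 1) hVV).1
      (h0.trans (map_zero (TopCoh49.emap ((SheafOfModules.toSheaf X.ringCatSheaf).map φ₂) (q + 1) _)).symm)
    refine ⟨V, hV.trans inf_le_left, hyV, ?_⟩
    have h2 := congrArg (TopCoh49.eres (Coh.toAb M) (q + 1) ((TopologicalSpace.Opens.map f.base).monotone hV)) hc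
    erw [TopCoh49.eres_emap, hc0, map_zero] at h2
    exact (TopCoh49.eres_eres (Coh.toAb M) (q + 1) hUW ((TopologicalSpace.Opens.map f.base).monotone hV) s).symm.trans h2.symm
  obtain ⟨e1⟩ := TopCoh49.push_compare_H f.base (Coh.toAb M) hM p
  obtain ⟨eO⟩ := h0
  let eL : (Coh.push f).obj M ≅ L :=
    (Coh.push f).mapIso (EGA73.tensUnitLeft M).symm ≪≫
      (Groth.Agent.ValVan29.projIso f (Coh.structureModule X) L hL).symm ≪≫
      EGA73.tensIso eO (Iso.refl L) ≪≫ EGA73.tensUnitLeft L
  let eA := (SheafOfModules.toSheaf Y.ringCatSheaf).mapIso eL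
  exact ⟨e1.trans ((Sheaf.functorH _ p).mapIso eA).addCommGroupIsoToAddEquiv⟩

end Groth.Agent.S13626
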