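import Groth.Statements.S13629
import Groth.Agent.FGA29.EulerLC
import Groth.Agent.FGA29.IntNumBC
import Groth.Agent.PicLim95.Basic
import Groth.Agent.Cube73.Semicont

set_option autoImplicit false
universe u
open CategoryTheory CategoryTheory.Limits AlgebraicGeometry Opposite
open FGA

namespace Groth.Agent.S13629

open scoped Groth.Agent.FGA29

/-- Let f : X → Y be a proper, flat morphism of schemes, locally of finite presentation, whose
scheme-theoretic fibres X_y all have Krull dimension at most 2, and let L be an invertible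
O_X-module with a tensor inverse M (M ⊗ L ≅ O_X). Then the self-intersection number (L_y · L_y) of
the restriction of L to the fibre X_y over κ(y), namely the alternating sum χ(O_{X_y}) − 2χ(M_y) +
χ(M_y ⊗ M_y) of Euler characteristics in degrees ≤ 2, is a locally constant function of y: every
point y₀ of Y has an open neighbourhood on which it equals its value at y₀. (The published statement
is the case where the fibres are integral normal Gorenstein surfaces and L is the relative dualizing
sheaf, so that the number is the self-intersection K² of the canonical class of the fibre; the fibre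
X_y is regarded as a scheme over Spec κ(y) through the second projection.) -/
theorem result
    {X Y : Scheme.{u}} (f : X ⟶ Y) [IsProper f] [Flat f] [LocallyOfFinitePresentation f]
    (hdim : ∀ y : Y, topologicalKrullDim ↥(f.fiber y) ≤ 2)
    (L M : X.Modules) (hL : PicF.IsInvertible L) (hM : ClSub.IsInverseOf M L) (y₀ : Y) :
    ∃ U : Y.Opens, y₀ ∈ U ∧ ∀ y : Y, y ∈ U →
      @FGA.intNum ↥(Y.residueField y) _ (f.fiber y) ⟨f.fiberToSpecResidueField y⟩ 2 2
            ![(Scheme.Modules.pullback (f.fiberι y)).obj M, (Scheme.Modules.pullback (f.fiberι y)).obj M]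
            (Coh.structureModule (f.fiber y)) =
        @FGA.intNum ↥(Y.residueField y₀) _ (f.fiber y₀) ⟨f.fiberToSpecResidueField y₀⟩ 2 2
            ![(Scheme.Modules.pullback (f.fiberι y₀)).obj M, (Scheme.Modules.pullback (f.fiberι y₀)).obj M]
            (Coh.structureModule (f.fiber y₀)) := by
  obtain ⟨e⟩ := hM
  have hMi : PicF.IsInvertible M := Inv57.isInvertible_of_tensorMod_iso e
  let M' : Fin 2 → X.Modules := ![M, M]
  have hM' : ∀ i, PicF.IsInvertible (M' i) := fun i => by fin_cases i <;> exact hMi
  let T : Finset (Fin 2) → X.Modules := fun I => Cyc90.Dev.famTensor M' I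
  have hT : ∀ I, PicF.IsInvertible (T I) := fun I => Cyc90.Dev.isInvertible_famTensor hM' I
  let χ : Finset (Fin 2) → Y → ℤ := fun I y => @FGA.eulerCharLE ↥(Y.residueField y) _ (f.fiber y)
    ⟨f.fiberToSpecResidueField y⟩ ((Scheme.Modules.pullback (f.fiberι y)).obj (T I)) 2
  have hχ : ∀ I, IsLocallyConstant (χ I) := fun I =>
    haveI := Mero90.isQCoh_of_isInvertible (hT I)
    FGA29.EulerLC.isLocallyConstant_eulerCharLE f (T I) (PicLim95.isFP_of_isInvertible (hT I))
      (Cube73.isFlatOver_of_isInvertible f (hT I)) 2 hdim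
  have key : ∀ y : Y, @FGA.intNum ↥(Y.residueField y) _ (f.fiber y) ⟨f.fiberToSpecResidueField y⟩ 2 2
      ![(Scheme.Modules.pullback (f.fiberι y)).obj M, (Scheme.Modules.pullback (f.fiberι y)).obj M]
      (Coh.structureModule (f.fiber y)) = ∑ I : Finset (Fin 2), (-1 : ℤ) ^ I.card * χ I y := fun y => by
    letI : (f.fiber y).Over (Spec (CommRingCat.of ↥(Y.residueField y))) := ⟨f.fiberToSpecResidueField y⟩
    refine Finset.sum_congr rfl fun I _ => congrArg _ (Finset.sum_congr rfl fun n _ => ?_)
    have hcl : PicF.cl (CohB1.tensorMod (Cyc90.Dev.famTensor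
        ![(Scheme.Modules.pullback (f.fiberι y)).obj M, (Scheme.Modules.pullback (f.fiberι y)).obj M] I)
        (Coh.structureModule (f.fiber y))) =
        PicF.cl ((Scheme.Modules.pullback (f.fiberι y)).obj (T I)) := by
      rw [FGA29.cl_tensor, FGA29.cl_one, mul_one, FGA29.cl_famTensor]
      show _ = FGA29.pullClHom (f.fiberι y) (PicF.cl (Cyc90.Dev.famTensor M' I))
      rw [FGA29.cl_famTensor, map_prod]
      refine Finset.prod_congr rfl fun i _ => ?_
      fin_cases i <;> rfl
    obtain ⟨i⟩ := FGA29.nonempty_iso_of_cl hcl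
    exact congrArg (fun m : ℕ => (-1 : ℤ) ^ n * (m : ℤ))
      (Crv77.hEquiv ↥(Y.residueField y) i n).finrank_eq
  have hev := Filter.eventually_all.2 fun I => (hχ I).eventually_eq y₀
  obtain ⟨U, hU, hUo, hy₀⟩ := mem_nhds_iff.1 hev
  refine ⟨⟨U, hUo⟩, hy₀, fun y hy => ?_⟩
  rw [key, key]
  exact Finset.sum_congr rfl fun I _ => by rw [hU hy I]

end Groth.Agent.S13629
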