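import Groth.Statements.S1363
import Mathlib
import Groth.Agent.Count62.SteinCount
import Groth.Agent.CohFlat58.FlatModel
import Groth.Agent.S1335

set_option autoImplicit false
set_option linter.style.haveILetI false
set_option linter.style.longLine false
universe u
open FlatMor

namespace Groth.Agent.S1363

open AlgebraicGeometry CategoryTheory Limits in
/-- For a flat proper morphism of finite presentation, the function on the target counting the connected
components of the geometric fibres is lower semicontinuous. -/
theorem result {X S : Scheme.{u}} (f : X ⟶ S) [IsProper f] [Flat f] [LocallyOfFinitePresentation f] :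
    LowerSemicontinuous (fun s : ↑S => MoreMor.nGeomConnComp f s) := by
  intro s a ha
  obtain ⟨U, hU, hsU, -⟩ := exists_isAffineOpen_mem_and_subset (U := ⊤) (TopologicalSpace.Opens.mem_top s)
  let R := Γ(S, U)
  let j : Spec R ⟶ S := hU.fromSpec
  have sq : IsPullback (pullback.fst f j) (pullback.snd f j) f j := IsPullback.of_hasPullback f j
  obtain ⟨A₁, _, _, _, X₁, f₁, _, _, g, hg⟩ := CohFlat58.exists_proper_flat_model R (pullback.snd f j)
  haveI : IsNoetherian (Spec (CommRingCat.of A₁)) := inferInstance
  haveI : LocallyOfFinitePresentation f₁ := inferInstance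
  haveI : UniversallyOpen f₁ := inferInstance
  let π : Spec R ⟶ Spec (CommRingCat.of A₁) := Spec.map (CommRingCat.ofHom (algebraMap A₁ R))
  have key : ∀ z, MoreMor.nGeomConnComp f (j z) = MoreMor.nGeomConnComp f₁ (π z) := fun z =>
    (S1335.result f (pullback.snd f j) (pullback.fst f j) j sq z).symm.trans
      (S1335.result f₁ (pullback.snd f j) g π hg z)
  obtain ⟨z, rfl⟩ : s ∈ Set.range j := hU.range_fromSpec.ge hsU
  have h1 : ∀ᶠ w in nhds z, MoreMor.nGeomConnComp f (j z) ≤ MoreMor.nGeomConnComp f (j w) := by
    have h := π.continuous.continuousAt.eventually (Count62.eventually_le_of_proper_univOpen f₁ (π z)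
      fun x _ => Count62.isOpenAt_of_universallyOpen f₁ x)
    exact h.mono fun w hw => by rw [key, key]; exact hw
  rw [← j.isOpenEmbedding.map_nhds_eq, Filter.eventually_map]
  exact h1.mono fun w hw => lt_of_lt_of_le ha hw

end Groth.Agent.S1363
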