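import Groth.Statements.S13630
import Groth.Agent.FBase64.ExtPow.DelPezzo
import Mathlib.AlgebraicGeometry.Morphisms.LocalFlatDescent
import Mathlib.AlgebraicGeometry.Sites.Fpqc

set_option autoImplicit false
universe u
open CategoryTheory CategoryTheory.Limits AlgebraicGeometry Opposite
open FBase

namespace Groth.Agent.S13630

/-- Say that a morphism of schemes p : S → T is a family of del Pezzo surfaces when p is proper and
smooth (hence of finite presentation) and for every algebraically closed field k and every morphism
Spec k → T the fibre S_k = S ×_T Spec k is an integral scheme of Krull dimension 2 whose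
anti-canonical sheaf is ample — there are a second exterior power ω of the sheaf of differentials of
S_k → Spec k and a tensor inverse D of ω with D ample. This property descends along flat,
surjective, quasi-compact morphisms: if T' → T is such a morphism and the base change S ×_T T' → T'
is a family of del Pezzo surfaces, then so is p. (Stated for a single quasi-compact faithfully flat
base change; together with Zariski-locality on T this is locality for the fpqc topology. Fields are
taken in the universe of the schemes. The published statement is that families of del Pezzo surfaces
form a stack for the étale topology; this row is the locality of the family condition that its proof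
establishes.) -/
theorem result :
    MorphismProperty.DescendsAlong
      (fun ⦃S T : Scheme.{u}⦄ (p : S ⟶ T) =>
        IsProper p ∧ Smooth p ∧
          ∀ (k : Type u) [Field k] [IsAlgClosed k] (σ : Spec (CommRingCat.of k) ⟶ T),
            IsIntegral (pullback p σ) ∧ topologicalKrullDim ↥(pullback p σ) = 2 ∧
              ∃ ω D : (pullback p σ).Modules, Canon.IsTopDiff (pullback.snd p σ) 2 ω ∧
                ClSub.IsInverseOf D ω ∧ CohB1.IsAmple D)
      (@Surjective ⊓ @Flat ⊓ @QuasiCompact : MorphismProperty Scheme.{u}) := by
  refine ⟨fun {A X Y Z fst snd f g} sq hf hfst => ?_⟩
  obtain ⟨h1, h2, h3⟩ := hfst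
  have := Groth.Agent.Unr55.isProper.{u}
  have hd : MorphismProperty.DescendsAlong @Smooth Groth.Agent.Unr55.fpqc.{u} := by infer_instance
  have hp : IsProper g := MorphismProperty.of_isPullback_of_descendsAlong (P := @IsProper) (Q := Groth.Agent.Unr55.fpqc) sq hf h1
  have : Surjective f := hf.1.1
  exact ⟨hp, MorphismProperty.of_isPullback_of_descendsAlong (P := @Smooth) (Q := Groth.Agent.Unr55.fpqc) sq hf h2,
    fun k _ _ σ => Groth.Agent.FBase64.DelPezzo.good_fibres_of_baseChange sq.flip h3 k σ⟩

end Groth.Agent.S13630
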