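import Groth.Statements.S13631
import Mathlib.LinearAlgebra.Determinant
import Mathlib.LinearAlgebra.FreeModule.Finite.Basic
import Mathlib.RingTheory.Finiteness.Basic
import Mathlib.Algebra.Module.Projective

set_option autoImplicit false
universe u v w
open CAlg

namespace Groth.Agent.S13631

/-- Let k be a field, R an integral domain which is a k-algebra of infinite dimension over k, M a finite
free R-module, σ a ring automorphism of R mapping the image of k onto itself, and φ : M → M a
σ-semilinear map. If the cokernel of φ is finite-dimensional over k, in the sense that some finitely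
generated k-subspace N of M satisfies M = N + φ(M), then φ is injective. -/
theorem result
    {k : Type u} {R : Type v} {M : Type w} [Field k] [CommRing R] [IsDomain R] [Algebra k R]
    (hR : ¬ Module.Finite k R)
    [AddCommGroup M] [Module R M] [Module k M] [IsScalarTower k R M]
    [Module.Finite R M] [Module.Free R M]
    (σ : R ≃+* R)
    (hσ : ∀ x : k, ∃ y : k, σ (algebraMap k R x) = algebraMap k R y)
    (hσ' : ∀ y : k, ∃ x : k, σ (algebraMap k R x) = algebraMap k R y)
    (φ : M →ₛₗ[(σ : R →+* R)] M)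
    (hcoker : ∃ N : Submodule k M, N.FG ∧ ∀ m : M, ∃ n ∈ N, ∃ m' : M, m = n + φ m') :
    Function.Injective φ := by
  classical
  let S : Submodule R M :=
    { carrier := Set.range φ
      add_mem' := fun ⟨a, ha⟩ ⟨b, hb⟩ => ⟨a + b, by rw [map_add, ha, hb]⟩
      zero_mem' := ⟨0, map_zero φ⟩
      smul_mem' := fun r _ ⟨a, ha⟩ => ⟨σ.symm r • a, by rw [map_smulₛₗ, ha]; simp⟩ }
  let Sk := S.restrictScalars k
  obtain ⟨N, hN, hcok⟩ := hcoker
  haveI : Module.Finite k N := Module.Finite.iff_fg.2 hN
  haveI : Module.Finite k (M ⧸ Sk) := Module.Finite.of_surjective (Sk.mkQ ∘ₗ N.subtype) fun z => by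
    obtain ⟨m, rfl⟩ := Submodule.Quotient.mk_surjective _ z
    obtain ⟨n, hn, m', rfl⟩ := hcok m
    refine ⟨⟨n, hn⟩, (Submodule.Quotient.eq Sk).2 ?_⟩
    show n - (n + φ m') ∈ Sk
    rw [show n - (n + φ m') = -φ m' by abel]
    exact Sk.neg_mem ⟨m', rfl⟩
  have hann : ∀ m : M, ∃ c : R, c ≠ 0 ∧ c • m ∈ S := by
    intro m
    let ρ : R →ₗ[k] M ⧸ Sk := Sk.mkQ ∘ₗ ((LinearMap.toSpanSingleton R M m).restrictScalars k)
    by_contra hcon
    refine hR (Module.Finite.of_injective ρ ((injective_iff_map_eq_zero ρ).2 fun c hc => by_contra fun hne => ?_))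
    exact hcon ⟨c, hne, (Submodule.Quotient.mk_eq_zero Sk).1 hc⟩
  let b := Module.Free.chooseBasis R M
  choose c hc hcS using fun i => hann (b i)
  let d := ∏ i, c i
  have hd : d ≠ 0 := Finset.prod_ne_zero_iff.2 fun i _ => hc i
  let L : M →ₗ[R] M := b.constr ℕ fun i => φ (b i)
  have hL : ∀ m, φ m = L (∑ i, σ (b.repr m i) • b i) := fun m => by
    conv_lhs => rw [← b.sum_repr m, map_sum]
    rw [map_sum]
    refine Finset.sum_congr rfl fun i _ => ?_
    rw [map_smulₛₗ, map_smul, Module.Basis.constr_basis]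
    rfl
  have hsub : ∀ i, ∃ y, L y = d • b i := fun i => by
    obtain ⟨m, hm⟩ : d • b i ∈ S := by
      show d • b i ∈ S
      rw [show d = (∏ j ∈ Finset.univ.erase i, c j) * c i from
        (Finset.prod_erase_mul _ _ (Finset.mem_univ i)).symm, mul_smul]
      exact S.smul_mem _ (hcS i)
    exact ⟨_, (hL m).symm.trans hm⟩
  choose y hy using hsub
  let L' : M →ₗ[R] M := b.constr ℕ y
  have hLL : L ∘ₗ L' = d • LinearMap.id := b.ext fun i => by simp [L', hy]
  have hdet : LinearMap.det L ≠ 0 := by
    intro h0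
    have h1 := congrArg LinearMap.det hLL
    rw [LinearMap.det_comp, h0, zero_mul, LinearMap.det_smul, LinearMap.det_id, mul_one] at h1
    exact pow_ne_zero _ hd h1.symm
  have hker : LinearMap.ker L = ⊥ := by_contra fun h => hdet (LinearMap.det_eq_zero_iff_ker_ne_bot.2 h)
  refine (injective_iff_map_eq_zero φ).2 fun m hm => ?_
  rw [hL, ← LinearMap.mem_ker, hker, Submodule.mem_bot] at hm
  refine b.repr.map_eq_zero_iff.1 (Finsupp.ext fun i => ?_)
  have := Fintype.linearIndependent_iff.1 b.linearIndependent _ hm i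
  simpa using this

end Groth.Agent.S13631
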