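import Groth.Statements.S13632
import Mathlib.RingTheory.Flat.EquationalCriterion
import Mathlib.RingTheory.LocalRing.ResidueField.Ideal
import Mathlib.RingTheory.LocalRing.Module
import Mathlib.RingTheory.Spectrum.Prime.FreeLocus
import Mathlib.RingTheory.Spectrum.Prime.Module
import Mathlib.RingTheory.Nakayama
import Mathlib.RingTheory.FiniteType
import Mathlib.RingTheory.Localization.AtPrime.Basic
import Mathlib.LinearAlgebra.TensorProduct.RightExactness
import Mathlib.RingTheory.TensorProduct.Finite

set_option autoImplicit false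
universe u
open TensorProduct
open CAlg

namespace Groth.Agent.S13632

open TensorProduct in
theorem exists_local_basis {R A : Type u} [CommRing R] [AddCommGroup A] [Module R A] [Module.Finite R A]
    [Module.Flat R A] (p : Ideal R) [p.IsPrime] :
    ∃ (d : ℕ) (a : Fin d → A), (∀ x, ∃ s ∉ p, s • x ∈ Submodule.span R (Set.range a)) ∧
      ∀ c : Fin d → R, ∑ i, c i • a i = 0 → ∀ i, ∃ s ∉ p, s * c i = 0 := by
  classical
  let Rp := Localization.AtPrime p
  let Ap := LocalizedModule p.primeCompl A
  haveI : Module.Free Rp Ap := Module.free_of_flat_of_isLocalRing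
  let v := Module.finBasis Rp Ap
  set d := Module.finrank Rp Ap
  have hv : ∀ i, ∃ (a : A) (s : p.primeCompl), v i = LocalizedModule.mk a s := fun i => by
    induction h : v i using LocalizedModule.induction_on with
    | _ a s => exact ⟨a, s, rfl⟩
  choose a s has using hv
  let w : Fin d → Rpˣ := fun i => (IsLocalization.map_units Rp (s i)).unit
  let v' := v.unitsSMul w
  have hv' : ∀ i, v' i = LocalizedModule.mk (a i) 1 := fun i => by
    rw [Module.Basis.unitsSMul_apply, has, Units.smul_def]
    show algebraMap R Rp (s i : R) • LocalizedModule.mk (a i) (s i) = _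
    rw [algebraMap_smul, LocalizedModule.smul'_mk]
    exact LocalizedModule.mk_cancel (s i) (a i)
  refine ⟨d, a, fun x => ?_, fun c hc i => ?_⟩
  · have hx : LocalizedModule.mk x 1 ∈ Submodule.span Rp (Set.range v') := by rw [v'.span_eq]; trivial
    have key : ∀ y ∈ Submodule.span Rp (Set.range v'), ∃ z ∈ Submodule.span R (Set.range a),
        ∃ t : p.primeCompl, y = LocalizedModule.mk z t := by
      intro y hy
      induction hy using Submodule.span_induction with
      | mem y hy => obtain ⟨j, rfl⟩ := hy; exact ⟨a j, Submodule.subset_span ⟨j, rfl⟩, 1, hv' j⟩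
      | zero => exact ⟨0, zero_mem _, 1, (LocalizedModule.zero_mk _).symm⟩
      | add y₁ y₂ _ _ h₁ h₂ =>
        obtain ⟨z₁, hz₁, t₁, rfl⟩ := h₁; obtain ⟨z₂, hz₂, t₂, rfl⟩ := h₂
        exact ⟨_, add_mem (Submodule.smul_mem _ _ hz₁) (Submodule.smul_mem _ _ hz₂), t₁ * t₂,
          LocalizedModule.mk_add_mk⟩
      | smul r y _ hy =>
        obtain ⟨z, hz, t, rfl⟩ := hy
        obtain ⟨r₁, t₁, rfl⟩ := IsLocalization.exists_mk'_eq p.primeCompl r
        exact ⟨r₁ • z, Submodule.smul_mem _ _ hz, t₁ * t, by rw [← Localization.mk_eq_mk', LocalizedModule.mk_smul_mk]⟩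
    obtain ⟨z, hz, t, ht⟩ := key _ hx
    obtain ⟨u, hu⟩ := LocalizedModule.mk_eq.1 ht
    refine ⟨(u * t : p.primeCompl), (u * t).2, ?_⟩
    rw [Submonoid.coe_mul, mul_smul]
    simp only [Submonoid.smul_def, Submonoid.coe_one, one_smul] at hu
    rw [hu]
    exact Submodule.smul_mem _ _ hz
  · have h := congrArg (LocalizedModule.mkLinearMap p.primeCompl A) hc
    rw [map_sum, map_zero] at h
    rw [Finset.sum_congr rfl (fun i _ => show LocalizedModule.mkLinearMap p.primeCompl A (c i • a i) =
      algebraMap R Rp (c i) • v' i by rw [map_smul, algebraMap_smul, hv']; rfl)] at h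
    have := Fintype.linearIndependent_iff.1 v'.linearIndependent _ h i
    obtain ⟨u, hu⟩ := (IsLocalization.map_eq_zero_iff p.primeCompl Rp (c i)).1 this
    exact ⟨u, u.2, hu⟩

theorem ker_inf_le {R A B : Type u} [CommRing R] [CommRing A] [CommRing B] [Algebra R A] [Algebra R B]
    [Module.Flat R A] (f : B →ₐ[R] A) (hf : Function.Surjective f) (P : Ideal R) :
    RingHom.ker f ⊓ P.map (algebraMap R B) ≤ P.map (algebraMap R B) * RingHom.ker f := by
  classical
  rintro z ⟨hzK, hzI⟩
  have hzI' : z ∈ Submodule.span B (algebraMap R B '' (P : Set R)) := hzI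
  obtain ⟨c, hc⟩ := (Finsupp.mem_span_iff_linearCombination B _ _).1 hzI'
  choose a ha hae using fun x : (algebraMap R B '' (P : Set R)) => x.2
  have hsum : ∑ x : c.support, a x.1 • f (c x.1) = 0 := by
    rw [← show f z = 0 from hzK, ← hc, Finsupp.linearCombination_apply, Finsupp.sum, map_sum]
    refine (Finset.sum_congr rfl fun (x : c.support) _ => ?_).trans
      (Finset.sum_coe_sort c.support (fun x => f (c x • (x : B))))
    rw [smul_eq_mul, map_mul, ← hae x.1, AlgHom.commutes, Algebra.smul_def, mul_comm]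
  obtain ⟨k, m, y, hy, hm⟩ := Module.Flat.isTrivialRelation_of_sum_smul_eq_zero hsum
  choose s hs using fun j => hf (y j)
  have hz : z = ∑ x : c.support, algebraMap R B (a x.1) * (c x.1 - ∑ j, m x j • s j) := by
    have h0 : ∑ x : c.support, algebraMap R B (a x.1) * ∑ j, m x j • s j = 0 := by
      simp only [← Algebra.smul_def, Finset.smul_sum, smul_smul]
      rw [Finset.sum_comm]
      simp only [← Finset.sum_smul, hm, zero_smul, Finset.sum_const_zero]
    simp only [mul_sub, Finset.sum_sub_distrib, h0, sub_zero]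
    rw [← hc, Finsupp.linearCombination_apply, Finsupp.sum, ← Finset.sum_coe_sort]
    refine Finset.sum_congr rfl fun x _ => ?_
    rw [smul_eq_mul, hae x.1, mul_comm]
  rw [hz]
  refine Submodule.sum_mem _ fun x _ => Ideal.mul_mem_mul (Ideal.mem_map_of_mem _ (ha x.1)) ?_
  show f _ = 0
  rw [map_sub, map_sum, sub_eq_zero]
  refine (hy x).trans (Finset.sum_congr rfl fun j _ => by rw [map_smul, hs])

theorem exists_finset_ker {R A B : Type u} [CommRing R] [CommRing A] [CommRing B] [Algebra R A] [Algebra R B]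
    [Module.Finite R A] [Module.Flat R A] [Algebra.FiniteType R B] (f : B →ₐ[R] A) (hf : Function.Surjective f)
    (p : Ideal R) [p.IsPrime] :
    ∃ G : Finset B, (∀ g ∈ G, f g = 0) ∧ ∀ k, f k = 0 → ∃ s ∉ p, s • k ∈ Ideal.span (G : Set B) := by
  classical
  obtain ⟨d, a, hgen, hli⟩ := exists_local_basis (A := A) p
  choose b hb using fun i => hf (a i)
  let W := Submodule.span R (Set.range b)
  have hgen' : ∀ β : B, ∃ t ∉ p, ∃ w ∈ W, f (t • β - w) = 0 := by
    intro β
    obtain ⟨t, ht, hmem⟩ := hgen (f β)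
    obtain ⟨c, hc⟩ := (Submodule.mem_span_range_iff_exists_fun R).1 hmem
    refine ⟨t, ht, ∑ i, c i • b i, Submodule.sum_mem _ fun i _ => Submodule.smul_mem _ _
      (Submodule.subset_span ⟨i, rfl⟩), ?_⟩
    simp [map_sub, map_smul, map_sum, hb, hc]
  choose t ht w hw hk using hgen'
  obtain ⟨X, hX⟩ := (‹Algebra.FiniteType R B›).out
  let G : Finset B := insert (t 1 • 1 - w 1) ((X ×ˢ (Finset.univ : Finset (Fin d))).image fun z =>
    t (z.1 * b z.2) • (z.1 * b z.2) - w (z.1 * b z.2))
  have hGK : ∀ g ∈ G, f g = 0 := by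
    intro g hg
    rcases Finset.mem_insert.1 hg with rfl | hg
    · exact hk 1
    · obtain ⟨z, -, rfl⟩ := Finset.mem_image.1 hg; exact hk _
  let WJ : Submodule R B := W ⊔ (Ideal.span (G : Set B)).restrictScalars R
  let Sat : Submodule R B :=
    { carrier := {z | ∃ s ∉ p, s • z ∈ WJ}
      zero_mem' := ⟨1, (Ideal.ne_top_iff_one p).1 (Ideal.IsPrime.ne_top inferInstance), by simp⟩
      add_mem' := fun {u v} ⟨s₁, hs₁, h₁⟩ ⟨s₂, hs₂, h₂⟩ =>
        ⟨s₁ * s₂, fun h => ((Ideal.IsPrime.mem_or_mem inferInstance h).elim hs₁ hs₂), by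
          rw [smul_add]
          refine add_mem ?_ ?_
          · rw [mul_comm, mul_smul]; exact WJ.smul_mem _ h₁
          · rw [mul_smul]; exact WJ.smul_mem _ h₂⟩
      smul_mem' := fun r u ⟨s₁, hs₁, h₁⟩ => ⟨s₁, hs₁, by rw [smul_comm]; exact WJ.smul_mem _ h₁⟩ }
  have h1 : ∀ β, t β • β - w β ∈ G → β ∈ Sat := fun β hG => ⟨t β, ht β, by
    rw [show t β • β = w β + (t β • β - w β) by ring]
    exact add_mem (Submodule.mem_sup_left (hw β)) (Submodule.mem_sup_right (Ideal.subset_span hG))⟩
  have hx : ∀ x ∈ X, ∀ z ∈ Sat, x * z ∈ Sat := by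
    rintro x hx z ⟨s, hs, hz⟩
    have h2 : x * (s • z) ∈ Sat := by
      obtain ⟨y₁, hy₁, y₂, hy₂, hsum⟩ := Submodule.mem_sup.1 hz
      rw [← hsum, mul_add]
      refine add_mem ?_ ⟨1, (Ideal.ne_top_iff_one p).1 (Ideal.IsPrime.ne_top inferInstance),
        by rw [one_smul]; exact Submodule.mem_sup_right (Ideal.mul_mem_left _ _ hy₂)⟩
      clear hsum
      induction hy₁ using Submodule.span_induction with
      | mem y hy =>
        obtain ⟨i, rfl⟩ := hy
        exact h1 _ (Finset.mem_insert_of_mem (Finset.mem_image.2 ⟨(x, i), Finset.mem_product.2 ⟨hx, Finset.mem_univ _⟩, rfl⟩))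
      | zero => rw [mul_zero]; exact zero_mem _
      | add u v _ _ hu hv => rw [mul_add]; exact add_mem hu hv
      | smul r u _ hu => rw [mul_smul_comm]; exact Submodule.smul_mem _ _ hu
    rw [mul_smul_comm] at h2
    obtain ⟨s', hs', h'⟩ := h2
    exact ⟨s' * s, fun h => ((Ideal.IsPrime.mem_or_mem inferInstance h).elim hs' hs), by rw [mul_smul]; exact h'⟩
  have hall : ∀ β : B, β ∈ Sat := by
    intro β
    have hβ : β ∈ Algebra.adjoin R (X : Set B) := by rw [hX]; trivial
    suffices key : ∀ z ∈ Sat, β * z ∈ Sat by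
      simpa using key 1 (h1 1 (Finset.mem_insert_self _ _))
    induction hβ using Algebra.adjoin_induction with
    | algebraMap r => intro z hz; rw [← Algebra.smul_def]; exact Submodule.smul_mem _ _ hz
    | add u v _ _ hu hv => intro z hz; rw [add_mul]; exact add_mem (hu z hz) (hv z hz)
    | mul u v _ _ hu hv => intro z hz; rw [mul_assoc]; exact hu _ (hv z hz)
    | mem x hx' => exact hx x hx'
  refine ⟨G, hGK, fun k hk' => ?_⟩
  obtain ⟨s, hs, hmem⟩ := hall k
  obtain ⟨y₁, hy₁, y₂, hy₂, hsum⟩ := Submodule.mem_sup.1 hmem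
  obtain ⟨c, hc⟩ := (Submodule.mem_span_range_iff_exists_fun R).1 hy₁
  have hy₂K : f y₂ = 0 := by
    refine (Ideal.span_le.2 (fun g hg => ?_) : Ideal.span (G : Set B) ≤ RingHom.ker f) hy₂
    exact hGK g hg
  have hca : ∑ i, c i • a i = 0 := by
    have h := congrArg f hsum
    rw [map_add, map_smul, hk', smul_zero, hy₂K, add_zero, ← hc, map_sum] at h
    simpa [map_smul, hb] using h
  choose e he hce using hli c hca
  refine ⟨(∏ i, e i) * s, fun h => ?_, ?_⟩
  · rcases Ideal.IsPrime.mem_or_mem inferInstance h with h | h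
    · obtain ⟨i, -, hi⟩ := Ideal.IsPrime.prod_mem_iff.1 h; exact he i hi
    · exact hs h
  · rw [mul_smul, ← hsum, smul_add]
    refine add_mem ?_ ((Ideal.span (G : Set B)).smul_of_tower_mem _ hy₂)
    rw [← hc, Finset.smul_sum]
    refine Submodule.sum_mem _ fun i _ => ?_
    rw [smul_smul, show (∏ j, e j) * c i = 0 from by
      rw [← Finset.prod_erase_mul _ _ (Finset.mem_univ i), mul_assoc, hce i, mul_zero], zero_smul]
    exact zero_mem _

open TensorProduct in
theorem kernel_map_eq_bot {R A B : Type u} [CommRing R] [CommRing A] [CommRing B] [Algebra R A] [Algebra R B]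
    [Module.Finite R A] [Module.Flat R A] [Algebra.FiniteType R B] (f : B →ₐ[R] A) (hf : Function.Surjective f)
    (q : Ideal B) [q.IsPrime]
    (hbij : ∀ k : B, f k = 0 → (1 : (q.comap (algebraMap R B)).ResidueField) ⊗ₜ[R] k = 0) :
    (RingHom.ker f).map (algebraMap B (Localization.AtPrime q)) = ⊥ := by
  classical
  let p := q.comap (algebraMap R B)
  let L := Localization.AtPrime q
  let ι := algebraMap B L
  obtain ⟨G, hGK, hG⟩ := exists_finset_ker f hf p
  have hKJ : (RingHom.ker f).map ι = (Ideal.span (G : Set B)).map ι := by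
    refine le_antisymm ?_ (Ideal.map_mono (Ideal.span_le.2 fun g hg => hGK g hg))
    rw [Ideal.map_le_iff_le_comap]
    intro k hk
    obtain ⟨s, hs, hsk⟩ := hG k hk
    have hu : IsUnit (ι (algebraMap R B s)) := IsLocalization.map_units L (⟨algebraMap R B s, hs⟩ : q.primeCompl)
    have h := Ideal.mem_map_of_mem ι hsk
    rw [Algebra.smul_def, map_mul, Ideal.unit_mul_mem_iff_mem _ hu] at h
    exact h
  let pL := p.map (algebraMap R L)
  have hpL : pL = (p.map (algebraMap R B)).map ι := by
    rw [Ideal.map_map]; exact congrArg p.map (IsScalarTower.algebraMap_eq R B L)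
  have hle : (RingHom.ker f).map ι ≤ pL • (RingHom.ker f).map ι := by
    rw [Ideal.map_le_iff_le_comap]
    intro k hk
    let κ := p.ResidueField
    let h : κ →ₐ[R] L ⧸ pL := Ideal.ResidueField.liftₐ p (Algebra.ofId R (L ⧸ pL))
      (fun r hr => Ideal.Quotient.eq_zero_iff_mem.2 (Ideal.mem_map_of_mem (algebraMap R L) hr))
      (fun r hr => (IsLocalization.map_units L (⟨algebraMap R B r, hr⟩ : q.primeCompl)).map (Ideal.Quotient.mk pL))
    let H : κ ⊗[R] B →ₐ[R] L ⧸ pL := Algebra.TensorProduct.lift h
      ((Ideal.Quotient.mkₐ R pL).comp (IsScalarTower.toAlgHom R B L)) fun _ _ => Commute.all _ _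
    have h0 : Ideal.Quotient.mk pL (ι k) = 0 := by
      rw [← map_zero H, ← hbij k hk, Algebra.TensorProduct.lift_tmul, map_one, one_mul]; rfl
    rw [Ideal.Quotient.eq_zero_iff_mem, hpL] at h0
    obtain ⟨⟨⟨e, he⟩, ⟨u, hu⟩⟩, heu⟩ := (IsLocalization.mem_map_algebraMap_iff q.primeCompl L).1 h0
    rw [← map_mul] at heu
    obtain ⟨⟨u', hu'⟩, hu''⟩ := (IsLocalization.eq_iff_exists q.primeCompl L).1 heu
    have hin : u' * (k * u) ∈ RingHom.ker f ⊓ p.map (algebraMap R B) :=
      ⟨Ideal.mul_mem_left _ _ (Ideal.mul_mem_right _ _ hk), by rw [hu'']; exact Ideal.mul_mem_left _ _ he⟩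
    have h1 := Ideal.mem_map_of_mem ι (ker_inf_le f hf p hin)
    rw [Ideal.map_mul, ← hpL, map_mul, map_mul, mul_comm (ι k), ← mul_assoc,
      Ideal.unit_mul_mem_iff_mem _ ((IsLocalization.map_units L (⟨u', hu'⟩ : q.primeCompl)).mul
        (IsLocalization.map_units L (⟨u, hu⟩ : q.primeCompl)))] at h1
    exact h1
  refine Submodule.eq_bot_of_le_smul_of_le_jacobson_bot pL _ ?_ hle ?_
  · rw [hKJ, Ideal.map_span]; exact Submodule.fg_span (G.finite_toSet.image _)
  · refine le_trans ?_ (IsLocalRing.maximalIdeal_le_jacobson _)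
    rw [hpL, Ideal.map_le_iff_le_comap, show (IsLocalRing.maximalIdeal L).comap ι = q from IsLocalization.AtPrime.comap_maximalIdeal L q]
    exact Ideal.map_le_iff_le_comap.2 le_rfl

open TensorProduct in

/-- Let S = Spec R, X = Spec A finite and flat over S, Y = Spec B of finite type over S, and φ : X → Y
an S-morphism given by f : B → A. If for every point s of S the fibres X_s and Y_s have the same
order (the κ(s)-dimension of their rings of global sections κ(s) ⊗ A and κ(s) ⊗ B; equivalently at
every geometric point) and φ is an isomorphism over every closed point of S (κ(m) ⊗ f bijective for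
every maximal ideal m), then φ is an isomorphism, i.e. f is bijective. (The published statement
allows an arbitrary base scheme S and Y separated of finite type over S; this row is the case of an
affine base with X and Y affine, the case its proof treats directly. Over a base with no closed
points the general statement fails: the hypothesis at closed points is then empty.) -/
theorem result
    {R A B : Type u} [CommRing R] [CommRing A] [CommRing B] [Algebra R A] [Algebra R B]
    [Module.Finite R A] [Module.Flat R A] [Algebra.FiniteType R B]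
    (f : B →ₐ[R] A)
    (hrank : ∀ p : PrimeSpectrum R,
      Module.rank p.asIdeal.ResidueField (p.asIdeal.ResidueField ⊗[R] B) =
        Module.rank p.asIdeal.ResidueField (p.asIdeal.ResidueField ⊗[R] A))
    (hmax : ∀ (m : Ideal R) [m.IsMaximal],
      Function.Bijective (LinearMap.lTensor m.ResidueField f.toLinearMap)) :
    Function.Bijective f := by
  classical
  have hsurj : Function.Surjective f := by
    let C := A ⧸ LinearMap.range f.toLinearMap
    suffices hC : Subsingleton C by
      exact LinearMap.range_eq_top.1 (Submodule.Quotient.subsingleton_iff.1 hC)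
    by_contra hC
    haveI : Nontrivial C := not_subsingleton_iff_nontrivial.1 hC
    obtain ⟨p, hp⟩ := Module.nonempty_support_of_nontrivial (R := R) (M := C)
    obtain ⟨M, hM, hpM⟩ := Ideal.exists_le_maximal p.asIdeal p.isPrime.ne_top
    have hMs : (⟨M, hM.isPrime⟩ : PrimeSpectrum R) ∈ Module.support R C := Module.mem_support_mono hpM hp
    rw [Module.mem_support_iff_nontrivial_residueField_tensorProduct] at hMs
    refine not_subsingleton_iff_nontrivial.2 hMs (subsingleton_of_forall_eq 0 fun z => ?_)
    obtain ⟨z, rfl⟩ := LinearMap.lTensor_surjective M.ResidueField (Submodule.mkQ_surjective _) z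
    obtain ⟨z, rfl⟩ := (hmax M).2 z
    rw [← LinearMap.comp_apply, ← LinearMap.lTensor_comp, LinearMap.range_mkQ_comp, LinearMap.lTensor_zero]
    rfl
  refine ⟨(injective_iff_map_eq_zero f).2 fun k hk => ?_, hsurj⟩
  by_contra hne
  have hne' : Module.annihilator B (Submodule.span B {k}) ≠ ⊤ := by
    intro h
    have h1 := Module.mem_annihilator.1 ((Ideal.eq_top_iff_one _).1 h) ⟨k, Submodule.mem_span_singleton_self k⟩
    rw [one_smul] at h1
    exact hne (congrArg Subtype.val h1)
  obtain ⟨q, hq, hle⟩ := Ideal.exists_le_maximal _ hne'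
  haveI := hq.isPrime
  let p := q.comap (algebraMap R B)
  let φ := f.toLinearMap.baseChange p.ResidueField
  have hφs : Function.Surjective φ := LinearMap.lTensor_surjective _ hsurj
  have hr := hrank ⟨p, inferInstance⟩
  haveI : Module.Finite p.ResidueField (p.ResidueField ⊗[R] B) := by
    rw [← Module.rank_lt_aleph0_iff]
    show Module.rank p.ResidueField (p.ResidueField ⊗[R] B) < _
    rw [hr]
    exact Module.rank_lt_aleph0 _ _
  have hφi : Function.Injective φ :=
    (LinearMap.injective_iff_surjective_of_finrank_eq_finrank (congrArg Cardinal.toNat hr)).2 hφs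
  have h := kernel_map_eq_bot f hsurj q fun k hk => hφi (by
    rw [map_zero]; show (1 : p.ResidueField) ⊗ₜ[R] f k = 0; rw [hk, TensorProduct.tmul_zero])
  have h2 : algebraMap B (Localization.AtPrime q) k = 0 := by
    have h3 := Ideal.mem_map_of_mem (algebraMap B (Localization.AtPrime q)) (show k ∈ RingHom.ker f from hk)
    rwa [h, Ideal.mem_bot] at h3
  obtain ⟨u, hu⟩ := (IsLocalization.map_eq_zero_iff q.primeCompl _ k).1 h2
  refine u.2 (hle (Module.mem_annihilator.2 ?_))
  rintro ⟨y, hy⟩
  obtain ⟨c, rfl⟩ := Submodule.mem_span_singleton.1 hy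
  refine Subtype.ext ?_
  show (u : B) * (c * k) = 0
  rw [mul_left_comm, hu, mul_zero]

end Groth.Agent.S13632
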