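import Groth.Statements.S13635
import Groth.Agent.MultSch95.Basic

set_option autoImplicit false
universe u w
open CategoryTheory CategoryTheory.Limits MonoidalCategory CartesianMonoidalCategory MonObj AlgebraicGeometry
open MultSch

namespace Groth.Agent.S13635

/-- Let M₁ → M₂ → M₃ → 0 be a sequence of R-module schemes over a scheme S, with R-linear homomorphisms
j : M₁ → M₂ and π : M₂ → M₃, exact as a sequence of fppf sheaves. For n ≥ 1 and an R-module scheme
N, the sequence 0 → Alt(M₃^n, N) → Alt(M₂^n, N) → Alt(M₁ × M₂^(n-1), N) of R-multilinear alternating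
morphisms is exact: an R-multilinear alternating φ : M₂^n → N which is trivial on all points with
first coordinate in the image of j is of the form φ' ∘ π^n for a unique morphism φ' : M₃^n → N
(unique among all morphisms), and this φ' is R-multilinear and alternating. -/
theorem result
    {S : Scheme.{u}} {R : Type w} [CommRing R] {M₁ M₂ M₃ N : Over S}
    [GrpObj M₁] [IsCommMonObj M₁] [GrpObj M₂] [IsCommMonObj M₂] [GrpObj M₃] [IsCommMonObj M₃]
    [GrpObj N] [IsCommMonObj N]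
    (ρ₁ : MultSch.RMod R M₁) (ρ₂ : MultSch.RMod R M₂) (ρ₃ : MultSch.RMod R M₃) (ρN : MultSch.RMod R N)
    (j : M₁ ⟶ M₂) (π : M₂ ⟶ M₃) [IsMonHom j] [IsMonHom π]
    (hj : ∀ a : R, j ≫ ρ₂.act a = ρ₁.act a ≫ j) (hπ : ∀ a : R, π ≫ ρ₃.act a = ρ₂.act a ≫ π)
    (w : j ≫ π = 1) (hex : (CGrpSh.seq Scheme.fppfPrecoverage j π w).Exact)
    (hepi : Epi (CGrpSh.ptsMap Scheme.fppfPrecoverage π))
    {n : ℕ} (hn : 1 ≤ n) (φ : MultSch.pow M₂ n ⟶ N)
    (hmult : MultSch.IsMultilinear φ) (hlin : MultSch.IsRLinear ρ₂ ρN φ) (halt : MultSch.IsAlternating φ)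
    (hvan : ∀ (T : Over S) (y : T ⟶ M₁) (x : Fin n → (T ⟶ M₂)), x ⟨0, hn⟩ = y ≫ j →
      MultSch.tuple x ≫ φ = 1) :
    ∃ φ' : MultSch.pow M₃ n ⟶ N,
      (∀ (T : Over S) (x : Fin n → (T ⟶ M₂)), MultSch.tuple x ≫ φ = MultSch.tuple (fun l => x l ≫ π) ≫ φ') ∧
      MultSch.IsMultilinear φ' ∧ MultSch.IsRLinear ρ₃ ρN φ' ∧ MultSch.IsAlternating φ' ∧
      ∀ φ'' : MultSch.pow M₃ n ⟶ N,
        (∀ (T : Over S) (x : Fin n → (T ⟶ M₂)), MultSch.tuple x ≫ φ = MultSch.tuple (fun l => x l ≫ π) ≫ φ'') →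
          φ'' = φ' := by
  have hπ0 := Groth.Agent.PtsDesc95.locLift_of_epi π hepi
  have hpow := Groth.Agent.MultSch95.locLift_powMap hπ0 n
  obtain ⟨ψ, hψ⟩ := hpow.exists_desc φ (Groth.Agent.MultSch95.fibre_const j π w hex hmult
    (Groth.Agent.MultSch95.vanish_slot hmult halt hn j hvan))
  have hfac : ∀ (T : Over S) (x : Fin n → (T ⟶ M₂)),
      MultSch.tuple x ≫ φ = MultSch.tuple (fun l => x l ≫ π) ≫ ψ := fun T x => by
    rw [← Groth.Agent.MultSch95.tuple_powMap, Category.assoc, hψ]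
  refine ⟨ψ, hfac, fun T x i y z => ?_, fun T x i a => ?_, fun T x i k hik hx => ?_, fun ψ' h' => ?_⟩
  · obtain ⟨R, hR, hl⟩ := hπ0.inter (Sum.elim x (fun b : Bool => cond b y z))
    refine Groth.Agent.PtsDesc95.hom_ext hR fun Z f hf => ?_
    obtain ⟨u, hu⟩ := hl hf
    have hx' : (fun l => f ≫ x l) = fun l => u (Sum.inl l) ≫ π := funext fun l => (hu (Sum.inl l)).symm
    have hy : f ≫ y = u (Sum.inr true) ≫ π := (hu (Sum.inr true)).symm
    have hz : f ≫ z = u (Sum.inr false) ≫ π := (hu (Sum.inr false)).symm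
    simp only [MonObj.comp_mul, ← Category.assoc, Groth.Agent.MultSch95.comp_tuple,
      Groth.Agent.MultSch95.comp_update, hy, hz, hx']
    simp only [← MonObj.mul_comp, ← Groth.Agent.MultSch95.update_comp, ← hfac]
    exact hmult Z _ i _ _
  · obtain ⟨R, hR, hl⟩ := hπ0.inter x
    refine Groth.Agent.PtsDesc95.hom_ext hR fun Z f hf => ?_
    obtain ⟨u, hu⟩ := hl hf
    have hx' : (fun l => f ≫ x l) = fun l => u l ≫ π := funext fun l => (hu l).symm
    simp only [← Category.assoc, Groth.Agent.MultSch95.comp_tuple, Groth.Agent.MultSch95.comp_update]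
    rw [hx', show f ≫ x i = u i ≫ π from (hu i).symm, Category.assoc, hπ a, ← Category.assoc,
      ← Groth.Agent.MultSch95.update_comp, ← hfac, ← hfac]
    exact hlin Z u i a
  · obtain ⟨R, hR, hl⟩ := hπ0.inter x
    refine Groth.Agent.PtsDesc95.hom_ext hR fun Z f hf => ?_
    obtain ⟨u, hu⟩ := hl hf
    classical
    have hu' : (fun l => Function.update u i (u k) l ≫ π) = fun l => f ≫ x l := by
      funext l
      rcases eq_or_ne l i with rfl | hl
      · simp [hu, hx]
      · simp [hl, hu]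
    rw [← Category.assoc, Groth.Agent.MultSch95.comp_tuple, ← hu', ← hfac, MonObj.comp_one]
    exact halt Z _ i k hik (by simp [Function.update_of_ne hik.symm])
  · refine hpow.cancel ?_
    rw [hψ]
    obtain ⟨x, hx⟩ := Groth.Agent.MultSch95.exists_tuple (𝟙 (MultSch.pow M₂ n))
    have := h' _ x
    rw [hx, Category.id_comp] at this
    rw [this, ← Groth.Agent.MultSch95.tuple_powMap, hx, Category.id_comp]

end Groth.Agent.S13635
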