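import Groth.Statements.S13636
import Groth.Agent.MultSch95.Basic

set_option autoImplicit false
universe u w
open CategoryTheory CategoryTheory.Limits MonoidalCategory CartesianMonoidalCategory MonObj AlgebraicGeometry
open MultSch

namespace Groth.Agent.S13636

/-- Let M' → M → M'' → 0 be a sequence of R-module schemes over a scheme S, with R-linear homomorphisms
j and π, exact as fppf sheaves, and let ψ : P × M × Q → N be a morphism to an R-module scheme N
which is additive and R-linear in the coordinate M (on T-valued points) and trivial on all points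
whose M-coordinate lies in the image of j. Then ψ = ψ' ∘ (id × π × id) for a unique morphism ψ' : P
× M'' × Q → N, and ψ' is additive and R-linear in the coordinate M''. (The published statement has a
product M₁ × ⋯ × M_r of R-module schemes with the exact sequence in the i-th factor and ψ
R-multilinear; here the factors before and after the i-th are collected into single S-schemes P and
Q, and only linearity in the i-th coordinate, the one the statement is about, is carried; linearity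
in the other coordinates passes between ψ and ψ' formally.) -/
theorem result
    {S : Scheme.{u}} {R : Type w} [CommRing R] {P Q M' M M'' N : Over S}
    [GrpObj M'] [IsCommMonObj M'] [GrpObj M] [IsCommMonObj M] [GrpObj M''] [IsCommMonObj M'']
    [GrpObj N] [IsCommMonObj N]
    (ρ' : MultSch.RMod R M') (ρ : MultSch.RMod R M) (ρ'' : MultSch.RMod R M'') (ρN : MultSch.RMod R N)
    (j : M' ⟶ M) (π : M ⟶ M'') [IsMonHom j] [IsMonHom π]
    (hj : ∀ a : R, j ≫ ρ.act a = ρ'.act a ≫ j) (hπ : ∀ a : R, π ≫ ρ''.act a = ρ.act a ≫ π)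
    (w : j ≫ π = 1) (hex : (CGrpSh.seq Scheme.fppfPrecoverage j π w).Exact)
    (hepi : Epi (CGrpSh.ptsMap Scheme.fppfPrecoverage π))
    (ψ : P ⊗ (M ⊗ Q) ⟶ N)
    (hadd : ∀ (T : Over S) (p : T ⟶ P) (q : T ⟶ Q) (y z : T ⟶ M),
      lift p (lift (y * z) q) ≫ ψ = (lift p (lift y q) ≫ ψ) * (lift p (lift z q) ≫ ψ))
    (hlin : ∀ (T : Over S) (p : T ⟶ P) (q : T ⟶ Q) (y : T ⟶ M) (a : R),
      lift p (lift (y ≫ ρ.act a) q) ≫ ψ = (lift p (lift y q) ≫ ψ) ≫ ρN.act a)
    (hvan : ∀ (T : Over S) (p : T ⟶ P) (q : T ⟶ Q) (y' : T ⟶ M'), lift p (lift (y' ≫ j) q) ≫ ψ = 1) :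
    ∃ ψ' : P ⊗ (M'' ⊗ Q) ⟶ N,
      (P ◁ (π ▷ Q)) ≫ ψ' = ψ ∧
      (∀ (T : Over S) (p : T ⟶ P) (q : T ⟶ Q) (y z : T ⟶ M''),
        lift p (lift (y * z) q) ≫ ψ' = (lift p (lift y q) ≫ ψ') * (lift p (lift z q) ≫ ψ')) ∧
      (∀ (T : Over S) (p : T ⟶ P) (q : T ⟶ Q) (y : T ⟶ M'') (a : R),
        lift p (lift (y ≫ ρ''.act a) q) ≫ ψ' = (lift p (lift y q) ≫ ψ') ≫ ρN.act a) ∧
      ∀ ψ'' : P ⊗ (M'' ⊗ Q) ⟶ N, (P ◁ (π ▷ Q)) ≫ ψ'' = ψ → ψ'' = ψ' := by
  have hπ0 := Groth.Agent.PtsDesc95.locLift_of_epi π hepi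
  let π' : P ⊗ (M ⊗ Q) ⟶ P ⊗ (M'' ⊗ Q) := P ◁ (π ▷ Q)
  have hπ' : ∀ (T : Over S) (p : T ⟶ P) (q : T ⟶ Q) (y : T ⟶ M),
      lift p (lift y q) ≫ π' = lift p (lift (y ≫ π) q) := fun T p q y => by
    simp [π']
  have hdec : ∀ {T A : Over S} (a : T ⟶ P ⊗ (A ⊗ Q)), ∃ p y q, a = lift p (lift y q) := fun a =>
    ⟨a ≫ fst _ _, a ≫ snd _ _ ≫ fst _ _, a ≫ snd _ _ ≫ snd _ _, by ext <;> simp⟩
  have hloc : Groth.Agent.PtsDesc95.LocLift Scheme.fppfPrecoverage π' := by
    intro T a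
    obtain ⟨p, y, q, rfl⟩ := hdec a
    obtain ⟨R, hR, hl⟩ := hπ0 T y
    refine ⟨R, hR, fun Z f hf => ?_⟩
    obtain ⟨x, hx⟩ := hl hf
    exact ⟨lift (f ≫ p) (lift x (f ≫ q)), by rw [hπ', hx, comp_lift, comp_lift]⟩
  obtain ⟨ψ', hψ'⟩ := hloc.exists_desc ψ (fun T a b h => by
    obtain ⟨p, y, q, rfl⟩ := hdec a
    obtain ⟨p', y', q', rfl⟩ := hdec b
    rw [hπ', hπ'] at h
    have h1 := congrArg (fun t => t ≫ fst _ _) h
    have h2 := congrArg (fun t => t ≫ snd _ _ ≫ fst _ _) h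
    have h3 := congrArg (fun t => t ≫ snd _ _ ≫ snd _ _) h
    simp only [lift_fst, lift_snd_assoc, lift_snd] at h1 h2 h3
    subst h1; subst h3
    have hd : (y⁻¹ * y') ≫ π = 1 := by rw [MonObj.mul_comp, GrpObj.inv_comp, h2, inv_mul_cancel]
    obtain ⟨R, hR, hl⟩ := Groth.Agent.PtsDesc95.exists_local_preimage j π w hex T _ hd
    have hzero : lift p (lift (y⁻¹ * y') q) ≫ ψ = 1 := by
      refine Groth.Agent.PtsDesc95.hom_ext hR fun Z f hf => ?_
      obtain ⟨z, hz⟩ := hl hf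
      rw [← Category.assoc, comp_lift, comp_lift, ← hz, hvan, MonObj.comp_one]
    conv_rhs => rw [← mul_inv_cancel_left y y', hadd, hzero, _root_.mul_one])
  have hfac : ∀ (T : Over S) (p : T ⟶ P) (q : T ⟶ Q) (y : T ⟶ M),
      lift p (lift y q) ≫ ψ = lift p (lift (y ≫ π) q) ≫ ψ' := fun T p q y => by
    rw [← hπ', Category.assoc, hψ']
  refine ⟨ψ', hψ', fun T p q y z => ?_, fun T p q y a => ?_, fun ψ'' h'' => hloc.cancel (h''.trans hψ'.symm)⟩
  · obtain ⟨R, hR, hl⟩ := hπ0.inter (fun b : Bool => cond b y z)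
    refine Groth.Agent.PtsDesc95.hom_ext hR fun Z f hf => ?_
    obtain ⟨u, hu⟩ := hl hf
    have hy : f ≫ y = u true ≫ π := (hu true).symm
    have hz : f ≫ z = u false ≫ π := (hu false).symm
    simp only [MonObj.comp_mul, ← Category.assoc, comp_lift, hy, hz]
    simp only [← MonObj.mul_comp, ← hfac]
    exact hadd Z _ _ _ _
  · obtain ⟨R, hR, hl⟩ := hπ0 T y
    refine Groth.Agent.PtsDesc95.hom_ext hR fun Z f hf => ?_
    obtain ⟨u, hu⟩ := hl hf
    simp only [← Category.assoc, comp_lift]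
    rw [← hu, Category.assoc, hπ a, ← Category.assoc, ← hfac, ← hfac]
    exact hlin Z _ _ u a

end Groth.Agent.S13636
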