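import Groth.Statements.S13642
import Groth.Prelude.Def_FSch5

set_option autoImplicit false
open CategoryTheory
universe u
open FSch

namespace Groth.Agent.S13642
open CategoryTheory CategoryTheory.Limits AlgebraicGeometry

/-- Let f : 𝔛 ⟶ 𝔜 be a finite morphism of locally Noetherian formal schemes (adic, with finite morphism
of smallest levels). Then for every open U of 𝔜 the restriction f⁻¹(U) ⟶ U of f to the induced
formal schemes on U and on its inverse image is a finite morphism. -/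
theorem result (𝔛 𝔜 : FSch.Sys.{u}) (h𝔛 : 𝔛.IsLocNoethFormal) (h𝔜 : 𝔜.IsLocNoethFormal)
    (f : 𝔛 ⟶ 𝔜) (hf : FSch.IsFiniteHom f) (U : (𝔜.X 0).Opens) :
    FSch.IsFiniteHom (FSch.Hom.restrictOpen f h𝔛.1 h𝔜.1 U) := by
  have hres : ∀ {X Y : Scheme.{u}} (g : X ⟶ Y) (V : Y.Opens) (W : X.Opens) (e : g ⁻¹ᵁ V = W),
      IsPullback W.ι (g.resLE V W e.ge) g V.ι := by
    intro X Y g V W e
    subst e
    rw [Scheme.Hom.resLE_eq_morphismRestrict]
    exact (isPullback_morphismRestrict g V).flip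
  obtain ⟨had, hfin⟩ := hf
  refine ⟨fun n => ?_, ?_⟩
  · have hA := (hres ((f : FSch.Hom 𝔛 𝔜).app n) _ _ (FSch.Hom.lvU_preimage f h𝔛.1 h𝔜.1 n U)).paste_horiz (had n)
    have hB := hres ((f : FSch.Hom 𝔛 𝔜).app (n + 1)) _ _ (FSch.Hom.lvU_preimage f h𝔛.1 h𝔜.1 (n + 1) U)
    rw [← Scheme.Hom.resLE_comp_ι (𝔛.ι n) (𝔛.lvU_le h𝔛.1 n ((f : FSch.Hom 𝔛 𝔜).app 0 ⁻¹ᵁ U)),
      ← Scheme.Hom.resLE_comp_ι (𝔜.ι n) (𝔜.lvU_le h𝔜.1 n U)] at hA
    exact IsPullback.of_right hA ((FSch.Hom.restrictOpen f h𝔛.1 h𝔜.1 U : FSch.Hom _ _).comm n).symm hB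
  · exact MorphismProperty.of_isPullback
      (hres ((f : FSch.Hom 𝔛 𝔜).app 0) _ _ (FSch.Hom.lvU_preimage f h𝔛.1 h𝔜.1 0 U)) hfin

end Groth.Agent.S13642
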