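import Groth.Statements.S13644
import Groth.Agent.FmlFun27.Algz

set_option autoImplicit false
open CategoryTheory CategoryTheory.Limits AlgebraicGeometry
universe u
open FSch

namespace Groth.Agent.S13644

/-- Suppose A is a Noetherian ring that is adic with J as an ideal of definition, put Y = Spec A, and
take f : X ⟶ Y separated of finite type, with X̂ the completion of X along f⁻¹(V(J)). Say an
O_X̂-module is algebraizable if it is isomorphic to the completion of some coherent O_X-module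
having support proper over Y. Then, given any morphism u : 𝔉 ⟶ 𝔊 between algebraizable O_X̂-modules,
each of Ker(u), Im(u) and Coker(u) is again algebraizable. -/
theorem result (A : Type u) [CommRing A] [IsNoetherianRing A] (J : Ideal A) [IsAdicComplete J A]
    {X : Scheme.{u}} (f : X ⟶ Spec (CommRingCat.of A)) [IsSeparated f] [LocallyOfFiniteType f] [QuasiCompact f]
    (𝓘 : X.IdealSheafData) (h𝓘 : 𝓘 = (FSch.idealSpec A J).comap f)
    (hX : (FSch.completionAlong X 𝓘).IsFormal)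
    (𝔉 𝔊 : FSch.ModF (FSch.completionAlong X 𝓘) hX)
    (h𝔉 : (∃ G : X.Modules, Coh.IsCoh G ∧ ClSub.IsProperOver f (CohB1.support G) ∧
        Nonempty (𝔉 ≅ (FSch.complMod 𝓘 G).realMod hX)))
    (h𝔊 : (∃ G : X.Modules, Coh.IsCoh G ∧ ClSub.IsProperOver f (CohB1.support G) ∧
        Nonempty (𝔊 ≅ (FSch.complMod 𝓘 G).realMod hX))) (u : 𝔉 ⟶ 𝔊) :
    (∃ G : X.Modules, Coh.IsCoh G ∧ ClSub.IsProperOver f (CohB1.support G) ∧
        Nonempty (kernel u ≅ (FSch.complMod 𝓘 G).realMod hX)) ∧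
    (∃ G : X.Modules, Coh.IsCoh G ∧ ClSub.IsProperOver f (CohB1.support G) ∧
        Nonempty (Abelian.image u ≅ (FSch.complMod 𝓘 G).realMod hX)) ∧
    (∃ G : X.Modules, Coh.IsCoh G ∧ ClSub.IsProperOver f (CohB1.support G) ∧
        Nonempty (cokernel u ≅ (FSch.complMod 𝓘 G).realMod hX)) := by
  obtain ⟨F, hF, hFp, ⟨e₁⟩⟩ := h𝔉
  obtain ⟨G, hG, hGp, ⟨e₂⟩⟩ := h𝔊
  haveI : IsLocallyNoetherian X := LocallyOfFiniteType.isLocallyNoetherian f
  haveI := hF.1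
  haveI := hF.2
  haveI := hG.1
  haveI := hG.2
  have hs : ClSub.IsProperOver f (CohB1.support F ∩ CohB1.support G) :=
    Groth.Agent.Coh69.PO.mono hFp
      ((Groth.Agent.QC70.isClosed_support F).inter (Groth.Agent.QC70.isClosed_support G)) Set.inter_subset_left
  obtain ⟨v, hv⟩ := (Groth.Agent.FmlFun27.complHom_bijective J f 𝓘 h𝓘 hX F G hF hG hs).2 (e₁.inv ≫ u ≫ e₂.hom)
  obtain ⟨e, he⟩ := Groth.Agent.FmlFun27.exists_complIso 𝓘 hX
  obtain ⟨hL, hR⟩ := Groth.Agent.FmlFun27.exact_complPull 𝓘 hX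
  haveI := hL
  haveI := hR
  have w : (Groth.Agent.FmlFun27.complPull 𝓘 hX).map v ≫ (e ⟨G, hG⟩ ≪≫ e₂.symm).hom =
      (e ⟨F, hF⟩ ≪≫ e₁.symm).hom ≫ u := by
    rw [Iso.trans_hom, ← Category.assoc, he ⟨F, hF⟩ ⟨G, hG⟩ v]
    have hv' : FSch.ModSys.realModMap hX (FSch.complModMap 𝓘 v) = e₁.inv ≫ u ≫ e₂.hom := hv
    simp [hv']
  obtain ⟨⟨k⟩, ⟨i⟩, ⟨c⟩⟩ := Groth.Agent.FmlFun27.exact_functor_ops
    (Groth.Agent.FmlFun27.complPull 𝓘 hX) v u (e ⟨F, hF⟩ ≪≫ e₁.symm) (e ⟨G, hG⟩ ≪≫ e₂.symm) w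
  have hK : Coh.IsCoh (kernel v) := Groth.Agent.QC70.isCoh_kernel v hF hG.1
  have hC : Coh.IsCoh (cokernel v) := Groth.Agent.QC70.isCoh_cokernel v hF.1 hG
  have hI : Coh.IsCoh (Abelian.image v) := Groth.Agent.QC70.isCoh_kernel (cokernel.π v) hG hC.1
  haveI := hK.2
  haveI := hC.2
  haveI := hI.2
  refine ⟨⟨kernel v, hK, ?_, ⟨k ≪≫ e ⟨_, hK⟩⟩⟩, ⟨Abelian.image v, hI, ?_, ⟨i ≪≫ e ⟨_, hI⟩⟩⟩,
    ⟨cokernel v, hC, ?_, ⟨c ≪≫ e ⟨_, hC⟩⟩⟩⟩
  · exact Groth.Agent.Coh69.PO.mono hFp (Groth.Agent.QC70.isClosed_support _)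
      (Groth.Agent.QC70.mem_support_of_mono (kernel.ι v))
  · exact Groth.Agent.Coh69.PO.mono hGp (Groth.Agent.QC70.isClosed_support _)
      (Groth.Agent.QC70.mem_support_of_mono (Abelian.image.ι v))
  · exact Groth.Agent.Coh69.PO.mono hGp (Groth.Agent.QC70.isClosed_support _)
      (Groth.Agent.QC70.mem_support_of_epi (cokernel.π v))

end Groth.Agent.S13644
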