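import Groth.Statements.S13647
import Groth.Agent.FmlFun27.PushSupp
import Groth.Agent.S14705
import Groth.Agent.FCompl13.SchemePull

set_option autoImplicit false
open CategoryTheory CategoryTheory.Limits AlgebraicGeometry
universe u
open FSch

namespace Groth.Agent.S13647

/-- Suppose A is a Noetherian ring that is adic with J as an ideal of definition, and put Y = Spec A.
Consider finite-type morphisms f : X ⟶ Y and h : Z ⟶ Y together with a proper Y-morphism g : Z ⟶ X.
Write X̂ and Ẑ for the completions along the preimages of V(J), and ĝ : Ẑ ⟶ X̂ for the map on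
completions induced by g. A module on X̂ (resp. Ẑ) is termed algebraizable if it is isomorphic to
the completion of some coherent module on X (resp. Z) having support proper over Y. Under these
assumptions, whenever 𝔉 is an algebraizable O_Ẑ-module, its direct image ĝ_* 𝔉 is again an
algebraizable O_X̂-module. -/
theorem result (A : Type u) [CommRing A] [IsNoetherianRing A]
    (J : Ideal A) [IsAdicComplete J A] {X Z : Scheme.{u}} (f : X ⟶ Spec (CommRingCat.of A))
    [LocallyOfFiniteType f] [QuasiCompact f] (h : Z ⟶ Spec (CommRingCat.of A)) [LocallyOfFiniteType h]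
    [QuasiCompact h] (g : Z ⟶ X) (hg : g ≫ f = h) [IsProper g]
    (𝓘 : X.IdealSheafData) (h𝓘 : 𝓘 = (FSch.idealSpec A J).comap f)
    (𝓚 : Z.IdealSheafData) (h𝓚 : 𝓚 = (FSch.idealSpec A J).comap h)
    (hX : (FSch.completionAlong X 𝓘).IsFormal) (hZ : (FSch.completionAlong Z 𝓚).IsFormal)
    (hpc : FSch.PowCompat g 𝓚 𝓘) (𝔉 : FSch.ModF (FSch.completionAlong Z 𝓚) hZ)
    (a𝔉 : (∃ G : Z.Modules, Coh.IsCoh G ∧ ClSub.IsProperOver h (CohB1.support G) ∧
        Nonempty (𝔉 ≅ (FSch.complMod 𝓚 G).realMod hZ))) :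
    (∃ G : X.Modules, Coh.IsCoh G ∧ ClSub.IsProperOver f (CohB1.support G) ∧
        Nonempty ((FSch.pushF (FSch.completionMap g 𝓚 𝓘 hpc) hZ hX).obj 𝔉 ≅ (FSch.complMod 𝓘 G).realMod hX)) := by
  obtain ⟨G, hG, hGp, ⟨e⟩⟩ := a𝔉
  haveI : IsLocallyNoetherian X := LocallyOfFiniteType.isLocallyNoetherian f
  haveI : IsLocallyNoetherian Z := LocallyOfFiniteType.isLocallyNoetherian h
  haveI : CompactSpace X := QuasiCompact.compactSpace_of_compactSpace f
  haveI : CompactSpace Z := QuasiCompact.compactSpace_of_compactSpace h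
  haveI : IsNoetherian X := { }
  haveI : IsNoetherian Z := { }
  haveI : HasInjectiveResolutions Z.Modules := Groth.Agent.Coh69.modules_hasInjectiveResolutions Z
  have hK : Coh.IsCoh ((Scheme.Modules.pushforward g).obj G) :=
    Groth.Agent.QC70.isCoh_of_iso ((Scheme.Modules.pushforward g).rightDerivedZeroIsoSelf.app G)
      (Groth.Agent.RB70.isCoh_rpush g G hG 0)
  have hKK : 𝓚 = 𝓘.comap g := by
    rw [h𝓚, h𝓘, ← hg, Scheme.IdealSheafData.comap_comp]
  haveI := hK.1
  haveI := hK.2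
  haveI := Groth.Agent.Div89.isFP_of_isCoh hG
  haveI := Groth.Agent.Div89.isFP_of_isCoh hK
  obtain ⟨eZ, -⟩ := Groth.Agent.FCompl13.exists_pull_iso_schSys (FSch.completionAlong Z 𝓚) hZ
    (FSch.completionToX Z 𝓚) (FSch.completionToX_comm Z 𝓚) (Groth.Agent.S3854.result Z 𝓚) G
  obtain ⟨eX, -⟩ := Groth.Agent.FCompl13.exists_pull_iso_schSys (FSch.completionAlong X 𝓘) hX
    (FSch.completionToX X 𝓘) (FSch.completionToX_comm X 𝓘) (Groth.Agent.S3854.result X 𝓘)
    ((Scheme.Modules.pushforward g).obj G)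
  haveI := Groth.Agent.S14705.result Z X g 𝓘 𝓚 hKK hpc hZ hX G hG
  refine ⟨(Scheme.Modules.pushforward g).obj G, hK,
    Groth.Agent.FmlFun27.isProperOver_support_push f h g hg G hGp (Groth.Agent.QC70.isClosed_support _), ⟨?_⟩⟩
  exact (FSch.pushF (FSch.completionMap g 𝓚 𝓘 hpc) hZ hX).mapIso (e ≪≫ eZ.symm) ≪≫
    (asIso (FSch.schBcMap (FSch.completionMap g 𝓚 𝓘 hpc) hZ hX g (FSch.completionToX Z 𝓚)
      (FSch.completionToX_comm Z 𝓚) (FSch.completionToX X 𝓘) (FSch.completionToX_comm X 𝓘)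
      (FSch.completionMap_sq g 𝓚 𝓘 hpc) G)).symm ≪≫ eX

end Groth.Agent.S13647
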