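import Groth.Statements.S13650
import Groth.Agent.FmlFun27.Coh
import Groth.Agent.KosPro27.Seq
import Groth.Agent.S0002

set_option autoImplicit false
open CategoryTheory CategoryTheory.Limits AlgebraicGeometry
universe u
open FSch

namespace Groth.Agent.S13650

/-- Let A be a Noetherian ring, I an ideal of A, X a scheme proper over Spec A, F a coherent O_X-module,
X̂ the completion of X along the inverse image of V(I), i : X̂ ⟶ X the canonical morphism of ringed
spaces and F̂ = i^* F its completion. Then for every n the cohomology group H^n(X̂, F̂) of the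
formal scheme is isomorphic to the inverse limit lim_k H^n(X, F/I^(k+1)F). Only the existence of an
additive isomorphism is asserted; the published statement asserts that the canonical map ψ_n, built
from the maps H^n(X̂, F̂) ⟶ H^n(X, F/I^(k+1)F), is bijective. -/
theorem result (A : Type u) [CommRing A] [IsNoetherianRing A]
    (I : Ideal A) (X : Scheme.{u}) [X.Over (Spec (CommRingCat.of A))] [IsProper (X ↘ Spec (CommRingCat.of A))]
    (𝓚 : X.IdealSheafData) (h𝓚 : 𝓚 = (FSch.idealSpec A I).comap (X ↘ Spec (CommRingCat.of A)))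
    (hX : (FSch.completionAlong X 𝓚).IsFormal) (F : X.Modules) (hF : Coh.IsCoh F) (n : ℕ) :
    Nonempty (FSch.HF (FSch.completionAlong X 𝓚) hX ((FSch.toSchemeMor (FSch.completionAlong X 𝓚) hX (FSch.completionToX X 𝓚) (FSch.completionToX_comm X 𝓚)).pull.obj F) n ≃+ Formal.HHlim I F n) := by
  haveI : IsLocallyNoetherian X := LocallyOfFiniteType.isLocallyNoetherian (X ↘ Spec (CommRingCat.of A))
  haveI : CompactSpace X := QuasiCompact.compactSpace_of_compactSpace (X ↘ Spec (CommRingCat.of A))
  haveI : F.IsQuasicoherent := hF.1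
  haveI := Groth.Agent.FmlFun27.isFinitePresentation_coh hF
  haveI : IsClosedImmersion (FSch.completionToX X 𝓚 0) :=
    inferInstanceAs (IsClosedImmersion ((𝓚 ^ (0 + 1)).subschemeι))
  obtain ⟨e₁⟩ := Groth.Agent.FmlFun27.hf_push (FSch.completionAlong X 𝓚) hX (FSch.completionToX X 𝓚)
    (FSch.completionToX_comm X 𝓚)
    ((FSch.toSchemeMor (FSch.completionAlong X 𝓚) hX (FSch.completionToX X 𝓚)
      (FSch.completionToX_comm X 𝓚)).pull.obj F) n
  obtain ⟨w⟩ := Groth.Agent.FmlFun27.exists_pushPull_iso I 𝓚 h𝓚 hX F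
  obtain ⟨e₂⟩ := Groth.Agent.FmlFun27.hh_congr w n
  let G := Formal.completion I F
  have hG : ∀ m, G.map (homOfLE (Nat.le_succ m)).op = Formal.modPowTrans I (m + 1) F := fun m =>
    Functor.ofOpSequence_map_homOfLE_succ _ m
  have hq : ∀ m : ℕ, (G.obj (Opposite.op m)).IsQuasicoherent := fun m =>
    Groth.Agent.FF71.isQuasicoherent_modPow I F (m + 1)
  have he : ∀ m, Epi (Groth.Agent.Formal27.tr G m) := fun m => by
    haveI : Epi (Formal.modPowπ I (m + 1) F) := inferInstanceAs (Epi (cokernel.π _))
    haveI : Epi (Formal.modPowπ I (m + 1 + 1) F ≫ Formal.modPowTrans I (m + 1) F) :=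
      (Formal.modPowπ_trans I (m + 1) F).symm ▸ this
    have h2 : Epi (Formal.modPowTrans I (m + 1) F) :=
      epi_of_epi (Formal.modPowπ I (m + 1 + 1) F) (Formal.modPowTrans I (m + 1) F)
    show Epi (G.map (homOfLE (Nat.le_succ m)).op)
    rw [hG m]
    exact h2
  have hfin : ∀ j, Module.Finite A (Coh.HH X F j) := fun j => Groth.Agent.S0002.result A X F hF j
  have hsys : ∀ p, Formal2.HHsysMap G p = fun m => Formal.HHmodPowTrans I F p m := fun p => funext fun m =>
    congrArg (fun φ => CategoryTheory.Sheaf.H.map ((SheafOfModules.toSheaf _).map φ) p) (hG m)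
  have h1 : ∀ p, Subsingleton (Formal2.limOne (fun m => Coh.HH X (G.obj (Opposite.op m)) p)
      (Formal2.HHsysMap G p)) := fun p => by
    rw [hsys p]
    exact Groth.Agent.KosPro27.subsingleton_limOne I hF hfin p
  obtain ⟨hinj, hsurj⟩ := Groth.Agent.FmlFun27.limComp_bijective G hq he h1 n
  let Φ : Coh.HH X (limit G) n →+ Formal.HHlim I F n :=
    AddMonoidHom.codRestrict (Groth.Agent.FmlFun27.limComp G n) (Formal.HHlim I F n) fun x m => by
      exact (congrArg (fun φ => CategoryTheory.Sheaf.H.map ((SheafOfModules.toSheaf _).map φ) n _) (hG m)).symm.trans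
        (Groth.Agent.FmlFun27.limComp_compat G n x m)
  have hΦ : Function.Bijective Φ := by
    refine ⟨fun x y h => hinj (congrArg Subtype.val h), fun y => ?_⟩
    obtain ⟨x, hx⟩ := hsurj y.1 fun m => (congrArg
      (fun φ => CategoryTheory.Sheaf.H.map ((SheafOfModules.toSheaf _).map φ) n (y.1 (m + 1))) (hG m)).trans (y.2 m)
    exact ⟨x, Subtype.ext hx⟩
  exact ⟨(e₁.trans e₂).trans (AddEquiv.ofBijective Φ hΦ)⟩

end Groth.Agent.S13650
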