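import Groth.Statements.S13655
import Groth.Agent.FBlow13.Dominate

set_option autoImplicit false
open CategoryTheory AlgebraicGeometry
universe u
open FBlow

namespace Groth.Agent.S13655

/-- Let R be a base ring of class (N) or (V) for the ideal I and X an admissible formal R-scheme,
presented I-adically: a formal system of thickenings X_0 → X_1 → ⋯ adic over Spf R = (Spec
R/I^(n+1))_n (all squares cartesian), with every level X_n locally of finite presentation over
R/I^(n+1), structure sheaf O_X = lim O_{X_n} on the common underlying space, and no I-torsion (over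
every open, a section of O_X annihilated by the kernel of O_X → O_{X_0} is zero); assume the
underlying space of X is quasi-separated. Let (X_i) be a covering of finite type (each member meets
only finitely many others) by quasi-compact open subsets, each carrying the induced formal system,
and for every i let X_i' → X_i be an admissible formal blowing-up of a coherent open ideal J_i of
O_{X_i}. Then there is an admissible formal blowing-up X' → X of some coherent open ideal of O_X
dominating all of them: for every i the restriction of X' → X over X_i factors through X_i' → X_i in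
exactly one way. -/
theorem result
    (R : Type u) [CommRing R] (I : Ideal R) (hR : AdicRing.IsBase R I)
    (𝔛 : FSch.Sys.{u}) (h : 𝔛.IsFormal) (p : 𝔛 ⟶ FSch.spf R I) (hp : FSch.IsAdicHom p)
    (hfp : ∀ n, LocallyOfFinitePresentation ((p : FSch.Hom 𝔛 (FSch.spf R I)).app n))
    (htf : ∀ (U : (𝔛.X 0).Opens) (s : (𝔛.Osh h).obj.obj (Opposite.op U)),
      (∀ a ∈ (FBlow.IdealSh.ker (𝔛.OshProj h 0)).sect U, a * s = 0) → s = 0)
    [QuasiSeparatedSpace (𝔛.X 0)]
    (ι : Type u) (V : ι → (𝔛.X 0).Opens) (hV : (⨆ i, V i) = ⊤) (hVc : ∀ i, IsCompact (V i : Set (𝔛.X 0)))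
    (hVf : ∀ i, Set.Finite {j : ι | V i ⊓ V j ≠ ⊥}) (hVi : ∀ i, (𝔛.restrictOpen h (V i)).IsFormal)
    (Ji : ∀ i, FBlow.IdealSh ((𝔛.restrictOpen h (V i)).Osh (hVi i)))
    (hJi : ∀ i, FBlow.IsCohOpen (𝔛.restrictOpen h (V i)) (hVi i) (Ji i))
    (𝔛i : ι → FSch.Sys.{u}) (hi : ∀ i, (𝔛i i).IsFormal) (bi : ∀ i, 𝔛i i ⟶ 𝔛.restrictOpen h (V i))
    (hbi : ∀ i, FBlow.IsAdmBlowUp (bi i) (hi i) (hVi i) (Ji i)) :
    ∃ (J : FBlow.IdealSh (𝔛.Osh h)) (𝔛' : FSch.Sys.{u}) (h' : 𝔛'.IsFormal) (b : 𝔛' ⟶ 𝔛),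
      FBlow.IsCohOpen 𝔛 h J ∧ FBlow.IsAdmBlowUp b h' h J ∧
      ∀ i, ∃! k : 𝔛'.restrictOpen h' (((b : FSch.Hom 𝔛' 𝔛).app 0) ⁻¹ᵁ (V i)) ⟶ 𝔛i i,
        k ≫ bi i = FSch.Hom.restrictOpen b h' h (V i) :=
  let ⟨J, 𝔛', h', b, h1, h2, _, h4⟩ :=
    Groth.Agent.FBlow13.exists_dominating hp hR hfp htf V hV hVc hVf hVi Ji hJi 𝔛i hi bi hbi
  ⟨J, 𝔛', h', b, h1, h2, h4⟩

end Groth.Agent.S13655
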