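import Groth.Statements.S13658
import Groth.Agent.FBlow13.Product

set_option autoImplicit false
open CategoryTheory AlgebraicGeometry
universe u
open FBlow

namespace Groth.Agent.S13658

/-- Let R be a base ring of class (N) or (V) for the ideal I and X an admissible formal R-scheme,
presented I-adically: a formal system of thickenings X_0 → X_1 → ⋯ adic over Spf R = (Spec
R/I^(n+1))_n (all squares cartesian), with every level X_n locally of finite presentation over
R/I^(n+1), structure sheaf O_X = lim O_{X_n} on the common underlying space, and no I-torsion (over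
every open, a section of O_X annihilated by the kernel of O_X → O_{X_0} is zero). Let J and K be
coherent open ideals of O_X, X' → X an admissible formal blowing-up of J (universal-property sense)
and X'' → X' an admissible formal blowing-up of the ideal K·O_{X'}. Then the composite X'' → X is an
admissible formal blowing-up of the product ideal J·K. -/
theorem result
    (R : Type u) [CommRing R] (I : Ideal R) (hR : AdicRing.IsBase R I)
    (𝔛 : FSch.Sys.{u}) (h : 𝔛.IsFormal) (p : 𝔛 ⟶ FSch.spf R I) (hp : FSch.IsAdicHom p)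
    (hfp : ∀ n, LocallyOfFinitePresentation ((p : FSch.Hom 𝔛 (FSch.spf R I)).app n))
    (htf : ∀ (U : (𝔛.X 0).Opens) (s : (𝔛.Osh h).obj.obj (Opposite.op U)),
      (∀ a ∈ (FBlow.IdealSh.ker (𝔛.OshProj h 0)).sect U, a * s = 0) → s = 0)
    (J K : FBlow.IdealSh (𝔛.Osh h)) (hJ : FBlow.IsCohOpen 𝔛 h J) (hK : FBlow.IsCohOpen 𝔛 h K)
    (𝔛' : FSch.Sys.{u}) (h' : 𝔛'.IsFormal) (b : 𝔛' ⟶ 𝔛) (hb : FBlow.IsAdmBlowUp b h' h J)
    (𝔛'' : FSch.Sys.{u}) (h'' : 𝔛''.IsFormal) (b' : 𝔛'' ⟶ 𝔛')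
    (hb' : FBlow.IsAdmBlowUp b' h'' h' (FBlow.idealMap b h' h K)) :
    FBlow.IsAdmBlowUp (b' ≫ b) h'' h (FBlow.IdealSh.mul J K) := by
  open Groth.Agent.FBlow13 in
  have hlJ := locFG_of_isCohOpen hp hR hJ
  open Groth.Agent.FBlow13 in
  have hlK := locFG_of_isCohOpen hp hR hK
  have hp' := Groth.Agent.FBlow13.isAdicHom_comp hb.1 hp
  have hN' := Groth.Agent.FBlow13.noBaseTors_blowUp hp hR hfp htf hlJ hb
  have hft : ∀ n, LocallyOfFiniteType ((b ≫ p : FSch.Hom 𝔛' (FSch.spf R I)).app n) := fun n => by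
    have := Groth.Agent.FBlow13.locallyOfFiniteType_blowUp hp hR hfp htf hlJ hb n
    have := hfp n
    exact inferInstanceAs (LocallyOfFiniteType (_ ≫ _))
  have hN'' := Groth.Agent.FBlow13.noBaseTors_blowUp hp' hR
    (Groth.Agent.FBlow13.lfp_of_noBaseTors hp' hR hft hN')
    (Groth.Agent.FBlow13.htf_of_noBaseTors hp' hR hN') (hlK.idealMap (hY := h') b) hb'
  rw [← Category.assoc] at hN''
  refine ⟨Groth.Agent.FBlow13.isAdicHom_comp hb'.1 hb.1,
    (Groth.Agent.FBlow13.isInvertible_idealMap_mul_iff _ hlJ hlK).2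
      ⟨Groth.Agent.FBlow13.isInvertible_idealMap_of_open hp hR b b' hJ hb.2.1 hN'', ?_⟩,
    fun 𝔜 hY g hg hinv => ?_⟩
  · rw [Groth.Agent.FBlow13.idealMap_comp (hY := h')]
    exact hb'.2.1
  obtain ⟨hgJ, hgK⟩ := (Groth.Agent.FBlow13.isInvertible_idealMap_mul_iff g hlJ hlK).1 hinv
  obtain ⟨k, hk, hku⟩ := hb.2.2 𝔜 hY g hg hgJ
  rw [← hk, Groth.Agent.FBlow13.idealMap_comp (hY := h')] at hgK
  obtain ⟨l, hl, hlu⟩ := hb'.2.2 𝔜 hY k
    (Groth.Agent.FBlow13.isAdicHom_of_comp (hk.symm ▸ hg) hb.1) hgK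
  refine ⟨l, ?_, fun l' hl' => hlu l' (hku _ ?_)⟩
  · show l ≫ b' ≫ b = g
    rw [← Category.assoc, hl, hk]
  · show (l' ≫ b') ≫ b = g
    rw [Category.assoc]
    exact hl'


end Groth.Agent.S13658
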