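import Groth.Statements.S13662
import Groth.Agent.FBlow13.Integral
import Groth.Agent.S13352

set_option autoImplicit false
open CategoryTheory AlgebraicGeometry
open scoped TensorProduct
universe u
open FBlow

namespace Groth.Agent.S13662

/-- Let R be a complete valuation ring of height one with t a nonzero element generating an ideal of
definition and K its field of fractions, A an admissible R-algebra, f_1, …, f_n elements of A ⊗_R K
that are integral over A, c a nonzero element of R and g_1, …, g_n elements of A with g_i = c f_i in
A ⊗_R K; put A' = A[f_1, …, f_n] ⊂ A ⊗_R K and 𝔞 = (c, g_1, …, g_n) ⊂ A, and present Spf A and Spf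
A' as the formal systems (Spec A/(t)^(m+1))_m and (Spec A'/(t)^(m+1))_m. Then the morphism Spf A' →
Spf A induced by the inclusion A ⊂ A' is the admissible formal blowing-up of the ideal 𝔞·O_{Spf A}
in the sense of the universal property: it is adic, 𝔞 generates an invertible ideal of O_{Spf A'},
and every adic morphism of formal systems Y → Spf A under which 𝔞 generates an invertible ideal of
O_Y factors through Spf A' → Spf A in exactly one way. (The published hypothesis on the f_i is that
their supremum seminorm on the affinoid algebra A ⊗_R K is at most 1; integrality over A is what is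
derived from it and used, and is taken as the hypothesis here.) -/
theorem result
    (R : Type u) [CommRing R] [IsDomain R] [ValuationRing R] [Ring.KrullDimLE 1 R]
    (t : R) (ht : t ≠ 0) [IsAdicComplete (Ideal.span {t}) R]
    (A : Type u) [CommRing A] [Algebra R A] (hA : AdicRing.Admissible R (Ideal.span {t}) A)
    (n : ℕ) (f : Fin n → A ⊗[R] FractionRing R) (hf : ∀ i, IsIntegral A (f i))
    (c : R) (hc : c ≠ 0) (g : Fin n → A)
    (hg : ∀ i, algebraMap A (A ⊗[R] FractionRing R) (g i) = c • f i)
    (hX : (FSch.spf A ((Ideal.span {t}).map (algebraMap R A))).IsFormal) (h' : (FSch.spf ↥(Algebra.adjoin A (Set.range f)) ((Ideal.span {t}).map (algebraMap R ↥(Algebra.adjoin A (Set.range f))))).IsFormal)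
    (hle : ((Ideal.span {t}).map (algebraMap R A)) ≤ ((Ideal.span {t}).map (algebraMap R ↥(Algebra.adjoin A (Set.range f)))).comap (algebraMap A ↥(Algebra.adjoin A (Set.range f)))) :
    FBlow.IsAdmBlowUp (FSch.spfMap ((Ideal.span {t}).map (algebraMap R ↥(Algebra.adjoin A (Set.range f)))) ((Ideal.span {t}).map (algebraMap R A)) (algebraMap A ↥(Algebra.adjoin A (Set.range f))) hle) h' hX
      (FBlow.schIdealMap (FSch.spf A ((Ideal.span {t}).map (algebraMap R A))) hX (FSch.spfToSpec A ((Ideal.span {t}).map (algebraMap R A))) (FSch.spfToSpec_comm A ((Ideal.span {t}).map (algebraMap R A)))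
        (FBlow.IdealSh.ofData (FSch.idealSpec A (Ideal.span (insert (algebraMap R A c) (Set.range g)))))) := by
  have htu : ¬IsUnit t := fun hu => by
    have h1 := IsAdicComplete.le_jacobson_bot (Ideal.span {t})
    rw [Ideal.span_singleton_eq_top.2 hu, top_le_iff] at h1
    exact Ideal.jacobson_eq_top_iff.not.2 bot_ne_top h1
  have hR : AdicRing.IsBase R (Ideal.span {t}) :=
    ⟨inferInstance, Or.inr ⟨inferInstance, inferInstance, inferInstance, t, ht, rfl⟩⟩
  have hB : ∀ r : R, algebraMap A (A ⊗[R] FractionRing R) (algebraMap R A r) =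
      algebraMap R (A ⊗[R] FractionRing R) r := fun r =>
    (IsScalarTower.algebraMap_apply R A _ r).symm
  have hcB : algebraMap A (A ⊗[R] FractionRing R) (algebraMap R A c) ∈
      nonZeroDivisors (A ⊗[R] FractionRing R) := by
    refine IsUnit.mem_nonZeroDivisors ?_
    rw [hB]
    have h1 : (Algebra.TensorProduct.includeRight (R := R) (A := A) (B := FractionRing R))
        (algebraMap R (FractionRing R) c) = algebraMap R (A ⊗[R] FractionRing R) c :=
      AlgHom.commutes _ c
    rw [← h1]
    exact (isUnit_iff_ne_zero.2 ((map_ne_zero_iff _ (IsFractionRing.injective R _)).2 hc)).map _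
  have hsm : ∀ x : A ⊗[R] FractionRing R,
      c • x = algebraMap A (A ⊗[R] FractionRing R) (algebraMap R A c) * x := by
    intro x
    induction x using TensorProduct.induction_on with
    | zero => rw [smul_zero, mul_zero]
    | tmul a k =>
      rw [TensorProduct.smul_tmul', Algebra.TensorProduct.algebraMap_apply,
        Algebra.TensorProduct.tmul_mul_tmul, one_mul, Algebra.smul_def]
      rfl
    | add x y hx hy => rw [smul_add, mul_add, hx, hy]
  have hinj := Groth.Agent.FBlow13.algebraMap_tensor_injective (R := R) A htu hA.2
  have hπ := Groth.Agent.FBlow13.isBlowUp_adjoin hinj f hf (algebraMap R A c) hcB g fun i => by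
    exact (hg i).trans (hsm (f i))
  have := (S13352.result R t ht A hA n f hf).2
  refine Groth.Agent.FBlow13.isAdmBlowUp_spfMap_of_affine hR
    (show AdicRing.TopFiniteType R (Ideal.span {t}) A from hA.1.imp fun _ h => h.imp fun _ h => h.1)
    _ hπ (algebraMap R A c) (Ideal.subset_span (Set.mem_insert _ _)) ?_ ?_ hX h' hle
  · rw [mem_nonZeroDivisors_iff_right]
    exact fun y hy => Subtype.ext (mem_nonZeroDivisors_iff_right.1 hcB _ (congrArg Subtype.val hy))
  · intro x hx
    rw [← Ideal.mem_span_singleton]
    refine (show Ideal.span (insert (algebraMap R A c) (Set.range g)) ≤ (Ideal.span {algebraMap A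
      ↥(Algebra.adjoin A (Set.range f)) (algebraMap R A c)}).comap
        (algebraMap A ↥(Algebra.adjoin A (Set.range f))) from Ideal.span_le.2 ?_) hx
    rintro y (rfl | ⟨i, rfl⟩)
    · exact Ideal.mem_span_singleton_self _
    · exact Ideal.mem_span_singleton.2 ⟨⟨f i, Algebra.subset_adjoin ⟨i, rfl⟩⟩, Subtype.ext
        ((hg i).trans (hsm (f i)))⟩

end Groth.Agent.S13662
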