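import Groth.Statements.S13681


set_option autoImplicit false
open BTGrp

namespace Groth.Agent.S13681

/-- Fix natural numbers r and M and consider the vectors d in N^r with every component less than M and
some component equal to zero. The map sending such a d to the vector with components (max_j d_j) -
d_i again has every component less than M and some component zero, and applying it twice gives back
d. -/
theorem result (r M : ℕ) (d : Fin r → ℕ)
    (hmin : ∃ i, d i = 0) (hmax : ∀ i, d i < M) :
    ((∃ i, Finset.univ.sup d - d i = 0) ∧ (∀ i, Finset.univ.sup d - d i < M)) ∧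
      (fun i => Finset.univ.sup (fun j => Finset.univ.sup d - d j) - (Finset.univ.sup d - d i)) = d := by
  obtain ⟨i₀, h0⟩ := hmin
  have hne : (Finset.univ : Finset (Fin r)).Nonempty := ⟨i₀, Finset.mem_univ i₀⟩
  obtain ⟨i₁, -, h1⟩ := Finset.exists_mem_eq_sup Finset.univ hne d
  have hle : ∀ i, d i ≤ Finset.univ.sup d := fun i => Finset.le_sup (Finset.mem_univ i)
  have hM : Finset.univ.sup d < M := h1 ▸ hmax i₁
  refine ⟨⟨⟨i₁, by omega⟩, fun i => by omega⟩, funext fun i => ?_⟩
  have h2 : Finset.univ.sup (fun j => Finset.univ.sup d - d j) = Finset.univ.sup d :=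
    le_antisymm (Finset.sup_le fun j _ => Nat.sub_le _ _)
      (le_trans (by omega) (Finset.le_sup (f := fun j => Finset.univ.sup d - d j) (Finset.mem_univ i₀)))
  have := hle i
  omega

end Groth.Agent.S13681
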