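import Groth.Statements.S13682
import Mathlib.LinearAlgebra.Multilinear.Basic
import Mathlib.Algebra.Algebra.Basic
import Mathlib.Order.Interval.Finset.Fin

set_option autoImplicit false
universe u v w
open scoped BigOperators
open BTGrp

namespace Groth.Agent.S13682

/-- Let A be a commutative ring, α ∈ A a non-zero-divisor, M_1, …, M_r and N modules over A and φ : M_1
× ⋯ × M_r → N an A-multilinear map. Let n be a natural number and let y_{i,j} (j < n) and w_{i,j} (j
≤ n) be elements of M_i with w_{i,j+1} = w_{i,j} + α y_{i,j} for all i and all j < n. Then Σ_i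
Σ_{j<n} φ(w_{1,j+1}, …, w_{i-1,j+1}, y_{i,j}, w_{i+1,j}, …, w_{r,j}) = Σ_i Σ_{j<n} φ(w_{1,n}, …,
w_{i-1,n}, y_{i,j}, w_{i+1,0}, …, w_{r,0}). (The published statement takes n ≥ 1; for n = 0 both
sides are empty sums. The families y, w are indexed by all natural numbers here and only the indices
named above enter.) -/
theorem result {A : Type u} [CommRing A] (α : A) (hα : α ∈ nonZeroDivisors A)
    {r : ℕ} (M : Fin r → Type v) (N : Type w) [∀ i, AddCommGroup (M i)] [∀ i, Module A (M i)]
    [AddCommGroup N] [Module A N] (φ : MultilinearMap A M N) (n : ℕ)
    (y w : ∀ i, ℕ → M i) (hw : ∀ i, ∀ j < n, w i (j + 1) = w i j + α • y i j) :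
    (∑ i : Fin r, ∑ j ∈ Finset.range n,
        φ (fun k => if k < i then w k (j + 1) else if k = i then y k j else w k j)) =
      ∑ i : Fin r, ∑ j ∈ Finset.range n,
        φ (fun k => if k < i then w k n else if k = i then y k j else w k 0) := by
  classical
  let h : ℕ → ℕ → Fin r → Fin r → N := fun m j k i =>
    φ (fun x => if x < k then w x (m + 1) else if x = k then y x m else if x < i then w x m else if x = i then y x j else w x 0)
  have hdiff : ∀ m < n, ∀ x, w x (m + 1) - w x m = α • y x m := fun m hm x => by rw [hw x m hm, add_sub_cancel_left]
  have hsum : ∀ m ≤ n, ∀ x, α • ∑ j ∈ Finset.range m, y x j = w x m - w x 0 := by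
    intro m hm x
    induction m with
    | zero => simp
    | succ m ih => rw [Finset.sum_range_succ, smul_add, ih (by omega), hw x m (by omega)]; abel
  -- moving the last index of the left part
  have hA : ∀ m < n, ∀ (i : Fin r) (j : ℕ),
      φ (fun x => if x < i then w x (m + 1) else if x = i then y x j else w x 0) -
        φ (fun x => if x < i then w x m else if x = i then y x j else w x 0) =
      ∑ k ∈ Finset.Iio i, α • h m j k i := by
    intro m hm i j
    have hp := φ.map_piecewise_sub_map_piecewise (fun x => w x (m + 1)) (fun x => w x m)
      (fun x => if x = i then y x j else w x 0) (Finset.Iio i)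
    have e : ∀ c : ∀ x, M x, (Finset.Iio i).piecewise c (fun x => if x = i then y x j else w x 0) =
        fun x => if x < i then c x else if x = i then y x j else w x 0 := fun c => by
      funext x; simp [Finset.piecewise]
    rw [e, e] at hp
    rw [hp]
    refine Finset.sum_congr rfl fun k hk => ?_
    have hk' : k < i := Finset.mem_Iio.mp hk
    let g := fun x => if x < k then w x (m + 1) else if x = k then y x m else if x < i then w x m else if x = i then y x j else w x 0
    refine (congrArg φ ?_).trans ((φ.map_update_smul g k α (g k)).trans (by rw [Function.update_eq_self]))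
    funext x
    rcases eq_or_ne x k with rfl | hxk
    · simp [g, hk', hdiff m hm]
    · rw [Function.update_of_ne hxk]
      by_cases hxi : x < i
      · simp [g, hxi, hxk]
      · have hxk' : ¬ x < k := fun h' => hxi (h'.trans hk')
        simp [g, hxi, hxk', hxk]
  -- summing over the inner index
  have hB : ∀ m ≤ n, ∀ (k i : Fin r), k < i → (∑ j ∈ Finset.range m, α • h m j k i) =
      φ (fun x => if x < k then w x (m + 1) else if x = k then y x m else if x < i then w x m else if x = i then w x m - w x 0 else w x 0) := by
    intro m hm k i hki
    let g := fun x => if x < k then w x (m + 1) else if x = k then y x m else if x < i then w x m else w x 0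
    have e : ∀ v : ∀ x, M x, (fun x => if x < k then w x (m + 1) else if x = k then y x m else if x < i then w x m else
        if x = i then v x else w x 0) = Function.update g i (v i) := by
      intro v
      funext x
      rcases eq_or_ne x i with rfl | hxi
      · simp [hki.ne', hki.not_gt]
      · simp [g, hxi]
    simp only [h, e (fun x => y x _), e (fun x => w x m - w x 0)]
    rw [← Finset.smul_sum, ← φ.map_update_sum (Finset.range m) i (fun j => y i j) g, ← φ.map_update_smul, hsum m hm i]
  have hC : ∀ (m : ℕ) (k : Fin r),
      φ (fun x => if x < k then w x (m + 1) else if x = k then y x m else w x m) -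
        φ (fun x => if x < k then w x (m + 1) else if x = k then y x m else w x 0) =
      ∑ i ∈ Finset.Ioi k,
        φ (fun x => if x < k then w x (m + 1) else if x = k then y x m else if x < i then w x m else if x = i then w x m - w x 0 else w x 0) := by
    intro m k
    have hp := φ.map_piecewise_sub_map_piecewise (fun x => w x m) (fun x => w x 0)
      (fun x => if x < k then w x (m + 1) else y x m) (Finset.Ioi k)
    have e : ∀ c : ∀ x, M x, (Finset.Ioi k).piecewise c (fun x => if x < k then w x (m + 1) else y x m) =
        fun x => if x < k then w x (m + 1) else if x = k then y x m else c x := fun c => by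
      funext x
      rcases lt_trichotomy x k with hx | rfl | hx
      · simp [Finset.piecewise, hx, hx.not_gt]
      · simp [Finset.piecewise]
      · simp [Finset.piecewise, hx, hx.not_gt, hx.ne']
    rw [e, e] at hp
    rw [hp]
    refine Finset.sum_congr rfl fun i hi => ?_
    have hi' : k < i := Finset.mem_Ioi.mp hi
    congr 1
    funext x
    rcases lt_trichotomy x k with hx | rfl | hx
    · simp [hx, hx.not_gt, (hx.trans hi').ne, (hx.trans hi').ne']
    · simp [hi', hi'.ne, hi'.ne']
    · by_cases hxi : x < i
      · simp [hx, hx.not_gt, hx.ne', hxi, hxi.ne, hxi.ne']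
      · rcases eq_or_ne x i with rfl | hxi'
        · simp [hx, hx.not_gt, hx.ne']
        · simp [hx, hx.not_gt, hx.ne', hxi, hxi', Ne.symm hxi']
  rw [Finset.sum_comm]
  suffices H : ∀ m ≤ n, (∑ j ∈ Finset.range m, ∑ i : Fin r,
      φ (fun x => if x < i then w x (j + 1) else if x = i then y x j else w x j)) =
      ∑ i : Fin r, ∑ j ∈ Finset.range m, φ (fun x => if x < i then w x m else if x = i then y x j else w x 0) from H n le_rfl
  intro m hm
  induction m with
  | zero => simp
  | succ m ih =>
    rw [Finset.sum_range_succ, ih (by omega)]
    have h2 : ∀ k : Fin r, φ (fun x => if x < k then w x (m + 1) else if x = k then y x m else w x m) =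
        φ (fun x => if x < k then w x (m + 1) else if x = k then y x m else w x 0) +
          ∑ i ∈ Finset.Ioi k, ∑ j ∈ Finset.range m, α • h m j k i := fun k => by
      rw [Finset.sum_congr rfl fun i hi => hB m (by omega) k i (Finset.mem_Ioi.mp hi), ← hC m k]; abel
    have h3 : ∀ i : Fin r, (∑ j ∈ Finset.range (m + 1), φ (fun x => if x < i then w x (m + 1) else if x = i then y x j else w x 0)) =
        (∑ j ∈ Finset.range m, φ (fun x => if x < i then w x m else if x = i then y x j else w x 0)) +
          (∑ k ∈ Finset.Iio i, ∑ j ∈ Finset.range m, α • h m j k i) +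
          φ (fun x => if x < i then w x (m + 1) else if x = i then y x m else w x 0) := fun i => by
      rw [Finset.sum_range_succ, Finset.sum_comm (s := Finset.Iio i), ← Finset.sum_add_distrib]
      exact congrArg (· + _) (Finset.sum_congr rfl fun j _ => by rw [← hA m (by omega) i j]; abel)
    simp only [h2, h3, Finset.sum_add_distrib]
    rw [Finset.sum_comm' (s := Finset.univ) (t := fun i => Finset.Ioi i) (s' := fun i => Finset.Iio i) (t' := Finset.univ) (h := by simp)]
    abel

end Groth.Agent.S13682
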