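import Groth.Statements.S13691
import Groth.Agent.ASB64.SepInv
import Groth.Agent.ASB64.Retract
import Groth.Agent.ASB64.TypeClass

set_option autoImplicit false
universe u
open CategoryTheory CategoryTheory.Limits AlgebraicGeometry
open ASBun

namespace Groth.Agent.S13691

open W4c1astiltbs12 in
/-- Let X be proper over a field k and K a separable closure of k such that X_K is connected, with
projection π : X_K → X, and write σ_X for the automorphism of X_K induced by a k-automorphism σ of
K. Let M be an indecomposable finite locally free O_X-module (nonzero, and in any decomposition as a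
direct sum one summand is zero) which splits over K into invertible modules with Galois-invariant
classes: π^*M ≅ L_1 ⊕ ⋯ ⊕ L_n with each L_i invertible and σ_X^*L_i ≅ L_i for all σ and i. Then M is
isotypical of invertible type: π^*M ≅ L^{⊕r} for some invertible O_{X_K}-module L and some r ≥ 1,
and L is unique up to isomorphism with this property. (The published statement omits the invariance
of the summands L_i, and is then contradicted by the direct image on an elliptic curve of the
invertible module of a point defined over a quadratic extension but not over k; its argument also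
treats invertible modules on X_K as indecomposable, whence the connectedness hypothesis.) -/
theorem result (k : Type u) [Field k]
    {X : Scheme.{u}} (p : X ⟶ Spec (CommRingCat.of k)) [IsProper p] (K : Type u) [Field K]
    [Algebra k K] [IsSepClosure k K] [ConnectedSpace ↥(W4bk4gw11416.baseChange p K)]
    (M : X.Modules) (hM : FlatMod.IsFinLocFree M)
    (hMi : (¬ IsZero M ∧ ∀ A B : X.Modules, Nonempty (M ≅ A ⊞ B) → IsZero A ∨ IsZero B))
    (n : ℕ) (Ls : Fin n → (W4bk4gw11416.baseChange p K).Modules) (hLs : ∀ i, PicF.IsInvertible (Ls i))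
    (hinv : ∀ (σ : K ≃ₐ[k] K) (i : Fin n),
      Nonempty ((Scheme.Modules.pullback (galAct p K σ)).obj (Ls i) ≅ Ls i))
    (e : Nonempty (bcMod p K M ≅ ∐ Ls)) :
    ∃ (L : (W4bk4gw11416.baseChange p K).Modules) (r : ℕ), PicF.IsInvertible L ∧ 0 < r ∧
      Nonempty (bcMod p K M ≅ pow L r) ∧
      ∀ (L' : (W4bk4gw11416.baseChange p K).Modules) (r' : ℕ), PicF.IsInvertible L' →
        Nonempty (bcMod p K M ≅ pow L' r') → Nonempty (L' ≅ L) := by
  haveI : IsGalois k K := IsSepClosure.isGalois
  letI : X.Over (Spec (CommRingCat.of k)) := ⟨p⟩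
  haveI : IsProper (X ↘ Spec (CommRingCat.of k)) := ‹IsProper p›
  haveI : IsLocallyNoetherian X := LocallyOfFiniteType.isLocallyNoetherian (X ↘ Spec (CommRingCat.of k))
  haveI : HasFiniteBiproducts X.Modules := HasFiniteBiproducts.of_hasFiniteProducts
  haveI : HasFiniteBiproducts (W4bk4gw11416.baseChange p K).Modules := HasFiniteBiproducts.of_hasFiniteProducts
  have hcM : Coh.IsCoh M := ⟨Groth.Agent.Props58.LocFree.isQuasicoherent_of_isFinLocFree hM,
    Groth.Agent.Props58.LocFree.isFiniteType_of_isFinLocFree hM⟩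
  obtain ⟨e⟩ := e
  let v := e ≪≫ (biproduct.isoCoproduct Ls).symm
  have hn : 0 < n := by
    rcases Nat.eq_zero_or_pos n with hn | hn
    · subst hn
      have h0 : IsZero (⨁ fun _ : Fin 0 => M) :=
        (IsZero.iff_id_eq_zero _).mpr (biproduct.hom_ext _ _ fun a => a.elim0)
      obtain ⟨q⟩ := Groth.Agent.S13687.result k p K _ _ hcM
        (Groth.Agent.QC70.isCoh_biproduct (fun _ : Fin 0 => M) fun _ => hcM)
        (IsZero.iso (IsZero.of_iso ((IsZero.iff_id_eq_zero _).mpr (biproduct.hom_ext _ _ fun a => a.elim0)) v)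
          ((Scheme.Modules.pullback (proj p K)).map_isZero h0))
      exact absurd (IsZero.of_iso h0 q) hMi.1
    · exact hn
  have hind : ∀ {N : (W4bk4gw11416.baseChange p K).Modules}, PicF.IsInvertible N → Groth.Agent.KSchm95.Indec N :=
    fun hN => Groth.Agent.ASB64.indec_of_isInvertible hN
  let i₀ : Fin n := ⟨0, hn⟩
  obtain ⟨G, r, hG, hGi, hr, ⟨w⟩⟩ := Groth.Agent.ASB64.exists_indec_of_invariant
    (Groth.Agent.ASB64.isFinLocFree_of_isInvertible (hLs i₀)) (hind (hLs i₀)) fun σ => hinv σ i₀
  obtain ⟨g⟩ := Groth.Agent.ASB64.nonempty_iso_of_retract p K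
    ⟨Groth.Agent.Props58.LocFree.isQuasicoherent_of_isFinLocFree hG,
      Groth.Agent.Props58.LocFree.isFiniteType_of_isFinLocFree hG⟩ hcM hGi hMi w
    (biproduct.ι Ls i₀ ≫ v.inv) (v.hom ≫ biproduct.π Ls i₀) (by simp)
  let u : bcMod p K M ≅ pow (Ls i₀) r := (Scheme.Modules.pullback (proj p K)).mapIso g ≪≫ w
  refine ⟨Ls i₀, r, hLs i₀, hr, ⟨u⟩, fun L' r' hL' ⟨u'⟩ => ?_⟩
  haveI := hcM.1; haveI := hcM.2
  haveI : IsArtinianRing (End (bcMod p K M)) := Groth.Agent.KSchm95.isArtinianRing_end (k := K)
    (X := Groth.Agent.FF71.bc k X K) (bcMod p K M)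
    ⟨Groth.Agent.QCPull72.isQuasicoherent_pullback _ M, Groth.Agent.QCPull72.isFiniteType_pullback _ M⟩
  obtain ⟨σ, hσ⟩ := Groth.Agent.KSchm95.exists_equiv_of_iso (fun _ : Fin r' => L') (fun _ : Fin r => Ls i₀)
    (fun _ => hind hL') (fun _ => hind (hLs i₀))
    (u' ≪≫ (biproduct.isoCoproduct fun _ : Fin r' => L').symm) (u ≪≫ (biproduct.isoCoproduct fun _ : Fin r => Ls i₀).symm)
  exact hσ (σ.symm ⟨0, hr⟩)

end Groth.Agent.S13691
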