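import Groth.Statements.S13694
import Groth.Agent.ASB64.Isotypical
import Groth.Agent.ASB64.GlobalConst
import Groth.Agent.Props58.LocFree.Criteria

set_option autoImplicit false
universe u
open CategoryTheory CategoryTheory.Limits AlgebraicGeometry
open ASBun

namespace Groth.Agent.S13694

open W4c1astiltbs12 in
/-- Let X be a proper, geometrically integral scheme over a field k, K an algebraic closure of k with
projection π : X_K → X, and E an indecomposable finite locally free O_X-module (nonzero, and in any
decomposition as a direct sum one summand is zero) which is absolutely rank-one-isotypical: π^*E ≅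
L^{⊕r} for some invertible O_{X_K}-module L and some r. Then the endomorphism ring of E is a
division ring: every nonzero endomorphism of E is an isomorphism. (The published statement says more
precisely that this ring is a central division algebra over k; only the division-ring property is
stated here.) -/
theorem result (k : Type u) [Field k]
    {X : Scheme.{u}} (p : X ⟶ Spec (CommRingCat.of k)) [IsProper p] [GeometricallyIntegral p]
    (K : Type u) [Field K] [Algebra k K] [IsAlgClosure k K]
    (E : X.Modules) (hE : FlatMod.IsFinLocFree E)
    (hEi : (¬ IsZero E ∧ ∀ A B : X.Modules, Nonempty (E ≅ A ⊞ B) → IsZero A ∨ IsZero B))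
    (L : (W4bk4gw11416.baseChange p K).Modules) (hL : PicF.IsInvertible L) (r : ℕ)
    (e : Nonempty (bcMod p K E ≅ pow L r)) (f : E ⟶ E) (hf : f ≠ 0) : IsIso f := by
  letI : X.Over (Spec (CommRingCat.of k)) := ⟨p⟩
  haveI : IsProper (X ↘ Spec (CommRingCat.of k)) := ‹IsProper p›
  haveI : AlgebraicGeometry.IsIntegral (W4bk4gw11416.baseChange p K) :=
    GeometricallyIntegral.geometrically_isIntegral _ _ _ (.of_hasPullback _ _)
  have hcoh : Coh.IsCoh E := ⟨Groth.Agent.Props58.LocFree.isQuasicoherent_of_isFinLocFree hE,
    Groth.Agent.Props58.LocFree.isFiniteType_of_isFinLocFree hE⟩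
  haveI : IsProper (pullback.snd p (Spec.map (CommRingCat.ofHom (algebraMap k K)))) :=
    inferInstanceAs (IsProper (Groth.Agent.FF71.bc k X K ↘ Spec (CommRingCat.of K)))
  haveI : IsAlgClosed K := IsAlgClosure.isAlgClosed k
  have h := Groth.Agent.ASB64.isUnit_of_ne_zero (K := K) hcoh
    (Groth.Agent.ASB64.bijective_toGlobal (pullback.snd p (Spec.map (CommRingCat.ofHom (algebraMap k K))))) hL e.some hEi
    (End.of f) hf
  exact (isUnit_iff_isIso f).mp h

end Groth.Agent.S13694
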