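import Groth.Statements.S13702
import Mathlib

set_option autoImplicit false
universe u
open ZeroCyc

namespace Groth.Agent.S13702

/-- Let A be a local ring with residue field of characteristic p > 0, let g ∈ A[X] be monic and
separable of degree n, so that A' = A[X]/(g) is an étale A-algebra, and let q = p^s with s ≥ 0. Then
the powers 1, t^q, t^{2q}, …, t^{(n-1)q} of the class t of X form a basis of A' as an A-module. -/
theorem result {A : Type u} [CommRing A] [IsLocalRing A] (p : ℕ) [Fact p.Prime]
    [CharP (IsLocalRing.ResidueField A) p] (g : Polynomial A) (hg : g.Monic) (hsep : g.Separable) (s : ℕ) :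
    ∃ b : Module.Basis (Fin g.natDegree) A (AdjoinRoot g),
      ∀ i : Fin g.natDegree, b i = AdjoinRoot.root g ^ (p ^ s * (i : ℕ)) := by
  classical
  let k := IsLocalRing.ResidueField A
  let π : A →+* k := IsLocalRing.residue A
  set gb := g.map π with hgb
  have hgbm : gb.Monic := hg.map π
  have hgbs : gb.Separable := hsep.map
  have hn : gb.natDegree = g.natDegree := hg.natDegree_map π
  set y : AdjoinRoot gb := AdjoinRoot.root gb ^ p ^ s
  have hy : ∀ h : Polynomial k, Polynomial.aeval y h = AdjoinRoot.mk gb (h.comp (Polynomial.X ^ p ^ s)) := fun h => by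
    rw [← AdjoinRoot.aeval_eq, Polynomial.aeval_comp]; simp [y]
  have : Module.Finite k (AdjoinRoot gb) := hgbm.finite_adjoinRoot
  have hrank : Module.finrank k (AdjoinRoot gb) = g.natDegree := by
    rw [(AdjoinRoot.powerBasis hgbm.ne_zero).finrank, AdjoinRoot.powerBasis_dim, hn]
  have hind : LinearIndependent k fun i : Fin g.natDegree => y ^ (i : ℕ) := by
    rw [Fintype.linearIndependent_iff]
    intro c hc i
    set h : Polynomial k := ∑ j : Fin g.natDegree, Polynomial.C (c j) * Polynomial.X ^ (j : ℕ) with hh
    have h0 : gb ∣ h.comp (Polynomial.X ^ p ^ s) := by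
      rw [← AdjoinRoot.mk_eq_zero, ← hy]
      simpa [hh, Algebra.smul_def] using hc
    have hzero : h = 0 := by
      by_contra hne
      let L := AlgebraicClosure k
      have : CharP L p := charP_of_injective_algebraMap (algebraMap k L).injective p
      let R := (gb.aroots L).toFinset
      have hcard : R.card = g.natDegree := by
        rw [Multiset.toFinset_card_of_nodup (Polynomial.nodup_roots hgbs.map),
          IsAlgClosed.card_aroots_eq_natDegree, hn]
      have hle := Polynomial.card_le_degree_of_subset_roots (p := h.map (algebraMap k L))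
        (Z := R.image fun a => a ^ p ^ s) (by
          intro a ha
          obtain ⟨r, hr, rfl⟩ := Finset.mem_image.mp ha
          rw [Polynomial.mem_roots (Polynomial.map_ne_zero hne)]
          obtain ⟨q, hq⟩ := h0
          have h1 := congrArg (Polynomial.aeval r) hq
          rw [Polynomial.aeval_comp, map_mul, (Polynomial.mem_aroots.mp (Multiset.mem_toFinset.mp hr)).2,
            zero_mul] at h1
          simpa [Polynomial.IsRoot, Polynomial.eval_map_algebraMap] using h1)
      rw [Finset.card_image_of_injective _ (show Function.Injective fun a : L => a ^ p ^ s from iterateFrobenius_inj L p s), hcard, Polynomial.natDegree_map] at hle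
      have h2 : h.natDegree < g.natDegree := by
        rw [Polynomial.natDegree_lt_iff_degree_lt hne]
        exact lt_of_le_of_lt (le_of_eq rfl) (Polynomial.degree_sum_fin_lt c)
      omega
    have h3 := congrArg (fun q => Polynomial.coeff q (i : ℕ)) hzero
    simpa [hh, Polynomial.finsetSum_coeff, Polynomial.coeff_C_mul, Polynomial.coeff_X_pow, Fin.val_inj] using h3
  have hspan : Submodule.span k (Set.range fun i : Fin g.natDegree => y ^ (i : ℕ)) = ⊤ :=
    hind.span_eq_top_of_card_eq_finrank' (by simp [hrank])
  set v : Fin g.natDegree → AdjoinRoot g := fun i => AdjoinRoot.root g ^ (p ^ s * (i : ℕ))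
  have : Module.Finite A (AdjoinRoot g) := hg.finite_adjoinRoot
  have hv : ⊤ ≤ Submodule.span A (Set.range v) := by
    refine Submodule.le_of_le_smul_of_le_jacobson_bot (I := IsLocalRing.maximalIdeal A) Module.Finite.fg_top
      (IsLocalRing.maximalIdeal_le_jacobson _) ?_
    intro z _
    obtain ⟨f, rfl⟩ := AdjoinRoot.mk_surjective z
    obtain ⟨c, hc⟩ := (Submodule.mem_span_range_iff_exists_fun k).mp
      (hspan.symm ▸ Submodule.mem_top : AdjoinRoot.mk gb (f.map π) ∈ _)
    choose a ha using fun i => IsLocalRing.residue_surjective (c i)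
    set f' := f - ∑ i : Fin g.natDegree, Polynomial.C (a i) * Polynomial.X ^ (p ^ s * (i : ℕ))
    have h4 : gb ∣ f'.map π := by
      rw [← AdjoinRoot.mk_eq_zero, Polynomial.map_sub, map_sub, sub_eq_zero, ← hc, Polynomial.map_sum, map_sum]
      refine Finset.sum_congr rfl fun i _ => ?_
      simp [π, ha, y, pow_mul, Algebra.smul_def, AdjoinRoot.algebraMap_eq]
    obtain ⟨q, hq⟩ := h4
    obtain ⟨q', rfl⟩ := Polynomial.map_surjective π IsLocalRing.residue_surjective q
    have h5 : AdjoinRoot.mk g f = (∑ i, a i • v i) + AdjoinRoot.mk g (f' - g * q') := by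
      simp only [f', v, map_sub, map_mul, AdjoinRoot.mk_self, zero_mul, sub_zero, map_sum, Algebra.smul_def,
        map_pow, AdjoinRoot.mk_X, AdjoinRoot.mk_C, AdjoinRoot.algebraMap_eq]
      ring
    rw [h5]
    refine Submodule.add_mem_sup (sum_mem fun i _ => Submodule.smul_mem _ _ (Submodule.subset_span ⟨i, rfl⟩)) ?_
    rw [← Polynomial.sum_monomial_eq (f' - g * q'), Polynomial.sum, map_sum]
    refine sum_mem fun j _ => ?_
    rw [← Polynomial.C_mul_X_pow_eq_monomial, map_mul, AdjoinRoot.mk_C, ← AdjoinRoot.algebraMap_eq,
      ← Algebra.smul_def]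
    refine Submodule.smul_mem_smul ?_ Submodule.mem_top
    rw [← IsLocalRing.residue_eq_zero_iff]
    have h6 := congrArg (fun q => Polynomial.coeff q j) (sub_eq_zero.mpr hq)
    simp only [hgb, ← Polynomial.map_mul, ← Polynomial.map_sub, Polynomial.coeff_map, Polynomial.coeff_zero] at h6
    exact h6
  have hfr : Fintype.card (Fin g.natDegree) = Module.finrank A (AdjoinRoot g) := by
    rw [(AdjoinRoot.powerBasis' hg).finrank, AdjoinRoot.powerBasis'_dim, Fintype.card_fin]
  have : Module.Free A (AdjoinRoot g) := Module.Free.of_basis (AdjoinRoot.powerBasis' hg).basis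
  exact ⟨Module.Basis.mk (linearIndependent_of_top_le_span_of_card_eq_finrank hv hfr) hv, fun i => Module.Basis.mk_apply _ _ i⟩

end Groth.Agent.S13702
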