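import Groth.Statements.S13703
import Groth.Agent.PolLaw95.Fibre

set_option autoImplicit false
universe u
open scoped TensorProduct
open ZeroCyc

namespace Groth.Agent.S13703

/-- Let A be an integral domain, B a commutative A-algebra and F : B → A a multiplicative polynomial law
homogeneous of degree d. For every prime ideal P of B minimal among those containing the kernel of
F, the contraction of P to A is zero and every prime of A is the contraction of a prime of B
containing P. Geometrically: every irreducible component of the support of the family of zero-cycles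
on Spec B defined by F maps onto Spec A. (The published statement is over an arbitrary algebraic
space S, every irreducible component of the support mapping onto an irreducible component of S, and
its proof reduces to an integral affine base; this row is that case.) -/
theorem result {A : Type u} [CommRing A] [IsDomain A] {B : Type u} [CommRing B] [Algebra A B]
    {d : ℕ} (F : PolLaw.MulLaw A B A d) {P : Ideal B} (hP : P ∈ (PolLaw.ker F.law).minimalPrimes) :
    P.comap (algebraMap A B) = ⊥ ∧
      ∀ q : Ideal A, q.IsPrime → ∃ Q : Ideal B, Q.IsPrime ∧ P ≤ Q ∧ Q.comap (algebraMap A B) = q := by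
  have hg := PolLaw95.generalizingMap_comap_tensor_image (A' := A) F
  have hint := PolLaw95.isIntegral_image F
  have := hP.1.1
  have hker : PolLaw.ker F.law ≤ P := hP.1.2
  let e := Algebra.TensorProduct.lid A (PolLaw.image F.law)
  let π : B →ₐ[A] PolLaw.image F.law := Ideal.Quotient.mkₐ A _
  set P' : Ideal (PolLaw.image F.law) := P.map π with hP'
  have hP'c : P'.comap π = P := by
    rw [hP', Ideal.comap_map_of_surjective π (Ideal.Quotient.mkₐ_surjective A _)]
    refine sup_eq_left.mpr fun x hx => hker ?_
    exact Ideal.Quotient.eq_zero_iff_mem.mp hx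
  have hP'p : P'.IsPrime := Ideal.map_isPrime_of_surjective (Ideal.Quotient.mkₐ_surjective A _)
    (fun x hx => hker (Ideal.Quotient.eq_zero_iff_mem.mp hx))
  have hbot : P.comap (algebraMap A B) = ⊥ := by
    let Q : PrimeSpectrum (A ⊗[A] PolLaw.image F.law) := ⟨P'.comap e.toAlgHom, Ideal.IsPrime.comap _⟩
    have hspec : (⟨⊥, Ideal.isPrime_bot⟩ : PrimeSpectrum A) ⤳
        PrimeSpectrum.comap (algebraMap A (A ⊗[A] PolLaw.image F.law)) Q :=
      (PrimeSpectrum.le_iff_specializes _ _).mp bot_le
    obtain ⟨Q0, hQ0, hQ0'⟩ := hg hspec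
    have hle : Q0.asIdeal ≤ Q.asIdeal := (PrimeSpectrum.le_iff_specializes _ _).mpr hQ0
    let P0 : Ideal B := Q0.asIdeal.comap ((e.symm.toAlgHom).comp π)
    have hP0 : P0 ≤ P := by
      rw [← hP'c]
      intro x hx
      have := hle hx
      simpa [Q, e] using this
    have hk0 : PolLaw.ker F.law ≤ P0 := fun x hx => by
      simp only [P0, Ideal.mem_comap, AlgHom.comp_apply]
      rw [show π x = 0 from Ideal.Quotient.eq_zero_iff_mem.mpr hx, map_zero]
      exact zero_mem _
    have heq : P = P0 := le_antisymm (hP.2 ⟨Ideal.IsPrime.comap _, hk0⟩ hP0) hP0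
    rw [heq]
    ext a
    have h2 : Q0.asIdeal.comap (algebraMap A (A ⊗[A] PolLaw.image F.law)) = ⊥ := congrArg PrimeSpectrum.asIdeal hQ0'
    rw [← h2]
    simp only [P0, Ideal.mem_comap, AlgHom.comp_apply]
    rw [AlgHom.commutes π, AlgHom.commutes]
  refine ⟨hbot, fun q hq => ?_⟩
  obtain ⟨Q, hQ, hQp, hQq⟩ := Ideal.exists_ideal_over_prime_of_isIntegral q P' (by
    rw [show P'.comap (algebraMap A (PolLaw.image F.law)) = (P'.comap π).comap (algebraMap A B) from rfl, hP'c, hbot]
    exact bot_le)
  exact ⟨Q.comap π, Ideal.IsPrime.comap _, hP'c.symm.trans_le (Ideal.comap_mono hQ), hQq⟩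

end Groth.Agent.S13703
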