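import Groth.Statements.S13706
import Groth.Agent.PolLaw95.Fibre
import Mathlib.RingTheory.IntegralClosure.IntegrallyClosed
import Mathlib.RingTheory.FiniteType

set_option autoImplicit false
universe u
open scoped TensorProduct
open ZeroCyc

namespace Groth.Agent.S13706

/-- Let A be a commutative ring, B an A-algebra of finite type and F : B → A a multiplicative polynomial
law homogeneous of degree d. Then there is a finitely generated ideal J of B, contained in the
kernel of F and with the same radical; thus the support of the family of zero-cycles defined by F is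
carried by a bijective closed immersion into Spec(B/J), a scheme of finite presentation over A. -/
theorem result {A : Type u} [CommRing A] {B : Type u} [CommRing B] [Algebra A B]
    [Algebra.FiniteType A B] {d : ℕ} (F : PolLaw.MulLaw A B A d) :
    ∃ J : Ideal B, J.FG ∧ J ≤ PolLaw.ker F.law ∧ J.radical = (PolLaw.ker F.law).radical := by
  classical
  obtain ⟨S, hS⟩ := ‹Algebra.FiniteType A B›.out
  let χ : B → B := fun b => Polynomial.aeval b (TensorProduct.rid A (Polynomial A)
    (F.law.toFun' (Polynomial A) ((1 : Polynomial A) ⊗ₜ[A] b - (Polynomial.X : Polynomial A) ⊗ₜ[A] (1 : B))))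
  let J0 : Ideal B := Ideal.span (S.image χ : Set B)
  have hJ0 : J0 ≤ PolLaw.ker F.law := Ideal.span_le.mpr fun y hy => by
    obtain ⟨b, -, rfl⟩ := Finset.mem_image.mp hy
    exact PolLaw95.aeval_charPoly_mem_ker F b
  have hgen : ∀ s ∈ S, IsIntegral A (Ideal.Quotient.mkₐ A J0 s) := fun s hs => by
    obtain ⟨q, hq, e⟩ := PolLaw95.charPoly_monic F s
    refine ⟨q, hq, ?_⟩
    have h : Ideal.Quotient.mkₐ A J0 (χ s) = 0 :=
      Ideal.Quotient.eq_zero_iff_mem.mpr (Ideal.subset_span (Finset.mem_image_of_mem χ hs))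
    simp only [χ] at h
    rw [e, map_mul, map_mul, Polynomial.aeval_C, AlgHom.commutes, ← Polynomial.aeval_algHom_apply] at h
    refine ((isUnit_one.neg.pow d).map (algebraMap A (B ⧸ J0))).mul_right_eq_zero.mp ?_
    rw [← Polynomial.aeval_def]
    exact h
  have : Algebra.IsIntegral A (B ⧸ J0) := ⟨fun y => by
    obtain ⟨b, rfl⟩ := Ideal.Quotient.mkₐ_surjective A J0 y
    have hb : b ∈ Algebra.adjoin A (S : Set B) := hS ▸ Algebra.mem_top
    induction hb using Algebra.adjoin_induction with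
    | mem x hx => exact hgen x hx
    | algebraMap r => rw [AlgHom.commutes]; exact isIntegral_algebraMap
    | add x y _ _ hx hy => rw [map_add]; exact hx.add hy
    | mul x y _ _ hx hy => rw [map_mul]; exact hx.mul hy⟩
  have : Algebra.FiniteType A (B ⧸ J0) := Algebra.FiniteType.of_surjective (Ideal.Quotient.mkₐ A J0) (Ideal.Quotient.mkₐ_surjective A J0)
  have : Module.Finite A (B ⧸ J0) := Algebra.IsIntegral.finite
  obtain ⟨r, g, hg⟩ := Submodule.fg_iff_exists_fin_generating_family.mp (Module.finite_def.mp ‹Module.Finite A (B ⧸ J0)›)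
  choose h hh using fun i => Ideal.Quotient.mkₐ_surjective A J0 (g i)
  let R := MvPolynomial (Fin r) A
  let z : R ⊗[A] B := PolLaw95.uni A h
  let c := PolLaw95.chiEval F z
  have hc : ∀ α, PolLaw95.coefL c α ∈ PolLaw.ker F.law := fun α =>
    PolLaw95.coefL_mem_ker F.law α c (PolLaw95.chiEval_mem_kerBC F z)
  let T : Finset B := (PolLaw95.coefL c).support.image fun α => PolLaw95.coefL c α
  refine ⟨J0 ⊔ Ideal.span (T : Set B), Submodule.FG.sup ⟨_, rfl⟩ ⟨_, rfl⟩, ?_, ?_⟩
  · refine sup_le hJ0 (Ideal.span_le.mpr fun y hy => ?_)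
    obtain ⟨α, -, rfl⟩ := Finset.mem_image.mp hy
    exact hc α
  refine le_antisymm (Ideal.radical_mono (sup_le hJ0 (Ideal.span_le.mpr fun y hy => by
    obtain ⟨α, -, rfl⟩ := Finset.mem_image.mp hy
    exact hc α))) (Ideal.radical_le_radical_iff.mpr fun b hb => ?_)
  obtain ⟨a, ha⟩ := (Submodule.mem_span_range_iff_exists_fun A).mp
    (hg.symm ▸ Submodule.mem_top : Ideal.Quotient.mkₐ A J0 b ∈ _)
  set b' := ∑ i, a i • h i with hb'
  have hdiff : b - b' ∈ J0 := by
    refine Ideal.Quotient.eq.mp ?_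
    change Ideal.Quotient.mkₐ A J0 b = Ideal.Quotient.mkₐ A J0 b'
    simp [b', map_sum, hh, ha]
  have hb'k : b' ∈ PolLaw.ker F.law := by
    have := Ideal.sub_mem _ hb (hJ0 hdiff)
    simpa using this
  let ev : R →ₐ[A] A := MvPolynomial.aeval a
  let Φ : R ⊗[A] B →ₐ[A] B := (Algebra.TensorProduct.lid A B).toAlgHom.comp (PolLaw95.rTA ev B)
  have hΦc : Φ c ∈ J0 ⊔ Ideal.span (T : Set B) := by
    rw [PolLaw95.eq_sum_coef c, map_sum]
    refine sum_mem fun α hα => Ideal.mem_sup_right ?_
    simp only [Φ, AlgHom.comp_apply, PolLaw95.rTA, Algebra.TensorProduct.map_tmul, AlgHom.id_apply, AlgEquiv.coe_toAlgHom,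
      Algebra.TensorProduct.lid_tmul]
    exact Submodule.smul_of_tower_mem _ _ (Ideal.subset_span (Finset.mem_image_of_mem _ hα))
  have hz : PolLaw95.rTA ev B z = (1 : A) ⊗ₜ[A] b' := by
    rw [← PolLaw95.rT_eq_rTA, PolLaw95.rT_aeval_uni, hb', TensorProduct.tmul_sum]
    exact Finset.sum_congr rfl fun i _ => by rw [TensorProduct.tmul_smul, TensorProduct.smul_tmul', smul_eq_mul, mul_one]
  have hval : Φ c = (-b') ^ d := by
    change Algebra.TensorProduct.lid A B (PolLaw95.rTA ev B c) = _
    have hk : (1 : A) ⊗ₜ[A] b' ∈ PolLaw.kerBC F.law A := PolLaw95.map_ker_le_kerBC F.law A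
      (Ideal.mem_map_of_mem (Algebra.TensorProduct.includeRight : B →ₐ[A] A ⊗[A] B) hb'k)
    rw [← PolLaw95.chiEval_rTA, hz, PolLaw95.chiEval, PolLaw95.chiBC_eq_of_mem_kerBC F hk]
    simp
  have h1 : (-b') ^ d ∈ J0 ⊔ Ideal.span (T : Set B) := hval ▸ hΦc
  have h2 : -b' ∈ (J0 ⊔ Ideal.span (T : Set B)).radical := ⟨d, h1⟩
  have h3 : b - b' ∈ (J0 ⊔ Ideal.span (T : Set B)).radical := Ideal.le_radical (Ideal.mem_sup_left hdiff)
  have h4 := Ideal.sub_mem _ h3 h2
  rwa [sub_neg_eq_add, sub_add_cancel] at h4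

end Groth.Agent.S13706
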