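import Groth.Statements.S13707
import Groth.Agent.PolLaw95.Fibre
import Mathlib.FieldTheory.IsAlgClosed.AlgebraicClosure
import Mathlib.FieldTheory.SeparableDegree

set_option autoImplicit false
universe u
open scoped TensorProduct
open ZeroCyc

namespace Groth.Agent.S13707

/-- Let k be a field, B a commutative k-algebra and F : B → k a multiplicative polynomial law
homogeneous of degree d. Then the spectrum of B/ker F (the image of the family of zero-cycles of
degree d on Spec B defined by F) is a finite set of at most d closed points, and the residue field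
at each of them has finite separable degree over k. -/
theorem result {k : Type u} [Field k] {B : Type u} [CommRing B] [Algebra k B]
    {d : ℕ} (F : PolLaw.MulLaw k B k d) :
    Finite (PrimeSpectrum (PolLaw.image F.law)) ∧ Nat.card (PrimeSpectrum (PolLaw.image F.law)) ≤ d ∧
      ∀ P : PrimeSpectrum (PolLaw.image F.law), P.asIdeal.IsMaximal ∧
        Finite (Field.Emb k P.asIdeal.ResidueField) := by
  let e := (Algebra.TensorProduct.lid k (PolLaw.image F.law)).toRingEquiv
  obtain ⟨hfin, hcard⟩ := PolLaw95.finite_primeSpectrum_tensor F k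
  let eS := PrimeSpectrum.comapEquiv e
  have := Finite.of_equiv _ eS.toEquiv
  have hint := PolLaw95.isIntegral_image F
  refine ⟨Finite.of_equiv _ eS.toEquiv, (Nat.card_congr eS.toEquiv).symm.trans_le hcard, fun P => ⟨?_, ?_⟩⟩
  · refine Ideal.isMaximal_of_isIntegral_of_isMaximal_comap (R := k) _ ?_
    have hp : (P.asIdeal.comap (algebraMap k (PolLaw.image F.law))).IsPrime := Ideal.IsPrime.comap _
    rw [(IsSimpleOrder.eq_bot_or_eq_top (α := Ideal k) _).resolve_right hp.ne_top]
    exact Ideal.bot_isMaximal
  · let L := AlgebraicClosure P.asIdeal.ResidueField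
    have := (PolLaw95.finite_primeSpectrum_tensor F L).1
    let Φ : Field.Emb k P.asIdeal.ResidueField → (L ⊗[k] PolLaw.image F.law →ₐ[L] L) := fun σ =>
      Algebra.TensorProduct.lift (AlgHom.id L L) (σ.comp (IsScalarTower.toAlgHom k _ _)) fun _ _ => Commute.all _ _
    refine Finite.of_injective (fun σ => (⟨RingHom.ker (Φ σ), RingHom.ker_isPrime _⟩ : PrimeSpectrum _)) fun σ τ hst => ?_
    have hk : RingHom.ker (Φ σ) = RingHom.ker (Φ τ) := congrArg PrimeSpectrum.asIdeal hst
    have hΦ : ∀ x, Φ σ x = Φ τ x := fun x => by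
      have hx : x - algebraMap L _ (Φ σ x) ∈ RingHom.ker (Φ σ) := by
        rw [RingHom.mem_ker, map_sub, AlgHom.commutes]; exact sub_self _
      rw [hk, RingHom.mem_ker, map_sub, AlgHom.commutes, sub_eq_zero] at hx
      exact hx.symm
    have key : ∀ b : PolLaw.image F.law, σ (algebraMap _ _ b) = τ (algebraMap _ _ b) := fun b => by
      simpa [Φ] using hΦ (1 ⊗ₜ b)
    refine AlgHom.coe_ringHom_injective (IsFractionRing.ringHom_ext (A := PolLaw.image F.law ⧸ P.asIdeal) fun x => ?_)
    obtain ⟨b, rfl⟩ := Ideal.Quotient.mk_surjective x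
    exact key b

end Groth.Agent.S13707
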