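import Groth.Statements.S13708
import Mathlib

set_option autoImplicit false
universe u
open CategoryTheory CategoryTheory.Limits AlgebraicGeometry
open ZeroCyc

namespace Groth.Agent.S13708

/-- Let X be a scheme over S such that every finite set of points of X over a common point of S lies in
some affine open subscheme of X (the condition (AF)). Then X is separated over S. (The published
condition (AF) asks for an open U with U → S quasi-affine rather than U affine; with U affine, as
here, the same argument applies verbatim, and the two conditions agree over a quasi-separated base.) -/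
theorem result {X S : Scheme.{u}} (f : X ⟶ S) (hX : SymProd.IsAF f) :
    IsSeparated f := by
  refine ⟨IsClosedImmersion.of_isPreimmersion (pullback.diagonal f) ?_⟩
  rw [← isOpen_compl_iff, isOpen_iff_forall_mem_open]
  intro z hz
  obtain ⟨U, hU, hTU⟩ := hX (f.base (pullback.fst f f z))
    (by classical exact {pullback.fst f f z, pullback.snd f f z}) (by
      intro x hx
      simp only [Finset.mem_insert, Finset.mem_singleton] at hx
      rcases hx with rfl | rfl
      · rfl
      · show f (pullback.snd f f z) = f (pullback.fst f f z)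
        rw [← Scheme.Hom.comp_apply, ← Scheme.Hom.comp_apply, pullback.condition])
  have : IsAffine U.toScheme := hU
  have : IsSeparated (U.ι ≫ f ≫ terminal.from S) := inferInstanceAs (IsSeparated _)
  have : IsSeparated ((U.ι ≫ f) ≫ terminal.from S) := by rwa [Category.assoc]
  have : IsSeparated (U.ι ≫ f) := IsSeparated.of_comp (U.ι ≫ f) (terminal.from S)
  let m := pullback.map (U.ι ≫ f) (U.ι ≫ f) f f U.ι U.ι (𝟙 S) (Category.comp_id _) (Category.comp_id _)
  have hΔ : pullback.diagonal (U.ι ≫ f) ≫ m = U.ι ≫ pullback.diagonal f := by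
    apply pullback.hom_ext
    · rw [Category.assoc, Category.assoc, pullback.lift_fst, ← Category.assoc,
        pullback.diagonal_fst, Category.id_comp, pullback.diagonal_fst, Category.comp_id]
    · rw [Category.assoc, Category.assoc, pullback.lift_snd, ← Category.assoc,
        pullback.diagonal_snd, Category.id_comp, pullback.diagonal_snd, Category.comp_id]
  obtain ⟨z', rfl⟩ : z ∈ Set.range m := by
    rw [Scheme.Pullback.range_map]
    classical
    refine ⟨?_, ?_⟩
    · show pullback.fst f f z ∈ Set.range U.ι
      rw [Scheme.Opens.range_ι]; exact hTU _ (by simp)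
    · show pullback.snd f f z ∈ Set.range U.ι
      rw [Scheme.Opens.range_ι]; exact hTU _ (by simp)
  refine ⟨m '' (Set.range (pullback.diagonal (U.ι ≫ f)))ᶜ, ?_, ?_, ⟨z', ?_, rfl⟩⟩
  · rintro _ ⟨w, hw, rfl⟩ ⟨x, hx⟩
    apply hw
    have hxU : x ∈ Set.range U.ι := by
      refine ⟨pullback.fst (U.ι ≫ f) (U.ι ≫ f) w, ?_⟩
      have := congrArg (pullback.fst f f) hx
      rw [← Scheme.Hom.comp_apply, pullback.diagonal_fst, ← Scheme.Hom.comp_apply,
        pullback.lift_fst] at this
      rw [← Scheme.Hom.comp_apply]
      exact this.symm
    obtain ⟨u, rfl⟩ := hxU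
    refine ⟨u, m.isOpenEmbedding.injective ?_⟩
    rw [← Scheme.Hom.comp_apply, hΔ, Scheme.Hom.comp_apply]
    exact hx
  · exact m.isOpenEmbedding.isOpenMap _ (pullback.diagonal (U.ι ≫ f)).isClosedEmbedding.isClosed_range.isOpen_compl
  · rintro ⟨u, rfl⟩
    refine hz ⟨U.ι u, ?_⟩
    rw [← Scheme.Hom.comp_apply, ← hΔ]
    rfl

end Groth.Agent.S13708
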