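import Groth.Statements.S13709
import Mathlib.AlgebraicGeometry.Morphisms.UniversallyOpen
import Mathlib.AlgebraicGeometry.Morphisms.QuasiCompact

set_option autoImplicit false
universe u
open CategoryTheory CategoryTheory.Limits AlgebraicGeometry
open ZeroCyc

namespace Groth.Agent.S13709

/-- Let f : X → Y be a quasi-compact morphism of schemes and g : Y' → Y a faithfully flat morphism, i.e.
flat and surjective, with no quasi-compactness assumption on g. If the base change X ×_Y Y' → Y' of
f along g is a homeomorphism on underlying spaces, then so is f. -/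
theorem result {X Y Y' : Scheme.{u}} (f : X ⟶ Y) (g : Y' ⟶ Y)
    [Flat g] [Surjective g] [QuasiCompact f] (h : IsHomeomorph (pullback.snd f g).base) :
    IsHomeomorph f.base := by
  have hbij : Function.Bijective f.base := by
    constructor
    · intro x₁ x₂ e
      obtain ⟨y', hy'⟩ := g.surjective (f x₁)
      obtain ⟨z₁, hz₁, hz₁'⟩ := Scheme.Pullback.exists_preimage_pullback x₁ y' hy'.symm
      obtain ⟨z₂, hz₂, hz₂'⟩ := Scheme.Pullback.exists_preimage_pullback (f := f) x₂ y' (by rw [hy']; exact e.symm)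
      rw [← hz₁, ← hz₂, h.bijective.1 (hz₁'.trans hz₂'.symm)]
    · intro y
      obtain ⟨y', hy'⟩ := g.surjective y
      obtain ⟨z, hz⟩ := h.bijective.2 y'
      refine ⟨pullback.fst f g z, ?_⟩
      rw [← hy', ← hz]
      exact congr($(pullback.condition (f := f) (g := g)).base z)
  refine isHomeomorph_iff_continuous_isClosedMap_bijective.mpr ⟨f.continuous, ?_, hbij⟩
  refine (isClosedMap_iff_specializingMap f).mpr fun x y₀ hxy => ?_
  obtain ⟨y₀', hy₀'⟩ := g.surjective y₀
  obtain ⟨y', hy', hgy'⟩ := Flat.generalizingMap (f := g) (hy₀' ▸ (hxy : f x ⤳ y₀))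
  obtain ⟨z, hz, hz'⟩ := Scheme.Pullback.exists_preimage_pullback (f := f) x y' hgy'.symm
  obtain ⟨z₀, hzz₀, hz₀⟩ := h.isClosedMap.specializingMap (show (pullback.snd f g).base z ⤳ y₀' from hz' ▸ hy')
  refine ⟨pullback.fst f g z₀, ?_, ?_⟩
  · change x ⤳ _
    rw [← hz]
    exact (hzz₀ : z ⤳ z₀).map (pullback.fst f g).continuous
  · rw [← hy₀', ← hz₀]
    exact congr($(pullback.condition (f := f) (g := g)).base z₀)

end Groth.Agent.S13709
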