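import Groth.Statements.S13710
import Groth.Agent.S13709
import Groth.Agent.VarGal.GeomReg
import Mathlib.AlgebraicGeometry.Morphisms.FlatDescent

set_option autoImplicit false
universe u
open CategoryTheory CategoryTheory.Limits AlgebraicGeometry
open ZeroCyc

namespace Groth.Agent.S13710

/-- Let f : X → Y be a morphism of schemes and g : Y' → Y a faithfully flat morphism (flat and
surjective, not assumed quasi-compact). Then f is an isomorphism exactly when it is quasi-compact
and its base change X ×_Y Y' → Y' along g is an isomorphism. -/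
theorem result {X Y Y' : Scheme.{u}} (f : X ⟶ Y) (g : Y' ⟶ Y)
    [Flat g] [Surjective g] :
    IsIso f ↔ QuasiCompact f ∧ IsIso (pullback.snd f g) := by
  constructor
  · intro _
    exact ⟨inferInstance, inferInstance⟩
  rintro ⟨hqc, hiso⟩
  have hhomeo : IsHomeomorph f.base := Groth.Agent.S13709.result f g (pullback.snd f g).homeomorph.isHomeomorph
  have hst : ∀ x, IsIso (f.stalkMap x) := by
    intro x
    obtain ⟨y', hy'⟩ := g.surjective (f x)
    let k := Y'.fromSpecStalk y'
    let i := Y.fromSpecStalk (g y')
    let j := Spec.map (g.stalkMap y')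
    have hji : j ≫ i = k ≫ g := Scheme.SpecMap_stalkMap_fromSpecStalk g
    have hflat : (g.stalkMap y').hom.Flat := Flat.stalkMap g y'
    have : Flat j := by
      rw [HasRingHomProperty.Spec_iff (P := @Flat)]
      exact hflat
    have : Surjective j := ⟨by
      algebraize [(g.stalkMap y').hom]
      have : IsLocalHom (algebraMap (Y.presheaf.stalk (g y')) (Y'.presheaf.stalk y')) := g.toLRSHom.prop y'
      have : Module.FaithfullyFlat (Y.presheaf.stalk (g y')) (Y'.presheaf.stalk y') :=
        Module.FaithfullyFlat.of_flat_of_isLocalHom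
      exact PrimeSpectrum.comap_surjective_of_faithfullyFlat⟩
    let q := pullback.snd f i
    have hq : IsIso q := by
      have big := (IsPullback.of_hasPullback q j).paste_horiz (IsPullback.of_hasPullback f i)
      rw [hji] at big
      have other := (IsPullback.of_hasPullback (pullback.snd f g) k).paste_horiz (IsPullback.of_hasPullback f g)
      have e : pullback.snd q j = (big.isoIsPullback _ _ other).hom ≫ pullback.snd (pullback.snd f g) k :=
        (big.isoIsPullback_hom_snd _ _ other).symm
      refine MorphismProperty.of_pullback_snd_of_descendsAlong (P := MorphismProperty.isomorphisms Scheme.{u})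
        (Q := @Surjective ⊓ @Flat ⊓ @QuasiCompact) (f := q) (g := j) ⟨⟨inferInstance, inferInstance⟩, inferInstance⟩ ?_
      show IsIso _
      rw [e]
      infer_instance
    have : Flat i := Groth.Agent.VarGal.flat_fromSpecStalk (g y')
    obtain ⟨z, hz⟩ : ∃ z, pullback.fst f i z = x := by
      obtain ⟨z, hz, -⟩ := Scheme.Pullback.exists_preimage_pullback (f := f) (g := i) x (IsLocalRing.closedPoint _)
        (by rw [Scheme.fromSpecStalk_closedPoint, hy'])
      exact ⟨z, hz⟩
    have key : ∀ {U V : Scheme.{u}} (e : U ⟶ V) [IsPreimmersion e] [Flat e] (w : U), IsIso (e.stalkMap w) :=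
      fun e _ _ w => (ConcreteCategory.isIso_iff_bijective _).mpr
        (Groth.Agent.VarGal.bijective_stalkMap_of_flat_preimmersion e w)
    subst hz
    have := key (pullback.fst f i) z
    have := key i (q z)
    have h1 : IsIso ((q ≫ i).stalkMap z) := by
      rw [Scheme.Hom.stalkMap_comp]
      exact @IsIso.comp_isIso _ _ _ _ _ _ _ (key i (q z)) (inferInstanceAs (IsIso (q.stalkMap z)))
    have h2 : IsIso ((pullback.fst f i ≫ f).stalkMap z) := by
      rw [Scheme.Hom.stalkMap_congr_hom _ _ pullback.condition]
      exact IsIso.comp_isIso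
    rw [Scheme.Hom.stalkMap_comp] at h2
    exact @IsIso.of_isIso_comp_right _ _ _ _ _ _ ((pullback.fst f i).stalkMap z) (key _ z) h2
  have : IsOpenImmersion f := IsOpenImmersion.iff_isIso_stalkMap.mpr ⟨hhomeo.isOpenEmbedding, hst⟩
  exact (isIso_iff_isOpenImmersion_and_surjective f).mpr ⟨this, ⟨hhomeo.surjective⟩⟩

end Groth.Agent.S13710
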