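import Groth.Statements.S13711
import Groth.Agent.FlatIso95.Basic
import Groth.Agent.Desc59.FlatHull

set_option autoImplicit false
universe u
open CategoryTheory CategoryTheory.Limits AlgebraicGeometry
open ZeroCyc

namespace Groth.Agent.S13711

/-- Let f : X → Y be a morphism of schemes and g : Y' → Y a faithfully flat morphism (flat and
surjective, not assumed quasi-compact). Then f is affine exactly when it is quasi-compact,
quasi-separated, and its base change X ×_Y Y' → Y' along g is affine. -/
theorem result {X Y Y' : Scheme.{u}} (f : X ⟶ Y) (g : Y' ⟶ Y)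
    [Flat g] [Surjective g] :
    IsAffineHom f ↔ QuasiCompact f ∧ QuasiSeparated f ∧ IsAffineHom (pullback.snd f g) := by
  constructor
  · intro _
    exact ⟨inferInstance, inferInstance, MorphismProperty.pullback_snd f g ‹_›⟩
  rintro ⟨hqc, hqs, haff⟩
  rw [IsZariskiLocalAtTarget.iff_of_openCover (P := @IsAffineHom) Y.affineCover]
  intro i
  let S := Y.affineCover.X i
  let c := Y.affineCover.f i
  change IsAffineHom (pullback.snd f c)
  let v := pullback.snd f c
  have : CompactSpace ↥(pullback f c) := QuasiCompact.compactSpace_of_compactSpace v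
  have : QuasiSeparatedSpace ↥(pullback f c) := quasiSeparatedSpace_of_quasiSeparated v
  let V := pullback f c
  let h := Desc59.hullHom v
  have w : V.toSpecΓ ≫ h = v := Desc59.toSpecΓ_hullHom v
  suffices IsIso V.toSpecΓ by
    have : IsAffine V := ⟨this⟩
    exact isAffineHom_of_isAffine v
  have : QuasiCompact V.toSpecΓ := by
    have : QuasiCompact (V.toSpecΓ ≫ h) := w ▸ inferInstance
    exact QuasiCompact.of_comp V.toSpecΓ h
  refine FlatIso95.isIso_of_forall V.toSpecΓ fun η => ?_
  obtain ⟨y', hy'⟩ := (pullback.snd g c).surjective (h η)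
  obtain ⟨_, ⟨W₀, hW, rfl⟩, hyW, -⟩ :=
    (pullback g c).isBasis_affineOpens.exists_subset_of_mem_open (Set.mem_univ y') isOpen_univ
  let W : (pullback g c).Opens := W₀
  have : IsAffine W.toScheme := hW
  let p : W.toScheme ⟶ S := W.ι ≫ pullback.snd g c
  refine ⟨pullback p h, pullback.snd p h, inferInstance, ?_, ?_⟩
  · obtain ⟨t, -, ht⟩ := Scheme.Pullback.exists_preimage_pullback (f := p) (g := h) ⟨y', hyW⟩ η hy'
    exact ⟨t, ht⟩
  have hB : IsAffine (pullback p v) := by
    let r : W.toScheme ⟶ Y' := W.ι ≫ pullback.fst g c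
    have hr : r ≫ g = p ≫ c := by simp [r, p, pullback.condition]
    have h1 : IsPullback (pullback.fst p v) (pullback.snd p v ≫ pullback.fst f c) (r ≫ g) f := by
      rw [hr]
      exact (IsPullback.of_hasPullback p v).paste_vert (IsPullback.of_hasPullback f c).flip
    have : IsAffineHom (pullback.fst g f) := by
      rw [← pullbackSymmetry_hom_comp_snd]; infer_instance
    have h2 : IsPullback (pullback.fst r (pullback.fst g f)) (pullback.snd r (pullback.fst g f) ≫ pullback.snd g f) (r ≫ g) f :=
      (IsPullback.of_hasPullback r (pullback.fst g f)).paste_vert (IsPullback.of_hasPullback g f)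
    exact .of_isIso (h1.isoIsPullback _ _ h2).hom
  have : IsIso (Desc59.baseMap p w) := by
    have := Desc59.isIso_baseMap_appTop p w
    have : IsIso (Desc59.baseMap p w ≫ (pullback p h).isoSpec.hom) := by
      rw [← Scheme.isoSpec_hom_naturality (Desc59.baseMap p w)]
      infer_instance
    exact IsIso.of_isIso_comp_right _ (pullback p h).isoSpec.hom
  have sq : IsPullback (pullback.snd p v) (Desc59.baseMap p w) V.toSpecΓ (pullback.snd p h) := by
    have h3 : IsPullback (Desc59.baseMap p w ≫ pullback.fst p h) (pullback.snd p v) p (V.toSpecΓ ≫ h) := by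
      rw [Desc59.baseMap_fst, w]
      exact IsPullback.of_hasPullback p v
    exact (IsPullback.of_right h3 (Desc59.baseMap_snd p w) (IsPullback.of_hasPullback p h)).flip
  have : IsIso (sq.isoPullback.hom ≫ pullback.snd V.toSpecΓ (pullback.snd p h)) := by
    rw [sq.isoPullback_hom_snd]
    infer_instance
  exact IsIso.of_isIso_comp_left sq.isoPullback.hom _

end Groth.Agent.S13711
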