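import Groth.Statements.S13712
import Groth.Agent.FinFib95.Henselian
import Groth.Agent.FlatIso95.Basic
import Groth.Agent.Desc59.FlatHull
import Groth.Agent.Henz21.FaithfullyFlat
import Groth.Agent.VarGal.GeomReg
import Mathlib.AlgebraicGeometry.Fiber
import Mathlib.AlgebraicGeometry.Morphisms.Integral

set_option autoImplicit false
universe u
open CategoryTheory CategoryTheory.Limits AlgebraicGeometry
open ZeroCyc

namespace Groth.Agent.S13712

/-- Let f : X → Y and g : Y → S be morphisms of schemes with g separated, such that the composite X → S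
is integral with topologically finite fibres (every fibre is a finite set). Then the
scheme-theoretic image Y' of f, with its closed immersion Y' → Y, is integral over S, and Y' → S
again has topologically finite fibres. (The published statement is for algebraic spaces; this row is
the case of schemes.) -/
theorem result {X Y S : Scheme.{u}} (f : X ⟶ Y) (g : Y ⟶ S)
    [IsSeparated g] [IsIntegralHom (f ≫ g)] (hfin : ∀ s : S, Set.Finite ((f ≫ g).base ⁻¹' {s})) :
    IsIntegralHom (f.imageι ≫ g) ∧ ∀ s : S, Set.Finite ((f.imageι ≫ g).base ⁻¹' {s}) := by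
  have hqc : QuasiCompact (f ≫ g) := inferInstance
  have hint : IsIntegralHom f := IsIntegralHom.of_comp f g
  have : IsIntegralHom f.toImage := by
    have : IsIntegralHom (f.toImage ≫ f.imageι) := by rw [f.toImage_imageι]; exact hint
    exact IsIntegralHom.of_comp f.toImage f.imageι
  have : Surjective f.toImage := by
    refine ⟨fun y => ?_⟩
    have h := (Scheme.Hom.denseRange (f := f.toImage)).closure_range
    rw [f.toImage.isClosedMap.isClosed_range.closure_eq] at h
    exact h.ge (Set.mem_univ y)
  have hcomp : f.toImage ≫ f.imageι ≫ g = f ≫ g := by rw [← Category.assoc, f.toImage_imageι]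
  have : UniversallyClosed (f.imageι ≫ g) := by
    have : UniversallyClosed (f.toImage ≫ f.imageι ≫ g) := by rw [hcomp]; infer_instance
    exact UniversallyClosed.of_comp_surjective f.toImage _
  refine ⟨?_, fun s => ?_⟩
  swap
  · refine ((hfin s).image f.toImage).subset fun y hy => ?_
    obtain ⟨x, rfl⟩ := f.toImage.surjective y
    refine ⟨x, ?_, rfl⟩
    rw [Set.mem_preimage, ← hcomp]
    exact hy
  suffices IsAffineHom (f.imageι ≫ g) from (IsIntegralHom.iff_universallyClosed_and_isAffineHom).mpr ⟨inferInstance, this⟩
  rw [IsZariskiLocalAtTarget.iff_of_openCover (P := @IsAffineHom) S.affineCover]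
  intro i
  let B := S.affineCover.X i
  let c := S.affineCover.f i
  change IsAffineHom (pullback.snd (f.imageι ≫ g) c)
  let v := pullback.snd (f.imageι ≫ g) c
  have : CompactSpace ↥(pullback (f.imageι ≫ g) c) := QuasiCompact.compactSpace_of_compactSpace v
  have : QuasiSeparatedSpace ↥(pullback (f.imageι ≫ g) c) := quasiSeparatedSpace_of_quasiSeparated v
  let V := pullback (f.imageι ≫ g) c
  let X₁ := pullback f.toImage (pullback.fst (f.imageι ≫ g) c)
  let q : X₁ ⟶ V := pullback.snd _ _
  have hq1 : IsPullback (pullback.fst f.toImage (pullback.fst (f.imageι ≫ g) c)) (q ≫ v) (f ≫ g) c := by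
    rw [← hcomp]
    exact (IsPullback.of_hasPullback f.toImage (pullback.fst (f.imageι ≫ g) c)).paste_vert
      (IsPullback.of_hasPullback (f.imageι ≫ g) c)
  let h := Desc59.hullHom v
  have w : V.toSpecΓ ≫ h = v := Desc59.toSpecΓ_hullHom v
  suffices IsIso V.toSpecΓ by
    have : IsAffine V := ⟨this⟩
    exact isAffineHom_of_isAffine v
  have : QuasiCompact V.toSpecΓ := by
    have : QuasiCompact (V.toSpecΓ ≫ h) := w ▸ inferInstance
    exact QuasiCompact.of_comp V.toSpecΓ h
  refine FlatIso95.isIso_of_forall V.toSpecΓ fun η => ?_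
  let s := h η
  let R := B.presheaf.stalk s
  let H := Henz21.Henselization R
  have : Module.FaithfullyFlat R H := Henz21.henselization_faithfullyFlat H
  let p : Spec (CommRingCat.of H) ⟶ B := Spec.map (CommRingCat.ofHom (algebraMap R H)) ≫ B.fromSpecStalk s
  have : Flat (Spec.map (CommRingCat.ofHom (algebraMap R H))) := by
    rw [HasRingHomProperty.Spec_iff (P := @Flat)]
    exact RingHom.flat_algebraMap_iff.mpr inferInstance
  have : Flat (B.fromSpecStalk s) := VarGal.flat_fromSpecStalk s
  let σ : Spec (B.residueField s) ⟶ Spec (CommRingCat.of H) :=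
    Spec.map (CommRingCat.ofHom (Henz21.H.proj R (IsLocalRing.ResidueField R)).toRingHom)
  have hσ : σ ≫ p = B.fromSpecResidueField s := by
    rw [Scheme.fromSpecResidueField, ← Category.assoc]
    congr 1
    rw [← Spec.map_comp]
    congr 1
    exact CommRingCat.hom_ext (Henz21.H.proj R (IsLocalRing.ResidueField R)).comp_algebraMap
  have hσrange : ∀ t, σ t = IsLocalRing.closedPoint H := by
    intro t
    let pr := (Henz21.H.proj R (IsLocalRing.ResidueField R)).toRingHom
    have hmax : (RingHom.ker pr).IsMaximal :=
      RingHom.ker_isMaximal_of_surjective pr (Henz21.Henselization.proj_surjective R)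
    refine PrimeSpectrum.ext ?_
    change (PrimeSpectrum.asIdeal t).comap pr = IsLocalRing.maximalIdeal H
    rw [show PrimeSpectrum.asIdeal (R := IsLocalRing.ResidueField R) t = ⊥ from
      (Ideal.eq_bot_or_top _).resolve_right t.2.ne_top]
    exact IsLocalRing.eq_maximalIdeal hmax
  have hps : p (IsLocalRing.closedPoint H) = s := by
    rw [← hσrange (IsLocalRing.closedPoint _), ← Scheme.Hom.comp_apply, hσ]
    exact Scheme.fromSpecResidueField_apply _ _
  refine ⟨pullback p h, pullback.snd p h, inferInstance, ?_, ?_⟩
  · obtain ⟨t, -, ht⟩ := Scheme.Pullback.exists_preimage_pullback (f := p) (g := h) (IsLocalRing.closedPoint H) η hps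
    exact ⟨t, ht⟩
  have hB : IsAffine (pullback p v) := by
    let X₂ := pullback q (pullback.snd p v)
    let q₂ : X₂ ⟶ pullback p v := pullback.snd _ _
    have hq2 : IsPullback (pullback.fst q (pullback.snd p v)) (q₂ ≫ pullback.fst p v) (q ≫ v) p :=
      (IsPullback.of_hasPullback q (pullback.snd p v)).paste_vert (IsPullback.of_hasPullback p v).flip
    let v₂ := q₂ ≫ pullback.fst p v
    have hint1 : IsIntegralHom (q ≫ v) := MorphismProperty.of_isPullback hq1 ‹IsIntegralHom (f ≫ g)›
    have hint2 : IsIntegralHom v₂ := MorphismProperty.of_isPullback hq2 hint1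
    have : IsAffine X₂ := isAffine_of_isAffineHom v₂
    let φ : CommRingCat.of H ⟶ Γ(X₂, ⊤) := Spec.preimage (X₂.isoSpec.inv ≫ v₂)
    have hφ : Spec.map φ = X₂.isoSpec.inv ≫ v₂ := Spec.map_preimage _
    let D : Type u := Γ(X₂, ⊤)
    letI : Algebra H D := φ.hom.toAlgebra
    have hφi : IsIntegralHom (Spec.map φ) := hφ ▸ inferInstance
    have : Algebra.IsIntegral H D := by
      rw [Algebra.isIntegral_def]
      exact IsIntegralHom.SpecMap_iff.mp hφi
    let Z := (q₂ ≫ pullback.fst p v) ⁻¹' {IsLocalRing.closedPoint H}
    have hZ : Z.Finite := by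
      -- the closed fibre is covered by the fibre over the point
      let j := pullback.snd v₂ σ
      have hr : Set.range (pullback.fst v₂ σ) = Z := by
        rw [Scheme.Pullback.range_fst]
        refine congrArg ((q₂ ≫ pullback.fst p v) ⁻¹' ·) ?_
        ext x
        refine ⟨?_, fun hx => ⟨IsLocalRing.closedPoint _, (hσrange _).trans hx.symm⟩⟩
        rintro ⟨t, rfl⟩
        exact hσrange t
      have big := ((IsPullback.of_hasPullback v₂ σ).paste_horiz hq2)
      have big' := big.paste_horiz hq1
      rw [hσ] at big'
      have other : IsPullback (pullback.fst (f ≫ g) (B.fromSpecResidueField s ≫ c)) (pullback.snd _ _) (f ≫ g)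
          (B.fromSpecResidueField s ≫ c) := IsPullback.of_hasPullback _ _
      have hfib : (Set.range (pullback.fst (f ≫ g) (B.fromSpecResidueField s ≫ c))).Finite := by
        refine (hfin (c s)).subset ?_
        rw [Scheme.Pullback.range_fst]
        rintro x ⟨t, ht⟩
        rw [Scheme.Hom.comp_apply, Scheme.fromSpecResidueField_apply] at ht
        exact ht.symm
      have hinj : Function.Injective (pullback.fst (f ≫ g) (B.fromSpecResidueField s ≫ c)) :=
        (pullback.fst (f ≫ g) (B.fromSpecResidueField s ≫ c)).isEmbedding.injective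
      have := hfib.to_subtype
      have : Finite ↥(pullback (f ≫ g) (B.fromSpecResidueField s ≫ c)) :=
        Finite.of_injective (Set.rangeFactorization (pullback.fst (f ≫ g) (B.fromSpecResidueField s ≫ c)))
          (fun a b e => hinj (congrArg Subtype.val e))
      have : Finite ↥(pullback v₂ σ) :=
        Finite.of_equiv _ (big'.isoIsPullback _ _ other).hom.homeomorph.symm.toEquiv
      rw [← hr]
      exact Set.finite_range _
    have hD : {P : Ideal D | P.IsMaximal}.Finite := by
      have hsub : {P : Ideal D | P.IsMaximal} ⊆ (fun x => PrimeSpectrum.asIdeal (X₂.isoSpec.hom x)) '' Z := by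
        intro P hP
        let P' : Spec Γ(X₂, ⊤) := ⟨P, Ideal.IsMaximal.isPrime hP⟩
        refine ⟨X₂.isoSpec.inv P', ?_, ?_⟩
        · show (q₂ ≫ pullback.fst p v) (X₂.isoSpec.inv P') = IsLocalRing.closedPoint H
          rw [← Scheme.Hom.comp_apply, ← hφ]
          have : P.IsMaximal := hP
          exact PrimeSpectrum.ext (IsLocalRing.eq_maximalIdeal
            (Ideal.isMaximal_comap_of_isIntegral_of_isMaximal (R := H) P))
        · show PrimeSpectrum.asIdeal (X₂.isoSpec.hom (X₂.isoSpec.inv P')) = P
          rw [← Scheme.Hom.comp_apply, Iso.inv_hom_id]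
          rfl
      exact (hZ.image _).subset hsub
    have : IsSeparated (pullback.fst p v) := inferInstance
    have : (pullback p v).IsSeparated := ⟨by rw [← terminal.comp_from (pullback.fst p v)]; infer_instance⟩
    have : CompactSpace ↥(pullback p v) := QuasiCompact.compactSpace_of_compactSpace (pullback.fst p v)
    have : IsIntegralHom q₂ := IsIntegralHom.of_comp q₂ (pullback.fst p v)
    have : Surjective q₂ := inferInstance
    exact FinFib95.isAffine_of_surjective (A := H) (D := D) (X₂.isoSpec.inv ≫ q₂)
      (Scheme.Hom.surjective _) (Scheme.Hom.isClosedMap _) hD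
  have : IsIso (Desc59.baseMap p w) := by
    have := Desc59.isIso_baseMap_appTop p w
    have : IsIso (Desc59.baseMap p w ≫ (pullback p h).isoSpec.hom) := by
      rw [← Scheme.isoSpec_hom_naturality (Desc59.baseMap p w)]
      infer_instance
    exact IsIso.of_isIso_comp_right _ (pullback p h).isoSpec.hom
  have sq : IsPullback (pullback.snd p v) (Desc59.baseMap p w) V.toSpecΓ (pullback.snd p h) := by
    have h3 : IsPullback (Desc59.baseMap p w ≫ pullback.fst p h) (pullback.snd p v) p (V.toSpecΓ ≫ h) := by
      rw [Desc59.baseMap_fst, w]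
      exact IsPullback.of_hasPullback p v
    exact (IsPullback.of_right h3 (Desc59.baseMap_snd p w) (IsPullback.of_hasPullback p h)).flip
  have : IsIso (sq.isoPullback.hom ≫ pullback.snd V.toSpecΓ (pullback.snd p h)) := by
    rw [sq.isoPullback_hom_snd]
    infer_instance
  exact IsIso.of_isIso_comp_left sq.isoPullback.hom _

end Groth.Agent.S13712
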