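import Groth.Statements.S1372
import Mathlib

set_option autoImplicit false
set_option backward.isDefEq.respectTransparency false
set_option backward.defeqAttrib.useBackward true
universe u
open FlatMor

namespace Groth.Agent.S1372

open AlgebraicGeometry CategoryTheory Limits MorphismProperty TensorProduct in
/-- Let A → B be a ring map and b_1, ..., b_d elements generating B as an A-module. Let h = Σ x_i b_i in
the polynomial ring B[x_1, ..., x_d]. Then universal openness of Spec B → Spec A is equivalent to
openness of the image in Spec A[x_1, ..., x_d] of the basic open D(h). -/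
theorem result {A B : Type u} [CommRing A] [CommRing B] [Algebra A B] {d : ℕ} (b : Fin d → B)
    (hb : Submodule.span A (Set.range b) = ⊤) :
    UniversallyOpen (Spec.map (CommRingCat.ofHom (algebraMap A B))) ↔
      IsOpen (PrimeSpectrum.comap (MvPolynomial.map (σ := Fin d) (algebraMap A B)) ''
        (PrimeSpectrum.basicOpen (∑ i : Fin d, MvPolynomial.X i * MvPolynomial.C (b i)) : Set (PrimeSpectrum (MvPolynomial (Fin d) B)))) := by
  let H : MvPolynomial (Fin d) B := ∑ i : Fin d, MvPolynomial.X i * MvPolynomial.C (b i)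
  let := MvPolynomial.algebraMvPolynomial (R := A) (S := B) (σ := Fin d)
  have hp := CommRingCat.isPushout_of_isPushout A (MvPolynomial (Fin d) A) B (MvPolynomial (Fin d) B)
  have hpb := isPullback_SpecMap_of_isPushout _ _ _ _ hp
  constructor
  · intro h
    have : UniversallyOpen (Spec.map (CommRingCat.ofHom
        (algebraMap (MvPolynomial (Fin d) A) (MvPolynomial (Fin d) B)))) :=
      MorphismProperty.of_isPullback hpb.flip h
    exact (Spec.map (CommRingCat.ofHom
        (algebraMap (MvPolynomial (Fin d) A) (MvPolynomial (Fin d) B)))).isOpenMap _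
      (PrimeSpectrum.basicOpen H).2
  intro hopen
  refine ⟨universally_mk' _ _ fun {T} g _ ↦ ?_⟩
  wlog hT : ∃ R, T = Spec R generalizing T
  · refine (IsZariskiLocalAtTarget.iff_of_openCover T.affineCover).mpr fun i ↦ ?_
    refine (MorphismProperty.cancel_left_of_respectsIso _
      ((pullbackRightPullbackFstIso ..).inv ≫ (pullbackSymmetry ..).hom) _).mp ?_
    simpa [Scheme.Cover.pullbackHom] using! this _ _ ⟨_, rfl⟩
  obtain ⟨C, rfl⟩ := hT
  obtain ⟨ψ, rfl⟩ := Spec.map_surjective g
  algebraize [ψ.hom]
  refine (MorphismProperty.cancel_left_of_respectsIso _ (pullbackSpecIso A C B).inv _).mp ?_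
  convert_to! topologically _ (Spec.map (CommRingCat.ofHom (algebraMap C (C ⊗[A] B))))
  · exact pullbackSpecIso_inv_fst ..
  refine PrimeSpectrum.isTopologicalBasis_basic_opens.isOpenMap_iff.mpr ?_
  rintro _ ⟨t, rfl⟩
  obtain ⟨c, rfl⟩ : ∃ c : Fin d → C, ∑ i, c i ⊗ₜ[A] b i = t := by
    induction t using TensorProduct.induction_on with
    | zero => exact ⟨0, by simp⟩
    | tmul a y =>
      obtain ⟨w, rfl⟩ := (Submodule.mem_span_range_iff_exists_fun A).1 (hb ▸ Submodule.mem_top : y ∈ _)
      exact ⟨fun i => w i • a, by simp [TensorProduct.tmul_sum, TensorProduct.smul_tmul]⟩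
    | add x y hx hy =>
      obtain ⟨cx, rfl⟩ := hx
      obtain ⟨cy, rfl⟩ := hy
      exact ⟨cx + cy, by simp [TensorProduct.add_tmul, Finset.sum_add_distrib]⟩
  let ev : MvPolynomial (Fin d) A →+* C := MvPolynomial.eval₂Hom (algebraMap A C) c
  let Ψ : MvPolynomial (Fin d) B →+* C ⊗[A] B :=
    MvPolynomial.eval₂Hom Algebra.TensorProduct.includeRight.toRingHom
      (fun i => Algebra.TensorProduct.includeLeftRingHom (c i))
  have ht : Ψ H = ∑ i, c i ⊗ₜ[A] b i := by simp [H, Ψ]
  have hs := (CommRingCat.isPushout_tensorProduct A C B).flip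
  have hB : CommRingCat.ofHom (algebraMap A C) =
      CommRingCat.ofHom (algebraMap A (MvPolynomial (Fin d) A)) ≫ CommRingCat.ofHom ev := by
    ext a; simp [ev]
  have hC : CommRingCat.ofHom
      (Algebra.TensorProduct.includeRight (R := A) (A := C) (B := B)).toRingHom =
      CommRingCat.ofHom (algebraMap B (MvPolynomial (Fin d) B)) ≫ CommRingCat.ofHom Ψ := by
    ext a; simp [Ψ]
  have hs' := hs.flip
  rw [hB] at hs'
  erw [hC] at hs'
  have hsq := IsPushout.of_left hs' (by
      ext1
      refine MvPolynomial.ringHom_ext (fun a => ?_) (fun i => ?_)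
      · simp [ev, Ψ]
      · simp [ev, Ψ])
    (CommRingCat.isPushout_of_isPushout A (MvPolynomial (Fin d) A) B (MvPolynomial (Fin d) B))
  have himg := Scheme.image_preimage_eq_of_isPullback
    (isPullback_SpecMap_of_isPushout _ _ _ _ hsq.flip)
    (PrimeSpectrum.basicOpen H : Set (PrimeSpectrum _))
  have hpre : PrimeSpectrum.comap Ψ ⁻¹' (PrimeSpectrum.basicOpen H : Set (PrimeSpectrum _)) =
      (PrimeSpectrum.basicOpen (∑ i, c i ⊗ₜ[A] b i) : Set (PrimeSpectrum _)) := by
    rw [← ht]; rfl
  change IsOpen (_ '' (PrimeSpectrum.basicOpen (∑ i, c i ⊗ₜ[A] b i) : Set (PrimeSpectrum (C ⊗[A] B))))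
  rw [← hpre]
  erw [himg]
  exact hopen.preimage (PrimeSpectrum.continuous_comap _)

end Groth.Agent.S1372
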