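import Groth.Statements.S13724
import Groth.Agent.PolLaw95.Fibre

set_option autoImplicit false
universe u
open scoped TensorProduct
open ZeroCyc

namespace Groth.Agent.S13724

/-- Let A be a commutative ring with finitely many maximal ideals, B a commutative A-algebra and F : B →
A a multiplicative polynomial law homogeneous of degree d. Then B/ker F, the coordinate ring of the
image of the family of zero-cycles defined by F, has finitely many maximal ideals. -/
theorem result {A : Type u} [CommRing A] [Finite (MaximalSpectrum A)] {B : Type u} [CommRing B] [Algebra A B]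
    {d : ℕ} (F : PolLaw.MulLaw A B A d) :
    Finite (MaximalSpectrum (PolLaw.image F.law)) := by
  have hint := PolLaw95.isIntegral_image F
  let f : MaximalSpectrum (PolLaw.image F.law) → MaximalSpectrum A := fun M =>
    ⟨M.asIdeal.comap (algebraMap A (PolLaw.image F.law)),
      Ideal.isMaximal_comap_of_isIntegral_of_isMaximal M.asIdeal⟩
  refine Finite.of_finite_univ (Set.Finite.subset (s := ⋃ m, f ⁻¹' {m}) (Set.finite_iUnion fun m => ?_) (fun M _ => Set.mem_iUnion.mpr ⟨f M, rfl⟩) : Set.Finite (Set.univ : Set (MaximalSpectrum (PolLaw.image F.law))))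
  change (f ⁻¹' {m}).Finite
  let p : PrimeSpectrum A := ⟨m.asIdeal, m.isMaximal.isPrime⟩
  let g : MaximalSpectrum (PolLaw.image F.law) → PrimeSpectrum (A ⊗[A] PolLaw.image F.law) := fun M =>
    ⟨M.asIdeal.comap (Algebra.TensorProduct.lid A (PolLaw.image F.law)).toAlgHom,
      have := M.isMaximal.isPrime; Ideal.IsPrime.comap _⟩
  refine ((PolLaw95.finite_preimage_singleton F p).preimage (f := g) ?_).subset ?_
  · intro M _ M' _ h
    exact MaximalSpectrum.ext (Ideal.comap_injective_of_surjective _ (AlgEquiv.surjective _) (congrArg PrimeSpectrum.asIdeal h))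
  · intro M hM
    simp only [Set.mem_preimage, Set.mem_singleton_iff] at hM ⊢
    refine PrimeSpectrum.ext ?_
    change (Ideal.comap _ _).comap _ = m.asIdeal
    rw [← congrArg MaximalSpectrum.asIdeal hM]
    ext a
    simp [g, f, Algebra.algebraMap_eq_smul_one]

end Groth.Agent.S13724
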