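import Groth.Statements.S13725
import Groth.Agent.Misc95.PowLaw

set_option autoImplicit false
universe u
open scoped TensorProduct
open ZeroCyc

namespace Groth.Agent.S13725

/-- Let k be a field of characteristic p > 0 and let F : k → k be the law x ↦ x^p, multiplicative and
homogeneous of degree p over k. The kernel of F is the zero ideal, but after the flat base change k
→ A' = k[X]/(X^p) the kernel of the base-changed law on A' ⊗_k k is not zero (the class of X lies in
it). So in characteristic p, forming the kernel of a multiplicative law is not compatible with flat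
base change. -/
theorem result {k : Type u} [Field k] (p : ℕ) [Fact p.Prime] [CharP k p] :
    PolLaw.ker (PolLaw.MulLaw.pow k k p).law = ⊥ ∧
      PolLaw.kerBC (PolLaw.MulLaw.pow k k p).law (AdjoinRoot ((Polynomial.X : Polynomial k) ^ p)) ≠ ⊥ := by
  refine ⟨eq_bot_iff.mpr fun b hb => ?_, fun h => ?_⟩
  · exact eq_zero_of_pow_eq_zero ((Misc95.mem_ker_powLaw_iff p (CharP.cast_eq_zero k p) b).mp hb)
  · set A' := AdjoinRoot ((Polynomial.X : Polynomial k) ^ p)
    have hmem : (AdjoinRoot.root ((Polynomial.X : Polynomial k) ^ p)) ⊗ₜ[k] (1 : k) ∈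
        PolLaw.kerBC (PolLaw.MulLaw.pow k k p).law A' := by
      intro R _ _ _ _ x w
      change (x + w * _) ^ p = x ^ p
      rw [Misc95.add_pow_char_tensor p (CharP.cast_eq_zero k p), mul_pow, Algebra.TensorProduct.map_tmul,
        Algebra.TensorProduct.tmul_pow, ← map_pow]
      have : (AdjoinRoot.root ((Polynomial.X : Polynomial k) ^ p)) ^ p = 0 := by
        rw [← AdjoinRoot.mk_X, ← map_pow, AdjoinRoot.mk_self]
      simp [this]
    rw [h, Submodule.mem_bot] at hmem
    have h2 := congrArg (TensorProduct.rid k A') hmem
    rw [TensorProduct.rid_tmul, one_smul, map_zero, ← AdjoinRoot.mk_X, AdjoinRoot.mk_eq_zero] at h2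
    have h3 := Polynomial.degree_le_of_dvd h2 Polynomial.X_ne_zero
    rw [Polynomial.degree_X_pow, Polynomial.degree_X] at h3
    have h4 := (Fact.out : p.Prime).two_le
    norm_cast at h3
    omega

end Groth.Agent.S13725
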