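import Groth.Statements.S13726
import Groth.Agent.Misc95.PowLaw
import Mathlib

set_option autoImplicit false
universe u
open scoped TensorProduct
open ZeroCyc

namespace Groth.Agent.S13726

/-- Let k be a field of characteristic p > 0 and A = k[t_i : i ∈ ℕ]/(t_i^p : i ∈ ℕ). The law x ↦ x^p
from A to A is multiplicative and homogeneous of degree p over A; its kernel is the ideal generated
by the classes of the variables t_i, and this ideal is not finitely generated. Hence the image of a
family of zero-cycles need not be of finite presentation over the base even when X → S is. -/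
theorem result {k : Type u} [Field k] (p : ℕ) [Fact p.Prime] [CharP k p] :
    PolLaw.ker (PolLaw.MulLaw.pow
        (MvPolynomial ℕ k ⧸ Ideal.span (Set.range fun i : ℕ => (MvPolynomial.X i : MvPolynomial ℕ k) ^ p))
        (MvPolynomial ℕ k ⧸ Ideal.span (Set.range fun i : ℕ => (MvPolynomial.X i : MvPolynomial ℕ k) ^ p)) p).law =
      (Ideal.span (Set.range fun i : ℕ => (MvPolynomial.X i : MvPolynomial ℕ k))).map
        (Ideal.Quotient.mk (Ideal.span (Set.range fun i : ℕ => (MvPolynomial.X i : MvPolynomial ℕ k) ^ p))) ∧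
    ¬ (PolLaw.ker (PolLaw.MulLaw.pow
        (MvPolynomial ℕ k ⧸ Ideal.span (Set.range fun i : ℕ => (MvPolynomial.X i : MvPolynomial ℕ k) ^ p))
        (MvPolynomial ℕ k ⧸ Ideal.span (Set.range fun i : ℕ => (MvPolynomial.X i : MvPolynomial ℕ k) ^ p)) p).law).FG := by
  classical
  set I := Ideal.span (Set.range fun i : ℕ => (MvPolynomial.X i : MvPolynomial ℕ k) ^ p)
  set J := Ideal.span (Set.range fun i : ℕ => (MvPolynomial.X i : MvPolynomial ℕ k))
  have hJ : J = RingHom.ker (MvPolynomial.constantCoeff (σ := ℕ) (R := k)) :=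
    le_antisymm (Ideal.span_le.mpr (by rintro _ ⟨i, rfl⟩; simp)) fun g hg => by
      rw [MvPolynomial.as_sum g]
      refine sum_mem fun e _ => ?_
      by_cases he : e = 0
      · rw [RingHom.mem_ker, MvPolynomial.constantCoeff_eq] at hg
        simp [he, hg]
      · obtain ⟨i, hi⟩ := Finsupp.ne_iff.mp he
        rw [← Finsupp.single_add_erase i e, MvPolynomial.monomial_single_add]
        exact Ideal.mul_mem_right _ _ (Ideal.pow_mem_of_mem _ (Ideal.subset_span (Set.mem_range_self i)) _ (Nat.pos_of_ne_zero hi))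
  have hI0 : ∀ i, (Ideal.Quotient.mk I) (MvPolynomial.X i) ^ p = 0 := fun i => by
    rw [← map_pow, Ideal.Quotient.eq_zero_iff_mem]; exact Ideal.subset_span (Set.mem_range_self i)
  have hp : (p : MvPolynomial ℕ k ⧸ I) = 0 := by
    rw [← map_natCast (algebraMap k (MvPolynomial ℕ k ⧸ I)), CharP.cast_eq_zero, map_zero]
  have hI : I ≤ J := Ideal.span_le.mpr (by
    rintro _ ⟨i, rfl⟩; exact Ideal.pow_mem_of_mem _ (Ideal.subset_span (Set.mem_range_self i)) p (Fact.out : p.Prime).pos)
  have hfrob : ∀ g : MvPolynomial ℕ k, (Ideal.Quotient.mk I g) ^ p =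
      Ideal.Quotient.mk I (MvPolynomial.C (MvPolynomial.constantCoeff g ^ p)) := by
    intro g
    induction g using MvPolynomial.induction_on with
    | C a => simp
    | add g h hg hh =>
      obtain ⟨r, hr⟩ := exists_add_pow_prime_eq (Fact.out : p.Prime) (Ideal.Quotient.mk I g) (Ideal.Quotient.mk I h)
      obtain ⟨s, hs⟩ := exists_add_pow_prime_eq (Fact.out : p.Prime) (MvPolynomial.constantCoeff g) (MvPolynomial.constantCoeff h)
      rw [map_add, hr, hp, hg, hh, map_add, hs, CharP.cast_eq_zero]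
      simp
    | mul_X g i hg =>
      rw [map_mul, mul_pow, hI0]
      simp [(Fact.out : p.Prime).ne_zero]
  have hker : PolLaw.ker (PolLaw.MulLaw.pow (MvPolynomial ℕ k ⧸ I) (MvPolynomial ℕ k ⧸ I) p).law =
      J.map (Ideal.Quotient.mk I) := by
    ext b
    obtain ⟨g, rfl⟩ := Ideal.Quotient.mk_surjective b
    rw [Misc95.mem_ker_powLaw_iff p hp, hfrob, Ideal.Quotient.eq_zero_iff_mem,
      Ideal.mem_quotient_iff_mem hI]
    constructor
    · intro h
      have h1 := hI h
      rw [hJ, RingHom.mem_ker, MvPolynomial.constantCoeff_C] at h1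
      rw [hJ, RingHom.mem_ker]
      exact eq_zero_of_pow_eq_zero h1
    · intro h
      rw [hJ, RingHom.mem_ker] at h
      simp [h, (Fact.out : p.Prime).ne_zero]
  refine ⟨hker, ?_⟩
  rw [hker]
  rintro ⟨T, hT⟩
  choose g hg using fun t : MvPolynomial ℕ k ⧸ I => Ideal.Quotient.mk_surjective t
  obtain ⟨N, hN⟩ := Infinite.exists_notMem_finset (T.biUnion fun t => (g t).vars)
  let E := AdjoinRoot ((Polynomial.X : Polynomial k) ^ p)
  let v : ℕ → E := fun i => if i = N then AdjoinRoot.root _ else 0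
  have hroot : (AdjoinRoot.root ((Polynomial.X : Polynomial k) ^ p)) ^ p = 0 := by
    rw [← AdjoinRoot.mk_X, ← map_pow, AdjoinRoot.mk_self]
  let ψ := Ideal.Quotient.lift I (MvPolynomial.aeval v).toRingHom (by
    have : I ≤ RingHom.ker (MvPolynomial.aeval v).toRingHom := Ideal.span_le.mpr (by
      rintro _ ⟨i, rfl⟩
      simp only [SetLike.mem_coe, RingHom.mem_ker, AlgHom.toRingHom_eq_coe, RingHom.coe_coe, map_pow,
        MvPolynomial.aeval_X, v]
      split
      · exact hroot
      · simp [(Fact.out : p.Prime).ne_zero])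
    intro a ha; exact this ha)
  have hT0 : Ideal.span (T : Set (MvPolynomial ℕ k ⧸ I)) ≤ RingHom.ker ψ := by
    refine Ideal.span_le.mpr fun t ht => ?_
    have h1 : Ideal.Quotient.mk I (g t) ∈ J.map (Ideal.Quotient.mk I) := by
      rw [hg, ← hT]; exact Ideal.subset_span ht
    rw [Ideal.mem_quotient_iff_mem hI, hJ, RingHom.mem_ker] at h1
    rw [SetLike.mem_coe, RingHom.mem_ker, ← hg t]
    simp only [ψ, Ideal.Quotient.lift_mk, AlgHom.toRingHom_eq_coe, RingHom.coe_coe]
    have h2 : MvPolynomial.aeval v (g t) = MvPolynomial.aeval (0 : ℕ → E) (g t) := by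
      refine MvPolynomial.eval₂Hom_congr' rfl (fun i hi _ => ?_) rfl
      have : i ≠ N := fun e => hN (Finset.mem_biUnion.mpr ⟨t, ht, e ▸ hi⟩)
      simp [v, this]
    rw [h2, MvPolynomial.aeval_zero, h1, map_zero]
  have h3 : Ideal.Quotient.mk I (MvPolynomial.X N) ∈ RingHom.ker ψ := hT0 (hT.symm ▸ Ideal.mem_map_of_mem _ (Ideal.subset_span ⟨N, rfl⟩))
  simp only [RingHom.mem_ker, ψ, Ideal.Quotient.lift_mk, AlgHom.toRingHom_eq_coe, RingHom.coe_coe,
    MvPolynomial.aeval_X, v, if_true] at h3
  rw [← AdjoinRoot.mk_X, AdjoinRoot.mk_eq_zero] at h3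
  have h5 := Polynomial.degree_le_of_dvd h3 Polynomial.X_ne_zero
  rw [Polynomial.degree_X_pow, Polynomial.degree_X] at h5
  have h4 := (Fact.out : p.Prime).two_le
  norm_cast at h5
  omega

end Groth.Agent.S13726
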