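import Groth.Statements.S13727
import Groth.Agent.PolLaw95.Fibre
import Groth.Agent.Spec91.Basic
import Mathlib.RingTheory.Spectrum.Prime.Topology

set_option autoImplicit false
universe u
open scoped TensorProduct
open ZeroCyc

namespace Groth.Agent.S13727

/-- Let A be a commutative ring whose prime spectrum is connected, B a commutative A-algebra and F : B →
A a multiplicative polynomial law homogeneous of degree d. Then Spec(B/ker F), the support of the
family of zero-cycles of degree d defined by F, has at most d connected components (in particular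
finitely many). -/
theorem result {A : Type u} [CommRing A] [ConnectedSpace (PrimeSpectrum A)]
    {B : Type u} [CommRing B] [Algebra A B] {d : ℕ} (F : PolLaw.MulLaw A B A d) :
    Finite (ConnectedComponents (PrimeSpectrum (PolLaw.image F.law))) ∧
      Nat.card (ConnectedComponents (PrimeSpectrum (PolLaw.image F.law))) ≤ d := by
  classical
  have hint := PolLaw95.isIntegral_image F
  let I := PolLaw.image F.law
  let L : PrimeSpectrum I ≃ₜ PrimeSpectrum (A ⊗[A] I) :=
    PrimeSpectrum.homeomorphOfRingEquiv (Algebra.TensorProduct.lid A I).symm.toRingEquiv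
  let π := PrimeSpectrum.comap (algebraMap A I)
  have hπ : π = PrimeSpectrum.comap (algebraMap A (A ⊗[A] I)) ∘ L := by
    funext x
    refine PrimeSpectrum.ext ?_
    ext a
    simp [π, L, PrimeSpectrum.homeomorphOfRingEquiv, Algebra.algebraMap_eq_smul_one]
  have hopen : IsOpenMap π := hπ ▸ (PolLaw95.isOpenMap_comap_tensor_image F).comp L.isOpenMap
  have hclosed : IsClosedMap π := PrimeSpectrum.isClosedMap_comap_of_isIntegral _
    (algebraMap_isIntegral_iff.mpr hint)
  obtain ⟨p⟩ : Nonempty (PrimeSpectrum A) := inferInstance
  have hfin : (π ⁻¹' {p}).Finite := by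
    rw [hπ, Set.preimage_comp]
    exact (PolLaw95.finite_preimage_singleton F p).preimage L.injective.injOn
  have hcard : (π ⁻¹' {p}).ncard ≤ d := by
    rw [hπ, Set.preimage_comp, Set.ncard_preimage_of_injective_subset_range L.injective (by simp)]
    exact PolLaw95.ncard_preimage_singleton_le F p
  have hsurj : Function.Surjective (fun y : π ⁻¹' {p} => ConnectedComponents.mk (y : PrimeSpectrum I)) := by
    intro c
    obtain ⟨x, rfl⟩ := ConnectedComponents.surjective_coe c
    by_contra hno
    push Not at hno
    have hW : ∀ y : π ⁻¹' {p}, ∃ W : Set (PrimeSpectrum I), IsClopen W ∧ x ∈ W ∧ (y : PrimeSpectrum I) ∉ W := fun y =>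
      Spec91.exists_isClopen_of_not_mem_connectedComponent fun h => hno y (ConnectedComponents.coe_eq_coe'.mpr h)
    choose W hWc hxW hyW using hW
    have := hfin.to_subtype
    have hWall : IsClopen (⋂ y, W y) := isClopen_iInter_of_finite hWc
    have himg : π '' (⋂ y, W y) = Set.univ :=
      IsClopen.eq_univ ⟨hclosed _ hWall.1, hopen _ hWall.2⟩ ⟨π x, x, Set.mem_iInter.mpr hxW, rfl⟩
    obtain ⟨y, hy, hyp⟩ := himg.ge (Set.mem_univ p)
    exact hyW ⟨y, hyp⟩ (Set.mem_iInter.mp hy _)
  have := hfin.to_subtype
  refine ⟨Finite.of_surjective _ hsurj, ?_⟩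
  exact (Nat.card_le_card_of_surjective _ hsurj).trans ((Nat.card_coe_set_eq _).trans_le hcard)

end Groth.Agent.S13727
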