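import Groth.Statements.S1373
import Groth.Agent.LimTop61.UnivOpen

set_option autoImplicit false
universe u
open FlatMor

namespace Groth.Agent.S1373

open AlgebraicGeometry CategoryTheory Limits in
/-- (1) ⇔ (3): a morphism f : X → S is universally open if and only if for every n the induced morphism
from affine n-space over X to affine n-space over S is open. -/
theorem result {X S : Scheme.{u}} (f : X ⟶ S) :
    UniversallyOpen f ↔ ∀ n : ℕ, IsOpenMap ⇑(AffineSpace.map (ULift.{u} (Fin n)) f) := by
  refine ⟨fun h n => ?_, fun h => Groth.Agent.LimTop61.OpenOnAffineSpaces.universallyOpen ?_⟩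
  · have hpb := AffineSpace.isPullback_map (n := ULift.{u} (Fin n)) f
    have : UniversallyOpen (AffineSpace.map (ULift.{u} (Fin n)) f) :=
      MorphismProperty.of_isPullback hpb.flip h
    exact (AffineSpace.map (ULift.{u} (Fin n)) f).isOpenMap
  · intro n P p q hP
    have hpb := AffineSpace.isPullback_map (n := ULift.{u} (Fin (n + 1))) f
    let e := hP.isoIsPullback _ _ hpb.flip
    have he : e.hom ≫ AffineSpace.map (ULift.{u} (Fin (n + 1))) f = q :=
      hP.isoIsPullback_hom_snd _ _ hpb.flip
    rw [← he]
    exact (h (n + 1)).comp e.hom.homeomorph.isOpenMap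

end Groth.Agent.S1373
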