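import Groth.Statements.S13730
import Groth.Agent.PolLaw95.BaseChange
import Groth.Agent.PolLaw95.Residue
import Groth.Agent.PolLaw95.Ker

set_option autoImplicit false
universe u
open scoped TensorProduct
open ZeroCyc

namespace Groth.Agent.S13730

/-- Let (C, γ) be the algebra of divided powers Γ^d_A(B) of a commutative A-algebra B with its universal
multiplicative law γ : B → C homogeneous of degree d (every multiplicative law B → C' homogeneous of
degree d factors uniquely through γ by an algebra map C → C'). If B is flat over A and K ⊗_A B is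
reduced for every field K receiving a ring map from A (X = Spec B → S = Spec A is flat with
geometrically reduced fibres), then K ⊗_A C is reduced for every such K: Γ^d_A(B) again has
geometrically reduced fibres over A. (The published statement is for a flat morphism of algebraic
spaces X → S with geometrically reduced fibres and also records that Γ^d(X/S) → S is flat; this row
is the affine case and states only the reducedness of the fibres, flatness of Γ^d_A(B) for flat B
being a separate statement.) -/
theorem result {A : Type u} [CommRing A] {B : Type u} [CommRing B] [Algebra A B] {C : Type u} [CommRing C] [Algebra A C]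
    {d : ℕ} (γ : PolLaw.MulLaw A B C d) (hγ : PolLaw.IsGammaD γ) [Module.Flat A B]
    (hred : ∀ (K : Type u) [Field K] [Algebra A K], IsReduced (K ⊗[A] B)) :
    ∀ (K : Type u) [Field K] [Algebra A K], IsReduced (K ⊗[A] C) := by
  classical
  intro K _ _
  let B' := K ⊗[A] B
  have hT : IsReduced (⨂[K] _ : Fin d, (K ⊗[A] B)) := by
    refine PolLaw95.isReduced_tensorPower (k := K) (K ⊗[A] B) (fun L _ _ => ?_) d
    let _ : Algebra A L := Algebra.compHom L (algebraMap A K)
    have : IsScalarTower A K L := IsScalarTower.of_algebraMap_eq fun _ => rfl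
    have := hred L
    exact isReduced_of_injective (PolLaw95.cbc (A := A) (K := K) L B) (PolLaw95.cbc (A := A) (K := K) L B).injective
  obtain ⟨f, hf, -⟩ := hγ (SymTen.TS A B d) (PolLaw95.sym A B d)
  let Θ : (⨂[A] _ : Fin d, B) →ₐ[A] ⨂[K] _ : Fin d, (K ⊗[A] B) :=
    PiTensorProduct.liftAlgHom (((PiTensorProduct.tprod K).restrictScalars A).compLinearMap
      fun _ => (Algebra.TensorProduct.includeRight : B →ₐ[A] K ⊗[A] B).toLinearMap)
      (by simp [PiTensorProduct.one_def, Algebra.TensorProduct.one_def]; rfl)
      (fun x y => by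
        simp [PiTensorProduct.tprod_mul_tprod]
        congr 1; funext i; simp [Algebra.TensorProduct.tmul_mul_tmul])
  let Φ : K ⊗[A] C →ₐ[A] ⨂[K] _ : Fin d, (K ⊗[A] B) :=
    Algebra.TensorProduct.lift (IsScalarTower.toAlgHom A K _) (Θ.comp ((SymTen.TS A B d).val.comp f))
      fun _ _ => Commute.all _ _
  have hΦs : ∀ (r : K) (z : K ⊗[A] C), Φ (r • z) = r • Φ z := by
    intro r z
    rw [Algebra.smul_def r z, map_mul, Algebra.smul_def r (Φ z)]
    congr 1
    change Φ (r ⊗ₜ[A] (1 : C)) = _
    simp [Φ]
  let eb := Module.Free.chooseBasis K (K ⊗[A] B)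
  obtain ⟨g, hg, -⟩ := PolLaw95.isGammaD_sym eb (K ⊗[A] C) (PolLaw95.bcLaw γ K)
  have key : ∀ z : K ⊗[A] C, ∃ y : SymTen.TS K (K ⊗[A] B) d, Φ z = y.1 ∧ g y = z := by
    intro z
    induction z using TensorProduct.induction_on with
    | zero => exact ⟨0, map_zero _, map_zero _⟩
    | tmul r c =>
      have hc : c ∈ PolLaw95.coefSpan γ.law := (PolLaw95.coefSpan_eq_top γ hγ).symm ▸ Submodule.mem_top
      induction hc using Submodule.span_induction with
      | mem c hc =>
        obtain ⟨n, b, β, rfl⟩ := hc
        refine ⟨r • PolLaw95.coef (PolLaw95.sym K (K ⊗[A] B) d).law (fun j => (1 : K) ⊗ₜ[A] b j) β, ?_, ?_⟩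
        · rw [show r ⊗ₜ[A] PolLaw95.coef γ.law b β = r • ((1 : K) ⊗ₜ[A] PolLaw95.coef γ.law b β) by
              rw [TensorProduct.smul_tmul', smul_eq_mul, mul_one], hΦs]
          change _ = r • (PolLaw95.coef (PolLaw95.sym K (K ⊗[A] B) d).law _ β).1
          congr 1
          rw [show Φ ((1 : K) ⊗ₜ[A] PolLaw95.coef γ.law b β) = Θ (f (PolLaw95.coef γ.law b β)).1 by simp [Φ],
            show f (PolLaw95.coef γ.law b β) = PolLaw95.coef (PolLaw95.sym A B d).law b β by
              rw [← hf]; exact (PolLaw95.coefL_lTensor f.toLinearMap _ β).symm,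
            PolLaw95.val_sym_coef, PolLaw95.val_sym_coef, PolLaw95.sym0_coef, PolLaw95.sym0_coef, map_sum]
          refine Finset.sum_congr rfl fun c _ => ?_
          split_ifs
          · simp [Θ]
          · exact map_zero _
        · rw [map_smul, show g (PolLaw95.coef (PolLaw95.sym K (K ⊗[A] B) d).law (fun j => (1 : K) ⊗ₜ[A] b j) β) =
            PolLaw95.coef (PolLaw95.bcLaw γ K).law (fun j => (1 : K) ⊗ₜ[A] b j) β by
              rw [← hg]; exact (PolLaw95.coefL_lTensor g.toLinearMap _ β).symm,
            PolLaw95.coef_bcLaw, TensorProduct.smul_tmul', smul_eq_mul, mul_one]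
      | zero => exact ⟨0, by simp, by simp⟩
      | add c c' _ _ h h' =>
        obtain ⟨y, h1, h2⟩ := h
        obtain ⟨y', h1', h2'⟩ := h'
        exact ⟨y + y', by rw [TensorProduct.tmul_add, map_add, h1, h1']; rfl, by rw [map_add, h2, h2', TensorProduct.tmul_add]⟩
      | smul a c _ h =>
        obtain ⟨y, h1, h2⟩ := h
        refine ⟨algebraMap A K a • y, ?_, ?_⟩
        · rw [TensorProduct.tmul_smul, ← algebraMap_smul K a, hΦs, h1]
          rfl
        · rw [map_smul, h2, TensorProduct.tmul_smul, algebraMap_smul]
    | add a b ha hb =>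
      obtain ⟨y, h1, h2⟩ := ha
      obtain ⟨y', h1', h2'⟩ := hb
      exact ⟨y + y', by rw [map_add, h1, h1']; rfl, by rw [map_add, h2, h2']⟩
  refine isReduced_of_injective Φ ((injective_iff_map_eq_zero Φ).mpr fun z hz => ?_)
  obtain ⟨y, h1, h2⟩ := key z
  rw [← h2, show y = 0 from Subtype.ext (h1.symm.trans hz), map_zero]

end Groth.Agent.S13730
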