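import Groth.Statements.S13735
import Groth.Agent.HTop50.ValLift
import Groth.Agent.HTop50.Family
import Groth.Agent.S2562
import Groth.Agent.SpPts86.Props

set_option autoImplicit false
universe u
open HTop

namespace Groth.Agent.S13735

open CategoryTheory CategoryTheory.Limits AlgebraicGeometry in
/-- Let S be a separated reduced Noetherian scheme, f : X → S a separated morphism locally of finite
type and g : S' → S a separated morphism of finite type which is universally submersive (an
h-covering). If the base change of f along g is flat, then f is flat. -/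
theorem result {X S S' : Scheme.{u}} [IsNoetherian S] [IsReduced S] [S.IsSeparated] (f : X ⟶ S) [LocallyOfFiniteType f] [IsSeparated f] (g : S' ⟶ S) [LocallyOfFiniteType g] [QuasiCompact g] [IsSeparated g] (hg : SGA1.UnivSubmersive g) (hflat : Flat (pullback.snd f g)) : Flat f := by
  have : LocallyOfFinitePresentation f := Groth.Agent.HTop50.lfp_of_lft f
  refine Flat.of_stalkMap f fun x => ?_
  have : IsNoetherianRing (S.presheaf.stalk (f.base x)) := inferInstance
  refine (Groth.Agent.S2562.result f x).2 fun A' _ _ _ φ _ x' _ _ => ?_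
  let t : Spec (CommRingCat.of A') ⟶ S := Spec.map (CommRingCat.ofHom φ) ≫ S.fromSpecStalk (f.base x)
  obtain ⟨W, iW, iV, ψ, ⟨hψ, hψl⟩, _, g', hg'⟩ :=
    Groth.Agent.HTop50.hasValLift_of_univSubmersive.{0} g hg (CommRingCat.of A') t
  let s : Spec W ⟶ Spec (CommRingCat.of A') := Spec.map ψ
  have hff : ψ.hom.FaithfullyFlat := by
    algebraize [ψ.hom]
    have : IsLocalHom (algebraMap A' W) := hψl
    have : FaithfulSMul A' W := (faithfulSMul_iff_algebraMap_injective A' W).mpr hψ
    have : Module.IsTorsionFree A' W := inferInstance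
    have : Module.Flat A' W := inferInstance
    exact (Module.FaithfullyFlat.of_flat_of_isLocalHom : Module.FaithfullyFlat A' W)
  have : Flat s := (HasRingHomProperty.Spec_iff (P := @Flat)).mpr hff.flat
  have : Surjective s := ⟨fun y => by
    obtain ⟨z, hz⟩ := (RingHom.FaithfullyFlat.iff_flat_and_comap_surjective.1 hff).2 y
    exact ⟨z, hz⟩⟩
  suffices h : Flat (pullback.snd f t) from Flat.stalkMap _ x'
  have := Groth.Agent.SpPts86.flat_fpqc.{u}
  refine MorphismProperty.of_pullback_snd_of_descendsAlong (P := @Flat) (Q := Groth.Agent.Unr55.fpqc.{u})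
    (g := s) (by exact ⟨⟨inferInstance, inferInstance⟩, inferInstance⟩) ?_
  let gW : Spec W ⟶ S' := g'
  have hg'' : gW ≫ g = s ≫ t := hg'
  let e : pullback (pullback.snd f t) s ≅ pullback (pullback.snd f g) gW :=
    pullbackLeftPullbackSndIso f t s ≪≫ pullback.congrHom rfl hg''.symm ≪≫
      (pullbackLeftPullbackSndIso f g gW).symm
  have he : e.hom ≫ pullback.snd (pullback.snd f g) gW = pullback.snd (pullback.snd f t) s := by
    have hc : ∀ {T : Scheme.{u}} (a b : T ⟶ S) (h : a = b),
        (pullback.congrHom (rfl : f = f) h).hom ≫ pullback.snd f b = pullback.snd f a := by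
      intro T a b h
      subst h
      simp
    have h3 : (pullbackLeftPullbackSndIso f g gW).inv ≫ pullback.snd (pullback.snd f g) gW =
        pullback.snd f (gW ≫ g) := by
      rw [Iso.inv_comp_eq]
      exact (pullbackLeftPullbackSndIso_hom_snd f g gW).symm
    simp only [e, Iso.trans_hom, Iso.symm_hom, Category.assoc, h3]
    exact (congrArg _ (hc _ _ hg''.symm)).trans (pullbackLeftPullbackSndIso_hom_snd f t s)
  rw [← he]
  have := hflat
  have : Flat (pullback.snd (pullback.snd f g) gW) := inferInstance
  exact MorphismProperty.comp_mem @Flat e.hom _ inferInstance this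

end Groth.Agent.S13735
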