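import Groth.Statements.S13738
import Groth.Agent.Sga84.GeomTrans

set_option autoImplicit false
universe u
open SGA1

namespace Groth.Agent.S13738

open CategoryTheory CategoryTheory.Limits AlgebraicGeometry in
theorem result {X S : Scheme.{u}} [IsNoetherian S] [S.IsSeparated] [X.IsSeparated] [IrreducibleSpace ↥S] (q : X ⟶ S) [IsFinite q] [Surjective q] {G : Type u} [Group G] [Finite G] (ρ : G →* Aut X) (hρ : ∀ g : G, (ρ g).hom ≫ q = q) (htrans : ∀ (Ω : Type u) [Field Ω] [IsAlgClosed Ω] (τ₁ τ₂ : Spec (CommRingCat.of Ω) ⟶ X), τ₁ ≫ q = τ₂ ≫ q → ∃ g : G, τ₁ ≫ (ρ g).hom = τ₂) : (∀ T ∈ irreducibleComponents ↥X, Set.image (fun x => q x) T = Set.univ) ∧ ∀ T₁ ∈ irreducibleComponents ↥X, ∀ T₂ ∈ irreducibleComponents ↥X, ∃ g : G, Set.image (fun x => (ρ g).hom x) T₁ = T₂ := by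
  classical
  have hG := Groth.Agent.GeomTrans84.fibre_transitive q ρ htrans
  have hhomeo : ∀ g : G, IsHomeomorph (fun x : X => (ρ g).hom x) := fun g =>
    (Scheme.homeoOfIso (ρ g)).isHomeomorph
  have hq : IsClosedMap (fun x : X => q x) := q.isClosedMap
  have hqg : ∀ (g : G) (x : X), q ((ρ g).hom x) = q x := fun g x => by
    rw [← Scheme.Hom.comp_apply, hρ]
  let η : S := genericPoint ↥S
  obtain ⟨x0, hx0⟩ := q.surjective η
  let T0 := irreducibleComponent x0
  have hT0 : Set.image (fun x => q x) T0 = Set.univ := by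
    refine Set.eq_univ_of_univ_subset ?_
    rw [← genericPoint_closure (α := ↥S)]
    exact closure_minimal (Set.singleton_subset_iff.mpr ⟨x0, mem_irreducibleComponent, hx0⟩) (hq _ isClosed_irreducibleComponent)
  have htr : ∀ T ∈ irreducibleComponents ↥X, ∃ g : G, Set.image (fun x => (ρ g).hom x) T0 = T := by
    intro T hT
    obtain ⟨x, hx⟩ := QuasiSober.sober hT.1 (isClosed_of_mem_irreducibleComponents T hT)
    obtain ⟨y, hy, hyq⟩ := (hT0.symm ▸ Set.mem_univ (q x) : q x ∈ Set.image (fun x => q x) T0)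
    obtain ⟨g, hg⟩ := hG y x hyq
    refine ⟨g, Set.Subset.antisymm (hT.2 (isIrreducible_irreducibleComponent.image _ (hhomeo g).continuous.continuousOn) ?_) ?_⟩ <;>
    · rw [← hx.def]
      exact closure_minimal (Set.singleton_subset_iff.mpr ⟨y, hy, hg⟩) ((hhomeo g).isClosedMap _ isClosed_irreducibleComponent)
  refine ⟨fun T hT => ?_, fun T₁ h₁ T₂ h₂ => ?_⟩
  · obtain ⟨g, rfl⟩ := htr T hT
    rw [Set.image_image, ← hT0]
    exact congrArg (fun f => Set.image f T0) (funext fun x => hqg g x)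
  · obtain ⟨g₁, rfl⟩ := htr T₁ h₁
    obtain ⟨g₂, rfl⟩ := htr T₂ h₂
    refine ⟨g₂ * g₁⁻¹, ?_⟩
    rw [Set.image_image]
    refine congrArg (fun f => Set.image f T0) (funext fun x => ?_)
    rw [← Scheme.Hom.comp_apply, ← Iso.trans_hom, ← Aut.Aut_mul_def, ← map_mul, inv_mul_cancel_right]

end Groth.Agent.S13738
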