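import Groth.Statements.S13739
import Groth.Agent.Sga84.FiniteSigma
import Mathlib.AlgebraicGeometry.Morphisms.UnderlyingMap

set_option autoImplicit false
universe u
open SGA1

namespace Groth.Agent.S13739

open CategoryTheory CategoryTheory.Limits AlgebraicGeometry in
theorem result {X S Y : Scheme.{u}} [IsNoetherian S] [S.IsSeparated] [X.IsSeparated] [Y.IsSeparated] (q : X ⟶ S) [IsFinite q] [Surjective q] {G : Type u} [Group G] [Finite G] (ρ : G →* Aut X) (hρ : ∀ g : G, (ρ g).hom ≫ q = q) (htrans : ∀ (Ω : Type u) [Field Ω] [IsAlgClosed Ω] (τ₁ τ₂ : Spec (CommRingCat.of Ω) ⟶ X), τ₁ ≫ q = τ₂ ≫ q → ∃ g : G, τ₁ ≫ (ρ g).hom = τ₂) (r : Y ⟶ X) (υ : (∐ fun _ : G => Y) ⟶ pullback (r ≫ q) q) (hυ₁ : ∀ σ : G, Sigma.ι (fun _ : G => Y) σ ≫ υ ≫ pullback.fst (r ≫ q) q = 𝟙 Y) (hυ₂ : ∀ σ : G, Sigma.ι (fun _ : G => Y) σ ≫ υ ≫ pullback.snd (r ≫ q) q = r ≫ (ρ σ).hom) : IsFinite υ ∧ Surjective υ := by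
  classical
  have h1 : υ ≫ pullback.fst (r ≫ q) q = Sigma.desc fun _ => 𝟙 Y :=
    Sigma.hom_ext _ _ fun σ => by rw [Sigma.ι_desc]; exact hυ₁ σ
  have : IsFinite (υ ≫ pullback.fst (r ≫ q) q) := by
    rw [h1]; exact Groth.Agent.FiniteSigma84.isFinite_sigmaDesc _
  refine ⟨IsFinite.of_comp υ (pullback.fst (r ≫ q) q), ⟨fun z => ?_⟩⟩
  let Ω := AlgebraicClosure ((pullback (r ≫ q) q).residueField z)
  let p : Spec (CommRingCat.of Ω) ⟶ pullback (r ≫ q) q :=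
    Spec.map (CommRingCat.ofHom (algebraMap ((pullback (r ≫ q) q).residueField z) Ω)) ≫ Scheme.fromSpecResidueField _ z
  obtain ⟨g, hg⟩ := htrans Ω (p ≫ pullback.fst _ _ ≫ r) (p ≫ pullback.snd _ _)
    (by simp only [Category.assoc, pullback.condition])
  let pt : Spec (CommRingCat.of Ω) := default
  have hp : p pt = z := by
    simp only [p, Scheme.Hom.comp_apply]
    exact Scheme.fromSpecResidueField_apply _ _
  refine ⟨((p ≫ pullback.fst _ _) ≫ Sigma.ι (fun _ : G => Y) g) pt, ?_⟩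
  have : ((p ≫ pullback.fst _ _) ≫ Sigma.ι (fun _ : G => Y) g) ≫ υ = p := by
    apply pullback.hom_ext
    · simp only [Category.assoc, hυ₁, Category.comp_id]
    · simp only [Category.assoc, hυ₂] at hg ⊢; exact hg
  rw [← Scheme.Hom.comp_apply, this, hp]

end Groth.Agent.S13739
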