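import Groth.Statements.S1374
import Groth.Agent.Henz21.SpecClosed
-- import your own Groth.Agent.* helpers here

set_option autoImplicit false
universe u
open FlatMor

namespace Groth.Agent.S1374

open AlgebraicGeometry CategoryTheory Limits in
/-- Let f : X ⟶ S be locally of finite type and x ⤳ x' a specialization of points of X, with x' a closed
point of its fibre f⁻¹(f(x')) and f(x) ≠ f(x'). Then the points x₁ with f(x₁) = f(x) which are
closed in the fibre f⁻¹(f(x)) and satisfy x ⤳ x₁ ⤳ x' are dense in the closure of {x} intersected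
with the fibre f⁻¹(f(x)) (fibres taken as subspaces of X). (The published statement omits the
condition f(x) ≠ f(x'), but the claim fails without it; it is stated here with that condition.) -/
theorem result {X S : Scheme.{u}} (f : X ⟶ S) [LocallyOfFiniteType f] (x x' : X) (hsp : x ⤳ x') (hne : f x ≠ f x')
    (hcl : IsClosed (Subtype.val ⁻¹' {x'} : Set ↑(f ⁻¹' {f x'}))) :
    Dense (Subtype.val ⁻¹' {x₁ : ↑X | f x₁ = f x ∧ IsClosed (Subtype.val ⁻¹' {x₁} : Set ↑(f ⁻¹' {f x})) ∧ x ⤳ x₁ ∧ x₁ ⤳ x'} :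
      Set ↑(closure {x} ∩ f ⁻¹' {f x})) := by
  obtain ⟨V, hV, hx'V, -⟩ :=
    exists_isAffineOpen_mem_and_subset (X := S) (x := f x') (U := ⊤) trivial
  obtain ⟨U, hU, hx'U, hUV⟩ :=
    exists_isAffineOpen_mem_and_subset (X := X) (x := x') (U := f ⁻¹ᵁ V) hx'V
  have hxU : x ∈ U := hsp.mem_open U.2 hx'U
  set φ := f.appLE V U hUV with hφ
  let ι : PrimeSpectrum Γ(X, U) → X := fun q => hU.fromSpec q
  have hι : Topology.IsOpenEmbedding ι := hU.fromSpec.isOpenEmbedding
  have hιr : Set.range ι = (U : Set X) := hU.range_fromSpec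
  have hcomm : ∀ q : PrimeSpectrum Γ(X, U),
      f (ι q) = hV.fromSpec (Spec.map φ q) := fun q =>
    (congrArg (fun g => g q) (hV.SpecMap_appLE_fromSpec f hU hUV).symm : _)
  have hVinj : Function.Injective hV.fromSpec := hV.fromSpec.isOpenEmbedding.injective
  obtain ⟨p, hp⟩ : x ∈ Set.range ι := hιr ▸ hxU
  obtain ⟨p', hp'⟩ : x' ∈ Set.range ι := hιr ▸ hx'U
  letI : Algebra Γ(S, V) Γ(X, U) := φ.hom.toAlgebra
  have : Algebra.FiniteType Γ(S, V) Γ(X, U) := by
    have h : φ.hom.FiniteType := LocallyOfFiniteType.finiteType_appLE f hV hU hUV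
    exact h
  have hle : ∀ a b : PrimeSpectrum Γ(X, U),
      a.asIdeal ≤ b.asIdeal ↔ ι a ⤳ ι b := fun a b => by
    rw [hι.isInducing.specializes_iff]
    exact PrimeSpectrum.le_iff_specializes a b
  have hsame : ∀ a b : PrimeSpectrum Γ(X, U),
      a.asIdeal.under Γ(S, V) = b.asIdeal.under Γ(S, V) ↔ f (ι a) = f (ι b) := fun a b => by
    rw [hcomm, hcomm, hVinj.eq_iff]
    exact ⟨fun h => PrimeSpectrum.ext h, fun h => congrArg PrimeSpectrum.asIdeal h⟩
  rw [dense_iff_inter_open]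
  intro O hO hOne
  obtain ⟨O', hO'open, rfl⟩ := isOpen_induced_iff.1 hO
  obtain ⟨⟨z, hzc, hzf⟩, hzO⟩ := hOne
  have hxO : x ∈ O' := (specializes_iff_mem_closure.2 hzc).mem_open hO'open hzO
  obtain ⟨_, ⟨g, rfl⟩, hpg, hgO⟩ := PrimeSpectrum.isTopologicalBasis_basic_opens.exists_subset_of_mem_open
    (show p ∈ ι ⁻¹' O' by rw [Set.mem_preimage, hp]; exact hxO)
    (hO'open.preimage hι.continuous)
  obtain ⟨P₁, hP₁, hpP, hPp', hgP, hunder, hmax⟩ := Groth.Agent.Henz21.exists_prime_between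
    (A := Γ(S, V)) p.asIdeal p'.asIdeal
    ((hle p p').2 (by rw [hp, hp']; exact hsp))
    (fun h => hne (by rw [← hp, ← hp']; exact (hsame p p').1 h))
    (fun Q hQ hQle hQu => by
      have h1 : ι p' ⤳ ι (⟨Q, hQ⟩ : PrimeSpectrum Γ(X, U)) := (hle p' ⟨Q, hQ⟩).1 hQle
      have h2 := (hsame ⟨Q, hQ⟩ p').1 hQu
      rw [hp'] at h1 h2
      obtain ⟨Z, hZ, hZeq⟩ := isClosed_induced_iff.1 hcl
      have hx'Z : x' ∈ Z := by
        have h3 : (⟨x', rfl⟩ : ↑(f ⁻¹' {f x'})) ∈ Subtype.val ⁻¹' Z := by rw [hZeq]; rfl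
        exact h3
      have h4 : (⟨_, h2⟩ : ↑(f ⁻¹' {f x'})) ∈ Subtype.val ⁻¹' Z := h1.mem_closed hZ hx'Z
      rw [hZeq] at h4
      exact congrArg PrimeSpectrum.asIdeal (hι.injective (h4.trans hp'.symm)))
    g (by simpa [PrimeSpectrum.mem_zeroLocus] using hpg)
  let q₁ : PrimeSpectrum Γ(X, U) := ⟨P₁, hP₁⟩
  have hfx : f (ι q₁) = f x := by rw [← hp]; exact (hsame q₁ p).1 hunder
  have hx₁ : x ⤳ ι q₁ := by rw [← hp]; exact (hle p q₁).1 hpP
  refine ⟨⟨ι q₁, specializes_iff_mem_closure.1 hx₁, hfx⟩, hgO (by simpa using hgP), hfx, ?_, hx₁,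
    by rw [← hp']; exact (hle q₁ p').1 hPp'⟩
  -- closed in the fibre
  have : JacobsonSpace ↑(f ⁻¹' {f x}) :=
    JacobsonSpace.of_isOpenEmbedding (f.fiberHomeo (f x)).symm.isOpenEmbedding
  have hloc : IsLocallyClosed ({⟨ι q₁, hfx⟩} : Set ↑(f ⁻¹' {f x})) := by
    refine ⟨Subtype.val ⁻¹' (U : Set X), Subtype.val ⁻¹' closure {ι q₁},
      U.2.preimage continuous_subtype_val, isClosed_closure.preimage continuous_subtype_val, ?_⟩
    ext ⟨y, hy⟩
    simp only [Set.mem_singleton_iff, Set.mem_inter_iff, Set.mem_preimage, SetLike.mem_coe]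
    constructor
    · intro h
      obtain rfl : y = ι q₁ := congrArg Subtype.val h
      exact ⟨by rw [← SetLike.mem_coe, ← hιr]; exact Set.mem_range_self _,
        subset_closure (Set.mem_singleton _)⟩
    · rintro ⟨hyU, hyc⟩
      obtain ⟨q, rfl⟩ : y ∈ Set.range ι := hιr ▸ hyU
      have h1 := (hle q₁ q).2 (specializes_iff_mem_closure.2 hyc)
      have h2 := hmax q.asIdeal q.isPrime h1 ((hsame q q₁).2 (hy.trans hfx.symm))
      exact Subtype.ext (congrArg ι (PrimeSpectrum.ext h2))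
  have hclosed := isClosed_singleton_of_isLocallyClosed_singleton hloc
  convert hclosed using 1
  ext y
  simp [Subtype.ext_iff]

end Groth.Agent.S1374
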