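import Groth.Statements.S13740
import Groth.Agent.Sga84.FiniteSigma
import Groth.Agent.S13739

set_option autoImplicit false
universe w u
open SGA1

namespace Groth.Agent.S13740

open CategoryTheory CategoryTheory.Limits AlgebraicGeometry in
theorem result {X S : Scheme.{u}} [IsNoetherian S] [S.IsSeparated] [X.IsSeparated] (q : X ⟶ S) [IsFinite q] [Surjective q] {G : Type u} [Group G] [Finite G] (ρ : G →* Aut X) (hρ : ∀ g : G, (ρ g).hom ≫ q = q) (htrans : ∀ (Ω : Type u) [Field Ω] [IsAlgClosed Ω] (τ₁ τ₂ : Spec (CommRingCat.of Ω) ⟶ X), τ₁ ≫ q = τ₂ ≫ q → ∃ g : G, τ₁ ≫ (ρ g).hom = τ₂) (F : Scheme.{u}ᵒᵖ ⥤ Type w) (hF : ∀ ⦃T : Scheme.{u}⦄ (E : PreZeroHypercover.{u} T), Finite E.I₀ → (∀ i, LocallyOfFiniteType (E.f i)) → (∀ i, QuasiCompact (E.f i)) → (∀ i, LocallyQuasiFinite (E.f i)) → SGA1.UnivSubmersive (Sigma.desc E.f) → Presieve.IsSheafFor F E.presieve₀) : Function.Injective (F.map q.op) ∧ Set.range (F.map q.op) = {f : F.obj (Opposite.op X) | ∀ g : G, F.map (ρ g).hom.op f = f} := by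
  classical
  have hus : ∀ {A B : Scheme.{u}} (m : A ⟶ B), IsFinite m → Surjective m → SGA1.UnivSubmersive m := by
    intro A B m hm hs
    intro A' B' i₁ i₂ m' h
    have hm' : IsFinite m' := MorphismProperty.of_isPullback (P := @IsFinite) h.flip hm
    have hs' : Surjective m' := MorphismProperty.of_isPullback (P := @Surjective) h.flip hs
    exact (m'.isClosedMap).isQuotientMap m'.continuous m'.surjective
  have key : ∀ {T : Scheme.{u}} (E : PreZeroHypercover.{u} T), Finite E.I₀ → (∀ i, IsFinite (E.f i)) →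
      Surjective (Sigma.desc E.f) → Presieve.IsSheafFor F E.presieve₀ := by
    intro T E hE hf hs
    exact hF E hE (fun i => have := hf i; inferInstance) (fun i => have := hf i; inferInstance) (fun i => have := hf i; inferInstance)
      (hus _ (have := hf; Groth.Agent.FiniteSigma84.isFinite_sigmaDesc E.f) hs)
  have hq : Presieve.IsSheafFor F (Presieve.singleton q) := by
    rw [← PreZeroHypercover.presieve₀_singleton.{u} q]
    refine key (PreZeroHypercover.singleton q) (inferInstanceAs (Finite PUnit)) (fun _ => inferInstanceAs (IsFinite q)) ⟨fun s => ?_⟩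
    obtain ⟨x, hx⟩ := q.surjective s
    refine ⟨Sigma.ι (PreZeroHypercover.singleton.{u} q).X PUnit.unit x, ?_⟩
    rw [← Scheme.Hom.comp_apply, Sigma.ι_desc]
    exact hx
  rw [Presieve.isSheafFor_singleton] at hq
  let P := pullback q q
  let e : G → (X ⟶ P) := fun g => pullback.lift (𝟙 X) (ρ g).hom (by rw [hρ, Category.id_comp])
  have hsep : ∀ a b : F.obj (Opposite.op P), (∀ g, F.map (e g).op a = F.map (e g).op b) → a = b := by
    have : ∀ (q' : X ⟶ S), (𝟙 X : X ⟶ X) ≫ q = q' → IsFinite q' := fun q' h => by subst h; infer_instance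
    let υ : (∐ fun _ : G => X) ⟶ pullback (𝟙 X ≫ q) q :=
      Sigma.desc fun g => pullback.lift (𝟙 X) (ρ g).hom (by rw [hρ, Category.id_comp, Category.id_comp])
    obtain ⟨hυ, hυs⟩ := Groth.Agent.S13739.result q ρ hρ htrans (𝟙 X) υ
      (fun σ => by rw [Sigma.ι_desc_assoc, pullback.lift_fst])
      (fun σ => by rw [Sigma.ι_desc_assoc, pullback.lift_snd, Category.id_comp])
    let c : pullback (𝟙 X ≫ q) q ≅ P := pullback.congrHom (Category.id_comp q) rfl
    have hd : Sigma.desc e = υ ≫ c.hom := Sigma.hom_ext _ _ fun g => by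
      rw [Sigma.ι_desc, Sigma.ι_desc_assoc]
      apply pullback.hom_ext
      · exact (pullback.lift_fst _ _ _).trans (((Category.assoc _ _ _).trans (congrArg (_ ≫ ·) ((pullback.lift_fst _ _ _).trans (Category.comp_id _)))).trans (pullback.lift_fst _ _ _)).symm
      · exact (pullback.lift_snd _ _ _).trans (((Category.assoc _ _ _).trans (congrArg (_ ≫ ·) ((pullback.lift_snd _ _ _).trans (Category.comp_id _)))).trans (pullback.lift_snd _ _ _)).symm
    have hfin : ∀ g, IsFinite (e g) := fun g => by
      have : IsFinite (e g ≫ pullback.fst q q) := by rw [pullback.lift_fst]; infer_instance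
      exact IsFinite.of_comp (e g) (pullback.fst q q)
    let E : PreZeroHypercover.{u} P := { I₀ := G, X := fun _ => X, f := e }
    have := (key E (inferInstanceAs (Finite G)) hfin (by show Surjective (Sigma.desc e); rw [hd]; infer_instance)).isSeparatedFor
    intro a b hab
    exact this.ext fun Z m hm => by
      obtain ⟨g⟩ := hm
      exact hab g
  refine ⟨fun a b hab => ?_, Set.Subset.antisymm ?_ fun f hf => ?_⟩
  · obtain ⟨y, -, hy⟩ := hq (F.map q.op a) (fun p₁ p₂ h => by rw [← Functor.map_comp_apply, ← Functor.map_comp_apply, ← op_comp, ← op_comp, h])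
    exact (hy a rfl).trans (hy b hab.symm).symm
  · rintro _ ⟨a, rfl⟩ g
    rw [← Functor.map_comp_apply, ← op_comp, hρ]
  · have hfs : F.map (pullback.fst q q).op f = F.map (pullback.snd q q).op f := hsep _ _ fun g => by
      rw [← Functor.map_comp_apply, ← Functor.map_comp_apply, ← op_comp, ← op_comp, pullback.lift_fst, pullback.lift_snd,
        hf g, op_id, Functor.map_id_apply]
    obtain ⟨y, hy, -⟩ := hq f (fun p₁ p₂ h => by
      have h1 : p₁ = pullback.lift p₁ p₂ h ≫ pullback.fst q q := (pullback.lift_fst _ _ _).symm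
      have h2 : p₂ = pullback.lift p₁ p₂ h ≫ pullback.snd q q := (pullback.lift_snd _ _ _).symm
      refine (congrArg (fun m => F.map m.op f) h1).trans (Eq.trans ?_ (congrArg (fun m => F.map m.op f) h2).symm)
      simp only [op_comp, Functor.map_comp_apply, hfs])
    exact ⟨y, hy⟩

end Groth.Agent.S13740
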