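import Groth.Statements.S13741
import Mathlib.FieldTheory.Normal.Basic

set_option autoImplicit false
universe u
open SGA1

namespace Groth.Agent.S13741

open CategoryTheory CategoryTheory.Limits AlgebraicGeometry in
theorem result {X S : Scheme.{u}} [IsNoetherian S] [S.IsSeparated] [X.IsSeparated] (q : X ⟶ S) [IsFinite q] [Surjective q] {G : Type u} [Group G] [Finite G] (ρ : G →* Aut X) (hρ : ∀ g : G, (ρ g).hom ≫ q = q) (h1 : ∀ x y : X, q x = q y → ∃ g : G, (ρ g).hom x = y) (h2 : ∀ x : X, @Normal (S.residueField (q x)) (X.residueField x) _ _ (q.residueFieldMap x).hom.toAlgebra) (h3 : ∀ (x : X) (σ : X.residueField x ≅ X.residueField x), q.residueFieldMap x ≫ σ.hom = q.residueFieldMap x → ∃ g : G, X.fromSpecResidueField x ≫ (ρ g).hom = Spec.map σ.hom ≫ X.fromSpecResidueField x) (Ω : Type u) [Field Ω] [IsAlgClosed Ω] (τ₁ τ₂ : Spec (CommRingCat.of Ω) ⟶ X) (hτ : τ₁ ≫ q = τ₂ ≫ q) : ∃ g : G, τ₁ ≫ (ρ g).hom = τ₂ := by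
  classical
  let pt : Spec (CommRingCat.of Ω) := default
  have hdec : ∀ τ : Spec (CommRingCat.of Ω) ⟶ X, ∀ x, τ pt = x → ∃ ι : X.residueField x ⟶ CommRingCat.of Ω, τ = Spec.map ι ≫ X.fromSpecResidueField x := by
    intro τ x hx
    obtain ⟨⟨y, ι⟩, rfl⟩ := (Scheme.SpecToEquivOfField Ω X).symm.surjective τ
    have : y = x := by
      rw [← hx]
      simp [Scheme.SpecToEquivOfField, Scheme.Hom.comp_apply]
    subst this
    exact ⟨ι, rfl⟩
  obtain ⟨g, hg⟩ := h1 (τ₁ pt) (τ₂ pt) (by rw [← Scheme.Hom.comp_apply, hτ, Scheme.Hom.comp_apply])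
  obtain ⟨ι₁, e₁⟩ := hdec (τ₁ ≫ (ρ g).hom) (τ₂ pt) (by rw [Scheme.Hom.comp_apply]; exact hg)
  obtain ⟨ι₂, e₂⟩ := hdec τ₂ (τ₂ pt) rfl
  generalize τ₂ pt = x at ι₁ ι₂ e₁ e₂
  have hc : q.residueFieldMap x ≫ ι₁ = q.residueFieldMap x ≫ ι₂ := by
    apply Spec.map_injective
    rw [← cancel_mono (S.fromSpecResidueField (q x))]
    simp only [Spec.map_comp, Category.assoc, Scheme.Hom.SpecMap_residueFieldMap_fromSpecResidueField]
    rw [← reassoc_of% e₁, ← reassoc_of% e₂, hρ, hτ]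
  let := (q.residueFieldMap x).hom.toAlgebra
  let : Algebra (S.residueField (q x)) Ω := ((q.residueFieldMap x) ≫ ι₁).hom.toAlgebra
  let : Algebra (X.residueField x) Ω := ι₁.hom.toAlgebra
  have : IsScalarTower (S.residueField (q x)) (X.residueField x) Ω := IsScalarTower.of_algebraMap_eq fun _ => rfl
  have : Normal (S.residueField (q x)) (X.residueField x) := h2 x
  let φ : X.residueField x →ₐ[S.residueField (q x)] Ω :=
    { ι₂.hom with commutes' := fun a => (congrArg (fun m => m.hom a) hc).symm }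
  let σ₀ := φ.restrictNormal' (X.residueField x)
  let σ : X.residueField x ≅ X.residueField x := σ₀.toRingEquiv.toCommRingCatIso
  have hσ : q.residueFieldMap x ≫ σ.hom = q.residueFieldMap x := CommRingCat.hom_ext (RingHom.ext fun a => σ₀.commutes a)
  have hσι : σ.hom ≫ ι₁ = ι₂ := CommRingCat.hom_ext (RingHom.ext fun a => AlgHom.restrictNormal_commutes φ (X.residueField x) a)
  obtain ⟨k, hk⟩ := h3 x σ hσ
  refine ⟨k * g, ?_⟩
  rw [map_mul, Aut.Aut_mul_def, Iso.trans_hom, reassoc_of% e₁, hk, ← Spec.map_comp_assoc, hσι, e₂]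

end Groth.Agent.S13741
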