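import Groth.Statements.S13742
import Groth.Agent.VarGal.GeomReg
import Mathlib.AlgebraicGeometry.PullbackCarrier
import Mathlib.AlgebraicGeometry.Morphisms.ClosedImmersion
import Mathlib.AlgebraicGeometry.Morphisms.Flat

set_option autoImplicit false
universe u
open Cyc

namespace Groth.Agent.S13742

open CategoryTheory CategoryTheory.Limits AlgebraicGeometry in
/-- Let S be a separated Noetherian scheme, f : X → S separated of finite type, z a point of X mapping
to a generic point of an irreducible component of S, and ι : Z → X a closed immersion from a reduced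
scheme with image the closure of z (the closure of z with its reduced structure). Then Z ×_S Spec
k(f z) is an integral scheme, and its image in the fibre X ×_S Spec k(f z) is the closure of the
unique point w of that fibre lying over z: Z ×_S Spec k(f z) is the closure of z in its fibre, with
reduced structure. -/
theorem result {X S Z : Scheme.{u}} [IsNoetherian S] [S.IsSeparated] [X.IsSeparated] (f : X ⟶ S) [LocallyOfFiniteType f] [QuasiCompact f] (z : X) (hz : closure {f z} ∈ irreducibleComponents ↥S) (ι : Z ⟶ X) [IsClosedImmersion ι] [IsReduced Z] (hZ : Set.range ι = closure {z}) : IsIntegral (pullback (ι ≫ f) (S.fromSpecResidueField (f z))) ∧ ∃ w : ↥(pullback f (S.fromSpecResidueField (f z))), pullback.fst f (S.fromSpecResidueField (f z)) w = z ∧ Set.range (pullback.map (ι ≫ f) (S.fromSpecResidueField (f z)) f (S.fromSpecResidueField (f z)) ι (𝟙 _) (𝟙 S) (Category.comp_id _) ((Category.comp_id _).trans (Category.id_comp _).symm)) = closure {w} := by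
  set s := f z with hs
  set g := S.fromSpecResidueField s with hg
  have hmax : ∀ t : S, t ⤳ s → t = s := by
    intro t ht
    have h2 : closure {s} ⊆ closure {t} := ht.closure_subset
    exact (Inseparable.eq (inseparable_iff_closure_eq.2
      (Set.Subset.antisymm (hz.2 isIrreducible_singleton.closure h2) h2)))
  have := VarGal.flat_fromSpecStalk s
  let T := pullback (ι ≫ f) (S.fromSpecStalk s)
  have : IsReduced T := by
    have : ∀ t : T, _root_.IsReduced (T.presheaf.stalk t) := by
      intro t
      let j : T ⟶ Z := pullback.fst (ι ≫ f) (S.fromSpecStalk s)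
      have : Flat j := inferInstanceAs (Flat (pullback.fst _ _))
      have : IsPreimmersion j := inferInstanceAs (IsPreimmersion (pullback.fst _ _))
      have hinj : Function.Injective (j.stalkMap t).hom := by
        algebraize [(j.stalkMap t).hom]
        have : Module.Flat (Z.presheaf.stalk (j t)) (T.presheaf.stalk t) := Flat.stalkMap j t
        have : IsLocalHom (algebraMap (Z.presheaf.stalk (j t)) (T.presheaf.stalk t)) :=
          inferInstanceAs (IsLocalHom (j.stalkMap t).hom)
        have : Module.FaithfullyFlat (Z.presheaf.stalk (j t)) (T.presheaf.stalk t) :=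
          Module.FaithfullyFlat.of_flat_of_isLocalHom
        exact FaithfulSMul.algebraMap_injective (Z.presheaf.stalk (j t)) (T.presheaf.stalk t)
      exact isReduced_of_injective
        (RingEquiv.ofBijective (j.stalkMap t).hom ⟨hinj, j.stalkMap_surjective t⟩).symm.toRingHom
        (RingEquiv.injective _)
    exact isReduced_of_isReduced_stalk T
  let q := Spec.map (S.residue s)
  have : IsClosedImmersion q := IsClosedImmersion.spec_of_surjective _ (S.residue_surjective s)
  have : Surjective q := ⟨fun a => by
    refine ⟨IsLocalRing.closedPoint _, (S.fromSpecStalk s).isEmbedding.injective ?_⟩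
    have h1 : S.fromSpecStalk s a ⤳ s :=
      Scheme.range_fromSpecStalk.subset (Set.mem_range_self a)
    rw [hmax _ h1]
    change (q ≫ S.fromSpecStalk s) _ = s
    exact Scheme.fromSpecResidueField_apply _ _⟩
  let T2 := pullback (pullback.snd (ι ≫ f) (S.fromSpecStalk s)) q
  have : IsClosedImmersion (pullback.fst (pullback.snd (ι ≫ f) (S.fromSpecStalk s)) q) :=
    inferInstance
  have : IsIso (pullback.fst (pullback.snd (ι ≫ f) (S.fromSpecStalk s)) q) :=
    isIso_of_isClosedImmersion_of_surjective _
  have hred : IsReduced (pullback (ι ≫ f) g) :=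
    isReduced_of_isOpenImmersion ((pullbackLeftPullbackSndIso (ι ≫ f) (S.fromSpecStalk s) q).inv ≫
      pullback.fst (pullback.snd (ι ≫ f) (S.fromSpecStalk s)) q)
  obtain ⟨z0, hz0⟩ : z ∈ Set.range ι := hZ ▸ subset_closure rfl
  obtain ⟨p0, hp0, -⟩ := Scheme.Pullback.exists_preimage_pullback (f := ι ≫ f) (g := g) z0 (IsLocalRing.closedPoint _)
    (show (ι ≫ f) z0 = g (IsLocalRing.closedPoint _) by
      rw [hg, Scheme.fromSpecResidueField_apply]
      change f (ι z0) = s
      rw [hz0])
  have hgen : ∀ p, p0 ⤳ p := by
    intro p
    rw [← (pullback.fst (ι ≫ f) g).isEmbedding.isInducing.specializes_iff, hp0,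
      ← ι.isClosedEmbedding.isInducing.specializes_iff, hz0, specializes_iff_mem_closure, ← hZ]
    exact Set.mem_range_self _
  have : Nonempty ↥(pullback (ι ≫ f) g) := ⟨p0⟩
  have : IrreducibleSpace ↥(pullback (ι ≫ f) g) := by
    have h1 : closure {p0} = Set.univ :=
      Set.eq_univ_of_forall fun p => specializes_iff_mem_closure.1 (hgen p)
    have h2 : IsIrreducible (Set.univ : Set ↥(pullback (ι ≫ f) g)) :=
      h1 ▸ isIrreducible_singleton.closure
    have : PreirreducibleSpace ↥(pullback (ι ≫ f) g) := ⟨h2.2⟩
    exact ⟨⟨p0⟩⟩
  refine ⟨isIntegral_of_irreducibleSpace_of_isReduced _, ?_⟩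
  set μ := pullback.map (ι ≫ f) g f g ι (𝟙 _) (𝟙 S) (Category.comp_id _)
    ((Category.comp_id _).trans (Category.id_comp _).symm) with hμ
  refine ⟨μ p0, ?_, ?_⟩
  · change (μ ≫ pullback.fst f g) p0 = z
    rw [hμ, pullback.lift_fst]
    change ι (pullback.fst (ι ≫ f) g p0) = z
    rw [hp0, hz0]
  · refine Set.Subset.antisymm ?_ ?_
    · rintro _ ⟨p, rfl⟩
      exact specializes_iff_mem_closure.1 ((hgen p).map μ.continuous)
    · refine closure_minimal (Set.singleton_subset_iff.2 (Set.mem_range_self _)) ?_
      rw [hμ, Scheme.Pullback.range_map]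
      exact (ι.isClosedEmbedding.isClosed_range.preimage (pullback.fst f g).continuous).inter
        (by simp)

end Groth.Agent.S13742
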