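import Groth.Statements.S13744
import Groth.Agent.Cyc90.ImageGen

set_option autoImplicit false
universe u
open Cyc

namespace Groth.Agent.S13744

open CategoryTheory CategoryTheory.Limits AlgebraicGeometry in
lemma injective_map {X S Z T : Scheme.{u}} (p : X ⟶ S) (ι : Z ⟶ X) [IsClosedImmersion ι] (x : T ⟶ S)
    (h₁ : (ι ≫ p) ≫ 𝟙 S = ι ≫ p) (h₂ : x ≫ 𝟙 S = 𝟙 T ≫ x) :
    Function.Injective (pullback.map (ι ≫ p) x p x ι (𝟙 T) (𝟙 S) h₁ h₂) := by
  have e : pullback.map (ι ≫ p) x p x ι (𝟙 T) (𝟙 S) h₁ h₂ =
      (pullbackRightPullbackFstIso p x ι).inv ≫ pullback.snd ι (pullback.fst p x) := by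
    apply pullback.hom_ext
    · simp only [pullback.map, pullback.lift_fst]
      simp [← pullback.condition]
    · simp only [pullback.map, pullback.lift_snd]
      simp
  rw [e]
  exact (pullback.snd ι (pullback.fst p x)).isClosedEmbedding.injective.comp
    (pullbackRightPullbackFstIso p x ι).inv.homeomorph.injective

open CategoryTheory CategoryTheory.Limits AlgebraicGeometry in
/-- Let S be a separated Noetherian scheme, p : X → S separated of finite type, ι : Z → X a closed
immersion with Z integral, R a discrete valuation ring with fraction field K and x : Spec R → S. Let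
φ be the scheme-theoretic image in Z ×_S Spec R of Z ×_S Spec K (the flat closure of the generic
fibre), regarded as a closed subscheme of X ×_S Spec R. Then the cycle of φ (coefficient at t =
length of the local ring of φ above t, an infinite length read as 0) equals the cycle of Z ×_S Spec
K pushed forward along the inclusion X ×_S Spec K → X ×_S Spec R. -/
theorem result {X S Z : Scheme.{u}} [IsNoetherian S] [S.IsSeparated] [X.IsSeparated] (p : X ⟶ S) [LocallyOfFiniteType p] [QuasiCompact p] (ι : Z ⟶ X) [IsClosedImmersion ι] [IsIntegral Z] (R : Type u) [CommRing R] [IsDomain R] [IsDiscreteValuationRing R] (x : Spec (CommRingCat.of R) ⟶ S) (t : ↥(pullback p x)) : Cyc.subschemeFun (fun _ => (0 : ℤ)) 0 ((pullback.map (ι ≫ p) (Spec.map (CommRingCat.ofHom (algebraMap R (FractionRing R))) ≫ x) (ι ≫ p) x (𝟙 Z) (Spec.map (CommRingCat.ofHom (algebraMap R (FractionRing R)))) (𝟙 S) ((Category.comp_id _).trans (Category.id_comp _).symm) (Category.comp_id _)).ker.subschemeι ≫ pullback.map (ι ≫ p) x p x ι (𝟙 _) (𝟙 S) (Category.comp_id _) ((Category.comp_id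 _).trans (Category.id_comp _).symm)) t = ∑ᶠ t' ∈ {t' : ↥(pullback p (Spec.map (CommRingCat.ofHom (algebraMap R (FractionRing R))) ≫ x)) | (pullback.map p (Spec.map (CommRingCat.ofHom (algebraMap R (FractionRing R))) ≫ x) p x (𝟙 X) (Spec.map (CommRingCat.ofHom (algebraMap R (FractionRing R)))) (𝟙 S) ((Category.comp_id _).trans (Category.id_comp _).symm) (Category.comp_id _)) t' = t}, Cyc.subschemeFun (fun _ => (0 : ℤ)) 0 (pullback.map (ι ≫ p) (Spec.map (CommRingCat.ofHom (algebraMap R (FractionRing R))) ≫ x) p (Spec.map (CommRingCat.ofHom (algebraMap R (FractionRing R))) ≫ x) ι (𝟙 _) (𝟙 S) (Category.comp_id _) ((Category.comp_id _).trans (Category.id_comp _).symm)) t' := by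
  have := Cyc90.ImageGen.isOpenImmersion_specMap_fractionRing R
  set j := Spec.map (CommRingCat.ofHom (algebraMap R (FractionRing R))) with hj
  set α := pullback.map (ι ≫ p) (j ≫ x) (ι ≫ p) x (𝟙 Z) j (𝟙 S)
    ((Category.comp_id _).trans (Category.id_comp _).symm) (Category.comp_id _) with hα
  have : QuasiCompact j := inferInstance
  refine Cyc90.ImageGen.subschemeFun_image α _ ?_ _ ?_ _ ?_ (by
    apply pullback.hom_ext <;>
      simp only [hα, pullback.map, Category.assoc, pullback.lift_fst, pullback.lift_snd,
        pullback.lift_fst_assoc, pullback.lift_snd_assoc, Category.comp_id, Category.id_comp]) t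
  · exact injective_map p ι x _ _
  · exact injective_map p ι (j ≫ x) _ _
  · exact (Scheme.Hom.isEmbedding _).injective

end Groth.Agent.S13744
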