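import Groth.Statements.S13749
import Groth.Agent.NeronHD28.LocalCrit
-- import your own Groth.Agent.* helpers here

set_option autoImplicit false
universe u
open CategoryTheory AlgebraicGeometry
open Neron

namespace Groth.Agent.S13749

/-- Let S be a locally Noetherian scheme, U ⊆ S a schematically dense open subscheme, N → S a smooth
separated morphism of finite type and g : S' → S a flat surjective morphism, and put U' = g⁻¹(U).
Suppose the base change N ×_S S' → S' has the Néron mapping property with respect to U': for every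
smooth S'-scheme Y', sending an S'-morphism Y' → N ×_S S' to its restriction over U' is a bijection
onto the U'-morphisms Y' ×_{S'} U' → (N ×_S S') ×_{S'} U'. Then N → S has the Néron mapping property
with respect to U: for every smooth S-scheme Y, restriction to U is a bijection from S-morphisms Y →
N onto U-morphisms Y ×_S U → N ×_S U. (The published statement is for an arbitrary base S and open
U, with N an algebraic space which is a model of an abelian scheme over U, tested against smooth
schemes; this row takes N a scheme, drops the abelian-scheme hypothesis, and assumes S locally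
Noetherian with U schematically dense, the setting in which schematic closures of U-sections commute
with flat base change and fill S'.) -/
theorem result
    {S S' : Scheme.{u}} [IsLocallyNoetherian S] (g : S' ⟶ S) [Flat g] [Surjective g]
    (U : S.Opens) (hU : CInt.IsSchematicallyDense U)
    (N : Over S) [Smooth N.hom] [IsSeparated N.hom] [QuasiCompact N.hom]
    (hN' : ∀ Y' : Over S', Smooth Y'.hom →
      Function.Bijective (fun f : Y' ⟶ (Over.pullback g).obj N => (Over.pullback (g ⁻¹ᵁ U).ι).map f))
    (Y : Over S) [Smooth Y.hom] :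
    Function.Bijective (fun f : Y ⟶ N => (Over.pullback U.ι).map f) := by
  rw [NeronHD28.bijective_iff_extProp]
  haveI : IsLocallyNoetherian Y.left := LocallyOfFiniteType.isLocallyNoetherian Y.hom
  refine NeronHD28.extProp_of_local Y.hom (An92.Rat.schDense_preimage_of_flat Y.hom hU) fun h hh y => ?_
  let P := Limits.pullback Y.hom g
  let pr : P ⟶ Y.left := Limits.pullback.fst Y.hom g
  let sn : P ⟶ S' := Limits.pullback.snd Y.hom g
  have hcond : pr ≫ Y.hom = sn ≫ g := Limits.pullback.condition
  haveI : Smooth sn := MorphismProperty.pullback_snd (P := @Smooth) Y.hom g ‹_›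
  haveI : Flat pr := MorphismProperty.pullback_fst (P := @Flat) Y.hom g ‹_›
  haveI : Surjective pr := MorphismProperty.pullback_fst (P := @Surjective) Y.hom g ‹_›
  have hext : NeronHD28.ExtProp N U (sn ≫ g) := by
    rw [← NeronHD28.extProp_pullback_iff]
    exact (NeronHD28.bijective_iff_extProp ((Over.pullback g).obj N) (g ⁻¹ᵁ U) (Over.mk sn)).1 (hN' (Over.mk sn) ‹_›)
  let O := Y.hom ⁻¹ᵁ U
  have hle : (sn ≫ g) ⁻¹ᵁ U ≤ pr ⁻¹ᵁ O := by
    rw [← hcond]
    rfl
  obtain ⟨f, ⟨hf, hfh⟩, -⟩ := hext (Scheme.Hom.resLE pr O _ hle ≫ h) (by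
    rw [Category.assoc, hh, Scheme.Hom.resLE_comp_ι_assoc, hcond])
  obtain ⟨y', rfl⟩ := pr.surjective y
  let p : Spec (P.presheaf.stalk y') ⟶ Spec (Y.left.presheaf.stalk (pr y')) := Spec.map (pr.stalkMap y')
  have hp : p ≫ Y.left.fromSpecStalk (pr y') = P.fromSpecStalk y' ≫ pr := Scheme.SpecMap_stalkMap_fromSpecStalk pr
  haveI : Flat p := (HasRingHomProperty.Spec_iff (P := @Flat)).2 (Flat.stalkMap pr y')
  haveI : Surjective p := ⟨by
    letI := (pr.stalkMap y').hom.toAlgebra
    haveI : Module.Flat (Y.left.presheaf.stalk (pr y')) (P.presheaf.stalk y') := Flat.stalkMap pr y'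
    haveI : IsLocalHom (algebraMap (Y.left.presheaf.stalk (pr y')) (P.presheaf.stalk y')) :=
      inferInstanceAs (IsLocalHom (pr.stalkMap y').hom)
    haveI : Module.FaithfullyFlat (Y.left.presheaf.stalk (pr y')) (P.presheaf.stalk y') :=
      Module.FaithfullyFlat.of_flat_of_isLocalHom
    exact PrimeSpectrum.comap_surjective_of_faithfullyFlat⟩
  haveI : EffectiveEpi p := inferInstance
  let e' := P.fromSpecStalk y' ≫ f
  have hfac : ∀ {T : Scheme.{u}} (a : T ⟶ P) (r : T ⟶ (O : Scheme.{u})),
      r ≫ O.ι = a ≫ pr → a ≫ f = r ≫ h := by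
    intro T a r hr
    have hra : Set.range a ⊆ Set.range ((sn ≫ g) ⁻¹ᵁ U).ι := by
      rw [Scheme.Opens.range_ι]
      rintro _ ⟨t, rfl⟩
      show (sn ≫ g) (a t) ∈ U
      rw [← hcond]
      show Y.hom ((a ≫ pr) t) ∈ U
      rw [← hr]
      exact (r t).2
    have h1 : IsOpenImmersion.lift _ a hra ≫ Scheme.Hom.resLE pr O _ hle = r := by
      rw [← cancel_mono O.ι, Category.assoc, Scheme.Hom.resLE_comp_ι, IsOpenImmersion.lift_fac_assoc, hr]
    rw [← IsOpenImmersion.lift_fac _ a hra, Category.assoc, hfh, ← Category.assoc, h1]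
  have hdd : ∀ {W : Scheme.{u}} (g₁ g₂ : W ⟶ Spec (P.presheaf.stalk y')), g₁ ≫ p = g₂ ≫ p → g₁ ≫ e' = g₂ ≫ e' := by
    intro W g₁ g₂ hg
    suffices hu : Limits.pullback.fst p p ≫ e' = Limits.pullback.snd p p ≫ e' by
      rw [← Limits.pullback.lift_fst g₁ g₂ hg, Category.assoc, hu, Limits.pullback.lift_snd_assoc]
    let c := Limits.pullback.fst p p ≫ p ≫ Y.left.fromSpecStalk (pr y')
    haveI : Flat (Y.left.fromSpecStalk (pr y')) := FlatMor67.flat_fromSpecStalk _
    haveI : Flat (Limits.pullback.fst p p) := MorphismProperty.pullback_fst (P := @Flat) p p ‹_›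
    haveI : Flat c := inferInstance
    refine SGA3a.eq_of_eqOn_schemDense N.hom (c ⁻¹ᵁ O)
      (An92.Rat.schDense_preimage_of_flat c (An92.Rat.schDense_preimage_of_flat Y.hom hU)) _ _ ?_ ?_
    · simp only [e', Category.assoc, hf, ← hcond]
      rw [← reassoc_of% hp, ← Category.assoc, ← Category.assoc (Limits.pullback.snd p p), Limits.pullback.condition]
    · trans Scheme.Hom.resLE c O (c ⁻¹ᵁ O) le_rfl ≫ h
      · rw [show (c ⁻¹ᵁ O).ι ≫ Limits.pullback.fst p p ≫ e' =
          ((c ⁻¹ᵁ O).ι ≫ Limits.pullback.fst p p ≫ P.fromSpecStalk y') ≫ f by simp only [e', Category.assoc]]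
        exact hfac _ _ (by simp only [Scheme.Hom.resLE_comp_ι, Category.assoc, c, ← hp])
      · rw [show (c ⁻¹ᵁ O).ι ≫ Limits.pullback.snd p p ≫ e' =
          ((c ⁻¹ᵁ O).ι ≫ Limits.pullback.snd p p ≫ P.fromSpecStalk y') ≫ f by simp only [e', Category.assoc]]
        exact (hfac _ _ (by simp only [Scheme.Hom.resLE_comp_ι, Category.assoc, c, ← hp, Limits.pullback.condition_assoc])).symm
  refine ⟨EffectiveEpi.desc p e' hdd, ?_, ?_⟩
  · rw [← cancel_epi p, EffectiveEpi.fac_assoc, reassoc_of% hp, hcond]
    simp only [e', Category.assoc, hf]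
  · let V := NeronHD28.genIn (pr y') O
    haveI : Flat (p ∣_ V) := IsZariskiLocalAtTarget.restrict ‹Flat p› V
    haveI : Surjective (p ∣_ V) := IsZariskiLocalAtTarget.restrict ‹Surjective p› V
    haveI := Flat.epi_of_flat_of_surjective (p ∣_ V)
    rw [← cancel_epi (p ∣_ V), ← Category.assoc, morphismRestrict_ι, Category.assoc, EffectiveEpi.fac,
      ← Category.assoc]
    simp only [e']
    rw [← Category.assoc]
    refine hfac _ _ ?_
    simp only [Category.assoc, Scheme.Hom.resLE_comp_ι]
    rw [← hp, ← Category.assoc (p ⁻¹ᵁ V).ι, ← morphismRestrict_ι, Category.assoc]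
    exact congrArg (fun m => (p ∣_ V) ≫ m) (Scheme.Hom.resLE_comp_ι _ _)

end Groth.Agent.S13749
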