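import Groth.Statements.S13750
import Groth.Agent.NeronHD28.Models
import Groth.Agent.EssEt14.Comp
import Groth.Agent.FlatMor67.GenericFibre
import Groth.Agent.SchBasics.DiffSmoothLimit
-- import your own Groth.Agent.* helpers here

set_option autoImplicit false
universe u
open CategoryTheory AlgebraicGeometry
open Neron

namespace Groth.Agent.S13750

/-- Let S be a locally Noetherian scheme, U ⊆ S an open subscheme and N → S a smooth separated morphism
of finite type having the Néron mapping property with respect to U: for every smooth S-scheme Y,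
restriction to U is a bijection from S-morphisms Y → N onto U-morphisms Y ×_S U → N ×_S U. Let s be
a point of S and S̃ = Spec O_{S,s} → S the canonical morphism. Then N ×_S S̃ → S̃ has the Néron
mapping property with respect to the preimage Ũ of U: for every smooth S̃-scheme Ỹ, restriction to Ũ
is a bijection from S̃-morphisms Ỹ → N ×_S S̃ onto Ũ-morphisms. (The published statement is for N an
algebraic space which is a Néron model of an abelian scheme over U and also covers the strict
henselisation at a geometric point; this row is the localisation case for a scheme N, with no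
abelian-scheme hypothesis.) -/
theorem result
    {S : Scheme.{u}} [IsLocallyNoetherian S] (U : S.Opens)
    (N : Over S) [Smooth N.hom] [IsSeparated N.hom] [QuasiCompact N.hom]
    (hN : ∀ Y : Over S, Smooth Y.hom →
      Function.Bijective (fun f : Y ⟶ N => (Over.pullback U.ι).map f))
    (s : S) (Y' : Over (Spec (S.presheaf.stalk s))) [Smooth Y'.hom] :
    Function.Bijective (fun f : Y' ⟶ (Over.pullback (S.fromSpecStalk s)).obj N =>
      (Over.pullback ((S.fromSpecStalk s) ⁻¹ᵁ U).ι).map f) := by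
  rw [NeronHD28.bijective_iff_extProp, NeronHD28.extProp_pullback_iff]
  haveI : IsLocallyNoetherian Y'.left := LocallyOfFiniteType.isLocallyNoetherian Y'.hom
  refine NeronHD28.extProp_of_models (fun Z hZ => (NeronHD28.bijective_iff_extProp N U Z).1 (hN Z hZ)) _ fun y => ?_
  obtain ⟨V, hV, hyV, -⟩ := exists_isAffineOpen_mem_and_subset (X := Y'.left) (x := y) (U := ⊤) trivial
  obtain ⟨U₀, hU₀, hsU₀, -⟩ := exists_isAffineOpen_mem_and_subset (X := S) (x := s) (U := ⊤) trivial
  letI : Algebra Γ(S, U₀) (S.presheaf.stalk s) := (S.presheaf.germ U₀ s hsU₀).hom.toAlgebra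
  haveI : IsLocalization (hU₀.primeIdealOf ⟨s, hsU₀⟩).asIdeal.primeCompl (S.presheaf.stalk s) :=
    hU₀.isLocalization_stalk ⟨s, hsU₀⟩
  obtain ⟨φ, hφ⟩ := Spec.map_surjective (hV.fromSpec ≫ Y'.hom)
  letI : Algebra (S.presheaf.stalk s) Γ(Y'.left, V) := φ.hom.toAlgebra
  letI : Algebra Γ(S, U₀) Γ(Y'.left, V) := (φ.hom.comp (S.presheaf.germ U₀ s hsU₀).hom).toAlgebra
  haveI : IsScalarTower Γ(S, U₀) (S.presheaf.stalk s) Γ(Y'.left, V) := IsScalarTower.of_algebraMap_eq' rfl
  haveI : Algebra.FinitePresentation (S.presheaf.stalk s) Γ(Y'.left, V) := by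
    haveI : LocallyOfFinitePresentation (Spec.map φ) := by rw [hφ]; infer_instance
    exact (HasRingHomProperty.Spec_iff (P := @LocallyOfFinitePresentation)).1 inferInstance
  obtain ⟨D₀, _, _, f, M, hfp, hM⟩ := EssEt14.exists_fp_descent (C0 := Γ(S, U₀)) (B := S.presheaf.stalk s)
    (hU₀.primeIdealOf ⟨s, hsU₀⟩).asIdeal.primeCompl Γ(Y'.left, V)
  letI := f.toRingHom.toAlgebra
  haveI := hM
  let j : Spec Γ(Y'.left, V) ⟶ Spec (CommRingCat.of D₀) := Spec.map (CommRingCat.ofHom f.toRingHom)
  let π₀ : Spec (CommRingCat.of D₀) ⟶ S := Spec.map (CommRingCat.ofHom (algebraMap Γ(S, U₀) D₀)) ≫ hU₀.fromSpec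
  haveI : IsPreimmersion j := IsPreimmersion.of_isLocalization M
  haveI : Flat j := (HasRingHomProperty.Spec_iff (P := @Flat)).2 (RingHom.flat_algebraMap_iff.2 (IsLocalization.flat _ M))
  haveI : LocallyOfFinitePresentation (Spec.map (CommRingCat.ofHom (algebraMap Γ(S, U₀) D₀))) :=
    (HasRingHomProperty.Spec_iff (P := @LocallyOfFinitePresentation)).2 (RingHom.finitePresentation_algebraMap.2 hfp)
  haveI : LocallyOfFinitePresentation π₀ := inferInstance
  have hfs : S.fromSpecStalk s = Spec.map (S.presheaf.germ U₀ s hsU₀) ≫ hU₀.fromSpec :=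
    (hU₀.fromSpecStalk_eq_fromSpecStalk hsU₀).symm
  have hj : j ≫ π₀ = hV.fromSpec ≫ Y'.hom ≫ S.fromSpecStalk s := by
    rw [hfs, ← Category.assoc hV.fromSpec, ← hφ, ← Spec.map_comp_assoc]
    simp only [j, π₀, ← Spec.map_comp_assoc]
    congr 2
    ext a
    exact f.commutes a
  obtain ⟨q, rfl⟩ : y ∈ Set.range hV.fromSpec := by
    rw [hV.range_fromSpec]
    exact hyV
  have hiso : ∀ {A B : Scheme.{u}} (k : A ⟶ B) [Flat k] [IsPreimmersion k] (a : A), IsIso (k.stalkMap a) := by
    intro A B k _ _ a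
    letI := (k.stalkMap a).hom.toAlgebra
    haveI : Module.Flat (B.presheaf.stalk (k a)) (A.presheaf.stalk a) := Flat.stalkMap k a
    haveI : IsLocalHom (algebraMap (B.presheaf.stalk (k a)) (A.presheaf.stalk a)) :=
      inferInstanceAs (IsLocalHom (k.stalkMap a).hom)
    haveI : Module.FaithfullyFlat (B.presheaf.stalk (k a)) (A.presheaf.stalk a) :=
      Module.FaithfullyFlat.of_flat_of_isLocalHom
    exact (ConcreteCategory.isIso_iff_bijective _).2
      ⟨FaithfulSMul.algebraMap_injective (B.presheaf.stalk (k a)) (A.presheaf.stalk a), k.stalkMap_surjective a⟩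
  haveI := hiso j q
  haveI : IsIso (hV.fromSpec.stalkMap q) := inferInstance
  let Y₁ := π₀.smoothLocus
  haveI hfsflat : Flat (S.fromSpecStalk s) := FlatMor67.flat_fromSpecStalk s
  have hmem : j q ∈ Y₁ := by
    rw [Scheme.Hom.mem_smoothLocus]
    have h1 : ((j ≫ π₀).stalkMap q).hom.FormallySmooth := by
      rw [hj]
      erw [Scheme.Hom.stalkMap_comp hV.fromSpec (Y'.hom ≫ S.fromSpecStalk s) q]
      refine (RingHom.FormallySmooth.respectsIso.cancel_right_isIso _ _).2 ?_
      erw [Scheme.Hom.stalkMap_comp Y'.hom (S.fromSpecStalk s) (hV.fromSpec q)]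
      haveI := hiso (S.fromSpecStalk s) (Y'.hom (hV.fromSpec q))
      refine (RingHom.FormallySmooth.respectsIso.cancel_left_isIso _ _).2 ?_
      exact Scheme.Hom.mem_smoothLocus.1 (by rw [Y'.hom.smoothLocus_eq_top]; trivial)
    erw [Scheme.Hom.stalkMap_comp j π₀ q] at h1
    exact (RingHom.FormallySmooth.respectsIso.cancel_right_isIso _ _).1 h1
  let y₁ : (Y₁ : Scheme.{u}) := ⟨j q, hmem⟩
  haveI : IsIso (Spec.map (Y₁.ι.stalkMap y₁)) := inferInstance
  haveI hinv : IsIso (Spec.map (j.stalkMap q)) := by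
    have hh : IsIso (j.stalkMap q) := hiso j q
    exact Functor.map_isIso Scheme.Spec (j.stalkMap q).op
  refine ⟨(Y₁ : Scheme.{u}), Y₁.ι ≫ π₀, y₁,
    Spec.map (Y₁.ι.stalkMap y₁) ≫ (@asIso _ _ _ _ (Spec.map (j.stalkMap q)) hinv).inv ≫ Spec.map (hV.fromSpec.stalkMap q),
    SchBasics.smooth_smoothLocus_ι π₀, inferInstance, ?_⟩
  rw [Category.assoc, Category.assoc, Scheme.SpecMap_stalkMap_fromSpecStalk_assoc, ← hj,
    ← Scheme.SpecMap_stalkMap_fromSpecStalk_assoc]
  refine (congrArg (fun m => Spec.map (Y₁.ι.stalkMap y₁) ≫ m)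
    ((@asIso _ _ _ _ (Spec.map (j.stalkMap q)) hinv).inv_hom_id_assoc
      ((Spec (CommRingCat.of D₀)).fromSpecStalk (j q) ≫ π₀))).trans ?_
  exact Scheme.SpecMap_stalkMap_fromSpecStalk_assoc Y₁.ι π₀

end Groth.Agent.S13750
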