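import Groth.Statements.S1377
import Mathlib.AlgebraicGeometry.Normalization
import Mathlib.AlgebraicGeometry.IdealSheaf.Subscheme
import Mathlib.AlgebraicGeometry.Limits
import Mathlib.AlgebraicGeometry.Morphisms.Integral

set_option autoImplicit false
universe u
open FlatMor

namespace Groth.Agent.S1377

open AlgebraicGeometry CategoryTheory Limits in
/-- Let S be a scheme, U ⊆ S an open subscheme whose inclusion U → S is quasi-compact (U retrocompact in
S), and V → U a surjective integral morphism. Then there are a scheme V' and a surjective integral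
morphism V' → S whose base change to U is V → U. (The published statement puts no condition on U,
and in that generality it is false: e.g. S = Spec ∏_i ℤ/4^i with U = D(2) ∪ ⋃_i D(e_i), e_i the
idempotents, and V equal to U except that over D(2) it is cut out by x = (2^i)_i. Stated here with U
→ S quasi-compact, under which hypothesis the published argument applies.) -/
theorem result {S V : Scheme.{u}} (U : S.Opens) [QuasiCompact U.ι]
    (v : V ⟶ (U : Scheme.{u})) [IsIntegralHom v] [Surjective v] :
    ∃ (V' : Scheme.{u}) (π : V' ⟶ S) (i : V ⟶ V'), Surjective π ∧ IsIntegralHom π ∧ IsPullback i v π U.ι := by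
  let F : V ⟶ S := v ≫ U.ι
  have hF : F.toNormalization ≫ F.fromNormalization = v ≫ U.ι := F.toNormalization_fromNormalization
  have hsq : IsPullback (𝟙 V) v F U.ι := by
    refine ⟨⟨by simp [F]⟩, ⟨PullbackCone.IsLimit.mk _ (fun s => s.fst) (fun s => by simp) (fun s => ?_) (fun s m h₁ _ => by simpa using h₁)⟩⟩
    rw [← cancel_mono U.ι]
    simpa [F] using s.condition
  let e : V ≅ pullback F U.ι := hsq.isoPullback
  let c : V ⟶ pullback F.fromNormalization U.ι := pullback.lift F.toNormalization v hF
  have hint : IsIntegralHom (pullback.snd F U.ι) := by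
    rw [show pullback.snd F U.ι = e.inv ≫ v by simp [e]]; infer_instance
  have hc : IsIso c := by
    have : c = e.hom ≫ (pullback.snd F U.ι).toNormalization ≫ F.normalizationPullback U.ι := by
      apply pullback.hom_ext
      · rw [pullback.lift_fst, Category.assoc, Category.assoc,
          Scheme.Hom.toNormalization_normalizationPullback_fst, IsPullback.isoPullback_hom_fst_assoc,
          Category.id_comp]
      · rw [pullback.lift_snd, Category.assoc, Category.assoc, Scheme.Hom.normalizationPullback_snd,
          Scheme.Hom.toNormalization_fromNormalization, IsPullback.isoPullback_hom_snd]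
    rw [this]; infer_instance
  have hpb : IsPullback F.toNormalization v F.fromNormalization U.ι :=
    IsPullback.of_iso_pullback ⟨hF⟩ (asIso c) (pullback.lift_fst _ _ _) (pullback.lift_snd _ _ _)
  let J : S.IdealSheafData := Scheme.IdealSheafData.vanishingIdeal ⟨(U : Set S)ᶜ, U.isOpen.isClosed_compl⟩
  have hJ : Set.range J.subschemeι = (U : Set S)ᶜ := by
    rw [Scheme.IdealSheafData.range_subschemeι]; rfl
  refine ⟨F.normalization ⨿ J.subscheme, coprod.desc F.fromNormalization J.subschemeι,
    F.toNormalization ≫ coprod.inl, ?_, inferInstance, ?_⟩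
  · refine ⟨fun s => ?_⟩
    by_cases hs : s ∈ U
    · obtain ⟨x, hx⟩ := v.surjective ⟨s, hs⟩
      refine ⟨(F.toNormalization ≫ coprod.inl) x, ?_⟩
      rw [← Scheme.Hom.comp_apply, Category.assoc, coprod.inl_desc, hF, Scheme.Hom.comp_apply, hx]
      rfl
    · obtain ⟨z, hz⟩ : s ∈ Set.range J.subschemeι := by rw [hJ]; exact hs
      refine ⟨(coprod.inr : J.subscheme ⟶ F.normalization ⨿ J.subscheme) z, ?_⟩
      rw [← Scheme.Hom.comp_apply, coprod.inr_desc, hz]
  · have hfac : ∀ {T : Scheme.{u}} (a : T ⟶ F.normalization ⨿ J.subscheme) (b : T ⟶ U.toScheme),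
        a ≫ coprod.desc F.fromNormalization J.subschemeι = b ≫ U.ι →
        Set.range a ⊆ Set.range (coprod.inl : F.normalization ⟶ F.normalization ⨿ J.subscheme) := by
      intro T a b hab
      rintro _ ⟨t, rfl⟩
      rcases (isCompl_range_inl_inr F.normalization J.subscheme).codisjoint.top_le (Set.mem_univ (a t)) with h | ⟨z, hz⟩
      · exact h
      · exfalso
        have h1 : J.subschemeι z ∈ (U : Set S)ᶜ := hJ ▸ ⟨z, rfl⟩
        apply h1
        have h2 : coprod.desc F.fromNormalization J.subschemeι (a t) = U.ι (b t) := by
          rw [← Scheme.Hom.comp_apply, hab, Scheme.Hom.comp_apply]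
        rw [← hz, ← Scheme.Hom.comp_apply, coprod.inr_desc] at h2
        rw [h2]; exact (b t).2
    refine ⟨⟨by rw [Category.assoc, coprod.inl_desc, hF]⟩, ⟨PullbackCone.IsLimit.mk _
      (fun s => hpb.lift (IsOpenImmersion.lift coprod.inl s.fst (hfac s.fst s.snd s.condition)) s.snd ?_) ?_ ?_ ?_⟩⟩
    · rw [← s.condition]
      conv_rhs => rw [← IsOpenImmersion.lift_fac coprod.inl s.fst (hfac s.fst s.snd s.condition)]
      rw [Category.assoc, coprod.inl_desc]
    · intro s; rw [IsPullback.lift_fst_assoc, IsOpenImmersion.lift_fac]
    · intro s; rw [IsPullback.lift_snd]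
    · intro s m h₁ h₂
      apply hpb.hom_ext
      · rw [← cancel_mono (coprod.inl : F.normalization ⟶ F.normalization ⨿ J.subscheme), IsPullback.lift_fst,
          IsOpenImmersion.lift_fac, Category.assoc]
        exact h₁
      · rw [IsPullback.lift_snd]; exact h₂

end Groth.Agent.S1377
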