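import Groth.Statements.S13771
import Groth.Agent.PLie29.Extend
import Groth.Agent.PLie29.Basic

set_option autoImplicit false
universe u v w
open PLie

namespace Groth.Agent.S13771

/-- Let R be a commutative ring of prime characteristic p, L₁ and L₂ Lie algebras over R, φ a p-mapping
on L₁ and f : L₁ → L₂ a morphism of Lie algebras whose kernel is stable under φ (a p-ideal). Then
the image f(L₁), a Lie subalgebra of L₂, carries exactly one p-mapping ψ for which the corestriction
of f to its image is a morphism of p-Lie algebras, i.e. ψ (f x) = f (φ x) for all x. -/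
theorem result (R : Type u) [CommRing R] (p : ℕ) [Fact p.Prime] [CharP R p]
    (L₁ : Type v) [LieRing L₁] [LieAlgebra R L₁] (L₂ : Type w) [LieRing L₂] [LieAlgebra R L₂]
    (φ : PLie.PMap R p L₁) (f : L₁ →ₗ⁅R⁆ L₂) (hker : ∀ x : L₁, f x = 0 → f (φ x) = 0) :
    ∃! ψ : PLie.PMap R p f.range, PLie.IsPHom φ ψ f.rangeRestrict := by
  have hsurj : Function.Surjective f.rangeRestrict := fun ⟨_, x, hx⟩ => ⟨x, Subtype.ext hx⟩
  choose s hs using hsurj
  have hker' : ∀ x, f.rangeRestrict x = 0 → f.rangeRestrict (φ x) = 0 := fun x hx => by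
    refine Subtype.ext ?_
    exact hker x (congrArg Subtype.val hx)
  have hwd : ∀ x y, f.rangeRestrict x = f.rangeRestrict y →
      f.rangeRestrict (φ x) = f.rangeRestrict (φ y) := by
    intro x y h
    have h0 : f.rangeRestrict (x - y) = 0 := by rw [map_sub, h, sub_self]
    conv_lhs => rw [← add_sub_cancel y x]
    rw [φ.map_add, map_sub, map_add, hker' _ h0, Agent.PLie29.map_jacobson, h0,
      Agent.PLie29.jacobson_zero_right, add_zero, sub_zero]
  have hcomm : ∀ x, f.rangeRestrict (φ (s (f.rangeRestrict x))) = f.rangeRestrict (φ x) :=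
    fun x => hwd _ _ (hs _)
  refine ⟨⟨fun z => f.rangeRestrict (φ (s z)), fun c z => ?_, fun z => LinearMap.ext fun w => ?_,
    fun z w => ?_⟩, fun x => (hcomm x).symm, fun ψ hψ => Agent.PLie29.pmap_ext fun z => ?_⟩
  · conv_lhs => rw [show c • z = f.rangeRestrict (c • s z) by rw [map_smul, hs]]
    rw [hcomm, φ.map_smul, map_smul]
  · rw [LieAlgebra.ad_apply]
    conv_lhs => rw [← hs w]
    rw [← LieHom.map_lie, Agent.PLie29.lie_pmap, Agent.PLie29.map_ad_pow, hs, hs]
  · conv_lhs => rw [show z + w = f.rangeRestrict (s z + s w) by rw [map_add, hs, hs]]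
    rw [hcomm, φ.map_add, map_sub, map_add, Agent.PLie29.map_jacobson, hs, hs]
  · show ψ z = f.rangeRestrict (φ (s z))
    rw [hψ (s z), hs]

end Groth.Agent.S13771
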