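import Groth.Statements.S13776
import Groth.Agent.PLie29.Extend

set_option autoImplicit false
universe u v
open PLie

namespace Groth.Agent.S13776

/-- Let R be a commutative ring of prime characteristic p, t ∈ R, and L a Lie algebra over R, free as a
module with basis x = bs 0, y = bs 1, z = bs 2 and brackets [x,y] = y, [x,z] = t • z, [y,z] = 0.
Then L carries a p-mapping if and only if t ^ p = t. (The published statement is the corresponding
entry of the classification table over an algebraically closed field of characteristic p, where the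
condition reads: t lies in the prime field; this row states it over every commutative ring of
characteristic p.) -/
theorem result (R : Type u) [CommRing R] (p : ℕ) [Fact p.Prime] [CharP R p] (t : R)
    (L : Type v) [LieRing L] [LieAlgebra R L] (bs : Module.Basis (Fin 3) R L)
    (hxy : ⁅bs 0, bs 1⁆ = bs 1) (hxz : ⁅bs 0, bs 2⁆ = t • bs 2) (hyz : ⁅bs 1, bs 2⁆ = 0) :
    Nonempty (PLie.PMap R p L) ↔ t ^ p = t := by
  have hyx : ⁅bs 1, bs 0⁆ = -bs 1 := by rw [← lie_skew, hxy]
  have hzx : ⁅bs 2, bs 0⁆ = -(t • bs 2) := by rw [← lie_skew, hxz]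
  have hzy : ⁅bs 2, bs 1⁆ = 0 := by rw [← lie_skew, hyz, neg_zero]
  haveI : Nontrivial R := CharP.nontrivial_of_char_ne_one (Fact.out : p.Prime).ne_one
  have hp2 : 2 ≤ p := (Fact.out : p.Prime).two_le
  have hn : ∀ n : ℕ, (LieAlgebra.ad R L (bs 0) ^ n) (bs 1) = bs 1 ∧
      (LieAlgebra.ad R L (bs 0) ^ n) (bs 2) = t ^ n • bs 2 := by
    intro n
    induction n with
    | zero => simp
    | succ n ih =>
      rw [pow_succ', Module.End.mul_apply, Module.End.mul_apply, ih.1, ih.2]
      simp [hxy, hxz, smul_smul, pow_succ]
  constructor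
  · rintro ⟨φ⟩
    have h := φ.ad_map (bs 0)
    have h1 := LinearMap.congr_fun h (bs 1)
    have h2 := LinearMap.congr_fun h (bs 2)
    rw [(hn p).1] at h1
    rw [(hn p).2] at h2
    rw [← bs.sum_repr (φ (bs 0)), Fin.sum_univ_three] at h1 h2
    simp only [LieAlgebra.ad_apply, add_lie, smul_lie, hxy, hxz, hyz, hzy, lie_self, smul_zero,
      add_zero, zero_add] at h1 h2
    have e1 := congrArg (fun w => bs.repr w 1) h1
    have e2 := congrArg (fun w => bs.repr w 2) h2
    simp at e1 e2
    simpa [e1] using e2.symm
  · intro ht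
    rw [Agent.PLie29.nonempty_pmap_iff bs]
    intro i
    fin_cases i
    · refine ⟨bs 0, bs.ext fun j => ?_⟩
      fin_cases j
      · rw [show p = (p - 1) + 1 by omega, pow_succ, Module.End.mul_apply]
        simp
      · simp [(hn p).1, hxy]
      · simp [(hn p).2, hxz, ht]
    all_goals
      refine ⟨0, bs.ext fun j => ?_⟩
      rw [show p = (p - 2) + 2 by omega, pow_add, Module.End.mul_apply, pow_two, Module.End.mul_apply]
      fin_cases j <;> simp [hyx, hyz, hzx, hzy]

end Groth.Agent.S13776
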