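import Groth.Statements.S13778
import Groth.Agent.PLie29.Three

set_option autoImplicit false
set_option maxHeartbeats 2000000
universe u v
open PLie

namespace Groth.Agent.S13778

open DualNumber in
/-- Let K be a field of prime characteristic p, K[ε] the ring of dual numbers (taken with its
characteristic-p structure), t ∈ K with t ^ p = t (an element of the prime field), and a, …, i ∈ K.
Let L be a Lie algebra over K[ε], free as a module with basis x = bs 0, y = bs 1, z = bs 2 and
brackets [x,y] = aε x + (1 + bε) y + cε z, [x,z] = dε x + eε y + (t + fε) z, [y,z] = gε x + hε y +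
iε z. Then L carries a p-mapping over K[ε] if and only if b t = f, c = e = 0 when t = 1, and g = 0
when p = 2. (The published statement determines the singular locus of the restrictable locus in the
centreless stratum of the moduli scheme of based three-dimensional Lie algebras, for t non-zero, and
the rank-one-centre stratum treats t = 0; this row states the restrictability criterion for the
first-order deformations of l_t that the proofs compute, over any field of characteristic p in place
of the prime field and for every t in the prime field.) -/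
theorem result (K : Type u) [Field K] (p : ℕ) [Fact p.Prime] [CharP K p]
    [CharP (DualNumber K) p] (t a b c d e f g h i : K) (ht : t ^ p = t)
    (L : Type v) [LieRing L] [LieAlgebra (DualNumber K) L] (bs : Module.Basis (Fin 3) (DualNumber K) L)
    (hxy : ⁅bs 0, bs 1⁆ = (a • ε : DualNumber K) • bs 0 + (1 + b • ε : DualNumber K) • bs 1 + (c • ε : DualNumber K) • bs 2)
    (hxz : ⁅bs 0, bs 2⁆ = (d • ε : DualNumber K) • bs 0 + (e • ε : DualNumber K) • bs 1 +
      (algebraMap K (DualNumber K) t + f • ε) • bs 2)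
    (hyz : ⁅bs 1, bs 2⁆ = (g • ε : DualNumber K) • bs 0 + (h • ε : DualNumber K) • bs 1 + (i • ε : DualNumber K) • bs 2) :
    Nonempty (PLie.PMap (DualNumber K) p L) ↔ (b * t = f ∧ (t = 1 → c = 0 ∧ e = 0) ∧ (p = 2 → g = 0)) := by
  have hp2 : 2 ≤ p := (Fact.out : p.Prime).two_le
  let A : Fin 3 → Matrix (Fin 3) (Fin 3) K := ![!![0, 0, 0; 0, 1, 0; 0, 0, t],
    !![0, 0, 0; -1, 0, 0; 0, 0, 0], !![0, 0, 0; 0, 0, 0; -t, 0, 0]]
  let B : Fin 3 → Matrix (Fin 3) (Fin 3) K := ![!![0, a, d; 0, b, e; 0, c, f],
    !![-a, 0, g; -b, 0, h; -c, 0, i], !![-d, -g, 0; -e, -h, 0; -f, -i, 0]]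
  have hyx : ⁅bs 1, bs 0⁆ = -((a • DualNumber.eps : DualNumber K) • bs 0 +
      (1 + b • DualNumber.eps : DualNumber K) • bs 1 + (c • DualNumber.eps : DualNumber K) • bs 2) := by
    rw [← lie_skew, hxy]
  have hzx : ⁅bs 2, bs 0⁆ = -((d • DualNumber.eps : DualNumber K) • bs 0 +
      (e • DualNumber.eps : DualNumber K) • bs 1 +
      (algebraMap K (DualNumber K) t + f • DualNumber.eps) • bs 2) := by
    rw [← lie_skew, hxz]
  have hzy : ⁅bs 2, bs 1⁆ = -((g • DualNumber.eps : DualNumber K) • bs 0 +
      (h • DualNumber.eps : DualNumber K) • bs 1 + (i • DualNumber.eps : DualNumber K) • bs 2) := by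
    rw [← lie_skew, hyz]
  have hb : ∀ k j l, bs.repr ⁅bs k, bs j⁆ l =
      TrivSqZeroExt.inl (A k l j) + TrivSqZeroExt.inr (B k l j) := by
    intro k j l
    fin_cases k <;> fin_cases j <;>
      simp [A, B, hxy, hxz, hyz, hyx, hzx, hzy] <;>
      fin_cases l <;> refine TrivSqZeroExt.ext ?_ ?_ <;> simp [TrivSqZeroExt.algebraMap_eq_inl]
  have hd : d = t * h := by
    have hj := lie_jacobi (bs 0) (bs 1) (bs 2)
    rw [hyz, hxy, hzx] at hj
    simp only [lie_add, lie_neg, lie_smul, lie_self, hxy, hxz, hyz, hyx, hzx, hzy, smul_zero,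
      smul_add, smul_neg, smul_smul] at hj
    have := congrArg (fun v => TrivSqZeroExt.snd (bs.repr v 1)) hj
    simp [TrivSqZeroExt.algebraMap_eq_inl] at this
    linear_combination this
  have powx : ∀ n : ℕ, Agent.PLie29.dmat (A 0) (B 0) ^ (n + 1) = Agent.PLie29.dmat
      !![0, 0, 0; 0, 1, 0; 0, 0, t ^ (n + 1)]
      !![0, a, d * t ^ n; 0, (n + 1) * b, e * ∑ j ∈ Finset.range (n + 1), t ^ j;
         0, c * ∑ j ∈ Finset.range (n + 1), t ^ j, (n + 1) * t ^ n * f] := by
    intro n
    induction n with
    | zero =>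
      rw [zero_add, pow_one, Agent.PLie29.dmat_inj]
      constructor <;> ext r s <;> fin_cases r <;> fin_cases s <;> simp [A, B]
    | succ n ih =>
      rw [pow_succ', ih, Agent.PLie29.dmat_mul, Agent.PLie29.dmat_inj]
      constructor
      · ext r s
        fin_cases r <;> fin_cases s <;>
          simp [A, Matrix.mul_apply, Fin.sum_univ_three, pow_succ', mul_assoc]
      · ext r s
        fin_cases r <;> fin_cases s <;>
          simp [A, B, Matrix.mul_apply, Fin.sum_univ_three]
        all_goals first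
          | ring1
          | (rw [Finset.sum_range_succ _ (n + 1)]; ring1)
          | (conv_rhs => rw [geom_sum_succ]
             ring1)
  have hS : ∀ S : K, S = ∑ j ∈ Finset.range p, t ^ j → (t = 1 → S = 0) ∧ (t ≠ 1 → S = 1) := by
    rintro S rfl
    refine ⟨fun ht1 => by simp [ht1, CharP.cast_eq_zero], fun ht1 => ?_⟩
    have h0 := geom_sum_mul t p
    rw [ht] at h0
    exact mul_right_cancel₀ (sub_ne_zero.mpr ht1) (by rw [h0, one_mul])
  have sy : Agent.PLie29.dmat (A 1) (B 1) ^ 2 =
      Agent.PLie29.dmat 0 !![0, 0, 0; a, 0, -g; 0, 0, 0] := by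
    rw [pow_two, Agent.PLie29.dmat_mul, Agent.PLie29.dmat_inj]
    constructor <;> ext r s <;> fin_cases r <;> fin_cases s <;>
      simp [A, B, Matrix.mul_apply, Fin.sum_univ_three]
  have sz : Agent.PLie29.dmat (A 2) (B 2) ^ 2 =
      Agent.PLie29.dmat 0 !![0, 0, 0; 0, 0, 0; t * d, t * g, 0] := by
    rw [pow_two, Agent.PLie29.dmat_mul, Agent.PLie29.dmat_inj]
    constructor <;> ext r s <;> fin_cases r <;> fin_cases s <;>
      simp [A, B, Matrix.mul_apply, Fin.sum_univ_three]
  have hpx : Agent.PLie29.dmat (A 0) (B 0) ^ p = Agent.PLie29.dmat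
      !![0, 0, 0; 0, 1, 0; 0, 0, t]
      !![0, a, d * t ^ (p - 1); 0, 0, e * ∑ j ∈ Finset.range p, t ^ j;
         0, c * ∑ j ∈ Finset.range p, t ^ j, 0] := by
    have h1 := powx (p - 1)
    have h2 : ((p - 1 : ℕ) : K) + 1 = 0 := by
      rw [← Nat.cast_add_one, Nat.sub_add_cancel (by omega : 1 ≤ p), CharP.cast_eq_zero]
    rw [h2, Nat.sub_add_cancel (by omega : 1 ≤ p), ht] at h1
    simpa using h1
  rw [Agent.PLie29.nonempty_pmap_iff_dmat bs A B hb]
  constructor
  · intro H
    obtain ⟨α, β, hX⟩ := H 0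
    rw [hpx, Agent.PLie29.dmat_inj] at hX
    have x11 := congrFun (congrFun hX.1 1) 1
    have x10 := congrFun (congrFun hX.1 1) 0
    have x20 := congrFun (congrFun hX.1 2) 0
    have X11 := congrFun (congrFun hX.2 1) 1
    have X12 := congrFun (congrFun hX.2 1) 2
    have X21 := congrFun (congrFun hX.2 2) 1
    have X22 := congrFun (congrFun hX.2 2) 2
    simp [A, B, Fin.sum_univ_three] at x11 x10 x20
    have a0 : α 0 = 1 := by first | exact x11 | exact x11.symm
    have a1 : α 1 = 0 := by first | exact x10 | exact x10.symm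
    simp [A, B, Fin.sum_univ_three, a0, a1] at X11 X12 X21 X22
    refine ⟨?_, fun ht1 => ?_, ?_⟩
    · rcases x20 with h0 | h0
      · rw [h0] at X11; linear_combination X22 - t * X11
      · rw [h0] at X22 ⊢; linear_combination X22
    · subst ht1
      have a2 : α 2 = 0 := x20.resolve_right one_ne_zero
      have hs : (∑ j ∈ Finset.range p, (1 : K) ^ j) = 0 := by simp [CharP.cast_eq_zero]
      simp [a2, hs, CharP.cast_eq_zero] at X12 X21
      exact ⟨X21.symm, X12.symm⟩
    · rintro rfl
      obtain ⟨α', β', hY⟩ := H 1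
      rw [sy, Agent.PLie29.dmat_inj] at hY
      have y11 := congrFun (congrFun hY.1 1) 1
      have y10 := congrFun (congrFun hY.1 1) 0
      have Y12 := congrFun (congrFun hY.2 1) 2
      simp [A, B, Fin.sum_univ_three] at y11 y10
      have b0 : α' 0 = 0 := by first | exact y11 | exact y11.symm
      have b1 : α' 1 = 0 := by first | exact y10 | exact y10.symm
      simp [A, B, Fin.sum_univ_three, b0, b1] at Y12
      exact Y12
  · rintro ⟨hf, ht1, hg⟩
    intro k
    fin_cases k
    · refine ⟨![1, 0, 0], ![-b, 0, 0], ?_⟩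
      simp only [Fin.zero_eta, hpx, Agent.PLie29.dmat_inj]
      have hd' : d * t ^ (p - 1) = d := by
        rcases eq_or_ne t 0 with h0 | h0
        · simp [hd, h0]
        · rw [mul_right_eq_self₀]
          exact Or.inl (mul_left_cancel₀ h0 (by rw [← pow_succ', Nat.sub_add_cancel (by omega : 1 ≤ p), ht, mul_one]))
      obtain ⟨hS1, hS2⟩ := hS _ rfl
      have he : e * ∑ j ∈ Finset.range p, t ^ j = e ∧ c * ∑ j ∈ Finset.range p, t ^ j = c := by
        rcases eq_or_ne t 1 with h1 | h1
        · obtain ⟨rfl, rfl⟩ := ht1 h1; simp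
        · rw [hS2 h1, mul_one, mul_one]; exact ⟨rfl, rfl⟩
      constructor <;> ext r s <;> fin_cases r <;> fin_cases s <;>
        simp [A, B, Fin.sum_univ_three, hd', he.1, he.2]
      linear_combination hf
    · by_cases hp : p = 2
      · subst hp
        refine ⟨0, ![0, -a, 0], ?_⟩
        simp only [Fin.mk_one, sy, Agent.PLie29.dmat_inj, hg rfl]
        constructor <;> ext r s <;> fin_cases r <;> fin_cases s <;>
          simp [A, B, Fin.sum_univ_three]
      · have h3 : Agent.PLie29.dmat (A 1) (B 1) ^ 3 = 0 := by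
          rw [pow_succ', sy, Agent.PLie29.dmat_mul, ← Agent.PLie29.dmat_zero, Agent.PLie29.dmat_inj]
          constructor <;> ext r s <;> fin_cases r <;> fin_cases s <;>
            simp [A, B, Matrix.mul_apply, Fin.sum_univ_three]
        exact ⟨0, 0, by simp [pow_eq_zero_of_le (by omega : 3 ≤ p) h3, Agent.PLie29.dmat_zero]⟩
    · by_cases hp : p = 2
      · subst hp
        refine ⟨0, ![0, 0, -d], ?_⟩
        simp only [Fin.reduceFinMk, sz, Agent.PLie29.dmat_inj, hg rfl]
        constructor <;> ext r s <;> fin_cases r <;> fin_cases s <;>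
          simp [A, B, Fin.sum_univ_three] <;> ring
      · have h3 : Agent.PLie29.dmat (A 2) (B 2) ^ 3 = 0 := by
          rw [pow_succ', sz, Agent.PLie29.dmat_mul, ← Agent.PLie29.dmat_zero, Agent.PLie29.dmat_inj]
          constructor <;> ext r s <;> fin_cases r <;> fin_cases s <;>
            simp [A, B, Matrix.mul_apply, Fin.sum_univ_three]
        exact ⟨0, 0, by simp [pow_eq_zero_of_le (by omega : 3 ≤ p) h3, Agent.PLie29.dmat_zero]⟩

end Groth.Agent.S13778
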