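import Groth.Statements.S13779
import Groth.Agent.PLie29.Extend

set_option autoImplicit false
universe u v
open PLie

namespace Groth.Agent.S13779

/-- Let p be an odd prime, R a commutative ring of characteristic p, t ∈ R, and L a Lie algebra over R,
free as a module with basis x = bs 0, y = bs 1, z = bs 2 and brackets [x,y] = z, [x,z] = t • y,
[y,z] = 0. Then L carries a p-mapping φ with φ x = t ^ ((p - 1) / 2) • x, φ y = 0 and φ z = 0. (The
published statement concerns the Lie algebra with these brackets over a field of Laurent series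
k((t)), k algebraically closed of odd characteristic, t the variable; this row states its
restrictability over every commutative ring of odd prime characteristic and every t.) -/
theorem result (R : Type u) [CommRing R] (p : ℕ) [Fact p.Prime] [CharP R p] (hp : p ≠ 2)
    (t : R) (L : Type v) [LieRing L] [LieAlgebra R L] (bs : Module.Basis (Fin 3) R L)
    (hxy : ⁅bs 0, bs 1⁆ = bs 2) (hxz : ⁅bs 0, bs 2⁆ = t • bs 1) (hyz : ⁅bs 1, bs 2⁆ = 0) :
    ∃ φ : PLie.PMap R p L, φ (bs 0) = t ^ ((p - 1) / 2) • bs 0 ∧ φ (bs 1) = 0 ∧ φ (bs 2) = 0 := by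
  have hyx : ⁅bs 1, bs 0⁆ = -bs 2 := by rw [← lie_skew, hxy]
  have hzx : ⁅bs 2, bs 0⁆ = -(t • bs 1) := by rw [← lie_skew, hxz]
  have hzy : ⁅bs 2, bs 1⁆ = 0 := by rw [← lie_skew, hyz, neg_zero]
  obtain ⟨m, hm⟩ := (Fact.out : p.Prime).odd_of_ne_two hp
  have hk : (p - 1) / 2 = m := by omega
  have hp2 : 2 ≤ p := (Fact.out : p.Prime).two_le
  have hn : ∀ k : ℕ, (LieAlgebra.ad R L (bs 0) ^ (2 * k)) (bs 1) = t ^ k • bs 1 ∧
      (LieAlgebra.ad R L (bs 0) ^ (2 * k)) (bs 2) = t ^ k • bs 2 := by
    intro k
    induction k with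
    | zero => simp
    | succ k ih =>
      rw [show 2 * (k + 1) = 2 + 2 * k by omega, pow_add, Module.End.mul_apply, Module.End.mul_apply,
        ih.1, ih.2, pow_two]
      simp [hxy, hxz, smul_smul, pow_succ, mul_comm]
  have hy : ∀ i, LieAlgebra.ad R L (bs i) ^ p =
      LieAlgebra.ad R L (![t ^ m • bs 0, (0 : L), 0] i) := by
    intro i
    fin_cases i
    · refine bs.ext fun j => ?_
      rw [show p = 1 + 2 * m by omega, pow_add, pow_one, Module.End.mul_apply]
      fin_cases j
      · cases m with
        | zero => simp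
        | succ m => simp [show 2 * (m + 1) = (2 * m + 1) + 1 by omega, pow_succ]
      · simp [(hn m).1, hxy]
      · simp [(hn m).2, hxz]
    all_goals
      refine bs.ext fun j => ?_
      rw [show p = (p - 2) + 2 by omega, pow_add, Module.End.mul_apply, pow_two, Module.End.mul_apply]
      fin_cases j <;> simp [hyx, hyz, hzx, hzy]
  obtain ⟨φ, hφ, -⟩ := Agent.PLie29.existsUnique_pmap_basis (p := p) bs _ hy
  exact ⟨φ, by simpa [hk] using hφ 0, by simpa using hφ 1, by simpa using hφ 2⟩

end Groth.Agent.S13779
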