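import Groth.Statements.S13781
import Groth.Agent.EGA4H10.RegAway
import Groth.Agent.CAlg1.Regular
import Mathlib.RingTheory.Etale.Locus
import Mathlib.RingTheory.Etale.StandardEtale
import Mathlib.RingTheory.Localization.Ideal

set_option autoImplicit false
universe u
open CAlg

namespace Groth.Agent.S13781

open Polynomial

variable (A : Type u) [CommRing A]

theorem etaleAt_of_root_notMem (s : A) (e : ℕ) (he : 0 < e) (heu : IsUnit (e : A))
    (Q : Ideal (AdjoinRoot (X ^ e - C s))) [Q.IsPrime] (hQ : AdjoinRoot.root (X ^ e - C s) ∉ Q) :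
    Algebra.IsEtaleAt A Q := by
  let u : A := ↑heu.unit⁻¹
  have hu : (e : A) * u = 1 := heu.mul_val_inv
  have hder : derivative (X ^ e - C s) * C u + (X ^ e - C s) * 0 = (X : A[X]) ^ (e - 1) := by
    rw [derivative_sub, derivative_X_pow, derivative_C, sub_zero, mul_zero, add_zero,
      mul_comm, ← mul_assoc, ← map_mul, mul_comm u, hu, map_one, one_mul]
  let P : StandardEtalePair A := ⟨X ^ e - C s, monic_X_pow_sub_C s (by omega), X, C u, 0, e - 1, hder⟩
  haveI : Algebra.Etale A (Localization.Away (AdjoinRoot.mk P.f P.g)) :=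
    Algebra.Etale.of_equiv P.equivAwayAdjoinRoot
  have h := Algebra.basicOpen_subset_etaleLocus_iff.2
    (inferInstance : Algebra.FormallyEtale A (Localization.Away (AdjoinRoot.mk P.f P.g)))
  exact h (show (⟨Q, ‹_›⟩ : PrimeSpectrum (AdjoinRoot (X ^ e - C s))) ∈
    PrimeSpectrum.basicOpen (AdjoinRoot.mk P.f P.g) from hQ)

theorem root_nzd [IsDomain A] (s : A) (hs : s ≠ 0) (e : ℕ) (he : 0 < e)
    (x : AdjoinRoot (X ^ e - C s)) (h : AdjoinRoot.root (X ^ e - C s) * x = 0) : x = 0 := by
  obtain ⟨g, rfl⟩ := AdjoinRoot.mk_surjective x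
  rw [show AdjoinRoot.root (X ^ e - C s) = AdjoinRoot.mk _ X from rfl, ← map_mul, AdjoinRoot.mk_eq_zero] at h
  obtain ⟨k, hk⟩ := h
  have h0 := congrArg (eval 0) hk
  simp [zero_pow he.ne', hs] at h0
  obtain ⟨k', rfl⟩ : X ∣ k := Polynomial.X_dvd_iff.2 (by rw [Polynomial.coeff_zero_eq_eval_zero]; exact h0)
  rw [AdjoinRoot.mk_eq_zero]
  refine ⟨k', mul_left_cancel₀ (X_ne_zero : (X : A[X]) ≠ 0) ?_⟩
  rw [hk]; ring

theorem quotient_root_regular (s : A) (e : ℕ) (he : 0 < e) [IsRegularRing (A ⧸ Ideal.span {s})] :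
    IsRegularRing (AdjoinRoot (X ^ e - C s) ⧸ Ideal.span {AdjoinRoot.root (X ^ e - C s)}) := by
  set f : A[X] := X ^ e - C s with hf
  set t := AdjoinRoot.root f
  have hts : t ^ e = algebraMap A (AdjoinRoot f) s := by
    rw [← sub_eq_zero]
    have := AdjoinRoot.eval₂_root f
    simpa [hf, t] using this
  let φ : A →+* AdjoinRoot f ⧸ Ideal.span {t} := (Ideal.Quotient.mk _).comp (algebraMap A _)
  have hφ : Function.Surjective φ := fun z => by
    obtain ⟨z, rfl⟩ := Ideal.Quotient.mk_surjective z
    obtain ⟨g, rfl⟩ := AdjoinRoot.mk_surjective z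
    refine ⟨g.coeff 0, (Ideal.Quotient.eq.2 ?_)⟩
    obtain ⟨k, hk⟩ : X ∣ g - C (g.coeff 0) := Polynomial.X_dvd_iff.2 (by simp)
    refine Ideal.mem_span_singleton'.2 ⟨-AdjoinRoot.mk f k, ?_⟩
    rw [AdjoinRoot.algebraMap_eq, ← AdjoinRoot.mk_C, ← map_sub,
      show t = AdjoinRoot.mk f X from rfl, ← map_neg, ← map_mul]
    congr 1; linear_combination hk
  let ev : AdjoinRoot f →+* A ⧸ Ideal.span {s} := AdjoinRoot.lift (Ideal.Quotient.mk _) 0 (by
    simp [hf, zero_pow he.ne', Ideal.Quotient.eq_zero_iff_mem, Ideal.mem_span_singleton_self])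
  have hker : RingHom.ker φ = Ideal.span {s} := by
    refine le_antisymm (fun a ha => ?_) ?_
    · have ha' : algebraMap A (AdjoinRoot f) a ∈ Ideal.span {t} := Ideal.Quotient.eq_zero_iff_mem.1 ha
      obtain ⟨c, hc⟩ := Ideal.mem_span_singleton'.1 ha'
      rw [← Ideal.Quotient.eq_zero_iff_mem]
      have := congrArg ev hc
      simpa [ev, t, AdjoinRoot.algebraMap_eq] using this.symm
    · rw [Ideal.span_le, Set.singleton_subset_iff, SetLike.mem_coe, RingHom.mem_ker]
      show Ideal.Quotient.mk _ (algebraMap A _ s) = 0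
      rw [← hts, Ideal.Quotient.eq_zero_iff_mem]
      exact Ideal.pow_mem_of_mem _ (Ideal.mem_span_singleton_self _) e he
  exact IsRegularRing.of_ringEquiv
    ((Ideal.quotEquivOfEq hker.symm).trans (RingHom.quotientKerEquivOfSurjective hφ))

/-- Let A be a regular local ring, s a non-zero element of A such that A/(s) is regular, and e a
positive integer invertible in A. Then A[t]/(t^e - s) is regular. (Regularity of a ring is taken
throughout as: Noetherian, with every localization at a prime ideal a regular local ring; the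
hypotheses on A and on A/(s) and the conclusion on A[t]/(t^e - s) are all read this way, which for
the local rings A and A/(s) is the usual notion once localizations of regular local rings are known
to be regular.) -/
theorem result (A : Type u) [CommRing A] [IsLocalRing A]
    [IsRegularRing A] (s : A) (hs : s ≠ 0) (hreg : IsRegularRing (A ⧸ Ideal.span {s}))
    (e : ℕ) (he : 0 < e) (heu : IsUnit (e : A)) :
    IsRegularRing (AdjoinRoot (Polynomial.X ^ e - Polynomial.C s)) := by
  haveI := hreg
  haveI : IsRegularLocalRing A := IsRegularLocalRing.of_isRegularRing_of_isLocalRing A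
  haveI : IsDomain A := CAlg1.isDomain_regular A
  set f : A[X] := X ^ e - C s with hf
  haveI : IsNoetherianRing (AdjoinRoot f) := Algebra.FiniteType.isNoetherianRing A _
  refine isRegularRing_iff.2 fun Q _ => ?_
  by_cases hQ : AdjoinRoot.root f ∈ Q
  · let L := Localization.AtPrime Q
    let I := Ideal.span {AdjoinRoot.root f}
    haveI : IsRegularRing (AdjoinRoot f ⧸ I) := quotient_root_regular A s e he
    have hIQ : I ≤ Q := (Ideal.span_singleton_le_iff_mem _).2 hQ
    let Qb := Q.map (Ideal.Quotient.mk I)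
    haveI : Qb.IsPrime :=
      Ideal.map_isPrime_of_surjective Ideal.Quotient.mk_surjective (by rwa [Ideal.mk_ker])
    have hQb : Qb.comap (Ideal.Quotient.mk I) = Q := by
      rw [Ideal.comap_map_of_surjective _ Ideal.Quotient.mk_surjective, ← RingHom.ker_eq_comap_bot,
        Ideal.mk_ker, sup_eq_left.2 hIQ]
    have hsub : Algebra.algebraMapSubmonoid (AdjoinRoot f ⧸ I) Q.primeCompl = Qb.primeCompl := by
      ext x
      constructor
      · rintro ⟨y, hy, rfl⟩ hmem
        exact hy (hQb ▸ hmem)
      · intro hx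
        obtain ⟨y, rfl⟩ := Ideal.Quotient.mk_surjective x
        exact ⟨y, fun hy => hx (Ideal.mem_map_of_mem _ hy), rfl⟩
    let x := algebraMap (AdjoinRoot f) L (AdjoinRoot.root f)
    haveI : IsLocalization Qb.primeCompl (L ⧸ I.map (algebraMap (AdjoinRoot f) L)) := by
      rw [← hsub]; infer_instance
    haveI := isRegularRing_iff.1 (inferInstance : IsRegularRing (AdjoinRoot f ⧸ I)) Qb
    have hIx : I.map (algebraMap (AdjoinRoot f) L) = Ideal.span {x} := by
      rw [Ideal.map_span, Set.image_singleton]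
    haveI : IsRegularLocalRing (L ⧸ Ideal.span {x}) := IsRegularLocalRing.of_ringEquiv
      ((IsLocalization.algEquiv Qb.primeCompl (Localization.AtPrime Qb)
        (L ⧸ I.map (algebraMap (AdjoinRoot f) L))).toRingEquiv.trans (Ideal.quotEquivOfEq hIx))
    refine CAlg1.regular_of_quotient_regular (x := x)
      ((IsLocalization.AtPrime.to_map_mem_maximal_iff L Q _).2 hQ) ?_
    refine mem_nonZeroDivisors_iff_right.2 fun z hz => ?_
    obtain ⟨a, m, rfl⟩ := IsLocalization.exists_mk'_eq Q.primeCompl z
    change _ * algebraMap (AdjoinRoot f) L (AdjoinRoot.root f) = 0 at hz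
    rw [← IsLocalization.mk'_one (M := Q.primeCompl) L (AdjoinRoot.root f), ← IsLocalization.mk'_mul, IsLocalization.mk'_eq_zero_iff] at hz
    obtain ⟨c, hc⟩ := hz
    rw [IsLocalization.mk'_eq_zero_iff]
    exact ⟨c, root_nzd A s hs e he _ (by linear_combination hc)⟩
  · haveI := etaleAt_of_root_notMem A s e he heu Q hQ
    haveI := isRegularRing_iff.1 (inferInstance : IsRegularRing A) (Q.comap (algebraMap A (AdjoinRoot f)))
    exact EGA4H10.regular_of_etaleAt (R := A) Q

end Groth.Agent.S13781
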