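import Groth.Statements.S13782
import Groth.Agent.EGA4H10.RegAway
import Groth.Agent.CAlg1.Regular
import Mathlib.RingTheory.RegularLocalRing.Polynomial
import Mathlib.RingTheory.RingHom.StandardSmooth
import Mathlib.RingTheory.Smooth.Basic
import Mathlib.RingTheory.Smooth.Locus
import Mathlib.RingTheory.Kaehler.Polynomial
import Mathlib.RingTheory.AdjoinRoot
import Mathlib.RingTheory.Etale.Locus

set_option autoImplicit false
universe u
open CAlg

namespace Groth.Agent.S13782

open Polynomial
open scoped TensorProduct

/-- Local rings of a smooth algebra over a field are domains. -/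
theorem isDomain_localization_smooth (k A : Type u) [Field k] [CommRing A] [Algebra k A] [Algebra.Smooth k A]
    (p : Ideal A) [p.IsPrime] : IsDomain (Localization.AtPrime p) := by
  obtain ⟨S, hS, h⟩ := Algebra.Smooth.exists_span_eq_top_isStandardSmooth k A
  obtain ⟨a, haS, hap⟩ : ∃ a ∈ S, a ∉ p := by
    by_contra hcon
    simp only [not_exists, not_and, not_not] at hcon
    exact ‹p.IsPrime›.ne_top (top_le_iff.1 (hS ▸ Ideal.span_le.2 hcon))
  haveI := h a haS
  let L := Localization.Away a
  obtain ⟨n, g, hgC, hg⟩ := RingHom.IsStandardSmooth.exists_etale_mvPolynomial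
    (f := algebraMap k L) (RingHom.isStandardSmooth_algebraMap.2 (h a haS))
  algebraize [g]
  have hdis : Disjoint (Submonoid.powers a : Set A) p := by
    rw [Set.disjoint_left]
    rintro _ ⟨i, rfl⟩ hi
    exact hap (‹p.IsPrime›.mem_of_pow_mem i hi)
  let q : Ideal L := p.map (algebraMap A L)
  haveI : q.IsPrime := IsLocalization.isPrime_of_isPrime_disjoint (Submonoid.powers a) L p ‹_› hdis
  have hqp : q.comap (algebraMap A L) = p :=
    IsLocalization.comap_map_of_isPrime_disjoint (Submonoid.powers a) L ‹_› hdis
  haveI : Algebra.IsEtaleAt (MvPolynomial (Fin n) k) q := by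
    have h2 := Algebra.etaleLocus_eq_univ_iff.2 (inferInstance : Algebra.FormallyEtale (MvPolynomial (Fin n) k) L)
    exact (h2.symm ▸ Set.mem_univ _ : (⟨q, inferInstance⟩ : PrimeSpectrum L) ∈ Algebra.etaleLocus (MvPolynomial (Fin n) k) L)
  haveI := isRegularRing_iff.1 (inferInstance : IsRegularRing (MvPolynomial (Fin n) k))
    (q.comap (algebraMap (MvPolynomial (Fin n) k) L))
  haveI := EGA4H10.regular_of_etaleAt (R := MvPolynomial (Fin n) k) q
  haveI : IsDomain (Localization.AtPrime q) := CAlg1.isDomain_regular _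
  haveI : IsLocalization.AtPrime (Localization.AtPrime q) p := by
    have := IsLocalization.isLocalization_isLocalization_atPrime_isLocalization
      (Submonoid.powers a) (Localization.AtPrime q) q
    convert this
    exact hqp.symm
  exact (IsLocalization.algEquiv p.primeCompl (Localization.AtPrime p) (Localization.AtPrime q)).toMulEquiv.isDomain _

/-- An irreducible element of a smooth algebra over a field is regular. -/
theorem irreducible_nzd (k A : Type u) [Field k] [CommRing A] [Algebra k A] [Algebra.Smooth k A]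
    (s : A) (hs : Irreducible s) (x : A) (hx : x * s = 0) : x = 0 := by
  haveI : IsNoetherianRing A := Algebra.FiniteType.isNoetherianRing k A
  let J : Ideal A := LinearMap.ker (LinearMap.mulRight A s)
  have hJ : ∀ y, y ∈ J ↔ y * s = 0 := fun y => Iff.rfl
  have hidem : IsIdempotentElem J := by
    refine le_antisymm Ideal.mul_le_left (Ideal.le_of_localization_maximal fun P hP => ?_)
    haveI := isDomain_localization_smooth k A P
    by_cases h0 : algebraMap A (Localization.AtPrime P) s = 0
    · obtain ⟨c, hc⟩ := (IsLocalization.map_eq_zero_iff P.primeCompl _ s).1 h0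
      have hcJ : (c : A) ∈ J := (hJ _).2 hc
      have : Ideal.map (algebraMap A (Localization.AtPrime P)) (J * J) = ⊤ :=
        Ideal.eq_top_of_isUnit_mem _ (Ideal.mem_map_of_mem _ (Ideal.mul_mem_mul hcJ hcJ))
          (IsLocalization.map_units _ (c * c))
      rw [this]; exact le_top
    · rw [Ideal.map_le_iff_le_comap]
      intro y hy
      have := congrArg (algebraMap A (Localization.AtPrime P)) ((hJ y).1 hy)
      rw [map_mul, map_zero] at this
      rw [Ideal.mem_comap, (mul_eq_zero.1 this).resolve_right h0]
      exact zero_mem _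
  obtain ⟨ε, hε, hJε⟩ := (Ideal.isIdempotentElem_iff_of_fg J (IsNoetherian.noetherian J)).1 hidem
  have hεs : ε * s = 0 := (hJ ε).1 (hJε ▸ Ideal.mem_span_singleton_self ε)
  have hfac : s = (s + ε) * (1 - ε) := by
    have : ε * ε = ε := hε
    linear_combination hεs + this
  have h1 : IsUnit (1 - ε) := by
    rcases hs.isUnit_or_isUnit hfac with h | h
    · by_contra hcon
      have hfac2 : s = ((s + ε) * (1 - ε)) * (1 - ε) := by
        rw [mul_assoc, (IsIdempotentElem.one_sub hε : (1 - ε) * (1 - ε) = 1 - ε)]; exact hfac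
      rcases hs.isUnit_or_isUnit hfac2 with h' | h'
      · exact hs.not_isUnit (hfac ▸ h')
      · exact hcon h'
    · exact h
  have hε0 : ε = 0 := by
    have : ε * (1 - ε) = 0 := by
      have : ε * ε = ε := hε
      linear_combination -this
    exact (h1.mul_left_eq_zero).1 this
  have : x ∈ J := (hJ x).2 hx
  rw [hJε, hε0] at this
  simpa using this

/-- Derivation criterion for smoothness of a hypersurface in a formally smooth algebra. -/
theorem formallySmooth_iff_derivation {k P C : Type u} [CommRing k] [CommRing P] [CommRing C] [Algebra k P]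
    [Algebra k C] [Algebra P C] [IsScalarTower k P C] [Algebra.FormallySmooth k P]
    (hsurj : Function.Surjective (algebraMap P C)) (g : P) (hker : RingHom.ker (algebraMap P C) = Ideal.span {g})
    (hg : ∀ x, x * g = 0 → x = 0) :
    Algebra.FormallySmooth k C ↔ ∃ δ : Derivation k P C, δ g = 1 := by
  rw [Algebra.FormallySmooth.iff_split_injection hsurj]
  set I := RingHom.ker (algebraMap P C) with hI
  have hgI : g ∈ I := hker ▸ Ideal.mem_span_singleton_self g
  constructor
  · rintro ⟨l, hl⟩
    -- the coordinate of the conormal module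
    let ev : P →ₗ[P] I := LinearMap.toSpanSingleton P I ⟨g, hgI⟩
    have hev : Function.Bijective ev := by
      refine ⟨(injective_iff_map_eq_zero ev).2 fun x hx => hg x (congrArg Subtype.val hx), fun y => ?_⟩
      obtain ⟨c, hc⟩ := Ideal.mem_span_singleton'.1 (hker.le y.2)
      exact ⟨c, Subtype.ext hc⟩
    let e := LinearEquiv.ofBijective ev hev
    let co : I →ₗ[P] C := (Algebra.linearMap P C) ∘ₗ e.symm.toLinearMap
    have hco : (I • ⊤ : Submodule P I) ≤ LinearMap.ker co := by
      rw [Submodule.smul_le]
      intro r hr y _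
      rw [LinearMap.mem_ker, map_smul, Algebra.smul_def, RingHom.mem_ker.1 hr, zero_mul]
    let coI : I.Cotangent →ₗ[P] C := Submodule.liftQ _ co hco
    let φ : Ω[P⁄k] →ₗ[P] C := coI ∘ₗ l ∘ₗ (TensorProduct.mk P C Ω[P⁄k] 1)
    refine ⟨φ.compDer (KaehlerDifferential.D k P), ?_⟩
    show coI (l ((1 : C) ⊗ₜ[P] KaehlerDifferential.D k P g)) = 1
    rw [← KaehlerDifferential.kerCotangentToTensor_toCotangent k P C ⟨g, hgI⟩]
    show coI ((l ∘ₗ KaehlerDifferential.kerCotangentToTensor k P C) (I.toCotangent ⟨g, hgI⟩)) = 1
    rw [hl]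
    show co ⟨g, hgI⟩ = 1
    show algebraMap P C (e.symm ⟨g, hgI⟩) = 1
    rw [show e.symm ⟨g, hgI⟩ = 1 from e.injective (by
      rw [e.apply_symm_apply]; exact Subtype.ext (one_mul g).symm), map_one]
  · rintro ⟨δ, hδ⟩
    let cg : I.Cotangent := I.toCotangent ⟨g, hgI⟩
    have hcg : ∀ r ∈ I, r • cg = 0 := fun r hr => by
      show r • I.toCotangent ⟨g, hgI⟩ = 0
      rw [← map_smul]
      exact (Submodule.Quotient.mk_eq_zero _).2 (Submodule.smul_mem_smul hr trivial)
    let sec : C →ₗ[P] I.Cotangent :=
      (Submodule.liftQ (LinearMap.ker (Algebra.linearMap P C)) (LinearMap.toSpanSingleton P _ cg)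
        (fun r hr => hcg r hr)) ∘ₗ (LinearMap.quotKerEquivOfSurjective (Algebra.linearMap P C) hsurj).symm.toLinearMap
    have hsec : ∀ r : P, sec (algebraMap P C r) = r • cg := by
      intro r
      have : (LinearMap.quotKerEquivOfSurjective (Algebra.linearMap P C) hsurj).symm (algebraMap P C r) =
          Submodule.Quotient.mk r := by
        rw [LinearEquiv.symm_apply_eq]; rfl
      simp only [sec, LinearMap.comp_apply, LinearEquiv.coe_coe, this]
      rfl
    let φ : C ⊗[P] Ω[P⁄k] →ₗ[P] C :=
      (δ.liftKaehlerDifferential.liftBaseChange C).restrictScalars P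
    refine ⟨sec ∘ₗ φ, LinearMap.ext fun z => ?_⟩
    obtain ⟨⟨y, hy⟩, rfl⟩ := Ideal.toCotangent_surjective _ z
    obtain ⟨c, rfl⟩ := Ideal.mem_span_singleton'.1 (hker.le hy)
    simp only [LinearMap.comp_apply, LinearMap.id_apply, KaehlerDifferential.kerCotangentToTensor_toCotangent]
    have h2 : φ ((1 : C) ⊗ₜ[P] KaehlerDifferential.D k P (c * g)) = algebraMap P C c := by
      show δ.liftKaehlerDifferential.liftBaseChange C ((1 : C) ⊗ₜ[P] KaehlerDifferential.D k P (c * g)) = _
      rw [LinearMap.liftBaseChange_tmul, one_smul, Derivation.liftKaehlerDifferential_comp_D,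
        Derivation.leibniz, hδ, Algebra.smul_def, mul_one, Algebra.smul_def,
        RingHom.mem_ker.1 hgI, zero_mul, add_zero]
    rw [h2, hsec]
    show c • I.toCotangent ⟨g, hgI⟩ = _
    rw [← map_smul]
    rfl

/-- Let k be a field, A a smooth k-algebra, s an irreducible element of A and e an integer, at least 2,
that is invertible in k. Then the k-algebra A[t]/(t^e - s) is smooth exactly when the quotient ring
A/(s) is a smooth k-algebra. (Smooth over k means formally smooth and of finite presentation over
k.) -/
theorem result (k A : Type u) [Field k] [CommRing A] [Algebra k A]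
    [Algebra.Smooth k A] (s : A) (hs : Irreducible s) (e : ℕ) (he : 2 ≤ e) (hek : (e : k) ≠ 0) :
    Algebra.Smooth k (AdjoinRoot (Polynomial.X ^ e - Polynomial.C s)) ↔
      Algebra.Smooth k (A ⧸ Ideal.span {s}) := by
  have hsnzd := irreducible_nzd k A s hs
  haveI : Algebra.FinitePresentation k A := inferInstance
  set f : A[X] := X ^ e - C s with hf
  have hfm : f.Monic := monic_X_pow_sub_C s (by omega)
  have hfnzd : ∀ x, x * f = 0 → x = 0 := fun x hx => hfm.mul_left_eq_zero_iff.1 hx
  haveI : Algebra.FormallySmooth k A[X] := Algebra.FormallySmooth.comp k A _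
  letI : Algebra A[X] (AdjoinRoot f) := (AdjoinRoot.mk f).toAlgebra
  haveI : IsScalarTower A A[X] (AdjoinRoot f) := IsScalarTower.of_algebraMap_eq fun x => rfl
  haveI : IsScalarTower k A[X] (AdjoinRoot f) := IsScalarTower.of_algebraMap_eq fun x => by
    rw [IsScalarTower.algebraMap_apply k A A[X], ← IsScalarTower.algebraMap_apply A A[X] (AdjoinRoot f),
      ← IsScalarTower.algebraMap_apply k A (AdjoinRoot f)]
  have hBker : RingHom.ker (algebraMap A[X] (AdjoinRoot f)) = Ideal.span {f} := by
    ext x
    rw [RingHom.mem_ker, Ideal.mem_span_singleton]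
    exact AdjoinRoot.mk_eq_zero
  have halg : ∀ p : A[X], algebraMap A[X] (AdjoinRoot f) p = AdjoinRoot.mk f p := fun p => rfl
  have hB : Algebra.FormallySmooth k (AdjoinRoot f) ↔ ∃ δ : Derivation k A[X] (AdjoinRoot f), δ f = 1 :=
    formallySmooth_iff_derivation AdjoinRoot.mk_surjective f hBker hfnzd
  have hQ : Algebra.FormallySmooth k (A ⧸ Ideal.span {s}) ↔
      ∃ δ : Derivation k A (A ⧸ Ideal.span {s}), δ s = 1 :=
    formallySmooth_iff_derivation Ideal.Quotient.mk_surjective s Ideal.mk_ker hsnzd
  haveI : Algebra.FinitePresentation k (AdjoinRoot f) :=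
    haveI : Algebra.FinitePresentation A (AdjoinRoot f) :=
      Algebra.FinitePresentation.quotient (R := A) (A := A[X]) ⟨{f}, by simp⟩
    Algebra.FinitePresentation.trans k A _
  haveI : Algebra.FinitePresentation k (A ⧸ Ideal.span {s}) :=
    Algebra.FinitePresentation.quotient ⟨{s}, by simp⟩
  have hkey : ∀ (M : Type u) [AddCommGroup M] [Module k M] [Module A[X] M] (δ : Derivation k A[X] M),
      δ f = (e : A[X]) • ((X : A[X]) ^ (e - 1) • δ X) - δ (C s) := by
    intro M _ _ _ δ
    rw [hf, map_sub, Derivation.leibniz_pow, Nat.cast_smul_eq_nsmul]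
  constructor
  · intro h
    obtain ⟨δ, hδ⟩ := hB.1 h.formallySmooth
    -- reduction modulo the root
    let ρ : AdjoinRoot f →+* A ⧸ Ideal.span {s} := AdjoinRoot.lift (Ideal.Quotient.mk _) 0 (by
      simp [hf, zero_pow (show e ≠ 0 by omega), Ideal.Quotient.eq_zero_iff_mem, Ideal.mem_span_singleton_self])
    have hρk : ∀ (c : k) (x : AdjoinRoot f), ρ (c • x) = c • ρ x := fun c x => by
      rw [Algebra.smul_def, map_mul, Algebra.smul_def, IsScalarTower.algebraMap_apply k A (AdjoinRoot f),
        AdjoinRoot.algebraMap_eq, AdjoinRoot.lift_of, ← Ideal.Quotient.algebraMap_eq, ← IsScalarTower.algebraMap_apply]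
    let D : A →ₗ[k] A ⧸ Ideal.span {s} :=
      { toFun := fun a => ρ (δ (C a))
        map_add' := fun a b => by simp only [map_add]
        map_smul' := fun c a => by
          rw [← Polynomial.smul_C, Derivation.map_smul, hρk]; rfl }
    have hD : ∀ a, D a = ρ (δ (C a)) := fun a => rfl
    let δ' : Derivation k A (A ⧸ Ideal.span {s}) := Derivation.mk' D fun a b => by
      rw [hD, hD, hD, map_mul, Derivation.leibniz, map_add, Algebra.smul_def, Algebra.smul_def, map_mul,
        map_mul, Algebra.smul_def, Algebra.smul_def]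
      simp [ρ, halg]
    have h0 : δ' s = -1 := by
      have h1 := congrArg ρ hδ
      rw [hkey, map_one, map_sub, Algebra.smul_def, Algebra.smul_def, map_mul, map_mul] at h1
      show ρ (δ (C s)) = -1
      rw [show ρ (algebraMap A[X] (AdjoinRoot f) ((X : A[X]) ^ (e - 1))) = 0 by
        simp [ρ, halg, zero_pow (show e - 1 ≠ 0 by omega)]] at h1
      linear_combination -h1
    haveI := hQ.2 ⟨-δ', by simp [h0]⟩
    exact ⟨inferInstance, inferInstance⟩
  · intro h
    obtain ⟨δ₀, hδ₀⟩ := hQ.1 h.formallySmooth
    haveI : Module.Projective A Ω[A⁄k] := inferInstance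
    obtain ⟨lam, hlam⟩ := Module.projective_lifting_property (Submodule.mkQ (Ideal.span {s}))
      δ₀.liftKaehlerDifferential (Submodule.mkQ_surjective _)
    obtain ⟨a, ha⟩ : ∃ a, a * s = lam (KaehlerDifferential.D k A s) - 1 := by
      refine Ideal.mem_span_singleton'.1 (Ideal.Quotient.eq.1 ?_)
      have h1 := DFunLike.congr_fun hlam (KaehlerDifferential.D k A s)
      simp only [LinearMap.comp_apply, Derivation.liftKaehlerDifferential_comp_D, hδ₀] at h1
      exact h1.trans (map_one _).symm
    obtain ⟨u, hu⟩ := ((Ne.isUnit hek).map (algebraMap k (AdjoinRoot f))).exists_right_inv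
    rw [map_natCast] at hu
    -- the derivation of the polynomial ring
    let r := AdjoinRoot.root f
    let c : AdjoinRoot f := u * algebraMap A _ a * r
    let lA : A →ₐ[k] TrivSqZeroExt (AdjoinRoot f) (AdjoinRoot f) :=
      { toFun := fun x => TrivSqZeroExt.inl (algebraMap A _ x) +
          TrivSqZeroExt.inr (algebraMap A (AdjoinRoot f) (lam (KaehlerDifferential.D k A x)))
        map_one' := by simp [TrivSqZeroExt.ext_iff]
        map_mul' := fun x y => by
          apply TrivSqZeroExt.ext <;>
            simp [TrivSqZeroExt.fst_mul, TrivSqZeroExt.snd_mul, Derivation.leibniz]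
          ring
        map_zero' := by simp [TrivSqZeroExt.ext_iff]
        map_add' := fun x y => by
          apply TrivSqZeroExt.ext <;> simp
        commutes' := fun z => by
          apply TrivSqZeroExt.ext <;>
            simp [TrivSqZeroExt.algebraMap_eq_inl', ← IsScalarTower.algebraMap_apply, IsScalarTower.algebraMap_apply k A (AdjoinRoot f)] }
    let Ψ : A[X] →ₐ[k] TrivSqZeroExt (AdjoinRoot f) (AdjoinRoot f) :=
      { Polynomial.eval₂RingHom lA.toRingHom (TrivSqZeroExt.inl r + TrivSqZeroExt.inr c) with
        commutes' := fun z => by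
          show Polynomial.eval₂ _ _ (algebraMap k A[X] z) = _
          rw [IsScalarTower.algebraMap_apply k A A[X], Polynomial.algebraMap_eq, Polynomial.eval₂_C]
          exact lA.commutes z }
    have hΨ : ∀ p, (Ψ p).fst = algebraMap A[X] (AdjoinRoot f) p := fun p => by
      let F := (TrivSqZeroExt.fstHom (AdjoinRoot f) (AdjoinRoot f) (AdjoinRoot f)).toRingHom.comp Ψ.toRingHom
      show F p = _
      refine DFunLike.congr_fun (Polynomial.ringHom_ext (fun z => ?_) ?_ : F = algebraMap A[X] (AdjoinRoot f)) p
      · show (Polynomial.eval₂ lA.toRingHom (TrivSqZeroExt.inl r + TrivSqZeroExt.inr c) (C z)).fst = _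
        rw [Polynomial.eval₂_C]
        simp [lA, halg, AdjoinRoot.algebraMap_eq]
      · show (Polynomial.eval₂ lA.toRingHom (TrivSqZeroExt.inl r + TrivSqZeroExt.inr c) X).fst = _
        rw [Polynomial.eval₂_X]
        simp [r, halg]
    let δ : Derivation k A[X] (AdjoinRoot f) := Derivation.mk'
      { toFun := fun p => (Ψ p).snd
        map_add' := fun p q => by simp
        map_smul' := fun z p => by simp }
      fun p q => by
        show (Ψ (p * q)).snd = p • (Ψ q).snd + q • (Ψ p).snd
        rw [map_mul, TrivSqZeroExt.snd_mul, hΨ, hΨ]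
        simp [Algebra.smul_def, mul_comm]
    have hX : δ X = c := by
      show (Polynomial.eval₂ lA.toRingHom (TrivSqZeroExt.inl r + TrivSqZeroExt.inr c) X).snd = _
      rw [Polynomial.eval₂_X]; simp
    have hC : δ (C s) = algebraMap A _ (lam (KaehlerDifferential.D k A s)) := by
      show (Polynomial.eval₂ lA.toRingHom (TrivSqZeroExt.inl r + TrivSqZeroExt.inr c) (C s)).snd = _
      rw [Polynomial.eval₂_C]; simp [lA]
    have hr : r ^ e = algebraMap A (AdjoinRoot f) s := by
      rw [← sub_eq_zero]
      have := AdjoinRoot.eval₂_root f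
      simpa [hf, r] using this
    have h1 : δ f = -1 := by
      rw [hkey, hX, hC, show lam (KaehlerDifferential.D k A s) = a * s + 1 by rw [ha]; ring, map_add,
        map_mul, map_one, ← hr, Algebra.smul_def, Algebra.smul_def, map_natCast, map_pow,
        show algebraMap A[X] (AdjoinRoot f) X = r from rfl]
      have hre : r ^ (e - 1) * r = r ^ e := by rw [← pow_succ, Nat.sub_add_cancel (by omega)]
      simp only [c]
      linear_combination ((e : AdjoinRoot f) * u * algebraMap A _ a) * hre + (algebraMap A (AdjoinRoot f) a * r ^ e) * hu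
    haveI := hB.2 ⟨-δ, by simp [h1]⟩
    exact ⟨inferInstance, inferInstance⟩

end Groth.Agent.S13782
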