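import Groth.Statements.S13787
import Mathlib.LinearAlgebra.Matrix.Transvection
import Mathlib.Algebra.Polynomial.Laurent
import Mathlib.RingTheory.Localization.Away.Basic
import Mathlib.LinearAlgebra.Matrix.MvPolynomial

set_option autoImplicit false
universe u
open CAlg

namespace Groth.Agent.S13787

open Matrix

/-- Let A be a nonzero commutative ring and n ≥ 1, let det be the determinant of the generic n × n
matrix in the polynomial ring A[X] in its n² entries, and let A[X, 1/det] be the localization at det
(the coordinate ring of GL_n over A). The homomorphism Aˣ × ℤ → (A[X, 1/det])ˣ sending (a, e) to a ·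
det^e is injective. (The published statement takes the exponent in the group of locally constant
ℤ-valued functions on Spec A, which also covers A = 0; with integer exponents as here, A must be
nonzero and n ≥ 1.) -/
theorem result (A : Type u) [CommRing A] [Nontrivial A] (n : ℕ) (hn : 0 < n) :
    Function.Injective (fun p : Aˣ × ℤ =>
        Units.map (algebraMap A (Localization.Away (Matrix.mvPolynomialX (Fin n) (Fin n) A).det)).toMonoidHom p.1 *
          (IsLocalization.Away.algebraMap_isUnit (S := Localization.Away (Matrix.mvPolynomialX (Fin n) (Fin n) A).det)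
            (Matrix.mvPolynomialX (Fin n) (Fin n) A).det).unit ^ p.2) := by
  classical
  let B := MvPolynomial (Fin n × Fin n) A
  let D : B := (Matrix.mvPolynomialX (Fin n) (Fin n) A).det
  let S := Localization.Away D
  let Du : Sˣ := (IsLocalization.Away.algebraMap_isUnit (S := S) D).unit
  let i₀ : Fin n := ⟨0, hn⟩
  let P := LaurentPolynomial A
  let τ : Fin n → P := fun i => if i = i₀ then LaurentPolynomial.T 1 else 1
  have hτdet : (diagonal τ).det = LaurentPolynomial.T 1 := by
    rw [det_diagonal, Finset.prod_eq_single i₀] <;> simp +contextual [τ]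
  let ev₀ : B →ₐ[A] P := MvPolynomial.aeval fun p => diagonal τ p.1 p.2
  have hevdet : ∀ {C : Type u} [CommRing C] [Algebra A C] (g : B →ₐ[A] C),
      g D = ((Matrix.mvPolynomialX (Fin n) (Fin n) A).map g).det := fun g => g.map_det _
  have hev₀X : ∀ i j, ev₀ (MvPolynomial.X (i, j)) = diagonal τ i j := fun i j => MvPolynomial.aeval_X _ _
  have hev₀D : ev₀ D = LaurentPolynomial.T 1 := by
    rw [hevdet, ← hτdet]; congr 1; exact Matrix.ext fun i j => hev₀X i j
  have hev₀u : ∀ y : Submonoid.powers D, IsUnit (ev₀ y) := by
    rintro ⟨_, k, rfl⟩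
    rw [map_pow, hev₀D]
    exact (LaurentPolynomial.isUnit_T 1).pow k
  let ρ : S →ₐ[A] P := IsLocalization.liftAlgHom (M := Submonoid.powers D) hev₀u
  have hρ : ∀ b : B, ρ (algebraMap B S b) = ev₀ b := fun b => IsLocalization.lift_eq _ b
  have hρD : ∀ e : ℤ, ρ ↑(Du ^ e) = LaurentPolynomial.T e := by
    intro e
    let t : Pˣ := (LaurentPolynomial.isUnit_T (R := A) 1).unit
    have h1 : Units.map ρ.toMonoidHom Du = t := Units.ext (by
      show ρ (algebraMap B S D) = _
      rw [hρ, hev₀D]; rfl)
    show ((Units.map ρ.toMonoidHom (Du ^ e) : Pˣ) : P) = _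
    rw [map_zpow, h1]
    clear h1
    induction e using Int.induction_on with
    | zero => simp
    | succ e ih => rw [zpow_add_one, Units.val_mul, ih, show (t : P) = LaurentPolynomial.T 1 from rfl,
        ← LaurentPolynomial.T_add]
    | pred e ih =>
      refine t.isUnit.mul_right_cancel ?_
      rw [← Units.val_mul, ← zpow_add_one, sub_add_cancel, ih,
        show (t : P) = LaurentPolynomial.T 1 from rfl, ← LaurentPolynomial.T_add, sub_add_cancel]
  let Ψ : Aˣ × ℤ → Sˣ := fun p => Units.map (algebraMap A S).toMonoidHom p.1 * Du ^ p.2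
  have hρΨ : ∀ p : Aˣ × ℤ, ρ (Ψ p) = AddMonoidAlgebra.single p.2 (p.1 : A) := by
    intro p
    rw [LaurentPolynomial.single_eq_C_mul_T]
    show ρ (algebraMap A S p.1 * ↑(Du ^ p.2)) = _
    rw [map_mul, AlgHom.commutes, hρD]
    rfl
  have hΨinj : Function.Injective Ψ := by
    intro p q h
    have h' := congrArg (fun x : Sˣ => ρ x) h
    simp only [hρΨ] at h'
    have h2 := congrArg AddMonoidAlgebra.coeff h'
    rw [AddMonoidAlgebra.coeff_single, AddMonoidAlgebra.coeff_single, Finsupp.single_eq_single_iff] at h2
    rcases h2 with ⟨e1, e2⟩ | ⟨e1, -⟩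
    · exact Prod.ext (Units.ext e2) e1
    · exact absurd e1 p.1.ne_zero
  exact hΨinj

end Groth.Agent.S13787
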