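import Groth.Statements.S13788
import Groth.Agent.CAlg7.GroupAlgUnits
import Mathlib.LinearAlgebra.Matrix.Transvection
import Mathlib.Algebra.Polynomial.Laurent
import Mathlib.Algebra.MvPolynomial.Nilpotent
import Mathlib.RingTheory.Localization.Away.Basic
import Mathlib.RingTheory.Polynomial.Nilpotent
import Mathlib.Algebra.Group.UniqueProds.Basic
import Mathlib.RingTheory.Localization.FractionRing
import Mathlib.RingTheory.LocalProperties.Reduced

set_option autoImplicit false
universe u
open CAlg

namespace Groth.Agent.S13788

open Matrix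

section
variable {ι : Type*} [Fintype ι] [DecidableEq ι] {R : Type*} [Field R] {V : Type*}

theorem tmul_apply (i j k l : ι) (c : R) (M : Matrix ι ι R) :
    (transvection i j c * M) k l = M k l + if k = i then c * M j l else 0 := by
  by_cases h : k = i
  · subst h; simp [transvection_mul_apply_same]
  · simp [transvection_mul_apply_of_ne _ _ _ _ h, h]

theorem mult_apply (i j k l : ι) (c : R) (M : Matrix ι ι R) :
    (M * transvection i j c) k l = M k l + if l = j then c * M k i else 0 := by
  by_cases h : l = j
  · subst h; simp [mul_transvection_apply_same]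
  · simp [mul_transvection_apply_of_ne _ _ _ _ h, h]

/-- A function on matrices invariant under transvections only depends on `det` on diagonal matrices. -/
theorem collapse (F : Matrix ι ι R → V) (hl : ∀ i j, i ≠ j → ∀ c M, F (transvection i j c * M) = F M)
    (hr : ∀ i j, i ≠ j → ∀ c M, F (M * transvection i j c) = F M) (i₀ : ι) :
    ∀ (s : Finset ι) (d : ι → R), i₀ ∉ s → (∀ i, d i ≠ 0) →
      F (diagonal d) = F (diagonal fun i => if i ∈ s then 1 else if i = i₀ then d i₀ * ∏ k ∈ s, d k else d i) := by
  intro s
  induction s using Finset.induction_on with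
  | empty => intro d _ _; congr 2; funext i; by_cases h : i = i₀ <;> simp [h]
  | insert j s hjs ih =>
    intro d hi hd
    rw [Finset.mem_insert, not_or] at hi
    have hij : i₀ ≠ j := hi.1
    have step : ∀ e : ι → R, e i₀ ≠ 0 → F (diagonal e) =
        F (Matrix.of fun k l => if k = i₀ ∧ l = j then -(e i₀ * e j) else if k = j ∧ l = i₀ then 1
          else if k = l ∧ k ≠ i₀ ∧ k ≠ j then e k else 0) := by
      intro e he
      rw [← hl j i₀ hij.symm (e i₀)⁻¹ (diagonal e), ← hr i₀ j hij (-(e j)),
        ← hl i₀ j hij (-(e i₀))]
      congr 1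
      ext k l
      simp only [Matrix.of_apply, tmul_apply, mult_apply, diagonal_apply]
      rcases eq_or_ne k i₀ with hk | hk
      · subst hk
        rcases eq_or_ne l k with hl' | hl'
        · subst hl'; simp [he, hij, hij.symm]
        · rcases eq_or_ne l j with hlj | hlj
          · subst hlj; simp [he, hij, hij.symm]; ring
          · simp [he, hij, hij.symm, hl', hl'.symm, hlj, hlj.symm]
      · rcases eq_or_ne k j with hkj | hkj
        · subst hkj
          rcases eq_or_ne l i₀ with hl' | hl'
          · subst hl'; simp [he, hij, hij.symm]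
          · rcases eq_or_ne l k with hlj | hlj
            · subst hlj; simp [he, hij, hij.symm]
            · simp [he, hij, hij.symm, hl', hl'.symm, hlj, hlj.symm]
        · rcases eq_or_ne l i₀ with hl' | hl'
          · subst hl'; simp [hk, hkj, hij, hij.symm]
          · rcases eq_or_ne l j with hlj | hlj
            · subst hlj; simp [hk, hkj, hij, hij.symm]
            · simp [hk, hkj, hl', hlj]
    let d' : ι → R := fun i => if i = i₀ then d i₀ * d j else if i = j then 1 else d i
    have hd' : ∀ i, d' i ≠ 0 := fun i => by
      simp only [d']; split_ifs <;> simp [hd]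
    have e1 : F (diagonal d) = F (diagonal d') := by
      rw [step d (hd i₀), step d' (hd' i₀)]
      congr 1
      ext k l
      simp only [Matrix.of_apply, d', if_pos rfl, if_neg hij.symm, mul_one]
      split_ifs <;> simp_all
    rw [e1, ih d' hi.2 hd']
    congr 2
    funext i
    have hp : ∏ k ∈ s, d' k = ∏ k ∈ s, d k := Finset.prod_congr rfl fun k hk => by
      have h1 : k ≠ i₀ := fun h => hi.2 (h ▸ hk)
      have h2 : k ≠ j := fun h => hjs (h ▸ hk)
      simp [d', h1, h2]
    by_cases hij' : i = j
    · subst hij'
      simp [hjs, d', hij.symm]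
    · by_cases his : i ∈ s
      · simp [his]
      · by_cases hi0 : i = i₀
        · subst hi0
          simp [hi.2, hij, d', hp, Finset.prod_insert hjs, mul_assoc]
        · simp [his, hij', hi0, d']

theorem eq_diag_det (F : Matrix ι ι R → V) (hl : ∀ i j, i ≠ j → ∀ c M, F (transvection i j c * M) = F M)
    (hr : ∀ i j, i ≠ j → ∀ c M, F (M * transvection i j c) = F M) (i₀ : ι) (M : Matrix ι ι R)
    (hM : M.det ≠ 0) :
    F M = F (diagonal fun i => if i = i₀ then M.det else 1) := by
  obtain ⟨L, L', D, rfl⟩ := Matrix.Pivot.exists_list_transvec_mul_diagonal_mul_list_transvec M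
  have hL : ∀ (L : List (TransvectionStruct ι R)) N,
      F ((L.map TransvectionStruct.toMatrix).prod * N) = F N := by
    intro L
    induction L with
    | nil => simp
    | cons t L ih =>
      intro N
      rw [List.map_cons, List.prod_cons, mul_assoc]
      exact (hl t.i t.j t.hij t.c _).trans (ih N)
  have hR : ∀ (L : List (TransvectionStruct ι R)) N,
      F (N * (L.map TransvectionStruct.toMatrix).prod) = F N := by
    intro L
    induction L with
    | nil => simp
    | cons t L ih =>
      intro N
      rw [List.map_cons, List.prod_cons, ← mul_assoc, ih]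
      exact hr t.i t.j t.hij t.c _
  have hdet : ((L.map TransvectionStruct.toMatrix).prod * diagonal D *
      (L'.map TransvectionStruct.toMatrix).prod).det = ∏ i, D i := by
    simp [det_mul, det_diagonal]
  rw [hdet] at hM ⊢
  rw [hR, hL, collapse F hl hr i₀ (Finset.univ.erase i₀) D (Finset.notMem_erase _ _)
    (fun i => (Finset.prod_ne_zero_iff.1 hM) i (Finset.mem_univ i))]
  congr 2
  funext i
  by_cases h : i = i₀
  · subst h; simp [Finset.mul_prod_erase]
  · simp [h]
end

/-- Units of GL_n: let A be a nonzero commutative ring whose only idempotents are 0 and 1, let n ≥ 1,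
let det be the determinant of the generic n × n matrix in the polynomial ring A[X] in its n²
entries, and let A[X, 1/det] be the coordinate ring of GL_n over A. The homomorphism Aˣ × ℤ → (A[X,
1/det])ˣ, (a, e) ↦ a · det^e, is bijective if and only if A is reduced. (The published statement
allows Spec A disconnected, with exponents locally constant ℤ-valued functions on Spec A; this row
is the connected case, to which the published proof reduces.) -/
theorem result (A : Type u) [CommRing A] [Nontrivial A]
    (hconn : ∀ e : A, IsIdempotentElem e → e = 0 ∨ e = 1) (n : ℕ) (hn : 0 < n) :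
    Function.Bijective (fun p : Aˣ × ℤ =>
        Units.map (algebraMap A (Localization.Away (Matrix.mvPolynomialX (Fin n) (Fin n) A).det)).toMonoidHom p.1 *
          (IsLocalization.Away.algebraMap_isUnit (S := Localization.Away (Matrix.mvPolynomialX (Fin n) (Fin n) A).det)
            (Matrix.mvPolynomialX (Fin n) (Fin n) A).det).unit ^ p.2) ↔ IsReduced A := by
  classical
  let B := MvPolynomial (Fin n × Fin n) A
  let D : B := (Matrix.mvPolynomialX (Fin n) (Fin n) A).det
  let S := Localization.Away D
  let Du : Sˣ := (IsLocalization.Away.algebraMap_isUnit (S := S) D).unit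
  let i₀ : Fin n := ⟨0, hn⟩
  let P := LaurentPolynomial A
  let τ : Fin n → P := fun i => if i = i₀ then LaurentPolynomial.T 1 else 1
  have hτdet : (diagonal τ).det = LaurentPolynomial.T 1 := by
    rw [det_diagonal, Finset.prod_eq_single i₀] <;> simp +contextual [τ]
  let ev₀ : B →ₐ[A] P := MvPolynomial.aeval fun p => diagonal τ p.1 p.2
  have hevdet : ∀ {C : Type u} [CommRing C] [Algebra A C] (g : B →ₐ[A] C),
      g D = ((Matrix.mvPolynomialX (Fin n) (Fin n) A).map g).det := fun g => g.map_det _
  have hev₀X : ∀ i j, ev₀ (MvPolynomial.X (i, j)) = diagonal τ i j := fun i j => MvPolynomial.aeval_X _ _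
  have hev₀D : ev₀ D = LaurentPolynomial.T 1 := by
    rw [hevdet, ← hτdet]; congr 1; exact Matrix.ext fun i j => hev₀X i j
  have hev₀u : ∀ y : Submonoid.powers D, IsUnit (ev₀ y) := by
    rintro ⟨_, k, rfl⟩
    rw [map_pow, hev₀D]
    exact (LaurentPolynomial.isUnit_T 1).pow k
  let ρ : S →ₐ[A] P := IsLocalization.liftAlgHom (M := Submonoid.powers D) hev₀u
  have hρ : ∀ b : B, ρ (algebraMap B S b) = ev₀ b := fun b => IsLocalization.lift_eq _ b
  have hρD : ∀ e : ℤ, ρ ↑(Du ^ e) = LaurentPolynomial.T e := by
    intro e
    let t : Pˣ := (LaurentPolynomial.isUnit_T (R := A) 1).unit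
    have h1 : Units.map ρ.toMonoidHom Du = t := Units.ext (by
      show ρ (algebraMap B S D) = _
      rw [hρ, hev₀D]; rfl)
    show ((Units.map ρ.toMonoidHom (Du ^ e) : Pˣ) : P) = _
    rw [map_zpow, h1]
    clear h1
    induction e using Int.induction_on with
    | zero => simp
    | succ e ih => rw [zpow_add_one, Units.val_mul, ih, show (t : P) = LaurentPolynomial.T 1 from rfl,
        ← LaurentPolynomial.T_add]
    | pred e ih =>
      refine t.isUnit.mul_right_cancel ?_
      rw [← Units.val_mul, ← zpow_add_one, sub_add_cancel, ih,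
        show (t : P) = LaurentPolynomial.T 1 from rfl, ← LaurentPolynomial.T_add, sub_add_cancel]
  let Ψ : Aˣ × ℤ → Sˣ := fun p => Units.map (algebraMap A S).toMonoidHom p.1 * Du ^ p.2
  have hρΨ : ∀ p : Aˣ × ℤ, ρ (Ψ p) = AddMonoidAlgebra.single p.2 (p.1 : A) := by
    intro p
    rw [LaurentPolynomial.single_eq_C_mul_T]
    show ρ (algebraMap A S p.1 * ↑(Du ^ p.2)) = _
    rw [map_mul, AlgHom.commutes, hρD]
    rfl
  have hΨinj : Function.Injective Ψ := by
    intro p q h
    have h' := congrArg (fun x : Sˣ => ρ x) h
    simp only [hρΨ] at h'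
    have h2 := congrArg AddMonoidAlgebra.coeff h'
    rw [AddMonoidAlgebra.coeff_single, AddMonoidAlgebra.coeff_single, Finsupp.single_eq_single_iff] at h2
    rcases h2 with ⟨e1, e2⟩ | ⟨e1, -⟩
    · exact Prod.ext (Units.ext e2) e1
    · exact absurd e1 p.1.ne_zero
  show Function.Bijective Ψ ↔ IsReduced A
  constructor
  · intro hbij
    refine ⟨fun ε hε => ?_⟩
    let x : B := MvPolynomial.C ε * MvPolynomial.X (i₀, i₀)
    have hx : IsNilpotent (algebraMap B S x) :=
      ((Commute.all _ _).isNilpotent_mul_right (hε.map MvPolynomial.C) : IsNilpotent x).map _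
    obtain ⟨⟨a, e⟩, hae⟩ := hbij.2 (hx.isUnit_one_add).unit
    have h1 := congrArg (fun y : Sˣ => ρ y) hae
    simp only [hρΨ, IsUnit.unit_spec, map_add, map_one, hρ] at h1
    have hx0 : ev₀ x = LaurentPolynomial.C ε * LaurentPolynomial.T 1 := by
      show ev₀ _ = _
      rw [map_mul, hev₀X, diagonal_apply_eq, show ev₀ (MvPolynomial.C ε) = LaurentPolynomial.C ε from
        MvPolynomial.aeval_C _ _]
      simp [τ]
    rw [hx0, ← LaurentPolynomial.single_eq_C_mul_T, AddMonoidAlgebra.one_def] at h1
    have c0 : Finsupp.single e (a : A) 0 = Finsupp.single (0 : ℤ) (1 : A) 0 + Finsupp.single (1 : ℤ) ε 0 :=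
      congrArg (fun y : P => y.coeff 0) h1
    have c1 : Finsupp.single e (a : A) 1 = Finsupp.single (0 : ℤ) (1 : A) 1 + Finsupp.single (1 : ℤ) ε 1 :=
      congrArg (fun y : P => y.coeff 1) h1
    simp [Finsupp.single_apply] at c0 c1
    by_cases he : e = 0
    · subst he; simpa using c1.symm
    · simp [he] at c0
  · intro hred
    refine ⟨hΨinj, fun u => ?_⟩
    haveI : TwoUniqueSums ℤ := inferInstance
    obtain ⟨a, e, hae⟩ := CAlg7.exists_unit_eq_single hconn (Units.map ρ.toMonoidHom u : Pˣ)
    refine ⟨(a, e), Units.ext ?_⟩
    haveI : IsReduced S := inferInstance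
    rw [← sub_eq_zero]
    refine (mem_nilradical.1 ?_).eq_zero
    rw [nilradical_eq_sInf, Submodule.mem_sInf]
    intro Q hQ
    haveI : Ideal.IsPrime Q := hQ
    let K := FractionRing (S ⧸ Q)
    let φ : S →ₐ[A] K := (IsScalarTower.toAlgHom A (S ⧸ Q) K).comp (Ideal.Quotient.mkₐ A Q)
    suffices hK : φ (Ψ (a, e)) = φ u by
      rw [← Ideal.Quotient.eq_zero_iff_mem]
      refine IsFractionRing.injective (S ⧸ Q) K ?_
      rw [map_zero]
      show φ _ = 0
      rw [map_sub, hK, sub_self]
    -- the matrix of the point
    let M : Matrix (Fin n) (Fin n) K :=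
      Matrix.of fun i j => φ (algebraMap B S (MvPolynomial.X (i, j)))
    have hev : ∀ {C : Type u} [CommRing C] [Algebra A C] (N : Matrix (Fin n) (Fin n) C),
        MvPolynomial.aeval (fun p : Fin n × Fin n => N p.1 p.2) D = N.det := fun N => by
      rw [hevdet]; congr 1; exact Matrix.ext fun i j => MvPolynomial.aeval_X _ _
    -- evaluation of `S` at an invertible matrix
    have hpt : ∀ {C : Type u} [CommRing C] [Algebra A C] (N : Matrix (Fin n) (Fin n) C),
        IsUnit N.det → ∃ χ : S →ₐ[A] C, ∀ i j, χ (algebraMap B S (MvPolynomial.X (i, j))) = N i j := by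
      intro C _ _ N hN
      have hu : ∀ y : Submonoid.powers D, IsUnit (MvPolynomial.aeval (fun p => N p.1 p.2) (y : B)) := by
        rintro ⟨_, k, rfl⟩
        rw [map_pow, hev]
        exact hN.pow k
      exact ⟨IsLocalization.liftAlgHom (M := Submonoid.powers D) hu, fun i j =>
        (IsLocalization.lift_eq _ _).trans (MvPolynomial.aeval_X _ _)⟩
    have huniq : ∀ {C : Type u} [CommRing C] [Algebra A C] (χ χ' : S →ₐ[A] C),
        (∀ i j, χ (algebraMap B S (MvPolynomial.X (i, j))) =
          χ' (algebraMap B S (MvPolynomial.X (i, j)))) → χ = χ' := by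
      intro C _ _ χ χ' h
      refine IsLocalization.algHom_ext (Submonoid.powers D) (MvPolynomial.algHom_ext fun p => ?_)
      exact h p.1 p.2
    -- the value of `u` at a matrix
    let F : Matrix (Fin n) (Fin n) K → K := fun N =>
      if h : IsUnit N.det then Classical.choose (hpt N h) (u : S) else 0
    have hF : ∀ (χ : S →ₐ[A] K) (N : Matrix (Fin n) (Fin n) K),
        (∀ i j, χ (algebraMap B S (MvPolynomial.X (i, j))) = N i j) → F N = χ u := by
      intro χ N h
      have hN : IsUnit N.det := by
        have h1 : χ (algebraMap B S D) = N.det := by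
          show (χ.comp (IsScalarTower.toAlgHom A B S)) D = _
          rw [hevdet]; congr 1; ext i j; simp [← h]
        rw [← h1]
        exact (IsLocalization.Away.algebraMap_isUnit D).map χ
      simp only [F, dif_pos hN]
      rw [huniq (Classical.choose (hpt N hN)) χ fun i j => by rw [Classical.choose_spec (hpt N hN), h]]
    have hinv : ∀ (N : Polynomial K → Matrix (Fin n) (Fin n) (Polynomial K)),
        IsUnit (N Polynomial.X).det → ∀ s t : K,
          F ((N Polynomial.X).map (Polynomial.eval s)) = F ((N Polynomial.X).map (Polynomial.eval t)) := by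
      intro N hN s t
      obtain ⟨χ, hχ⟩ := hpt (N Polynomial.X) hN
      obtain ⟨r, -, hr⟩ := Polynomial.isUnit_iff.1 ((u.isUnit).map χ)
      have h1 : ∀ s : K, F ((N Polynomial.X).map (Polynomial.eval s)) = r := by
        intro s
        rw [hF (((Polynomial.aeval s).restrictScalars A).comp χ) _ fun i j => by simp [hχ]]
        simp [← hr]
      rw [h1, h1]
    have hl : ∀ i j, i ≠ j → ∀ c N, F (transvection i j c * N) = F N := by
      intro i j hij c N
      by_cases hN : IsUnit N.det
      · have h := hinv (fun z => transvection i j z * N.map Polynomial.C) (by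
          rw [det_mul, det_transvection_of_ne _ _ hij, one_mul]
          show IsUnit (Polynomial.C.mapMatrix N).det
          rw [← RingHom.map_det]
          exact hN.map Polynomial.C) c 0
        have key : ∀ s : K, ((transvection i j Polynomial.X * N.map Polynomial.C).map (Polynomial.eval s)) =
            transvection i j s * N := fun s => by
          ext k l
          by_cases hk : k = i
          · subst hk; simp [transvection_mul_apply_same]; ring
          · simp [transvection_mul_apply_of_ne _ _ _ _ hk]
        rw [key, key, transvection_zero, one_mul] at h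
        exact h
      · simp only [F, det_mul, det_transvection_of_ne _ _ hij, one_mul, dif_neg hN]
    have hr : ∀ i j, i ≠ j → ∀ c N, F (N * transvection i j c) = F N := by
      intro i j hij c N
      by_cases hN : IsUnit N.det
      · have h := hinv (fun z => N.map Polynomial.C * transvection i j z) (by
          rw [det_mul, det_transvection_of_ne _ _ hij, mul_one]
          show IsUnit (Polynomial.C.mapMatrix N).det
          rw [← RingHom.map_det]
          exact hN.map Polynomial.C) c 0
        have key : ∀ s : K, ((N.map Polynomial.C * transvection i j Polynomial.X).map (Polynomial.eval s)) =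
            N * transvection i j s := fun s => by
          ext k l
          by_cases hk : l = j
          · subst hk; simp [mul_transvection_apply_same]; ring
          · simp [mul_transvection_apply_of_ne _ _ _ _ hk]
        rw [key, key, transvection_zero, mul_one] at h
        exact h
      · simp only [F, det_mul, det_transvection_of_ne _ _ hij, mul_one, dif_neg hN]
    have hMdet : M.det = φ (algebraMap B S D) := by
      show _ = (φ.comp (IsScalarTower.toAlgHom A B S)) D
      rw [hevdet]; congr 1
    have hMu : IsUnit M.det := hMdet ▸ (IsLocalization.Away.algebraMap_isUnit D).map φ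
    obtain ⟨d, hd⟩ := hMu
    let σ : P →ₐ[A] K :=
      { LaurentPolynomial.eval₂ (algebraMap A K) d with
        commutes' := fun c => LaurentPolynomial.eval₂_C _ _ c }
    have hσT : σ (LaurentPolynomial.T 1) = M.det :=
      (LaurentPolynomial.eval₂_T _ _ 1).trans (by rw [zpow_one, hd])
    have hσ : ∀ i j, (σ.comp ρ) (algebraMap B S (MvPolynomial.X (i, j))) =
        (diagonal fun i => if i = i₀ then M.det else 1) i j := by
      intro i j
      show σ (ρ _) = _
      rw [hρ, hev₀X]
      by_cases hij : i = j
      · subst hij
        by_cases hi : i = i₀ <;> simp [τ, hi, hσT]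
      · simp [hij]
    have key : φ u = σ (ρ u) :=
      (hF φ M fun i j => rfl).symm.trans
        ((eq_diag_det F hl hr i₀ M (hd ▸ d.ne_zero)).trans (hF (σ.comp ρ) _ hσ))
    rw [key]
    have h2 : ρ (u : S) = LaurentPolynomial.C (a : A) * LaurentPolynomial.T e := by
      rw [← LaurentPolynomial.single_eq_C_mul_T]; exact hae
    rw [h2]
    show φ (algebraMap A S a * ↑(Du ^ e)) = _
    rw [map_mul, AlgHom.commutes]
    show _ = LaurentPolynomial.eval₂ (algebraMap A K) d _
    rw [LaurentPolynomial.eval₂_C_mul_T]
    congr 1
    have h3 : Units.map φ.toMonoidHom Du = d := Units.ext (hd.trans hMdet).symm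
    show ((Units.map φ.toMonoidHom (Du ^ e) : Kˣ) : K) = _
    rw [map_zpow, h3]

end Groth.Agent.S13788
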