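import Groth.Statements.S13789
import Mathlib.RingTheory.Localization.FractionRing

set_option autoImplicit false
universe u
open CAlg

namespace Groth.Agent.S13789

/-- Let A be a commutative ring with total ring of fractions Q and let B be a ring with A ⊆ B ⊆ Q. Then
the inclusion A ⊆ B carries nonzerodivisors of A to nonzerodivisors of B, and every nonzerodivisor
of B has the form r/u with r and u nonzerodivisors of A. -/
theorem result {A Q : Type u} [CommRing A] [CommRing Q] [Algebra A Q] [IsFractionRing A Q] (B : Subalgebra A Q) :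
    (∀ a : A, a ∈ nonZeroDivisors A → algebraMap A B a ∈ nonZeroDivisors B) ∧
    (∀ b : B, b ∈ nonZeroDivisors B → ∃ r u : A, r ∈ nonZeroDivisors A ∧ u ∈ nonZeroDivisors A ∧
      (b : Q) * algebraMap A Q u = algebraMap A Q r) := by
  have hsub : ∀ x : B, algebraMap A Q 1 = 1 := fun _ => map_one _
  refine ⟨fun a ha => ?_, fun b hb => ?_⟩
  · rw [mem_nonZeroDivisors_iff_right]
    intro x hx
    apply Subtype.ext
    exact (IsLocalization.map_units Q ⟨a, ha⟩).mul_left_eq_zero.1 (congrArg Subtype.val hx)
  · obtain ⟨⟨r, u⟩, hru⟩ := IsLocalization.surj (nonZeroDivisors A) (b : Q)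
    refine ⟨r, u, ?_, u.2, hru⟩
    rw [mem_nonZeroDivisors_iff_right]
    intro x hx
    have h1 : (algebraMap A Q x * algebraMap A Q u) * (b : Q) = 0 := by
      calc (algebraMap A Q x * algebraMap A Q u) * (b : Q)
          = algebraMap A Q x * ((b : Q) * algebraMap A Q u) := by ring
        _ = 0 := by rw [hru, ← map_mul, hx, map_zero]
    have h2 : algebraMap A B (x * u) = 0 := by
      refine (mem_nonZeroDivisors_iff_right.1 hb) _ (Subtype.ext ?_)
      show algebraMap A Q (x * u) * (b : Q) = 0
      rw [map_mul, h1]
    have h3 : x * u = 0 := IsFractionRing.injective A Q (by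
      have := congrArg Subtype.val h2
      rw [map_zero]
      exact this)
    exact mem_nonZeroDivisors_iff_right.1 u.2 _ h3

end Groth.Agent.S13789
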