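import Groth.Statements.S13790
import Groth.Agent.S13789

set_option autoImplicit false
universe u
open CAlg

namespace Groth.Agent.S13790

/-- Let A be a commutative ring with total ring of fractions Q and let B be a ring with A ⊆ B ⊆ Q. Then
Q, with the inclusion B ⊆ Q, is the total ring of fractions of B. -/
theorem result {A Q : Type u} [CommRing A] [CommRing Q] [Algebra A Q] [IsFractionRing A Q] (B : Subalgebra A Q) :
    IsFractionRing B Q := by
  obtain ⟨h1, h2⟩ := Groth.Agent.S13789.result (Q := Q) B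
  refine ⟨⟨fun b => ?_, fun q => ?_, fun {x y} h => ?_⟩⟩
  · obtain ⟨r, u, hr, hu, hru⟩ := h2 _ b.2
    have hu' := IsLocalization.map_units Q (⟨u, hu⟩ : nonZeroDivisors A)
    have hr' := IsLocalization.map_units Q (⟨r, hr⟩ : nonZeroDivisors A)
    rw [← hru] at hr'
    exact isUnit_of_mul_isUnit_left hr'
  · obtain ⟨⟨a, u⟩, h⟩ := IsLocalization.surj (nonZeroDivisors A) q
    exact ⟨(algebraMap A B a, ⟨algebraMap A B u, h1 u u.2⟩), h⟩
  · refine ⟨1, ?_⟩
    rw [OneMemClass.coe_one, one_mul, one_mul]
    exact Subtype.ext h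

end Groth.Agent.S13790
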