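import Groth.Statements.S13791
import Groth.Agent.Fib44.ConstSections
import Mathlib.Algebra.Homology.DerivedCategory.Ext.ExactSequences

set_option autoImplicit false
universe u
open CategoryTheory
open CohSite

namespace Groth.Agent.S13791

/-- On a site, for a short exact sequence 0 → A → B → C → 0 of abelian groups the map H¹(A) → H¹(B) on
the first cohomology of the associated constant sheaves is injective. Stated for an injective
homomorphism f : A → B (C being its cokernel), with H¹ the Ext-based sheaf cohomology of the site. -/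
theorem result {C : Type u} [SmallCategory C] (J : GrothendieckTopology C)
    {A B : Type u} [AddCommGroup A] [AddCommGroup B] (f : A →+ B) (hf : Function.Injective f) :
    Function.Injective
      (Sheaf.H.map ((constantSheaf J AddCommGrpCat.{u}).map (AddCommGrpCat.ofHom f)) 1) := by
  have : Mono (AddCommGrpCat.ofHom f) := (AddCommGrpCat.mono_iff_injective _).2 hf
  let S : ShortComplex AddCommGrpCat.{u} := ShortComplex.mk (AddCommGrpCat.ofHom f)
    (Limits.cokernel.π (AddCommGrpCat.ofHom f)) (Limits.cokernel.condition _)
  have hS : S.ShortExact :=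
    { exact := ShortComplex.exact_of_g_is_cokernel _ (Limits.cokernelIsCokernel _)
      mono_f := this
      epi_g := inferInstanceAs (Epi (Limits.cokernel.π _)) }
  have h := Groth.Agent.Fib44.Const.map_shortExact J hS
  refine (injective_iff_map_eq_zero _).2 fun x hx => ?_
  obtain ⟨y, rfl⟩ := Abelian.Ext.covariant_sequence_exact₁ _ h x hx rfl
  obtain ⟨z, rfl⟩ := Abelian.Ext.addEquiv₀.symm.surjective y
  obtain ⟨z', rfl⟩ := Groth.Agent.Fib44.Const.exists_lift J S.g
    ((AddCommGrpCat.epi_iff_surjective _).1 hS.epi_g) z
  let w : (constantSheaf J AddCommGrpCat.{u}).obj (AddCommGrpCat.of (ULift.{u} ℤ)) ⟶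
    (S.map (constantSheaf J AddCommGrpCat.{u})).X₂ := z'
  refine (congrArg (fun e => e.comp h.extClass (zero_add 1))
    (Abelian.Ext.mk₀_comp_mk₀ w (S.map (constantSheaf J AddCommGrpCat.{u})).g).symm).trans ?_
  refine (Abelian.Ext.comp_assoc_of_second_deg_zero _ _ _ _).trans ?_
  exact (congrArg (fun e => (Abelian.Ext.mk₀ w).comp e (zero_add 1)) h.comp_extClass).trans
    (Abelian.Ext.comp_zero _ _ _ _ _)

end Groth.Agent.S13791
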