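import Groth.Statements.S13793
import Groth.Agent.CAlg7.GroupAlgUnits
import Mathlib.Algebra.MonoidAlgebra.MapDomain
import Mathlib.Algebra.MonoidAlgebra.Module
import Mathlib.Algebra.MonoidAlgebra.Basic
import Mathlib.RingTheory.Ideal.Maps
import Mathlib.Tactic.LinearCombination
import Mathlib.Tactic.Abel
import Mathlib.Algebra.Group.TypeTags.Basic
import Mathlib.RingTheory.Noetherian.Nilpotent
import Mathlib.RingTheory.Nilpotent.Basic
import Mathlib.LinearAlgebra.Matrix.Notation
import Mathlib.RingTheory.Nilpotent.Lemmas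
import Mathlib.RingTheory.Finiteness.Ideal
import Mathlib.Algebra.Group.UniqueProds.Basic
import Mathlib.RingTheory.Ideal.Quotient.Operations

set_option autoImplicit false
universe u
open CAlg

namespace Groth.Agent.S13793

open AddMonoidAlgebra Matrix

variable (A : Type u) [CommRing A]

noncomputable def mapF {G H : Type} [AddCommGroup G] [AddCommGroup H] (f : G →+ H) :
    AddMonoidAlgebra A G →ₐ[A] AddMonoidAlgebra A H := AddMonoidAlgebra.mapDomainAlgHom A A f

def d (M : Matrix (Fin 3) (Fin 2) ℤ) : (Fin 2 → ℤ) →+ (Fin 3 → ℤ) := (Matrix.mulVecLin M).toAddMonoidHom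
def d' (M : Matrix (Fin 2) (Fin 1) ℤ) : (Fin 1 → ℤ) →+ (Fin 2 → ℤ) := (Matrix.mulVecLin M).toAddMonoidHom

noncomputable def f0 := mapF A (d !![0, 0; 1, 0; 0, 1])
noncomputable def f1 := mapF A (d !![1, 0; 1, 0; 0, 1])
noncomputable def f2 := mapF A (d !![1, 0; 0, 1; 0, 1])
noncomputable def f3 := mapF A (d !![1, 0; 0, 1; 0, 0])
noncomputable def g0 := mapF A (d' !![0; 1])
noncomputable def g1 := mapF A (d' !![1; 1])
noncomputable def g2 := mapF A (d' !![1; 0])

/-- `ξ` is a cocycle. -/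
def IsCocycle (ξ : AddMonoidAlgebra A (Fin 2 → ℤ)) : Prop :=
  f0 A ξ * f2 A ξ = f1 A ξ * f3 A ξ

/-- constant coefficient in the last variable -/
noncomputable def hC : AddMonoidAlgebra A (Fin 2 → ℤ) →ₗ[A] AddMonoidAlgebra A (Fin 1 → ℤ) :=
  (Finsupp.lsum A fun v : Fin 2 → ℤ => if v 1 = 0 then AddMonoidAlgebra.lsingle ![v 0] else 0) ∘ₗ
    (AddMonoidAlgebra.coeffLinearEquiv A).toLinearMap

noncomputable def eC : AddMonoidAlgebra A (Fin 3 → ℤ) →ₗ[A] AddMonoidAlgebra A (Fin 2 → ℤ) :=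
  (Finsupp.lsum A fun v : Fin 3 → ℤ => if v 2 = 0 then AddMonoidAlgebra.lsingle ![v 0, v 1] else 0) ∘ₗ
    (AddMonoidAlgebra.coeffLinearEquiv A).toLinearMap

variable {A}

theorem mapF_single {G H : Type} [AddCommGroup G] [AddCommGroup H] (f : G →+ H) (v : G) (c : A) :
    mapF A f (AddMonoidAlgebra.single v c) = single (f v) c := AddMonoidAlgebra.mapDomain_single

theorem hC_single (v : Fin 2 → ℤ) (c : A) :
    hC A (AddMonoidAlgebra.single v c) = if v 1 = 0 then single ![v 0] c else 0 := by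
  simp [hC]; split_ifs <;> rfl

theorem eC_single (v : Fin 3 → ℤ) (c : A) :
    eC A (AddMonoidAlgebra.single v c) = if v 2 = 0 then single ![v 0, v 1] c else 0 := by
  simp [eC]; split_ifs <;> rfl

theorem eC_face (x : AddMonoidAlgebra A (Fin 2 → ℤ)) :
    eC A (f0 A x) = g0 A (hC A x) ∧ eC A (f1 A x) = g1 A (hC A x) ∧
      eC A (f2 A x) = g2 A (hC A x) ∧ eC A (f3 A x) = x := by
  induction x using AddMonoidAlgebra.induction_linear with
  | zero => simp
  | add x y hx hy => simp only [map_add, hx.1, hx.2.1, hx.2.2.1, hx.2.2.2, hy.1, hy.2.1, hy.2.2.1, hy.2.2.2, and_self]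
  | single v c =>
    refine ⟨?_, ?_, ?_, ?_⟩
    all_goals simp only [f0, f1, f2, f3, g0, g1, g2, mapF_single, eC_single, hC_single]
    · simp [d, vecHead, vecTail]
      split_ifs
      · rw [mapF_single]; congr 1; funext i; fin_cases i <;> simp [d', *]
      · simp
    · simp [d, vecHead, vecTail]
      split_ifs
      · rw [mapF_single]; congr 1; funext i; fin_cases i <;> simp [d', *]
      · simp
    · simp [d, vecHead, vecTail]
      split_ifs
      · rw [mapF_single]; congr 1; funext i; fin_cases i <;> simp [d', *]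
      · simp
    · simp [d, vecHead, vecTail]
      congr 1; funext i; fin_cases i <;> simp

theorem coboundary (y : AddMonoidAlgebra A (Fin 1 → ℤ)) :
    f0 A (g0 A y) = f1 A (g0 A y) ∧ f0 A (g1 A y) = f2 A (g0 A y) ∧ f0 A (g2 A y) = f3 A (g0 A y) ∧
      f1 A (g1 A y) = f2 A (g1 A y) ∧ f1 A (g2 A y) = f3 A (g1 A y) ∧ f2 A (g2 A y) = f3 A (g2 A y) := by
  induction y using AddMonoidAlgebra.induction_linear with
  | zero => simp
  | add x y hx hy =>
    obtain ⟨a, b, c, d, e, f⟩ := hx; obtain ⟨a', b', c', d', e', f'⟩ := hy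
    simp only [map_add, a, b, c, d, e, f, a', b', c', d', e', f', and_self]
  | single v c =>
    refine ⟨?_, ?_, ?_, ?_, ?_, ?_⟩
    all_goals
      simp only [f0, f1, f2, f3, g0, g1, g2, mapF_single]
      congr 1
      funext i
      fin_cases i <;> simp [d, d', vecHead, vecTail]

variable (A) in
/-- the ideal of elements with coefficients in `I` -/
noncomputable def J (p : ℕ) (I : Ideal A) : Ideal (AddMonoidAlgebra A (Fin p → ℤ)) := I.map (algebraMap A _)

theorem mem_J_linear {p q : ℕ} {I : Ideal A} (f : AddMonoidAlgebra A (Fin p → ℤ) →ₗ[A] AddMonoidAlgebra A (Fin q → ℤ))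
    {x : AddMonoidAlgebra A (Fin p → ℤ)} (hx : x ∈ J A p I) : f x ∈ J A q I := by
  have h1 : x ∈ (I • ⊤ : Submodule A (AddMonoidAlgebra A (Fin p → ℤ))) := by
    rw [Ideal.smul_top_eq_map]; exact hx
  have h2 : f x ∈ (I • ⊤ : Submodule A (AddMonoidAlgebra A (Fin p → ℤ))).map f := ⟨x, h1, rfl⟩
  rw [Submodule.map_smul''] at h2
  have h3 := Submodule.smul_mono le_rfl le_top h2
  rw [Ideal.smul_top_eq_map] at h3
  exact h3

theorem mul_mem_J {p : ℕ} {I : Ideal A} {x y : AddMonoidAlgebra A (Fin p → ℤ)} (hx : x ∈ J A p I)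
    (hy : y ∈ J A p I) : x * y ∈ J A p (I * I) := by
  rw [J, Ideal.map_mul]
  exact Ideal.mul_mem_mul hx hy

theorem main : ∀ (k : ℕ) (I : Ideal A), I ^ (2 ^ k) = ⊥ →
    ∀ ξ : (AddMonoidAlgebra A (Fin 2 → ℤ))ˣ, IsCocycle A (ξ : AddMonoidAlgebra A (Fin 2 → ℤ)) →
      (ξ : AddMonoidAlgebra A (Fin 2 → ℤ)) - 1 ∈ J A 2 I →
      ∃ η : (AddMonoidAlgebra A (Fin 1 → ℤ))ˣ, (ξ : AddMonoidAlgebra A (Fin 2 → ℤ)) * g1 A η = g0 A η * g2 A η := by
  intro k
  induction k with
  | zero =>
    intro I hI ξ _ h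
    rw [pow_zero, pow_one] at hI
    rw [J, hI, Ideal.map_bot, Ideal.mem_bot, sub_eq_zero] at h
    exact ⟨1, by simp [h]⟩
  | succ k ih =>
    intro I hI ξ hξ h
    set x : AddMonoidAlgebra A (Fin 2 → ℤ) := ↑ξ with hxdef
    set e := x - 1 with he
    have hnil : IsNilpotent (hC A e) := by
      refine ⟨2 ^ (k + 1), ?_⟩
      have := Ideal.pow_mem_pow (mem_J_linear (hC A) h) (2 ^ (k + 1))
      rwa [J, ← Ideal.map_pow, hI, Ideal.map_bot, Ideal.mem_bot] at this
    let η₀ := (IsNilpotent.isUnit_one_add hnil).unit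
    have hη₀ : (η₀ : AddMonoidAlgebra A (Fin 1 → ℤ)) = 1 + hC A e := rfl
    have hcoc : f0 A e + f2 A e - f1 A e - f3 A e ∈ J A 3 (I * I) := by
      have h0 := mul_mem_J (mem_J_linear (f0 A).toLinearMap h) (mem_J_linear (f2 A).toLinearMap h)
      have h1 := mul_mem_J (mem_J_linear (f1 A).toLinearMap h) (mem_J_linear (f3 A).toLinearMap h)
      convert sub_mem h1 h0 using 1
      have hc : f0 A x * f2 A x = f1 A x * f3 A x := hξ
      simp only [AlgHom.toLinearMap_apply, e, map_sub, map_one]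
      linear_combination hc
    have hh : g0 A (hC A e) + g2 A (hC A e) - g1 A (hC A e) - e ∈ J A 2 (I * I) := by
      have := mem_J_linear (eC A) hcoc
      rw [map_sub, map_sub, map_add, (eC_face e).1, (eC_face e).2.1, (eC_face e).2.2.1, (eC_face e).2.2.2] at this
      exact this
    have hnew : x * g1 A η₀ - g0 A η₀ * g2 A η₀ ∈ J A 2 (I * I) := by
      have h1 := mul_mem_J h (mem_J_linear (g1 A).toLinearMap (mem_J_linear (hC A) h))
      have h2 := mul_mem_J (mem_J_linear (g0 A).toLinearMap (mem_J_linear (hC A) h))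
        (mem_J_linear (g2 A).toLinearMap (mem_J_linear (hC A) h))
      convert sub_mem (sub_mem h1 h2) hh using 1
      simp only [AlgHom.toLinearMap_apply, hη₀, map_add, map_one, e]
      ring
    let c := Units.map (g0 A).toMonoidHom η₀ * Units.map (g2 A).toMonoidHom η₀ *
      (Units.map (g1 A).toMonoidHom η₀)⁻¹
    let ξ' := ξ * c⁻¹
    have hcval : ∀ f : AddMonoidAlgebra A (Fin 2 → ℤ) →ₐ[A] AddMonoidAlgebra A (Fin 3 → ℤ),
        Units.map f.toMonoidHom ξ' = Units.map f.toMonoidHom ξ *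
          (Units.map f.toMonoidHom (Units.map (g0 A).toMonoidHom η₀) *
            Units.map f.toMonoidHom (Units.map (g2 A).toMonoidHom η₀) *
            (Units.map f.toMonoidHom (Units.map (g1 A).toMonoidHom η₀))⁻¹)⁻¹ := by
      intro f
      simp only [ξ', c, map_mul, map_inv]
    have hξ' : IsCocycle A (ξ' : AddMonoidAlgebra A (Fin 2 → ℤ)) := by
      have hu : Units.map (f0 A).toMonoidHom ξ' * Units.map (f2 A).toMonoidHom ξ' =
          Units.map (f1 A).toMonoidHom ξ' * Units.map (f3 A).toMonoidHom ξ' := by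
        have hc : Units.map (f0 A).toMonoidHom ξ * Units.map (f2 A).toMonoidHom ξ =
            Units.map (f1 A).toMonoidHom ξ * Units.map (f3 A).toMonoidHom ξ := Units.ext hξ
        obtain ⟨a, b, c', dd, ee, ff⟩ := coboundary (η₀ : AddMonoidAlgebra A (Fin 1 → ℤ))
        have b' : Units.map (f0 A).toMonoidHom (Units.map (g1 A).toMonoidHom η₀) =
            Units.map (f2 A).toMonoidHom (Units.map (g0 A).toMonoidHom η₀) := Units.ext b
        have c'' : Units.map (f0 A).toMonoidHom (Units.map (g2 A).toMonoidHom η₀) =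
            Units.map (f3 A).toMonoidHom (Units.map (g0 A).toMonoidHom η₀) := Units.ext c'
        have d'' : Units.map (f1 A).toMonoidHom (Units.map (g1 A).toMonoidHom η₀) =
            Units.map (f2 A).toMonoidHom (Units.map (g1 A).toMonoidHom η₀) := Units.ext dd
        have e' : Units.map (f1 A).toMonoidHom (Units.map (g2 A).toMonoidHom η₀) =
            Units.map (f3 A).toMonoidHom (Units.map (g1 A).toMonoidHom η₀) := Units.ext ee
        have f' : Units.map (f2 A).toMonoidHom (Units.map (g2 A).toMonoidHom η₀) =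
            Units.map (f3 A).toMonoidHom (Units.map (g2 A).toMonoidHom η₀) := Units.ext ff
        have a'' : Units.map (f0 A).toMonoidHom (Units.map (g0 A).toMonoidHom η₀) =
            Units.map (f1 A).toMonoidHom (Units.map (g0 A).toMonoidHom η₀) := Units.ext a
        rw [hcval, hcval, hcval, hcval, mul_mul_mul_comm, hc]
        rw [a'', b', c'', d'', e', f']
        apply Additive.ofMul.injective
        simp only [ofMul_mul, ofMul_inv]
        abel
      exact congrArg Units.val hu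
    have hJ : (ξ' : AddMonoidAlgebra A (Fin 2 → ℤ)) - 1 ∈ J A 2 (I * I) := by
      let w : (AddMonoidAlgebra A (Fin 2 → ℤ))ˣ :=
        (Units.map (g0 A).toMonoidHom η₀ * Units.map (g2 A).toMonoidHom η₀)⁻¹
      have : (ξ' : AddMonoidAlgebra A (Fin 2 → ℤ)) - 1 =
          (x * g1 A η₀ - g0 A η₀ * g2 A η₀) * (w : AddMonoidAlgebra A (Fin 2 → ℤ)) := by
        have e1 : ξ' = ξ * Units.map (g1 A).toMonoidHom η₀ * w := by
          simp only [ξ', c, w]
          apply Additive.ofMul.injective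
          simp only [ofMul_mul, ofMul_inv]
          abel
        have e2 : (g0 A η₀ * g2 A η₀) * (w : AddMonoidAlgebra A (Fin 2 → ℤ)) = 1 :=
          Units.mul_inv (Units.map (g0 A).toMonoidHom η₀ * Units.map (g2 A).toMonoidHom η₀)
        rw [sub_mul, e2, e1]
        rfl
      rw [this]
      exact Ideal.mul_mem_right _ _ hnew
    obtain ⟨η₁, hη₁⟩ := ih (I * I) (by rw [← pow_two, ← pow_mul, ← pow_succ']; exact hI) ξ' hξ' hJ
    refine ⟨η₀ * η₁, ?_⟩
    have e1 : (ξ' : AddMonoidAlgebra A (Fin 2 → ℤ)) * (g0 A η₀ * g2 A η₀) = x * g1 A η₀ := by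
      have : ξ' * (Units.map (g0 A).toMonoidHom η₀ * Units.map (g2 A).toMonoidHom η₀) =
          ξ * Units.map (g1 A).toMonoidHom η₀ := by
        simp only [ξ', c]
        apply Additive.ofMul.injective
        simp only [ofMul_mul, ofMul_inv]
        abel
      exact congrArg Units.val this
    simp only [Units.val_mul, map_mul]
    linear_combination (g0 A η₀ * g2 A η₀) * hη₁ - g1 A η₁ * e1

/-- For any commutative ring A, the second cohomology of the complex of unit groups A[t₁^±]ˣ → A[t₁^±,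
t₂^±]ˣ → A[t₁^±, t₂^±, t₃^±]ˣ → ⋯ attached to the cosimplicial ring of Laurent polynomial rings
(coface maps (t₁, t₂) ↦ (t₂, t₃), (t₁t₂, t₃), (t₁, t₂t₃), (t₁, t₂) and t₁ ↦ t₂, t₁t₂, t₁) vanishes:
every unit ξ of A[t₁^±, t₂^±] with ξ(t₂,t₃) ξ(t₁t₂,t₃)⁻¹ ξ(t₁,t₂t₃) ξ(t₁,t₂)⁻¹ = 1 is of the form
η(t₂) η(t₁t₂)⁻¹ η(t₁) for a unit η of A[t^±]. Laurent polynomial rings are written as group algebras
of ℤ^p and the coface maps as the maps induced by the corresponding additive maps ℤ^p → ℤ^(p+1). -/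
theorem result (A : Type u) [CommRing A] (ξ : (AddMonoidAlgebra A (Fin 2 → ℤ))ˣ)
    (hξ : Units.map (AddMonoidAlgebra.mapDomainRingHom A
          (Matrix.mulVecLin (!![0, 0; 1, 0; 0, 1] : Matrix (Fin 3) (Fin 2) ℤ)).toAddMonoidHom).toMonoidHom ξ *
        (Units.map (AddMonoidAlgebra.mapDomainRingHom A
          (Matrix.mulVecLin (!![1, 0; 1, 0; 0, 1] : Matrix (Fin 3) (Fin 2) ℤ)).toAddMonoidHom).toMonoidHom ξ)⁻¹ *
        Units.map (AddMonoidAlgebra.mapDomainRingHom A
          (Matrix.mulVecLin (!![1, 0; 0, 1; 0, 1] : Matrix (Fin 3) (Fin 2) ℤ)).toAddMonoidHom).toMonoidHom ξ *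
        (Units.map (AddMonoidAlgebra.mapDomainRingHom A
          (Matrix.mulVecLin (!![1, 0; 0, 1; 0, 0] : Matrix (Fin 3) (Fin 2) ℤ)).toAddMonoidHom).toMonoidHom ξ)⁻¹ = 1) :
    ∃ η : (AddMonoidAlgebra A (Fin 1 → ℤ))ˣ,
      ξ = Units.map (AddMonoidAlgebra.mapDomainRingHom A
          (Matrix.mulVecLin (!![0; 1] : Matrix (Fin 2) (Fin 1) ℤ)).toAddMonoidHom).toMonoidHom η *
        (Units.map (AddMonoidAlgebra.mapDomainRingHom A
          (Matrix.mulVecLin (!![1; 1] : Matrix (Fin 2) (Fin 1) ℤ)).toAddMonoidHom).toMonoidHom η)⁻¹ *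
        Units.map (AddMonoidAlgebra.mapDomainRingHom A
          (Matrix.mulVecLin (!![1; 0] : Matrix (Fin 2) (Fin 1) ℤ)).toAddMonoidHom).toMonoidHom η := by
  classical
  let x : AddMonoidAlgebra A (Fin 2 → ℤ) := ↑ξ
  have hcoc : IsCocycle A x := by
    have h := congrArg Units.val (show Units.map (f0 A).toMonoidHom ξ * Units.map (f2 A).toMonoidHom ξ =
        Units.map (f1 A).toMonoidHom ξ * Units.map (f3 A).toMonoidHom ξ by
      have h' : Units.map (f0 A).toMonoidHom ξ * (Units.map (f1 A).toMonoidHom ξ)⁻¹ *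
          Units.map (f2 A).toMonoidHom ξ * (Units.map (f3 A).toMonoidHom ξ)⁻¹ = 1 := hξ
      rw [mul_inv_eq_one, mul_right_comm, mul_inv_eq_iff_eq_mul] at h'
      rw [h', mul_comm])
    exact h
  have hnil : ∀ g : Fin 2 → ℤ, g ≠ 0 → IsNilpotent (x.coeff g) := by
    intro g hg
    rw [← mem_nilradical, nilradical_eq_sInf, Submodule.mem_sInf]
    intro P hP
    haveI : Ideal.IsPrime P := hP
    let π := AddMonoidAlgebra.mapRingHom (Fin 2 → ℤ) (Ideal.Quotient.mk P)
    obtain ⟨a, w, hw⟩ := CAlg7.exists_unit_eq_single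
      (fun e he => IsIdempotentElem.iff_eq_zero_or_one.1 he) (Units.map π.toMonoidHom ξ)
    have hw' : π x = single w (a : A ⧸ P) := hw
    have hcomm : ∀ (M : Matrix (Fin 3) (Fin 2) ℤ) (y : AddMonoidAlgebra A (Fin 2 → ℤ)),
        AddMonoidAlgebra.mapRingHom (Fin 3 → ℤ) (Ideal.Quotient.mk P) (mapF A (d M) y) =
          mapF (A ⧸ P) (d M) (π y) := by
      intro M y
      induction y using AddMonoidAlgebra.induction_linear with
      | zero => simp
      | add a b ha hb => simp only [map_add, ha, hb]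
      | single v c => simp [π, mapF_single]
    have h2 := congrArg (AddMonoidAlgebra.mapRingHom (Fin 3 → ℤ) (Ideal.Quotient.mk P)) hcoc
    simp only [map_mul, f0, f1, f2, f3, hcomm, hw', mapF_single, single_mul_single] at h2
    have h3 := congrArg AddMonoidAlgebra.coeff h2
    rw [coeff_single, coeff_single, Finsupp.single_eq_single_iff] at h3
    have h4 : d !![0, 0; 1, 0; 0, 1] w + d !![1, 0; 0, 1; 0, 1] w =
        d !![1, 0; 1, 0; 0, 1] w + d !![1, 0; 0, 1; 0, 0] w := by
      rcases h3 with ⟨h, -⟩ | ⟨h, -⟩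
      · exact h
      · exact absurd h (mul_ne_zero a.ne_zero a.ne_zero)
    have w0 := congrFun h4 0
    have w1 := congrFun h4 2
    simp [d, vecHead, vecTail] at w0 w1
    have : w = 0 := by funext i; fin_cases i <;> simp <;> omega
    rw [← Ideal.Quotient.eq_zero_iff_mem]
    have h5 := congrArg (fun z => AddMonoidAlgebra.coeff z g) hw'
    simp [π, coeff_single, this, Finsupp.single_eq_of_ne hg] at h5
    exact h5
  have ha : IsUnit (x.coeff 0) := by
    have h := congrArg (fun z : AddMonoidAlgebra A (Fin 2 → ℤ) => z.coeff 0) ξ.mul_inv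
    simp only [AddMonoidAlgebra.one_def, coeff_single, Finsupp.single_eq_same, coeff_mul] at h
    rw [← Ideal.span_singleton_eq_top]
    by_contra hne
    obtain ⟨M, hM, hle⟩ := Ideal.exists_le_maximal _ hne
    refine hM.ne_top ((Ideal.eq_top_iff_one _).2 ?_)
    rw [← h]
    refine Submodule.sum_mem _ fun g _ => Submodule.sum_mem _ fun g' _ => ?_
    dsimp only
    split_ifs
    · refine Ideal.mul_mem_right _ _ ?_
      by_cases hg : g = 0
      · subst hg; exact hle (Ideal.subset_span rfl)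
      · obtain ⟨m, hm⟩ := hnil g hg
        exact hM.isPrime.mem_of_pow_mem m (by rw [hm]; exact zero_mem _)
    · exact zero_mem _
  obtain ⟨a, ha⟩ := ha
  let ca : ∀ p : ℕ, (AddMonoidAlgebra A (Fin p → ℤ))ˣ := fun p => Units.map (algebraMap A _).toMonoidHom a
  let ξ' := ξ * (ca 2)⁻¹
  have hξ' : IsCocycle A (ξ' : AddMonoidAlgebra A (Fin 2 → ℤ)) := by
    show f0 A (x * algebraMap A _ (↑a⁻¹ : A)) * f2 A (x * algebraMap A _ (↑a⁻¹ : A)) =
      f1 A (x * algebraMap A _ (↑a⁻¹ : A)) * f3 A (x * algebraMap A _ (↑a⁻¹ : A))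
    simp only [map_mul, AlgHom.commutes]
    have hc : f0 A x * f2 A x = f1 A x * f3 A x := hcoc
    linear_combination (algebraMap A (AddMonoidAlgebra A (Fin 3 → ℤ)) (↑a⁻¹ : A)) ^ 2 * hc
  let N : Ideal A := Ideal.span ↑(((x.coeff.support.erase 0)).image fun g => x.coeff g)
  have hNnil : IsNilpotent N := by
    have hfg : N.FG := ⟨_, rfl⟩
    rw [Ideal.FG.isNilpotent_iff_le_nilradical hfg, Ideal.span_le]
    intro c hc
    obtain ⟨g, hg, rfl⟩ := Finset.mem_image.1 hc
    exact hnil g (Finset.ne_of_mem_erase hg)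
  obtain ⟨K, hK⟩ := hNnil
  have hJ : (ξ' : AddMonoidAlgebra A (Fin 2 → ℤ)) - 1 ∈ J A 2 N := by
    have e1 : (ξ' : AddMonoidAlgebra A (Fin 2 → ℤ)) - 1 =
        (x - algebraMap A _ (a : A)) * algebraMap A _ (↑a⁻¹ : A) := by
      rw [sub_mul, ← map_mul, Units.mul_inv, map_one]; rfl
    rw [e1]
    refine Ideal.mul_mem_right _ _ ?_
    have hsum : x - algebraMap A _ (a : A) = ∑ g ∈ x.coeff.support.erase 0, AddMonoidAlgebra.single g (x.coeff g) := by
      have h1 : ∑ g ∈ x.coeff.support, AddMonoidAlgebra.single g (x.coeff g) = x := x.sum_coeff_single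
      rw [← Finset.sum_insert_of_eq_zero_if_notMem (a := (0 : Fin 2 → ℤ)) (fun h0 => by
        rw [Finsupp.notMem_support_iff.1 h0, AddMonoidAlgebra.single_zero])] at h1
      rw [← Finset.add_sum_erase _ _ (Finset.mem_insert_self _ _), Finset.erase_insert_eq_erase, ← ha] at h1
      rw [show algebraMap A (AddMonoidAlgebra A (Fin 2 → ℤ)) (a : A) =
        AddMonoidAlgebra.single (0 : Fin 2 → ℤ) (a : A) by simp [AddMonoidAlgebra.coe_algebraMap]]
      exact sub_eq_iff_eq_add'.2 h1.symm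
    rw [hsum]
    refine Submodule.sum_mem _ fun g hg => ?_
    rw [show AddMonoidAlgebra.single g (x.coeff g) = algebraMap A _ (x.coeff g) * AddMonoidAlgebra.single g (1 : A) by
      simp [AddMonoidAlgebra.coe_algebraMap, single_mul_single]]
    exact Ideal.mul_mem_right _ _ (Ideal.mem_map_of_mem _ (Ideal.subset_span
      (Finset.mem_coe.2 (Finset.mem_image_of_mem _ hg))))
  obtain ⟨η, hη⟩ := main K N (eq_bot_iff.2 ((Ideal.pow_le_pow_right Nat.lt_two_pow_self.le).trans hK.le)) ξ' hξ' hJ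
  refine ⟨η * ca 1, ?_⟩
  show ξ = Units.map (g0 A).toMonoidHom (η * ca 1) * (Units.map (g1 A).toMonoidHom (η * ca 1))⁻¹ *
    Units.map (g2 A).toMonoidHom (η * ca 1)
  have hu : ξ' * Units.map (g1 A).toMonoidHom η =
      Units.map (g0 A).toMonoidHom η * Units.map (g2 A).toMonoidHom η := Units.ext hη
  have hca : ∀ f : AddMonoidAlgebra A (Fin 1 → ℤ) →ₐ[A] AddMonoidAlgebra A (Fin 2 → ℤ),
      Units.map f.toMonoidHom (ca 1) = ca 2 := fun f => Units.ext (f.commutes _)
  rw [map_mul, map_mul, map_mul, hca, hca, hca]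
  rw [show ξ' = ξ * (ca 2)⁻¹ from rfl, mul_right_comm, mul_inv_eq_iff_eq_mul,
    ← eq_mul_inv_iff_mul_eq] at hu
  rw [hu]
  apply Additive.ofMul.injective
  simp only [ofMul_mul, ofMul_inv]
  abel

end Groth.Agent.S13793
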