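import Groth.Statements.S13794
import Mathlib.Tactic

set_option autoImplicit false
universe u
open Polynomial
open Curves

namespace Groth.Agent.S13794

/-- Let k be a field of characteristic not 3 and β ∈ k. If a line ax + by + c = 0 with a³ ≠ b³ is the
tangent line at a flex point of the affine cubic x³ + y³ + β = 3xy, then β is a cube in k. Here the
line is normalised to b ≠ 0 (the roles of x and y are symmetric) and the flex-tangency is expressed
by the restriction of the cubic to the line being λ (x − x₀)³. -/
theorem result {k : Type u} [Field k] (h3 : (3 : k) ≠ 0)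
    (β a b c : k) (hb : b ≠ 0) (hab : a ^ 3 ≠ b ^ 3) (lam x₀ : k)
    (hflex : (X : k[X]) ^ 3 + (C (-a / b) * X + C (-c / b)) ^ 3 + C β - 3 * X * (C (-a / b) * X + C (-c / b)) =
      C lam * (X - C x₀) ^ 3) :
    ∃ γ : k, β = γ ^ 3 := by
  have hm : 1 + (-a / b) ^ 3 ≠ 0 := by
    intro h
    apply hab
    field_simp at h
    linear_combination -h
  generalize -a / b = m at hflex hm
  generalize -c / b = d at hflex
  have expand : (X : k[X]) ^ 3 + (C m * X + C d) ^ 3 + C β - 3 * X * (C m * X + C d) =
      C (1 + m^3) * X ^ 3 + C (3*m^2*d - 3*m) * X^2 + C (3*m*d^2 - 3*d) * X + C (d^3+β) := by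
    simp only [map_add, map_sub, map_mul, map_pow, map_ofNat, map_one]; ring
  have expand' : C lam * (X - C x₀) ^ 3 =
      C lam * X ^ 3 + C (-(3*lam*x₀)) * X^2 + C (3*lam*x₀^2) * X + C (-(lam*x₀^3)) := by
    simp only [map_neg, map_mul, map_pow, map_ofNat]; ring
  rw [expand, expand'] at hflex
  have c3 := congrArg (fun q => Polynomial.coeff q 3) hflex
  have c2 := congrArg (fun q => Polynomial.coeff q 2) hflex
  have c1 := congrArg (fun q => Polynomial.coeff q 1) hflex
  have c0 := congrArg (fun q => Polynomial.coeff q 0) hflex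
  simp [coeff_X, coeff_C, -map_add, -map_sub, -map_mul, -map_pow, -map_neg] at c3 c2 c1 c0
  subst c3
  have u2 : (1 + m^3) * x₀ = m - m ^ 2 * d := by
    apply mul_left_cancel₀ h3
    linear_combination c2
  have u1 : (1 + m^3) * x₀ ^ 2 = m * d ^ 2 - d := by
    apply mul_left_cancel₀ h3
    linear_combination -c1
  have r : (m * d - 1) * (d + m ^ 2) = 0 := by
    have : ((1 + m^3) * x₀) ^ 2 = (1 + m^3) * ((1 + m^3) * x₀ ^ 2) := by ring
    rw [u1, u2] at this
    linear_combination -this
  rcases mul_eq_zero.mp r with r | r
  · refine ⟨-d, ?_⟩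
    have : (1 + m^3) * x₀ = 0 := by linear_combination u2 - m * r
    have : x₀ = 0 := by simpa [hm] using this
    subst this
    linear_combination c0
  · refine ⟨-m, ?_⟩
    have hd : d = -m^2 := by linear_combination r
    subst hd
    have hx : x₀ = m := by
      apply mul_left_cancel₀ hm
      linear_combination u2
    subst hx
    linear_combination c0

end Groth.Agent.S13794
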