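import Groth.Statements.S13798
import Groth.Agent.Curves2.TorusUnits

set_option autoImplicit false
universe u
open CategoryTheory CategoryTheory.Limits AlgebraicGeometry Opposite
open Curves

namespace Groth.Agent.S13798

/-- Units on tori: let X be an integral scheme and P = X × 𝔾_mⁿ, the product with the n-dimensional
split torus Spec ℤ[ℤⁿ] = Spec ℤ[t₁^±, …, t_n^±]. The canonical map Γ(X, O_X)ˣ × ℤⁿ → Γ(P, O_P)ˣ, (u,
e) ↦ pr₁^*(u) · pr₂^*(t^e), is an isomorphism: every invertible global function on P is uniquely of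
this form. -/
theorem result (X : Scheme.{u}) [IsIntegral X] (n : ℕ)
    (v : Γ(X ⨯ Spec (CommRingCat.of (ULift.{u} (AddMonoidAlgebra ℤ (Fin n → ℤ)))), ⊤)) (hv : IsUnit v) :
    ∃! p : (Γ(X, ⊤))ˣ × (Fin n → ℤ),
      v = (prod.fst : X ⨯ Spec (CommRingCat.of (ULift.{u} (AddMonoidAlgebra ℤ (Fin n → ℤ)))) ⟶ X).appTop (p.1 : Γ(X, ⊤)) *
        (prod.snd : X ⨯ Spec (CommRingCat.of (ULift.{u} (AddMonoidAlgebra ℤ (Fin n → ℤ)))) ⟶ Spec (CommRingCat.of (ULift.{u} (AddMonoidAlgebra ℤ (Fin n → ℤ))))).appTop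
          ((Scheme.ΓSpecIso (CommRingCat.of (ULift.{u} (AddMonoidAlgebra ℤ (Fin n → ℤ))))).inv (ULift.up (AddMonoidAlgebra.single p.2 1))) := by
  classical
  let G := Fin n → ℤ
  let aug : Curves2.TorusUnits.T n ⟶ Γ(X, ⊤) := CommRingCat.ofHom
    ((AddMonoidAlgebra.liftNCRingHom (Int.castRingHom Γ(X, ⊤)) (1 : Multiplicative G →* Γ(X, ⊤))
      fun _ _ => Commute.all _ _).comp ULift.ringEquiv.toRingHom)
  let σ : X ⟶ X ⨯ Spec (Curves2.TorusUnits.T n) := prod.lift (𝟙 X) (X.toSpecΓ ≫ Spec.map aug)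
  have hσ1 : σ ≫ prod.fst = 𝟙 X := prod.lift_fst _ _
  have hσt : ∀ e : G, σ.appTop (Curves2.TorusUnits.tm X n e) = 1 := fun e => by
    show ((prod.snd : X ⨯ Spec (Curves2.TorusUnits.T n) ⟶ _).appTop ≫ σ.appTop) _ = 1
    rw [← Scheme.Hom.comp_appTop, prod.lift_snd, Scheme.Hom.comp_appTop, Scheme.toSpecΓ_appTop,
      Scheme.ΓSpecIso_naturality, CommRingCat.comp_apply, ← CommRingCat.comp_apply (Scheme.ΓSpecIso _).inv,
      Iso.inv_hom_id, CommRingCat.id_apply]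
    show AddMonoidAlgebra.liftNC _ _ (AddMonoidAlgebra.single e 1) = 1
    simp [AddMonoidAlgebra.liftNC_single]
  let a : (Γ(X, ⊤))ˣ := Units.map σ.appTop.hom.toMonoidHom hv.unit
  let I := {U : X.affineOpens // Nonempty (U.1 : X.Opens)}
  have hdom : ∀ U : I, IsDomain Γ(U.1.1, ⊤) := fun U => by
    have := U.2
    have := isIntegral_of_isOpenImmersion U.1.1.ι
    infer_instance
  choose p hp hp' using fun U : I => @Curves2.TorusUnits.local_repr X n U.1.1 U.1.2 (hdom U) v hv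
  -- the unit factor is the restriction of `a`
  have hunit : ∀ U : I, ((p U).1 : Γ(U.1.1, ⊤)) = U.1.1.ι.appTop (a : Γ(X, ⊤)) := by
    intro U
    let W := Curves2.TorusUnits.PU X n U.1.1
    have hr : Set.range (U.1.1.ι ≫ σ) ⊆ Set.range W.ι := by
      rintro _ ⟨z, rfl⟩
      rw [Scheme.Opens.range_ι]
      show (prod.fst : _ ⟶ X) ((U.1.1.ι ≫ σ) z) ∈ U.1.1
      rw [← Scheme.Hom.comp_apply, Category.assoc, hσ1, Category.comp_id]
      exact z.2
    let σU := IsOpenImmersion.lift W.ι (U.1.1.ι ≫ σ) hr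
    have e1 : σU ≫ W.ι = U.1.1.ι ≫ σ := IsOpenImmersion.lift_fac _ _ _
    have e2 : σU ≫ ((prod.fst : X ⨯ Spec (Curves2.TorusUnits.T n) ⟶ X) ∣_ U.1.1) = 𝟙 _ := by
      rw [← cancel_mono U.1.1.ι, Category.assoc, morphismRestrict_ι, reassoc_of% e1, hσ1,
        Category.comp_id, Category.id_comp]
    have f1 : ∀ w, σU.appTop (W.ι.appTop w) = U.1.1.ι.appTop (σ.appTop w) := fun w => by
      have := congr($(congrArg Scheme.Hom.appTop e1) w)
      simp only [Scheme.Hom.comp_appTop, CommRingCat.comp_apply] at this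
      exact this
    have f2 : ∀ w, σU.appTop (Curves2.TorusUnits.pr X n U.1.1 w) = w := fun w => by
      have := congr($(congrArg Scheme.Hom.appTop e2) w)
      simp only [Scheme.Hom.comp_appTop, CommRingCat.comp_apply, Scheme.Hom.id_appTop, CommRingCat.id_apply] at this
      exact this
    have h := congrArg σU.appTop (hp U)
    rw [map_mul, f1, f1, f2, hσt, map_one, mul_one] at h
    exact h.symm
  -- the exponent is constant
  have hconst : ∀ U V : I, (p U).2 = (p V).2 := by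
    intro U V
    obtain ⟨z, hz⟩ : ∃ z, z ∈ U.1.1 ⊓ V.1.1 := by
      obtain ⟨a, ha⟩ := U.2
      obtain ⟨b, hb⟩ := V.2
      obtain ⟨y, hy⟩ := nonempty_preirreducible_inter U.1.1.isOpen V.1.1.isOpen ⟨a, ha⟩ ⟨b, hb⟩
      exact ⟨y, hy⟩
    obtain ⟨W, hW, hzW, hWle⟩ := exists_isAffineOpen_mem_and_subset hz
    let W' : I := ⟨⟨W, hW⟩, ⟨⟨z, hzW⟩⟩⟩
    have h1 := hp' W' (_, _) (Curves2.TorusUnits.repr_res (fun y hy => (hWle hy).1 : W ≤ U.1.1) (hp U))
    have h2 := hp' W' (_, _) (Curves2.TorusUnits.repr_res (fun y hy => (hWle hy).2 : W ≤ V.1.1) (hp V))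
    exact (congrArg Prod.snd h1).trans (congrArg Prod.snd h2).symm
  have hI : ∀ x : X, ∃ U : I, x ∈ U.1.1 := fun x => by
    obtain ⟨W, hW, hx, -⟩ := exists_isAffineOpen_mem_and_subset (U := (⊤ : X.Opens)) (x := x) trivial
    exact ⟨⟨⟨W, hW⟩, ⟨⟨x, hx⟩⟩⟩, hx⟩
  obtain ⟨U₀, -⟩ := hI (genericPoint X)
  refine ⟨(a, (p U₀).2), ?_, ?_⟩
  · refine Curves2.TorusUnits.eq_of_appTop_ι (fun U : I => Curves2.TorusUnits.PU X n U.1.1) (fun z => hI _) fun U => ?_
    rw [map_mul, hp U, hunit U, Curves2.TorusUnits.pr_top, hconst U U₀]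
    rfl
  · rintro ⟨b, e⟩ hbe
    have hbe' : v = (prod.fst : X ⨯ Spec (Curves2.TorusUnits.T n) ⟶ X).appTop (b : Γ(X, ⊤)) *
        Curves2.TorusUnits.tm X n e := hbe
    show (b, e) = (a, (p U₀).2)
    refine Prod.ext (Units.ext ?_) ?_
    · show (b : Γ(X, ⊤)) = σ.appTop (hv.unit : _)
      rw [IsUnit.unit_spec, hbe', map_mul, hσt, mul_one, ← CommRingCat.comp_apply, ← Scheme.Hom.comp_appTop,
        hσ1, Scheme.Hom.id_appTop, CommRingCat.id_apply]
    · show e = (p U₀).2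
      refine congrArg Prod.snd (hp' U₀ (Units.map U₀.1.1.ι.appTop.hom.toMonoidHom b, e) ?_)
      show _ = Curves2.TorusUnits.pr X n U₀.1.1 (U₀.1.1.ι.appTop (b : Γ(X, ⊤))) * _
      rw [Curves2.TorusUnits.pr_top, ← map_mul, ← hbe']

end Groth.Agent.S13798
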