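import Groth.Statements.S13799
import Groth.Agent.Fib44.ConstTorsion

set_option autoImplicit false
universe u
open CategoryTheory Opposite
open CohSite

namespace Groth.Agent.S13799

/-- On a site, take a torsion-free abelian group A, and let φ be a locally nonzero global section of the
constant sheaf ℤ, viewed as an endomorphism of the constant abelian sheaf ℤ: there are objects U_i
which cover every object of the site locally and nonzero integers n_i such that φ is multiplication
by n_i on every object over U_i. Then the first cohomology H¹(A) of the constant sheaf on A (the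
Ext-based sheaf cohomology of the site) has no φ-torsion: a class x with φ · x = 0 is zero, where φ
acts on H¹(A) = Ext¹(ℤ, A) by precomposition. (The published statement takes the section in the
constant sheaf of A itself, with a module structure over its global sections that is defined for A =
ℤ; this row lets a locally nonzero section of the constant sheaf ℤ act on H¹(A), which is the
published statement when A = ℤ and is what the published proof establishes for any torsion-free A.
The published definition of a locally nonzero section also asks the covering family to be nonempty;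
when it is empty every sheaf is terminal and the conclusion holds trivially, so that condition is
omitted.) -/
theorem result {C : Type u} [SmallCategory C] (J : GrothendieckTopology C)
    {A : Type u} [AddCommGroup A] (hA : ∀ (m : ℤ) (a : A), m ≠ 0 → m • a = 0 → a = 0)
    (φ : (constantSheaf J AddCommGrpCat.{u}).obj (AddCommGrpCat.of (ULift.{u} ℤ)) ⟶
      (constantSheaf J AddCommGrpCat.{u}).obj (AddCommGrpCat.of (ULift.{u} ℤ)))
    {ι : Type u} (U : ι → C) (n : ι → ℤ) (hn : ∀ i, n i ≠ 0)
    (hφ : ∀ (i : ι) (V : C) (_ : V ⟶ U i), φ.hom.app (op V) = n i • 𝟙 _)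
    (hcov : ∀ V : C, ∃ R ∈ J V, ∀ ⦃W : C⦄ (g : W ⟶ V), R g → ∃ i, Nonempty (W ⟶ U i))
    (x : Sheaf.H ((constantSheaf J AddCommGrpCat.{u}).obj (AddCommGrpCat.of A)) 1)
    (hx : (Abelian.Ext.mk₀ φ).comp x (zero_add 1) = 0) :
    x = 0 := by
  have hS := Groth.Agent.SiteCoh.injSES_shortExact
    ((constantSheaf J AddCommGrpCat.{u}).obj (AddCommGrpCat.of A))
  have : Subsingleton (Abelian.Ext.{u} ((constantSheaf J AddCommGrpCat.{u}).obj (AddCommGrpCat.of (ULift.{u} ℤ)))
      (Groth.Agent.SiteCoh.injSES ((constantSheaf J AddCommGrpCat.{u}).obj (AddCommGrpCat.of A))).X₂ (0 + 1)) :=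
    Abelian.Ext.subsingleton_of_injective _ (Injective.under _) 0
  obtain ⟨c, rfl⟩ := Groth.Agent.SiteCoh.exists_comp_extClass hS _ 0 x
  obtain ⟨z, rfl⟩ := Abelian.Ext.addEquiv₀.symm.surjective c
  have h0 : (Abelian.Ext.mk₀ (φ ≫ z)).comp hS.extClass (zero_add 1) = 0 :=
    (congrArg (fun e => e.comp hS.extClass (zero_add 1)) (Abelian.Ext.mk₀_comp_mk₀ φ z).symm).trans
      ((Abelian.Ext.comp_assoc_of_second_deg_zero _ _ _ _).trans hx)
  obtain ⟨c, hc⟩ := Abelian.Ext.covariant_sequence_exact₃ _ hS _ rfl h0
  obtain ⟨w, rfl⟩ := Abelian.Ext.addEquiv₀.symm.surjective c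
  have hw : w ≫ (Groth.Agent.SiteCoh.injSES
      ((constantSheaf J AddCommGrpCat.{u}).obj (AddCommGrpCat.of A))).g = φ ≫ z :=
    Abelian.Ext.addEquiv₀.symm.injective ((Abelian.Ext.mk₀_comp_mk₀ w _).symm.trans hc)
  obtain ⟨y, rfl⟩ := Groth.Agent.Fib44.Const.exists_lift_of_smul J
    (S := Groth.Agent.SiteCoh.injSES ((constantSheaf J AddCommGrpCat.{u}).obj (AddCommGrpCat.of A)))
    (Iso.refl _) hS hA U n hn hφ hcov z w hw
  refine (congrArg (fun e => e.comp hS.extClass (zero_add 1))
    (Abelian.Ext.mk₀_comp_mk₀ y _).symm).trans ?_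
  refine (Abelian.Ext.comp_assoc_of_second_deg_zero _ _ _ _).trans ?_
  exact (congrArg (fun e => (Abelian.Ext.mk₀ y).comp e (zero_add 1)) hS.comp_extClass).trans
    (Abelian.Ext.comp_zero _ _ _ _ _)

end Groth.Agent.S13799
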