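import Groth.Statements.S1380
import Groth.Agent.LimTop61.IntegralSplit

set_option autoImplicit false
set_option linter.style.haveILetI false
universe u
open FlatMor

namespace Groth.Agent.S1380

open TensorProduct in
/-- Let R → S be integral and p a prime of R with only finitely many primes of S above it, such that for
each of them the separable closure of κ(p) in its residue field is finite over κ(p). Then there are
an étale R-algebra R' and a prime p' of R' over p such that R' ⊗ S is a finite product of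
R'-algebras, each integral over R' with exactly one prime over p', whose residue field is purely
inseparable over κ(p'). -/
theorem result {R S : Type u} [CommRing R] [CommRing S] [Algebra R S] [Algebra.IsIntegral R S]
    (p : Ideal R) [p.IsPrime] (hfin : {q : PrimeSpectrum S | q.asIdeal.comap (algebraMap R S) = p}.Finite)
    (hsep : ∀ (q : PrimeSpectrum S) (hq : q.asIdeal.comap (algebraMap R S) = p),
      letI := (Ideal.ResidueField.map p q.asIdeal (algebraMap R S) hq.symm).toAlgebra
      Module.Finite p.ResidueField (separableClosure p.ResidueField q.asIdeal.ResidueField)) :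
    ∃ (R' : Type u) (_ : CommRing R') (_ : Algebra R R') (p' : PrimeSpectrum R'), Algebra.Etale R R' ∧ p'.asIdeal.comap (algebraMap R R') = p ∧
      ∃ (m : ℕ) (A : Fin m → Type u) (_ : ∀ j, CommRing (A j)) (_ : ∀ j, Algebra R' (A j)) (e : R' ⊗[R] S ≃ₐ[R'] (Π j, A j)),
        ∀ j, Algebra.IsIntegral R' (A j) ∧ ∃ (r : PrimeSpectrum (A j)) (hr : r.asIdeal.comap (algebraMap R' (A j)) = p'.asIdeal),
          (∀ r' : PrimeSpectrum (A j), r'.asIdeal.comap (algebraMap R' (A j)) = p'.asIdeal → r' = r) ∧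
          letI := (Ideal.ResidueField.map p'.asIdeal r.asIdeal (algebraMap R' (A j)) hr.symm).toAlgebra
          IsPurelyInseparable p'.asIdeal.ResidueField r.asIdeal.ResidueField := by
  obtain ⟨S₀, hS₀, hdet⟩ := Groth.Agent.LimTop61.exists_detecting_subalgebra p hfin hsep
  haveI := hS₀
  obtain ⟨R', _, _, p', hp'P, het, hp'p, m, e, v, he, hv⟩ :=
    Groth.Agent.LimTop61.exists_etale_split_finite (S := S₀) p
  let ψ : R' ⊗[R] S₀ →ₐ[R'] R' ⊗[R] S := Algebra.TensorProduct.map (AlgHom.id R' R') S₀.val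
  let e' : Fin m → R' ⊗[R] S := fun j => ψ (e j)
  have he' : CompleteOrthogonalIdempotents e' := he.map ψ.toRingHom
  let A : Fin m → Type u := fun j => (R' ⊗[R] S) ⧸ Ideal.span {1 - e' j}
  -- two geometric points in one piece over the prime agree
  have key : ∀ (j : Fin m) (K : Type u) [Field K] [IsAlgClosed K] (Φ Φ' : R' ⊗[R] S →+* K),
      Φ (e' j) ≠ 0 → Φ' (e' j) ≠ 0 → Φ.comp (algebraMap R' _) = Φ'.comp (algebraMap R' _) →
      (RingHom.ker Φ).comap (algebraMap R' _) = p' → Φ = Φ' := by
    intro j K _ _ Φ Φ' h1 h2 hR hp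
    obtain ⟨-, -, huniq, hPI⟩ := hv j
    have hp2 : (RingHom.ker Φ').comap (algebraMap R' _) = p' := by
      rw [← hp, RingHom.comap_ker, RingHom.comap_ker, hR]
    have hk : ∀ X : R' ⊗[R] S →+* K, X (e' j) ≠ 0 → (RingHom.ker X).comap (algebraMap R' _) = p' →
        RingHom.ker (X.comp ψ.toRingHom) = (v j).asIdeal := fun X hX hXp => by
      refine congrArg PrimeSpectrum.asIdeal (huniq ⟨RingHom.ker (X.comp ψ.toRingHom),
        RingHom.ker_isPrime _⟩ hX ?_)
      rw [← hXp, RingHom.comap_ker, RingHom.comap_ker, RingHom.comp_assoc]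
      congr 2
    have h0 : Φ.comp ψ.toRingHom = Φ'.comp ψ.toRingHom :=
      hPI K _ _ (hk Φ h1 hp) (hk Φ' h2 hp2) (by
        rw [RingHom.comp_assoc, RingHom.comp_assoc]
        convert hR using 2 <;> exact ψ.comp_algebraMap)
    let ι : S →+* R' ⊗[R] S := (Algebra.TensorProduct.includeRight : S →ₐ[R] R' ⊗[R] S).toRingHom
    have hι : ι.comp (algebraMap R S) = (algebraMap R' (R' ⊗[R] S)).comp (algebraMap R R') :=
      RingHom.ext fun r => by
        show ι (algebraMap R S r) = algebraMap R' _ (algebraMap R R' r)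
        rw [← IsScalarTower.algebraMap_apply]
        exact (Algebra.TensorProduct.includeRight : S →ₐ[R] R' ⊗[R] S).commutes r
    have hS : Φ.comp ι = Φ'.comp ι := by
      refine hdet K _ _ ?_ ?_ fun x hx => ?_
      · rw [RingHom.comp_assoc, RingHom.comp_assoc, hι, ← RingHom.comp_assoc, ← RingHom.comp_assoc, hR]
      · rw [RingHom.comap_ker, RingHom.comp_assoc, hι, ← RingHom.comp_assoc, ← RingHom.comap_ker,
          ← RingHom.comap_ker, hp, hp'p]
      · have := RingHom.congr_fun h0 (1 ⊗ₜ ⟨x, hx⟩)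
        simpa [ψ, ι] using this
    refine RingHom.ext fun z => ?_
    induction z using TensorProduct.induction_on with
    | zero => simp
    | tmul a b =>
      rw [show a ⊗ₜ[R] b = algebraMap R' (R' ⊗[R] S) a * ι b by simp [ι], map_mul, map_mul]
      exact congr_arg₂ (· * ·) (RingHom.congr_fun hR a) (RingHom.congr_fun hS b)
    | add x y hx hy => rw [map_add, map_add, hx, hy]
  have hone : ∀ (j : Fin m) (K : Type u) [Field K] (Φ : A j →+* K),
      (Φ.comp (Ideal.Quotient.mk _)) (e' j) ≠ 0 := fun j K _ Φ h => by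
    have : Ideal.Quotient.mk (Ideal.span {1 - e' j}) (1 : R' ⊗[R] S) = Ideal.Quotient.mk _ (e' j) :=
      Ideal.Quotient.eq.2 (Ideal.subset_span rfl)
    change Φ (Ideal.Quotient.mk _ (e' j)) = 0 at h
    rw [← this, map_one, map_one] at h
    exact one_ne_zero h
  have key' : ∀ (j : Fin m) (K : Type u) [Field K] [IsAlgClosed K] (Φ Φ' : A j →+* K),
      Φ.comp (algebraMap R' (A j)) = Φ'.comp (algebraMap R' (A j)) →
      (RingHom.ker Φ).comap (algebraMap R' (A j)) = p' → Φ = Φ' := by
    intro j K _ _ Φ Φ' hR hp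
    refine Ideal.Quotient.ringHom_ext (key j K _ _ (hone j K Φ) (hone j K Φ') hR ?_)
    rw [← hp, RingHom.comap_ker, RingHom.comap_ker]
    rfl
  let π : R' ⊗[R] S →ₐ[R'] (Π j, A j) := Pi.algHom _ _ fun j => Ideal.Quotient.mkₐ R' _
  have hπ : Function.Bijective π := he'.bijective_pi
  refine ⟨R', inferInstance, inferInstance, ⟨p', hp'P⟩, het, hp'p, m, A, inferInstance, inferInstance,
    AlgEquiv.ofBijective π hπ, fun j => ⟨inferInstance, ?_⟩⟩
  obtain ⟨hev, hvp', -, -⟩ := hv j
  -- a point in the piece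
  obtain ⟨r, hr⟩ : ∃ r : PrimeSpectrum (A j), r.asIdeal.comap (algebraMap R' (A j)) = p' := by
    obtain ⟨K, _, _, ψ₀, hψ₀⟩ := Groth.Agent.LimTop61.exists_geom_point (v j).asIdeal
    obtain ⟨Φ, hΦψ⟩ := Groth.Agent.LimTop61.exists_lift_tensor S₀ ψ₀
    have hΦe : Φ (e' j) = 1 := by
      have h0 : IsIdempotentElem (Φ (e' j)) := (he'.idem j).map Φ
      refine (IsIdempotentElem.iff_eq_zero_or_one.1 h0).resolve_left fun h => hev ?_
      rw [← hψ₀, RingHom.mem_ker, ← hΦψ]
      exact h
    let Φ' : A j →+* K := Ideal.Quotient.lift _ Φ (by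
      intro a ha
      obtain ⟨b, rfl⟩ := Ideal.mem_span_singleton'.1 ha
      simp [hΦe])
    refine ⟨⟨RingHom.ker Φ', RingHom.ker_isPrime _⟩, ?_⟩
    rw [← hvp', ← hψ₀, RingHom.comap_ker, RingHom.comap_ker]
    congr 1
    ext a
    show Φ (algebraMap R' _ a) = ψ₀ (algebraMap R' _ a)
    rw [← hΦψ, AlgHom.commutes]
  exact ⟨r, hr, Groth.Agent.LimTop61.purelyInseparable_of_unique_point p' (key' j) r hr⟩

end Groth.Agent.S1380
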