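import Groth.Statements.S13801
import Mathlib.NumberTheory.Padics.PadicVal.Basic
import Mathlib.Data.Nat.Factorial.BigOperators

set_option autoImplicit false
open ChowMon

namespace Groth.Agent.S13801

/-- For a prime p and positive natural numbers a_1, ..., a_k with sum n one has v_p(a_1!) + ... +
v_p(a_k!) ≤ v_p(n!), and the inequality is strict whenever some a_i is not divisible by p^(v_p(n)). -/
theorem result {k : ℕ} (p : ℕ) [Fact p.Prime]
    (a : Fin k → ℕ) (ha : ∀ i, 0 < a i) :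
    (∑ i, padicValNat p (a i).factorial ≤ padicValNat p (∑ i, a i).factorial) ∧
      ((∃ i, ¬ p ^ padicValNat p (∑ j, a j) ∣ a i) →
        ∑ i, padicValNat p (a i).factorial < padicValNat p (∑ i, a i).factorial) := by
  set n := ∑ i, a i with hn
  have hle : ∀ j, ∑ i, a i / p ^ j ≤ n / p ^ j := fun j => by
    rw [Nat.le_div_iff_mul_le (pow_pos (Fact.out : p.Prime).pos j), Finset.sum_mul]
    exact Finset.sum_le_sum fun i _ => Nat.div_mul_le_self _ _
  have hb : ∀ i, Nat.log p (a i) < Nat.log p n + 1 := fun i =>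
    Nat.lt_succ_of_le (Nat.log_mono_right (Finset.single_le_sum (fun j _ => Nat.zero_le (a j)) (Finset.mem_univ i)))
  rw [padicValNat_factorial (Nat.lt_succ_self (Nat.log p n)),
    Finset.sum_congr rfl fun i _ => padicValNat_factorial (hb i), Finset.sum_comm]
  refine ⟨Finset.sum_le_sum fun j _ => hle j, fun ⟨i, hi⟩ => ?_⟩
  set v := padicValNat p n with hv
  have hv1 : 1 ≤ v := Nat.one_le_iff_ne_zero.mpr fun h => hi (by simp [h])
  have hn0 : n ≠ 0 := (Nat.pos_iff_ne_zero).mp ((ha i).trans_le (Finset.single_le_sum (fun j _ => Nat.zero_le (a j)) (Finset.mem_univ i)))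
  have hdvd : p ^ v ∣ n := pow_padicValNat_dvd
  refine Finset.sum_lt_sum (fun j _ => hle j) ⟨v, Finset.mem_Ico.mpr ⟨hv1, Nat.lt_succ_of_le
    (Nat.le_log_of_pow_le (Fact.out : p.Prime).one_lt (Nat.le_of_dvd (Nat.pos_of_ne_zero hn0) hdvd))⟩, ?_⟩
  refine Nat.lt_of_mul_lt_mul_right (a := p ^ v) ?_
  rw [Nat.div_mul_cancel hdvd, Finset.sum_mul]
  refine Finset.sum_lt_sum (fun j _ => Nat.div_mul_le_self _ _) ⟨i, Finset.mem_univ i, ?_⟩
  exact lt_of_le_of_ne (Nat.div_mul_le_self _ _) fun h => hi ⟨_, (h.symm.trans (Nat.mul_comm _ _))⟩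

end Groth.Agent.S13801
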