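import Groth.Statements.S13807
import Groth.Agent.EtaPt32.MRing
-- import your own Groth.Agent.* helpers here

set_option autoImplicit false
universe u
open EtaPt

namespace Groth.Agent.S13807

open Groth.Agent.EtaPt32

/-- For a field K the pointwise ring M_η(K) is all of N_η(K) = F(k((0))). Here η is a natural
transformation from the identity of the category of fields to an endofunctor F with F(η_K) bijective
and η_K purely inseparable for every field K, N_η(A) is the product of the F(k(p)) over the primes p
of A with diagonal map t_A, and M_η(A) ⊆ N_η(A) is the subring of elements sent into the range of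
t_R by every ring map from A to a valuation ring R at whose fraction field η is bijective; q_A : A →
M_η(A) is the corestriction of t_A. -/
theorem result (η : EtaPt.FieldEndo.{u}) (K : Type u) [Field K] : η.M K = ⊤ := by
  refine eq_top_iff.mpr fun x _ => ?_
  by_cases h1 : ringExpChar K = 1
  · refine mem_M_of_forall η fun R _ _ _ hR g => ?_
    let P : PrimeSpectrum K := ⟨⊥, Ideal.isPrime_bot⟩
    have hP : Function.Bijective (η.eta P.asIdeal.ResidueField) :=
      bijective_eta_of_ringEquiv η (Ideal.algEquivResidueFieldOfField P.asIdeal).toRingEquiv
        (bijective_eta_of_ringExpChar_eq_one η h1)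
    obtain ⟨c, hc⟩ := hP.2 (x P)
    obtain ⟨a, rfl⟩ := (Ideal.algEquivResidueFieldOfField P.asIdeal).surjective c
    have hx : x = η.t K a := funext fun Q => by
      obtain rfl : Q = P := PrimeSpectrum.ext Q.asIdeal.eq_bot_of_prime
      exact hc.symm
    exact ⟨g a, fun L _ u => by rw [hx, ev_t]; rfl⟩
  · obtain ⟨p, hp⟩ := CharP.exists K
    have hp' : p.Prime := by
      refine (CharP.char_is_prime_or_zero K p).resolve_right fun h0 => h1 ?_
      subst h0
      have := CharP.charP_to_charZero K
      exact ringExpChar.eq_one _
    have := Fact.mk hp'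
    let P : PrimeSpectrum K := ⟨⊥, Ideal.isPrime_bot⟩
    obtain ⟨n, c, hc⟩ := η.exists_pow_mem_range_eta P.asIdeal.ResidueField (x P)
    have hP : CharP P.asIdeal.ResidueField p :=
      charP_of_injective_ringHom (algebraMap K P.asIdeal.ResidueField).injective p
    rw [ringExpChar.eq P.asIdeal.ResidueField p] at hc
    obtain ⟨a, rfl⟩ := (Ideal.algEquivResidueFieldOfField P.asIdeal).surjective c
    refine mem_M_of_pow_mem η p (CharP.cast_eq_zero K p) n ?_
    rw [show x ^ p ^ n = η.t K a from funext fun Q => by
      obtain rfl : Q = P := PrimeSpectrum.ext Q.asIdeal.eq_bot_of_prime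
      exact hc.symm]
    exact η.t_mem_M K a

end Groth.Agent.S13807
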