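import Groth.Statements.S13810
import Groth.Agent.EtaPt32.Spec
-- import your own Groth.Agent.* helpers here

set_option autoImplicit false
universe u
open EtaPt

namespace Groth.Agent.S13810

open Groth.Agent.EtaPt32

variable {A B : Type u} [CommRing A] [CommRing B]

lemma range_comap_union (P : PrimeSpectrum (A × B)) :
    P ∈ Set.range (PrimeSpectrum.comap (RingHom.fst A B)) ∨
      P ∈ Set.range (PrimeSpectrum.comap (RingHom.snd A B)) := by
  obtain ⟨Q, rfl⟩ := (PrimeSpectrum.primeSpectrumProd A B).symm.surjective P
  rcases Q with Q | Q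
  · exact Or.inl ⟨Q, PrimeSpectrum.ext (by simp [Ideal.prod, Ideal.comap_top])⟩
  · exact Or.inr ⟨Q, PrimeSpectrum.ext (by simp [Ideal.prod, Ideal.comap_top])⟩

lemma exists_lift (η : EtaPt.FieldEndo.{u}) (a : η.N A) (b : η.N B) :
    ∃ x : η.N (A × B), η.Nmap (RingHom.fst A B) x = a ∧ η.Nmap (RingHom.snd A B) x = b := by
  classical
  have sA : Function.Surjective (η.Nmap (RingHom.fst A B)) :=
    Nmap_surjective η _ (PrimeSpectrum.comap_injective_of_surjective _ fun a => ⟨(a, 0), rfl⟩)
      fun _ => (bijective_map_of_bijective η _ (RingHom.SurjectiveOnStalks.residueFieldMap_bijective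
        (RingHom.surjectiveOnStalks_of_surjective fun a => ⟨(a, 0), rfl⟩) _ _ _)).2
  have sB : Function.Surjective (η.Nmap (RingHom.snd A B)) :=
    Nmap_surjective η _ (PrimeSpectrum.comap_injective_of_surjective _ fun b => ⟨(0, b), rfl⟩)
      fun _ => (bijective_map_of_bijective η _ (RingHom.SurjectiveOnStalks.residueFieldMap_bijective
        (RingHom.surjectiveOnStalks_of_surjective fun b => ⟨(0, b), rfl⟩) _ _ _)).2
  obtain ⟨xa, rfl⟩ := sA a
  obtain ⟨xb, rfl⟩ := sB b
  refine ⟨fun P => if P ∈ Set.range (PrimeSpectrum.comap (RingHom.fst A B)) then xa P else xb P,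
    ?_, ?_⟩
  · funext Q
    exact congrArg (η.map _) (if_pos ⟨Q, rfl⟩)
  · funext Q
    refine congrArg (η.map _) (if_neg ?_)
    rintro ⟨Q', e⟩
    have e' := congrArg PrimeSpectrum.asIdeal e
    have h1 : ((0, 1) : A × B) ∈ (PrimeSpectrum.comap (RingHom.fst A B) Q').asIdeal :=
      zero_mem Q'.asIdeal
    rw [e'] at h1
    exact Q.isPrime.ne_top ((Ideal.eq_top_iff_one _).mpr h1)

/-- For commutative rings A and B, the pair of maps N_η of the two projections restricts to a bijection
from M_η(A × B) onto M_η(A) × M_η(B). Here η is a natural transformation from the identity of the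
category of fields to an endofunctor F with F(η_K) bijective and η_K purely inseparable for every
field K, N_η(A) is the product of the F(k(p)) over the primes p of A with diagonal map t_A, and
M_η(A) ⊆ N_η(A) is the subring of elements sent into the range of t_R by every ring map from A to a
valuation ring R at whose fraction field η is bijective; q_A : A → M_η(A) is the corestriction of
t_A. -/
theorem result (η : EtaPt.FieldEndo.{u}) (A B : Type u) [CommRing A] [CommRing B] :
    Set.BijOn (fun x : η.N (A × B) => (η.Nmap (RingHom.fst A B) x, η.Nmap (RingHom.snd A B) x))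
      (η.M (A × B)) ((η.M A : Set (η.N A)) ×ˢ (η.M B : Set (η.N B))) := by
  refine ⟨fun x hx => ⟨Nmap_mem_M η _ hx, Nmap_mem_M η _ hx⟩, fun x _ y _ e => ?_, fun y hy => ?_⟩
  · funext P
    rcases range_comap_union P with ⟨Q, rfl⟩ | ⟨Q, rfl⟩
    · exact (η.map _).injective (congrFun (congrArg Prod.fst e) Q)
    · exact (η.map _).injective (congrFun (congrArg Prod.snd e) Q)
  · obtain ⟨x, h1, h2⟩ := exists_lift η y.1 y.2
    refine ⟨x, ?_, Prod.ext h1 h2⟩
    intro R _ _ _ hR g
    have hi : g (1, 0) * g (0, 1) = 0 := by
      rw [← map_mul, show ((1 : A), (0 : B)) * ((0 : A), (1 : B)) = 0 by ext <;> simp, map_zero]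
    have hs : g (1, 0) + g (0, 1) = 1 := by
      rw [← map_add, show ((1 : A), (0 : B)) + ((0 : A), (1 : B)) = 1 by ext <;> simp, map_one]
    rcases mul_eq_zero.mp hi with h | h
    · let g' : B →+* R :=
        { toFun := fun b => g (0, b)
          map_one' := by rwa [h, zero_add] at hs
          map_mul' := fun a b => by rw [← map_mul]; simp
          map_zero' := (congrArg g (Prod.ext rfl rfl)).trans (map_zero g)
          map_add' := fun a b => by rw [← map_add]; simp }
      have hg : g'.comp (RingHom.snd A B) = g := by
        ext ⟨a, b⟩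
        change g (0, b) = g (a, b)
        rw [show ((a, b) : A × B) = (a, 0) * (1, 0) + (0, b) by simp, map_add, map_mul, h]
        simp
      rw [← hg, Nmap_comp, h2]
      exact hy.2 R hR g'
    · let g' : A →+* R :=
        { toFun := fun a => g (a, 0)
          map_one' := by rwa [h, add_zero] at hs
          map_mul' := fun a b => by rw [← map_mul]; simp
          map_zero' := (congrArg g (Prod.ext rfl rfl)).trans (map_zero g)
          map_add' := fun a b => by rw [← map_add]; simp }
      have hg : g'.comp (RingHom.fst A B) = g := by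
        ext ⟨a, b⟩
        change g (a, 0) = g (a, b)
        rw [show ((a, b) : A × B) = (a, 0) + (0, b) * (0, 1) by simp, map_add, map_mul, h]
        simp
      rw [← hg, Nmap_comp, h1]
      exact hy.1 R hR g'

end Groth.Agent.S13810
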