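import Groth.Statements.S13814
import Groth.Agent.EtaPt32.Val
-- import your own Groth.Agent.* helpers here

set_option autoImplicit false
universe u
open EtaPt

namespace Groth.Agent.S13814

open Groth.Agent.EtaPt32

/-- Let R be a valuation ring with fraction field K = k((0)) such that η is bijective at K, or such that
every field of the same characteristic as R at which η is bijective is perfect. Then the ring M_η(R)
is again a valuation ring, every element of F(K) is a quotient of generic components of elements of
M_η(R), and an element of F(K) that is both the generic component of an element of M_η(R) and in the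
image of K comes from R. (The published statement assumes nothing about η beyond the standing
conditions, and then fails: for the endofunctor equal to the perfect closure on the fields of
characteristic 2 and transcendence degree at least 2 over the prime field and to the identity on
every other field, and R = F_2(s)[t] localised at (t), neither of the elements (s^(1/2) t, 0) and
(t, 0) of M_η(R) ⊆ F(K) × F_2(s) divides the other, so M_η(R) is not a valuation ring. This row
assumes that η is bijective at Frac R, or that every field of the same characteristic as R at which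
η is bijective is perfect; both the identity and the perfect closure satisfy this.) Here η is a
natural transformation from the identity of the category of fields to an endofunctor F with F(η_K)
bijective and η_K purely inseparable for every field K, N_η(A) is the product of the F(k(p)) over
the primes p of A with diagonal map t_A, and M_η(A) ⊆ N_η(A) is the subring of elements sent into
the range of t_R by every ring map from A to a valuation ring R at whose fraction field η is
bijective; q_A : A → M_η(A) is the corestriction of t_A. -/
theorem result (η : EtaPt.FieldEndo.{u}) (R : Type u) [CommRing R] [IsDomain R] [ValuationRing R]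
    (hη : η.InV R ∨ ∀ (k : Type u) [Field k], ringChar k = ringChar R →
      Function.Bijective (η.eta k) → PerfectField k) :
    IsDomain (η.M R) ∧ PreValuationRing (η.M R) ∧
      (∀ y : η.obj (⊥ : Ideal R).ResidueField, ∃ a b : η.M R,
        (b : η.N R) ⟨⊥, Ideal.isPrime_bot⟩ ≠ 0 ∧
          y * (b : η.N R) ⟨⊥, Ideal.isPrime_bot⟩ = (a : η.N R) ⟨⊥, Ideal.isPrime_bot⟩) ∧
      (fun x : η.N R => x ⟨⊥, Ideal.isPrime_bot⟩) '' (η.M R : Set (η.N R)) ∩
          Set.range (η.eta (⊥ : Ideal R).ResidueField) =
        Set.range ((η.eta (⊥ : Ideal R).ResidueField).comp (algebraMap R (⊥ : Ideal R).ResidueField)) := by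
  have := isIntegrallyClosed_of_valuationRing R
  set K := (⊥ : Ideal R).ResidueField
  let e : η.M R →+* η.obj K :=
    (Pi.evalRingHom (fun p : PrimeSpectrum R => η.obj p.asIdeal.ResidueField) (genPt R)).comp
      (η.M R).subtype
  have he : Function.Injective e := fun a b h => Subtype.ext (injOn_generic η R a.2 b.2 h)
  have hlift : ∀ y : η.obj K, ((η.eta K).comp (algebraMap R K)).IsIntegralElem y →
      ∃ a : η.M R, e a = y := fun y hy => by
    obtain ⟨x, hx, hxy⟩ := exists_mem_M_of_isIntegralElem η R hη hy
    exact ⟨⟨x, hx⟩, hxy⟩
  refine ⟨he.isDomain e, ⟨fun a b => ?_⟩, fun y => ?_, ?_⟩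
  · by_cases ha : a = 0
    · exact ⟨0, Or.inr (by rw [ha, mul_zero])⟩
    by_cases hb : b = 0
    · exact ⟨0, Or.inl (by rw [hb, mul_zero])⟩
    have ha' : e a ≠ 0 := (map_ne_zero_iff e he).mpr ha
    rcases isIntegralElem_or_inv η R (e b / e a) with h | h
    · obtain ⟨c, hc⟩ := hlift _ h
      exact ⟨c, Or.inl (he (by rw [map_mul, hc, mul_div_cancel₀ _ ha']))⟩
    · obtain ⟨c, hc⟩ := hlift _ h
      refine ⟨c, Or.inr (he ?_)⟩
      rw [map_mul, hc, inv_div, mul_div_cancel₀ _ ((map_ne_zero_iff e he).mpr hb)]
  · by_cases hy : y = 0
    · refine ⟨0, 1, one_ne_zero, ?_⟩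
      subst hy
      exact zero_mul _
    rcases isIntegralElem_or_inv η R y with h | h
    · obtain ⟨c, hc⟩ := hlift _ h
      exact ⟨c, 1, one_ne_zero, (mul_one y).trans hc.symm⟩
    · obtain ⟨c, hc⟩ := hlift _ h
      refine ⟨1, c, ?_, ?_⟩
      · change e c ≠ 0
        rw [hc]
        exact inv_ne_zero hy
      · change y * e c = 1
        rw [hc, mul_inv_cancel₀ hy]
  · refine Set.ext fun z => ⟨?_, ?_⟩
    · rintro ⟨⟨x, hx, rfl⟩, c, hc⟩
      have := mem_M.isIntegralElem_apply η hx (genPt R)
      obtain ⟨a, rfl⟩ := mem_range_of_isIntegralElem η R c (by rw [hc]; exact this)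
      exact ⟨a, hc⟩
    · rintro ⟨a, rfl⟩
      exact ⟨⟨η.t R a, η.t_mem_M R a, rfl⟩, _, rfl⟩

end Groth.Agent.S13814
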