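import Groth.Statements.S13816
import Groth.Agent.EtaPt32.Spec
import Mathlib.FieldTheory.IsAlgClosed.AlgebraicClosure
-- import your own Groth.Agent.* helpers here

set_option autoImplicit false
universe u
open EtaPt

namespace Groth.Agent.S13816

open Groth.Agent.EtaPt32

lemma exists_extend {A B : Type u} [CommRing A] [CommRing B] (f : A →+* B) (hf : f.IsIntegral)
    {L : Type u} [Field L] (gL : A →+* L) (q : Ideal B) [q.IsPrime]
    (hq : q.comap f = RingHom.ker gL) :
    ∃ h : B →+* AlgebraicClosure L, h.comp f = (algebraMap L (AlgebraicClosure L)).comp gL := by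
  let p := q.comap f
  let _ : Algebra A B := f.toAlgebra
  let g0 : A ⧸ p →+* AlgebraicClosure L := (algebraMap L (AlgebraicClosure L)).comp
    (Ideal.Quotient.lift p gL fun a ha => hq.le ha)
  have hg0 : Function.Injective g0 := (algebraMap L (AlgebraicClosure L)).injective.comp
    (RingHom.lift_injective_of_ker_le_ideal p _ hq.ge)
  let _ : Algebra (A ⧸ p) (AlgebraicClosure L) := g0.toAlgebra
  let φ : A ⧸ p →+* B ⧸ q := Ideal.quotientMap q f le_rfl
  let _ : Algebra (A ⧸ p) (B ⧸ q) := φ.toAlgebra
  have : FaithfulSMul (A ⧸ p) (B ⧸ q) :=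
    (faithfulSMul_iff_algebraMap_injective _ _).mpr Ideal.quotientMap_injective
  have : FaithfulSMul (A ⧸ p) (AlgebraicClosure L) :=
    (faithfulSMul_iff_algebraMap_injective _ _).mpr hg0
  have : Algebra.IsIntegral (A ⧸ p) (B ⧸ q) := ⟨fun b => by
    obtain ⟨b, rfl⟩ := Ideal.Quotient.mk_surjective b
    obtain ⟨P, hP, hP0⟩ := hf b
    refine ⟨P.map (Ideal.Quotient.mk p), hP.map _, ?_⟩
    rw [Polynomial.eval₂_map]
    have := congrArg (Ideal.Quotient.mk q) hP0
    rwa [Polynomial.hom_eval₂, map_zero] at this⟩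
  have : Algebra.IsAlgebraic (A ⧸ p) (B ⧸ q) := Algebra.IsIntegral.isAlgebraic
  let σ : B ⧸ q →ₐ[A ⧸ p] AlgebraicClosure L := IsAlgClosed.lift
  refine ⟨σ.toRingHom.comp (Ideal.Quotient.mk q), RingHom.ext fun a => ?_⟩
  exact σ.commutes (Ideal.Quotient.mk p a)

/-- If f : A → B is an integral ring map with Spec(f) surjective, then an element of N_η(A) lies in
M_η(A) if and only if its image under N_η(f) lies in M_η(B). Here η is a natural transformation from
the identity of the category of fields to an endofunctor F with F(η_K) bijective and η_K purely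
inseparable for every field K, N_η(A) is the product of the F(k(p)) over the primes p of A with
diagonal map t_A, and M_η(A) ⊆ N_η(A) is the subring of elements sent into the range of t_R by every
ring map from A to a valuation ring R at whose fraction field η is bijective; q_A : A → M_η(A) is
the corestriction of t_A. -/
theorem result (η : EtaPt.FieldEndo.{u}) {A B : Type u} [CommRing A] [CommRing B] (f : A →+* B)
    (hf : f.IsIntegral) (hs : Function.Surjective (PrimeSpectrum.comap f)) (x : η.N A) :
    x ∈ η.M A ↔ η.Nmap f x ∈ η.M B := by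
  refine ⟨Nmap_mem_M η f, fun hfx => mem_M_of_residue η fun R _ _ _ hR g => ?_⟩
  let L := FractionRing R
  let gL : A →+* L := (algebraMap R L).comp g
  obtain ⟨⟨q, hq⟩, hqc⟩ := hs (kerPt gL)
  have hqc' : Ideal.comap f q = RingHom.ker gL := congrArg PrimeSpectrum.asIdeal hqc
  obtain ⟨h₀, hh₀⟩ := exists_extend f hf gL q hqc'
  let L'' := η.obj (AlgebraicClosure L)
  let ι : L →+* L'' := (η.eta _).comp (algebraMap L (AlgebraicClosure L))
  let h : B →+* L'' := (η.eta _).comp h₀
  have hhf : h.comp f = (ι.comp (algebraMap R L)).comp g := by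
    rw [RingHom.comp_assoc, hh₀]; rfl
  obtain ⟨ρ, hρ⟩ := hR.2 (ev η gL x)
  have key : ∀ Q : PrimeSpectrum R, ∃ (O : ValuationSubring L'') (g' : R →+* O) (r'' : O),
      O.subtype.comp g' = ι.comp (algebraMap R L) ∧
      (IsLocalRing.maximalIdeal O).comap g' = Q.asIdeal ∧ (r'' : L'') = ι ρ ∧
      ev η (((IsLocalRing.residue O).comp g').comp g) x = η.eta _ (IsLocalRing.residue O r'') := by
    intro Q
    obtain ⟨O, g', hg', hc⟩ := exists_valuationSubring_center (ι.comp (algebraMap R L)) Q.asIdeal
      (by rw [(RingHom.injective_iff_ker_eq_bot _).mp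
        (show Function.Injective (ι.comp (algebraMap R L)) from
          fun a b e => IsFractionRing.injective R L (ι.injective e))]; exact bot_le)
    have hmem : ∀ b, h b ∈ O := by
      intro b
      obtain ⟨p, hp, hp0⟩ := hf b
      have hint : IsIntegral O (h b) := by
        refine ⟨p.map (g'.comp g), hp.map _, ?_⟩
        rw [Polynomial.eval₂_map]
        have := congrArg h hp0
        rw [Polynomial.hom_eval₂, map_zero, hhf, ← hg'] at this
        exact this
      obtain ⟨z, hz⟩ := IsIntegrallyClosed.isIntegral_iff.mp hint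
      exact hz ▸ z.2
    let hO : B →+* O := h.codRestrict O.toSubring hmem
    have hOf : hO.comp f = g'.comp g := RingHom.ext fun a => Subtype.ext <| by
      exact (congr($hhf a)).trans (congr($hg' (g a))).symm
    have hbij := bijective_eta_obj η (AlgebraicClosure L)
    obtain ⟨r'', hr''⟩ := mem_M.exists_valuationSubring η hfx O hbij hO
    refine ⟨O, g', r'', hg', hc, ?_, ?_⟩
    · apply hbij.1
      rw [hr'', ev_Nmap, RingHom.comp_assoc, hOf, ← RingHom.comp_assoc, hg', RingHom.comp_assoc,
        ev_comp, ← hρ, eta_natural_apply]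
    · rw [RingHom.comp_assoc, ← hOf, ← RingHom.comp_assoc, ← ev_Nmap]
      exact mem_M.ev_residue η hfx O hbij hO hr'' _ _
  have hρR : ρ ∈ (algebraMap R L).range := by
    obtain ⟨O, g', r'', hg', hc, hr, -⟩ :=
      key ⟨IsLocalRing.maximalIdeal R, (IsLocalRing.maximalIdeal.isMaximal R).isPrime⟩
    by_cases hρ0 : ρ = 0
    · exact ⟨0, by rw [map_zero, hρ0]⟩
    rcases ValuationRing.isInteger_or_isInteger R ρ with hi | ⟨a, ha⟩
    · exact hi
    by_cases hu : IsUnit a
    · obtain ⟨v, rfl⟩ := hu
      exact ⟨↑v⁻¹, by rw [map_units_inv, ha, inv_inv]⟩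
    · exfalso
      have ha' : g' a ∈ IsLocalRing.maximalIdeal O := by
        rw [← Ideal.mem_comap, hc]
        exact (IsLocalRing.mem_maximalIdeal a).mpr hu
      refine (IsLocalRing.mem_maximalIdeal _).mp ha' ?_
      refine IsUnit.of_mul_eq_one r'' (Subtype.ext ?_)
      change ((g' a : O) : L'') * (r'' : L'') = 1
      rw [hr, show ((g' a : O) : L'') = ι (algebraMap R L a) from congr($hg' a), ha, ← map_mul,
        inv_mul_cancel₀ hρ0, map_one]
  obtain ⟨r, rfl⟩ := hρR
  refine ⟨r, fun Q => ?_⟩
  obtain ⟨O, g', r'', hg', hc, hr, hev⟩ := key Q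
  obtain rfl : r'' = g' r := Subtype.ext (hr.trans (congr($hg' r)).symm)
  let u := (IsLocalRing.residue O).comp g'
  let j : Q.asIdeal.ResidueField →+* IsLocalRing.ResidueField O :=
    Ideal.ResidueField.lift _ u (by rw [ker_comp_residue, hc]) fun a ha =>
      isUnit_iff_ne_zero.mpr fun e => ha (by rw [← hc, ← ker_comp_residue]; exact e)
  have hj' : ∀ a, j (algebraMap R _ a) = u a := fun a =>
    Ideal.ResidueField.lift_algebraMap _ _ _ _ a
  have hj : j.comp (algebraMap R _) = u := RingHom.ext hj'
  apply (η.map j).injective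
  rw [eta_natural_apply, ← ev_comp, ← RingHom.comp_assoc, hj, hev]
  exact congrArg _ congr($hj r).symm

end Groth.Agent.S13816
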