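import Groth.Statements.S13820
import Groth.Agent.EtaPt32.Rel
-- import your own Groth.Agent.* helpers here

set_option autoImplicit false
universe u
open EtaPt

namespace Groth.Agent.S13820

open Groth.Agent.EtaPt32

/-- Let A have finitely many minimal prime ideals and let B be an A-algebra with Spec B → Spec A
surjective, C the integral closure of A in B; then the inclusion C ⊆ B carries (C/A)_η onto (B/A)_η.
Here η is a natural transformation from the identity of the category of fields to an endofunctor F
with F(η_K) bijective and η_K purely inseparable for every field K, N_η(A) is the product of the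
F(k(p)) over the primes p of A with diagonal map t_A, and M_η(A) ⊆ N_η(A) is the subring of elements
sent into the range of t_R by every ring map from A to a valuation ring R at whose fraction field η
is bijective; q_A : A → M_η(A) is the corestriction of t_A. For a ring map f : A → B, (B/A)_η ⊆ B
denotes the subring of elements b with t_B(b) in N_η(f)(M_η(A)) (the image in B of the fibre product
of M_η(A) and B over M_η(B)), and q_{B/A} : A → (B/A)_η the corestriction of f. -/
theorem result (η : EtaPt.FieldEndo.{u}) (A B : Type u) [CommRing A] [CommRing B] [Algebra A B]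
    (hA : (minimalPrimes A).Finite) (hs : Function.Surjective (PrimeSpectrum.comap (algebraMap A B))) :
    (η.rel (algebraMap A (integralClosure A B))).map (integralClosure A B).val.toRingHom =
      η.rel (algebraMap A B) := by
  set C := integralClosure A B
  let ι : C →+* B := C.val.toRingHom
  have hcomp : ι.comp (algebraMap A C) = algebraMap A B := rfl
  have hι : Function.Injective ι := Subtype.val_injective
  refine le_antisymm ?_ fun b hb => ?_
  · rintro _ ⟨c, hc, rfl⟩
    exact map_mem_rel_of_square η (f := RingHom.id A) (g := ι) (by rw [RingHom.comp_id, hcomp]) hc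
  · obtain ⟨x, hx, e⟩ := (mem_rel_iff η).mp hb
    let c : C := ⟨b, isIntegralElem_of_mem_rel η _ hs hA hb⟩
    refine ⟨c, (mem_rel_iff η).mpr ⟨x, hx, ?_⟩, rfl⟩
    refine mem_M.ext_minimal η (Nmap_mem_M η _ hx) (η.t_mem_M C c) fun p hp => ?_
    obtain ⟨q, hq, hqp⟩ := Ideal.exists_comap_eq_of_mem_minimalPrimes_of_injective hι p.asIdeal hp
    obtain rfl : PrimeSpectrum.comap ι ⟨q, hq⟩ = p := PrimeSpectrum.ext hqp
    have he : η.Nmap ι (η.Nmap (algebraMap A C) x) = η.Nmap ι (η.t C c) := by
      rw [← Nmap_comp, hcomp, e, η.Nmap_t_apply]
      rfl
    exact (η.map _).injective (congrFun he ⟨q, hq⟩)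

end Groth.Agent.S13820
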