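import Groth.Statements.S13822
import Groth.Agent.EtaPt32.Rel
import Mathlib.RingTheory.TensorProduct.Basic
import Mathlib.RingTheory.Flat.FaithfullyFlat.Algebra
-- import your own Groth.Agent.* helpers here

set_option autoImplicit false
universe u
open scoped TensorProduct
open EtaPt

namespace Groth.Agent.S13822

open Groth.Agent.EtaPt32
open TensorProduct

lemma descend (η : EtaPt.FieldEndo.{u}) (A A' B : Type u) [CommRing A] [CommRing A'] [CommRing B]
    [Algebra A A'] [Algebra A B] [Module.FaithfullyFlat A A']
    (h : Function.Injective (Algebra.TensorProduct.includeLeftRingHom : A' →+* A' ⊗[A] B) ∧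
      ∀ y ∈ η.rel (Algebra.TensorProduct.includeLeftRingHom : A' →+* A' ⊗[A] B),
        y ∈ (Algebra.TensorProduct.includeLeftRingHom : A' →+* A' ⊗[A] B).range) :
    Function.Injective (algebraMap A B) ∧
      ∀ b ∈ η.rel (algebraMap A B), b ∈ (algebraMap A B).range := by
  obtain ⟨hi, hr⟩ := h
  refine ⟨(injective_iff_map_eq_zero _).mpr fun a ha => ?_, fun b hb => ?_⟩
  · apply (FaithfulSMul.algebraMap_injective A A')
    apply hi
    rw [map_zero, map_zero]
    change algebraMap A A' a ⊗ₜ[A] (1 : B) = 0
    rw [Algebra.algebraMap_eq_smul_one, TensorProduct.smul_tmul, ← Algebra.algebraMap_eq_smul_one,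
      ha, TensorProduct.tmul_zero]
  · obtain ⟨a', ha'⟩ := hr _ (map_mem_rel_of_square η (f := algebraMap A A')
      (g := (Algebra.TensorProduct.includeRight : B →ₐ[A] A' ⊗[A] B).toRingHom)
      (j' := (Algebra.TensorProduct.includeLeftRingHom : A' →+* A' ⊗[A] B))
      (RingHom.ext fun a => by
        change algebraMap A A' a ⊗ₜ[A] (1 : B) = (1 : A') ⊗ₜ[A] algebraMap A B a
        rw [Algebra.algebraMap_eq_smul_one, TensorProduct.smul_tmul, ← Algebra.algebraMap_eq_smul_one])
      hb)
    let N := LinearMap.range (Algebra.linearMap A B)
    let mkN : B →ₗ[A] B ⧸ N := N.mkQ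
    have h0 : (1 : A') ⊗ₜ[A] mkN b = 0 := by
      have := congrArg (LinearMap.lTensor A' mkN)
        (show a' ⊗ₜ[A] (1 : B) = (1 : A') ⊗ₜ[A] b from ha')
      rw [LinearMap.lTensor_tmul, LinearMap.lTensor_tmul] at this
      rw [← this, (Submodule.Quotient.mk_eq_zero N).mpr ⟨1, map_one (algebraMap A B)⟩ |>
        (fun e : mkN (1 : B) = 0 => e), TensorProduct.tmul_zero]
    have := (Module.FaithfullyFlat.one_tmul_eq_zero_iff A (M := B ⧸ N) (A := A') (mkN b)).mp h0
    exact (Submodule.Quotient.mk_eq_zero N).mp this

/-- Let A → A' be faithfully flat with A and A' having finitely many minimal prime ideals, and B an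
A-algebra with Spec B → Spec A surjective; if q_{(A' ⊗ B)/A'} is bijective then q_{B/A} is
bijective. Here η is a natural transformation from the identity of the category of fields to an
endofunctor F with F(η_K) bijective and η_K purely inseparable for every field K, N_η(A) is the
product of the F(k(p)) over the primes p of A with diagonal map t_A, and M_η(A) ⊆ N_η(A) is the
subring of elements sent into the range of t_R by every ring map from A to a valuation ring R at
whose fraction field η is bijective; q_A : A → M_η(A) is the corestriction of t_A. For a ring map f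
: A → B, (B/A)_η ⊆ B denotes the subring of elements b with t_B(b) in N_η(f)(M_η(A)) (the image in B
of the fibre product of M_η(A) and B over M_η(B)), and q_{B/A} : A → (B/A)_η the corestriction of f. -/
theorem result (η : EtaPt.FieldEndo.{u}) (A A' B : Type u) [CommRing A] [CommRing A'] [CommRing B]
    [Algebra A A'] [Algebra A B] [Module.FaithfullyFlat A A']
    (hA : (minimalPrimes A).Finite) (hA' : (minimalPrimes A').Finite)
    (hs : Function.Surjective (PrimeSpectrum.comap (algebraMap A B)))
    (h : Function.Bijective (η.qRel (Algebra.TensorProduct.includeLeftRingHom : A' →+* A' ⊗[A] B))) :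
    Function.Bijective (η.qRel (algebraMap A B)) := by
  rw [bijective_qRel_iff] at h ⊢
  exact descend η A A' B h

end Groth.Agent.S13822
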