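import Groth.Statements.S13823
import Groth.Agent.EtaPt32.Rel
import Groth.Agent.S13822
import Mathlib.RingTheory.IntegralClosure.IsIntegralClosure.Basic
import Mathlib.RingTheory.Localization.BaseChange
-- import your own Groth.Agent.* helpers here

set_option autoImplicit false
universe u
open EtaPt

namespace Groth.Agent.S13823

open Groth.Agent.EtaPt32
open TensorProduct
open Groth.Agent.S13822 (descend)

/-- `A' ⊗ Ā` embeds in the integral closure of `A'` in its total ring of fractions. -/
lemma exists_map (A A' : Type u) [CommRing A] [CommRing A'] [Algebra A A'] [Module.Flat A A'] :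
    ∃ g : A' ⊗[A] (integralClosure A (FractionRing A)) →+*
        integralClosure A' (FractionRing A'),
      Function.Injective g ∧
      g.comp (Algebra.TensorProduct.includeLeftRingHom) =
        algebraMap A' (integralClosure A' (FractionRing A')) := by
  have hS : Algebra.algebraMapSubmonoid A' (nonZeroDivisors A) ≤ nonZeroDivisors A' := by
    rintro _ ⟨s, hs, rfl⟩
    have hreg : IsSMulRegular A' (algebraMap A A' s) :=
      IsSMulRegular.of_flat (isRegular_iff_mem_nonZeroDivisors.mpr hs).left
    refine mem_nonZeroDivisors_iff_right.mpr fun z hz => hreg ?_
    change algebraMap A A' s * z = algebraMap A A' s * 0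
    rw [mul_zero, mul_comm, hz]
  let Q := A' ⊗[A] FractionRing A
  let _ : Algebra (FractionRing A) Q := Algebra.TensorProduct.rightAlgebra
  have : Algebra.IsPushout A A' (FractionRing A) Q := inferInstance
  have : IsLocalization (Algebra.algebraMapSubmonoid A' (nonZeroDivisors A)) Q :=
    (Algebra.isLocalization_iff_isPushout (A := FractionRing A) (nonZeroDivisors A)).mpr this
  let i2 : Q →+* FractionRing A' :=
    IsLocalization.map (T := nonZeroDivisors A') (FractionRing A') (RingHom.id A') hS
  have hi2 : Function.Injective i2 := by
    rw [injective_iff_map_eq_zero]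
    intro z hz
    obtain ⟨a, s, rfl⟩ := IsLocalization.exists_mk'_eq
      (Algebra.algebraMapSubmonoid A' (nonZeroDivisors A)) z
    rw [IsLocalization.map_mk', IsLocalization.mk'_eq_zero_iff] at hz
    obtain ⟨m, hm⟩ := hz
    have ha : a = 0 := by
      have h2 := mem_nonZeroDivisors_iff_right.mp m.2 a (by rw [mul_comm]; exact hm)
      exact h2
    rw [ha, IsLocalization.mk'_zero]
  let i1 : A' ⊗[A] (integralClosure A (FractionRing A)) →ₐ[A'] Q :=
    Algebra.TensorProduct.map (AlgHom.id A' A') (integralClosure A (FractionRing A)).val
  have hi1 : Function.Injective i1 :=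
    Module.Flat.lTensor_preserves_injective_linearMap (M := A')
      (integralClosure A (FractionRing A)).val.toLinearMap Subtype.val_injective
  let i : A' ⊗[A] (integralClosure A (FractionRing A)) →ₐ[A'] FractionRing A' :=
    { toRingHom := i2.comp i1.toRingHom
      commutes' := fun a => by
        change i2 (i1 (algebraMap A' _ a)) = _
        rw [AlgHom.commutes, IsLocalization.map_eq]
        rfl }
  have : Algebra.IsIntegral A (integralClosure A (FractionRing A)) :=
    integralClosure.AlgebraIsIntegral
  have : Algebra.IsIntegral A' (A' ⊗[A] (integralClosure A (FractionRing A))) :=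
    Algebra.IsIntegral.tensorProduct A A' _
  refine ⟨(i.codRestrict (integralClosure A' (FractionRing A'))
      fun z => (Algebra.IsIntegral.isIntegral z).map i).toRingHom,
    fun a b e => hi1 (hi2 (congrArg Subtype.val e)), RingHom.ext fun a => Subtype.ext ?_⟩
  exact i.commutes a

/-- Let A → A' be faithfully flat with A and A' having finitely many minimal prime ideals, and let Ā, Ā'
be the integral closures of A, A' in their total rings of fractions; if q_{Ā'/A'} is bijective then
q_{Ā/A} is bijective. Here η is a natural transformation from the identity of the category of fields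
to an endofunctor F with F(η_K) bijective and η_K purely inseparable for every field K, N_η(A) is
the product of the F(k(p)) over the primes p of A with diagonal map t_A, and M_η(A) ⊆ N_η(A) is the
subring of elements sent into the range of t_R by every ring map from A to a valuation ring R at
whose fraction field η is bijective; q_A : A → M_η(A) is the corestriction of t_A. For a ring map f
: A → B, (B/A)_η ⊆ B denotes the subring of elements b with t_B(b) in N_η(f)(M_η(A)) (the image in B
of the fibre product of M_η(A) and B over M_η(B)), and q_{B/A} : A → (B/A)_η the corestriction of f. -/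
theorem result (η : EtaPt.FieldEndo.{u}) (A A' : Type u) [CommRing A] [CommRing A'] [Algebra A A'] [Module.FaithfullyFlat A A']
    (hA : (minimalPrimes A).Finite) (hA' : (minimalPrimes A').Finite)
    (h : Function.Bijective (η.qRel (algebraMap A' (integralClosure A' (FractionRing A'))))) :
    Function.Bijective (η.qRel (algebraMap A (integralClosure A (FractionRing A)))) := by
  let Ā := integralClosure A (FractionRing A)
  let Ā' := integralClosure A' (FractionRing A')
  obtain ⟨hi, hr⟩ := (bijective_qRel_iff η _).mp h
  obtain ⟨g, hg, hgc⟩ := exists_map A A'
  refine (bijective_qRel_iff η _).mpr (descend η A A' Ā ⟨?_, fun y hy => ?_⟩)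
  · intro a b e
    apply hi
    rw [← hgc, RingHom.comp_apply, e, RingHom.comp_apply]
  · obtain ⟨a, ha⟩ := hr (g y)
      (map_mem_rel_of_square η (f := RingHom.id A') (g := g) (by rw [RingHom.comp_id, hgc]) hy)
    rw [← hgc] at ha
    exact ⟨a, hg ha⟩

end Groth.Agent.S13823
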