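import Groth.Statements.S13827
import Groth.Agent.EtaPt32.Val
import Mathlib.RingTheory.Ideal.MinimalPrime.Localization
-- import your own Groth.Agent.* helpers here

set_option autoImplicit false
universe u
open EtaPt

namespace Groth.Agent.S13827

open Groth.Agent.EtaPt32

lemma exists_eq_of_maximal (η : EtaPt.FieldEndo.{u}) (A : Type u) [CommRing A]
    (hn : EGA4.IsNormalRing A) (hA : (minimalPrimes A).Finite)
    (hη : ∀ p : PrimeSpectrum A, p.asIdeal ∈ minimalPrimes A →
      Function.Bijective (η.eta p.asIdeal.ResidueField))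
    (x : η.M A) (m : Ideal A) [m.IsPrime] :
    ∃ c ∉ m, ∃ a : A, η.q A a = η.q A c * x := by
  classical
  have := (hn m).1
  have := (hn m).2
  let F := FractionRing (Localization.AtPrime m)
  let h : A →+* F := (algebraMap _ F).comp (algebraMap A (Localization.AtPrime m))
  have hK : ∀ a, a ∈ RingHom.ker h ↔ algebraMap A (Localization.AtPrime m) a = 0 := fun a =>
    map_eq_zero_iff _ (IsFractionRing.injective (Localization.AtPrime m) F)
  have hKm : RingHom.ker h ≤ m := fun a ha => by
    obtain ⟨⟨c, hc⟩, hca⟩ := (IsLocalization.map_eq_zero_iff m.primeCompl _ _).mp ((hK a).mp ha)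
    exact ((Ideal.IsPrime.mem_or_mem ‹m.IsPrime› (show c * a ∈ m by rw [hca]; exact zero_mem m))
      ).resolve_left hc
  have hKle : ∀ q : Ideal A, q.IsPrime → q ≤ m → RingHom.ker h ≤ q := fun q hq hqm a ha => by
    obtain ⟨⟨c, hc⟩, hca⟩ := (IsLocalization.map_eq_zero_iff m.primeCompl _ _).mp ((hK a).mp ha)
    exact (hq.mem_or_mem (show c * a ∈ q by rw [hca]; exact zero_mem q)).resolve_left
      fun hcq => hc (hqm hcq)
  let P := kerPt h
  have hPmin : P.asIdeal ∈ minimalPrimes A :=
    ⟨⟨P.isPrime, bot_le⟩, fun q hq hqP => hKle q hq.1 (hqP.trans hKm)⟩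
  obtain ⟨y, hy⟩ := (hη P hPmin).2 ((x : η.N A) P)
  have hint : IsIntegral (Localization.AtPrime m) (liftPt h y) := by
    obtain ⟨p, hp, hp0⟩ := mem_M.isIntegralElem_apply η x.2 P
    refine ⟨p.map (algebraMap A (Localization.AtPrime m)), hp.map _, ?_⟩
    rw [← hy, ← Polynomial.hom_eval₂, map_eq_zero] at hp0
    have := congrArg (liftPt h) hp0
    rw [Polynomial.hom_eval₂, map_zero, liftPt_comp] at this
    rwa [Polynomial.eval₂_map]
  obtain ⟨z, hz⟩ := IsIntegrallyClosed.isIntegral_iff.mp hint
  obtain ⟨⟨a, s⟩, hzs⟩ := IsLocalization.surj m.primeCompl z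
  have hsy : algebraMap A P.asIdeal.ResidueField s * y = algebraMap A _ a := by
    apply (liftPt h).injective
    rw [map_mul, ← RingHom.comp_apply, liftPt_comp, ← RingHom.comp_apply, liftPt_comp, ← hz,
      mul_comm]
    exact (map_mul (algebraMap (Localization.AtPrime m) F) z _).symm.trans (congrArg _ hzs)
  have hsel : ∀ q ∈ hA.toFinset.erase P.asIdeal, ∃ e ∈ q, e ∉ m := fun q hq => by
    rw [Finset.mem_erase, Set.Finite.mem_toFinset] at hq
    refine SetLike.not_le_iff_exists.mp fun hle => hq.1 ?_
    have h1 : P.asIdeal ≤ q := hKle q hq.2.1.1 hle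
    exact le_antisymm (hq.2.2 ⟨P.isPrime, bot_le⟩ h1) h1
  choose! e he hem using hsel
  let E := ∏ q ∈ hA.toFinset.erase P.asIdeal, e q
  refine ⟨(s : A) * E, ?_, a * E, ?_⟩
  · refine fun hmem => (Ideal.IsPrime.mem_or_mem ‹m.IsPrime› hmem).elim s.2 fun hE => ?_
    obtain ⟨q, hq, hqe⟩ := (Ideal.IsPrime.prod_mem_iff).mp hE
    exact hem q hq hqe
  · refine Subtype.ext (mem_M.ext_minimal η (η.t_mem_M A _) (η.q A _ * x).2 fun q hq => ?_)
    change η.eta _ (algebraMap A _ (a * E)) = η.eta _ (algebraMap A _ ((s : A) * E)) * (x : η.N A) q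
    by_cases hqP : q = P
    · subst hqP
      rw [← hy, map_mul (algebraMap A _), map_mul (algebraMap A _), ← hsy]
      simp only [map_mul]
      ring
    · have hE : algebraMap A q.asIdeal.ResidueField E = 0 := by
        refine Ideal.algebraMap_residueField_eq_zero.mpr
          ((Ideal.IsPrime.prod_mem_iff).mpr ⟨q.asIdeal, ?_, he q.asIdeal ?_⟩)
        all_goals
          rw [Finset.mem_erase, Set.Finite.mem_toFinset]
          exact ⟨fun h => hqP (PrimeSpectrum.ext h), hq⟩
      rw [map_mul (algebraMap A _), map_mul (algebraMap A _), hE]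
      simp

/-- For a normal ring A (every localization at a prime is an integrally closed domain) with finitely
many minimal prime ideals such that η is bijective at the residue field of every minimal prime, q_A
: A → M_η(A) is bijective. Here η is a natural transformation from the identity of the category of
fields to an endofunctor F with F(η_K) bijective and η_K purely inseparable for every field K,
N_η(A) is the product of the F(k(p)) over the primes p of A with diagonal map t_A, and M_η(A) ⊆
N_η(A) is the subring of elements sent into the range of t_R by every ring map from A to a valuation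
ring R at whose fraction field η is bijective; q_A : A → M_η(A) is the corestriction of t_A. -/
theorem result (η : EtaPt.FieldEndo.{u}) (A : Type u) [CommRing A] (hn : EGA4.IsNormalRing A)
    (hA : (minimalPrimes A).Finite)
    (hη : ∀ p : PrimeSpectrum A, p.asIdeal ∈ minimalPrimes A → Function.Bijective (η.eta p.asIdeal.ResidueField)) :
    Function.Bijective (η.q A) := by
  have : IsReduced A := ⟨fun a ha => by
    by_contra ha0
    obtain ⟨m, hm, hle⟩ := Ideal.exists_le_maximal _
      (show LinearMap.ker (LinearMap.toSpanSingleton A A a) ≠ ⊤ from fun h => ha0 (by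
        simpa using (h ▸ Submodule.mem_top :
          (1 : A) ∈ LinearMap.ker (LinearMap.toSpanSingleton A A a))))
    have := (hn m).1
    have h0 : algebraMap A (Localization.AtPrime m) a = 0 :=
      (ha.map (algebraMap A (Localization.AtPrime m))).eq_zero
    obtain ⟨⟨c, hc⟩, hca⟩ := (IsLocalization.map_eq_zero_iff m.primeCompl _ _).mp h0
    exact hc (hle (by simpa using hca))⟩
  refine ⟨Groth.Agent.EtaPt32.q_injective η, fun x => ?_⟩
  let J : Ideal A :=
    { carrier := {c | ∃ a, η.q A a = η.q A c * x}
      zero_mem' := ⟨0, by simp⟩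
      add_mem' := by
        rintro c d ⟨a, ha⟩ ⟨b, hb⟩
        exact ⟨a + b, by rw [map_add, map_add, ha, hb, add_mul]⟩
      smul_mem' := by
        rintro r c ⟨a, ha⟩
        exact ⟨r * a, by rw [smul_eq_mul, map_mul, map_mul, ha, mul_assoc]⟩ }
  have hJ : J = ⊤ := by
    by_contra hne
    obtain ⟨m, hm, hle⟩ := Ideal.exists_le_maximal J hne
    obtain ⟨c, hc, hca⟩ := exists_eq_of_maximal η A hn hA hη x m
    exact hc (hle hca)
  obtain ⟨a, ha⟩ : (1 : A) ∈ J := hJ ▸ Submodule.mem_top
  exact ⟨a, by rw [ha, map_one, one_mul]⟩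

end Groth.Agent.S13827
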