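import Groth.Statements.S13834
import Mathlib.RingTheory.Ideal.GoingDown
import Mathlib.RingTheory.Ideal.MinimalPrime.Noetherian
import Mathlib.RingTheory.LocalRing.ResidueField.Fiber
import Mathlib.AlgebraicGeometry.Morphisms.Flat
import Mathlib.AlgebraicGeometry.Morphisms.FinitePresentation
import Mathlib.RingTheory.FiniteType
-- import your own Groth.Agent.* helpers here

set_option autoImplicit false
universe u
open AlgebraicGeometry
open EtaPt

namespace Groth.Agent.S13834

open TopologicalSpace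

lemma finite_minimalPrimes_of_flat (A B : Type u) [CommRing A] [CommRing B] [Algebra A B]
    [Module.Flat A B] [Algebra.FiniteType A B] (hA : (minimalPrimes A).Finite) :
    (minimalPrimes B).Finite := by
  have hmem : ∀ Q ∈ minimalPrimes B, Ideal.comap (algebraMap A B) Q ∈ minimalPrimes A := by
    intro Q hQ
    have : Q.IsPrime := hQ.1.1
    refine ⟨⟨inferInstance, bot_le⟩, fun p hp hle => ?_⟩
    have : p.IsPrime := hp.1
    have : Q.LiesOver (Q.comap (algebraMap A B)) := ⟨rfl⟩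
    obtain ⟨P, hPQ, hP, hPp⟩ := Ideal.exists_ideal_le_liesOver_of_le Q
      (p := p) (q := Q.comap (algebraMap A B)) hle
    have h1 : Q ≤ P := hQ.2 ⟨hP, bot_le⟩ hPQ
    rw [hPp.over]
    exact Ideal.comap_mono h1
  refine (hA.biUnion (t := fun p => {Q | Q ∈ minimalPrimes B ∧ Q.comap (algebraMap A B) = p})
    fun p hp => ?_).subset fun Q hQ => Set.mem_biUnion (hmem Q hQ) ⟨hQ, rfl⟩
  have : p.IsPrime := hp.1.1
  let P : PrimeSpectrum A := ⟨p, this⟩
  have : IsNoetherianRing (p.Fiber B) := Algebra.FiniteType.isNoetherianRing p.ResidueField _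
  have hF := minimalPrimes.finite_of_isNoetherianRing (p.Fiber B)
  let e := PrimeSpectrum.preimageOrderIsoFiber A B P
  refine ((hF.preimage (f := PrimeSpectrum.asIdeal (R := p.Fiber B))
    (fun a _ b _ h => PrimeSpectrum.ext h)).image (fun x => (e.symm x).1.asIdeal)).subset ?_
  rintro Q ⟨hQ, hQp⟩
  have : Q.IsPrime := hQ.1.1
  let Q' : PrimeSpectrum.comap (algebraMap A B) ⁻¹' {P} := ⟨⟨Q, this⟩, PrimeSpectrum.ext hQp⟩
  refine ⟨e Q', ⟨⟨(e Q').isPrime, bot_le⟩, fun J hJ hle => ?_⟩, by simp [Q']⟩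
  have h1 : e.symm ⟨J, hJ.1⟩ ≤ Q' := e.symm_apply_le.mpr hle
  have h2 : Q' ≤ e.symm ⟨J, hJ.1⟩ := hQ.2 ⟨(e.symm ⟨J, hJ.1⟩).1.isPrime, bot_le⟩ h1
  exact e.le_symm_apply.mp h2

lemma finite_irreducibleComponents_of_equiv {T S : Type u} [TopologicalSpace T]
    [TopologicalSpace S] (e : T ≃ₜ S) (h : (irreducibleComponents S).Finite) :
    (irreducibleComponents T).Finite := by
  refine (h.image (fun t => e ⁻¹' t)).subset fun z hz => ⟨e '' z, ?_, e.preimage_image z⟩
  rw [← e.preimage_symm]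
  exact preimage_mem_irreducibleComponents hz e.symm.isOpenEmbedding
    (by rw [e.symm.surjective.range_eq, Set.inter_univ]; exact hz.1.1)

lemma finite_irreducibleComponents_of_cover {T : Type u} [TopologicalSpace T] {ι : Type*}
    [Finite ι] (W : ι → Set T) (hW : ∀ i, IsOpen (W i)) (hcov : ∀ x, ∃ i, x ∈ W i)
    (h : ∀ i, (irreducibleComponents (W i)).Finite) : (irreducibleComponents T).Finite := by
  refine (Set.finite_iUnion fun i =>
    (h i).image (fun s => closure ((Subtype.val : W i → T) '' s))).subset fun z hz => ?_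
  obtain ⟨x, hx⟩ := hz.1.1
  obtain ⟨i, hi⟩ := hcov x
  refine Set.mem_iUnion.mpr ⟨i, Subtype.val ⁻¹' z, ?_, ?_⟩
  · exact preimage_mem_irreducibleComponents hz (hW i).isOpenEmbedding_subtypeVal
      ⟨x, hx, ⟨x, hi⟩, rfl⟩
  · exact closure_image_preimage_of_isPreirreducible _ (hW i).isOpenEmbedding_subtypeVal.isOpenMap z
      ⟨⟨x, hi⟩, hx⟩ hz.1.2 (isClosed_of_mem_irreducibleComponents z hz)

lemma finite_minimalPrimes_Γ {X : Scheme.{u}} {U : X.Opens} (hU : IsAffineOpen U) :
    (minimalPrimes Γ(X, U)).Finite ↔ (irreducibleComponents (U : Type u)).Finite := by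
  have e : (U : Type u) ≃ₜ PrimeSpectrum Γ(X, U) := Scheme.homeoOfIso hU.isoSpec
  rw [← Set.finite_coe_iff, ← Set.finite_coe_iff]
  rw [(minimalPrimes.equivIrreducibleComponents Γ(X, U)).toEquiv.finite_iff]
  constructor
  · intro h
    have : Finite (irreducibleComponents (PrimeSpectrum Γ(X, U))) :=
      Finite.of_equiv _ OrderDual.ofDual
    exact (finite_irreducibleComponents_of_equiv e
      (Set.toFinite (irreducibleComponents (PrimeSpectrum Γ(X, U))))).to_subtype
  · intro h
    have := (finite_irreducibleComponents_of_equiv e.symm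
      (Set.toFinite (irreducibleComponents (U : Type u)))).to_subtype
    exact Finite.of_equiv _ OrderDual.toDual

/-- If f : Y → X is faithfully flat and locally of finite presentation and each quasi-compact open
subset of X has only finitely many irreducible components, the same is true of each quasi-compact
open subset of Y. -/
theorem result {Y X : Scheme.{u}} (f : Y ⟶ X) [Flat f] [LocallyOfFinitePresentation f] [Surjective f]
    (hX : ∀ U : X.Opens, IsCompact (U : Set X) → (irreducibleComponents (U : Type u)).Finite)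
    (V : Y.Opens) (hV : IsCompact (V : Set Y)) : (irreducibleComponents (V : Type u)).Finite := by
  have hx : ∀ y : Y, y ∈ V → ∃ (U : X.Opens) (W : Y.Opens), IsAffineOpen U ∧ IsAffineOpen W ∧
      y ∈ W ∧ W ≤ f ⁻¹ᵁ U ∧ W ≤ V := by
    intro y hy
    obtain ⟨_, ⟨U, hU, rfl⟩, hyU, -⟩ := X.isBasis_affineOpens.exists_subset_of_mem_open
      (Set.mem_univ (f y)) isOpen_univ
    obtain ⟨_, ⟨W, hW, rfl⟩, hyW, hle⟩ := Y.isBasis_affineOpens.exists_subset_of_mem_open
      (show y ∈ ((f ⁻¹ᵁ U ⊓ V : Y.Opens) : Set Y) from ⟨hyU, hy⟩) (f ⁻¹ᵁ U ⊓ V).2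
    exact ⟨U, W, hU, hW, hyW, fun z hz => (hle hz).1, fun z hz => (hle hz).2⟩
  choose U W hU hW hmem hWU hWV using hx
  obtain ⟨t, ht⟩ := hV.elim_finite_subcover (fun y : V => ((W y.1 y.2 : Y.Opens) : Set Y))
    (fun y => (W y.1 y.2).2) fun y hy => Set.mem_iUnion.mpr ⟨⟨y, hy⟩, hmem y hy⟩
  refine finite_irreducibleComponents_of_cover
    (fun i : t => (Subtype.val : V → Y) ⁻¹' (W i.1.1 i.1.2 : Set Y))
    (fun i => (W i.1.1 i.1.2).2.preimage continuous_subtype_val) (fun x => ?_) fun i => ?_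
  · obtain ⟨i, hi, hxi⟩ := Set.mem_iUnion₂.mp (ht x.2)
    exact ⟨⟨i, hi⟩, hxi⟩
  · have hflat := HasRingHomProperty.appLE @Flat f inferInstance ⟨_, hU i.1.1 i.1.2⟩
      ⟨_, hW i.1.1 i.1.2⟩ (hWU i.1.1 i.1.2)
    have hfp := HasRingHomProperty.appLE @LocallyOfFinitePresentation f inferInstance
      ⟨_, hU i.1.1 i.1.2⟩ ⟨_, hW i.1.1 i.1.2⟩ (hWU i.1.1 i.1.2)
    algebraize [(f.appLE (U i.1.1 i.1.2) (W i.1.1 i.1.2) (hWU i.1.1 i.1.2)).hom]
    have hfin := (finite_minimalPrimes_Γ (hW i.1.1 i.1.2)).mp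
      (finite_minimalPrimes_of_flat Γ(X, U i.1.1 i.1.2) _
        ((finite_minimalPrimes_Γ (hU i.1.1 i.1.2)).mpr (hX _ (hU i.1.1 i.1.2).isCompact)))
    exact finite_irreducibleComponents_of_equiv
      { toFun := fun z => ⟨z.1.1, z.2⟩
        invFun := fun z => ⟨⟨z.1, hWV i.1.1 i.1.2 z.2⟩, z.2⟩
        left_inv := fun z => rfl
        right_inv := fun z => rfl
        continuous_toFun := (continuous_subtype_val.comp continuous_subtype_val).subtype_mk _
        continuous_invFun := (continuous_subtype_val.subtype_mk _).subtype_mk _ } hfin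

end Groth.Agent.S13834
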