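import Groth.Statements.S13835
import Groth.Agent.AWN95.Image
import Mathlib.AlgebraicGeometry.Morphisms.Separated
import Mathlib.AlgebraicGeometry.Gluing

set_option autoImplicit false
universe u
open CategoryTheory.Limits
open AlgebraicGeometry CategoryTheory
open ChowMon

namespace Groth.Agent.S13835

/-- Let p : T' → T be a universal homeomorphism of separated schemes with T reduced and f' : T' → Y a
morphism (Y separated); if T has an open cover by affine opens U_i such that each restriction of f'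
to p⁻¹(U_i) factors through p⁻¹(U_i) → U_i, then f' factors through p. -/
theorem result {T' T Y : Scheme.{u}} (p : T' ⟶ T) (hp : FlatMor.IsUnivHomeo p) [IsReduced T]
    [T.IsSeparated] [T'.IsSeparated] [Y.IsSeparated] (f' : T' ⟶ Y)
    {ι : Type u} (U : ι → T.affineOpens) (hU : ⨆ i, (U i : T.Opens) = ⊤)
    (hloc : ∀ i, ∃ fi : ((U i : T.Opens) : Scheme.{u}) ⟶ Y, (p ⁻¹ᵁ (U i : T.Opens)).ι ≫ f' = (p ∣_ (U i : T.Opens)) ≫ fi) :
    ∃ f : T ⟶ Y, p ≫ f = f' := by
  obtain ⟨-, -, hs⟩ := AWN95.props_of_isUnivHomeo hp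
  choose fi hfi using hloc
  have key : ∀ (i : ι) {Z : Scheme.{u}} (a : Z ⟶ T') (b : Z ⟶ ((U i : T.Opens) : Scheme.{u})),
      a ≫ p = b ≫ (U i : T.Opens).ι → a ≫ f' = b ≫ fi i := by
    intro i Z a b h
    have hP := (isPullback_morphismRestrict p (U i : T.Opens)).flip
    obtain ⟨c, hc1, hc2⟩ : ∃ c, c ≫ (p ⁻¹ᵁ (U i : T.Opens)).ι = a ∧ c ≫ (p ∣_ (U i : T.Opens)) = b :=
      ⟨hP.lift a b h, hP.lift_fst _ _ _, hP.lift_snd _ _ _⟩
    rw [← hc1, ← hc2, Category.assoc, Category.assoc, hfi]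
  let 𝒰 := T.openCoverOfIsOpenCover (fun i => (U i : T.Opens)) hU
  have hcompat : ∀ i j, pullback.fst (𝒰.f i) (𝒰.f j) ≫ fi i = pullback.snd (𝒰.f i) (𝒰.f j) ≫ fi j := by
    intro i j
    have : IsOpenImmersion (𝒰.f i) := inferInstanceAs (IsOpenImmersion (U i : T.Opens).ι)
    have : IsReduced (pullback (𝒰.f i) (𝒰.f j)) :=
      isReduced_of_isOpenImmersion (pullback.fst (𝒰.f i) (𝒰.f j) ≫ 𝒰.f i)
    let w := pullback.fst (𝒰.f i) (𝒰.f j) ≫ 𝒰.f i
    have : Surjective (pullback.snd p w) := MorphismProperty.pullback_snd p w hs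
    refine ext_of_isDominant (pullback.snd p w) ?_
    have hw1 : pullback.fst p w ≫ p = (pullback.snd p w ≫ pullback.fst (𝒰.f i) (𝒰.f j)) ≫ 𝒰.f i :=
      pullback.condition.trans (Category.assoc _ _ _).symm
    have hw2 : pullback.fst p w ≫ p = (pullback.snd p w ≫ pullback.snd (𝒰.f i) (𝒰.f j)) ≫ 𝒰.f j :=
      hw1.trans ((Category.assoc _ _ _).trans ((congrArg (pullback.snd p w ≫ ·) pullback.condition).trans (Category.assoc _ _ _).symm))
    exact (Category.assoc _ _ _).symm.trans (((key i (pullback.fst p w) _ hw1).symm.trans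
      (key j (pullback.fst p w) _ hw2)).trans (Category.assoc _ _ _))
  refine ⟨𝒰.glueMorphisms fi hcompat, ?_⟩
  refine (Scheme.Cover.hom_ext (T'.openCoverOfIsOpenCover (fun i => p ⁻¹ᵁ (U i : T.Opens)) ?_) _ _ fun i => ?_)
  · exact (TopologicalSpace.Opens.map_iSup _ _).symm.trans (by rw [hU]; rfl)
  · change (p ⁻¹ᵁ (U i : T.Opens)).ι ≫ p ≫ 𝒰.glueMorphisms fi hcompat = (p ⁻¹ᵁ (U i : T.Opens)).ι ≫ f'
    rw [← morphismRestrict_ι_assoc p (U i : T.Opens)]
    erw [𝒰.ι_glueMorphisms fi hcompat i]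
    rw [hfi]

end Groth.Agent.S13835
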