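import Groth.Statements.S13836
import Groth.Agent.Stein58.Unibranch
import Groth.Agent.Stein58.Components
import Groth.Agent.Stein58.UnivInjCancel
import Groth.Agent.UH57.Basic

set_option autoImplicit false
universe u
open AlgebraicGeometry CategoryTheory
open HTop

namespace Groth.Agent.S13836

/-- Let Y be a separated Noetherian integral scheme whose local rings are geometrically unibranch and
whose affine coordinate rings are Nagata, K its function field and L a finite purely inseparable
extension of K; then the normalization of Y in L, i.e. the normalization of Y relative to Spec L →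
Spec K → Y, maps to Y by a universal homeomorphism. (The instance binders on Spec L → Y always hold;
they are only needed to form the normalization.) -/
theorem result (Y : Scheme.{u}) [IsIntegral Y] [IsNoetherian Y] [Y.IsSeparated]
    (hY : ∀ y : Y, CAlg2.IsGeomUnibranch (Y.presheaf.stalk y))
    (hN : ∀ U : Y.affineOpens, CAlg.IsNagata Γ(Y, U))
    (L : Type u) [Field L] [Algebra Y.functionField L] [FiniteDimensional Y.functionField L]
    [IsPurelyInseparable Y.functionField L]
    [QuasiCompact (Spec.map (CommRingCat.ofHom (algebraMap Y.functionField L)) ≫ Y.fromSpecStalk (genericPoint Y))]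
    [QuasiSeparated (Spec.map (CommRingCat.ofHom (algebraMap Y.functionField L)) ≫ Y.fromSpecStalk (genericPoint Y))] :
    FlatMor.IsUnivHomeo
      (Spec.map (CommRingCat.ofHom (algebraMap Y.functionField L)) ≫ Y.fromSpecStalk (genericPoint Y)).fromNormalization := by
  let g := Spec.map (CommRingCat.ofHom (algebraMap Y.functionField L)) ≫ Y.fromSpecStalk (genericPoint Y)
  show FlatMor.IsUnivHomeo g.fromNormalization
  let φ := g.fromNormalization
  let η := genericPoint Y
  haveI hg1 : UniversallyInjective (Spec.map (CommRingCat.ofHom (algebraMap Y.functionField L))) := by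
    refine ((tfae_universallyInjective _).out 0 1).2 ?_
    intro E _ g₁ g₂ h
    obtain ⟨f₁, rfl⟩ := Spec.map_surjective g₁
    obtain ⟨f₂, rfl⟩ := Spec.map_surjective g₂
    simp only [← Spec.map_comp, Spec.map_inj] at h
    refine congrArg Spec.map (CommRingCat.hom_ext ?_)
    exact IsPurelyInseparable.injective_comp_algebraMap Y.functionField L E (congrArg CommRingCat.Hom.hom h)
  haveI hg : UniversallyInjective g :=
    MorphismProperty.comp_mem _ _ _ hg1 (inferInstanceAs (UniversallyInjective (Y.fromSpecStalk η)))
  obtain ⟨x⟩ : Nonempty ↥(Spec (CommRingCat.of L)) := inferInstance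
  have hgx : g x = η := by
    show Y.fromSpecStalk η (Spec.map (CommRingCat.ofHom (algebraMap Y.functionField L)) x) = η
    haveI : Subsingleton ↥(Spec (Y.presheaf.stalk η)) :=
      inferInstanceAs (Subsingleton (PrimeSpectrum Y.functionField))
    rw [Subsingleton.elim (Spec.map (CommRingCat.ofHom (algebraMap Y.functionField L)) x)
      (IsLocalRing.closedPoint (Y.presheaf.stalk η)), Scheme.fromSpecStalk_closedPoint]
  have hφx : φ (g.toNormalization x) = η := by
    refine Eq.trans ?_ hgx
    exact congrArg (fun k : _ ⟶ Y => k x) g.toNormalization_fromNormalization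
  haveI : Surjective φ := ⟨fun y => ((genericPoint_spec Y).specializes (Set.mem_univ y)).mem_closed
    φ.isClosedMap.isClosed_range ⟨_, hφx⟩⟩
  let i := Y.fromSpecResidueField η
  haveI : IsIntegralHom φ := inferInstanceAs (IsIntegralHom g.fromNormalization)
  haveI : IsIntegralHom (Limits.pullback.snd φ i) := MorphismProperty.pullback_snd _ _ inferInstance
  haveI : T1Space ↥(Limits.pullback φ i) := @Groth.Agent.Stein58.t1Space_of_isIntegralHom_field (Y.residueField η) _ _ (Limits.pullback.snd φ i) ‹_›
  obtain ⟨s, hs₁, -⟩ := Scheme.Pullback.exists_preimage_pullback (f := φ) (g := i)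
    (genericPoint g.normalization) (IsLocalRing.closedPoint (Y.residueField η)) (by
      rw [Scheme.fromSpecResidueField_apply]
      refine ((genericPoint_spec Y).eq ?_).symm
      refine isGenericPoint_iff_specializes.2 fun y => ⟨fun _ => Set.mem_univ y, fun _ => ?_⟩
      exact (hφx ▸ ((genericPoint_spec g.normalization).specializes (Set.mem_univ _)).map φ.continuous).trans
        ((genericPoint_spec Y).specializes (Set.mem_univ y)))
  haveI : Subsingleton ↥(Limits.pullback φ i) := ⟨fun p q => by
    have h : ∀ r, s = r := fun r => Specializes.eq <| (Limits.pullback.fst φ i).isEmbedding.isInducing.specializes_iff.1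
      (hs₁ ▸ (genericPoint_spec g.normalization).specializes (Set.mem_univ _))
    rw [← h p, ← h q]⟩
  let a : Limits.pullback g i ⟶ Limits.pullback φ i := Limits.pullback.lift (Limits.pullback.fst g i ≫ g.toNormalization) (Limits.pullback.snd g i)
    (by rw [Category.assoc, g.toNormalization_fromNormalization, Limits.pullback.condition])
  haveI : Surjective a := by
    obtain ⟨p, -, -⟩ := Scheme.Pullback.exists_preimage_pullback (f := g) (g := i) x
      (IsLocalRing.closedPoint (Y.residueField η)) (hgx.trans (Scheme.fromSpecResidueField_apply _ _).symm)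
    exact ⟨fun q => ⟨p, Subsingleton.elim _ _⟩⟩
  haveI : UniversallyInjective (a ≫ Limits.pullback.snd φ i) := by
    rw [Limits.pullback.lift_snd]; exact MorphismProperty.pullback_snd _ _ hg
  haveI : UniversallyInjective φ := Groth.Agent.Stein58.universallyInjective_of_unibranch φ hY
    (Groth.Agent.Stein58.universallyInjective_of_comp_surjective a (Limits.pullback.snd φ i))
  exact (Groth.Agent.UH57.isUnivHomeo_iff' φ).2 ⟨inferInstance, inferInstance, inferInstance⟩

end Groth.Agent.S13836
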