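import Groth.Statements.S13837
import Groth.Agent.UHT95.Residue

set_option autoImplicit false
universe u
open AlgebraicGeometry
open scoped TensorProduct
open HTop

namespace Groth.Agent.S13837

/-- Let A ⊆ B be an integral ring extension where A and B have finitely many minimal prime ideals; then
the weak normalization of A in B is the equaliser of the two maps B ⇉ (B ⊗_A B)_red: the
A-subalgebra E of elements b with b ⊗ 1 − 1 ⊗ b nilpotent in B ⊗_A B has Spec E → Spec A a universal
homeomorphism, and every A-subalgebra C of B with Spec C → Spec A a universal homeomorphism is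
contained in E. -/
theorem result (A B : Type u) [CommRing A] [CommRing B] [Algebra A B] (hinj : Function.Injective (algebraMap A B))
    [Algebra.IsIntegral A B] (hA : (minimalPrimes A).Finite) (hB : (minimalPrimes B).Finite) :
    ∃ E : Subalgebra A B, (∀ b : B, b ∈ E ↔ IsNilpotent (b ⊗ₜ[A] (1 : B) - (1 : B) ⊗ₜ[A] b)) ∧
      FlatMor.IsUnivHomeo (Spec.map (CommRingCat.ofHom (algebraMap A E))) ∧
      ∀ C : Subalgebra A B, FlatMor.IsUnivHomeo (Spec.map (CommRingCat.ofHom (algebraMap A C))) → C ≤ E := by
  let q : (B ⊗[A] B) →ₐ[A] _ := Ideal.Quotient.mkₐ A (nilradical (B ⊗[A] B))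
  let E : Subalgebra A B := AlgHom.equalizer
    (q.comp (Algebra.TensorProduct.includeLeft (R := A) (S := A) (A := B) (B := B)))
    (q.comp Algebra.TensorProduct.includeRight)
  have hE : ∀ b : B, b ∈ E ↔ IsNilpotent (b ⊗ₜ[A] (1 : B) - (1 : B) ⊗ₜ[A] b) := fun b => by
    rw [← mem_nilradical, ← Ideal.Quotient.eq]
    rfl
  refine ⟨E, hE, (UH57.isUnivHomeo_iff (A := A) (B := E)).mpr ⟨⟨fun x => ?_⟩, ?_, ?_⟩, fun C hC c hc => ?_⟩
  · exact (isIntegral_algHom_iff E.val Subtype.val_injective).mp (Algebra.IsIntegral.isIntegral x.1)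
  · refine UH57.hInj_iff.mp (UHT95.hInj_subalgebra E fun L _ g₁ g₂ e x hx => ?_)
    let _ : Algebra A L := (g₁.comp (algebraMap A B)).toAlgebra
    let Φ : B ⊗[A] B →ₐ[A] L := Algebra.TensorProduct.lift
      { toRingHom := g₁, commutes' := fun r => rfl }
      { toRingHom := g₂, commutes' := fun r => (DFunLike.congr_fun e r).symm } fun _ _ => Commute.all _ _
    have h0 := ((hE x).mp hx).map Φ
    rw [isNilpotent_iff_eq_zero, map_sub, sub_eq_zero] at h0
    simpa [Φ] using h0
  · rw [(RingHom.injective_iff_ker_eq_bot (algebraMap A E)).mp fun a b h => hinj (congrArg Subtype.val h)]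
    exact bot_le
  · obtain ⟨-, hri, -⟩ := (UH57.isUnivHomeo_iff (A := A) (B := C)).mp hC
    rw [hE, ← mem_nilradical, nilradical_eq_sInf, Ideal.mem_sInf]
    intro P hP
    have : P.IsPrime := hP
    let f₁ : C →+* P.ResidueField := (algebraMap (B ⊗[A] B) P.ResidueField).comp
      ((Algebra.TensorProduct.includeLeft (R := A) (S := A) (A := B) (B := B)).comp C.val).toRingHom
    let f₂ : C →+* P.ResidueField := (algebraMap (B ⊗[A] B) P.ResidueField).comp
      ((Algebra.TensorProduct.includeRight (R := A) (A := B) (B := B)).comp C.val).toRingHom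
    have h := hri.hInj P.ResidueField f₁ f₂ (RingHom.ext fun a => congrArg (algebraMap (B ⊗[A] B) P.ResidueField)
      (((Algebra.TensorProduct.includeLeft (R := A) (S := A) (A := B) (B := B)).comp C.val).commutes a |>.trans
        (((Algebra.TensorProduct.includeRight (R := A) (A := B) (B := B)).comp C.val).commutes a).symm))
    rw [← Ideal.algebraMap_residueField_eq_zero, map_sub, sub_eq_zero]
    exact DFunLike.congr_fun h ⟨c, hc⟩

end Groth.Agent.S13837
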