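import Groth.Statements.S13838
import Groth.Agent.UHT95.Residue

set_option autoImplicit false
universe u
open AlgebraicGeometry
open HTop

namespace Groth.Agent.S13838

/-- Let A ⊆ B be an integral ring extension where A and B have finitely many minimal prime ideals, such
that every prime p of A has a prime q of B above it for which k(p) is closed under extracting
p-power roots inside k(q) (the purely inseparable closure of k(p) in k(q) is k(p)); then the semi-
and weak normalizations of A in B coincide: every A-subalgebra C of B with Spec C → Spec A a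
universal homeomorphism already induces isomorphisms on residue fields. -/
theorem result (A B : Type u) [CommRing A] [CommRing B] [Algebra A B] (hinj : Function.Injective (algebraMap A B))
    [Algebra.IsIntegral A B] (hA : (minimalPrimes A).Finite) (hB : (minimalPrimes B).Finite)
    (hpi : ∀ p : PrimeSpectrum A, ∃ q : PrimeSpectrum B, ∃ hq : p.asIdeal = Ideal.comap (algebraMap A B) q.asIdeal,
      ∀ x : q.asIdeal.ResidueField,
        (∃ n : ℕ, x ^ ringExpChar p.asIdeal.ResidueField ^ n ∈
            Set.range (Ideal.ResidueField.map p.asIdeal q.asIdeal (algebraMap A B) hq)) →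
        x ∈ Set.range (Ideal.ResidueField.map p.asIdeal q.asIdeal (algebraMap A B) hq)) :
    ∀ C : Subalgebra A B, FlatMor.IsUnivHomeo (Spec.map (CommRingCat.ofHom (algebraMap A C))) →
      HTop.ResidueFieldsIso (Spec.map (CommRingCat.ofHom (algebraMap A C))) := by
  intro C hC
  obtain ⟨hint, hri, -⟩ := (UH57.isUnivHomeo_iff (A := A) (B := C)).mp hC
  have htr : UH57.TR A C := by
    intro Q hQ c
    obtain ⟨q, hq, hcl⟩ := hpi ⟨Q.comap (algebraMap A C), inferInstance⟩
    have hqQ : q.asIdeal.comap (algebraMap C B) = Q := congrArg PrimeSpectrum.asIdeal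
      (hri.1 (a₁ := PrimeSpectrum.comap (algebraMap C B) q) (a₂ := ⟨Q, hQ⟩) (PrimeSpectrum.ext hq.symm))
    have hmem : ∀ x : C, x ∈ Q ↔ algebraMap B q.asIdeal.ResidueField x.1 = 0 := fun x => by
      rw [Ideal.algebraMap_residueField_eq_zero, ← hqQ]; rfl
    let p := Q.comap (algebraMap A C)
    obtain ⟨a, s, hs, hpow⟩ := hri.2 Q hQ c
    have hsq : algebraMap A B s ∉ q.asIdeal := fun h => hs (hqQ ▸ h)
    have key : ∃ a' s' : A, algebraMap A B s' ∉ q.asIdeal ∧ algebraMap A B s' * c.1 - algebraMap A B a' ∈ q.asIdeal := by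
      rcases hpow with h | ⟨ℓ, n, hℓ, hℓQ, h⟩
      · rw [← hqQ] at h
        exact ⟨a, s, hsq, h⟩
      rw [← hqQ] at h
      refine (UHT95.mem_range_iff (algebraMap A B) p q.asIdeal hq c.1).mp (hcl _ ⟨n, ?_⟩)
      have : Fact ℓ.Prime := ⟨hℓ⟩
      have : CharP p.ResidueField ℓ := (CharP.charP_iff_prime_eq_zero hℓ).mpr (by
        rw [← map_natCast (algebraMap A p.ResidueField), Ideal.algebraMap_residueField_eq_zero]
        change algebraMap A C ℓ ∈ Q
        rwa [map_natCast])
      have : ExpChar p.ResidueField ℓ := ExpChar.prime hℓ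
      rw [ringExpChar.eq p.ResidueField ℓ, ← map_pow]
      exact (UHT95.mem_range_iff (algebraMap A B) p q.asIdeal hq (c.1 ^ ℓ ^ n)).mpr ⟨a, s, hsq, h⟩
    obtain ⟨a', s', hs', h'⟩ := key
    exact ⟨a', s', fun h => hs' (by rw [← hqQ] at h; exact h), by rw [← hqQ]; exact h'⟩
  intro y
  rw [CategoryTheory.ConcreteCategory.isIso_iff_bijective]
  exact ⟨RingHom.injective _, UH57.residueFieldMap_surjective_iff.mpr htr y⟩

end Groth.Agent.S13838
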