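import Groth.Statements.S13839
import Groth.Agent.UHT95.Residue
import Groth.Agent.PolLaw95.General

set_option autoImplicit false
universe u
open AlgebraicGeometry
open scoped TensorProduct
open ChowMon

namespace Groth.Agent.S13839

/-- Let C be a Noetherian seminormal A-algebra, g : C → C' an A-algebra map with C' reduced such that
Spec C' → Spec C is a finite universal homeomorphism, and d ≥ 1 an integer divisible by every
residue degree [k(q) : k(g⁻¹q)]; let B be a flat A-algebra and φ : B → C' an A-algebra map. Then for
every symmetric tensor x ∈ TS^d_A(B) the element φ(m_d(x)) of C', m_d : B^{⊗d} → B the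
multiplication, lies in the image of C. (The published statement does not assume C' reduced and is
false without it: take A = C = k a field, C' = k[ε]/(ε²), d = 1, B = k[t] and φ(t) = ε; then ε is
not in k.) -/
theorem result (A C C' B : Type u) [CommRing A] [CommRing C] [CommRing C'] [CommRing B]
    [Algebra A C] [Algebra A C'] [Algebra A B] [IsNoetherianRing C] (hC : HTop.IsSeminormalRing C)
    (g : C →ₐ[A] C') [IsReduced C'] (hfin : g.toRingHom.Finite)
    (hg : FlatMor.IsUnivHomeo (Spec.map (CommRingCat.ofHom g.toRingHom)))
    (d : ℕ) (hd : 0 < d)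
    (hdeg : ∀ q : PrimeSpectrum C',
      @Module.finrank (PrimeSpectrum.comap g.toRingHom q).asIdeal.ResidueField q.asIdeal.ResidueField _ _
          (Ideal.ResidueField.map (PrimeSpectrum.comap g.toRingHom q).asIdeal q.asIdeal g.toRingHom
            rfl).toAlgebra.toModule ∣ d)
    [Module.Flat A B] (φ : B →ₐ[A] C') (x : ⨂[A] _ : Fin d, B) (hx : x ∈ SymTen.TS A B d) :
    φ (PiTensorProduct.lift (MultilinearMap.mkPiAlgebra A (Fin d) B) x) ∈ g.range := by
  classical
  letI : Algebra C C' := g.toRingHom.toAlgebra
  obtain ⟨hint, hri, hker⟩ := (UH57.isUnivHomeo_iff (A := C) (B := C')).mp hg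
  have hred : IsReduced C := ⟨fun x hx => by
    obtain ⟨n, hn⟩ := hx
    induction n using Nat.strong_induction_on generalizing x with
    | _ n ih =>
      by_cases h2 : x ^ 2 = 0
      · obtain ⟨a, -, hu⟩ := hC 0 0 (by simp)
        rw [hu x ⟨by rw [h2], by rw [pow_succ, h2, zero_mul]⟩, ← hu 0 ⟨by simp, by simp⟩]
      · exfalso
        have hn2 : 2 < n := by
          by_contra h
          interval_cases n
          · exact h2 (by rw [pow_zero] at hn; rw [← one_mul (x ^ 2), hn, zero_mul])
          · exact h2 (by rw [pow_succ, hn, zero_mul])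
          · exact h2 hn
        refine h2 (ih (n - 1) (by omega) (x ^ 2) ?_)
        rw [← pow_mul, show 2 * (n - 1) = n + (n - 2) by omega, pow_add, hn, zero_mul]⟩
  have hinj : Function.Injective (algebraMap C C') := by
    rw [RingHom.injective_iff_ker_eq_bot, eq_bot_iff]
    intro z hz
    have := hker hz
    rwa [nilradical_eq_zero] at this
  let R : PrimeSpectrum C' → Subring C' := fun q =>
    (Ideal.ResidueField.map (PrimeSpectrum.comap g.toRingHom q).asIdeal q.asIdeal g.toRingHom rfl).range.comap
      (algebraMap C' q.asIdeal.ResidueField)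
  let T : Subalgebra C C' :=
    { (⨅ q, R q).toSubsemiring with
      algebraMap_mem' := fun c => by
        change g c ∈ ⨅ q, R q
        exact Subring.mem_iInf.mpr fun q => ⟨algebraMap C _ c, Ideal.ResidueField.map_algebraMap _ _ _ _ _⟩ }
  let m : (⨂[A] _ : Fin d, B) →ₐ[A] B := PiTensorProduct.liftAlgHom (MultilinearMap.mkPiAlgebra A (Fin d) B)
    (by simp [MultilinearMap.mkPiAlgebra_apply]) (fun a b => by simp [MultilinearMap.mkPiAlgebra_apply, Finset.prod_mul_distrib])
  have hm : ∀ t, PiTensorProduct.lift (MultilinearMap.mkPiAlgebra A (Fin d) B) t = m t := fun t => by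
    induction t using PiTensorProduct.induction_on with
    | smul_tprod r v => rw [map_smul, map_smul, PiTensorProduct.lift.tprod]; simp [m]
    | add a b ha hb => rw [map_add, map_add, ha, hb]
  have hmem : φ (m x) ∈ T := by
    have hspan : (⟨x, hx⟩ : SymTen.TS A B d) ∈ PolLaw95.coefSpan (PolLaw95.sym A B d).law :=
      (PolLaw95.coefSpan_eq_top _ (PolLaw95.isGammaD_sym_of_flat (A := A) (B := B) (d := d))).symm ▸ Submodule.mem_top
    suffices ∀ z ∈ PolLaw95.coefSpan (PolLaw95.sym A B d).law, φ (m z.1) ∈ T from this _ hspan
    intro z hz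
    induction hz using Submodule.span_induction with
    | mem z hz =>
      obtain ⟨n, b, α, rfl⟩ := hz
      rw [PolLaw95.val_sym_coef, PolLaw95.coef]
      refine Subring.mem_iInf.mpr fun q => ?_
      let p := (PrimeSpectrum.comap g.toRingHom q).asIdeal
      let j := Ideal.ResidueField.map p q.asIdeal g.toRingHom rfl
      letI : Algebra p.ResidueField q.asIdeal.ResidueField := j.toAlgebra
      have hfin' : Module.Finite C C' := hfin
      have : FiniteDimensional p.ResidueField q.asIdeal.ResidueField := by
        by_contra h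
        have := hdeg q
        rw [show @Module.finrank p.ResidueField q.asIdeal.ResidueField _ _ _ = 0 from
          Module.finrank_of_not_finite h, zero_dvd_iff] at this
        omega
      have : IsPurelyInseparable p.ResidueField q.asIdeal.ResidueField := by
        rw [isPurelyInseparable_iff_pow_mem _ (ringExpChar p.ResidueField)]
        intro z
        obtain ⟨b, s, hs, hz⟩ := UHT95.exists_frac q.asIdeal z
        have hb : ∀ b : C', ∃ n, algebraMap C' q.asIdeal.ResidueField b ^ ringExpChar p.ResidueField ^ n ∈ j.range := by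
          intro b
          obtain ⟨a, s, hs, hb⟩ := hri.2 q.asIdeal q.2 b
          rcases hb with hb | ⟨ℓ, n, hℓ, hℓQ, hb⟩
          · exact ⟨0, by rw [pow_zero, pow_one]; exact (UHT95.mem_range_iff g.toRingHom p q.asIdeal rfl b).mpr ⟨a, s, hs, hb⟩⟩
          have : Fact ℓ.Prime := ⟨hℓ⟩
          have : CharP p.ResidueField ℓ := (CharP.charP_iff_prime_eq_zero hℓ).mpr (by
            rw [← map_natCast (algebraMap C p.ResidueField), Ideal.algebraMap_residueField_eq_zero]
            change g.toRingHom ℓ ∈ q.asIdeal
            rwa [map_natCast])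
          have : ExpChar p.ResidueField ℓ := ExpChar.prime hℓ
          rw [ringExpChar.eq p.ResidueField ℓ]
          exact ⟨n, by rw [← map_pow]; exact (UHT95.mem_range_iff g.toRingHom p q.asIdeal rfl _).mpr ⟨a, s, hs, hb⟩⟩
        obtain ⟨n₁, ⟨u, hu⟩⟩ := hb b
        obtain ⟨n₂, ⟨v, hv⟩⟩ := hb s
        refine ⟨n₁ + n₂, u ^ ringExpChar p.ResidueField ^ n₂ / v ^ ringExpChar p.ResidueField ^ n₁, ?_⟩
        change j _ = _
        rw [map_div₀, map_pow, map_pow, hu, hv, ← pow_mul, ← pow_mul, ← pow_add, ← pow_add, add_comm n₂ n₁,
          ← div_pow, ← hz, mul_div_cancel_right₀]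
        rwa [ne_eq, Ideal.algebraMap_residueField_eq_zero]
      obtain ⟨e, he, hpw⟩ := UHT95.pow_finrank_mem_range (k := p.ResidueField) (K := q.asIdeal.ResidueField)
      obtain ⟨c₀, hc₀⟩ : ringExpChar p.ResidueField ^ e ∣ d := he ▸ hdeg q
      let ψA : B →ₐ[A] q.asIdeal.ResidueField := (IsScalarTower.toAlgHom A C' q.asIdeal.ResidueField).comp φ
      let ψ : B →+* q.asIdeal.ResidueField := ψA.toRingHom
      let ev : MvPolynomial (Fin n) A ⊗[A] B →ₐ[A] MvPolynomial (Fin n) q.asIdeal.ResidueField :=
        Algebra.TensorProduct.lift (MvPolynomial.aeval MvPolynomial.X)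
          ((IsScalarTower.toAlgHom A q.asIdeal.ResidueField (MvPolynomial (Fin n) q.asIdeal.ResidueField)).comp ψA)
          fun _ _ => Commute.all _ _
      have hev : ∀ z, MvPolynomial.coeff α (ev z) = ψ (PolLaw95.coefL z α) := by
        intro z
        induction z using TensorProduct.induction_on with
        | zero => simp
        | tmul P b =>
          rw [PolLaw95.coefL_tmul, Algebra.smul_def, map_mul]
          change MvPolynomial.coeff α (MvPolynomial.aeval MvPolynomial.X P * MvPolynomial.C (ψ b)) = _
          rw [mul_comm, MvPolynomial.coeff_C_mul, mul_comm, show MvPolynomial.aeval MvPolynomial.X P =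
            MvPolynomial.map (algebraMap A q.asIdeal.ResidueField) P from ?_, MvPolynomial.coeff_map]
          · exact congrArg (· * ψ b) (ψA.commutes _).symm
          induction P using MvPolynomial.induction_on with
          | C r => simp [MvPolynomial.algebraMap_eq]
          | add a b ha hb => simp only [map_add, ha, hb]
          | mul_X a i ha => simp [ha]
        | add a b ha hb => simp [ha, hb]
      have hlaw : ∀ z : MvPolynomial (Fin n) A ⊗[A] B,
          m.toLinearMap.lTensor _ ((PolLaw95.sym0 A B d).law.toFun' _ z) = z ^ d := by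
        intro z
        change m.toLinearMap.lTensor _ (∏ i : Fin d, _) = _
        rw [PolLaw.lTensor_algHom_apply, map_prod, Finset.prod_congr rfl (fun i _ => ?_), Finset.prod_const,
          Finset.card_univ, Fintype.card_fin]
        rw [← PolLaw.lTensor_algHom_apply, ← LinearMap.comp_apply, ← LinearMap.lTensor_comp,
          show m.toLinearMap ∘ₗ (PiTensorProduct.singleAlgHom (R := A) (A := fun _ : Fin d => B) i).toLinearMap =
            LinearMap.id from LinearMap.ext fun b => ?_, LinearMap.lTensor_id, LinearMap.id_apply]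
        change m (PiTensorProduct.tprod A (Pi.mulSingle i b)) = b
        simp [m, MultilinearMap.mkPiAlgebra_apply]
      have hcm : ∀ z, m (PolLaw95.coefL z α) = PolLaw95.coefL (m.toLinearMap.lTensor (MvPolynomial (Fin n) A) z) α := by
        intro z
        induction z using TensorProduct.induction_on with
        | zero => simp
        | tmul P t => simp
        | add a b ha hb => simp [ha, hb]
      change ψ (m _) ∈ j.range
      rw [hcm, hlaw, ← hev, map_pow]
      have hP : ev (PolLaw95.uni A b) = ∑ i, MvPolynomial.C (ψ (b i)) * MvPolynomial.X i := by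
        simp only [PolLaw95.uni, map_sum]
        refine Finset.sum_congr rfl fun i _ => ?_
        change MvPolynomial.aeval MvPolynomial.X (MvPolynomial.X i : MvPolynomial (Fin n) A) * MvPolynomial.C (ψ (b i)) = _
        rw [MvPolynomial.aeval_X, mul_comm]
      have : ExpChar q.asIdeal.ResidueField (ringExpChar p.ResidueField) :=
        expChar_of_injective_algebraMap j.injective _
      have : ExpChar (MvPolynomial (Fin n) q.asIdeal.ResidueField) (ringExpChar p.ResidueField) :=
        expChar_of_injective_algebraMap (MvPolynomial.C_injective _ _) _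
      have hmap : ∀ P : MvPolynomial (Fin n) q.asIdeal.ResidueField, P ∈ (MvPolynomial.map j).range →
          MvPolynomial.coeff α P ∈ j.range := by
        rintro _ ⟨P, rfl⟩
        exact ⟨_, (MvPolynomial.coeff_map j P α).symm⟩
      refine hmap _ ?_
      rw [hP, hc₀, pow_mul, sum_pow_char_pow]
      refine pow_mem (sum_mem fun i _ => ?_) c₀
      obtain ⟨u, hu⟩ := hpw (ψ (b i))
      refine ⟨MvPolynomial.C u * MvPolynomial.X i ^ ringExpChar p.ResidueField ^ e, ?_⟩
      rw [mul_pow, ← map_pow, map_mul, map_pow, MvPolynomial.map_X, MvPolynomial.map_C, ← hu]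
      rfl
    | zero => rw [ZeroMemClass.coe_zero, map_zero, map_zero]; exact zero_mem _
    | add a b _ _ ha hb => rw [Subalgebra.coe_add, map_add, map_add]; exact add_mem ha hb
    | smul r a _ ha =>
      rw [Subalgebra.coe_smul, map_smul, map_smul, Algebra.smul_def, ← g.commutes]
      exact mul_mem (T.algebraMap_mem _) ha
  rw [hm]
  obtain ⟨c, hc⟩ := UHT95.mem_range_of_seminormal hC hint hri hinj T (fun y hy Q hQ =>
    (UHT95.mem_range_iff g.toRingHom _ Q rfl y).mp (Subring.mem_iInf.mp hy ⟨Q, hQ⟩)) hmem
  exact ⟨c, hc⟩

end Groth.Agent.S13839
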