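import Groth.Statements.S13841
import Groth.Agent.Csa25.Index

set_option autoImplicit false
universe u v
open scoped TensorProduct
open Brauer
open scoped Groth.Agent.Csa25

namespace Groth.Agent.S13841

/-- Let k be a field and A a finite-dimensional central simple k-algebra of period n. Then A has index n
if and only if there is a finite field extension k' of k of degree coprime to n such that the index
of the k'-algebra k' ⊗_k A divides n. (The published statement is for a class of period n in H²(X,
G_m) on a scheme X over k; this row is the case where X is the spectrum of k.) -/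
theorem result (k : Type u) [Field k] (A : Type v) [Ring A] [Algebra k A]
    [Algebra.IsCentral k A] [IsSimpleRing A] [FiniteDimensional k A] (n : ℕ) (hper : CSAGal.IsPeriod k A n) :
    CSAGal.IsIndex k A n ↔
      ∃ (k' : Type u) (_ : Field k') (_ : Algebra k k') (_ : FiniteDimensional k k'),
        Nat.Coprime n (Module.finrank k k') ∧ ∃ d' : ℕ, CSAGal.IsIndex k' (k' ⊗[k] A) d' ∧ d' ∣ n := by
  obtain ⟨hn0, hord⟩ := (Groth.Agent.Csa25.isPeriod_iff k A n).mp hper
  constructor
  · intro h
    refine ⟨k, inferInstance, inferInstance, inferInstance, by simp, n, ?_, dvd_rfl⟩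
    exact Groth.Agent.Csa25.isIndex_of_cl_eq
      (Groth.Agent.Csa25.cl_congr (Algebra.TensorProduct.lid k A).symm) h
  · rintro ⟨k', _, _, _, hcop, d', hd', hdn⟩
    obtain ⟨d, hd⟩ := Groth.Agent.Csa25.exists_isIndex (k := k) A
    have hcp : Nat.Coprime d (Module.finrank k k') := by
      refine Nat.coprime_of_dvd fun p hp hpd hpL => hp.one_lt.ne' ?_
      exact Nat.eq_one_of_dvd_coprimes hcop
        (hord ▸ Groth.Agent.Csa25.prime_dvd_orderOf hd hp hpd) hpL
    have h2 := (Groth.Agent.Csa25.isIndex_dvd_finrank_mul k' hd hd').2
    have : d = n := Nat.dvd_antisymm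
      (hcp.dvd_of_dvd_mul_left (dvd_trans h2 (Nat.mul_dvd_mul_left _ hdn)))
      (hord ▸ Groth.Agent.Csa25.orderOf_dvd_index hd)
    rwa [this] at hd

end Groth.Agent.S13841
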