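import Groth.Statements.S13844
import Groth.Agent.Curves2.SmoothAtSep
import Groth.Agent.FlatMor68.DedekindFlat
import Mathlib.AlgebraicGeometry.Morphisms.Smooth

set_option autoImplicit false
universe u
open CategoryTheory CategoryTheory.Limits AlgebraicGeometry
attribute [local instance] Curv2.resAlgebra
open Curves

namespace Groth.Agent.S13844

/-- Let K be a field and C a normal curve over K, namely an integral normal separated K-scheme of finite
type of dimension one, and let S be a set of closed points of C whose residue fields are separable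
over K. If the structure morphism of C is smooth at every point outside S, then it is smooth. (The
published statement takes S to be a closed subscheme finite étale over K, that is finitely many such
points; this row allows any set of closed points with separable residue fields.) -/
theorem result (K : Type u) [Field K] (C : Scheme.{u}) [C.Over (Spec (CommRingCat.of K))]
    [IsIntegral C] [IsSeparated (C ↘ (Spec (CommRingCat.of K)))] [LocallyOfFinitePresentation (C ↘ (Spec (CommRingCat.of K)))]
    [QuasiCompact (C ↘ (Spec (CommRingCat.of K)))] (hN : ∀ x : C, IsIntegrallyClosed (C.presheaf.stalk x))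
    (hdim : topologicalKrullDim C = 1) (S : Set C)
    (hS : ∀ x ∈ S, IsClosed ({x} : Set C) ∧ Algebra.IsSeparable K (C.residueField x))
    (hsm : ∀ x : C, x ∉ S → x ∈ (C ↘ (Spec (CommRingCat.of K))).smoothLocus) :
    AlgebraicGeometry.Smooth (C ↘ (Spec (CommRingCat.of K))) := by
  set f := C ↘ (Spec (CommRingCat.of K)) with hf
  rw [← Scheme.Hom.smoothLocus_eq_top_iff, ← top_le_iff]
  intro x _
  by_cases hx : x ∈ S
  swap; · exact hsm x hx
  obtain ⟨V, hV, hxV, -⟩ := exists_isAffineOpen_mem_and_subset (U := ⊤) (show x ∈ (⊤ : C.Opens) from trivial)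
  have : Nonempty V := ⟨⟨x, hxV⟩⟩
  let U : (Spec (CommRingCat.of K)).Opens := ⊤
  have hU : IsAffineOpen U := isAffineOpen_top _
  rw [Scheme.Hom.mem_smoothLocus, formallySmooth_stalkMap_iff U hU V hV le_top hxV]
  let e : K ≃+* Γ(Spec (CommRingCat.of K), U) :=
    (Scheme.ΓSpecIso (CommRingCat.of K)).symm.commRingCatIsoToRingEquiv
  let : Field Γ(Spec (CommRingCat.of K), U) :=
    (MulEquiv.isField (Field.toIsField K) e.symm.toMulEquiv).toField
  let : Algebra Γ(Spec (CommRingCat.of K), U) Γ(C, V) := (f.appLE U V le_top).hom.toAlgebra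
  have hfp : Algebra.FinitePresentation Γ(Spec (CommRingCat.of K), U) Γ(C, V) :=
    f.finitePresentation_appLE hU hV le_top
  have : Algebra.FiniteType Γ(Spec (CommRingCat.of K), U) Γ(C, V) := inferInstance
  set m := (hV.primeIdealOf ⟨x, hxV⟩).asIdeal with hm
  have hmax : m.IsMaximal := by
    rw [hm, ← PrimeSpectrum.isClosed_singleton_iff_isMaximal]
    have h1 : IsClosed (hV.fromSpec ⁻¹' ({x} : Set C)) := (hS x hx).1.preimage hV.fromSpec.continuous
    suffices e : ({hV.primeIdealOf ⟨x, hxV⟩} : Set _) = hV.fromSpec ⁻¹' ({x} : Set C) by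
      rw [← e] at h1; exact h1
    ext y
    simp only [Set.mem_singleton_iff, Set.mem_preimage]
    refine ⟨fun h => h ▸ hV.fromSpec_primeIdealOf ⟨x, hxV⟩, fun h => ?_⟩
    exact hV.fromSpec.isOpenEmbedding.injective (h.trans (hV.fromSpec_primeIdealOf ⟨x, hxV⟩).symm)
  let : Algebra Γ(C, V) (C.presheaf.stalk x) := TopCat.Presheaf.algebra_section_stalk C.presheaf ⟨x, hxV⟩
  have := hV.isLocalization_stalk ⟨x, hxV⟩
  let est : C.presheaf.stalk x ≃ₐ[Γ(C, V)] Localization.AtPrime m :=
    IsLocalization.algEquiv m.primeCompl _ _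
  have := hN x
  have hic : IsIntegrallyClosed (Localization.AtPrime m) := IsIntegrallyClosed.of_equiv est.toRingEquiv
  have hd : Ring.KrullDimLE 1 (Localization.AtPrime m) := Ring.krullDimLE_iff.mpr (by
    rw [← ringKrullDim_eq_of_ringEquiv est.toRingEquiv]
    exact (FlatMor68.DedekindFlat.stalk_dim_le x).trans hdim.le)
  have : Algebra.IsSeparable K (C.residueField x) := (hS x hx).2
  have hsep : Algebra.IsSeparable Γ(Spec (CommRingCat.of K), U) m.ResidueField := by
    refine Algebra.IsSeparable.of_equiv_equiv (A₁ := K) (B₁ := C.residueField x) e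
      (IsLocalRing.ResidueField.mapEquiv est.toRingEquiv) (RingHom.ext fun r => ?_)
    show IsLocalRing.residue _ (algebraMap Γ(C, V) (Localization.AtPrime m) (f.appLE U V le_top (e r))) =
      IsLocalRing.residue _ (est (C.presheaf.germ ⊤ x trivial (f.appTop (e r))))
    rw [← est.commutes]
    congr 2
    show C.presheaf.germ V x hxV (f.appLE U V le_top (e r)) = _
    show C.presheaf.germ V x hxV (C.presheaf.map _ (f.app U (e r))) = _
    exact TopCat.Presheaf.germ_res_apply _ _ _ _ _
  exact Curves2.isSmoothAt_of_separable_residue Γ(Spec (CommRingCat.of K), U) Γ(C, V) m hic hd hsep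

end Groth.Agent.S13844
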