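import Groth.Statements.S13846
import Mathlib.LinearAlgebra.GeneralLinearGroup.AlgEquiv
import Mathlib.Algebra.DirectSum.Module
import Mathlib.LinearAlgebra.Dual.Lemmas
import Mathlib.LinearAlgebra.Basis.VectorSpace

set_option autoImplicit false
universe u v
open TwSh

namespace Groth.Agent.S13846

/-- Let k be a field and V, W finite-dimensional ℤ-graded k-vector spaces, V = ⊕ V_i with V ≠ 0 and W =
⊕ W_i. Let φ : End_k(V) ≃ End_k(W) be a k-algebra isomorphism which sends every endomorphism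
homogeneous of degree d (one mapping V_i into V_{i+d} for all i) to an endomorphism homogeneous of
degree d. Then there are an integer n and a k-linear isomorphism g : V ≅ W with g(V_i) = W_{i+n} for
every i such that φ(f) = g ∘ f ∘ g⁻¹ for all f; moreover n is unique and g is unique up to a nonzero
scalar: if g' : V ≅ W satisfies g'(V_i) = W_{i+n'} for all i and φ(f) = g' ∘ f ∘ g'⁻¹ for all f,
then n' = n and g' = c·g for some c ∈ kˣ. (The published statement is about non-zero perfect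
complexes over k: an isomorphism of their derived endomorphism algebras, as algebra objects of the
derived category, is induced by an isomorphism from the first complex to a shift of the second, for
a unique shift and up to a unit; this row is its form for finite-dimensional ℤ-graded vector spaces,
to which the bounded derived category of a field is equivalent by taking cohomology.) -/
theorem result (k : Type u) [Field k] (V W : Type v) [AddCommGroup V] [Module k V] [FiniteDimensional k V] [Nontrivial V] [AddCommGroup W] [Module k W] [FiniteDimensional k W] (𝒱 : ℤ → Submodule k V) (h𝒱 : DirectSum.IsInternal 𝒱) (𝒲 : ℤ → Submodule k W) (h𝒲 : DirectSum.IsInternal 𝒲) (φ : Module.End k V ≃ₐ[k] Module.End k W) (hφ : ∀ (d : ℤ) (f : Module.End k V), (∀ (i : ℤ) (x : V), x ∈ 𝒱 i → f x ∈ 𝒱 (i + d)) → ∀ (i : ℤ) (y : W), y ∈ 𝒲 i → φ f y ∈ 𝒲 (i + d)) : ∃ (n : ℤ) (g : V ≃ₗ[k] W), (∀ i : ℤ, Submodule.map (g : V →ₗ[k] W) (𝒱 i) = 𝒲 (i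 + n)) ∧ (∀ f : Module.End k V, φ f = (g : V →ₗ[k] W) ∘ₗ f ∘ₗ (g.symm : W →ₗ[k] V)) ∧ ∀ (n' : ℤ) (g' : V ≃ₗ[k] W), (∀ i : ℤ, Submodule.map (g' : V →ₗ[k] W) (𝒱 i) = 𝒲 (i + n')) → (∀ f : Module.End k V, φ f = (g' : V →ₗ[k] W) ∘ₗ f ∘ₗ (g'.symm : W →ₗ[k] V)) → n' = n ∧ ∃ c : kˣ, ∀ x : V, g' x = c • g x := by
  classical
  obtain ⟨g, hg⟩ := φ.eq_linearEquivConjAlgEquiv
  have hφg : ∀ f : Module.End k V, φ f = (g : V →ₗ[k] W) ∘ₗ f ∘ₗ (g.symm : W →ₗ[k] V) := fun f => by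
    rw [hg]; rfl
  have happ : ∀ (f : Module.End k V) (x : V), φ f (g x) = g (f x) := fun f x => by simp [hφg]
  obtain ⟨i₀, v₀, hv₀, hne⟩ : ∃ i v, v ∈ 𝒱 i ∧ v ≠ 0 := by
    by_contra hc
    push Not at hc
    obtain ⟨v, hv⟩ := exists_ne (0 : V)
    have : v ∈ ⨆ i, 𝒱 i := h𝒱.submodule_iSup_eq_top ▸ Submodule.mem_top
    rw [show (⨆ i, 𝒱 i) = ⊥ from iSup_eq_bot.mpr fun i => (Submodule.eq_bot_iff _).mpr (hc i)] at this
    exact hv (Submodule.mem_bot k |>.mp this)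
  have hdisj := h𝒱.submodule_iSupIndep i₀
  have hnot : v₀ ∉ ⨆ (l) (_ : l ≠ i₀), 𝒱 l := fun h => hne (Submodule.disjoint_def.mp hdisj v₀ hv₀ h)
  obtain ⟨ψ', hψ0, hψ⟩ := Submodule.exists_dual_map_eq_bot_of_notMem hnot inferInstance
  let ψ : V →ₗ[k] k := (ψ' v₀)⁻¹ • ψ'
  have hψv : ψ v₀ = 1 := by simp [ψ, hψ0]
  have hψl : ∀ l, l ≠ i₀ → ∀ x ∈ 𝒱 l, ψ x = 0 := fun l hl x hx => by
    have : ψ' x = 0 := (Submodule.eq_bot_iff _).mp hψ _ ⟨x, Submodule.mem_iSup_of_mem l (Submodule.mem_iSup_of_mem hl hx), rfl⟩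
    simp [ψ, this]
  have hdeg : ∀ (d : ℤ) (v : V), v ∈ 𝒱 (i₀ + d) → ∀ i x, x ∈ 𝒱 i → ψ.smulRight v x ∈ 𝒱 (i + d) := by
    intro d v hv i x hx
    rcases eq_or_ne i i₀ with rfl | hi
    · exact Submodule.smul_mem _ _ hv
    · simp [hψl i hi x hx]
  -- the image of the chosen vector is homogeneous
  obtain ⟨j, hj⟩ : ∃ j, g v₀ ∈ 𝒲 j := by
    by_contra hc
    push Not at hc
    have h0 : φ (ψ.smulRight v₀) (g v₀) = g v₀ := by rw [happ]; simp [hψv]
    have hker : (⨆ j, 𝒲 j) ≤ LinearMap.ker (φ (ψ.smulRight v₀)) := by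
      refine iSup_le fun j y hy => ?_
      have h1 : φ (ψ.smulRight v₀) y ∈ 𝒲 j := by
        simpa using hφ 0 _ (fun i x hx => hdeg 0 v₀ (by rwa [add_zero]) i x hx) j y hy
      have h2 : φ (ψ.smulRight v₀) y = ψ (g.symm y) • g v₀ := by
        rw [hφg]; simp
      rw [LinearMap.mem_ker, h2]
      by_contra hne'
      have hc0 : ψ (g.symm y) ≠ 0 := fun h => hne' (by rw [h, zero_smul])
      rw [h2] at h1
      exact hc j (by simpa [smul_smul, hc0] using (𝒲 j).smul_mem (ψ (g.symm y))⁻¹ h1)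
    rw [h𝒲.submodule_iSup_eq_top] at hker
    exact hne (g.map_eq_zero_iff.mp (h0.symm.trans (LinearMap.mem_ker.mp (hker Submodule.mem_top))))
  set n := j - i₀ with hn
  have hsub : ∀ i, ∀ v ∈ 𝒱 i, g v ∈ 𝒲 (i + n) := by
    intro i v hv
    have h1 := hφ (i - i₀) (ψ.smulRight v) (fun l x hx => hdeg (i - i₀) v (by rwa [add_sub_cancel]) l x hx) j (g v₀) hj
    rw [happ] at h1
    simp only [LinearMap.smulRight_apply, hψv, one_smul] at h1
    rwa [show i + n = j + (i - i₀) by omega]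
  have hmap : ∀ i : ℤ, Submodule.map (g : V →ₗ[k] W) (𝒱 i) = 𝒲 (i + n) := by
    intro i
    refine le_antisymm (by rintro _ ⟨v, hv, rfl⟩; exact hsub i v hv) fun w hw => ?_
    have hv : g.symm w ∈ 𝒱 i ⊔ ⨆ (l) (_ : l ≠ i), 𝒱 l := by
      rw [← iSup_split_single 𝒱 i, h𝒱.submodule_iSup_eq_top]; trivial
    obtain ⟨a, ha, r, hr, har⟩ := Submodule.mem_sup.mp hv
    refine ⟨a, ha, ?_⟩
    have hgr : g r ∈ ⨆ (l) (_ : l ≠ i + n), 𝒲 l := by
      have : (⨆ (l) (_ : l ≠ i), 𝒱 l) ≤ Submodule.comap (g : V →ₗ[k] W) (⨆ (l) (_ : l ≠ i + n), 𝒲 l) :=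
        iSup₂_le fun l hl x hx => Submodule.mem_iSup_of_mem (l + n) (Submodule.mem_iSup_of_mem (by omega) (hsub l x hx))
      exact this hr
    have hgr' : g r ∈ 𝒲 (i + n) := by
      rw [show g r = w - g a by rw [← g.apply_symm_apply w, ← har, map_add, add_sub_cancel_left]]
      exact sub_mem hw (hsub i a ha)
    have := Submodule.disjoint_def.mp (h𝒲.submodule_iSupIndep (i + n)) _ hgr' hgr
    rw [← g.apply_symm_apply w, ← har, map_add, this, add_zero]
    rfl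
  refine ⟨n, g, hmap, hφg, fun n' g' hg'1 hg'2 => ?_⟩
  have hcomm : ∀ x, g.symm (g' x) = ψ (g.symm (g' v₀)) • x := by
    intro x
    have h1 := LinearMap.congr_fun ((hg'2 (ψ.smulRight x)).symm.trans (hφg (ψ.smulRight x))) (g' v₀)
    simp only [LinearMap.comp_apply, LinearEquiv.coe_coe, LinearEquiv.symm_apply_apply, LinearMap.smulRight_apply, hψv, one_smul] at h1
    rw [h1, LinearEquiv.symm_apply_apply]
  set c := ψ (g.symm (g' v₀)) with hc
  have hc0 : c ≠ 0 := fun h => by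
    have := hcomm v₀
    rw [h, zero_smul] at this
    exact hne (g'.map_eq_zero_iff.mp (g.symm.map_eq_zero_iff.mp this))
  have hgg : ∀ x, g' x = c • g x := fun x => by rw [← map_smul, ← hcomm, g.apply_symm_apply]
  refine ⟨?_, Units.mk0 c hc0, hgg⟩
  by_contra hnn
  have h1 : g v₀ ∈ 𝒲 (i₀ + n') := by
    have : g' v₀ ∈ 𝒲 (i₀ + n') := hg'1 i₀ ▸ ⟨v₀, hv₀, rfl⟩
    rw [hgg] at this
    simpa [smul_smul, hc0] using (𝒲 (i₀ + n')).smul_mem c⁻¹ this
  exact hne (g.map_eq_zero_iff.mp (Submodule.disjoint_def.mp (h𝒲.submodule_iSupIndep (i₀ + n)) _ (hsub i₀ v₀ hv₀)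
    (Submodule.mem_iSup_of_mem (i₀ + n') (Submodule.mem_iSup_of_mem (by omega) h1))))

end Groth.Agent.S13846
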