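import Groth.Statements.S13848
import Mathlib.RingTheory.SimpleRing.Basic
import Mathlib.RingTheory.TwoSidedIdeal.Operations
import Mathlib.RingTheory.Nakayama
import Mathlib.RingTheory.Jacobson.Ideal
import Mathlib.LinearAlgebra.Finsupp.LinearCombination

set_option autoImplicit false
universe u v
open TwSh

namespace Groth.Agent.S13848

/-- Let A be a ring with A/J a simple left-Artinian ring, J the Jacobson radical, and let P be a
non-zero finitely generated projective left A-module. An A-linear automorphism u of P which commutes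
with every A-linear endomorphism of P (equivalently, induces the identity on End_A(P) by
conjugation) is scalar multiplication by a unique central element a of A: u(x) = a·x for all x ∈ P,
and a is determined by u. (So the automorphisms of P acting trivially on End_A(P) are exactly the
central units of A acting by scalars; the published assertion does not exclude P = 0, where
uniqueness fails.) -/
theorem result (A : Type u) [Ring A] [IsSimpleRing (A ⧸ Ring.jacobson A)] [IsArtinianRing (A ⧸ Ring.jacobson A)] (P : Type v) [AddCommGroup P] [Module A P] [Module.Finite A P] [Module.Projective A P] [Nontrivial P] (u : P ≃ₗ[A] P) (hu : ∀ f : Module.End A P, (u : P →ₗ[A] P) ∘ₗ f = f ∘ₗ (u : P →ₗ[A] P)) : ∃! a : A, (∀ b : A, a * b = b * a) ∧ ∀ x : P, u x = a • x := by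
  classical
  let T : Ideal A := Submodule.span A (Set.range fun q : (P →ₗ[A] A) × P => q.1 q.2)
  have hT : ∀ a ∈ T, ∀ b, a * b ∈ T := by
    intro a ha b
    induction ha using Submodule.span_induction with
    | mem a ha =>
      obtain ⟨⟨f, p⟩, rfl⟩ := ha
      exact Submodule.subset_span ⟨((LinearMap.id : A →ₗ[A] A).smulRight b ∘ₗ f, p), by simp⟩
    | zero => simp
    | add a c _ _ ha hc => rw [add_mul]; exact add_mem ha hc
    | smul r a _ ha => rw [smul_mul_assoc]; exact T.smul_mem r ha
  have hT1 : (1 : A) ∈ T := by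
    let J := Ring.jacobson A
    let π : A →+* A ⧸ J := Ideal.Quotient.mk J
    let TJ : TwoSidedIdeal (A ⧸ J) := TwoSidedIdeal.mk' (π '' (T : Set A)) ⟨0, zero_mem T, map_zero π⟩
      (by rintro _ _ ⟨a, ha, rfl⟩ ⟨b, hb, rfl⟩; exact ⟨a + b, add_mem ha hb, map_add π a b⟩)
      (by rintro _ ⟨a, ha, rfl⟩; exact ⟨-a, neg_mem ha, map_neg π a⟩)
      (by
        rintro x _ ⟨a, ha, rfl⟩
        obtain ⟨x, rfl⟩ := Ideal.Quotient.mk_surjective x
        exact ⟨x * a, T.mul_mem_left x ha, map_mul π x a⟩)
      (by
        rintro _ y ⟨a, ha, rfl⟩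
        obtain ⟨y, rfl⟩ := Ideal.Quotient.mk_surjective y
        exact ⟨a * y, hT a ha y, map_mul π a y⟩)
    rcases IsSimpleOrder.eq_bot_or_eq_top TJ with h | h
    · exfalso
      obtain ⟨s, hs⟩ := (Module.projective_def).mp ‹Module.Projective A P›
      have hTP : ∀ x : P, x ∈ J • (⊤ : Submodule A P) := fun x => by
        conv => arg 2; rw [← hs x]
        rw [Finsupp.linearCombination_apply]
        refine Submodule.sum_mem _ fun p _ => Submodule.smul_mem_smul ?_ Submodule.mem_top
        have h1 : s x p ∈ T := Submodule.subset_span ⟨(Finsupp.lapply p ∘ₗ s, x), rfl⟩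
        have h2 : π (s x p) ∈ TJ := (TwoSidedIdeal.mem_mk' _ _ _ _ _ _ _).mpr ⟨_, h1, rfl⟩
        rw [h, TwoSidedIdeal.mem_bot] at h2
        exact Ideal.Quotient.eq_zero_iff_mem.mp h2
      have : (⊤ : Submodule A P) ≤ J • ⊤ := fun x _ => hTP x
      exact (top_ne_bot : (⊤ : Submodule A P) ≠ ⊥) (Submodule.FG.eq_bot_of_le_jacobson_smul Module.Finite.fg_top this)
    · have h2 : π 1 ∈ TJ := h ▸ TwoSidedIdeal.mem_top _
      obtain ⟨t, ht, ht1⟩ := (TwoSidedIdeal.mem_mk' _ _ _ _ _ _ _).mp h2
      have h3 : 1 - t ∈ J := Ideal.Quotient.eq.mp ht1.symm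
      have h4 := Ideal.exists_mul_sub_mem_of_sub_one_mem_jacobson (I := (⊥ : Ideal A)) t (by
        rw [← neg_sub]; exact neg_mem (by simpa [J, Ring.jacobson_eq_sInf_isMaximal, Ideal.jacobson] using h3))
      obtain ⟨r, hr⟩ := h4
      rw [Ideal.mem_bot, sub_eq_zero] at hr
      exact hr ▸ T.mul_mem_left r ht
  obtain ⟨l, hl⟩ := (Finsupp.mem_span_range_iff_exists_finsupp).mp hT1
  let a := l.sum fun q r => r * q.1 (u q.2)
  have hax : ∀ x : P, u x = a • x := fun x => by
    calc u x = u ((l.sum fun q r => r * q.1 q.2) • x) := by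
          rw [show (l.sum fun q r => r * q.1 q.2) = 1 by simpa [smul_eq_mul] using hl, one_smul]
      _ = _ := by
        simp only [a, Finsupp.sum, Finset.sum_smul, map_sum, mul_smul, map_smul]
        refine Finset.sum_congr rfl fun q _ => ?_
        congr 1
        have := LinearMap.congr_fun (hu (q.1.smulRight x)) q.2
        simpa [map_smul] using this
  have hfaith : ∀ c : A, (∀ x : P, c • x = 0) → c = 0 := fun c hc => by
    have h5 : ∀ y ∈ T, ∀ e : A, (∀ x : P, e • x = 0) → e * y = 0 := by
      intro y hy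
      induction hy using Submodule.span_induction with
      | mem y hy =>
        obtain ⟨⟨f, p⟩, rfl⟩ := hy
        intro e he
        rw [← smul_eq_mul, ← map_smul, he, map_zero]
      | zero => simp
      | add y z _ _ hy hz => intro e he; rw [mul_add, hy e he, hz e he, add_zero]
      | smul r y _ ih =>
        intro e he
        rw [smul_eq_mul, ← mul_assoc]
        exact ih _ fun x => by rw [mul_smul, he]
    simpa using h5 1 hT1 c hc
  refine ⟨a, ⟨fun b => ?_, hax⟩, fun a' ha' => ?_⟩
  · refine sub_eq_zero.mp (hfaith _ fun x => ?_)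
    rw [sub_smul, mul_smul, mul_smul, ← hax, ← hax, map_smul, sub_self]
  · refine sub_eq_zero.mp (hfaith _ fun x => ?_)
    rw [sub_smul, ← hax, ← ha'.2, sub_self]

end Groth.Agent.S13848
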