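import Groth.Statements.S13860
import Mathlib
-- import your own Groth.Agent.* helpers here

set_option autoImplicit false
universe u v w
open ModRep

namespace Groth.Agent.S13860

/-- For k a field of characteristic p > 0, G a finite group and P a Sylow p-subgroup of G, a short exact
sequence of k[G]-modules has a k[G]-linear splitting exactly when it has a k[P]-linear one. Stated
here for the surjection of the sequence: a G-equivariant k-linear map g : B → C between k-linear
representations of G admits a G-equivariant k-linear section if and only if it admits a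
P-equivariant k-linear section. -/
theorem result {k : Type u} [Field k] (p : ℕ) [Fact p.Prime]
    [CharP k p] {G : Type v} [Group G] [Finite G] (P : Sylow p G)
    {B C : Type w} [AddCommGroup B] [Module k B] [AddCommGroup C] [Module k C]
    (ρB : Representation k G B) (ρC : Representation k G C)
    (g : B →ₗ[k] C) (hg : ∀ x : G, g ∘ₗ ρB x = ρC x ∘ₗ g) :
    (∃ s : C →ₗ[k] B, g ∘ₗ s = LinearMap.id ∧ ∀ x : G, s ∘ₗ ρC x = ρB x ∘ₗ s) ↔
      (∃ s : C →ₗ[k] B, g ∘ₗ s = LinearMap.id ∧ ∀ x : G, x ∈ P → s ∘ₗ ρC x = ρB x ∘ₗ s) := by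
  classical
  refine ⟨fun ⟨s, h1, h2⟩ => ⟨s, h1, fun x _ => h2 x⟩, fun ⟨s, h1, h2⟩ => ?_⟩
  have hN : (((P : Subgroup G).index : ℕ) : k) ≠ 0 := by
    rw [Ne, CharP.cast_eq_zero_iff k p]; exact P.not_dvd_index
  haveI := Fintype.ofFinite (G ⧸ (P : Subgroup G))
  have hB : ∀ (x y : G) (v : B), ρB (x * y) v = ρB x (ρB y v) := fun x y v => by
    rw [map_mul]; rfl
  have hC : ∀ (x y : G) (v : C), ρC (x * y) v = ρC x (ρC y v) := fun x y v => by
    rw [map_mul]; rfl
  let term : G → (C →ₗ[k] B) := fun x => ρB x ∘ₗ s ∘ₗ ρC x⁻¹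
  have hinv : ∀ x y : G, x⁻¹ * y ∈ (P : Subgroup G) → term x = term y := by
    intro x y hxy
    obtain ⟨q, hq, rfl⟩ : ∃ q ∈ (P : Subgroup G), y = x * q := ⟨_, hxy, by group⟩
    refine LinearMap.ext fun v => ?_
    show ρB x (s (ρC x⁻¹ v)) = ρB (x * q) (s (ρC (x * q)⁻¹ v))
    have h := LinearMap.congr_fun (h2 q hq) (ρC (x * q)⁻¹ v)
    simp only [LinearMap.comp_apply] at h
    rw [hB, ← h, ← hC, show q * (x * q)⁻¹ = x⁻¹ by group]
  let T : G ⧸ (P : Subgroup G) → (C →ₗ[k] B) := Quotient.lift term fun x y h =>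
    hinv x y (QuotientGroup.leftRel_apply.1 h)
  refine ⟨(((P : Subgroup G).index : k))⁻¹ • ∑ q, T q, ?_, ?_⟩
  · refine LinearMap.ext fun v => ?_
    have hq : ∀ q, g (T q v) = v := fun q => by
      induction q using QuotientGroup.induction_on with
      | _ x =>
        show g (ρB x (s (ρC x⁻¹ v))) = v
        have hgx := LinearMap.congr_fun (hg x) (s (ρC x⁻¹ v))
        simp only [LinearMap.comp_apply] at hgx
        rw [hgx, show g (s (ρC x⁻¹ v)) = ρC x⁻¹ v from LinearMap.congr_fun h1 _, ← hC, mul_inv_cancel, map_one]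
        rfl
    simp only [LinearMap.comp_apply, LinearMap.smul_apply, LinearMap.sum_apply, map_smul, map_sum, hq,
      Finset.sum_const, Finset.card_univ, ← Nat.card_eq_fintype_card, LinearMap.id_apply]
    rw [← Subgroup.index_eq_card, ← Nat.cast_smul_eq_nsmul k, smul_smul, inv_mul_cancel₀ hN, one_smul]
  · intro y
    refine LinearMap.ext fun v => ?_
    simp only [LinearMap.comp_apply, LinearMap.smul_apply, LinearMap.sum_apply, map_smul, map_sum]
    congr 1
    refine (Fintype.sum_equiv (MulAction.toPerm y) _ _ fun q => ?_).symm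
    induction q using QuotientGroup.induction_on with
    | _ x =>
      show ρB y (ρB x (s (ρC x⁻¹ v))) = ρB (y * x) (s (ρC (y * x)⁻¹ (ρC y v)))
      rw [hB, ← hC, show (y * x)⁻¹ * y = x⁻¹ by group]

end Groth.Agent.S13860
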