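import Groth.Statements.S1387
import Groth.Agent.FlatMor66.Vertical

set_option autoImplicit false
universe u
open FlatMor

namespace Groth.Agent.S1387

open AlgebraicGeometry CategoryTheory Limits in
/-- Let f : X → S be dominant and locally of finite type with X and S irreducible, let η be the generic
point of S and s a point with dim X_s ≤ dim X_η, and let Z be a locally principal closed subscheme
of X (its ideal sheaf is generated by one section on an affine neighbourhood of each point) whose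
generic fibre is empty. Then, set-theoretically, the fibre of Z over s is a union of irreducible
components of the fibre of X over s. -/
theorem result {X S : Scheme.{u}} (f : X ⟶ S) [IrreducibleSpace ↑S] [IrreducibleSpace ↑X] [IsDominant f] [LocallyOfFiniteType f]
    (s : S) (hdim : topologicalKrullDim ↑(f.fiber s) ≤ topologicalKrullDim ↑(f.fiber (genericPoint ↑S)))
    (Z : X.IdealSheafData) (hZ : ∀ x : X, ∃ (U : X.Opens) (hU : IsAffineOpen U) (g : Γ(X, U)), x ∈ U ∧ Z.ideal ⟨U, hU⟩ = Ideal.span {g})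
    (hη : ∀ x ∈ (Z.support : Set ↑X), f x ≠ genericPoint ↑S) :
    ∀ x : ↑(f ⁻¹' {s}), (x : ↑X) ∈ (Z.support : Set ↑X) →
      ∃ C ∈ irreducibleComponents ↑(f ⁻¹' {s}), x ∈ C ∧ Subtype.val '' C ⊆ (Z.support : Set ↑X) := by
  rintro ⟨x, hx⟩ hxZ
  have hloc : ∀ x : X, ∃ (U : X.Opens) (g : Γ(X, U)), x ∈ U ∧ ∀ y ∈ U, y ∈ (Z.support : Set ↑X) ↔ y ∉ X.basicOpen g := by
    intro x
    obtain ⟨U, hU, g, hxU, hg⟩ := hZ x
    refine ⟨U, g, hxU, fun y hy => ?_⟩
    rw [SetLike.mem_coe, Scheme.IdealSheafData.mem_support_iff_of_mem (U := ⟨U, hU⟩) hy, hg, Scheme.zeroLocus_span,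
      Scheme.mem_zeroLocus_iff]
    simp
  obtain ⟨z, hzx, hfz, hzmax, hzZ⟩ :=
    Groth.Agent.FlatMor66.exists_isFibreMax_mem f s hdim (Z.support : Set ↑X) hloc hη x hxZ hx
  have : QuasiSober ↥(f ⁻¹' {s}) := (f.fiberHomeo s).symm.isClosedEmbedding.quasiSober
  let z' : ↥(f ⁻¹' {s}) := ⟨z, hfz⟩
  refine ⟨closure {z'}, Groth.Agent.E4O.closure_mem_irreducibleComponents fun w hw => Subtype.ext
    (hzmax w.1 ((subtype_specializes_iff _ _).1 hw) (w.2.trans hfz.symm)), ?_, ?_⟩
  · exact specializes_iff_mem_closure.1 ((subtype_specializes_iff _ _).2 hzx)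
  · rintro _ ⟨w, hw, rfl⟩
    exact ((subtype_specializes_iff _ _).1 (specializes_iff_mem_closure.2 hw)).mem_closed Z.support.isClosed hzZ

end Groth.Agent.S1387
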