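import Groth.Statements.S13874
import Groth.Agent.PolLaw95.Norm
import Groth.Agent.PolLaw95.Residue
import Groth.Agent.UH57.Basic
import Groth.Agent.S13398

set_option autoImplicit false
universe u
open scoped TensorProduct
open AlgebraicGeometry
open ZeroCyc

namespace Groth.Agent.S13874

/-- Affine form. Let A be a commutative ring, B an A-algebra and d ≥ 1; let (C, γ) be the degree-d
divided power algebra Γ^d_A(B) with its universal multiplicative law γ : B → C of degree d (every
multiplicative law of degree d out of B factors uniquely through γ), and let φ : Γ^d_A(B) →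
TS^d_A(B) be the canonical homomorphism to the symmetric tensors, taken as data characterised by:
after any base change S, φ ∘ γ sends Σ_j s_j ⊗ b_j to Σ_{c : [d] → [n]} (∏_i s_{c(i)}) ⊗ (b_{c(1)} ⊗
⋯ ⊗ b_{c(d)}), i.e. φ corresponds to the law x ↦ x ⊗ ⋯ ⊗ x. Then the morphism Spec TS^d_A(B) → Spec
Γ^d_A(B) induced by φ (the comparison map from the d-th symmetric product of Spec B over Spec A to
the scheme of degree-d divided powers) is a universal homeomorphism inducing an isomorphism on every
residue field. (The published statement is for a separated algebraic space X over an algebraic space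
S; this row is its content for X = Spec B over S = Spec A. The second assertion of the published
statement, that the map is an isomorphism when B is flat over A or A contains the rationals, is not
part of this row.) -/
theorem result {A B C : Type u} [CommRing A] [CommRing B] [Algebra A B] [CommRing C] [Algebra A C] (d : ℕ) (hd : 0 < d)
    (γ : PolLaw.MulLaw A B C d) (hγ : PolLaw.IsGammaD γ) (φ : C →ₐ[A] SymTen.TS A B d)
    (hφ : ∀ (S : Type u) [CommSemiring S] [Algebra A S] (n : ℕ) (s : Fin n → S) (b : Fin n → B),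
      ((SymTen.TS A B d).val.comp φ).toLinearMap.lTensor S (γ.law.toFun' S (∑ j, s j ⊗ₜ[A] b j)) =
        ∑ c : Fin d → Fin n, (∏ i, s (c i)) ⊗ₜ[A] PiTensorProduct.tprod A (fun i => b (c i))) :
    FlatMor.IsUnivHomeo (Spec.map (CommRingCat.ofHom φ.toRingHom)) ∧
      ∀ x : ↥(Spec (CommRingCat.of (SymTen.TS A B d))),
        Function.Surjective ((Spec.map (CommRingCat.ofHom φ.toRingHom)).residueFieldMap x).hom := by
  let T := SymTen.TS A B d
  let _ : Algebra C T := φ.toRingHom.toAlgebra
  have hsym := PolLaw95.postcomp_eq_sym hφ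
  obtain ⟨hker, hpow⟩ := Groth.Agent.S13398.result d γ hγ φ hφ
  have res : ∀ (Q : Ideal T), Q.IsPrime → ∀ y : T, ∃ s : A, ∃ c : C, algebraMap A T s ∉ Q ∧
      ∀ Q' : Ideal T, Q'.IsPrime → Q'.comap (algebraMap A T) = Q.comap (algebraMap A T) →
        algebraMap A T s * y - φ c ∈ Q' := by
    intro Q hQ y
    obtain ⟨s, hs, c, hc⟩ := PolLaw95.exists_smul_sub_mem γ φ hsym (Q.comap (algebraMap A T)) y
    exact ⟨s, c, hs, fun Q' h1 h2 => by rw [← Algebra.smul_def]; exact hc Q' h1 h2⟩
  have hT : UH57.TR C T := fun Q hQ y => by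
    obtain ⟨s, c, hs, hc⟩ := res Q hQ y
    refine ⟨c, algebraMap A C s, ?_, ?_⟩
    · rw [RingHom.algebraMap_toAlgebra, AlgHom.toRingHom_eq_coe, RingHom.coe_coe, AlgHom.commutes]
      exact hs
    · rw [RingHom.algebraMap_toAlgebra, AlgHom.toRingHom_eq_coe, RingHom.coe_coe, AlgHom.commutes]
      exact hc Q hQ rfl
  have hinj : Function.Injective (PrimeSpectrum.comap (algebraMap C T)) := by
    have hle : ∀ Q Q' : PrimeSpectrum T, PrimeSpectrum.comap (algebraMap C T) Q =
        PrimeSpectrum.comap (algebraMap C T) Q' → Q.asIdeal ≤ Q'.asIdeal := by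
      intro Q Q' h y hy
      have hC : ∀ x : C, φ x ∈ Q.asIdeal ↔ φ x ∈ Q'.asIdeal := fun x =>
        SetLike.ext_iff.mp (congrArg PrimeSpectrum.asIdeal h) x
      have hA : Q'.asIdeal.comap (algebraMap A T) = Q.asIdeal.comap (algebraMap A T) := by
        ext a
        have := hC (algebraMap A C a)
        rw [AlgHom.commutes] at this
        exact this.symm
      obtain ⟨s, c, hs, hc⟩ := res _ Q.2 y
      have h1 : φ c ∈ Q.asIdeal := by
        simpa using Q.asIdeal.sub_mem (Q.asIdeal.mul_mem_left (algebraMap A T s) hy) (hc _ Q.2 rfl)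
      have h2 := Q'.asIdeal.add_mem (hc _ Q'.2 hA) ((hC c).mp h1)
      rw [sub_add_cancel] at h2
      exact (Q'.2.mem_or_mem h2).resolve_left fun h => hs (hA ▸ (show s ∈ Q'.asIdeal.comap (algebraMap A T) from h) : s ∈ Q.asIdeal.comap (algebraMap A T))
    exact fun Q Q' h => PrimeSpectrum.ext (le_antisymm (hle Q Q' h) (hle Q' Q h.symm))
  refine ⟨(UH57.isUnivHomeo_iff (A := C) (B := T)).mpr ⟨⟨fun y => ?_⟩, ⟨hinj, hT.pi⟩, fun x hx => ?_⟩,
    UH57.residueFieldMap_surjective_iff.mpr hT⟩
  · obtain ⟨c, hc⟩ := hpow y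
    refine IsIntegral.of_pow (Nat.factorial_pos d) ?_
    rw [← hc]
    exact isIntegral_algebraMap (x := c)
  · exact ⟨d.factorial, hker x hx⟩

end Groth.Agent.S13874
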