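import Groth.Statements.S13877
import Groth.Agent.Len90.Domain
import Mathlib.RingTheory.Discriminant
import Mathlib.RingTheory.KrullDimension.PID
import Mathlib.RingTheory.PowerSeries.Inverse
-- import your own Groth.Agent.* helpers here

set_option autoImplicit false
universe u v
open Crimp

namespace Groth.Agent.S13877

theorem ord_X {k : Type u} [Field k] : Ring.ord (PowerSeries k) (PowerSeries.X) = 1 := by
  haveI : (Ideal.span {(PowerSeries.X : PowerSeries k)}).IsMaximal := by
    rw [← PowerSeries.maximalIdeal_eq_span_X]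
    exact IsLocalRing.maximalIdeal.isMaximal _
  rw [Ring.ord, Module.length_eq_one_iff, isSimpleModule_iff_isCoatom]
  exact Ideal.IsMaximal.out

/-- Over R = k⟦t⟧ with k an algebraically closed field of characteristic zero, let S' be a commutative
R-algebra with an R-basis of size d whose discriminant generates the ideal (t ^ a) (a finite cover
of the formal disk of degree d, unramified over the punctured disk, with branch divisor (t ^ a)),
and let S be an R-subalgebra of S' with an R-basis of size d whose discriminant generates (t ^ b) (a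
crimp with branch divisor (t ^ b)). Then t ^ b annihilates S' / S and twice the R-length of S' / S
plus a equals b. (The published statement is for a family of such subalgebras over a k-scheme T and
also asserts T-flatness of the quotient; this row is its restriction to T a point.) -/
theorem result {k : Type u} [Field k] [IsAlgClosed k] [CharZero k]
    {St : Type v} [CommRing St] [Algebra (PowerSeries k) St] (d a b : ℕ)
    (bt : Module.Basis (Fin d) (PowerSeries k) St)
    (ha : Ideal.span {Algebra.discr (PowerSeries k) ⇑bt} = Ideal.span {(PowerSeries.X : PowerSeries k) ^ a})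
    (S : Subalgebra (PowerSeries k) St) (bS : Module.Basis (Fin d) (PowerSeries k) S)
    (hb : Ideal.span {Algebra.discr (PowerSeries k) ⇑bS} = Ideal.span {(PowerSeries.X : PowerSeries k) ^ b}) :
    (∀ q : St ⧸ Subalgebra.toSubmodule S, ((PowerSeries.X : PowerSeries k) ^ b) • q = 0) ∧
    2 * Module.length (PowerSeries k) (St ⧸ Subalgebra.toSubmodule S) + (a : ℕ∞) = (b : ℕ∞) := by
  classical
  set R := PowerSeries k
  let i : S →ₗ[R] St := S.toSubmodule.subtype
  let M : Matrix (Fin d) (Fin d) R := LinearMap.toMatrix bS bt i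
  have hvec : (fun j => (bS j : St)) = Matrix.vecMul (⇑bt) (M.map (algebraMap R St)) := by
    funext j
    rw [← bt.sum_repr (bS j : St)]
    simp [Matrix.vecMul, dotProduct, M, LinearMap.toMatrix_apply, i, Algebra.smul_def, mul_comm]
    rfl
  have hM : M.det ≠ 0 := by
    intro h0
    obtain ⟨c, hc0, hc⟩ := Matrix.exists_mulVec_eq_zero_iff.2 h0
    refine hc0 ?_
    have h1 : i (bS.equivFun.symm c) = 0 := bt.equivFun.injective (by
      rw [map_zero]
      funext l
      have := congrFun hc l
      rw [Pi.zero_apply] at this ⊢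
      rw [← this]
      simp [M, Matrix.mulVec, dotProduct, LinearMap.toMatrix_apply, i, Finsupp.finsetSum_apply, mul_comm])
    exact bS.equivFun.symm.map_eq_zero_iff.1 (Subtype.ext h1)
  have htr : ∀ x : S, Algebra.trace R S x = Algebra.trace R St (x : St) := by
    intro x
    rw [Algebra.trace_eq_matrix_trace bS, Algebra.trace_eq_matrix_trace bt]
    have h : Algebra.leftMulMatrix bt (x : St) * M = M * Algebra.leftMulMatrix bS x := by
      rw [Algebra.leftMulMatrix_apply, Algebra.leftMulMatrix_apply, ← LinearMap.toMatrix_comp, ← LinearMap.toMatrix_comp]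
      congr 1
    apply mul_left_cancel₀ hM
    have h1 := congrArg (fun N => (M.adjugate * N).trace) h
    simp only [← mul_assoc, Matrix.adjugate_mul, Matrix.smul_mul, one_mul, Matrix.trace_smul, smul_eq_mul] at h1
    rw [← h1, Matrix.trace_mul_cycle, Matrix.mul_adjugate, Matrix.smul_mul, one_mul, Matrix.trace_smul, smul_eq_mul]
  have hdisc : Algebra.discr R ⇑bS = M.det ^ 2 * Algebra.discr R ⇑bt := by
    rw [← Algebra.discr_of_matrix_vecMul, ← hvec, Algebra.discr_def, Algebra.discr_def]
    congr 1
    ext p q
    rw [Algebra.traceMatrix_apply, Algebra.traceMatrix_apply, Algebra.traceForm_apply,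
      Algebra.traceForm_apply, htr, Subalgebra.coe_mul]
  have hord : ∀ {u : R} {m : ℕ}, Ideal.span {u} = Ideal.span {(PowerSeries.X : R) ^ m} →
      Ring.ord R u = m := by
    intro u m h
    rw [show Ring.ord R u = Ring.ord R (PowerSeries.X ^ m) by rw [Ring.ord, Ring.ord, h],
      Ring.ord_pow (mem_nonZeroDivisors_of_ne_zero PowerSeries.X_ne_zero), ord_X, nsmul_one]
  have hsum : Ring.ord R M.det + Ring.ord R M.det + (a : ℕ∞) = b := by
    have hbt0 : Algebra.discr R ⇑bt ≠ 0 := fun h0 => by
      rw [h0, Ideal.span_singleton_eq_span_singleton] at ha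
      exact pow_ne_zero a PowerSeries.X_ne_zero ((associated_zero_iff_eq_zero _).1 ha.symm)
    rw [← hord hb, ← hord ha, hdisc, Ring.ord_mul (R := R) (mem_nonZeroDivisors_of_ne_zero hbt0), sq,
      Ring.ord_mul (R := R) (mem_nonZeroDivisors_of_ne_zero hM)]
  let e : (Fin d → R) ≃ₗ[R] St := bt.equivFun.symm
  have hrange : (LinearMap.range (Matrix.toLin' M)).map (e : (Fin d → R) →ₗ[R] St) = S.toSubmodule := by
    have h1 : (e : (Fin d → R) →ₗ[R] St) ∘ₗ Matrix.toLin' M = i ∘ₗ (bS.equivFun.symm : (Fin d → R) →ₗ[R] S) := by
      refine LinearMap.ext fun c => bt.equivFun.injective (funext fun l => ?_)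
      show bt.equivFun (bt.equivFun.symm (Matrix.toLin' M c)) l = _
      rw [LinearEquiv.apply_symm_apply]
      simp [M, Matrix.mulVec, dotProduct, LinearMap.toMatrix_apply, i, Finsupp.finsetSum_apply, mul_comm]
    rw [← LinearMap.range_comp, h1, LinearMap.range_comp, LinearEquiv.range, Submodule.map_top]
    exact Submodule.range_subtype _
  refine ⟨fun q => ?_, ?_⟩
  · obtain ⟨y, rfl⟩ := Submodule.Quotient.mk_surjective _ q
    rw [← Submodule.Quotient.mk_smul, Submodule.Quotient.mk_eq_zero]
    obtain ⟨v, rfl⟩ := e.surjective y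
    have hdvd : M.det ∣ (PowerSeries.X : R) ^ b := by
      have : Algebra.discr R ⇑bS ∣ (PowerSeries.X : R) ^ b :=
        Ideal.span_singleton_le_span_singleton.1 hb.ge
      rw [hdisc, sq, mul_assoc] at this
      exact (dvd_mul_right _ _).trans this
    obtain ⟨c, hc⟩ := hdvd
    rw [← map_smul, ← hrange]
    refine ⟨_, ⟨c • M.adjugate.mulVec v, ?_⟩, rfl⟩
    rw [map_smul, Matrix.toLin'_apply, Matrix.mulVec_mulVec, Matrix.mul_adjugate, Matrix.smul_mulVec,
      Matrix.one_mulVec, smul_smul, hc, mul_comm]
  · rw [← hsum, ← Len90.coker_eq_ord_det M hM, two_mul, Len90.coker,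
      (Submodule.Quotient.equiv _ _ e hrange).length_eq]

end Groth.Agent.S13877
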