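import Groth.Statements.S13878
import Mathlib.RingTheory.PowerSeries.Inverse
import Mathlib.LinearAlgebra.Matrix.ToLinearEquiv
-- import your own Groth.Agent.* helpers here

set_option autoImplicit false
universe u
open Crimp

namespace Groth.Agent.S13878

open PowerSeries in
/-- Vectors independent modulo `t` span. -/
theorem exists_coords {k : Type u} [Field k] (f g : Fin 3 → k⟦X⟧)
    (hind : ∀ (a b c : k⟦X⟧) (y : Fin 3 → k⟦X⟧), a • (1 : Fin 3 → k⟦X⟧) + b • f + c • g = (X : k⟦X⟧) • y →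
      X ∣ a ∧ X ∣ b ∧ X ∣ c) (x : Fin 3 → k⟦X⟧) :
    ∃ a b c : k⟦X⟧, a • (1 : Fin 3 → k⟦X⟧) + b • f + c • g = x := by
  let M : Matrix (Fin 3) (Fin 3) k⟦X⟧ := Matrix.of fun i j => ![(1 : Fin 3 → k⟦X⟧), f, g] j i
  have hM : ∀ v : Fin 3 → k⟦X⟧, M.mulVec v = v 0 • (1 : Fin 3 → k⟦X⟧) + v 1 • f + v 2 • g := fun v => by
    funext i
    simp [M, Matrix.mulVec, dotProduct, Fin.sum_univ_three, mul_comm]
  have hu : IsUnit M.det := by
    rw [isUnit_iff_constantCoeff, isUnit_iff_ne_zero]
    intro h0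
    rw [RingHom.map_det] at h0
    obtain ⟨c, hc0, hc⟩ := Matrix.exists_mulVec_eq_zero_iff.2 h0
    have hz : ∀ i, X ∣ M.mulVec (fun j => C (c j)) i := fun i => by
      rw [X_dvd_iff, RingHom.map_mulVec]
      have := congrFun hc i
      simpa [RingHom.mapMatrix_apply, Function.comp_def] using this
    choose y hy using hz
    obtain ⟨h1, h2, h3⟩ := hind _ _ _ y (by rw [← hM]; funext i; exact hy i)
    refine hc0 (funext fun j => ?_)
    rw [X_dvd_iff, constantCoeff_C] at h1 h2 h3
    fin_cases j <;> assumption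
  refine ⟨(M⁻¹.mulVec x) 0, (M⁻¹.mulVec x) 1, (M⁻¹.mulVec x) 2, ?_⟩
  rw [← hM, Matrix.mulVec_mulVec, Matrix.mul_nonsing_inv M hu, Matrix.one_mulVec]

/-- Over R = k⟦t⟧ with k an algebraically closed field of characteristic zero, let S' = R × R × R (the
unramified triple cover of the formal disk) and let S be an R-submodule of S' containing 1 such that
S' / S is isomorphic to R / (t ^ m) ⊕ R / (t ^ n) with m ≤ n. Then t ^ n S' is contained in S, and
there is f in S', not lying in R·1 + t S', such that S = R·1 + R·(t ^ m f) + t ^ n S'. -/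
theorem result {k : Type u} [Field k] [IsAlgClosed k] [CharZero k] (m n : ℕ) (hmn : m ≤ n)
    (S : Submodule (PowerSeries k) (Fin 3 → PowerSeries k))
    (h1 : (1 : (Fin 3 → PowerSeries k)) ∈ S)
    (e : ((Fin 3 → PowerSeries k) ⧸ S) ≃ₗ[PowerSeries k]
      ((PowerSeries k ⧸ Ideal.span {(PowerSeries.X : PowerSeries k) ^ m}) × (PowerSeries k ⧸ Ideal.span {(PowerSeries.X : PowerSeries k) ^ n}))) :
    Ideal.span {(PowerSeries.X : PowerSeries k) ^ n} • (⊤ : Submodule (PowerSeries k) (Fin 3 → PowerSeries k)) ≤ S ∧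
    ∃ f : (Fin 3 → PowerSeries k),
      f ∉ Submodule.span (PowerSeries k) {(1 : (Fin 3 → PowerSeries k))} ⊔ Ideal.span {(PowerSeries.X : PowerSeries k)} • (⊤ : Submodule (PowerSeries k) (Fin 3 → PowerSeries k)) ∧
      S = Submodule.span (PowerSeries k) {(1 : (Fin 3 → PowerSeries k)), ((PowerSeries.X : PowerSeries k) ^ m) • f} ⊔
        Ideal.span {(PowerSeries.X : PowerSeries k) ^ n} • (⊤ : Submodule (PowerSeries k) (Fin 3 → PowerSeries k)) := by
  classical
  set R := PowerSeries k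
  set T : R := PowerSeries.X
  have hsm : ∀ (I : Ideal R) (r z : R), r • Ideal.Quotient.mk I z = Ideal.Quotient.mk I (r * z) := fun _ _ _ => rfl
  set e' := e.toLinearMap.comp S.mkQ with he'
  have hker : ∀ x, x ∈ S ↔ e' x = 0 := fun x => by
    simp [he']
  have hn : ∀ x : Fin 3 → R, T ^ n • x ∈ S := fun x => by
    rw [hker, map_smul]
    obtain ⟨⟨u, v⟩, h⟩ : ∃ q, e' x = q := ⟨_, rfl⟩
    obtain ⟨u, rfl⟩ := Ideal.Quotient.mk_surjective u
    obtain ⟨v, rfl⟩ := Ideal.Quotient.mk_surjective v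
    rw [h, Prod.smul_mk, Prod.mk_eq_zero, hsm, hsm, Ideal.Quotient.eq_zero_iff_mem, Ideal.Quotient.eq_zero_iff_mem,
      Ideal.mem_span_singleton, Ideal.mem_span_singleton]
    exact ⟨(pow_dvd_pow T hmn).mul_right u, dvd_mul_right _ _⟩
  have hle : Ideal.span {T ^ n} • (⊤ : Submodule R (Fin 3 → R)) ≤ S := by
    rw [Submodule.smul_le]
    intro r hr x _
    obtain ⟨r, rfl⟩ := Ideal.mem_span_singleton'.1 hr
    rw [mul_smul]
    exact S.smul_mem r (hn x)
  refine ⟨hle, ?_⟩
  have htmem : ∀ z, z ∈ Ideal.span {T} • (⊤ : Submodule R (Fin 3 → R)) ↔ ∃ y, z = T • y := fun z => by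
    rw [Submodule.ideal_span_singleton_smul, Submodule.mem_smul_pointwise_iff_exists]
    simp [eq_comm]
  have hone : ∀ (a : R) y, a • (1 : Fin 3 → R) = T • y → T ∣ a := fun a y h => ⟨y 0, by simpa using congrFun h 0⟩
  rcases Nat.eq_zero_or_pos n with hn0 | hn0
  · subst hn0
    obtain rfl := Nat.le_zero.1 hmn
    refine ⟨Pi.single 1 1, fun hmem => ?_, ?_⟩
    · obtain ⟨p, hp, q, hq, hpq⟩ := Submodule.mem_sup.1 hmem
      obtain ⟨a, rfl⟩ := Submodule.mem_span_singleton.1 hp
      obtain ⟨y, rfl⟩ := (htmem q).1 hq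
      have h0 := congrArg PowerSeries.constantCoeff (congrFun hpq 0)
      have h1 := congrArg PowerSeries.constantCoeff (congrFun hpq 1)
      simp [T] at h0 h1
      exact zero_ne_one (h0.symm.trans h1)
    · have htop : (Ideal.span {T ^ 0} : Ideal R) • (⊤ : Submodule R (Fin 3 → R)) = ⊤ := by
        rw [pow_zero, Ideal.span_singleton_one, Submodule.top_smul]
      rw [htop] at hle ⊢
      rw [sup_top_eq]
      exact top_le_iff.1 hle
  obtain ⟨f₀, hf₀⟩ : ∃ x, e' x = (1, 0) := e.surjective.comp S.mkQ_surjective _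
  obtain ⟨g, hg⟩ : ∃ x, e' x = (0, 1) := e.surjective.comp S.mkQ_surjective _
  have hfst : ∀ b : R, (Ideal.Quotient.mk (Ideal.span {T ^ m}) b) = b • 1 := fun b => by
    rw [← map_one (Ideal.Quotient.mk _), hsm, mul_one]
  have hsnd : ∀ b : R, (Ideal.Quotient.mk (Ideal.span {T ^ n}) b) = b • 1 := fun b => by
    rw [← map_one (Ideal.Quotient.mk _), hsm, mul_one]
  have hc_of : ∀ (c : R) (z : R ⧸ Ideal.span {T ^ n}),
      c • (1 : R ⧸ Ideal.span {T ^ n}) = T • z → T ∣ c := fun c z h => by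
    obtain ⟨z, rfl⟩ := Ideal.Quotient.mk_surjective z
    rw [← hsnd, hsm, Ideal.Quotient.eq,
      Ideal.mem_span_singleton] at h
    exact (dvd_add_left (dvd_mul_right T z).neg_right).1 (sub_eq_add_neg c _ ▸ (dvd_pow_self T hn0.ne').trans h)
  obtain ⟨f, hef, hf⟩ : ∃ f, e' f = (1, 0) ∧ ∀ (a b c : R) (y : Fin 3 → R),
      a • (1 : Fin 3 → R) + b • f + c • g = T • y → T ∣ a ∧ T ∣ b ∧ T ∣ c := by
    rcases Nat.eq_zero_or_pos m with hm0 | hm0
    · subst hm0
      haveI : Subsingleton (R ⧸ Ideal.span {T ^ 0}) := Ideal.Quotient.subsingleton_iff.2 (by simp)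
      obtain ⟨f, hfS, hf⟩ : ∃ f ∈ S, f ∉ Submodule.span R {(1 : Fin 3 → R), g} ⊔ Ideal.span {T} • ⊤ := by
        by_contra! hall
        let W := Submodule.span R {(1 : Fin 3 → R), g} ⊔ Ideal.span {T} • ⊤
        have hW : ∀ x, x ∈ W := fun x => by
          obtain ⟨⟨u, v⟩, h⟩ : ∃ q, e' x = q := ⟨_, rfl⟩
          obtain ⟨v, rfl⟩ := Ideal.Quotient.mk_surjective v
          have hx : x - v • g ∈ S := by
            rw [hker, map_sub, map_smul, hg, h, Prod.ext_iff]
            exact ⟨Subsingleton.elim _ _, by simp only [Prod.snd_sub, Prod.smul_snd, Prod.snd_zero]; rw [← hsnd, sub_self]⟩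
          rw [← sub_add_cancel x (v • g)]
          exact W.add_mem (hall _ hx) (W.smul_mem v (Submodule.mem_sup_left (Submodule.subset_span (by simp))))
        let φ : Fin 3 → k := fun i => PowerSeries.constantCoeff (g i)
        obtain ⟨l, hl⟩ : ∃ l : Fin 3 → k, l 0 + l 1 + l 2 = 0 ∧ l 0 * φ 0 + l 1 * φ 1 + l 2 * φ 2 = 0 ∧ l ≠ 0 := by
          by_cases h : φ 1 = φ 0
          · exact ⟨![1, -1, 0], by simp, by simp [h], fun h' => one_ne_zero (congrFun h' 0)⟩
          · exact ⟨![φ 2 - φ 1, φ 0 - φ 2, φ 1 - φ 0], by simp, by simp; ring,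
              fun h' => h (sub_eq_zero.1 (congrFun h' 2))⟩
        obtain ⟨hl0, hl1, hl2⟩ := hl
        refine hl2 (funext fun j => ?_)
        have key : ∀ x ∈ W, ∑ i, l i * PowerSeries.constantCoeff (x i) = 0 := by
          intro x hx
          obtain ⟨p, hp, q, hq, rfl⟩ := Submodule.mem_sup.1 hx
          obtain ⟨a, b, rfl⟩ := Submodule.mem_span_pair.1 hp
          obtain ⟨y, rfl⟩ := (htmem q).1 hq
          simp only [Fin.sum_univ_three, Pi.add_apply, Pi.smul_apply, smul_eq_mul, map_add, map_mul,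
            Pi.one_apply, map_one, T, PowerSeries.constantCoeff_X, zero_mul, add_zero, mul_one]
          linear_combination (PowerSeries.constantCoeff a) * hl0 + (PowerSeries.constantCoeff b) * hl1
        simpa [Pi.single_apply, apply_ite PowerSeries.constantCoeff, mul_ite] using key _ (hW (Pi.single j 1))
      refine ⟨f, by rw [(hker f).1 hfS]; exact Prod.ext (Subsingleton.elim _ _) rfl, fun a b c y h => ?_⟩
      have hc : T ∣ c := hc_of c (e' y).2 (by
        have := congrArg (fun z => (e' z).2) h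
        simpa [map_add, map_smul, hg, (hker f).1 hfS,
          show (e' 1) = 0 from (hker 1).1 h1] using this)
      have hb : T ∣ b := by
        by_contra hb
        have hu : IsUnit b := by
          rw [PowerSeries.isUnit_iff_constantCoeff, isUnit_iff_ne_zero]
          exact fun h0 => hb (PowerSeries.X_dvd_iff.2 h0)
        obtain ⟨u, hu⟩ := hu.exists_left_inv
        refine hf ?_
        have hf' : f = (-(u * a)) • (1 : Fin 3 → R) + (-(u * c)) • g + T • (u • y) := by
          rw [smul_comm T u y, ← h, smul_add, smul_add, smul_smul, smul_smul, smul_smul, hu, one_smul, neg_smul, neg_smul]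
          abel
        rw [hf']
        exact Submodule.add_mem_sup (Submodule.add_mem _ (Submodule.smul_mem _ _ (Submodule.subset_span (by simp)))
          (Submodule.smul_mem _ _ (Submodule.subset_span (by simp)))) ((htmem _).2 ⟨_, rfl⟩)
      obtain ⟨b', rfl⟩ := hb
      obtain ⟨c', rfl⟩ := hc
      exact ⟨hone a (y - b' • f - c' • g) (by rw [smul_sub, smul_sub, smul_smul, smul_smul, ← h]; abel),
        dvd_mul_right _ _, dvd_mul_right _ _⟩
    · refine ⟨f₀, hf₀, fun a b c y h => ?_⟩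
      have h' := congrArg e' h
      rw [map_add, map_add, map_smul, map_smul, map_smul, map_smul, hg, hf₀, (hker 1).1 h1] at h'
      simp only [Prod.smul_mk, Prod.mk_add_mk, smul_zero, zero_add, add_zero] at h'
      have hc : T ∣ c := hc_of c (e' y).2 (by simpa using congrArg Prod.snd h')
      have hb : T ∣ b := by
        obtain ⟨z, hz⟩ := Ideal.Quotient.mk_surjective (e' y).1
        have h2 : b • (1 : R ⧸ Ideal.span {T ^ m}) = T • Ideal.Quotient.mk _ z := by
          rw [hz]; simpa using congrArg Prod.fst h'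
        rw [← hfst, hsm, Ideal.Quotient.eq,
          Ideal.mem_span_singleton] at h2
        exact (dvd_add_left (dvd_mul_right T z).neg_right).1 (sub_eq_add_neg b _ ▸ (dvd_pow_self T hm0.ne').trans h2)
      obtain ⟨b', rfl⟩ := hb
      obtain ⟨c', rfl⟩ := hc
      exact ⟨hone a (y - b' • f₀ - c' • g) (by rw [smul_sub, smul_sub, smul_smul, smul_smul, ← h]; abel),
        dvd_mul_right _ _, dvd_mul_right _ _⟩
  have hfS : T ^ m • f ∈ S := by
    rw [hker, map_smul, hef, Prod.smul_mk, smul_zero, ← hfst,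
      Ideal.Quotient.eq_zero_iff_mem.2 (Ideal.mem_span_singleton_self _)]
    rfl
  refine ⟨f, fun hmem => ?_, le_antisymm (fun x hx => ?_) (sup_le ?_ hle)⟩
  · obtain ⟨p, hp, q, hq, hpq⟩ := Submodule.mem_sup.1 hmem
    obtain ⟨a, rfl⟩ := Submodule.mem_span_singleton.1 hp
    obtain ⟨y, rfl⟩ := (htmem q).1 hq
    obtain ⟨-, h, -⟩ := hf (-a) 1 0 y (by rw [one_smul, zero_smul, add_zero, neg_smul, ← hpq]; abel)
    exact PowerSeries.X_irreducible.not_isUnit (isUnit_of_dvd_one h)
  · obtain ⟨a, b, c, rfl⟩ := exists_coords f g hf x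
    have h' := (hker _).1 hx
    rw [map_add, map_add, map_smul, map_smul, map_smul, hg, hef, (hker 1).1 h1] at h'
    simp only [Prod.smul_mk, Prod.mk_add_mk, smul_zero, zero_add, add_zero, Prod.mk_eq_zero] at h'
    rw [← hfst, ← hsnd, Ideal.Quotient.eq_zero_iff_mem, Ideal.Quotient.eq_zero_iff_mem] at h'
    obtain ⟨⟨b, rfl⟩, hc⟩ := And.imp Ideal.mem_span_singleton'.1 id h'
    refine Submodule.add_mem_sup (Submodule.add_mem _ (Submodule.smul_mem _ a (Submodule.subset_span (by simp))) ?_)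
      (Submodule.smul_mem_smul hc Submodule.mem_top)
    rw [mul_smul]
    exact Submodule.smul_mem _ b (Submodule.subset_span (by simp))
  · rw [Submodule.span_le, Set.insert_subset_iff, Set.singleton_subset_iff]
    exact ⟨h1, hfS⟩

end Groth.Agent.S13878
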