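import Groth.Statements.S13879
import Groth.Agent.Small51.Crimp
-- import your own Groth.Agent.* helpers here

set_option autoImplicit false
universe u
open Crimp

namespace Groth.Agent.S13879

theorem closed_iff {A T : Type*} [CommRing A] [CommRing T] [Algebra A T] (w : T) (J : Submodule A T)
    (hJ : ∀ (t : T), ∀ j ∈ J, t * j ∈ J) (S : Submodule A T) (hS : S = Submodule.span A {1, w} ⊔ J) :
    (∀ x ∈ S, ∀ y ∈ S, x * y ∈ S) ↔ w * w ∈ S := by
  have hw : w ∈ S := hS ▸ Submodule.mem_sup_left (Submodule.subset_span (by simp))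
  have h1 : (1 : T) ∈ S := hS ▸ Submodule.mem_sup_left (Submodule.subset_span (by simp))
  refine ⟨fun h => h w hw w hw, fun hww x hx y hy => ?_⟩
  rw [hS, Submodule.mem_sup] at hx hy
  obtain ⟨p, hp, j, hj, rfl⟩ := hx
  obtain ⟨q, hq, l, hl, rfl⟩ := hy
  obtain ⟨a, b, rfl⟩ := Submodule.mem_span_pair.1 hp
  obtain ⟨c, d, rfl⟩ := Submodule.mem_span_pair.1 hq
  have hJS : ∀ j ∈ J, j ∈ S := fun j hj => hS ▸ Submodule.mem_sup_right hj
  have e : (a • (1 : T) + b • w + j) * (c • (1 : T) + d • w + l) =
      (a * c) • (1 : T) + (a * d + b * c) • w + (b * d) • (w * w) +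
        ((a • (1 : T) + b • w + j) * l + (c • (1 : T) + d • w) * j) := by
    simp only [Algebra.smul_def, map_mul, map_add]; ring
  rw [e]
  exact add_mem (add_mem (add_mem (S.smul_mem _ h1) (S.smul_mem _ hw)) (S.smul_mem _ hww))
    (hJS _ (add_mem (hJ _ l hl) (hJ _ j hj)))

theorem smul_top_mul {A T : Type*} [CommRing A] [CommRing T] [Algebra A T] (r : A) (t j : T)
    (hj : j ∈ Ideal.span {r} • (⊤ : Submodule A T)) : t * j ∈ Ideal.span {r} • (⊤ : Submodule A T) := by
  rw [Submodule.ideal_span_singleton_smul, Submodule.mem_smul_pointwise_iff_exists] at hj ⊢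
  obtain ⟨z, -, rfl⟩ := hj
  exact ⟨t * z, Submodule.mem_top, (mul_smul_comm r t z).symm⟩


/-- Over R = k⟦t⟧ with k an algebraically closed field of characteristic zero, let S' = R × R × R and
let S be the R-submodule R·1 + R·(t ^ m f) + t ^ n S' of S' for some f in S' and natural numbers m,
n. Then S is closed under multiplication (equivalently, is an R-subalgebra of S') if and only if t ^
(2m) f ^ 2 lies in S. (The published statement has m ≤ n and S' / S isomorphic to R / (t ^ m) ⊕ R /
(t ^ n), under which S has this shape; this row states the criterion for every submodule of this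
shape.) -/
theorem result {k : Type u} [Field k] [IsAlgClosed k] [CharZero k] (m n : ℕ) (f : (Fin 3 → PowerSeries k))
    (S : Submodule (PowerSeries k) (Fin 3 → PowerSeries k))
    (hS : S = Submodule.span (PowerSeries k) {(1 : (Fin 3 → PowerSeries k)), ((PowerSeries.X : PowerSeries k) ^ m) • f} ⊔
        Ideal.span {(PowerSeries.X : PowerSeries k) ^ n} • (⊤ : Submodule (PowerSeries k) (Fin 3 → PowerSeries k))) :
    (∀ x ∈ S, ∀ y ∈ S, x * y ∈ S) ↔ ((PowerSeries.X : PowerSeries k) ^ (2 * m)) • (f * f) ∈ S := by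
  rw [closed_iff _ _ (smul_top_mul _) S hS, smul_mul_smul_comm, ← pow_add, two_mul]

end Groth.Agent.S13879
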