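import Groth.Statements.S13882
import Mathlib.RingTheory.FiniteType
import Mathlib.RingTheory.Ideal.Quotient.Operations
import Mathlib.RingTheory.MvPolynomial.Basic

set_option autoImplicit false
universe u
open FinCov

namespace Groth.Agent.S13882

/-- Over a field K of characteristic zero, the functor that sends a K-scheme S to the set of isomorphism
classes of pairs (A, τ) of an O_S-algebra A and an O_S-module isomorphism τ from A to the free
module of rank d, equivalently to the set of commutative unital algebra structures on the rank-d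
free module with its standard basis, is represented by an affine K-scheme of finite type. Stated on
affine K-schemes in one universe: there is a finitely generated commutative K-algebra B with
bijections between K-algebra maps B → A and based algebra structures of rank d over A, natural in
the commutative K-algebra A. -/
theorem result (K : Type u) [Field K] [CharZero K] (d : ℕ) :
    ∃ (B : Type u) (_ : CommRing B) (_ : Algebra K B) (_ : Algebra.FiniteType K B)
      (η : ∀ (A : Type u) [CommRing A] [Algebra K A], (B →ₐ[K] A) ≃ W4c1hurwitzcpt.BasedAlg d A),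
      ∀ (A A' : Type u) [CommRing A] [Algebra K A] [CommRing A'] [Algebra K A']
        (f : A →ₐ[K] A') (g : B →ₐ[K] A),
        η A' (f.comp g) = (η A g).map f.toRingHom := by
  let σ := ULift.{u} (Fin d × Fin d × Fin d ⊕ Fin d)
  let P := MvPolynomial σ K
  let C : Fin d → Fin d → Fin d → P := fun i j k => MvPolynomial.X ⟨Sum.inl (i, j, k)⟩
  let U : Fin d → P := fun i => MvPolynomial.X ⟨Sum.inr i⟩
  let I : Ideal P := Ideal.span ((Set.range fun q : Fin d × Fin d × Fin d => C q.1 q.2.1 q.2.2 - C q.2.1 q.1 q.2.2) ∪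
    (Set.range fun q : Fin d × Fin d × Fin d × Fin d =>
      (∑ k, C q.1 q.2.1 k * C k q.2.2.1 q.2.2.2) - ∑ k, C q.2.1 q.2.2.1 k * C q.1 k q.2.2.2) ∪
    (Set.range fun q : Fin d × Fin d => (∑ i, U i * C i q.1 q.2) - if q.1 = q.2 then 1 else 0))
  let s0 : W4c1hurwitzcpt.BasedAlg d (P ⧸ I) :=
    { c := fun i j k => Ideal.Quotient.mk I (C i j k)
      u := fun i => Ideal.Quotient.mk I (U i)
      comm := fun i j k => Ideal.Quotient.mk_eq_mk_iff_sub_mem _ _ |>.mpr (Ideal.subset_span (Or.inl (Or.inl ⟨(i, j, k), rfl⟩)))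
      assoc := fun i j l m => by
        simp only [← map_mul, ← map_sum]
        exact Ideal.Quotient.mk_eq_mk_iff_sub_mem _ _ |>.mpr (Ideal.subset_span (Or.inl (Or.inr ⟨(i, j, l, m), rfl⟩)))
      unit := fun j m => by
        have h := Ideal.Quotient.mk_eq_mk_iff_sub_mem _ _ |>.mpr
          (show (∑ i, U i * C i j m) - (if j = m then 1 else 0) ∈ I from Ideal.subset_span (Or.inr ⟨(j, m), rfl⟩))
        simp only [← map_mul, ← map_sum]
        rw [h, apply_ite (Ideal.Quotient.mk I), map_one, map_zero] }
  have hgen : ∀ (A : Type u) [CommRing A] [Algebra K A] (s : W4c1hurwitzcpt.BasedAlg d A),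
      ∀ y ∈ I, MvPolynomial.aeval (R := K) (fun q : σ => Sum.elim (fun t => s.c t.1 t.2.1 t.2.2) s.u q.down) y = 0 := by
    intro A _ _ s y hy
    refine (Ideal.span_le (I := RingHom.ker (MvPolynomial.aeval (R := K) _).toRingHom)).mpr ?_ hy
    rintro _ ((⟨⟨i, j, k⟩, rfl⟩ | ⟨⟨i, j, l, m⟩, rfl⟩) | ⟨⟨j, m⟩, rfl⟩) <;>
      simp only [SetLike.mem_coe, RingHom.mem_ker, AlgHom.toRingHom_eq_coe, RingHom.coe_coe, map_sub, sub_eq_zero]
    · simp [C, s.comm i j k]
    · simpa [C] using s.assoc i j l m
    · simpa [C, U, apply_ite] using s.unit j m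
  refine ⟨P ⧸ I, inferInstance, inferInstance,
    Algebra.FiniteType.of_surjective (Ideal.Quotient.mkₐ K I) Ideal.Quotient.mk_surjective,
    fun A _ _ =>
    { toFun := fun g => s0.map g.toRingHom
      invFun := fun s => Ideal.Quotient.liftₐ I _ (hgen A s)
      left_inv := fun g => by
        refine Ideal.Quotient.algHom_ext _ (MvPolynomial.algHom_ext fun q => ?_)
        rcases q with ⟨⟨i, j, k⟩ | i⟩ <;> simp [s0, C, U, W4c1hurwitzcpt.BasedAlg.map] <;> exact MvPolynomial.aeval_X _ _
      right_inv := fun s => by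
        ext <;> simp [s0, C, U, W4c1hurwitzcpt.BasedAlg.map] <;> exact MvPolynomial.aeval_X _ _ }, fun A A' _ _ _ _ f g => rfl⟩

end Groth.Agent.S13882
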