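import Groth.Statements.S13884
import Groth.Agent.Small51.Crimp
-- import your own Groth.Agent.* helpers here

set_option autoImplicit false
universe u
open Crimp

namespace Groth.Agent.S13884


/-- Over R = k⟦t⟧ with k an algebraically closed field of characteristic zero, let S' = k⟦x⟧ regarded as
an R-algebra through t ↦ x ^ 3, that is S' = R[x] / (x ^ 3 - t), the smooth totally ramified triple
cover of the formal disk. If M is an R-submodule of S' which is free of rank 3, then M has an
R-basis consisting of three power series whose x-adic valuations are pairwise distinct modulo 3.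
(Items (2) and (3) of the published proposition, on the base change of M to R[s] / (s ^ 3 - t), are
not restated.) -/
theorem result {k : Type u} [Field k] [IsAlgClosed k] [CharZero k]
    (M : Submodule (PowerSeries k) (W4c1hurwitzcpt.RootDisk 3 k))
    (bM : Module.Basis (Fin 3) (PowerSeries k) M) :
    ∃ g : Module.Basis (Fin 3) (PowerSeries k) M, ∀ i j : Fin 3, i ≠ j →
      ¬ Nat.ModEq 3 (PowerSeries.order (W4c1hurwitzcpt.RootDisk.val (((g i : M) : (W4c1hurwitzcpt.RootDisk 3 k)) : W4c1hurwitzcpt.RootDisk 3 k))).toNat
        (PowerSeries.order (W4c1hurwitzcpt.RootDisk.val (((g j : M) : (W4c1hurwitzcpt.RootDisk 3 k)) : W4c1hurwitzcpt.RootDisk 3 k))).toNat := by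
  classical
  obtain ⟨B⟩ := Crimp51.nonempty_basis (k := k) (p := 3)
  obtain ⟨r, hr, hrm⟩ := Crimp51.exists_smul_mem_span B (fun i => ((bM i : M) : W4c1hurwitzcpt.RootDisk 3 k))
    (bM.linearIndependent.map' M.subtype (Submodule.ker_subtype M))
  have hle : Submodule.span (PowerSeries k) (Set.range fun i => ((bM i : M) : W4c1hurwitzcpt.RootDisk 3 k)) ≤ M :=
    Submodule.span_le.2 (Set.range_subset_iff.2 fun i => (bM i).2)
  obtain ⟨g, hgM, hind, hord, hspan⟩ := Crimp51.exists_echelon B M r hr fun v => hle (hrm v)
  refine ⟨(Module.Basis.span hind).map (LinearEquiv.ofEq _ _ hspan), fun i j hij => ?_⟩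
  obtain ⟨d, hd, hdm⟩ := hord i
  obtain ⟨e, he, hem⟩ := hord j
  simp only [Module.Basis.map_apply, LinearEquiv.coe_ofEq_apply, Module.Basis.span_apply, hd, he, ENat.toNat_natCast, Nat.ModEq, hdm, hem]
  exact fun h => hij (Fin.ext h)

end Groth.Agent.S13884
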