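import Groth.Statements.S13885
import Groth.Agent.Small51.Crimp
-- import your own Groth.Agent.* helpers here

set_option autoImplicit false
universe u
open Crimp

namespace Groth.Agent.S13885


/-- Over R = k⟦t⟧ with k an algebraically closed field of characteristic zero, let S' = k⟦x⟧ × R, where
k⟦x⟧ is regarded as an R-algebra through t ↦ x ^ 2, that is S' = R[x] / (x ^ 2 - t) ⊕ R, the smooth
simply ramified triple cover of the formal disk, with R embedded diagonally. If M is an R-submodule
of S' containing 1 which is free of rank 3, then M is spanned by 1, (f₁, 0) and (f₂, 0) for some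
power series f₁, f₂ whose x-adic valuations are distinct modulo 2. (Items (2) and (3) of the
published proposition, on the base change of M to R[s] / (s ^ 2 - t), are not restated.) -/
theorem result {k : Type u} [Field k] [IsAlgClosed k] [CharZero k]
    (M : Submodule (PowerSeries k) (W4c1hurwitzcpt.RootDisk 2 k × PowerSeries k))
    (h1 : (1 : (W4c1hurwitzcpt.RootDisk 2 k × PowerSeries k)) ∈ M)
    (bM : Module.Basis (Fin 3) (PowerSeries k) M) :
    ∃ f₁ f₂ : W4c1hurwitzcpt.RootDisk 2 k,
      ¬ Nat.ModEq 2 (PowerSeries.order (W4c1hurwitzcpt.RootDisk.val (f₁ : W4c1hurwitzcpt.RootDisk 2 k))).toNat (PowerSeries.order (W4c1hurwitzcpt.RootDisk.val (f₂ : W4c1hurwitzcpt.RootDisk 2 k))).toNat ∧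
      M = Submodule.span (PowerSeries k) {(1 : (W4c1hurwitzcpt.RootDisk 2 k × PowerSeries k)), (f₁, 0), (f₂, 0)} := by
  classical
  obtain ⟨B⟩ := Crimp51.nonempty_basis (k := k) (p := 2)
  let T := W4c1hurwitzcpt.RootDisk 2 k
  let B3 : Module.Basis (Fin 3) (PowerSeries k) (T × PowerSeries k) :=
    (B.prod (Module.Basis.singleton (Fin 1) (PowerSeries k))).reindex (finSumFinEquiv)
  obtain ⟨r, hr, hrm⟩ := Crimp51.exists_smul_mem_span B3 (fun i => ((bM i : M) : T × PowerSeries k))
    (bM.linearIndependent.map' M.subtype (Submodule.ker_subtype M))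
  have hle : Submodule.span (PowerSeries k) (Set.range fun i => ((bM i : M) : T × PowerSeries k)) ≤ M :=
    Submodule.span_le.2 (Set.range_subset_iff.2 fun i => (bM i).2)
  obtain ⟨g, hgM, -, hord, hspan⟩ := Crimp51.exists_echelon B (M.comap (LinearMap.inl (PowerSeries k) T (PowerSeries k))) r hr
    fun v => by
      have := hle (hrm (v, 0))
      rwa [Prod.smul_mk, smul_zero] at this
  refine ⟨g 0, g 1, ?_, ?_⟩
  · obtain ⟨d, hd, hdm⟩ := hord 0
    obtain ⟨e, he, hem⟩ := hord 1
    simp only [hd, he, ENat.toNat_natCast, Nat.ModEq, hdm, hem]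
    decide
  refine le_antisymm (fun v hv => ?_) (Submodule.span_le.2 ?_)
  · have h2 : (v.1 - v.2 • (1 : T)) ∈ Submodule.span (PowerSeries k) (Set.range g) := hspan ▸ by
      have := M.sub_mem hv (M.smul_mem v.2 h1)
      have he : v - v.2 • (1 : T × PowerSeries k) = (v.1 - v.2 • (1 : T), 0) := Prod.ext rfl (by simp)
      rwa [he] at this
    obtain ⟨c, hc⟩ := (Submodule.mem_span_range_iff_exists_fun _).1 h2
    rw [Fin.sum_univ_two] at hc
    rw [show v = v.2 • (1 : T × PowerSeries k) + (c 0 • (g 0, (0 : PowerSeries k)) + c 1 • (g 1, (0 : PowerSeries k))) from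
      Prod.ext (by simp [hc]) (by simp)]
    exact add_mem (Submodule.smul_mem _ _ (Submodule.subset_span (by simp)))
      (add_mem (Submodule.smul_mem _ _ (Submodule.subset_span (by simp))) (Submodule.smul_mem _ _ (Submodule.subset_span (by simp))))
  · rintro _ (rfl | rfl | rfl)
    exacts [h1, hgM 0, hgM 1]

end Groth.Agent.S13885
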