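import Groth.Statements.S13886
import Groth.Agent.Small51.Crimp
-- import your own Groth.Agent.* helpers here

set_option autoImplicit false
universe u
open Crimp

namespace Groth.Agent.S13886

theorem closed_iff {A T : Type*} [CommRing A] [CommRing T] [Algebra A T] (w : T) (J : Submodule A T)
    (hJ : ∀ (t : T), ∀ j ∈ J, t * j ∈ J) (S : Submodule A T) (hS : S = Submodule.span A {1, w} ⊔ J) :
    (∀ x ∈ S, ∀ y ∈ S, x * y ∈ S) ↔ w * w ∈ S := by
  have hw : w ∈ S := hS ▸ Submodule.mem_sup_left (Submodule.subset_span (by simp))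
  have h1 : (1 : T) ∈ S := hS ▸ Submodule.mem_sup_left (Submodule.subset_span (by simp))
  refine ⟨fun h => h w hw w hw, fun hww x hx y hy => ?_⟩
  rw [hS, Submodule.mem_sup] at hx hy
  obtain ⟨p, hp, j, hj, rfl⟩ := hx
  obtain ⟨q, hq, l, hl, rfl⟩ := hy
  obtain ⟨a, b, rfl⟩ := Submodule.mem_span_pair.1 hp
  obtain ⟨c, d, rfl⟩ := Submodule.mem_span_pair.1 hq
  have hJS : ∀ j ∈ J, j ∈ S := fun j hj => hS ▸ Submodule.mem_sup_right hj
  have e : (a • (1 : T) + b • w + j) * (c • (1 : T) + d • w + l) =
      (a * c) • (1 : T) + (a * d + b * c) • w + (b * d) • (w * w) +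
        ((a • (1 : T) + b • w + j) * l + (c • (1 : T) + d • w) * j) := by
    simp only [Algebra.smul_def, map_mul, map_add]; ring
  rw [e]
  exact add_mem (add_mem (add_mem (S.smul_mem _ h1) (S.smul_mem _ hw)) (S.smul_mem _ hww))
    (hJS _ (add_mem (hJ _ l hl) (hJ _ j hj)))

theorem smul_top_mul {A T : Type*} [CommRing A] [CommRing T] [Algebra A T] (r : A) (t j : T)
    (hj : j ∈ Ideal.span {r} • (⊤ : Submodule A T)) : t * j ∈ Ideal.span {r} • (⊤ : Submodule A T) := by
  rw [Submodule.ideal_span_singleton_smul, Submodule.mem_smul_pointwise_iff_exists] at hj ⊢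
  obtain ⟨z, -, rfl⟩ := hj
  exact ⟨t * z, Submodule.mem_top, (mul_smul_comm r t z).symm⟩


/-- Over R = k⟦t⟧ with k an algebraically closed field of characteristic zero, let S' = R × R × R be the
unramified triple cover of the formal disk and let m ≤ n ≤ 2m be natural numbers. For every f in S'
not lying in R·1 + t S', the R-submodule S = R·1 + R·(t ^ m f) + t ^ n S' is closed under
multiplication, hence an R-subalgebra (a crimp), and S' / S is isomorphic to R / (t ^ m) ⊕ R / (t ^
n) (so the crimp has μ-invariant n - m and branch divisor (t ^ (2(m+n)))). Together with the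
structure result for submodules with this quotient, this identifies the k-points of the space of
crimps of splitting type (m, n), 2m ≥ n, with the submodules of this shape. (The published statement
moreover asserts that this stratum is an irreducible variety of dimension n - m; that part is not
restated.) -/
theorem result {k : Type u} [Field k] [IsAlgClosed k] [CharZero k]
    (m n : ℕ) (hmn : m ≤ n) (hn : n ≤ 2 * m)
    (f : (Fin 3 → PowerSeries k)) (hf : f ∉ Submodule.span (PowerSeries k) {(1 : (Fin 3 → PowerSeries k))} ⊔ Ideal.span {(PowerSeries.X : PowerSeries k)} • (⊤ : Submodule (PowerSeries k) (Fin 3 → PowerSeries k)))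
    (S : Submodule (PowerSeries k) (Fin 3 → PowerSeries k))
    (hS : S = Submodule.span (PowerSeries k) {(1 : (Fin 3 → PowerSeries k)), ((PowerSeries.X : PowerSeries k) ^ m) • f} ⊔
        Ideal.span {(PowerSeries.X : PowerSeries k) ^ n} • (⊤ : Submodule (PowerSeries k) (Fin 3 → PowerSeries k))) :
    (∀ x ∈ S, ∀ y ∈ S, x * y ∈ S) ∧
    Nonempty (((Fin 3 → PowerSeries k) ⧸ S) ≃ₗ[PowerSeries k]
      ((PowerSeries k ⧸ Ideal.span {(PowerSeries.X : PowerSeries k) ^ m}) × (PowerSeries k ⧸ Ideal.span {(PowerSeries.X : PowerSeries k) ^ n}))) := by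
  classical
  set X : PowerSeries k := PowerSeries.X with hX
  refine ⟨?_, ?_⟩
  · rw [closed_iff _ _ (smul_top_mul _) S hS, smul_mul_smul_comm, ← pow_add, hS]
    refine Submodule.mem_sup_right ?_
    rw [show m + m = n + (2 * m - n) by omega, pow_add, mul_smul]
    exact Submodule.smul_mem_smul (Ideal.mem_span_singleton_self _) Submodule.mem_top
  obtain ⟨i, j, hu⟩ : ∃ i j, IsUnit (f i - f j) := by
    by_contra h
    push Not at h
    refine hf ?_
    have hdiv : ∀ i, X ∣ f i - f 0 := fun i => PowerSeries.X_dvd_iff.2 (by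
      by_contra h'
      exact h i 0 (PowerSeries.isUnit_iff_constantCoeff.2 (isUnit_iff_ne_zero.2 h')))
    choose q hq using hdiv
    rw [show f = f 0 • (1 : Fin 3 → PowerSeries k) + X • q from funext fun i => by
      simp [← hq i]]
    exact Submodule.add_mem_sup (Submodule.smul_mem _ _ (Submodule.mem_span_singleton_self _))
      (Submodule.smul_mem_smul (Ideal.mem_span_singleton_self _) Submodule.mem_top)
  have hij : i ≠ j := fun h => by subst h; rw [sub_self] at hu; exact not_isUnit_zero hu
  obtain ⟨l, hil, hjl⟩ := (by decide : ∀ i j : Fin 3, ∃ l, i ≠ l ∧ j ≠ l) i j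
  have hcov : ∀ z : Fin 3, z = i ∨ z = j ∨ z = l :=
    (by decide : ∀ i j l : Fin 3, i ≠ j → i ≠ l → j ≠ l → ∀ z, z = i ∨ z = j ∨ z = l) i j l hij hil hjl
  set w : PowerSeries k := ↑hu.unit⁻¹ with hw
  have hwu : w * (f i - f j) = 1 := hu.val_inv_mul
  let P : (Fin 3 → PowerSeries k) →ₗ[PowerSeries k] PowerSeries k := w • ((LinearMap.proj (R := PowerSeries k) (φ := fun _ : Fin 3 => PowerSeries k) i) - (LinearMap.proj (R := PowerSeries k) (φ := fun _ : Fin 3 => PowerSeries k) j))
  let Q : (Fin 3 → PowerSeries k) →ₗ[PowerSeries k] PowerSeries k :=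
    (LinearMap.proj (R := PowerSeries k) (φ := fun _ : Fin 3 => PowerSeries k) l) - (LinearMap.proj (R := PowerSeries k) (φ := fun _ : Fin 3 => PowerSeries k) j) - (f l - f j) • P
  let L : (Fin 3 → PowerSeries k) →ₗ[PowerSeries k]
      (PowerSeries k ⧸ Ideal.span {X ^ m}) × (PowerSeries k ⧸ Ideal.span {X ^ n}) :=
    ((Ideal.span {X ^ m}).mkQ.comp P).prod ((Ideal.span {X ^ n}).mkQ.comp Q)
  have hdec : ∀ v : Fin 3 → PowerSeries k,
      v = (v j - P v * f j) • (1 : Fin 3 → PowerSeries k) + P v • f + Q v • Pi.single l 1 := fun v => funext fun z => by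
    rcases hcov z with rfl | rfl | rfl
    · simp [P, Q, hil]; linear_combination (v j - v z) * hwu
    · simp [P, Q, hjl]
    · simp [P, Q]; ring
  have hker : LinearMap.ker L = S := by
    ext v
    simp only [L, LinearMap.mem_ker, LinearMap.prod_apply, Function.prod_apply, Prod.mk_eq_zero, LinearMap.comp_apply,
      Submodule.mkQ_apply, Submodule.Quotient.mk_eq_zero, Ideal.mem_span_singleton]
    constructor
    · rintro ⟨⟨p, hp⟩, q, hq⟩
      rw [hdec v, hS, hp, hq, mul_smul (X ^ n), mul_comm (X ^ m) p, mul_smul p]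
      refine add_mem (add_mem ?_ ?_) ?_
      · exact Submodule.mem_sup_left (Submodule.smul_mem _ _ (Submodule.subset_span (by simp)))
      · exact Submodule.mem_sup_left (Submodule.smul_mem _ _ (Submodule.subset_span (by simp [hX])))
      · exact Submodule.mem_sup_right (Submodule.smul_mem_smul (Ideal.mem_span_singleton_self _) Submodule.mem_top)
    · intro hv
      rw [hS, Submodule.mem_sup] at hv
      obtain ⟨y, hy, z, hz, rfl⟩ := hv
      obtain ⟨a, b, rfl⟩ := Submodule.mem_span_pair.1 hy
      rw [Submodule.ideal_span_singleton_smul, Submodule.mem_smul_pointwise_iff_exists] at hz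
      obtain ⟨z, -, rfl⟩ := hz
      have hP1 : P 1 = 0 := by simp [P]
      have hPf : P f = 1 := by simpa [P] using hwu
      have hQ1 : Q 1 = 0 := by simp [Q, hP1]
      have hQf : Q f = 0 := by simp [Q, hPf]
      simp only [map_add, map_smul, hP1, hPf, hQ1, hQf, smul_eq_mul, mul_zero, mul_one, zero_add]
      exact ⟨dvd_add (Dvd.intro_left b rfl) (dvd_mul_of_dvd_left (pow_dvd_pow _ hmn) _), Dvd.intro _ rfl⟩
  have hsurj : Function.Surjective L := fun ab => by
    obtain ⟨a, ha⟩ := Submodule.Quotient.mk_surjective _ ab.1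
    obtain ⟨b, hb⟩ := Submodule.Quotient.mk_surjective _ ab.2
    refine ⟨a • f + b • Pi.single l 1, ?_⟩
    have hPf : P f = 1 := by simpa [P] using hwu
    have hQf : Q f = 0 := by simp [Q, hPf]
    have hPe : P (Pi.single l 1) = 0 := by simp [P, hil, hjl]
    have hQe : Q (Pi.single l 1) = 1 := by simp [Q, hPe, hjl]
    refine Prod.ext ?_ ?_
    · rw [← ha]; simp [L, hPf, hPe]
    · rw [← hb]; simp [L, hQf, hQe]
  exact ⟨(Submodule.quotEquivOfEq _ _ hker.symm).trans (L.quotKerEquivOfSurjective hsurj)⟩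

end Groth.Agent.S13886
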