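import Groth.Statements.S1389


set_option autoImplicit false
universe u
open FlatMor

namespace Groth.Agent.S1389

open AlgebraicGeometry CategoryTheory Limits in
/-- Let (U, u) and (U', u') be étale neighbourhoods of a point s of S and h₁, h₂ two S-morphisms U → U'
sending u to u' which induce the same map of residue fields κ(u') → κ(u). Then there is an étale
neighbourhood (U'', u'') of s with an S-morphism h : U'' → U sending u'' to u and with h followed by
h₁ equal to h followed by h₂. -/
theorem result {S U U' : Scheme.{u}} (s : S) (g : U ⟶ S) (g' : U' ⟶ S) [Etale g] [Etale g'] (u : U) (u' : U')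
    (hu : g u = s) (hu' : g' u' = s) (h₁ h₂ : U ⟶ U') (w₁ : h₁ ≫ g' = g) (w₂ : h₂ ≫ g' = g) (e₁ : h₁ u = u') (e₂ : h₂ u = u')
    (hres : (U'.residueFieldCongr e₁).inv ≫ h₁.residueFieldMap u = (U'.residueFieldCongr e₂).inv ≫ h₂.residueFieldMap u) :
    ∃ (U'' : Scheme.{u}) (g'' : U'' ⟶ S) (u'' : U'') (h : U'' ⟶ U), Etale g'' ∧ g'' u'' = s ∧ h ≫ g = g'' ∧ h u'' = u ∧ h ≫ h₁ = h ≫ h₂ := by
  let p : U ⟶ pullback g' g' := pullback.lift h₁ h₂ (w₁.trans w₂.symm)
  let d := pullback.diagonal g'
  have : IsOpenImmersion d := inferInstance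
  have key : U.fromSpecResidueField u ≫ h₁ = U.fromSpecResidueField u ≫ h₂ := by
    rw [← Scheme.Hom.SpecMap_residueFieldMap_fromSpecResidueField h₁ u, ← Scheme.Hom.SpecMap_residueFieldMap_fromSpecResidueField h₂ u]
    subst e₁
    have e := hres
    rw [← Scheme.residueFieldCongr_fromSpecResidueField (X := U') e₂, ← Category.assoc, ← Spec.map_comp]
    congr 2
    simp at e
    rw [e]; simp
  let q : Spec (U.residueField u) ⟶ pullback p d := pullback.lift (U.fromSpecResidueField u) (U.fromSpecResidueField u ≫ h₁) (by
    apply pullback.hom_ext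
    · simp only [p, d, Category.assoc]
      rw [pullback.lift_fst, pullback.diagonal_fst, Category.comp_id]
    · simp only [p, d, Category.assoc]
      rw [pullback.lift_snd, pullback.diagonal_snd, Category.comp_id, key])
  let x := q (IsLocalRing.closedPoint _)
  have hx : pullback.fst p d x = u := by
    simp only [x, ← Scheme.Hom.comp_apply]
    rw [pullback.lift_fst]
    exact Scheme.fromSpecResidueField_apply _ _
  refine ⟨pullback p d, pullback.fst p d ≫ g, x, pullback.fst p d, inferInstance, ?_, rfl, hx, ?_⟩
  · rw [Scheme.Hom.comp_apply, hx, hu]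
  · have e := pullback.condition (f := p) (g := d)
    have a := congr($e ≫ pullback.fst g' g')
    have b := congr($e ≫ pullback.snd g' g')
    simp only [p, d, Category.assoc] at a b
    rw [pullback.lift_fst, pullback.diagonal_fst, Category.comp_id] at a
    rw [pullback.lift_snd, pullback.diagonal_snd, Category.comp_id] at b
    rw [a, b]

end Groth.Agent.S1389
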