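import Groth.Statements.S13903
import Mathlib
-- import your own Groth.Agent.* helpers here

set_option autoImplicit false
universe u
open EtAlg

namespace Groth.Agent.S13903

/-- Let K be a field and L a finite-dimensional reduced commutative K-algebra of dimension d all of
whose elements are separable over K, generated as a K-algebra by z and t. In any finite set of at
least d^(4d) elements of K there is an element c such that c • z + t generates L as a K-algebra.
(The published statement does not require separability; for K of characteristic p and L obtained by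
adjoining p-th roots of two independent indeterminates, L is a reduced finite K-algebra generated by
two elements with no single generator, so separability over K is assumed here, as the counting in
the published proof requires.) -/
theorem result (K L : Type u) [Field K] [CommRing L]
    [Algebra K L] [Module.Finite K L] [IsReduced L] [Algebra.IsSeparable K L] (z t : L)
    (hgen : Algebra.adjoin K ({z, t} : Set L) = ⊤) (S : Finset K)
    (hS : Module.finrank K L ^ (4 * Module.finrank K L) ≤ S.card) :
    ∃ c ∈ S, Algebra.adjoin K ({c • z + t} : Set L) = ⊤ := by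
  classical
  let d := Module.finrank K L
  let Ω := AlgebraicClosure K
  have : IsArtinianRing L := IsArtinianRing.of_finite K L
  let Q := fun m : MaximalSpectrum L => L ⧸ m.asIdeal
  let instQ : ∀ m, Field (Q m) := fun m => Ideal.Quotient.field m.asIdeal
  have : ∀ m, Algebra.IsSeparable K (Q m) := fun m => ⟨fun x => by
    obtain ⟨y, rfl⟩ := Ideal.Quotient.mk_surjective x
    exact Polynomial.Separable.of_dvd (Algebra.IsSeparable.isSeparable K y)
      (minpoly.dvd K _ (by
        rw [← Ideal.Quotient.mkₐ_eq_mk K, Polynomial.aeval_algHom_apply, minpoly.aeval, map_zero]))⟩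
  let T := Σ m : MaximalSpectrum L, (Q m →ₐ[K] Ω)
  let F : T → (L →ₐ[K] Ω) := fun x => x.2.comp (Ideal.Quotient.mkₐ K x.1.asIdeal)
  have hFi : Function.Injective F := by
    rintro ⟨m, f⟩ ⟨m', f'⟩ h
    have hm : m = m' := by
      ext1
      refine Ideal.ext fun a => ?_
      have hh := DFunLike.congr_fun h a
      replace hh : f (Ideal.Quotient.mk _ a) = f' (Ideal.Quotient.mk _ a) := hh
      rw [← Ideal.Quotient.eq_zero_iff_mem (I := m.asIdeal),
        ← Ideal.Quotient.eq_zero_iff_mem (I := m'.asIdeal),
        ← map_eq_zero_iff f (RingHom.injective (f : Q m →+* Ω)),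
        ← map_eq_zero_iff f' (RingHom.injective (f' : Q m' →+* Ω)), hh]
    subst hm
    congr 1
    exact AlgHom.cancel_right Ideal.Quotient.mk_surjective |>.mp h
  have : Fintype (MaximalSpectrum L) := Fintype.ofFinite _
  let _ : ∀ m, Fintype (Q m →ₐ[K] Ω) := fun m => inferInstance
  have hcard : Fintype.card T = d := by
    have e : L ≃ₐ[K] ∀ m, Q m :=
      AlgEquiv.ofRingEquiv (f := (IsArtinianRing.equivPi L).toRingEquiv) fun r => rfl
    rw [Fintype.card_sigma, show d = Module.finrank K (∀ m, Q m) from e.toLinearEquiv.finrank_eq,
      Module.finrank_pi_fintype]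
    exact Finset.sum_congr rfl fun m _ => AlgHom.card K (Q m) Ω
  -- the parameters for which two of the homomorphisms collide
  let bad : T × T → K := fun p =>
    if h : ∃ c : K, F p.1 (c • z + t) = F p.2 (c • z + t) then h.choose else 0
  have hlt : ((Finset.univ : Finset T).offDiag.image bad).card < S.card := by
    refine lt_of_le_of_lt Finset.card_image_le (lt_of_lt_of_le ?_ hS)
    rw [Finset.offDiag_card, Finset.card_univ, hcard]
    rcases Nat.eq_zero_or_pos d with h0 | h0
    · simp [show Module.finrank K L = 0 from h0, h0]
    · calc d * d - d < d * d := by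
            have : d ≤ d * d := Nat.le_mul_self d
            omega
        _ ≤ d ^ (4 * d) := by
            rw [← pow_two]; exact Nat.pow_le_pow_right h0 (by omega)
  obtain ⟨c, hcS, hc⟩ := Finset.exists_mem_notMem_of_card_lt_card hlt
  refine ⟨c, hcS, ?_⟩
  have hinj : Function.Injective fun x => F x (c • z + t) := by
    intro x y hxy
    by_contra hne
    have hex : ∃ c : K, F x (c • z + t) = F y (c • z + t) := ⟨c, hxy⟩
    have hspec := hex.choose_spec
    have hc' : c ≠ hex.choose := fun e => hc (Finset.mem_image.mpr
      ⟨(x, y), by simp [hne], by simp only [bad, dif_pos hex]; exact e.symm⟩)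
    generalize hex.choose = c₀ at hspec hc'
    simp only [map_add, map_smul] at hxy hspec
    have hz : F x z = F y z := by
      have h3 : (c - c₀) • F x z = (c - c₀) • F y z := by
        linear_combination (norm := module) hxy - hspec
      exact smul_right_injective Ω (sub_ne_zero.mpr hc') h3
    have ht : F x t = F y t := by rw [hz] at hxy; exact add_left_cancel hxy
    refine hne (hFi (AlgHom.ext_of_adjoin_eq_top hgen ?_))
    rintro a (rfl | rfl) <;> assumption
  let w := c • z + t
  have hdeg : d ≤ (minpoly K w).natDegree := by
    have hsub : (Finset.univ.image fun x => F x w) ⊆ ((minpoly K w).aroots Ω).toFinset := by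
      intro a ha
      obtain ⟨x, -, rfl⟩ := Finset.mem_image.mp ha
      rw [Multiset.mem_toFinset, Polynomial.mem_aroots]
      exact ⟨minpoly.ne_zero (Algebra.IsIntegral.isIntegral w),
        by rw [Polynomial.aeval_algHom_apply, minpoly.aeval, map_zero]⟩
    have h1 := Finset.card_le_card hsub
    rw [Finset.card_image_of_injective _ hinj, Finset.card_univ, hcard] at h1
    refine h1.trans ((Multiset.toFinset_card_le _).trans ((Polynomial.card_roots' _).trans ?_))
    rw [Polynomial.natDegree_map]
  let C := Algebra.adjoin K ({w} : Set L)
  have hli : LinearIndependent K fun i : Fin (minpoly K w).natDegree =>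
      (⟨w ^ (i : ℕ), pow_mem (Algebra.self_mem_adjoin_singleton K w) _⟩ : C) :=
    LinearIndependent.of_comp C.val.toLinearMap (linearIndependent_pow w)
  have h1 := hli.fintype_card_le_finrank
  rw [Fintype.card_fin] at h1
  refine Algebra.toSubmodule_eq_top.mp (Submodule.eq_top_of_finrank_eq ?_)
  exact le_antisymm (Submodule.finrank_le _) (hdeg.trans h1)

end Groth.Agent.S13903
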