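import Groth.Statements.S13904
import Mathlib.RingTheory.KrullDimension.Field
import Mathlib.RingTheory.IntegralClosure.IsIntegralClosure.Basic
import Mathlib.RingTheory.Ideal.GoingUp
import Mathlib.RingTheory.KrullDimension.Polynomial
import Mathlib.RingTheory.KrullDimension.NonZeroDivisors

set_option autoImplicit false
universe u
open CAlg

namespace Groth.Agent.S13904

theorem dim_le_of_isIntegral {R S : Type*} [CommRing R] [CommRing S] [Algebra R S]
    [Algebra.IsIntegral R S] : ringKrullDim S ≤ ringKrullDim R := by
  refine Order.krullDim_le_of_strictMono (fun Q => PrimeSpectrum.comap (algebraMap R S) Q) ?_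
  intro Q Q' h
  obtain ⟨x, hx, hx'⟩ := SetLike.exists_of_lt (show Q.asIdeal < Q'.asIdeal from h)
  exact Ideal.comap_lt_comap_of_integral_mem_sdiff h.le ⟨hx, hx'⟩ (Algebra.IsIntegral.isIntegral x)

/-- Let k be a field, A a commutative k-algebra and φ : k[x_1, …, x_r] → A a finite k-algebra map such
that A/p has Krull dimension r for every minimal prime p of A (an equidimensional affine scheme of
dimension r, finite over affine r-space). Then for every minimal prime p of A and every prime q of
k[x_1, …, x_r] there is a prime P ⊇ p of A with φ⁻¹(P) = q: the finite map restricted to each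
irreducible component of Spec A is surjective onto affine r-space. (The published statement is over
an algebraically closed field with φ a Noether normalisation; this row allows any field and any
finite k-algebra map φ.) -/
theorem result (k : Type u) [Field k] (r : ℕ)
    (A : Type u) [CommRing A] [Algebra k A] (φ : MvPolynomial (Fin r) k →ₐ[k] A)
    (hφ : φ.toRingHom.Finite)
    (hdim : ∀ p ∈ minimalPrimes A, ringKrullDim (A ⧸ p) = r)
    (p : Ideal A) (hp : p ∈ minimalPrimes A)
    (q : Ideal (MvPolynomial (Fin r) k)) [q.IsPrime] :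
    ∃ P : Ideal A, P.IsPrime ∧ p ≤ P ∧ P.comap φ.toRingHom = q := by
  have hpp : p.IsPrime := hp.1.1
  letI : Algebra (MvPolynomial (Fin r) k) A := φ.toRingHom.toAlgebra
  haveI : Module.Finite (MvPolynomial (Fin r) k) A := hφ
  haveI : Algebra.IsIntegral (MvPolynomial (Fin r) k) A := Algebra.IsIntegral.of_finite _ _
  have hker : p.comap φ.toRingHom = ⊥ := by
    by_contra hne
    obtain ⟨f, hf, hf0⟩ := Submodule.exists_mem_ne_zero_of_ne_bot hne
    have h1 : ringKrullDim (A ⧸ p) ≤ ringKrullDim (MvPolynomial (Fin r) k ⧸ Ideal.span {f}) := by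
      let g : MvPolynomial (Fin r) k ⧸ Ideal.span {f} →+* A ⧸ p :=
        Ideal.quotientMap p φ.toRingHom ((Ideal.span_singleton_le_iff_mem _).2 hf)
      letI : Algebra (MvPolynomial (Fin r) k ⧸ Ideal.span {f}) (A ⧸ p) := g.toAlgebra
      haveI : Algebra.IsIntegral (MvPolynomial (Fin r) k ⧸ Ideal.span {f}) (A ⧸ p) := by
        refine ⟨RingHom.IsIntegral.tower_top (Ideal.Quotient.mk (Ideal.span {f})) g ?_⟩
        rw [show g.comp (Ideal.Quotient.mk (Ideal.span {f})) = (Ideal.Quotient.mk p).comp φ.toRingHom from
          Ideal.quotientMap_comp_mk _]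
        exact RingHom.IsIntegral.trans φ.toRingHom (Ideal.Quotient.mk p) hφ.to_isIntegral
          (RingHom.isIntegral_of_surjective _ Ideal.Quotient.mk_surjective)
      exact dim_le_of_isIntegral
    have h2 := ringKrullDim_quotient_succ_le_of_nonZeroDivisor
      (mem_nonZeroDivisors_of_ne_zero hf0)
    rw [MvPolynomial.ringKrullDim_of_isNoetherianRing, ringKrullDim_eq_zero_of_field,
      zero_add] at h2
    rw [hdim p hp] at h1
    have h3 := (add_le_add_left h1 1).trans h2
    simp only [Nat.card_eq_fintype_card, Fintype.card_fin] at h3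
    have h4 : ((r + 1 : ℕ) : WithBot ℕ∞) ≤ ((r : ℕ) : WithBot ℕ∞) := by exact_mod_cast h3
    have : r + 1 ≤ r := by exact_mod_cast h4
    omega
  obtain ⟨P, hle, hP, hPq⟩ := Ideal.exists_ideal_over_prime_of_isIntegral q p
    (show p.comap φ.toRingHom ≤ q by rw [hker]; exact bot_le)
  exact ⟨P, hP, hle, hPq⟩

end Groth.Agent.S13904
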