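import Groth.Statements.S13905
import Mathlib.LinearAlgebra.FiniteDimensional.Lemmas

set_option autoImplicit false
universe u
open ProjGeom

namespace Groth.Agent.S13905

open W4c1etcurveeff3b in
/-- Hyperplanes of projective n-space in general position, in linear-algebra form (V of dimension n + 1
over a field k, hyperplanes as n-dimensional subspaces, points as nonzero vectors): if S is a finite
set of hyperplanes in general position with at least n members and H is a hyperplane containing none
of the lines cut out by n members of S, then S with H added is again in general position. (The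
published statement is for hyperplanes of P^n_k and closed points; a closed point lying on n + 1
members is automatically one of the rational points cut out by n of them, so the condition on
nonzero vectors of V is the same condition.) -/
theorem result (k V : Type u) [Field k]
    [AddCommGroup V] [Module k V] [DecidableEq (Submodule k V)] (n : ℕ) (S : Finset (Submodule k V))
    (hS : InGeneralPosition k V n S) (hn : n ≤ S.card) (H : Submodule k V)
    (hH : Module.finrank k H = n)
    (havoid : ∀ T ⊆ S, T.card = n → ¬ (T.inf id ≤ H)) :
    InGeneralPosition k V n (insert H S) := by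
  by_cases hHS : H ∈ S
  · rwa [Finset.insert_eq_of_mem hHS]
  obtain ⟨hV, hmem, hdim, hpt⟩ := hS
  have : FiniteDimensional k V := FiniteDimensional.of_finrank_eq_succ hV
  have hline : ∀ T' ⊆ S, T'.card ≤ n → ¬ (T'.inf id ≤ H) := by
    intro T' hT' hc hle
    obtain ⟨T'', h1, h2, h3⟩ := Finset.exists_subsuperset_card_eq hT' hc hn
    exact havoid T'' h2 h3 (le_trans (Finset.inf_mono h1) hle)
  refine ⟨hV, fun G hG => ?_, fun T hT hc => ?_, fun v hv T hT hvT => ?_⟩
  · rcases Finset.mem_insert.mp hG with rfl | hG
    · exact hH
    · exact hmem G hG
  · by_cases hHT : H ∈ T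
    swap
    · exact hdim T (fun G hG => (Finset.mem_insert.mp (hT hG)).resolve_left fun h => hHT (h ▸ hG)) hc
    have hT' : T.erase H ⊆ S := fun G hG => (Finset.mem_insert.mp (hT (Finset.mem_of_mem_erase hG))).resolve_left (Finset.ne_of_mem_erase hG)
    have hc' : (T.erase H).card + 1 = T.card := Finset.card_erase_add_one hHT
    have h1 := hdim _ hT' (by omega)
    rw [← Finset.insert_erase hHT, Finset.inf_insert, id_eq, Finset.insert_erase hHT]
    set W := (T.erase H).inf id
    have hlt : H < H ⊔ W := left_lt_sup.mpr (hline _ hT' (by omega))
    have h2 := Submodule.finrank_lt_finrank_of_lt hlt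
    have h3 := Submodule.finrank_le (H ⊔ W)
    have h4 := Submodule.finrank_sup_add_finrank_inf_eq H W
    omega
  · by_cases hHT : H ∈ T
    swap
    · exact hpt v hv T (fun G hG => (Finset.mem_insert.mp (hT hG)).resolve_left fun h => hHT (h ▸ hG)) hvT
    by_contra hgt
    push Not at hgt
    have hT' : T.erase H ⊆ S := fun G hG => (Finset.mem_insert.mp (hT (Finset.mem_of_mem_erase hG))).resolve_left (Finset.ne_of_mem_erase hG)
    have hc' : (T.erase H).card + 1 = T.card := Finset.card_erase_add_one hHT
    obtain ⟨U, hU, hUc⟩ := Finset.exists_subset_card_eq (show n ≤ (T.erase H).card by omega)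
    have h1 := hdim U (hU.trans hT') hUc.le
    have hvU : v ∈ U.inf id := Submodule.mem_finsetInf.mpr fun G hG => hvT G (Finset.mem_of_mem_erase (hU hG))
    refine havoid U (hU.trans hT') hUc ?_
    have h5 : Submodule.span k {v} = U.inf id :=
      Submodule.eq_of_le_of_finrank_eq ((Submodule.span_singleton_le_iff_mem _ _).mpr hvU) (by
        rw [h1, finrank_span_singleton hv, hUc]; omega)
    rw [← h5, Submodule.span_singleton_le_iff_mem]
    exact hvT H hHT

end Groth.Agent.S13905
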