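import Groth.Statements.S13911
import Groth.Agent.Small51.Conic
-- import your own Groth.Agent.* helpers here

set_option autoImplicit false
universe u
open PlaneConic

namespace Groth.Agent.S13911

theorem sum3 {M : Type*} [AddCommMonoid M] {p q l : Fin 3} (hpq : p ≠ q) (hpl : p ≠ l) (hql : q ≠ l) (g : Fin 3 → M) :
    ∑ i, g i = g p + g q + g l := by
  have huniv : (Finset.univ : Finset (Fin 3)) = {p, q, l} :=
    (Finset.eq_univ_of_card _ (Finset.card_eq_three.2 ⟨p, q, l, hpq, hpl, hql, rfl⟩)).symm
  rw [huniv, Finset.sum_insert (by simp [hpq, hpl]), Finset.sum_insert (by simp [hql]), Finset.sum_singleton, add_assoc]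


/-- For an algebraically closed field k of characteristic zero, a nonzero symmetric 3 × 3 matrix Q over
k and the ternary quadratic form f = Σ Q_ij X_i X_j in k[X_0, X_1, X_2] (the equation of a plane
conic): (1) f is irreducible iff det Q ≠ 0; (2) the conic has a singular point, that is a nonzero
vector at which all partial derivatives of f vanish, iff det Q = 0 (so smooth conics are exactly the
irreducible ones); (3) f is the product of two linearly independent linear forms (two distinct
lines) iff rank Q = 2; (4) f is the square of a linear form (a double line) iff rank Q = 1. -/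
theorem result (k : Type u) [Field k] [IsAlgClosed k] [CharZero k]
    (Q : Matrix (Fin 3) (Fin 3) k) (hQ : Q.IsSymm) (hQ0 : Q ≠ 0) (f : MvPolynomial (Fin 3) k)
    (hf : f = ∑ i : Fin 3, ∑ j : Fin 3, Q i j • (MvPolynomial.X i * MvPolynomial.X j)) :
    (Irreducible f ↔ Q.det ≠ 0) ∧
    ((∃ u : Fin 3 → k, u ≠ 0 ∧ ∀ i : Fin 3, MvPolynomial.eval u (MvPolynomial.pderiv i f) = 0) ↔ Q.det = 0) ∧
    ((∃ a b : Fin 3 → k, LinearIndependent k ![a, b] ∧
        f = (∑ i : Fin 3, a i • MvPolynomial.X i) * (∑ i : Fin 3, b i • MvPolynomial.X i)) ↔ Q.rank = 2) ∧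
    ((∃ a : Fin 3 → k, f = (∑ i : Fin 3, a i • MvPolynomial.X i) ^ 2) ↔ Q.rank = 1) := by
  classical
  subst hf
  change (Irreducible (Conic51.qf Q) ↔ _) ∧ ((∃ u : Fin 3 → k, u ≠ 0 ∧ ∀ i : Fin 3,
      MvPolynomial.eval u (MvPolynomial.pderiv i (Conic51.qf Q)) = 0) ↔ _) ∧
    ((∃ a b : Fin 3 → k, LinearIndependent k ![a, b] ∧ Conic51.qf Q = _) ↔ _) ∧
    ((∃ a : Fin 3 → k, Conic51.qf Q = _) ↔ _)
  obtain ⟨R, d, hR, hRd⟩ := Conic51.exists_diag Q hQ
  have hsymm : ∀ a b : Fin 3 → k, (Conic51.prodMat a b).IsSymm := fun a b => by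
    ext i j; simp [Conic51.prodMat]; ring
  have hprod : ∀ a b : Fin 3 → k, Conic51.qf Q = (∑ i, a i • MvPolynomial.X i) * (∑ i, b i • MvPolynomial.X i) →
      Q = Conic51.prodMat a b := fun a b h =>
    Conic51.eq_of_qf_eq hQ (hsymm a b) (h.trans (Conic51.qf_prodMat a b).symm)
  -- rank at most two gives a product
  have hfac : ∀ l, d l = 0 → ∃ a b : Fin 3 → k,
      Conic51.qf Q = (∑ i, a i • MvPolynomial.X i) * (∑ i, b i • MvPolynomial.X i) ∧
      ((∀ j, j ≠ l → d j ≠ 0) → LinearIndependent k ![a, b]) := fun l hl => by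
    obtain ⟨p, q, hpq, hpl, hql⟩ := (by decide : ∀ l : Fin 3, ∃ p q : Fin 3, p ≠ q ∧ p ≠ l ∧ q ≠ l) l
    obtain ⟨s, hs⟩ := IsAlgClosed.exists_pow_nat_eq (d p) two_pos
    obtain ⟨t, ht⟩ := IsAlgClosed.exists_pow_nat_eq (-d q) two_pos
    refine ⟨fun i => s * R p i + t * R q i, fun i => s * R p i - t * R q i, ?_, fun hall => ?_⟩
    · rw [hRd, Conic51.qf_diag]
      rw [sum3 hpq hpl hql, hl, zero_smul, add_zero, ← hs, show d q = -t ^ 2 by rw [ht, neg_neg]]
      simp only [add_smul, sub_smul, Finset.sum_add_distrib, Finset.sum_sub_distrib, mul_smul, ← Finset.smul_sum,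
        MvPolynomial.smul_eq_C_mul, map_pow, map_neg, map_mul, mul_assoc, ← Finset.mul_sum]
      ring
    · rw [LinearIndependent.pair_iff]
      intro x y hxy
      have hRu : LinearIndependent k R.row := Matrix.linearIndependent_rows_iff_isUnit.2 hR
      have h2 := Fintype.linearIndependent_iff.1 hRu (fun j => if j = p then (x + y) * s else if j = q then (x - y) * t else 0) (by
        rw [sum3 hpq hpl hql]
        funext i
        have := congrFun hxy i
        simp [hpq, hpq.symm, hpl.symm, hql.symm] at this ⊢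
        linear_combination this)
      have hp' := h2 p
      have hq' := h2 q
      simp [hpq.symm] at hp' hq'
      have hs0 : s ≠ 0 := fun h => hall p hpl (by rw [← hs, h]; ring)
      have ht0 : t ≠ 0 := fun h => hall q hql (by rw [← neg_eq_zero, ← ht, h]; ring)
      have e1 := hp'.resolve_right hs0
      have e2 := hq'.resolve_right ht0
      constructor
      · linear_combination (1 / 2 : k) * (e1 + e2)
      · linear_combination (1 / 2 : k) * (e1 - e2)
  have hdet : Q.det = 0 ↔ ∃ l, d l = 0 := by
    have hu : R.det ≠ 0 := ((Matrix.isUnit_iff_isUnit_det _).1 hR).ne_zero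
    rw [hRd, Matrix.det_mul, Matrix.det_mul, Matrix.det_transpose, Matrix.det_diagonal]
    simp [hu, Finset.prod_eq_zero_iff]
  have hrank : Q.rank = (Finset.univ.filter fun l => d l ≠ 0).card := by
    rw [hRd, Conic51.rank_diag R hR, Nat.card_eq_fintype_card, Fintype.card_subtype]
  refine ⟨?_, ?_, ?_, ?_⟩
  · constructor
    · intro hirr h0
      obtain ⟨l, hl⟩ := hdet.1 h0
      obtain ⟨a, b, hab, -⟩ := hfac l hl
      have hnu : ∀ c : Fin 3 → k, ¬ IsUnit (∑ i, c i • MvPolynomial.X i : MvPolynomial (Fin 3) k) := fun c h => by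
        have h' := h.map (MvPolynomial.eval (0 : Fin 3 → k))
        rw [Conic51.eval_linear, dotProduct_zero] at h'
        exact not_isUnit_zero h'
      rcases hirr.isUnit_or_isUnit hab with h | h <;> exact hnu _ h
    · intro h0
      have hf0 : Conic51.qf Q ≠ 0 := fun h => hQ0 (Conic51.eq_of_qf_eq hQ (Matrix.isSymm_zero)
        (h.trans (by simp [Conic51.qf])))
      have hdeg : (Conic51.qf Q).totalDegree = 2 := (Conic51.qf_homogeneous Q).totalDegree hf0
      refine ⟨fun h => ?_, fun g h hgh => ?_⟩
      · have h' := h.map (MvPolynomial.eval (0 : Fin 3 → k))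
        rw [Conic51.eval_qf, zero_dotProduct] at h'
        exact not_isUnit_zero h'
      · have hg0 : g ≠ 0 := fun e => hf0 (by rw [hgh, e, zero_mul])
        have hh0 : h ≠ 0 := fun e => hf0 (by rw [hgh, e, mul_zero])
        have hsum : g.totalDegree + h.totalDegree = 2 := by
          rw [← MvPolynomial.totalDegree_mul_of_isDomain hg0 hh0, ← hgh, hdeg]
        have hunit : ∀ g : MvPolynomial (Fin 3) k, g ≠ 0 → g.totalDegree = 0 → IsUnit g := fun g hg hd => by
          rw [MvPolynomial.totalDegree_eq_zero_iff_eq_C] at hd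
          rw [hd] at hg ⊢
          exact (isUnit_iff_ne_zero.2 fun e => hg (by rw [e, map_zero])).map MvPolynomial.C
        rcases Nat.eq_zero_or_pos g.totalDegree with e | e
        · exact Or.inl (hunit g hg0 e)
        rcases Nat.eq_zero_or_pos h.totalDegree with e' | e'
        · exact Or.inr (hunit h hh0 e')
        exfalso
        have hg1 : g.totalDegree = 1 := by omega
        have hh1 : h.totalDegree = 1 := by omega
        have hsplit : ∀ g : MvPolynomial (Fin 3) k, g.totalDegree = 1 →
            g = MvPolynomial.C (MvPolynomial.coeff 0 g) + MvPolynomial.homogeneousComponent 1 g := fun g hg => by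
          conv_lhs => rw [← MvPolynomial.sum_homogeneousComponent g, hg]
          rw [Finset.sum_range_succ, Finset.sum_range_one, MvPolynomial.homogeneousComponent_zero]
        set g1 := MvPolynomial.homogeneousComponent 1 g with hg1'
        set h1 := MvPolynomial.homogeneousComponent 1 h with hh1'
        have G1 : g1.IsHomogeneous 1 := MvPolynomial.homogeneousComponent_isHomogeneous 1 g
        have H1 : h1.IsHomogeneous 1 := MvPolynomial.homogeneousComponent_isHomogeneous 1 h
        have key : Conic51.qf Q = g1 * h1 := by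
          have e := congrArg (MvPolynomial.homogeneousComponent 2) hgh
          rw [hsplit g hg1, hsplit h hh1, ← hg1', ← hh1', MvPolynomial.homogeneousComponent_of_mem (Conic51.qf_homogeneous Q),
            if_pos rfl, add_mul, mul_add, mul_add, map_add, map_add, map_add, ← map_mul MvPolynomial.C,
            MvPolynomial.homogeneousComponent_of_mem (G1.mul H1), if_pos rfl,
            MvPolynomial.homogeneousComponent_of_mem (MvPolynomial.isHomogeneous_C (Fin 3) _), if_neg (by norm_num),
            MvPolynomial.homogeneousComponent_of_mem (H1.C_mul _), if_neg (by norm_num), mul_comm g1 (MvPolynomial.C _),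
            MvPolynomial.homogeneousComponent_of_mem (G1.C_mul _), if_neg (by norm_num), zero_add, zero_add, zero_add] at e
          exact e
        rw [Conic51.eq_sum G1, Conic51.eq_sum H1] at key
        have hle := Conic51.rank_prodMat_le (Conic51.vec g1) (Conic51.vec h1)
        rw [← hprod _ _ key, Matrix.rank_of_isUnit Q ((Matrix.isUnit_iff_isUnit_det Q).2 (isUnit_iff_ne_zero.2 h0))] at hle
        simp at hle
  · have s01 : Q 0 1 = Q 1 0 := hQ.apply 1 0
    have s02 : Q 0 2 = Q 2 0 := hQ.apply 2 0
    have s12 : Q 1 2 = Q 2 1 := hQ.apply 2 1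
    have hpd : ∀ (u : Fin 3 → k) i, MvPolynomial.eval u (MvPolynomial.pderiv i (Conic51.qf Q)) = 2 * (Q.mulVec u) i := fun u i => by
      fin_cases i <;>
        simp [Conic51.qf, Fin.sum_univ_three, MvPolynomial.smul_eval, Matrix.mulVec, dotProduct, MvPolynomial.pderiv_X_of_ne, s01, s02, s12] <;> ring
    rw [← Matrix.exists_mulVec_eq_zero_iff]
    exact exists_congr fun u => and_congr_right fun _ => by simp [hpd, funext_iff]
  · constructor
    · rintro ⟨a, b, hab, h⟩
      rw [hprod a b h, Conic51.rank_prodMat a b hab]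
    · intro h2
      obtain ⟨l, hl⟩ : ∃ l, d l = 0 := by
        by_contra hall
        push Not at hall
        rw [hrank, Finset.filter_true_of_mem fun l _ => hall l] at h2
        simp at h2
      obtain ⟨a, b, hab, hind⟩ := hfac l hl
      refine ⟨a, b, hind fun j hj hj0 => ?_, hab⟩
      have : (Finset.univ.filter fun l => d l ≠ 0).card ≤ 1 := by
        refine (Finset.card_le_card (t := ((Finset.univ.erase l).erase j)) fun x hx => ?_).trans ?_
        · simp at hx ⊢
          exact ⟨fun e => hx (e ▸ hj0), fun e => hx (e ▸ hl)⟩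
        · simp [Finset.card_erase_of_mem, hj]
      omega
  · constructor
    · rintro ⟨a, h⟩
      have e := hprod a a (h.trans (pow_two _))
      rw [e, Conic51.rank_prodMat_same a (e ▸ hQ0)]
    · intro h1
      rw [hrank, Finset.card_eq_one] at h1
      obtain ⟨l, hl⟩ := h1
      obtain ⟨s, hs⟩ := IsAlgClosed.exists_pow_nat_eq (d l) two_pos
      refine ⟨fun i => s * R l i, ?_⟩
      rw [hRd, Conic51.qf_diag, Finset.sum_eq_single l]
      · simp only [mul_smul, ← Finset.smul_sum, smul_pow, hs]
      · intro j _ hj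
        have : j ∉ (Finset.univ.filter fun l => d l ≠ 0) := by rw [hl]; simp [hj]
        simp at this
        rw [this, zero_smul]
      · simp

end Groth.Agent.S13911
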