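import Groth.Statements.S13912
import Groth.Agent.Small51.Conic
-- import your own Groth.Agent.* helpers here

set_option autoImplicit false
universe u
open PlaneConic

namespace Groth.Agent.S13912


/-- Over an algebraically closed field k of characteristic zero, for a 2 × 2 matrix M of linear forms in
k[X_0, X_1, X_2] (entries homogeneous of degree 1, zero allowed), det M is a product of two linear
forms if and only if M can be brought by invertible scalar row and column operations g M h, with g,
h in GL_2(k), to a matrix with zero upper-right entry. (The published statement concerns matrices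
with nonzero determinant; this row also allows determinant zero, where both sides hold.) -/
theorem result (k : Type u) [Field k] [IsAlgClosed k] [CharZero k]
    (M : Matrix (Fin 2) (Fin 2) (MvPolynomial (Fin 3) k)) (hM : ∀ a b : Fin 2, (M a b).IsHomogeneous 1) :
    (∃ l₁ l₂ : MvPolynomial (Fin 3) k, l₁.IsHomogeneous 1 ∧ l₂.IsHomogeneous 1 ∧ M.det = l₁ * l₂) ↔
    ∃ g h : GL (Fin 2) k,
      ((MvPolynomial.C : k →+* MvPolynomial (Fin 3) k).mapMatrix g.val * M *
        (MvPolynomial.C : k →+* MvPolynomial (Fin 3) k).mapMatrix h.val) 0 1 = 0 := by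
  classical
  let C' : k →+* MvPolynomial (Fin 3) k := MvPolynomial.C
  constructor
  swap
  · rintro ⟨g, h, h01⟩
    set N := C'.mapMatrix g.val * M * C'.mapMatrix h.val
    have hlin : ∀ (A B : Matrix (Fin 2) (Fin 2) k) i j, ((C'.mapMatrix A * M * C'.mapMatrix B) i j).IsHomogeneous 1 := by
      intro A B i j
      simp only [Matrix.mul_apply, RingHom.mapMatrix_apply, Matrix.map_apply]
      exact MvPolynomial.IsHomogeneous.sum _ _ _ fun b _ => by
        rw [mul_comm]
        exact (MvPolynomial.IsHomogeneous.sum _ _ _ fun a _ => (hM a b).C_mul _).C_mul _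
    have hdet : N.det = C' (g.val.det * h.val.det) * M.det := by
      rw [Matrix.det_mul, Matrix.det_mul, ← RingHom.map_det, ← RingHom.map_det, map_mul]; ring
    have hu : g.val.det * h.val.det ≠ 0 :=
      mul_ne_zero (Matrix.GeneralLinearGroup.det_ne_zero g) (Matrix.GeneralLinearGroup.det_ne_zero h)
    refine ⟨C' (g.val.det * h.val.det)⁻¹ * N 0 0, N 1 1, (hlin _ _ _ _).C_mul _, hlin _ _ _ _, ?_⟩
    rw [mul_assoc, show N 0 0 * N 1 1 = N.det by rw [Matrix.det_fin_two, h01]; ring, hdet, ← mul_assoc, ← map_mul,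
      inv_mul_cancel₀ hu, map_one, one_mul]
  rintro ⟨l₁, l₂, hl₁, hl₂, hdet⟩
  let T : Matrix (Fin 2) (Fin 2) k →ₗ[k] (Fin 3 → k) :=
    { toFun := fun A i => ∑ a, ∑ b, A a b * Conic51.vec (M a b) i
      map_add' := fun A B => funext fun i => by simp [add_mul, Finset.sum_add_distrib]
      map_smul' := fun c A => funext fun i => by simp [Finset.mul_sum, mul_assoc, mul_add] }
  -- it suffices to find a singular relation
  suffices hsing : ∃ A : Matrix (Fin 2) (Fin 2) k, A ≠ 0 ∧ A.det = 0 ∧ T A = 0 by
    obtain ⟨A, hA0, hAd, hTA⟩ := hsing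
    obtain ⟨i, j, hij⟩ : ∃ i j, A i j ≠ 0 := by
      by_contra hall
      push Not at hall
      exact hA0 (Matrix.ext hall)
    let r : Fin 2 → k := fun a => A a j / A i j
    let c : Fin 2 → k := A i
    have hrc : ∀ a b, A a b = r a * c b := fun a b => by
      rw [div_mul_eq_mul_div, eq_div_iff hij]
      rw [Matrix.det_fin_two] at hAd
      fin_cases a <;> fin_cases b <;> fin_cases i <;> fin_cases j <;> simp [c] <;> first | linear_combination hAd | linear_combination -hAd | ring
    have hex : ∀ r : Fin 2 → k, r ≠ 0 → ∃ g : GL (Fin 2) k, ∀ a, g.val 0 a = r a := fun r hr => by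
      by_cases h0 : r 0 = 0
      · have h1 : r 1 ≠ 0 := fun h1 => hr (funext fun a => by fin_cases a <;> assumption)
        exact ⟨Matrix.GeneralLinearGroup.mkOfDetNeZero !![r 0, r 1; 1, 0] (by simp [Matrix.det_fin_two_of, h1]),
          fun a => by fin_cases a <;> rfl⟩
      · exact ⟨Matrix.GeneralLinearGroup.mkOfDetNeZero !![r 0, r 1; 0, 1] (by simp [Matrix.det_fin_two_of, h0]),
          fun a => by fin_cases a <;> rfl⟩
    obtain ⟨g, hg⟩ := hex r fun h => by
      have := congrFun h i
      simp [r, hij] at this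
    obtain ⟨h', hh'⟩ := hex ![c 1, c 0] fun h => hij (by
      have h0 := congrFun h 0
      have h1 := congrFun h 1
      simp [c] at h0 h1
      fin_cases j <;> assumption)
    refine ⟨g, Matrix.GeneralLinearGroup.mkOfDetNeZero !![h'.val 1 1, c 0; h'.val 1 0, c 1] ?_, ?_⟩
    · have := Matrix.GeneralLinearGroup.det_ne_zero h'
      rw [Matrix.det_fin_two, hh', hh'] at this
      simp at this
      rw [Matrix.det_fin_two_of]
      intro h
      exact this (by linear_combination h)
    · have e : ∀ a b, C' (r a) * M a b * C' (c b) = ∑ i, (A a b * Conic51.vec (M a b) i) • MvPolynomial.X i := fun a b => by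
        conv_lhs => rw [Conic51.eq_sum (hM a b)]
        simp only [Finset.mul_sum, Finset.sum_mul, MvPolynomial.smul_eq_C_mul, hrc, map_mul, C']
        exact Finset.sum_congr rfl fun i _ => by ring
      have hsum : ∑ a, ∑ b, C' (r a) * M a b * C' (c b) = 0 := by
        simp only [e]
        calc _ = ∑ i, (T A i) • (MvPolynomial.X i : MvPolynomial (Fin 3) k) := by
              simp only [T, LinearMap.coe_mk, AddHom.coe_mk, Finset.sum_smul, Fin.sum_univ_two, Finset.sum_add_distrib, add_smul]
          _ = 0 := by simp [hTA]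
      simp [Fin.sum_univ_two] at hsum
      simp [Matrix.mul_apply, Fin.sum_univ_two, Matrix.GeneralLinearGroup.mkOfDetNeZero, Matrix.GeneralLinearGroup.mk'', hg, C']
      linear_combination hsum
  have hker : LinearMap.ker T ≠ ⊥ := fun h => by
    have := LinearMap.finrank_le_finrank_of_injective (LinearMap.ker_eq_bot.1 h)
    simp [Module.finrank_matrix] at this
  obtain ⟨A, hA, hA0⟩ := Submodule.exists_mem_ne_zero_of_ne_bot hker
  by_cases hAd : A.det = 0
  · exact ⟨A, hA0, hAd, hA⟩
  by_cases hline : ∀ B, T B = 0 → ∃ t : k, B = t • A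
  swap
  · push Not at hline
    obtain ⟨B, hB, hBA⟩ := hline
    let p : Polynomial k := Polynomial.C A.det * Polynomial.X ^ 2 +
      Polynomial.C (A 0 0 * B 1 1 + B 0 0 * A 1 1 - A 0 1 * B 1 0 - B 0 1 * A 1 0) * Polynomial.X + Polynomial.C B.det
    have hp : p.degree = 2 := Polynomial.degree_quadratic hAd
    obtain ⟨t, ht⟩ := IsAlgClosed.exists_root p (by rw [hp]; decide)
    refine ⟨t • A + B, fun h => hBA (-t) (by rw [neg_smul]; exact eq_neg_of_add_eq_zero_right h), ?_,
      by rw [map_add, map_smul, hA, hB, smul_zero, add_zero]⟩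
    simp [p] at ht
    rw [Matrix.det_fin_two] at ht ⊢
    rw [Matrix.det_fin_two] at ht
    simp
    linear_combination ht
  -- otherwise three independent forms
  let P : Fin 3 → Fin 3 → k := ![fun i => A 0 0 * Conic51.vec (M 0 0) i + A 1 0 * Conic51.vec (M 1 0) i,
    fun i => A 0 0 * Conic51.vec (M 0 1) i + A 1 0 * Conic51.vec (M 1 1) i,
    fun i => A 0 1 * Conic51.vec (M 0 0) i + A 1 1 * Conic51.vec (M 1 0) i]
  have hP : LinearIndependent k P := Fintype.linearIndependent_iff.2 fun w hw => by
    obtain ⟨t, ht⟩ := hline (A * !![w 0, w 1; w 2, 0]) (funext fun i => by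
      have := congrFun hw i
      simp [P, Fin.sum_univ_three] at this
      simp [T, Matrix.mul_apply, Fin.sum_univ_two]
      linear_combination this)
    have e00 := congrFun (congrFun ht 0) 0
    have e01 := congrFun (congrFun ht 0) 1
    have e10 := congrFun (congrFun ht 1) 0
    have e11 := congrFun (congrFun ht 1) 1
    simp [Matrix.mul_apply, Fin.sum_univ_two] at e00 e01 e10 e11
    rw [Matrix.det_fin_two] at hAd
    have h1 : (A 0 0 * A 1 1 - A 0 1 * A 1 0) * w 1 = 0 := by linear_combination A 1 1 * e01 - A 0 1 * e11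
    have h0 : (A 0 0 * A 1 1 - A 0 1 * A 1 0) * (w 0 - t) = 0 := by linear_combination A 1 1 * e00 - A 0 1 * e10
    have h2 : (A 0 0 * A 1 1 - A 0 1 * A 1 0) * w 2 = 0 := by linear_combination A 0 0 * e10 - A 1 0 * e00
    have ht0 : (A 0 0 * A 1 1 - A 0 1 * A 1 0) * t = 0 := by
      linear_combination A 1 0 * e01 - A 0 0 * e11
    simp [hAd] at h0 h1 h2 ht0
    intro i
    fin_cases i
    · simpa [ht0] using h0
    · exact h1
    · exact h2
  have hsurj := Conic51.surjective_dot P hP
  choose v hv using hsurj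
  set a := Conic51.vec l₁
  set b := Conic51.vec l₂
  -- the transported quadric
  let Φ : (Fin 3 → k) → k := fun w => -(w 0 * w 0) - w 1 * w 2
  let V : Fin 3 → Fin 3 → k := fun i => v (Pi.single i 1)
  let a' : Fin 3 → k := fun i => A.det * (a ⬝ᵥ V i)
  let b' : Fin 3 → k := fun i => b ⬝ᵥ V i
  have hΦ : ∀ w, Φ w = (∑ i, w i * a' i) * (∑ i, w i * b' i) := fun w => by
    have hw : ∀ j, P j ⬝ᵥ (∑ i, w i • V i) = w j := fun j => by
      simp [dotProduct_sum, V, hv, Pi.single_apply]
    have hev := congrArg (MvPolynomial.eval (∑ i, w i • V i)) hdet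
    rw [Matrix.det_fin_two, map_sub, map_mul, map_mul, map_mul, Conic51.eq_sum (hM 0 0), Conic51.eq_sum (hM 0 1),
      Conic51.eq_sum (hM 1 0), Conic51.eq_sum (hM 1 1), Conic51.eq_sum hl₁, Conic51.eq_sum hl₂] at hev
    simp only [Conic51.eval_linear] at hev
    have ha' : (∑ i, w i * a' i) = A.det * (a ⬝ᵥ ∑ i, w i • V i) := by
      simp [a', dotProduct_sum, dotProduct_smul, Finset.mul_sum]
      exact Finset.sum_congr rfl fun i _ => by ring
    have hb' : (∑ i, w i * b' i) = b ⬝ᵥ ∑ i, w i • V i := by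
      simp [b', dotProduct_sum, dotProduct_smul]
    rw [ha', hb']
    have hT : ∀ u : Fin 3 → k, A 0 0 * (Conic51.vec (M 0 0) ⬝ᵥ u) + A 0 1 * (Conic51.vec (M 0 1) ⬝ᵥ u) +
        (A 1 0 * (Conic51.vec (M 1 0) ⬝ᵥ u) + A 1 1 * (Conic51.vec (M 1 1) ⬝ᵥ u)) = 0 := fun u => by
      have h := congrArg (· ⬝ᵥ u) (show T A = 0 from hA)
      simp [T, dotProduct, Fin.sum_univ_two, Fin.sum_univ_three] at h ⊢
      linear_combination h
    have w0 := hw 0
    have w1 := hw 1
    have w2 := hw 2
    have hu := hT (∑ i, w i • V i)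
    generalize (∑ i, w i • V i) = u at *
    simp [P, dotProduct, Fin.sum_univ_three] at w0 w1 w2
    simp only [Φ, dotProduct, Fin.sum_univ_three] at hev hu ⊢
    rw [Matrix.det_fin_two, ← w0, ← w1, ← w2]
    linear_combination (A 0 0 * A 1 1 - A 0 1 * A 1 0) * hev -
      (A 0 0 * (Conic51.vec (M 0 0) 0 * u 0 + Conic51.vec (M 0 0) 1 * u 1 + Conic51.vec (M 0 0) 2 * u 2) +
        A 1 0 * (Conic51.vec (M 1 0) 0 * u 0 + Conic51.vec (M 1 0) 1 * u 1 + Conic51.vec (M 1 0) 2 * u 2)) * hu
  have f0 := hΦ ![1, 0, 0]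
  have f1 := hΦ ![0, 1, 0]
  have f01 := hΦ ![1, 1, 0]
  have f12 := hΦ ![0, 1, 1]
  have f2 := hΦ ![0, 0, 1]
  have f02 := hΦ ![1, 0, 1]
  simp [Φ, Fin.sum_univ_three] at f0 f1 f01 f12 f2 f02
  exfalso
  rcases f1 with h | h <;> rcases f2 with h' | h'
  · rw [h, h'] at f12; simp at f12
  · rw [h] at f01
    rw [h, h'] at f12
    have : a' 0 * b' 1 = 0 := by linear_combination f0 - f01
    rcases mul_eq_zero.1 this with z | z
    · rw [z] at f0; simp at f0
    · rw [z] at f12; simp at f12
  · rw [h] at f01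
    rw [h, h'] at f12
    have : b' 0 * a' 1 = 0 := by linear_combination f0 - f01
    rcases mul_eq_zero.1 this with z | z
    · rw [z] at f0; simp at f0
    · rw [z] at f12; simp at f12
  · rw [h, h'] at f12; simp at f12

end Groth.Agent.S13912
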