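import Groth.Statements.S13913
import Groth.Agent.Small51.Conic
-- import your own Groth.Agent.* helpers here

set_option autoImplicit false
universe u
open PlaneCubic

namespace Groth.Agent.S13913


/-- Over an algebraically closed field of characteristic zero, for linearly independent linear forms z₁,
z₂ and quadratic forms q₁, q₂ in three variables and a nonzero common zero p of z₁ and z₂, the point
p is a singular point of the plane cubic z₁q₂ − z₂q₁ = 0 (all three partial derivatives vanish at p)
if and only if q₁ and q₂ both vanish at p. -/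
theorem result (k : Type u) [Field k] [IsAlgClosed k] [CharZero k]
    (z₁ z₂ q₁ q₂ : MvPolynomial (Fin 3) k) (hz₁ : z₁.IsHomogeneous 1) (hz₂ : z₂.IsHomogeneous 1)
    (hq₁ : q₁.IsHomogeneous 2) (hq₂ : q₂.IsHomogeneous 2) (hind : LinearIndependent k ![z₁, z₂])
    (p : Fin 3 → k) (hp : p ≠ 0) (hp₁ : MvPolynomial.eval p z₁ = 0) (hp₂ : MvPolynomial.eval p z₂ = 0) :
    (∀ i : Fin 3, MvPolynomial.eval p (MvPolynomial.pderiv i (z₁ * q₂ - z₂ * q₁)) = 0) ↔
      (MvPolynomial.eval p q₁ = 0 ∧ MvPolynomial.eval p q₂ = 0) := by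
  classical
  have e1 := Conic51.eq_sum hz₁
  have e2 := Conic51.eq_sum hz₂
  set a := Conic51.vec z₁
  set b := Conic51.vec z₂
  have ha : ∀ i, MvPolynomial.eval p (MvPolynomial.pderiv i z₁) = a i := fun i => by
    rw [e1]; exact Conic51.eval_pderiv_linear a p i
  have hb : ∀ i, MvPolynomial.eval p (MvPolynomial.pderiv i z₂) = b i := fun i => by
    rw [e2]; exact Conic51.eval_pderiv_linear b p i
  have key : ∀ i, MvPolynomial.eval p (MvPolynomial.pderiv i (z₁ * q₂ - z₂ * q₁)) =
      a i * MvPolynomial.eval p q₂ - b i * MvPolynomial.eval p q₁ := fun i => by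
    rw [map_sub, MvPolynomial.pderiv_mul, MvPolynomial.pderiv_mul, map_sub, map_add, map_add, map_mul, map_mul, map_mul, map_mul,
      hp₁, hp₂, ha, hb]
    ring
  simp only [key]
  refine ⟨fun h => ?_, fun h i => by rw [h.1, h.2]; ring⟩
  obtain ⟨hs, ht⟩ := LinearIndependent.pair_iff.1 hind (MvPolynomial.eval p q₂) (-MvPolynomial.eval p q₁) (by
    rw [e1, e2, Finset.smul_sum, Finset.smul_sum, ← Finset.sum_add_distrib]
    refine Finset.sum_eq_zero fun i _ => ?_
    rw [smul_smul, smul_smul, ← add_smul, show MvPolynomial.eval p q₂ * a i + -MvPolynomial.eval p q₁ * b i = 0 by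
      linear_combination h i, zero_smul])
  exact ⟨neg_eq_zero.1 ht, hs⟩

end Groth.Agent.S13913
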