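import Groth.Statements.S13916
import Mathlib
-- import your own Groth.Agent.* helpers here

set_option autoImplicit false
universe u
open PlaneConic

namespace Groth.Agent.S13916


/-- Over an algebraically closed field k of characteristic zero, with u_0, u_1, u_2 the coordinate
linear forms of k[X_0, X_1, X_2] and 2 × 2 matrices of linear forms compared up to M ↦ g M h with g,
h invertible scalar matrices: (1) the matrices with rows (u_1, 0), (u_0, u_2) and (u_2, 0), (u_0,
u_1) are not equivalent; (2) for α ≠ 0 the matrix with rows (u_1, 0), (αu_0 + βu_1 + γu_2, u_2) is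
equivalent to the one with rows (u_1, 0), (u_0, u_2). -/
theorem result (k : Type u) [Field k] [IsAlgClosed k] [CharZero k] :
    (¬ ∃ g h : GL (Fin 2) k,
      (MvPolynomial.C : k →+* MvPolynomial (Fin 3) k).mapMatrix g.val *
          !![MvPolynomial.X 1, 0; MvPolynomial.X 0, MvPolynomial.X 2] *
        (MvPolynomial.C : k →+* MvPolynomial (Fin 3) k).mapMatrix h.val =
      !![MvPolynomial.X 2, 0; MvPolynomial.X 0, MvPolynomial.X 1]) ∧
    (∀ α β γ : k, α ≠ 0 → ∃ g h : GL (Fin 2) k,
      (MvPolynomial.C : k →+* MvPolynomial (Fin 3) k).mapMatrix g.val *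
          !![MvPolynomial.X 1, 0;
             MvPolynomial.C α * MvPolynomial.X 0 + MvPolynomial.C β * MvPolynomial.X 1 + MvPolynomial.C γ * MvPolynomial.X 2,
             MvPolynomial.X 2] *
        (MvPolynomial.C : k →+* MvPolynomial (Fin 3) k).mapMatrix h.val =
      !![MvPolynomial.X 1, 0; MvPolynomial.X 0, MvPolynomial.X 2]) := by
  classical
  constructor
  · rintro ⟨g, h, hgh⟩
    have key := fun v : Fin 3 → k => congrArg ((MvPolynomial.eval v).mapMatrix) hgh
    have hC : ∀ (v : Fin 3 → k) (M : Matrix (Fin 2) (Fin 2) k),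
        (MvPolynomial.eval v).mapMatrix ((MvPolynomial.C : k →+* MvPolynomial (Fin 3) k).mapMatrix M) = M := fun v M => by
      ext i j; simp
    simp only [map_mul, hC] at key
    have k1 := key ![0, 1, 0]
    have k0 := key ![1, 0, 0]
    have p11 := congrFun (congrFun k1 1) 1
    have q10 := congrFun (congrFun k0 1) 0
    have q11 := congrFun (congrFun k0 1) 1
    simp [Matrix.mul_apply, Fin.sum_univ_two] at p11 q10 q11
    rcases q11 with hq | hq
    · rw [hq, zero_mul] at q10; exact one_ne_zero q10.symm
    · rw [hq, mul_zero] at p11; exact one_ne_zero p11.symm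
  · intro α β γ hα
    refine ⟨Matrix.GeneralLinearGroup.mkOfDetNeZero !![α, 0; -β, 1] (by simp [Matrix.det_fin_two_of, hα]),
      Matrix.GeneralLinearGroup.mkOfDetNeZero !![α⁻¹, 0; -γ * α⁻¹, 1] (by simp [Matrix.det_fin_two_of, hα]), ?_⟩
    have e : (MvPolynomial.C α⁻¹ : MvPolynomial (Fin 3) k) * MvPolynomial.C α = 1 := by
      rw [← map_mul, inv_mul_cancel₀ hα, map_one]
    ext1 i j
    fin_cases i <;> fin_cases j <;>
      simp [Matrix.mul_apply, Fin.sum_univ_two, Matrix.GeneralLinearGroup.mkOfDetNeZero, Matrix.GeneralLinearGroup.mk''] <;>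
      first
      | linear_combination (MvPolynomial.X 1) * e
      | linear_combination (MvPolynomial.X 0) * e

end Groth.Agent.S13916
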