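import Groth.Prelude.Def_W4c1limliniiiiRamP1
import Mathlib.FieldTheory.IsAlgClosed.Basic
import Mathlib.Algebra.CharP.Defs
import Groth.Agent.CAlg9.Pencil.Uniqueness

set_option autoImplicit false
universe u
open W4c1limliniiii

namespace Groth.Agent.S13918

open Polynomial in
/-- Over an algebraically closed field of characteristic p (zero allowed), fix three distinct points of
the affine line, an integer d and ramification indices e_i with 2 ≤ e_i ≤ d, each e_i prime to p,
and ∑ (e_i − 1) = 2d − 2. Then there is at most one separable self-map of the projective line of
degree d, taken up to automorphisms of the target, with ramification index exactly e_i at the i-th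
point — such maps being encoded as base-point-free separable pencils of polynomials of degree at
most d — and there is none precisely when some two-dimensional space of polynomials of degree at
most d with identically vanishing Wronskian contains, for each i, a non-zero member vanishing to
order at least e_i at the i-th point (an inseparable pencil, base points allowed, with at least the
required ramification). (The three points are taken on the affine line, which is no restriction up
to a change of coordinate; the assertion that the solution, when it exists, is a reduced point of
the parameter scheme is not restated.) -/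
theorem result (k : Type u) [Field k] [IsAlgClosed k]
    (p : ℕ) [CharP k p] (d : ℕ) (P : Fin 3 → k) (hP : Function.Injective P)
    (e : Fin 3 → ℕ) (he : W4c1limliniiii.Admissible p d e) :
    (W4c1limliniiii.ramMaps d P e).Subsingleton ∧
      (W4c1limliniiii.ramMaps d P e = ∅ ↔
        ∃ V : Submodule k k[X], V ≤ Polynomial.degreeLE k d ∧ Module.finrank k V = 2 ∧
          ¬ W4c1limliniiii.IsSeparable V ∧
          ∀ i, ∃ s ∈ V, s ≠ 0 ∧ e i ≤ Polynomial.rootMultiplicity (P i) s) := by
  refine ⟨fun V hV V' hV' => (CAlg9.Pencil.eq_of_pencil hP he hV (CAlg9.Pencil.candidate_of_mem_ramMaps hV')).symm,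
    fun hempty => ?_, fun ⟨V₀, h1, h2, h3, h4⟩ => Set.eq_empty_iff_forall_notMem.2 fun V hV => ?_⟩
  · obtain ⟨V, hV⟩ := CAlg9.Pencil.exists_candidate hP he
    refine ⟨V, hV.1, hV.2.1, fun hs => ?_, hV.2.2⟩
    exact Set.eq_empty_iff_forall_notMem.1 hempty V (CAlg9.Pencil.mem_ramMaps_of_separable hP he hV hs)
  · exact h3 ((CAlg9.Pencil.eq_of_pencil hP he hV ⟨h1, h2, h4⟩).symm ▸ hV.2.1)

end Groth.Agent.S13918
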