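import Groth.Prelude.Def_W4c1limliniiiiRamP1
import Mathlib.FieldTheory.IsAlgClosed.Basic
import Mathlib.Algebra.CharP.Defs
import Groth.Agent.CAlg9.Pencil.Uniqueness

set_option autoImplicit false
universe u
open W4c1limliniiii

namespace Groth.Agent.S13919

open Polynomial in
/-- Over an algebraically closed field of characteristic p (zero allowed), fix three distinct points of
the affine line and indices 2 ≤ e_i ≤ d prime to p with ∑ (e_i − 1) = 2d − 2, and encode self-maps
of the projective line up to automorphisms of the target as base-point-free separable pencils of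
polynomials of degree at most d. If p is positive, the first two indices are less than p and p ≤ d,
then there is no separable degree-d self-map of the projective line with ramification index exactly
e_i at the i-th point; if p = 0 or d < p there is exactly one up to automorphisms of the target.
(The first clause includes the case d = p; with it, when all e_i are less than p, the three-point
count is one map if p = 0 or p > d and none otherwise.) -/
theorem result (k : Type u) [Field k] [IsAlgClosed k]
    (p : ℕ) [CharP k p] (d : ℕ) (P : Fin 3 → k) (hP : Function.Injective P)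
    (e : Fin 3 → ℕ) (he : W4c1limliniiii.Admissible p d e) :
    (p ≠ 0 → e 0 < p → e 1 < p → p ≤ d → W4c1limliniiii.ramMaps d P e = ∅) ∧
      (p = 0 ∨ d < p → ∃ V : Submodule k k[X], W4c1limliniiii.ramMaps d P e = {V}) := by
  refine ⟨fun hp h0 h1 hpd => ?_, fun hp => ?_⟩
  · haveI : Fact p.Prime := ⟨(CharP.char_is_prime_or_zero k p).resolve_right hp⟩
    refine Set.eq_empty_iff_forall_notMem.2 fun V hV => ?_
    let g : k[X] := (X - C (P 2)) ^ (e 2 - p)
    have hg : g ≠ 0 := pow_ne_zero _ (X_sub_C_ne_zero _)
    have hgdeg : g.natDegree = e 2 - p := by simp [g]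
    have hmem : ∀ a : k, (X - C a) ^ p * g ∈ Submodule.span k {g, X ^ p * g} := fun a =>
      Submodule.mem_span_pair.2 ⟨-(a ^ p), 1, by
        rw [sub_pow_char, ← C_pow, smul_eq_C_mul, one_smul, map_neg]; ring⟩
    have hne : ∀ a : k, (X - C a) ^ p * g ≠ 0 := fun a => mul_ne_zero (pow_ne_zero _ (X_sub_C_ne_zero a)) hg
    have hli : LinearIndependent k ![g, X ^ p * g] := by
      rw [LinearIndependent.pair_iff]
      intro s t hst
      rw [smul_eq_C_mul, smul_eq_C_mul, show C s * g + C t * (X ^ p * g) = (C s + C t * X ^ p) * g by ring,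
        mul_eq_zero, or_iff_left hg] at hst
      have hp0 : p ≠ 0 := hp
      exact ⟨by simpa [coeff_C, hp0, Ne.symm hp0] using congrArg (fun q : k[X] => q.coeff 0) hst,
        by simpa [coeff_C, hp0, Ne.symm hp0] using congrArg (fun q : k[X] => q.coeff p) hst⟩
    have hd2 := (he.1 2).2.1
    have hcand : CAlg9.Pencil.IsCandidate d P e (Submodule.span k {g, X ^ p * g}) := by
      refine ⟨CAlg9.Pencil.span_pair_le_degreeLE (by omega) ?_, CAlg9.Pencil.finrank_span_pair hli, fun i => ?_⟩
      · refine natDegree_mul_le.trans ?_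
        rw [natDegree_X_pow]
        omega
      · refine ⟨_, hmem (P i), hne (P i), (le_rootMultiplicity_iff (hne (P i))).2 ?_⟩
        fin_cases i
        · exact Dvd.dvd.mul_right (pow_dvd_pow _ h0.le) _
        · exact Dvd.dvd.mul_right (pow_dvd_pow _ h1.le) _
        · show (X - C (P 2)) ^ e 2 ∣ (X - C (P 2)) ^ p * (X - C (P 2)) ^ (e 2 - p)
          rw [← pow_add]
          exact pow_dvd_pow _ (by omega)
    have hns := hV.2.1
    rw [← CAlg9.Pencil.eq_of_pencil hP he hV hcand, CAlg9.Pencil.isSeparable_span_iff] at hns
    apply hns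
    simp only [wronskian, derivative_mul, derivative_X_pow, CharP.cast_eq_zero, map_zero, zero_mul, zero_add]
    ring
  · obtain ⟨V, hV⟩ := CAlg9.Pencil.exists_candidate hP he
    refine ⟨V, Set.eq_singleton_iff_unique_mem.2 ⟨?_, fun V' hV' =>
      (CAlg9.Pencil.eq_of_pencil hP he hV' hV).symm⟩⟩
    refine CAlg9.Pencil.mem_ramMaps_of_separable hP he hV ?_
    obtain ⟨_, hd, hsum⟩ := CAlg9.Pencil.admissible_data he
    obtain ⟨v, hv, h0, rfl⟩ := CAlg9.Pencil.exists_span_eq hP hd hsum hV
    rw [CAlg9.Pencil.isSeparable_span_iff]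
    exact CAlg9.Pencil.wronskian_ne_zero_of_small hp hv.1 hv.2.1
      (CAlg9.Pencil.independent_of_mem hP hd hsum hv h0)

end Groth.Agent.S13919
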