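import Groth.Prelude.Def_W4c1limliniiiiRamP1
import Mathlib.FieldTheory.IsAlgClosed.Basic
import Mathlib.Algebra.CharP.Defs
import Groth.Agent.RamFinite.Finite

set_option autoImplicit false
universe u
open W4c1limliniiii

namespace Groth.Agent.S13921

open Polynomial in
/-- Over an algebraically closed field of characteristic p (zero allowed), let d and indices e_1, …, e_n
be admissible (2 ≤ e_i ≤ d, e_i prime to p, ∑ (e_i − 1) = 2d − 2). Then for a general choice of n
points of the affine line — every configuration outside the zero set of some non-zero polynomial in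
the n coordinates — the separable degree-d self-maps of the projective line with ramification index
exactly e_i at the i-th point, taken up to automorphisms of the target (encoded as base-point-free
separable pencils of polynomials of degree at most d), are finite in number, and none of them maps
two of the points to the same point: no non-zero member of the pencil vanishes at two of the points. -/
theorem result (k : Type u) [Field k]
    [IsAlgClosed k] (p : ℕ) [CharP k p] (d n : ℕ) (e : Fin n → ℕ)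
    (he : W4c1limliniiii.Admissible p d e) :
    ∃ Φ : MvPolynomial (Fin n) k, Φ ≠ 0 ∧ ∀ P : Fin n → k, MvPolynomial.eval P Φ ≠ 0 →
      (W4c1limliniiii.ramMaps d P e).Finite ∧
        ∀ V ∈ W4c1limliniiii.ramMaps d P e, ∀ i j : Fin n, i ≠ j →
          ∀ s ∈ V, (s.IsRoot (P i) ∧ s.IsRoot (P j)) → s = 0 := by
  classical
  have he' := he
  let π := fun (m : ℕ) (i : Fin n) => (Sum.inr (Sum.inr (Sum.inl i)) : Groth.Agent.RamFinite.Idx d m n)
  choose Φ₁ h₁ hf₁ using fun w : Fin d × (Fin n → Bool) =>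
    Groth.Agent.RamFinite.exists_sols_finite (k := k) d (w.1 : ℕ) e w.2
  have h2 : ∀ w : (Fin d × (Fin n → Bool)) × Fin n × Fin n, ∃ Φ : MvPolynomial (Fin n) k, Φ ≠ 0 ∧
      ∀ P, MvPolynomial.eval P Φ ≠ 0 → w.2.1 ≠ w.2.2 → w.1.2 w.2.1 = w.1.2 w.2.2 →
        ∀ x ∈ Groth.Agent.RamFinite.sols d (w.1.1 : ℕ) e w.1.2,
          Groth.Agent.RamFinite.pA x w.2.1 = Groth.Agent.RamFinite.pA x w.2.2 → x ∘ π w.1.1 ≠ P := by
    rintro ⟨⟨m, t⟩, i, j⟩
    by_cases h : i ≠ j ∧ t i = t j
    · obtain ⟨Φ, hΦ, hh⟩ := Groth.Agent.RamFinite.exists_collision_empty (k := k) d (m : ℕ) e t i j h.1 h.2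
      exact ⟨Φ, hΦ, fun P hP _ _ => hh P hP⟩
    · exact ⟨1, one_ne_zero, fun P _ a b => absurd ⟨a, b⟩ h⟩
  choose Φ₂ h₂ hf₂ using h2
  let D : MvPolynomial (Fin n) k := ∏ w ∈ Finset.univ.filter (fun w : Fin n × Fin n => w.1 ≠ w.2),
    (MvPolynomial.X w.1 - MvPolynomial.X w.2)
  refine ⟨D * (∏ w, Φ₁ w) * ∏ w, Φ₂ w, mul_ne_zero (mul_ne_zero (Finset.prod_ne_zero_iff.2 fun w hw => ?_)
    (Finset.prod_ne_zero_iff.2 fun w _ => h₁ w)) (Finset.prod_ne_zero_iff.2 fun w _ => h₂ w), fun P hP => ?_⟩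
  · rw [sub_ne_zero]
    exact fun h => (Finset.mem_filter.1 hw).2 (MvPolynomial.X_injective h)
  rw [map_mul, map_mul, mul_ne_zero_iff, mul_ne_zero_iff, map_prod, map_prod, map_prod,
    Finset.prod_ne_zero_iff, Finset.prod_ne_zero_iff, Finset.prod_ne_zero_iff] at hP
  obtain ⟨⟨hD, hP₁⟩, hP₂⟩ := hP
  have hinj : Function.Injective P := fun i j hij => by
    by_contra h
    exact hD (i, j) (Finset.mem_filter.2 ⟨Finset.mem_univ _, h⟩) (by simp [hij])
  refine ⟨?_, fun V hV i j hij s hs hr => ?_⟩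
  · refine (Set.finite_iUnion fun w : Fin d × (Fin n → Bool) =>
      (hf₁ w P (hP₁ w (Finset.mem_univ _))).image fun x =>
        Submodule.span k {Groth.Agent.RamFinite.pF x, Groth.Agent.RamFinite.pG x}).subset fun V hV => ?_
    obtain ⟨m, t, x, hx, hxP, hVx, -⟩ := Groth.Agent.RamFinite.exists_normal_form he' hinj hV
    exact Set.mem_iUnion.2 ⟨(m, t), x, ⟨hx, hxP⟩, hVx.symm⟩
  · by_contra hs0
    obtain ⟨m, t, x, hx, hxP, -, hcol⟩ := Groth.Agent.RamFinite.exists_normal_form he' hinj hV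
    obtain ⟨ht, hα⟩ := hcol i j s hs hs0 hr.1 hr.2
    exact hf₂ ((m, t), i, j) P (hP₂ _ (Finset.mem_univ _)) hij ht x hx hα hxP

end Groth.Agent.S13921
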