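import Mathlib
import Groth.Statements.S13925

set_option autoImplicit false
universe u v w x
open W4c1limliniiii

namespace Groth.Agent.S13925

theorem result (k : Type u) [Field k]
    (U : Type v) (E : Type w) (W : Type x) [AddCommGroup U] [Module k U] [AddCommGroup E]
    [Module k E] [AddCommGroup W] [Module k W]
    (f : U →ₗ[k] E) (g' : E →ₗ[k] U) (f₂ : E →ₗ[k] W) (g : W →ₗ[k] E)
    (hgf : g'.comp f = 0) (hII : LinearMap.ker f₂ ≤ LinearMap.range g)
    (hIII : LinearMap.range g ⊓ LinearMap.ker g' = ⊥)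
    (V₁ : Submodule k U) (V₂ : Submodule k E) (C' : Submodule k E) (hC : C' ≤ V₂)
    (hCg : C' ≤ LinearMap.ker g') (hCf : Submodule.map f V₁ ⊓ C' = ⊥) :
    iSupIndep ![Submodule.map f V₁, LinearMap.ker f₂ ⊓ V₂, C'] := by
  have hf : Submodule.map f V₁ ≤ LinearMap.ker g' := by
    rintro _ ⟨v, _, rfl⟩; exact LinearMap.congr_fun hgf v
  have key : ∀ a ∈ Submodule.map f V₁, ∀ b ∈ LinearMap.ker f₂ ⊓ V₂, ∀ c ∈ C', a + b + c = 0 →
      a = 0 ∧ b = 0 ∧ c = 0 := by
    intro a ha b hb c hc h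
    have hb' : b ∈ LinearMap.range g ⊓ LinearMap.ker g' := ⟨hII hb.1, by
      have : g' (a + b + c) = 0 := by rw [h, map_zero]
      rw [map_add, map_add, LinearMap.mem_ker.mp (hf ha), LinearMap.mem_ker.mp (hCg hc)] at this
      simpa using this⟩
    rw [hIII] at hb'
    have hb0 : b = 0 := hb'
    subst hb0
    rw [add_zero] at h
    have ha' : a ∈ Submodule.map f V₁ ⊓ C' := ⟨ha, by
      rw [eq_neg_of_add_eq_zero_left h]; exact C'.neg_mem hc⟩
    rw [hCf] at ha'
    have ha0 : a = 0 := ha'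
    exact ⟨ha0, rfl, by simpa [ha0] using h⟩
  rw [iSupIndep_iff_finset_sum_eq_zero_imp_eq_zero]
  intro s v hv hs i hi
  have hw : ∀ j, (if j ∈ s then v j else 0) ∈ ![Submodule.map f V₁, LinearMap.ker f₂ ⊓ V₂, C'] j := by
    intro j; split_ifs with h
    · exact hv j h
    · exact zero_mem _
  have h0 : ∑ j, (if j ∈ s then v j else 0) = 0 := by
    rw [← Finset.sum_filter, Finset.filter_univ_mem, hs]
  rw [Fin.sum_univ_three] at h0
  obtain ⟨e0, e1, e2⟩ := key _ (hw 0) _ (hw 1) _ (hw 2) h0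
  fin_cases i <;> simp_all

end Groth.Agent.S13925
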