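import Mathlib
import Groth.Statements.S13926

set_option autoImplicit false
universe u v w
open W4c1limliniiii

namespace Groth.Agent.S13926

theorem result (k : Type u) [Field k]
    (E₁ : Type v) (E₂ : Type w) [AddCommGroup E₁] [Module k E₁] [FiniteDimensional k E₁]
    [AddCommGroup E₂] [Module k E₂] [FiniteDimensional k E₂]
    (hdim : Module.finrank k E₁ = Module.finrank k E₂)
    (f : E₁ →ₗ[k] E₂) (g : E₂ →ₗ[k] E₁) (s : k) (hgf : g.comp f = s • LinearMap.id)
    (V₁ : Submodule k E₁) :
    ∃ V₂ : Submodule k E₂, Module.finrank k V₂ = Module.finrank k V₁ ∧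
      Submodule.map f V₁ ≤ V₂ ∧ Submodule.map g V₂ ≤ V₁ := by
  have hA : Module.finrank k (Submodule.map f V₁) ≤ Module.finrank k V₁ := Submodule.finrank_map_le f V₁
  have hAB : Submodule.map f V₁ ≤ Submodule.comap g V₁ := by
    rintro _ ⟨v, hv, rfl⟩
    have : g (f v) = s • v := by simpa using LinearMap.congr_fun hgf v
    simp only [Submodule.mem_comap, this]
    exact V₁.smul_mem s hv
  have hB : Module.finrank k V₁ ≤ Module.finrank k (Submodule.comap g V₁) := by
    let q : E₂ →ₗ[k] E₁ ⧸ V₁ := V₁.mkQ.comp g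
    have hq : LinearMap.ker q = Submodule.comap g V₁ := by simp [q, LinearMap.ker_comp]
    have h1 := LinearMap.finrank_range_add_finrank_ker q
    have h2 := Submodule.finrank_le (LinearMap.range q)
    have h3 := Submodule.finrank_quotient_add_finrank V₁
    rw [hq] at h1
    omega
  suffices H : ∀ d (A : Submodule k E₂), A ≤ Submodule.comap g V₁ → Module.finrank k A + d = Module.finrank k V₁ →
      ∃ V₂, A ≤ V₂ ∧ V₂ ≤ Submodule.comap g V₁ ∧ Module.finrank k V₂ = Module.finrank k V₁ by
    obtain ⟨W, h1, h2, h3⟩ := H (Module.finrank k V₁ - Module.finrank k (Submodule.map f V₁)) _ hAB (by omega)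
    exact ⟨W, h3, h1, Submodule.map_le_iff_le_comap.mpr h2⟩
  intro d
  induction d with
  | zero => intro A hA' hd; exact ⟨A, le_rfl, hA', by simpa using hd⟩
  | succ d ih =>
    intro A hA' hd
    have hne : A ≠ Submodule.comap g V₁ := by
      intro h; rw [h] at hd; omega
    obtain ⟨x, hx, hxA⟩ := SetLike.exists_of_lt (lt_of_le_of_ne hA' hne)
    have hlt : A < A ⊔ k ∙ x := by
      refine lt_of_le_of_ne le_sup_left fun h => hxA ?_
      rw [h]; exact Submodule.mem_sup_right (Submodule.mem_span_singleton_self x)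
    have h1 := Submodule.finrank_lt_finrank_of_lt hlt
    have h2 := Submodule.finrank_add_le_finrank_add_finrank A (k ∙ x)
    have h3 := finrank_span_le_card (R := k) ({x} : Set E₂)
    simp at h3
    obtain ⟨W, hW, hW'⟩ := ih (A ⊔ k ∙ x) (sup_le hA' ((Submodule.span_singleton_le_iff_mem _ _).mpr hx)) (by omega)
    exact ⟨W, le_sup_left.trans hW, hW'⟩

end Groth.Agent.S13926
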