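import Groth.Prelude.Def_W4c1limliniiiiRamP1
import Mathlib.FieldTheory.IsAlgClosed.Basic
import Mathlib.Algebra.CharP.Defs
import Groth.Agent.CAlg9.Pencil.FullRamification

set_option autoImplicit false
universe u
open W4c1limliniiii

namespace Groth.Agent.S13929

open Polynomial in
/-- Over an algebraically closed field of characteristic p with p = 0 or d < p, fix n distinct points of
the affine line and admissible ramification indices (2 ≤ e_i ≤ d, e_i prime to p, ∑ (e_i − 1) = 2d −
2). Then there are only finitely many separable self-maps of the projective line of degree d, up to
automorphisms of the target, with ramification index exactly e_i at the i-th point: the set of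
base-point-free separable pencils of polynomials of degree at most d with this ramification is
finite. (This is the case of a fully specified ramification divisor; the points are arbitrary
distinct points, not only general ones.) -/
theorem result (k : Type u) [Field k] [IsAlgClosed k]
    (p : ℕ) [CharP k p] (d n : ℕ) (P : Fin n → k) (hP : Function.Injective P)
    (e : Fin n → ℕ) (he : W4c1limliniiii.Admissible p d e) (hp : p = 0 ∨ d < p) :
    (W4c1limliniiii.ramMaps d P e).Finite := by
  have h := he.2
  obtain ⟨D, rfl⟩ : ∃ D, d = D + 1 := by
    refine ⟨d - 1, ?_⟩
    rcases n with _ | n
    · simp at h; omega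
    · have := (he.1 0).1
      have := (he.1 0).2.1
      omega
  refine CAlg9.Pencil.finite_ramMaps P hP e (fun i => le_trans one_le_two (he.1 i).1) ?_ hp
  have h1 : ∑ i, (e i - 1) + n = ∑ i, e i := by
    have hn : (∑ _i : Fin n, 1) = n := by simp
    conv_lhs => arg 2; rw [← hn]
    rw [← Finset.sum_add_distrib]
    refine Finset.sum_congr rfl fun i _ => ?_
    have := (he.1 i).1
    omega
  omega

end Groth.Agent.S13929
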