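import Groth.Statements.S13934
import Groth.Agent.VB30.Basic
import Groth.Agent.VB30.Setup
import Groth.Agent.VarCurve.HomDeg

set_option autoImplicit false
universe u
open CategoryTheory CategoryTheory.Limits AlgebraicGeometry
open W4c1limliniiii

namespace Groth.Agent.S13934

/-- On a smooth proper integral curve over an algebraically closed field (any characteristic), let 0 → L
→ E → M → 0 be a short exact sequence of O_X-modules with E finite locally free of rank 2 and degree
0, L and M invertible and deg L > 0 (so M is det E ⊗ L⁻¹). Then: every invertible sheaf N admitting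
a non-zero map N → E has deg N ≤ deg L, so L is the line bundle of maximal degree in E; every
invertible subsheaf N of E of positive degree with invertible quotient E/N coincides with L (some
isomorphism N ≅ L commutes with the inclusions); and E is not an extension of two invertible sheaves
of degree 0. Degrees are χ(−) minus rank times χ(O_X). (The published lemma is stated on a curve of
genus 2 in characteristic p; its argument uses neither, and this row assumes neither.) -/
theorem result (k : Type u) [Field k] [IsAlgClosed k] (X : Scheme.{u}) [X.Over (Spec (CommRingCat.of k))]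
    [IsIntegral X] [IsProper (X ↘ Spec (CommRingCat.of k))] [Smooth (X ↘ Spec (CommRingCat.of k))]
    (hdim : topologicalKrullDim X = 1)
    (S : ShortComplex X.Modules) (hS : S.ShortExact)
    (hE : FlatMod.IsFinLocFreeOfRank 2 S.X₂) (hE0 : Curv2.deg k X S.X₂ 2 = 0)
    (hL : PicF.IsInvertible S.X₁) (hM : PicF.IsInvertible S.X₃) (hpos : 0 < Curv2.deg k X S.X₁ 1) :
    (∀ (N : X.Modules), PicF.IsInvertible N → ∀ j : N ⟶ S.X₂, j ≠ 0 →
        Curv2.deg k X N 1 ≤ Curv2.deg k X S.X₁ 1) ∧
    (∀ (N : X.Modules), PicF.IsInvertible N → ∀ (j : N ⟶ S.X₂), Mono j →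
        PicF.IsInvertible (cokernel j) → 0 < Curv2.deg k X N 1 → ∃ φ : N ≅ S.X₁, φ.hom ≫ S.f = j) ∧
    (∀ (N N' : X.Modules), PicF.IsInvertible N → PicF.IsInvertible N' →
        Curv2.deg k X N 1 = 0 → Curv2.deg k X N' 1 = 0 →
        ∀ (a : N ⟶ S.X₂) (b : S.X₂ ⟶ N') (w : a ≫ b = 0), ¬ (ShortComplex.mk a b w).ShortExact) := by
  have hc : Groth.Agent.VB30.Cur k X := Groth.Agent.VB30.cur_of_smooth k X hdim
  have := hc.isNoetherian
  obtain ⟨lE, rE⟩ : FlatMod.IsFinLocFree S.X₂ ∧ Groth.Agent.VB30.rk S.X₂ = 2 :=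
    ⟨Groth.Agent.VB30.isFinLocFree_of_rank hE, Groth.Agent.VB30.rk_eq_of_isFinLocFreeOfRank hE⟩
  have le : ∀ {A B : X.Modules}, PicF.IsInvertible A → PicF.IsInvertible B → ∀ φ : A ⟶ B, φ ≠ 0 →
      Curv2.deg k X A 1 ≤ Curv2.deg k X B 1 := fun hA hB φ hφ =>
    (Groth.Agent.VarCurve.CurveCoh.deg_le_of_hom hc.curveCoh hdim.le hA hB φ hφ).1
  have hsum : Curv2.deg k X S.X₁ 1 + Curv2.deg k X S.X₃ 1 = 0 := by
    rw [Groth.Agent.VB30.deg_eq_dg_of_isInvertible hL, Groth.Agent.VB30.deg_eq_dg_of_isInvertible hM,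
      ← hc.dg_add hS (Groth.Agent.VB30.isCoh_of_isFinLocFree (Groth.Agent.VB30.lf_of_isInvertible hL).1)
        (Groth.Agent.VB30.isCoh_of_isFinLocFree lE),
      ← Groth.Agent.VB30.deg_eq_dg hE, hE0]
  haveI := hS.mono_f
  have hf0 : S.f ≠ 0 := fun h => by
    refine Groth.Agent.VB30.not_mono_zero (F := S.X₂) (Groth.Agent.VB30.lf_of_isInvertible hL).1 ?_ (h ▸ hS.mono_f)
    rw [(Groth.Agent.VB30.lf_of_isInvertible hL).2]; exact Nat.one_pos
  refine ⟨fun N hN j hj => ?_, fun N hN j hj hQ hNpos => ?_, fun N N' hN hN' hdN hdN' a b w hab => ?_⟩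
  · by_cases hq : j ≫ S.g = 0
    · obtain ⟨φ, rfl⟩ : ∃ φ, φ ≫ S.f = j := ⟨_, KernelFork.IsLimit.lift' hS.fIsKernel j hq |>.2⟩
      exact le hN hL φ (fun h => hj (by rw [h, Limits.zero_comp]))
    · exact (le hN hM _ hq).trans (by omega)
  · haveI := hj
    have hQ' : Curv2.deg k X N 1 + Curv2.deg k X (cokernel j) 1 = 0 := by
      rw [Groth.Agent.VB30.deg_eq_dg_of_isInvertible hN, Groth.Agent.VB30.deg_eq_dg_of_isInvertible hQ,
        ← (hc.rk_cokernel j (Groth.Agent.VB30.isCoh_of_isFinLocFree (Groth.Agent.VB30.lf_of_isInvertible hN).1)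
          (Groth.Agent.VB30.isCoh_of_isFinLocFree lE)).2, ← Groth.Agent.VB30.deg_eq_dg hE, hE0]
    have hq : j ≫ S.g = 0 := by
      by_contra hq
      have := le hN hM _ hq
      omega
    have hp : S.f ≫ cokernel.π j = 0 := by
      by_contra hp
      have := le hL hQ _ hp
      omega
    obtain ⟨ψ, hψ⟩ := Groth.Agent.VB30.exists_fac j S.f hp
    exact Groth.Agent.VB30.mono_fac_iso _ ψ (hS.fIsKernel.fac (KernelFork.ofι j hq) WalkingParallelPair.zero) hψ
  · haveI := hab.mono_f
    have hp : S.f ≫ b = 0 := by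
      by_contra hp
      have := le hL hN' _ hp
      omega
    have h1 := le hL hN (hab.fIsKernel.lift (KernelFork.ofι S.f hp)) (fun h => hf0 (by
      have := hab.fIsKernel.fac (KernelFork.ofι S.f hp) WalkingParallelPair.zero
      simp only [h, zero_comp] at this
      exact this.symm))
    omega

end Groth.Agent.S13934
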