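import Groth.Prelude.Def_PP16
import Mathlib.RingTheory.Ideal.Maps

namespace W4c1limliniiii
end W4c1limliniiii

set_option autoImplicit false
universe u
open W4c1limliniiii

namespace Groth.Agent.S13936

open scoped TensorProduct

theorem mk_mem_map_iff {A : Type u} [CommRing A] {I J : Ideal A} (hle : I ≤ J) (x : A) :
    Ideal.Quotient.mk I x ∈ J.map (Ideal.Quotient.mk I) ↔ x ∈ J :=
  Ideal.mem_quotient_iff_mem hle

theorem mem_smul_aug_iff {R S : Type u} [CommRing R] [CommRing S] [Algebra R S] (σ : S →ₐ[R] R) (n : ℕ)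
    (z : PP16.P n R S) (hz : z ∈ PP16.augIdeal n R S) :
    z ∈ RingHom.ker σ.toRingHom • (PP16.augIdeal n R S).restrictScalars S ↔
      z ∈ (RingHom.ker σ.toRingHom).map (algebraMap S (PP16.P n R S)) := by
  constructor
  · intro h
    refine Submodule.smul_induction_on h (fun m hm a _ => ?_) fun a b ha hb => add_mem ha hb
    rw [Algebra.smul_def]
    exact Ideal.mul_mem_right _ _ (Ideal.mem_map_of_mem _ hm)
  · intro h
    have hle : KaehlerDifferential.ideal R S ^ (n + 1) ≤ KaehlerDifferential.ideal R S :=
      Ideal.pow_le_self n.succ_ne_zero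
    let μ : PP16.P n R S →+* S := Ideal.Quotient.lift _ (Algebra.TensorProduct.lmul' R).toRingHom
      fun x hx => hle hx
    have hμ : ∀ a, a ∈ PP16.augIdeal n R S ↔ μ a = 0 := fun a => by
      obtain ⟨a, rfl⟩ := Ideal.Quotient.mk_surjective a
      rw [PP16.augIdeal, mk_mem_map_iff hle]
      rfl
    have hμa : ∀ s, μ (algebraMap S (PP16.P n R S) s) = s := fun s => by
      show Algebra.TensorProduct.lmul' R (s ⊗ₜ[R] (1 : S)) = s
      rw [Algebra.TensorProduct.lmul'_apply_tmul, mul_one]
    have key : ∀ p ∈ (RingHom.ker σ.toRingHom).map (algebraMap S (PP16.P n R S)),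
        p - algebraMap S _ (μ p) ∈ RingHom.ker σ.toRingHom • (PP16.augIdeal n R S).restrictScalars S := by
      intro p hp
      refine Submodule.span_induction ?_ ?_ ?_ ?_ hp
      · rintro _ ⟨s, _, rfl⟩
        rw [hμa, sub_self]
        exact zero_mem _
      · rw [map_zero, map_zero, sub_self]
        exact zero_mem _
      · intro a b _ _ ha hb
        rw [map_add, map_add, add_sub_add_comm]
        exact add_mem ha hb
      · intro c x hx hxs
        have hdec : c • x - algebraMap S _ (μ (c • x)) =
            (μ x) • (c - algebraMap S _ (μ c)) + ((μ c) • (x - algebraMap S _ (μ x))) +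
              (c - algebraMap S _ (μ c)) * (x - algebraMap S _ (μ x)) := by
          rw [smul_eq_mul, map_mul, map_mul, Algebra.smul_def, Algebra.smul_def]
          ring
        rw [hdec]
        refine add_mem (add_mem ?_ (Submodule.smul_mem _ _ hxs)) ?_
        · refine Submodule.smul_mem_smul ?_ ((hμ _).2 (by rw [map_sub, hμa, sub_self]))
          have hle' : (RingHom.ker σ.toRingHom).map (algebraMap S (PP16.P n R S)) ≤
              (RingHom.ker σ.toRingHom).comap μ :=
            Ideal.map_le_iff_le_comap.2 fun s hs => by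
              show μ (algebraMap S _ s) ∈ RingHom.ker σ.toRingHom
              rw [hμa]
              exact hs
          exact hle' hx
        · refine Submodule.smul_induction_on hxs (fun m hm a ha => ?_) fun a b ha hb => ?_
          · rw [mul_smul_comm]
            exact Submodule.smul_mem_smul hm (Ideal.mul_mem_left _ _ ha)
          · rw [mul_add]
            exact add_mem ha hb
    have := key z h
    rwa [(hμ z).1 hz, map_zero, sub_zero] at this

theorem mk_mem_iff {R S : Type u} [CommRing R] [CommRing S] [Algebra R S] (σ : S →ₐ[R] R) (n : ℕ) (w : S ⊗[R] S) :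
    Ideal.Quotient.mk (KaehlerDifferential.ideal R S ^ (n + 1)) w ∈
        (RingHom.ker σ.toRingHom).map (algebraMap S (PP16.P n R S)) ↔
      Algebra.TensorProduct.lift ((Algebra.ofId R S).comp σ) (AlgHom.id R S) (fun _ _ => Commute.all _ _) w ∈
        RingHom.ker σ.toRingHom ^ (n + 1) := by
  let m := RingHom.ker σ.toRingHom
  let ψ : S ⊗[R] S →ₐ[R] S :=
    Algebra.TensorProduct.lift ((Algebra.ofId R S).comp σ) (AlgHom.id R S) (fun _ _ => Commute.all _ _)
  let J : Ideal (PP16.P n R S) := m.map (algebraMap S (PP16.P n R S))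
  let q := Ideal.Quotient.mk (KaehlerDifferential.ideal R S ^ (n + 1))
  have hψ : ∀ x y : S, ψ (x ⊗ₜ[R] y) = algebraMap R S (σ x) * y := fun x y => by simp [ψ, Algebra.ofId_apply]
  have hsub : ∀ x : S, x - algebraMap R S (σ x) ∈ m := fun x => by simp [m, RingHom.mem_ker]
  have hval : ∀ v, q v - q ((1 : S) ⊗ₜ[R] ψ v) ∈ J := by
    intro v
    induction v using TensorProduct.induction_on with
    | zero => simp
    | add a b ha hb =>
      rw [map_add ψ, TensorProduct.tmul_add, map_add q, map_add q, add_sub_add_comm]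
      exact add_mem ha hb
    | tmul x y =>
      have : x ⊗ₜ[R] y - (1 : S) ⊗ₜ[R] ψ (x ⊗ₜ y) =
          ((x - algebraMap R S (σ x)) ⊗ₜ[R] (1 : S)) * ((1 : S) ⊗ₜ[R] y) := by
        rw [hψ, Algebra.TensorProduct.tmul_mul_tmul, mul_one, one_mul, TensorProduct.sub_tmul, ← Algebra.smul_def,
          TensorProduct.tmul_smul, TensorProduct.smul_tmul', Algebra.smul_def, mul_one]
      rw [← map_sub, this, map_mul]
      exact Ideal.mul_mem_right _ _ (Ideal.mem_map_of_mem _ (hsub x))
  have hI : ∀ v ∈ KaehlerDifferential.ideal R S, ψ v ∈ m := by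
    intro v hv
    have hle : KaehlerDifferential.ideal R S ≤ m.comap ψ.toRingHom := by
      rw [← KaehlerDifferential.span_range_eq_ideal, Ideal.span_le]
      rintro _ ⟨s, rfl⟩
      show ψ ((1 : S) ⊗ₜ[R] s - s ⊗ₜ[R] (1 : S)) ∈ m
      rw [map_sub, hψ, hψ, map_one, map_one, one_mul, mul_one]
      exact hsub s
    exact hle hv
  constructor
  · intro h
    have hJ : J ≤ Ideal.map q (Ideal.comap ψ.toRingHom (m ^ (n + 1))) := by
      refine Ideal.map_le_iff_le_comap.2 fun s hs => ?_
      refine Ideal.mem_map_of_mem q (show ψ (s ⊗ₜ[R] (1 : S)) ∈ m ^ (n + 1) from ?_)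
      rw [hψ, show σ s = 0 from hs, map_zero, zero_mul]
      exact zero_mem _
    have h2 := hJ h
    rw [mk_mem_map_iff] at h2
    · exact h2
    · refine le_trans (Ideal.pow_right_mono (fun v hv => show v ∈ m.comap ψ.toRingHom from hI v hv) _) ?_
      exact Ideal.le_comap_pow _ _
  · intro h
    have h1 : m ^ (n + 1) ≤ Ideal.comap (q.comp (Algebra.TensorProduct.includeRight (R := R) (A := S)).toRingHom) J := by
      intro y hy
      have hle : m ≤ Ideal.comap (Algebra.TensorProduct.includeRight (R := R) (A := S)).toRingHom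
          (KaehlerDifferential.ideal R S ⊔ m.map (algebraMap S (S ⊗[R] S))) := by
        intro s hs
        rw [Ideal.mem_comap]
        show (1 : S) ⊗ₜ[R] s ∈ KaehlerDifferential.ideal R S ⊔ m.map (algebraMap S (S ⊗[R] S))
        rw [show (1 : S) ⊗ₜ[R] s = ((1 : S) ⊗ₜ[R] s - s ⊗ₜ[R] (1 : S)) + s ⊗ₜ[R] (1 : S) by abel]
        exact add_mem (Ideal.mem_sup_left (KaehlerDifferential.one_smul_sub_smul_one_mem_ideal R s))
          (Ideal.mem_sup_right (Ideal.mem_map_of_mem _ hs))
      have h2 := (Ideal.pow_right_mono hle (n + 1)).trans (Ideal.le_comap_pow _ _) hy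
      have h3 : (KaehlerDifferential.ideal R S ⊔ m.map (algebraMap S (S ⊗[R] S))) ^ (n + 1) ≤ J.comap q := by
        have hp : ∀ (k : ℕ) (a b : Ideal (S ⊗[R] S)), (a ⊔ b) ^ k ≤ a ^ k ⊔ b := fun k a b => by
          induction k with
          | zero => simp
          | succ k ih =>
            rw [pow_succ, pow_succ]
            refine (Ideal.mul_mono ih le_rfl).trans ?_
            rw [Ideal.sup_mul]
            refine sup_le ?_ (Ideal.mul_le_left.trans le_sup_right)
            rw [Ideal.mul_sup]
            exact sup_le le_sup_left (Ideal.mul_le_right.trans le_sup_right)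
        refine (hp _ _ _).trans (sup_le ?_ ?_)
        · intro v hv
          show q v ∈ J
          rw [Ideal.Quotient.eq_zero_iff_mem.2 hv]
          exact zero_mem _
        · rw [Ideal.map_le_iff_le_comap]
          intro s hs
          exact Ideal.mem_map_of_mem _ hs
      exact h3 h2
    have h4 := add_mem (hval w) (h1 h)
    have h5 : q w - q ((1 : S) ⊗ₜ[R] ψ w) + q ((1 : S) ⊗ₜ[R] ψ w) ∈ J := h4
    rwa [sub_add_cancel] at h5

/-- Let R be a commutative ring, S_Y → S_X a homomorphism of R-algebras (an affine piece of a morphism f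
: X → Y of schemes over Spec R) and σ : S_X → R an R-algebra retraction (a section of X over the
base) with kernel I. For e ≥ 1 write T^{e−1} for the augmentation ideal of the ring of principal
parts of order e − 1 (the kernel of P^{e−1} → the algebra; for e = 2 this is the module of
differentials). Then the natural map T^{e−1}(S_Y/R) → T^{e−1}(S_X/R) takes values in I ·
T^{e−1}(S_X/R) — that is, the induced map f^*T^{e−1}_Y → T^{e−1}_X vanishes at the section σ — if
and only if every element of S_Y whose image in S_X lies in I has image in I^e, which says that the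
fibre of f through σ contains the e-th order thickening of σ. (The published statement is for a
morphism of separated schemes over a base and sections over an arbitrary base change; this row is
the affine computation it reduces to.) -/
theorem result (R SY SX : Type u)
    [CommRing R] [CommRing SY] [CommRing SX] [Algebra R SY] [Algebra R SX] [Algebra SY SX]
    [IsScalarTower R SY SX] (σ : SX →ₐ[R] R) (e : ℕ) (he : 1 ≤ e) :
    (∀ y ∈ PP16.augIdeal (e - 1) R SY,
        PP16.map (e - 1) R SY R SX y ∈
          RingHom.ker σ.toRingHom • (PP16.augIdeal (e - 1) R SX).restrictScalars SX) ↔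
      (∀ b : SY, algebraMap SY SX b ∈ RingHom.ker σ.toRingHom →
        algebraMap SY SX b ∈ RingHom.ker σ.toRingHom ^ e) := by
  obtain ⟨n, rfl⟩ : ∃ n, e = n + 1 := ⟨e - 1, by omega⟩
  rw [Nat.add_sub_cancel]
  let m := RingHom.ker σ.toRingHom
  have hgen : ∀ b : SY, PP16.map n R SY R SX
      (Ideal.Quotient.mk _ ((1 : SY) ⊗ₜ[R] b - b ⊗ₜ[R] (1 : SY))) ∈ m.map (algebraMap SX (PP16.P n R SX)) ↔
        algebraMap SY SX b - algebraMap R SX (σ (algebraMap SY SX b)) ∈ m ^ (n + 1) := fun b => by
    rw [PP16.map_mk, mk_mem_iff, map_sub, PP16.tensorMap_tmul, PP16.tensorMap_tmul, map_one]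
    simp [Algebra.ofId_apply, m]
  have haug : ∀ y ∈ PP16.augIdeal n R SY, PP16.map n R SY R SX y ∈ PP16.augIdeal n R SX := by
    intro y hy
    obtain ⟨w, hw, rfl⟩ := (Ideal.mem_map_iff_of_surjective _ Ideal.Quotient.mk_surjective).1 hy
    rw [PP16.map_mk]
    exact Ideal.mem_map_of_mem _ (PP16.ideal_map_tensorMap_le R SY R SX (Ideal.mem_map_of_mem _ hw))
  constructor
  · intro h b hb
    have hy : Ideal.Quotient.mk _ ((1 : SY) ⊗ₜ[R] b - b ⊗ₜ[R] (1 : SY)) ∈ PP16.augIdeal n R SY :=
      Ideal.mem_map_of_mem _ (KaehlerDifferential.one_smul_sub_smul_one_mem_ideal R b)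
    have h1 := (hgen b).1 ((mem_smul_aug_iff σ n _ (haug _ hy)).1 (h _ hy))
    rwa [show σ (algebraMap SY SX b) = 0 from hb, map_zero, sub_zero] at h1
  · intro h y hy
    rw [mem_smul_aug_iff σ n _ (haug y hy)]
    have hle : PP16.augIdeal n R SY ≤
        (m.map (algebraMap SX (PP16.P n R SX))).comap (PP16.map n R SY R SX).toRingHom := by
      refine Ideal.map_le_iff_le_comap.2 ((KaehlerDifferential.span_range_eq_ideal R SY).ge.trans (Ideal.span_le.2 ?_))
      rintro _ ⟨b, rfl⟩
      refine (hgen b).2 ?_
      have h1 := h (b - algebraMap R SY (σ (algebraMap SY SX b))) (by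
        simp [RingHom.mem_ker, map_sub, ← IsScalarTower.algebraMap_apply])
      rwa [map_sub, ← IsScalarTower.algebraMap_apply] at h1
    exact hle hy

end Groth.Agent.S13936
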