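import Groth.Statements.S1394
import Mathlib
import Mathlib

set_option autoImplicit false
set_option linter.style.haveILetI false
set_option linter.style.longLine false
universe u
open FlatMor

namespace Groth.Agent.S1394


open IsLocalRing

/-- A local domain, essentially of finite type, whose only nonzero prime is maximal and with finite residue extension, is quasi-finite. -/
theorem quasiFinite_of_dim_one {A B : Type u} [CommRing A] [CommRing B] [IsLocalRing A] [IsLocalRing B] [IsDomain B]
    [IsNoetherianRing A] [Algebra A B] [IsLocalHom (algebraMap A B)] [Algebra.EssFiniteType A B]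
    (hfin : Module.Finite A (ResidueField B))
    (h0 : (⊥ : Ideal B).comap (algebraMap A B) ≠ maximalIdeal A)
    (hP : ∀ P : Ideal B, P.IsPrime → P ≠ ⊥ → P = maximalIdeal B) :
    Algebra.QuasiFinite A B := by
  haveI : IsNoetherianRing B := Algebra.EssFiniteType.isNoetherianRing A B
  have hcm : (maximalIdeal B).comap (algebraMap A B) = maximalIdeal A :=
    Ideal.ext fun a => by simp
  have hQ : Module.Finite A (B ⧸ (maximalIdeal A).map (algebraMap A B)) := by
    have hle : (maximalIdeal A).map (algebraMap A B) ≤ maximalIdeal B :=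
      Ideal.map_le_iff_le_comap.2 hcm.ge
    let f : (B ⧸ (maximalIdeal A).map (algebraMap A B)) →ₐ[A] (B ⧸ maximalIdeal B) :=
      Ideal.Quotient.factorₐ A hle
    haveI : Module.Finite A (B ⧸ maximalIdeal B) := hfin
    refine Module.finite_of_surjective_of_ker_le_nilradical f
      (Ideal.Quotient.factor_surjective hle) ?_ (IsNoetherian.noetherian _)
    intro x hx
    obtain ⟨y, rfl⟩ := Ideal.Quotient.mk_surjective x
    have hy : y ∈ maximalIdeal B := Ideal.Quotient.eq_zero_iff_mem.1 hx
    rw [mem_nilradical, ← Ideal.Quotient.algebraMap_eq]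
    obtain ⟨n, hn⟩ : y ∈ ((maximalIdeal A).map (algebraMap A B)).radical := by
      rw [Ideal.radical_eq_sInf, Ideal.mem_sInf]
      rintro P ⟨hPle, hPp⟩
      have : P ≠ ⊥ := fun h => by
        refine h0 (le_antisymm (fun a ha => ?_) (fun a ha => ?_))
        · exact hcm.le (Ideal.mem_comap.2 (by
            rw [Ideal.mem_bot.1 ha]; exact Submodule.zero_mem _))
        · rw [Ideal.mem_comap, ← h]
          exact hPle (Ideal.mem_map_of_mem _ ha)
      rwa [hP P hPp this]
    exact ⟨n, by rw [← map_pow]; exact Ideal.Quotient.eq_zero_iff_mem.2 hn⟩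
  let C := Algebra.EssFiniteType.subalgebra A B
  let n : Ideal C := (maximalIdeal B).comap (algebraMap C B)
  haveI : n.IsPrime := Ideal.comap_isPrime _ _
  haveI hloc : IsLocalization.AtPrime B n := by
    refine IsLocalization.of_le (Algebra.EssFiniteType.submonoid A B) n.primeCompl ?_ ?_
    · intro c hc hcn
      exact (mem_maximalIdeal _).1 hcn hc
    · intro c hc
      exact notMem_maximalIdeal.1 hc
  let e : Localization.AtPrime n ≃ₐ[A] B :=
    (IsLocalization.algEquiv n.primeCompl (Localization.AtPrime n) B).restrictScalars A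
  have hn : n.under A = maximalIdeal A := by
    rw [← hcm]
    ext a
    simp [n, Ideal.under_def, ← IsScalarTower.algebraMap_apply]
  haveI : Algebra.WeaklyQuasiFiniteAt A n := by
    rw [Algebra.weaklyQuasiFiniteAt_iff, hn]
    haveI : Module.Finite A (Localization.AtPrime n ⧸ (maximalIdeal A).map (algebraMap A (Localization.AtPrime n))) := by
      let g := Ideal.quotientEquivAlg ((maximalIdeal A).map (algebraMap A (Localization.AtPrime n)))
        ((maximalIdeal A).map (algebraMap A B)) e (by
          rw [Ideal.map_map]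
          congr 1
          exact RingHom.ext fun a => (e.commutes a).symm)
      exact Module.Finite.equiv g.symm.toLinearEquiv
    infer_instance
  haveI hq : Algebra.QuasiFinite A (Localization.AtPrime n) := Algebra.QuasiFiniteAt.of_weaklyQuasiFiniteAt n
  exact (Algebra.QuasiFinite.iff_of_algEquiv e).1 hq

/-- Let A → B be a local homomorphism of local rings with A Noetherian, B essentially of finite type
over A, and the residue field of B finite over that of A. Let V ⊆ Spec B be an open subset
containing some prime that does not lie over the maximal ideal of A. Then V contains a prime q, not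
lying over the maximal ideal of A, such that B/q is quasi-finite over A in the sense that every
fibre ring of A → B/q is finite over the corresponding residue field of A. (The published statement
is stronger: there B/q is moreover a localization of a quasi-finite A-algebra of finite type, which
implies this.) -/
theorem result {A B : Type u} [CommRing A] [CommRing B] [IsLocalRing A] [IsLocalRing B] [IsNoetherianRing A]
    [Algebra A B] [IsLocalHom (algebraMap A B)] [Algebra.EssFiniteType A B]
    [Module.Finite (IsLocalRing.ResidueField A) (IsLocalRing.ResidueField B)]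
    (V : Set (PrimeSpectrum B)) (hV : IsOpen V) (hne : ∃ q ∈ V, q.asIdeal.comap (algebraMap A B) ≠ IsLocalRing.maximalIdeal A) :
    ∃ q ∈ V, q.asIdeal.comap (algebraMap A B) ≠ IsLocalRing.maximalIdeal A ∧ Algebra.QuasiFinite A (B ⧸ q.asIdeal) := by
  haveI : IsNoetherianRing B := Algebra.EssFiniteType.isNoetherianRing A B
  let W : Set (Ideal B) := {q | ∃ hq : q.IsPrime, (⟨q, hq⟩ : PrimeSpectrum B) ∈ V ∧
    q.comap (algebraMap A B) ≠ IsLocalRing.maximalIdeal A}
  obtain ⟨q₀, hq₀⟩ := hne
  obtain ⟨q, ⟨hq, hqV, hqA⟩, hmax⟩ :=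
    (wellFounded_gt (α := Ideal B)).has_min W ⟨q₀.asIdeal, q₀.2, hq₀.1, hq₀.2⟩
  refine ⟨⟨q, hq⟩, hqV, hqA, ?_⟩
  change Algebra.QuasiFinite A (B ⧸ q)
  have hcm : (IsLocalRing.maximalIdeal B).comap (algebraMap A B) = IsLocalRing.maximalIdeal A :=
    Ideal.ext fun a => by simp
  have hqne : q ≠ IsLocalRing.maximalIdeal B := fun h => hqA (h ▸ hcm)
  obtain ⟨_, ⟨h, rfl⟩, hqh, hhV⟩ :=
    PrimeSpectrum.isTopologicalBasis_basic_opens.exists_subset_of_mem_open hqV hV
  have hqh' : h ∉ q := hqh
  obtain ⟨a, ha, haq⟩ : ∃ a ∈ IsLocalRing.maximalIdeal A, algebraMap A B a ∉ q := by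
    by_contra hcon
    push Not at hcon
    refine hqA (le_antisymm ?_ hcon)
    exact IsLocalRing.le_maximalIdeal (Ideal.comap_ne_top _ hq.ne_top)
  set t : B := h * algebraMap A B a with ht
  have htq : t ∉ q := hq.mul_notMem hqh' haq
  have hbig : ∀ P : Ideal B, P.IsPrime → q < P → t ∈ P := by
    intro P hP hqP
    by_contra htP
    refine hmax P ⟨hP, hhV (show h ∉ P from fun hh => htP (P.mul_mem_right _ hh)), fun he => ?_⟩ hqP
    exact htP (P.mul_mem_left _ (show a ∈ P.comap (algebraMap A B) from he.ge ha))
  haveI := hq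
  haveI : IsLocalRing (B ⧸ q) := IsLocalRing.of_surjective' (Ideal.Quotient.mk q) Ideal.Quotient.mk_surjective
  haveI : IsLocalHom (Ideal.Quotient.mk q) :=
    IsLocalHom.of_surjective _ Ideal.Quotient.mk_surjective
  haveI : IsLocalHom (algebraMap A (B ⧸ q)) :=
    RingHom.isLocalHom_comp (Ideal.Quotient.mk q) (algebraMap A B)
  haveI : IsNoetherianRing (B ⧸ q) := inferInstance
  set m := IsLocalRing.maximalIdeal (B ⧸ q) with hm
  set t' : B ⧸ q := Ideal.Quotient.mk q t with ht'
  have ht0 : t' ≠ 0 := fun h0 => htq (Ideal.Quotient.eq_zero_iff_mem.1 h0)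
  have htP : ∀ P : Ideal (B ⧸ q), P.IsPrime → P ≠ ⊥ → t' ∈ P := by
    intro P hP hP0
    refine hbig (P.comap (Ideal.Quotient.mk q)) (Ideal.comap_isPrime _ _) ?_
    refine lt_of_le_of_ne (fun x hx => ?_) fun he => hP0 ?_
    · rw [Ideal.mem_comap, Ideal.Quotient.eq_zero_iff_mem.2 hx]; exact P.zero_mem
    · rw [← Ideal.map_comap_of_surjective _ Ideal.Quotient.mk_surjective P, ← he, Ideal.map_quotient_self]
  have hfin_min := Ideal.finite_minimalPrimes_of_isNoetherianRing (B ⧸ q) (Ideal.span {t'})
  have hcover : (m : Set (B ⧸ q)) ⊆ ⋃ P ∈ (Ideal.span {t'}).minimalPrimes, (P : Set (B ⧸ q)) := by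
    intro x hx
    rcases eq_or_ne x 0 with rfl | hx0
    · have hne' : (Ideal.span {t'}).minimalPrimes.Nonempty := by
        have htop : Ideal.span {t'} ≤ m := by
          rw [Ideal.span_singleton_le_iff_mem, hm, IsLocalRing.mem_maximalIdeal, mem_nonunits_iff]
          intro hu
          have hu' : IsUnit t := IsLocalHom.map_nonunit (f := Ideal.Quotient.mk q) t hu
          exact (IsLocalRing.mem_maximalIdeal t).1 (Ideal.mul_mem_left _ h (hcm.ge ha)) hu'
        obtain ⟨P, hP, -⟩ := Ideal.exists_minimalPrimes_le htop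
        exact ⟨P, hP⟩
      obtain ⟨P, hP⟩ := hne'
      exact Set.mem_biUnion hP P.zero_mem
    · obtain ⟨P, hP, -⟩ := Ideal.exists_minimalPrimes_le
        (show Ideal.span {x} ≤ m from (Ideal.span_singleton_le_iff_mem _).2 hx)
      have hxP : x ∈ P := hP.1.2 (Ideal.mem_span_singleton_self x)
      haveI := hP.1.1
      have hP0 : P ≠ ⊥ := fun h0 => hx0 (by rw [h0] at hxP; exact hxP)
      obtain ⟨P', hP', hP'le⟩ := Ideal.exists_minimalPrimes_le
        (show Ideal.span {t'} ≤ P from (Ideal.span_singleton_le_iff_mem _).2 (htP P hP.1.1 hP0))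
      haveI := hP'.1.1
      refine Set.mem_biUnion hP' ?_
      suffices P' = P by rw [this]; exact hxP
      by_contra hne'
      have hh1 : P.height ≤ 1 := Ideal.height_le_one_of_isPrincipal_of_mem_minimalPrimes (Ideal.span {x}) P hP
      have hh2 := Ideal.height_strict_mono_of_isPrime (lt_of_le_of_ne hP'le hne')
      have hh3 : (⊥ : Ideal (B ⧸ q)) < P' := bot_lt_iff_ne_bot.2 fun h0 => ht0 (by
        have := hP'.1.2 (Ideal.mem_span_singleton_self t')
        rwa [h0] at this)
      have hh4 := Ideal.height_strict_mono_of_isPrime hh3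
      have h5 : (1 : ℕ∞) ≤ P'.height := by
        rw [Ideal.height_bot] at hh4
        exact Order.one_le_iff_pos.2 hh4
      exact absurd (hh2.trans_le hh1) (not_lt.2 h5)
  obtain ⟨P, hPmin, hmP⟩ : ∃ P ∈ (Ideal.span {t'}).minimalPrimes, m ≤ P :=
    (Ideal.subset_union_prime_finite hfin_min m m (fun P hP _ _ => hP.1.1)).1 hcover
  have hPm : P = m := (IsLocalRing.maximalIdeal.isMaximal (B ⧸ q)).eq_of_le hPmin.1.1.ne_top hmP |>.symm
  refine quasiFinite_of_dim_one ?_ ?_ fun Q hQ hQ0 => ?_
  · haveI : Module.Finite A (IsLocalRing.ResidueField B) :=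
      Module.Finite.trans (IsLocalRing.ResidueField A) _
    let g : IsLocalRing.ResidueField B →ₗ[A] IsLocalRing.ResidueField (B ⧸ q) :=
      { toFun := IsLocalRing.ResidueField.map (Ideal.Quotient.mk q)
        map_add' := map_add _
        map_smul' := fun r x => by
          obtain ⟨y, rfl⟩ := IsLocalRing.residue_surjective x
          rfl }
    exact Module.Finite.of_surjective g fun z => by
        obtain ⟨z, rfl⟩ := IsLocalRing.residue_surjective z
        obtain ⟨y, rfl⟩ := Ideal.Quotient.mk_surjective z
        exact ⟨IsLocalRing.residue _ y, rfl⟩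
  · intro he
    refine hqA ?_
    rw [← he]
    ext x
    rw [Ideal.mem_comap, Ideal.mem_comap, Ideal.mem_bot]
    exact (Ideal.Quotient.eq_zero_iff_mem (I := q) (a := algebraMap A B x)).symm
  · rw [← hm, ← hPm]
    refine (le_antisymm (hPmin.2 ⟨hQ, (Ideal.span_singleton_le_iff_mem _).2 (htP Q hQ hQ0)⟩ ?_) ?_).symm
    · rw [hPm]; exact IsLocalRing.le_maximalIdeal hQ.ne_top
    · rw [hPm]; exact IsLocalRing.le_maximalIdeal hQ.ne_top

end Groth.Agent.S1394
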