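import Groth.Statements.S13942
import Groth.Agent.Zeta24.CharFG
import Groth.Agent.Tori96.Scheme
-- import your own Groth.Agent.* helpers here

set_option autoImplicit false
universe u
open TateLoc

namespace Groth.Agent.S13942

open CategoryTheory AlgebraicGeometry MonObj in
/-- For a non-archimedean local field k of characteristic p > 0 and an affine commutative k-group scheme
G of finite type, the group of characters of G defined over k (morphisms of abelian sheaves on the
big fppf site of Spec k from the sheaf of points of G into the multiplicative group) is a finitely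
generated abelian group. -/
theorem result (p : ℕ) [Fact p.Prime] (k : Type u) [Field k] [CharP k p]
    [ValuativeRel k] [TopologicalSpace k] [IsNonarchimedeanLocalField k]
    (G : Over (Spec (CommRingCat.of k))) [GrpObj G] [IsCommMonObj G] [IsAffine G.left] [LocallyOfFiniteType G.hom] :
    AddGroup.FG ((CGrpSh.pts Scheme.fppfPrecoverage G) ⟶ (CGrpSh2.Gm Scheme.fppfPrecoverage (Spec (CommRingCat.of k)))) := by
  open scoped Groth.Agent.FinSub96 in
  open Groth.Agent.FinSub96 Groth.Agent.Tori96 in
  letI : Algebra k Γ(G.left, ⊤) := Groth.Agent.FinSub96.secAlg G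
  haveI : Algebra.FiniteType k Γ(G.left, ⊤) := by
    rw [← RingHom.finiteType_algebraMap]
    exact (((HasRingHomProperty.iff_of_isAffine (P := @LocallyOfFiniteType) (f := G.hom)).1 inferInstance).comp
      (RingHom.FiniteType.of_surjective _ (ConcreteCategory.bijective_of_isIso
        (Scheme.ΓSpecIso (CommRingCat.of k)).inv).surjective) :)
  haveI : Nontrivial (Γ(G.left, ⊤) : Type u) := Groth.Agent.FinSub96.nontrivial_sec (H := G)
  obtain ⟨Δ, hΔ⟩ := Groth.Agent.Tori96.exists_comul (T := G)
  haveI : Group.FG (Groth.Agent.Zeta24.grpLikeUnits Δ) := Groth.Agent.Zeta24.fg_grpLikeUnits Δ p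
  haveI : AddGroup.FG (Additive (Groth.Agent.Zeta24.grpLikeUnits Δ)) := GroupFG.iff_add_fg.1 inferInstance
  haveI : Module.Finite ℤ (Additive (Groth.Agent.Zeta24.grpLikeUnits Δ)) := Module.Finite.iff_addGroup_fg.2 inferInstance
  haveI : IsNoetherian ℤ (Additive (Groth.Agent.Zeta24.grpLikeUnits Δ)) := isNoetherian_of_isNoetherianRing_of_finite ℤ _
  let Gm' := Red.Gm (Spec (CommRingCat.of k))
  let hom : ((CGrpSh.pts Scheme.fppfPrecoverage G) ⟶ (CGrpSh2.Gm Scheme.fppfPrecoverage (Spec (CommRingCat.of k)))) → (G ⟶ Gm') :=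
    fun φ => Additive.toMul (ULift.down (φ.hom.app (Opposite.op G) (ULift.up (Additive.ofMul (𝟙 G)))))
  have hnat : ∀ φ (T : Over (Spec (CommRingCat.of k))) (x : T ⟶ G),
      φ.hom.app (Opposite.op T) (ULift.up (Additive.ofMul x)) = ULift.up (Additive.ofMul (x ≫ hom φ)) := by
    intro φ T x
    have h := ConcreteCategory.congr_hom (φ.hom.naturality x.op) (ULift.up (Additive.ofMul (𝟙 G)))
    refine Eq.trans ?_ h
    exact congrArg (φ.hom.app (Opposite.op T)) (ULift.ext _ _ (congrArg Additive.ofMul (Category.comp_id x).symm))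
  have hmul : ∀ φ (T : Over (Spec (CommRingCat.of k))) (x y : T ⟶ G),
      (x * y) ≫ hom φ = (x ≫ hom φ) * (y ≫ hom φ) := by
    intro φ T x y
    have h : φ.hom.app (Opposite.op T) (ULift.up (Additive.ofMul (x * y))) =
        φ.hom.app (Opposite.op T) (ULift.up (Additive.ofMul x)) + φ.hom.app (Opposite.op T) (ULift.up (Additive.ofMul y)) :=
      (congrArg (φ.hom.app (Opposite.op T)) (ULift.ext _ _ rfl)).trans (map_add _ _ _)
    rw [hnat, hnat, hnat] at h
    exact congrArg (fun z => Additive.toMul (ULift.down z)) h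
  have hgl : ∀ φ, Δ (Red.gmFn (hom φ)) = Red.gmFn (hom φ) ⊗ₜ[k] Red.gmFn (hom φ) := by
    intro φ
    haveI := Groth.Agent.Tori96.isIso_toSp_of_isAffine (T := G)
    set u := Red.gmFn (hom φ)
    have hval : ∀ (S : Type u) [CommRing S] [Algebra k S] (x : (Γ(G.left, ⊤) : Type u) →ₐ[k] S),
        Red.gmFn (Groth.Agent.Tori96.ofA G x ≫ hom φ) = Groth.Agent.FinSub96.toSec S (x u) := by
      intro S _ _ x
      rw [Groth.Agent.RedPts82.gmFn_comp, ← Groth.Agent.FinSub96.secMap_apply]
      refine Eq.trans ?_ (Groth.Agent.FinSub96.secMap_spMap x u)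
      rw [Groth.Agent.Tori96.ofA, Groth.Agent.FinSub96.secMap_comp]
      congr 1
      have h1 := Groth.Agent.FinSub96.pt_comp (inv (Groth.Agent.FinSub96.toSp G)) (Groth.Agent.FinSub96.toSp G)
      rw [Groth.Agent.FinSub96.pt_toSp, IsIso.inv_hom_id, Groth.Agent.FinSub96.pt_id] at h1
      exact (DFunLike.congr_fun h1 u).symm
    have h := hΔ _ (Algebra.TensorProduct.includeLeft (R := k) (A := (Γ(G.left, ⊤) : Type u)) (B := (Γ(G.left, ⊤) : Type u)))
      (Algebra.TensorProduct.includeRight (R := k) (A := (Γ(G.left, ⊤) : Type u)) (B := (Γ(G.left, ⊤) : Type u)))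
    have h2 := congrArg (fun z => Red.gmFn (z ≫ hom φ)) h
    simp only [hmul, hval] at h2
    have h2' := h2.trans (Groth.Agent.RedPts82.gmFn_mul _ _)
    simp only [hval, ← map_mul] at h2'
    have h3 := (Groth.Agent.FinSub96.toSec_bijective (K := k)).injective h2'
    rw [Groth.Agent.Tori96.pmul] at h3
    have hid : Algebra.TensorProduct.productMap (Algebra.TensorProduct.includeLeft (R := k) (A := (Γ(G.left, ⊤) : Type u)) (B := (Γ(G.left, ⊤) : Type u)))
        Algebra.TensorProduct.includeRight = AlgHom.id k _ :=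
      Algebra.TensorProduct.ext (Algebra.TensorProduct.productMap_left _ _)
        (Algebra.TensorProduct.productMap_right _ _)
    rw [hid, AlgHom.id_comp] at h3
    simpa [Algebra.TensorProduct.tmul_mul_tmul] using h3
  let F : ((CGrpSh.pts Scheme.fppfPrecoverage G) ⟶ (CGrpSh2.Gm Scheme.fppfPrecoverage (Spec (CommRingCat.of k)))) →+
      Additive (Groth.Agent.Zeta24.grpLikeUnits Δ) :=
    AddMonoidHom.mk' (fun φ => Additive.ofMul ⟨(Groth.Agent.RedPts82.gmFn_isUnit (hom φ)).unit, hgl φ⟩) fun φ ψ => by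
      apply Additive.toMul.injective
      refine Subtype.ext (Units.ext ?_)
      exact (Groth.Agent.RedPts82.gmFn_mul (hom φ) (hom ψ))
  have hinj : Function.Injective F := by
    intro φ ψ h
    have h0 : Red.gmFn (hom φ) = Red.gmFn (hom ψ) := congrArg (fun z => ((z.toMul : Groth.Agent.Zeta24.grpLikeUnits Δ) : (Γ(G.left, ⊤) : Type u)ˣ).1) h
    have h1 := Groth.Agent.RedPts82.gmFn_injective h0
    apply Sheaf.hom_ext
    apply NatTrans.ext
    funext T
    refine AddCommGrpCat.ext fun x => ?_
    exact (hnat φ T.unop x.down.toMul).trans (h1 ▸ (hnat ψ T.unop x.down.toMul).symm)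
  exact Module.Finite.iff_addGroup_fg.1 (Module.Finite.of_injective F.toIntLinearMap hinj)

end Groth.Agent.S13942
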