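import Groth.Statements.S13951
import Groth.Agent.S7179
import Mathlib.AlgebraicGeometry.Morphisms.QuasiFinite
-- import your own Groth.Agent.* helpers here

set_option autoImplicit false
universe u
open TateLoc

namespace Groth.Agent.S13951

open CategoryTheory AlgebraicGeometry CategoryTheory.Limits in
/-- Let S be a reduced scheme and I a finite locally free commutative S-group scheme (finite, flat, of
finite presentation) whose fibres over all points of S are connected. Then the restriction of the
sheaf of points of I from the big fppf site of S to the small etale site of S is the zero sheaf. -/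
theorem result (S : Scheme.{u}) [IsReduced S]
    (I : Over S) [GrpObj I] [IsCommMonObj I] [IsFinite I.hom] [Flat I.hom] [LocallyOfFinitePresentation I.hom]
    (hconn : ∀ s : S, ConnectedSpace ↥(I.hom.fiber s)) :
    IsZero ((BigSite.resEt Scheme.fppfPrecoverage S).obj (CGrpSh.pts Scheme.fppfPrecoverage I)) := by
  let ε : S ⟶ I.left := (MonObj.one : MonoidalCategoryStruct.tensorUnit (Over S) ⟶ I).left
  have hε : ε ≫ I.hom = 𝟙 S := Over.w (MonObj.one : MonoidalCategoryStruct.tensorUnit (Over S) ⟶ I)
  -- each fibre is a single point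
  have hsub : ∀ p : I.left, p = ε (I.hom p) := fun p => by
    have : Finite ↥(I.hom.fiber (I.hom p)) := by
      have := (I.hom.finite_preimage_singleton (I.hom p)).to_subtype
      exact Finite.of_equiv _ (I.hom.fiberHomeo (I.hom p)).symm.toEquiv
    haveI := hconn (I.hom p)
    haveI : Subsingleton ↥(I.hom.fiber (I.hom p)) := subsingleton_of_preconnected_totallyDisconnected
    have hp : I.hom (ε (I.hom p)) = I.hom p := by rw [← Scheme.Hom.comp_apply, hε]; rfl
    exact congrArg Subtype.val ((I.hom.fiberHomeo (I.hom p)).symm.injective (Subsingleton.elim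
      ((I.hom.fiberHomeo (I.hom p)).symm ⟨p, rfl⟩) ((I.hom.fiberHomeo (I.hom p)).symm ⟨ε (I.hom p), hp⟩)))
  have hfix : ∀ s : S, I.left.fromSpecResidueField (ε s) ≫ I.hom ≫ ε = I.left.fromSpecResidueField (ε s) := by
    intro s
    have h := Scheme.Hom.SpecMap_residueFieldMap_fromSpecResidueField (f := ε) s
    haveI : IsIso (ε.residueFieldMap s) := by
      rw [ConcreteCategory.isIso_iff_bijective]
      refine ⟨RingHom.injective _, fun a => ?_⟩
      have h1 : (ε ≫ I.hom).residueFieldMap s = I.hom.residueFieldMap (ε s) ≫ ε.residueFieldMap s :=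
        Scheme.residueFieldMap_comp _ _ _
      rw [Scheme.Hom.residueFieldMap_congr hε, Scheme.residueFieldMap_id] at h1
      have hs : I.hom (ε s) = s := by rw [← Scheme.Hom.comp_apply, hε]; rfl
      exact ⟨I.hom.residueFieldMap (ε s) ((S.residueFieldCongr hs).inv a),
        (ConcreteCategory.congr_hom h1.symm ((S.residueFieldCongr hs).inv a)).trans
          (Iso.inv_hom_id_apply (S.residueFieldCongr hs) a)⟩
    rw [← cancel_epi (Spec.map (ε.residueFieldMap s)), reassoc_of% h, reassoc_of% hε, h]
  open scoped CategoryTheory.MonObj in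
  have hkey : ∀ (U : S.Etale) (x : (EtFppf.a S).obj U ⟶ I), x = 1 := by
    intro U x
    haveI : Etale ((EtFppf.a S).obj U).hom := U.prop
    haveI : AlgebraicGeometry.IsReduced ((EtFppf.a S).obj U).left := Groth.Agent.S7179.result ((EtFppf.a S).obj U).hom
    apply Over.OverMorphism.ext
    refine ext_of_fromSpecResidueField_eq x.left _ I.hom Set.univ dense_univ (fun u _ => ?_)
      ((Over.w x).trans (Over.w (1 : (EtFppf.a S).obj U ⟶ I)).symm)
    have h1 : ∀ y : (EtFppf.a S).obj U ⟶ I,
        ((EtFppf.a S).obj U).left.fromSpecResidueField u ≫ y.left =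
          ((EtFppf.a S).obj U).left.fromSpecResidueField u ≫ ((EtFppf.a S).obj U).hom ≫ ε := by
      intro y
      have hy := Scheme.descResidueField_stalkClosedPointTo_fromSpecResidueField _ I.left
        (((EtFppf.a S).obj U).left.fromSpecResidueField u ≫ y.left)
      refine (?_ : _ = (((EtFppf.a S).obj U).left.fromSpecResidueField u ≫ y.left) ≫ I.hom ≫ ε).trans
        ((Category.assoc _ _ _).trans (congrArg _ ((Category.assoc _ _ _).symm.trans (congrArg (· ≫ ε) (Over.w y)))))
      have hgen : ∀ (K : Type u) [Field K] (f : Spec (CommRingCat.of K) ⟶ I.left), f = f ≫ I.hom ≫ ε := by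
        intro K _ f
        have hf := Scheme.descResidueField_stalkClosedPointTo_fromSpecResidueField K I.left f
        conv_rhs => rw [← hf]
        conv_lhs => rw [← hf]
        generalize Scheme.descResidueField (Scheme.stalkClosedPointTo f) = φ
        revert φ
        rw [hsub (f (IsLocalRing.closedPoint K))]
        intro φ
        rw [Category.assoc, hfix]
      exact hgen _ _
    rw [h1 x, h1 1]
  refine (IsZero.iff_id_eq_zero _).2 ?_
  suffices h : IsZero ((BigSite.resEt Scheme.fppfPrecoverage S).obj (CGrpSh.pts Scheme.fppfPrecoverage I)).obj from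
    Sheaf.hom_ext (h.eq_of_src _ _)
  refine (Functor.isZero_iff _).2 fun U => @AddCommGrpCat.isZero_of_subsingleton _ ⟨fun a b => ?_⟩
  exact ULift.ext _ _ (congrArg Additive.ofMul ((hkey U.unop a.down.toMul).trans (hkey U.unop b.down.toMul).symm))

end Groth.Agent.S13951
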