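import Groth.Statements.S13953
import Mathlib.RingTheory.Spectrum.Prime.Topology
import Mathlib.RingTheory.LocalRing.Basic

set_option autoImplicit false
universe u
open TateLoc

namespace Groth.Agent.S13953

/-- Let (R_i) be a family of local commutative rings and R = ∏ R_i. Any open cover of Spec R can be
refined by one coming from a finite partition of the index set: there is a map c from the index set
to a finite set such that, for each value m, the basic open subset of Spec R defined by the
idempotent which is 1 at the indices with c i = m and 0 elsewhere (this open is the spectrum of the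
product of the R_i over that class) is contained in some member of the cover. -/
theorem result {ι : Type u} (R : ι → Type u)
    [∀ i, CommRing (R i)] [∀ i, IsLocalRing (R i)] {J : Type u}
    (U : J → TopologicalSpace.Opens (PrimeSpectrum (∀ i, R i))) (hU : ⨆ j, U j = ⊤) :
    ∃ (n : ℕ) (c : ι → Fin n), ∀ m : Fin n, ∃ j : J,
      PrimeSpectrum.basicOpen (fun i => if c i = m then (1 : R i) else 0) ≤ U j := by
  classical
  let A := ∀ i, R i
  have hx : ∀ x : PrimeSpectrum A, ∃ a : A, x ∈ PrimeSpectrum.basicOpen a ∧ ∃ j, PrimeSpectrum.basicOpen a ≤ U j := by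
    intro x
    obtain ⟨j, hj⟩ := TopologicalSpace.Opens.mem_iSup.mp (hU.ge (Set.mem_univ x))
    obtain ⟨_, ⟨a, rfl⟩, hxa, hle⟩ := PrimeSpectrum.isTopologicalBasis_basic_opens.exists_subset_of_mem_open hj (U j).isOpen
    exact ⟨a, hxa, j, hle⟩
  choose a hxa j hj using hx
  obtain ⟨t, ht⟩ := isCompact_univ.elim_finite_subcover (fun x => (PrimeSpectrum.basicOpen (a x) : Set (PrimeSpectrum A)))
    (fun x => (PrimeSpectrum.basicOpen (a x)).isOpen) fun x _ => Set.mem_iUnion.mpr ⟨x, hxa x⟩
  have hspan : Ideal.span (a '' (t : Set (PrimeSpectrum A))) = ⊤ := by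
    by_contra hne
    obtain ⟨m, hm, hle⟩ := Ideal.exists_le_maximal _ hne
    obtain ⟨x, hx, hmem⟩ := Set.mem_iUnion₂.mp (ht (Set.mem_univ ⟨m, hm.isPrime⟩))
    exact hmem (hle (Ideal.subset_span ⟨x, hx, rfl⟩))
  have hunit : ∀ i, ∃ x : t, IsUnit (a x.1 i) := by
    intro i
    by_contra hc
    push Not at hc
    have : Ideal.span (a '' (t : Set (PrimeSpectrum A))) ≤ (IsLocalRing.maximalIdeal (R i)).comap (Pi.evalRingHom R i) := by
      rw [Ideal.span_le]
      rintro _ ⟨x, hx, rfl⟩
      exact hc ⟨x, hx⟩
    rw [hspan, top_le_iff] at this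
    exact Ideal.IsPrime.ne_top (Ideal.IsPrime.comap (Pi.evalRingHom R i)) this
  choose x hx using hunit
  refine ⟨Fintype.card t, fun i => Fintype.equivFin t (x i), fun m => ⟨j ((Fintype.equivFin t).symm m).1, le_trans ?_ (hj _)⟩⟩
  set y := (Fintype.equivFin t).symm m with hy
  have hb : (fun i => if Fintype.equivFin t (x i) = m then (1 : R i) else 0) =
      a y.1 * fun i => if Fintype.equivFin t (x i) = m then Ring.inverse (a y.1 i) else 0 := by
    funext i
    rw [Pi.mul_apply]
    split_ifs with h
    · have : x i = y := by rw [hy, ← h, Equiv.symm_apply_apply]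
      exact (Ring.mul_inverse_cancel _ (this ▸ hx i)).symm
    · rw [mul_zero]
  rw [hb]
  exact PrimeSpectrum.basicOpen_mul_le_left _ _

end Groth.Agent.S13953
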