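import Groth.Statements.S13958
import Mathlib.GroupTheory.FiniteAbelian.Basic
import Mathlib.GroupTheory.ResiduallyFinite
-- import your own Groth.Agent.* helpers here

set_option autoImplicit false
universe u
open TateLoc

namespace Groth.Agent.S13958

open CategoryTheory in
/-- Let A' be a finitely generated abelian group (written multiplicatively, discrete) and A a subgroup.
If the image of x ∈ A' in the profinite completion of A' lies in the image of the profinite
completion of A under the map induced by the inclusion, then x ∈ A. (The published statement says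
that the square formed by the two completion maps and the two inclusions is Cartesian; given the
injectivity of the induced map on completions, which holds here, that amounts to this membership
criterion.) -/
theorem result (A' : Type u) [CommGroup A'] [Group.FG A']
    (A : Subgroup A') (x : A')
    (hx : ProfiniteGrp.ProfiniteCompletion.etaFn (GrpCat.of A') x ∈
      Set.range ⇑(ProfiniteGrp.profiniteCompletion.map (GrpCat.ofHom A.subtype)).hom) :
    x ∈ A := by
  classical
  by_contra hxA
  obtain ⟨ι, J, _, _, p, hp, e, ⟨φ⟩⟩ := CommGroup.equiv_free_prod_prod_multiplicative_zmod (A' ⧸ A)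
  have hx1 : φ (QuotientGroup.mk' A x) ≠ 1 := fun h => hxA ((QuotientGroup.eq_one_iff x).1 ((map_eq_one_iff φ φ.injective).1 h))
  haveI : ∀ i, NeZero (p i ^ e i) := fun i => ⟨pow_ne_zero _ (hp i).ne_zero⟩
  obtain ⟨Q, _, _, ψ, hψ⟩ : ∃ (Q : Type) (_ : Group Q) (_ : Finite Q) (ψ : (J → Multiplicative ℤ) × ((i : ι) → Multiplicative (ZMod (p i ^ e i))) →* Q),
      ψ (φ (QuotientGroup.mk' A x)) ≠ 1 := by
    set y := φ (QuotientGroup.mk' A x) with hy
    by_cases h2 : y.2 = 1
    · obtain ⟨j, hj⟩ : ∃ j, y.1 j ≠ 1 := by
        by_contra hc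
        push Not at hc
        exact hx1 (Prod.ext (funext hc) h2)
      let z : ℤ := Multiplicative.toAdd (y.1 j)
      refine ⟨Multiplicative (ZMod (z.natAbs + 1)), inferInstance, inferInstance,
        (AddMonoidHom.toMultiplicative (Int.castAddHom (ZMod (z.natAbs + 1)))).comp
          ((Pi.evalMonoidHom _ j).comp (MonoidHom.fst _ _)), fun h => hj ?_⟩
      have h' : ((z : ℤ) : ZMod (z.natAbs + 1)) = 0 := congrArg Multiplicative.toAdd h
      rw [ZMod.intCast_zmod_eq_zero_iff_dvd] at h'
      have : z = 0 := by
        by_contra hz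
        have := Int.natAbs_le_of_dvd_ne_zero h' hz
        simp only [Int.natAbs_natCast] at this
        omega
      exact congrArg Multiplicative.ofAdd this
    · exact ⟨_, inferInstance, inferInstance, MonoidHom.snd _ _, h2⟩
  let χ : A' →* Q := ψ.comp (φ.toMonoidHom.comp (QuotientGroup.mk' A))
  haveI : χ.ker.FiniteIndex := Subgroup.finiteIndex_ker χ
  let N : FiniteIndexNormalSubgroup (GrpCat.of A') := FiniteIndexNormalSubgroup.ofSubgroup χ.ker
  obtain ⟨z, hz⟩ := hx
  let pr : ProfiniteGrp.ProfiniteCompletion.completion (GrpCat.of A') →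
      (ProfiniteGrp.ProfiniteCompletion.diagram (GrpCat.of A')).obj N := fun w => w.1 N
  let m := ProfiniteGrp.profiniteCompletion.map (GrpCat.ofHom A.subtype)
  have hcont : Continuous fun w => pr (m.hom w) :=
    ((continuous_apply N).comp continuous_subtype_val).comp m.hom.continuous_toFun
  have hone : (fun w => pr (m.hom w)) = fun _ => 1 := by
    refine (ProfiniteGrp.ProfiniteCompletion.denseRange (GrpCat.of A)).equalizer hcont continuous_const (funext fun a => ?_)
    show pr (m.hom (ProfiniteGrp.ProfiniteCompletion.etaFn _ a)) = 1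
    have h := ConcreteCategory.congr_hom
      (ProfiniteGrp.ProfiniteCompletion.lift_eta (GrpCat.ofHom A.subtype ≫ ProfiniteGrp.ProfiniteCompletion.eta _)) a
    refine (congrArg pr h).trans ((QuotientGroup.eq_one_iff _).2 ?_)
    show χ (a : A') = 1
    show ψ (φ (QuotientGroup.mk' A (a : A'))) = 1
    rw [show QuotientGroup.mk' A (a : A') = 1 from (QuotientGroup.eq_one_iff _).2 a.2, map_one, map_one]
  have h1 : pr (m.hom z) = 1 := congrFun hone z
  rw [show m.hom z = _ from hz] at h1
  exact hψ ((QuotientGroup.eq_one_iff x).1 h1)

end Groth.Agent.S13958
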