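import Groth.Statements.S13959
import Mathlib.AlgebraicGeometry.Morphisms.Finite
import Mathlib.RingTheory.TensorProduct.Basic
import Mathlib.RingTheory.Flat.Basic
-- import your own Groth.Agent.* helpers here

set_option autoImplicit false
universe u
open TateLoc

namespace Groth.Agent.S13959

open CategoryTheory AlgebraicGeometry in
/-- Let k be a field, L an extension field of k which is separable over k in the sense that L ⊗_k L is
reduced (not necessarily algebraic), and I an infinitesimal k-group scheme (finite over k with
one-point underlying space). If a k-scheme E with an action of I is an fppf torsor under I and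
acquires a point over L, then E already has a k-point. (The published statement is the injectivity
of H^1(k, I) → H^1(L, I); this row is its torsor form.) -/
theorem result (k : Type u) [Field k] (L : Type u) [Field L] [Algebra k L]
    [IsReduced (TensorProduct k L L)]
    (I E : Over (Spec (CommRingCat.of k))) [GrpObj I] [IsFinite I.hom] [Subsingleton ↥(I.left)]
    (a : AlgGrp.Action I E) (hE : NonAbH1.IsTorsorFor Scheme.fppfPrecoverage a)
    (hL : NonAbH1.HasSectionOver E (Spec.map (CommRingCat.ofHom (algebraMap k L)))) :
    NonAbH1.HasSectionOver E (𝟙 (Spec (CommRingCat.of k))) := by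
  open MonoidalCategory CartesianMonoidalCategory MonObj in
  obtain ⟨hp, -⟩ := hE
  haveI : IsIso (CartesianMonoidalCategory.lift a.act (CartesianMonoidalCategory.snd I E)) := hp
  let ε : Spec (CommRingCat.of k) ⟶ I.left := (MonObj.one : MonoidalCategoryStruct.tensorUnit (Over (Spec (CommRingCat.of k))) ⟶ I).left
  have hε : ε ≫ I.hom = 𝟙 _ := Over.w (MonObj.one : MonoidalCategoryStruct.tensorUnit (Over (Spec (CommRingCat.of k))) ⟶ I)
  have hfix : ∀ s, I.left.fromSpecResidueField (ε s) ≫ I.hom ≫ ε = I.left.fromSpecResidueField (ε s) := by
    intro s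
    have h := Scheme.Hom.SpecMap_residueFieldMap_fromSpecResidueField (f := ε) s
    haveI : IsIso (ε.residueFieldMap s) := by
      rw [ConcreteCategory.isIso_iff_bijective]
      refine ⟨RingHom.injective _, fun a => ?_⟩
      have h1 : (ε ≫ I.hom).residueFieldMap s = I.hom.residueFieldMap (ε s) ≫ ε.residueFieldMap s :=
        Scheme.residueFieldMap_comp _ _ _
      rw [Scheme.Hom.residueFieldMap_congr hε, Scheme.residueFieldMap_id] at h1
      have hs : I.hom (ε s) = s := by rw [← Scheme.Hom.comp_apply, hε]; rfl
      exact ⟨I.hom.residueFieldMap (ε s) (((Spec (CommRingCat.of k)).residueFieldCongr hs).inv a),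
        (ConcreteCategory.congr_hom h1.symm (((Spec (CommRingCat.of k)).residueFieldCongr hs).inv a)).trans
          (Iso.inv_hom_id_apply ((Spec (CommRingCat.of k)).residueFieldCongr hs) a)⟩
    rw [← cancel_epi (Spec.map (ε.residueFieldMap s)), reassoc_of% h, reassoc_of% hε, h]
  have hI : ∀ (Ω : Type u) [Field Ω] (f : Spec (CommRingCat.of Ω) ⟶ I.left), f = f ≫ I.hom ≫ ε := by
    intro Ω _ f
    have hf := Scheme.descResidueField_stalkClosedPointTo_fromSpecResidueField Ω I.left f
    conv_rhs => rw [← hf]
    conv_lhs => rw [← hf]
    generalize Scheme.descResidueField (Scheme.stalkClosedPointTo f) = φ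
    revert φ
    rw [Subsingleton.elim (f (IsLocalRing.closedPoint Ω)) (ε (IsLocalRing.closedPoint k))]
    intro φ
    rw [Category.assoc, hfix]
  -- a field-valued point of E is determined by its base
  have hE' : ∀ (Ω : Type u) [Field Ω] (b : Spec (CommRingCat.of Ω) ⟶ Spec (CommRingCat.of k))
      (e₁ e₂ : Over.mk b ⟶ E), e₁ = e₂ := by
    intro Ω _ b e₁ e₂
    have hg : ∀ g g' : Over.mk b ⟶ I, g = g' := fun g g' => Over.OverMorphism.ext (by
      have h1 := (hI Ω g.left).trans ((Category.assoc _ _ _).symm.trans (congrArg (· ≫ ε) (Over.w g)))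
      have h2 := (hI Ω g'.left).trans ((Category.assoc _ _ _).symm.trans (congrArg (· ≫ ε) (Over.w g')))
      exact h1.trans h2.symm)
    let h := CartesianMonoidalCategory.lift e₁ e₂ ≫ inv (CartesianMonoidalCategory.lift a.act (CartesianMonoidalCategory.snd I E))
    have hh : h ≫ CartesianMonoidalCategory.lift a.act (CartesianMonoidalCategory.snd I E) = CartesianMonoidalCategory.lift e₁ e₂ := by
      show (_ ≫ inv _) ≫ _ = _
      rw [Category.assoc, IsIso.inv_hom_id, Category.comp_id]
    have h1 : h ≫ a.act = e₁ := by
      have := congrArg (· ≫ CartesianMonoidalCategory.fst _ _) hh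
      simpa using this
    have h2 : h ≫ CartesianMonoidalCategory.snd I E = e₂ := by
      have := congrArg (· ≫ CartesianMonoidalCategory.snd _ _) hh
      simpa using this
    have h3 : h = CartesianMonoidalCategory.lift (CartesianMonoidalCategory.toUnit _) e₂ ≫
        MonoidalCategoryStruct.whiskerRight (MonObj.one (X := I)) E := by
      apply CartesianMonoidalCategory.hom_ext
      · exact hg _ _
      · rw [h2]; simp
    rw [← h1, h3, Category.assoc, a.one_act]
    simp
  -- the residue field of the point
  obtain ⟨s, hs⟩ := hL
  let x : E.left := s (IsLocalRing.closedPoint L)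
  let ι₀ : k →+* E.left.residueField x :=
    (Spec.preimage (E.left.fromSpecResidueField x ≫ E.hom)).hom
  letI : Algebra k (E.left.residueField x) := ι₀.toAlgebra
  have hx : E.left.fromSpecResidueField x ≫ E.hom = Spec.map (CommRingCat.ofHom (algebraMap k (E.left.residueField x))) :=
    (Spec.map_preimage _).symm
  let φ := Scheme.descResidueField (Scheme.stalkClosedPointTo s)
  have hφ : Spec.map φ ≫ E.left.fromSpecResidueField x = s :=
    Scheme.descResidueField_stalkClosedPointTo_fromSpecResidueField L E.left s
  let φ' : E.left.residueField x →ₐ[k] L := { φ.hom with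
    commutes' := fun c => by
      have h : Spec.map (CommRingCat.ofHom (algebraMap k L)) =
          Spec.map (CommRingCat.ofHom (algebraMap k (E.left.residueField x)) ≫ φ) := by
        rw [Spec.map_comp, ← hx, reassoc_of% hφ, hs]
      exact (congrArg (fun f => f.hom c) (Spec.map_injective h)).symm }
  have hred : IsReduced (TensorProduct k (E.left.residueField x) (E.left.residueField x)) := by
    refine isReduced_of_injective (Algebra.TensorProduct.map φ' φ') ?_
    exact TensorProduct.map_injective_of_flat_flat φ'.toLinearMap φ'.toLinearMap φ'.injective φ'.injective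
  have heq : ∀ c : E.left.residueField x, (c ⊗ₜ[k] (1 : E.left.residueField x)) = (1 : E.left.residueField x) ⊗ₜ[k] c := by
    intro c
    rw [← sub_eq_zero]
    refine IsNilpotent.eq_zero (mem_nilradical.1 ?_)
    rw [nilradical_eq_sInf]
    refine Ideal.mem_sInf.2 fun {Q} hQ => ?_
    haveI : Q.IsPrime := hQ
    let Ω := FractionRing (TensorProduct k (E.left.residueField x) (E.left.residueField x) ⧸ Q)
    let j : TensorProduct k (E.left.residueField x) (E.left.residueField x) →+* Ω :=
      (algebraMap _ Ω).comp (Ideal.Quotient.mk Q)
    let b : Spec (CommRingCat.of Ω) ⟶ Spec (CommRingCat.of k) :=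
      Spec.map (CommRingCat.ofHom (j.comp (algebraMap k _)))
    let pl := CommRingCat.ofHom (j.comp (Algebra.TensorProduct.includeLeft (R := k) (S := k) (A := E.left.residueField x) (B := E.left.residueField x)).toRingHom)
    let pr := CommRingCat.ofHom (j.comp (Algebra.TensorProduct.includeRight (R := k) (A := E.left.residueField x) (B := E.left.residueField x)).toRingHom)
    let el : Over.mk b ⟶ E := Over.homMk (Spec.map pl ≫ E.left.fromSpecResidueField x) (by
      show _ = b
      rw [Category.assoc, hx, ← Spec.map_comp]
      exact congrArg Spec.map (CommRingCat.hom_ext (RingHom.ext fun c =>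
        congrArg j (AlgHom.commutes (Algebra.TensorProduct.includeLeft (R := k) (S := k) (A := E.left.residueField x) (B := E.left.residueField x)) c))))
    let er : Over.mk b ⟶ E := Over.homMk (Spec.map pr ≫ E.left.fromSpecResidueField x) (by
      show _ = b
      rw [Category.assoc, hx, ← Spec.map_comp]
      exact congrArg Spec.map (CommRingCat.hom_ext (RingHom.ext fun c =>
        congrArg j (AlgHom.commutes (Algebra.TensorProduct.includeRight (R := k) (A := E.left.residueField x) (B := E.left.residueField x)) c))))
    have h := congrArg (fun e : Over.mk b ⟶ E => e.left) (hE' Ω b el er)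
    have h' : pl = pr := Spec.map_injective ((cancel_mono (E.left.fromSpecResidueField x)).1 h)
    have hc : j (c ⊗ₜ 1) = j (1 ⊗ₜ c) := congrArg (fun f => f.hom c) h'
    rw [← Ideal.Quotient.eq_zero_iff_mem, map_sub, sub_eq_zero]
    exact IsFractionRing.injective _ Ω hc
  have hsurj : Function.Surjective ι₀ := by
    intro c
    obtain ⟨f, hf⟩ := LinearMap.exists_leftInverse_of_injective (Algebra.linearMap k (E.left.residueField x))
      (LinearMap.ker_eq_bot.2 ι₀.injective)
    refine ⟨f c, ?_⟩
    have h1 : f 1 = (1 : k) := by
      have := DFunLike.congr_fun hf (1 : k)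
      simpa using this
    have := congrArg (fun z => TensorProduct.lid k _ (LinearMap.rTensor _ f z)) (heq c)
    simp only [LinearMap.rTensor_tmul, TensorProduct.lid_tmul, h1, one_smul] at this
    rw [Algebra.smul_def, _root_.mul_one] at this
    exact this
  haveI : IsIso (CommRingCat.ofHom ι₀) := by
    rw [ConcreteCategory.isIso_iff_bijective]
    exact ⟨ι₀.injective, hsurj⟩
  exact ⟨Spec.map (inv (CommRingCat.ofHom ι₀)) ≫ E.left.fromSpecResidueField x, by
    rw [Category.assoc, hx]
    show Spec.map _ ≫ Spec.map (CommRingCat.ofHom ι₀) = _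
    rw [← Spec.map_comp, IsIso.hom_inv_id, Spec.map_id]⟩

end Groth.Agent.S13959
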