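import Groth.Statements.S1396
import Groth.Agent.FlatMor66.IndQA2

set_option autoImplicit false
universe u
open FlatMor

namespace Groth.Agent.S1396
open Groth.Agent.FlatMor66

open AlgebraicGeometry CategoryTheory Limits in
/-- (1) ⇔ (4): a morphism f : X → Y is ind-quasi-affine (the preimage of every affine open is a scheme
all of whose quasi-compact opens are quasi-affine) if and only if for every quasi-compact
quasi-separated open V of Y and every quasi-compact open U of the preimage of V, the induced
morphism U → V is quasi-affine (quasi-compact with quasi-affine preimages of affine opens). -/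
theorem result {X Y : Scheme.{u}} (f : X ⟶ Y) :
    MoreMor.IsIndQuasiAffineHom f ↔ ∀ (V : Y.Opens), IsCompact (V : Set ↑Y) → IsQuasiSeparated (V : Set ↑Y) →
      ∀ (U : X.Opens) (hUV : U ≤ f ⁻¹ᵁ V), IsCompact (U : Set ↑X) → MoreMor.IsQuasiAffineHom (f.resLE V U hUV) := by
  refine ⟨fun h V hV hV' U hUV hU => ?_, fun h => ?_⟩
  · rw [isIndQuasiAffineHom_iff] at h
    have := compactSpace_toScheme hU
    have : QuasiSeparatedSpace V.toScheme := (isQuasiSeparated_iff_quasiSeparatedSpace _ V.isOpen).mp hV'
    have hq : QuasiCompact (f.resLE V U hUV) := inferInstance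
    refine ⟨hq, fun A hA => ?_⟩
    rw [qa_image_ι_iff]
    have h1 := (hq.isCompact_preimage (A : Set V.toScheme) A.isOpen hA.isCompact)
    refine h (V.ι ''ᵁ A) (hA.image_of_isOpenImmersion _) _ ?_ (isCompact_image_ι _ _ h1)
    rintro _ ⟨x, hx, rfl⟩
    refine ⟨f.resLE V U hUV x, hx, ?_⟩
    simp [← Scheme.Hom.comp_apply, -Scheme.Hom.comp_base]
    rfl
  · rw [isIndQuasiAffineHom_iff]
    intro V hV W hWV hW
    obtain ⟨-, h1⟩ := h V hV.isCompact hV.isQuasiSeparated W hWV hW
    have : IsAffine V.toScheme := hV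
    have h2 := h1 ⊤ (isAffineOpen_top _)
    rw [qa_image_ι_iff] at h2
    have e : W.ι ''ᵁ (f.resLE V W hWV ⁻¹ᵁ ⊤) = W := W.ι_image_top
    rwa [e] at h2

end Groth.Agent.S1396
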