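import Groth.Statements.S13963
import Mathlib.Topology.Algebra.Group.OpenMapping
import Mathlib.Topology.Compactness.SigmaCompact
import Mathlib.Topology.Baire.LocallyCompactRegular
import Mathlib.Topology.Algebra.Group.Pointwise

set_option autoImplicit false
universe u
open TateLoc

namespace Groth.Agent.S13963

/-- Let A' → A → A'' be continuous homomorphisms of locally compact, second-countable, Hausdorff abelian
topological groups which form a short exact sequence of abstract groups (the first injective, the
second surjective, image equal to kernel). If A' and A'' are compact, then A is compact. -/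
theorem result (A' A A'' : Type u)
    [AddCommGroup A'] [TopologicalSpace A'] [IsTopologicalAddGroup A'] [SecondCountableTopology A'] [T2Space A']
    [CompactSpace A']
    [AddCommGroup A] [TopologicalSpace A] [IsTopologicalAddGroup A] [LocallyCompactSpace A]
    [SecondCountableTopology A] [T2Space A]
    [AddCommGroup A''] [TopologicalSpace A''] [IsTopologicalAddGroup A''] [SecondCountableTopology A''] [T2Space A'']
    [CompactSpace A'']
    (f : A' →+ A) (g : A →+ A'') (hf : Continuous f) (hg : Continuous g)
    (hinj : Function.Injective f) (hsurj : Function.Surjective g) (hex : g.ker = f.range) :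
    CompactSpace A := by
  have hopen : IsOpenMap g := AddMonoidHom.isOpenMap_of_sigmaCompact g hsurj hg
  choose K hKc hKn using fun a : A => exists_compact_mem_nhds a
  have hnhds : ∀ a : A, g '' (K a) ∈ nhds (g a) := fun a => hopen.image_mem_nhds (hKn a)
  choose pre hpre using hsurj
  obtain ⟨t, -, ht⟩ := isCompact_univ.elim_nhds_subcover (fun c : A'' => g '' (K (pre c))) fun c _ => by
    have h1 := hnhds (pre c)
    rwa [hpre] at h1
  let S : Set A := ⋃ c ∈ t, K (pre c)
  have hS : IsCompact S := t.isCompact_biUnion fun c _ => hKc _
  refine ⟨?_⟩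
  have hcomp : IsCompact ((fun q : A × A' => q.1 + f q.2) '' (S ×ˢ (Set.univ : Set A'))) :=
    (hS.prod isCompact_univ).image (continuous_fst.add (hf.comp continuous_snd))
  convert hcomp
  refine (Set.eq_univ_of_forall fun a => ?_).symm
  obtain ⟨c, hc, s, hs, hgs⟩ := Set.mem_iUnion₂.mp (ht (Set.mem_univ (g a)))
  have : a - s ∈ f.range := by
    rw [← hex, AddMonoidHom.mem_ker, map_sub, hgs, sub_self]
  obtain ⟨a', ha'⟩ := this
  exact ⟨(s, a'), ⟨Set.mem_iUnion₂.mpr ⟨c, hc, hs⟩, Set.mem_univ _⟩, by simp [ha']⟩

end Groth.Agent.S13963
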