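import Groth.Statements.S1397
import Groth.Agent.FlatMor66.IndQA2

set_option autoImplicit false
universe u
open FlatMor

namespace Groth.Agent.S1397
open Groth.Agent.FlatMor66

open AlgebraicGeometry CategoryTheory Limits in
/-- Ind-quasi-affine morphisms are stable under composition. -/
theorem result {X Y Z : Scheme.{u}} (f : X ⟶ Y) (g : Y ⟶ Z) (hf : MoreMor.IsIndQuasiAffineHom f) (hg : MoreMor.IsIndQuasiAffineHom g) :
    MoreMor.IsIndQuasiAffineHom (f ≫ g) := by
  rw [isIndQuasiAffineHom_iff] at *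
  intro V hV W hWV hW
  obtain ⟨W', hW', hfW, hW'V⟩ := exists_compact_opens_between (U := g ⁻¹ᵁ V) (hW.image f.continuous)
    (by rintro _ ⟨x, hx, rfl⟩; exact hWV hx)
  have hq : Scheme.IsQuasiAffine W'.toScheme := hg V hV W' hW'V hW'
  have hWW' : W ≤ f ⁻¹ᵁ W' := fun x hx => hfW ⟨x, hx, rfl⟩
  refine qa_opens_of_forall_exists W hW fun x hx => ?_
  obtain ⟨_, ⟨_, ⟨r, hr, rfl⟩, rfl⟩, hxr, -⟩ :=
    (Scheme.IsQuasiAffine.isBasis_basicOpen W'.toScheme).exists_subset_of_mem_open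
      (Set.mem_univ (⟨f x, hWW' hx⟩ : W'.toScheme)) isOpen_univ
  refine ⟨f.appLE W' W hWW' (W'.topIso.hom r), ?_, ?_⟩
  · rw [Scheme.Hom.appLE, CommRingCat.comp_apply, Scheme.basicOpen_res, ← Scheme.preimage_basicOpen]
    refine ⟨hx, ?_⟩
    have e : Y.basicOpen (W'.topIso.hom r) = W'.ι ''ᵁ W'.toScheme.basicOpen r := by
      rw [Scheme.image_basicOpen, W'.ι_appIso]
      change Y.basicOpen (Y.presheaf.map (eqToHom W'.ι_image_top.symm).op r) = Y.basicOpen r
      exact Scheme.basicOpen_res_eq _ _ _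
    show f x ∈ Y.basicOpen (W'.topIso.hom r)
    rw [e]
    exact ⟨_, hxr, rfl⟩
  · refine hf (W'.ι ''ᵁ W'.toScheme.basicOpen r) (hr.image_of_isOpenImmersion _) _ ?_ (isCompact_basicOpen X hW _)
    have e : Y.basicOpen (W'.topIso.hom r) = W'.ι ''ᵁ W'.toScheme.basicOpen r := by
      rw [Scheme.image_basicOpen, W'.ι_appIso]
      change Y.basicOpen (Y.presheaf.map (eqToHom W'.ι_image_top.symm).op r) = Y.basicOpen r
      exact Scheme.basicOpen_res_eq _ _ _
    rw [Scheme.Hom.appLE, CommRingCat.comp_apply, Scheme.basicOpen_res, ← Scheme.preimage_basicOpen, e]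
    exact inf_le_right

end Groth.Agent.S1397
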