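import Groth.Statements.S13972
import Groth.Agent.Gor18.KRFlat
import Groth.Agent.Gor18.LCI
import Groth.Agent.LCI19.FlatSeq
import Groth.Agent.LCI19.FVascGlobal
import Groth.Agent.RelGCI94.Koszul

set_option autoImplicit false
universe u
open LCI TensorProduct

namespace Groth.Agent.S13972

/-- localising a surjection of rings at a prime containing its kernel -/
theorem exists_local_surjection {P E : Type u} [CommRing P] [CommRing E] (π : P →+* E) (hπ : Function.Surjective π)
    (q : Ideal P) [q.IsPrime] (hq : RingHom.ker π ≤ q) :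
    ∃ (p : Ideal E) (_ : p.IsPrime) (ψ : Localization.AtPrime q →+* Localization.AtPrime p),
      Function.Surjective ψ ∧ RingHom.ker ψ = (RingHom.ker π).map (algebraMap P (Localization.AtPrime q)) ∧
      (∀ x, ψ (algebraMap P _ x) = algebraMap E _ (π x)) ∧ q = p.comap π := by
  have hp : (q.map π).IsPrime := Ideal.map_isPrime_of_surjective hπ hq
  have hqp : q = (q.map π).comap π := by rw [Ideal.comap_map_of_surjective' π hπ, sup_eq_left.2 hq]
  let ψ := Localization.localRingHom q (q.map π) π hqp
  have hto : ∀ x, ψ (algebraMap P _ x) = algebraMap E _ (π x) := Localization.localRingHom_to_map _ _ _ hqp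
  have hmem : ∀ t, t ∉ q ↔ π t ∉ q.map π := fun t => not_congr (by
    conv_lhs => rw [hqp]
    rfl)
  refine ⟨q.map π, hp, ψ, fun y => ?_, le_antisymm (fun x hx => ?_) ?_, hto, hqp⟩
  · obtain ⟨a, ⟨t, ht⟩, rfl⟩ := IsLocalization.exists_mk'_eq (q.map π).primeCompl y
    obtain ⟨a, rfl⟩ := hπ a
    obtain ⟨t, rfl⟩ := hπ t
    exact ⟨IsLocalization.mk' _ a (⟨t, (hmem t).2 ht⟩ : q.primeCompl),
      Localization.localRingHom_mk' q _ π hqp a _⟩
  · obtain ⟨⟨a, u⟩, hau⟩ := IsLocalization.surj q.primeCompl x
    rw [← Ideal.unit_mul_mem_iff_mem _ (IsLocalization.map_units _ u), mul_comm, hau,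
      IsLocalization.algebraMap_mem_map_algebraMap_iff q.primeCompl]
    have h1 := congrArg ψ hau
    rw [map_mul, RingHom.mem_ker.1 hx, zero_mul, hto a] at h1
    obtain ⟨⟨t, ht⟩, htm⟩ := (IsLocalization.map_eq_zero_iff (q.map π).primeCompl _ _).1 h1.symm
    obtain ⟨t, rfl⟩ := hπ t
    exact ⟨t, (hmem t).2 ht, by rw [RingHom.mem_ker, map_mul]; exact htm⟩
  · rw [Ideal.map_le_iff_le_comap]
    intro x hx
    rw [Ideal.mem_comap, RingHom.mem_ker, hto, RingHom.mem_ker.1 hx, map_zero]

/-- Let A' be an Artinian local ring, I a proper ideal of A', A = A'/I, R' a Noetherian A'-algebra flat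
over A' and R = R'/IR'. Let f₁, …, f_r ∈ R be a Koszul-regular sequence (its Koszul complex is
acyclic in nonzero degrees) such that R/(f₁, …, f_r) is flat over A. Then: (1) for every choice of
lifts f'₁, …, f'_r ∈ R' of the f_i, the quotient R'/(f'₁, …, f'_r) is flat over A' and f'₁, …, f'_r
is a Koszul-regular sequence in R'; (2) if J' ⊆ R' is an ideal with R'/J' flat over A' whose image
in R is the ideal (f₁, …, f_r), then J' is generated by any lifts f'₁, …, f'_r ∈ J' of the f_i. (The
published statement takes R' = R₀ ⊗_Λ A' for a flat Λ-algebra R₀ and a surjection A' → A of Artinian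
local Λ-algebras; this row assumes only that R' is Noetherian and flat over A' and that I is a
proper ideal, which is what its proof uses. Regularity of a sequence is taken there in every
localization at a prime containing the ideal it generates, which over a Noetherian ring is the
Koszul-acyclicity used in the proof and stated here.) -/
theorem result
    {A' : Type u} [CommRing A'] [IsLocalRing A'] [IsArtinianRing A'] (I : Ideal A') (hI : I ≠ ⊤)
    {R' : Type u} [CommRing R'] [Algebra A' R'] [IsNoetherianRing R'] [Module.Flat A' R']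
    (r : ℕ) (f : Fin r → R' ⧸ I.map (algebraMap A' R'))
    (hf : LCI.IsKoszulRegularSeq (R' ⧸ I.map (algebraMap A' R')) (List.ofFn f))
    [Module.Flat (A' ⧸ I) ((R' ⧸ I.map (algebraMap A' R')) ⧸ Ideal.span (Set.range f))] :
    (∀ f' : Fin r → R', (∀ i, Ideal.Quotient.mk (I.map (algebraMap A' R')) (f' i) = f i) →
        Module.Flat A' (R' ⧸ Ideal.span (Set.range f')) ∧ LCI.IsKoszulRegularSeq R' (List.ofFn f')) ∧
    (∀ (J' : Ideal R'), Module.Flat A' (R' ⧸ J') →
        J'.map (Ideal.Quotient.mk (I.map (algebraMap A' R'))) = Ideal.span (Set.range f) →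
        ∀ f' : Fin r → R', (∀ i, f' i ∈ J') →
          (∀ i, Ideal.Quotient.mk (I.map (algebraMap A' R')) (f' i) = f i) →
          J' = Ideal.span (Set.range f')) := by
  classical
  let R := R' ⧸ I.map (algebraMap A' R')
  let mk : R' →+* R := Ideal.Quotient.mk (I.map (algebraMap A' R'))
  have hnil : IsNilpotent I := by
    obtain ⟨N, hN⟩ := IsArtinianRing.isNilpotent_jacobson_bot (R := A')
    refine ⟨N, le_bot_iff.1 ?_⟩
    calc I ^ N ≤ (Ideal.jacobson (⊥ : Ideal A')) ^ N :=
          Ideal.pow_right_mono ((IsLocalRing.le_maximalIdeal hI).trans (IsLocalRing.maximalIdeal_le_jacobson ⊥)) N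
      _ = ⊥ := hN
  have hRflat : Module.Flat (A' ⧸ I) R := by
    let e : R ≃ₗ[A'] (A' ⧸ I) ⊗[A'] R' :=
      ((Algebra.TensorProduct.quotIdealMapEquivTensorQuot R' I).toLinearEquiv.restrictScalars A').trans
        (TensorProduct.comm A' R' (A' ⧸ I))
    have hsm : ∀ (c : A' ⧸ I) (x : R), e (c • x) = c • e x := fun c x => by
      obtain ⟨c, rfl⟩ := Ideal.Quotient.mk_surjective c
      rw [← Ideal.Quotient.algebraMap_eq, algebraMap_smul, algebraMap_smul, map_smul]
    let e' : R ≃ₗ[A' ⧸ I] (A' ⧸ I) ⊗[A'] R' := AddEquiv.toLinearEquiv e.toAddEquiv hsm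
    exact Module.Flat.of_linearEquiv e'
  let 𝔪 := IsLocalRing.maximalIdeal A'
  let 𝔫 : Ideal (A' ⧸ I) := 𝔪.map (Ideal.Quotient.mk I)
  let E := R ⧸ 𝔫.map (algebraMap (A' ⧸ I) R)
  have hfR : Koszul19.KR (List.ofFn f) := (Koszul19.kR_iff _).2 hf
  have hRf : Module.Flat (A' ⧸ I) (R ⧸ Ideal.ofList (List.ofFn f)) := by
    have e : Ideal.ofList (List.ofFn f) = Ideal.span (Set.range f) := by
      show Ideal.span {x | x ∈ List.ofFn f} = _
      simp only [List.mem_ofFn]
      rfl
    rw [e]; infer_instance
  have hE : Koszul19.KR ((List.ofFn f).map (algebraMap R E)) :=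
    Gor18.kR_map_of_flat_quotient (A := A' ⧸ I) _ hfR ((A' ⧸ I) ⧸ 𝔫) E
      (Algebra.TensorProduct.quotIdealMapEquivTensorQuot R 𝔫).toLinearEquiv
  let π : R' →+* E := (algebraMap R E).comp mk
  have hπ : Function.Surjective π := Ideal.Quotient.mk_surjective.comp Ideal.Quotient.mk_surjective
  have hπker : RingHom.ker π = 𝔪.map (algebraMap A' R') := by
    have e : 𝔫.map (algebraMap (A' ⧸ I) R) = (𝔪.map (algebraMap A' R')).map mk := by
      rw [Ideal.map_map, Ideal.map_map]
      congr 1
    show RingHom.ker ((Ideal.Quotient.mk (𝔫.map (algebraMap (A' ⧸ I) R))).comp mk) = _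
    rw [← RingHom.comap_ker, Ideal.mk_ker, e, Ideal.comap_map_of_surjective' mk Ideal.Quotient.mk_surjective,
      Ideal.mk_ker, sup_eq_left]
    exact Ideal.map_mono (IsLocalRing.le_maximalIdeal hI)
  have main : ∀ f' : Fin r → R', (∀ i, mk (f' i) = f i) →
      Module.Flat A' (R' ⧸ Ideal.span (Set.range f')) ∧ LCI.IsKoszulRegularSeq R' (List.ofFn f') := by
    intro f' hf'
    let K := Ideal.span (Set.range f')
    have hloc : ∀ (Q : Ideal R') [Q.IsPrime], K ≤ Q →
        Module.Flat A' (Localization.AtPrime Q ⧸ K.map (algebraMap R' (Localization.AtPrime Q))) ∧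
        Koszul19.KR ((List.ofFn f').map (algebraMap R' (Localization.AtPrime Q))) := by
      intro Q _ hKQ
      let L := Localization.AtPrime Q
      let g : Fin r → L := fun i => algebraMap R' L (f' i)
      have hmQ : 𝔪.map (algebraMap A' R') ≤ Q := by
        rw [Ideal.map_le_iff_le_comap]
        have hp : (Q.comap (algebraMap A' R')).IsPrime := Ideal.IsPrime.comap _
        exact (IsLocalRing.eq_maximalIdeal (IsArtinianRing.isMaximal_of_isPrime _)).ge
      obtain ⟨p, hp, ψ, hψ, hψker, hψto, hQp⟩ := exists_local_surjection π hπ Q (hπker ▸ hmQ)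
      have : IsNoetherianRing E := isNoetherianRing_of_surjective R' E π hπ
      let F := Localization.AtPrime p
      have hgF : ((List.ofFn f).map (algebraMap R E)).map (algebraMap E F) = List.ofFn (fun i : Fin r => ψ (g i)) := by
        rw [List.map_ofFn, List.map_ofFn]
        congr 1
        funext i
        show algebraMap E F (algebraMap R E (f i)) = ψ (algebraMap R' L (f' i))
        rw [hψto, ← hf']
        rfl
      have hKRF : Koszul19.KR (List.ofFn fun i => ψ (g i)) := hgF ▸ hE.map
      have hwF : RingTheory.Sequence.IsWeaklyRegular F (List.ofFn fun i => ψ (g i)) := by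
        have h := Gor18.isWeaklyRegular_reverse_of_kR (l := (List.ofFn fun i => ψ (g i)).reverse) (fun x hx => ?_)
          (Koszul19.KR.perm (List.reverse_perm _).symm hKRF)
        · rwa [List.reverse_reverse] at h
        · rw [List.mem_reverse, List.mem_ofFn] at hx
          obtain ⟨i, rfl⟩ := hx
          refine IsLocalRing.maximalIdeal_le_jacobson ⊥ ?_
          show ψ (algebraMap R' L (f' i)) ∈ _
          rw [hψto, IsLocalization.AtPrime.to_map_mem_maximal_iff F p, ← Ideal.mem_comap, ← hQp]
          exact hKQ (Ideal.subset_span ⟨i, rfl⟩)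
      have hker : RingHom.ker ψ = 𝔪.map (algebraMap A' L) := by
        rw [hψker, hπker, Ideal.map_map, ← IsScalarTower.algebraMap_eq]
      have hcond : ∀ (i : Fin r) (z : L), g i * z ∈ Ideal.span (g '' Set.Iio i) ⊔ 𝔪.map (algebraMap A' L) →
          z ∈ Ideal.span (g '' Set.Iio i) ⊔ 𝔪.map (algebraMap A' L) := by
        intro i z hz
        rw [← hker, ← Ideal.comap_map_of_surjective' ψ hψ, Ideal.mem_comap, Ideal.map_span, ← Set.image_comp]
          at hz ⊢
        rw [map_mul] at hz
        exact (LCI19.isWeaklyRegular_ofFn_iff _).1 hwF i (ψ z) hz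
      have hm : 𝔪.map (algebraMap A' L) ≤ IsLocalRing.maximalIdeal L := by
        rw [IsScalarTower.algebraMap_eq A' R' L, ← Ideal.map_map, ← Localization.AtPrime.map_eq_maximalIdeal]
        exact Ideal.map_mono hmQ
      have hflatL : Module.Flat A' L := Module.Flat.trans A' R' L
      have hfin := LCI19.flat_quotient_of_fibre hm g hcond
      refine ⟨?_, ?_⟩
      · have e : K.map (algebraMap R' L) = Ideal.span (Set.range g) := by
          rw [Ideal.map_span, ← Set.range_comp]
          rfl
        rw [e]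
        cases r with
        | zero =>
          rw [Set.range_eq_empty, Ideal.span_empty]
          exact Module.Flat.of_linearEquiv ((Submodule.quotEquivOfEqBot _ rfl).restrictScalars A')
        | succ r =>
          have h := (hfin (Fin.last r)).2
          rwa [show Set.Iic (Fin.last r) = Set.univ from Set.eq_univ_of_forall Fin.le_last, Set.image_univ] at h
      · rw [List.map_ofFn]
        exact Koszul19.kR_of_isWeaklyRegular _ ((LCI19.isWeaklyRegular_ofFn_iff g).2 fun i => (hfin i).1)
    refine ⟨?_, (Koszul19.kR_iff _).1 (RelGCI94.kR_of_forall_maximal _ fun Q _ => ?_)⟩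
    · let φ : ∀ (Q : Ideal R') [Q.IsMaximal], (R' ⧸ K) →ₗ[R']
          (Localization.AtPrime Q ⧸ K.map (algebraMap R' (Localization.AtPrime Q))) := fun Q _ =>
        Submodule.liftQ K ((Ideal.Quotient.mkₐ R' (K.map (algebraMap R' (Localization.AtPrime Q)))).toLinearMap ∘ₗ
          Algebra.linearMap R' (Localization.AtPrime Q)) fun x hx =>
            Ideal.Quotient.eq_zero_iff_mem.2 (Ideal.mem_map_of_mem _ hx)
      have : ∀ (Q : Ideal R') [Q.IsMaximal], IsLocalizedModule.AtPrime Q (φ Q) := fun Q _ => by
        let L := Localization.AtPrime Q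
        refine ⟨fun s => ?_, fun y => ?_, fun {x y} hxy => ?_⟩
        · rw [Module.End.isUnit_iff]
          have hu : IsUnit (algebraMap R' (L ⧸ K.map (algebraMap R' L)) s) :=
            (IsLocalization.map_units L s).map (Ideal.Quotient.mk _)
          obtain ⟨u, hu⟩ := hu
          have hsmul : ∀ x : L ⧸ K.map (algebraMap R' L), (s : R') • x = (u : L ⧸ _) * x := fun x => by
            obtain ⟨x, rfl⟩ := Ideal.Quotient.mk_surjective x
            rw [hu]
            show Ideal.Quotient.mk _ ((s : R') • x) = Ideal.Quotient.mk _ (algebraMap R' L s * x)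
            rw [Algebra.smul_def]
          refine ⟨fun a b hab => ?_, fun b => ⟨↑u⁻¹ * b, ?_⟩⟩
          · simp only [Module.algebraMap_end_apply] at hab
            rw [hsmul, hsmul] at hab
            exact u.mul_right_inj.1 hab
          · simp only [Module.algebraMap_end_apply]
            rw [hsmul, Units.mul_inv_cancel_left]
        · obtain ⟨y, rfl⟩ := Ideal.Quotient.mk_surjective y
          obtain ⟨⟨a, s⟩, h⟩ := IsLocalization.surj Q.primeCompl y
          refine ⟨⟨Submodule.Quotient.mk a, s⟩, ?_⟩
          show Ideal.Quotient.mk (K.map (algebraMap R' L)) ((s : R') • y) = Ideal.Quotient.mk _ (algebraMap R' L a)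
          rw [Algebra.smul_def, mul_comm]
          exact congrArg _ h
        · obtain ⟨x, rfl⟩ := Submodule.Quotient.mk_surjective _ x
          obtain ⟨y, rfl⟩ := Submodule.Quotient.mk_surjective _ y
          have h1 : algebraMap R' L (x - y) ∈ K.map (algebraMap R' L) := by
            rw [map_sub]
            exact Ideal.Quotient.eq.1 hxy
          obtain ⟨s, hs, hsK⟩ := (IsLocalization.algebraMap_mem_map_algebraMap_iff Q.primeCompl L K _).1 h1
          refine ⟨⟨s, hs⟩, ?_⟩
          show (s : R') • (Submodule.Quotient.mk x : R' ⧸ K) = (s : R') • Submodule.Quotient.mk y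
          rw [← Submodule.Quotient.mk_smul, ← Submodule.Quotient.mk_smul, Submodule.Quotient.eq,
            ← smul_sub]
          exact hsK
      refine @Module.flat_of_isLocalized_maximal A' R' _ _ _ (R' ⧸ K) _ _ _ _
        (fun Q _ => Localization.AtPrime Q ⧸ K.map (algebraMap R' (Localization.AtPrime Q))) _ _ _ _ φ this
        fun Q _ => ?_
      by_cases hKQ : K ≤ Q
      · exact (hloc Q hKQ).1
      · obtain ⟨x, hxK, hxQ⟩ := SetLike.not_le_iff_exists.1 hKQ
        have : Subsingleton (Localization.AtPrime Q ⧸ K.map (algebraMap R' (Localization.AtPrime Q))) :=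
          Ideal.Quotient.subsingleton_iff.2 (Ideal.eq_top_of_isUnit_mem _ (Ideal.mem_map_of_mem _ hxK)
            (IsLocalization.map_units _ (⟨x, hxQ⟩ : Q.primeCompl)))
        infer_instance
    · by_cases hKQ : K ≤ Q
      · exact (hloc Q hKQ).2
      · obtain ⟨_, ⟨i, rfl⟩, hxQ⟩ := Set.not_subset.1 fun h => hKQ (Ideal.span_le.2 h)
        have hu : Ideal.ofList ((List.ofFn f').map (algebraMap R' (Localization.AtPrime Q))) = ⊤ :=
          Ideal.eq_top_of_isUnit_mem _ (Ideal.subset_span (List.mem_map_of_mem (List.mem_ofFn.2 ⟨i, rfl⟩)))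
            (IsLocalization.map_units _ (⟨f' i, hxQ⟩ : Q.primeCompl))
        exact fun q _ => LCI19.ex_of_mem_unit hu q
  refine ⟨main, fun J' hJ' hJf f' hf'J hf' => ?_⟩
  have hKJ : Ideal.span (Set.range f') ≤ J' := Ideal.span_le.2 (Set.range_subset_iff.2 hf'J)
  refine le_antisymm ?_ hKJ
  have hflat : Module.Flat A' (R' ⧸ J') := hJ'
  have h1 : J' ≤ Ideal.span (Set.range f') ⊔ I.map (algebraMap A' R') * J' := by
    intro x hx
    have h2 : mk x ∈ (Ideal.span (Set.range f')).map mk := by
      rw [Ideal.map_span, ← Set.range_comp, show mk ∘ f' = f from funext hf', ← hJf]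
      exact Ideal.mem_map_of_mem _ hx
    obtain ⟨y, hy, hyx⟩ := (Ideal.mem_map_iff_of_surjective mk Ideal.Quotient.mk_surjective).1 h2
    have h3 : x - y ∈ I.map (algebraMap A' R') := Ideal.Quotient.eq.1 hyx.symm
    let sub : J'.restrictScalars A' →ₗ[A'] R' := (J'.restrictScalars A').subtype
    let q : R' →ₗ[A'] R' ⧸ J' := (Ideal.Quotient.mkₐ A' J').toLinearMap
    have hex : Function.Exact sub q := fun z => by
      show Ideal.Quotient.mk J' z = 0 ↔ _
      rw [Ideal.Quotient.eq_zero_iff_mem]
      exact ⟨fun h => ⟨⟨z, h⟩, rfl⟩, fun ⟨w, e⟩ => e ▸ w.2⟩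
    have hinj := LinearMap.lTensor_injective_of_exact_of_flat q Ideal.Quotient.mk_surjective sub
      (Submodule.injective_subtype _) hex (A' ⧸ I)
    have h4 : (⟨x - y, sub_mem hx (hKJ hy)⟩ : J'.restrictScalars A') ∈ I • (⊤ : Submodule A' (J'.restrictScalars A')) := by
      rw [← FlatCrit65.one_tmul_eq_zero_iff]
      refine hinj ?_
      rw [map_zero, LinearMap.lTensor_tmul, FlatCrit65.one_tmul_eq_zero_iff, Ideal.smul_top_eq_map]
      exact h3
    rw [← add_sub_cancel y x]
    refine add_mem (Submodule.mem_sup_left hy) (Submodule.mem_sup_right ?_)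
    have h5 : ∀ z ∈ I • (⊤ : Submodule A' (J'.restrictScalars A')), (z : R') ∈ I.map (algebraMap A' R') * J' := by
      intro z hz
      refine Submodule.smul_induction_on (p := fun w : J'.restrictScalars A' => (w : R') ∈ I.map (algebraMap A' R') * J')
        hz (fun a ha w _ => ?_) (fun z w hz hw => add_mem hz hw)
      show a • (w : R') ∈ _
      rw [Algebra.smul_def]
      exact Ideal.mul_mem_mul (Ideal.mem_map_of_mem _ ha) w.2
    exact h5 _ h4
  obtain ⟨N, hN⟩ := hnil
  have h6 : ∀ n : ℕ, J' ≤ Ideal.span (Set.range f') ⊔ I.map (algebraMap A' R') ^ n := fun n => by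
    induction n with
    | zero => rw [pow_zero, Ideal.one_eq_top, sup_top_eq]; exact le_top
    | succ n ih =>
      refine h1.trans (sup_le le_sup_left ((Ideal.mul_mono_right ih).trans ?_))
      rw [Ideal.mul_sup, ← pow_succ']
      exact sup_le_sup_right Ideal.mul_le_right _
  have h7 := h6 N
  rwa [← Ideal.map_pow, hN, Submodule.zero_eq_bot, Ideal.map_bot, sup_bot_eq] at h7

end Groth.Agent.S13972
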