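import Groth.Statements.S13978
import Groth.Agent.ArtF85.Basic
import Mathlib.RingTheory.TensorProduct.Free
import Mathlib.LinearAlgebra.FiniteDimensional.Basic

set_option autoImplicit false
universe u v
open CategoryTheory
open scoped TensorProduct
open ArtFun ArtFun.ObsTheory

namespace Groth.Agent.S13978

/-- For obstruction theories of functors in the vector-space form, let k be a field, F a functor on
Artinian local k-algebras with residue field k and (V, ω) an obstruction theory for F — for each
surjection p : C' → C whose kernel J is killed by the maximal ideal and each u ∈ F(C) an obstruction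
ω(p, u) ∈ V ⊗_k J, zero exactly when u lifts, and compatible with replacing C' → C by C'/K → C for
ideals K ≤ J. Let Ω ⊆ V be the subspace spanned by the obstructions along tiny extensions (those p
whose kernel is one-dimensional), transported into V by the isomorphisms V ⊗ J ≅ V coming from
linear isomorphisms J ≅ k. Then for every p and u the obstruction ω(p, u) lies in the image of Ω ⊗_k
J → V ⊗_k J. (The published statement is for deformation categories and obstruction theories
functorial along all morphisms of extensions; this row assumes functoriality along quotients C'/K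
only, which is all its proof uses, and no condition on F.) -/
theorem result {k : Type u} [Field k]
    {F : ArtFun.Art k k ⥤ Type v} {V : Type u} [AddCommGroup V] [Module k V]
    (T : ArtFun.ObsTheory F V) {C' C : ArtFun.Art k k} (p : C' ⟶ C) (hp : ArtFun.Art.IsSemismallExt p)
    (u : F.obj C) :
    T.obs p hp u ∈ LinearMap.range (LinearMap.rTensor (↥(RingHom.ker p.toAlgHom))
      (Submodule.span k {v : V | ∃ (B' B : ArtFun.Art k k) (t : B' ⟶ B) (ht : ArtFun.Art.IsSmallExt t)
          (w : F.obj B) (φ : ↥(RingHom.ker t.toAlgHom) ≃ₗ[k] k),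
          v = TensorProduct.rid k V (LinearMap.lTensor V φ.toLinearMap (T.obs t ht.isSemismallExt w))}).subtype) := by
  classical
  set J := RingHom.ker p.toAlgHom with hJdef
  haveI : Module.Finite k C' := ArtF85.moduleFinite C'
  haveI : Module.Finite k ↥J := Module.Finite.of_injective ((J.restrictScalars k).subtype) Subtype.val_injective
  let b := Module.finBasis k ↥J
  have hexp : ∀ x : V ⊗[k] ↥J,
      x = ∑ i, TensorProduct.rid k V (LinearMap.lTensor V (b.coord i) x) ⊗ₜ[k] b i := by
    intro x
    induction x using TensorProduct.induction_on with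
    | zero => simp
    | tmul v j =>
      simp only [LinearMap.lTensor_tmul, TensorProduct.rid_tmul, TensorProduct.smul_tmul,
        ← TensorProduct.tmul_sum, Module.Basis.coord_apply, b.sum_repr]
    | add x y hx hy =>
      simp only [map_add, TensorProduct.add_tmul, Finset.sum_add_distrib, ← hx, ← hy]
  rw [hexp (T.obs p hp u)]
  refine Submodule.sum_mem _ fun i _ => ?_
  suffices H : TensorProduct.rid k V (LinearMap.lTensor V (b.coord i) (T.obs p hp u)) ∈
      Submodule.span k {v : V | ∃ (B' B : ArtFun.Art k k) (t : B' ⟶ B) (ht : ArtFun.Art.IsSmallExt t)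
          (w : F.obj B) (φ : ↥(RingHom.ker t.toAlgHom) ≃ₗ[k] k),
          v = TensorProduct.rid k V (LinearMap.lTensor V φ.toLinearMap (T.obs t ht.isSemismallExt w))} from
    ⟨(⟨_, H⟩ : Submodule.span k _) ⊗ₜ[k] b i, rfl⟩
  refine Submodule.subset_span ?_
  have hsmul : ∀ (a : C') (c : C'), c ∈ J → a * c = C'.res a • c := by
    intro a c hc
    rw [← sub_eq_zero, Algebra.smul_def, ← sub_mul]
    refine ArtF85.mul_eq_zero_of_isSemismallExt hp ((C'.mem_maximalIdeal_iff _).2 ?_) (RingHom.mem_ker.1 hc)
    rw [map_sub, AlgHom.commutes]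
    exact sub_self _
  let K : Ideal C' :=
    { carrier := {c | ∃ h : c ∈ J, b.coord i ⟨c, h⟩ = 0}
      add_mem' := fun {x y} hx hy => ⟨J.add_mem hx.1 hy.1,
        (map_add (b.coord i) ⟨x, hx.1⟩ ⟨y, hy.1⟩).trans (by rw [hx.2, hy.2, add_zero])⟩
      zero_mem' := ⟨J.zero_mem, map_zero (b.coord i)⟩
      smul_mem' := fun a c hc => ⟨J.mul_mem_left a hc.1, by
        have e : (⟨a * c, J.mul_mem_left a hc.1⟩ : ↥J) = C'.res a • ⟨c, hc.1⟩ := Subtype.ext (hsmul a c hc.1)
        exact (congrArg (b.coord i) e).trans (by rw [map_smul, hc.2, smul_zero])⟩ }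
  have hKJ : K ≤ J := fun c hc => hc.1
  have hKm : K ≤ IsLocalRing.maximalIdeal C' := hKJ.trans (ArtF85.ker_le_maximalIdeal p)
  let t := ArtFun.Art.quotFactor hKm p hKJ
  let kq := (ArtFun.Art.kerToQuot hKm p hKJ).restrictScalars k
  have hkqs : Function.Surjective kq := fun y => by
    obtain ⟨x, hx⟩ := (Ideal.Quotient.mk_surjective : Function.Surjective (Ideal.Quotient.mk K)) y.1
    refine ⟨⟨x, ?_⟩, Subtype.ext hx⟩
    have := RingHom.mem_ker.1 y.2
    rw [← hx] at this
    exact RingHom.mem_ker.2 this
  have hbi : b.coord i (b i) = 1 := by simp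
  have hkq0 : kq (b i) ≠ 0 := fun e => by
    obtain ⟨_, h⟩ := (Ideal.Quotient.eq_zero_iff_mem : Ideal.Quotient.mk K ((b i : ↥J) : C') = 0 ↔ _).1
      (congrArg Subtype.val e)
    exact one_ne_zero (hbi.symm.trans h)
  have hkq : ∀ j : ↥J, kq j = b.coord i j • kq (b i) := fun j => by
    rw [← map_smul, ← sub_eq_zero, ← map_sub]
    refine Subtype.ext ((Ideal.Quotient.eq_zero_iff_mem : Ideal.Quotient.mk K _ = 0 ↔ _).2 ⟨(j - b.coord i j • b i).2, ?_⟩)
    change b.coord i (j - b.coord i j • b i) = 0
    rw [map_sub, map_smul, hbi, smul_eq_mul, mul_one, sub_self]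
  have ht : ArtFun.Art.IsSmallExt t := by
    refine ArtF85.isSmallExt_of_ker (fun y => ?_) (t := (kq (b i)).1) (fun e => hkq0 (Subtype.ext e))
      (le_antisymm (fun y hy => ?_) ((Ideal.span_singleton_le_iff_mem _).2 (kq (b i)).2)) fun a ha => ?_
    · obtain ⟨x, rfl⟩ := hp.1 y
      exact ⟨Ideal.Quotient.mk K x, rfl⟩
    · obtain ⟨j, hj⟩ := hkqs ⟨y, hy⟩
      rw [show y = (kq j).1 from (congrArg Subtype.val hj).symm, hkq j]
      exact (Submodule.restrictScalars k (Ideal.span {(kq (b i)).1})).smul_mem _
        (Ideal.mem_span_singleton_self _)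
    · obtain ⟨x, rfl⟩ := (Ideal.Quotient.mk_surjective : Function.Surjective (Ideal.Quotient.mk K)) a
      have hx : x ∈ IsLocalRing.maximalIdeal C' := (C'.mem_maximalIdeal_iff x).2
        ((ArtFun.Art.mem_maximalIdeal_iff (ArtFun.Art.quot C' K hKm) (Ideal.Quotient.mk K x)).1 ha :)
      change Ideal.Quotient.mk K x * Ideal.Quotient.mk K ((b i : ↥J) : C') = 0
      rw [← map_mul, ArtF85.mul_eq_zero_of_isSemismallExt hp hx (RingHom.mem_ker.1 (b i).2), map_zero]
  let ψ : ↥(RingHom.ker t.toAlgHom) ≃ₗ[k] k := LinearEquiv.symm (LinearEquiv.ofBijective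
    (LinearMap.toSpanSingleton k _ (kq (b i)))
    ⟨smul_left_injective k hkq0, fun y => by
      obtain ⟨j, rfl⟩ := hkqs y
      exact ⟨b.coord i j, (hkq j).symm⟩⟩)
  refine ⟨_, _, t, ht, u, ψ, ?_⟩
  rw [T.obs_quot p hp K hKm hKJ ht.isSemismallExt u, ← LinearMap.lTensor_comp_apply]
  congr 3
  refine LinearMap.ext fun j => ?_
  change b.coord i j = ψ (kq j)
  rw [eq_comm, LinearEquiv.symm_apply_eq]
  exact hkq j

end Groth.Agent.S13978
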