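import Groth.Statements.S13987
import Groth.Agent.QCohLoc72.Restrict
import Groth.Agent.QCohLoc72.Criterion
import Groth.Agent.QCqs72.Basic
import Groth.Agent.SubMod72.Main
set_option autoImplicit false
universe u
open CategoryTheory CategoryTheory.Limits AlgebraicGeometry
open CohGab

namespace Groth.Agent.S13987


open AlgebraicGeometry CategoryTheory in
/-- The coherent modules. -/
abbrev C (X : Scheme.{u}) := ObjectProperty.FullSubcategory (fun M : X.Modules => Coh.IsCoh M)

open AlgebraicGeometry CategoryTheory Limits in
theorem loc (X : Scheme.{u}) [IsNoetherian X] (U : X.Opens) (R : C X ⥤ C (↑U : Scheme.{u}))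
    (ε : R ⋙ ObjectProperty.ι _ ≅ ObjectProperty.ι _ ⋙ Scheme.Modules.restrictFunctor U.ι) :
    R.IsLocalization ((MorphismProperty.isomorphisms _).inverseImage R) := by
  have hX : ∀ x : X, ∃ N : X.Opens, x ∈ N ∧ TopologicalSpace.NoetherianSpace (N : Set X) :=
    fun _ => ⟨⊤, trivial, inferInstance⟩
  haveI := SubMod72.quasiCompact_opensι hX U
  let ρ := Scheme.Modules.restrictFunctor U.ι
  let adj := Scheme.Modules.restrictAdjunction U.ι
  have hiso : ∀ {A B : C X} (f : A ⟶ B), IsIso (R.map f) ↔ IsIso (ρ.map f.hom) := fun f =>
    (isIso_iff_of_reflects_iso (R.map f) (ObjectProperty.ι _)).symm.trans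
      (NatIso.isIso_map_iff ε f)
  haveI : R.EssSurj := ⟨fun G => by
    haveI := G.property.1
    haveI := G.property.2
    obtain ⟨G', h1, h2, ⟨e⟩⟩ := SubMod72.exists_finiteType_extension hX G.obj
    exact ⟨⟨G', h1, h2⟩, ⟨(ObjectProperty.fullyFaithfulι _).preimageIso (ε.app ⟨G', h1, h2⟩ ≪≫ e)⟩⟩⟩
  refine QCohLoc72.isLocalization_of_fractions R (fun A B φ => ?_) fun A B f g hfg => ?_
  · haveI := A.property.1
    haveI := B.property.1
    let ψ : ρ.obj A.obj ⟶ ρ.obj B.obj :=
      ε.inv.app A ≫ (ObjectProperty.ι _).map φ ≫ ε.hom.app B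
    let η : B.obj ⟶ (Scheme.Modules.pushforward U.ι).obj (ρ.obj B.obj) := adj.unit.app B.obj
    let α : A.obj ⟶ (Scheme.Modules.pushforward U.ι).obj (ρ.obj B.obj) := adj.homEquiv _ _ ψ
    haveI : ((Scheme.Modules.pushforward U.ι).obj (ρ.obj B.obj)).IsQuasicoherent :=
      QCqs72.isQuasicoherent_pushforward (M := ρ.obj B.obj) U.ι
    have hAB : Coh.IsCoh (A.obj ⊞ B.obj) :=
      QC70.isCoh_X₂ (ShortComplex.mk (biprod.inl : A.obj ⟶ A.obj ⊞ B.obj) biprod.snd
        biprod.inl_snd) (ShortComplex.Splitting.ofHasBinaryBiproduct _ _).shortExact A.property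
        B.property
    haveI := hAB.1
    let β : A.obj ⊞ B.obj ⟶ (Scheme.Modules.pushforward U.ι).obj (ρ.obj B.obj) :=
      biprod.desc α (-η)
    have hker : Coh.IsCoh (kernel β) :=
      QC70.isCoh_of_mono (kernel.ι β) (QC70.isQuasicoherent_kernel β) hAB
    have hK : Coh.IsCoh (pullback α η) := QC70.isCoh_of_iso
      { hom := pullback.lift (kernel.ι β ≫ biprod.fst) (kernel.ι β ≫ biprod.snd) (by
          have h := kernel.condition β
          simp only [β, biprod.desc_eq, Preadditive.comp_add, Preadditive.comp_neg,
            ← sub_eq_add_neg] at h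
          simp only [Category.assoc]
          exact sub_eq_zero.mp h)
        inv := kernel.lift β (biprod.lift (pullback.fst α η) (pullback.snd α η))
          (by simp [β, pullback.condition])
        hom_inv_id := by
          rw [← cancel_mono (kernel.ι β)]
          apply biprod.hom_ext <;> simp
          · exact pullback.lift_fst _ _ _
          · exact pullback.lift_snd _ _ _
        inv_hom_id := by
          apply pullback.hom_ext
          · rw [Category.assoc, Category.id_comp]
            refine (congrArg _ (pullback.lift_fst _ _ _)).trans ?_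
            simp
          · rw [Category.assoc, Category.id_comp]
            refine (congrArg _ (pullback.lift_snd _ _ _)).trans ?_
            simp } hker
    let K : C X := ⟨pullback α η, hK⟩
    let s : K ⟶ A := ObjectProperty.homMk (pullback.fst α η)
    let f : K ⟶ B := ObjectProperty.homMk (pullback.snd α η)
    have hsψ : ρ.map s.hom ≫ ψ = ρ.map f.hom := by
      apply (adj.homEquiv _ _).injective
      rw [adj.homEquiv_naturality_left, show adj.homEquiv _ _ ψ = α from rfl,
        Adjunction.homEquiv_unit]
      exact pullback.condition.trans (adj.unit.naturality f.hom)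
    haveI := (CxOX.extZeroAdj U.ι).rightAdjoint_preservesLimits
    haveI hη : IsIso (ρ.map η) := inferInstanceAs (IsIso (ρ.map (adj.unit.app B.obj)))
    have hs : IsIso (ρ.map s.hom) :=
      (((IsPullback.of_hasPullback α η).map ρ)).isIso_fst_of_isIso
    refine ⟨K, s, f, (hiso s).mpr hs, (ObjectProperty.ι _).map_injective ?_⟩
    have es := ε.hom.naturality s
    have ef := ε.hom.naturality f
    dsimp only [Functor.comp_map] at es ef
    rw [← cancel_mono (ε.hom.app B), Functor.map_comp, Category.assoc, ef]
    change _ = ε.hom.app K ≫ ρ.map f.hom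
    rw [← hsψ]
    change _ = ε.hom.app K ≫ ρ.map ((ObjectProperty.ι _).map s) ≫ ψ
    rw [← reassoc_of% es]
    simp [ψ]
  · haveI := A.property.1
    haveI := B.property.1
    let d : A.obj ⟶ B.obj := f.hom - g.hom
    have hK : Coh.IsCoh (kernel d) := QC70.isCoh_kernel d A.property B.property.1
    haveI : ρ.Additive := adj.left_adjoint_additive
    haveI := (CxOX.extZeroAdj U.ι).rightAdjoint_preservesLimits
    have hd : ρ.map d = 0 := by
      have ef := ε.hom.naturality f
      have eg := ε.hom.naturality g
      dsimp only [Functor.comp_map] at ef eg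
      rw [hfg] at ef
      have h := (cancel_epi (ε.hom.app A)).mp (ef.symm.trans eg)
      rw [ρ.map_sub, sub_eq_zero]
      exact h
    let e : (⟨kernel d, hK⟩ : C X) ⟶ A := ObjectProperty.homMk (kernel.ι d)
    refine ⟨_, e, (hiso e).mpr ?_, (ObjectProperty.ι _).map_injective ?_⟩
    · change IsIso (ρ.map (kernel.ι d))
      haveI : IsIso (kernel.ι (ρ.map d)) :=
        haveI : IsSplitEpi (kernel.ι (ρ.map d)) :=
          IsSplitEpi.mk' ⟨kernel.lift (ρ.map d) (𝟙 _) (by rw [hd, comp_zero]), kernel.lift_ι _ _ _⟩
        isIso_of_mono_of_epi _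
      rw [← kernelComparison_comp_ι d ρ]
      infer_instance
    · simp [e, d, ← sub_eq_zero (a := kernel.ι d ≫ f.hom), ← Preadditive.comp_sub]

/-- Let X be a Noetherian scheme, Z ⊆ X a closed subset and U = X ∖ Z. Then restriction to U induces an
equivalence between the quotient abelian category Coh(X)/Coh_Z(X) (coherent modules modulo those
supported in Z) and Coh(U): the restriction functor Coh(X) ⥤ Coh(U) is a localization functor for
the class of morphisms of coherent O_X-modules whose kernel and cokernel (taken in O_X-modules) have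
support contained in Z. The hypothesis that restriction to U preserves coherence always holds and is
carried only to form the functor between the full subcategories. (The published statement is about
coherent sheaves twisted by a class in the second etale cohomology group of the units of the
structure sheaf; this row is its case of the trivial class, ordinary coherent sheaves.) -/
theorem result (X : Scheme.{u}) [IsNoetherian X]
    (U : X.Opens)
    (hres : ∀ M : X.Modules, Coh.IsCoh M → Coh.IsCoh ((Scheme.Modules.restrictFunctor U.ι).obj M)) :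
    (ObjectProperty.lift (fun N : (↑U : Scheme.{u}).Modules => Coh.IsCoh N)
        (ObjectProperty.ι (fun M : X.Modules => Coh.IsCoh M) ⋙ Scheme.Modules.restrictFunctor U.ι)
        (fun M => hres M.obj M.property)).IsLocalization
      (fun (A B : ObjectProperty.FullSubcategory (fun M : X.Modules => Coh.IsCoh M)) (f : A ⟶ B) =>
        CohB1.support (kernel f.hom) ⊆ (↑U : Set X)ᶜ ∧
          CohB1.support (cokernel f.hom) ⊆ (↑U : Set X)ᶜ) := by
  let R := ObjectProperty.lift (fun N : (↑U : Scheme.{u}).Modules => Coh.IsCoh N)
    (ObjectProperty.ι (fun M : X.Modules => Coh.IsCoh M) ⋙ Scheme.Modules.restrictFunctor U.ι)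
    (fun M => hres M.obj M.property)
  convert loc X U R (Iso.refl _) using 1
  refine MorphismProperty.ext _ _ fun A B f => ?_
  rw [MorphismProperty.inverseImage_iff, MorphismProperty.isomorphisms.iff]
  refine Iff.trans ?_ (isIso_iff_of_reflects_iso _ (ObjectProperty.ι _))
  exact (QCohLoc72.isIso_restrict_map_iff U f.hom).symm

end Groth.Agent.S13987
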