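import Groth.Statements.S13988
import Groth.Agent.QC70.Deligne
import Groth.Agent.QC70.DevissageAux
import Groth.Agent.QCSupp72.Support

set_option autoImplicit false
universe u
open CategoryTheory AlgebraicGeometry
open CohGab

namespace Groth.Agent.S13988

open AlgebraicGeometry Limits TopologicalSpace Opposite QC70 in
theorem ideal_eq_top {X : Scheme.{u}} (I : X.IdealSheafData) {U : X.Opens}
    (hU : (U : Set X) = (I.support : Set X)ᶜ) (W : X.affineOpens) (h : W.1 ≤ U) :
    I.ideal W = ⊤ := by
  by_contra hne
  obtain ⟨m, hm, hle⟩ := Ideal.exists_le_maximal _ hne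
  let p : PrimeSpectrum Γ(X, W.1) := ⟨m, hm.isPrime⟩
  have hp : W.2.fromSpec p ∈ W.1 := QCSupp72.fromSpec_mem W.2 p
  have hp' : W.2.fromSpec p ∈ (U : Set X) := h hp
  rw [hU] at hp'
  refine hp' ((Scheme.IdealSheafData.mem_support_iff_of_mem hp).mpr ?_)
  rw [Scheme.mem_zeroLocus_iff]
  exact fun f hf hxf => (QCSupp72.mem_basicOpen_iff W.2 p f).mp hxf (hle hf)


/-- Let X be a Noetherian scheme. The canonical ring map from the global functions Γ(X, O_X) to the
centre of the category of coherent O_X-modules (the endomorphisms of its identity functor), sending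
r to multiplication by r, is bijective: for every natural endomorphism φ of the identity functor of
Coh(X) there is a unique global function r such that, for every coherent module M, φ_M is
multiplication by r (compared as maps of the underlying abelian sheaves). (The published result
builds a ringed space from Coh(X) — irreducible Serre subcategories of finite type, with the centres
of the categories Coh(U) as structure sheaf — and proves it isomorphic to X, for coherent sheaves
twisted by a class in the cohomological Brauer group and with X over a field, a hypothesis its proof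
does not use; this row is the ring-theoretic content of that isomorphism on global sections, for the
trivial class; applied to the open subschemes of X it gives the statement on every open.) -/
theorem result (X : Scheme.{u}) [IsNoetherian X]
    (φ : 𝟭 (ObjectProperty.FullSubcategory (fun M : X.Modules => Coh.IsCoh M)) ⟶ 𝟭 (ObjectProperty.FullSubcategory (fun M : X.Modules => Coh.IsCoh M))) :
    ∃! r : Coh.Γtop X, ∀ M : ObjectProperty.FullSubcategory (fun M : X.Modules => Coh.IsCoh M),
      (SheafOfModules.toSheaf X.ringCatSheaf).map (φ.app M).hom = Coh.smulAb M.obj r := by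
  open AlgebraicGeometry Limits TopologicalSpace Opposite QC70 in
  classical
  let O : ObjectProperty.FullSubcategory (fun M : X.Modules => Coh.IsCoh M) :=
    ⟨Coh.structureModule X, isCoh_unit⟩
  let one (V : X.Opens) : Γ(Coh.structureModule X, V) := (show Γ(X, V) from 1)
  let φ' (M : ObjectProperty.FullSubcategory (fun M : X.Modules => Coh.IsCoh M)) :
      M.obj ⟶ M.obj := (φ.app M).hom
  have hnat : ∀ (A B : ObjectProperty.FullSubcategory (fun M : X.Modules => Coh.IsCoh M))
      (f : A.obj ⟶ B.obj), φ' A ≫ f = f ≫ φ' B := fun A B f =>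
    (congrArg InducedCategory.Hom.hom (φ.naturality
      (ObjectProperty.homMk f : A ⟶ B))).symm
  let r : Coh.Γtop X := (φ' O).app ⊤ (one ⊤)
  have hO : ∀ V : X.Opens, (φ' O).app V (one V) =
      resO X (le_top : V ≤ ⊤) (show Γ(X, ⊤) from r) • one V := fun V => by
    have h1 : one V = res (Coh.structureModule X) (le_top : V ≤ ⊤) (one ⊤) :=
      (map_one (X.presheaf.map (homOfLE (le_top : V ≤ ⊤)).op).hom).symm
    conv_lhs => rw [h1, app_res]
    exact (mul_one (resO X (le_top : V ≤ ⊤) (show Γ(X, ⊤) from r))).symm
  refine ⟨r, fun M => ?_, fun r' hr' => ?_⟩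
  · haveI := M.property.1
    ext V s
    let U : X.Opens := V.unop
    let s' : Γ(M.obj, U) := s
    change (φ' M).app U s' = resO X (le_top : U ≤ ⊤) (show Γ(X, ⊤) from r) • s'
    let I : X.IdealSheafData := Scheme.IdealSheafData.vanishingIdeal
      ⟨(U : Set X)ᶜ, U.isOpen.isClosed_compl⟩
    have hU : (U : Set X) = (I.support : Set X)ᶜ := by
      rw [show (I.support : Set X) = (U : Set X)ᶜ from
        Scheme.IdealSheafData.coe_support_vanishingIdeal _, compl_compl]
    let Φ : HomOn (Coh.structureModule X) M.obj U :=
      { app := fun W hW =>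
          { toFun := fun a => (show Γ(X, W) from a) • res M.obj hW s'
            map_add' := fun a b => add_smul (show Γ(X, W) from a) (show Γ(X, W) from b) _
            map_smul' := fun c a => mul_smul c (show Γ(X, W) from a) _ }
        app_res := fun _ h a => by
          simp only [LinearMap.coe_mk, AddHom.coe_mk]
          rw [res_smul, res_res]
          rfl }
    haveI : (Coh.structureModule X).IsQuasicoherent := O.property.1
    haveI : (Coh.structureModule X).IsFiniteType := O.property.2
    obtain ⟨n, ψ, hψ⟩ := exists_idealMul_lift I hU M.obj (Coh.structureModule X) Φ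
    let J : ObjectProperty.FullSubcategory (fun M : X.Modules => Coh.IsCoh M) :=
      ⟨(Dual3.idealMul (I ^ n)).obj (Coh.structureModule X), isCoh_idealMul _ isCoh_unit⟩
    have hcov : U ≤ ⨆ W : {W : X.affineOpens // W.1 ≤ U}, W.1.1 := fun x hx => by
      obtain ⟨W, hW, hxW, hWU⟩ := Opens.isBasis_iff_nbhd.mp X.isBasis_affineOpens hx
      exact Opens.mem_iSup.mpr ⟨⟨⟨W, hW⟩, hWU⟩, hxW⟩
    refine section_ext' M.obj (fun W : {W : X.affineOpens // W.1 ≤ U} => W.1.1) (fun W => W.2)
      hcov _ _ fun W => ?_
    obtain ⟨t, ht⟩ : ∃ t, (Dual3.idealMulι (I ^ n) (Coh.structureModule X)).app W.1.1 t =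
        one W.1.1 := by
      refine (Set.ext_iff.mp (range_idealMulι_app (I ^ n) (Coh.structureModule X) W.1) _).mpr ?_
      rw [Scheme.IdealSheafData.ideal_pow, Pi.pow_apply, ideal_eq_top I hU W.1 W.2,
        ← Ideal.one_eq_top, one_pow, Ideal.one_eq_top, Submodule.top_smul]
      trivial
    have hn := hnat J O (Dual3.idealMulι (I ^ n) (Coh.structureModule X))
    have hJ : (φ' J).app W.1.1 t =
        resO X (le_top : W.1.1 ≤ ⊤) (show Γ(X, ⊤) from r) • t := by
      refine app_injective_of_mono (Dual3.idealMulι (I ^ n) (Coh.structureModule X)) _ ?_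
      rw [Scheme.Modules.Hom.app_smul, ht, ← hO, ← ht]
      exact congr((Scheme.Modules.Hom.app $hn W.1.1) t)
    have hs : ψ.app W.1.1 t = res M.obj W.2 s' := by
      rw [hψ W.1.1 W.2 t, ht]
      exact one_smul _ _
    have hM := hnat J M ψ
    change res M.obj W.2 ((φ' M).app U s') =
      res M.obj W.2 (resO X (le_top : U ≤ ⊤) (show Γ(X, ⊤) from r) • s')
    rw [← app_res, res_smul, resO_resO, ← hs]
    refine Eq.trans (congr((Scheme.Modules.Hom.app $hM W.1.1) t)).symm ?_
    change ψ.app W.1.1 ((φ' J).app W.1.1 t) = _
    rw [hJ, Scheme.Modules.Hom.app_smul]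
  · have h2 : (φ' O).app ⊤ (one ⊤) = (Coh.smulAb O.obj r').hom.app (op ⊤) (one ⊤) :=
      congr(($(hr' O)).hom.app (op ⊤) (one ⊤))
    have h3 : (show Γ(X, ⊤) from r) = resO X (le_top : (⊤ : X.Opens) ≤ ⊤) (show Γ(X, ⊤) from r') :=
      h2.trans (mul_one (resO X (le_top : (⊤ : X.Opens) ≤ ⊤) (show Γ(X, ⊤) from r')))
    exact (h3.trans (resO_self (show Γ(X, ⊤) from r'))).symm

end Groth.Agent.S13988
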