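import Groth.Statements.S13989
import Mathlib.CategoryTheory.Abelian.SerreClass.Localization

set_option autoImplicit false
universe v u v' u' v'' u''
open CategoryTheory CategoryTheory.Limits
open CohGab

namespace Groth.Agent.S13989


open CategoryTheory Limits in
theorem isoModSerre_map_iff {A A' : Type u} [Category.{v} A] [Abelian A] [Category.{v} A'] [Abelian A']
    (i : A' ⥤ A) [PreservesFiniteLimits i] [PreservesFiniteColimits i]
    (J : ObjectProperty A) [J.IsSerreClass] [(J.inverseImage i).IsSerreClass] {X Y : A'} (f : X ⟶ Y) :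
    (J.inverseImage i).isoModSerre f ↔ J.isoModSerre (i.map f) := by
  haveI : i.PreservesZeroMorphisms := by
    have := preservesBinaryBiproducts_of_preservesBinaryProducts i
    haveI := Functor.additive_of_preservesBinaryBiproducts i
    infer_instance
  exact and_congr (J.prop_iff_of_iso (PreservesKernel.iso i f))
    (J.prop_iff_of_iso (PreservesCokernel.iso i f))

/-- Let A be an abelian category, A' a full abelian subcategory (given as a fully faithful exact functor
i : A' ⥤ A) and J a Serre subcategory of A, with J' = J ∩ A' (the preimage of J under i, a Serre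
subcategory of A'). Assume that every subobject and every quotient object, in A, of an object of A'
which belongs to J belongs to A' (lies in the essential image of i). Then the functor A'/J' ⥤ A/J
induced between the quotient categories is fully faithful: for L : A ⥤ Q and L' : A' ⥤ Q'
localization functors at the morphisms whose kernel and cokernel lie in J, resp. J', every functor Φ
: Q' ⥤ Q with L' ⋙ Φ ≅ i ⋙ L is full and faithful. -/
theorem result
    {A A' : Type u} [Category.{v} A] [Abelian A] [Category.{v} A'] [Abelian A']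
    (i : A' ⥤ A) [i.Full] [i.Faithful] [PreservesFiniteLimits i] [PreservesFiniteColimits i]
    (J : ObjectProperty A) [J.IsSerreClass] [(J.inverseImage i).IsSerreClass]
    (hsub : ∀ (M : A') (N : A) (f : N ⟶ i.obj M), Mono f → J N → i.essImage N)
    (hquot : ∀ (M : A') (N : A) (p : i.obj M ⟶ N), Epi p → J N → i.essImage N)
    {Q : Type u'} [Category.{v'} Q] (L : A ⥤ Q) [L.IsLocalization J.isoModSerre]
    {Q' : Type u''} [Category.{v''} Q'] (L' : A' ⥤ Q') [L'.IsLocalization (J.inverseImage i).isoModSerre]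
    (Φ : Q' ⥤ Q) (e : L' ⋙ Φ ≅ i ⋙ L) : Φ.Full ∧ Φ.Faithful := by
  haveI : i.Additive := by
    have := preservesBinaryBiproducts_of_preservesBinaryProducts i
    exact Functor.additive_of_preservesBinaryBiproducts i
  have hL' := Localization.essSurj L' (J.inverseImage i).isoModSerre
  have key : ∀ (M N : A') (g₁ g₂ : L'.obj M ⟶ L'.obj N), Φ.map g₁ = Φ.map g₂ → g₁ = g₂ := by
    intro M N g₁ g₂ h
    obtain ⟨φ, rfl⟩ := Localization.exists_rightFraction L' (J.inverseImage i).isoModSerre g₁
    obtain ⟨ψ, rfl⟩ := Localization.exists_rightFraction L' (J.inverseImage i).isoModSerre g₂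
    obtain ⟨χ, hχ⟩ := (MorphismProperty.LeftFraction.mk (W := (J.inverseImage i).isoModSerre)
      φ.s ψ.s ψ.hs).exists_rightFraction
    have hs' : (J.inverseImage i).isoModSerre (χ.s ≫ φ.s) :=
      MorphismProperty.comp_mem _ _ _ χ.hs φ.hs
    haveI : IsIso (L'.map (χ.s ≫ φ.s)) := Localization.inverts L' _ _ hs'
    have h₁ : L'.map (χ.s ≫ φ.s) ≫ φ.map L' (Localization.inverts L' _) =
        L'.map (χ.s ≫ φ.f) := by
      rw [Functor.map_comp, Functor.map_comp, Category.assoc,
        MorphismProperty.RightFraction.map_s_comp_map]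
    have h₂ : L'.map (χ.s ≫ φ.s) ≫ ψ.map L' (Localization.inverts L' _) =
        L'.map (χ.f ≫ ψ.f) := by
      rw [show χ.s ≫ φ.s = χ.f ≫ ψ.s from hχ, Functor.map_comp, Functor.map_comp, Category.assoc,
        MorphismProperty.RightFraction.map_s_comp_map]
    have he : L.map (i.map (χ.s ≫ φ.f)) = L.map (i.map (χ.f ≫ ψ.f)) := by
      change (i ⋙ L).map _ = (i ⋙ L).map _
      rw [← NatIso.naturality_1 e (χ.s ≫ φ.f), ← NatIso.naturality_1 e (χ.f ≫ ψ.f)]
      dsimp only [Functor.comp_map]
      rw [← h₁, ← h₂, Φ.map_comp, h, ← Φ.map_comp]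
    obtain ⟨Z, s, hs, hsf⟩ := (MorphismProperty.map_eq_iff_precomp L J.isoModSerre _ _).mp he
    let d := χ.s ≫ φ.f - χ.f ≫ ψ.f
    have hd : J (Abelian.image (i.map d)) :=
      (ObjectProperty.exists_isoModSerre_comp_eq_zero_iff J _).mp
        ⟨Z, s, hs, by simp only [d, i.map_sub, Preadditive.comp_sub, hsf, sub_self]⟩
    have hk : (J.inverseImage i).isoModSerre (kernel.ι d) := by
      rw [isoModSerre_map_iff, ← kernelComparison_comp_ι d i,
        MorphismProperty.cancel_left_of_respectsIso J.isoModSerre, J.isoModSerre_iff_of_mono]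
      exact J.prop_of_iso (Abelian.coimageIsoImage (i.map d)).symm hd
    haveI : IsIso (L'.map (kernel.ι d)) := Localization.inverts L' _ _ hk
    rw [← cancel_epi (L'.map (χ.s ≫ φ.s)), ← cancel_epi (L'.map (kernel.ι d)), h₁, h₂,
      ← L'.map_comp, ← L'.map_comp]
    congr 1
    rw [← sub_eq_zero, ← Preadditive.comp_sub]
    exact kernel.condition d
  have keyf : ∀ (M N : A') (φ : Φ.obj (L'.obj M) ⟶ Φ.obj (L'.obj N)),
      ∃ g, Φ.map g = φ := by
    intro M N φ
    obtain ⟨r, hr⟩ := Localization.exists_rightFraction L J.isoModSerre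
      (e.inv.app M ≫ φ ≫ e.hom.app N)
    obtain ⟨C, ⟨c⟩⟩ := hquot M _ (cokernel.π r.s) inferInstance r.hs.2
    let π : M ⟶ C := i.preimage (cokernel.π r.s ≫ c.inv)
    have hπ : i.map π = cokernel.π r.s ≫ c.inv := i.map_preimage _
    let M₁ := kernel π
    let a : r.X' ⟶ i.obj M₁ := kernel.lift (i.map π) r.s (by simp [hπ]) ≫
      (PreservesKernel.iso i π).inv
    have ha : a ≫ i.map (kernel.ι π) = r.s := by
      simp [a, M₁]
    haveI : Epi a := by
      haveI : Epi (kernel.lift (i.map π) r.s (by simp [hπ])) := by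
        have hex : (ShortComplex.mk r.s (i.map π) (by simp [hπ])).Exact := by
          refine ShortComplex.exact_of_g_is_cokernel _ ?_
          exact IsColimit.ofIsoColimit (cokernelIsCokernel r.s)
            (Cofork.ext c.symm (by simp [hπ]))
        exact hex.epi_kernelLift
      infer_instance
    have hι : (J.inverseImage i).isoModSerre (kernel.ι π) := by
      rw [isoModSerre_map_iff]
      refine ⟨?_, ?_⟩
      · haveI : Mono (i.map (kernel.ι π)) := inferInstance
        exact J.monoModSerre_of_mono _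
      · refine J.prop_of_iso (asIso (cokernel.map r.s (i.map (kernel.ι π)) a (𝟙 _)
          (by rw [ha, Category.comp_id]))) r.hs.2
    have hka : kernel.ι a ≫ r.s = 0 :=
      (congrArg (kernel.ι a ≫ ·) ha.symm).trans (by simp [kernel.condition_assoc])
    obtain ⟨T, ⟨t⟩⟩ := hsub N _ (Abelian.image.ι (kernel.ι a ≫ r.f)) inferInstance (by
      refine J.prop_of_epi (Abelian.factorThruImage (kernel.ι a ≫ r.f)) ?_
      exact J.prop_of_mono (kernel.lift r.s (kernel.ι a) hka) r.hs.1)
    let τ : T ⟶ N := i.preimage (t.hom ≫ Abelian.image.ι (kernel.ι a ≫ r.f))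
    have hτ : i.map τ = t.hom ≫ Abelian.image.ι (kernel.ι a ≫ r.f) := i.map_preimage _
    have hTJ : J (i.obj T) := by
      refine J.prop_of_iso t.symm (J.prop_of_epi (Abelian.factorThruImage _) ?_)
      exact J.prop_of_mono (kernel.lift r.s (kernel.ι a) hka) r.hs.1
    have hq : (J.inverseImage i).isoModSerre (cokernel.π τ) := by
      rw [(J.inverseImage i).isoModSerre_iff_of_epi]
      refine J.prop_of_iso (PreservesKernel.iso i (cokernel.π τ)).symm ?_
      haveI : Mono τ := i.mono_of_mono_map (by rw [hτ]; infer_instance)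
      exact J.prop_of_iso ((i.mapIso (IsLimit.conePointUniqueUpToIso
        (Abelian.monoIsKernelOfCokernel _ (cokernelIsCokernel τ)) (kernelIsKernel _))) ≪≫
          PreservesKernel.iso i (cokernel.π τ)) hTJ
    have hz : kernel.ι a ≫ r.f ≫ i.map (cokernel.π τ) = 0 := by
      refine ((Category.assoc _ _ _).symm.trans
        (congrArg (· ≫ i.map (cokernel.π τ)) (Abelian.image.fac (kernel.ι a ≫ r.f)).symm)).trans ?_
      rw [Category.assoc,
        show Abelian.image.ι (kernel.ι a ≫ r.f) = t.inv ≫ i.map τ by simp [hτ], Category.assoc,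
        ← i.map_comp, cokernel.condition, i.map_zero, comp_zero, comp_zero]
    let g : M₁ ⟶ cokernel τ := i.preimage (Abelian.epiDesc a (r.f ≫ i.map (cokernel.π τ)) hz)
    have hg : a ≫ i.map g = r.f ≫ i.map (cokernel.π τ) := by
      rw [i.map_preimage]
      exact Abelian.comp_epiDesc a _ hz
    haveI : IsIso (L'.map (kernel.ι π)) := Localization.inverts L' _ _ hι
    haveI : IsIso (L'.map (cokernel.π τ)) := Localization.inverts L' _ _ hq
    haveI : IsIso (L.map r.s) := Localization.inverts L _ _ r.hs
    refine ⟨inv (L'.map (kernel.ι π)) ≫ L'.map g ≫ inv (L'.map (cokernel.π τ)), ?_⟩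
    rw [Φ.map_comp, Φ.map_comp, Φ.map_inv, Φ.map_inv, IsIso.inv_comp_eq, IsIso.comp_inv_eq,
      ← cancel_mono (e.hom.app _)]
    have eg := e.hom.naturality g
    have eι := e.hom.naturality (kernel.ι π)
    have eq' := e.hom.naturality (cokernel.π τ)
    dsimp only [Functor.comp_map] at eg eι eq'
    rw [eg, Category.assoc, Category.assoc, eq']
    have hφ : φ ≫ e.hom.app N = e.hom.app M ≫ r.map L (Localization.inverts L _) := by
      rw [← hr]; simp
    rw [reassoc_of% hφ, reassoc_of% eι]
    congr 1
    haveI : IsIso (L.map a) := by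
      refine Localization.inverts L J.isoModSerre _ ?_
      rw [J.isoModSerre_iff_of_epi]
      exact J.prop_of_mono (kernel.lift r.s (kernel.ι a)
        hka) r.hs.1
    rw [← cancel_epi (L.map a), ← L.map_comp, ← L.map_comp_assoc, hg, ha, L.map_comp,
      MorphismProperty.RightFraction.map_s_comp_map_assoc]
  refine ⟨⟨fun {X Y} φ => ?_⟩, ⟨fun {X Y g₁ g₂} h => ?_⟩⟩
  · obtain ⟨g, hg⟩ := keyf _ _ (Φ.map (L'.objObjPreimageIso X).hom ≫ φ ≫
      Φ.map (L'.objObjPreimageIso Y).inv)
    refine ⟨(L'.objObjPreimageIso X).inv ≫ g ≫ (L'.objObjPreimageIso Y).hom, ?_⟩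
    simp [hg]
  · rw [← cancel_epi (L'.objObjPreimageIso X).hom, ← cancel_mono (L'.objObjPreimageIso Y).inv]
    exact key _ _ _ _ (by simp only [Functor.map_comp, h])

end Groth.Agent.S13989
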