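import Groth.Statements.S1399
import Groth.Agent.FlatMor66.IndQA2

set_option autoImplicit false
universe u
open FlatMor

namespace Groth.Agent.S1399
open Groth.Agent.FlatMor66

open AlgebraicGeometry CategoryTheory Limits in
/-- If g ∘ f is ind-quasi-affine then so is f. -/
theorem result {X Y Z : Scheme.{u}} (f : X ⟶ Y) (g : Y ⟶ Z) (h : MoreMor.IsIndQuasiAffineHom (f ≫ g)) :
    MoreMor.IsIndQuasiAffineHom f := by
  rw [isIndQuasiAffineHom_iff] at *
  intro V hV W hWV hW
  refine qa_opens_of_over_affine f V hV W hW hWV fun y _ => ?_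
  obtain ⟨_, ⟨A, hA, rfl⟩, hyA, -⟩ := Z.isBasis_affineOpens.exists_subset_of_mem_open (Set.mem_univ (g y)) isOpen_univ
  refine ⟨g ⁻¹ᵁ A, hyA, fun V' hV' _ W' hW'V _ hW' => h A hA W' ?_ hW'⟩
  exact hW'V.trans (fun x hx => hV' hx)

end Groth.Agent.S1399
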