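import Groth.Statements.S13991
import Groth.Agent.CohSerre72.Basic

set_option autoImplicit false
universe u
open CategoryTheory AlgebraicGeometry
open CohGab

namespace Groth.Agent.S13991

/-- Let X be a Noetherian scheme and Z ⊆ X a closed subset. Then Z is irreducible (or empty) if and only
if Coh_Z(X), the coherent O_X-modules supported in Z, is an irreducible Serre subcategory of Coh(X),
i.e. it is not generated as a Serre subcategory by two Serre subcategories properly contained in it:
whenever J₁, J₂ are Serre classes on coherent modules (middle term of a short exact sequence of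
coherent modules belongs iff both outer terms do), both contained in Coh_Z, such that every Serre
class on coherent modules containing J₁ and J₂ contains Coh_Z, then J₁ or J₂ contains Coh_Z.
Consequently the points of X correspond to the irreducible Serre subcategories of finite type other
than the zero subcategory. (The published statement says 'Z is irreducible iff Coh_Z is irreducible'
and deduces a bijection between the points of X and all irreducible Serre subcategories of finite
type; the zero subcategory Coh_∅ is irreducible in this sense while ∅ is not an irreducible space,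
so irreducibility of Z is read here as 'irreducible or empty'. The published statement is also about
coherent sheaves twisted by a class in the second etale cohomology group of the units of the
structure sheaf; this row is its case of the trivial class.) -/
theorem result (X : Scheme.{u}) [IsNoetherian X]
    (Z : TopologicalSpace.Closeds X) :
    IsPreirreducible (↑Z : Set X) ↔
    ∀ J₁ J₂ : ObjectProperty X.Modules, (∀ S : ShortComplex X.Modules, S.ShortExact → Coh.IsCoh S.X₁ → Coh.IsCoh S.X₂ →
        Coh.IsCoh S.X₃ → (J₁ S.X₂ ↔ J₁ S.X₁ ∧ J₁ S.X₃)) → (∀ S : ShortComplex X.Modules, S.ShortExact → Coh.IsCoh S.X₁ → Coh.IsCoh S.X₂ →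
        Coh.IsCoh S.X₃ → (J₂ S.X₂ ↔ J₂ S.X₁ ∧ J₂ S.X₃)) →
      (∀ M : X.Modules, Coh.IsCoh M → J₁ M → CohB1.support M ⊆ (↑Z : Set X)) →
      (∀ M : X.Modules, Coh.IsCoh M → J₂ M → CohB1.support M ⊆ (↑Z : Set X)) →
      (∀ Q : ObjectProperty X.Modules, (∀ S : ShortComplex X.Modules, S.ShortExact → Coh.IsCoh S.X₁ → Coh.IsCoh S.X₂ →
        Coh.IsCoh S.X₃ → (Q S.X₂ ↔ Q S.X₁ ∧ Q S.X₃)) →
        (∀ M : X.Modules, Coh.IsCoh M → J₁ M → Q M) → (∀ M : X.Modules, Coh.IsCoh M → J₂ M → Q M) →
        ∀ M : X.Modules, Coh.IsCoh M → CohB1.support M ⊆ (↑Z : Set X) → Q M) →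
      (∀ M : X.Modules, Coh.IsCoh M → CohB1.support M ⊆ (↑Z : Set X) → J₁ M) ∨
        (∀ M : X.Modules, Coh.IsCoh M → CohB1.support M ⊆ (↑Z : Set X) → J₂ M) := by
  constructor
  · intro hirr J₁ J₂ hJ₁ hJ₂ h₁ h₂ hgen
    suffices ∃ M : X.Modules, Coh.IsCoh M ∧ (J₁ M ∨ J₂ M) ∧ (Z : Set X) ⊆ CohB1.support M by
      obtain ⟨M, hM, hJ, hZM⟩ := this
      rcases hJ with hJ | hJ
      · exact Or.inl fun N hN hNZ =>
          CohSerre72.IsSerreCoh.prop_of_support_subset hJ₁ hM hJ hN (hNZ.trans hZM)
      · exact Or.inr fun N hN hNZ =>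
          CohSerre72.IsSerreCoh.prop_of_support_subset hJ₂ hM hJ hN (hNZ.trans hZM)
    obtain ⟨G, hG, hGZ⟩ := CohSerre72.exists_isCoh_support_eq Z
    by_contra hne
    push_neg at hne
    rcases (Z : Set X).eq_empty_or_nonempty with hZ | hZ
    · exact hgen (fun _ => False) CohSerre72.isSerreCoh_false
        (fun M hM hJ => hne M hM (Or.inl hJ) (hZ.le.trans (Set.empty_subset _)))
        (fun M hM hJ => hne M hM (Or.inr hJ) (hZ.le.trans (Set.empty_subset _))) G hG hGZ.le
    obtain ⟨η, hη⟩ := QuasiSober.sober ⟨hZ, hirr⟩ Z.isClosed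
    have hout : ∀ M : X.Modules, Coh.IsCoh M → (J₁ M ∨ J₂ M) → η ∉ CohB1.support M := by
      intro M hM hJ hηM
      haveI := hM.2
      exact hne M hM hJ (hη.def.ge.trans
        ((QC70.isClosed_support M).closure_subset_iff.mpr (Set.singleton_subset_iff.mpr hηM)))
    exact hgen (fun M => η ∉ CohB1.support M) (CohSerre72.isSerreCoh_notMem_support η)
      (fun M hM hJ => hout M hM (Or.inl hJ)) (fun M hM hJ => hout M hM (Or.inr hJ))
      G hG hGZ.le (hGZ.ge hη.mem)
  · intro H
    rw [isPreirreducible_iff_isClosed_union_isClosed]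
    intro A B hA hB hAB
    let ZA : TopologicalSpace.Closeds X := ⟨(Z : Set X) ∩ A, Z.isClosed.inter hA⟩
    let ZB : TopologicalSpace.Closeds X := ⟨(Z : Set X) ∩ B, Z.isClosed.inter hB⟩
    obtain ⟨FA, hFA, hFA'⟩ := CohSerre72.exists_isCoh_support_eq ZA
    obtain ⟨FB, hFB, hFB'⟩ := CohSerre72.exists_isCoh_support_eq ZB
    obtain ⟨G, hG, hGZ⟩ := CohSerre72.exists_isCoh_support_eq Z
    rcases H (fun M => CohB1.support M ⊆ (ZA : Set X)) (fun M => CohB1.support M ⊆ (ZB : Set X))
      (CohSerre72.isSerreCoh_support_subset _) (CohSerre72.isSerreCoh_support_subset _)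
      (fun M _ h => h.trans Set.inter_subset_left) (fun M _ h => h.trans Set.inter_subset_left)
      (fun Q hQ hQA hQB M hM hMZ => by
        obtain ⟨N, hN, hQN, hNs⟩ := CohSerre72.IsSerreCoh.exists_support_union hQ hFA hFB
          (hQA FA hFA hFA'.le) (hQB FB hFB hFB'.le)
        refine CohSerre72.IsSerreCoh.prop_of_support_subset hQ hN hQN hM (hMZ.trans ?_)
        rw [hNs, hFA', hFB']
        intro x hx
        exact (hAB hx).imp (fun h => ⟨hx, h⟩) fun h => ⟨hx, h⟩) with h | h
    · exact Or.inl ((hGZ.ge.trans (h G hG hGZ.le)).trans Set.inter_subset_right)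
    · exact Or.inr ((hGZ.ge.trans (h G hG hGZ.le)).trans Set.inter_subset_right)

end Groth.Agent.S13991
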