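import Groth.Statements.S13992
import Groth.Agent.CAlg7.PlanarMF
import Mathlib.Algebra.Category.ModuleCat.Ext.DimensionShifting
import Mathlib.Algebra.Category.ModuleCat.EpiMono
import Mathlib.Algebra.Homology.ShortComplex.ModuleCat
import Mathlib.Algebra.Category.ModuleCat.Projective

set_option autoImplicit false
universe u
open CategoryTheory
open CAlg

namespace Groth.Agent.S13992

set_option linter.style.haveILetI false

open Abelian in
theorem shortExact_of {R : Type u} [CommRing R] {A B C : Type u} [AddCommGroup A] [Module R A] [AddCommGroup B]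
    [Module R B] [AddCommGroup C] [Module R C] (f : A →ₗ[R] B) (g : B →ₗ[R] C) (hf : Function.Injective f)
    (hfg : Function.Exact f g) (hg : Function.Surjective g) :
    (ShortComplex.mk (ModuleCat.ofHom f) (ModuleCat.ofHom g)
      (ModuleCat.hom_ext (LinearMap.ext fun m => hfg.apply_apply_eq_zero m))).ShortExact :=
  { exact := by
      rw [ShortComplex.moduleCat_exact_iff]
      exact fun a ha => (hfg a).1 ha
    mono_f := (ModuleCat.mono_iff_injective _).2 hf
    epi_g := (ModuleCat.epi_iff_surjective _).2 hg }

/-- Let S be a regular local ring of Krull dimension two, f a non-zero element of S and R the quotient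
of S by f, assumed reduced (the local ring of a reduced planar curve singularity). Let M and N be
finitely generated R-modules, each admitting a non-zero-divisor in the maximal ideal of R,
annihilated by ideals I and J respectively, where I + J contains a power of the maximal ideal. Then
Ext²_R(M, N) = 0. (The published statement is global: Ext²(F, F') = 0 for torsion-free coherent
sheaves F and F' on a reduced projective curve over a characteristic-zero algebraically closed
field, supported on subcurves with no common irreducible component that meet only at points with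
planar singularities; this row is the vanishing on stalks to which it reduces, stated over an
arbitrary two-dimensional regular local ring.) -/
theorem result (S : Type u) [CommRing S] [IsRegularLocalRing S] (hS : ringKrullDim S = 2) (f : S) (hf : f ≠ 0) (R : Type u) [CommRing R] [IsLocalRing R] [IsReduced R] (π : S →+* R) (hπ : Function.Surjective π) (hker : RingHom.ker π = Ideal.span {f}) (I J : Ideal R) (n : ℕ) (hIJ : IsLocalRing.maximalIdeal R ^ n ≤ I ⊔ J) (M N : Type u) [AddCommGroup M] [Module R M] [Module.Finite R M] [AddCommGroup N] [Module R N] [Module.Finite R N] (hI : I ≤ Module.annihilator R M) (hJ : J ≤ Module.annihilator R N) (x : R) (hx : x ∈ IsLocalRing.maximalIdeal R) (hxM : IsSMulRegular M x) (y : R) (hy : y ∈ IsLocalRing.maximalIdeal R) (hyN : IsSMulRegular N y) : Subsingleton (Abelian.Ext (ModuleCat.of R M) (ModuleCat.of R N) 2) := by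
  classical
  obtain ⟨g, p, φ, ψ, hp, hφp, hψφ, hφψ⟩ :=
    Groth.Agent.CAlg7.exists_matrix_factorization hS f hf π hπ hker x hx hxM
  have hzero : ∀ h : M →ₗ[R] N, h = 0 := fun h => LinearMap.ext fun m => by
    obtain ⟨i, hi, j, hj, hij⟩ := Submodule.mem_sup.1 (hIJ (Ideal.pow_mem_pow hy n))
    refine (hyN.pow n) ?_
    show y ^ n • h m = y ^ n • (0 : N)
    rw [← hij, add_smul, ← map_smul, Module.mem_annihilator.1 (hI hi) m, map_zero,
      Module.mem_annihilator.1 (hJ hj), add_zero, smul_zero]
  -- the two short exact sequences
  have hker1 : LinearMap.ker p = LinearMap.ker ψ := by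
    ext v
    exact (hφp v).trans (hφψ v).symm
  let i : M →ₗ[R] (Fin g → R) :=
    (LinearMap.ker p).liftQ ψ hker1.le ∘ₗ (p.quotKerEquivOfSurjective hp).symm.toLinearMap
  have hip : ∀ v, i (p v) = ψ v := fun v => by
    have : (p.quotKerEquivOfSurjective hp).symm (p v) = Submodule.Quotient.mk v := by
      rw [LinearEquiv.symm_apply_eq]; rfl
    simp [i, this]
  have hi : Function.Injective i := fun a b h => by
    obtain ⟨a, rfl⟩ := hp a
    obtain ⟨b, rfl⟩ := hp b
    rw [hip, hip] at h
    have hmem : a - b ∈ LinearMap.ker p := hker1 ▸ (by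
      rw [LinearMap.mem_ker, map_sub, h, sub_self] : a - b ∈ LinearMap.ker ψ)
    rw [LinearMap.mem_ker, map_sub, sub_eq_zero] at hmem
    exact hmem
  let φ' : (Fin g → R) →ₗ[R] LinearMap.ker p := φ.codRestrict _ fun v => hφp.apply_apply_eq_zero v
  have hφ' : Function.Surjective φ' := fun ⟨v, hv⟩ => by
    obtain ⟨w, hw⟩ := (hφp v).1 hv
    exact ⟨w, Subtype.ext hw⟩
  have hiφ : Function.Exact i φ' := fun v => by
    constructor
    · intro h
      obtain ⟨w, hw⟩ := (hψφ v).1 (congrArg Subtype.val h)
      exact ⟨p w, by rw [hip, hw]⟩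
    · rintro ⟨m, rfl⟩
      obtain ⟨w, rfl⟩ := hp m
      refine Subtype.ext ?_
      show φ (i (p w)) = 0
      rw [hip]
      exact hψφ.apply_apply_eq_zero w
  have h1 := shortExact_of (LinearMap.ker p).subtype p (LinearMap.ker p).injective_subtype
    (LinearMap.exact_subtype_ker_map p) hp
  have h2 := shortExact_of i φ' hi hiφ hφ'
  haveI : Projective (ModuleCat.of R (Fin g → R)) := (IsProjective.iff_projective (R := R) (P := Fin g → R)).1 inferInstance
  refine ⟨fun a b => ?_⟩
  suffices hz : ∀ e : Abelian.Ext (ModuleCat.of R M) (ModuleCat.of R N) 2, e = 0 from (hz a).trans (hz b).symm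
  intro e
  obtain ⟨e1, rfl⟩ := precomp_extClass_surjective_of_projective_X₂ (ModuleCat.of R N) h1 1 e
  obtain ⟨e0, rfl⟩ := precomp_extClass_surjective_of_projective_X₂ (ModuleCat.of R N) h2 0 e1
  obtain ⟨h, rfl⟩ := (Abelian.Ext.mk₀_bijective _ _).2 e0
  have : h = 0 := ModuleCat.hom_ext (hzero h.hom)
  subst this
  simp

end Groth.Agent.S13992
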