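import Groth.Statements.S13993
import Mathlib.Algebra.Category.ModuleCat.Ext.Finite
import Mathlib.Algebra.Category.ModuleCat.Algebra
import Mathlib.RingTheory.MvPowerSeries.Inverse
import Mathlib.RingTheory.MvPowerSeries.NoZeroDivisors
import Mathlib.LinearAlgebra.Dimension.Finrank
import Mathlib.Tactic.LinearCombination
import Mathlib.LinearAlgebra.Dimension.StrongRankCondition

set_option autoImplicit false
universe u
open CategoryTheory
open CAlg

namespace Groth.Agent.S13993

open CategoryTheory Abelian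

/-- `Ext¹(A/y, A/x)` is a line when `(x) = ann(y)` and `A/(x,y) = k`. -/
theorem ext_core (k A : Type u) [Field k] [CommRing A] [Algebra k A] (x y : A) (hxy : x * y = 0)
    (hann : ∀ a : A, a * y = 0 → a ∈ Ideal.span {x}) (ε : A →ₐ[k] k)
    (hε : RingHom.ker ε = Ideal.span {x, y}) :
    Module.finrank k (Abelian.Ext (ModuleCat.of A (A ⧸ Ideal.span {y}))
      (ModuleCat.of A (A ⧸ Ideal.span {x})) 1) = 1 := by
  classical
  let M : ModuleCat.{u} A := ModuleCat.of A (A ⧸ Ideal.span {x})
  let f : (A ⧸ Ideal.span {x}) →ₗ[A] A := Submodule.liftQ (Ideal.span {x}) (LinearMap.mulRight A y)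
    (Submodule.span_le.2 (Set.singleton_subset_iff.2 (by simpa using hxy)))
  let g : A →ₗ[A] A ⧸ Ideal.span {y} := Submodule.mkQ _
  have hg : Function.Surjective g := Submodule.mkQ_surjective _
  have hf : Function.Injective f := by
    rw [injective_iff_map_eq_zero]
    intro m
    obtain ⟨a, rfl⟩ := Submodule.mkQ_surjective _ m
    intro h
    exact (Submodule.Quotient.mk_eq_zero _).2 (hann a h)
  have hfg : Function.Exact f g := fun a => by
    constructor
    · intro h
      obtain ⟨c, hc⟩ := Ideal.mem_span_singleton'.1 ((Submodule.Quotient.mk_eq_zero _).1 h)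
      exact ⟨Submodule.Quotient.mk c, hc⟩
    · rintro ⟨m, rfl⟩
      obtain ⟨c, rfl⟩ := Submodule.mkQ_surjective _ m
      exact (Submodule.Quotient.mk_eq_zero _).2 (Ideal.mem_span_singleton'.2 ⟨c, rfl⟩)
  let S : ShortComplex (ModuleCat.{u} A) := ShortComplex.mk (ModuleCat.ofHom f) (ModuleCat.ofHom g)
    (ModuleCat.hom_ext (LinearMap.ext fun m => hfg.apply_apply_eq_zero m))
  have hS : S.ShortExact :=
    { exact := by
        rw [ShortComplex.moduleCat_exact_iff]
        exact fun a ha => (hfg a).1 ha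
      mono_f := (ModuleCat.mono_iff_injective _).2 hf
      epi_g := (ModuleCat.epi_iff_surjective _).2 hg }
  haveI : Projective S.X₂ :=
    (IsProjective.iff_projective (R := A) (P := A)).1 inferInstance
  let δ : Ext S.X₁ M 0 →ₗ[A] Ext S.X₃ M 1 := hS.extClass.precompOfLinear A M (add_comm 1 0)
  have hδ : Function.Surjective δ := precomp_extClass_surjective_of_projective_X₂ M hS 0
  let γ : A →ₗ[A] (S.X₁ ⟶ M) :=
    { toFun := fun a => ModuleCat.ofHom (a • LinearMap.id)
      map_add' := fun a b => ModuleCat.hom_ext (add_smul a b _)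
      map_smul' := fun a b => ModuleCat.hom_ext (mul_smul a b _) }
  let Φ : A →ₗ[A] Ext S.X₃ M 1 := δ ∘ₗ Ext.linearEquiv₀.symm.toLinearMap ∘ₗ γ
  have hmk : Function.Injective (Ext.mk₀ : (S.X₁ ⟶ M) → Ext S.X₁ M 0) :=
    (Ext.linearEquiv₀ (R := A)).symm.injective
  have hγ : Function.Surjective γ := fun φ => by
    obtain ⟨a, ha⟩ := Submodule.mkQ_surjective (Ideal.span {x}) (φ.hom (Submodule.Quotient.mk 1))
    refine ⟨a, ModuleCat.hom_ext (Submodule.linearMap_qext _ (LinearMap.ext_ring ?_))⟩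
    show (Submodule.Quotient.mk (a • (1 : A)) : A ⧸ Ideal.span {x}) = φ.hom (Submodule.Quotient.mk 1)
    rw [smul_eq_mul, mul_one]
    exact ha
  have hΦs : Function.Surjective Φ :=
    hδ.comp (((Ext.linearEquiv₀ (R := A)).symm.surjective).comp hγ)
  have hf1 : f (Submodule.Quotient.mk 1) = y := one_mul y
  have hΦk : LinearMap.ker Φ = Ideal.span {x, y} := by
    ext a
    constructor
    · intro ha
      obtain ⟨w, hw⟩ := Ext.contravariant_sequence_exact₁ hS M
        (Ext.mk₀ (γ a)) (add_comm 1 0) ha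
      obtain ⟨ψ, rfl⟩ := (Ext.linearEquiv₀ (R := A)).symm.surjective w
      change (Ext.mk₀ S.f).comp (Ext.mk₀ ψ) (zero_add 0) = _ at hw
      rw [Ext.mk₀_comp_mk₀] at hw
      have h1 : ψ.hom (f (Submodule.Quotient.mk 1)) = Submodule.Quotient.mk (a • (1 : A)) :=
        LinearMap.congr_fun (congrArg ModuleCat.Hom.hom (hmk hw)) (Submodule.Quotient.mk 1)
      obtain ⟨c, hc⟩ := Submodule.mkQ_surjective (Ideal.span {x}) (ψ.hom (1 : A))
      have h2 : (Submodule.Quotient.mk a : A ⧸ Ideal.span {x}) = Submodule.Quotient.mk (y * c) := by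
        rw [smul_eq_mul, mul_one, hf1] at h1
        rw [← h1, ← smul_eq_mul y c, Submodule.Quotient.mk_smul]
        show _ = y • Submodule.mkQ (Ideal.span {x}) c
        rw [hc]
        show _ = y • ψ.hom (1 : A)
        rw [← map_smul, smul_eq_mul, mul_one]
      obtain ⟨d, hd⟩ := Ideal.mem_span_singleton'.1 ((Submodule.Quotient.eq _).1 h2)
      exact Ideal.mem_span_pair.2 ⟨d, c, by linear_combination hd⟩
    · intro ha
      obtain ⟨d, c, rfl⟩ := Ideal.mem_span_pair.1 ha
      let ψ : S.X₂ ⟶ M := ModuleCat.ofHom (c • Submodule.mkQ (Ideal.span {x}))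
      have key : S.f ≫ ψ = γ (d * x + c * y) := by
        refine ModuleCat.hom_ext (Submodule.linearMap_qext _ (LinearMap.ext_ring ?_))
        show c • (Submodule.Quotient.mk (f (Submodule.Quotient.mk 1)) : A ⧸ Ideal.span {x}) =
          (Submodule.Quotient.mk ((d * x + c * y) • (1 : A)) : A ⧸ Ideal.span {x})
        rw [hf1, ← Submodule.Quotient.mk_smul, Submodule.Quotient.eq, Ideal.mem_span_singleton']
        exact ⟨-d, by rw [smul_eq_mul, smul_eq_mul]; ring⟩
      show hS.extClass.comp (Ext.mk₀ (γ _)) (add_comm 1 0) = 0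
      rw [← key, ← Ext.mk₀_comp_mk₀]
      exact hS.extClass_comp_assoc _
  haveI : IsScalarTower k A (Ext S.X₃ M 1) := IsScalarTower.of_algebraMap_smul fun c e => by
    rw [Ext.smul_eq_comp_mk₀, Ext.smul_eq_comp_mk₀]
    rfl
  let e₁ : (A ⧸ RingHom.ker ε) ≃ₗ[k] k :=
    (Ideal.quotientKerAlgEquivOfSurjective (f := ε) fun c => ⟨algebraMap k A c, ε.commutes c⟩).toLinearEquiv
  let e₂ : (A ⧸ RingHom.ker ε) ≃ₗ[A] Ext S.X₃ M 1 :=
    (Submodule.quotEquivOfEq _ _ (hε.trans hΦk.symm)).trans (Φ.quotKerEquivOfSurjective hΦs)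
  exact ((e₂.restrictScalars k).symm.trans e₁).finrank_eq.trans (Module.finrank_self k)

variable (k : Type u) [Field k]

theorem mem_span_X (f : MvPowerSeries (Fin 2) k) (hf : MvPowerSeries.constantCoeff f = 0) :
    f ∈ Ideal.span {MvPowerSeries.X (0 : Fin 2), MvPowerSeries.X (1 : Fin 2)} := by
  classical
  let r : MvPowerSeries (Fin 2) k := fun n => if n 0 = 0 then f n else 0
  have hr : ∀ n, MvPowerSeries.coeff n r = if n 0 = 0 then MvPowerSeries.coeff n f else 0 :=
    fun n => rfl
  have h1 : MvPowerSeries.X (1 : Fin 2) ∣ r := MvPowerSeries.X_dvd_iff.2 fun n hn => by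
    rw [hr]
    split_ifs with h0
    · have : n = 0 := by ext i; fin_cases i <;> assumption
      rw [this]; simpa using hf
    · rfl
  have h0 : MvPowerSeries.X (0 : Fin 2) ∣ f - r := MvPowerSeries.X_dvd_iff.2 fun n hn => by
    rw [map_sub, hr, if_pos hn, sub_self]
  rw [← sub_add_cancel f r]
  exact add_mem (Ideal.mem_of_dvd _ h0 (Ideal.subset_span (by simp)))
    (Ideal.mem_of_dvd _ h1 (Ideal.subset_span (by simp)))

/-- Let k be a field and A = k[[x,y]]/(xy) the complete local ring of a node, with branch rings A/(y)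
and A/(x) viewed as A-modules. Then the first Ext group Ext¹_A(A/(y), A/(x)) has dimension one over
k. (The published statement is for the local ring at a node of a reduced curve over an algebraically
closed field of characteristic zero, a node being a point whose complete local ring is A; this row
states the case of the complete local ring A itself, over an arbitrary field.) -/
theorem result (k : Type u) [Field k] : Module.finrank k (Abelian.Ext (ModuleCat.of (MvPowerSeries (Fin 2) k ⧸ Ideal.span {(MvPowerSeries.X (0 : Fin 2) : MvPowerSeries (Fin 2) k) * MvPowerSeries.X (1 : Fin 2)}) ((MvPowerSeries (Fin 2) k ⧸ Ideal.span {(MvPowerSeries.X (0 : Fin 2) : MvPowerSeries (Fin 2) k) * MvPowerSeries.X (1 : Fin 2)}) ⧸ Ideal.span {Ideal.Quotient.mk (Ideal.span {(MvPowerSeries.X (0 : Fin 2) : MvPowerSeries (Fin 2) k) * MvPowerSeries.X (1 : Fin 2)}) (MvPowerSeries.X (1 : Fin 2))})) (ModuleCat.of (MvPowerSeries (Fin 2) k ⧸ Ideal.span {(MvPowerSeries.X (0 : Fin 2) : MvPowerSeries (Fin 2)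 k) * MvPowerSeries.X (1 : Fin 2)}) ((MvPowerSeries (Fin 2) k ⧸ Ideal.span {(MvPowerSeries.X (0 : Fin 2) : MvPowerSeries (Fin 2) k) * MvPowerSeries.X (1 : Fin 2)}) ⧸ Ideal.span {Ideal.Quotient.mk (Ideal.span {(MvPowerSeries.X (0 : Fin 2) : MvPowerSeries (Fin 2) k) * MvPowerSeries.X (1 : Fin 2)}) (MvPowerSeries.X (0 : Fin 2))})) 1) = 1 := by
  let x₀ : MvPowerSeries (Fin 2) k := MvPowerSeries.X (0 : Fin 2)
  let y₀ : MvPowerSeries (Fin 2) k := MvPowerSeries.X (1 : Fin 2)
  let q := Ideal.Quotient.mk (Ideal.span {x₀ * y₀})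
  let ε₀ : MvPowerSeries (Fin 2) k →ₐ[k] k :=
    { MvPowerSeries.constantCoeff with commutes' := fun c => by simp [MvPowerSeries.algebraMap_apply] }
  have hε₀ : ∀ a ∈ Ideal.span {x₀ * y₀}, ε₀ a = 0 := fun a ha => by
    obtain ⟨c, rfl⟩ := Ideal.mem_span_singleton'.1 ha
    simp [ε₀, x₀]
  refine ext_core k _ (q x₀) (q y₀) ?_ ?_ (Ideal.Quotient.liftₐ _ ε₀ hε₀) ?_
  · rw [← map_mul, Ideal.Quotient.eq_zero_iff_mem]
    exact Ideal.subset_span rfl
  · intro a ha
    obtain ⟨b, rfl⟩ := Ideal.Quotient.mk_surjective a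
    rw [← map_mul, Ideal.Quotient.eq_zero_iff_mem] at ha
    obtain ⟨c, hc⟩ := Ideal.mem_span_singleton'.1 ha
    have hy : y₀ ≠ 0 := fun h => by
      have := congrArg (MvPowerSeries.coeff (Finsupp.single (1 : Fin 2) 1)) h
      simp [y₀, MvPowerSeries.coeff_X] at this
    exact Ideal.mem_span_singleton'.2 ⟨q c, by
      rw [← map_mul]; congr 1; exact mul_right_cancel₀ hy (by linear_combination hc)⟩
  · ext a
    obtain ⟨b, rfl⟩ := Ideal.Quotient.mk_surjective a
    constructor
    · intro hb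
      have hb' : MvPowerSeries.constantCoeff b = 0 := hb
      have := Ideal.mem_map_of_mem q (mem_span_X k b hb')
      rwa [Ideal.map_span, Set.image_pair] at this
    · intro hb
      refine (Ideal.span_le.2 ?_ : Ideal.span {q x₀, q y₀} ≤ _) hb
      rintro _ (rfl | rfl) <;>
        simp [q, x₀, y₀, ε₀, RingHom.mem_ker]

end Groth.Agent.S13993
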