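import Groth.Statements.S13994
import Groth.Agent.CAlg7.PlanarMF
import Groth.Agent.TorMod7.Basic

set_option autoImplicit false
universe u
open CategoryTheory
open CAlg

namespace Groth.Agent.S13994

set_option linter.style.haveILetI false

open TensorProduct in
theorem lTensor_injective_aux {R : Type u} [CommRing R] {M L : Type u} [AddCommGroup M] [Module R M]
    [Module.Finite R M] [AddCommGroup L] [Module R L] (I J : Ideal R) (hI : I ≤ Module.annihilator R M)
    (hJ : J ≤ Module.annihilator R L) (x : R) (n : ℕ) (hxIJ : x ^ n ∈ I ⊔ J) (hxM : IsSMulRegular M x) {g : ℕ}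
    (p : (Fin g → R) →ₗ[R] L) (φ ψ : (Fin g → R) →ₗ[R] (Fin g → R)) (hp : Function.Surjective p)
    (hφp : Function.Exact φ p) : Function.Injective ((LinearMap.ker p).subtype.lTensor M) := by
  classical
  let φ' : (Fin g → R) →ₗ[R] LinearMap.ker p := φ.codRestrict _ fun v => hφp.apply_apply_eq_zero v
  have hφ' : Function.Surjective φ' := fun ⟨v, hv⟩ => by
    obtain ⟨w, hw⟩ := (hφp v).1 hv
    exact ⟨w, Subtype.ext hw⟩
  let e := piScalarRight R R M (Fin g)
  have hreg : IsSMulRegular (M ⊗[R] (Fin g → R)) x := fun a b hab => e.injective (funext fun k => hxM (by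
    have := congrFun (congrArg e hab) k
    simpa only [map_smul, Pi.smul_apply] using this))
  have hE : Function.Injective (φ.lTensor M) :=
    Groth.Agent.CAlg7.injective_of_coker_torsion x hreg _ n fun v => by
      have h0 : p.lTensor M (x ^ n • v) = 0 := by
        rw [map_smul]
        exact Groth.Agent.CAlg7.smul_tensor_eq_zero hI hJ hxIJ _
      exact ((lTensor_exact M hφp hp) _).1 h0
  intro a b hab
  obtain ⟨a, rfl⟩ := LinearMap.lTensor_surjective M hφ' a
  obtain ⟨b, rfl⟩ := LinearMap.lTensor_surjective M hφ' b
  have hc : (LinearMap.ker p).subtype ∘ₗ φ' = φ := rfl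
  have key : ∀ v, (LinearMap.ker p).subtype.lTensor M (φ'.lTensor M v) = φ.lTensor M v := fun v => by
    rw [← LinearMap.comp_apply, ← LinearMap.lTensor_comp, hc]
  rw [key, key] at hab
  rw [hE hab]

/-- Let S be a regular local ring of Krull dimension two, f a non-zero element of S and R the quotient
of S by f, assumed reduced. Let M and N be finitely generated R-modules, each admitting a
non-zero-divisor in the maximal ideal of R, annihilated by ideals I and J respectively, where I + J
contains a power of the maximal ideal. Then Tor₁^R(M, Hom_R(N, R)) = 0. (The published claim is made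
for the stalks at a common point of two subcurves without common component of a reduced projective
curve over a characteristic-zero algebraically closed field, the point being a planar singularity,
and the stalks of torsion-free sheaves supported on them; this row states it over an arbitrary
two-dimensional regular local ring. Tor is computed by resolving the second argument.) -/
theorem result (S : Type u) [CommRing S] [IsRegularLocalRing S] (hS : ringKrullDim S = 2) (f : S) (hf : f ≠ 0) (R : Type u) [CommRing R] [IsLocalRing R] [IsReduced R] (π : S →+* R) (hπ : Function.Surjective π) (hker : RingHom.ker π = Ideal.span {f}) (I J : Ideal R) (n : ℕ) (hIJ : IsLocalRing.maximalIdeal R ^ n ≤ I ⊔ J) (M N : Type u) [AddCommGroup M] [Module R M] [Module.Finite R M] [AddCommGroup N] [Module R N] [Module.Finite R N] (hI : I ≤ Module.annihilator R M) (hJ : J ≤ Module.annihilator R N) (x : R) (hx : x ∈ IsLocalRing.maximalIdeal R) (hxM : IsSMulRegular M x) (y : R) (hy : y ∈ IsLocalRing.maximalIdeal R) (hyN : IsSMulRegular N y) : Limits.IsZero (((Tor (ModuleCat.{u} R) 1).obj (ModuleCat.of R M)).obj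 (ModuleCat.of R (Module.Dual R N))) := by
  classical
  haveI : IsNoetherianRing R := isNoetherianRing_of_surjective S R π hπ
  haveI : Module.Finite R (Module.Dual R N) := inferInstance
  have hJ' : J ≤ Module.annihilator R (Module.Dual R N) := fun j hj =>
    Module.mem_annihilator.2 fun l => LinearMap.ext fun v => by
      rw [LinearMap.smul_apply, ← map_smul, Module.mem_annihilator.1 (hJ hj) v, map_zero, LinearMap.zero_apply]
  by_cases hz : ∃ z ∈ IsLocalRing.maximalIdeal R, IsSMulRegular R z
  · obtain ⟨z, hz, hzR⟩ := hz
    have hzL : IsSMulRegular (Module.Dual R N) z := fun a b hab => LinearMap.ext fun v => hzR (by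
      have := LinearMap.congr_fun hab v
      simpa only [LinearMap.smul_apply] using this)
    obtain ⟨g, p, φ, ψ, hp, hφp, -, -⟩ :=
      Groth.Agent.CAlg7.exists_matrix_factorization (M := Module.Dual R N) hS f hf π hπ hker z hz hzL
    rw [Groth.Agent.TorMod7.isZero_tor_one_iff_of_surjective (ModuleCat.of R M) p hp]
    exact lTensor_injective_aux I J hI hJ' x n (hIJ (Ideal.pow_mem_pow hx n)) hxM p φ ψ hp hφp
  · push Not at hz
    have hx0 : x = 0 := by
      by_contra hx0
      have hsub : (IsLocalRing.maximalIdeal R : Set R) ⊆ ⋃ P ∈ associatedPrimes R R, (P : Set R) := by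
        rw [biUnion_associatedPrimes_eq_compl_regular]
        exact fun a ha => hz a ha
      obtain ⟨P, hP, hle⟩ := (Ideal.subset_union_prime_finite (associatedPrimes.finite R R) (f := id) ⊤ ⊤
        (fun P hP _ _ => hP.isPrime)).1 hsub
      obtain rfl := (IsLocalRing.maximalIdeal.isMaximal R).eq_of_le hP.isPrime.ne_top hle
      obtain ⟨-, a, ha⟩ := (AssociatedPrimes.mem_iff.1 hP)
      have hax : x * a = 0 := by
        obtain ⟨k, hk⟩ : x ∈ ((⊥ : Submodule R R).colon {a}).radical := ha ▸ hx
        rw [Submodule.mem_colon_singleton, Submodule.mem_bot, smul_eq_mul] at hk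
        refine IsNilpotent.eq_zero ⟨k + 1, ?_⟩
        rw [mul_pow, pow_succ a]
        linear_combination (a ^ k * x) * hk
      by_cases hau : IsUnit a
      · exact hx0 ((hau.mul_left_eq_zero).1 hax)
      · obtain ⟨k, hk⟩ : a ∈ ((⊥ : Submodule R R).colon {a}).radical := ha ▸ (IsLocalRing.mem_maximalIdeal a).2 hau
        rw [Submodule.mem_colon_singleton, Submodule.mem_bot, smul_eq_mul] at hk
        have ha0 : a = 0 := IsNilpotent.eq_zero ⟨k + 1, by rw [pow_succ]; exact hk⟩
        subst ha0
        refine (IsLocalRing.maximalIdeal.isMaximal R).ne_top ?_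
        rw [ha, Ideal.radical_eq_top, eq_top_iff]
        intro r _
        rw [Submodule.mem_colon_singleton, Submodule.mem_bot, smul_zero]
    haveI : Subsingleton M := subsingleton_of_forall_eq 0 fun m => hxM (by simp [hx0])
    obtain ⟨g, p, hp⟩ := Module.Finite.exists_fin' R (Module.Dual R N)
    rw [Groth.Agent.TorMod7.isZero_tor_one_iff_of_surjective (ModuleCat.of R M) p hp]
    haveI : Subsingleton (TensorProduct R M (LinearMap.ker p)) := by
      refine subsingleton_of_forall_eq 0 fun t => ?_
      induction t using TensorProduct.induction_on with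
      | zero => rfl
      | add a b ha hb => rw [ha, hb, add_zero]
      | tmul m l => rw [Subsingleton.elim m 0, TensorProduct.zero_tmul]
    exact fun a b _ => Subsingleton.elim (α := TensorProduct R M (LinearMap.ker p)) a b

end Groth.Agent.S13994
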