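import Groth.Statements.S13995
import Mathlib.RingTheory.Ideal.MinimalPrime.Localization
import Mathlib.RingTheory.LocalProperties.Reduced
import Mathlib.RingTheory.KrullDimension.Zero
import Mathlib.RingTheory.Ideal.AssociatedPrime.Basic
import Mathlib.RingTheory.Support
import Mathlib.Algebra.Module.LocalizedModule.Exact
import Mathlib.LinearAlgebra.FiniteDimensional.Lemmas

set_option autoImplicit false
universe u
open CAlg

namespace Groth.Agent.S13995

/-- Let R be a reduced Noetherian ring, M a finitely generated R-module all of whose associated primes
are minimal primes of R and whose localization at each minimal prime p is one-dimensional over the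
field R_p, and let g : M → Q be a surjection onto a finitely generated R-module Q all of whose
associated primes are minimal primes of R. Then the kernel of g is the intersection, over the
minimal primes p of R lying in the support of Q, of the kernels of the localization maps M → M_p.
(The published statement is for a torsion-free coherent sheaf F of uniform rank one on a reduced
connected projective curve over a characteristic-zero algebraically closed field: its non-zero
torsion-free quotients are exactly the maximal torsion-free quotients F_D of the restrictions of F
to subcurves D; this row is the corresponding statement for modules over a reduced Noetherian ring,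
a subcurve being a set of minimal primes, and identifies each torsion-free quotient with F_D for D
the set of generic points of its support.) -/
theorem result (R : Type u) [CommRing R] [IsNoetherianRing R] [IsReduced R] (M : Type u) [AddCommGroup M] [Module R M] [Module.Finite R M] (hM : associatedPrimes R M ⊆ minimalPrimes R) (hrk : ∀ p : PrimeSpectrum R, p.asIdeal ∈ minimalPrimes R → Module.finrank (Localization.AtPrime p.asIdeal) (LocalizedModule p.asIdeal.primeCompl M) = 1) (Q : Type u) [AddCommGroup Q] [Module R Q] [Module.Finite R Q] (hQ : associatedPrimes R Q ⊆ minimalPrimes R) (g : M →ₗ[R] Q) (hg : Function.Surjective g) : LinearMap.ker g = ⨅ p ∈ {p : PrimeSpectrum R | p.asIdeal ∈ minimalPrimes R ∧ p ∈ Module.support R Q}, LinearMap.ker (LocalizedModule.mkLinearMap p.asIdeal.primeCompl M) := by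
  classical
  have hle : ∀ p : PrimeSpectrum R, p.asIdeal ∈ minimalPrimes R → p ∈ Module.support R Q →
      ∀ x ∈ LinearMap.ker g, LocalizedModule.mkLinearMap p.asIdeal.primeCompl M x = 0 := by
    intro p hp hs x hx
    let Rp := Localization.AtPrime p.asIdeal
    haveI : Ring.KrullDimLE 0 Rp := .of_isLocalization _ hp _
    letI : Field Rp := Ring.KrullDimLE.isField_of_isReduced.toField
    haveI : Module.Finite Rp (LocalizedModule p.asIdeal.primeCompl M) :=
      Module.finite_of_finrank_eq_succ (hrk p hp)
    haveI : Nontrivial (LocalizedModule p.asIdeal.primeCompl Q) := Module.mem_support_iff.1 hs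
    let gp := LocalizedModule.map p.asIdeal.primeCompl g
    have hgp : Function.Surjective gp := LocalizedModule.map_surjective _ g hg
    have hinj : Function.Injective gp := by
      rw [← LinearMap.ker_eq_bot]
      refine Submodule.finrank_eq_zero.1 ?_
      have h1 := LinearMap.finrank_range_add_finrank_ker gp
      rw [LinearMap.range_eq_top.2 hgp, finrank_top, hrk p hp] at h1
      haveI : Module.Finite Rp (LocalizedModule p.asIdeal.primeCompl Q) := Module.Finite.of_surjective gp hgp
      have h2 : 0 < Module.finrank Rp (LocalizedModule p.asIdeal.primeCompl Q) := Module.finrank_pos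
      have h4 : ∀ a b : ℕ, a + b = 1 → 0 < a → b = 0 := fun a b => by omega
      exact h4 _ _ h1 h2
    refine hinj ?_
    show gp (LocalizedModule.mk x 1) = gp 0
    rw [map_zero]
    show LocalizedModule.map _ g _ = 0
    rw [LocalizedModule.map_mk, show g x = 0 from hx, LocalizedModule.zero_mk]
  refine le_antisymm (le_iInf₂ fun p hp x hx => hle p hp.1 hp.2 x hx) ?_
  intro x hx
  simp only [Submodule.mem_iInf, LinearMap.mem_ker] at hx
  by_contra hne
  obtain ⟨P, hP, hle'⟩ := exists_le_isAssociatedPrime_of_isNoetherianRing R (g x) hne
  have hPmin : P ∈ minimalPrimes R := hQ hP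
  haveI := hPmin.1.1
  have hsupp : (⟨P, this⟩ : PrimeSpectrum R) ∈ Module.support R Q := by
    rw [Module.mem_support_iff_exists_annihilator]
    exact ⟨g x, fun c hc => hle' (by
      rw [Submodule.mem_colon_singleton, Submodule.mem_bot]
      exact (Submodule.mem_annihilator_span_singleton _ _).1 hc)⟩
  obtain ⟨c, hc⟩ := LocalizedModule.mk_eq.1 ((hx ⟨P, this⟩ ⟨hPmin, hsupp⟩).trans (LocalizedModule.zero_mk 1).symm)
  refine c.2 (hle' ?_)
  rw [Submodule.mem_colon_singleton, Submodule.mem_bot]
  rw [one_smul, one_smul, smul_zero, Submonoid.smul_def] at hc
  rw [← map_smul, hc, map_zero]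

end Groth.Agent.S13995
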