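import Groth.Statements.S13996
import Mathlib.RingTheory.Ideal.MinimalPrime.Localization
import Mathlib.RingTheory.Ideal.MinimalPrime.Noetherian
import Mathlib.RingTheory.Ideal.AssociatedPrime.Basic
import Mathlib.RingTheory.KrullDimension.Basic
import Mathlib.RingTheory.Nilpotent.Lemmas

set_option autoImplicit false
universe u
open CAlg

namespace Groth.Agent.S13996

/-- Let R be a reduced Noetherian local ring of Krull dimension one with maximal ideal m, and M a
non-zero finitely generated R-module. Then M is torsion-free in the sense that no element of m which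
is a non-zero-divisor on R is a zero-divisor on M, if and only if M has depth one, i.e. some element
of m is a non-zero-divisor on M. (The published statement is for a non-zero coherent sheaf F on a
connected reduced projective curve over a characteristic-zero algebraically closed field and asserts
the equivalence of: F torsion-free in the above sense at every closed point; F pure of dimension
one; depth of F_p equal to one at every closed point p. This row is the equivalence of the first and
third conditions at a single closed point p with F_p ≠ 0; at points outside the support the third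
condition as published cannot hold, so the row assumes the stalk non-zero.) -/
theorem result (R : Type u) [CommRing R] [IsLocalRing R] [IsNoetherianRing R] [IsReduced R] (hdim : ringKrullDim R = 1) (M : Type u) [AddCommGroup M] [Module R M] [Module.Finite R M] [Nontrivial M] : (∀ r : R, r ∈ IsLocalRing.maximalIdeal R → IsSMulRegular R r → IsSMulRegular M r) ↔ (∃ x : R, x ∈ IsLocalRing.maximalIdeal R ∧ IsSMulRegular M x) := by
  classical
  let m := IsLocalRing.maximalIdeal R
  haveI : Ring.KrullDimLE 1 R := Ring.krullDimLE_iff.2 (by rw [hdim]; rfl)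
  have hone : ∀ P : Ideal R, P.IsPrime → P ∈ minimalPrimes R ∨ P = m := fun P hP =>
    (Ring.krullDimLE_one_iff.1 ‹_› P hP).imp_right fun h => IsLocalRing.eq_maximalIdeal h
  constructor
  · intro h
    have hmn : m ∉ minimalPrimes R := by
      intro hmin
      haveI : Ring.KrullDimLE 0 R := Ring.krullDimLE_zero_iff.2 fun P hP => by
        have hle : P ≤ m := IsLocalRing.le_maximalIdeal hP.ne_top
        rw [le_antisymm hle (hmin.2 ⟨hP, bot_le⟩ hle)]
        exact IsLocalRing.maximalIdeal.isMaximal R
      have h0 : ringKrullDim R ≤ 0 := Ring.krullDimLE_iff.1 ‹_›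
      rw [hdim] at h0
      exact absurd h0 (by decide)
    have hfinP : (minimalPrimes R).Finite := minimalPrimes.finite_of_isNoetherianRing R
    obtain ⟨x, hxm, hx⟩ : ∃ x ∈ m, ∀ P ∈ minimalPrimes R, x ∉ P := by
      by_contra hcon
      simp only [not_exists, not_and, not_forall, not_not] at hcon
      have hsub : (m : Set R) ⊆ ⋃ P ∈ (hfinP.toFinset : Set (Ideal R)), (id P : Ideal R) := by
        intro x hx
        obtain ⟨P, hP, hxP⟩ := hcon x hx
        exact Set.mem_biUnion (hfinP.mem_toFinset.2 hP) hxP
      obtain ⟨P, hP, hle⟩ := (Ideal.subset_union_prime (s := hfinP.toFinset) (⊥ : Ideal R) ⊥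
        (fun P hP _ _ => (hfinP.mem_toFinset.1 hP).1.1)).1 hsub
      have hP' := hfinP.mem_toFinset.1 hP
      exact hmn (le_antisymm hle (IsLocalRing.le_maximalIdeal hP'.1.1.ne_top) ▸ hP')
    refine ⟨x, hxm, h x hxm (IsSMulRegular.of_right_eq_zero_of_smul fun a ha => ?_)⟩
    refine (mem_nilradical.1 ?_).eq_zero
    rw [nilradical, ← Ideal.sInf_minimalPrimes, Submodule.mem_sInf]
    intro P hP
    rw [smul_eq_mul] at ha
    exact (hP.1.1.mem_or_mem (ha ▸ zero_mem P)).resolve_left (hx P hP)
  · rintro ⟨x, hxm, hx⟩ r hrm hr
    refine IsSMulRegular.of_right_eq_zero_of_smul fun a ha => ?_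
    by_contra hne
    obtain ⟨P, hP, hle⟩ := exists_le_isAssociatedPrime_of_isNoetherianRing R a hne
    have hrP : r ∈ P := hle (by rw [Submodule.mem_colon_singleton, Submodule.mem_bot]; exact ha)
    rcases hone P hP.isPrime with hmin | hm
    · refine notMem_nonZeroDivisors_of_mem_mem_minimalPrimes hrP hmin ?_
      rw [mem_nonZeroDivisors_iff_left]
      intro z hz
      exact hr (show r • z = r • 0 by rw [smul_eq_mul, hz, smul_zero])
    · have : x ∈ ⋃ p ∈ associatedPrimes R M, (p : Set R) :=
        Set.mem_biUnion hP (hm ▸ hxm : x ∈ P)
      rw [biUnion_associatedPrimes_eq_zero_divisors] at this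
      obtain ⟨z, hz, hxz⟩ := this
      exact hz (hx (show x • z = x • 0 by rw [hxz, smul_zero]))

end Groth.Agent.S13996
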