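import Groth.Statements.S13998
import Groth.Agent.MP99.Basic
import Mathlib.RingTheory.Finiteness.NilpotentKer
import Mathlib.AlgebraicGeometry.ZariskisMainTheorem
import Mathlib.AlgebraicGeometry.Noetherian
import Groth.Agent.FlatMor68.ThickeningFT

set_option autoImplicit false
universe u
open FlatMor

namespace Groth.Agent.S13998

open CategoryTheory CategoryTheory.Limits AlgebraicGeometry TopologicalSpace Groth.Agent.FlatMor68.ThickeningFT

open AlgebraicGeometry CategoryTheory in
/-- Consider a cartesian square of schemes F₀ ≫ j = i ≫ F (so Y₀ = Y ×_X X₀) in which i : Y₀ ⟶ Y and j :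
X₀ ⟶ X are closed immersions surjective on points whose ideals are locally nilpotent (nilpotent on
every affine open), and suppose moreover that the ideal of j is of finite type (finitely generated
on every affine open of X). Then F : Y ⟶ X is finite if and only if F₀ : Y₀ ⟶ X₀ is finite. -/
theorem result {X X₀ Y Y₀ : Scheme.{u}}
    (F : Y ⟶ X) (F₀ : Y₀ ⟶ X₀) (i : Y₀ ⟶ Y) (j : X₀ ⟶ X)
    (hi : MoreMor.IsThickening i) (hj : MoreMor.IsThickening j)
    (hinil : ∀ U : Y.affineOpens, IsNilpotent (i.ker.ideal U))
    (hjnil : ∀ U : X.affineOpens, IsNilpotent (j.ker.ideal U))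
    (hfg : ∀ U : X.affineOpens, (j.ker.ideal U).FG)
    (hc : IsPullback F₀ i j F) :
    IsFinite F ↔ IsFinite F₀ := by
  have := hi.1
  have := hi.2
  have := hj.1
  refine ⟨fun h => MorphismProperty.of_isPullback hc.flip h, fun h => ?_⟩
  have hker : i.ker = j.ker.comap F := by
    rw [← Scheme.IdealSheafData.ker_fst_of_isClosedImmersion, ← hc.flip.isoPullback_hom_fst,
      Scheme.Hom.ker_comp_of_isIso]
  have hfg' : ∀ (U : X.affineOpens) (V : Y.affineOpens), V.1 ≤ F ⁻¹ᵁ U.1 →
      (i.ker.ideal V).FG ∧ IsNilpotent (i.ker.ideal V) := by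
    intro U V e
    refine ⟨?_, hinil V⟩
    rw [hker, Groth.Agent.MP99.ideal_comap _ F U V e]
    exact (hfg U).map _
  have hlft : LocallyOfFiniteType F := (lft_iff F F₀ i j hfg' hc.w).2 inferInstance
  have : UniversallyClosed (i ≫ F) := by rw [← hc.w]; infer_instance
  have : UniversallyClosed F := UniversallyClosed.of_comp_surjective i F
  have : IsSeparated F := by
    have hs : IsSeparated (i ≫ F) := by rw [← hc.w]; infer_instance
    exact isSeparated_of_comp_surjective i F
  have : IsProper F := {}
  have : LocallyQuasiFinite F := LocallyQuasiFinite.of_finite_preimage_singleton F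
    (finite_preimage_of_bijective_comp F F₀ i j j.isClosedEmbedding.injective
      (fun x => F₀.finite_preimage_singleton x) hc.w)
  exact IsFinite.of_isProper_of_locallyQuasiFinite F

end Groth.Agent.S13998
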