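import Groth.Statements.S13999
import Groth.Agent.FrobRank31.Rank

set_option autoImplicit false
universe u
open FrobAlg
open scoped TensorProduct

namespace Groth.Agent.S13999

/-- Let p be a prime, A a commutative ring of characteristic p and B a smooth A-algebra (of
characteristic p) such that the Kähler differentials Ω_{B/A} have rank r at every prime of B, i.e. B
is smooth of relative dimension r over A. Regard B as an algebra over its Frobenius twist B^{(p)} =
B ⊗_{A,Frob} A through the relative Frobenius b ⊗ a ↦ b^p a. Then B is a finite projective
B^{(p)}-module whose rank at every prime of B^{(p)} is p^r: the relative Frobenius is finite and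
locally free of rank p^r. -/
theorem result (p : ℕ) [Fact p.Prime]
    (A : Type u) [CommRing A] [CharP A p] (B : Type u) [CommRing B] [Algebra A B] [CharP B p]
    [Algebra.Smooth A B] (r : ℕ)
    (hr : ∀ q : PrimeSpectrum B, Module.rankAtStalk (R := B) (KaehlerDifferential A B) q = r) :
    letI := (FrobAlg.relFrob p A B).toAlgebra
    Module.Finite (FrobAlg.BaseChange p A B) B ∧ Module.Projective (FrobAlg.BaseChange p A B) B ∧
      ∀ q : PrimeSpectrum (FrobAlg.BaseChange p A B),
        Module.rankAtStalk (R := FrobAlg.BaseChange p A B) B q = p ^ r := by
  letI := (FrobAlg.relFrob p A B).toAlgebra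
  let R := FrobAlg.BaseChange p A B
  have hfin : Module.Finite R B := by
    have hint : Algebra.IsIntegral R B := ⟨fun x => IsIntegral.of_pow (n := p) (Fact.out : p.Prime).pos (by
      have : FrobAlg.relFrob p A B (x ⊗ₜ[A] 1) = x ^ p := by
        rw [FrobAlg53.relFrob_tmul, map_one, map_one, mul_one]
      rw [← this]
      exact isIntegral_algebraMap)⟩
    have hft : Algebra.FiniteType R B := by
      refine RingHom.finiteType_algebraMap.1 (RingHom.FiniteType.of_comp_finiteType
        (f := (algebraMap (FrobAlg.Twist p A) R).comp (FrobAlg.toTwist p A).toRingHom) ?_)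
      rw [show (algebraMap R B).comp ((algebraMap (FrobAlg.Twist p A) R).comp (FrobAlg.toTwist p A).toRingHom) = algebraMap A B from FrobRank31.relFrob_comp p A B]
      exact RingHom.finiteType_algebraMap.2 inferInstance
    exact Algebra.IsIntegral.finite
  have hfp : Module.FinitePresentation R B := by
    have : Algebra.FinitePresentation R B := by
      refine RingHom.finitePresentation_algebraMap.1 (RingHom.FinitePresentation.of_comp_finiteType
        ((algebraMap (FrobAlg.Twist p A) R).comp (FrobAlg.toTwist p A).toRingHom) ?_ ?_)
      · rw [show (algebraMap R B).comp ((algebraMap (FrobAlg.Twist p A) R).comp (FrobAlg.toTwist p A).toRingHom) = algebraMap A B from FrobRank31.relFrob_comp p A B]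
        exact RingHom.finitePresentation_algebraMap.2 inferInstance
      · exact (FrobRank31.finiteType_baseChange p A B).comp
          (RingHom.FiniteType.of_surjective _ (FrobAlg.toTwist p A).surjective)
    exact Module.FinitePresentation.of_finite_of_finitePresentation R B
  have hflat : Module.Flat R B := RelFrob7.flat_relFrob_of_smooth p A B
  refine ⟨hfin, Module.Flat.projective_of_finitePresentation, fun q => ?_⟩
  exact FrobRank31.rankAtStalk_eq p A B r hr hfin q

end Groth.Agent.S13999
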