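import Groth.Statements.S14000
import Mathlib.RingTheory.Spectrum.Prime.FreeLocus
import Mathlib.RingTheory.LocalRing.Module
import Mathlib.Algebra.Homology.ShortComplex.ModuleCat
import Mathlib.Algebra.Ring.NegOnePow
import Mathlib.Algebra.Category.ModuleCat.Basic
import Mathlib.RingTheory.Localization.BaseChange
import Mathlib.LinearAlgebra.Dimension.Constructions

set_option autoImplicit false
universe u
open Perf

namespace Groth.Agent.S14000

open CategoryTheory CategoryTheory.Limits in
/-- Let A be a commutative ring and P a strictly perfect complex over A, that is a cochain complex of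
finitely generated projective A-modules which is zero outside a finite set s of degrees. Suppose the
cohomological support of P has positive codimension: for every minimal prime q of A and every degree
i the localization at q of the cohomology module H^i(P) is zero. Then the Euler characteristic of P
vanishes identically: at every prime of A the alternating sum over i ∈ s of the ranks of the P^i is
zero. -/
theorem result {A : Type u} [CommRing A]
    (P : CochainComplex (ModuleCat.{u} A) ℤ) (s : Finset ℤ)
    (hP : ∀ i : ℤ, Module.Finite A (P.X i) ∧ Module.Projective A (P.X i))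
    (hs : ∀ i : ℤ, i ∉ s → IsZero (P.X i))
    (hsupp : ∀ q : PrimeSpectrum A, q.asIdeal ∈ minimalPrimes A →
      ∀ i : ℤ, Subsingleton (LocalizedModule q.asIdeal.primeCompl (P.homology i))) :
    ∀ x : PrimeSpectrum A,
      (s.sum fun i => ((i.negOnePow : ℤˣ) : ℤ) * (Module.rankAtStalk (R := A) (P.X i) x : ℤ)) = 0 := by
  classical
  intro x
  obtain ⟨q, hq, hqx⟩ := Ideal.exists_minimalPrimes_le (I := ⊥) (J := x.asIdeal) bot_le
  have hqp : q.IsPrime := hq.1.1
  let qq : PrimeSpectrum A := ⟨q, hqp⟩
  let T := q.primeCompl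
  let B := Localization.AtPrime q
  have hr : ∀ i, Module.rankAtStalk (R := A) (P.X i) x = Module.finrank B (LocalizedModule T (P.X i)) := by
    intro i
    have := (hP i).1
    have := (hP i).2
    have : Module.FinitePresentation A (P.X i) := Module.finitePresentation_of_projective A _
    have hlc := Module.isLocallyConstant_rankAtStalk (R := A) (M := P.X i)
    have hop : IsOpen {y | Module.rankAtStalk (R := A) (P.X i) y = Module.rankAtStalk (R := A) (P.X i) x} :=
      hlc.isOpen_fiber _
    have hsp : qq ⤳ x := (PrimeSpectrum.le_iff_specializes qq x).mp hqx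
    exact (hsp.mem_open hop rfl).symm
  simp only [hr]
  let Q : ℤ → Type u := fun i => LocalizedModule T (P.X i)
  let D : ∀ i j, Q i →ₗ[B] Q j := fun i j => LocalizedModule.map T (P.d i j).hom
  have hDmk : ∀ i j (m : P.X i) (t : T), D i j (LocalizedModule.mk m t) = LocalizedModule.mk (P.d i j m) t :=
    fun i j m t => IsLocalizedModule.map_LocalizedModules T (P.d i j).hom m t
  have hD2 : ∀ i j l (z : Q i), D j l (D i j z) = 0 := by
    intro i j l z
    induction z using LocalizedModule.induction_on with | _ m s => ?_
    rw [hDmk, hDmk, ← ConcreteCategory.comp_apply, P.d_comp_d]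
    exact LocalizedModule.zero_mk s
  have hexA : ∀ i (m : P.X i), P.d i (i + 1) m = 0 → ∃ s : T, ∃ n : P.X (i - 1), P.d (i - 1) i n = (s : A) • m := by
    intro i m hm
    have h := hsupp qq hq i
    let S := P.sc' (i - 1) i (i + 1)
    have eh : P.homology i ≅ ModuleCat.of A (LinearMap.ker S.g.hom ⧸ LinearMap.range S.moduleCatToCycles) :=
      ShortComplex.homologyMapIso (P.isoSc' (i - 1) i (i + 1) (by simp) (by simp)) ≪≫ S.moduleCatHomologyIso
    let cls := eh.inv (Submodule.Quotient.mk (⟨m, hm⟩ : LinearMap.ker S.g.hom))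
    obtain ⟨s, hs⟩ := LocalizedModule.subsingleton_iff.mp h cls
    refine ⟨⟨s, hs.1⟩, ?_⟩
    have h0 : (Submodule.Quotient.mk (s • (⟨m, hm⟩ : LinearMap.ker S.g.hom)) :
        LinearMap.ker S.g.hom ⧸ LinearMap.range S.moduleCatToCycles) = 0 := by
      have := congrArg eh.hom hs.2
      rw [map_smul, map_zero, Iso.inv_hom_id_apply] at this
      exact this
    obtain ⟨n, hn⟩ := (Submodule.Quotient.mk_eq_zero _).mp h0
    exact ⟨n, congrArg Subtype.val hn⟩
  have hexB : ∀ i, LinearMap.ker (D i (i + 1)) = LinearMap.range (D (i - 1) i) := by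
    intro i
    refine le_antisymm (fun z hz => ?_) (by rintro _ ⟨w, rfl⟩; exact hD2 _ _ _ w)
    induction z using LocalizedModule.induction_on with | _ m s => ?_
    rw [LinearMap.mem_ker, hDmk] at hz
    obtain ⟨t, ht⟩ := LocalizedModule.mk_eq.mp (hz.trans (LocalizedModule.zero_mk s).symm)
    simp only [smul_zero, Submonoid.smul_def, smul_smul] at ht
    obtain ⟨r, n, hn⟩ := hexA i ((((t : A) * s) : A) • m) (by rw [map_smul]; exact ht)
    refine ⟨LocalizedModule.mk n (r * (t * s) * s), ?_⟩
    rw [hDmk]
    refine LocalizedModule.mk_eq.mpr ⟨1, ?_⟩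
    change _ = (1 : T) • (r * (t * s) * s) • m
    simp only [Submonoid.smul_def, Submonoid.coe_mul, OneMemClass.coe_one, one_smul]
    rw [show (P.d (i - 1) i).hom n = _ from hn, smul_smul, smul_smul]
    congr 1
    ring
  have hfree : ∀ i, Module.Free B (Q i) ∧ Module.Finite B (Q i) := fun i => by
    have := (hP i).1
    have := (hP i).2
    have : Module.Projective B (Q i) := Module.Projective.of_equiv (LocalizedModule.equivTensorProduct T (P.X i)).symm
    have : Module.FinitePresentation B (Q i) := Module.finitePresentation_of_projective B _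
    exact ⟨Module.free_of_flat_of_isLocalRing, inferInstance⟩
  have hz0 : ∀ i, i ∉ s → Subsingleton (Q i) := fun i hi => by
    have : Subsingleton (P.X i) := ModuleCat.subsingleton_of_isZero (hs i hi)
    exact LocalizedModule.subsingleton_iff.mpr fun m => ⟨1, T.one_mem, Subsingleton.elim _ _⟩
  obtain ⟨b, N, hbN⟩ : ∃ (b : ℤ) (N : ℕ), ∀ i ∈ s, b - N ≤ i ∧ i < b := by
    refine ⟨(s.sup fun i => i.toNat) + 1, (s.sup fun i => i.toNat) + 1 + (s.sup fun i => (-i).toNat), fun i hi => ?_⟩
    have h1 := Finset.le_sup (f := fun i : ℤ => i.toNat) hi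
    have h2 := Finset.le_sup (f := fun i : ℤ => (-i).toNat) hi
    omega
  let Z : ∀ n : ℕ, Submodule B (Q (b - n)) := fun n => LinearMap.ker (D (b - n) (b - n + 1))
  have hout : ∀ n : ℕ, n = 0 ∨ N < n → b - (n : ℤ) ∉ s := fun n hn hmem => by
    have := hbN _ hmem
    omega
  have key : ∀ n : ℕ, Module.Free B (Z n) ∧ Module.Finite B (Z n) ∧
      (∀ n', n = n' + 1 → Module.finrank B (Q (b - n)) = Module.finrank B (Z n') + Module.finrank B (Z n)) := by
    intro n
    induction n with
    | zero =>
      have := hz0 _ (hout 0 (Or.inl rfl))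
      exact ⟨inferInstance, inferInstance, fun n' h => absurd h (Nat.succ_ne_zero n').symm⟩
    | succ n ih =>
      obtain ⟨hfZ, hfinZ, -⟩ := ih
      obtain ⟨hfQ, hfinQ⟩ := hfree (b - (n + 1 : ℕ))
      have hi : b - (n + 1 : ℕ) + 1 = b - (n : ℕ) := by push_cast; ring
      let g := D (b - (n + 1 : ℕ)) (b - (n : ℕ))
      have hrange : LinearMap.range g = Z n := by
        have := hexB (b - (n : ℕ))
        rw [show b - (n : ℕ) - 1 = b - ((n + 1 : ℕ) : ℤ) by push_cast; ring] at this
        exact this.symm
      have hker : LinearMap.ker g = Z (n + 1) := by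
        change LinearMap.ker (D _ (b - (n : ℕ))) = LinearMap.ker (D _ (b - (n + 1 : ℕ) + 1))
        rw [hi]
      let g' := g.codRestrict (Z n) fun z => hrange ▸ LinearMap.mem_range_self g z
      have hg' : Function.Surjective g' := fun y => by
        obtain ⟨z, hz⟩ : (y : Q (b - (n : ℕ))) ∈ LinearMap.range g := by rw [hrange]; exact y.2
        exact ⟨z, Subtype.ext hz⟩
      obtain ⟨σ, hσ⟩ := Module.projective_lifting_property g' LinearMap.id hg'
      have hkg : LinearMap.ker g' = Z (n + 1) := by rw [LinearMap.ker_codRestrict]; exact hker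
      have hker' : LinearMap.ker g' = LinearMap.range (LinearMap.id - σ.comp g') := by
        refine le_antisymm (fun z hz => ⟨z, by simp [LinearMap.mem_ker.mp hz]⟩) ?_
        rintro _ ⟨z, rfl⟩
        simpa using sub_eq_zero.mpr (LinearMap.congr_fun hσ (g' z)).symm
      have hproj : Module.Projective B (LinearMap.ker g') :=
        Module.Projective.of_split (LinearMap.ker g').subtype
          ((LinearMap.id - σ.comp g').codRestrict _ fun z => hker'.ge ⟨z, rfl⟩)
          (LinearMap.ext fun z => Subtype.ext (by simp [LinearMap.mem_ker.mp z.2]))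
      have hfin : Module.Finite B (LinearMap.ker g') := by rw [hker']; infer_instance
      have : Module.FinitePresentation B (LinearMap.ker g') := Module.finitePresentation_of_projective B _
      have hfree' : Module.Free B (LinearMap.ker g') := Module.free_of_flat_of_isLocalRing
      have he : Q (b - (n + 1 : ℕ)) ≃ₗ[B] Z n × LinearMap.ker g' := LinearEquiv.ofLinear
        (g'.prod ((LinearMap.id - σ.comp g').codRestrict _ fun z => hker'.ge ⟨z, rfl⟩))
        (σ.coprod (LinearMap.ker g').subtype)
        (LinearMap.ext fun y => by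
          have h1 := LinearMap.congr_fun hσ y.1
          simp only [LinearMap.comp_apply, LinearMap.id_apply] at h1
          ext <;> simp [h1, LinearMap.mem_ker.mp y.2.2])
        (LinearMap.ext fun z => by simp)
      refine ⟨hkg ▸ hfree', hkg ▸ hfin, fun n' hn' => ?_⟩
      obtain rfl : n = n' := by omega
      rw [he.finrank_eq, Module.finrank_prod, hkg]
  let z : ℕ → ℤ := fun n => Module.finrank B (Z n)
  have hend : ∀ n : ℕ, n = 0 ∨ N < n → z n = 0 := fun n hn => by
    have := hz0 _ (hout n hn)
    simp [z, Module.finrank_zero_of_subsingleton]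
  have hsum : ∀ M : ℕ, (∑ n ∈ Finset.range M, ((b - (n + 1 : ℕ)).negOnePow : ℤ) * Module.finrank B (Q (b - (n + 1 : ℕ)))) =
      ((b - (M : ℕ)).negOnePow : ℤ) * z M - (b.negOnePow : ℤ) * z 0 := by
    intro M
    induction M with
    | zero => simp
    | succ M ih =>
      rw [Finset.sum_range_succ, ih, (key (M + 1)).2.2 M rfl]
      have : ((b - (M : ℕ)).negOnePow : ℤ) = -((b - (M + 1 : ℕ)).negOnePow : ℤ) := by
        rw [show b - (M : ℤ) = b - (M + 1 : ℕ) + 1 by push_cast; ring, Int.negOnePow_succ, Units.val_neg]
      simp only [z, Nat.cast_add, this]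
      ring
  have hfin := hsum (N + 1)
  rw [hend (N + 1) (Or.inr (Nat.lt_succ_self N)), hend 0 (Or.inl rfl), mul_zero, mul_zero, sub_zero] at hfin
  rw [← hfin]
  have himg : s ⊆ (Finset.range (N + 1)).image fun n => b - ((n + 1 : ℕ) : ℤ) := fun i hi => by
    refine Finset.mem_image.mpr ⟨(b - i - 1).toNat, Finset.mem_range.mpr ?_, ?_⟩ <;> have := hbN i hi <;> omega
  rw [Finset.sum_subset himg fun i _ hi => by
    have := hz0 i hi
    simp [Q, Module.finrank_zero_of_subsingleton] at this ⊢]
  rw [Finset.sum_image fun a _ c _ h => by simpa using h]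

end Groth.Agent.S14000
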