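import Groth.Statements.S14002
import Groth.Agent.CAlg7.FlatLimit

set_option autoImplicit false
universe u
open CAlg

namespace Groth.Agent.S14002

open TensorProduct in
/-- Flatness of an adic morphism of locally Noetherian formal schemes is detected on the truncations.
Let B → A be a homomorphism of Noetherian rings and J an ideal of B such that A is adically
separated and complete with respect to the extended ideal JA. Then A is a flat B-module if and only
if for every n ≥ 1 the base change (B/Jⁿ) ⊗_B A = A/JⁿA is a flat (B/Jⁿ)-module. The ring B is not
assumed separated or complete for the J-adic topology. (The published statement is about an adic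
morphism of locally Noetherian formal schemes, so that both rings are adic there; the criterion
holds without that assumption on B.) -/
theorem result (B A : Type u) [CommRing B] [CommRing A]
    [IsNoetherianRing B] [IsNoetherianRing A] [Algebra B A] (J : Ideal B)
    [IsAdicComplete (J.map (algebraMap B A)) A] :
    Module.Flat B A ↔ ∀ n : ℕ, 0 < n → Module.Flat (B ⧸ J ^ n) ((B ⧸ J ^ n) ⊗[B] A) := by
  constructor
  · intro h n _
    infer_instance
  · intro h
    refine Groth.Agent.CAlg7.flat_of_forall_flat_mod_pow J
      (IsAdicComplete.le_jacobson_bot (J.map (algebraMap B A))) fun m hm => ?_
    have := h m hm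
    exact Module.Flat.of_linearEquiv ((TensorProduct.quotTensorEquivQuotSMul A
      (J ^ m)).extendScalarsOfSurjective Ideal.Quotient.mk_surjective).symm

end Groth.Agent.S14002
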