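import Groth.Statements.S14005
import Mathlib.AlgebraicGeometry.Properties

set_option autoImplicit false
universe u
open CategoryTheory AlgebraicGeometry
open CohTop

namespace Groth.Agent.S14005

/-- Take a scheme X with a locally Noetherian underlying topological space, F a sheaf of abelian groups
on X, x a point of X and s an element of the stalk F_x. Then the following are equivalent: (i) s is
the germ of a section t over some open neighbourhood U of x whose support in U is contained in the
closure of {x} (that is, s belongs to the subgroup Γ_x(F) of F_x); (ii) for every generization y ≠ x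
of x the image of s under the cospecialisation map F_x → F_y is zero (that is, viewed as a global
section of the inverse image of F on Spec O_{X,x}, s is supported at the closed point). -/
theorem result {X : Scheme.{u}}
    (hX : ∀ x : X, ∃ U : X.Opens, x ∈ U ∧ TopologicalSpace.NoetherianSpace U)
    (F : TopCat.Sheaf AddCommGrpCat.{u} X.carrier) (x : X) (s : F.presheaf.stalk x) :
    (∃ (U : X.Opens) (hx : x ∈ U) (t : F.presheaf.obj (Opposite.op U)),
        F.presheaf.germ U x hx t = s ∧
          ∀ (u : X) (hu : u ∈ U), F.presheaf.germ U u hu t ≠ 0 → u ∈ closure ({x} : Set X)) ↔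
      ∀ (y : X) (h : y ⤳ x), y ≠ x → F.presheaf.stalkSpecializes h s = 0 := by
    constructor
    · rintro ⟨U, hx, t, rfl, hsupp⟩ y h hne
      have hy : y ∈ U := h.mem_open U.isOpen hx
      rw [TopCat.Presheaf.germ_stalkSpecializes_apply]
      by_contra hne0
      have h' : x ⤳ y := specializes_iff_mem_closure.mpr (hsupp y hy hne0)
      exact hne ((h.antisymm h').eq)
    · intro hs
      obtain ⟨U0, hxU0, hU0⟩ := hX x
      obtain ⟨V, hxV, t0, ht0⟩ := F.presheaf.exists_germ_eq s
      let U : X.Opens := V ⊓ U0
      have hxU : x ∈ U := ⟨hxV, hxU0⟩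
      let t : F.presheaf.obj (Opposite.op U) := F.presheaf.map (homOfLE (inf_le_left : U ≤ V)).op t0
      have ht : F.presheaf.germ U x hxU t = s := by
        rw [TopCat.Presheaf.germ_res_apply]; exact ht0
      haveI : TopologicalSpace.NoetherianSpace ((U0 : Set X)) := hU0
      haveI : TopologicalSpace.NoetherianSpace U :=
        (Topology.IsEmbedding.inclusion (show (U : Set X) ⊆ (U0 : Set X) from fun z hz => hz.2)).isInducing.noetherianSpace
      haveI : QuasiSober U := (U.isOpenEmbedding').quasiSober
      let S : Set U := {u | F.presheaf.germ U u.1 u.2 t ≠ 0}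
      have hSc : IsClosed S := by
        rw [← isOpen_compl_iff, isOpen_iff_forall_mem_open]
        intro u hu
        simp only [Set.mem_compl_iff, S, Set.mem_setOf_eq, not_not] at hu
        obtain ⟨W, hW, iWU, iWU', heq⟩ := F.presheaf.germ_eq u.1 u.2 u.2 t 0 (by rw [hu, map_zero])
        refine ⟨Subtype.val ⁻¹' (W : Set X), fun v hv => ?_, W.isOpen.preimage continuous_subtype_val, hW⟩
        simp only [Set.mem_compl_iff, S, Set.mem_setOf_eq, not_not]
        rw [← TopCat.Presheaf.germ_res_apply F.presheaf iWU v.1 hv t, heq, map_zero, map_zero]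
      obtain ⟨T, hTf, hTc, hTi, hST⟩ := TopologicalSpace.NoetherianSpace.exists_finite_set_isClosed_irreducible hSc
      let xU : U := ⟨x, hxU⟩
      let B : Set U := ⋃ Z ∈ {Z ∈ T | xU ∉ Z}, Z
      have hB : IsClosed B := (hTf.subset (fun Z hZ => hZ.1)).isClosed_biUnion (fun Z hZ => hTc Z hZ.1)
      have hxB : xU ∉ B := by
        intro h
        obtain ⟨Z, hZ, hxZ⟩ := Set.mem_iUnion₂.mp h
        exact hZ.2 hxZ
      let W : X.Opens := ⟨Subtype.val '' Bᶜ, U.isOpen.isOpenMap_subtype_val _ hB.isOpen_compl⟩
      have hWU : W ≤ U := by rintro z ⟨v, -, rfl⟩; exact v.2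
      refine ⟨W, ⟨xU, hxB, rfl⟩, F.presheaf.map (homOfLE hWU).op t, ?_, ?_⟩
      · rw [TopCat.Presheaf.germ_res_apply]; exact ht
      · intro u hu hne
        rw [TopCat.Presheaf.germ_res_apply] at hne
        obtain ⟨v, hvB, rfl⟩ := hu
        have hvS : v ∈ S := hne
        rw [hST] at hvS
        obtain ⟨Z, hZT, hvZ⟩ := hvS
        have hxZ : xU ∈ Z := by
          by_contra hx'
          exact hvB (Set.mem_iUnion₂.mpr ⟨Z, ⟨hZT, hx'⟩, hvZ⟩)
        obtain ⟨η, hη⟩ := QuasiSober.sober (hTi Z hZT) (hTc Z hZT)
        have hηx : η ⤳ xU := hη.specializes hxZ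
        have hηS : η ∈ S := by rw [hST]; exact ⟨Z, hZT, hη.mem⟩
        have hηx' : η.1 ⤳ x := hηx.map continuous_subtype_val
        have hηeq : η.1 = x := by
          by_contra hne'
          apply hηS
          have := hs η.1 hηx' hne'
          rw [← ht, TopCat.Presheaf.germ_stalkSpecializes_apply] at this
          exact this
        have hv : η ⤳ v := hη.specializes hvZ
        have hv' := hv.map continuous_subtype_val
        change η.1 ⤳ v.1 at hv'
        rw [hηeq] at hv'
        exact specializes_iff_mem_closure.mp hv'

end Groth.Agent.S14005
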