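import Groth.Statements.S14006
import Groth.Agent.FLift27.Basic

set_option autoImplicit false
set_option backward.isDefEq.respectTransparency.types false
universe u
open CategoryTheory CategoryTheory.Limits AlgebraicGeometry
open FSch

namespace Groth.Agent.S14006

/-- Formal schemes are modelled as ℕ-indexed systems of thickenings. Let S be a locally Noetherian
scheme, 𝒥 a quasi-coherent ideal of O_S, 𝔖 the completion of S along 𝒥 (the system of the closed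
subschemes defined by the powers 𝒥^{n+1}) and S₀ its bottom level. Let X₀ and Y₀ be schemes smooth
over S₀ via a and b, f : X₀ ⟶ Y₀ a morphism with f ≫ b = a, and x a point of X₀. Then there are an
open neighbourhood U₀ of x and an open V₀ of Y₀ with f(U₀) ⊆ V₀, systems 𝔘 and 𝔙 with adic morphisms
p : 𝔘 ⟶ 𝔖 and q : 𝔙 ⟶ 𝔖 (all squares cartesian) all of whose levels are smooth, a morphism Φ : 𝔘 ⟶ 𝔙
with Φ ≫ q = p, and isomorphisms of the bottom levels of 𝔘 and 𝔙 with U₀ and V₀, compatible with the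
maps to S₀, under which the bottom level of Φ is the restriction U₀ ⟶ V₀ of f. In words: locally on
X₀ the morphism f has a smooth formal lifting over 𝔖. -/
theorem result (S : Scheme.{u}) [IsLocallyNoetherian S]
    (𝒥 : S.IdealSheafData) {X₀ Y₀ : Scheme.{u}}
    (a : X₀ ⟶ (FSch.completionAlong S 𝒥).X 0) (b : Y₀ ⟶ (FSch.completionAlong S 𝒥).X 0)
    [AlgebraicGeometry.Smooth a] [AlgebraicGeometry.Smooth b] (f : X₀ ⟶ Y₀) (w : f ≫ b = a) (x : X₀) :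
    ∃ (U₀ : X₀.Opens) (V₀ : Y₀.Opens) (hU : x ∈ U₀) (hUV : U₀ ≤ f ⁻¹ᵁ V₀)
      (𝔘 𝔙 : FSch.Sys.{u}) (p : 𝔘 ⟶ FSch.completionAlong S 𝒥) (q : 𝔙 ⟶ FSch.completionAlong S 𝒥)
      (Φ : 𝔘 ⟶ 𝔙) (eU : 𝔘.X 0 ≅ U₀.toScheme) (eV : 𝔙.X 0 ≅ V₀.toScheme),
      Φ ≫ q = p ∧ FSch.IsAdicHom p ∧ FSch.IsAdicHom q ∧
      (∀ n : ℕ, AlgebraicGeometry.Smooth ((p : FSch.Hom 𝔘 _).app n)) ∧
      (∀ n : ℕ, AlgebraicGeometry.Smooth ((q : FSch.Hom 𝔙 _).app n)) ∧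
      eU.hom ≫ U₀.ι ≫ a = (p : FSch.Hom 𝔘 _).app 0 ∧
      eV.hom ≫ V₀.ι ≫ b = (q : FSch.Hom 𝔙 _).app 0 ∧
      (Φ : FSch.Hom 𝔘 𝔙).app 0 ≫ eV.hom = eU.hom ≫ f.resLE V₀ U₀ hUV := by
  let i := completionToX S 𝒥 0
  obtain ⟨W, hW, hxW, -⟩ :=
    exists_isAffineOpen_mem_and_subset (U := (⊤ : S.Opens)) (x := i (b (f x))) trivial
  obtain ⟨V₀, hV₀, hxV, hVW⟩ :=
    exists_isAffineOpen_mem_and_subset (U := b ⁻¹ᵁ (i ⁻¹ᵁ W)) (x := f x) hxW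
  obtain ⟨U₀, hU₀, hxU, hUV⟩ := exists_isAffineOpen_mem_and_subset (U := f ⁻¹ᵁ V₀) (x := x) hxV
  have hUW : U₀ ≤ a ⁻¹ᵁ (i ⁻¹ᵁ W) := by
    rw [← w]
    exact fun y hy => hVW (hUV hy)
  obtain ⟨A, φA, kA, hA, hkA, sqA⟩ := FLift27.exists_smooth_model 𝒥 hW a hU₀ hUW
  obtain ⟨B, φB, kB, hB, hkB, sqB⟩ := FLift27.exists_smooth_model 𝒥 hW b hV₀ hVW
  haveI : Smooth (Spec.map φA) := (HasRingHomProperty.Spec_iff (P := @Smooth)).mpr hA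
  haveI : Smooth (Spec.map φB) := (HasRingHomProperty.Spec_iff (P := @Smooth)).mpr hB
  let jW : Spec Γ(S, W) ⟶ S := hW.fromSpec
  let eU : pullback (Spec.map φA ≫ jW) i ≅ (U₀ : Scheme.{u}) := sqA.isoPullback.symm
  let eV : pullback (Spec.map φB ≫ jW) i ≅ (V₀ : Scheme.{u}) := sqB.isoPullback.symm
  have hU1 : eU.hom ≫ kA = pullback.fst _ _ := sqA.isoPullback_inv_fst
  have hU2 : eU.hom ≫ U₀.ι ≫ a = pullback.snd _ _ := sqA.isoPullback_inv_snd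
  have hV1 : eV.hom ≫ kB = pullback.fst _ _ := sqB.isoPullback_inv_fst
  have hV2 : eV.hom ≫ V₀.ι ≫ b = pullback.snd _ _ := sqB.isoPullback_inv_snd
  have hres : f.resLE V₀ U₀ hUV ≫ V₀.ι ≫ b = U₀.ι ≫ a := by
    rw [Scheme.Hom.resLE_comp_ι_assoc, w]
  let Φ₀ : pullback (Spec.map φA ≫ jW) i ⟶ Spec B := eU.hom ≫ f.resLE V₀ U₀ hUV ≫ kB
  have hΦ₀ : Φ₀ ≫ Spec.map φB = pullback.fst _ _ ≫ Spec.map φA := by
    rw [← cancel_mono jW, ← hU1]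
    simp only [Φ₀, Category.assoc]
    rw [hkB, hkA, reassoc_of% hres]
  obtain ⟨Φ, hΦ, hΦ0⟩ := FLift27.exists_lift_sys 𝒥 φA φB hB jW Φ₀ hΦ₀
  refine ⟨U₀, V₀, hxU, hUV, FLift27.pullSys 𝒥 (Spec.map φA ≫ jW), FLift27.pullSys 𝒥 (Spec.map φB ≫ jW),
    FLift27.pullHom 𝒥 _, FLift27.pullHom 𝒥 _, Φ, eU, eV, hΦ, FLift27.isAdicHom_pullHom 𝒥 _,
    FLift27.isAdicHom_pullHom 𝒥 _, FLift27.smooth_pullHom 𝒥 _, FLift27.smooth_pullHom 𝒥 _, hU2, hV2, ?_⟩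
  let Φa : pullback (Spec.map φA ≫ jW) i ⟶ pullback (Spec.map φB ≫ jW) i := (Φ : FSch.Hom _ _).app 0
  have h2 : Φa ≫ pullback.snd _ _ = pullback.snd _ _ := congrArg (fun p => p.app 0) hΦ
  show Φa ≫ eV.hom = eU.hom ≫ f.resLE V₀ U₀ hUV
  rw [← cancel_mono eV.inv, Category.assoc, eV.hom_inv_id, Category.comp_id]
  apply pullback.hom_ext
  · refine hΦ0.trans ?_
    simp only [Φ₀, Category.assoc, ← hV1, Iso.inv_hom_id_assoc]
  · rw [h2, Category.assoc, Category.assoc, ← hV2, Iso.inv_hom_id_assoc, hres, hU2]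

end Groth.Agent.S14006
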