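import Groth.Statements.S1401
import Groth.Agent.FlatMor66.IndQA
import Groth.Agent.Desc59.DescQA
-- import your own Groth.Agent.* helpers here

set_option autoImplicit false
universe u
open FlatMor

namespace Groth.Agent.S1401

open AlgebraicGeometry CategoryTheory Limits in
/-- Let S' → S be flat, surjective and quasi-compact and let f' be the base change of f : X → S to S'.
If f' is ind-quasi-affine then so is f. -/
theorem result {X S X' S' : Scheme.{u}} (f : X ⟶ S) (f' : X' ⟶ S') (g' : X' ⟶ X) (g : S' ⟶ S)
    [Flat g] [Surjective g] [QuasiCompact g] (hc : IsPullback g' f' f g) (hf' : MoreMor.IsIndQuasiAffineHom f') : MoreMor.IsIndQuasiAffineHom f := by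
  rw [Groth.Agent.FlatMor66.isIndQuasiAffineHom_iff] at hf' ⊢
  intro V hV W hWV hW
  haveI : IsAffine (V : Scheme.{u}) := hV
  haveI := Groth.Agent.FlatMor66.compactSpace_toScheme hW
  let p := f.resLE V W hWV
  let q := g ∣_ V
  have key : ∀ (B : Scheme.{u}) (u : B ⟶ V.toScheme) (m : B ⟶ S') [IsAffine B] [IsOpenImmersion m],
      m ≫ g = u ≫ V.ι → Scheme.IsQuasiAffine (pullback p u) := by
    intro B u m _ _ hm
    let c : pullback p u ⟶ X' :=
      pullback.map p u f g W.ι m V.ι (Scheme.Hom.resLE_comp_ι f hWV) hm.symm ≫ hc.isoPullback.inv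
    have hc' : IsOpenImmersion c := inferInstance
    have : IsAffineHom (pullback.fst p u) :=
      MorphismProperty.pullback_fst (P := @IsAffineHom) p u inferInstance
    have : CompactSpace ↥(pullback p u) := QuasiCompact.compactSpace_of_compactSpace (pullback.fst p u)
    have h := hf' m.opensRange (isAffineOpen_opensRange m) c.opensRange (by
      rintro _ ⟨z, rfl⟩
      refine ⟨pullback.snd p u z, ?_⟩
      rw [← Scheme.Hom.comp_apply, ← Scheme.Hom.comp_apply]
      refine congrArg (fun φ : pullback p u ⟶ S' => φ z) ?_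
      simp only [c, Category.assoc, IsPullback.isoPullback_inv_snd, pullback.map, pullback.lift_snd]) (isCompact_range c.continuous)
    exact Groth.Agent.FlatMor66.qa_congr c.isoOpensRange h
  have hq : Mor2.IsQuasiAffine (pullback.snd p q) := by
    have h2 : ∀ B : (g ⁻¹ᵁ V).toScheme.Opens, IsAffineOpen B →
        Scheme.IsQuasiAffine (pullback.snd p q ⁻¹ᵁ B).toScheme := by
      intro B hB
      haveI : IsAffine (B : Scheme.{u}) := hB
      refine Groth.Agent.FlatMor66.qa_congr
        ((pullbackRestrictIsoRestrict (pullback.snd p q) B).symm ≪≫ pullbackLeftPullbackSndIso p q B.ι)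
        (key B (B.ι ≫ q) (B.ι ≫ (g ⁻¹ᵁ V).ι) ?_)
      simp [q]
    refine ⟨(quasiCompact_iff_forall_isAffineOpen).mpr fun B hB => ?_, h2⟩
    exact isCompact_iff_compactSpace.mpr (h2 B hB).toCompactSpace
  haveI := Groth.Agent.Desc59.descendsAlong_quasiAffine.{u}
  have hQ : (@Surjective ⊓ @Flat ⊓ @QuasiCompact : MorphismProperty Scheme.{u}) q :=
    ⟨⟨IsZariskiLocalAtTarget.restrict (P := @Surjective) inferInstance V,
      IsZariskiLocalAtTarget.restrict (P := @Flat) inferInstance V⟩,
      IsZariskiLocalAtTarget.restrict (P := @QuasiCompact) inferInstance V⟩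
  have hp : Mor2.IsQuasiAffine p := MorphismProperty.of_pullback_snd_of_descendsAlong
    (P := fun _ _ f => Mor2.IsQuasiAffine f) hQ hq
  have h3 := hp.2 ⊤ (isAffineOpen_top _)
  exact Groth.Agent.FlatMor66.qa_congr (Scheme.topIso _).symm h3

end Groth.Agent.S1401
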