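import Groth.Statements.S14018
import Mathlib.CategoryTheory.Sites.LocallySurjective
import Mathlib.CategoryTheory.Limits.Types.Limits

set_option autoImplicit false
open CategoryTheory CategoryTheory.Limits Opposite
universe w v u
open CohSite

namespace Groth.Agent.S14018

/-- Let (C, J) be a site with enough weakly contractible objects — every object V has a covering sieve
all of whose arrows factor through some weakly contractible object, an object U being weakly
contractible when every epimorphism of sheaves of sets (valued in a fixed universe) is surjective on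
sections over U. Then the topos of sheaves of sets is replete: if (F_n) is an inverse system of
sheaves of sets indexed by ℕ with every transition map F_(n+1) ⟶ F_n an epimorphism, then each
projection lim_n F_n ⟶ F_n is an epimorphism; the limit is taken as any limit cone. (The small
pro-étale site of a scheme is such a site.) -/
theorem result
    {C : Type u} [Category.{v} C] (J : GrothendieckTopology C)
    (hwc : ∀ V : C, ∃ S : Sieve V, S ∈ J V ∧ ∀ ⦃W : C⦄ (f : W ⟶ V), S.arrows f →
      ∃ (U : C) (g : W ⟶ U) (h : U ⟶ V), (∀ (A B : Sheaf J (Type w)) (ψ : A ⟶ B), Epi ψ → Function.Surjective (ψ.hom.app (op U))) ∧ g ≫ h = f)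
    (F : ℕᵒᵖ ⥤ Sheaf J (Type w))
    (hF : ∀ n : ℕ, Epi (F.map (homOfLE (Nat.le_succ n)).op))
    (c : Cone F) (hc : IsLimit c) (n : ℕ) :
    Epi (c.π.app (op n)) := by
  have : Sheaf.IsLocallySurjective (c.π.app (op n)) := by
    constructor
    intro V s
    obtain ⟨R, hR, hRB⟩ := hwc V
    refine J.superset_covering (fun W g hg => ?_) hR
    obtain ⟨U, a, b, hU, rfl⟩ := hRB g hg
    have hs : ∀ m : ℕ, Function.Surjective ((F.map (homOfLE (Nat.le_succ m)).op).hom.app (op U)) :=
      fun m => hU _ _ _ (hF m)
    choose up hup using hs
    let β : ∀ k, (F.obj (op (n + k))).obj.obj (op U) :=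
      fun k => Nat.rec ((F.obj (op n)).obj.map b.op s) (fun k t => up (n + k) t) k
    let ev := sheafToPresheaf J (Type w) ⋙ (evaluation Cᵒᵖ (Type w)).obj (op U)
    have hmap : ∀ (i j : ℕ) (hij : i ≤ j) (h : n + i ≤ n + j),
        (F ⋙ ev).map (homOfLE h).op (β j) = β i := by
      intro i j hij
      induction j, hij using Nat.le_induction with
      | base => intro h; rw [show (homOfLE h).op = 𝟙 (op (n + i)) from Subsingleton.elim _ _]; simp
      | succ j hij ih =>
        intro h
        rw [show (homOfLE h).op = (homOfLE (Nat.le_succ (n + j))).op ≫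
          (homOfLE (Nat.add_le_add_left hij n)).op from Subsingleton.elim _ _, Functor.map_comp,
          ConcreteCategory.comp_apply]
        exact (congrArg _ (hup (n + j) (β j))).trans (ih _)
    let α : (F ⋙ ev).sections := ⟨fun j => (F ⋙ ev).map (homOfLE (Nat.le_add_left j.unop n)).op
        (β j.unop), fun {j j'} f => by
      have hle : j'.unop ≤ j.unop := leOfHom f.unop
      dsimp only
      rw [← hmap j'.unop j.unop hle (Nat.add_le_add_left hle n), ← ConcreteCategory.comp_apply,
        ← ConcreteCategory.comp_apply, ← Functor.map_comp, ← Functor.map_comp]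
      exact congrArg (fun q => (F ⋙ ev).map q (β j.unop)) (Subsingleton.elim _ _)⟩
    obtain ⟨x, hx⟩ : ∃ x : c.pt.obj.obj (op U),
        (c.π.app (op n)).hom.app (op U) x = (F.obj (op n)).obj.map b.op s := by
      refine ⟨(Types.isLimitEquivSections (isLimitOfPreserves ev hc)).symm α, ?_⟩
      refine (Types.isLimitEquivSections_symm_apply (isLimitOfPreserves ev hc) α (op n)).trans ?_
      exact hmap 0 n (Nat.zero_le n) (Nat.le_add_left n n)
    refine ⟨c.pt.obj.map a.op x, ?_⟩
    refine (NatTrans.naturality_apply (c.π.app (op n)).hom a.op x).trans ?_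
    refine (congrArg ((F.obj (op n)).obj.map a.op) hx).trans ?_
    exact (ConcreteCategory.congr_hom ((F.obj (op n)).obj.map_comp b.op a.op) s).symm
  infer_instance

end Groth.Agent.S14018
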