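import Groth.Statements.S14020
import Mathlib.RingTheory.Noetherian.OfPrime
import Mathlib.RingTheory.HopkinsLevitzki

set_option autoImplicit false
universe u
open CAlg

namespace Groth.Agent.S14020

/-- Let R be a commutative ring and I a finitely generated ideal such that the quotient ring R/I is
artinian. Then R/I^n is artinian for every n. -/
theorem result
    (R : Type u) [CommRing R] (I : Ideal R) (hI : I.FG) [IsArtinianRing (R ⧸ I)] (n : ℕ) :
    IsArtinianRing (R ⧸ I ^ n) := by
  rcases n with _ | n
  · have : Subsingleton (R ⧸ I ^ 0) := by simp [Ideal.Quotient.subsingleton_iff]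
    infer_instance
  set q := Ideal.Quotient.mk (I ^ (n + 1))
  have hprime : ∀ P : Ideal (R ⧸ I ^ (n + 1)), P.IsPrime → I ≤ P.comap q := by
    intro P hP x hx
    have : q x ^ (n + 1) = 0 := by
      rw [← map_pow, Ideal.Quotient.eq_zero_iff_mem]
      exact Ideal.pow_mem_pow hx _
    exact hP.mem_of_pow_mem (n + 1) (this ▸ P.zero_mem)
  have hN : IsNoetherianRing (R ⧸ I ^ (n + 1)) := IsNoetherianRing.of_prime fun P hP => by
    classical
    obtain ⟨s, hs⟩ := (IsNoetherian.noetherian ((P.comap q).map (Ideal.Quotient.mk I)) :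
      ((P.comap q).map (Ideal.Quotient.mk I)).FG)
    obtain ⟨l, hl⟩ := hI
    have hmem : ∀ x ∈ s, ∃ y ∈ P.comap q, Ideal.Quotient.mk I y = x := fun x hx =>
      (Ideal.mem_map_iff_of_surjective _ Ideal.Quotient.mk_surjective).1
        (hs ▸ Ideal.subset_span hx)
    choose! g hg hg' using hmem
    have h2 : Ideal.FG (P.comap q) := by
      refine ⟨s.image g ∪ l, le_antisymm (Ideal.span_le.2 ?_) fun x hx => ?_⟩
      · intro x hx
        rcases Finset.mem_union.1 hx with h | h
        · obtain ⟨y, hy, rfl⟩ := Finset.mem_image.1 h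
          exact hg y hy
        · exact hprime P hP (hl ▸ Ideal.subset_span h)
      · rw [Finset.coe_union, Ideal.span_union, show Ideal.span (l : Set R) = I from hl,
          Finset.coe_image]
        have h1 : Ideal.Quotient.mk I x ∈ (Ideal.span (g '' (s : Set _))).map (Ideal.Quotient.mk I) := by
          rw [Ideal.map_span, ← Set.image_comp]
          have himg : (Ideal.Quotient.mk I ∘ g) '' (s : Set _) = (s : Set _) :=
            (Set.image_congr fun y hy => hg' y hy).trans (Set.image_id _)
          rw [himg]
          exact hs.ge (Ideal.mem_map_of_mem _ hx)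
        obtain ⟨y, hy, hyx⟩ := (Ideal.mem_map_iff_of_surjective _ Ideal.Quotient.mk_surjective).1 h1
        rw [← add_sub_cancel y x]
        exact Submodule.add_mem_sup hy (Ideal.Quotient.eq.1 hyx.symm)
    have h3 := Ideal.FG.map h2 q
    rwa [Ideal.map_comap_of_surjective _ Ideal.Quotient.mk_surjective] at h3
  rw [isArtinianRing_iff_krullDimLE_zero]
  rw [Ring.krullDimLE_zero_iff]
  intro P hP
  have hle := hprime P hP
  have : ((P.comap q).map (Ideal.Quotient.mk I)).IsPrime :=
    Ideal.map_isPrime_of_surjective Ideal.Quotient.mk_surjective (by rw [Ideal.mk_ker]; exact hle)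
  have hmax := (IsArtinianRing.isMaximal_of_isPrime ((P.comap q).map (Ideal.Quotient.mk I)))
  have h4 := Ideal.comap_isMaximal_of_surjective (Ideal.Quotient.mk I) Ideal.Quotient.mk_surjective
    (K := (P.comap q).map (Ideal.Quotient.mk I))
  rw [Ideal.comap_map_mk hle] at h4
  have h5 := Ideal.map_eq_top_or_isMaximal_of_surjective q Ideal.Quotient.mk_surjective h4
  rw [Ideal.map_comap_of_surjective _ Ideal.Quotient.mk_surjective] at h5
  exact h5.resolve_left hP.ne_top

end Groth.Agent.S14020
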