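import Groth.Statements.S14025
import Groth.Agent.EtModW45.ImageMod

set_option autoImplicit false
open CategoryTheory CategoryTheory.Limits AlgebraicGeometry Opposite
universe u
open EtModW

namespace Groth.Agent.S14025

/-- Let X be a scheme, Λ a Noetherian commutative ring and F a sheaf of Λ-modules on the small pro-étale
site of X. Then F is constructible — isomorphic to the pro-étale pullback ε⁻¹E of a constructible
sheaf E of Λ-modules on the small étale site — exactly when each affine open U ⊆ X can be split into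
finitely many constructible locally closed strata, the images of immersions g_i : T_i ⟶ X, such that
for each i the pullback of F to the small pro-étale site of T_i is isomorphic to the pro-étale
pullback of a finite-type locally constant sheaf of Λ-modules on the small étale site of T_i.
(Continuity of the inclusions of étale into pro-étale sites and of the base-change functors between
pro-étale sites is carried as binders.) -/
theorem result
    (Λ : Type (u + 1)) [CommRing Λ] [IsNoetherianRing Λ]
    (X : Scheme.{u}) [∀ T : Scheme.{u}, ProEtS.EpsCont T]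
    [∀ (T : Scheme.{u}) (g : T ⟶ X), ProEtS.PCont g]
    (F : EtModW.ModP Λ X) :
    (∃ E : EtModW.Mod Λ X, EtModW.IsConstructible Λ E ∧ Nonempty ((EtModW.epsPullMod Λ X).obj E ≅ F)) ↔
      ∀ U : X.Opens, IsAffineOpen U →
        ∃ (m : ℕ) (T : Fin m → Scheme.{u}) (g : ∀ i, T i ⟶ X),
          (∀ i, IsImmersion (g i)) ∧
          (∀ i, Topology.IsConstructible ((Subtype.val : ↥(U : Set X) → X) ⁻¹' Set.range (fun t => (g i).base t))) ∧
          Pairwise (fun i j => Disjoint (Set.range (fun t => (g i).base t)) (Set.range (fun t => (g j).base t))) ∧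
          (⋃ i, Set.range (fun t => (g i).base t)) = (U : Set X) ∧
          ∀ i, ∃ E : EtModW.Mod Λ (T i), EtModW.IsFTLocConst Λ E ∧
            Nonempty ((EtModW.epsPullMod Λ (T i)).obj E ≅ (((ProEtS.bcP (g i)).sheafPullback (ModuleCat.{u + 1} Λ) (Scheme.ProEt.topology X) (Scheme.ProEt.topology (T i)))).obj F) :=
  by
  refine ⟨?_, fun h => ?_⟩
  · rintro ⟨E, hE, ⟨e⟩⟩ U hU
    obtain ⟨m, T, g, h1, h2, h3, h4, h5⟩ := hE U hU
    exact ⟨m, T, g, h1, h2, h3, h4, fun i => ⟨_, h5 i, ⟨(Groth.Agent.EtModW45.epsPullIso Λ (g i)).app E ≪≫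
      ((ProEtS.bcP (g i)).sheafPullback (ModuleCat.{u + 1} Λ) (Scheme.ProEt.topology X)
        (Scheme.ProEt.topology (T i))).mapIso e⟩⟩⟩
  · obtain ⟨E, ⟨e⟩⟩ := Groth.Agent.EtModW45.exists_eps_iso_of_strata F fun U hU => by
      obtain ⟨m, T, g, h1, h2, -, h4, h5⟩ := h U hU
      exact ⟨m, T, g, h1, h2, h4, fun i => (h5 i).imp fun _ hE => hE.2⟩
    refine ⟨E, fun U hU => ?_, ⟨e⟩⟩
    obtain ⟨m, T, g, h1, h2, h3, h4, h5⟩ := h U hU
    refine ⟨m, T, g, h1, h2, h3, h4, fun i => ?_⟩
    obtain ⟨E', hE', ⟨e'⟩⟩ := h5 i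
    exact Groth.Agent.ModCons93.ftlc_of_iso ((Groth.Agent.EtModW45.epsFF Λ (T i)).preimageIso
      (e' ≪≫ ((ProEtS.bcP (g i)).sheafPullback (ModuleCat.{u + 1} Λ) (Scheme.ProEt.topology X)
        (Scheme.ProEt.topology (T i))).mapIso e.symm ≪≫ ((Groth.Agent.EtModW45.epsPullIso Λ (g i)).app E).symm)) hE'

end Groth.Agent.S14025
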