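import Groth.Statements.S14027
import Groth.Agent.Fib44.FullyFaithfulSite
import Mathlib.Algebra.Category.Grp.Limits

set_option autoImplicit false
open CategoryTheory CategoryTheory.Limits Opposite
universe v u
open CohSite

namespace Groth.Agent.S14027

/-- Let C be a site with topology J and U an object of C such that every object has at most one morphism
to U (a subobject of the terminal object). For abelian sheaves, let j^* be restriction to the
localized site C/U and j_! its left adjoint (extension by zero), which exists under the stated
sheafification and Kan-extension hypotheses. Then for every sheaf F on C/U the unit morphism F ⟶ j^*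
j_! F is an isomorphism. -/
theorem result
    {C : Type u} [Category.{v} C] (J : GrothendieckTopology C) (U : C)
    (hU : ∀ V : C, Subsingleton (V ⟶ U))
    [HasWeakSheafify J AddCommGrpCat.{max u v}]
    [∀ (P : (Over U)ᵒᵖ ⥤ AddCommGrpCat.{max u v}), (Over.forget U).op.HasLeftKanExtension P]
    (F : Sheaf (J.over U) AddCommGrpCat.{max u v}) :
    IsIso (((Over.forget U).sheafAdjunctionContinuous AddCommGrpCat.{max u v} (J.over U) J).unit.app F) := by
  have : (Over.forget U).Full :=
    ⟨fun {X Y} f => ⟨Over.homMk f ((hU _).elim _ _), rfl⟩⟩
  have : ∀ (P : (Over U)ᵒᵖ ⥤ AddCommGrpCat.{max u v}), (Over.forget U).op.HasPointwiseRightKanExtension P :=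
    fun P W =>
      have : Small.{max u v} (StructuredArrow W (Over.forget U).op) := small_self _
      inferInstanceAs (HasLimit _)
  exact Groth.Agent.Fib44.isIso_unit_continuous (Over.forget U) AddCommGrpCat.{max u v} (J.over U) J F

end Groth.Agent.S14027
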