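import Groth.Statements.S14029
import Groth.Agent.Fib44.FullyFaithfulSite

set_option autoImplicit false
open CategoryTheory CategoryTheory.Limits Opposite
universe v u
open CohSite

namespace Groth.Agent.S14029

/-- Let (C, J) be a site and U an object such that every object has at most one morphism to U; assume
extension by the empty set j_! from sheaves of sets on the localized site C/U to sheaves of sets on
C exists (through sheafification on C and left Kan extensions along C/U → C). If V is weakly
contractible in C — every epimorphism of sheaves of sets on C is surjective on sections over V —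
then for any morphism a : V ⟶ U the object V → U of C/U is weakly contractible in C/U: every
epimorphism of sheaves of sets on C/U is surjective on sections over it. Hence C/U has enough weakly
contractible objects when C does. -/
theorem result
    {C : Type u} [Category.{v} C] (J : GrothendieckTopology C) (U : C)
    (hU : ∀ W : C, Subsingleton (W ⟶ U))
    [HasWeakSheafify J (Type (max u v))]
    [∀ (P : (Over U)ᵒᵖ ⥤ Type (max u v)), (Over.forget U).op.HasLeftKanExtension P]
    (V : C) (hV : (∀ (A B : Sheaf J (Type (max u v))) (ψ : A ⟶ B), Epi ψ → Function.Surjective (ψ.hom.app (op V)))) (a : V ⟶ U) :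
    ∀ (A B : Sheaf (J.over U) (Type (max u v))) (ψ : A ⟶ B), Epi ψ →
      Function.Surjective (ψ.hom.app (op (Over.mk a))) := by
  intro A B ψ hψ
  have : (Over.forget U).Full :=
    ⟨fun {X Y} f => ⟨Over.homMk f ((hU _).elim _ _), rfl⟩⟩
  let adj := (Over.forget U).sheafAdjunctionContinuous (Type (max u v)) (J.over U) J
  let L := (Over.forget U).sheafPullback (Type (max u v)) (J.over U) J
  have : L.IsLeftAdjoint := adj.isLeftAdjoint
  intro y
  have hA := Groth.Agent.Fib44.isIso_unit_continuous (Over.forget U) (Type (max u v)) (J.over U) J A
  have hB := Groth.Agent.Fib44.isIso_unit_continuous (Over.forget U) (Type (max u v)) (J.over U) J B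
  obtain ⟨x', hx'⟩ := hV _ _ (L.map ψ) inferInstance ((adj.unit.app B).hom.app (op (Over.mk a)) y)
  refine ⟨(inv (adj.unit.app A)).hom.app (op (Over.mk a)) x', ?_⟩
  have hinj : Function.Injective ((adj.unit.app B).hom.app (op (Over.mk a))) :=
    Function.LeftInverse.injective (g := (inv (adj.unit.app B)).hom.app (op (Over.mk a))) fun z =>
      ConcreteCategory.congr_hom (NatTrans.congr_app
        (congrArg InducedCategory.Hom.hom (IsIso.hom_inv_id (adj.unit.app B))) (op (Over.mk a))) z
  apply hinj
  refine (ConcreteCategory.congr_hom (NatTrans.congr_app
    (congrArg InducedCategory.Hom.hom (adj.unit.naturality ψ)) (op (Over.mk a))) _).trans ?_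
  refine Eq.trans ?_ hx'
  exact congrArg ((L.map ψ).hom.app (op V)) (ConcreteCategory.congr_hom (NatTrans.congr_app
    (congrArg InducedCategory.Hom.hom (IsIso.inv_hom_id (adj.unit.app A))) (op (Over.mk a))) x')

end Groth.Agent.S14029
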