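import Groth.Statements.S14032
import Mathlib.LinearAlgebra.TensorProduct.Quotient
import Mathlib.RingTheory.Noetherian.Basic
import Mathlib.RingTheory.Nilpotent.Lemmas
import Mathlib.RingTheory.Ideal.Quotient.Operations
import Mathlib.RingTheory.Noetherian.Nilpotent
import Mathlib.LinearAlgebra.LinearIndependent.Defs
import Mathlib.LinearAlgebra.Basis.Basic

set_option autoImplicit false
universe u v
open W4c1frobunstiva

namespace Groth.Agent.S14032

open TensorProduct in
theorem one_tmul_eq_zero_iff {R : Type u} [CommRing R] {M : Type v} [AddCommGroup M] [Module R M]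
    (I : Ideal R) (x : M) :
    (1 : R ⧸ I) ⊗ₜ[R] x = 0 ↔ x ∈ (I • ⊤ : Submodule R M) := by
  rw [← map_eq_zero_iff _ (quotTensorEquivQuotSMul M I).injective]
  rw [show (1 : R ⧸ I) = Ideal.Quotient.mk I 1 from rfl, quotTensorEquivQuotSMul_mk_tmul, one_smul,
    Submodule.Quotient.mk_eq_zero]

open TensorProduct in
theorem one_tmul_surjective {R : Type u} [CommRing R] {M : Type v} [AddCommGroup M] [Module R M]
    (I : Ideal R) : Function.Surjective fun x : M => (1 : R ⧸ I) ⊗ₜ[R] x := by
  intro y
  induction y using TensorProduct.induction_on with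
  | zero => exact ⟨0, tmul_zero _ _⟩
  | tmul a x =>
    obtain ⟨a, rfl⟩ := Ideal.Quotient.mk_surjective a
    refine ⟨a • x, ?_⟩
    show (1 : R ⧸ I) ⊗ₜ[R] (a • x) = _
    rw [tmul_smul, smul_tmul']
    congr 1
    exact (Algebra.smul_def a (1 : R ⧸ I)).trans (mul_one _)
  | add a b ha hb =>
    obtain ⟨x, rfl⟩ := ha
    obtain ⟨y, rfl⟩ := hb
    exact ⟨x + y, tmul_add _ _ _⟩

open TensorProduct in
/-- Let R be a commutative Noetherian ring with nilradical n, M an R-module and r a natural number. Then
M is NR-free of rank r — generated by r elements such that every linear relation among them has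
nilpotent coefficients — if and only if (R/n) ⊗_R M is free of rank r over R/n, in the sense of
admitting a basis indexed by r elements. (The published statement assumes M finitely generated and
also gives the converse when R is local; over a Noetherian ring the nilradical is nilpotent, the
case used here, and finite generation is not needed.) -/
theorem result (R : Type u) [CommRing R]
    [IsNoetherianRing R] (M : Type v) [AddCommGroup M] [Module R M] (r : ℕ) :
    W4c1frobunstiva.IsNRFree R M r ↔
      Nonempty (Module.Basis (Fin r) (R ⧸ nilradical R) ((R ⧸ nilradical R) ⊗[R] M)) := by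
  classical
  set N := nilradical R with hN
  have hs : ∀ (a : Fin r → R) (m : Fin r → M), ∑ i, Ideal.Quotient.mk N (a i) • ((1 : R ⧸ N) ⊗ₜ[R] m i) =
      (1 : R ⧸ N) ⊗ₜ[R] ∑ i, a i • m i := fun a m => by
    rw [TensorProduct.tmul_sum]
    refine Finset.sum_congr rfl fun i _ => ?_
    rw [TensorProduct.tmul_smul]; rfl
  constructor
  · rintro ⟨m, hm, hrel⟩
    refine ⟨Module.Basis.mk (v := fun i => (1 : R ⧸ N) ⊗ₜ[R] m i) ?_ ?_⟩
    · rw [Fintype.linearIndependent_iff]
      intro g hg i
      choose a ha using fun i => Ideal.Quotient.mk_surjective (g i)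
      simp only [← ha] at hg
      rw [hs, one_tmul_eq_zero_iff] at hg
      rw [← hm, Submodule.mem_ideal_smul_span_iff_exists_sum] at hg
      obtain ⟨c, hc, hcsum⟩ := hg
      have h0 : ∑ i, (a i - c i) • m i = 0 := by
        rw [Finsupp.sum_fintype _ _ (by simp)] at hcsum
        simp only [sub_smul, Finset.sum_sub_distrib, hcsum, sub_self]
      rw [← ha, Ideal.Quotient.eq_zero_iff_mem]
      simpa using add_mem (mem_nilradical.2 (hrel _ h0 i)) (hc i)
    · intro y _
      obtain ⟨x, rfl⟩ := one_tmul_surjective N y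
      obtain ⟨a, rfl⟩ := Submodule.mem_span_range_iff_exists_fun R |>.1 (hm.ge (Submodule.mem_top (x := x)))
      show (1 : R ⧸ N) ⊗ₜ[R] _ ∈ _
      rw [← hs a m]
      exact sum_mem fun i _ => Submodule.smul_mem _ _ (Submodule.subset_span ⟨i, rfl⟩)
  · rintro ⟨b⟩
    choose m hm using fun i => one_tmul_surjective (M := M) N (b i)
    replace hm : ∀ i, (1 : R ⧸ N) ⊗ₜ[R] m i = b i := hm
    obtain ⟨k, hk⟩ := IsNoetherianRing.isNilpotent_nilradical R
    refine ⟨m, ?_, fun a ha i => ?_⟩
    · set P := Submodule.span R (Set.range m)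
      have h1 : ∀ x : M, x ∈ P ⊔ N • (⊤ : Submodule R M) := fun x => by
        choose a ha using fun i => Ideal.Quotient.mk_surjective (b.repr ((1 : R ⧸ N) ⊗ₜ[R] x) i)
        have h2 : (1 : R ⧸ N) ⊗ₜ[R] (x - ∑ i, a i • m i) = 0 := by
          rw [TensorProduct.tmul_sub, ← hs]
          simp only [ha, hm, b.sum_repr, sub_self]
        rw [← sub_add_cancel x (∑ i, a i • m i), add_comm]
        exact Submodule.add_mem_sup (sum_mem fun i _ => Submodule.smul_mem _ _
          (Submodule.subset_span ⟨i, rfl⟩)) ((one_tmul_eq_zero_iff N _).1 h2)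
      have h3 : ∀ n : ℕ, (⊤ : Submodule R M) ≤ P ⊔ N ^ n • ⊤ := by
        intro n
        induction n with
        | zero => rw [pow_zero, Ideal.one_eq_top, Submodule.top_smul]; exact le_sup_right
        | succ n ih =>
          refine ih.trans (sup_le le_sup_left ?_)
          calc N ^ n • (⊤ : Submodule R M) ≤ N ^ n • (P ⊔ N • ⊤) :=
                Submodule.smul_mono le_rfl fun x _ => h1 x
            _ ≤ P ⊔ N ^ (n + 1) • ⊤ := by
                rw [Submodule.smul_sup, pow_succ, Submodule.mul_smul]
                exact sup_le_sup_right Submodule.smul_le_right _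
      refine eq_top_iff.2 ((h3 k).trans ?_)
      rw [hk, Submodule.zero_eq_bot, Submodule.bot_smul, sup_bot_eq]
    · have h : ∑ i, Ideal.Quotient.mk N (a i) • b i = 0 := by
        simp only [← hm, hs, ha, TensorProduct.tmul_zero]
      exact mem_nilradical.1 (Ideal.Quotient.eq_zero_iff_mem.1
        (Fintype.linearIndependent_iff.1 b.linearIndependent _ h i))

end Groth.Agent.S14032
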