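import Mathlib
import Groth.Statements.S14033

set_option autoImplicit false
universe u v
open W4c1frobunstiva

namespace Groth.Agent.S14033

open DualNumber Pointwise in
theorem result (R : Type u) [CommRing R] (M : Type v)
    [AddCommGroup M] [Module R[ε] M] [Module R M] [IsScalarTower R R[ε] M] (r : ℕ) :
    Nonempty (Module.Basis (Fin r) R[ε] M) ↔
      (Nonempty (Module.Basis (Fin r) R (M ⧸ ((ε : R[ε]) • (⊤ : Submodule R[ε] M)))) ∧
        Nonempty (Module.Basis (Fin r) R (((ε : R[ε]) • (⊤ : Submodule R[ε] M)).restrictScalars R))) := by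
  have hsm : ∀ (a : R) (m : M), (TrivSqZeroExt.inl a : R[ε]) • m = a • m := fun a m => algebraMap_smul R[ε] a m
  have hdec : ∀ x : R[ε], x = TrivSqZeroExt.inl x.fst + ε * TrivSqZeroExt.inl x.snd := by
    intro x
    apply TrivSqZeroExt.ext <;>
      simp [TrivSqZeroExt.fst_mul, DualNumber.snd_mul, DualNumber.fst_eps, DualNumber.snd_eps]
  have hε : ∀ x : R[ε], ε * x = ε * TrivSqZeroExt.inl x.fst := by
    intro x
    conv_lhs => rw [hdec x]
    rw [mul_add, ← mul_assoc ε ε, DualNumber.eps_mul_eps, zero_mul, add_zero]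
  have hmem : ∀ m : M, m ∈ (ε : R[ε]) • (⊤ : Submodule R[ε] M) ↔ ∃ m', m = (ε : R[ε]) • m' := by
    intro m
    rw [Submodule.mem_smul_pointwise_iff_exists]
    simp [eq_comm]
  constructor
  · rintro ⟨b⟩
    refine ⟨⟨?_⟩, ⟨?_⟩⟩
    · let ψ : M →ₗ[R] (Fin r → R) :=
        { toFun := fun m i => (b.repr m i).fst
          map_add' := fun m m' => by ext i; simp
          map_smul' := fun a m => by
            ext i
            simp [← hsm, TrivSqZeroExt.fst_mul] }
      have hψ : LinearMap.ker ψ = ((ε : R[ε]) • (⊤ : Submodule R[ε] M)).restrictScalars R := by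
        ext m
        rw [LinearMap.mem_ker, Submodule.restrictScalars_mem, hmem]
        constructor
        · intro h
          refine ⟨∑ i, (TrivSqZeroExt.inl (b.repr m i).snd : R[ε]) • b i, ?_⟩
          rw [Finset.smul_sum]
          conv_lhs => rw [← b.sum_repr m]
          refine Finset.sum_congr rfl fun i _ => ?_
          rw [smul_smul]
          congr 1
          conv_lhs => rw [hdec (b.repr m i)]
          rw [show (b.repr m i).fst = 0 from congrFun h i]
          simp
        · rintro ⟨m', rfl⟩
          funext i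
          simp [ψ, TrivSqZeroExt.fst_mul, DualNumber.fst_eps]
      have hs : Function.Surjective ψ := fun c => ⟨∑ i, (TrivSqZeroExt.inl (c i) : R[ε]) • b i, by
        funext i
        change (b.repr _ i).fst = _
        rw [b.repr_sum_self]
        simp⟩
      exact (Pi.basisFun R (Fin r)).map
        ((ψ.quotKerEquivOfSurjective hs).symm.trans
          ((Submodule.quotEquivOfEq _ _ hψ).trans (Submodule.Quotient.restrictScalarsEquiv R _)))
    · let χ : (Fin r → R) →ₗ[R] ((ε : R[ε]) • (⊤ : Submodule R[ε] M)).restrictScalars R :=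
        LinearMap.codRestrict _ (Fintype.linearCombination R fun i => (ε : R[ε]) • b i) fun c =>
          (hmem _).mpr ⟨∑ i, (TrivSqZeroExt.inl (c i) : R[ε]) • b i, by
            simp only [Fintype.linearCombination_apply, Finset.smul_sum, hsm, smul_comm (ε : R[ε]) (c _)]⟩
      have hc : ∀ c, (χ c : M) = ∑ i, ((ε : R[ε]) * TrivSqZeroExt.inl (c i)) • b i := fun c => by
        simp [χ, Fintype.linearCombination_apply, mul_smul, hsm, smul_comm (ε : R[ε]) (c _)]
      refine (Pi.basisFun R (Fin r)).map (LinearEquiv.ofBijective χ ⟨?_, ?_⟩)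
      · refine (injective_iff_map_eq_zero χ).mpr fun c h => ?_
        have h' : ∑ i, ((ε : R[ε]) * TrivSqZeroExt.inl (c i)) • b i = 0 := by rw [← hc, h]; rfl
        funext i
        have := congrArg TrivSqZeroExt.snd (Fintype.linearIndependent_iff.mp b.linearIndependent _ h' i)
        simpa [DualNumber.snd_mul] using this
      · rintro ⟨m, hm⟩
        obtain ⟨m', rfl⟩ := (hmem m).mp hm
        refine ⟨fun i => (b.repr m' i).fst, Subtype.ext ?_⟩
        change _ = (ε : R[ε]) • m'
        conv_rhs => rw [← b.sum_repr m', Finset.smul_sum]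
        rw [hc]
        refine Finset.sum_congr rfl fun i _ => ?_
        rw [smul_smul, ← hε]
  · rintro ⟨⟨bq⟩, ⟨be⟩⟩
    choose b hb using fun i => Submodule.mkQ_surjective ((ε : R[ε]) • (⊤ : Submodule R[ε] M)) (bq i)
    have hmk : ∀ x : Fin r → R[ε], ((ε : R[ε]) • (⊤ : Submodule R[ε] M)).mkQ (∑ i, x i • b i) =
        ∑ i, (x i).fst • bq i := by
      intro x
      rw [map_sum]
      refine Finset.sum_congr rfl fun i _ => ?_
      rw [← hb, ← LinearMap.map_smul_of_tower]
      refine (Submodule.Quotient.eq _).mpr ((hmem _).mpr ⟨(x i).snd • b i, ?_⟩)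
      conv_lhs => arg 1; rw [hdec (x i)]
      rw [add_smul, hsm, add_sub_cancel_left, mul_smul, hsm]
    have hsurj : Submodule.span R[ε] (Set.range b) = ⊤ := by
      have hS : ∀ m, ∃ s ∈ Submodule.span R[ε] (Set.range b), ∃ m', m = s + (ε : R[ε]) • m' := by
        intro m
        let x : Fin r → R[ε] := fun i => TrivSqZeroExt.inl (bq.repr (Submodule.Quotient.mk m) i)
        refine ⟨∑ i, x i • b i, Submodule.sum_mem _ fun i _ => Submodule.smul_mem _ _ (Submodule.subset_span ⟨i, rfl⟩), ?_⟩
        have h0 := hmk x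
        simp only [x, TrivSqZeroExt.fst_inl, bq.sum_repr] at h0
        obtain ⟨m', hm'⟩ := (hmem _).mp ((Submodule.Quotient.eq _).mp h0.symm)
        exact ⟨m', by rw [← hm']; abel⟩
      refine Submodule.eq_top_iff'.mpr fun m => ?_
      obtain ⟨s, hs, m', rfl⟩ := hS m
      obtain ⟨s', hs', m'', rfl⟩ := hS m'
      rw [smul_add, smul_smul, DualNumber.eps_mul_eps, zero_smul, add_zero]
      exact Submodule.add_mem _ hs (Submodule.smul_mem _ _ hs')
    let η : (Fin r → R) →ₗ[R] ((ε : R[ε]) • (⊤ : Submodule R[ε] M)).restrictScalars R :=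
      LinearMap.codRestrict _ (Fintype.linearCombination R fun i => (ε : R[ε]) • b i) fun c =>
        (hmem _).mpr ⟨∑ i, (TrivSqZeroExt.inl (c i) : R[ε]) • b i, by
          simp only [Fintype.linearCombination_apply, Finset.smul_sum, hsm, smul_comm (ε : R[ε]) (c _)]⟩
    have hη : ∀ c, (η c : M) = ∑ i, ((ε : R[ε]) * TrivSqZeroExt.inl (c i)) • b i := fun c => by
      simp [η, Fintype.linearCombination_apply, mul_smul, hsm, smul_comm (ε : R[ε]) (c _)]
    have hηs : Function.Surjective η := by
      rintro ⟨m, hm⟩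
      obtain ⟨m', rfl⟩ := (hmem m).mp hm
      obtain ⟨x, rfl⟩ := (Submodule.mem_span_range_iff_exists_fun _).mp (hsurj ▸ Submodule.mem_top : m' ∈ _)
      refine ⟨fun i => (x i).fst, Subtype.ext ?_⟩
      rw [hη]
      change _ = (ε : R[ε]) • _
      rw [Finset.smul_sum]
      exact Finset.sum_congr rfl fun i _ => by rw [smul_smul, ← hε]
    have hηi : Function.Injective η := by
      have h1 : Function.Surjective (be.equivFun.toLinearMap.comp η) := be.equivFun.surjective.comp hηs
      have h2 := OrzechProperty.injective_of_surjective_endomorphism _ h1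
      rw [LinearMap.coe_comp] at h2
      exact h2.of_comp
    refine ⟨Module.Basis.mk (v := b) (Fintype.linearIndependent_iff.mpr fun x hx => ?_) hsurj.ge⟩
    have h0 : ∀ i, (x i).fst = 0 := by
      refine fun i => Fintype.linearIndependent_iff.mp bq.linearIndependent (fun i => (x i).fst) ?_ i
      rw [← hmk, hx, map_zero]
    have h1 : ∀ i, (x i).snd = 0 := by
      intro i
      have hz : η (fun i => (x i).snd) = 0 := Subtype.ext (by
        rw [hη, Submodule.coe_zero, ← hx]
        refine Finset.sum_congr rfl fun j _ => ?_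
        conv_rhs => rw [hdec (x j), h0 j]
        simp)
      exact congrFun (hηi (hz.trans (map_zero η).symm)) i
    intro i
    exact TrivSqZeroExt.ext (h0 i) (h1 i)

end Groth.Agent.S14033
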