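import Groth.Statements.S14034
import Mathlib.RingTheory.LocalRing.Module
import Mathlib.LinearAlgebra.FiniteDimensional.Basic
import Mathlib.LinearAlgebra.FreeModule.Finite.Basic
import Mathlib.LinearAlgebra.Dimension.Constructions
import Mathlib.RingTheory.Nilpotent.Lemmas
import Mathlib.Algebra.Module.Projective

set_option autoImplicit false
universe u
open W4c1frobunstiva

namespace Groth.Agent.S14034

/-- Let R be a Noetherian local ring and f an element of R whose annihilator consists of nilpotent
elements (a f = 0 forces a nilpotent), r, s and l ≤ s natural numbers, N the quotient of the free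
module R^s by the submodule spanned by f e_1, …, f e_l (e_i the standard basis vectors), and φ : R^r
→ N a surjective linear map. Then the kernel of φ is NR-free of rank r + l − s: it is generated by r
+ l − s elements every linear relation among which has nilpotent coefficients; and when l = 0 the
kernel is free of rank r − s. (The published statement takes R Noetherian with irreducible spectrum
and R_red a domain, not necessarily local, and f arbitrary. Over the coordinate ring of the real
2-sphere the kernel of (x, y, z) : R³ → R is not free, and over k[x, y]/(y², xy) localised at (x, y)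
with f = y the kernel of R → R/(y) is spanned by y with the non-nilpotent relation x·y = 0. The
published argument uses that the kernel of a surjection of free modules is free, true over a local
ring, and that a f = 0 forces a nilpotent, which is the hypothesis taken here; it holds when R_red
is a domain and f is not nilpotent, and also for f = ε in A[ε] with A a domain, so primality of the
nilradical is not assumed.) -/
theorem result (R : Type u)
    [CommRing R] [IsNoetherianRing R] [IsLocalRing R] (f : R)
    (hann : ∀ a : R, a * f = 0 → IsNilpotent a) (r s l : ℕ) (hls : l ≤ s)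
    (φ : (Fin r → R) →ₗ[R]
      ((Fin s → R) ⧸ Submodule.span R (Set.range fun i : Fin l => (Pi.single (Fin.castLE hls i) f : Fin s → R))))
    (hφ : Function.Surjective φ) :
    W4c1frobunstiva.IsNRFree R (LinearMap.ker φ) (r + l - s) ∧
      (l = 0 → Nonempty (Module.Basis (Fin (r - s)) R (LinearMap.ker φ))) := by
  classical
  let e : (Fin l → R) →ₗ[R] (Fin s → R) :=
    Fintype.linearCombination R fun i : Fin l => (Pi.single (Fin.castLE hls i) f : Fin s → R)
  have he : ∀ a i, e a (Fin.castLE hls i) = a i * f := fun a i => by
    show Fintype.linearCombination R (fun i : Fin l => (Pi.single (Fin.castLE hls i) f : Fin s → R)) a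
      (Fin.castLE hls i) = _
    rw [Fintype.linearCombination_apply, Finset.sum_apply, Finset.sum_eq_single i]
    · rw [Pi.smul_apply, Pi.single_eq_same, smul_eq_mul]
    · intro b _ hb
      rw [Pi.smul_apply, Pi.single_eq_of_ne (fun h => hb (Fin.castLE_injective hls h).symm),
        smul_zero]
    · simp
  obtain ⟨g, hg⟩ := Module.projective_lifting_property
    (Submodule.span R (Set.range fun i : Fin l => (Pi.single (Fin.castLE hls i) f : Fin s → R))).mkQ
    φ (Submodule.mkQ_surjective _)
  let Φ : (Fin r → R) × (Fin l → R) →ₗ[R] (Fin s → R) := g.coprod e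
  have hrange : LinearMap.range e =
      Submodule.span R (Set.range fun i : Fin l => (Pi.single (Fin.castLE hls i) f : Fin s → R)) :=
    Fintype.range_linearCombination R _
  have hmk : ∀ a, Submodule.mkQ _ (g a) = φ a := fun a => DFunLike.congr_fun hg a
  have hΦ : Function.Surjective Φ := fun y => by
    obtain ⟨x, hx⟩ := hφ (Submodule.mkQ _ y)
    rw [← hmk x, Submodule.mkQ_apply, Submodule.mkQ_apply, Submodule.Quotient.eq, ← hrange] at hx
    obtain ⟨a, ha⟩ := hx
    exact ⟨(x, -a), by show g x + e (-a) = y; rw [map_neg, ha]; abel⟩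
  obtain ⟨σ, hσ⟩ := Φ.exists_rightInverse_of_surjective (LinearMap.range_eq_top.2 hΦ)
  let π : (Fin r → R) × (Fin l → R) →ₗ[R] LinearMap.ker Φ :=
    (LinearMap.id - σ ∘ₗ Φ).codRestrict _ fun v => by
      show Φ (v - σ (Φ v)) = 0
      rw [map_sub, show Φ (σ (Φ v)) = Φ v from DFunLike.congr_fun hσ (Φ v), sub_self]
  have hπ : ∀ v : LinearMap.ker Φ, π v = v := fun v => Subtype.ext (by
    show (v : _) - σ (Φ v) = v
    rw [show Φ (v : _) = 0 from v.2, map_zero, sub_zero])
  have : Module.Finite R (LinearMap.ker Φ) := Module.Finite.of_surjective π fun v => ⟨v, hπ v⟩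
  have : Module.Projective R (LinearMap.ker Φ) :=
    Module.Projective.of_split (LinearMap.ker Φ).subtype π (LinearMap.ext hπ)
  have : Module.Free R (LinearMap.ker Φ) := Module.free_of_flat_of_isLocalRing
  let E : ((Fin r → R) × (Fin l → R)) ≃ₗ[R] LinearMap.ker Φ × (Fin s → R) :=
    { toLinearMap := π.prod Φ
      invFun := fun p => p.1 + σ p.2
      left_inv := fun v => by show v - σ (Φ v) + σ (Φ v) = v; abel
      right_inv := fun p => by
        have h1 : Φ ((p.1 : _) + σ p.2) = p.2 := by
          rw [map_add, show Φ (p.1 : _) = 0 from p.1.2, zero_add]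
          exact DFunLike.congr_fun hσ p.2
        refine Prod.ext (Subtype.ext ?_) h1
        show (p.1 : _) + σ p.2 - σ (Φ ((p.1 : _) + σ p.2)) = p.1
        rw [h1]; abel }
  have hrank : Module.finrank R (LinearMap.ker Φ) = r + l - s := by
    have h1 := E.finrank_eq
    rw [Module.finrank_prod, Module.finrank_prod, Module.finrank_fin_fun, Module.finrank_fin_fun,
      Module.finrank_fin_fun] at h1
    omega
  let b := (Module.finBasisOfFinrankEq R (LinearMap.ker Φ) hrank)
  have hker : ∀ v : LinearMap.ker Φ, (v : (Fin r → R) × (Fin l → R)).1 ∈ LinearMap.ker φ := fun v => by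
    rw [LinearMap.mem_ker, ← hmk, Submodule.mkQ_apply, Submodule.Quotient.mk_eq_zero]
    refine hrange.le ?_
    refine ⟨-(v : (Fin r → R) × (Fin l → R)).2, ?_⟩
    rw [map_neg, neg_eq_iff_add_eq_zero, add_comm]
    exact v.2
  let p : LinearMap.ker Φ →ₗ[R] LinearMap.ker φ :=
    ((LinearMap.fst R _ _) ∘ₗ (LinearMap.ker Φ).subtype).codRestrict _ hker
  have hp : Function.Surjective p := fun x => by
    have hx : φ x = 0 := x.2
    rw [← hmk, Submodule.mkQ_apply, Submodule.Quotient.mk_eq_zero] at hx
    obtain ⟨a, ha⟩ := hrange.ge hx
    exact ⟨⟨((x : Fin r → R), -a), by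
      show g x + e (-a) = 0
      rw [map_neg, ha]; abel⟩, rfl⟩
  have hpker : ∀ v, p v = 0 → ∀ i, IsNilpotent ((v : (Fin r → R) × (Fin l → R)).2 i) := fun v hv i => by
    have h1 : (v : (Fin r → R) × (Fin l → R)).1 = 0 := congrArg Subtype.val hv
    have h2 : g (v : (Fin r → R) × (Fin l → R)).1 + e (v : (Fin r → R) × (Fin l → R)).2 = 0 := v.2
    rw [h1, map_zero, zero_add] at h2
    exact hann _ (by rw [← he, h2]; rfl)
  refine ⟨⟨fun j => p (b j), ?_, fun c hc j => ?_⟩, fun hl => ?_⟩
  · rw [← LinearMap.range_eq_top.2 hp, LinearMap.range_eq_map, ← b.span_eq, Submodule.map_span,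
      ← Set.range_comp]
    rfl
  · set v := ∑ j, c j • b j with hv
    have hv0 : p v = 0 := by simpa [hv, map_sum] using hc
    have hc' : c j = b.repr v j := by rw [hv, b.repr_sum_self]
    have h1 : (v : (Fin r → R) × (Fin l → R)) =
        ∑ i, (v : (Fin r → R) × (Fin l → R)).2 i • ((0, Pi.single i 1) : (Fin r → R) × (Fin l → R)) := by
      refine Prod.ext ?_ ?_
      · rw [show (v : (Fin r → R) × (Fin l → R)).1 = 0 from congrArg Subtype.val hv0, Prod.fst_sum]
        simp
      · rw [Prod.snd_sum]
        funext k
        simp [Finset.sum_apply, Pi.single_apply]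
    rw [hc', ← hπ v, h1, map_sum, map_sum, Finsupp.finsetSum_apply, ← mem_nilradical]
    refine sum_mem fun i _ => ?_
    rw [map_smul, map_smul, Finsupp.smul_apply, smul_eq_mul]
    exact Ideal.mul_mem_right _ _ (mem_nilradical.2 (hpker v hv0 i))
  · subst hl
    have hinj : Function.Injective p := fun v w hvw => by
      refine Subtype.ext (Prod.ext (congrArg Subtype.val hvw) (funext fun i => i.elim0))
    exact ⟨(b.map (LinearEquiv.ofBijective p ⟨hinj, hp⟩)).reindex (finCongr (by omega))⟩

end Groth.Agent.S14034
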