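import Mathlib
import Groth.Statements.S14035

set_option autoImplicit false
universe u v
open W4c1frobunstiva

namespace Groth.Agent.S14035

open TensorProduct in
theorem result (A : Type u) (B : Type v)
    [CommRing A] [CommRing B] [Algebra A B] [IsNoetherianRing B]
    [Module.Flat A (B ⧸ nilradical B)]
    (hfib : ∀ p : PrimeSpectrum A, IsReduced (p.asIdeal.ResidueField ⊗[A] B)) :
    IsReduced B := by
  refine nilradical_eq_bot_iff.mp ?_
  have key : ∀ p : PrimeSpectrum A, ∀ x : nilradical B,
      (1 : p.asIdeal.ResidueField) ⊗ₜ[A] x = 0 := by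
    intro p x
    let ι : nilradical B →ₗ[A] B := (nilradical B).subtype.restrictScalars A
    let π : B →ₗ[A] B ⧸ nilradical B := (Ideal.Quotient.mkₐ A (nilradical B)).toLinearMap
    have hex : Function.Exact ι π := fun y => by
      simp [ι, π, Ideal.Quotient.eq_zero_iff_mem]
    have hinj : Function.Injective (ι.lTensor p.asIdeal.ResidueField) :=
      LinearMap.lTensor_injective_of_exact_of_flat π Ideal.Quotient.mk_surjective ι Subtype.val_injective hex _
    apply hinj
    rw [map_zero, LinearMap.lTensor_tmul]
    haveI := hfib p
    exact ((show IsNilpotent (x : B) from x.2).map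
      (Algebra.TensorProduct.includeRight : B →ₐ[A] p.asIdeal.ResidueField ⊗[A] B)).eq_zero
  have hsupp : Module.support B (nilradical B) = ∅ := by
    refine Set.eq_empty_iff_forall_notMem.mpr fun q => ?_
    rw [Module.mem_support_iff_nontrivial_residueField_tensorProduct, not_nontrivial_iff_subsingleton]
    let p : PrimeSpectrum A := PrimeSpectrum.comap (algebraMap A B) q
    let φ : p.asIdeal.ResidueField →ₐ[A] q.asIdeal.ResidueField :=
      { Ideal.ResidueField.map p.asIdeal q.asIdeal (algebraMap A B) rfl with
        commutes' := fun a => by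
          simpa [IsScalarTower.algebraMap_apply A B q.asIdeal.ResidueField] using
            Ideal.ResidueField.map_algebraMap p.asIdeal q.asIdeal (algebraMap A B) rfl a }
    let L : p.asIdeal.ResidueField ⊗[A] nilradical B →ₗ[A] q.asIdeal.ResidueField ⊗[B] nilradical B :=
      TensorProduct.lift (((TensorProduct.mk B q.asIdeal.ResidueField (nilradical B)).restrictScalars₁₂ A A).comp
        φ.toLinearMap)
    have h1 : ∀ x : nilradical B, (1 : q.asIdeal.ResidueField) ⊗ₜ[B] x = 0 := by
      intro x
      have := congrArg L (key p x)
      simpa [L] using this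
    refine subsingleton_of_forall_eq 0 fun z => ?_
    induction z with
    | zero => rfl
    | add a b ha hb => rw [ha, hb, add_zero]
    | tmul c x => rw [← mul_one c, ← smul_eq_mul, ← TensorProduct.smul_tmul', h1, smul_zero]
  haveI := (Module.support_eq_empty_iff.mp hsupp)
  exact (Submodule.subsingleton_iff_eq_bot).mp this

end Groth.Agent.S14035
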