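import Groth.Statements.S14037
import Groth.Agent.S0506
import Groth.Agent.S0509
import Groth.Agent.S0511
import Groth.Agent.S0515
import Groth.Agent.E4O.ProperPart
import Groth.Agent.FBase64.ProperNhd.Dvr
import Groth.Agent.Henz21.CatenaryHenz
import Groth.Agent.Unr55.DescProps
import Groth.Agent.FlatMor67.GenericFibre
import Mathlib.AlgebraicGeometry.ValuativeCriterion
-- import your own Groth.Agent.* helpers here

set_option autoImplicit false
universe u
open CategoryTheory CategoryTheory.Limits AlgebraicGeometry
open W4c1frobunstiva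

namespace Groth.Agent.S14037
open Groth.Agent TopologicalSpace
set_option maxSynthPendingDepth 6
set_option backward.isDefEq.respectTransparency.types false

theorem descend {X S S' : Scheme.{u}} (f : X ⟶ S) (g : S' ⟶ S) [Surjective g] [Flat g] [QuasiCompact g]
    (h : IsProper (pullback.snd f g)) : IsProper f := by
  haveI : MorphismProperty.DescendsAlong (@IsProper : MorphismProperty Scheme.{u}) Unr55.fpqc.{u} := Unr55.isProper
  exact MorphismProperty.of_pullback_snd_of_descendsAlong (P := @IsProper) (Q := Unr55.fpqc.{u})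
    (f := f) (g := g) ⟨⟨inferInstance, inferInstance⟩, inferInstance⟩ h

/-- Properness over the local ring at a point. -/
theorem isProper_local {X Y : Scheme.{u}} (f : X ⟶ Y) [IsSeparated f] [LocallyOfFiniteType f] [QuasiCompact f]
    [IsIntegral X] [IsIntegral Y] [IsNoetherian Y] (hY : Pi1.IsNormalScheme Y)
    (hfib : ∀ (Ω : Type u) [Field Ω] [IsAlgClosed Ω] (y : Spec (CommRingCat.of Ω) ⟶ Y),
      IsProper (pullback.snd f y) ∧ ConnectedSpace ↥(pullback f y)) (hξ : f (genericPoint X) = genericPoint Y)
    (y : Y) : IsProper (pullback.snd f (Y.fromSpecStalk y)) := by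
  classical
  obtain ⟨A, _, _, _, _, _⟩ := S0506.result (Y.presheaf.stalk y)
  haveI : IsNoetherianRing A := (S0511.result (Y.presheaf.stalk y) A).1 inferInstance
  haveI : IsDomain A := ((S0515.result (Y.presheaf.stalk y) A).1 (hY y)).1
  haveI : HenselianLocalRing A := Hensel.IsHenselization.henselian (R := Y.presheaf.stalk y) (S := A)
  haveI : Module.FaithfullyFlat (Y.presheaf.stalk y) A := S0509.result (Y.presheaf.stalk y) A
  let h : Spec (CommRingCat.of A) ⟶ Spec (Y.presheaf.stalk y) :=
    Spec.map (CommRingCat.ofHom (algebraMap (Y.presheaf.stalk y) A))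
  haveI : Surjective h := ⟨PrimeSpectrum.comap_surjective_of_faithfullyFlat⟩
  haveI : Flat h := (HasRingHomProperty.Spec_iff (P := @Flat)).2 (RingHom.flat_algebraMap_iff.2 inferInstance)
  haveI : IsAffineHom h := isAffineHom_of_isAffine h
  let j := h ≫ Y.fromSpecStalk y
  haveI : Flat (Y.fromSpecStalk y) := inferInstance
  haveI : IsNoetherianRing (CommRingCat.of A) := ‹_›
  let q := pullback.snd f j
  let p := pullback.fst f j
  suffices hq : IsProper q by
    refine descend _ h ?_
    rw [← pullbackLeftPullbackSndIso_hom_snd f (Y.fromSpecStalk y) h]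
    haveI := hq
    infer_instance
  let cl := FBase64.ProperNhd.clPt (A := A) (IsLocalRing.maximalIdeal A)
  letI : Field (A ⧸ IsLocalRing.maximalIdeal A) := Ideal.Quotient.field _
  let κ := A ⧸ IsLocalRing.maximalIdeal A
  let Ω₀ := AlgebraicClosure κ
  let e₀ : Spec (CommRingCat.of Ω₀) ⟶ Spec (CommRingCat.of κ) := Spec.map (CommRingCat.ofHom (algebraMap κ Ω₀))
  obtain ⟨hp₀, hc₀⟩ := hfib Ω₀ ((e₀ ≫ cl) ≫ j)
  have hclosed : IsProper (pullback.snd q cl) := by
    haveI : Surjective e₀ := ⟨fun x => ⟨IsLocalRing.closedPoint Ω₀, Subsingleton.elim (α := PrimeSpectrum κ) _ _⟩⟩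
    haveI : Flat e₀ := (HasRingHomProperty.Spec_iff (P := @Flat)).2 (RingHom.flat_algebraMap_iff.2 inferInstance)
    haveI : IsAffineHom e₀ := isAffineHom_of_isAffine e₀
    refine descend _ e₀ ?_
    rw [← pullbackLeftPullbackSndIso_hom_snd q cl e₀, ← pullbackLeftPullbackSndIso_hom_snd f j (e₀ ≫ cl)]
    haveI := hp₀
    infer_instance
  haveI : IsProper (pullback.fst q cl ≫ q) := by
    haveI := hclosed
    haveI : IsClosedImmersion cl := IsClosedImmersion.spec_of_surjective _ Ideal.Quotient.mk_surjective
    rw [pullback.condition]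
    infer_instance
  haveI : HenselianRing A (IsLocalRing.maximalIdeal A) := inferInstance
  obtain ⟨P, hPc, hPp, hP⟩ := E4O.exists_clopen_proper_part (IsLocalRing.maximalIdeal A) q
    (pullback.fst q cl) isOpen_univ (by rw [Set.univ_inter]; exact E4O.range_fst_clPt_ideal _ q)
  -- the generic fibre
  let η : ↥(Spec (CommRingCat.of A)) := genericPoint (Spec (CommRingCat.of A))
  let G : Set ↥(pullback f j) := q ⁻¹' {η}
  have hgen : ∀ z : ↥(pullback f j), ∃ z' ∈ G, z' ⤳ z := by
    intro z
    haveI : Flat j := inferInstanceAs (Flat (h ≫ Y.fromSpecStalk y))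
    haveI : Flat p := MorphismProperty.pullback_fst _ _ ‹Flat j›
    obtain ⟨z', hz', hpz'⟩ := Flat.generalizingMap p (genericPoint_specializes (p z))
    refine ⟨z', ?_, hz'⟩
    have h1 : j (q z') = genericPoint Y := by
      rw [← Scheme.Hom.comp_apply, ← pullback.condition, Scheme.Hom.comp_apply,
        show pullback.fst f j z' = genericPoint X from hpz', hξ]
    have h2 : h (q z') = h η := by
      refine (Y.fromSpecStalk y).isEmbedding.injective ?_
      have hg : j η = genericPoint Y := by
        have := ((genericPoint_specializes (q z')).map j.continuous)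
        rw [h1] at this
        exact (this.antisymm (genericPoint_specializes (j η))).eq
      exact h1.trans hg.symm
    have h3 : (⊥ : Ideal A) = (PrimeSpectrum.asIdeal (q z')) := by
      haveI : (⊥ : Ideal A).IsPrime := Ideal.bot_prime
      refine Henz21.CatHenz.eq_of_le_of_comap_eq (R := Y.presheaf.stalk y) bot_le ?_
      have h4 := congrArg PrimeSpectrum.asIdeal h2
      rw [show η = (⊥ : PrimeSpectrum A) from genericPoint_eq_bot_of_affine (CommRingCat.of A)] at h4
      exact h4
    show q z' = η
    rw [show η = (⊥ : PrimeSpectrum A) from genericPoint_eq_bot_of_affine (CommRingCat.of A)]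
    exact PrimeSpectrum.ext h3.symm
  have hG : _root_.IsPreconnected G := by
    let L := FractionRing A
    let a : Spec (CommRingCat.of (AlgebraicClosure L)) ⟶ Spec (CommRingCat.of A) :=
      Spec.map (CommRingCat.ofHom (algebraMap A (AlgebraicClosure L)))
    have hra : Set.range a = {η} := by
      haveI : Subsingleton ↥(Spec (CommRingCat.of (AlgebraicClosure L))) :=
        inferInstanceAs (Subsingleton (PrimeSpectrum (AlgebraicClosure L)))
      have hη : a (IsLocalRing.closedPoint (AlgebraicClosure L)) = η := by
        rw [show η = (⊥ : PrimeSpectrum A) from genericPoint_eq_bot_of_affine (CommRingCat.of A)]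
        refine PrimeSpectrum.ext ?_
        show (IsLocalRing.maximalIdeal (AlgebraicClosure L)).comap (algebraMap A (AlgebraicClosure L)) = ⊥
        rw [IsLocalRing.maximalIdeal_eq_bot, ← RingHom.ker_eq_comap_bot, ← RingHom.injective_iff_ker_eq_bot,
          IsScalarTower.algebraMap_eq A L (AlgebraicClosure L)]
        exact (algebraMap L (AlgebraicClosure L)).injective.comp (IsFractionRing.injective A L)
      ext w
      exact ⟨by rintro ⟨v, rfl⟩; rw [Subsingleton.elim v (IsLocalRing.closedPoint (AlgebraicClosure L))]; exact hη,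
        by rintro rfl; exact ⟨_, hη⟩⟩
    obtain ⟨-, hc⟩ := hfib (AlgebraicClosure L) (a ≫ j)
    haveI := hc
    have hrange : Set.range ((pullbackLeftPullbackSndIso f j a).inv ≫ pullback.fst q a) = G := by
      show _ = q ⁻¹' {η}
      rw [Scheme.Hom.comp_base, TopCat.coe_comp, Set.range_comp,
        Set.range_eq_univ.2 (pullbackLeftPullbackSndIso f j a).inv.surjective, Set.image_univ,
        Scheme.Pullback.range_fst, hra]
    rw [← hrange]
    exact isPreconnected_range (Scheme.Hom.continuous _)
  obtain ⟨z₀⟩ := hc₀.toNonempty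
  have hne : ((P : Set ↥(pullback f j)) ∩ G).Nonempty := by
    let w := pullback.fst q (e₀ ≫ cl) ((pullbackLeftPullbackSndIso f j (e₀ ≫ cl)).inv
      z₀)
    have hwP : w ∈ P := by
      refine (hP.ge ?_).1
      rw [E4O.range_fst_clPt_ideal, Set.mem_preimage, ← E4O.range_clPt_ideal]
      refine ⟨e₀ (pullback.snd q (e₀ ≫ cl) ((pullbackLeftPullbackSndIso f j (e₀ ≫ cl)).inv
        z₀)), ?_⟩
      simp only [w, ← Scheme.Hom.comp_apply, Category.assoc, pullback.condition]
      rfl
    obtain ⟨z', hz', hsp⟩ := hgen w
    exact ⟨z', hsp.mem_open P.2 hwP, hz'⟩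
  have hGP : G ⊆ P := hG.subset_isClopen ⟨hPc, P.2⟩ (by rwa [Set.inter_comm])
  have htop : P = ⊤ := by
    refine Opens.ext (Set.eq_univ_of_forall fun z => ?_)
    obtain ⟨z', hz', hsp⟩ := hgen z
    exact hsp.mem_closed hPc (hGP hz')
  haveI : IsIso P.ι := by
    rw [htop]; exact (pullback f j).topIso.isIso_hom
  haveI := hPp
  rw [← MorphismProperty.cancel_left_of_respectsIso (P := @IsProper) P.ι q]
  exact hPp

/-- Let f : X → Y be separated and of finite type, with X and Y integral, Y Noetherian and normal.
Suppose that every geometric fibre of f — the base change of X along any morphism from the spectrum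
of an algebraically closed field to Y — is proper over that field and connected (so non-empty). Then
f is proper. -/
theorem result {X Y : Scheme.{u}}
    (f : X ⟶ Y) [IsSeparated f] [LocallyOfFiniteType f] [QuasiCompact f]
    [IsIntegral X] [IsIntegral Y] [IsNoetherian Y] (hY : Pi1.IsNormalScheme Y)
    (hfib : ∀ (Ω : Type u) [Field Ω] [IsAlgClosed Ω] (y : Spec (CommRingCat.of Ω) ⟶ Y),
      IsProper (pullback.snd f y) ∧ ConnectedSpace ↥(pullback f y)) :
    IsProper f := by
  haveI : IsLocallyNoetherian X := LocallyOfFiniteType.isLocallyNoetherian f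
  have hsurj : Function.Surjective f := by
    intro y
    let Ω := AlgebraicClosure (Y.residueField y)
    let v := Spec.map (CommRingCat.ofHom (algebraMap (Y.residueField y) Ω)) ≫ Y.fromSpecResidueField y
    obtain ⟨z⟩ := (hfib Ω v).2.toNonempty
    exact ⟨pullback.fst f v z, by
      rw [← Scheme.Hom.comp_apply, pullback.condition, Scheme.Hom.comp_apply, Scheme.Hom.comp_apply,
        Scheme.fromSpecResidueField_apply]⟩
  have hξ : f (genericPoint X) = genericPoint Y := by
    obtain ⟨x, hx⟩ := hsurj (genericPoint Y)
    have := (genericPoint_specializes x).map f.continuous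
    rw [hx] at this
    exact (this.antisymm (genericPoint_specializes _)).eq
  have hex : ValuativeCriterion.Existence f := by
    intro S
    obtain ⟨R, K, i₁, i₂, ⟨w⟩⟩ := S
    let y := i₂ (IsLocalRing.closedPoint R)
    let φ := Spec.map (Scheme.stalkClosedPointTo i₂)
    have hφ : φ ≫ Y.fromSpecStalk y = i₂ := Scheme.Spec_stalkClosedPointTo_fromSpecStalk i₂
    haveI := isProper_local f hY hfib hξ y
    have hE : ValuativeCriterion.Existence (pullback.snd f (Y.fromSpecStalk y)) := by
      have h : UniversallyClosed (pullback.snd f (Y.fromSpecStalk y)) := inferInstance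
      rw [UniversallyClosed.eq_valuativeCriterion] at h
      exact h.1
    obtain ⟨⟨⟨s, hs1, hs2⟩⟩⟩ := hE
      { R := R, K := K
        i₁ := pullback.lift i₁ (Spec.map (CommRingCat.ofHom (algebraMap R K)) ≫ φ) (by rw [Category.assoc, hφ, w])
        i₂ := φ
        commSq := ⟨pullback.lift_snd _ _ _⟩ }
    refine ⟨⟨⟨s ≫ pullback.fst f (Y.fromSpecStalk y), ?_, ?_⟩⟩⟩
    · rw [← Category.assoc, hs1, pullback.lift_fst]
    · rw [Category.assoc, pullback.condition, reassoc_of% hs2, hφ]
  haveI : UniversallyClosed f := UniversallyClosed.of_valuativeCriterion f hex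
  exact {}

end Groth.Agent.S14037
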