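import Mathlib
import Groth.Agent.Hopf35.Hermite
import Groth.Statements.S14038

set_option autoImplicit false
universe u
open W4c1frobunstiva

namespace Groth.Agent.S14038

theorem result (k : Type u) [Field k] (r : ℕ)
    (M : Matrix (Fin r) (Fin r) (PowerSeries k)) (hM : M.det ≠ 0) :
    ∃! H : Matrix (Fin r) (Fin r) (PowerSeries k),
      (∃ e : Fin r → ℕ, (∀ i, H i i = PowerSeries.X ^ e i) ∧ (∀ i j, j < i → H i j = 0) ∧
        (∀ i j, i < j → ∀ n, e j ≤ n → PowerSeries.coeff n (H i j) = 0)) ∧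
      ∃ N : Matrix (Fin r) (Fin r) (PowerSeries k), IsUnit N ∧ N * M = H := by
  obtain ⟨N, P, e, hN, hP, -, hP1, hT, hred⟩ := Hopf35.Hermite.exists_reduced 1 False M hM
  have hP' : P = 1 := hP1 id
  subst hP'
  rw [mul_one] at hT hred
  have hR : Hopf35.Hermite.IsRed (N * M) e := ⟨hT, fun i j hij n hn => hred i j hij n (Or.inl hn)⟩
  refine ⟨N * M, ⟨⟨e, hT.1, hT.2, hR.2⟩, N, hN, rfl⟩, ?_⟩
  rintro H ⟨⟨e', h1, h2, h3⟩, N', hN', rfl⟩
  obtain ⟨u, rfl⟩ := hN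
  obtain ⟨u', rfl⟩ := hN'
  refine Hopf35.Hermite.red_unique (U := ↑(u * u'⁻¹)) (V := ↑(u' * u⁻¹)) ⟨⟨h1, h2⟩, h3⟩ hR ?_ ?_
  · rw [← mul_assoc, ← Units.val_mul, inv_mul_cancel_right]
  · rw [← mul_assoc, ← Units.val_mul, inv_mul_cancel_right]

end Groth.Agent.S14038
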