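import Mathlib
import Groth.Statements.S14039

set_option autoImplicit false
open W4c1frobunstiva

namespace Groth.Agent.S14039

section
variable (p : ℕ)

/-- Number of exponent vectors, with an integer total degree. -/
def N (n : ℕ) (m : ℤ) : ℤ :=
  ∑ e : Fin n → Fin p, if (∀ i, 1 ≤ (e i : ℕ)) ∧ (∑ i, ((e i : ℕ) : ℤ)) = m then 1 else 0

/-- Number of monomials of degree `m` in `n` variables with positive exponents. -/
def T (n : ℕ) (m : ℤ) : ℤ := if (n : ℤ) ≤ m then (((m - 1).toNat.choose (n - 1) : ℕ) : ℤ) else 0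

lemma N_succ (n : ℕ) (m : ℤ) :
    N p (n + 1) m = ∑ v ∈ Finset.range p, if 1 ≤ v then N p n (m - v) else 0 := by
  rw [← Fin.sum_univ_eq_sum_range (fun v => if 1 ≤ v then N p n (m - v) else 0) p]
  rw [N, ← (Fin.consEquiv fun _ => Fin p).sum_comp, Fintype.sum_prod_type]
  refine Finset.sum_congr rfl fun v _ => ?_
  simp only [Fin.consEquiv_apply, Fin.forall_fin_succ, Fin.cons_zero, Fin.cons_succ, Fin.sum_univ_succ]
  split_ifs with hv
  · refine Finset.sum_congr rfl fun e _ => ?_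
    simp only [hv, true_and, eq_sub_iff_add_eq']
  · simp [hv]

lemma T_step (n : ℕ) (hn : 1 ≤ n) (y : ℤ) : T (n + 1) y - T (n + 1) (y - 1) = T n (y - 1) := by
  simp only [T, Nat.cast_add, Nat.cast_one, Nat.add_sub_cancel]
  obtain ⟨k, rfl⟩ : ∃ k, n = k + 1 := ⟨n - 1, by omega⟩
  simp only [Nat.add_sub_cancel, Nat.cast_add, Nat.cast_one]
  split_ifs <;> try omega
  · rw [show (y - 1).toNat = (y - 1 - 1).toNat + 1 by omega, Nat.choose_succ_succ]; push_cast; ring
  · rw [show (y - 1).toNat = k + 1 by omega, show (y - 1 - 1).toNat = k by omega]; simp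

lemma T_tele (n : ℕ) (hn : 1 ≤ n) (x : ℤ) :
    (∑ v ∈ Finset.range p, if 1 ≤ v then T n (x - v) else 0) =
      T (n + 1) x - T (n + 1) (x - ((p - 1 : ℕ) : ℤ)) := by
  induction p with
  | zero => simp
  | succ p ih =>
    rw [Finset.sum_range_succ, ih]
    rcases Nat.eq_zero_or_pos p with rfl | hp
    · simp
    · rw [if_pos (show 1 ≤ p from hp), show x - (p : ℤ) = x - ((p - 1 : ℕ) : ℤ) - 1 by omega, ← T_step n hn]
      rw [show x - (((p + 1 - 1 : ℕ)) : ℤ) = x - ((p - 1 : ℕ) : ℤ) - 1 by omega]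
      ring

lemma pascal (n : ℕ) (F : ℕ → ℤ) :
    ∑ i ∈ Finset.range (n + 2), (-1 : ℤ) ^ i * ((n + 1).choose i : ℤ) * F i =
      ∑ i ∈ Finset.range (n + 1), (-1 : ℤ) ^ i * (n.choose i : ℤ) * (F i - F (i + 1)) := by
  simp only [mul_sub, Finset.sum_sub_distrib]
  rw [Finset.sum_range_succ' _ (n + 1)]
  have h : ∑ i ∈ Finset.range (n + 1), (-1 : ℤ) ^ i * (n.choose i : ℤ) * F i =
      ∑ i ∈ Finset.range (n + 1), (-1 : ℤ) ^ (i + 1) * (n.choose (i + 1) : ℤ) * F (i + 1) + F 0 := by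
    rw [Finset.sum_range_succ' _ n, Finset.sum_range_succ _ n]
    simp
  have h2 : ∀ i, (-1 : ℤ) ^ (i + 1) * ((n + 1).choose (i + 1) : ℤ) * F (i + 1) =
      (-1 : ℤ) ^ (i + 1) * (n.choose (i + 1) : ℤ) * F (i + 1) - (-1 : ℤ) ^ i * (n.choose i : ℤ) * F (i + 1) := by
    intro i; rw [Nat.choose_succ_succ]; push_cast; ring
  rw [h]
  simp only [h2, Finset.sum_sub_distrib]
  simp
  ring

lemma N_eq (n : ℕ) (hn : 1 ≤ n) : ∀ m : ℤ,
    N p n m = ∑ i ∈ Finset.range (n + 1), (-1 : ℤ) ^ i * (n.choose i : ℤ) * T n (m - (i * (p - 1) : ℕ)) := by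
  induction n, hn using Nat.le_induction with
  | base =>
    intro m
    rw [N_succ]
    have h0 : ∀ z : ℤ, N p 0 z = if z = 0 then 1 else 0 := fun z => by simp [N, eq_comm]
    simp only [h0]
    clear h0
    induction p with
    | zero => simp [Finset.sum_range_succ]
    | succ p ih =>
      rw [Finset.sum_range_succ, ih]
      simp only [Finset.sum_range_succ, Finset.sum_range_zero, Nat.choose_zero_right, Nat.choose_one_right,
        pow_zero, pow_one, T]
      simp
      split_ifs <;> omega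
  | succ n hn ih =>
    intro m
    rw [N_succ, pascal n (fun i => T (n + 1) (m - (i * (p - 1) : ℕ)))]
    have hite : ∀ v, (if 1 ≤ v then N p n (m - (v : ℕ)) else 0) =
        ∑ i ∈ Finset.range (n + 1), (-1 : ℤ) ^ i * (n.choose i : ℤ) *
          (if 1 ≤ v then T n (m - (i * (p - 1) : ℕ) - (v : ℕ)) else 0) := by
      intro v
      split_ifs with hv
      · simp only [ih, sub_right_comm m (v : ℤ)]
      · simp
    simp only [hite]
    rw [Finset.sum_comm]
    refine Finset.sum_congr rfl fun i _ => ?_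
    rw [← Finset.mul_sum, T_tele p n hn]
    congr 3
    push_cast
    ring

end

theorem result (p n s : ℕ)
    (hn : 1 ≤ n) :
    (Fintype.card {e : Fin n → Fin p // (∀ i, 1 ≤ (e i : ℕ)) ∧ ∑ i, (e i : ℕ) = s} : ℤ) =
      ∑ i ∈ Finset.range (n + 1),
        (-1 : ℤ) ^ i * (n.choose i : ℤ) *
          (if i * (p - 1) + n ≤ s then (((s - i * (p - 1) - 1).choose (n - 1) : ℕ) : ℤ) else 0) := by
  have h := N_eq p n hn (s : ℤ)
  have hN : (Fintype.card {e : Fin n → Fin p // (∀ i, 1 ≤ (e i : ℕ)) ∧ ∑ i, (e i : ℕ) = s} : ℤ) = N p n s := by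
    rw [Fintype.card_subtype, N, Finset.sum_boole]
    congr 2
    ext e
    simp only [Finset.mem_filter, Finset.mem_univ, true_and, ← Nat.cast_sum, Nat.cast_inj]
  rw [hN, h]
  refine Finset.sum_congr rfl fun i _ => ?_
  congr 1
  simp only [T]
  generalize i * (p - 1) = a
  split_ifs <;> try omega
  rw [show ((s : ℤ) - (a : ℤ) - 1).toNat = s - a - 1 by omega]

end Groth.Agent.S14039
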