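import Groth.Statements.S1404
import Groth.Agent.FlatMor66.HorizParam
import Groth.Agent.FlatMor66.FlatLocalDim

set_option autoImplicit false
universe u
open FlatMor

namespace Groth.Agent.S1404

/-- Let A → B be an injective local homomorphism of local domains with B essentially of finite type over
A, and g an element of the maximal ideal of B lying in no minimal prime over m_A B. Assume dim(B /
m_A B) + trdeg_{κ(A)} κ(B) = trdeg_A B (with all three finite). Then A → B/gB is injective. -/
theorem result {A B : Type u} [CommRing A] [CommRing B] [IsDomain A] [IsDomain B] [IsLocalRing A] [IsLocalRing B]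
    [Algebra A B] [IsLocalHom (algebraMap A B)] [FaithfulSMul A B] [Algebra.EssFiniteType A B]
    (g : B) (hg : g ∈ IsLocalRing.maximalIdeal B)
    (hmin : ∀ q ∈ (Ideal.map (algebraMap A B) (IsLocalRing.maximalIdeal A)).minimalPrimes, g ∉ q)
    (d e : ℕ) (hd : ringKrullDim (B ⧸ Ideal.map (algebraMap A B) (IsLocalRing.maximalIdeal A)) = d)
    (he : Algebra.trdeg (IsLocalRing.ResidueField A) (IsLocalRing.ResidueField B) = e) (hsum : Algebra.trdeg A B = (d + e : ℕ)) :
    Function.Injective (algebraMap A (B ⧸ Ideal.span {g})) := by
  have : FaithfulSMul A ↥(Algebra.EssFiniteType.subalgebra A B) := (faithfulSMul_iff_algebraMap_injective _ _).2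
    fun a b h => FaithfulSMul.algebraMap_injective A B (congrArg Subtype.val h)
  have : FaithfulSMul ↥(Algebra.EssFiniteType.subalgebra A B) B :=
    (faithfulSMul_iff_algebraMap_injective _ _).2 Subtype.val_injective
  let M := Algebra.EssFiniteType.submonoid A B
  refine (injective_iff_map_eq_zero _).2 fun a ha => by_contra fun hne => ?_
  have hm : Ideal.under A (Ideal.under ↥(Algebra.EssFiniteType.subalgebra A B) (IsLocalRing.maximalIdeal B)) =
      IsLocalRing.maximalIdeal A := by
    rw [Ideal.under_under]
    exact ((IsLocalRing.local_hom_TFAE (algebraMap A B)).out 0 4 rfl rfl).1 inferInstance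
  refine Groth.Agent.FlatMor66.not_mem_span_of_proper_cut M g hg (by rwa [hm]) d e (by rw [hm]; exact hd.le) ?_ ?_ a hne
    (Ideal.Quotient.eq_zero_iff_mem.1 ha)
  · exact (Groth.Agent.FlatMor66.trdeg_residueField_eq M).symm.trans he
  · exact (Groth.Agent.FlatMor66.trdeg_eq_of_isLocalization M).symm.trans hsum

end Groth.Agent.S1404
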