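import Mathlib
import Groth.Agent.S14035
import Groth.Statements.S14040

set_option autoImplicit false
universe u v
open W4c1frobunstiva

namespace Groth.Agent.S14040

open TensorProduct in
theorem result (A : Type u) [CommRing A]
    [IsDomain A] [IsDiscreteValuationRing A] (B : Type v) [CommRing B] [Algebra A B]
    [IsNoetherianRing B] (hirr : (nilradical B).IsPrime)
    (hdom : (nilradical B).comap (algebraMap A B) = ⊥)
    (hfib : ∀ p : PrimeSpectrum A, IsReduced (p.asIdeal.ResidueField ⊗[A] B)) :
    IsReduced B ∧ Module.Flat A B := by
  haveI := hirr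
  have hinj : Function.Injective (algebraMap A (B ⧸ nilradical B)) := by
    rw [injective_iff_map_eq_zero]
    intro a ha
    rw [IsScalarTower.algebraMap_apply A B (B ⧸ nilradical B), Ideal.Quotient.algebraMap_eq,
      Ideal.Quotient.eq_zero_iff_mem] at ha
    have h : a ∈ (nilradical B).comap (algebraMap A B) := ha
    rw [hdom] at h
    exact h
  haveI : FaithfulSMul A (B ⧸ nilradical B) := (faithfulSMul_iff_algebraMap_injective _ _).mpr hinj
  haveI : Module.IsTorsionFree A (B ⧸ nilradical B) := inferInstance
  haveI : Module.Flat A (B ⧸ nilradical B) := inferInstance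
  have hred := Groth.Agent.S14035.result A B hfib
  haveI := hred
  refine ⟨hred, ?_⟩
  exact Module.Flat.of_linearEquiv
    ((Ideal.quotientEquivAlgOfEq A (nilradical_eq_zero B)).trans (AlgEquiv.quotientBot A B)).toLinearEquiv.symm

end Groth.Agent.S14040
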