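import Groth.Statements.S14041
import Groth.Agent.GenDeg7.Main
-- import your own Groth.Agent.* helpers here

set_option autoImplicit false
universe u
open CategoryTheory CategoryTheory.Limits AlgebraicGeometry
open W4c1frobunstiva

namespace Groth.Agent.S14041
open Groth.Agent
set_option maxSynthPendingDepth 6
set_option backward.isDefEq.respectTransparency.types false

/-- Let k be a field, X and Y integral schemes of finite type over k of the same (topological Krull)
dimension, and f : X → Y a dominant k-morphism, so that f sends the generic point ξ of X to the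
generic point of Y. Then κ(ξ) is a finite extension of the residue field at f(ξ), say of degree d,
and there is a non-empty open subset U of Y such that for every point y of U the fibre X_y = X ×_Y
Spec κ(y) is finite over κ(y) and its ring of global sections has dimension exactly d over κ(y).
(The published statement speaks of the length of X_y; the κ(y)-dimension of Γ(X_y, O) is the
invariant for which the equality holds on U, including at the generic point.) -/
theorem result (k : Type u) [Field k] {X Y : Scheme.{u}}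
    [X.Over (Spec (CommRingCat.of k))] [Y.Over (Spec (CommRingCat.of k))]
    [LocallyOfFiniteType (X ↘ Spec (CommRingCat.of k))] [QuasiCompact (X ↘ Spec (CommRingCat.of k))]
    [LocallyOfFiniteType (Y ↘ Spec (CommRingCat.of k))] [QuasiCompact (Y ↘ Spec (CommRingCat.of k))]
    [IsIntegral X] [IsIntegral Y] (f : X ⟶ Y) [IsDominant f]
    (hf : f ≫ (Y ↘ Spec (CommRingCat.of k)) = X ↘ Spec (CommRingCat.of k))
    (hdim : topologicalKrullDim ↥X = topologicalKrullDim ↥Y) :
    (letI := (f.residueFieldMap (genericPoint ↥X)).hom.toAlgebra;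
      Module.Finite (Y.residueField (f.base (genericPoint ↥X))) (X.residueField (genericPoint ↥X))) ∧
    ∃ U : Y.Opens, Nonempty ↥U ∧ ∀ y : Y, y ∈ U →
      IsFinite (pullback.snd f (Y.fromSpecResidueField y)) ∧
        (letI := ((Scheme.ΓSpecIso (CommRingCat.of (Y.residueField y))).inv ≫
            (pullback.snd f (Y.fromSpecResidueField y)).appTop).hom.toAlgebra;
          Module.finrank (Y.residueField y) ↑(Γ(pullback f (Y.fromSpecResidueField y), ⊤))) =
        (letI := (f.residueFieldMap (genericPoint ↥X)).hom.toAlgebra;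
          Module.finrank (Y.residueField (f.base (genericPoint ↥X))) (X.residueField (genericPoint ↥X))) := by
  haveI : IsLocallyNoetherian X := LocallyOfFiniteType.isLocallyNoetherian (X ↘ Spec (CommRingCat.of k))
  haveI : IsLocallyNoetherian Y := LocallyOfFiniteType.isLocallyNoetherian (Y ↘ Spec (CommRingCat.of k))
  haveI : CompactSpace X := QuasiCompact.compactSpace_of_compactSpace (X ↘ Spec (CommRingCat.of k))
  haveI : AlgebraicGeometry.IsNoetherian X := {}
  haveI : Subsingleton ↥(Spec (CommRingCat.of k)) := inferInstanceAs (Subsingleton (PrimeSpectrum k))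
  haveI : LocallyOfFiniteType (f ≫ (Y ↘ Spec (CommRingCat.of k))) := by rw [hf]; infer_instance
  haveI : LocallyOfFiniteType f := locallyOfFiniteType_of_comp f (Y ↘ Spec (CommRingCat.of k))
  haveI : QuasiCompact f := (quasiCompact_iff f).2 fun _ _ _ =>
    (inferInstance : TopologicalSpace.NoetherianSpace X).isCompact _
  have hξ : f (genericPoint X) = genericPoint Y := Fin57.apply_genericPoint_eq f
  have h0 : E4O.fdeg f (genericPoint X) = 0 := by
    have h := GenDeg7.fdeg_comp f (Y ↘ Spec (CommRingCat.of k)) (genericPoint X)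
    rw [hξ, GenDeg7.fdeg_genericPoint_of_subsingleton, GenDeg7.fdeg_genericPoint_of_subsingleton, ← hdim] at h
    omega
  have hmax : ∀ x, f x = f (genericPoint X) → x = genericPoint X := fun x hx => by
    by_contra hne
    have := E4O.fdeg_lt (f := f) (genericPoint_specializes x) hx.symm (Ne.symm hne)
    omega
  refine ⟨(Fin57.finite_residueField_iff f (genericPoint X)).2 fun x' hx' _ => hmax x' hx', ?_⟩
  obtain ⟨V, -, hVne, hVfin⟩ := Fin57.exists_isFinite_restrict_of_quasiCompact f
    (fun x hx => hmax x (hx.trans hξ.symm))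
  obtain ⟨W, hW, hWfl, -⟩ := FlatCrit65.exists_dense_flat_lfp f
  obtain ⟨v⟩ := hVne
  obtain ⟨w, hwV, hwW⟩ := hW.inter_open_nonempty (V : Set Y) V.2 ⟨v.1, v.2⟩
  let U : Y.Opens := V ⊓ W
  haveI hUne : Nonempty ↥U := ⟨⟨w, hwV, hwW⟩⟩
  have restr : ∀ {O : Y.Opens} (hle : U ≤ O), IsPullback (X.homOfLE (f.preimage_mono hle)) (f ∣_ U) (f ∣_ O) (Y.homOfLE hle) := by
    intro O hle
    refine IsPullback.of_right ?_ (by rw [← cancel_mono O.ι]; simp) (isPullback_morphismRestrict f O).flip
    rw [Scheme.homOfLE_ι, Scheme.homOfLE_ι]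
    exact (isPullback_morphismRestrict f U).flip
  haveI : IsFinite (f ∣_ U) := MorphismProperty.of_isPullback (restr (inf_le_left : U ≤ V)) hVfin
  haveI : Flat (f ∣_ U) := MorphismProperty.of_isPullback (restr (inf_le_right : U ≤ W)) hWfl
  have hηU : genericPoint Y ∈ U := (genericPoint_specializes w).mem_open U.2 ⟨hwV, hwW⟩
  have hξU : genericPoint X ∈ f ⁻¹ᵁ U := by show f (genericPoint X) ∈ U; rw [hξ]; exact hηU
  haveI : Nonempty ↥(f ⁻¹ᵁ U) := ⟨⟨_, hξU⟩⟩
  haveI : Nonempty ↥U.toScheme := hUne
  haveI : IsIntegral U.toScheme := isIntegral_of_isOpenImmersion U.ι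
  haveI : Nonempty ↥(f ⁻¹ᵁ U).toScheme := ⟨⟨_, hξU⟩⟩
  haveI : IsIntegral (f ⁻¹ᵁ U).toScheme := isIntegral_of_isOpenImmersion (f ⁻¹ᵁ U).ι
  have hj : (f ⁻¹ᵁ U).ι (genericPoint ↥(f ⁻¹ᵁ U).toScheme) = genericPoint X := genericPoint_eq_of_isOpenImmersion _
  have hg : (f ∣_ U) (genericPoint ↥(f ⁻¹ᵁ U).toScheme) = genericPoint ↥U.toScheme := by
    apply U.ι.isOpenEmbedding.injective
    rw [← Scheme.Hom.comp_apply, morphismRestrict_ι, Scheme.Hom.comp_apply, hj, hξ, genericPoint_eq_of_isOpenImmersion]
  have hd : (f ∣_ U).residueDegree (genericPoint ↥(f ⁻¹ᵁ U).toScheme) = f.residueDegree (genericPoint X) := by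
    rw [← GenDeg7.residueDegree_comp_right (f ∣_ U) U.ι, morphismRestrict_ι, GenDeg7.residueDegree_comp_left, hj]
  refine ⟨U, hUne, fun y hy => ?_⟩
  let t := Y.fromSpecResidueField y
  have hrange : Set.range t ⊆ Set.range U.ι := by
    rw [Scheme.Opens.range_ι]
    rintro _ ⟨p, rfl⟩
    rw [Scheme.fromSpecResidueField_apply]
    exact hy
  let t' : Spec (Y.residueField y) ⟶ U := IsOpenImmersion.lift U.ι t hrange
  have ht' : t' ≫ U.ι = t := IsOpenImmersion.lift_fac _ _ _
  have hP : IsPullback (pullback.fst (f ∣_ U) t' ≫ (f ⁻¹ᵁ U).ι) (pullback.snd (f ∣_ U) t') f t := by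
    have := (IsPullback.of_hasPullback (f ∣_ U) t').paste_horiz (isPullback_morphismRestrict f U).flip
    rwa [ht'] at this
  let e : pullback (f ∣_ U) t' ≅ pullback f t := hP.isoPullback
  have he : e.hom ≫ pullback.snd f t = pullback.snd (f ∣_ U) t' := hP.isoPullback_hom_snd
  have hfin : IsFinite (pullback.snd f t) := by
    rw [← MorphismProperty.cancel_left_of_respectsIso (P := @IsFinite) e.hom, he]
    infer_instance
  refine ⟨hfin, ?_⟩
  obtain ⟨p⟩ : Nonempty ↥(Spec (Y.residueField y)) := inferInstance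
  have key := GenDeg7.finrank_fibre (f ∣_ U) (Y.residueField y) t' p
  rw [Crv77.finrank_eq_residueDegree (f ∣_ U) hg, hd] at key
  letI a1 := ((Scheme.ΓSpecIso (CommRingCat.of (Y.residueField y))).inv ≫ (pullback.snd f t).appTop).hom.toAlgebra
  letI a2 := ((Scheme.ΓSpecIso (CommRingCat.of (Y.residueField y))).inv ≫ (pullback.snd (f ∣_ U) t').appTop).hom.toAlgebra
  refine Eq.trans (Algebra.finrank_eq_of_equiv_equiv (RingEquiv.refl _)
    (haveI : IsIso e.hom.appTop := inferInstanceAs (IsIso (e.hom.app ⊤)); (asIso e.hom.appTop).commRingCatIsoToRingEquiv) ?_) key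
  ext r
  show ((Scheme.ΓSpecIso _).inv ≫ (pullback.snd (f ∣_ U) t').appTop).hom r =
    e.hom.appTop.hom (((Scheme.ΓSpecIso _).inv ≫ (pullback.snd f t).appTop).hom r)
  rw [← he, Scheme.Hom.comp_appTop]
  rfl

end Groth.Agent.S14041
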