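import Groth.Statements.S14042
import Groth.Agent.S14041
import Groth.Agent.GenDeg7.RankLe
import Groth.Agent.NeronHD28.FlatIffQFScheme
import Groth.Agent.LimTop61.ZmtFactor
import Groth.Agent.Grpd80.InvAffine
-- import your own Groth.Agent.* helpers here

set_option autoImplicit false
universe u
open CategoryTheory CategoryTheory.Limits AlgebraicGeometry
open W4c1frobunstiva

namespace Groth.Agent.S14042
open Groth.Agent TopologicalSpace
set_option maxSynthPendingDepth 6
set_option backward.isDefEq.respectTransparency.types false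

/-- A finite fibre consists of finitely many quasi-finite points. -/
theorem finite_fibre {X Y : Scheme.{u}} (f : X ⟶ Y) [LocallyOfFiniteType f] (z : Y)
    (hz : IsFinite (f.fiberToSpecResidueField z)) :
    (f ⁻¹' {z}).Finite ∧ ∀ x, f x = z → f.QuasiFiniteAt x := by
  haveI := hz
  haveI : IsLocallyArtinian (f.fiber z) := .of_locallyQuasiFinite (f.fiberToSpecResidueField z)
  haveI : DiscreteTopology ↥(f.fiber z) := inferInstance
  haveI : CompactSpace ↥(f.fiber z) := QuasiCompact.compactSpace_of_compactSpace (f.fiberToSpecResidueField z)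
  haveI : Finite ↥(f.fiber z) := finite_of_compact_of_discrete
  refine ⟨?_, ?_⟩
  · haveI : Finite ↥(f ⁻¹' {z}) := Finite.of_equiv _ (f.fiberHomeo z).toEquiv
    exact Set.toFinite _
  · rintro x rfl
    rw [Scheme.Hom.quasiFiniteAt_iff_isOpen_singleton_asFiber]
    exact isOpen_discrete _

/-- The fibre rank of a flat affine morphism is at most the generic one. -/
theorem rank_le {X Y : Scheme.{u}} (f : X ⟶ Y) {W : X.Opens} {V : Y.Opens} (hW : IsAffineOpen W)
    (hV : IsAffineOpen V) [IsIntegral Y] [Nonempty ↥V] (hWV : W ≤ f ⁻¹ᵁ V) [Flat (W.ι ≫ f)] (y : Y) (hyV : y ∈ V)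
    (hy : f ⁻¹' {y} ⊆ (W : Set X)) (hη : f ⁻¹' {genericPoint Y} ⊆ (W : Set X))
    (hfin : IsFinite (pullback.snd f (Y.fromSpecResidueField (genericPoint Y)))) :
    (letI := ((Scheme.ΓSpecIso (CommRingCat.of (Y.residueField y))).inv ≫
            (pullback.snd f (Y.fromSpecResidueField y)).appTop).hom.toAlgebra;
          Module.finrank (Y.residueField y) ↑(Γ(pullback f (Y.fromSpecResidueField y), ⊤))) ≤
      (letI := ((Scheme.ΓSpecIso (CommRingCat.of (Y.residueField (genericPoint Y)))).inv ≫
            (pullback.snd f (Y.fromSpecResidueField (genericPoint Y))).appTop).hom.toAlgebra;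
          Module.finrank (Y.residueField (genericPoint Y))
            ↑(Γ(pullback f (Y.fromSpecResidueField (genericPoint Y)), ⊤))) := by
  haveI : IsAffine W.toScheme := hW
  haveI : IsAffine V.toScheme := hV
  haveI : Nonempty ↥V.toScheme := ‹Nonempty ↥V›
  haveI : IsIntegral V.toScheme := isIntegral_of_isOpenImmersion V.ι
  have hrange : Set.range (W.ι ≫ f) ⊆ Set.range V.ι := by
    rintro _ ⟨w, rfl⟩
    rw [Scheme.Opens.range_ι]
    exact hWV w.2
  let g : W.toScheme ⟶ V.toScheme := IsOpenImmersion.lift V.ι (W.ι ≫ f) hrange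
  have hg : g ≫ V.ι = W.ι ≫ f := IsOpenImmersion.lift_fac _ _ _
  haveI : Flat g := by
    haveI : Flat (g ≫ V.ι) := by rw [hg]; infer_instance
    exact MorphismProperty.of_postcomp (W := @Flat) (W' := @IsOpenImmersion) g V.ι inferInstance inferInstance
  have main : ∀ z : Y, z ∈ V → f ⁻¹' {z} ⊆ (W : Set X) → ∃ (t : Spec (Y.residueField z) ⟶ V.toScheme),
      t ≫ V.ι = Y.fromSpecResidueField z ∧ ∃ e : pullback g t ≅ pullback f (Y.fromSpecResidueField z),
        e.hom ≫ pullback.snd f (Y.fromSpecResidueField z) = pullback.snd g t := by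
    intro z hzV hz
    have hr : Set.range (Y.fromSpecResidueField z) ⊆ Set.range V.ι := by
      rw [Scheme.Opens.range_ι]
      rintro _ ⟨p, rfl⟩
      rw [Scheme.fromSpecResidueField_apply]
      exact hzV
    refine ⟨IsOpenImmersion.lift V.ι _ hr, IsOpenImmersion.lift_fac _ _ _,
      GenDeg7.exists_pullback_iso f _ W.ι V.ι g _ hg (IsOpenImmersion.lift_fac _ _ _) ?_⟩
    rw [Scheme.Opens.range_ι]
    rintro _ ⟨q, rfl⟩
    refine hz ?_
    show f ((pullback.fst f (Y.fromSpecResidueField z)) q) = z
    rw [← Scheme.Hom.comp_apply, pullback.condition, Scheme.Hom.comp_apply, Scheme.fromSpecResidueField_apply]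
  have hηV : genericPoint Y ∈ V := (genericPoint_specializes y).mem_open V.2 hyV
  obtain ⟨t, -, e, he⟩ := main y hyV hy
  obtain ⟨s, hs, e', he'⟩ := main _ hηV hη
  have hcmp : ∀ (z : Y) (t : Spec (Y.residueField z) ⟶ V.toScheme)
      (e : pullback g t ≅ pullback f (Y.fromSpecResidueField z)),
      e.hom ≫ pullback.snd f (Y.fromSpecResidueField z) = pullback.snd g t →
      (letI := ((Scheme.ΓSpecIso (CommRingCat.of (Y.residueField z))).inv ≫
            (pullback.snd f (Y.fromSpecResidueField z)).appTop).hom.toAlgebra;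
          Module.finrank (Y.residueField z) ↑(Γ(pullback f (Y.fromSpecResidueField z), ⊤))) =
      (letI := g.appTop.hom.toAlgebra
       letI := (t.appTop ≫ (Scheme.ΓSpecIso (CommRingCat.of (Y.residueField z))).hom).hom.toAlgebra
       Module.finrank (Y.residueField z) (TensorProduct Γ(V.toScheme, ⊤) (Y.residueField z) Γ(W.toScheme, ⊤))) := by
    intro z t e he
    refine Eq.trans ?_ (GenDeg7.finrank_appTop_eq g (Y.residueField z) t)
    letI a1 := ((Scheme.ΓSpecIso (CommRingCat.of (Y.residueField z))).inv ≫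
        (pullback.snd f (Y.fromSpecResidueField z)).appTop).hom.toAlgebra
    letI a2 := ((Scheme.ΓSpecIso (CommRingCat.of (Y.residueField z))).inv ≫ (pullback.snd g t).appTop).hom.toAlgebra
    haveI : IsIso e.hom.appTop := inferInstanceAs (IsIso (e.hom.app ⊤))
    refine Algebra.finrank_eq_of_equiv_equiv (RingEquiv.refl _) (asIso e.hom.appTop).commRingCatIsoToRingEquiv ?_
    ext r
    show ((Scheme.ΓSpecIso _).inv ≫ (pullback.snd g t).appTop).hom r =
      e.hom.appTop.hom (((Scheme.ΓSpecIso _).inv ≫ (pullback.snd f (Y.fromSpecResidueField z)).appTop).hom r)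
    rw [← he, Scheme.Hom.comp_appTop]
    rfl
  rw [hcmp y t e he, hcmp _ s e' he']
  let L := Y.residueField (genericPoint Y)
  letI := g.appTop.hom.toAlgebra
  letI aK := (t.appTop ≫ (Scheme.ΓSpecIso (CommRingCat.of (Y.residueField y))).hom).hom.toAlgebra
  letI aL := (s.appTop ≫ (Scheme.ΓSpecIso (CommRingCat.of (Y.residueField (genericPoint Y)))).hom).hom.toAlgebra
  haveI : IsDomain Γ(V.toScheme, ⊤) := inferInstance
  haveI : Module.Flat Γ(V.toScheme, ⊤) Γ(W.toScheme, ⊤) :=
    RingHom.flat_algebraMap_iff.1 (HasRingHomProperty.appTop (P := @Flat) g inferInstance)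
  haveI : FaithfulSMul Γ(V.toScheme, ⊤) (Y.residueField (genericPoint Y)) := by
    haveI : IsDominant (Y.fromSpecResidueField (genericPoint Y)) := ⟨by
      show Dense (Set.range (Y.fromSpecResidueField (genericPoint Y)))
      rw [Scheme.range_fromSpecResidueField, dense_iff_closure_eq, genericPoint_spec Y |>.def]⟩
    haveI : IsDominant (s ≫ V.ι) := by rw [hs]; infer_instance
    haveI : IsDominant s := ⟨by
      have h := IsDominant.denseRange (f := s ≫ V.ι)
      refine dense_iff_inter_open.2 fun O hO ⟨o, ho⟩ => ?_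
      obtain ⟨_, ⟨⟨o', ho', rfl⟩, q, hq⟩⟩ := dense_iff_inter_open.1 h _ (V.ι.isOpenEmbedding.isOpenMap O hO) ⟨_, o, ho, rfl⟩
      refine ⟨o', ho', q, V.ι.isOpenEmbedding.injective ?_⟩
      rw [← Scheme.Hom.comp_apply]
      exact hq⟩
    rw [faithfulSMul_iff_algebraMap_injective]
    have hinj : Function.Injective s.appTop.hom := by
      rw [injective_iff_map_eq_zero]
      intro a ha
      by_contra hne
      obtain ⟨v, hv⟩ : ∃ v, v ∈ V.toScheme.basicOpen a := by
        by_contra h
        push Not at h
        refine hne ((AlgebraicGeometry.basicOpen_eq_bot_iff a).1 (Opens.ext (Set.eq_empty_of_forall_notMem h)))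
      obtain ⟨_, hw, q, rfl⟩ := dense_iff_inter_open.1 (IsDominant.denseRange (f := s)) _
        (V.toScheme.basicOpen a).2 ⟨v, hv⟩
      have : q ∈ s ⁻¹ᵁ V.toScheme.basicOpen a := hw
      rw [Scheme.preimage_basicOpen] at this
      erw [show (s.app ⊤).hom a = s.appTop.hom a from rfl, ha, Scheme.basicOpen_zero] at this
      exact this
    exact fun a b h => hinj ((Scheme.ΓSpecIso (CommRingCat.of (Y.residueField (genericPoint Y)))).commRingCatIsoToRingEquiv.injective h)
  haveI : Module.Finite (Y.residueField (genericPoint Y))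
      (TensorProduct Γ(V.toScheme, ⊤) (Y.residueField (genericPoint Y)) Γ(W.toScheme, ⊤)) := by
    haveI : IsFinite (pullback.snd g s) := by rw [← he']; infer_instance
    haveI : IsAffine (pullback g s) := isAffine_of_isAffineHom (pullback.snd g s)
    have hf : (pullback.snd g s).appTop.hom.Finite :=
      (pullback.snd g s).finite_appTop
    letI aP := ((Scheme.ΓSpecIso (CommRingCat.of (Y.residueField (genericPoint Y)))).inv ≫
      (pullback.snd g s).appTop).hom.toAlgebra
    haveI : Module.Finite (Y.residueField (genericPoint Y)) Γ(pullback g s, ⊤) :=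
      RingHom.finite_algebraMap.1 (RingHom.Finite.comp hf (RingHom.Finite.of_surjective _
        (Scheme.ΓSpecIso (CommRingCat.of (Y.residueField (genericPoint Y)))).commRingCatIsoToRingEquiv.symm.surjective))
    obtain ⟨q⟩ := GenDeg7.nonempty_equiv_appTop g (Y.residueField (genericPoint Y)) s
    exact Module.Finite.equiv q.symm
  exact GenDeg7.finrank_baseChange_le _ _ _

/-- Let k be a field, X and Y integral schemes of finite type over k of the same dimension whose local
rings are all regular, and f : X → Y a dominant and separated k-morphism; let d be the degree of the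
residue field of the generic point of X over that of the generic point of Y, a finite extension.
Then for every point y of Y, either the fibre X_y has positive dimension — it is not finite over
κ(y) — or its ring of global sections has dimension at most d over κ(y). (The published statement
speaks of length; the κ(y)-rank used here is at least the length, so this form implies the printed
one. The published statement does not mention separatedness: for the affine line with doubled origin
mapping to the affine line — regular, dominant, degree 1 — the fibre over the origin is two reduced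
points, of rank 2; the étale-local splitting of a quasi-finite morphism used in the published proof
needs f separated, so f is taken separated here.) -/
theorem result (k : Type u) [Field k] {X Y : Scheme.{u}}
    [X.Over (Spec (CommRingCat.of k))] [Y.Over (Spec (CommRingCat.of k))]
    [LocallyOfFiniteType (X ↘ Spec (CommRingCat.of k))] [QuasiCompact (X ↘ Spec (CommRingCat.of k))]
    [LocallyOfFiniteType (Y ↘ Spec (CommRingCat.of k))] [QuasiCompact (Y ↘ Spec (CommRingCat.of k))]
    [IsIntegral X] [IsIntegral Y] (f : X ⟶ Y) [IsDominant f]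
    (hf : f ≫ (Y ↘ Spec (CommRingCat.of k)) = X ↘ Spec (CommRingCat.of k))
    (hdim : topologicalKrullDim ↥X = topologicalKrullDim ↥Y)
    [IsSeparated f] (hX : ∀ x : X, IsRegularLocalRing (X.presheaf.stalk x))
    (hY : ∀ y : Y, IsRegularLocalRing (Y.presheaf.stalk y)) (y : Y)
    (hy : IsFinite (pullback.snd f (Y.fromSpecResidueField y))) :
    (letI := ((Scheme.ΓSpecIso (CommRingCat.of (Y.residueField y))).inv ≫
            (pullback.snd f (Y.fromSpecResidueField y)).appTop).hom.toAlgebra;
          Module.finrank (Y.residueField y) ↑(Γ(pullback f (Y.fromSpecResidueField y), ⊤))) ≤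
      (letI := (f.residueFieldMap (genericPoint ↥X)).hom.toAlgebra;
          Module.finrank (Y.residueField (f.base (genericPoint ↥X))) (X.residueField (genericPoint ↥X))) := by
  haveI : IsLocallyNoetherian X := LocallyOfFiniteType.isLocallyNoetherian (X ↘ Spec (CommRingCat.of k))
  haveI : IsLocallyNoetherian Y := LocallyOfFiniteType.isLocallyNoetherian (Y ↘ Spec (CommRingCat.of k))
  haveI : CompactSpace X := QuasiCompact.compactSpace_of_compactSpace (X ↘ Spec (CommRingCat.of k))
  haveI : AlgebraicGeometry.IsNoetherian X := {}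
  haveI : LocallyOfFiniteType (f ≫ (Y ↘ Spec (CommRingCat.of k))) := by rw [hf]; infer_instance
  haveI : LocallyOfFiniteType f := locallyOfFiniteType_of_comp f (Y ↘ Spec (CommRingCat.of k))
  obtain ⟨-, U₀, ⟨u⟩, hU₀⟩ := S14041.result k f hf hdim
  obtain ⟨hηfin, hd⟩ := hU₀ (genericPoint Y) ((genericPoint_specializes u.1).mem_open U₀.2 u.2)
  rw [← hd]
  obtain ⟨hTy, hqy⟩ := finite_fibre f y hy
  obtain ⟨hTη, hqη⟩ := finite_fibre f (genericPoint Y) hηfin
  obtain ⟨V, hV, hyV, -⟩ := exists_isAffineOpen_mem_and_subset (U := (⊤ : Y.Opens)) (x := y) trivial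
  haveI : Nonempty ↥V := ⟨⟨y, hyV⟩⟩
  have hηV : genericPoint Y ∈ V := (genericPoint_specializes y).mem_open V.2 hyV
  let U : X.Opens := f.quasiFiniteLocus ⊓ f ⁻¹ᵁ V
  haveI : IsAffine V.toScheme := hV
  have hξ : f (genericPoint X) = genericPoint Y := Fin57.apply_genericPoint_eq f
  have hξU : genericPoint X ∈ U := ⟨hqη _ hξ, show f (genericPoint X) ∈ V by rw [hξ]; exact hηV⟩
  haveI : Nonempty ↥U.toScheme := ⟨⟨_, hξU⟩⟩
  haveI : IsIntegral U.toScheme := isIntegral_of_isOpenImmersion U.ι
  haveI : LocallyQuasiFinite (U.ι ≫ f) := by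
    rw [← X.homOfLE_ι (inf_le_left : U ≤ f.quasiFiniteLocus), Category.assoc]
    infer_instance
  haveI : Flat (U.ι ≫ f) := by
    refine (NeronHD28.flat_iff_locallyQuasiFinite_of_regular _ (fun x => ?_) hY ?_ ?_).2 inferInstance
    · haveI := hX (U.ι x)
      exact IsRegularLocalRing.of_ringEquiv (asIso (U.ι.stalkMap x)).commRingCatIsoToRingEquiv
    · rw [Scheme.Hom.comp_apply, genericPoint_eq_of_isOpenImmersion, hξ]
    · have e : (U.ι ≫ f) ⁻¹' {genericPoint Y} = U.ι ⁻¹' (f ⁻¹' {genericPoint Y}) := by
        ext x; simp only [Set.mem_preimage, Scheme.Hom.comp_apply]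
      rw [e]
      exact hTη.preimage U.ι.isOpenEmbedding.injective.injOn
  have hrange : Set.range (U.ι ≫ f) ⊆ Set.range V.ι := by
    rintro _ ⟨w, rfl⟩
    rw [Scheme.Opens.range_ι]
    exact (show w.1 ∈ U from w.2).2
  let g : U.toScheme ⟶ V.toScheme := IsOpenImmersion.lift V.ι (U.ι ≫ f) hrange
  have hg : g ≫ V.ι = U.ι ≫ f := IsOpenImmersion.lift_fac _ _ _
  haveI : LocallyQuasiFinite (g ≫ V.ι) := by rw [hg]; infer_instance
  haveI : LocallyQuasiFinite g := LocallyQuasiFinite.of_comp g V.ι
  haveI : LocallyOfFiniteType (g ≫ V.ι) := by rw [hg]; infer_instance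
  haveI : LocallyOfFiniteType g := locallyOfFiniteType_of_comp g V.ι
  haveI : IsSeparated (g ≫ V.ι) := by rw [hg]; infer_instance
  haveI : IsSeparated g := IsSeparated.of_comp g V.ι
  haveI : CompactSpace ↥U.toScheme :=
    isCompact_iff_compactSpace.1 ((inferInstance : NoetherianSpace X).isCompact (U : Set X))
  haveI : NoetherianSpace ↥U.toScheme := U.ι.isOpenEmbedding.toIsEmbedding.isInducing.noetherianSpace
  haveI : QuasiCompact g := (quasiCompact_iff g).2 fun _ _ _ =>
    (inferInstance : NoetherianSpace ↥U.toScheme).isCompact _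
  obtain ⟨T, j, π, _, _, _, _, -⟩ := LimTop61.exists_openImmersion_finite g
  haveI : IsAffine T := isAffine_of_isAffineHom π
  haveI : U.toScheme.IsQuasiAffine := Scheme.IsQuasiAffine.of_isImmersion j
  let S : Set X := f ⁻¹' {y} ∪ f ⁻¹' {genericPoint Y}
  have hSU : S ⊆ (U : Set X) := by
    rintro x (hx | hx)
    · exact ⟨hqy x hx, show f x ∈ V by rw [show f x = y from hx]; exact hyV⟩
    · exact ⟨hqη x hx, show f x ∈ V by rw [show f x = genericPoint Y from hx]; exact hηV⟩
  let O : (Spec Γ(U.toScheme, ⊤)).Opens := U.toScheme.toSpecΓ.opensRange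
  obtain ⟨a, haO, haS⟩ := Grpd80.exists_basicOpen_of_finite (isAffineOpen_top (Spec Γ(U.toScheme, ⊤))) (O := O)
    (T := U.toScheme.toSpecΓ '' (U.ι ⁻¹' S))
    (((hTy.union hTη).preimage U.ι.isOpenEmbedding.injective.injOn).image _) (Set.subset_univ _)
    (Set.image_subset_range _ _)
  let W₀ : U.toScheme.Opens := U.toScheme.toSpecΓ ⁻¹ᵁ (Spec Γ(U.toScheme, ⊤)).basicOpen a
  have hW₀ : IsAffineOpen W₀ :=
    ((isAffineOpen_top (Spec Γ(U.toScheme, ⊤))).basicOpen a).preimage_of_isOpenImmersion _ haO
  let W : X.Opens := U.ι ''ᵁ W₀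
  have hW : IsAffineOpen W := hW₀.image_of_isOpenImmersion U.ι
  have hSW : S ⊆ (W : Set X) := fun x hx => ⟨⟨x, hSU hx⟩, haS ⟨⟨x, hSU hx⟩, hx, rfl⟩, rfl⟩
  have hWU : W ≤ U := Scheme.Opens.ι_image_le U W₀
  haveI : Flat (W.ι ≫ f) := by
    rw [← X.homOfLE_ι hWU, Category.assoc]
    infer_instance
  exact rank_le f hW hV (hWU.trans inf_le_right) y hyV (fun x hx => hSW (Or.inl hx))
    (fun x hx => hSW (Or.inr hx)) hηfin

end Groth.Agent.S14042
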