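import Groth.Statements.S14043
import Mathlib.LinearAlgebra.Matrix.NonsingularInverse
import Mathlib.RingTheory.Nilpotent.Lemmas
import Mathlib.RingTheory.Nilpotent.Basic
import Mathlib.RingTheory.Ideal.Quotient.Operations
import Mathlib.LinearAlgebra.Span.Basic
import Mathlib.LinearAlgebra.Matrix.ToLin

set_option autoImplicit false
universe u v
open W4c1frobunstiva

namespace Groth.Agent.S14043

theorem isUnit_of_mul_sub_one_nilpotent {R : Type u} [CommRing R] {r : ℕ} (T S : Matrix (Fin r) (Fin r) R)
    (h : ∀ j i, IsNilpotent ((S * T - 1) j i)) : IsUnit T := by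
  have h1 : (S * T).map (Ideal.Quotient.mk (nilradical R)) = 1 := by
    ext j i
    have := Ideal.Quotient.eq.2 (show (S * T) j i - (1 : Matrix (Fin r) (Fin r) R) j i ∈ nilradical R from
      mem_nilradical.2 (h j i))
    rw [Matrix.map_apply, this, Matrix.one_apply, Matrix.one_apply]
    split_ifs <;> simp
  have h2 : IsUnit ((S * T).det) := by
    have h3 : Ideal.Quotient.mk (nilradical R) (S * T).det = 1 := by
      rw [RingHom.map_det, RingHom.mapMatrix_apply, h1, Matrix.det_one]
    rw [← map_one (Ideal.Quotient.mk (nilradical R)), Ideal.Quotient.eq, mem_nilradical] at h3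
    simpa using IsNilpotent.isUnit_add_one h3
  rw [Matrix.det_mul] at h2
  exact (Matrix.isUnit_iff_isUnit_det T).2 (isUnit_of_mul_isUnit_right h2)

theorem exists_trans {R : Type u} [CommRing R] {M : Type v} [AddCommGroup M] [Module R M] {r : ℕ}
    (n m : Fin r → M) (hn : W4c1frobunstiva.IsNRBasis R M n)
    (hm : Submodule.span R (Set.range m) = ⊤) :
    ∃ T : Matrix (Fin r) (Fin r) R, IsUnit T ∧ ∀ j, m j = ∑ i, T j i • n i := by
  choose T hT using fun j => (Submodule.mem_span_range_iff_exists_fun R).1
    (hn.1.ge (Submodule.mem_top (x := m j)))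
  choose S hS using fun j => (Submodule.mem_span_range_iff_exists_fun R).1
    (hm.ge (Submodule.mem_top (x := n j)))
  refine ⟨Matrix.of T, isUnit_of_mul_sub_one_nilpotent _ (Matrix.of S) fun j i => hn.2 _ ?_ i,
    fun j => (hT j).symm⟩
  simp only [Matrix.sub_apply, sub_smul, Finset.sum_sub_distrib, Matrix.mul_apply, Finset.sum_smul,
    Matrix.one_apply, ite_smul, one_smul, zero_smul, Finset.sum_ite_eq, Finset.mem_univ, if_true,
    mul_smul, Matrix.of_apply]
  rw [Finset.sum_comm]
  simp only [← Finset.smul_sum, hT, hS, sub_self]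

/-- Let R be a commutative Noetherian ring, M an R-module that is NR-free of rank r — generated by some
r elements all of whose linear relations have nilpotent coefficients — and m, m' two generating
families of M, each indexed by the same finite set of size r. Then some invertible r × r matrix T
over R expresses m' in terms of m, m'_j = Σ_i T_{ji} m_i; reducing modulo the nilradical n, such a T
induces the change-of-basis matrix between the bases of M/nM given by the images of m and m' (an
r-element generating family of M is itself an NR-basis), so only the existence of an invertible T is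
asserted here. (T is not unique.) -/
theorem result (R : Type u) [CommRing R]
    [IsNoetherianRing R] (M : Type v) [AddCommGroup M] [Module R M] (r : ℕ)
    (hM : W4c1frobunstiva.IsNRFree R M r) (m m' : Fin r → M)
    (hm : Submodule.span R (Set.range m) = ⊤) (hm' : Submodule.span R (Set.range m') = ⊤) :
    ∃ T : Matrix (Fin r) (Fin r) R, IsUnit T ∧ ∀ j, m' j = ∑ i, T j i • m i := by
  obtain ⟨n, hn⟩ := hM
  obtain ⟨T, hT, hmT⟩ := exists_trans n m hn hm
  obtain ⟨T', hT', hmT'⟩ := exists_trans n m' hn hm'
  obtain ⟨U, rfl⟩ := hT
  refine ⟨T' * (↑U⁻¹ : Matrix (Fin r) (Fin r) R), hT'.mul (Units.isUnit _), fun j => ?_⟩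
  have e : ∀ (X Y : Matrix (Fin r) (Fin r) R), ∑ i, X j i • ∑ l, Y i l • n l =
      ∑ l, (X * Y) j l • n l := fun X Y => by
    simp only [Matrix.mul_apply, Finset.sum_smul, Finset.smul_sum, smul_smul]
    rw [Finset.sum_comm]
  simp only [hmT, e, Matrix.mul_assoc, Units.inv_mul, Matrix.mul_one, hmT']

end Groth.Agent.S14043
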