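import Mathlib
import Groth.Agent.Hopf35.Hermite
import Groth.Statements.S14044

set_option autoImplicit false
universe u
open W4c1frobunstiva

namespace Groth.Agent.S14044

theorem result (k : Type u)
    [Field k] (p : ℕ) [Fact p.Prime] (r : ℕ) (M : Matrix (Fin r) (Fin r) (PowerSeries k))
    (hM : M.det ≠ 0) :
    ∃ (N P : Matrix (Fin r) (Fin r) (PowerSeries k)) (e : Fin r → ℕ), IsUnit N ∧ IsUnit P ∧
      (∀ i j n, ¬ p ∣ n → PowerSeries.coeff n (P i j) = 0) ∧
      (∀ i, (N * M * P) i i = PowerSeries.X ^ e i) ∧ (∀ i j, j < i → (N * M * P) i j = 0) ∧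
      (∀ i j, i < j → ∀ n, (e j ≤ n ∨ (e i ≤ n ∧ n % p = e i % p)) →
        PowerSeries.coeff n ((N * M * P) i j) = 0) := by
  obtain ⟨N, P, e, hN, hP, hPp, -, hT, hred⟩ := Hopf35.Hermite.exists_reduced p True M hM
  exact ⟨N, P, e, hN, hP, fun i j n hn => hPp i j n hn, hT.1, hT.2,
    fun i j hij n hn => hred i j hij n (hn.imp_right fun h => ⟨trivial, h⟩)⟩

end Groth.Agent.S14044
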