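import Mathlib
import Groth.Statements.S14046

set_option autoImplicit false
universe u v w
open W4c1frobunstiva

namespace Groth.Agent.S14046

open TensorProduct in
theorem result (R : Type u) (A : Type v)
    [CommRing R] [CommRing A] [Algebra R A] (I J : Ideal A) (hIJ : I ⊓ J = ⊥)
    [Module.Flat R (A ⧸ (I ⊔ J))] (R' : Type w) [CommRing R'] [Algebra R R'] :
    I.map (Algebra.TensorProduct.includeRight : A →ₐ[R] R' ⊗[R] A) ⊓
      J.map (Algebra.TensorProduct.includeRight : A →ₐ[R] R' ⊗[R] A) = ⊥ := by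
  rw [eq_bot_iff]
  rintro x ⟨hx1, hx2⟩
  let φ := fun (M : Ideal A) => (M.restrictScalars R).subtype.lTensor R'
  have hmap : ∀ M : Ideal A, ((M.map (Algebra.TensorProduct.includeRight : A →ₐ[R] R' ⊗[R] A)).restrictScalars R) =
      LinearMap.range (φ M) := fun M => Ideal.map_includeRight_eq M
  replace hx1 : x ∈ LinearMap.range (φ I) := hmap I ▸ hx1
  replace hx2 : x ∈ LinearMap.range (φ J) := hmap J ▸ hx2
  obtain ⟨a, ha⟩ := hx1
  obtain ⟨b, hb⟩ := hx2
  let iI : (I.restrictScalars R) →ₗ[R] ((I ⊔ J).restrictScalars R) :=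
    Submodule.inclusion (fun _ h => Submodule.mem_sup_left h)
  let iJ : (J.restrictScalars R) →ₗ[R] ((I ⊔ J).restrictScalars R) :=
    Submodule.inclusion (fun _ h => Submodule.mem_sup_right h)
  have hbij : Function.Bijective (iI.coprod iJ) := by
    refine ⟨(injective_iff_map_eq_zero _).mpr ?_, ?_⟩
    · rintro ⟨⟨p, hp⟩, ⟨q, hq⟩⟩ h
      have h' : p + q = 0 := congrArg Subtype.val h
      have hp' : p ∈ I ⊓ J := ⟨hp, by rw [eq_neg_of_add_eq_zero_left h']; exact J.neg_mem hq⟩
      rw [hIJ] at hp'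
      have hp0 : p = 0 := hp'
      subst hp0
      rw [zero_add] at h'
      subst h'
      rfl
    · rintro ⟨y, hy⟩
      obtain ⟨p, hp, q, hq, rfl⟩ := Submodule.mem_sup.mp (hy : y ∈ I ⊔ J)
      exact ⟨(⟨p, hp⟩, ⟨q, hq⟩), rfl⟩
  let e := LinearEquiv.ofBijective _ hbij
  let pr : ((I ⊔ J).restrictScalars R) →ₗ[R] (I.restrictScalars R) :=
    (LinearMap.fst R _ _).comp e.symm.toLinearMap
  have hprI : pr.comp iI = LinearMap.id := by
    refine LinearMap.ext fun p => ?_
    have : e.symm (iI p) = (p, 0) := by rw [LinearEquiv.symm_apply_eq]; simp [e]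
    simp [pr, this]
  have hprJ : pr.comp iJ = 0 := by
    refine LinearMap.ext fun p => ?_
    have : e.symm (iJ p) = (0, p) := by rw [LinearEquiv.symm_apply_eq]; simp [e]
    simp [pr, this]
  have hinj : Function.Injective (φ (I ⊔ J)) := by
    haveI : Module.Flat R (A ⧸ ((I ⊔ J).restrictScalars R)) :=
      Module.Flat.of_linearEquiv (Submodule.Quotient.restrictScalarsEquiv R (I ⊔ J))
    exact LinearMap.lTensor_injective_of_exact_of_flat _ (Submodule.mkQ_surjective _) _ (Submodule.injective_subtype _) (LinearMap.exact_subtype_mkQ _) R'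
  have hz : iI.lTensor R' a = iJ.lTensor R' b := hinj (by
    rw [← LinearMap.comp_apply, ← LinearMap.lTensor_comp, ← LinearMap.comp_apply (φ (I ⊔ J)), ← LinearMap.lTensor_comp]
    exact ha.trans hb.symm)
  have ha0 : a = 0 := by
    have := congrArg (pr.lTensor R') hz
    rwa [← LinearMap.comp_apply, ← LinearMap.lTensor_comp, hprI, LinearMap.lTensor_id, LinearMap.id_apply,
      ← LinearMap.comp_apply, ← LinearMap.lTensor_comp, hprJ, LinearMap.lTensor_zero, LinearMap.zero_apply] at this
  rw [← ha, ha0, map_zero]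
  rfl

end Groth.Agent.S14046
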