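import Groth.Statements.S14048
import Mathlib.RingTheory.Localization.Away.Basic
import Mathlib.Algebra.Polynomial.Div
import Mathlib.Algebra.Polynomial.RingDivision
import Mathlib.Data.Rat.Lemmas
import Mathlib.Data.Nat.Prime.Infinite
import Mathlib.RingTheory.TensorProduct.Maps
import Mathlib.RingTheory.Finiteness.Basic
import Mathlib.Tactic.LinearCombination

set_option autoImplicit false
universe u
open TensorProduct
open CAlg

namespace Groth.Agent.S14048

open Polynomial
open scoped TensorProduct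

/-- Rationals with denominator prime to `p`. -/
def vring (p : ℕ) (hp : p.Prime) : Subring ℚ where
  carrier := {q | ¬ p ∣ q.den}
  mul_mem' {a b} ha hb h := ((hp.dvd_mul).1 (h.trans (Rat.mul_den_dvd a b))).elim ha hb
  one_mem' := by simp [hp.ne_one]
  add_mem' {a b} ha hb h := ((hp.dvd_mul).1 (h.trans (Rat.add_den_dvd a b))).elim ha hb
  zero_mem' := by simp [hp.ne_one]
  neg_mem' {a} ha := by simpa using ha

theorem inv_natCast_mem (p : ℕ) (hp : p.Prime) (N : ℕ) (hN : ¬ p ∣ N) : (N : ℚ)⁻¹ ∈ vring p hp := by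
  show ¬ p ∣ ((N : ℚ)⁻¹).den
  rcases Nat.eq_zero_or_pos N with rfl | h
  · simp at hN
  · rwa [Rat.inv_natCast_den_of_pos h]

/-- Let A be an integral domain in which 2 is invertible and let t be an element of A, so that Spec A is
a scheme over the affine line Spec ℤ[1/2][t]. Assume that (1) the ℚ-algebra map ℚ[X] → ℚ ⊗_ℤ A
sending X to 1 ⊗ t is bijective (the map Spec A → Spec ℤ[1/2][t] becomes an isomorphism after base
change to ℚ); (2) every prime number is invertible in A/(t) (the fibre over t = 0 is of pure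
characteristic zero); and (3) there is a ring homomorphism s : A → ℤ[1/2] with s(t) = 1 (the fibre
over t = 1 admits a section). Then A is not Noetherian. -/
theorem result (A : Type u) [CommRing A]
    [IsDomain A] (h2 : IsUnit (2 : A)) (t : A)
    (h1 : Function.Bijective (Polynomial.aeval (R := ℚ) ((1 : ℚ) ⊗ₜ[ℤ] t : ℚ ⊗[ℤ] A)))
    (h0 : ∀ p : ℕ, p.Prime → IsUnit ((p : ℕ) : A ⧸ Ideal.span ({t} : Set A)))
    (s : A →+* Localization.Away (2 : ℤ)) (hs : s t = 1) :
    ¬ IsNoetherianRing A := by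
  intro hnoe
  let e : ℚ[X] ≃ₐ[ℚ] ℚ ⊗[ℤ] A := AlgEquiv.ofBijective _ h1
  let ι : A →+* ℚ[X] := e.symm.toRingHom.comp
    (Algebra.TensorProduct.includeRight : A →ₐ[ℤ] ℚ ⊗[ℤ] A).toRingHom
  have het : ∀ a : A, e.symm (1 ⊗ₜ[ℤ] a) = ι a := fun a => rfl
  have hιt : ι t = X := by
    rw [← het, AlgEquiv.symm_apply_eq]
    exact (Polynomial.aeval_X (R := ℚ) _).symm
  let u : Localization.Away (2 : ℤ) →+* ℚ :=
    IsLocalization.Away.lift (2 : ℤ) (g := Int.castRingHom ℚ) (by simp [isUnit_iff_ne_zero])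
  let s' : A →ₐ[ℤ] ℚ := (u.comp s).toIntAlgHom
  have hs' : ∀ a, s' a = u (s a) := fun a => rfl
  let ψ : ℚ ⊗[ℤ] A →ₐ[ℚ] ℚ := Algebra.TensorProduct.lift (AlgHom.id ℚ ℚ) s' fun _ _ => Commute.all _ _
  have hev : ∀ a : A, (ι a).eval 1 = s' a := by
    intro a
    have key : ψ.comp e.toAlgHom = Polynomial.aeval (1 : ℚ) := Polynomial.algHom_ext (by
      show ψ (e X) = _
      rw [show e X = (1 : ℚ) ⊗ₜ[ℤ] t from Polynomial.aeval_X (R := ℚ) _]
      simp [ψ, hs', hs])
    have h := DFunLike.congr_fun key (ι a)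
    simp only [AlgHom.comp_apply, Polynomial.coe_aeval_eq_eval] at h
    rw [← h]
    show ψ (e (e.symm _)) = _
    rw [AlgEquiv.apply_symm_apply]
    simp [ψ]
  -- clearing denominators
  have hclear : ∀ F : ℚ[X], ∃ n : ℕ, n ≠ 0 ∧ ∃ a : A, (n : ℚ[X]) * F = ι a := by
    intro F
    obtain ⟨z, rfl⟩ := e.symm.surjective F
    induction z using TensorProduct.induction_on with
    | zero => exact ⟨1, one_ne_zero, 0, by simp⟩
    | tmul q a =>
      refine ⟨q.den, q.den_ne_zero, q.num • a, ?_⟩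
      rw [← het, ← map_natCast e.symm, ← map_mul, ← TensorProduct.smul_tmul]
      congr 1
      rw [← nsmul_eq_mul, TensorProduct.smul_tmul', nsmul_eq_mul, zsmul_eq_mul, mul_one, Rat.den_mul_eq_num]
    | add x y hx hy =>
      obtain ⟨n, hn, a, ha⟩ := hx
      obtain ⟨m, hm, b, hb⟩ := hy
      refine ⟨n * m, Nat.mul_ne_zero hn hm, m * a + n * b, ?_⟩
      rw [map_add, map_add, map_mul, map_mul, map_natCast, map_natCast, ← ha, ← hb, Nat.cast_mul]
      ring
  have hroot : ∀ a : A, s a = 0 → ∃ F : ℚ[X], ι a = (X - C 1) * F := fun a ha =>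
    dvd_iff_isRoot.2 (show (ι a).eval 1 = 0 by rw [hev, hs', ha, map_zero])
  obtain ⟨G, hG⟩ := (IsNoetherian.noetherian (RingHom.ker s) : (RingHom.ker s).FG)
  have hN : ∀ G' : Finset A, (∀ g ∈ G', s g = 0) → ∃ N : ℕ, N ≠ 0 ∧
      ∀ x ∈ Ideal.span (G' : Set A), ∃ h : A, (N : ℚ[X]) * ι x = (X - C 1) * ι h := by
    classical
    intro G'
    induction G' using Finset.induction_on with
    | empty =>
      intro _
      refine ⟨1, one_ne_zero, fun x hx => ⟨0, ?_⟩⟩
      simp at hx
      simp [hx]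
    | insert g G' _ ih =>
      intro hg
      obtain ⟨N, hN0, hN⟩ := ih fun x hx => hg x (Finset.mem_insert_of_mem hx)
      obtain ⟨F, hF⟩ := hroot g (hg g (Finset.mem_insert_self _ _))
      obtain ⟨n, hn, a, ha⟩ := hclear F
      refine ⟨N * n, Nat.mul_ne_zero hN0 hn, fun x hx => ?_⟩
      rw [Finset.coe_insert, Ideal.mem_span_insert] at hx
      obtain ⟨c, z, hz, rfl⟩ := hx
      obtain ⟨h, hh⟩ := hN z hz
      refine ⟨N * c * a + n * h, ?_⟩
      simp only [map_add, map_mul, map_natCast, Nat.cast_mul, hF]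
      linear_combination (n : ℚ[X]) * hh + (N : ℚ[X]) * ι c * (X - C 1) * ha
  obtain ⟨N, hN0, hN⟩ := hN G fun g hg => by
    rw [← RingHom.mem_ker, ← hG]; exact Ideal.subset_span hg
  obtain ⟨p, hp1, hp⟩ := Nat.exists_infinite_primes (2 * N + 3)
  have hpN : ¬ p ∣ N := fun h => by have := Nat.le_of_dvd (Nat.pos_of_ne_zero hN0) h; omega
  have hp2 : ¬ p ∣ 2 := fun h => by have := Nat.le_of_dvd two_pos h; omega
  have hu : ∀ z : Localization.Away (2 : ℤ), u z ∈ vring p hp := by
    intro z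
    obtain ⟨k, a, hz⟩ := IsLocalization.Away.surj (2 : ℤ) z
    have h := congrArg u hz
    rw [map_mul, map_pow, IsLocalization.Away.lift_eq, IsLocalization.Away.lift_eq] at h
    simp at h
    have h2 : u z = (a : ℚ) * (((2 : ℕ) : ℚ)⁻¹) ^ k := by
      rw [← h, mul_assoc, ← mul_pow]; simp
    rw [h2]
    exact mul_mem (intCast_mem _ _) (pow_mem (inv_natCast_mem p hp 2 hp2) _)
  -- a lift of `Z[1/2]`
  let c : Localization.Away (2 : ℤ) →+* A :=
    IsLocalization.Away.lift (2 : ℤ) (g := Int.castRingHom A) (by simpa using h2)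
  have hc : ∀ z, s (c z) = z := fun z => DFunLike.congr_fun
    (IsLocalization.ringHom_ext (Submonoid.powers (2 : ℤ)) (RingHom.ext_int _ _) :
      s.comp c = RingHom.id _) z
  have hιc : ∀ z, ι (c z) = C (u z) := fun z => DFunLike.congr_fun
    (IsLocalization.ringHom_ext (Submonoid.powers (2 : ℤ)) (RingHom.ext_int _ _) :
      ι.comp c = C.comp u) z
  have hcoeff : ∀ d : ℕ, ∀ f : A, (ι f).natDegree ≤ d → ∀ i, (ι f).coeff i ∈ vring p hp := by
    intro d
    induction d using Nat.strong_induction_on with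
    | _ d ih =>
      intro f hf
      set g := f - c (s f) with hg
      have hgs : s g = 0 := by rw [hg, map_sub, hc, sub_self]
      obtain ⟨h, hh⟩ := hN g (by show g ∈ Submodule.span A (G : Set A); rw [hG]; exact hgs)
      have hfh : ι f = C (u (s f)) + C ((N : ℚ)⁻¹) * ((X - C 1) * ι h) := by
        rw [← hh, ← mul_assoc, ← map_natCast C, ← map_mul,
          inv_mul_cancel₀ (Nat.cast_ne_zero.2 hN0), map_one, one_mul, hg, map_sub, hιc]
        ring
      have hV : ∀ i, (ι h).coeff i ∈ vring p hp := by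
        by_cases h0 : ι h = 0
        · intro i; rw [h0, coeff_zero]; exact zero_mem _
        · have hdeg : ((X - C 1) * ι h).natDegree = (ι h).natDegree + 1 := by
            rw [natDegree_mul (X_sub_C_ne_zero 1) h0, natDegree_X_sub_C, add_comm]
          have hdeg2 : (ι f).natDegree = (ι h).natDegree + 1 := by
            rw [hfh, natDegree_C_add, natDegree_C_mul (inv_ne_zero (Nat.cast_ne_zero.2 hN0)), hdeg]
          exact ih _ (by omega : (ι h).natDegree < d) h le_rfl
      intro i
      rw [hfh, coeff_add, coeff_C_mul]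
      refine add_mem ?_ (mul_mem (inv_natCast_mem p hp N hpN) ?_)
      · rw [coeff_C]; split_ifs
        · exact hu _
        · exact zero_mem _
      · rw [sub_mul, coeff_sub, coeff_C_mul, one_mul]
        refine sub_mem ?_ (hV i)
        rcases i with _ | i
        · simp [zero_mem]
        · rw [coeff_X_mul]; exact hV i
  -- the fibre over `t = 0`
  obtain ⟨a, ha⟩ := isUnit_iff_exists_inv.1 (h0 p hp)
  obtain ⟨a, rfl⟩ := Ideal.Quotient.mk_surjective a
  rw [← map_natCast (Ideal.Quotient.mk (Ideal.span ({t} : Set A))), ← map_mul, ← map_one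
    (Ideal.Quotient.mk (Ideal.span ({t} : Set A))), Ideal.Quotient.eq, Ideal.mem_span_singleton'] at ha
  obtain ⟨b, hb⟩ := ha
  have h := congrArg (fun P : ℚ[X] => P.coeff 0) (congrArg ι hb)
  simp [hιt] at h
  have h' : (p : ℚ) * (ι a).coeff 0 = 1 := by linear_combination -h
  have hmem := hcoeff _ a le_rfl 0
  rw [show (ι a).coeff 0 = (p : ℚ)⁻¹ from (eq_inv_of_mul_eq_one_right h')] at hmem
  refine hmem ?_
  rw [Rat.inv_natCast_den_of_pos hp.pos]

end Groth.Agent.S14048
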