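import Groth.Statements.S14049
import Groth.Agent.Div89.UFD

set_option autoImplicit false
universe u
open CategoryTheory AlgebraicGeometry
open LocStr

namespace Groth.Agent.S14049

/-- For schemes. Let f : X → Y be a morphism of schemes and let I be a quasi-coherent sheaf of ideals on
X which is nilpotent (some power of I is zero). Let X₁ ⊆ X be the closed subscheme defined by I².
Then f is a closed immersion as soon as the composite X₁ → X → Y is one. (The published statement is
the same assertion for a morphism of algebraic stacks; it is stated here for schemes.) -/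
theorem result (X Y : Scheme.{u}) (f : X ⟶ Y)
    (I : X.IdealSheafData) (hI : IsNilpotent I)
    (h : IsClosedImmersion ((I ^ 2).subschemeι ≫ f)) :
    IsClosedImmersion f := by
  obtain ⟨n, hn⟩ := hI
  have hsupp : (I.support : Set X) = Set.univ := by
    have hn1 : I ^ (n + 1) = 0 := by rw [pow_succ, hn, zero_mul]
    rw [← Scheme.IdealSheafData.support_pow_succ I n, hn1]
    simp
  let ι := (I ^ 2).subschemeι
  have hsurjι : Function.Surjective ι := fun x => by
    have : x ∈ Set.range ι := by
      show x ∈ Set.range (I ^ 2).subschemeι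
      rw [Scheme.IdealSheafData.range_subschemeι, Scheme.IdealSheafData.support_pow I 2 two_ne_zero, hsupp]
      trivial
    exact this
  haveI : IsClosedImmersion (ι ≫ f) := h
  have hemb : Topology.IsClosedEmbedding f := by
    let e := ι.isClosedEmbedding.isEmbedding.toHomeomorphOfSurjective hsurjι
    have h1 := (ι ≫ f).isClosedEmbedding.comp e.symm.isClosedEmbedding
    have h2 : ((ι ≫ f : _ ⟶ Y) : _ → Y) ∘ e.symm = f := funext fun x => by
      show f (ι (e.symm x)) = f x
      exact congrArg f (e.apply_symm_apply x)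
    exact h2 ▸ h1
  haveI : SurjectiveOnStalks f := by
    refine ⟨fun x b => ?_⟩
    obtain ⟨z, rfl⟩ := hsurjι x
    let A : Subring (X.presheaf.stalk (ι z)) := (f.stalkMap (ι z)).hom.range
    obtain ⟨U, hU⟩ := Groth.Agent.Div89.exists_affine_mem (ι z)
    let K : Ideal (X.presheaf.stalk (ι z)) := (I.ideal U).map (X.presheaf.germ U.1 (ι z) hU).hom
    have hK2 : Groth.Agent.Div89.stalkIdeal (I ^ 2) (ι z) = K ^ 2 := by
      rw [Groth.Agent.Div89.stalkIdeal_eq _ U _ hU, Scheme.IdealSheafData.ideal_pow, Pi.pow_apply, Ideal.map_pow]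
    have hKn : K ^ n = ⊥ := by
      rw [← Ideal.map_pow, show I.ideal U ^ n = ⊥ by
        rw [← Pi.pow_apply, ← Scheme.IdealSheafData.ideal_pow, hn]; simp, Ideal.map_bot]
    have hmod : ∀ b, ∃ a ∈ A, b - a ∈ K ^ 2 := fun b => by
      obtain ⟨c, hc⟩ := (ι ≫ f).stalkMap_surjective z ((ι.stalkMap z).hom b)
      refine ⟨(f.stalkMap (ι z)).hom c, ⟨c, rfl⟩, hK2 ▸ (Groth.Agent.Div89.stalkMap_subschemeι_eq_zero_iff _ z _).1 ?_⟩
      rw [map_sub, sub_eq_zero]
      refine hc.symm.trans ?_
      rw [Scheme.Hom.stalkMap_comp]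
      rfl
    have hpow : ∀ k, ∀ b ∈ K ^ k, ∃ a ∈ A, a ∈ K ^ k ∧ b - a ∈ K ^ (k + 1) := by
      intro k
      induction k with
      | zero =>
        intro b _
        obtain ⟨a, ha, hab⟩ := hmod b
        exact ⟨a, ha, by simp, Ideal.pow_le_pow_right one_le_two hab⟩
      | succ k ih =>
        intro b hb
        replace hb : b ∈ K ^ k * K := (pow_succ K k).le hb
        induction hb using Submodule.mul_induction_on' with
        | mem_mul_mem x hx y hy =>
          obtain ⟨a, ha, hak, hxa⟩ := ih x hx
          obtain ⟨c, hc, hyc⟩ := hmod y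
          have hcK : c ∈ K := (Submodule.sub_mem_iff_right K hy).1 (Ideal.pow_le_self two_ne_zero hyc)
          refine ⟨a * c, A.mul_mem ha hc, (pow_succ K k).ge (Ideal.mul_mem_mul hak hcK), ?_⟩
          rw [show x * y - a * c = (x - a) * y + a * (y - c) by ring]
          refine add_mem ?_ ?_
          · rw [pow_succ K (k + 1)]; exact Ideal.mul_mem_mul hxa hy
          · rw [show k + 1 + 1 = k + 2 from rfl, pow_add]; exact Ideal.mul_mem_mul hak hyc
        | add x _ y _ hx hy =>
          obtain ⟨a, ha, hak, hxa⟩ := hx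
          obtain ⟨c, hc, hck, hyc⟩ := hy
          refine ⟨a + c, A.add_mem ha hc, add_mem hak hck, ?_⟩
          rw [show x + y - (a + c) = (x - a) + (y - c) by ring]
          exact add_mem hxa hyc
    have hall : ∀ k b, ∃ a ∈ A, b - a ∈ K ^ k := by
      intro k
      induction k with
      | zero => exact fun b => ⟨0, A.zero_mem, by simp⟩
      | succ k ih =>
        intro b
        obtain ⟨a, ha, hba⟩ := ih b
        obtain ⟨c, hc, -, hd⟩ := hpow k _ hba
        exact ⟨a + c, A.add_mem ha hc, by rwa [← sub_sub]⟩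
    obtain ⟨a, ha, hba⟩ := hall n b
    rw [hKn, Ideal.mem_bot, sub_eq_zero] at hba
    exact hba ▸ ha
  exact { toSurjectiveOnStalks := inferInstance, isClosedEmbedding := hemb }

end Groth.Agent.S14049
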