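import Groth.Statements.S14051
import Mathlib.Algebra.DirectSum.Decomposition

set_option autoImplicit false
universe u
open CAlg

namespace Groth.Agent.S14051

/-- Let A be a commutative ℕ-graded algebra over a base ring R which is generated by A_1 as an
A_0-algebra, written as A_{n+1} = A_1 · A_n for every n, and let M be a graded A-module: an A-module
with R-submodules M_n giving a direct-sum decomposition and A_i · M_j ⊆ M_{i+j}. If M is spanned
over A by a set of homogeneous elements all of degree at most n₀, then for every n ≥ n₀ and every k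
≥ 0 the degree-(n+k) part of M is A_k · M_n. -/
theorem result
    (R : Type u) [CommRing R] (A : Type u) [CommRing A] [Algebra R A]
    (𝒜 : ℕ → Submodule R A) [GradedAlgebra 𝒜]
    (hA : ∀ n : ℕ, 𝒜 (n + 1) = 𝒜 1 * 𝒜 n)
    (M : Type u) [AddCommGroup M] [Module R M] [Module A M] [IsScalarTower R A M]
    (ℳ : ℕ → Submodule R M) [DirectSum.Decomposition ℳ] [SetLike.GradedSMul 𝒜 ℳ]
    (s : Set M) (n₀ : ℕ) (hs : ∀ y ∈ s, ∃ d : ℕ, d ≤ n₀ ∧ y ∈ ℳ d)
    (hspan : Submodule.span A s = ⊤)
    (n k : ℕ) (hn : n₀ ≤ n) :
    ℳ (n + k) = 𝒜 k • ℳ n := by
  classical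
  have hpow : ∀ i j, 𝒜 (i + j) = 𝒜 i * 𝒜 j := by
    intro i
    induction i with
    | zero =>
      intro j
      refine le_antisymm (fun x hx => ?_) (Submodule.mul_le.2 fun a ha b hb => ?_)
      · rw [zero_add] at hx
        simpa using Submodule.mul_mem_mul (SetLike.GradedOne.one_mem (A := 𝒜)) hx
      · exact SetLike.GradedMul.mul_mem ha hb
    | succ i ih => intro j; rw [Nat.succ_add, hA, ih, hA i, mul_assoc]
  refine le_antisymm (fun x hx => ?_) (Submodule.smul_le.2 fun a ha m hm => ?_)
  · have key : ∀ z : M, ((DirectSum.decompose ℳ z (n + k) : ℳ (n + k)) : M) ∈ 𝒜 k • ℳ n := by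
      intro z
      have hz : z ∈ Submodule.span A s := hspan ▸ trivial
      induction hz using Submodule.closure_induction with
      | zero => simp
      | add a b _ _ ha hb =>
        rw [DirectSum.decompose_add, DirectSum.add_apply, Submodule.coe_add]
        exact add_mem ha hb
      | smul_mem a y hy =>
        obtain ⟨d, hd, hyd⟩ := hs y hy
        induction a using DirectSum.Decomposition.inductionOn 𝒜 with
        | zero => simp
        | add a b ha hb =>
          rw [add_smul, DirectSum.decompose_add, DirectSum.add_apply, Submodule.coe_add]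
          exact add_mem ha hb
        | @homogeneous i a =>
          have hm : (a : A) • y ∈ ℳ (i + d) := SetLike.GradedSMul.smul_mem a.2 hyd
          by_cases h : i + d = n + k
          · rw [h] at hm
            rw [DirectSum.decompose_of_mem_same ℳ hm]
            have ha' : (a : A) ∈ 𝒜 k * 𝒜 (n - d) := by
              rw [← hpow, show k + (n - d) = i by omega]; exact a.2
            refine Submodule.mul_induction_on ha' (fun u hu w hw => ?_) fun u w hu hw => ?_
            · rw [mul_smul]
              refine Submodule.smul_mem_smul hu ?_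
              have := SetLike.GradedSMul.smul_mem (A := 𝒜) (B := ℳ) hw hyd
              rwa [vadd_eq_add, show n - d + d = n by omega] at this
            · rw [add_smul]; exact add_mem hu hw
          · rw [DirectSum.decompose_of_mem_ne ℳ hm h]
            exact zero_mem _
    simpa [DirectSum.decompose_of_mem_same ℳ hx] using key x
  · have := SetLike.GradedSMul.smul_mem (A := 𝒜) (B := ℳ) ha hm
    rwa [vadd_eq_add, add_comm] at this

end Groth.Agent.S14051
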