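import Groth.Statements.S14053
import Mathlib.RingTheory.GradedAlgebra.Basic
import Mathlib.LinearAlgebra.Dimension.Free
import Mathlib.RingTheory.Adjoin.Basic
import Mathlib.Algebra.Algebra.Operations
import Mathlib.LinearAlgebra.FreeModule.Finite.Basic
import Mathlib.LinearAlgebra.Basis.VectorSpace

set_option autoImplicit false
universe u
open CAlg

namespace Groth.Agent.S14053

variable {k : Type u} [Field k] {R : Type u} [CommRing R] [Algebra k R] (ℛ : ℕ → Submodule k R)
  [GradedAlgebra ℛ]

theorem pow_le (d : ℕ) : ∀ m : ℕ, ℛ d ^ m ≤ ℛ (m * d)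
  | 0 => by
    rw [pow_zero, Submodule.one_le, zero_mul]
    exact SetLike.GradedOne.one_mem
  | m + 1 => by
    rw [pow_succ, Submodule.mul_le]
    intro a ha b hb
    rw [Nat.succ_mul]
    exact SetLike.GradedMul.mul_mem (pow_le d m ha) hb

theorem block {ι : Type} [Fintype ι] (g : ι → R) (w : ι → ℕ) (hg : ∀ i, g i ∈ ℛ (w i))
    (hw : ∀ i, w i ∣ 6) (hgen : Algebra.adjoin k (Set.range g) = ⊤)
    (e : ℕ) (he : ∑ i, (6 - w i) ≤ e) (D : ℕ) (hD : e < D + 6) :
    ℛ (D + 6) ≤ ℛ 6 * ℛ D := by
  classical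
  intro x hx
  have hx' : x ∈ Submodule.span k (Submonoid.closure (Set.range g) : Set R) := by
    rw [← Algebra.adjoin_eq_span, hgen]; trivial
  rw [← DirectSum.decompose_of_mem_same ℛ hx]
  clear hx
  induction hx' using Submodule.span_induction with
  | zero => simp
  | add a b _ _ ha hb =>
    rw [DirectSum.decompose_add]
    exact Submodule.add_mem _ ha hb
  | smul c a _ ha =>
    rw [DirectSum.decompose_smul]
    exact Submodule.smul_mem _ c ha
  | mem y hy =>
    obtain ⟨a, rfl⟩ : ∃ a : ι → ℕ, y = ∏ i, g i ^ a i := by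
      induction hy using Submonoid.closure_induction with
      | mem z hz =>
        obtain ⟨i, rfl⟩ := hz
        exact ⟨Pi.single i 1, by rw [Finset.prod_eq_single i] <;> simp +contextual⟩
      | one => exact ⟨0, by simp⟩
      | mul z z' _ _ h h' =>
        obtain ⟨a, rfl⟩ := h
        obtain ⟨b, rfl⟩ := h'
        exact ⟨a + b, by simp [pow_add, Finset.prod_mul_distrib]⟩
    have hmem : ∀ b : ι → ℕ, (∏ i, g i ^ b i) ∈ ℛ (∑ i, b i * w i) := fun b =>
      SetLike.prod_mem_graded ℛ _ _ fun i _ => SetLike.pow_mem_graded (b i) (hg i)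
    by_cases hd : ∑ i, a i * w i = D + 6
    · rw [DirectSum.decompose_of_mem_same ℛ (hd ▸ hmem a)]
      obtain ⟨i, hi⟩ : ∃ i, 6 / w i ≤ a i := by
        by_contra hcon
        rw [not_exists] at hcon
        have : ∑ i, a i * w i ≤ ∑ i, (6 - w i) := Finset.sum_le_sum fun i _ => by
          have h0 := Nat.lt_of_not_le (hcon i)
          have h1 : (a i + 1) * w i ≤ 6 / w i * w i := Nat.mul_le_mul_right _ h0
          rw [Nat.div_mul_cancel (hw i), add_mul, one_mul] at h1
          omega
        omega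
      let a' : ι → ℕ := Function.update a i (a i - 6 / w i)
      have key : a = a' + Pi.single i (6 / w i) := by
        funext j
        by_cases hj : j = i
        · subst hj; simp [a']; omega
        · simp [a', hj]
      rw [key] at hd ⊢
      simp only [Pi.add_apply, pow_add, Finset.prod_mul_distrib]
      have h6 : (∏ j, g j ^ (Pi.single i (6 / w i) : ι → ℕ) j) ∈ ℛ 6 := by
        have := hmem (Pi.single i (6 / w i))
        rwa [Finset.sum_eq_single i (by simp +contextual) (by simp), Pi.single_eq_same,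
          Nat.div_mul_cancel (hw i)] at this
      have hDa : ∑ j, a' j * w j = D := by
        simp only [Pi.add_apply, add_mul, Finset.sum_add_distrib] at hd
        rw [Finset.sum_eq_single (f := fun j => (Pi.single i (6 / w i) : ι → ℕ) j * w j) i
          (by simp +contextual) (by simp), Pi.single_eq_same, Nat.div_mul_cancel (hw i)] at hd
        omega
      rw [mul_comm (ℛ 6)]
      exact Submodule.mul_mem_mul (hDa ▸ hmem a') h6
    · rw [DirectSum.decompose_of_mem_ne ℛ (hmem a) hd]
      exact Submodule.zero_mem _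

/-- Let k be a field and R a commutative ℕ-graded k-algebra with R_0 = k · 1 which is generated as a
k-algebra by R_1, R_2 and R_3, each a finite-dimensional k-vector space, of dimensions d_1, d_2,
d_3. Then for every natural number e ≥ 5 d_1 + 4 d_2 + 3 d_3 the (6e)-th Veronese subring of R is
generated in degree one over k: R_{6em} = (R_{6e})^m for every m > 0. -/
theorem result
    (k : Type u) [Field k] (R : Type u) [CommRing R] [Algebra k R]
    (ℛ : ℕ → Submodule k R) [GradedAlgebra ℛ]
    (h0 : ℛ 0 = 1)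
    (hgen : Algebra.adjoin k ((ℛ 1 : Set R) ∪ (ℛ 2 : Set R) ∪ (ℛ 3 : Set R)) = ⊤)
    [Module.Finite k (ℛ 1)] [Module.Finite k (ℛ 2)] [Module.Finite k (ℛ 3)]
    (e : ℕ) (he : 5 * Module.finrank k (ℛ 1) + 4 * Module.finrank k (ℛ 2) + 3 * Module.finrank k (ℛ 3) ≤ e)
    (m : ℕ) (hm : 0 < m) :
    ℛ (m * (6 * e)) = ℛ (6 * e) ^ m := by
  let ι := Fin (Module.finrank k (ℛ 1)) ⊕ Fin (Module.finrank k (ℛ 2)) ⊕ Fin (Module.finrank k (ℛ 3))
  let b₁ := Module.finBasis k (ℛ 1)
  let b₂ := Module.finBasis k (ℛ 2)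
  let b₃ := Module.finBasis k (ℛ 3)
  let g : ι → R := Sum.elim (fun i => (b₁ i : R)) (Sum.elim (fun i => (b₂ i : R)) (fun i => (b₃ i : R)))
  let w : ι → ℕ := Sum.elim (fun _ => 1) (Sum.elim (fun _ => 2) (fun _ => 3))
  have hg : ∀ i, g i ∈ ℛ (w i) := by rintro (i | i | i) <;> exact SetLike.coe_mem _
  have hw : ∀ i, w i ∣ 6 := by rintro (i | i | i) <;> simp [w]
  have span_basis : ∀ {n d : ℕ} (b : Module.Basis (Fin n) k (ℛ d)) (x : R), x ∈ ℛ d →
      x ∈ Submodule.span k (Set.range fun i => (b i : R)) := by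
    intro n d b x hx
    have := Submodule.apply_mem_span_image_of_mem_span (ℛ d).subtype (b.mem_span (⟨x, hx⟩ : ℛ d))
    rwa [← Set.range_comp] at this
  have hgen' : Algebra.adjoin k (Set.range g) = ⊤ := by
    refine top_le_iff.1 (hgen ▸ Algebra.adjoin_le ?_)
    intro x hx
    rcases hx with (h | h) | h
    · exact Algebra.span_le_adjoin k _ (Submodule.span_mono
        (Set.range_subset_iff.2 fun i => Set.mem_range_self (f := g) (Sum.inl i)) (span_basis b₁ x h))
    · exact Algebra.span_le_adjoin k _ (Submodule.span_mono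
        (Set.range_subset_iff.2 fun i => Set.mem_range_self (f := g) (Sum.inr (Sum.inl i))) (span_basis b₂ x h))
    · exact Algebra.span_le_adjoin k _ (Submodule.span_mono
        (Set.range_subset_iff.2 fun i => Set.mem_range_self (f := g) (Sum.inr (Sum.inr i))) (span_basis b₃ x h))
  have hsum : ∑ i, (6 - w i) ≤ e := by
    simp [ι, w, Fintype.sum_sum_type]
    omega
  have step : ∀ j, ℛ (6 * e + 6 * j) ≤ ℛ 6 ^ j * ℛ (6 * e) := by
    intro j
    induction j with
    | zero => simp
    | succ j ih =>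
      rw [show 6 * e + 6 * (j + 1) = (6 * e + 6 * j) + 6 by ring, pow_succ', mul_assoc]
      exact (block ℛ g w hg hw hgen' e hsum _ (by omega)).trans (Submodule.mul_le.2 fun a ha b hb => Submodule.mul_mem_mul ha (ih hb))
  refine le_antisymm ?_ (pow_le ℛ _ m)
  obtain ⟨l, rfl⟩ : ∃ l, m = l + 1 := ⟨m - 1, by omega⟩
  rw [show (l + 1) * (6 * e) = 6 * e + 6 * (e * l) by ring, pow_succ]
  refine (step _).trans (Submodule.mul_le.2 fun a ha b hb => Submodule.mul_mem_mul ?_ hb)
  revert a
  show ℛ 6 ^ (e * l) ≤ ℛ (6 * e) ^ l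
  rw [pow_mul]
  refine pow_le_pow_left' ?_ l
  exact (pow_le ℛ 6 e).trans_eq (by rw [mul_comm])

end Groth.Agent.S14053
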