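import Groth.Statements.S14060
import Groth.Agent.TopCoh49.LerayDeg

set_option autoImplicit false
set_option linter.style.haveILetI false
universe u
open CategoryTheory CategoryTheory.Limits TopologicalSpace
open CohTop

namespace Groth.Agent.S14060

open CategoryTheory.Limits TopologicalSpace Groth.Agent.TopCoh49

variable {X : TopCat.{u}} (F : ChainComplex (CohTop.Ab X) ℕ)

/-- The sequence cut at degree `j + 1`. -/
noncomputable def cutSES (j : ℕ) : ShortComplex (CohTop.Ab X) :=
  ShortComplex.mk (kernel.ι (F.d (j + 2) (j + 1)))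
    (kernel.lift (F.d (j + 1) j) (F.d (j + 2) (j + 1)) (F.d_comp_d _ _ _))
    (by rw [← cancel_mono (kernel.ι (F.d (j + 1) j)), Category.assoc, kernel.lift_ι, kernel.condition, zero_comp])

theorem cutSES_shortExact (j : ℕ) (h : F.ExactAt (j + 1)) : (cutSES F j).ShortExact where
  exact := haveI : Mono (cutSES F j).f := inferInstanceAs (Mono (kernel.ι _))
    ShortComplex.exact_of_f_is_kernel _ (KernelFork.IsLimit.ofι' _ _ fun {W} g hg =>
    ⟨kernel.lift _ g (by
      have := congrArg (fun t => t ≫ kernel.ι (F.d (j + 1) j)) hg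
      simp only [cutSES, Category.assoc, kernel.lift_ι] at this
      exact this.trans zero_comp), kernel.lift_ι _ _ _⟩)
  mono_f := inferInstanceAs (Mono (kernel.ι _))
  epi_g := by
    have hex : (F.sc' (j + 2) (j + 1) j).Exact :=
      (F.exactAt_iff' (j + 2) (j + 1) j (by simp) (by simp)).1 h
    exact (ShortComplex.exact_iff_epi_kernel_lift _).1 hex

theorem subsingleton_E_cut (r : ℕ) (hmono : Mono (F.d r (r - 1)))
    (hex : ∀ j : ℕ, 1 ≤ j → j < r → F.ExactAt j)
    (hvan : ∀ j : ℕ, 2 ≤ j → j ≤ r → Subsingleton (E (F.X j) (j - 1) (⊤ : Opens X))) :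
    ∀ (k j : ℕ), j + 1 + k = r → Subsingleton (E (kernel (F.d (j + 1) j)) (j + 1) (⊤ : Opens X))
  | 0, j, hj => by
    obtain rfl : j + 1 = r := by omega
    haveI : Mono (F.d (j + 1) j) := hmono
    exact subsingleton_of_forall_eq 0 fun x => by
      rw [← Abelian.Ext.comp_mk₀_id x, (IsZero.iff_id_eq_zero _).1 (isZero_kernel_of_mono (F.d (j + 1) j)),
        Abelian.Ext.mk₀_zero, Abelian.Ext.comp_zero]
  | k + 1, j, hj => subsingleton_of_forall_eq 0 fun x => by
    have ih := subsingleton_E_cut r hmono hex hvan k (j + 1) (by omega)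
    have hS := cutSES_shortExact F j (hex (j + 1) (by omega) (by omega))
    obtain ⟨y, hy⟩ := exact₃ hS (rfl : j + 1 + 1 = j + 2) (⊤ : Opens X) x (ih.elim _ _)
    have h2 : Subsingleton (E (F.X (j + 2)) (j + 1) (⊤ : Opens X)) := hvan (j + 2) (by omega) (by omega)
    exact hy.symm.trans ((congrArg _ (h2.elim y 0)).trans (map_zero _))

/-- Let X be a topological space, r ≥ 1 an integer and 0 → F_r → ⋯ → F_2 → F_1 → F_0 → 0 an exact
sequence of sheaves of abelian groups on X, presented as a chain complex F of abelian sheaves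
indexed by the natural numbers whose differential F_r → F_{r−1} is a monomorphism, whose
differential F_1 → F_0 is an epimorphism of sheaves, and which is exact at F_j for 1 ≤ j ≤ r − 1
(for r = 1 the single map F_1 → F_0 is mono and epi). Assume the sheaf cohomology groups H^{j−1}(X,
F_j) vanish for 2 ≤ j ≤ r. Then the map on global sections F_1(X) → F_0(X) is surjective. (The
instance hypothesis that the category of abelian sheaves on X has Ext groups in the universe of X
holds for every X, abelian sheaves on a space forming a Grothendieck abelian category; it is the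
setting in which sheaf cohomology is defined.) -/
theorem result (X : TopCat.{u})
    [HasExt.{u} (Sheaf (Opens.grothendieckTopology X) AddCommGrpCat.{u})]
    (r : ℕ) (hr : 1 ≤ r)
    (F : ChainComplex (Sheaf (Opens.grothendieckTopology X) AddCommGrpCat.{u}) ℕ)
    (hmono : Mono (F.d r (r - 1))) (hepi : Epi (F.d 1 0))
    (hex : ∀ j : ℕ, 1 ≤ j → j < r → F.ExactAt j)
    (hvan : ∀ j : ℕ, 2 ≤ j → j ≤ r → Subsingleton (Sheaf.H (F.X j) (j - 1))) :
    Function.Surjective ((F.d 1 0).hom.app (Opposite.op ⊤)) := by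
  intro s
  have h1 := subsingleton_E_cut (X := X) F r hmono hex
    (fun j h2 hj => haveI := hvan j h2 hj; (HEquivTop (F.X j) (j - 1)).symm.toEquiv.subsingleton) (r - 1) 0
    (by omega)
  let S : ShortComplex (CohTop.Ab X) := ShortComplex.mk (kernel.ι (F.d 1 0)) (F.d 1 0) (kernel.condition _)
  have hS : S.ShortExact :=
    { exact := ShortComplex.exact_of_f_is_kernel _ (kernelIsKernel _)
      mono_f := inferInstanceAs (Mono (kernel.ι _))
      epi_g := hepi }
  obtain ⟨y, hy⟩ := exact₃ hS (zero_add 1) (⊤ : Opens X) ((E₀ S.X₃ ⊤).symm s) (h1.elim _ _)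
  exact ⟨E₀ S.X₂ ⊤ y, (E₀_emap S.g ⊤ y).symm.trans
    ((congrArg (E₀ S.X₃ ⊤) hy).trans ((E₀ S.X₃ ⊤).apply_symm_apply s))⟩

end Groth.Agent.S14060
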