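import Groth.Statements.S14064
import Groth.Agent.H98Pos.Sec
import Groth.Agent.Crv77.Sections
import Groth.Agent.TrivLine96.Basic
import Groth.Agent.Amp73.Powers
import Groth.Agent.EGA73.Invertible
import Groth.Agent.Inv57.OfTensor

set_option autoImplicit false
universe u
open CategoryTheory CategoryTheory.Limits AlgebraicGeometry TopologicalSpace
open Surf

namespace Groth.Agent.S14064

/-- The middle-four interchange. -/
noncomputable def tensInterchange {X : Scheme.{u}} (A B C D : X.Modules) :
    CohB1.tensorMod (CohB1.tensorMod A B) (CohB1.tensorMod C D) ≅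
      CohB1.tensorMod (CohB1.tensorMod A C) (CohB1.tensorMod B D) :=
  EGA73.tensAssoc' A B _ ≪≫ EGA73.tensIso (Iso.refl A)
      ((EGA73.tensAssoc' B C D).symm ≪≫ EGA73.tensIso (EGA73.tensComm B C) (Iso.refl D) ≪≫
        EGA73.tensAssoc' C B D) ≪≫
    (EGA73.tensAssoc' A C _).symm

theorem isInverseOf_tensorPow {X : Scheme.{u}} {L M : X.Modules} (h : ClSub.IsInverseOf M L) :
    ∀ n : ℕ, Nonempty (CohB1.tensorMod (CohB1.tensorPow M n) (CohB1.tensorPow L n) ≅ Coh.structureModule X)
  | 0 => ⟨EGA73.tensUnitLeft (Coh.structureModule X)⟩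
  | n + 1 => by
    obtain ⟨e⟩ := isInverseOf_tensorPow h n
    obtain ⟨f⟩ := h
    exact ⟨tensInterchange _ M _ L ≪≫ EGA73.tensIso e f ≪≫ EGA73.tensUnitLeft _⟩

/-- Fix a field k, an integral proper k-scheme X, and an invertible O_X-module L with tensor inverse M.
Suppose that L^{⊗j} has a nonzero global section for every j ≥ 4 and that no tensor power L^{⊗j}
with j ≥ 1 is isomorphic to O_X. Then H⁰(X, M^{⊗i}) = 0 for every i ≥ 1: the negative powers of L
have no nonzero global sections. (The published statement is for the canonical module of a minimal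
surface of general type over an algebraically closed field, where the fourth and higher powers are
globally generated by a deep result quoted without proof, and non-triviality of the positive powers
comes from bigness; the published deduction of this part uses exactly the two hypotheses carried
here, on an integral proper X.) -/
theorem result (k : Type u) [Field k]
    (X : Scheme.{u}) [X.Over (Spec (CommRingCat.of k))] [IsProper (X ↘ (Spec (CommRingCat.of k)))] [IsIntegral X]
    (L M : X.Modules) (hL : PicF.IsInvertible L) (hM : ClSub.IsInverseOf M L)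
    (hsec : ∀ j : ℕ, 4 ≤ j → Nontrivial (Coh.HH X (CohB1.tensorPow L j) 0))
    (hnt : ∀ j : ℕ, 1 ≤ j → IsEmpty (CohB1.tensorPow L j ≅ Coh.structureModule X))
    (i : ℕ) (hi : 1 ≤ i) :
    Subsingleton (Coh.HH X (CohB1.tensorPow M i) 0) := by
  classical
  by_contra hne
  rw [not_subsingleton_iff_nontrivial] at hne
  obtain ⟨f⟩ := hM
  have hMi : PicF.IsInvertible M :=
    Inv57.isInvertible_of_tensorMod_iso f
  haveI : Nontrivial Γ(CohB1.tensorPow M i, ⊤) :=
    (Crv77.sec (CohB1.tensorPow M i)).toEquiv.symm.nontrivial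
  obtain ⟨x, hx⟩ := exists_ne (0 : Γ(CohB1.tensorPow M i, ⊤))
  have hu : EGA73.unitHom (CohB1.tensorPow M i) x ≠ 0 := by
    intro h0
    apply hx
    have h1 : (EGA73.unitHom (CohB1.tensorPow M i) x).app ⊤ (1 : Γ(X, ⊤)) = 0 := by
      rw [h0]; rfl
    rw [EGA73.unitHom_app, one_smul] at h1
    simpa using h1
  have hP := EGA73.isInvertible_tensorPow hMi
  have hmul : ∀ n : ℕ, H98Pos.HasSec (CohB1.tensorPow M (i * (n + 1))) := by
    intro n
    induction n with
    | zero => rw [Nat.zero_add, Nat.mul_one]; exact ⟨_, hu⟩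
    | succ n ih =>
      rw [Nat.mul_succ i (n + 1)]
      exact H98Pos.HasSec.of_mono (f := (Amp73.powAdd M _ _).hom)
        (ih.tensor (hP _) (hP _) ⟨_, hu⟩)
  obtain ⟨v, hv⟩ := hmul 3
  haveI := hsec (i * (3 + 1)) (by omega)
  haveI : Nontrivial Γ(CohB1.tensorPow L (i * (3 + 1)), ⊤) :=
    (Crv77.sec (CohB1.tensorPow L (i * (3 + 1)))).toEquiv.symm.nontrivial
  obtain ⟨y, hy⟩ := exists_ne (0 : Γ(CohB1.tensorPow L (i * (3 + 1)), ⊤))
  have hs : EGA73.unitHom (CohB1.tensorPow L (i * (3 + 1))) y ≠ 0 := by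
    intro h0
    apply hy
    have h1 : (EGA73.unitHom (CohB1.tensorPow L (i * (3 + 1))) y).app ⊤ (1 : Γ(X, ⊤)) = 0 := by
      rw [h0]; rfl
    rw [EGA73.unitHom_app, one_smul] at h1
    simpa using h1
  have hQ := EGA73.isInvertible_tensorPow hL (i * (3 + 1))
  obtain ⟨e⟩ := isInverseOf_tensorPow ⟨f⟩ (i * (3 + 1))
  let t : CohB1.tensorPow L (i * (3 + 1)) ⟶ Coh.structureModule X :=
    (EGA73.tensUnitLeft _).inv ≫ H98Pos.tensMap v _ ≫ e.hom
  have ht : t ≠ 0 := by
    intro h0
    refine H98Pos.tensMap_ne_zero EGA73.isInvertible_structureModule (hP _) hQ hv ?_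
    have h1 : H98Pos.tensMap v (CohB1.tensorPow L (i * (3 + 1))) ≫ e.hom = 0 :=
      (cancel_epi (EGA73.tensUnitLeft _).inv).1 (h0.trans comp_zero.symm)
    exact (cancel_mono e.hom).1 (h1.trans zero_comp.symm)
  have hfield : IsField (Γ(X, ⊤) : Type u) := isField_of_universallyClosed k (X ↘ Spec (CommRingCat.of k))
  obtain ⟨w⟩ := TrivLine96.nonempty_iso_of_two_sided hfield hQ _ hs t ht
  exact (hnt (i * (3 + 1)) (by omega)).false w

end Groth.Agent.S14064

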