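import Groth.Statements.S14065
import Groth.Agent.CrvPic30.Incl


set_option autoImplicit false
universe u
open CategoryTheory CategoryTheory.Limits AlgebraicGeometry TopologicalSpace
open Curves

namespace Groth.Agent.S14065

open FunFld Groth.Agent.CrvPic30
attribute [local instance] CrvPic30.ffAlg

/-- Let k be an algebraically closed field and C a smooth projective connected curve over k — an
integral scheme, proper and smooth over k, of dimension 1 — of genus g = dim_k H¹(C, O_C) with g ≥
2, and let T be the tangent module of C, a tensor inverse of the module of differentials Ω_{C/k}.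
Then dim_k H¹(C, T) = 3g − 3. (The published proof makes this computation, together with the
vanishing of H⁰(C, T), to find the dimension of the tangent space of the moduli stack of genus-g
curves at C; only the dimension of H¹(C, T) is stated here.) -/
theorem result (k : Type u) [Field k] [IsAlgClosed k]
    (C : Scheme.{u}) [C.Over (Spec (CommRingCat.of k))] [IsProper (C ↘ (Spec (CommRingCat.of k)))] [Smooth (C ↘ (Spec (CommRingCat.of k)))] [IsIntegral C]
    (hdim : topologicalKrullDim C = 1) (g : ℕ) (hg : Curv2.genus k C = g) (h2 : 2 ≤ g)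
    (T : C.Modules) (hT : ClSub.IsInverseOf T (Omega.sheaf (C ↘ (Spec (CommRingCat.of k))))) :
    Module.finrank k (Coh.HH C T 1) = 3 * g - 3 := by
  have h := setup_of_smooth_algClosed (k := k) (C := C) hdim
  obtain ⟨W, hW, ⟨eW⟩⟩ := h.nonempty_iso_omega
  have hT' : ClSub.IsInverseOf (Omega.sheaf (C ↘ (Spec (CommRingCat.of k)))) T := by
    obtain ⟨e⟩ := hT
    exact ⟨EGA73.tensComm _ _ ≪≫ e⟩
  obtain ⟨eT⟩ := h.iso_O_neg_of_inverse eW hT'
  rw [h.h1_of_iso hW eT, sub_neg_eq_add]
  rw [h.genus_eq] at hg
  have hW' := FF30.deg_canonical h.ff hW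
  have := FF30.ell_eq_of_deg_gt h.ff (D := W + W) (by rw [FF30.deg_add, hW', hg]; omega)
  rw [FF30.deg_add, hW', hg] at this
  omega

end Groth.Agent.S14065
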