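import Groth.Statements.S14077
import Groth.Agent.Desc20.Main

set_option autoImplicit false
open CategoryTheory CategoryTheory.Limits AlgebraicGeometry
universe u
open FamCyc

namespace Groth.Agent.S14077

/-- Let p : X ⟶ S be flat and locally of finite presentation and g : G ⟶ S proper and smooth with
geometrically connected fibres. Let S₀ ⟶ S be the closed subscheme defined by the nilradical, X₀ = X
×_S S₀, and Z₀ a closed subscheme of X₀, locally of finite presentation and flat over S₀. Let W be a
closed subscheme of X ×_S G, flat and locally of finite presentation over G, whose preimage in (X
×_S G) ×_S S₀ coincides with the preimage of Z₀. Then there is exactly one closed subscheme Z of X,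
flat and locally of finite presentation over S, whose preimage in X₀ is Z₀ and whose preimage in X
×_S G is W. (The published statement allows locally closed subschemes and asks W ⟶ G to be flat and
finitely presented only over a schematically dense open subset containing all points of relative
codimension one over Z₀; this row states the case where that open subset is all of W and the
subschemes are closed.) -/
theorem result {S X G : Scheme.{u}}
    (p : X ⟶ S) [Flat p] [LocallyOfFinitePresentation p]
    (g : G ⟶ S) [IsProper g] [Smooth g] [GeometricallyConnected g]
    (Z₀ : (pullback p S.nilradical.subschemeι).IdealSheafData)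
    [Flat (Z₀.subschemeι ≫ pullback.snd p S.nilradical.subschemeι)]
    [LocallyOfFinitePresentation (Z₀.subschemeι ≫ pullback.snd p S.nilradical.subschemeι)]
    (W : (pullback p g).IdealSheafData)
    [Flat (W.subschemeι ≫ pullback.snd p g)] [LocallyOfFinitePresentation (W.subschemeι ≫ pullback.snd p g)]
    (hW : W.comap (pullback.fst (pullback.fst p g ≫ p) S.nilradical.subschemeι) =
      Z₀.comap (pullback.map (pullback.fst p g ≫ p) S.nilradical.subschemeι p S.nilradical.subschemeι
        (pullback.fst p g) (𝟙 _) (𝟙 S) (Category.comp_id _)
        ((Category.comp_id _).trans (Category.id_comp _).symm))) :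
    ∃! Z : X.IdealSheafData, Flat (Z.subschemeι ≫ p) ∧ LocallyOfFinitePresentation (Z.subschemeι ≫ p) ∧
      Z.comap (pullback.fst p S.nilradical.subschemeι) = Z₀ ∧ Z.comap (pullback.fst p g) = W := by
  exact Groth.Agent.Desc20.existsUnique_of_nilradical p g Z₀ W hW

end Groth.Agent.S14077
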