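import Groth.Statements.S14080
import Mathlib.RingTheory.PowerSeries.Substitution
import Mathlib.RingTheory.PowerSeries.Inverse
import Mathlib.RingTheory.PowerSeries.Trunc

set_option autoImplicit false
universe u
open ArSing

namespace Groth.Agent.S14080

open PowerSeries in
theorem algHom_ext {k : Type*} [CommRing k] {ψ₁ ψ₂ : PowerSeries k →ₐ[k] PowerSeries k}
    (h : ψ₁ X = ψ₂ X) (h0 : constantCoeff (ψ₁ X) = 0) : ψ₁ = ψ₂ := by
  apply AlgHom.ext
  intro f
  ext n
  obtain ⟨g, hg⟩ : X ^ (n + 1) ∣ f - ((trunc (n + 1) f : Polynomial k) : PowerSeries k) :=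
    X_pow_dvd_iff.2 fun m hm => by simp [coeff_trunc, hm]
  have hp : ψ₁ ((trunc (n + 1) f : Polynomial k) : PowerSeries k) =
      ψ₂ ((trunc (n + 1) f : Polynomial k) : PowerSeries k) := by
    have e := Polynomial.algHom_ext (f := ψ₁.comp (Polynomial.coeToPowerSeries.algHom k))
      (g := ψ₂.comp (Polynomial.coeToPowerSeries.algHom k)) (by simpa using h)
    have e' := congrArg (fun F : Polynomial k →ₐ[k] PowerSeries k => F (trunc (n + 1) f)) e
    simpa using e'
  obtain ⟨w, hw⟩ : X ∣ ψ₁ X := X_dvd_iff.2 h0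
  have key : ∀ ψ : PowerSeries k →ₐ[k] PowerSeries k, ψ X = X * w →
      coeff n (ψ f) = coeff n (ψ ((trunc (n + 1) f : Polynomial k) : PowerSeries k)) := fun ψ hψ => by
    have : f = ((trunc (n + 1) f : Polynomial k) : PowerSeries k) + X ^ (n + 1) * g := by
      rw [← hg, add_sub_cancel]
    conv_lhs => rw [this, map_add, map_mul, map_pow, hψ, mul_pow, mul_assoc, map_add,
      coeff_X_pow_mul', if_neg (by omega), add_zero]
  rw [key ψ₁ hw, key ψ₂ (h ▸ hw), hp]

/-- Let k be a field in which 2 is invertible and σ an involutive k-algebra automorphism of the power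
series ring k[[t]], with ξ the coefficient of t in σ(t). Then ξ^2 = 1, the k-algebra endomorphism φ
with φ(t) = (t + ξ σ(t))/2 is an automorphism, and φ⁻¹ σ φ is the automorphism t ↦ ξ t. (The
published statement is over an algebraically closed field of characteristic prime to 2; only the
invertibility of 2 is used, so any field with 2 ≠ 0 is allowed here.) -/
theorem result (k : Type u) [Field k] (h2 : (2 : k) ≠ 0)
    (σ : PowerSeries k ≃ₐ[k] PowerSeries k) (hσ : ∀ f, σ (σ f) = f) :
    (PowerSeries.coeff 1 (σ PowerSeries.X)) ^ 2 = 1 ∧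
    ∃ φ : PowerSeries k ≃ₐ[k] PowerSeries k,
      φ PowerSeries.X = PowerSeries.C (2⁻¹ : k) *
        (PowerSeries.X + PowerSeries.C (PowerSeries.coeff 1 (σ PowerSeries.X)) * σ PowerSeries.X) ∧
      ∀ f, φ.symm (σ (φ f)) = PowerSeries.rescale (PowerSeries.coeff 1 (σ PowerSeries.X)) f := by
  open PowerSeries in
  set ξ := PowerSeries.coeff 1 (σ PowerSeries.X) with hξdef
  have hc : ∀ (ψ : PowerSeries k ≃ₐ[k] PowerSeries k) (g : PowerSeries k),
      constantCoeff g = 0 → constantCoeff (ψ g) = 0 := fun ψ g hg => by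
    by_contra hne
    have : IsUnit (ψ g) := isUnit_iff_constantCoeff.2 (isUnit_iff_ne_zero.2 hne)
    have h' := this.map ψ.symm
    rw [AlgEquiv.symm_apply_apply, isUnit_iff_constantCoeff, hg] at h'
    exact not_isUnit_zero h'
  have hσ0 : constantCoeff (σ X) = 0 := hc σ X constantCoeff_X
  obtain ⟨u, hu⟩ : X ∣ σ X := X_dvd_iff.2 hσ0
  have hu0 : constantCoeff u = ξ := by
    rw [hξdef, hu, ← coeff_zero_eq_constantCoeff_apply, coeff_succ_X_mul]
  have hsu : constantCoeff (σ u) = ξ := by
    have h1 := hc σ (u - C ξ) (by simp [hu0])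
    rw [map_sub, show σ (C ξ) = C ξ from σ.commutes ξ, map_sub, constantCoeff_C, sub_eq_zero] at h1
    exact h1
  have hξ : ξ ^ 2 = 1 := by
    have h1 : X * (u * σ u) = X * 1 := by
      rw [mul_one, ← mul_assoc, ← hu, ← map_mul, ← hu, hσ]
    have h2 := congrArg constantCoeff (mul_left_cancel₀ X_ne_zero h1)
    rw [map_mul, hu0, hsu, map_one] at h2
    rw [sq, h2]
  refine ⟨hξ, ?_⟩
  set P : PowerSeries k := C (2⁻¹ : k) * (X + C ξ * σ X) with hP
  have hP0 : constantCoeff P = 0 := by simp [hP, hσ0]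
  have hP1 : coeff 1 P = 1 := by
    rw [hP, coeff_C_mul, map_add, coeff_one_X, coeff_C_mul, ← hξdef]
    field_simp
    linear_combination hξ
  have hu1 : IsUnit (coeff 1 P) := by rw [hP1]; exact isUnit_one
  have hs : HasSubst P := HasSubst.of_constantCoeff_zero' hP0
  have ht : HasSubst (P.substInvOfIsUnit hu1) := HasSubst.substInvOfIsUnit _ _
  let φ : PowerSeries k ≃ₐ[k] PowerSeries k :=
    AlgEquiv.ofAlgHom (substAlgHom hs) (substAlgHom ht)
      (algHom_ext (by
        simp only [AlgHom.comp_apply, substAlgHom_X, AlgHom.id_apply]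
        rw [coe_substAlgHom hs]
        exact subst_substInvOfIsUnit_left _ hP0 hu1) (by
        simp only [AlgHom.comp_apply, substAlgHom_X]
        rw [coe_substAlgHom hs, subst_substInvOfIsUnit_left _ hP0 hu1, constantCoeff_X]))
      (algHom_ext (by
        simp only [AlgHom.comp_apply, substAlgHom_X, AlgHom.id_apply]
        rw [coe_substAlgHom ht, subst_substInvOfIsUnit_right _ hP0 hu1]) (by
        simp only [AlgHom.comp_apply, substAlgHom_X]
        rw [coe_substAlgHom ht, subst_substInvOfIsUnit_right _ hP0 hu1, constantCoeff_X]))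
  have hφX : φ X = P := substAlgHom_X hs
  refine ⟨φ, hφX, ?_⟩
  have hr : (rescaleAlgHom ξ : PowerSeries k →ₐ[k] PowerSeries k) X = C ξ * X := by
    rw [show (rescaleAlgHom ξ : PowerSeries k →ₐ[k] PowerSeries k) X = rescale ξ X from
      DFunLike.congr_fun (coe_rescaleAlgHom ξ) X, rescale_X]
  have hC : ∀ (ψ : PowerSeries k ≃ₐ[k] PowerSeries k) (a : k), ψ (C a) = C a :=
    fun ψ a => ψ.commutes a
  have he : (σ : PowerSeries k →ₐ[k] PowerSeries k).comp (φ : PowerSeries k →ₐ[k] PowerSeries k) =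
      (φ : PowerSeries k →ₐ[k] PowerSeries k).comp (rescaleAlgHom ξ) := by
    apply algHom_ext
    · simp only [AlgHom.comp_apply, AlgEquiv.coe_toAlgHom, AlgEquiv.coe_algHom, hr, map_mul, hφX, hC]
      rw [hP, map_mul, map_add, map_mul, hσ, hC, hC]
      have : C ξ * C ξ = (1 : PowerSeries k) := by rw [← map_mul, ← sq, hξ, map_one]
      linear_combination (-C (2⁻¹ : k) * σ X) * this
    · exact hc σ _ (hc φ _ constantCoeff_X)
  intro f
  rw [AlgEquiv.symm_apply_eq]
  exact (DFunLike.congr_fun he f).trans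
    (congrArg φ (DFunLike.congr_fun (coe_rescaleAlgHom ξ) f))

end Groth.Agent.S14080
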