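import Groth.Statements.S14083
import Groth.Agent.ArSing32.Conj

set_option autoImplicit false
universe u
open ArSing

namespace Groth.Agent.S14083

/-- Over an algebraically closed field k of characteristic different from 2, every non-trivial k-algebra
involution σ of the node algebra A_1 = k[[x,y]]/(y^2 - x^2) is conjugate, by a k-algebra
automorphism φ of A_1, to one of the three involutions (x, y) ↦ (x, -y), (x, y) ↦ (-x, -y), (x, y) ↦
(y, x). -/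
theorem result (k : Type u) [Field k] [IsAlgClosed k]
    (h2 : (2 : k) ≠ 0)
    (σ : ArSing.ring k 1 ≃ₐ[k] ArSing.ring k 1) (hσ : ∀ a, σ (σ a) = a) (hne : σ ≠ AlgEquiv.refl) :
    ∃ φ : ArSing.ring k 1 ≃ₐ[k] ArSing.ring k 1,
      (φ.symm (σ (φ (ArSing.x k 1))) = ArSing.x k 1 ∧ φ.symm (σ (φ (ArSing.y k 1))) = -ArSing.y k 1) ∨
      (φ.symm (σ (φ (ArSing.x k 1))) = -ArSing.x k 1 ∧ φ.symm (σ (φ (ArSing.y k 1))) = -ArSing.y k 1) ∨
      (φ.symm (σ (φ (ArSing.x k 1))) = ArSing.y k 1 ∧ φ.symm (σ (φ (ArSing.y k 1))) = ArSing.x k 1) := by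
  obtain ⟨sw, hswx, hswy⟩ : ∃ sw : ArSing.ring k 1 ≃ₐ[k] ArSing.ring k 1,
      sw (ArSing.x k 1) = ArSing.y k 1 ∧ sw (ArSing.y k 1) = ArSing.x k 1 := by
    obtain ⟨sw, hsw⟩ := ArSing32.exists_aut_odd h2 0 (P := (PowerSeries.X : PowerSeries k))
      (Q := -PowerSeries.X) (by simp) (by simp) (by simp) (by simp)
      (by rw [zero_add, pow_one, PowerSeries.X_dvd_iff]; simp)
    have hQ : PowerSeries.constantCoeff (-PowerSeries.X : PowerSeries k) = 0 := by simp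
    refine ⟨sw, ArSing32.br_ext_iff h2 (l := 0) ?_ ?_, ArSing32.br_ext_iff h2 (l := 0) ?_ ?_⟩
    · rw [(hsw _).1, ArSing32.brP_x, ArSing32.brP_y, PowerSeries.X_subst, zero_add, pow_one]
    · rw [(hsw _).2, ArSing32.brM_x, ArSing32.brM_y, ArSing32.subst_X' hQ, zero_add, pow_one]
    · rw [(hsw _).1, ArSing32.brP_x, ArSing32.brP_y, zero_add, pow_one, PowerSeries.X_subst]
    · rw [(hsw _).2, ArSing32.brM_x, ArSing32.brM_y, zero_add, pow_one,
        ← ArSing32.comp_apply hQ, map_neg, ArSing32.comp_X, neg_neg]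
  rcases ArSing32.conj_odd h2 0 σ hσ hne with ⟨φ, hx, hy⟩ | ⟨φ, hx, hy⟩ | ⟨φ, hx, hy⟩ | ⟨-, φ, hx, hy⟩
  · exact ⟨φ, Or.inl ⟨hx, hy⟩⟩
  · refine ⟨φ, Or.inr (Or.inl ⟨hx, ?_⟩)⟩
    exact hy.trans (by rw [zero_add, pow_one]; exact neg_one_smul k _)
  · have hy' : φ.symm (σ (φ (ArSing.y k 1))) = ArSing.y k 1 :=
      hy.trans (by rw [pow_zero]; exact one_smul k _)
    have hx' : φ.symm (σ (φ (ArSing.x k 1))) = -ArSing.x k 1 := hx
    refine ⟨sw.trans φ, Or.inl ⟨?_, ?_⟩⟩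
    · show sw.symm (φ.symm (σ (φ (sw (ArSing.x k 1))))) = _
      rw [hswx, hy', AlgEquiv.symm_apply_eq, hswx]
    · show sw.symm (φ.symm (σ (φ (sw (ArSing.y k 1))))) = _
      rw [hswy, hx', AlgEquiv.symm_apply_eq, map_neg, hswy]
  · exact ⟨φ, Or.inr (Or.inr ⟨hx, hy⟩)⟩

end Groth.Agent.S14083
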