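import Groth.Statements.S14085
import Mathlib.RingTheory.Flat.FaithfullyFlat.Algebra
import Mathlib.RingTheory.Flat.Stability
import Mathlib.RingTheory.Ideal.Quotient.Operations
import Mathlib.RingTheory.Spectrum.Prime.Topology
import Groth.Agent.CAlg7.FlatLimit
import Groth.Agent.FlatMor68.Pinch

set_option autoImplicit false
universe u
open FlatMor

namespace Groth.Agent.S14085

open TensorProduct Groth.Agent.FlatMor68.Pinch

/-- Let R be a ring, A and B flat R-algebras, I an ideal of A and B → A/I an injective finite flat map
of R-algebras. Then the fibre product ring B ×_{A/I} A, realised as the subalgebra of B × A of pairs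
with equal image in A/I, is flat over R. (This is the affine statement behind flatness over the base
of the pushout of a closed immersion along a finite flat morphism.) -/
theorem result (R A B : Type u) [CommRing R] [CommRing A] [CommRing B]
    [Algebra R A] [Algebra R B] [Module.Flat R A] [Module.Flat R B] (I : Ideal A)
    [Algebra B (A ⧸ I)] [IsScalarTower R B (A ⧸ I)] [Module.Finite B (A ⧸ I)] [Module.Flat B (A ⧸ I)]
    (hinj : Function.Injective (algebraMap B (A ⧸ I))) :
    Module.Flat R ↥(AlgHom.equalizer ((IsScalarTower.toAlgHom R B (A ⧸ I)).comp (AlgHom.fst R B A))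
          ((Ideal.Quotient.mkₐ R I).comp (AlgHom.snd R B A))) := by
  have : Module.Flat R (A ⧸ I) := Module.Flat.trans R B (A ⧸ I)
  have : Module.Flat R (B × A) := Groth.Agent.CAlg7.flat_of_exact (LinearMap.inl R B A) (LinearMap.snd R B A)
    LinearMap.inl_injective LinearMap.snd_surjective Function.Exact.inl_snd
  exact flat_of_flat_quotient (pinch R A B I).val.toLinearMap (pinchDiff R A B I)
    Subtype.val_injective (pinchDiff_surjective R A B I) (pinch_exact R A B I)

end Groth.Agent.S14085
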