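import Groth.Statements.S14086
import Mathlib.RingTheory.Flat.FaithfullyFlat.Algebra
import Mathlib.RingTheory.Flat.Stability
import Mathlib.RingTheory.Ideal.Quotient.Operations
import Mathlib.RingTheory.Spectrum.Prime.Topology
import Groth.Agent.CAlg7.FlatLimit
import Groth.Agent.FlatMor68.Pinch

set_option autoImplicit false
universe u
open FlatMor

namespace Groth.Agent.S14086

open TensorProduct Groth.Agent.FlatMor68.Pinch

/-- Let R be a ring, A and B flat R-algebras, I an ideal of A, B → A/I an injective finite flat map of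
R-algebras and P = B ×_{A/I} A the fibre product ring (pairs in B × A with equal image in A/I). For
any R-algebra R' the base change R' ⊗_R P maps injectively to R' ⊗_R A, and any b' in R' ⊗_R B and
a' in R' ⊗_R A with the same image in R' ⊗_R (A/I) are the two components of some element of R' ⊗_R
P; that is, R' ⊗_R P is the fibre product of R' ⊗_R B and R' ⊗_R A over R' ⊗_R (A/I). -/
theorem result (R A B R' : Type u) [CommRing R] [CommRing A]
    [CommRing B] [CommRing R'] [Algebra R A] [Algebra R B] [Algebra R R'] [Module.Flat R A] [Module.Flat R B]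
    (I : Ideal A) [Algebra B (A ⧸ I)] [IsScalarTower R B (A ⧸ I)] [Module.Finite B (A ⧸ I)] [Module.Flat B (A ⧸ I)]
    (hinj : Function.Injective (algebraMap B (A ⧸ I))) :
    Function.Injective (Algebra.TensorProduct.map (AlgHom.id R' R')
        ((AlgHom.snd R B A).comp (AlgHom.equalizer ((IsScalarTower.toAlgHom R B (A ⧸ I)).comp (AlgHom.fst R B A))
          ((Ideal.Quotient.mkₐ R I).comp (AlgHom.snd R B A))).val)) ∧
    ∀ (b : TensorProduct R R' B) (a : TensorProduct R R' A),
      Algebra.TensorProduct.map (AlgHom.id R' R') (IsScalarTower.toAlgHom R B (A ⧸ I)) b =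
        Algebra.TensorProduct.map (AlgHom.id R' R') (Ideal.Quotient.mkₐ R I) a →
      ∃ x : TensorProduct R R' ↥(AlgHom.equalizer ((IsScalarTower.toAlgHom R B (A ⧸ I)).comp (AlgHom.fst R B A))
          ((Ideal.Quotient.mkₐ R I).comp (AlgHom.snd R B A))),
        Algebra.TensorProduct.map (AlgHom.id R' R') ((AlgHom.fst R B A).comp (AlgHom.equalizer ((IsScalarTower.toAlgHom R B (A ⧸ I)).comp (AlgHom.fst R B A))
          ((Ideal.Quotient.mkₐ R I).comp (AlgHom.snd R B A))).val) x = b ∧
        Algebra.TensorProduct.map (AlgHom.id R' R') ((AlgHom.snd R B A).comp (AlgHom.equalizer ((IsScalarTower.toAlgHom R B (A ⧸ I)).comp (AlgHom.fst R B A))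
          ((Ideal.Quotient.mkₐ R I).comp (AlgHom.snd R B A))).val) x = a := by
  have : Module.Flat R (A ⧸ I) := Module.Flat.trans R B (A ⧸ I)
  have : Module.FaithfullyFlat B (A ⧸ I) := by
    have : FaithfulSMul B (A ⧸ I) := (faithfulSMul_iff_algebraMap_injective _ _).mpr hinj
    exact Module.FaithfullyFlat.of_comap_surjective (Algebra.IsIntegral.comap_surjective B (A ⧸ I))
  let φ := (IsScalarTower.toAlgHom R B (A ⧸ I)).toLinearMap
  let i := (pinch R A B I).val.toLinearMap
  let d := pinchDiff R A B I
  let π := (Ideal.Quotient.mkₐ R I).toLinearMap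
  let f₁ := LinearMap.lTensor R' (LinearMap.fst R B A)
  let f₂ := LinearMap.lTensor R' (LinearMap.snd R B A)
  have hdec : ∀ z, d.lTensor R' z = φ.lTensor R' (f₁ z) - π.lTensor R' (f₂ z) := by
    intro z
    change (φ.comp (LinearMap.fst R B A) - π.comp (LinearMap.snd R B A)).lTensor R' z = _
    rw [LinearMap.lTensor_sub, LinearMap.lTensor_comp, LinearMap.lTensor_comp]
    rfl
  have hex : Function.Exact (i.lTensor R') (d.lTensor R') :=
    lTensor_exact R' (pinch_exact R A B I) (pinchDiff_surjective R A B I)
  have hm : ∀ {X Y : Type u} [CommRing X] [CommRing Y] [Algebra R X] [Algebra R Y] (g : X →ₐ[R] Y)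
      (z : R' ⊗[R] X), Algebra.TensorProduct.map (AlgHom.id R' R') g z = g.toLinearMap.lTensor R' z :=
    fun g z => rfl
  have key : ∀ z : R' ⊗[R] (B × A), z = (LinearMap.inl R B A).lTensor R' (f₁ z) + (LinearMap.inr R B A).lTensor R' (f₂ z) := by
    intro z
    induction z with
    | zero => simp
    | tmul r x => simp [f₁, f₂, ← TensorProduct.tmul_add]
    | add x y hx hy => simp only [map_add]; rw [add_add_add_comm, ← hx, ← hy]
  constructor
  · rw [injective_iff_map_eq_zero]
    intro x hx
    rw [hm, AlgHom.comp_toLinearMap, LinearMap.lTensor_comp, LinearMap.comp_apply] at hx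
    change f₂ (i.lTensor R' x) = 0 at hx
    have h0 : d.lTensor R' (i.lTensor R' x) = 0 := hex.apply_apply_eq_zero x
    rw [hdec, hx, map_zero, sub_zero] at h0
    have h1 : f₁ (i.lTensor R' x) = 0 :=
      lTensor_injective_of_faithfullyFlat (by rw [h0, map_zero])
    refine lTensor_injective_of_flat_quotient i d Subtype.val_injective (pinchDiff_surjective R A B I)
      (pinch_exact R A B I) ?_
    rw [map_zero, key (i.lTensor R' x), h1, hx, map_zero, map_zero, add_zero]
  · intro b a h
    rw [hm, hm] at h
    let z := (LinearMap.inl R B A).lTensor R' b + (LinearMap.inr R B A).lTensor R' a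
    have hz1 : f₁ z = b := by
      simp only [z, f₁, map_add, ← LinearMap.comp_apply, ← LinearMap.lTensor_comp]
      simp
    have hz2 : f₂ z = a := by
      simp only [z, f₂, map_add, ← LinearMap.comp_apply, ← LinearMap.lTensor_comp]
      simp
    obtain ⟨x, hx⟩ := (hex z).1 (by rw [hdec, hz1, hz2, sub_eq_zero]; exact h)
    refine ⟨x, ?_, ?_⟩ <;> rw [hm, AlgHom.comp_toLinearMap, LinearMap.lTensor_comp, LinearMap.comp_apply]
    · exact (congrArg f₁ hx).trans hz1
    · exact (congrArg f₂ hx).trans hz2

end Groth.Agent.S14086
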