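import Groth.Statements.S14087
import Groth.Agent.ArSing32.Curv
import Mathlib.RingTheory.Flat.FaithfullyFlat.Algebra

set_option autoImplicit false
universe u
open ArSing

namespace Groth.Agent.S14087

open Polynomial in
/-- Over an algebraically closed field k, if B = k[t]/(t^n) with n ≥ 1 is flat over a k-subalgebra A ⊆ B
(a finite flat extension of pointed finite algebras with curvilinear top), then A is curvilinear
too: A is isomorphic as a k-algebra to k[t]/(t^m) for some m. -/
theorem result (k : Type u) [Field k] [IsAlgClosed k]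
    (n : ℕ) (hn : 0 < n)
    (A : Subalgebra k (Polynomial k ⧸ Ideal.span {(X : Polynomial k) ^ n}))
    [Module.Flat A (Polynomial k ⧸ Ideal.span {(X : Polynomial k) ^ n})] :
    ∃ m : ℕ, Nonempty (A ≃ₐ[k] (Polynomial k ⧸ Ideal.span {(X : Polynomial k) ^ m})) := by
  have hntr : Nontrivial (Polynomial k ⧸ (Ideal.span {(X : Polynomial k) ^ n})) := Ideal.Quotient.nontrivial_iff.2 fun h => by
    rw [Ideal.span_singleton_eq_top, isUnit_pow_iff hn.ne'] at h
    exact Polynomial.not_isUnit_X h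
  have hfin : Module.Finite k (Polynomial k ⧸ (Ideal.span {(X : Polynomial k) ^ n})) := (Polynomial.monic_X_pow n).finite_quotient
  have hkey : ∀ z : Polynomial k ⧸ (Ideal.span {(X : Polynomial k) ^ n}),
      z = algebraMap k _ 0 ∨ ∃ (m : ℕ) (w : (Polynomial k ⧸ (Ideal.span {(X : Polynomial k) ^ n}))ˣ),
        z = Ideal.Quotient.mk (Ideal.span {(X : Polynomial k) ^ n}) X ^ m * w := by
    intro z
    obtain ⟨p, rfl⟩ := Ideal.Quotient.mk_surjective z
    rcases eq_or_ne p 0 with rfl | hp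
    · exact Or.inl (by rw [map_zero, map_zero])
    obtain ⟨q, hq, hq'⟩ : ∃ q, p = X ^ p.rootMultiplicity 0 * q ∧ ¬ X ∣ q := by
      obtain ⟨q, hq, hq'⟩ := Polynomial.exists_eq_pow_rootMultiplicity_mul_and_not_dvd p hp 0
      rw [map_zero, sub_zero] at hq hq'
      exact ⟨q, hq, hq'⟩
    refine Or.inr ⟨p.rootMultiplicity 0, IsUnit.unit (a := Ideal.Quotient.mk (Ideal.span {(X : Polynomial k) ^ n}) q) ?_, ?_⟩
    · obtain ⟨a, b, hab⟩ := ((Polynomial.prime_X.irreducible.coprime_iff_not_dvd.2 hq').pow_left (m := n))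
      refine IsUnit.of_mul_eq_one (Ideal.Quotient.mk (Ideal.span {(X : Polynomial k) ^ n}) b) ?_
      rw [← map_mul, ← map_one (Ideal.Quotient.mk (Ideal.span {(X : Polynomial k) ^ n})), Ideal.Quotient.eq]
      exact Ideal.mem_span_singleton.2 ⟨-a, by linear_combination hab⟩
    · rw [IsUnit.unit_spec, ← map_pow, ← map_mul, ← hq]
  have hXn : Ideal.Quotient.mk (Ideal.span {(X : Polynomial k) ^ n}) (X : Polynomial k) ^ n = 0 := by
    rw [← map_pow, Ideal.Quotient.eq_zero_iff_mem]
    exact Ideal.mem_span_singleton_self _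
  have hlocal : IsLocalRing (Polynomial k ⧸ (Ideal.span {(X : Polynomial k) ^ n})) := by
    refine IsLocalRing.of_isUnit_or_isUnit_one_sub_self fun z => ?_
    rcases hkey z with rfl | ⟨m, w, rfl⟩
    · right; rw [map_zero, sub_zero]; exact isUnit_one
    rcases Nat.eq_zero_or_pos m with rfl | hm
    · left; rw [pow_zero, one_mul]; exact w.isUnit
    · right
      refine IsNilpotent.isUnit_one_sub ⟨n, ?_⟩
      rw [mul_pow, ← pow_mul, mul_comm m n, pow_mul, hXn, zero_pow hm.ne', zero_mul]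
  have hA : Module.Finite k A := Module.Finite.of_injective A.val.toLinearMap Subtype.val_injective
  have : IsArtinianRing A := IsArtinianRing.of_finite k A
  have hnu : ∀ a : A, IsUnit (a : Polynomial k ⧸ (Ideal.span {(X : Polynomial k) ^ n})) → IsUnit a := fun a ha =>
    IsArtinianRing.isUnit_of_mem_nonZeroDivisors (mem_nonZeroDivisors_iff_left.2 fun x hx =>
      Subtype.ext ((ha.mul_right_eq_zero).1 (by simpa using congrArg Subtype.val hx)))
  have : IsLocalRing A := by
    refine IsLocalRing.of_isUnit_or_isUnit_one_sub_self fun a => ?_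
    rcases IsLocalRing.isUnit_or_isUnit_one_sub_self (a : Polynomial k ⧸ (Ideal.span {(X : Polynomial k) ^ n})) with h | h
    · exact Or.inl (hnu a h)
    · exact Or.inr (hnu (1 - a) (by simpa using h))
  have : IsLocalHom (algebraMap A (Polynomial k ⧸ (Ideal.span {(X : Polynomial k) ^ n}))) := ⟨hnu⟩
  have : Module.FaithfullyFlat A (Polynomial k ⧸ (Ideal.span {(X : Polynomial k) ^ n})) := Module.FaithfullyFlat.of_flat_of_isLocalHom (A := A) (B := Polynomial k ⧸ (Ideal.span {(X : Polynomial k) ^ n}))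
  suffices ∃ g, IsLocalRing.maximalIdeal A = Ideal.span {g} by
    obtain ⟨g, hg⟩ := this
    exact ⟨_, ArSing32.exists_equiv_of_principal k hg⟩
  classical
  let S : Set ℕ := {m | ∃ a ∈ IsLocalRing.maximalIdeal A, ∃ w : (Polynomial k ⧸ (Ideal.span {(X : Polynomial k) ^ n}))ˣ,
    (a : Polynomial k ⧸ (Ideal.span {(X : Polynomial k) ^ n})) = Ideal.Quotient.mk (Ideal.span {(X : Polynomial k) ^ n}) X ^ m * w}
  have hS : n ∈ S := ⟨0, zero_mem _, 1, by rw [hXn, zero_mul]; rfl⟩
  obtain ⟨a, ha, w, hw⟩ := Nat.sInf_mem (s := S) ⟨n, hS⟩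
  refine ⟨a, le_antisymm (fun z hz => ?_) ((Ideal.span_singleton_le_iff_mem _).2 ha)⟩
  rw [← Ideal.comap_map_eq_self_of_faithfullyFlat (B := Polynomial k ⧸ (Ideal.span {(X : Polynomial k) ^ n})) (Ideal.span {a}),
    Ideal.mem_comap, Ideal.map_span, Set.image_singleton, Ideal.mem_span_singleton]
  show (a : Polynomial k ⧸ (Ideal.span {(X : Polynomial k) ^ n})) ∣ (z : Polynomial k ⧸ (Ideal.span {(X : Polynomial k) ^ n}))
  rcases hkey z with h | ⟨m, v, hv⟩
  · rw [h, map_zero]; exact dvd_zero _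
  rw [hw, hv, Units.mul_right_dvd, Units.dvd_mul_right]
  exact pow_dvd_pow _ (Nat.sInf_le ⟨z, hz, v, hv⟩)

end Groth.Agent.S14087
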