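import Groth.Statements.S14088
import Mathlib.Algebra.BigOperators.Ring.Finset
import Mathlib.Tactic.Ring
import Mathlib.Tactic.LinearCombination
-- import your own Groth.Agent.* helpers here

set_option autoImplicit false
universe u
open ArSing

namespace Groth.Agent.S14088

/-- The identity behind the torus-equivariant classes h_i = h_0 + i τ of the coordinate hyperplanes of a
projective space of binary forms, stated in an arbitrary commutative ring: for n ≤ m, (h_0 ⋯
h_(n-1))^2 · h_n ⋯ h_(m-1) equals the sum over s = 0, …, n of (-1)^s s! (n choose s) (m choose s)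
τ^s h_0 ⋯ h_(m+n-s-1), where h_i = h + i τ. (The published statement is in the equivariant Chow ring
of that projective space; only the relations h_i = h_j + (j - i) τ are used, so it holds in any
commutative ring.) -/
theorem result (A : Type u) [CommRing A] (h τ : A) (n m : ℕ) (hnm : n ≤ m) :
    (∏ i ∈ Finset.range n, (h + (i : A) * τ) ^ 2) * ∏ i ∈ Finset.Ico n m, (h + (i : A) * τ) =
      ∑ s ∈ Finset.range (n + 1), (-1 : A) ^ s * (Nat.factorial s : A) * (Nat.choose n s : A) *
        (Nat.choose m s : A) * τ ^ s * ∏ i ∈ Finset.range (m + n - s), (h + (i : A) * τ) := by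
  have hL : (∏ i ∈ Finset.range n, (h + (i : A) * τ) ^ 2) *
      ∏ i ∈ Finset.Ico n m, (h + (i : A) * τ) =
      (∏ i ∈ Finset.range n, (h + (i : A) * τ)) * ∏ i ∈ Finset.range m, (h + (i : A) * τ) := by
    rw [← Finset.prod_range_mul_prod_Ico _ hnm, Finset.prod_pow]
    ring
  rw [hL]
  clear hL
  induction n with
  | zero => simp
  | succ n ih =>
    rw [Finset.prod_range_succ, mul_comm (∏ i ∈ Finset.range n, _) _, mul_assoc, ih (by omega),
      Finset.mul_sum]
    set P := fun j => ∏ i ∈ Finset.range j, (h + (i : A) * τ) with hP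
    let c := fun s => (-1 : A) ^ s * (Nat.factorial s : A) * (Nat.choose n s : A) *
      (Nat.choose m s : A) * τ ^ s
    have step : ∀ s ∈ Finset.range (n + 1), (h + (n : A) * τ) * (c s * P (m + n - s)) =
        c s * P (m + (n + 1) - s) + c s * (((s : A) - (m : A)) * τ) * P (m + n - s) := by
      intro s hs
      have := Finset.mem_range.mp hs
      obtain ⟨d, hd⟩ : ∃ d, m + n - s = d := ⟨_, rfl⟩
      rw [show m + (n + 1) - s = d + 1 by omega, hd]
      simp only [hP, Finset.prod_range_succ]
      have hcast : (d : A) + (s : A) = (m : A) + (n : A) := by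
        rw [← Nat.cast_add, ← Nat.cast_add]
        congr 1
        omega
      linear_combination -(c s * (∏ i ∈ Finset.range d, (h + (i : A) * τ)) * τ) * hcast
    rw [Finset.sum_congr rfl step, Finset.sum_add_distrib,
      Finset.sum_range_succ' _ (n + 1), Finset.sum_range_succ' _ n]
    have hz : ∀ s, s ≤ n → ((-1 : A) ^ (s + 1) * ((s + 1).factorial : A) *
        ((n + 1).choose (s + 1) : A) * (m.choose (s + 1) : A) * τ ^ (s + 1)) =
        c (s + 1) + c s * (((s : A) - (m : A)) * τ) := by
      intro s hs
      have h1 : (m.choose (s + 1) : A) * ((s + 1 : ℕ) : A) =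
          (m.choose s : A) * ((m : A) - (s : A)) := by
        rw [← Nat.cast_mul, Nat.choose_succ_right_eq, Nat.cast_mul, Nat.cast_sub (by omega)]
      simp only [c, Nat.choose_succ_succ, Nat.factorial_succ]
      push_cast at h1 ⊢
      linear_combination ((-1 : A) ^ (s + 1) * (s.factorial : A) * (n.choose s : A) * τ ^ (s + 1)) *
        h1
    have e1 : ∀ k, m + (n + 1) - (k + 1) = m + n - k := fun k => by omega
    simp only [e1]
    rw [Finset.sum_congr rfl fun s hs =>
      (congrArg (· * P (m + n - s)) (hz s (Nat.lt_succ_iff.mp (Finset.mem_range.mp hs))))]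
    simp only [add_mul, Finset.sum_add_distrib]
    rw [Finset.sum_range_succ (fun s => c (s + 1) * P (m + n - s)) n]
    simp [c]
    ring

end Groth.Agent.S14088
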