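import Groth.Statements.S1409
import Mathlib

set_option autoImplicit false
universe u
open FlatMor

namespace Groth.Agent.S1409
variable {ι : Type u} [Preorder ι] [IsDirected ι (· ≤ ·)] [Nonempty ι] (G : ι → Type u) [∀ i, CommRing (G i)]
    (f : ∀ i j, i ≤ j → G i →+* G j) [DirectedSystem G fun i j h => f i j h]

/-- The direct limit. -/
abbrev Lim := Ring.DirectLimit G fun i j h => ⇑(f i j h)

/-- The structure maps. -/
noncomputable abbrev ofL (i : ι) : G i →+* Lim G f := Ring.DirectLimit.of G (fun i j h => ⇑(f i j h)) i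

omit [IsDirected ι (· ≤ ·)] [Nonempty ι] [DirectedSystem G fun i j h => f i j h] in
lemma ofL_f {i j : ι} (h : i ≤ j) (x : G i) : ofL G f j (f i j h x) = ofL G f i x := Ring.DirectLimit.of_f ..

omit [IsDirected ι (· ≤ ·)] [Nonempty ι] in
lemma f_f {i j k : ι} (h1 : i ≤ j) (h2 : j ≤ k) (x : G i) : f j k h2 (f i j h1 x) = f i k (h1.trans h2) x :=
  DirectedSystem.map_map (f := fun i j h => ⇑(f i j h)) h1 h2 x

/-- An element of the extension of an ideal of a stage comes from the extension at a later stage. -/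
lemma exists_mem_map {i : ι} (q : Ideal (G i)) {z : (Lim G f)} (hz : z ∈ q.map (ofL G f i)) :
    ∃ j, ∃ h : i ≤ j, ∃ y ∈ q.map (f i j h), ofL G f j y = z := by
  induction hz using Submodule.span_induction with
  | mem z hz =>
    obtain ⟨a, ha, rfl⟩ := hz
    exact ⟨i, le_rfl, f i i le_rfl a, Ideal.mem_map_of_mem _ ha, ofL_f G f _ a⟩
  | zero => exact ⟨i, le_rfl, 0, zero_mem _, map_zero _⟩
  | add a b _ _ ha hb =>
    obtain ⟨j, hj, y, hy, rfl⟩ := ha
    obtain ⟨k, hk, w, hw, rfl⟩ := hb
    obtain ⟨l, hjl, hkl⟩ := exists_ge_ge j k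
    refine ⟨l, hj.trans hjl, f j l hjl y + f k l hkl w, ?_, by rw [map_add, ofL_f, ofL_f]⟩
    have h1 := Ideal.mem_map_of_mem (f j l hjl) hy
    have h2 := Ideal.mem_map_of_mem (f k l hkl) hw
    rw [Ideal.map_map] at h1 h2
    refine add_mem (Ideal.map_le_iff_le_comap.mpr ?_ h1) (Ideal.map_le_iff_le_comap.mpr ?_ h2)
    · intro a ha
      simp only [Ideal.mem_comap, RingHom.comp_apply]
      rw [f_f G f hj hjl a]
      exact Ideal.mem_map_of_mem _ ha
    · intro a ha
      simp only [Ideal.mem_comap, RingHom.comp_apply]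
      rw [f_f G f hk hkl a]
      exact Ideal.mem_map_of_mem _ ha
  | smul r a _ ha =>
    obtain ⟨j, hj, y, hy, rfl⟩ := ha
    obtain ⟨k, w, rfl⟩ := Ring.DirectLimit.exists_of r
    obtain ⟨l, hjl, hkl⟩ := exists_ge_ge j k
    refine ⟨l, hj.trans hjl, f k l hkl w * f j l hjl y, ?_, by rw [map_mul, ofL_f, ofL_f, smul_eq_mul]⟩
    have h1 := Ideal.mem_map_of_mem (f j l hjl) hy
    rw [Ideal.map_map] at h1
    refine Ideal.mul_mem_left _ _ (Ideal.map_le_iff_le_comap.mpr ?_ h1)
    intro a ha
    simp only [Ideal.mem_comap, RingHom.comp_apply]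
    rw [f_f G f hj hjl a]
    exact Ideal.mem_map_of_mem _ ha

/-- Minimal primes of the limit contract to minimal primes. -/
lemma comap_mem_minimalPrimes (hf : ∀ i j (h : i ≤ j), letI := (f i j h).toAlgebra; Module.FaithfullyFlat (G i) (G j))
    (i : ι) {P : Ideal (Lim G f)} (hP : P ∈ minimalPrimes (Lim G f)) : P.comap (ofL G f i) ∈ minimalPrimes (G i) := by
  have hPp : P.IsPrime := hP.1.1
  refine ⟨⟨inferInstance, bot_le⟩, fun q hq hle => ?_⟩
  have hqp : q.IsPrime := hq.1
  let Sm : Submonoid (Lim G f) := P.primeCompl ⊔ q.primeCompl.map (ofL G f i).toMonoidHom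
  have hd : Disjoint ((q.map (ofL G f i) : Ideal (Lim G f)) : Set (Lim G f)) (Sm : Set (Lim G f)) := by
    rw [Set.disjoint_left]
    intro z hz hzS
    obtain ⟨s, hs, _, ⟨t, ht, rfl⟩, rfl⟩ := Submonoid.mem_sup.mp hzS
    obtain ⟨j, hj, y, hy, hye⟩ := exists_mem_map G f q hz
    obtain ⟨k, s', rfl⟩ := Ring.DirectLimit.exists_of s
    obtain ⟨l, hjl, hkl⟩ := exists_ge_ge j k
    have hil := hj.trans hjl
    have h0 : ofL G f l (f j l hjl y - f k l hkl s' * f i l hil t) = 0 := by
      rw [map_sub, map_mul, ofL_f, ofL_f, ofL_f, hye, sub_eq_zero]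
      rfl
    obtain ⟨m, hlm, h0⟩ := Ring.DirectLimit.of.zero_exact h0
    have him := hil.trans hlm
    rw [map_sub, map_mul, sub_eq_zero] at h0
    letI := (f i m him).toAlgebra
    have := hf i m him
    have : Algebra.HasGoingDown (G i) (G m) := Algebra.HasGoingDown.of_flat
    have : (P.comap (ofL G f m)).LiesOver (P.comap (ofL G f i)) := ⟨by
      rw [Ideal.under_def, Ideal.comap_comap]
      congr 1
      exact RingHom.ext fun a => (ofL_f G f him a).symm⟩
    obtain ⟨Q, hQle, hQp, hQl⟩ := Ideal.exists_ideal_le_liesOver_of_le (p := q) (q := P.comap (ofL G f i))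
      (P.comap (ofL G f m)) hle
    have hy' : f l m hlm (f j l hjl y) ∈ Q := by
      rw [f_f G f hjl hlm y]
      have h1 := Ideal.mem_map_of_mem (f j m (hjl.trans hlm)) hy
      rw [Ideal.map_map] at h1
      refine Ideal.map_le_iff_le_comap.mpr ?_ h1
      intro a ha
      show f j m (hjl.trans hlm) (f i j hj a) ∈ Q
      rw [f_f G f hj (hjl.trans hlm) a]
      exact (hQl.over ▸ ha : a ∈ Q.under (G i))
    rw [h0] at hy'
    rcases hQp.mem_or_mem hy' with h1 | h1
    · have := hQle h1
      rw [Ideal.mem_comap, f_f G f hkl hlm s', ofL_f] at this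
      exact hs this
    · rw [f_f G f hil hlm t] at h1
      exact ht (hQl.over.symm ▸ h1 : t ∈ q)
  obtain ⟨Q, hQp, hQle, hQd⟩ := Ideal.exists_le_prime_disjoint (q.map (ofL G f i)) Sm hd
  have hQP : Q ≤ P := fun z hz => by
    by_contra hzP
    exact Set.disjoint_left.mp hQd hz ((le_sup_left : P.primeCompl ≤ Sm) hzP)
  have hPQ : P ≤ Q := hP.2 ⟨hQp, bot_le⟩ hQP
  intro a ha
  by_contra haq
  exact Set.disjoint_left.mp hQd (hPQ ha) ((le_sup_right : q.primeCompl.map (ofL G f i).toMonoidHom ≤ Sm) ⟨a, haq, rfl⟩)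


/-- Let (R_i) be a directed system of commutative rings whose transition maps are faithfully flat, with
colimit R. Then, counting in the extended natural numbers, the minimal primes of R are exactly as
numerous as the supremum over i of the count of minimal primes of R_i. -/
theorem result {ι : Type u} [Preorder ι] [IsDirected ι (· ≤ ·)] [Nonempty ι] (G : ι → Type u) [∀ i, CommRing (G i)]
    (f : ∀ i j, i ≤ j → G i →+* G j) [DirectedSystem G fun i j h => f i j h]
    (hf : ∀ i j (h : i ≤ j), letI := (f i j h).toAlgebra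
      Module.FaithfullyFlat (G i) (G j)) :
    (minimalPrimes (Ring.DirectLimit G fun i j h => ⇑(f i j h))).encard = ⨆ i, (minimalPrimes (G i)).encard := by
  classical
  have hinj : ∀ i, Function.Injective (Ring.DirectLimit.of G (fun i j h => ⇑(f i j h)) i) := by
    intro i
    rw [injective_iff_map_eq_zero]
    intro x hx
    obtain ⟨j, hij, h0⟩ := Ring.DirectLimit.of.zero_exact hx
    letI := (f i j hij).toAlgebra
    have := hf i j hij
    exact FaithfulSMul.algebraMap_injective (G i) (G j) (h0.trans (map_zero _).symm)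
  let ψ : ∀ i, minimalPrimes (Ring.DirectLimit G fun i j h => ⇑(f i j h)) → minimalPrimes (G i) := fun i P =>
    ⟨_, comap_mem_minimalPrimes G f hf i P.2⟩
  have hψ : ∀ i, Function.Surjective (ψ i) := fun i p => by
    obtain ⟨P, hP, hPe⟩ := Ideal.exists_minimalPrimes_comap_eq (I := ⊥) (Ring.DirectLimit.of G (fun i j h => ⇑(f i j h)) i) p.1
      (by rw [Ideal.comap_bot_of_injective _ (hinj i)]; exact p.2)
    exact ⟨⟨P, hP⟩, Subtype.ext hPe⟩
  apply le_antisymm
  · refine ENat.forall_natCast_le_iff_le.mp fun n hn => ?_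
    obtain ⟨F, hF, hFc⟩ := Set.exists_subset_encard_eq hn
    have hFfin : F.Finite := Set.finite_of_encard_eq_coe hFc
    have hsep : ∀ p : F × F, ∃ i, ∀ j, i ≤ j → p.1.1.comap (Ring.DirectLimit.of G (fun i j h => ⇑(f i j h)) j) =
        p.2.1.comap (Ring.DirectLimit.of G (fun i j h => ⇑(f i j h)) j) → p.1 = p.2 := by
      rintro ⟨P, Q⟩
      by_cases h : P = Q
      · exact ⟨Classical.arbitrary ι, fun _ _ _ => h⟩
      obtain ⟨z, hz⟩ : ∃ z, ¬ (z ∈ P.1 ↔ z ∈ Q.1) := by
        by_contra hc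
        exact h (Subtype.ext (Ideal.ext fun z => not_not.mp (not_exists.mp hc z)))
      obtain ⟨i, a, rfl⟩ := Ring.DirectLimit.exists_of z
      refine ⟨i, fun j hj e => absurd ?_ hz⟩
      have := (SetLike.ext_iff.mp e) (f i j hj a)
      simpa [Ideal.mem_comap] using this
    choose i hi using hsep
    have : Finite F := hFfin.to_subtype
    have := Fintype.ofFinite F
    obtain ⟨j, hj⟩ := Finite.exists_le i
    refine le_trans ?_ (le_iSup _ j)
    rw [← hFc]
    refine Set.encard_le_encard_of_injOn (f := fun P => P.comap (Ring.DirectLimit.of G (fun i j h => ⇑(f i j h)) j))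
      (fun P hP => comap_mem_minimalPrimes G f hf j (hF hP)) fun P hP Q hQ e => ?_
    exact congrArg Subtype.val (hi ⟨⟨P, hP⟩, ⟨Q, hQ⟩⟩ j (hj _) e)
  · refine iSup_le fun i => ?_
    simp only [Set.encard]
    exact ENat.card_le_card_of_injective (Function.injective_surjInv (hψ i))

end Groth.Agent.S1409
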