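import Groth.Statements.S14093
import Groth.Agent.ArSing32.Fixed
import Mathlib.RingTheory.Flat.EquationalCriterion

set_option autoImplicit false
universe u
open ArSing

namespace Groth.Agent.S14093

/-- For an algebraically closed field k of characteristic prime to 2 and to r+1 and the involution σ of
A_r = k[[x,y]]/(y^2 - x^(r+1)) with σ(x) = x, σ(y) = -y: the invariant subalgebra is k[[x]] (the
image of t ↦ x from k[[t]]), the inclusion k[[x]] → A_r is faithfully flat (flat, and the maximal
ideal of k[[t]] does not generate the unit ideal of A_r), and the fixed locus (the closed subscheme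
cut out by all σ(a) - a) is a Cartier divisor of length r + 1, i.e. its ideal is generated by one
nonzerodivisor and the quotient has length r + 1. -/
theorem result (k : Type u) [Field k] [IsAlgClosed k] (r : ℕ)
    (h2 : (2 : k) ≠ 0) (hr : ((r + 1 : ℕ) : k) ≠ 0)
    (σ : ArSing.ring k r ≃ₐ[k] ArSing.ring k r) (hx : σ (ArSing.x k r) = ArSing.x k r)
    (hy : σ (ArSing.y k r) = -ArSing.y k r) :
    (∀ a : ArSing.ring k r, σ a = a ↔ a ∈ (ArSing.xMap k r).range) ∧
    ((ArSing.xMap k r).toRingHom.Flat ∧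
      Ideal.map (ArSing.xMap k r) (IsLocalRing.maximalIdeal (PowerSeries k)) ≠ ⊤) ∧
    (∃ g : ArSing.ring k r, g ∈ nonZeroDivisors (ArSing.ring k r) ∧
      Ideal.span (Set.range fun a : ArSing.ring k r => σ a - a) = Ideal.span {g}) ∧
    Module.length (ArSing.ring k r)
      (ArSing.ring k r ⧸ Ideal.span (Set.range fun a : ArSing.ring k r => σ a - a)) = r + 1 := by
  have hσ : ∀ a b, σ (ArSing32.pair a b) = ArSing32.pair a (-b) := fun a b => by
    have h := ArSing32.map_xMap_id (ψ := (σ : ArSing.ring k r →ₐ[k] ArSing.ring k r)) hx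
    simp only [AlgEquiv.coe_toAlgHom] at h
    simp only [ArSing32.pair, map_add, map_mul, h, hy, map_neg]
    ring
  have hspan : Ideal.span (Set.range fun a : ArSing.ring k r => σ a - a) =
      Ideal.span {ArSing.y k r} := by
    refine le_antisymm (Ideal.span_le.2 ?_) (Ideal.span_le.2 ?_)
    · rintro _ ⟨z, rfl⟩
      obtain ⟨a, b, rfl⟩ := ArSing32.exists_pair z
      show σ (ArSing32.pair a b) - _ ∈ _
      rw [SetLike.mem_coe, hσ, ArSing32.pair_sub, ArSing32.mem_span_y, ArSing32.cA_pair, sub_self]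
      exact dvd_zero _
    · rintro _ rfl
      have h := Ideal.subset_span (Set.mem_range_self (f := fun a => σ a - a) (ArSing.y k r))
      have hu : IsUnit (algebraMap k (ArSing.ring k r) (-2)) :=
        (isUnit_iff_ne_zero.2 (neg_ne_zero.2 h2)).map _
      rw [SetLike.mem_coe, ← Ideal.unit_mul_mem_iff_mem _ hu]
      simp only [hy] at h
      rw [show algebraMap k (ArSing.ring k r) (-2) * ArSing.y k r =
          -ArSing.y k r - ArSing.y k r by simp only [map_neg, map_ofNat]; ring]
      exact h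
  refine ⟨fun a => ?_, ⟨?_, ?_⟩, ⟨_, ArSing32.y_mem_nonZeroDivisors, hspan⟩, ?_⟩
  · obtain ⟨u, v, rfl⟩ := ArSing32.exists_pair a
    rw [hσ, ArSing32.pair_inj]
    constructor
    · rintro ⟨-, h⟩
      rw [neg_eq_iff_add_eq_zero, ← two_smul k, smul_eq_zero] at h
      exact ⟨u, by rw [h.resolve_left h2, ArSing32.pair_eq_xMap]; rfl⟩
    · rintro ⟨c, hc⟩
      change ArSing.xMap k r c = _ at hc
      rw [← ArSing32.pair_eq_xMap, ArSing32.pair_inj] at hc
      rw [← hc.2, neg_zero]
      exact ⟨rfl, rfl⟩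
  · letI := (ArSing.xMap k r).toRingHom.toAlgebra
    let L : (PowerSeries k × PowerSeries k) →ₗ[PowerSeries k] ArSing.ring k r :=
      (Algebra.linearMap (PowerSeries k) (ArSing.ring k r)).coprod
        (LinearMap.mulRight (PowerSeries k) (ArSing.y k r) ∘ₗ
          Algebra.linearMap (PowerSeries k) (ArSing.ring k r))
    exact Module.Flat.of_linearEquiv (LinearEquiv.ofBijective L
      ⟨fun p q h => Prod.ext_iff.2 (ArSing32.pair_inj.1 h), fun z => by
        obtain ⟨a, b, h⟩ := ArSing32.exists_pair z; exact ⟨(a, b), h⟩⟩).symm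
  · refine ne_top_of_le_ne_top (IsLocalRing.maximalIdeal.isMaximal _).ne_top
      (Ideal.map_le_iff_le_comap.2 fun c hc => ?_)
    rw [Ideal.mem_comap, ArSing32.mem_maximalIdeal, ArSing32.cst_xMap]
    rwa [PowerSeries.maximalIdeal_eq_span_X, Ideal.mem_span_singleton, PowerSeries.X_dvd_iff] at hc
  · rw [hspan, ArSing32.length_quotient_eq (V := Fin (r + 1) → k) _
      (LinearMap.pi fun i : Fin (r + 1) => PowerSeries.coeff (i : ℕ) ∘ₗ ArSing32.cA) ?_ ?_]
    · simp
    · intro v
      refine ⟨ArSing32.pair (PowerSeries.mk fun n => if h : n < r + 1 then v ⟨n, h⟩ else 0) 0, ?_⟩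
      funext i
      simp [Nat.not_lt.2 (Nat.le_of_lt_succ i.isLt)]
    · intro z
      rw [ArSing32.mem_span_y, PowerSeries.X_pow_dvd_iff, funext_iff]
      exact ⟨fun h i => h i i.isLt, fun h n hn => h ⟨n, hn⟩⟩

end Groth.Agent.S14093
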