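import Groth.Statements.S14094
import Groth.Agent.ArSing32.Fixed
import Mathlib.RingTheory.Flat.EquationalCriterion

set_option autoImplicit false
universe u
open ArSing

namespace Groth.Agent.S14094

/-- K algebraically closed of characteristic prime to 2 and to r+1, r = 2m - 1 with m ≥ 2, σ the
involution x ↦ -x, y ↦ y of A_r = k[[x,y]]/(y^2 - x^(r+1)), and φ : A_(m-1) → A_r the k-algebra map
x ↦ x^2, y ↦ y. Then the invariant subalgebra of σ is the image of φ (so A_r^σ ≅ A_(m-1)), φ is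
faithfully flat (flat, and the maximal ideal of A_(m-1) does not generate the unit ideal), and the
fixed locus of σ is a Cartier divisor of length 2: its ideal, generated by the elements σ(a) - a, is
generated by one nonzerodivisor and has quotient of length 2. -/
theorem result (k : Type u) [Field k] [IsAlgClosed k] (m r : ℕ)
    (hm : 2 ≤ m) (hr : r = 2 * m - 1) (h2 : (2 : k) ≠ 0) (hr1 : ((r + 1 : ℕ) : k) ≠ 0)
    (σ : ArSing.ring k r ≃ₐ[k] ArSing.ring k r) (hx : σ (ArSing.x k r) = -ArSing.x k r)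
    (hy : σ (ArSing.y k r) = ArSing.y k r)
    (φ : ArSing.ring k (m - 1) →ₐ[k] ArSing.ring k r) (hφx : φ (ArSing.x k (m - 1)) = ArSing.x k r ^ 2)
    (hφy : φ (ArSing.y k (m - 1)) = ArSing.y k r) :
    (∀ a : ArSing.ring k r, σ a = a ↔ a ∈ φ.range) ∧
    (φ.toRingHom.Flat ∧ ∀ I : Ideal (ArSing.ring k (m - 1)), I.IsMaximal → Ideal.map φ I ≠ ⊤) ∧
    (∃ g : ArSing.ring k r, g ∈ nonZeroDivisors (ArSing.ring k r) ∧ Ideal.span (Set.range fun a : ArSing.ring k r => σ a - a) = Ideal.span {g}) ∧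
    Module.length (ArSing.ring k r) (ArSing.ring k r ⧸ Ideal.span (Set.range fun a : ArSing.ring k r => σ a - a)) = 2 := by
  obtain ⟨l, rfl⟩ : ∃ l, m = l + 2 := ⟨m - 2, by omega⟩
  have hσ : ∀ a b, σ (ArSing32.pair a b) = ArSing32.pair (PowerSeries.rescale (-1 : k) a)
      (PowerSeries.rescale (-1 : k) b) := fun a b => by
    have h := ArSing32.map_xMap_neg (ψ := (σ : ArSing.ring k r →ₐ[k] ArSing.ring k r)) hx
    simp only [AlgEquiv.coe_toAlgHom] at h
    simp only [ArSing32.pair, map_add, map_mul, h, hy]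
  have hφ : ∀ a b, φ (ArSing32.pair a b) =
      ArSing32.pair (ArSing32.sqS a) (ArSing32.sqS b) := fun a b => by
    simp only [ArSing32.pair, map_add, map_mul, ArSing32.map_xMap_sq hφx, hφy, ArSing32.sqS]
  have hspan : Ideal.span (Set.range fun a : ArSing.ring k r => σ a - a) =
      Ideal.span {ArSing.x k r} := by
    refine le_antisymm (Ideal.span_le.2 ?_) (Ideal.span_le.2 ?_)
    · rintro _ ⟨z, rfl⟩
      obtain ⟨a, b, rfl⟩ := ArSing32.exists_pair z
      show σ (ArSing32.pair a b) - _ ∈ _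
      rw [SetLike.mem_coe, hσ, ArSing32.pair_sub, ArSing32.mem_span_x, ArSing32.cA_pair,
        ArSing32.cB_pair, map_sub, map_sub, ArSing32.constantCoeff_rescale,
        ArSing32.constantCoeff_rescale, sub_self, sub_self]
      exact ⟨rfl, rfl⟩
    · rintro _ rfl
      have h := Ideal.subset_span (Set.mem_range_self (f := fun a => σ a - a) (ArSing.x k r))
      have hu : IsUnit (algebraMap k (ArSing.ring k r) (-2)) :=
        (isUnit_iff_ne_zero.2 (neg_ne_zero.2 h2)).map _
      rw [SetLike.mem_coe, ← Ideal.unit_mul_mem_iff_mem _ hu]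
      simp only [hx] at h
      rw [show algebraMap k (ArSing.ring k r) (-2) * ArSing.x k r =
          -ArSing.x k r - ArSing.x k r by simp only [map_neg, map_ofNat]; ring]
      exact h
  refine ⟨fun a => ?_, ⟨?_, fun I hI => ?_⟩, ⟨_, ArSing32.x_mem_nonZeroDivisors, hspan⟩, ?_⟩
  · obtain ⟨u, v, rfl⟩ := ArSing32.exists_pair a
    rw [hσ, ArSing32.pair_inj, ArSing32.even_iff h2, ArSing32.even_iff h2]
    constructor
    · rintro ⟨⟨e, he⟩, e', he'⟩
      exact ⟨ArSing32.pair e e', (hφ e e').trans (by rw [he, he'])⟩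
    · rintro ⟨c, hc⟩
      obtain ⟨c, d, rfl⟩ := ArSing32.exists_pair c
      obtain ⟨h3, h4⟩ := ArSing32.pair_inj.1 ((hφ c d).symm.trans hc)
      exact ⟨⟨c, h3⟩, d, h4⟩
  · letI := φ.toRingHom.toAlgebra
    let L : (ArSing.ring k (l + 2 - 1) × ArSing.ring k (l + 2 - 1)) →ₗ[ArSing.ring k (l + 2 - 1)]
        ArSing.ring k r :=
      (Algebra.linearMap (ArSing.ring k (l + 2 - 1)) (ArSing.ring k r)).coprod
        (LinearMap.mulRight (ArSing.ring k (l + 2 - 1)) (ArSing.x k r) ∘ₗ
          Algebra.linearMap (ArSing.ring k (l + 2 - 1)) (ArSing.ring k r))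
    have hL : ∀ a b c d : PowerSeries k, L (ArSing32.pair a b, ArSing32.pair c d) =
        ArSing32.pair (ArSing32.sqS a + PowerSeries.X * ArSing32.sqS c)
          (ArSing32.sqS b + PowerSeries.X * ArSing32.sqS d) := fun a b c d => by
      show φ (ArSing32.pair a b) + φ (ArSing32.pair c d) * ArSing.x k r = _
      rw [hφ, hφ, mul_comm, ArSing32.x_mul, ArSing32.cA_pair, ArSing32.cB_pair, ArSing32.pair_add]
    refine Module.Flat.of_linearEquiv (LinearEquiv.ofBijective L ⟨?_, fun z => ?_⟩).symm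
    · rintro ⟨p, q⟩ ⟨p', q'⟩ h
      obtain ⟨a, b, rfl⟩ := ArSing32.exists_pair p
      obtain ⟨c, d, rfl⟩ := ArSing32.exists_pair q
      obtain ⟨a', b', rfl⟩ := ArSing32.exists_pair p'
      obtain ⟨c', d', rfl⟩ := ArSing32.exists_pair q'
      rw [hL, hL, ArSing32.pair_inj] at h
      obtain ⟨rfl, rfl⟩ := ArSing32.evenOdd_inj h.1
      obtain ⟨rfl, rfl⟩ := ArSing32.evenOdd_inj h.2
      rfl
    · obtain ⟨a, b, rfl⟩ := ArSing32.exists_pair z
      exact ⟨(ArSing32.pair (ArSing32.evenPart a) (ArSing32.evenPart b),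
        ArSing32.pair (ArSing32.oddPart a) (ArSing32.oddPart b)),
        by rw [hL, ArSing32.sqS_add_X_mul_sqS, ArSing32.sqS_add_X_mul_sqS]⟩
  · rw [IsLocalRing.eq_maximalIdeal hI, ArSing32.maximalIdeal_eq, Ideal.map_span]
    refine ne_top_of_le_ne_top (IsLocalRing.maximalIdeal.isMaximal _).ne_top (Ideal.span_le.2 ?_)
    rintro _ ⟨w, hw | hw, rfl⟩
    · rw [hw, hφx, SetLike.mem_coe, ArSing32.maximalIdeal_eq]
      exact Ideal.pow_mem_of_mem _ (Ideal.subset_span (by simp)) 2 two_pos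
    · rw [Set.mem_singleton_iff.1 hw, hφy, SetLike.mem_coe, ArSing32.maximalIdeal_eq]
      exact Ideal.subset_span (by simp)
  · rw [hspan, ArSing32.length_quotient_eq (V := k × k) _
      (((PowerSeries.coeff 0).comp ArSing32.cA).prod ((PowerSeries.coeff 0).comp ArSing32.cB)) ?_ ?_]
    · simp
    · rintro ⟨a, b⟩
      exact ⟨ArSing32.pair (PowerSeries.C a) (PowerSeries.C b), by simp⟩
    · intro z
      rw [ArSing32.mem_span_x]
      simp

end Groth.Agent.S14094
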