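import Groth.Statements.S14095
import Groth.Agent.ArSing32.Fixed
import Mathlib.RingTheory.Flat.EquationalCriterion

set_option autoImplicit false
universe u
open ArSing

namespace Groth.Agent.S14095

/-- K algebraically closed of characteristic prime to 2 and to r+1, r = 2m - 1 with m ≥ 1, σ the
involution x ↦ -x, y ↦ -y of A_r = k[[x,y]]/(y^2 - x^(r+1)), and φ : A_m → A_r the k-algebra map x ↦
x^2, y ↦ xy. Then the invariant subalgebra of σ is the image of φ and φ is injective (so A_r^σ ≅
A_m), φ is not flat, and the fixed locus of σ is the reduced closed point and is not a Cartier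
divisor: the ideal generated by the elements σ(a) - a has quotient of length 1 and is not generated
by one nonzerodivisor. -/
theorem result (k : Type u) [Field k] [IsAlgClosed k] (m r : ℕ)
    (hm : 1 ≤ m) (hr : r = 2 * m - 1) (h2 : (2 : k) ≠ 0) (hr1 : ((r + 1 : ℕ) : k) ≠ 0)
    (σ : ArSing.ring k r ≃ₐ[k] ArSing.ring k r) (hx : σ (ArSing.x k r) = -ArSing.x k r)
    (hy : σ (ArSing.y k r) = -ArSing.y k r)
    (φ : ArSing.ring k m →ₐ[k] ArSing.ring k r) (hφx : φ (ArSing.x k m) = ArSing.x k r ^ 2)
    (hφy : φ (ArSing.y k m) = ArSing.x k r * ArSing.y k r) :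
    (∀ a : ArSing.ring k r, σ a = a ↔ a ∈ φ.range) ∧ Function.Injective φ ∧
    ¬ φ.toRingHom.Flat ∧
    Module.length (ArSing.ring k r) (ArSing.ring k r ⧸ Ideal.span (Set.range fun a : ArSing.ring k r => σ a - a)) = 1 ∧
    ¬ (∃ g : ArSing.ring k r, g ∈ nonZeroDivisors (ArSing.ring k r) ∧ Ideal.span (Set.range fun a : ArSing.ring k r => σ a - a) = Ideal.span {g}) := by
  obtain ⟨l, rfl⟩ : ∃ l, m = l + 1 := ⟨m - 1, by omega⟩
  have hr' : r = 2 * l + 1 := by omega
  have hσ : ∀ a b, σ (ArSing32.pair a b) = ArSing32.pair (PowerSeries.rescale (-1 : k) a)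
      (-PowerSeries.rescale (-1 : k) b) := fun a b => by
    have h := ArSing32.map_xMap_neg (ψ := (σ : ArSing.ring k r →ₐ[k] ArSing.ring k r)) hx
    simp only [AlgEquiv.coe_toAlgHom] at h
    simp only [ArSing32.pair, map_add, map_mul, h, hy, map_neg]
    ring
  have hφ : ∀ a b, φ (ArSing32.pair a b) =
      ArSing32.pair (ArSing32.sqS a) (PowerSeries.X * ArSing32.sqS b) := fun a b => by
    simp only [ArSing32.pair, map_add, map_mul, ArSing32.map_xMap_sq hφx, hφy, ArSing32.xMap_X,
      ArSing32.sqS]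
    ring
  have hspan : Ideal.span (Set.range fun a : ArSing.ring k r => σ a - a) =
      IsLocalRing.maximalIdeal (ArSing.ring k r) := by
    refine le_antisymm (Ideal.span_le.2 ?_) ?_
    · rintro _ ⟨z, rfl⟩
      obtain ⟨a, b, rfl⟩ := ArSing32.exists_pair z
      show σ (ArSing32.pair a b) - _ ∈ _
      rw [SetLike.mem_coe, hσ, ArSing32.pair_sub, ArSing32.mem_maximalIdeal, ArSing32.cst,
        ArSing32.cA_pair, map_sub, ArSing32.constantCoeff_rescale, sub_self]
    · rw [ArSing32.maximalIdeal_eq, Ideal.span_le]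
      have hu : IsUnit (algebraMap k (ArSing.ring k r) (-2)) :=
        (isUnit_iff_ne_zero.2 (neg_ne_zero.2 h2)).map _
      rintro _ (rfl | rfl)
      all_goals rw [SetLike.mem_coe, ← Ideal.unit_mul_mem_iff_mem _ hu]
      · have h := Ideal.subset_span (Set.mem_range_self (f := fun a => σ a - a) (ArSing.x k r))
        simp only [hx] at h
        rw [show algebraMap k (ArSing.ring k r) (-2) * ArSing.x k r =
            -ArSing.x k r - ArSing.x k r by simp only [map_neg, map_ofNat]; ring]
        exact h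
      · have h := Ideal.subset_span (Set.mem_range_self (f := fun a => σ a - a) (ArSing.y k r))
        simp only [hy] at h
        rw [show algebraMap k (ArSing.ring k r) (-2) * ArSing.y k r =
            -ArSing.y k r - ArSing.y k r by simp only [map_neg, map_ofNat]; ring]
        exact h
  refine ⟨fun a => ?_, ?_, ?_, ?_, ?_⟩
  · obtain ⟨u, v, rfl⟩ := ArSing32.exists_pair a
    rw [hσ, ArSing32.pair_inj, ArSing32.even_iff h2, neg_eq_iff_eq_neg, ArSing32.odd_iff h2]
    constructor
    · rintro ⟨⟨e, he⟩, o, ho⟩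
      exact ⟨ArSing32.pair e o, (hφ e o).trans (by rw [he, ho])⟩
    · rintro ⟨c, hc⟩
      obtain ⟨c, d, rfl⟩ := ArSing32.exists_pair c
      obtain ⟨h3, h4⟩ := ArSing32.pair_inj.1 ((hφ c d).symm.trans hc)
      exact ⟨⟨c, h3⟩, d, h4⟩
  · intro p q h
    obtain ⟨a, b, rfl⟩ := ArSing32.exists_pair p
    obtain ⟨c, d, rfl⟩ := ArSing32.exists_pair q
    rw [hφ, hφ, ArSing32.pair_inj] at h
    rw [ArSing32.sqS_injective h.1, ArSing32.X_mul_sqS_injective h.2]
  · intro hflat
    letI := φ.toRingHom.toAlgebra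
    haveI : Module.Flat (ArSing.ring k (l + 1)) (ArSing.ring k r) := hflat
    have h := Module.Flat.isTrivialRelation_of_sum_smul_eq_zero (R := ArSing.ring k (l + 1))
      (f := ![ArSing.y k (l + 1), -ArSing.x k (l + 1)]) (x := ![ArSing.x k r, ArSing.y k r]) (by
        simp only [Fin.sum_univ_two, Matrix.cons_val_zero, Matrix.cons_val_one, Algebra.smul_def]
        show φ _ * _ + φ _ * _ = 0
        rw [hφy, map_neg, hφx]
        ring)
    obtain ⟨n, a, w, hw, ha⟩ := h
    have hmem : ArSing.x k r ∈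
        Ideal.map φ (IsLocalRing.maximalIdeal (ArSing.ring k (l + 1))) := by
      have h0 : ArSing.x k r = ∑ j, a 0 j • w j := by simpa using hw 0
      rw [h0]
      refine Ideal.sum_mem _ fun j _ => ?_
      rw [Algebra.smul_def]
      refine Ideal.mul_mem_right _ _ (Ideal.mem_map_of_mem φ ?_)
      have e := ha j
      simp only [Fin.sum_univ_two, Matrix.cons_val_zero, Matrix.cons_val_one] at e
      replace e : ArSing.y k (l + 1) * a 0 j - ArSing.x k (l + 1) * a 1 j = 0 := by
        linear_combination e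
      rw [ArSing32.y_mul, ArSing32.x_mul, ArSing32.pair_sub, ArSing32.pair_eq_zero] at e
      rw [ArSing32.mem_maximalIdeal, ArSing32.cst, sub_eq_zero.1 e.2, map_mul,
        PowerSeries.constantCoeff_X, zero_mul]
    let J : Ideal (ArSing.ring k r) :=
      { carrier := {z | PowerSeries.coeff 0 (ArSing32.cA z) = 0 ∧
          PowerSeries.coeff 1 (ArSing32.cA z) = 0 ∧ PowerSeries.coeff 0 (ArSing32.cB z) = 0}
        add_mem' := fun h1 h2 => by
          simp only [Set.mem_setOf_eq, map_add, h1.1, h1.2.1, h1.2.2, h2.1, h2.2.1, h2.2.2,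
            add_zero, and_self]
        zero_mem' := by simp
        smul_mem' := fun c z ⟨h1, h2, h3⟩ => by
          obtain ⟨a, b, rfl⟩ := ArSing32.exists_pair c
          obtain ⟨a', b', rfl⟩ := ArSing32.exists_pair z
          simp only [ArSing32.cA_pair, ArSing32.cB_pair] at h1 h2 h3
          simp only [PowerSeries.coeff_zero_eq_constantCoeff] at h1 h3
          rw [smul_eq_mul, ArSing32.pair_mul]
          simp only [Set.mem_setOf_eq, ArSing32.cA_pair, ArSing32.cB_pair, map_add,
            PowerSeries.coeff_zero_eq_constantCoeff, PowerSeries.coeff_X_pow_mul',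
            PowerSeries.coeff_mul_X_pow', map_mul, PowerSeries.coeff_one_mul, map_pow,
            PowerSeries.constantCoeff_X]
          refine ⟨by simp [h1], ?_, by simp [h1, h3]⟩
          rw [hr']
          simp [h1, h2] }
    have hJ : Ideal.map φ (IsLocalRing.maximalIdeal (ArSing.ring k (l + 1))) ≤ J := by
      rw [ArSing32.maximalIdeal_eq, Ideal.map_span, Ideal.span_le]
      rintro _ ⟨w, hw | hw, rfl⟩
      · rw [hw, ← ArSing32.pair_X_zero, hφ]
        show _ ∧ _ ∧ _
        simp only [ArSing32.cA_pair, ArSing32.cB_pair]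
        exact ⟨(ArSing32.coeff_sqS_even PowerSeries.X 0).trans (by simp),
          ArSing32.coeff_sqS_odd PowerSeries.X 0, by simp⟩
      · rw [Set.mem_singleton_iff.1 hw, ← ArSing32.pair_zero_one, hφ]
        show _ ∧ _ ∧ _
        simp only [ArSing32.cA_pair, ArSing32.cB_pair]
        exact ⟨(ArSing32.coeff_sqS_even 0 0).trans (map_zero _), ArSing32.coeff_sqS_odd 0 0,
          by simp⟩
    have hx1 := (hJ hmem).2.1
    rw [← ArSing32.pair_X_zero, ArSing32.cA_pair, PowerSeries.coeff_one_X] at hx1
    exact one_ne_zero hx1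
  · rw [hspan, ArSing32.length_quotient_eq (V := k) _ ((PowerSeries.coeff 0).comp ArSing32.cA) ?_ ?_]
    · simp
    · exact fun t => ⟨ArSing32.pair (PowerSeries.C t) 0, by simp⟩
    · intro z
      rw [ArSing32.mem_maximalIdeal]
      simp [ArSing32.cst]
  · rintro ⟨g, -, hg⟩
    rw [hspan] at hg
    have hgm : g ∈ IsLocalRing.maximalIdeal (ArSing.ring k r) := hg ▸ Ideal.mem_span_singleton_self g
    have hxm : ArSing.x k r ∈ Ideal.span {g} := hg ▸ ArSing32.maximalIdeal_eq.ge
      (Ideal.subset_span (by simp))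
    have hym : ArSing.y k r ∈ Ideal.span {g} := hg ▸ ArSing32.maximalIdeal_eq.ge
      (Ideal.subset_span (by simp))
    obtain ⟨wx, hwx⟩ := Ideal.mem_span_singleton.1 hxm
    obtain ⟨wy, hwy⟩ := Ideal.mem_span_singleton.1 hym
    obtain ⟨a, b, rfl⟩ := ArSing32.exists_pair g
    obtain ⟨c, d, rfl⟩ := ArSing32.exists_pair wx
    obtain ⟨c', d', rfl⟩ := ArSing32.exists_pair wy
    rw [ArSing32.mem_maximalIdeal, ArSing32.cst, ArSing32.cA_pair] at hgm
    rw [← ArSing32.pair_X_zero, ArSing32.pair_mul, ArSing32.pair_inj] at hwx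
    rw [← ArSing32.pair_zero_one, ArSing32.pair_mul, ArSing32.pair_inj] at hwy
    have e1 := congrArg (PowerSeries.coeff 1) hwx.1
    have e2 := congrArg PowerSeries.constantCoeff hwx.2
    have e3 := congrArg PowerSeries.constantCoeff hwy.2
    rw [hr'] at e1
    simp [PowerSeries.coeff_one_mul, PowerSeries.coeff_mul_X_pow', hgm] at e1
    simp [hgm] at e2 e3
    rcases e2 with h | h
    · rw [h, zero_mul] at e3; exact one_ne_zero e3
    · rw [h, mul_zero] at e1; exact one_ne_zero e1

end Groth.Agent.S14095
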