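import Groth.Statements.S14096
import Groth.Agent.ArSing32.Node
import Mathlib.RingTheory.Flat.EquationalCriterion
import Mathlib.RingTheory.Ideal.MinimalPrime.Basic

set_option autoImplicit false
universe u
open ArSing

namespace Groth.Agent.S14096

/-- K algebraically closed of characteristic ≠ 2, σ the involution of the node algebra A_1 =
k[[x,y]]/(y^2 - x^2) exchanging x and y, and φ : A_1 → A_1 the k-algebra map with φ(x + y) = x + y
and φ(y - x) = (y - x)^2 (in the branch coordinates u = x + y, v = y - x with uv = 0: u ↦ u, v ↦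
v^2). Then the invariant subalgebra of σ is the image of φ and φ is injective (so A_1^σ ≅ A_1), and
the fixed locus of σ is the branch v = 0: the ideal generated by the elements σ(a) - a is the ideal
(y - x), a minimal prime ideal generated by a zero-divisor (so not a Cartier divisor). Moreover φ is
not flat. (The published statement asserts that this extension is faithfully flat; it is not: as a
module over the invariant subalgebra B = k[[u,w]]/(uw), w = v^2, A_1 is B ⊕ (B/uB)·v, and B/uB is
not flat over B — equivalently the fibre length jumps from 1 on the branch w = 0 to 2 at the closed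
point.) -/
theorem result (k : Type u) [Field k] [IsAlgClosed k]
    (h2 : (2 : k) ≠ 0)
    (σ : ArSing.ring k 1 ≃ₐ[k] ArSing.ring k 1) (hx : σ (ArSing.x k 1) = ArSing.y k 1)
    (hy : σ (ArSing.y k 1) = ArSing.x k 1)
    (φ : ArSing.ring k 1 →ₐ[k] ArSing.ring k 1) (hφu : φ (ArSing.x k 1 + ArSing.y k 1) = ArSing.x k 1 + ArSing.y k 1)
    (hφv : φ (ArSing.y k 1 - ArSing.x k 1) = (ArSing.y k 1 - ArSing.x k 1) ^ 2) :
    (∀ a : ArSing.ring k 1, σ a = a ↔ a ∈ φ.range) ∧ Function.Injective φ ∧
    Ideal.span (Set.range fun a : ArSing.ring k 1 => σ a - a) = Ideal.span {ArSing.y k 1 - ArSing.x k 1} ∧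
    (ArSing.y k 1 - ArSing.x k 1) ∉ nonZeroDivisors (ArSing.ring k 1) ∧
    Ideal.span {ArSing.y k 1 - ArSing.x k 1} ∈ minimalPrimes (ArSing.ring k 1) ∧
    ¬ φ.toRingHom.Flat := by
  set u := ArSing.x k 1 + ArSing.y k 1
  set v := ArSing.y k 1 - ArSing.x k 1
  have hu₁ : ArSing32.br₁ u = 2 * PowerSeries.X := by
    simp only [u, map_add, ArSing32.br₁_x, ArSing32.br₁_y]; ring
  have hu₂ : ArSing32.br₂ u = 0 := by
    simp only [u, map_add, ArSing32.br₂_x, ArSing32.br₂_y]; ring
  have hv₁ : ArSing32.br₁ v = 0 := by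
    simp only [v, map_sub, ArSing32.br₁_x, ArSing32.br₁_y]; ring
  have hv₂ : ArSing32.br₂ v = -2 * PowerSeries.X := by
    simp only [v, map_sub, ArSing32.br₂_x, ArSing32.br₂_y]; ring
  have hX0 : PowerSeries.HasSubst ((-2 : k) • PowerSeries.X ^ 2 : PowerSeries k) :=
    PowerSeries.HasSubst.of_constantCoeff_zero' (by simp)
  have hC : PowerSeries.C (2⁻¹ : k) * 2 = 1 := by
    rw [← map_ofNat PowerSeries.C, ← map_mul, inv_mul_cancel₀ h2, map_one]
  have hxuv : φ (ArSing.x k 1) = (2⁻¹ : k) • (u - v ^ 2) := by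
    rw [← hφu, ← hφv, ← map_sub, ← map_smul]
    congr 1
    rw [show u - v = (2 : k) • ArSing.x k 1 by simp only [u, v, two_smul]; ring, smul_smul,
      inv_mul_cancel₀ h2, one_smul]
  have hyuv : φ (ArSing.y k 1) = (2⁻¹ : k) • (u + v ^ 2) := by
    rw [← hφu, ← hφv, ← map_add, ← map_smul]
    congr 1
    rw [show u + v = (2 : k) • ArSing.y k 1 by simp only [u, v, two_smul]; ring, smul_smul,
      inv_mul_cancel₀ h2, one_smul]
  have hφ₁ : ArSing32.br₁.comp φ = (ArSing32.br₁ : _ →ₐ[k] _) := by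
    apply ArSing32.algHom_ext_ps <;>
      simp only [AlgHom.comp_apply, hxuv, hyuv, map_smul, map_add, map_sub, map_pow, hu₁, hv₁,
        ArSing32.br₁_x, ArSing32.br₁_y, PowerSeries.smul_eq_C_mul] <;>
      linear_combination PowerSeries.X * hC
  have hφ₂ : ArSing32.br₂.comp φ = (PowerSeries.substAlgHom hX0).comp ArSing32.br₂ := by
    apply ArSing32.algHom_ext_ps <;>
      simp only [AlgHom.comp_apply, hxuv, hyuv, map_smul, map_add, map_sub, map_pow, hu₂, hv₂,
        ArSing32.br₂_x, ArSing32.br₂_y, map_neg, PowerSeries.substAlgHom_X,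
        PowerSeries.smul_eq_C_mul, map_ofNat]
    · linear_combination (-2 * PowerSeries.X ^ 2) * hC
    · linear_combination (2 * PowerSeries.X ^ 2) * hC
  have hσ₁ : ArSing32.br₁.comp (σ : ArSing.ring k 1 →ₐ[k] ArSing.ring k 1) =
      (ArSing32.br₁ : _ →ₐ[k] _) := by
    apply ArSing32.algHom_ext_ps <;>
      simp only [AlgHom.comp_apply, AlgEquiv.coe_toAlgHom, hx, hy, ArSing32.br₁_x, ArSing32.br₁_y]
  have hσ₂ : ∀ z, ArSing32.br₂ (σ z) = PowerSeries.rescale (-1 : k) (ArSing32.br₂ z) := by
    have h : ArSing32.br₂.comp (σ : ArSing.ring k 1 →ₐ[k] ArSing.ring k 1) =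
        (PowerSeries.rescaleAlgHom (-1 : k)).comp ArSing32.br₂ := by
      have hr : PowerSeries.rescaleAlgHom (-1 : k) (PowerSeries.X : PowerSeries k) = -PowerSeries.X := by
        refine (DFunLike.congr_fun (PowerSeries.coe_rescaleAlgHom (-1 : k)) PowerSeries.X).trans ?_
        rw [PowerSeries.rescale_X, map_neg, map_one, neg_one_mul]
      apply ArSing32.algHom_ext_ps <;>
        simp only [AlgHom.comp_apply, AlgEquiv.coe_toAlgHom, hx, hy, ArSing32.br₂_x, ArSing32.br₂_y,
          map_neg, hr, neg_neg]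
    intro z
    exact (DFunLike.congr_fun h z).trans
      (DFunLike.congr_fun (PowerSeries.coe_rescaleAlgHom (-1 : k)) _)
  have e₁ : ∀ z, ArSing32.br₁ (φ z) = ArSing32.br₁ z := DFunLike.congr_fun hφ₁
  have e₂ : ∀ z, ArSing32.br₂ (φ z) =
      ArSing32.sqS (PowerSeries.rescale (-2 : k) (ArSing32.br₂ z)) := fun z => by
    have h := DFunLike.congr_fun hφ₂ z
    simp only [AlgHom.comp_apply, PowerSeries.coe_substAlgHom] at h
    rw [h, ArSing32.sqS, PowerSeries.rescale_eq_subst,
      PowerSeries.subst_comp_subst_apply (PowerSeries.HasSubst.smul_X' _)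
        (PowerSeries.HasSubst.X_pow two_ne_zero),
      PowerSeries.subst_smul (PowerSeries.HasSubst.X_pow two_ne_zero),
      PowerSeries.subst_X (PowerSeries.HasSubst.X_pow two_ne_zero)]
  have hr2 : ∀ (c d : k), c * d = 1 → ∀ g : PowerSeries k,
      PowerSeries.rescale c (PowerSeries.rescale d g) = g := fun c d hcd g => by
    rw [PowerSeries.rescale_rescale, mul_comm, hcd, PowerSeries.rescale_one]
    rfl
  have hspan : Ideal.span (Set.range fun a : ArSing.ring k 1 => σ a - a) = Ideal.span {v} := by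
    refine le_antisymm (Ideal.span_le.2 ?_) (Ideal.span_le.2 ?_)
    · rintro _ ⟨z, rfl⟩
      show σ z - z ∈ _
      rw [SetLike.mem_coe, ArSing32.mem_span_branch h2, map_sub, sub_eq_zero]
      exact DFunLike.congr_fun hσ₁ z
    · rintro _ rfl
      have h := Ideal.subset_span (Set.mem_range_self (f := fun a => σ a - a) (ArSing.x k 1))
      simp only [hx] at h
      exact h
  have hX2 : (2 * PowerSeries.X : PowerSeries k) ≠ 0 := by
    intro h
    have := congrArg (PowerSeries.coeff 1) h
    rw [← map_ofNat PowerSeries.C, PowerSeries.coeff_C_mul, PowerSeries.coeff_one_X, mul_one,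
      map_zero] at this
    exact h2 this
  have huv : v * u = 0 := ArSing32.br_ext h2 (by simp [hv₁]) (by simp [hu₂])
  refine ⟨fun a => ⟨fun h => ?_, ?_⟩, ?_, hspan, fun h => ?_, ⟨⟨?_, bot_le⟩, ?_⟩, fun hflat => ?_⟩
  · obtain ⟨e, he⟩ := (ArSing32.even_iff h2 (ArSing32.br₂ a)).1 (by rw [← hσ₂, h])
    obtain ⟨w, hw₁, hw₂⟩ := ArSing32.exists_br h2 (f := ArSing32.br₁ a)
      (g := PowerSeries.rescale (-2⁻¹ : k) e) (by
        rw [ArSing32.br_constantCoeff, ← he, ArSing32.constantCoeff_rescale,
          ← PowerSeries.coeff_zero_eq_constantCoeff_apply,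
          ← PowerSeries.coeff_zero_eq_constantCoeff_apply]
        exact ArSing32.coeff_sqS_even e 0)
    refine ⟨w, ArSing32.br_ext h2 ((e₁ w).trans hw₁) ?_⟩
    show ArSing32.br₂ (φ w) = _
    rw [e₂, hw₂, hr2 _ _ (by field_simp), he]
  · rintro ⟨w, rfl⟩
    refine ArSing32.br_ext h2 (DFunLike.congr_fun hσ₁ _) ?_
    show ArSing32.br₂ (σ (φ w)) = ArSing32.br₂ (φ w)
    rw [hσ₂, e₂, (ArSing32.even_iff h2 _).2 ⟨_, rfl⟩]
  · intro z w h
    refine ArSing32.br_ext h2 (by rw [← e₁ z, h, e₁]) ?_
    have h' := ArSing32.sqS_injective (by rw [← e₂ z, h, e₂] :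
      ArSing32.sqS (PowerSeries.rescale (-2 : k) (ArSing32.br₂ z)) =
        ArSing32.sqS (PowerSeries.rescale (-2 : k) (ArSing32.br₂ w)))
    have := congrArg (PowerSeries.rescale (-2⁻¹ : k)) h'
    rwa [hr2 _ _ (by field_simp), hr2 _ _ (by field_simp)] at this
  · have h0 : u = 0 := (mem_nonZeroDivisors_iff_left.1 h) u huv
    rw [h0, map_zero] at hu₁
    exact hX2 hu₁.symm
  · refine Ideal.isPrime_iff.2 ⟨fun h => ?_, fun {a b} h => ?_⟩
    · have h1 := (ArSing32.mem_span_branch h2).1 (h ▸ Submodule.mem_top : (1 : ArSing.ring k 1) ∈ Ideal.span {v})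
      rw [map_one] at h1
      exact one_ne_zero h1
    · rw [ArSing32.mem_span_branch h2, map_mul, mul_eq_zero] at h
      rwa [ArSing32.mem_span_branch h2, ArSing32.mem_span_branch h2]
  · rintro P ⟨hP, -⟩ hle
    rw [Ideal.span_le, Set.singleton_subset_iff]
    refine (hP.mem_or_mem (huv ▸ P.zero_mem)).resolve_right fun hu => ?_
    have := (ArSing32.mem_span_branch h2).1 (hle hu)
    exact hX2 (hu₁.symm.trans this)
  · letI := φ.toRingHom.toAlgebra
    obtain ⟨n, a, w, hw, ha⟩ := @Module.Flat.isTrivialRelation_of_sum_smul_eq_zero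
      (ArSing.ring k 1) (ArSing.ring k 1) _ _ φ.toRingHom.toAlgebra.toModule hflat Unit _
      (fun _ => u) (fun _ => v) (by
        simp only [Finset.univ_unique, Finset.sum_singleton]
        show φ u * v = 0
        rw [hφu, mul_comm, huv])
    have hv2 : v ∈ Ideal.span {v ^ 2} := by
      have key : ∑ j, φ (a () j) * w j ∈ Ideal.span {v ^ 2} := by
        refine Ideal.sum_mem _ fun j _ => Ideal.mul_mem_right _ _ ?_
        have e := ha j
        simp only [Finset.univ_unique, Finset.sum_singleton] at e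
        have : a () j ∈ Ideal.span {v} := by
          rw [ArSing32.mem_span_branch h2]
          have e' := congrArg ArSing32.br₁ e
          rw [map_mul, map_zero, mul_eq_zero, hu₁] at e'
          exact e'.resolve_left hX2
        obtain ⟨c, hc⟩ := Ideal.mem_span_singleton.1 this
        rw [hc, map_mul, hφv]
        exact Ideal.mul_mem_right _ _ (Ideal.mem_span_singleton_self _)
      have hveq : v = ∑ j, φ (a () j) * w j := hw ()
      exact (congrArg (· ∈ Ideal.span {v ^ 2}) hveq).mpr key
    obtain ⟨c, hc⟩ := Ideal.mem_span_singleton.1 hv2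
    have e := congrArg (fun z => PowerSeries.coeff 1 (ArSing32.br₂ z)) hc
    simp only [map_mul, map_pow, hv₂] at e
    rw [mul_pow, ← map_ofNat PowerSeries.C, ← map_neg, ← map_pow, mul_assoc, PowerSeries.coeff_C_mul,
      PowerSeries.coeff_C_mul, PowerSeries.coeff_one_X, PowerSeries.coeff_X_pow_mul',
      if_neg (by omega), mul_zero, mul_one, neg_eq_zero] at e
    exact h2 e

end Groth.Agent.S14096
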