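import Groth.Statements.S14097
import Mathlib.Tactic.Ring
import Mathlib.Tactic.LinearCombination
-- import your own Groth.Agent.* helpers here

set_option autoImplicit false
universe u
open ArSing

namespace Groth.Agent.S14097

variable {A : Type u} [CommRing A] (τ : A) (h : ℕ → A)

/-- The weighted sum of elementary symmetric functions. -/
def E (k : ℕ) : A :=
  ∑ j ∈ Finset.range k, τ ^ (k - 1 - j) * (((Finset.range k).val.map h).esymm j)

lemma esymm_range_succ (k j : ℕ) :
    ((Finset.range (k + 1)).val.map h).esymm (j + 1) =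
      ((Finset.range k).val.map h).esymm (j + 1) + h k * ((Finset.range k).val.map h).esymm j := by
  rw [Finset.range_add_one, Finset.insert_val_of_notMem Finset.notMem_range_self, Multiset.map_cons]
  simp [Multiset.esymm, Multiset.powersetCard_cons, Multiset.sum_map_mul_left]

lemma esymm_eq_zero (s : Finset ℕ) (f : ℕ → A) (j : ℕ) (hj : s.card < j) :
    (s.val.map f).esymm j = 0 := by
  simp [Multiset.esymm, Multiset.powersetCard_eq_empty, hj]

lemma E_succ (k : ℕ) :
    E τ h (k + 1) = (τ + h k) * E τ h k + ((Finset.range k).val.map h).esymm k := by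
  unfold E
  rw [Finset.sum_range_succ', Nat.add_sub_cancel]
  simp only [esymm_range_succ, mul_add, Finset.sum_add_distrib, Nat.sub_zero]
  rcases k with _ | k
  · simp [Multiset.esymm]
  have h1 : ∑ x ∈ Finset.range (k + 1),
      τ ^ (k + 1 - (x + 1)) * (h (k + 1) * ((Finset.range (k + 1)).val.map h).esymm x) =
      h (k + 1) * ∑ x ∈ Finset.range (k + 1),
        τ ^ (k + 1 - 1 - x) * ((Finset.range (k + 1)).val.map h).esymm x := by
    rw [Finset.mul_sum]
    refine Finset.sum_congr rfl fun x _ => ?_
    rw [show k + 1 - (x + 1) = k + 1 - 1 - x by omega]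
    ring
  rw [h1, Finset.sum_range_succ, add_mul, Nat.sub_self, pow_zero, one_mul,
    Nat.add_sub_cancel]
  conv_rhs => arg 1; arg 1; rw [Finset.sum_range_succ']
  have h2 : ∑ x ∈ Finset.range k,
      τ ^ (k + 1 - (x + 1)) * ((Finset.range (k + 1)).val.map h).esymm (x + 1) =
      τ * ∑ x ∈ Finset.range k,
        τ ^ (k - (x + 1)) * ((Finset.range (k + 1)).val.map h).esymm (x + 1) := by
    rw [Finset.mul_sum]
    refine Finset.sum_congr rfl fun x hx => ?_
    have := Finset.mem_range.mp hx
    rw [show k + 1 - (x + 1) = (k - (x + 1)) + 1 by omega, pow_succ]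
    ring
  rw [h2]
  simp [Multiset.esymm, pow_succ]
  ring

/-- In any commutative ring, if h_0, …, h_(k-1) (k ≥ 2) and τ satisfy h_i^2 + τ h_i = 0, then ∏_(i ≤
k-2) (h_i + h_(i+1) + τ) = Σ_(j ≤ k-1) τ^(k-1-j) e_j(h), e_j the elementary symmetric functions.
(The published statement is the resulting formula for the class of the small diagonal in the Chow
ring of (P^1)^k, where the h_i are the hyperplane classes of the factors and satisfy these
relations; only the ring identity is asserted here.) -/
theorem result (A : Type u) [CommRing A] (k : ℕ) (hk : 2 ≤ k) (τ : A)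
    (h : ℕ → A) (hrel : ∀ i, i < k → h i ^ 2 + τ * h i = 0) :
    ∏ i ∈ Finset.range (k - 1), (h i + h (i + 1) + τ) =
      ∑ j ∈ Finset.range k, τ ^ (k - 1 - j) * (((Finset.range k).val.map h).esymm j) := by
  obtain ⟨k, rfl⟩ : ∃ j, k = j + 1 := ⟨k - 1, by omega⟩
  rw [Nat.add_sub_cancel]
  clear hk
  induction k with
  | zero => simp [Multiset.esymm]
  | succ k ih =>
    rw [Finset.prod_range_succ, ih fun i hi => hrel i (by omega)]
    change E τ h (k + 1) * _ = E τ h (k + 1 + 1)
    have e1 := E_succ τ h (k + 1)
    have e2 := E_succ τ h k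
    have e3 : (((Finset.range (k + 1)).val.map h).esymm (k + 1)) =
        h k * (((Finset.range k).val.map h).esymm k) := by
      rw [esymm_range_succ, esymm_eq_zero _ _ _ (by simp), zero_add]
    rw [e1, e3, e2]
    linear_combination E τ h k * hrel k (by omega)

end Groth.Agent.S14097
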