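import Groth.Statements.S14099
import Mathlib
import Groth.Agent.Pinch2.BlowAlg

set_option autoImplicit false
set_option linter.style.haveILetI false
set_option linter.style.longLine false
universe u
open CategoryTheory AlgebraicGeometry
open BlowUp

namespace Groth.Agent.S14099

open AlgebraicGeometry CategoryTheory Limits TopologicalSpace
open Groth.Agent.Pinch2

lemma app_eq_of_flat_target {X S : Scheme.{u}} (I : X.IdealSheafData) (s : X ⟶ S) {U₀ : S.Opens} (hU₀ : IsAffineOpen U₀)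
    (U : X.affineOpens) (e : U.1 ≤ s ⁻¹ᵁ U₀) (hfl : Flat (I.subschemeι ≫ s)) :
    (s.appLE U₀ U.1 e ≫ I.subschemeι.app U.1).hom.Flat := by
  have := flat_appLE (I.subschemeι ≫ s) hU₀ (U.2.preimage I.subschemeι)
    (e := by rw [Scheme.Hom.comp_preimage]; exact I.subschemeι.preimage_mono e)
  rw [Scheme.Hom.app_eq_appLE, Scheme.Hom.appLE_comp_appLE]
  exact this

lemma flat_subschemeι_comp {X S : Scheme.{u}} (I : X.IdealSheafData) (s : X ⟶ S)
    (h : ∀ x : X, ∃ (U₀ : S.Opens) (_ : IsAffineOpen U₀) (U : X.affineOpens) (e : U.1 ≤ s ⁻¹ᵁ U₀), x ∈ U.1 ∧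
      (s.appLE U₀ U.1 e ≫ I.subschemeι.app U.1).hom.Flat) : Flat (I.subschemeι ≫ s) := by
  rw [HasRingHomProperty.iff_exists_appLE (P := @Flat)
    (RingHom.Flat.stableUnderComposition.stableUnderCompositionWithLocalizationAway
      RingHom.Flat.holdsForLocalizationAway).left]
  intro p
  obtain ⟨U₀, hU₀, U, e, hxU, hfl⟩ := h (I.subschemeι p)
  refine ⟨⟨U₀, hU₀⟩, ⟨I.subschemeι ⁻¹ᵁ U.1, U.2.preimage I.subschemeι⟩, hxU,
    by rw [Scheme.Hom.comp_preimage]; exact I.subschemeι.preimage_mono e, ?_⟩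
  rw [Scheme.Hom.app_eq_appLE, Scheme.Hom.appLE_comp_appLE] at hfl
  exact hfl

lemma ker_subschemeι_app' {X : Scheme.{u}} (I : X.IdealSheafData) (U : X.affineOpens) :
    RingHom.ker (I.subschemeι.app U.1).hom = I.ideal U := I.ker_subschemeι_app U

lemma ker_ideal_app {A B : Scheme.{u}} (φ : A ⟶ B) [QuasiCompact φ] (U : B.affineOpens) :
    φ.ker.ideal U = RingHom.ker (φ.app U.1).hom := Scheme.Hom.ker_apply φ U

/-- Powers of an effective Cartier ideal with flat quotient have flat quotients. -/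
lemma flat_pow {X S Z : Scheme.{u}} (i : Z ⟶ X) [IsClosedImmersion i] (hι : BlowUp.IsEffCartierIdeal i.ker)
    (s : X ⟶ S) [Flat (i ≫ s)] (n : ℕ) : Flat ((i.ker ^ n).subschemeι ≫ s) := by
  refine flat_subschemeι_comp _ s fun x => ?_
  obtain ⟨U₀, hU₀, hxU₀, -⟩ := exists_isAffineOpen_mem_and_subset (x := s x) (U := (⊤ : S.Opens)) trivial
  obtain ⟨U, hxU, hle, t, ht, htI⟩ := exists_affine_generator hι (x := x) (O := s ⁻¹ᵁ U₀) hxU₀
  refine ⟨U₀, hU₀, U, hle, hxU, ?_⟩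
  letI : Algebra Γ(S, U₀) Γ(X, U.1) := (s.appLE U₀ U.1 hle).hom.toAlgebra
  have hker1 : RingHom.ker (i.app U.1).hom = Ideal.span {t} := by rw [← ker_ideal_app, htI]
  have h1 : Module.Flat Γ(S, U₀) (Γ(X, U.1) ⧸ Ideal.span {t}) := by
    letI := (s.appLE U₀ U.1 hle ≫ i.app U.1).hom.toAlgebra
    haveI : Module.Flat Γ(S, U₀) Γ(Z, i ⁻¹ᵁ U.1) := by
      have := flat_appLE (i ≫ s) hU₀ (U.2.preimage i)
        (e := by rw [Scheme.Hom.comp_preimage]; exact i.preimage_mono hle)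
      show (s.appLE U₀ U.1 hle ≫ i.app U.1).hom.Flat
      rw [Scheme.Hom.app_eq_appLE, Scheme.Hom.appLE_comp_appLE]
      exact this
    let q : Γ(X, U.1) →ₐ[Γ(S, U₀)] Γ(Z, i ⁻¹ᵁ U.1) := { (i.app U.1).hom with commutes' := fun r => rfl }
    exact Module.Flat.of_linearEquiv (((Ideal.quotientEquivAlgOfEq Γ(S, U₀) hker1.symm)).trans
      (Ideal.quotientKerAlgEquivOfSurjective (f := q) (i.app_surjective U.1 U.2))).toLinearEquiv
  haveI := flat_quotient_pow ht h1 n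
  have hkn : RingHom.ker ((i.ker ^ n).subschemeι.app U.1).hom = Ideal.span {t ^ n} := by
    rw [ker_subschemeι_app', Scheme.IdealSheafData.ideal_pow, Pi.pow_apply, htI, Ideal.span_singleton_pow]
  letI := (s.appLE U₀ U.1 hle ≫ (i.ker ^ n).subschemeι.app U.1).hom.toAlgebra
  let q : Γ(X, U.1) →ₐ[Γ(S, U₀)] Γ((i.ker ^ n).subscheme, (i.ker ^ n).subschemeι ⁻¹ᵁ U.1) :=
    { ((i.ker ^ n).subschemeι.app U.1).hom with commutes' := fun r => rfl }
  exact Module.Flat.of_linearEquiv (((Ideal.quotientEquivAlgOfEq Γ(S, U₀) hkn.symm)).trans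
    (Ideal.quotientKerAlgEquivOfSurjective (f := q) (Scheme.IdealSheafData.subschemeι_app_surjective _ U))).toLinearEquiv.symm

section

variable {S Xt Dt D X : Scheme.{u}} {ι : Dt ⟶ Xt} [IsClosedImmersion ι] {h : Dt ⟶ D}
  {b : Xt ⟶ X} [IsAffineHom b] {j : D ⟶ X} [IsClosedImmersion j] (hP : IsPushout ι h b j)

include hP in
lemma fibAt (V : X.affineOpens) : FibAt ι h b j hP.w V.1 :=
  fibAt_of_isPushout (hasPairs_of_cover hP.w) hP V.2

include hP in
lemma square_app (V : X.Opens) :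
    b.app V ≫ ι.appLE (b ⁻¹ᵁ V) (ι ⁻¹ᵁ (b ⁻¹ᵁ V)) le_rfl =
      j.app V ≫ h.appLE (j ⁻¹ᵁ V) (ι ⁻¹ᵁ (b ⁻¹ᵁ V)) (preimage_le hP.w V).le := by
  simp only [Scheme.Hom.app_eq_appLE, Scheme.Hom.appLE_comp_appLE, hP.w]

lemma ker_appLE_self (V : X.affineOpens) :
    RingHom.ker (ι.appLE (b ⁻¹ᵁ V.1) (ι ⁻¹ᵁ (b ⁻¹ᵁ V.1)) le_rfl).hom = ι.ker.ideal ⟨b ⁻¹ᵁ V.1, V.2.preimage b⟩ := by
  rw [ker_ideal_app, Scheme.Hom.app_eq_appLE]

include hP in
lemma comap_eq : j.ker.comap b = ι.ker := by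
  refine Scheme.IdealSheafData.ext_of_iSup_eq_top (fun V : X.affineOpens => ⟨b ⁻¹ᵁ V.1, V.2.preimage b⟩)
    (eq_top_iff.2 fun x _ => ?_) fun V => ?_
  · obtain ⟨V, hV, hxV, -⟩ := exists_isAffineOpen_mem_and_subset (x := b x) (U := (⊤ : X.Opens)) trivial
    exact Opens.mem_iSup.2 ⟨⟨V, hV⟩, hxV⟩
  · rw [MP99.ideal_comap j.ker b V ⟨b ⁻¹ᵁ V.1, V.2.preimage b⟩ le_rfl, ← ker_appLE_self V,
      ker_ideal_app j V, ← Scheme.Hom.app_eq_appLE]
    exact (fibAt hP V).map_ker (square_app hP V.1)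

include hP in
lemma flat_powers (hι : BlowUp.IsEffCartierIdeal ι.ker) (sX : X ⟶ S) [Flat (j ≫ sX)] [Flat (ι ≫ b ≫ sX)]
    (n : ℕ) : Flat ((j.ker ^ (n + 1)).subschemeι ≫ sX) := by
  refine flat_subschemeι_comp _ sX fun x => ?_
  obtain ⟨U₀, hU₀, hxU₀, -⟩ := exists_isAffineOpen_mem_and_subset (x := sX x) (U := (⊤ : S.Opens)) trivial
  obtain ⟨V, hV, hxV, eV⟩ := exists_isAffineOpen_mem_and_subset (x := x) (U := sX ⁻¹ᵁ U₀) hxU₀
  refine ⟨U₀, hU₀, ⟨V, hV⟩, eV, hxV, ?_⟩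
  let W : Xt.affineOpens := ⟨b ⁻¹ᵁ V, hV.preimage b⟩
  have eB : W.1 ≤ (b ≫ sX) ⁻¹ᵁ U₀ := by rw [Scheme.Hom.comp_preimage]; exact b.preimage_mono eV
  have hfA := app_eq_of_flat_target (ι.ker ^ (n + 1)) (b ≫ sX) hU₀ W eB (flat_pow ι hι (b ≫ sX) (n + 1))
  refine (fibAt hP ⟨V, hV⟩).flat_pow (q' := (ι.ker ^ (n + 1)).subschemeι.app W.1) (square_app hP V)
    (by rw [← Scheme.Hom.app_eq_appLE]; exact ι.app_surjective _ W.2) n
    ((j.ker ^ (n + 1)).subschemeι_app_surjective ⟨V, hV⟩) ?_ ((ι.ker ^ (n + 1)).subschemeι_app_surjective W) ?_ ?_ ?_ ?_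
  · rw [ker_subschemeι_app' _ ⟨V, hV⟩, Scheme.IdealSheafData.ideal_pow, Pi.pow_apply, ker_ideal_app]
  · rw [ker_subschemeι_app' _ W, Scheme.IdealSheafData.ideal_pow, Pi.pow_apply, ← ker_appLE_self ⟨V, hV⟩]
  · convert hfA using 2
    simp only [W, Scheme.Hom.app_eq_appLE, Scheme.Hom.appLE_comp_appLE, Category.assoc]
  · have := flat_appLE (j ≫ sX) hU₀ (hV.preimage j) (e := j.preimage_mono eV)
    rw [Scheme.Hom.app_eq_appLE, Scheme.Hom.appLE_comp_appLE]
    exact this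
  · have := flat_appLE (ι ≫ b ≫ sX) hU₀ (W.2.preimage ι) (e := ι.preimage_mono eB)
    simp only [Scheme.Hom.app_eq_appLE, Scheme.Hom.appLE_comp_appLE, ← Category.assoc, ← hP.w]
    simp only [Category.assoc]
    exact this

include hP in
lemma existsUnique_local {Y : Scheme.{u}} (g : Y ⟶ X) (V : X.affineOpens) (W : Y.affineOpens) (e : W.1 ≤ g ⁻¹ᵁ V.1)
    {τ : Γ(Y, W.1)} (hτ : τ ∈ nonZeroDivisors Γ(Y, W.1)) (hK : (j.ker.comap g).ideal W = Ideal.span {τ}) :
    ∃! k : W.1.toScheme ⟶ Xt, k ≫ b = W.1.ι ≫ g := by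
  rw [MP99.ideal_comap j.ker g V W e, ker_ideal_app] at hK
  obtain ⟨α, hα, huniq⟩ := (fibAt hP V).existsUnique_extend (square_app hP V.1) (g.appLE V.1 W.1 e) hτ hK
  have hA := V.2.preimage b
  have hb : hA.fromSpec ≫ b = Spec.map (b.app V.1) ≫ V.2.fromSpec := by
    rw [Scheme.Hom.app_eq_appLE, V.2.SpecMap_appLE_fromSpec b hA]
  refine ⟨W.2.isoSpec.hom ≫ Spec.map α ≫ hA.fromSpec, ?_, fun k hk => ?_⟩
  · simp only [Category.assoc, hb]
    rw [← Category.assoc (Spec.map α), ← Spec.map_comp, hα, V.2.SpecMap_appLE_fromSpec g W.2,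
      IsAffineOpen.isoSpec_hom_fromSpec_assoc]
  · have hr : Set.range (W.2.isoSpec.inv ≫ k) ⊆ Set.range hA.fromSpec := by
      rintro _ ⟨y, rfl⟩
      rw [hA.range_fromSpec]
      show b (k (W.2.isoSpec.inv y)) ∈ V.1
      rw [← Scheme.Hom.comp_apply, hk, Scheme.Hom.comp_apply]
      exact e (W.2.isoSpec.inv y).2
    obtain ⟨β, hβ⟩ : ∃ β, Spec.map β = IsOpenImmersion.lift hA.fromSpec _ hr := ⟨_, Spec.map_preimage _⟩
    have hβ' : Spec.map β ≫ hA.fromSpec = W.2.isoSpec.inv ≫ k := by rw [hβ, IsOpenImmersion.lift_fac]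
    have : b.app V.1 ≫ β = g.appLE V.1 W.1 e := Spec.map_injective (by
      rw [← cancel_mono V.2.fromSpec, V.2.SpecMap_appLE_fromSpec g W.2, Spec.map_comp, Category.assoc, ← hb,
        ← Category.assoc, hβ', Category.assoc, hk, IsAffineOpen.isoSpec_inv_ι_assoc])
    rw [← huniq β this, hβ', Iso.hom_inv_id_assoc]

include hP in
lemma existsUnique_lift {Y : Scheme.{u}} (g : Y ⟶ X) (hg : BlowUp.IsEffCartierIdeal (j.ker.comap g)) :
    ∃! k : Y ⟶ Xt, k ≫ b = g := by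
  let K := {VW : X.affineOpens × Y.affineOpens // VW.2.1 ≤ g ⁻¹ᵁ VW.1.1 ∧
    ∃ τ, τ ∈ nonZeroDivisors Γ(Y, VW.2.1) ∧ (j.ker.comap g).ideal VW.2 = Ideal.span {τ}}
  have hK : ∀ (y : Y) (O : Y.Opens), y ∈ O → ∃ k : K, y ∈ k.1.2.1 ∧ k.1.2.1 ≤ O := by
    intro y O hy
    obtain ⟨V, hV, hyV, -⟩ := exists_isAffineOpen_mem_and_subset (x := g y) (U := (⊤ : X.Opens)) trivial
    obtain ⟨W, hyW, hle, τ, hτ, hI⟩ := exists_affine_generator hg (x := y) (O := g ⁻¹ᵁ V ⊓ O) ⟨hyV, hy⟩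
    exact ⟨⟨(⟨V, hV⟩, W), fun z hz => (hle hz).1, τ, hτ, hI⟩, hyW, fun z hz => (hle hz).2⟩
  have loc : ∀ k : K, ∃! m : k.1.2.1.toScheme ⟶ Xt, m ≫ b = k.1.2.1.ι ≫ g := fun k => by
    obtain ⟨hle, τ, hτ, hI⟩ := k.2
    exact existsUnique_local hP g k.1.1 k.1.2 hle hτ hI
  choose m hm hmu using fun k => loc k
  obtain ⟨a, ha⟩ := exists_glue (fun k : K => k.1.2.1) (fun y => (hK y ⊤ trivial).imp fun _ h => h.1) m
    fun k l y hyk hyl => by
      obtain ⟨n, hyn, hn⟩ := hK y (k.1.2.1 ⊓ l.1.2.1) ⟨hyk, hyl⟩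
      have hk : n.1.2.1 ≤ k.1.2.1 := fun z hz => (hn hz).1
      have hl : n.1.2.1 ≤ l.1.2.1 := fun z hz => (hn hz).2
      refine ⟨n.1.2.1, hk, hl, hyn, (hmu n _ ?_).trans (hmu n _ ?_).symm⟩
      · show (_ ≫ _) ≫ b = _
        rw [Category.assoc, hm, Scheme.homOfLE_ι_assoc]
      · show (_ ≫ _) ≫ b = _
        rw [Category.assoc, hm, Scheme.homOfLE_ι_assoc]
  refine ⟨a, Scheme.hom_ext_of_forall _ _ fun y => ?_, fun a' ha' => Scheme.hom_ext_of_forall _ _ fun y => ?_⟩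
  · obtain ⟨k, hyk, -⟩ := hK y ⊤ trivial
    exact ⟨k.1.2.1, hyk, by rw [← Category.assoc, ha, hm]⟩
  · obtain ⟨k, hyk, -⟩ := hK y ⊤ trivial
    refine ⟨k.1.2.1, hyk, ?_⟩
    rw [ha]
    exact hmu k _ (by show (_ ≫ _) ≫ b = _; rw [Category.assoc, ha'])

end

/-- Let ι : D̃ → X̃ be a closed immersion whose ideal is effective Cartier, h : D̃ → D finite flat
surjective, all flat over a scheme S, and let (ι, h, b : X̃ → X, j : D → X) be a pushout of schemes
with b affine and j a closed immersion, X carrying the induced morphism to S. Then the closed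
subschemes of X defined by the powers I_D^n, n ≥ 1, are flat over S (so blowing up X in I_D commutes
with base change), b is a blowing up of X in I_D, and the inverse image ideal of I_D along b is the
ideal of D̃: the pair (X̃, D̃) is recovered from (X, D) by blowing up. (The published statement
assumes all three schemes proper, flat and finitely presented over S and D̃ → D only finite flat,
takes for X the pushout built affine-locally from fibre products of rings — for which X̃ → X is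
affine and D → X a closed immersion — and also asserts that X is proper and finitely presented over
S; this row assumes only flatness over S and D̃ → D surjective, takes such a pushout as given, and
does not assert properness or finite presentation of X. The affineness of X̃ → X cannot be dropped:
the affine line with doubled origin, with its two origins pinched to one point, has the affine line
itself as pushout in the category of schemes, and the line is its own blowing up at the origin.) -/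
theorem result {S Xt Dt D X : Scheme.{u}}
    (ι : Dt ⟶ Xt) [IsClosedImmersion ι] (hι : BlowUp.IsEffCartierIdeal ι.ker)
    (h : Dt ⟶ D) [IsFinite h] [Flat h] [Surjective h]
    (b : Xt ⟶ X) [IsAffineHom b] (j : D ⟶ X) [IsClosedImmersion j] (hP : IsPushout ι h b j)
    (sX : X ⟶ S) [Flat (b ≫ sX)] [Flat (j ≫ sX)] [Flat (ι ≫ b ≫ sX)] :
    (∀ n : ℕ, 1 ≤ n → Flat ((j.ker ^ n).subschemeι ≫ sX)) ∧
    BlowUp.IsBlowUp b j.ker ∧ j.ker.comap b = ι.ker := by
  have hc := comap_eq hP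
  refine ⟨fun n hn => ?_, ⟨by rw [hc]; exact hι, fun Y g hg => existsUnique_lift hP g hg⟩, hc⟩
  obtain ⟨m, rfl⟩ := Nat.exists_eq_succ_of_ne_zero (Nat.one_le_iff_ne_zero.1 hn)
  exact flat_powers hP hι sX m

end Groth.Agent.S14099
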