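import Groth.Statements.S1410
import Groth.Agent.Proper66.HOneSurj
import Groth.Agent.Proper66.HOneNear

set_option autoImplicit false
universe u
open FlatMor

namespace Groth.Agent.S1410

set_option backward.isDefEq.respectTransparency.types false

open AlgebraicGeometry CategoryTheory Limits in
theorem surjective_iff_over_affine {X Y : Scheme.{u}} (f : X ⟶ Y) {W : Y.Opens} (hW : IsAffineOpen W) :
    Function.Surjective ((f ∣_ W) ≫ hW.isoSpec.hom).appTop ↔ Function.Surjective (f.app W) := by
  have key : ∀ W' : Y.Opens, W' = W → (Function.Surjective (f.app W') ↔ Function.Surjective (f.app W)) := by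
    rintro _ rfl; rfl
  haveI : IsIso hW.isoSpec.hom.appTop := inferInstanceAs (IsIso (hW.isoSpec.hom.app ⊤))
  rw [← key _ W.ι_image_top, Scheme.Hom.comp_appTop, morphismRestrict_appTop, ConcreteCategory.coe_comp,
    Function.Surjective.of_comp_iff _ (ConcreteCategory.bijective_of_isIso _).2]
  have e := Function.Surjective.of_comp_iff'
    (ConcreteCategory.bijective_of_isIso (X.presheaf.map (eqToHom (image_morphismRestrict_preimage f W ⊤)).op))
    (f.app (W.ι ''ᵁ ⊤))
  exact e

open AlgebraicGeometry CategoryTheory Limits in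
/-- Let f : X → Y be proper with every fibre of dimension at most 1 and with H^1(X_y, O) = 0 for all y,
and assume O_Y → f_* O_X is surjective (checked on affine opens). Then for every base change f' : X'
→ Y' of f, O_{Y'} → f'_* O_{X'} is surjective on every affine open of Y'. -/
theorem result {X Y : Scheme.{u}} (f : X ⟶ Y) [IsProper f]
    (hdim : ∀ y : Y, topologicalKrullDim ↑(f.fiber y) ≤ 1) (hH1 : ∀ y : Y, Subsingleton (Coh.HH (f.fiber y) (Coh.structureModule (f.fiber y)) 1))
    (hsurj : ∀ U : Y.Opens, IsAffineOpen U → Function.Surjective (f.app U))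
    {X' Y' : Scheme.{u}} (f' : X' ⟶ Y') (g' : X' ⟶ X) (g : Y' ⟶ Y) (hc : IsPullback g' f' f g) :
    ∀ U' : Y'.Opens, IsAffineOpen U' → Function.Surjective (f'.app U') := by
  haveI : IsProper f' := MorphismProperty.of_isPullback hc inferInstance
  intro U' hU'
  refine Groth.Agent.Proper66.surjective_app_of_local f' (fun y U hy => ?_) hU'
  obtain ⟨W, hW, hyW, -⟩ := exists_isAffineOpen_mem_and_subset (x := g y) (U := ⊤) trivial
  obtain ⟨V, hV, hyV, hVle⟩ := exists_isAffineOpen_mem_and_subset (x := y) (U := U ⊓ g ⁻¹ᵁ W) ⟨hy, hyW⟩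
  refine ⟨V, fun z hz => (hVle hz).1, hyV, ?_⟩
  have hle : V ≤ g ⁻¹ᵁ W := fun z hz => (hVle hz).2
  let ψ : Γ(Y, W) ⟶ Γ(Y', V) := g.appLE W V hle
  have hψ : Spec.map ψ ≫ hW.fromSpec = hV.fromSpec ≫ g := IsAffineOpen.SpecMap_appLE_fromSpec g hW hV hle
  let q := (f ∣_ W) ≫ hW.isoSpec.hom
  let q' := (f' ∣_ V) ≫ hV.isoSpec.hom
  haveI : IsProper q := Groth.Agent.Proper66.isProper_over_affine f hW
  have big := (Groth.Agent.Proper66.isPullback_over_affine f' hV).paste_horiz hc
  rw [← hψ] at big
  have hq := Groth.Agent.Proper66.isPullback_over_affine f hW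
  let u := hq.lift ((f' ⁻¹ᵁ V).ι ≫ g') (q' ≫ Spec.map ψ) (by rw [Category.assoc]; exact big.w)
  have sq : IsPullback u q' q (Spec.map ψ) := by
    refine IsPullback.of_right ?_ (IsPullback.lift_snd _ _ _ _) hq
    rw [IsPullback.lift_fst]
    exact big
  have hd : ∀ t, topologicalKrullDim ↥(q.fiber t) ≤ (1 : ℕ) :=
    Groth.Agent.Proper66.dims_le_over_affine f hW fun z _ => by exact_mod_cast hdim z
  have h1 := Groth.Agent.Proper66.subsingleton_h1 q hd
    ((Groth.Agent.Proper66.hFib_of_fibres f hH1).of_isPullback hq)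
  have h2 := Groth.Agent.Proper66.surjective_appTop_bc q hd h1 ((surjective_iff_over_affine f hW).2 (hsurj W hW))
    ψ.hom q' u sq
  exact (surjective_iff_over_affine f' hV).1 h2

end Groth.Agent.S1410
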