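import Groth.Statements.S14101
import Groth.Agent.SpFP87.Reduced
import Mathlib.RingTheory.Smooth.Locus
import Mathlib.RingTheory.Smooth.Field
import Mathlib.RingTheory.Ideal.AssociatedPrime.Basic
import Mathlib.RingTheory.Ideal.AssociatedPrime.Finiteness
import Mathlib.RingTheory.Ideal.MinimalPrime.Localization
import Mathlib.RingTheory.Localization.Away.Basic
import Mathlib.RingTheory.TensorProduct.Quotient
import Mathlib.FieldTheory.Perfect
import Mathlib.RingTheory.Jacobson.Ring
import Mathlib.RingTheory.Int.Basic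
import Mathlib.Algebra.Algebra.Equiv

set_option autoImplicit false
universe u
open CAlg

namespace Groth.Agent.S14101

open scoped TensorProduct

/-- Only finitely many primes are zero-divisors on a finite module. -/
theorem finite_bad {A : Type u} [CommRing A] [IsNoetherianRing A] (M : Type u) [AddCommGroup M]
    [Module A M] [Module.Finite A M] :
    {p : ℕ | p.Prime ∧ ¬ IsSMulRegular M (p : A)}.Finite := by
  refine Set.Finite.subset ((associatedPrimes.finite A M).biUnion
    (t := fun P => {p : ℕ | p.Prime ∧ (p : A) ∈ P}) fun P hP => Set.Subsingleton.finite ?_) ?_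
  · intro p hp q hq
    by_contra hne
    have hPp : P.IsPrime := IsAssociatedPrime.isPrime hP
    have hco : IsCoprime (p : ℤ) (q : ℤ) :=
      Int.isCoprime_iff_gcd_eq_one.2 ((Nat.coprime_primes hp.1 hq.1).2 hne)
    obtain ⟨a, b, hab⟩ := hco
    refine hPp.ne_top ((Ideal.eq_top_iff_one _).2 ?_)
    have h := congrArg (Int.cast : ℤ → A) hab
    push_cast at h
    rw [← h]
    exact add_mem (Ideal.mul_mem_left _ _ hp.2) (Ideal.mul_mem_left _ _ hq.2)
  · rintro p ⟨hp, hreg⟩
    have h : (p : A) ∈ ⋃ P ∈ associatedPrimes A M, (P : Set A) := by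
      rw [biUnion_associatedPrimes_eq_compl_regular]; exact hreg
    simp only [Set.mem_iUnion] at h ⊢
    obtain ⟨P, hP, hpP⟩ := h
    exact ⟨P, hP, hp, hpP⟩

theorem isReduced_quot (k : Type) (B : Type u) [CommRing k] [CommRing B] [Algebra k B] [Algebra.Smooth k B]
    (K : Ideal k) [K.IsPrime] : IsReduced (B ⧸ K.map (algebraMap k B)) := by
  let R := ULift.{u} (k ⧸ K)
  haveI : IsReduced R := isReduced_of_injective (ULift.ringEquiv : R ≃+* k ⧸ K) (RingEquiv.injective _)
  haveI : IsReduced (R ⊗[k] B) := SpFP87.isReduced_of_smooth_ring R _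
  let e₁ : B ⊗[k] (k ⧸ K) ≃ₐ[k] R ⊗[k] B :=
    (Algebra.TensorProduct.congr (AlgEquiv.refl : B ≃ₐ[k] B)
      (ULift.algEquiv : R ≃ₐ[k] k ⧸ K).symm).trans (Algebra.TensorProduct.comm k B R)
  haveI : IsReduced (B ⊗[k] (k ⧸ K)) := isReduced_of_injective e₁ e₁.injective
  exact isReduced_of_injective (Algebra.TensorProduct.quotIdealMapEquivTensorQuot B K)
    (AlgEquiv.injective _)

theorem core (A : Type u) [CommRing A] [Algebra.FiniteType ℤ A] [IsReduced A]
    (hchar : ∀ P ∈ minimalPrimes A, ∀ n : ℕ, n ≠ 0 → (n : A) ∉ P) :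
    {p : ℕ | p.Prime ∧ ¬ IsReduced (A ⧸ Ideal.span {(p : A)})}.Finite := by
  classical
  haveI : IsNoetherianRing A := Algebra.FiniteType.isNoetherianRing ℤ A
  haveI : Algebra.FinitePresentation ℤ A := (Algebra.FinitePresentation.of_finiteType).1 inferInstance
  -- generic smoothness
  have hsm : ∀ P : PrimeSpectrum A, P.asIdeal ∈ minimalPrimes A → P ∈ Algebra.smoothLocus ℤ A := by
    intro P hP
    let L := Localization.AtPrime P.asIdeal
    have hfield : IsField L := by
      rw [IsLocalRing.isField_iff_maximalIdeal_eq, eq_bot_iff]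
      intro x hx
      rw [Submodule.mem_bot]
      refine (mem_nilradical.1 ?_).eq_zero
      rw [nilradical_eq_sInf, Submodule.mem_sInf]
      intro (Q : Ideal L) hQ
      haveI : Ideal.IsPrime Q := hQ
      have hle : Q.comap (algebraMap A L) ≤ P.asIdeal :=
        (Ideal.comap_mono (IsLocalRing.le_maximalIdeal hQ.ne_top)).trans
          (IsLocalization.AtPrime.comap_maximalIdeal L P.asIdeal).le
      have heq : Q.comap (algebraMap A L) = P.asIdeal :=
        le_antisymm hle (hP.2 ⟨inferInstance, bot_le⟩ hle)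
      have h2 := congrArg (Ideal.map (algebraMap A L)) heq
      rw [IsLocalization.map_comap P.asIdeal.primeCompl, Localization.AtPrime.map_eq_maximalIdeal] at h2
      rwa [h2]
    letI : Field L := hfield.toField
    haveI : CharZero L := charZero_of_inj_zero fun n hn => by
      by_contra h0
      have := IsLocalization.map_units L (⟨(n : A), hchar _ hP n h0⟩ : P.asIdeal.primeCompl)
      rw [map_natCast, hn] at this
      exact not_isUnit_zero this
    haveI : Algebra.EssFiniteType ℤ L := Algebra.EssFiniteType.comp ℤ A L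
    haveI : @IsScalarTower ℤ ℚ L Algebra.toSMul Algebra.toSMul Algebra.toSMul :=
      IsScalarTower.of_algebraMap_eq' (RingHom.ext_int _ _)
    haveI : Algebra.EssFiniteType ℚ L := Algebra.EssFiniteType.of_comp ℤ ℚ L
    haveI : Algebra.FormallySmooth ℤ ℚ := .of_isLocalization (nonZeroDivisors ℤ)
    haveI : Algebra.FormallySmooth ℚ L := inferInstance
    exact Algebra.FormallySmooth.comp ℤ ℚ L
  obtain ⟨I, hI⟩ := (PrimeSpectrum.isClosed_iff_zeroLocus_ideal _).1
    (Algebra.isOpen_smoothLocus (R := ℤ) (A := A)).isClosed_compl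
  have hfin : (minimalPrimes A).Finite := minimalPrimes.finite_of_isNoetherianRing A
  obtain ⟨f, hfI, hf⟩ : ∃ f ∈ I, ∀ P ∈ minimalPrimes A, f ∉ P := by
    by_contra hcon
    simp only [not_exists, not_and, not_forall, not_not] at hcon
    have hsub : (I : Set A) ⊆ ⋃ P ∈ (hfin.toFinset : Set (Ideal A)), (id P : Ideal A) := by
      intro x hx
      obtain ⟨P, hP, hxP⟩ := hcon x hx
      exact Set.mem_biUnion (hfin.mem_toFinset.2 hP) hxP
    obtain ⟨P, hP, hle⟩ := (Ideal.subset_union_prime (s := hfin.toFinset) (⊥ : Ideal A) ⊥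
      (fun P hP _ _ => (hfin.mem_toFinset.1 hP).1.1)).1 hsub
    have hP' := hfin.mem_toFinset.1 hP
    have hmem := hsm ⟨P, hP'.1.1⟩ hP'
    have : (⟨P, hP'.1.1⟩ : PrimeSpectrum A) ∈ (Algebra.smoothLocus ℤ A)ᶜ := by
      rw [hI]; exact hle
    exact this hmem
  have hDf : ↑(PrimeSpectrum.basicOpen f) ⊆ Algebra.smoothLocus ℤ A := by
    intro P hP
    by_contra hcon
    have : P ∈ (Algebra.smoothLocus ℤ A)ᶜ := hcon
    rw [hI] at this
    exact hP (this hfI)
  let B := Localization.Away f
  haveI : Algebra.Smooth ℤ B := Algebra.basicOpen_subset_smoothLocus_iff_smooth.1 hDf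
  have hfreg : ∀ a, f * a = 0 → a = 0 := by
    intro a ha
    refine (mem_nilradical.1 ?_).eq_zero
    rw [nilradical, ← Ideal.sInf_minimalPrimes, Submodule.mem_sInf]
    intro P hP
    exact (hP.1.1.mem_or_mem (ha ▸ zero_mem P)).resolve_left (hf P hP)
  refine (finite_bad (A := A) (A ⧸ Ideal.span {f})).subset ?_
  rintro p ⟨hp, hred⟩
  refine ⟨hp, fun hreg => hred ⟨fun a ha => ?_⟩⟩
  obtain ⟨a, rfl⟩ := Ideal.Quotient.mk_surjective a
  have step : ∀ a : A, f * a ∈ Ideal.span {(p : A)} → a ∈ Ideal.span {(p : A)} := by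
    intro a h
    obtain ⟨b, hb⟩ := Ideal.mem_span_singleton'.1 h
    have hb0 : (Ideal.Quotient.mk (Ideal.span {f}) b) = 0 := hreg (by
      show (p : A) • Ideal.Quotient.mk (Ideal.span {f}) b = (p : A) • 0
      rw [smul_zero, Algebra.smul_def, Ideal.Quotient.algebraMap_eq, ← map_mul,
        Ideal.Quotient.eq_zero_iff_mem, mul_comm, hb]
      exact Ideal.mul_mem_right _ _ (Ideal.subset_span rfl))
    obtain ⟨c, hc⟩ := Ideal.mem_span_singleton'.1 (Ideal.Quotient.eq_zero_iff_mem.1 hb0)
    refine Ideal.mem_span_singleton'.2 ⟨c, ?_⟩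
    exact sub_eq_zero.1 (hfreg _ (by linear_combination hb + (p : A) * hc))
  let K : Ideal ℤ := Ideal.span {(p : ℤ)}
  haveI : K.IsPrime := (Ideal.span_singleton_prime (by exact_mod_cast hp.ne_zero)).2 (Nat.prime_iff_prime_int.1 hp)
  haveI : IsReduced (B ⧸ K.map (algebraMap ℤ B)) := isReduced_quot ℤ B K
  have h0 : algebraMap A B a ∈ K.map (algebraMap ℤ B) := by
    rw [← Ideal.Quotient.eq_zero_iff_mem]
    refine IsNilpotent.eq_zero ?_
    obtain ⟨k, hk⟩ := ha
    refine ⟨k, ?_⟩
    rw [← map_pow, ← map_pow, Ideal.Quotient.eq_zero_iff_mem]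
    rw [← map_pow, Ideal.Quotient.eq_zero_iff_mem] at hk
    obtain ⟨c, hc⟩ := Ideal.mem_span_singleton'.1 hk
    rw [← hc, map_mul, Ideal.map_span, Set.image_singleton]
    exact Ideal.mul_mem_left _ _ (Ideal.subset_span (by simp))
  rw [Ideal.map_span, Set.image_singleton, map_natCast, ← map_natCast (algebraMap A B),
    ← Set.image_singleton, ← Ideal.map_span, IsLocalization.mem_map_algebraMap_iff (Submonoid.powers f)] at h0
  obtain ⟨⟨⟨b, hb⟩, ⟨_, j, rfl⟩⟩, hab⟩ := h0
  rw [← map_mul] at hab
  obtain ⟨⟨_, i, rfl⟩, hi⟩ := IsLocalization.exists_of_eq (M := Submonoid.powers f) hab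
  have hmem : f ^ (i + j) * a ∈ Ideal.span {(p : A)} := by
    rw [show f ^ (i + j) * a = f ^ i * b by
      simp only at hi ⊢; rw [pow_add]; linear_combination hi]
    exact Ideal.mul_mem_left _ _ hb
  rw [Ideal.Quotient.eq_zero_iff_mem]
  clear hab hi ha
  generalize i + j = m at hmem
  induction m with
  | zero => simpa using hmem
  | succ m ih => exact ih (step _ (by rwa [← mul_assoc, ← pow_succ']))

/-- Affine form — let A be a reduced commutative ring of finite type over ℤ. Then for all but finitely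
many prime numbers p the reduction A/pA is reduced. (The published statement is for a reduced scheme
of finite type over ℤ; such a scheme has a finite affine open cover, so the affine form carries the
same content.) -/
theorem result
    (A : Type u) [CommRing A] [Algebra.FiniteType ℤ A] [IsReduced A] :
    {p : ℕ | p.Prime ∧ ¬ IsReduced (A ⧸ Ideal.span {(p : A)})}.Finite := by
  classical
  haveI : IsNoetherianRing A := Algebra.FiniteType.isNoetherianRing ℤ A
  have hfin : (minimalPrimes A).Finite := minimalPrimes.finite_of_isNoetherianRing A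
  let g : Ideal A → ℕ := fun P =>
    if h : ∃ n : ℕ, n ≠ 0 ∧ (n : A) ∈ P then Classical.choose h else 1
  let N : ℕ := ∏ P ∈ hfin.toFinset, g P
  have hN0 : N ≠ 0 := Finset.prod_ne_zero_iff.2 fun P _ => by
    simp only [g]; split_ifs with h
    · exact (Classical.choose_spec h).1
    · exact one_ne_zero
  let A' := Localization.Away (N : A)
  haveI : Algebra.FiniteType A A' := inferInstance
  haveI hftA : Algebra.FiniteType ℤ A' := Algebra.FiniteType.trans (R := ℤ) (S := A) (A := A') inferInstance inferInstance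
  have hchar : ∀ P ∈ minimalPrimes A', ∀ n : ℕ, n ≠ 0 → (n : A') ∉ P := by
    intro P hP n hn hnP
    haveI : P.IsPrime := hP.1.1
    have hPA : P.comap (algebraMap A A') ∈ minimalPrimes A := by
      refine ⟨⟨inferInstance, bot_le⟩, fun Q hQ hle => ?_⟩
      have hd : Disjoint (Submonoid.powers (N : A) : Set A) Q :=
        ((IsLocalization.isPrime_iff_isPrime_disjoint (Submonoid.powers (N : A)) A' P).1 inferInstance).2.mono_right hle
      haveI := hQ.1
      have hQ' := IsLocalization.isPrime_of_isPrime_disjoint (Submonoid.powers (N : A)) A' Q hQ.1 hd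
      have h1 : Q.map (algebraMap A A') ≤ P := Ideal.map_le_iff_le_comap.2 hle
      have h2 := Ideal.comap_mono (f := algebraMap A A') (hP.2 ⟨hQ', bot_le⟩ h1)
      exact h2.trans (IsLocalization.comap_map_of_isPrime_disjoint (Submonoid.powers (N : A)) A' hQ.1 hd).le
    have hex : ∃ n : ℕ, n ≠ 0 ∧ (n : A) ∈ P.comap (algebraMap A A') :=
      ⟨n, hn, by rw [Ideal.mem_comap, map_natCast]; exact hnP⟩
    have hg : (g (P.comap (algebraMap A A')) : A) ∈ P.comap (algebraMap A A') := by
      simp only [g, dif_pos hex]; exact (Classical.choose_spec hex).2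
    have hN : (N : A) ∈ P.comap (algebraMap A A') :=
      Ideal.mem_of_dvd _ (Nat.cast_dvd_cast (Finset.dvd_prod_of_mem g (hfin.mem_toFinset.2 hPA))) hg
    exact hP.1.1.ne_top
      (Ideal.eq_top_of_isUnit_mem P hN (IsLocalization.Away.algebraMap_isUnit (S := A') (N : A)))
  haveI : @Algebra.FiniteType ℤ A' _ _ (Ring.toIntAlgebra A') := by
    convert hftA using 1
    · rfl
    · exact Subsingleton.elim _ _
  refine ((core A' hchar).union (Set.finite_Iic N)).subset ?_
  rintro p ⟨hp, hred⟩
  by_contra hcon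
  simp only [Set.mem_union, Set.mem_setOf_eq, Set.mem_Iic, not_or, not_and, not_not, not_le] at hcon
  haveI := hcon.1 hp
  have hco : IsCoprime (N : A) (p : A) := by
    have h := Int.isCoprime_iff_gcd_eq_one.2 (Nat.Coprime.symm
      ((Nat.Prime.coprime_iff_not_dvd hp).2 fun h => by
        have := Nat.le_of_dvd (Nat.pos_of_ne_zero hN0) h; omega) : (N : ℤ).gcd (p : ℤ) = 1)
    simpa using h.map (Int.castRingHom A)
  refine hred ⟨fun a ha => ?_⟩
  obtain ⟨a, rfl⟩ := Ideal.Quotient.mk_surjective a
  obtain ⟨k, hk⟩ := ha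
  rw [← map_pow, Ideal.Quotient.eq_zero_iff_mem] at hk
  have h0 : algebraMap A A' a ∈ Ideal.span {(p : A')} := by
    rw [← Ideal.Quotient.eq_zero_iff_mem]
    refine IsNilpotent.eq_zero ⟨k, ?_⟩
    rw [← map_pow, ← map_pow, Ideal.Quotient.eq_zero_iff_mem]
    have := Ideal.mem_map_of_mem (algebraMap A A') hk
    rwa [Ideal.map_span, Set.image_singleton, map_natCast] at this
  rw [← map_natCast (algebraMap A A'), ← Set.image_singleton, ← Ideal.map_span,
    IsLocalization.mem_map_algebraMap_iff (Submonoid.powers (N : A))] at h0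
  obtain ⟨⟨⟨b, hb⟩, ⟨_, j, rfl⟩⟩, hab⟩ := h0
  rw [← map_mul] at hab
  obtain ⟨⟨_, i, rfl⟩, hi⟩ := IsLocalization.exists_of_eq (M := Submonoid.powers (N : A)) hab
  simp only at hi
  obtain ⟨c, d, hcd⟩ := (hco.pow_left (m := i + j))
  rw [Ideal.Quotient.eq_zero_iff_mem, show a = c * ((N : A) ^ i * b) + (d * a) * (p : A) by
    rw [pow_add] at hcd; linear_combination -a * hcd + c * hi]
  exact add_mem (Ideal.mul_mem_left _ _ (Ideal.mul_mem_left _ _ hb))
    (Ideal.mul_mem_left _ _ (Ideal.subset_span rfl))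

end Groth.Agent.S14101
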