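import Groth.Prelude.Def_CInt
import Mathlib.AlgebraicGeometry.Noetherian
import Mathlib.AlgebraicGeometry.Pullbacks
import Mathlib.RingTheory.KrullDimension.Basic
import Groth.Agent.CAlg9.CIT.FibreCodimBC

set_option autoImplicit false
universe u
open CategoryTheory CategoryTheory.Limits AlgebraicGeometry Opposite TopologicalSpace
open CInt

namespace Groth.Agent.S14105

/-- Let f : X → S be a morphism and g : S' → S a base change, with X, S, S' and X' = X ×_S S' locally
Noetherian, and let Y be a closed subset of X with preimage Y' under the projection X' → X. Writing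
the codimension of a closed subset relative to a morphism as the infimum, over its points, of the
Krull dimension of the local ring of the fibre through that point: the codimension of Y' relative to
X' → S' is at least the codimension of Y relative to f, and the two are equal when the projection X'
→ X maps Y' onto Y. -/
theorem result {X S S' : Scheme.{u}} (f : X ⟶ S) (g : S' ⟶ S)
    [IsLocallyNoetherian X] [IsLocallyNoetherian S] [IsLocallyNoetherian S']
    [IsLocallyNoetherian (pullback f g)] (Y : Set ↥X) (hY : IsClosed Y) :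
    ((⨅ y : Y, ringKrullDim ↑(CInt.fiberStalk f y.1)) ≤
      ⨅ y' : (fun x' => (pullback.fst f g) x') ⁻¹' Y,
        ringKrullDim ↑(CInt.fiberStalk (pullback.snd f g) y'.1)) ∧
    (Y ⊆ Set.range (pullback.fst f g).base →
      (⨅ y' : (fun x' => (pullback.fst f g) x') ⁻¹' Y,
        ringKrullDim ↑(CInt.fiberStalk (pullback.snd f g) y'.1)) =
        ⨅ y : Y, ringKrullDim ↑(CInt.fiberStalk f y.1)) := by
  have h := IsPullback.of_hasPullback f g
  have h1 : (⨅ y : Y, ringKrullDim ↑(CInt.fiberStalk f y.1)) ≤
      ⨅ y' : (fun x' => (pullback.fst f g) x') ⁻¹' Y,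
        ringKrullDim ↑(CInt.fiberStalk (pullback.snd f g) y'.1) :=
    le_iInf fun y' => iInf_le_of_le ⟨pullback.fst f g y'.1, y'.2⟩
      (CAlg9.CIT.dim_fiberStalk_le_baseChange h y'.1)
  refine ⟨h1, fun hsub => le_antisymm (le_iInf fun y => ?_) h1⟩
  obtain ⟨z, hz, hd⟩ := CAlg9.CIT.exists_dim_fiberStalk_baseChange_eq h y.1 (hsub y.2)
  exact iInf_le_of_le ⟨z, show pullback.fst f g z ∈ Y by rw [hz]; exact y.2⟩ hd.le

end Groth.Agent.S14105
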