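import Groth.Prelude.Def_CInt
import Mathlib.AlgebraicGeometry.Noetherian
import Mathlib.AlgebraicGeometry.Morphisms.Smooth
import Mathlib.AlgebraicGeometry.Morphisms.ClosedImmersion
import Mathlib.RingTheory.KrullDimension.Basic
import Groth.Agent.CAlg9.CIT.RegFibre
import Groth.Agent.CAlg9.CIT.FibreCodim

set_option autoImplicit false
universe u
open CategoryTheory CategoryTheory.Limits AlgebraicGeometry Opposite TopologicalSpace
open CInt

namespace Groth.Agent.S14106

/-- Let S be a locally Noetherian scheme, f : X → S a smooth morphism and i : Y → X a closed immersion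
whose composite with f is smooth. Then the codimension of the image of i relative to f (the infimum
over its points y of the Krull dimension of the local ring at y of the fibre of f through y) equals
its codimension in X (the infimum over the same points of the Krull dimension of O_{X,y}). -/
theorem result {X Y S : Scheme.{u}} [IsLocallyNoetherian X]
    [IsLocallyNoetherian S] (f : X ⟶ S) [Smooth f] (i : Y ⟶ X) [IsClosedImmersion i] [Smooth (i ≫ f)] :
    (⨅ y : Set.range i.base, ringKrullDim ↑(CInt.fiberStalk f y.1)) =
      ⨅ y : Set.range i.base, ringKrullDim ↑(X.presheaf.stalk y.1) := by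
  refine le_antisymm (iInf_mono fun y => CAlg9.CIT.dim_fiberStalk_le f y.1) (le_iInf fun y => ?_)
  obtain ⟨_, y₀, rfl⟩ := y
  obtain ⟨rs, hreg, hker, hlen⟩ := CAlg9.CIT.exists_regular_fibre_gens f i y₀
  obtain ⟨z, hz, hmax⟩ := CAlg9.CIT.exists_maximal_generization y₀
  refine iInf_le_of_le ⟨i z, z, rfl⟩ ?_
  rw [CAlg9.CIT.dim_stalk_eq_length i y₀ rs hreg hker z hz hmax]
  exact hlen

end Groth.Agent.S14106
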