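import Groth.Statements.S14116
import Groth.Agent.LC16.EdgeIso
import Groth.Agent.LC16.SheafDepth
import Groth.Agent.SuppInj95.Basic
import Groth.Agent.LocCohZ46.Spectral
import Groth.Agent.Div89.FreeStalks
import Groth.Agent.CAlg1.AB
import Groth.Agent.Props58.LocFree.Criteria
import Groth.Agent.QC70.GenIso

set_option backward.isDefEq.respectTransparency.types false

set_option autoImplicit false
universe u
open CategoryTheory CategoryTheory.Limits AlgebraicGeometry Opposite TopologicalSpace
open LocCohZ

namespace Groth.Agent.S14116

/-- Let X be a locally Noetherian scheme, U ⊆ X open with closed complement Y, d a natural number such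
that the depth of O_X along Y is at least d (every local ring O_{X,y}, y ∈ Y, has depth at least d),
and M a finite locally free O_X-module. Then Γ(X, ℋ^d_Y(M)) is isomorphic to H^d_Y(X, M), where
ℋ^d_Y is the d-th right derived functor of the sheaf of sections with support in Y (applied to the
underlying abelian sheaf of M) and H^d_Y(X, M) is cohomology with support in Y. Existence of an
additive isomorphism only; the published statement asserts a canonical functorial isomorphism that
is linear over the global functions Γ(X, O_X) (obtained in its proof as the edge map of the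
local-to-global spectral sequence), and adds that U ↦ H^d_{Y∩U}(U, M), U ⊆ X open, is a sheaf; none
of this is part of this row. (The published statement assumes a flat morphism X → S with
Cohen–Macaulay fibres and relative codimension of Y at least d; these enter only through the depth
bound, which is the hypothesis of this row.) -/
theorem result (X : Scheme.{u}) [IsLocallyNoetherian X]
    (U : X.Opens) (d : ℕ)
    (hdepth : ∀ x : ↥X, x ∉ (U : Set ↥X) → (d : ℕ∞) ≤ LocCoh.depth ↑(X.presheaf.stalk x) ↑(X.presheaf.stalk x))
    (M : X.Modules) (hM : FlatMod.IsFinLocFree M) :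
    Nonempty (↑(((LocCohZ.HZsh (X := X.carrier) U d).obj (Coh.toAb M)).obj.obj (op ⊤)) ≃+ LocCohZ.HZM X M d U) := by
  have hMc : Coh.IsCoh M :=
    ⟨Props58.LocFree.isQuasicoherent_of_isFinLocFree hM, Props58.LocFree.isFiniteType_of_isFinLocFree hM⟩
  have hdM : ∀ x : X, x ∉ (U : Set X) →
      (d : ℕ∞) ≤ LocCoh.depth (X.presheaf.stalk x) (M.presheaf.stalk x) := fun x hx => by
    have := hMc.1
    have := hMc.2
    have : Module.Free (X.presheaf.stalk x) (M.presheaf.stalk x) :=
      (Div89.isFinLocFree_iff_free_stalks hMc).1 hM x
    have : Module.Finite (X.presheaf.stalk x) (M.presheaf.stalk x) := QC70.finite_stalk M x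
    rcases subsingleton_or_nontrivial (M.presheaf.stalk x) with h | h
    · rw [EGA4Alg4.depth_of_subsingleton]
      exact le_top
    · rw [CAlg1.depth_eq_of_free]
      exact hdepth x hx
  have hz := (LC16.SheafDepth.isZero_HZsh_below_iff U M hMc d).2 hdM
  let S := LocCohZ.sectSuppF (X := X.carrier) U
  let R := injectiveResolution (Coh.toAb M)
  let K := (S.mapHomologicalComplex (ComplexShape.up ℕ)).obj R.cocomplex
  have : ∀ n, Injective (K.X n) := fun n =>
    @SuppInj95.injective_sectSupp _ U (R.cocomplex.X n) (R.injective n)
  have hK : ∀ i < d, K.ExactAt i := fun i hi =>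
    (HomologicalComplex.exactAt_iff_isZero_homology K i).2
      (IsZero.of_iso (hz i hi) (R.isoRightDerivedObj S i).symm)
  obtain ⟨e⟩ := LC16.EdgeIso.nonempty_homology_map_iso K
    (sheafToPresheaf (Opens.grothendieckTopology X.carrier) AddCommGrpCat.{u} ⋙
      (evaluation (Opens X.carrier)ᵒᵖ AddCommGrpCat.{u}).obj (op ⊤)) d hK
  let e₁ := ((sheafToPresheaf (Opens.grothendieckTopology X.carrier) AddCommGrpCat.{u} ⋙
    (evaluation (Opens X.carrier)ᵒᵖ AddCommGrpCat.{u}).obj (op ⊤))).mapIso (R.isoRightDerivedObj S d)
  let e₂ := R.isoRightDerivedObj (LocCohZ.gammaZF (X := X.carrier) U) d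
  exact ⟨(e₁ ≪≫ e.symm ≪≫ e₂.symm ≪≫
    (LocCohZ46.gammaZIso (X := X.carrier) U d).app _).addCommGroupIsoToAddEquiv.trans
      (LocCohZ.HZcEquivHZFunctor (X := X.carrier) (Coh.toAb M) d U).symm⟩

end Groth.Agent.S14116
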