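import Groth.Statements.S1412
import Groth.Agent.WE91.Local
import Groth.Agent.WE24.AbsFlat
import Groth.Agent.FlatMor67.FlatDiag
import Mathlib

set_option autoImplicit false
universe u
open FlatMor

namespace Groth.Agent.S1412
open TensorProduct in
theorem weaklyEtale_of_localRings (R S : Type u) [CommRing R] [CommRing S] [Algebra R S] [Module.Flat R S]
    (h : ∀ (q : Ideal S) [q.IsMaximal], Algebra.WeaklyEtale R (Localization.AtPrime q)) :
    Algebra.WeaklyEtale R S := by
  refine { flat_lmul' := ?_ }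
  letI : Algebra (S ⊗[R] S) S := (Algebra.TensorProduct.lmul' R (S := S)).toRingHom.toAlgebra
  change Module.Flat (S ⊗[R] S) S
  refine Module.flat_of_isLocalized_maximal S S (fun P _ => Localization.AtPrime P)
    (fun P _ => Algebra.linearMap S (Localization.AtPrime P)) fun P _ => ?_
  have := h P
  let l : S →ₐ[R] Localization.AtPrime P := IsScalarTower.toAlgHom R S (Localization.AtPrime P)
  have hl : l.toRingHom.Flat := by
    exact RingHom.flat_algebraMap_iff.mpr (inferInstanceAs (Module.Flat S (Localization.AtPrime P)))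
  have hT := RingHom.Flat.comp (RingHom.Flat.tensorProductMap hl hl)
    (Algebra.WeaklyEtale.flat_lmul' R (Localization.AtPrime P))
  have e : ((Algebra.TensorProduct.lmul' R (S := Localization.AtPrime P)).toRingHom.comp
      (Algebra.TensorProduct.map l l).toRingHom) = algebraMap (S ⊗[R] S) (Localization.AtPrime P) := by
    rw [IsScalarTower.algebraMap_eq (S ⊗[R] S) S (Localization.AtPrime P)]
    have : ((Algebra.TensorProduct.lmul' R (S := Localization.AtPrime P)).comp (Algebra.TensorProduct.map l l)) =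
        l.comp (Algebra.TensorProduct.lmul' R (S := S)) := by ext <;> simp
    exact congrArg AlgHom.toRingHom this
  exact RingHom.flat_algebraMap_iff.mp (e ▸ hT)

open AlgebraicGeometry CategoryTheory Limits in
theorem weaklyEtale_specMap_iff (R S : Type u) [CommRing R] [CommRing S] [Algebra R S] :
    WeaklyEtale (Spec.map (CommRingCat.ofHom (algebraMap R S))) ↔ Algebra.WeaklyEtale R S := by
  rw [AlgebraicGeometry.weaklyEtale_iff, Algebra.weaklyEtale_iff, HasRingHomProperty.Spec_iff (P := @Flat),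
    ← RingHom.flat_algebraMap_iff]
  exact and_congr Iff.rfl (FlatMor67.diagonalFlat_specMap_iff R S)

open AlgebraicGeometry CategoryTheory Limits in
theorem weaklyEtale_stalk_iff {X Y : Scheme.{u}} (f : X ⟶ Y) (U : X.Opens) (V : Y.Opens) (hU : IsAffineOpen U)
    (hV : IsAffineOpen V) (e : U ≤ f ⁻¹ᵁ V) (x : X) (hx : x ∈ U) :
    letI := (f.stalkMap x).hom.toAlgebra
    letI := (f.appLE V U e).hom.toAlgebra
    Algebra.WeaklyEtale (Y.presheaf.stalk (f x)) (X.presheaf.stalk x) ↔
      Algebra.WeaklyEtale Γ(Y, V) (Localization.AtPrime (hU.primeIdealOf ⟨x, hx⟩).asIdeal) := by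
  letI := (f.stalkMap x).hom.toAlgebra
  letI := (f.appLE V U e).hom.toAlgebra
  letI : Algebra Γ(X, U) (X.presheaf.stalk x) := X.presheaf.algebra_section_stalk ⟨x, hx⟩
  letI : Algebra Γ(Y, V) (Y.presheaf.stalk (f x)) := Y.presheaf.algebra_section_stalk ⟨f x, e hx⟩
  letI : Algebra Γ(Y, V) (X.presheaf.stalk x) := ((algebraMap Γ(X, U) _).comp (algebraMap Γ(Y, V) Γ(X, U))).toAlgebra
  have : IsScalarTower Γ(Y, V) Γ(X, U) (X.presheaf.stalk x) := .of_algebraMap_eq' rfl
  have hlX := hU.isLocalization_stalk ⟨x, hx⟩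
  have hlY := hV.isLocalization_stalk ⟨f x, e hx⟩
  have : IsScalarTower Γ(Y, V) (Y.presheaf.stalk (f x)) (X.presheaf.stalk x) := by
    refine .of_algebraMap_eq fun r => ?_
    change (X.presheaf.germ U x hx (f.appLE V U e r)) = (f.stalkMap x) (Y.presheaf.germ V (f x) (e hx) r)
    rw [Scheme.Hom.germ_stalkMap_apply]
    exact X.presheaf.germ_res_apply (homOfLE e) x hx _
  have := WE91.weaklyEtale_of_isLocalization Γ(Y, V) (Y.presheaf.stalk (f x))
    (hV.primeIdealOf ⟨f x, e hx⟩).asIdeal.primeCompl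
  let ε : Localization.AtPrime (hU.primeIdealOf ⟨x, hx⟩).asIdeal ≃ₐ[Γ(Y, V)] X.presheaf.stalk x :=
    (IsLocalization.algEquiv (hU.primeIdealOf ⟨x, hx⟩).asIdeal.primeCompl _ _).restrictScalars Γ(Y, V)
  have hε : Algebra.WeaklyEtale Γ(Y, V) (Localization.AtPrime (hU.primeIdealOf ⟨x, hx⟩).asIdeal) ↔
      Algebra.WeaklyEtale Γ(Y, V) (X.presheaf.stalk x) := by
    rw [← weaklyEtale_specMap_iff, ← weaklyEtale_specMap_iff]
    have : CommRingCat.ofHom (algebraMap Γ(Y, V) (X.presheaf.stalk x)) =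
        CommRingCat.ofHom (algebraMap Γ(Y, V) (Localization.AtPrime (hU.primeIdealOf ⟨x, hx⟩).asIdeal)) ≫
          ε.toRingEquiv.toCommRingCatIso.hom := by
      ext r
      exact (ε.commutes r).symm
    rw [this, Spec.map_comp, MorphismProperty.cancel_left_of_respectsIso @WeaklyEtale]
  rw [hε]
  exact ⟨fun _ => Algebra.WeaklyEtale.trans _ (Y.presheaf.stalk (f x)) _,
    fun _ => WE24.weaklyEtale_of_algHom Γ(Y, V) _ _⟩


open AlgebraicGeometry CategoryTheory Limits in
/-- A morphism of schemes f : X → Y is weakly étale (flat with flat diagonal) if and only if for every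
point x of X the local ring map O_{Y, f(x)} → O_{X, x} is weakly étale, that is, flat and with flat
multiplication map O_{X,x} ⊗_{O_{Y, f(x)}} O_{X,x} → O_{X,x}. -/
theorem result {X Y : Scheme.{u}} (f : X ⟶ Y) :
    WeaklyEtale f ↔ ∀ x : X, (f.stalkMap x).hom.Flat ∧
      (letI := (f.stalkMap x).hom.toAlgebra
       (Algebra.TensorProduct.lmul' (S := ↑(X.presheaf.stalk x)) (↑(Y.presheaf.stalk (f x)))).toRingHom.Flat) := by
  constructor
  · intro hf x
    refine ⟨Flat.stalkMap f x, ?_⟩
    letI := (f.stalkMap x).hom.toAlgebra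
    obtain ⟨_, ⟨V, hV, rfl⟩, hxV, -⟩ := Y.isBasis_affineOpens.exists_subset_of_mem_open (Set.mem_univ (f x)) isOpen_univ
    obtain ⟨_, ⟨U, hU, rfl⟩, hxU, e⟩ := X.isBasis_affineOpens.exists_subset_of_mem_open hxV (f ⁻¹ᵁ V).isOpen
    letI := (f.appLE V U e).hom.toAlgebra
    have h1 : Algebra.WeaklyEtale Γ(Y, V) Γ(X, U) :=
      (weaklyEtale_specMap_iff _ _).mp ((FlatMor67.resLE_iff_specMap @WeaklyEtale f hU hV e).mp inferInstance)
    have := WE91.weaklyEtale_of_isLocalization Γ(X, U) (Localization.AtPrime (hU.primeIdealOf ⟨x, hxU⟩).asIdeal)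
      (hU.primeIdealOf ⟨x, hxU⟩).asIdeal.primeCompl
    exact ((weaklyEtale_stalk_iff f U V hU hV e x hxU).mpr (Algebra.WeaklyEtale.trans _ Γ(X, U) _)).flat_lmul'
  · intro h
    have : Flat f := Flat.of_stalkMap f fun x => (h x).1
    have hc : ∀ x : X, ∃ (V : Y.Opens) (U : X.Opens), IsAffineOpen V ∧ IsAffineOpen U ∧ x ∈ U ∧ U ≤ f ⁻¹ᵁ V := fun x => by
      obtain ⟨_, ⟨V, hV, rfl⟩, hxV, -⟩ := Y.isBasis_affineOpens.exists_subset_of_mem_open (Set.mem_univ (f x)) isOpen_univ
      obtain ⟨_, ⟨U, hU, rfl⟩, hxU, e⟩ := X.isBasis_affineOpens.exists_subset_of_mem_open hxV (f ⁻¹ᵁ V).isOpen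
      exact ⟨V, U, hV, hU, hxU, e⟩
    choose V' U' hV' hU' hxU he using hc
    refine IsZariskiLocalAtSource.of_iSup_eq_top (P := @WeaklyEtale) U'
      (eq_top_iff.mpr fun x _ => TopologicalSpace.Opens.mem_iSup.mpr ⟨x, ?_⟩) fun i => ?_
    · exact hxU x
    · have e := he i
      rw [← Scheme.Hom.resLE_comp_ι f e]
      have : WeaklyEtale (f.resLE (V' i) (U' i) e) := by
        refine (FlatMor67.resLE_iff_specMap @WeaklyEtale f (hU' i) (hV' i) e).mpr ?_
        letI := (f.appLE (V' i) (U' i) e).hom.toAlgebra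
        refine (weaklyEtale_specMap_iff Γ(Y, V' i) Γ(X, U' i)).mpr ?_
        have : Module.Flat Γ(Y, V' i) Γ(X, U' i) :=
          HasRingHomProperty.appLE (P := @Flat) f inferInstance ⟨_, hV' i⟩ ⟨_, hU' i⟩ e
        refine weaklyEtale_of_localRings _ _ fun q _ => ?_
        let z : PrimeSpectrum Γ(X, U' i) := ⟨q, inferInstance⟩
        have hz : (hU' i).fromSpec z ∈ U' i := by
          have := Set.mem_range_self (f := (hU' i).fromSpec) z
          rwa [(hU' i).range_fromSpec] at this
        letI := (f.stalkMap ((hU' i).fromSpec z)).hom.toAlgebra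
        have := (weaklyEtale_stalk_iff f (U' i) (V' i) (hU' i) (hV' i) e _ hz).mp
          { flat := (h _).1, flat_lmul' := (h _).2 }
        have ez : IsAffineOpen.primeIdealOf (hU' i) ⟨_, hz⟩ = z :=
          (IsAffineOpen.fromSpec (hU' i)).injective (IsAffineOpen.fromSpec_primeIdealOf (hU' i) ⟨_, hz⟩)
        rwa [ez] at this
      infer_instance

end Groth.Agent.S1412
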