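import Groth.Statements.S14122
import Mathlib.LinearAlgebra.FreeModule.PID
import Mathlib.RingTheory.Localization.Module
import Mathlib.GroupTheory.OrderOfElement
import Mathlib.LinearAlgebra.Matrix.Basis

set_option autoImplicit false
universe u
open ValCrit

namespace Groth.Agent.S14122

/-- Let `R` be a discrete valuation ring with fraction field `K` and `g ∈ GL_N(K)` an element of finite
order. Then after passing to a finite extension `K'` of `K` and a discrete valuation ring `R'` of
`K'` dominating `R`, the element `g` becomes conjugate in `GL_N(K')` to an element of `GL_N(R')`.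
(The published statement is that the classifying stack of `GL_N` over the integers satisfies a
valuative condition, for discrete valuation rings essentially of finite type over the integers, on
extending finite-order generic automorphisms along nearby modifications; since vector bundles over a
discrete valuation ring are trivial, that condition is this conjugacy statement for such rings, and
this row states it for every discrete valuation ring, as the printed argument gives.) -/
theorem result
    (R : Type u) [CommRing R] [IsDomain R] [IsDiscreteValuationRing R]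
    (K : Type u) [Field K] [Algebra R K] [IsFractionRing R K]
    (N : ℕ) (g : GL (Fin N) K) (hg : IsOfFinOrder g) :
    ∃ (R' : Type u) (_ : CommRing R') (_ : IsDomain R') (_ : IsDiscreteValuationRing R')
      (K' : Type u) (_ : Field K') (_ : Algebra R' K') (_ : IsFractionRing R' K')
      (_ : Algebra R R') (_ : Algebra K K') (_ : Algebra R K')
      (_ : IsScalarTower R R' K') (_ : IsScalarTower R K K')
      (_ : Module.Finite K K') (_ : IsLocalHom (algebraMap R R'))
      (h : GL (Fin N) K') (g' : GL (Fin N) R'),
      h * Matrix.GeneralLinearGroup.map (algebraMap K K') g * h⁻¹ =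
        Matrix.GeneralLinearGroup.map (algebraMap R' K') g' := by
  open scoped Matrix in
    classical
    obtain ⟨m, hm, hgm⟩ := isOfFinOrder_iff_pow_eq_one.mp hg
    let G : Matrix (Fin N) (Fin N) K := g.val
    have hGm : G ^ m = 1 := by
      simp only [G, ← Units.val_pow_eq_pow_val, hgm, Units.val_one]
    let gens : Fin m × Fin N → (Fin N → K) := fun ij => (G ^ (ij.1 : ℕ)) *ᵥ Pi.single ij.2 1
    let L : Submodule R (Fin N → K) := Submodule.span R (Set.range gens)
    have hLfg : L.FG := ⟨Finset.univ.image gens, by simp [L]⟩
    haveI : Module.Finite R L := Module.Finite.iff_fg.mpr hLfg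
    haveI : Module.IsTorsionFree R L := inferInstance
    haveI : Module.Free R L := inferInstance
    let b₀ := Module.Free.chooseBasis R L
    let ι := Module.Free.ChooseBasisIndex R L
    have hli : LinearIndependent K (fun i : ι => (b₀ i : Fin N → K)) :=
      LinearIndependent.iff_fractionRing (R := R) (K := K) |>.mp
        (b₀.linearIndependent.map' L.subtype L.ker_subtype)
    have hsp : ⊤ ≤ Submodule.span K (Set.range fun i : ι => (b₀ i : Fin N → K)) := by
      rw [← (Pi.basisFun K (Fin N)).span_eq, Submodule.span_le]
      rintro _ ⟨j, rfl⟩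
      have hj : (Pi.single j 1 : Fin N → K) ∈ L := by
        refine Submodule.subset_span ⟨(⟨0, hm⟩, j), ?_⟩
        simp [gens, Matrix.mulVec_single_one, ← Matrix.diagonal_one]
      have h1 := b₀.sum_repr ⟨_, hj⟩
      rw [Pi.basisFun_apply, SetLike.mem_coe, show (Pi.single j 1 : Fin N → K) =
        ((⟨_, hj⟩ : L) : Fin N → K) from rfl, ← h1, Submodule.coe_sum]
      refine Submodule.sum_mem _ fun i _ => ?_
      rw [Submodule.coe_smul, ← algebraMap_smul K (b₀.repr ⟨_, hj⟩ i)]
      exact Submodule.smul_mem _ _ (Submodule.subset_span ⟨i, rfl⟩)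
    let bK₀ := Module.Basis.mk hli hsp
    let eι : ι ≃ Fin N := bK₀.indexEquiv (Pi.basisFun K (Fin N))
    let bR := b₀.reindex eι
    let bK := bK₀.reindex eι
    have hbK : ∀ j, bK j = (bR j : Fin N → K) := fun j => by simp [bK, bR, bK₀]
    have hstab : ∀ x ∈ L, ∀ k : ℕ, (G ^ k) *ᵥ x ∈ L := by
      intro x hx k
      induction hx using Submodule.span_induction with
      | mem y hy =>
        obtain ⟨⟨i, j⟩, rfl⟩ := hy
        refine Submodule.subset_span ⟨(⟨(k + i) % m, Nat.mod_lt _ hm⟩, j), ?_⟩
        simp only [gens, Matrix.mulVec_mulVec, ← pow_add]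
        rw [← pow_eq_pow_mod (k + i) hGm]
      | zero => simp
      | add y z _ _ hy hz => rw [Matrix.mulVec_add]; exact add_mem hy hz
      | smul c y _ hy => rw [Matrix.mulVec_smul]; exact L.smul_mem c hy
    let P : Matrix (Fin N) (Fin N) K := (Pi.basisFun K (Fin N)).toMatrix bK
    let Q : Matrix (Fin N) (Fin N) K := bK.toMatrix (Pi.basisFun K (Fin N))
    have hPQ : P * Q = 1 := Module.Basis.toMatrix_mul_toMatrix_flip _ _
    have hQP : Q * P = 1 := Module.Basis.toMatrix_mul_toMatrix_flip _ _
    let T : ℕ → Matrix (Fin N) (Fin N) R := fun k =>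
      Matrix.of fun i j => bR.repr ⟨(G ^ k) *ᵥ (bR j : Fin N → K), hstab _ (bR j).2 k⟩ i
    have hT : ∀ k, (T k).map (algebraMap R K) = Q * G ^ k * P := by
      intro k
      have h1 : ∀ j, (fun i => P i j) = bK j := fun j => by
        funext i
        simp [P, Module.Basis.toMatrix_apply]
      have h2 : P * (T k).map (algebraMap R K) = G ^ k * P := by
        ext i j
        have h3 := congrArg (fun y : L => (y : Fin N → K) i)
          (bR.sum_repr ⟨(G ^ k) *ᵥ (bR j : Fin N → K), hstab _ (bR j).2 k⟩)
        simp only [Submodule.coe_sum, Finset.sum_apply, Submodule.coe_smul, Pi.smul_apply] at h3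
        simp only [Matrix.mul_apply, Matrix.map_apply, T, Matrix.of_apply]
        refine Eq.trans ?_ (h3.trans ?_)
        · refine Finset.sum_congr rfl fun l _ => ?_
          rw [show P i l = (bR l : Fin N → K) i by rw [← hbK, ← h1], Algebra.smul_def, mul_comm]
        · simp only [Matrix.mulVec, dotProduct]
          refine Finset.sum_congr rfl fun l _ => ?_
          rw [show P l j = (bR j : Fin N → K) l by rw [← hbK, ← h1]]
      calc (T k).map (algebraMap R K) = Q * P * (T k).map (algebraMap R K) := by rw [hQP, Matrix.one_mul]
        _ = Q * G ^ k * P := by rw [Matrix.mul_assoc, h2, ← Matrix.mul_assoc]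
    have hinj : Function.Injective (fun M : Matrix (Fin N) (Fin N) R => M.map (algebraMap R K)) :=
      Matrix.map_injective (IsFractionRing.injective R K)
    have hmul : ∀ a b, a + b = m → T a * T b = 1 := fun a b hab => hinj (by
      simp only [Matrix.map_mul, hT]
      rw [Matrix.map_one _ (map_zero _) (map_one _)]
      calc Q * G ^ a * P * (Q * G ^ b * P) = Q * G ^ a * (P * Q) * G ^ b * P := by
            simp only [Matrix.mul_assoc]
        _ = Q * (G ^ a * G ^ b) * P := by rw [hPQ, Matrix.mul_one]; simp only [Matrix.mul_assoc]
        _ = 1 := by rw [← pow_add, hab, hGm, Matrix.mul_one, hQP])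
    let g' : GL (Fin N) R := ⟨T 1, T (m - 1), hmul 1 (m - 1) (by omega), hmul (m - 1) 1 (by omega)⟩
    let h : GL (Fin N) K := ⟨Q, P, hQP, hPQ⟩
    refine ⟨R, inferInstance, inferInstance, inferInstance, K, inferInstance, inferInstance, inferInstance,
      Algebra.id R, Algebra.id K, inferInstance, inferInstance, inferInstance, inferInstance,
      ⟨fun a ha => ha⟩, h, g', ?_⟩
    refine Units.ext ?_
    change Q * G.map (algebraMap K K) * P = (T 1).map (algebraMap R K)
    rw [hT, pow_one]
    congr 2

end Groth.Agent.S14122
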