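import Groth.Statements.S14123
import Groth.Agent.Ram24.AdjoinDVR
-- import your own Groth.Agent.* helpers here

set_option autoImplicit false
universe u v
open GmQuot

namespace Groth.Agent.S14123

/-- Let `A = ⊕_{d ∈ ℤ} A_d` be a graded commutative ring whose ideal `I₊` generated by the homogeneous
elements of positive degree is finitely generated, `R` a discrete valuation ring with fraction field
`K`, and `φ : A → R` a ring map with `φ(I₊) ≠ 0` and `φ(I₊)` inside the maximal ideal. Then after a
finite extension `K'/K` and a discrete valuation ring `R'` of `K'` dominating `R` there are a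
nonzero non-unit `ϖ ∈ R'` and a ring map `g : A → R'` with `g(a) ϖ^d = φ(a)` for every homogeneous
`a` of degree `d` (so `g` is `φ` rescaled through the grading by `ϖ`), such that `g(I₊) R' = R'`.
(The published statement is phrased for the quotient stack of `Spec A` by the multiplicative group
and its closed substack cut out by `I₊`, in a setting where `A` is Noetherian, being of finite type
over a Noetherian base: an `R`-point whose closed point lies in that substack and whose generic
point does not admits, after a finite extension, an elementary modification avoiding the substack;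
this row is the graded-ring statement the printed argument proves, assuming only that `I₊` is
finitely generated, which is all that argument uses, and with `ϖ` not required to be a uniformizer.) -/
theorem result
    {A : Type u} [CommRing A] (𝒜 : ℤ → AddSubgroup A) [GradedRing 𝒜]
    (hfg : (Ideal.span {a : A | ∃ d : ℤ, 0 < d ∧ a ∈ 𝒜 d}).FG)
    (R : Type v) [CommRing R] [IsDomain R] [IsDiscreteValuationRing R]
    (K : Type v) [Field K] [Algebra R K] [IsFractionRing R K]
    (φ : A →+* R)
    (hle : Ideal.map φ (Ideal.span {a : A | ∃ d : ℤ, 0 < d ∧ a ∈ 𝒜 d}) ≤ IsLocalRing.maximalIdeal R)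
    (hne : Ideal.map φ (Ideal.span {a : A | ∃ d : ℤ, 0 < d ∧ a ∈ 𝒜 d}) ≠ ⊥) :
    ∃ (R' : Type v) (_ : CommRing R') (_ : IsDomain R') (_ : IsDiscreteValuationRing R')
      (K' : Type v) (_ : Field K') (_ : Algebra R' K') (_ : IsFractionRing R' K')
      (_ : Algebra R R') (_ : Algebra K K') (_ : Algebra R K')
      (_ : IsScalarTower R R' K') (_ : IsScalarTower R K K')
      (_ : Module.Finite K K') (_ : IsLocalHom (algebraMap R R'))
      (ϖ : R') (g : A →+* R'),
      ϖ ≠ 0 ∧ ϖ ∈ IsLocalRing.maximalIdeal R' ∧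
      (∀ (d : ℤ) (a : A), a ∈ 𝒜 d →
        algebraMap R' K' (g a) * algebraMap R' K' ϖ ^ d = algebraMap R K' (φ a)) ∧
      Ideal.map g (Ideal.span {a : A | ∃ d : ℤ, 0 < d ∧ a ∈ 𝒜 d}) = ⊤ := by
  classical
  obtain ⟨π, hπ⟩ := IsDiscreteValuationRing.exists_irreducible R
  have hmax : IsLocalRing.maximalIdeal R = Ideal.span {π} := hπ.maximalIdeal_eq
  obtain ⟨s, hs, hspan⟩ := Submodule.fg_span_iff_fg_span_finset_subset _ |>.1 hfg
  have hspan' : Ideal.span {a : A | ∃ d : ℤ, 0 < d ∧ a ∈ 𝒜 d} = Ideal.span (s : Set A) := hspan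
  choose dg hdg hmem using fun x : {x // x ∈ s} => hs x.2
  have hval : ∀ x : {x // x ∈ s}, φ x.1 ≠ 0 → ∃ n : ℕ, 0 < n ∧ ∃ u : Rˣ, φ x.1 = u * π ^ n := fun x hx => by
    obtain ⟨n, u, hu⟩ := IsDiscreteValuationRing.eq_unit_mul_pow_irreducible hx hπ
    refine ⟨n, Nat.pos_of_ne_zero fun hn => ?_, u, hu⟩
    have h1 : φ x.1 ∈ IsLocalRing.maximalIdeal R :=
      hle (Ideal.mem_map_of_mem _ (Ideal.subset_span (hs x.2)))
    rw [hu, hn, pow_zero, mul_one] at h1
    exact (IsLocalRing.mem_maximalIdeal _).1 h1 u.isUnit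
  let T : Finset {x // x ∈ s} := Finset.univ.filter fun x => φ x.1 ≠ 0
  have hT : T.Nonempty := by
    by_contra h
    refine hne ?_
    rw [hspan', Ideal.map_span, Ideal.span_eq_bot]
    rintro _ ⟨x, hx, rfl⟩
    by_contra h0
    exact h ⟨⟨x, hx⟩, Finset.mem_filter.2 ⟨Finset.mem_univ _, h0⟩⟩
  choose! nv hnv uv huv using hval
  let D : ℕ := ∏ x : {x // x ∈ s}, (dg x).toNat
  have hd1 : ∀ x, 0 < (dg x).toNat := fun x => by have := hdg x; omega
  have hD : 0 < D := Finset.prod_pos fun x _ => hd1 x
  have hdvd : ∀ x, (dg x).toNat ∣ D := fun x => Finset.dvd_prod_of_mem _ (Finset.mem_univ x)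
  let ev : {x // x ∈ s} → ℕ := fun x => D / (dg x).toNat * nv x
  obtain ⟨x₀, hx₀, hmin⟩ := T.exists_min_image ev hT
  let e : ℕ := ev x₀
  have hx₀' : φ x₀.1 ≠ 0 := (Finset.mem_filter.1 hx₀).2
  have he : 0 < e := Nat.mul_pos (Nat.div_pos (Nat.le_of_dvd hD (hdvd x₀)) (hd1 x₀)) (hnv x₀ hx₀')
  -- the ramified extension
  let f : Polynomial R := Polynomial.X ^ D - Polynomial.C π
  have hf : f.Monic := Polynomial.monic_X_pow_sub_C π hD.ne'
  have hfd : f.natDegree = D := Polynomial.natDegree_X_pow_sub_C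
  have hlow : ∀ i < f.natDegree, f.coeff i ∈ IsLocalRing.maximalIdeal R := fun i hi => by
    rw [hfd] at hi
    rw [hmax, Ideal.mem_span_singleton]
    simp only [f, Polynomial.coeff_sub, Polynomial.coeff_X_pow, if_neg hi.ne, Polynomial.coeff_C, zero_sub, dvd_neg]
    split_ifs <;> simp
  have h0 : IsLocalRing.maximalIdeal R = Ideal.span {f.coeff 0} := by
    rw [hmax]
    simp [f, Polynomial.coeff_X_pow, hD.ne, Ideal.span_singleton_neg]
  obtain ⟨hdom, hdvr, hmax'⟩ := Ram24.dvr_of_eisenstein hf (hfd ▸ hD) hlow h0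
  let R' := AdjoinRoot f
  haveI : Module.Finite R R' := hf.finite_adjoinRoot
  have hinj : Function.Injective (algebraMap R R') := Ram24.algebraMap_adjoinRoot_injective hf (hfd ▸ hD)
  haveI : FaithfulSMul R R' := (faithfulSMul_iff_algebraMap_injective R R').2 hinj
  let K' := FractionRing R'
  letI : Algebra K K' := (IsFractionRing.lift (K := K) (g := algebraMap R K')
    ((IsFractionRing.injective R' K').comp hinj)).toAlgebra
  haveI : IsScalarTower R K K' := IsScalarTower.of_algebraMap_eq fun x =>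
    (IsFractionRing.lift_algebraMap _ x).symm
  haveI : Algebra.IsAlgebraic K K' := isAlgebraic_of_isFractionRing R R' K K'
  haveI : IsIntegrallyClosed R' := inferInstance
  haveI : IsIntegralClosure R' R K' := IsIntegralClosure.of_isIntegrallyClosed _ _ _
  haveI : IsLocalization (Algebra.algebraMapSubmonoid R' (nonZeroDivisors R)) K' :=
    IsIntegralClosure.isLocalization _ K _ _
  haveI : Module.Finite K K' := Module.Finite.of_isLocalization R R' (nonZeroDivisors R)
  let t : R' := AdjoinRoot.root f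
  have ht : t ^ D = algebraMap R R' π := by
    have := AdjoinRoot.eval₂_root f
    show AdjoinRoot.root f ^ D = AdjoinRoot.of f π
    rw [Polynomial.eval₂_sub, Polynomial.eval₂_X_pow, Polynomial.eval₂_C, sub_eq_zero] at this
    exact this
  have ht0 : t ≠ 0 := fun h => hπ.ne_zero (hinj (by rw [map_zero, ← ht, h, zero_pow hD.ne']))
  haveI : IsLocalHom (algebraMap R R') := ⟨fun a ha => (IsLocalRing.notMem_maximalIdeal).1 fun hm => by
    rw [hmax, Ideal.mem_span_singleton] at hm
    obtain ⟨c, rfl⟩ := hm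
    rw [map_mul, ← ht] at ha
    have h1 : t ∈ IsLocalRing.maximalIdeal R' := hmax' ▸ Ideal.mem_span_singleton_self _
    exact (IsLocalRing.mem_maximalIdeal _).1 h1 ((isUnit_pow_iff hD.ne').1 (isUnit_of_mul_isUnit_left ha))⟩
  let ϖ : R' := t ^ e
  have hϖ0 : algebraMap R' K' ϖ ≠ 0 := fun h => pow_ne_zero e ht0 (IsFractionRing.injective R' K' (by rw [h, map_zero]))
  let w := algebraMap R' K' ϖ
  let ψ : A →+* K' := (algebraMap R K').comp φ
  have hψ : ∀ a, ψ a = algebraMap R' K' (algebraMap R R' (φ a)) := fun a =>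
    IsScalarTower.algebraMap_apply R R' K' (φ a)
  -- the values on the generators are integral
  have hgen : ∀ x : {x // x ∈ s}, ∃ r : R', algebraMap R' K' r * w ^ dg x = ψ x.1 := fun x => by
    by_cases hx : φ x.1 = 0
    · exact ⟨0, by simp [hψ, hx]⟩
    have hle' : e * (dg x).toNat ≤ D * nv x := by
      calc e * (dg x).toNat ≤ ev x * (dg x).toNat :=
            Nat.mul_le_mul_right _ (hmin x (Finset.mem_filter.2 ⟨Finset.mem_univ _, hx⟩))
        _ = D * nv x := by rw [mul_right_comm, Nat.div_mul_cancel (hdvd x)]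
    refine ⟨algebraMap R R' (uv x) * t ^ (D * nv x - e * (dg x).toNat), ?_⟩
    rw [hψ, huv x hx, map_mul (algebraMap R R'), map_pow (algebraMap R R'), ← ht, ← pow_mul, show dg x = ((dg x).toNat : ℤ) from
      (Int.toNat_of_nonneg (hdg x).le).symm, zpow_natCast, ← map_pow (algebraMap R' K'), ← map_mul, mul_assoc,
      show ϖ ^ (dg x).toNat = t ^ (e * (dg x).toNat) from (pow_mul t e _).symm, Int.toNat_natCast, ← pow_add,
      Nat.sub_add_cancel hle']
  have hnonpos : ∀ (j : ℤ) (c : A), j ≤ 0 → ∃ r : R', algebraMap R' K' r * w ^ j = ψ c := fun j c hj => by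
    refine ⟨algebraMap R R' (φ c) * ϖ ^ (-j).toNat, ?_⟩
    rw [map_mul, map_pow, ← zpow_natCast, Int.toNat_of_nonneg (by omega), mul_assoc, ← zpow_add₀ hϖ0,
      neg_add_cancel, zpow_zero, mul_one, hψ]
  have hint : ∀ (N : ℕ) (d : ℤ), d.toNat ≤ N → ∀ a ∈ 𝒜 d, ∃ r : R', algebraMap R' K' r * w ^ d = ψ a := by
    intro N
    induction N with
    | zero => exact fun d hd a _ => hnonpos d a (by omega)
    | succ N ih =>
      intro d hd a ha
      rcases le_or_gt d 0 with h | h
      · exact hnonpos d a h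
      have haI : a ∈ Ideal.span (Set.range fun x : {x // x ∈ s} => x.1) := by
        rw [show Set.range (fun x : {x // x ∈ s} => x.1) = (s : Set A) from Subtype.range_coe_subtype, ← hspan']
        exact Ideal.subset_span ⟨d, h, ha⟩
      obtain ⟨c, hc⟩ := Finsupp.mem_span_range_iff_exists_finsupp.1 haI
      have hproj : a = ∑ x ∈ c.support, (DirectSum.decompose 𝒜 (c x) (d - dg x) : A) * x.1 := by
        calc a = (DirectSum.decompose 𝒜 a d : A) := (DirectSum.decompose_of_mem_same 𝒜 ha).symm
          _ = _ := by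
            conv_lhs => rw [← hc, Finsupp.sum, DirectSum.decompose_sum, DFinsupp.finsetSum_apply,
              AddSubmonoidClass.coe_finsetSum]
            refine Finset.sum_congr rfl fun x _ => ?_
            conv_lhs => rw [smul_eq_mul, show d = d - dg x + dg x from (sub_add_cancel d _).symm]
            rw [DirectSum.coe_decompose_mul_add_of_right_mem 𝒜 (hmem x)]
      have hterm : ∀ x : {x // x ∈ s}, ∃ r : R',
          algebraMap R' K' r * w ^ d = ψ ((DirectSum.decompose 𝒜 (c x) (d - dg x) : A) * x.1) := fun x => by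
        obtain ⟨r₁, h₁⟩ := ih (d - dg x) (by have := hdg x; omega) _ (DirectSum.decompose 𝒜 (c x) (d - dg x)).2
        obtain ⟨r₂, h₂⟩ := hgen x
        refine ⟨r₁ * r₂, ?_⟩
        conv_lhs => rw [← sub_add_cancel d (dg x), zpow_add₀ hϖ0, map_mul]
        rw [map_mul ψ, ← h₁, ← h₂]
        ring
      choose r hr using hterm
      refine ⟨∑ x ∈ c.support, r x, ?_⟩
      conv_rhs => rw [hproj]
      rw [map_sum, map_sum, Finset.sum_mul]
      exact Finset.sum_congr rfl fun x _ => hr x
  choose G hG using fun (d : ℤ) (a : 𝒜 d) => hint d.toNat d le_rfl a.1 a.2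
  have hcan : ∀ (d : ℤ) (x y : R'), algebraMap R' K' x * w ^ d = algebraMap R' K' y * w ^ d → x = y := fun d x y h =>
    IsFractionRing.injective R' K' (mul_right_cancel₀ (zpow_ne_zero d hϖ0) h)
  let Gd : ∀ d : ℤ, 𝒜 d →+ R' := fun d =>
    { toFun := G d
      map_zero' := hcan d _ _ (by rw [hG, map_zero (algebraMap R' K'), zero_mul, AddSubgroup.coe_zero, map_zero])
      map_add' := fun a b => hcan d _ _ (by rw [hG, map_add (algebraMap R' K'), add_mul, hG, hG, AddSubgroup.coe_add, map_add]) }
  let gd : DirectSum ℤ (fun d => 𝒜 d) →+* R' := DirectSum.toSemiring Gd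
    (hcan 0 _ _ (by
      show algebraMap R' K' (G 0 _) * w ^ (0 : ℤ) = _
      rw [hG, map_one (algebraMap R' K'), one_mul, zpow_zero]
      exact map_one ψ))
    (fun {i j} ai aj => hcan (i + j) _ _ (by
      show algebraMap R' K' (G (i + j) _) * w ^ (i + j) = algebraMap R' K' (G i ai * G j aj) * w ^ (i + j)
      rw [hG, map_mul (algebraMap R' K'), zpow_add₀ hϖ0, mul_mul_mul_comm, hG, hG, ← map_mul]
      rfl))
  let g : A →+* R' := gd.comp (DirectSum.decomposeRingEquiv 𝒜).toRingHom
  have hg : ∀ (d : ℤ) (a : A), a ∈ 𝒜 d → algebraMap R' K' (g a) * w ^ d = ψ a := fun d a ha => by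
    show algebraMap R' K' (gd (DirectSum.decompose 𝒜 a)) * _ = _
    rw [DirectSum.decompose_of_mem 𝒜 ha, DirectSum.toSemiring_of]
    exact hG d ⟨a, ha⟩
  refine ⟨R', inferInstance, hdom, hdvr, K', inferInstance, inferInstance, inferInstance, inferInstance,
    inferInstance, inferInstance, inferInstance, inferInstance, inferInstance, inferInstance, ϖ, g,
    pow_ne_zero e ht0, ?_, hg, ?_⟩
  · exact Ideal.pow_mem_of_mem _ (hmax' ▸ Ideal.mem_span_singleton_self _) e he
  · refine Ideal.eq_top_of_isUnit_mem _ (Ideal.mem_map_of_mem g (Ideal.subset_span (hs x₀.2))) ?_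
    have h1 : algebraMap R R' (uv x₀) = g x₀.1 := by
      refine hcan (dg x₀) _ _ ?_
      rw [hg _ _ (hmem x₀), hψ, huv x₀ hx₀', map_mul (algebraMap R R'), map_pow (algebraMap R R'), ← ht, ← pow_mul,
        show dg x₀ = ((dg x₀).toNat : ℤ) from (Int.toNat_of_nonneg (hdg x₀).le).symm, zpow_natCast,
        ← map_pow (algebraMap R' K'), ← map_mul, show ϖ ^ (dg x₀).toNat = t ^ (e * (dg x₀).toNat) from (pow_mul t e _).symm,
        show e * (dg x₀).toNat = D * nv x₀ by
          show D / (dg x₀).toNat * nv x₀ * (dg x₀).toNat = _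
          rw [mul_right_comm, Nat.div_mul_cancel (hdvd x₀)]]
    rw [← h1]
    exact (uv x₀).isUnit.map _

end Groth.Agent.S14123
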