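import Groth.Statements.S14128
import Groth.Agent.LA18.FreeComplex
import Groth.Agent.Gor18.Regular


set_option autoImplicit false
universe u
open CategoryTheory CategoryTheory.Limits
open LocAlg

namespace Groth.Agent.S14128

/-- Let R be a regular local ring of Krull dimension g and M = (M^0 → M^1 → ⋯ → M^g) a perfect complex
over R, here a cochain complex of finitely generated free R-modules indexed by ℕ with M^i = 0 for i
> g, such that every cohomology module H^i(M) has finite length. Then H^i(M) = 0 for all i < g, so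
that M has cohomology at most in degree g. -/
theorem result (R : Type u) [CommRing R]
    [IsRegularLocalRing R] (g : ℕ) (hg : ringKrullDim R = g) (M : CochainComplex (ModuleCat.{u} R) ℕ)
    (hbd : ∀ i, g < i → IsZero (M.X i)) (hfree : ∀ i, Module.Free R (M.X i) ∧ Module.Finite R (M.X i))
    (hfl : ∀ i, IsFiniteLength R (M.homology i)) (i : ℕ) (hi : i < g) :
    IsZero (M.homology i) := by
  haveI := Gor18.regular_gor R
  haveI := Gor18.gor_cm R
  classical
  let d : ∀ i, (M.X i : Type u) →ₗ[R] (M.X (i + 1) : Type u) := fun i => (M.d i (i + 1)).hom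
  have hfree' : ∀ i, Module.Free R (M.X i : Type u) := fun i => (hfree i).1
  have hdd : ∀ i v, d (i + 1) (d i v) = 0 := fun i v => by
    have := M.d_comp_d i (i + 1) (i + 1 + 1)
    exact congrArg (fun φ => φ.hom v) this
  have hNi : ∀ i, ∃ N : ℕ, ∀ a ∈ IsLocalRing.maximalIdeal R, ∀ x : M.homology i, a ^ N • x = 0 :=
    fun i => LA18.exists_pow_smul_eq_zero (hfl i)
  choose Ni hNi using hNi
  let N := (Finset.range g).sum Ni
  have hN' : ∀ i < g, ∀ a ∈ IsLocalRing.maximalIdeal R, ∀ x : M.homology i, a ^ N • x = 0 := by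
    intro i hi a ha x
    show a ^ (Finset.range g).sum Ni • x = 0
    rw [← Nat.sub_add_cancel (Finset.single_le_sum (f := Ni) (fun _ _ => Nat.zero_le _)
      (Finset.mem_range.2 hi)), pow_add, mul_smul, hNi i a ha x, smul_zero]
  have hsucc : ∀ i, (ComplexShape.up ℕ).next i = i + 1 := fun i => by simp
  have key := LA18.cycle_eq_boundary g hg (fun i => (M.X i : Type u)) d hdd (N + 1)
    (fun a ha i z hz hi => by
      let e := (ShortComplex.homologyMapIso (M.isoSc' i (i + 1) (i + 1 + 1) (by simp) (hsucc _)) ≪≫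
        (M.sc' i (i + 1) (i + 1 + 1)).moduleCatHomologyIso).toLinearEquiv
      let c : ↥(LinearMap.ker (M.sc' i (i + 1) (i + 1 + 1)).g.hom) := ⟨z, hz⟩
      have h := congrArg e (hN' _ hi a ha (e.symm (Submodule.Quotient.mk c)))
      erw [map_smul, LinearEquiv.apply_symm_apply, map_zero] at h
      replace h := (Submodule.Quotient.mk_eq_zero _).1 (h : Submodule.Quotient.mk (a ^ N • c) = 0)
      obtain ⟨w, hw⟩ := h
      refine ⟨a • (id w : (M.X i : Type u)), ?_⟩
      rw [map_smul, pow_succ', mul_smul]
      exact congrArg (a • ·) (congrArg Subtype.val hw))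
    (fun a ha z hz => by
      rcases Nat.eq_zero_or_pos g with rfl | hg0
      · exact absurd hi (Nat.not_lt_zero i)
      let e := (ShortComplex.homologyMapIso (M.isoSc' 0 0 1 (by simp) (hsucc _)) ≪≫
        (M.sc' 0 0 1).moduleCatHomologyIso).toLinearEquiv
      let c : ↥(LinearMap.ker (M.sc' 0 0 1).g.hom) := ⟨z, hz⟩
      have h := congrArg e (hN' 0 hg0 a ha (e.symm (Submodule.Quotient.mk c)))
      erw [map_smul, LinearEquiv.apply_symm_apply, map_zero] at h
      replace h := (Submodule.Quotient.mk_eq_zero _).1 (h : Submodule.Quotient.mk (a ^ N • c) = 0)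
      obtain ⟨w, hw⟩ := h
      have h0 : (M.d 0 0).hom w = 0 := by rw [M.shape 0 0 (by simp)]; rfl
      have h1 : a ^ N • z = 0 := (congrArg Subtype.val hw).symm.trans h0
      rw [pow_succ', mul_smul, h1, smul_zero])
  rcases i with _ | i
  · rw [← M.exactAt_iff_isZero_homology, M.exactAt_iff' 0 0 1 (by simp) (hsucc _),
      ShortComplex.moduleCat_exact_iff]
    intro z hz
    exact ⟨0, by rw [map_zero]; exact (key.1 z hz hi).symm⟩
  · rw [← M.exactAt_iff_isZero_homology,
      M.exactAt_iff' i (i + 1) (i + 1 + 1) (by simp) (hsucc _), ShortComplex.moduleCat_exact_iff]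
    intro z hz
    exact key.2 i z hz hi

end Groth.Agent.S14128
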