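import Groth.Statements.S14138
import Groth.Agent.VB30.Apply


set_option autoImplicit false
universe u
open CategoryTheory CategoryTheory.Limits AlgebraicGeometry
open VBCurve

namespace Groth.Agent.S14138
set_option backward.isDefEq.respectTransparency.types false

/-- Let C be a smooth proper geometrically connected curve over a field k (proper, smooth and
geometrically connected over k, of dimension one) of genus one, i.e. dim_k H^1(C, O_C) = 1, and E a
finite locally free O_C-module of rank r ≥ 1 which is indecomposable: E is nonzero and whenever E ≅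
E₁ ⊕ E₂ one of the summands is zero. Then E is semistable: for every finite locally free submodule G
of E of rank r' ≥ 1 one has deg G · r ≤ deg E · r', the degree of a rank-n locally free module being
χ(G) − n·χ(O_C). (The published statement is for an elliptic curve; its proof, that the
Harder–Narasimhan filtration splits, uses only genus one, so no rational point is assumed here.) -/
theorem result (k : Type u) [Field k] (X : Scheme.{u}) [X.Over (Spec (CommRingCat.of k))]
    [IsProper (X ↘ Spec (CommRingCat.of k))] [Smooth (X ↘ Spec (CommRingCat.of k))]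
    [GeometricallyConnected (X ↘ Spec (CommRingCat.of k))] (hdim : topologicalKrullDim ↥X = 1)
    (hg : Curv2.genus k X = 1)
    (r : ℕ) (hr : 0 < r) (E : X.Modules) (hE : FlatMod.IsFinLocFreeOfRank r E)
    (hind : ¬ IsZero E ∧ ∀ (E₁ E₂ : X.Modules), Nonempty (E ≅ E₁ ⊞ E₂) → IsZero E₁ ∨ IsZero E₂) :
    (∀ (G : X.Modules) (r' : ℕ) (i : G ⟶ E), Mono i → 0 < r' → FlatMod.IsFinLocFreeOfRank r' G →
      Curv2.deg k X G r' * (r : ℤ) ≤ Curv2.deg k X E r * (r' : ℤ)) := by
  have := VB30.isIntegral_of_geomConnected k X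
  have hS : CrvPic30.Setup k X := VB30.setup_of_geomConnected hdim
  have hc := VB30.cur_of_setup hS
  have lE := VB30.isFinLocFree_of_rank hE
  have eE := VB30.rk_eq_of_isFinLocFreeOfRank hE
  refine VB30.slope_of_ss hE ?_
  obtain ⟨E₁, i₁, hi₁, l₁, p₁, hmax, hrk⟩ := hc.exists_max lE (by omega)
  have lQ := hc.isFinLocFree_cokernel_of_max i₁ lE l₁ p₁ hmax
  have hcE := VB30.isCoh_of_isFinLocFree lE
  rcases Nat.eq_zero_or_pos (VB30.rk (cokernel i₁)) with z | z
  · intro G i hi h0 hG
    have b := hmax G i hi h0 hG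
    have hr' := (hc.rk_cokernel i₁ (VB30.isCoh_of_isFinLocFree l₁) hcE).1
    have hd' := (hc.rk_cokernel i₁ (VB30.isCoh_of_isFinLocFree l₁) hcE).2
    rw [hc.dg_of_rk_zero lQ z, add_zero] at hd'
    rw [z, add_zero] at hr'
    rwa [hr', hd']
  exfalso
  have hzero : ∀ φ : E₁ ⟶ cokernel i₁, φ = 0 := fun φ =>
    hc.hom_eq_zero l₁ lQ (hc.ss_of_max i₁ hmax)
      (fun G i hi h0 hG => hc.quot_slope_lt i₁ lE l₁ p₁ hmax hrk i hG h0) φ
  have h1 := VB30.h1_hom_subsingleton_genus_one hS hg l₁ lQ hzero
  have hsplit : IsSplitEpi (cokernel.π i₁) := hc.isSplitEpi_of_h1 (VB30.shortExact_cokernel i₁) lQ h1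
  let sp := ShortComplex.Splitting.ofExactOfSection
    (ShortComplex.mk i₁ (cokernel.π i₁) (cokernel.condition i₁)) (VB30.shortExact_cokernel i₁).exact
    (section_ (cokernel.π i₁)) (IsSplitEpi.id _) hi₁
  rcases hind.2 _ _ ⟨sp.isoBinaryBiproduct⟩ with h | h
  · have := VB30.rk_eq_zero_of_isZero h
    dsimp only at this
    omega
  · have := VB30.rk_eq_zero_of_isZero h
    dsimp only at this
    omega

end Groth.Agent.S14138
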