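import Groth.Statements.S14139
import Groth.Agent.VB30.Basic


set_option autoImplicit false
universe u
open CategoryTheory CategoryTheory.Limits AlgebraicGeometry
open VBCurve

namespace Groth.Agent.S14139
set_option backward.isDefEq.respectTransparency.types false

/-- Let C be a smooth proper geometrically connected curve over a field k (proper, smooth and
geometrically connected over k, of dimension one), and 0 → E₁ → E → E₂ → 0 a short exact sequence of
finite locally free O_C-modules of ranks r₁, r, r₂ ≥ 1 whose slopes are all equal: deg E₁ · r = deg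
E · r₁ and deg E₂ · r = deg E · r₂, the degree of a rank-n locally free module being χ − n·χ(O_C).
Then E is semistable (deg G · r ≤ deg E · r' for every finite locally free submodule G of E of rank
r' ≥ 1) if and only if both E₁ and E₂ are semistable in the same sense. -/
theorem result (k : Type u) [Field k] (X : Scheme.{u}) [X.Over (Spec (CommRingCat.of k))]
    [IsProper (X ↘ Spec (CommRingCat.of k))] [Smooth (X ↘ Spec (CommRingCat.of k))]
    [GeometricallyConnected (X ↘ Spec (CommRingCat.of k))] (hdim : topologicalKrullDim ↥X = 1)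
    (T : ShortComplex X.Modules) (hT : T.ShortExact)
    (r₁ r r₂ : ℕ) (hr₁ : 0 < r₁) (hr : 0 < r) (hr₂ : 0 < r₂)
    (hE₁ : FlatMod.IsFinLocFreeOfRank r₁ T.X₁) (hE : FlatMod.IsFinLocFreeOfRank r T.X₂) (hE₂ : FlatMod.IsFinLocFreeOfRank r₂ T.X₃)
    (hμ₁ : Curv2.deg k X T.X₁ r₁ * (r : ℤ) = Curv2.deg k X T.X₂ r * (r₁ : ℤ))
    (hμ₂ : Curv2.deg k X T.X₃ r₂ * (r : ℤ) = Curv2.deg k X T.X₂ r * (r₂ : ℤ)) :
    (∀ (G : X.Modules) (r' : ℕ) (i : G ⟶ T.X₂), Mono i → 0 < r' → FlatMod.IsFinLocFreeOfRank r' G →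
      Curv2.deg k X G r' * (r : ℤ) ≤ Curv2.deg k X T.X₂ r * (r' : ℤ)) ↔
      ((∀ (G : X.Modules) (r' : ℕ) (i : G ⟶ T.X₁), Mono i → 0 < r' → FlatMod.IsFinLocFreeOfRank r' G →
      Curv2.deg k X G r' * (r₁ : ℤ) ≤ Curv2.deg k X T.X₁ r₁ * (r' : ℤ)) ∧
       (∀ (G : X.Modules) (r' : ℕ) (i : G ⟶ T.X₃), Mono i → 0 < r' → FlatMod.IsFinLocFreeOfRank r' G →
      Curv2.deg k X G r' * (r₂ : ℤ) ≤ Curv2.deg k X T.X₃ r₂ * (r' : ℤ))) := by
  have := VB30.isIntegral_of_geomConnected k X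
  have hc := VB30.cur_of_smooth k X hdim
  have e1 := VB30.rk_eq_of_isFinLocFreeOfRank hE₁
  have e2 := VB30.rk_eq_of_isFinLocFreeOfRank hE
  have e3 := VB30.rk_eq_of_isFinLocFreeOfRank hE₂
  have key := hc.ss_extension_iff hT (VB30.isFinLocFree_of_rank hE₁) (VB30.isFinLocFree_of_rank hE)
    (VB30.isFinLocFree_of_rank hE₂) (by omega) (by omega)
    (by rw [e1, e2, ← VB30.deg_eq_dg hE₁, ← VB30.deg_eq_dg hE]; exact hμ₁)
    (by rw [e2, e3, ← VB30.deg_eq_dg hE₂, ← VB30.deg_eq_dg hE]; exact hμ₂)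
  constructor
  · intro hss
    obtain ⟨a, b⟩ := key.1 (VB30.ss_of_slope hE hss)
    exact ⟨VB30.slope_of_ss hE₁ a, VB30.slope_of_ss hE₂ b⟩
  · rintro ⟨a, b⟩
    exact VB30.slope_of_ss hE (key.2 ⟨VB30.ss_of_slope hE₁ a, VB30.ss_of_slope hE₂ b⟩)

end Groth.Agent.S14139
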