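import Groth.Statements.S1414
import Mathlib.AlgebraicGeometry.Morphisms.Etale

set_option autoImplicit false
universe u
open FlatMor

namespace Groth.Agent.S1414

open AlgebraicGeometry CategoryTheory Limits in
/-- Let f : X → Y and g : Y → Z with f ≫ g smooth and g étale. Then f is smooth. -/
theorem result {X Y Z : Scheme.{u}} (f : X ⟶ Y) (g : Y ⟶ Z) [Smooth (f ≫ g)] [Etale g] : Smooth f := by
  have : MorphismProperty.IsMultiplicative @Smooth.{u} := { id_mem := fun _ => inferInstance }
  have : MorphismProperty.HasOfPostcompProperty @Smooth @Etale :=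
    MorphismProperty.hasOfPostcompProperty_iff_le_diagonal.mpr fun _ _ u (hu : Etale u) => by
      change Smooth (pullback.diagonal u)
      infer_instance
  exact MorphismProperty.of_postcomp (W := @Smooth) (W' := @Etale) f g ‹Etale g› ‹Smooth (f ≫ g)›

end Groth.Agent.S1414
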