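import Groth.Agent.AbTI73.Mumford
import Groth.Agent.S18385
import Groth.Statements.S14140
-- import your own Groth.Agent.* helpers here

set_option autoImplicit false
universe u
open CategoryTheory CategoryTheory.Limits MonoidalCategory CartesianMonoidalCategory MonObj GrpObj AlgebraicGeometry
open AbVar

namespace Groth.Agent.S14140

/-- Let k be an algebraically closed field, A an abelian variety over k (a proper smooth k-group scheme
with geometrically connected fibres), L an ample invertible O_A-module with an inverse L' (L ⊗ L' ≅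
O_A), and M an invertible O_A-module in Pic⁰(A), meaning that t_x^*M ≅ M for every k-rational point
x of A, where t_x : A → A is the translation by x (the product of the identity and the constant map
x in the group Hom(A, A)). Then there is a k-rational point x of A with M ≅ t_x^*L ⊗ L'. -/
theorem result (k : Type u) [Field k] [IsAlgClosed k]
    (A : Over (Spec (CommRingCat.of k))) [GrpObj A] [IsProper A.hom] [Smooth A.hom] [GeometricallyConnected A.hom]
    (L L' : A.left.Modules) (hLa : CohB1.IsAmple L) (hLL' : Nonempty (CohB1.tensorMod L L' ≅ Coh.structureModule A.left))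
    (M : A.left.Modules) (hM : PicF.IsInvertible M)
    (hM0 : ∀ x : 𝟙_ (Over (Spec (CommRingCat.of k))) ⟶ A, Nonempty ((Scheme.Modules.pullback (𝟙 A * (toUnit A ≫ x)).left).obj M ≅ M)) :
    ∃ x : 𝟙_ (Over (Spec (CommRingCat.of k))) ⟶ A,
      Nonempty (M ≅ CohB1.tensorMod ((Scheme.Modules.pullback (𝟙 A * (toUnit A ≫ x)).left).obj L) L') := by
  have := S18385.geometricallyIntegral_field A.hom
  have hL : PicF.IsInvertible L := hLa.1
  obtain ⟨x, hx⟩ := AbTI73.exists_phi_eq (AbTI73.vanishingTI (A := A)) (AbTI73.finite_fixing hLa)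
    ((AbTI73.isTI_cls_iff hM).2 hM0)
  have hP : PicF.IsInvertible ((Scheme.Modules.pullback (𝟙 A * (toUnit A ≫ x)).left).obj L) :=
    PicLoc.isInvertible_pullback _ hL
  obtain ⟨N, hN, ⟨eN⟩⟩ := An92.InvMod.exists_inverse hL
  obtain ⟨e⟩ := hLL'
  -- `L'` is the inverse of `L`
  have eN' : L' ≅ N := (EGA73.tensUnitLeft L').symm ≪≫ PicGrp.tensorModIso eN.symm (Iso.refl L') ≪≫
    EGA73.tensAssoc' N L L' ≪≫ PicGrp.tensorModIso (Iso.refl N) e ≪≫ EGA73.tensUnitRight N
  have hinv : (PicGrp.cls L hL)⁻¹ = PicGrp.cls N hN := inv_eq_of_mul_eq_one_left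
    ((PicGrp.cls_mul_cls_eq_one_iff hN hL).2 ⟨eN⟩)
  have h : PicGrp.cls M hM = PicGrp.cls (CohB1.tensorMod _ N) (EGA73.isInvertible_tensorMod hP hN) := by
    rw [← AbTI73.cls_mul_cls' hP hN, ← hinv, ← hx, AbTI73.phi, AbSquare57.pb_cls, div_eq_mul_inv]
  obtain ⟨i⟩ := (PicGrp.cls_eq_cls_iff _ _).1 h
  exact ⟨x, ⟨i ≪≫ PicGrp.tensorModIso (Iso.refl _) eN'.symm⟩⟩

end Groth.Agent.S14140
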