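import Groth.Statements.S14143
import Groth.Agent.AbTI73.Mumford
import Groth.Agent.AbTI73.Bridge
import Groth.Agent.S18385
-- import your own Groth.Agent.* helpers here

set_option autoImplicit false
universe u
open CategoryTheory CategoryTheory.Limits MonoidalCategory CartesianMonoidalCategory MonObj GrpObj AlgebraicGeometry
open AbVar

namespace Groth.Agent.S14143

/-- Let k be an algebraically closed field, A an abelian variety over k (a proper smooth k-group scheme
with geometrically connected fibres), L an invertible O_A-module which is non-degenerate, i.e. only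
finitely many k-rational points x satisfy t_x^*L ≅ L (t_x the translation by x), M an invertible
O_A-module lying in Pic⁰(A), i.e. t_x^*M ≅ M for every k-rational point x, and L' an O_A-module
isomorphic to L ⊗ M. Then L' ≅ t_x^*L for some k-rational point x of A; consequently L and L' have
isomorphic cohomology and equal index. (The published statement assumes L and L' algebraically
equivalent non-degenerate line bundles and concludes equality of indices; its proof reduces to L' ⊗
L^{-1} ∈ Pic⁰ and proves the displayed isomorphism, which is what is stated here.) -/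
theorem result (k : Type u) [Field k] [IsAlgClosed k]
    (A : Over (Spec (CommRingCat.of k))) [GrpObj A] [IsProper A.hom] [Smooth A.hom] [GeometricallyConnected A.hom]
    (L : A.left.Modules) (hL : PicF.IsInvertible L) (hnd : (Set.Finite {x : 𝟙_ (Over (Spec (CommRingCat.of k))) ⟶ A |
      Nonempty ((Scheme.Modules.pullback (𝟙 A * (toUnit A ≫ x)).left).obj L ≅ L)}))
    (M : A.left.Modules) (hM : PicF.IsInvertible M)
    (hM0 : ∀ x : 𝟙_ (Over (Spec (CommRingCat.of k))) ⟶ A, Nonempty ((Scheme.Modules.pullback (𝟙 A * (toUnit A ≫ x)).left).obj M ≅ M))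
    (L' : A.left.Modules) (hL' : Nonempty (L' ≅ CohB1.tensorMod L M)) :
    ∃ x : 𝟙_ (Over (Spec (CommRingCat.of k))) ⟶ A, Nonempty (L' ≅ (Scheme.Modules.pullback (𝟙 A * (toUnit A ≫ x)).left).obj L) := by
  haveI := S18385.geometricallyIntegral_field A.hom
  obtain ⟨i⟩ := hL'
  have hc : {a : Ampl73.Pts A | AbSquare57.pb (Ampl73.rT a).left (PicGrp.cls L hL) = PicGrp.cls L hL}.Finite :=
    hnd.subset fun a ha => (AbTI73.pb_eq_cls_iff _ hL hL).1 ha
  obtain ⟨x, hx⟩ := AbTI73.exists_phi_eq (AbTI73.vanishingTI (A := A)) hc ((AbTI73.isTI_cls_iff hM).2 hM0)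
  rw [AbTI73.phi, div_eq_iff_eq_mul] at hx
  rw [mul_comm, AbTI73.cls_mul_cls' hL hM] at hx
  obtain ⟨e⟩ := (AbTI73.pb_eq_cls_iff _ hL (EGA73.isInvertible_tensorMod hL hM)).1 hx
  exact ⟨x, ⟨i ≪≫ e.symm⟩⟩

end Groth.Agent.S14143
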