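import Groth.Statements.S1415
import Groth.Agent.FlatMor66.Count

set_option autoImplicit false
universe u
open FlatMor

namespace Groth.Agent.S1415
open Groth.Agent.FlatMor66

open AlgebraicGeometry CategoryTheory Limits in
/-- Let f : X → Y be locally quasi-finite. Then (1) for every y the number of irreducible components and
the number of connected components of the geometric fibre over y agree, and (2) if X is
quasi-compact these numbers are bounded by some natural number. -/
theorem result {X Y : Scheme.{u}} (f : X ⟶ Y) [LocallyQuasiFinite f] [LocallyOfFiniteType f] :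
    (∀ y : Y, MoreMor.nGeomIrredComp f y = MoreMor.nGeomConnComp f y) ∧
      (CompactSpace ↑X → ∃ d : ℕ, ∀ y : Y, MoreMor.nGeomConnComp f y ≤ d) := by
  have key : ∀ y : Y, DiscreteTopology ↥(MoreMor.geomFiber f y) := fun y => by
    have h1 : LocallyQuasiFinite (f.fiberToSpecResidueField y) := MorphismProperty.pullback_snd _ _ ‹_›
    let π : MoreMor.geomFiber f y ⟶ _ := pullback.snd (f.fiberToSpecResidueField y)
      (Spec.map (CommRingCat.ofHom (algebraMap (Y.residueField y) (SeparableClosure (Y.residueField y)))))
    have h2 : LocallyQuasiFinite π := MorphismProperty.pullback_snd _ _ h1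
    rw [discreteTopology_iff_isOpen_singleton]
    intro z
    have h3 := π.isDiscrete_preimage_singleton (π z)
    have h4 : π ⁻¹' {π z} = Set.univ := Set.eq_univ_of_forall fun x => Subsingleton.elim (α := PrimeSpectrum _) _ _
    rw [h4] at h3
    have := isDiscrete_univ_iff.mp h3
    exact isOpen_discrete _
  refine ⟨fun y => ?_, fun hX => ?_⟩
  · have := key y
    rw [MoreMor.nGeomIrredComp, MoreMor.nGeomConnComp]
    have e : irreducibleComponents ↥(MoreMor.geomFiber f y) = Set.range fun x => {x} := by
      ext Z
      refine ⟨fun hZ => ?_, ?_⟩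
      · obtain ⟨x, hx⟩ := hZ.1.nonempty
        exact ⟨x, (hZ.1.2.subsingleton.eq_singleton_of_mem hx).symm⟩
      · rintro ⟨x, rfl⟩
        exact ⟨isIrreducible_singleton, fun Z hZ hle => (hZ.2.subsingleton.eq_singleton_of_mem (hle rfl)).le⟩
    rw [e, ← Set.image_univ, Set.singleton_injective.encard_image, Set.encard_univ]
    exact ENat.card_congr (Equiv.ofBijective _ ⟨fun a b h => by
        have := ConnectedComponents.coe_eq_coe'.mp h
        rwa [connectedComponent_eq_singleton, Set.mem_singleton_iff] at this,
      ConnectedComponents.surjective_coe⟩)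
  · obtain ⟨d, hd⟩ := exists_card_GPt_bound f
    refine ⟨d, fun y => ?_⟩
    let K := AlgebraicClosure (SeparableClosure (Y.residueField y))
    let a := Spec.map (CommRingCat.ofHom (algebraMap (Y.residueField y) (SeparableClosure (Y.residueField y))))
    let π : MoreMor.geomFiber f y ⟶ _ := pullback.snd (f.fiberToSpecResidueField y) a
    have h2 : LocallyQuasiFinite π :=
      MorphismProperty.pullback_snd _ _ (MorphismProperty.pullback_snd f (Y.fromSpecResidueField y) ‹_›)
    let p₀ : Spec (CommRingCat.of K) ⟶ Spec (CommRingCat.of (SeparableClosure (Y.residueField y))) :=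
      Spec.map (CommRingCat.ofHom (algebraMap (SeparableClosure (Y.residueField y)) K))
    let p : Spec (CommRingCat.of K) ⟶ Y := p₀ ≫ a ≫ Y.fromSpecResidueField y
    choose q hq using fun z : ↥(MoreMor.geomFiber f y) =>
      exists_lift π p₀ z (Subsingleton.elim (α := PrimeSpectrum _) _ _)
    have hc : π ≫ a = pullback.fst (f.fiberToSpecResidueField y) a ≫ f.fiberToSpecResidueField y :=
      pullback.condition.symm
    let Φ : ↥(MoreMor.geomFiber f y) → GPt f p := fun z =>
      ⟨(q z).1 ≫ pullback.fst _ _ ≫ f.fiberι y, by
        simp only [p, Category.assoc, Scheme.Hom.fiber_fac]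
        exact ((congrArg ((q z).1 ≫ ·) ((reassoc_of% hc) _)).symm.trans
          ((Category.assoc _ _ _).symm.trans (congrArg (· ≫ a ≫ Y.fromSpecResidueField y) (q z).2)))⟩
    have hΦ : Function.Injective Φ := by
      intro z z' e
      rw [← hq z, ← hq z']
      congr 1
      have e' : (q z).1 ≫ pullback.fst _ _ ≫ f.fiberι y = (q z').1 ≫ pullback.fst _ _ ≫ f.fiberι y :=
        congrArg Subtype.val e
      have hs : (q z).1 ≫ π = (q z').1 ≫ π := (q z).2.trans (q z').2.symm
      apply pullback.hom_ext
      · apply pullback.hom_ext (f := f) (g := Y.fromSpecResidueField y)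
        · exact (Category.assoc _ _ _).trans (e'.trans (Category.assoc _ _ _).symm)
        · have := congrArg (· ≫ a) hs
          simp only [Category.assoc, hc] at this
          exact (Category.assoc _ _ _).trans (this.trans (Category.assoc _ _ _).symm)
      · exact hs
    have := (hd K p).1
    have := Finite.of_injective Φ hΦ
    rw [MoreMor.nGeomConnComp]
    have : Finite (_root_.ConnectedComponents ↥(MoreMor.geomFiber f y)) :=
      Finite.of_surjective _ ConnectedComponents.surjective_coe
    rw [ENat.card_eq_coe_natCard]
    exact_mod_cast (Nat.card_le_card_of_surjective _ ConnectedComponents.surjective_coe).trans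
      ((Nat.card_le_card_of_injective Φ hΦ).trans (hd K p).2)

end Groth.Agent.S1415
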