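import Groth.Statements.S14151
import Groth.Agent.VB30.Basic


set_option autoImplicit false
universe u
open CategoryTheory CategoryTheory.Limits AlgebraicGeometry
open VBCurve

namespace Groth.Agent.S14151
set_option backward.isDefEq.respectTransparency.types false

/-- Let C be a smooth proper geometrically connected curve over a field k (proper, smooth and
geometrically connected over k, of dimension one) and E a finite locally free O_C-module of rank r ≥
1; degrees of rank-n locally free modules are χ − n·χ(O_C) and slopes are compared by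
cross-multiplication. Then: E is semistable in the sense of quotients (μ(E) ≤ μ(F) for every locally
free quotient E ↠ F of rank s ≥ 1) if and only if μ(G) ≤ μ(E) for every finite locally free
submodule G of E of rank r' ≥ 1; and E is stable in the sense of quotients (μ(E) < μ(F) for every
such quotient map which is not an isomorphism) if and only if μ(G) < μ(E) for every such submodule
whose inclusion is not an isomorphism. (The printed lemma says every nonzero subsheaf; for the
strict inequalities the subsheaf and the quotient must be proper, as its proof uses.) -/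
theorem result (k : Type u) [Field k] (X : Scheme.{u}) [X.Over (Spec (CommRingCat.of k))]
    [IsProper (X ↘ Spec (CommRingCat.of k))] [Smooth (X ↘ Spec (CommRingCat.of k))]
    [GeometricallyConnected (X ↘ Spec (CommRingCat.of k))] (hdim : topologicalKrullDim ↥X = 1)
    (r : ℕ) (hr : 0 < r) (E : X.Modules) (hE : FlatMod.IsFinLocFreeOfRank r E) :
    ((∀ (F : X.Modules) (s : ℕ) (p : E ⟶ F), Epi p → 0 < s → FlatMod.IsFinLocFreeOfRank s F →
      Curv2.deg k X E r * (s : ℤ) ≤ Curv2.deg k X F s * (r : ℤ)) ↔
      (∀ (G : X.Modules) (r' : ℕ) (i : G ⟶ E), Mono i → 0 < r' → FlatMod.IsFinLocFreeOfRank r' G →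
      Curv2.deg k X G r' * (r : ℤ) ≤ Curv2.deg k X E r * (r' : ℤ))) ∧
    ((∀ (F : X.Modules) (s : ℕ) (p : E ⟶ F), Epi p → 0 < s → FlatMod.IsFinLocFreeOfRank s F → (¬ IsIso p) →
      Curv2.deg k X E r * (s : ℤ) < Curv2.deg k X F s * (r : ℤ)) ↔
      (∀ (G : X.Modules) (r' : ℕ) (i : G ⟶ E), Mono i → 0 < r' → FlatMod.IsFinLocFreeOfRank r' G → (¬ IsIso i) →
      Curv2.deg k X G r' * (r : ℤ) < Curv2.deg k X E r * (r' : ℤ))) := by
  have := VB30.isIntegral_of_geomConnected k X
  have hc := VB30.cur_of_smooth k X hdim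
  have lE := VB30.isFinLocFree_of_rank hE
  have eE := VB30.rk_eq_of_isFinLocFreeOfRank hE
  have cE := VB30.isCoh_of_isFinLocFree lE
  rw [VB30.deg_eq_dg hE]
  subst eE
  -- from a quotient, its kernel
  have kerOf : ∀ (F : X.Modules) (p : E ⟶ F), Epi p → FlatMod.IsFinLocFree F →
      FlatMod.IsFinLocFree (kernel p) ∧ VB30.rk E = VB30.rk (kernel p) + VB30.rk F ∧
        VB30.dg k E = VB30.dg k (kernel p) + VB30.dg k F := fun F p hp hF => by
    have hK := hc.isCoh_kernel p cE (VB30.isCoh_of_isFinLocFree hF)
    have hS : (ShortComplex.mk (kernel.ι p) p (kernel.condition p)).ShortExact :=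
      { exact := ShortComplex.exact_of_f_is_kernel _ (kernelIsKernel _) }
    have a := hc.isFinLocFree_of_mono (kernel.ι p) hK lE
    have b := hc.rk_add hS cE
    have c := hc.dg_add hS hK cE
    dsimp only at b c
    exact ⟨a, b, c⟩
  refine ⟨⟨fun h G r' i hi h0 hG => ?_, fun h F s p hp h0 hF => ?_⟩,
    ⟨fun h G r' i hi h0 hG hni => ?_, fun h F s p hp h0 hF hnp => ?_⟩⟩
  · have lX := VB30.isFinLocFree_of_rank hG
    rw [VB30.deg_eq_dg hG]
    have eX := VB30.rk_eq_of_isFinLocFreeOfRank hG
    subst eX
    exact hc.sub_of_quot lE (fun Q p hp h0 hQ _ => by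
      have := h Q _ p hp h0 (VB30.isFinLocFreeOfRank_rk hQ); rwa [VB30.deg_eq_dg (VB30.isFinLocFreeOfRank_rk hQ)] at this) G i hi lX h0
  · have lX := VB30.isFinLocFree_of_rank hF
    rw [VB30.deg_eq_dg hF]
    have eX := VB30.rk_eq_of_isFinLocFreeOfRank hF
    subst eX
    obtain ⟨lK, hr', hd⟩ := kerOf F p hp lX
    rcases Nat.eq_zero_or_pos (VB30.rk (kernel p)) with z | z
    · rw [hd, hr', z, hc.dg_of_rk_zero lK z]; simp
    · have := h (kernel p) _ (kernel.ι p) inferInstance z (VB30.isFinLocFreeOfRank_rk lK)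
      rw [VB30.deg_eq_dg (VB30.isFinLocFreeOfRank_rk lK), hd, hr'] at this
      rw [hd, hr']
      push_cast at this ⊢
      linarith
  · have lX := VB30.isFinLocFree_of_rank hG
    rw [VB30.deg_eq_dg hG]
    have eX := VB30.rk_eq_of_isFinLocFreeOfRank hG
    subst eX
    exact hc.sub_of_quot_strict lE (fun Q p hp h0 hQ hnp => by
      have := h Q _ p hp h0 (VB30.isFinLocFreeOfRank_rk hQ) hnp; rwa [VB30.deg_eq_dg (VB30.isFinLocFreeOfRank_rk hQ)] at this) G i hi lX h0 hni
  · have lX := VB30.isFinLocFree_of_rank hF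
    rw [VB30.deg_eq_dg hF]
    have eX := VB30.rk_eq_of_isFinLocFreeOfRank hF
    subst eX
    obtain ⟨lK, hr', hd⟩ := kerOf F p hp lX
    rcases Nat.eq_zero_or_pos (VB30.rk (kernel p)) with z | z
    · exfalso
      have := Preadditive.mono_of_kernel_zero ((hc.isZero_of_rk_eq_zero lK z).eq_of_src (kernel.ι p) 0)
      exact hnp (isIso_of_mono_of_epi p)
    · have hni : ¬ IsIso (kernel.ι p) := fun hi => by
        have := VB30.rk_congr (asIso (kernel.ι p))
        omega
      have := h (kernel p) _ (kernel.ι p) inferInstance z (VB30.isFinLocFreeOfRank_rk lK) hni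
      rw [VB30.deg_eq_dg (VB30.isFinLocFreeOfRank_rk lK), hd, hr'] at this
      rw [hd, hr']
      push_cast at this ⊢
      linarith

end Groth.Agent.S14151
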