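import Groth.Statements.S14152
import Groth.Agent.Curves2.PointTwists

set_option autoImplicit false
universe u
open CategoryTheory CategoryTheory.Limits AlgebraicGeometry
open Curves

namespace Groth.Agent.S14152

/-- Let k be an algebraically closed field and C a smooth proper integral curve over k (proper and
smooth over k, integral, of dimension one) of genus g ≥ 1, where g = dim_k H^1(C, O_C). Then for
every natural number r ≤ g there is an invertible O_C-module L of degree r, the degree being χ(L) −
χ(O_C), with dim_k H^0(C, L) = 1. (The published statement gives a non-empty open set of r-tuples of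
points (x_i) with h^0(O(Σ x_i)) = 1 and is placed in a chapter working in characteristic 0; the
existence of one such divisor, stated here, is what the row records, and the printed argument does
not use the characteristic.) -/
theorem result (k : Type u) [Field k] [IsAlgClosed k]
    (X : Scheme.{u}) [X.Over (Spec (CommRingCat.of k))] [IsIntegral X]
    [IsProper (X ↘ Spec (CommRingCat.of k))] [Smooth (X ↘ Spec (CommRingCat.of k))]
    (hdim : topologicalKrullDim ↥X = 1) (g : ℕ) (hg : Curv2.genus k X = g) (hg1 : 1 ≤ g)
    (r : ℕ) (hr : r ≤ g) :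
    ∃ L : X.Modules, PicF.IsInvertible L ∧ Curv2.deg k X L 1 = (r : ℤ) ∧
      Module.finrank k (Coh.HH X L 0) = 1 := by
  have : IsNoetherian X := Crv77.isNoetherian_of_proper k X
  have hC := Crv77.curveCoh_of_proper k X hdim.le
  have h1O := Groth.Agent.Curves2.finrank_h0_structureModule k (X := X)
  obtain ⟨m, rfl⟩ : ∃ m, g = m + 1 := ⟨g - 1, by omega⟩
  have high : ∃ L : X.Modules, PicF.IsInvertible L ∧
      Curv2.deg k X L 1 = ((2 * m + 1 : ℕ) : ℤ) ∧ Module.finrank k (Coh.HH X L 0) = m + 1 := by
    obtain ⟨L, hL, hd⟩ := Groth.Agent.Curves2.exists_invertible_deg (k := k) hdim (2 * m + 1)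
    refine ⟨L, hL, hd, ?_⟩
    have h1 : Subsingleton (Coh.HH X L 1) :=
      hC.h1_eq_zero_of_deg_gt hdim h1O hL (by rw [hd, hg]; push_cast; omega)
    have h2 := hC.riemann h1O (Crv77.isCoh_of_isInvertible hL)
    simp only [Crv77.h, hd, hg, Module.finrank_zero_of_subsingleton] at h2
    push_cast at h2
    omega
  have mid : ∀ j ≤ m, ∃ L : X.Modules, PicF.IsInvertible L ∧
      Curv2.deg k X L 1 = ((2 * m + 1 : ℕ) : ℤ) - j ∧
      Module.finrank k (Coh.HH X L 0) = m + 1 - j := by
    intro j
    induction j with
    | zero => intro _; simpa using high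
    | succ j ih =>
      intro hj
      obtain ⟨L, hL, hd, hn⟩ := ih (by omega)
      obtain ⟨L', hL', hd', hn'⟩ := Groth.Agent.Curves2.exists_point_h0_drop (k := k) hdim hL
        (n := m - j) (by omega)
      exact ⟨L', hL', by rw [hd', hd]; push_cast; omega, by omega⟩
  have low : ∀ j ≤ m + 1, ∃ L : X.Modules, PicF.IsInvertible L ∧
      Curv2.deg k X L 1 = ((m + 1 : ℕ) : ℤ) - j ∧ Module.finrank k (Coh.HH X L 0) = 1 := by
    intro j
    induction j with
    | zero =>
      intro _
      obtain ⟨L, hL, hd, hn⟩ := mid m le_rfl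
      exact ⟨L, hL, by rw [hd]; push_cast; omega, by omega⟩
    | succ j ih =>
      intro hj
      obtain ⟨L, hL, hd, hn⟩ := ih (by omega)
      obtain ⟨L', hL', hd', hn'⟩ := Groth.Agent.Curves2.exists_point_h0_eq (k := k) hdim hL hn
        (by rw [hd]; push_cast; omega)
      exact ⟨L', hL', by rw [hd', hd]; push_cast; omega, hn'⟩
  obtain ⟨L, hL, hd, hn⟩ := low (m + 1 - r) (by omega)
  exact ⟨L, hL, by rw [hd]; omega, hn⟩

end Groth.Agent.S14152
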