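import Groth.Statements.S14155
import Groth.Agent.VB30.G1b
import Groth.Agent.QC70.CohOps


set_option autoImplicit false
universe u
open CategoryTheory CategoryTheory.Limits AlgebraicGeometry
open VBCurve

namespace Groth.Agent.S14155
set_option backward.isDefEq.respectTransparency.types false

/-- Let k be an algebraically closed field, X a smooth proper integral curve over k (proper and smooth
over k, integral, of dimension one) of genus one, i.e. dim_k H^1(X, O_X) = 1 (an elliptic curve once
a base point is chosen), and F a finite locally free O_X-module of rank r ≥ 1 which is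
indecomposable (nonzero, and in any decomposition F ≅ F₁ ⊕ F₂ one summand is zero), of degree d =
χ(F) − r·χ(O_X). Then F is stable — deg G · r < d · r' for every finite locally free submodule G of
F of rank r' ≥ 1 whose inclusion is not an isomorphism — if and only if gcd(d, r) = 1. (The
published corollary also identifies stability with simplicity in two senses; those equivalences are
not restated.) -/
theorem result (k : Type u) [Field k] [IsAlgClosed k]
    (X : Scheme.{u}) [X.Over (Spec (CommRingCat.of k))] [IsIntegral X]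
    [IsProper (X ↘ Spec (CommRingCat.of k))] [Smooth (X ↘ Spec (CommRingCat.of k))]
    (hdim : topologicalKrullDim ↥X = 1) (hg : Curv2.genus k X = 1)
    (r : ℕ) (hr : 0 < r) (F : X.Modules) (hF : FlatMod.IsFinLocFreeOfRank r F)
    (hind : ¬ IsZero F ∧ ∀ (F₁ F₂ : X.Modules), Nonempty (F ≅ F₁ ⊞ F₂) → IsZero F₁ ∨ IsZero F₂) :
    (∀ (G : X.Modules) (r' : ℕ) (i : G ⟶ F), Mono i → 0 < r' → FlatMod.IsFinLocFreeOfRank r' G → (¬ IsIso i) →
      Curv2.deg k X G r' * (r : ℤ) < Curv2.deg k X F r * (r' : ℤ)) ↔ Int.gcd (Curv2.deg k X F r) (r : ℤ) = 1 := by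
  have hS : CrvPic30.Setup k X := CrvPic30.setup_of_smooth_algClosed hdim
  have hc := VB30.cur_of_setup hS
  have lF := VB30.isFinLocFree_of_rank hF
  have eF := VB30.rk_eq_of_isFinLocFreeOfRank hF
  rw [VB30.deg_eq_dg hF, ← eF]
  refine ⟨fun hst => VB30.gcd_eq_one_of_st hS hg lF (by omega)
    (VB30.st_of_slope' hF (by rw [VB30.deg_eq_dg hF, ← eF]; exact hst)), fun hgcd => ?_⟩
  have hst := VB30.st_of_ss_gcd (VB30.ss_of_indecomposable hS hg lF (by omega) hind.2) hgcd
  intro G r' i hi h0 hG hni
  have lG := VB30.isFinLocFree_of_rank hG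
  obtain rfl : VB30.rk G = r' := VB30.rk_eq_of_isFinLocFreeOfRank hG
  rw [VB30.deg_eq_dg hG]
  have : F.IsFiniteType := (VB30.isCoh_of_isFinLocFree lF).2
  rcases (VB30.rk_le_of_mono i).lt_or_eq with hlt | heq
  · exact hst G i hi h0 hlt lG
  · obtain ⟨hle, hiso⟩ := hc.dg_le_of_mono i (VB30.isCoh_of_isFinLocFree lG) (VB30.isCoh_of_isFinLocFree lF) heq
    have : VB30.dg k G < VB30.dg k F := lt_of_le_of_ne hle fun e => hni (hiso e)
    rw [heq]
    exact mul_lt_mul_of_pos_right this (by exact_mod_cast (show 0 < VB30.rk F by omega))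

end Groth.Agent.S14155
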