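import Groth.Statements.S14160
import Groth.Agent.AgPol96.Sym
-- import your own Groth.Agent.* helpers here

set_option autoImplicit false
universe u
open CategoryTheory CategoryTheory.Limits MonoidalCategory CartesianMonoidalCategory MonObj AlgebraicGeometry
open AgPol

namespace Groth.Agent.S14160

/-- Let S be a locally Noetherian scheme, A a projective abelian scheme over S of relative dimension g
with commutative group law, (At, φ) a commutative group scheme with data presenting it as the dual
of A for the fppf topology, ξ a Poincaré class on A ×_S At, and k ≥ 1. If lam₁, lam₂ : A ⟶ At are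
polarisations such that ξ pulls back to the same class on A along the graphs of lam₁ ^ k and of lam₂
^ k (powers in the group of A-valued points of At), then lam₁ = lam₂. (The published statement
claims uniqueness among all homomorphisms into the dual; on the square E × E of an elliptic curve
with its product principal polarisation lam₀, the homomorphism α(x, y) = lam₀(y, −x) has lam₀ + α ≠
lam₀ while the graphs of k·lam₀ and k·(lam₀ + α) pull the Poincaré class back to isomorphic sheaves,
so this row asks lam₁, lam₂ to be polarisations, which is the case the printed argument covers; k =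
0 is excluded since both pull backs are then along the unit section.) -/
theorem result (S : Scheme.{u}) [IsLocallyNoetherian S] (A At : Over S) [GrpObj A] [IsCommMonObj A]
    [GrpObj At] [IsCommMonObj At] (g : ℕ) (hA : AgPol.IsAbSch A g) (hproj : RelProj.IsProjective A.hom)
    (φ : AgPol.DualMap A At) (hdual : AbDual.IsDualAV Scheme.fppfPrecoverage A At φ)
    (ξ : PicF.Cl (PicF.XT A.hom At)) (hξ : AbDual.IsPoincareCl A At φ ξ) (k : ℕ) (hk : 1 ≤ k)
    (lam₁ lam₂ : A ⟶ At) (h₁ : AgPol.IsPolarization A At φ lam₁) (h₂ : AgPol.IsPolarization A At φ lam₂)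
    (heq : PicF.pullCl (pullback.lift (𝟙 A.left) (lam₁ ^ k).left ((Category.id_comp A.hom).trans (Over.w (lam₁ ^ k)).symm)) ξ = PicF.pullCl (pullback.lift (𝟙 A.left) (lam₂ ^ k).left ((Category.id_comp A.hom).trans (Over.w (lam₂ ^ k)).symm)) ξ) :
    lam₁ = lam₂ := by
  haveI := hA.smooth
  haveI := hA.proper
  haveI := hA.geomConnected
  haveI := h₁.1
  haveI := h₂.1
  obtain ⟨j, rfl⟩ : ∃ j, k = j + 1 := ⟨k - 1, by omega⟩
  haveI := AgPol96.isMonHom_pow lam₁ j
  haveI := AgPol96.isMonHom_pow lam₂ j
  have hsq := AgPol96.sq_eq_of_graph_eq hdual hξ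
    (AgPol96.ev_symm_pow hdual hξ (AgPol96.ev_symm_of_polarization hdual hξ h₁) (j + 1))
    (AgPol96.ev_symm_pow hdual hξ (AgPol96.ev_symm_of_polarization hdual hξ h₂) (j + 1)) heq
  letI := Hom.commGroup (X := A) (G := At)
  haveI : IsMonHom (lam₁ * lam₂⁻¹) := AgPol96.isMonHom_mul lam₁ lam₂⁻¹
  refine mul_inv_eq_one.1 (AgPol96.eq_one_of_pow_eq_one hdual hξ (m := 2 * (j + 1)) (by omega) ?_)
  rw [← pow_two, ← pow_two, ← pow_mul, ← pow_mul, _root_.mul_comm _ 2] at hsq
  rw [mul_pow, inv_pow, hsq, mul_inv_cancel]

end Groth.Agent.S14160
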