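import Groth.Statements.S14176
import Mathlib.GroupTheory.FiniteAbelian.Duality
import Mathlib.RingTheory.RootsOfUnity.Complex
import Mathlib.RingTheory.RootsOfUnity.AlgebraicallyClosed
import Mathlib.Analysis.Complex.Polynomial.Basic
import Mathlib.Topology.Algebra.ClopenNhdofOne
import Mathlib.GroupTheory.Torsion
import Mathlib.GroupTheory.FiniteAbelian.Basic
import Mathlib.Topology.Algebra.OpenSubgroup

set_option autoImplicit false
universe u
open Pi1
open scoped commutatorElement

namespace Groth.Agent.S14176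

/-- The cyclic group of order `n` used as coefficients. -/
abbrev Cn (n : ℕ) := Multiplicative (ZMod n)

lemma pow_n (n : ℕ) (x : Cn n) : x ^ n = 1 := by
  apply Multiplicative.toAdd.injective
  simp

lemma exists_equiv_rootsOfUnity (n : ℕ) [NeZero n] :
    Nonempty (rootsOfUnity n ℂ ≃* Cn n) := by
  have h1 : IsCyclic (rootsOfUnity n ℂ) := rootsOfUnity.isCyclic ℂ n
  refine ⟨mulEquivOfCyclicCardEq ?_⟩
  rw [show Nat.card (Cn n) = n from Nat.card_zmod n]
  exact HasEnoughRootsOfUnity.natCard_rootsOfUnity ℂ n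

lemma exists_char {A : Type*} [CommGroup A] [Finite A] (n : ℕ) [NeZero n]
    (hA : ∀ a : A, a ^ n = 1) {a : A} (ha : a ≠ 1) : ∃ χ : A →* Cn n, χ a ≠ 1 := by
  have : HasEnoughRootsOfUnity ℂ (Monoid.exponent A) :=
    HasEnoughRootsOfUnity.of_dvd ℂ (Monoid.exponent_dvd_of_forall_pow_eq_one hA)
  obtain ⟨e⟩ := exists_equiv_rootsOfUnity n
  obtain ⟨φ, hφ⟩ := CommGroup.exists_apply_ne_one_of_hasEnoughRootsOfUnity A ℂ ha
  refine ⟨e.toMonoidHom.comp (φ.codRestrict (rootsOfUnity n ℂ) fun b ↦ ?_), fun h ↦ hφ ?_⟩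
  · rw [mem_rootsOfUnity, ← map_pow, hA, map_one]
  · have h' := e.injective ((show e _ = 1 from h).trans (map_one e).symm)
    exact congrArg Subtype.val h'

lemma card_char {A : Type*} [CommGroup A] [Finite A] (n : ℕ) [NeZero n]
    (hA : ∀ a : A, a ^ n = 1) : Nat.card (A →* Cn n) = Nat.card A := by
  have : HasEnoughRootsOfUnity ℂ (Monoid.exponent A) :=
    HasEnoughRootsOfUnity.of_dvd ℂ (Monoid.exponent_dvd_of_forall_pow_eq_one hA)
  obtain ⟨e⟩ := exists_equiv_rootsOfUnity n
  rw [← CommGroup.card_monoidHom_of_hasEnoughRootsOfUnity A ℂ]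
  refine Nat.card_congr
    { toFun := fun χ ↦ (rootsOfUnity n ℂ).subtype.comp (e.symm.toMonoidHom.comp χ)
      invFun := fun φ ↦ e.toMonoidHom.comp (φ.codRestrict (rootsOfUnity n ℂ) fun b ↦ by
        rw [mem_rootsOfUnity, ← map_pow, hA, map_one])
      left_inv := fun χ ↦ by ext b; simp
      right_inv := fun φ ↦ by ext b; simp }

open W4c1etcurveeff2 in
/-- Let G be a topological group in which some finite subset generates a dense subgroup, let n ≥ 1, and
let S be the closure of the subgroup generated by all n-th powers and all commutators. -/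
theorem result
    {G : Type u} [Group G] [TopologicalSpace G] [IsTopologicalGroup G]
    (s : Finset G) (hs : Dense ((Subgroup.closure (s : Set G) : Subgroup G) : Set G))
    (n : ℕ) [NeZero n] (S : Subgroup G) (hS : S = powCommClosure G n) :
    (∀ φ : G ≃* G, Continuous φ → Continuous φ.symm → S.map φ.toMonoidHom = S) ∧
    (∀ g : G, g ∈ S ↔
        ∀ χ : G →* Multiplicative (ZMod n), IsOpen ((χ.ker : Subgroup G) : Set G) → χ g = 1) ∧
    (∀ F : ContChar G n →* Multiplicative (ZMod n), ∃ g : G,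
        ∀ χ : ContChar G n, F χ = (χ.1 : G →* Multiplicative (ZMod n)) g) ∧
    (∀ (H : Subgroup G) [H.Normal], IsClosed (H : Set G) →
        Nonempty (G ⧸ H ≃* (ContChar G n →* Multiplicative (ZMod n))) → H = S) := by
  classical
  subst hS
  let S := powCommClosure G n
  let P := Subgroup.closure (Set.range fun g : G => g ^ n) ⊔ commutator G
  have hSdef : S = P.topologicalClosure := rfl
  have hScl : IsClosed (S : Set G) := Subgroup.isClosed_topologicalClosure _
  have hpow : ∀ g : G, g ^ n ∈ S := fun g ↦ Subgroup.le_topologicalClosure _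
    ((le_sup_left : _ ≤ P) (Subgroup.subset_closure ⟨g, rfl⟩))
  have hcomm : commutator G ≤ S :=
    le_trans le_sup_right (Subgroup.le_topologicalClosure P)
  have hmin : ∀ T : Subgroup G, IsClosed (T : Set G) → (∀ g : G, g ^ n ∈ T) →
      commutator G ≤ T → S ≤ T := fun T hT h1 h2 ↦ Subgroup.topologicalClosure_minimal _
    (sup_le ((Subgroup.closure_le T).mpr (by rintro _ ⟨g, rfl⟩; exact h1 g)) h2) hT
  have hchar : ∀ (φ : G ≃* G), Continuous φ → Continuous φ.symm → S ≤ S.comap φ.toMonoidHom := by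
    intro φ hφ _
    refine hmin _ (hScl.preimage hφ) (fun g ↦ ?_) ?_
    · rw [Subgroup.mem_comap, map_pow]; exact hpow _
    · rw [← Subgroup.map_le_iff_le_comap, commutator_def, Subgroup.map_commutator]
      refine le_trans (Subgroup.commutator_mono le_top le_top) hcomm
  have hSn : S.Normal := ⟨fun x hx g ↦ by
    have : ⁅g, x⁆ * x ∈ S := S.mul_mem (hcomm (Subgroup.commutator_mem_commutator
      (Subgroup.mem_top g) (Subgroup.mem_top x))) hx
    rwa [commutatorElement_def, inv_mul_cancel_right] at this⟩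
  let _ : CommGroup (G ⧸ S) :=
    { (inferInstance : Group (G ⧸ S)) with
      mul_comm := fun a b ↦ by
        obtain ⟨a, rfl⟩ := QuotientGroup.mk_surjective a
        obtain ⟨b, rfl⟩ := QuotientGroup.mk_surjective b
        rw [← QuotientGroup.mk_mul, ← QuotientGroup.mk_mul, QuotientGroup.eq]
        have : ⁅b⁻¹, a⁻¹⁆ ∈ S := hcomm (Subgroup.commutator_mem_commutator
          (Subgroup.mem_top _) (Subgroup.mem_top _))
        simpa [commutatorElement_def, mul_assoc] using this }
  have hA : ∀ a : G ⧸ S, a ^ n = 1 := fun a ↦ by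
    obtain ⟨a, rfl⟩ := QuotientGroup.mk_surjective a
    rw [← QuotientGroup.mk_pow, QuotientGroup.eq_one_iff]
    exact hpow a
  let T : Subgroup (G ⧸ S) := Subgroup.closure (((↑) : G → G ⧸ S) '' (s : Set G))
  have hTfin : Finite T := by
    have : Group.FG T := (Group.fg_iff_subgroup_fg T).mpr
      ⟨s.image ((↑) : G → G ⧸ S), by rw [Finset.coe_image]⟩
    have htor : Monoid.IsTorsion T := fun x ↦ isOfFinOrder_iff_pow_eq_one.mpr
      ⟨n, Nat.pos_of_ne_zero (NeZero.ne n), Subtype.ext (hA x.1)⟩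
    exact CommGroup.finite_of_fg_torsion T htor
  have hTtop : ∀ g : G, (g : G ⧸ S) ∈ T := by
    have hcl : IsClosed ((T.comap (QuotientGroup.mk' S) : Subgroup G) : Set G) := by
      choose r hr using fun t : T ↦ QuotientGroup.mk_surjective t.1
      have : ((T.comap (QuotientGroup.mk' S) : Subgroup G) : Set G) =
          ⋃ t : T, (fun x ↦ (r t)⁻¹ * x) ⁻¹' (S : Set G) := by
        ext x
        simp only [Subgroup.coe_comap, Set.mem_preimage, SetLike.mem_coe, Set.mem_iUnion,
          ← QuotientGroup.eq, hr]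
        exact ⟨fun h ↦ ⟨⟨_, h⟩, rfl⟩, fun ⟨t, h⟩ ↦ by
          rw [QuotientGroup.mk'_apply, ← h]; exact t.2⟩
      rw [this]
      exact isClosed_iUnion_of_finite fun t ↦ hScl.preimage (continuous_const_mul _)
    intro g
    have hle : Subgroup.closure (s : Set G) ≤ T.comap (QuotientGroup.mk' S) :=
      (Subgroup.closure_le _).mpr fun x hx ↦ Subgroup.subset_closure ⟨x, hx, rfl⟩
    exact closure_minimal (SetLike.coe_subset_coe.mpr hle) hcl (hs g)
  have hfinA : Finite (G ⧸ S) := by
    refine Finite.of_surjective (fun t : T ↦ (t : G ⧸ S)) fun a ↦ ?_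
    obtain ⟨g, rfl⟩ := QuotientGroup.mk_surjective a
    exact ⟨⟨_, hTtop g⟩, rfl⟩
  have : S.FiniteIndex := Subgroup.finiteIndex_of_finite_quotient
  have hSopen : IsOpen (S : Set G) := Subgroup.isOpen_of_isClosed_of_finiteIndex S hScl
  have hker : ∀ χ : G →* Cn n, IsOpen (χ.ker : Set G) → S ≤ χ.ker := fun χ hχ ↦
    hmin _ (Subgroup.isClosed_of_isOpen _ hχ)
      (fun g ↦ by rw [MonoidHom.mem_ker, map_pow, pow_n]) (Abelianization.commutator_subset_ker χ)
  let pull : ((G ⧸ S) →* Cn n) ≃* ContChar G n :=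
    { toFun := fun χ ↦ ⟨χ.comp (QuotientGroup.mk' S),
        Subgroup.isOpen_mono (show S ≤ (χ.comp (QuotientGroup.mk' S)).ker from fun g hg ↦ by
          rw [MonoidHom.mem_ker, MonoidHom.comp_apply, QuotientGroup.mk'_apply,
            (QuotientGroup.eq_one_iff g).mpr hg, map_one]) hSopen⟩
      invFun := fun χ ↦ QuotientGroup.lift S χ.1 (hker χ.1 χ.2)
      left_inv := fun χ ↦ MonoidHom.ext fun a ↦ by
        obtain ⟨a, rfl⟩ := QuotientGroup.mk_surjective a
        rfl
      right_inv := fun χ ↦ rfl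
      map_mul' := fun χ ψ ↦ rfl }
  have hsep : ∀ g : G, g ∈ S ↔ ∀ χ : G →* Cn n, IsOpen (χ.ker : Set G) → χ g = 1 := by
    refine fun g ↦ ⟨fun hg χ hχ ↦ hker χ hχ hg, fun h ↦ ?_⟩
    by_contra hg
    obtain ⟨χ, hχ⟩ := exists_char n hA (a := (g : G ⧸ S))
      (fun h' ↦ hg ((QuotientGroup.eq_one_iff g).mp h'))
    exact hχ (h (pull χ).1 (pull χ).2)
  have : Finite ((G ⧸ S) →* Cn n) := Finite.of_injective _ DFunLike.coe_injective
  have hDfin : Finite (ContChar G n) := Finite.of_equiv _ pull.toEquiv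
  have hD : ∀ χ : ContChar G n, χ ^ n = 1 := fun χ ↦
    Subtype.ext (MonoidHom.ext fun g ↦ pow_n n (χ.1 g))
  have : Finite (ContChar G n →* Cn n) := Finite.of_injective _ DFunLike.coe_injective
  let ev : (G ⧸ S) →* (ContChar G n →* Cn n) :=
    QuotientGroup.lift S
      { toFun := fun g ↦ ⟨⟨fun χ ↦ χ.1 g, rfl⟩, fun χ ψ ↦ rfl⟩
        map_one' := MonoidHom.ext fun χ ↦ map_one χ.1
        map_mul' := fun a b ↦ MonoidHom.ext fun χ ↦ map_mul χ.1 a b }
      (fun g hg ↦ MonoidHom.ext fun χ ↦ hker χ.1 χ.2 hg)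
  have hevbij : Function.Bijective ev := by
    refine (Nat.bijective_iff_injective_and_card _).mpr
      ⟨(injective_iff_map_eq_one ev).mpr fun a ha ↦ ?_, ?_⟩
    · obtain ⟨g, rfl⟩ := QuotientGroup.mk_surjective a
      exact (QuotientGroup.eq_one_iff g).mpr ((hsep g).mpr fun χ hχ ↦
        DFunLike.congr_fun ha (⟨χ, hχ⟩ : ContChar G n))
    · rw [card_char n hD, ← Nat.card_congr pull.toEquiv, card_char n hA]
  refine ⟨fun φ hφ hφ' ↦ ?_, hsep, fun F ↦ ?_, fun H _ hH ⟨e⟩ ↦ ?_⟩
  · refine le_antisymm (Subgroup.map_le_iff_le_comap.mpr (hchar φ hφ hφ')) fun x hx ↦ ?_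
    exact ⟨φ.symm x, hchar φ.symm hφ' hφ hx, φ.apply_symm_apply x⟩
  · obtain ⟨a, rfl⟩ := hevbij.2 F
    obtain ⟨g, rfl⟩ := QuotientGroup.mk_surjective a
    exact ⟨g, fun χ ↦ rfl⟩
  · have hSH : S ≤ H := by
      refine hmin H hH (fun g ↦ ?_) ?_
      · rw [← QuotientGroup.eq_one_iff, QuotientGroup.mk_pow]
        exact e.injective (by rw [map_pow, map_one]; exact MonoidHom.ext fun χ ↦ pow_n n _)
      · refine le_trans (Abelianization.commutator_subset_ker (e.toMonoidHom.comp (QuotientGroup.mk' H))) ?_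
        intro g hg
        rw [← QuotientGroup.eq_one_iff]
        exact e.injective ((show e (g : G ⧸ H) = 1 from hg).trans (map_one e).symm)
    refine le_antisymm ?_ hSH
    have hidx : H.index = S.index := (Nat.card_congr e.toEquiv).trans
      (Nat.card_congr (Equiv.ofBijective ev hevbij)).symm
    rw [← Subgroup.relIndex_eq_one]
    have h1 := Subgroup.relIndex_mul_index hSH
    rw [hidx] at h1
    exact (Nat.mul_eq_right Subgroup.FiniteIndex.index_ne_zero).mp h1

end Groth.Agent.S14176
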