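import Groth.Statements.S14181

set_option autoImplicit false
universe u
open CategoryTheory
open GalCoh

namespace Groth.Agent.S14181

theorem result
    {k G : Type u} [CommRing k] [Group G] (A : Rep.{u} k G) (P : Subgroup G) [P.Normal] [Finite P]
    (hP : Function.Bijective fun a : A => (Nat.card P : k) • a) :
    ∃ r : ModuleCat.of k (groupCohomology.cocycles₁ A) ⟶
        ModuleCat.of k (groupCohomology.cocycles₁ (A.quotientToInvariants P)),
      (groupCohomology.mapCocycles₁ (QuotientGroup.mk' P) (Rep.ofHom (A.ρ.quotientToInvariants_lift P)) :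
          ModuleCat.of k (groupCohomology.cocycles₁ (A.quotientToInvariants P)) ⟶
            ModuleCat.of k (groupCohomology.cocycles₁ A)) ≫ r = 𝟙 _ := by
  classical
  have := Fintype.ofFinite P
  let e : A ≃ₗ[k] A := LinearEquiv.ofBijective ((Nat.card P : k) • LinearMap.id) hP
  let X : (G → A) →ₗ[k] A :=
    { toFun := fun f => e.symm (∑ p : P, f p.1)
      map_add' := fun f g => by rw [← map_add]; simp [Finset.sum_add_distrib]
      map_smul' := fun c f => by rw [RingHom.id_apply, ← map_smul, Finset.smul_sum]; rfl }
  let F : groupCohomology.cocycles₁ A → G → A := fun f g => f g + (A.ρ g (X f) - X f)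
  have hz : ∀ (f : groupCohomology.cocycles₁ A) (g h : G), f (g * h) = A.ρ g (f h) + f g :=
    fun f => (groupCohomology.mem_cocycles₁_iff ⇑f).1 f.2
  have hmul : ∀ (f : groupCohomology.cocycles₁ A) (g h : G), F f (g * h) = A.ρ g (F f h) + F f g := fun f g h => by
    simp only [F, hz f g h, map_mul, map_add, map_sub, Module.End.mul_apply]
    abel
  have hP0 : ∀ (f : groupCohomology.cocycles₁ A) (q : P), F f q.1 = 0 := fun f q => by
    have hs : ∑ p : P, f (q.1 * p.1) = ∑ p : P, f p.1 :=
      Equiv.sum_comp (Equiv.mulLeft q) (fun p : P => f p.1)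
    simp only [hz, Finset.sum_add_distrib, ← map_sum,
      Finset.sum_const, Finset.card_univ] at hs
    have hx : (Fintype.card P) • X f = ∑ p : P, f p.1 := by
      have h1 : e (X f) = ∑ p : P, f p.1 := e.apply_symm_apply _
      rw [← h1, ← Nat.cast_smul_eq_nsmul k, Fintype.card_eq_nat_card]
      rfl
    apply hP.1
    show (Nat.card P : k) • F f q.1 = (Nat.card P : k) • (0 : A)
    rw [smul_zero, Nat.cast_smul_eq_nsmul, Nat.card_eq_fintype_card]
    rw [← hx, map_nsmul] at hs
    simp only [F, smul_add, smul_sub]
    rw [← add_sub_assoc, sub_eq_zero, add_comm]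
    exact hs
  have hright : ∀ (f : groupCohomology.cocycles₁ A) (g : G) (q : P), F f (g * q.1) = F f g := fun f g q => by
    rw [hmul, hP0, map_zero, zero_add]
  have hinv : ∀ (f : groupCohomology.cocycles₁ A) (g : G), F f g ∈ Representation.invariants (A.ρ.comp P.subtype) :=
    fun f g q => by
      have hconj : g⁻¹ * q.1 * g ∈ P := by
        simpa using Subgroup.Normal.conj_mem inferInstance q.1 q.2 g⁻¹
      have h1 := hmul f q.1 g
      rw [hP0, add_zero, show q.1 * g = g * (g⁻¹ * q.1 * g) by group, hright f g ⟨_, hconj⟩] at h1
      exact h1.symm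
  let R : groupCohomology.cocycles₁ A → (G ⧸ P → (A.quotientToInvariants P : Rep k (G ⧸ P))) := fun f c =>
    Quotient.liftOn' c (fun g => (⟨F f g, hinv f g⟩ : Representation.invariants (A.ρ.comp P.subtype)))
      fun a b hab => Subtype.ext (by
        rw [QuotientGroup.leftRel_apply] at hab
        show F f a = F f b
        rw [← hright f a ⟨_, hab⟩, mul_inv_cancel_left])
  have hR : ∀ f, R f ∈ groupCohomology.cocycles₁ (A.quotientToInvariants P) := fun f => by
    rw [groupCohomology.mem_cocycles₁_iff]
    intro c d
    induction c using QuotientGroup.induction_on with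
    | H a =>
      induction d using QuotientGroup.induction_on with
      | H b => exact Subtype.ext (hmul f a b)
  refine ⟨ModuleCat.ofHom
    { toFun := fun f => ⟨R f, hR f⟩
      map_add' := fun f f' => groupCohomology.cocycles₁_ext fun c => by
        induction c using QuotientGroup.induction_on with
        | H a =>
          refine Subtype.ext ?_
          show F (f + f') a = F f a + F f' a
          simp only [F]
          rw [show (⇑(f + f') : G → A) = ⇑f + ⇑f' from rfl, map_add X, map_add, Pi.add_apply]
          abel
      map_smul' := fun r f => groupCohomology.cocycles₁_ext fun c => by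
        induction c using QuotientGroup.induction_on with
        | H a =>
          refine Subtype.ext ?_
          show F (r • f) a = r • F f a
          simp only [F]
          rw [show (⇑(r • f) : G → A) = r • ⇑f from rfl, map_smul X, map_smul, Pi.smul_apply, smul_add, smul_sub] }, ?_⟩
  ext z : 2
  refine groupCohomology.cocycles₁_ext fun c => ?_
  induction c using QuotientGroup.induction_on with
  | H a =>
    refine Subtype.ext ?_
    let f := (groupCohomology.mapCocycles₁ (QuotientGroup.mk' P) (Rep.ofHom (A.ρ.quotientToInvariants_lift P))) z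
    have hX : X f = 0 := by
      show e.symm (∑ p : P, f p.1) = 0
      rw [Finset.sum_eq_zero (fun p _ => ?_), map_zero]
      show ((z (p.1 : G ⧸ P)) : A) = 0
      rw [(QuotientGroup.eq_one_iff _).2 p.2, groupCohomology.cocycles₁_map_one]
      rfl
    show f a + (A.ρ a (X f) - X f) = ((z (a : G ⧸ P)) : A)
    rw [hX, map_zero, sub_zero, add_zero]
    rfl

end Groth.Agent.S14181
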