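import Groth.Statements.S14184
import Groth.Agent.LocSym56.Weil

set_option autoImplicit false
universe u
open CategoryTheory AlgebraicGeometry
open LocSym

namespace Groth.Agent.S14184

/-- Let k be an algebraically closed field and X a smooth proper integral curve over k (structure
morphism c, dimension one); points are k-points and ord_x is the valuation at x. Let n ≥ 1, let Z be
a finite set of points, let f₁, f₂ be nonzero rational functions and D₁, D₁′, D₂ divisors (finitely
supported integer-valued functions on points) with n·D₁ = div(f₁) + D₁′, D₁′ supported on Z, n·D₂ =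
div(f₂), f₂ taking the value 1 at every point of Z, and div(f₁) and D₂ with disjoint supports. Let
v₁(x) ∈ kˣ be the value of f₁ at each point of the support of D₂ and v₂(x) ∈ kˣ the value of f₂ at
each point of the support of D₁. Then the quotient of ∏_x v₁(x)^{D₂(x)} by ∏_x v₂(x)^{D₁(x)} is an
n-th root of unity: its n-th power is 1. (This quotient f₁(D₂)/f₂(D₁) is the generalised Weil
pairing of the classes of (D₁, D₁′, f₁) and D₂; the published statement also normalises f₁, f₂ at a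
base point, which is not needed for this assertion.) -/
theorem result
    (k : Type u) [Field k] [IsAlgClosed k] (X : Scheme.{u}) [IsIntegral X]
    (c : X ⟶ Spec (CommRingCat.of k)) [IsProper c] [Smooth c] (hdim : topologicalKrullDim X = 1)
    (n : ℕ) (hn : 1 ≤ n) (Z : Finset (LocSym.Pt c))
    (f₁ f₂ : X.functionField) (hf₁ : f₁ ≠ 0) (hf₂ : f₂ ≠ 0)
    (D₁ D₁' D₂ : LocSym.Pt c →₀ ℤ)
    (hD₁ : ∀ x : LocSym.Pt c, (n : ℤ) * D₁ x = x.ord f₁ + D₁' x) (hD₁' : D₁'.support ⊆ Z)
    (hD₂ : ∀ x : LocSym.Pt c, (n : ℤ) * D₂ x = x.ord f₂)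
    (hf₂Z : ∀ x ∈ Z, LocSym.HasValueAt x f₂ 1)
    (hdisj : ∀ x : LocSym.Pt c, x.ord f₁ = 0 ∨ D₂ x = 0)
    (v₁ v₂ : LocSym.Pt c → kˣ)
    (hv₁ : ∀ x ∈ D₂.support, LocSym.HasValueAt x f₁ (v₁ x : k))
    (hv₂ : ∀ x ∈ D₁.support, LocSym.HasValueAt x f₂ (v₂ x : k)) :
    ((D₂.prod fun x e => v₁ x ^ e) / (D₁.prod fun x e => v₂ x ^ e)) ^ n = 1 := by
  classical
  obtain ⟨vf, hvf⟩ := Groth.Agent.LocSym56.exists_values (c := c) hdim hf₁
  obtain ⟨vg, hvg⟩ := Groth.Agent.LocSym56.exists_values (c := c) hdim hf₂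
  have hn0 : (n : ℤ) ≠ 0 := by exact_mod_cast (show n ≠ 0 by omega)
  have hdisj' : ∀ x : LocSym.Pt c, x.ord f₁ = 0 ∨ x.ord f₂ = 0 := fun x =>
    (hdisj x).imp id fun h => by rw [← hD₂ x, h, mul_zero]
  have h1 : ∀ x ∈ D₂.support, v₁ x = vf x := fun x hx => by
    have h0 : x.ord f₁ = 0 := (hdisj x).resolve_right (Finsupp.mem_support_iff.1 hx)
    exact Units.ext (Groth.Agent.LocSym56.value_unique hdim x (hv₁ x hx) (hvf x h0))
  have h2 : ∀ x ∈ D₁.support, v₂ x = vg x := fun x hx => by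
    have h0 := (Groth.Agent.LocSym56.ord_eq_zero_of_value hdim x (hv₂ x hx)).2
    exact Units.ext (Groth.Agent.LocSym56.value_unique hdim x (hv₂ x hx) (hvg x h0))
  have hZ : ∀ x ∈ Z, vg x = 1 := fun x hx => by
    have hv : LocSym.HasValueAt x f₂ ((1 : kˣ) : k) := by rw [Units.val_one]; exact hf₂Z x hx
    have h0 := (Groth.Agent.LocSym56.ord_eq_zero_of_value hdim x hv).2
    exact Units.ext (Groth.Agent.LocSym56.value_unique hdim x (hvg x h0) hv)
  have e2 : (D₂.prod fun x e => v₁ x ^ e) ^ n = ∏ᶠ x : LocSym.Pt c, vf x ^ x.ord f₂ := by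
    rw [Finsupp.prod, ← Finset.prod_pow, finprod_eq_prod_of_mulSupport_subset _ (s := D₂.support) fun x hx => by
      by_contra h
      refine hx ?_
      show vf x ^ x.ord f₂ = 1
      rw [← hD₂ x, Finsupp.notMem_support_iff.1 h, mul_zero, zpow_zero]]
    refine Finset.prod_congr rfl fun x hx => ?_
    rw [h1 x hx, ← zpow_natCast, ← zpow_mul, mul_comm, hD₂ x]
  have e1 : (D₁.prod fun x e => v₂ x ^ e) ^ n = ∏ᶠ x : LocSym.Pt c, vg x ^ x.ord f₁ := by
    rw [Finsupp.prod, ← Finset.prod_pow, finprod_eq_prod_of_mulSupport_subset _ (s := D₁.support) fun x hx => by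
      by_contra h
      refine hx ?_
      show vg x ^ x.ord f₁ = 1
      have h' := hD₁ x
      rw [Finsupp.notMem_support_iff.1 h, mul_zero] at h'
      by_cases hD : D₁' x = 0
      · rw [show x.ord f₁ = 0 by omega, zpow_zero]
      · rw [hZ x (hD₁' (Finsupp.mem_support_iff.2 hD)), one_zpow]]
    refine Finset.prod_congr rfl fun x hx => ?_
    rw [h2 x hx, ← zpow_natCast, ← zpow_mul, mul_comm, hD₁ x, zpow_add]
    by_cases hD : D₁' x = 0
    · rw [hD, zpow_zero, mul_one]
    · rw [hZ x (hD₁' (Finsupp.mem_support_iff.2 hD)), one_zpow, one_zpow, one_mul]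
  rw [div_pow, e1, e2, Groth.Agent.LocSym56.weil_disjoint hdim f₁ f₂ hf₁ hf₂ hdisj' vf vg hvf hvg, div_self']

end Groth.Agent.S14184
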