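import Groth.Statements.S14192
import Mathlib.RingTheory.PowerSeries.Derivative
import Mathlib.RingTheory.PowerSeries.Inverse
import Mathlib.RingTheory.PowerSeries.Exp

set_option autoImplicit false
open PowerSeries
open StackCount

namespace Groth.Agent.S14192

open scoped PowerSeries


/-- Let R = Σ_n r_n X^n be a Laurent polynomial with integer coefficients and q > 1 an integer. In the
ring of formal power series in t over ℚ, the exponential of Σ_{v ≥ 1} R(q^v) t^v / v equals the
finite product Π_n (1 - q^n t)^(-r_n). Stated here with denominators cleared: the exponential series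
multiplied by Π_{n : r_n > 0} (1 - q^n t)^(r_n) equals Π_{n : r_n < 0} (1 - q^n t)^(-r_n) (each
factor 1 - q^n t is a unit, so this is equivalent). -/
theorem result (R : LaurentPolynomial ℤ) (q : ℤ) (hq : 1 < q) :
    (PowerSeries.exp ℚ).subst
        (PowerSeries.mk fun v : ℕ => if v = 0 then (0 : ℚ)
          else (R.coeff.sum fun (n : ℤ) (r : ℤ) => (r : ℚ) * (q : ℚ) ^ (n * (v : ℤ))) / (v : ℚ))
      * ∏ n ∈ R.coeff.support, (1 - PowerSeries.C ((q : ℚ) ^ n) * PowerSeries.X) ^ (R.coeff n).toNat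
    = ∏ n ∈ R.coeff.support, (1 - PowerSeries.C ((q : ℚ) ^ n) * PowerSeries.X) ^ (-(R.coeff n)).toNat := by
  classical
  let f : ℤ → ℚ⟦X⟧ := fun n => 1 - PowerSeries.C ((q : ℚ) ^ n) * PowerSeries.X
  let g : ℤ → ℚ⟦X⟧ := fun n => PowerSeries.mk fun m => -((q : ℚ) ^ n) ^ (m + 1)
  have hfg : ∀ n, d⁄dX ℚ (f n) = f n * g n := fun n => by
    ext m
    simp only [f, g, map_sub, PowerSeries.coeff_derivative, sub_mul, one_mul, mul_assoc]
    rcases m with _ | m
    · simp
    · simp [PowerSeries.coeff_C_mul, PowerSeries.coeff_succ_X_mul, PowerSeries.coeff_X, pow_succ]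
      ring
  have hprod : ∀ (k : ℤ → ℕ) (s : Finset ℤ),
      d⁄dX ℚ (∏ n ∈ s, f n ^ k n) = (∏ n ∈ s, f n ^ k n) * ∑ n ∈ s, (k n : ℚ⟦X⟧) * g n := by
    intro k s
    induction s using Finset.induction_on with
    | empty => simp
    | insert a s ha ih =>
      rw [Finset.prod_insert ha, Finset.sum_insert ha, Derivation.leibniz, ih, Derivation.leibniz_pow, hfg]
      simp only [smul_eq_mul, nsmul_eq_mul]
      rcases k a with _ | j
      · simp
      · simp only [pow_succ, Nat.add_sub_cancel]; ring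
  let S : ℚ⟦X⟧ := PowerSeries.mk fun v : ℕ => if v = 0 then (0 : ℚ)
          else (R.coeff.sum fun (n : ℤ) (r : ℤ) => (r : ℚ) * (q : ℚ) ^ (n * (v : ℤ))) / (v : ℚ)
  have hS0 : PowerSeries.constantCoeff S = 0 := by simp [S]
  have hS : PowerSeries.HasSubst S := PowerSeries.HasSubst.of_constantCoeff_zero' hS0
  let A : ℚ⟦X⟧ := ∑ n ∈ R.coeff.support, ((R.coeff n).toNat : ℚ⟦X⟧) * g n
  let B : ℚ⟦X⟧ := ∑ n ∈ R.coeff.support, ((-(R.coeff n)).toNat : ℚ⟦X⟧) * g n
  have hS' : d⁄dX ℚ S + A = B := by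
    ext m
    simp only [S, A, B, map_add, map_sum, PowerSeries.coeff_derivative, PowerSeries.coeff_mk, Nat.succ_ne_zero,
      if_false, Nat.cast_add, Nat.cast_one, ← map_natCast (PowerSeries.C (R := ℚ)), PowerSeries.coeff_C_mul, g,
      Finsupp.sum]
    rw [div_mul_cancel₀ _ (Nat.cast_add_one_ne_zero m), ← Finset.sum_add_distrib]
    refine Finset.sum_congr rfl fun n _ => ?_
    rw [← zpow_natCast ((q : ℚ) ^ n) (m + 1), ← zpow_mul]
    have h : ((R.coeff n).toNat : ℚ) - ((-(R.coeff n)).toNat : ℚ) = (R.coeff n : ℚ) := by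
      have := Int.toNat_sub_toNat_neg (R.coeff n)
      exact_mod_cast this
    push_cast
    linear_combination (-((q : ℚ) ^ (n * ((m : ℤ) + 1)))) * h
  let Q : ℚ⟦X⟧ := PowerSeries.subst S (PowerSeries.exp ℚ)
  have hQ' : d⁄dX ℚ Q = Q * d⁄dX ℚ S := by
    simp only [Q]
    rw [PowerSeries.derivative_subst hS, PowerSeries.derivative_exp]
  have hQ0 : PowerSeries.constantCoeff Q = 1 := by
    simp only [Q]
    refine (PowerSeries.constantCoeff_subst hS _).trans ?_
    rw [finsum_eq_single _ 0 fun d hd => ?_]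
    · simp
    · rw [map_pow, show MvPowerSeries.constantCoeff S = 0 from hS0, zero_pow hd, smul_zero]
  let P : ℚ⟦X⟧ := ∏ n ∈ R.coeff.support, f n ^ (R.coeff n).toNat
  let M : ℚ⟦X⟧ := ∏ n ∈ R.coeff.support, f n ^ (-(R.coeff n)).toNat
  have hP0 : PowerSeries.constantCoeff P = 1 := by simp [P, f]
  have hM0 : PowerSeries.constantCoeff M = 1 := by simp [M, f]
  have hMM : M * M⁻¹ = 1 := PowerSeries.mul_inv_cancel M (by rw [hM0]; exact one_ne_zero)
  have hu : Q * P * M⁻¹ = 1 := by
    refine PowerSeries.derivative.ext ?_ (by simp [hQ0, hP0, hM0])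
    have h1 : d⁄dX ℚ P = P * A := hprod _ _
    have h2 : d⁄dX ℚ M = M * B := hprod _ _
    rw [Derivation.leibniz, PowerSeries.derivative_inv', Derivation.leibniz, hQ', h1, h2,
      Derivation.map_one_eq_zero, smul_eq_mul, smul_eq_mul, smul_eq_mul, smul_eq_mul, ← hS']
    linear_combination (-(Q * P * M⁻¹ * (d⁄dX ℚ S + A))) * hMM
  calc Q * P = Q * P * (M * M⁻¹) := by rw [hMM, mul_one]
    _ = M := by rw [mul_comm M, ← mul_assoc, hu, one_mul]

end Groth.Agent.S14192
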