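import Groth.Statements.S14194
import Groth.Agent.ChainRep38.Basic
import Mathlib.LinearAlgebra.Matrix.ToLin
import Mathlib.LinearAlgebra.Pi

set_option autoImplicit false
universe u
open W4c1btstackcounts
open StackCount

namespace Groth.Agent.S14194

/-- Let k be a field and d_1, …, d_r sizes (given as a function d on the naturals; only d_1, …, d_r
matter). The group Π_j GL_{d_j}(k) acts on chains of matrices f_i of size d_{i+1} × d_i (1 ≤ i < r)
by f_i ↦ g_{i+1} f_i g_i^(-1). Sending a chain to the array a_{i,j} = dim (f_{j-1} ⋯ f_i)(k^{d_i})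
(1 ≤ i ≤ j ≤ r) is constant on orbits, takes values in the set of admissible arrays (a_{j,j} = d_j;
a_{i,j} ≤ a_{i+1,j} for i < j; a_{i,j+1} ≤ a_{i,j} for j < r; a_{i,j} - a_{i-1,j} ≥ a_{i,j+1} -
a_{i-1,j+1} for 1 < i ≤ j < r), separates orbits, and reaches every admissible array: it is a
bijection from the orbit set onto the admissible arrays. (The published statement also asserts that,
when k is Galois over a subfield, the bijection is compatible with the Galois group acting entrywise
on matrices and trivially on arrays; this row omits that clause.) -/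
theorem result (k : Type u) [Field k] (d : ℕ → ℕ) (r : ℕ) :
    (∀ (g : (j : ℕ) → Matrix.GeneralLinearGroup (Fin (d j)) k)
        (f : (i : ℕ) → Matrix (Fin (d (i + 1))) (Fin (d i)) k) (i j : ℕ),
        1 ≤ i → i ≤ j → j ≤ r → rankArray (conj g f) i j = rankArray f i j) ∧
    (∀ f : (i : ℕ) → Matrix (Fin (d (i + 1))) (Fin (d i)) k, IsRankArray d r (rankArray f)) ∧
    (∀ f f' : (i : ℕ) → Matrix (Fin (d (i + 1))) (Fin (d i)) k,
        (∀ i j : ℕ, 1 ≤ i → i ≤ j → j ≤ r → rankArray f i j = rankArray f' i j) →
        ∃ g : (j : ℕ) → Matrix.GeneralLinearGroup (Fin (d j)) k,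
          ∀ i : ℕ, 1 ≤ i → i + 1 ≤ r → conj g f i = f' i) ∧
    (∀ a : ℕ → ℕ → ℕ, IsRankArray d r a →
        ∃ f : (i : ℕ) → Matrix (Fin (d (i + 1))) (Fin (d i)) k,
          ∀ i j : ℕ, 1 ≤ i → i ≤ j → j ≤ r → rankArray f i j = a i j) := by
  classical
  let lm : ((i : ℕ) → Matrix (Fin (d (i + 1))) (Fin (d i)) k) → ∀ i, (Fin (d i) → k) →ₗ[k] (Fin (d (i + 1)) → k) :=
    fun f i => Matrix.toLin' (f i)
  have hit : ∀ f i n, iterImage f i n = LinearMap.range (ChainRep38.tr (lm f) i (Nat.le_add_right i n)) := by
    intro f i n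
    induction n with
    | zero => exact ((congrArg LinearMap.range (ChainRep38.tr_self (lm f) i (Nat.le_refl i))).trans LinearMap.range_id).symm
    | succ n ih =>
      rw [iterImage, ih]
      exact (ChainRep38.range_tr_succ (lm f) (Nat.le_add_right i n) _).symm
  have hrk : ∀ f i j, 1 ≤ i → i ≤ j → rankArray f i j = ChainRep38.rk (lm f) i j := by
    intro f i j hi hij
    obtain ⟨n, rfl⟩ := Nat.exists_eq_add_of_le hij
    rw [rankArray, if_pos hij, ChainRep38.rk_of_pos _ (by omega) hij, Nat.add_sub_cancel_left, hit]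
  refine ⟨?_, ?_, ?_, ?_⟩
  · intro g f i j hi hij hjr
    rw [hrk _ _ _ hi hij, hrk _ _ _ hi hij, ChainRep38.rk_of_pos _ (by omega) hij, ChainRep38.rk_of_pos _ (by omega) hij]
    let e : ∀ j, (Fin (d j) → k) ≃ₗ[k] (Fin (d j) → k) := fun j =>
      LinearEquiv.ofLinearMap (Matrix.toLin' (g j : Matrix (Fin (d j)) (Fin (d j)) k))
        (Matrix.toLin' (((g j)⁻¹ : Matrix.GeneralLinearGroup (Fin (d j)) k) : Matrix (Fin (d j)) (Fin (d j)) k))
        (by rw [← Matrix.toLin'_mul, ← Units.val_mul, mul_inv_cancel, Units.val_one, Matrix.toLin'_one])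
        (by rw [← Matrix.toLin'_mul, ← Units.val_mul, inv_mul_cancel, Units.val_one, Matrix.toLin'_one])
    have htr : ∀ j (hij : i ≤ j), ChainRep38.tr (lm (conj g f)) i hij =
        (e j).toLinearMap ∘ₗ ChainRep38.tr (lm f) i hij ∘ₗ (e i).symm.toLinearMap := by
      intro j hij
      induction j, hij using Nat.le_induction with
      | base => rw [ChainRep38.tr_self, ChainRep38.tr_self, LinearMap.id_comp]; ext x; simp
      | succ j hle ih =>
        rw [ChainRep38.tr_succ _ hle, ChainRep38.tr_succ _ hle, ih]
        have h1 : lm (conj g f) j = (e (j + 1)).toLinearMap ∘ₗ lm f j ∘ₗ (e j).symm.toLinearMap := by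
          simp only [lm, conj, Matrix.toLin'_mul, LinearMap.comp_assoc]
          rfl
        rw [h1]
        refine LinearMap.ext fun x => ?_
        simp only [LinearMap.comp_apply, LinearEquiv.coe_coe, LinearEquiv.symm_apply_apply]
    rw [htr, ← LinearMap.comp_assoc, LinearMap.range_comp_of_range_eq_top _ (LinearEquiv.range _), LinearMap.range_comp]
    exact LinearEquiv.finrank_map_eq _ _
  · intro f
    refine ⟨fun j hj _ => ?_, fun i j hi hij _ => ?_, fun i j hi hij _ => ?_, fun i j hi hij _ => ?_⟩
    · rw [hrk _ _ _ hj le_rfl, ChainRep38.rk_diag _ (by omega), Module.finrank_pi, Fintype.card_fin]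
    · rw [hrk _ _ _ hi hij.le, hrk _ _ _ (by omega) hij]
      exact ChainRep38.rk_mono_left _ hij
    · rw [hrk _ _ _ hi hij, hrk _ _ _ hi (by omega), ChainRep38.rk_of_pos _ (by omega) hij,
        ChainRep38.rk_of_pos _ (by omega) (by omega : i ≤ j + 1), ChainRep38.range_tr_succ _ hij]
      exact Submodule.finrank_map_le _ _
    · rw [hrk _ _ _ (by omega : 1 ≤ i) hij, hrk _ _ _ (by omega : 1 ≤ i) (by omega : i ≤ j + 1),
        hrk _ _ _ (by omega : 1 ≤ i - 1) (by omega : i - 1 ≤ j), hrk _ _ _ (by omega : 1 ≤ i - 1) (by omega : i - 1 ≤ j + 1),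
        ChainRep38.rk_of_pos _ (by omega) hij, ChainRep38.rk_of_pos _ (by omega) (by omega : i ≤ j + 1),
        ChainRep38.rk_of_pos _ (by omega) (by omega : i - 1 ≤ j), ChainRep38.rk_of_pos _ (by omega) (by omega : i - 1 ≤ j + 1),
        ChainRep38.range_tr_succ _ hij, ChainRep38.range_tr_succ _ (by omega : i - 1 ≤ j)]
      have h := ChainRep38.finrank_map_sub_le (lm f j) (ChainRep38.range_tr_le (lm f) (by omega : i - 1 ≤ i) hij)
      omega
  · intro f f' h
    obtain ⟨φ, hφ⟩ := ChainRep38.exists_iso (lm f) (lm f') r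
      (fun i j hi hij hjr => by rw [← hrk _ _ _ hi hij, ← hrk _ _ _ hi hij, h i j hi hij hjr]) (fun j => LinearEquiv.refl k _)
    let g : (j : ℕ) → Matrix.GeneralLinearGroup (Fin (d j)) k := fun j =>
      ⟨LinearMap.toMatrix' (φ j).toLinearMap, LinearMap.toMatrix' (φ j).symm.toLinearMap,
        by rw [← LinearMap.toMatrix'_comp, LinearEquiv.comp_coe, LinearEquiv.symm_trans_self]; exact LinearMap.toMatrix'_id,
        by rw [← LinearMap.toMatrix'_comp, LinearEquiv.comp_coe, LinearEquiv.self_trans_symm]; exact LinearMap.toMatrix'_id⟩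
    refine ⟨g, fun i hi hir => Matrix.toLin'.injective (LinearMap.ext fun x => ?_)⟩
    simp only [conj, Matrix.toLin'_mul, LinearMap.comp_apply, g, Units.inv_mk, Matrix.toLin'_toMatrix', LinearEquiv.coe_coe]
    refine (hφ i hi hir _).trans ?_
    rw [LinearEquiv.apply_symm_apply]
  · rintro a ⟨hdiag, hinc, hdec, hconc⟩
    have hmono : ∀ j i i', 1 ≤ i → i ≤ i' → i' ≤ j → j ≤ r → a i j ≤ a i' j := by
      intro j i i' hi hii
      induction i', hii using Nat.le_induction with
      | base => exact fun _ _ => le_rfl
      | succ i' hle ih => exact fun h1 h2 => (ih (by omega) h2).trans (hinc i' j (by omega) (by omega) h2)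
    have hδ : ∀ j i i', 1 ≤ i → i ≤ i' → i' ≤ j → j < r → a i j - a i (j + 1) ≤ a i' j - a i' (j + 1) := by
      intro j i i' hi hii
      induction i', hii using Nat.le_induction with
      | base => exact fun _ _ => le_rfl
      | succ i' hle ih =>
        intro h1 h2
        have h3 := hconc (i' + 1) j (by omega) h1 h2
        rw [Nat.add_sub_cancel] at h3
        have h4 := ih (by omega) h2
        have h5 := hdec (i' + 1) j (by omega) h1 h2
        have h6 := hdec i' j (by omega) (by omega) h2
        omega
    let s : ℕ → ℕ → ℕ := fun j p =>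
      ((Finset.Icc 1 j).filter fun i => a i (j + 1) ≤ p).sup fun i => a i j - a i (j + 1)
    let f : (i : ℕ) → Matrix (Fin (d (i + 1))) (Fin (d i)) k := fun j =>
      Matrix.of fun p q => if (p : ℕ) < a j (j + 1) ∧ (q : ℕ) = p + s j p then 1 else 0
    let E : (j : ℕ) → ℕ → Submodule k (Fin (d j) → k) := fun j n =>
      Submodule.pi {q : Fin (d j) | n ≤ (q : ℕ)} fun _ => ⊥
    have hE : ∀ j n (x : Fin (d j) → k), x ∈ E j n ↔ ∀ q : Fin (d j), n ≤ (q : ℕ) → x q = 0 := fun j n x => by
      simp [E, Submodule.mem_pi]
    have hstep : ∀ i j, 1 ≤ i → i ≤ j → j < r → (E j (a i j)).map (Matrix.toLin' (f j)) = E (j + 1) (a i (j + 1)) := by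
      intro i j hi hij hjr
      have hlow : ∀ p, p < a i (j + 1) → p + s j p < a i j := by
        intro p hp
        have : s j p ≤ a i j - a i (j + 1) := Finset.sup_le fun i' hi' => by
          simp only [Finset.mem_filter, Finset.mem_Icc] at hi'
          rcases le_total i' i with h | h
          · exact hδ j i' i hi'.1.1 h hij hjr
          · have := hmono (j + 1) i i' hi h (by omega) (by omega); omega
        have := hdec i j hi hij hjr
        omega
      have hhigh : ∀ p, a i (j + 1) ≤ p → a i j ≤ p + s j p := by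
        intro p hp
        have : a i j - a i (j + 1) ≤ s j p :=
          Finset.le_sup (f := fun i => a i j - a i (j + 1)) (by simp [hi, hij, hp])
        omega
      have hinj : ∀ p p', p + s j p = p' + s j p' → p = p' := by
        have hm : ∀ p p', p ≤ p' → s j p ≤ s j p' := fun p p' h =>
          Finset.sup_mono fun x hx => by simp only [Finset.mem_filter] at hx ⊢; exact ⟨hx.1, hx.2.trans h⟩
        intro p p' h
        rcases le_total p p' with h' | h'
        · have := hm p p' h'; omega
        · have := hm p' p h'; omega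
      have haj : a i j ≤ d j := (hmono j i j hi hij le_rfl hjr.le).trans_eq (hdiag j (by omega) hjr.le)
      have hab : a i (j + 1) ≤ a j (j + 1) := hmono (j + 1) i j hi hij (by omega) (by omega)
      refine le_antisymm ?_ fun z hz => ?_
      · rintro _ ⟨x, hx, rfl⟩
        rw [SetLike.mem_coe, hE] at hx
        rw [hE]
        intro p hp
        rw [Matrix.toLin'_apply]
        simp only [f, Matrix.mulVec, dotProduct, Matrix.of_apply]
        refine Finset.sum_eq_zero fun q _ => ?_
        split_ifs with hc
        · rw [hx q (by rw [hc.2]; exact hhigh p hp), mul_zero]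
        · rw [zero_mul]
      · rw [hE] at hz
        refine ⟨fun q => ∑ p : Fin (d (j + 1)), if (p : ℕ) < a i (j + 1) ∧ (q : ℕ) = p + s j p then z p else 0, ?_, ?_⟩
        · rw [SetLike.mem_coe, hE]
          intro q hq
          refine Finset.sum_eq_zero fun p _ => if_neg fun hc => ?_
          have := hlow p hc.1
          omega
        · funext p
          rw [Matrix.toLin'_apply]
          simp only [f, Matrix.mulVec, dotProduct, Matrix.of_apply]
          by_cases hp : (p : ℕ) < a i (j + 1)
          · have hq : (p : ℕ) + s j p < d j := (hlow p hp).trans_le haj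
            rw [Finset.sum_eq_single ⟨p + s j p, hq⟩ (fun q _ hne => by
                rw [if_neg fun hc => hne (Fin.ext hc.2), zero_mul]) (by simp),
              if_pos ⟨hp.trans_le hab, rfl⟩, one_mul,
              Finset.sum_eq_single p (fun p' _ hne => if_neg fun hc => hne (Fin.ext (hinj _ _ hc.2).symm)) (by simp)]
            rw [if_pos ⟨hp, rfl⟩]
          · rw [hz p (not_lt.mp hp)]
            refine Finset.sum_eq_zero fun q _ => ?_
            split_ifs with hc
            · rw [one_mul]
              refine Finset.sum_eq_zero fun p' _ => if_neg fun hc' => hp ?_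
              rw [hinj p p' (hc.2.symm.trans hc'.2)]
              exact hc'.1
            · rw [zero_mul]
    have hiter : ∀ i n, 1 ≤ i → i + n ≤ r → iterImage f i n = E (i + n) (a i (i + n)) := by
      intro i n hi
      induction n with
      | zero =>
        intro hn
        refine (eq_top_iff.mpr fun x _ => (hE _ _ x).mpr fun q hq => ?_).symm
        have := q.2
        simp only [Nat.add_zero, hdiag i hi hn] at hq this
        omega
      | succ n ih =>
        intro hn
        rw [iterImage, ih (by omega)]
        exact hstep i (i + n) hi (by omega) (by omega)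
    have hfin : ∀ j n, n ≤ d j → Module.finrank k (E j n) = n := by
      intro j n hn
      let e : E j n ≃ₗ[k] (Fin n → k) :=
        { toFun := fun x q => (x : Fin (d j) → k) (Fin.castLE hn q)
          map_add' := fun _ _ => rfl
          map_smul' := fun _ _ => rfl
          invFun := fun z => ⟨fun q => if h : (q : ℕ) < n then z ⟨q, h⟩ else 0, (hE _ _ _).mpr fun q hq => dif_neg (by omega)⟩
          left_inv := fun x => Subtype.ext (funext fun q => by
            show (if h : (q : ℕ) < n then (x : Fin (d j) → k) _ else 0) = _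
            split_ifs with h
            · rfl
            · exact ((hE _ _ _).mp x.2 q (not_lt.mp h)).symm)
          right_inv := fun z => funext fun q => by
            show (if h : ((Fin.castLE hn q : Fin (d j)) : ℕ) < n then z ⟨(Fin.castLE hn q : Fin (d j)), h⟩ else 0) = _
            rw [dif_pos (show ((Fin.castLE hn q : Fin (d j)) : ℕ) < n from q.2)]
            rfl }
      rw [e.finrank_eq, Module.finrank_pi, Fintype.card_fin]
    refine ⟨f, fun i j hi hij hjr => ?_⟩
    obtain ⟨n, rfl⟩ := Nat.exists_eq_add_of_le hij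
    rw [rankArray, if_pos hij, Nat.add_sub_cancel_left, hiter i n hi hjr,
      hfin _ _ ((hmono (i + n) i (i + n) hi hij le_rfl hjr).trans_eq (hdiag (i + n) (by omega) hjr))]

end Groth.Agent.S14194
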