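import Groth.Statements.S14195
import Mathlib.FieldTheory.Finite.GaloisField
import Mathlib.FieldTheory.KrullTopology
import Mathlib.FieldTheory.Galois.Basic
import Mathlib.FieldTheory.IsAlgClosed.AlgebraicClosure
-- import your own Groth.Agent.* helpers here

set_option autoImplicit false
universe u v
open StackCount

namespace Groth.Agent.S14195

section
variable (k : Type u) [Field k] [Finite k]

variable {π : AlgebraicClosure k ≃ₐ[k] AlgebraicClosure k} (hπ : ∀ x : AlgebraicClosure k, π x = x ^ Nat.card k)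

include hπ in
omit [Finite k] in
theorem pow_apply (n : ℕ) (x : AlgebraicClosure k) : (π ^ n) x = x ^ Nat.card k ^ n := by
  induction n with
  | zero => simp
  | succ n ih => rw [pow_succ', AlgEquiv.mul_apply, ih, hπ, ← pow_mul, pow_succ]

include hπ in
/-- On a finite extension every automorphism is a power of Frobenius. -/
theorem exists_pow_eq (E : IntermediateField k (AlgebraicClosure k)) [FiniteDimensional k E] (σ : AlgebraicClosure k ≃ₐ[k] AlgebraicClosure k) :
    ∃ n : ℕ, ∀ x ∈ E, σ x = (π ^ n) x := by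
  classical
  haveI : Finite E := Module.finite_of_finite k
  haveI := Fintype.ofFinite k
  haveI : IsGalois k E := GaloisField.instIsGaloisOfFinite
  obtain ⟨n, hn⟩ := (FiniteField.bijective_frobeniusAlgHom_pow k E).2 (σ.restrictNormal E).toAlgHom
  refine ⟨n, fun x hx => ?_⟩
  have h := AlgEquiv.restrictNormal_commutes σ E ⟨x, hx⟩
  have hp : ∀ (m : ℕ) (y : E), (FiniteField.frobeniusAlgHom k E ^ m) y = y ^ Fintype.card k ^ m := by
    intro m y
    induction m with
    | zero => simp
    | succ m ih =>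
      rw [pow_succ', AlgHom.mul_apply, ih, FiniteField.coe_frobeniusAlgHom]
      show (y ^ Fintype.card k ^ m) ^ Fintype.card k = _
      rw [← pow_mul, pow_succ]
  have h2 := congrArg (fun f : E →ₐ[k] E => (f ⟨x, hx⟩ : AlgebraicClosure k)) hn
  simp only [hp, SubmonoidClass.coe_pow] at h2
  rw [pow_apply k hπ, Nat.card_eq_fintype_card, h2]
  exact h.symm

include hπ in
theorem finite_fixed {N : ℕ} (hN : 0 < N) : {x : AlgebraicClosure k | (π ^ N) x = x}.Finite := by
  have hq : 1 < Nat.card k ^ N := Nat.one_lt_pow hN.ne' Finite.one_lt_card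
  refine (Polynomial.finite_setOf_isRoot (p := (Polynomial.X ^ (Nat.card k ^ N) - Polynomial.X :
    Polynomial (AlgebraicClosure k))) (FiniteField.X_pow_card_sub_X_ne_zero _ hq)).subset fun x hx => ?_
  show Polynomial.IsRoot _ x
  rw [Polynomial.IsRoot, Polynomial.eval_sub, Polynomial.eval_pow, Polynomial.eval_X, ← pow_apply k hπ, hx, sub_self]

include hπ in
theorem card_fixed {N : ℕ} (hN : 0 < N) :
    {x : AlgebraicClosure k | (π ^ N) x = x}.ncard = Nat.card k ^ N := by
  classical
  haveI := Fintype.ofFinite k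
  obtain ⟨m, hp, hm⟩ := FiniteField.card k (ringChar k)
  haveI : CharP (AlgebraicClosure k) (ringChar k) :=
    charP_of_injective_algebraMap (algebraMap k (AlgebraicClosure k)).injective _
  have hq : 1 < Nat.card k ^ N := Nat.one_lt_pow hN.ne' Finite.one_lt_card
  let g : Polynomial (AlgebraicClosure k) := Polynomial.X ^ (Nat.card k ^ N) - Polynomial.X
  have hsep : g.Separable := galois_poly_separable (ringChar k) _ (by
    rw [Nat.card_eq_fintype_card, hm, ← pow_mul]
    exact dvd_pow_self _ (Nat.mul_ne_zero m.ne_zero hN.ne'))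
  have hcard := Polynomial.card_rootSet_eq_natDegree (K := AlgebraicClosure k) hsep (IsAlgClosed.splits _)
  rw [FiniteField.X_pow_card_sub_X_natDegree_eq _ hq] at hcard
  rw [← hcard, Fintype.card_eq_nat_card, Nat.card_coe_set_eq]
  congr 1
  ext x
  rw [Polynomial.mem_rootSet, Set.mem_ofPred_eq, pow_apply k hπ]
  refine (and_iff_right (FiniteField.X_pow_card_sub_X_ne_zero (AlgebraicClosure k) hq)).symm.trans (Iff.of_eq ?_)
  simp [g, sub_eq_zero]

include hπ in
/-- The fixed field of a power of Frobenius. -/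
theorem exists_level {N : ℕ} (hN : 0 < N) :
    ∃ E : IntermediateField k (AlgebraicClosure k), FiniteDimensional k E ∧
      (∀ x, (π ^ N) x = x → x ∈ E) ∧ (∀ x ∈ E, (π ^ N) x = x) ∧
      ∀ m n : ℕ, (∀ x ∈ E, (π ^ m) x = (π ^ n) x) → m ≡ n [MOD N] := by
  classical
  let E := IntermediateField.fixedField (Subgroup.zpowers (π ^ N))
  have hmem : ∀ x, x ∈ E ↔ (π ^ N) x = x := fun x => by
    rw [IntermediateField.mem_fixedField_iff]
    refine ⟨fun h => h _ (Subgroup.mem_zpowers _), fun h f hf => ?_⟩
    have hz : π ^ N ∈ MulAction.stabilizer (AlgebraicClosure k ≃ₐ[k] AlgebraicClosure k) x := h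
    exact (Subgroup.zpowers_le.2 hz) hf
  haveI : Finite E := ((finite_fixed k hπ hN).subset fun x hx => (hmem x).1 hx).to_subtype
  refine ⟨E, Module.Finite.of_finite, fun x => (hmem x).2, fun x => (hmem x).1, ?_⟩
  have key : ∀ d, d < N → (∀ x ∈ E, (π ^ d) x = x) → d = 0 := by
    intro d hd h
    by_contra hd0
    have hsub : {x : AlgebraicClosure k | (π ^ N) x = x} ⊆ {x | (π ^ d) x = x} := fun x hx => h x ((hmem x).2 hx)
    have := Set.ncard_le_ncard hsub (finite_fixed k hπ (Nat.pos_of_ne_zero hd0))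
    rw [card_fixed k hπ hN, card_fixed k hπ (Nat.pos_of_ne_zero hd0)] at this
    exact (Nat.pow_lt_pow_right Finite.one_lt_card hd).not_ge this
  have hmodN : ∀ m, ∀ x ∈ E, (π ^ m) x = (π ^ (m % N)) x := by
    intro m x hx
    conv_lhs => rw [← Nat.mod_add_div m N, pow_add, AlgEquiv.mul_apply, pow_mul]
    congr 1
    have hz : π ^ N ∈ MulAction.stabilizer (AlgebraicClosure k ≃ₐ[k] AlgebraicClosure k) x := (hmem x).1 hx
    exact (pow_mem hz (m / N) :)
  have hle : ∀ a b, b < N → a ≤ b → (∀ x ∈ E, (π ^ a) x = (π ^ b) x) → a = b := by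
    intro a b hb hab h
    have : b - a = 0 := key _ (by omega) fun x hx => by
      apply (π ^ a).injective
      rw [← AlgEquiv.mul_apply, ← pow_add, Nat.add_sub_cancel' hab]
      exact (h x hx).symm
    omega
  intro m n h
  have h' : ∀ x ∈ E, (π ^ (m % N)) x = (π ^ (n % N)) x := fun x hx => by rw [← hmodN m x hx, ← hmodN n x hx, h x hx]
  rcases le_total (m % N) (n % N) with hmn | hmn
  · exact hle _ _ (Nat.mod_lt _ hN) hmn h'
  · exact (hle _ _ (Nat.mod_lt _ hN) hmn fun x hx => (h' x hx).symm).symm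

end

/-- Let k be a finite field, k̄ an algebraic closure, Γ = Aut(k̄/k) with the Krull topology and π ∈ Γ
the Frobenius x ↦ x^(#k). Let A be a group on which Γ acts by group automorphisms, with open
stabilisers, such that every element of A lies in a finite Γ-stable subgroup. Then z ↦ z(π) is a
bijection from the locally constant 1-cocycles Γ → A (the continuous cocycles for discrete A) onto
A, and two such cocycles z, z' are cohomologous if and only if z'(π) = g · z(π) · (π g)^(-1) for
some g in A; hence it induces a bijection of the continuous first cohomology set with the quotient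
of A by the twisted conjugation g · x = g x (π g)^(-1). (The published statement takes A to be the
group of k̄-points of a smooth algebraic group over k with its Galois action; this row assumes only
the two properties of that action which the proof uses.) -/
theorem result (k : Type u) [Field k] [Finite k]
    (π : AlgebraicClosure k ≃ₐ[k] AlgebraicClosure k)
    (hπ : ∀ x : AlgebraicClosure k, π x = x ^ Nat.card k)
    (A : Type v) [Group A] [MulDistribMulAction (AlgebraicClosure k ≃ₐ[k] AlgebraicClosure k) A]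
    (hcont : ∀ a : A, IsOpen {σ : AlgebraicClosure k ≃ₐ[k] AlgebraicClosure k | σ • a = a})
    (hfin : ∀ a : A, ∃ H : Subgroup A, (H : Set A).Finite ∧ a ∈ H ∧
      ∀ (σ : AlgebraicClosure k ≃ₐ[k] AlgebraicClosure k) (x : A), x ∈ H → σ • x ∈ H) :
    Function.Bijective
        (fun z : GpH1.OneCocycleLC (AlgebraicClosure k ≃ₐ[k] AlgebraicClosure k) A => z.1 π) ∧
      ∀ z z' : GpH1.OneCocycleLC (AlgebraicClosure k ≃ₐ[k] AlgebraicClosure k) A,
        z.cl = z'.cl ↔ ∃ g : A, z'.1 π = g * z.1 π * (π • g)⁻¹ := by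
  classical
  let G := AlgebraicClosure k ≃ₐ[k] AlgebraicClosure k
  have hone : ∀ w : GpH1.OneCocycle G A, w 1 = 1 := fun w => by
    have h := w.2 1 1
    rw [mul_one, one_smul] at h
    exact mul_eq_left.1 h.symm
  have huniq : ∀ w w' : GpH1.OneCocycle G A, IsLocallyConstant (w : G → A) → IsLocallyConstant (w' : G → A) →
      w π = w' π → ∀ σ, w σ = w' σ := by
    intro w w' hw hw' h σ
    have hpow : ∀ n : ℕ, w (π ^ n) = w' (π ^ n) := by
      intro n
      induction n with
      | zero => rw [pow_zero, hone, hone]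
      | succ n ih => rw [pow_succ', w.2, w'.2, h, ih]
    have hV : IsOpen {τ : G | w τ = w σ ∧ w' τ = w' σ} :=
      (hw.isOpen_fiber (w σ)).inter (hw'.isOpen_fiber (w' σ))
    have hnhds : (fun τ => σ * τ) ⁻¹' {τ : G | w τ = w σ ∧ w' τ = w' σ} ∈ nhds (1 : G) :=
      (hV.preimage (continuous_const_mul σ)).mem_nhds (by simp)
    obtain ⟨E, hE, hsub⟩ := (krullTopology_mem_nhds_one_iff k (AlgebraicClosure k) _).1 hnhds
    haveI := hE
    obtain ⟨n, hn⟩ := exists_pow_eq k hπ E σ
    have hmem : σ⁻¹ * π ^ n ∈ E.fixingSubgroup := by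
      rw [IntermediateField.mem_fixingSubgroup_iff]
      intro x hx
      rw [AlgEquiv.mul_apply, ← hn x hx]
      exact σ.symm_apply_apply x
    obtain ⟨h1, h2⟩ := hsub hmem
    simp only [mul_inv_cancel_left] at h1 h2
    rw [← h1, ← h2, hpow]
  refine ⟨⟨fun z z' h => Subtype.ext (GpH1.OneCocycle.ext (huniq z.1 z'.1 z.2 z'.2 h)), fun a => ?_⟩, fun z z' => ?_⟩
  · obtain ⟨H, hHfin, haH, hHstab⟩ := hfin a
    haveI : Finite H := hHfin.to_subtype
    have hUopen : IsOpen {σ : G | ∀ y ∈ H, σ • y = y} := by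
      have : {σ : G | ∀ y ∈ H, σ • y = y} = ⋂ y ∈ (H : Set A), {σ : G | σ • y = y} := by ext; simp
      rw [this]
      exact hHfin.isOpen_biInter fun y _ => hcont y
    obtain ⟨E₀, hE₀, hsub⟩ := (krullTopology_mem_nhds_one_iff k (AlgebraicClosure k) _).1
      (hUopen.mem_nhds (fun y _ => one_smul _ y))
    haveI := hE₀
    haveI : Finite E₀ := Module.finite_of_finite k
    haveI := Fintype.ofFinite E₀
    haveI := Fintype.ofFinite k
    set M := Module.finrank k E₀
    have hM : 0 < M := Module.finrank_pos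
    have hπM : ∀ x ∈ E₀, (π ^ M) x = x := fun x hx => by
      rw [pow_apply k hπ, Nat.card_eq_fintype_card, ← Module.card_eq_pow_finrank (K := k) (V := E₀)]
      exact congrArg Subtype.val (FiniteField.pow_card (⟨x, hx⟩ : E₀))
    let b : ℕ → A := fun n => Nat.rec 1 (fun _ acc => a * π • acc) n
    have hb0 : b 0 = 1 := rfl
    have hbs : ∀ n, b (n + 1) = a * π • b n := fun n => rfl
    have hbadd : ∀ m n, b (m + n) = b m * π ^ m • b n := by
      intro m n
      induction m with
      | zero => rw [Nat.zero_add, hb0, pow_zero, one_smul, one_mul]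
      | succ m ih => rw [Nat.add_right_comm, hbs, ih, smul_mul', hbs, pow_succ', mul_smul, mul_assoc]
    have hbH : ∀ n, b n ∈ H := by
      intro n
      induction n with
      | zero => exact H.one_mem
      | succ n ih => exact H.mul_mem haH (hHstab π _ ih)
    have hfixM : ∀ y ∈ H, π ^ M • y = y := hsub ((IntermediateField.mem_fixingSubgroup_iff _ _).2 hπM)
    have hfixMul : ∀ j, ∀ y ∈ H, π ^ (M * j) • y = y := fun j y hy => by
      have hz : π ^ M ∈ MulAction.stabilizer G y := hfixM y hy
      rw [pow_mul]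
      exact (pow_mem hz j :)
    have hbj : ∀ j, b (M * j) = b M ^ j := by
      intro j
      induction j with
      | zero => rw [mul_zero, hb0, pow_zero]
      | succ j ih => rw [Nat.mul_succ, hbadd, ih, hfixMul j _ (hbH M), pow_succ]
    obtain ⟨e, he, hbe⟩ : ∃ e, 0 < e ∧ b M ^ e = 1 := by
      refine ⟨orderOf (⟨b M, hbH M⟩ : H), orderOf_pos _, ?_⟩
      have := congrArg Subtype.val (pow_orderOf_eq_one (⟨b M, hbH M⟩ : H))
      simpa using this
    set N := M * e
    have hN : 0 < N := Nat.mul_pos hM he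
    have hperN : ∀ j n, b (n + N * j) = b n := by
      intro j n
      rw [hbadd, show N * j = M * (e * j) from mul_assoc _ _ _, hbj, pow_mul, hbe, one_pow, smul_one, mul_one]
    have hper : ∀ m n, m ≡ n [MOD N] → b m = b n := fun m n h => by
      rw [← Nat.mod_add_div m N, ← Nat.mod_add_div n N, hperN, hperN, h]
    obtain ⟨E, hEfd, hE1, hE2, hE3⟩ := exists_level k hπ hN
    haveI := hEfd
    have hfixN : ∀ x ∈ E₀, x ∈ E := fun x hx => hE1 x (by
      have hz : π ^ M ∈ MulAction.stabilizer G x := hπM x hx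
      rw [pow_mul]
      exact (pow_mem hz e :))
    choose ν hν using fun σ : G => exists_pow_eq k hπ E σ
    have hact : ∀ σ : G, ∀ y ∈ H, σ • y = π ^ ν σ • y := fun σ y hy => by
      have h : (π ^ ν σ)⁻¹ * σ ∈ E₀.fixingSubgroup := by
        rw [IntermediateField.mem_fixingSubgroup_iff]
        intro x hx
        rw [AlgEquiv.mul_apply, hν σ x (hfixN x hx)]
        exact (π ^ ν σ).symm_apply_apply x
      have := hsub h y hy
      rwa [mul_smul, inv_smul_eq_iff] at this
    have hpowmem : ∀ n, ∀ x ∈ E, (π ^ n) x ∈ E := fun n x hx => hE1 _ (by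
      rw [← AlgEquiv.mul_apply, ← pow_add, add_comm, pow_add, AlgEquiv.mul_apply, hE2 x hx])
    let zf : G → A := fun σ => b (ν σ)
    have hco : GpH1.IsOneCocycle zf := fun σ τ => by
      show b (ν (σ * τ)) = b (ν σ) * σ • b (ν τ)
      rw [hact σ _ (hbH _), ← hbadd]
      refine hper _ _ (hE3 _ _ fun x hx => ?_)
      rw [← hν _ x hx, AlgEquiv.mul_apply, hν τ x hx, hν σ _ (hpowmem _ x hx), pow_add, AlgEquiv.mul_apply]
    have hlc : IsLocallyConstant zf := by
      rw [IsLocallyConstant.iff_exists_open]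
      intro σ
      refine ⟨(fun τ => σ⁻¹ * τ) ⁻¹' (E.fixingSubgroup : Set G),
        E.fixingSubgroup_isOpen.preimage (continuous_const_mul _), ?_, fun τ hτ => ?_⟩
      · show σ⁻¹ * σ ∈ E.fixingSubgroup
        rw [inv_mul_cancel]; exact one_mem _
      · refine hper _ _ (hE3 _ _ fun x hx => ?_)
        have := (IntermediateField.mem_fixingSubgroup_iff _ _).1 hτ x hx
        rw [← hν τ x hx, ← hν σ x hx]
        conv_rhs => rw [← this]
        exact (σ.apply_symm_apply (τ x)).symm
    refine ⟨⟨⟨zf, hco⟩, hlc⟩, ?_⟩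
    show b (ν π) = a
    rw [hper (ν π) 1 (hE3 _ _ fun x hx => by rw [← hν π x hx, pow_one]), show b 1 = a * π • b 0 from rfl, hb0, smul_one, mul_one]
  · rw [GpH1.OneCocycleLC.cl_eq_cl_iff]
    constructor
    · rintro ⟨c, hc⟩
      exact ⟨c, by rw [hc π]; group⟩
    · rintro ⟨g, hg⟩
      let wf : G → A := fun σ => g⁻¹ * z'.1 σ * σ • g
      have hwco : GpH1.IsOneCocycle wf := fun σ τ => by
        show g⁻¹ * z'.1 (σ * τ) * (σ * τ) • g = (g⁻¹ * z'.1 σ * σ • g) * σ • (g⁻¹ * z'.1 τ * τ • g)
        rw [z'.1.2, smul_mul', smul_mul', smul_inv', mul_smul]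
        group
      have hsm : IsLocallyConstant fun σ : G => σ • g := by
        rw [IsLocallyConstant.iff_exists_open]
        intro σ
        exact ⟨(fun τ => σ⁻¹ * τ) ⁻¹' {τ : G | τ • g = g}, (hcont g).preimage (continuous_const_mul _),
          by show (σ⁻¹ * σ) • g = g; rw [inv_mul_cancel, one_smul],
          fun τ hτ => by
            have h : (σ⁻¹ * τ) • g = g := hτ
            rwa [mul_smul, inv_smul_eq_iff] at h⟩
      have hwlc : IsLocallyConstant wf := (z'.2.comp (fun y => g⁻¹ * y)).comp₂ hsm (· * ·)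
      exact ⟨g, huniq z.1 ⟨wf, hwco⟩ z.2 hwlc (by show z.1 π = g⁻¹ * z'.1 π * π • g; rw [hg]; group)⟩

end Groth.Agent.S14195
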