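import Groth.Statements.S14199
import Groth.Agent.ASB64.Rules

set_option autoImplicit false
universe u
open CategoryTheory CategoryTheory.Limits AlgebraicGeometry
open ASBun

namespace Groth.Agent.S14199

/-- Let A be a central simple algebra of degree n ≥ 1 over a field k (of dimension n² over k), X a
proper k-scheme which is the Severi–Brauer scheme of A (for every commutative k-algebra R its
R-points over k are, naturally in R, the left ideals of R ⊗_k A with projective quotient of rank n²
− n), K an algebraic closure of k and e a K-isomorphism X_K ≅ P^{n−1}_K, along which O_e(j) denotes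
the pullback of the twisting sheaf O(j); let p be the period of A (the least p ≥ 1 for which the
p-fold tensor power of A is a full matrix algebra over k), a an integer, and W an indecomposable
finite locally free O_X-module (nonzero, and in any decomposition as a direct sum one summand is
zero) with W_K ≅ O_e(ap)^{⊕r}, r ≥ 1. Then W is an invertible O_X-module and r = 1: the
indecomposable module of type O(ap) is the descent of O(ap) to X. -/
theorem result (k : Type u) [Field k] (A : Type u) [Ring A] [Algebra k A]
    [Algebra.IsCentral k A] [IsSimpleRing A] (n : ℕ) (hn : 0 < n)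
    (hA : Module.finrank k A = n * n) {X : Scheme.{u}} (f : X ⟶ Spec (CommRingCat.of k))
    [IsProper f] (hX : BrSev.IsSBOf k A (n * n - n) f)
    (K : Type u) [Field K] [Algebra k K] [IsAlgClosure k K] (e : BrSev.Splitting f K (n - 1))
    (p : ℕ) (hp : CSAGal.IsPeriod k A p) (a : ℤ)
    (W : X.Modules) (hW : FlatMod.IsFinLocFree W)
    (hWi : (¬ IsZero W ∧ ∀ M₁ M₂ : X.Modules, Nonempty (W ≅ M₁ ⊞ M₂) → IsZero M₁ ∨ IsZero M₂))
    (r : ℕ) (hr : 0 < r) (hWt : BrSev.IsTwPow e (a * (p : ℤ)) r W) :
    PicF.IsInvertible W ∧ r = 1 := by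
  obtain ⟨m, rfl⟩ : ∃ m, n = m + 1 := ⟨n - 1, by omega⟩
  letI : X.Over (Spec (CommRingCat.of k)) := ⟨f⟩
  haveI : IsProper (X ↘ Spec (CommRingCat.of k)) := ‹IsProper f›
  haveI : FiniteDimensional k A := Module.finite_of_finrank_pos (by rw [hA]; positivity)
  obtain ⟨-, hord⟩ := (Groth.Agent.Csa25.isPeriod_iff k A p).mp hp
  have hr1 : r = 1 := by
    have h := Groth.Agent.ASB64.isIndex_tpow (n := m) e hA hX hW hWi hr hWt
    obtain ⟨_, _, _, -, -⟩ := Groth.Agent.Csa25.pi_tensor_csa (k := k) (Fin (a * (p : ℤ)).natAbs) fun _ => A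
    refine Groth.Agent.Csa25.isIndex_unique h (Groth.Agent.Csa25.splits_iff_isIndex_one.mp
      ((Groth.Agent.Csa25.splits_tpow_iff k A _).mpr ?_))
    rw [Int.natAbs_mul, Int.natAbs_natCast, mul_comm, pow_mul, ← hord, pow_orderOf_eq_one, one_pow]
  subst hr1
  haveI := Groth.Agent.Props58.LocFree.isQuasicoherent_of_isFinLocFree hW
  obtain ⟨i⟩ := hWt
  exact ⟨Groth.Agent.ASB64.isInvertible_of_type_one (k := k) K
    (Groth.Agent.ASB64.isInvertible_twist' e (a * (p : ℤ))) W i, rfl⟩

end Groth.Agent.S14199
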