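import Groth.Statements.S14202
import Groth.Agent.ASB64.Rules

set_option autoImplicit false
universe u
open CategoryTheory CategoryTheory.Limits AlgebraicGeometry
open ASBun

namespace Groth.Agent.S14202

/-- Let X be a scheme proper over a field k, K an algebraic closure of k, e a K-isomorphism X_K ≅ P^n_K
with O_e(j) the pullback of O(j) along e, and j an integer. If W and W' are indecomposable finite
locally free O_X-modules (nonzero, and in any decomposition as a direct sum one summand is zero)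
with W_K ≅ O_e(j)^{⊕r} and W'_K ≅ O_e(−j)^{⊕r'} for some r, r' ≥ 1, then r = r': the indecomposable
modules of types O(j) and O(−j) have the same rank (W' is isomorphic to the dual of W). -/
theorem result (k : Type u) [Field k] {X : Scheme.{u}}
    (f : X ⟶ Spec (CommRingCat.of k)) [IsProper f] (n : ℕ)
    (K : Type u) [Field K] [Algebra k K] [IsAlgClosure k K] (e : BrSev.Splitting f K n) (j : ℤ)
    (W W' : X.Modules) (hW : FlatMod.IsFinLocFree W) (hW' : FlatMod.IsFinLocFree W')
    (hWi : (¬ IsZero W ∧ ∀ M₁ M₂ : X.Modules, Nonempty (W ≅ M₁ ⊞ M₂) → IsZero M₁ ∨ IsZero M₂))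
    (hW'i : (¬ IsZero W' ∧ ∀ M₁ M₂ : X.Modules, Nonempty (W' ≅ M₁ ⊞ M₂) → IsZero M₁ ∨ IsZero M₂))
    (r r' : ℕ) (hr : 0 < r) (hr' : 0 < r') (hWt : BrSev.IsTwPow e j r W)
    (hW't : BrSev.IsTwPow e (-j) r' W') : r = r' := by
  letI : X.Over (Spec (CommRingCat.of k)) := ⟨f⟩
  haveI : IsProper (X ↘ Spec (CommRingCat.of k)) := ‹IsProper f›
  haveI : IsAlgClosed K := IsAlgClosure.isAlgClosed k
  haveI : Algebra.IsAlgebraic k K := IsAlgClosure.isAlgebraic
  have hΓ : Function.Bijective (Coh.toGlobal (Groth.Agent.FF71.bc k X K ↘ Spec (CommRingCat.of K))) :=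
    Groth.Agent.ASB64.bijective_toGlobal_of_splitting e
  have h := Groth.Agent.ASB64.typed_of_isTwPow e hW hWt
  have h' := Groth.Agent.ASB64.typed_of_isTwPow e hW' hW't
  obtain ⟨t⟩ := Groth.Agent.ASB64.nonempty_twist_add' e j (-j)
  obtain ⟨z⟩ := Groth.Agent.ASB64.nonempty_twist_zero' e
  have hz : CohB1.tensorMod (e.twist j) (e.twist (-j)) ≅ Coh.structureModule _ :=
    t ≪≫ eqToIso (congrArg e.twist (add_neg_cancel j)) ≪≫ z
  have h1 := (Groth.Agent.ASB64.endCl_tensor hΓ h h' hr hr').symm.trans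
    (Groth.Agent.ASB64.endCl_eq_one_of_trivial hΓ (h.tensor h') (Nat.mul_pos hr hr') hz)
  refine Groth.Agent.ASB64.eq_of_zpowers_eq hΓ hΓ h hWi h' hW'i ?_
  rw [eq_inv_of_mul_eq_one_right h1, Subgroup.zpowers_inv]

end Groth.Agent.S14202
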