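import Groth.Statements.S14205
import Groth.Agent.Csa25.TensorPower

set_option autoImplicit false
universe u v
open scoped TensorProduct
open Brauer
open scoped Groth.Agent.Csa25

namespace Groth.Agent.S14205

/-- Let A be a finite-dimensional central simple algebra over a field k with period p: p is the least
positive integer for which the p-fold tensor power of A over k is a full matrix algebra over k. Then
for every r ≥ 1 the r-fold tensor power of A has period p / gcd(p, r) (the order of the r-th
multiple of an element of order p). -/
theorem result (k : Type u) [Field k] (A : Type v) [Ring A] [Algebra k A]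
    [Algebra.IsCentral k A] [IsSimpleRing A] [FiniteDimensional k A] (p : ℕ)
    (hp : CSAGal.IsPeriod k A p) (r : ℕ) (hr : 0 < r) :
    CSAGal.IsPeriod k (CSAGal.tpow k A r) (p / Nat.gcd p r) := by
  obtain ⟨hp0, hord⟩ := (Groth.Agent.Csa25.isPeriod_iff k A p).mp hp
  refine (Groth.Agent.Csa25.isPeriod_iff k (CSAGal.tpow k A r) _).mpr
    ⟨Nat.div_pos (Nat.gcd_le_left r hp0) (Nat.gcd_pos_of_pos_left r hp0), ?_⟩
  rw [Groth.Agent.Csa25.cl_tpow, orderOf_pow' _ hr.ne', hord]

end Groth.Agent.S14205
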