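import Groth.Statements.S14216
import Groth.Agent.ASB64.SBTypes

set_option autoImplicit false
universe u
open CategoryTheory CategoryTheory.Limits AlgebraicGeometry
open ASBun

namespace Groth.Agent.S14216

/-- Let A be a central simple algebra of degree n ≥ 1 over a field k (of dimension n² over k), X a
proper k-scheme which is the Severi–Brauer scheme of A (for every commutative k-algebra R its
R-points over k are, naturally in R, the left ideals of R ⊗_k A with projective quotient of rank n²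
− n), K an algebraic closure of k and e a K-isomorphism X_K ≅ P^{n−1}_K, along which O_e(j) denotes
the pullback of the twisting sheaf O(j); suppose A has index 2 (A is a matrix algebra over a
division ring of dimension 4 over k). Let E be a finite locally free O_X-module which is absolutely
split: E_K is isomorphic to a finite direct sum of invertible O_{X_K}-modules. Then E ≅ (L_1 ⊕ ⋯ ⊕
L_s) ⊕ (M_1 ⊕ ⋯ ⊕ M_t) where each L_i is an invertible O_X-module with (L_i)_K ≅ O_e(2a_i) and each
M_i is an indecomposable finite locally free O_X-module (nonzero, and in any decomposition as a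
direct sum one summand is zero) of rank 2 with (M_i)_K ≅ O_e(2b_i + 1)^{⊕2}, for integers a_i, b_i.
(The published statement also records that s, t and the a_i, b_j are unique, which is the
Krull–Schmidt uniqueness and is not restated here.) -/
theorem result (k : Type u) [Field k] (A : Type u) [Ring A] [Algebra k A]
    [Algebra.IsCentral k A] [IsSimpleRing A] (n : ℕ) (hn : 0 < n)
    (hA : Module.finrank k A = n * n) {X : Scheme.{u}} (f : X ⟶ Spec (CommRingCat.of k))
    [IsProper f] (hX : BrSev.IsSBOf k A (n * n - n) f)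
    (K : Type u) [Field K] [Algebra k K] [IsAlgClosure k K] (e : BrSev.Splitting f K (n - 1))
    (hi : CSAGal.IsIndex k A 2) (E : X.Modules) (hE : FlatMod.IsFinLocFree E)
    (s₀ : ℕ) (Ns : Fin s₀ → (BrSev.bc f K).Modules) (hNs : ∀ i, PicF.IsInvertible (Ns i))
    (hsplit : Nonempty (BrSev.bcMod f K E ≅ ∐ Ns)) :
    ∃ (s t : ℕ) (Ls : Fin s → X.Modules) (Ms : Fin t → X.Modules) (a : Fin s → ℤ) (b : Fin t → ℤ),
      (∀ i, PicF.IsInvertible (Ls i) ∧ BrSev.IsTwPow e (2 * a i) 1 (Ls i)) ∧
      (∀ i, FlatMod.IsFinLocFree (Ms i) ∧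
        (¬ IsZero (Ms i) ∧ ∀ M₁ M₂ : X.Modules, Nonempty ((Ms i) ≅ M₁ ⊞ M₂) → IsZero M₁ ∨ IsZero M₂) ∧
        BrSev.IsTwPow e (2 * b i + 1) 2 (Ms i)) ∧
      Nonempty (E ≅ (∐ Ls) ⊞ (∐ Ms)) := by
  obtain ⟨m, rfl⟩ : ∃ m, n = m + 1 := ⟨n - 1, by omega⟩
  letI : X.Over (Spec (CommRingCat.of k)) := ⟨f⟩
  haveI : IsProper (X ↘ Spec (CommRingCat.of k)) := ‹IsProper f›
  haveI : FiniteDimensional k A := Module.finite_of_finrank_pos (by rw [hA]; positivity)
  haveI : HasFiniteBiproducts X.Modules := HasFiniteBiproducts.of_hasFiniteProducts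
  have hord : orderOf (Groth.Agent.Csa25.cl k A) = 2 := by
    refine ((Nat.dvd_prime Nat.prime_two).mp (Groth.Agent.Csa25.orderOf_dvd_index hi)).resolve_left fun h1 => ?_
    have h := Groth.Agent.Csa25.isIndex_unique hi (Groth.Agent.Csa25.splits_iff_isIndex_one.mp
      (Groth.Agent.Csa25.splits_iff_cl_eq_one.mpr (orderOf_eq_one_iff.mp h1)))
    omega
  obtain ⟨t, Ms, js, rs, hMs, ⟨v⟩⟩ :=
    Groth.Agent.ASB64.absSplit_decomp (n := m) hA hX e E hE s₀ Ns hNs hsplit
  have hr : ∀ i, rs i = 2 / Nat.gcd 2 (js i).natAbs := fun i =>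
    Groth.Agent.ASB64.eq_div_gcd (n := m) e hA hX hi hord (hMs i).1 (hMs i).2.1 (hMs i).2.2.1 (hMs i).2.2.2
  classical
  let P : Fin t → Prop := fun i => Even (js i)
  let g₁ := Fintype.equivFin {i // P i}
  let g₂ := Fintype.equivFin {i // ¬ P i}
  let g : Fin (Fintype.card {i // P i}) ⊕ Fin (Fintype.card {i // ¬ P i}) ≃ Fin t :=
    (Equiv.sumCongr g₁.symm g₂.symm).trans (Equiv.sumCompl P)
  refine ⟨_, _, fun a => Ms (g₁.symm a).1, fun b => Ms (g₂.symm b).1, fun a => js (g₁.symm a).1 / 2,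
    fun b => js (g₂.symm b).1 / 2, fun a => ?_, fun b => ?_, ⟨?_⟩⟩
  · obtain ⟨c, hc⟩ : Even (js (g₁.symm a).1) := (g₁.symm a).2
    have h2 : 2 * (js (g₁.symm a).1 / 2) = js (g₁.symm a).1 := by omega
    have h1 : rs (g₁.symm a).1 = 1 := by
      rw [hr, show (js (g₁.symm a).1).natAbs = 2 * c.natAbs by omega, Nat.gcd_mul_right_right]
    obtain ⟨-, -, -, h⟩ := hMs (g₁.symm a).1
    rw [h1] at h
    refine ⟨?_, by rw [h2]; exact h⟩
    haveI := (hMs (g₁.symm a).1).1
    haveI : (Ms (g₁.symm a).1).IsQuasicoherent :=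
      Groth.Agent.Props58.LocFree.isQuasicoherent_of_isFinLocFree (hMs (g₁.symm a).1).1
    obtain ⟨i⟩ := h
    exact Groth.Agent.ASB64.isInvertible_of_type_one (k := k) K (Groth.Agent.ASB64.isInvertible_twist' e _) _ i
  · have ho : ¬ Even (js (g₂.symm b).1) := (g₂.symm b).2
    rw [Int.not_even_iff] at ho
    have h2 : 2 * (js (g₂.symm b).1 / 2) + 1 = js (g₂.symm b).1 := by omega
    have h1 : rs (g₂.symm b).1 = 2 := by
      rw [hr, Nat.Coprime.gcd_eq_one (Nat.coprime_two_left.mpr (Nat.odd_iff.mpr (by omega)))]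
    obtain ⟨hf, hi', -, h⟩ := hMs (g₂.symm b).1
    rw [h1] at h
    exact ⟨hf, hi', by rw [h2]; exact h⟩
  · exact v ≪≫ (biproduct.isoCoproduct Ms).symm ≪≫
      (biproduct.whiskerEquiv (f := fun x => Sum.elim (fun a => Ms (g₁.symm a).1) (fun b => Ms (g₂.symm b).1)
        (finSumFinEquiv.symm x)) (g := Ms) (finSumFinEquiv.symm.trans g) fun x => eqToIso (by
          rw [Equiv.trans_apply]; cases finSumFinEquiv.symm x <;> simp [g])).symm ≪≫
      (Groth.Agent.KSchm95.sumIso (fun a => Ms (g₁.symm a).1) fun b => Ms (g₂.symm b).1).symm ≪≫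
      biprod.mapIso (biproduct.isoCoproduct _) (biproduct.isoCoproduct _)

end Groth.Agent.S14216
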