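import Groth.Statements.S14261
import Groth.Agent.PerfModel31.Basic

set_option autoImplicit false
universe u
open CategoryTheory
open FrobAlg

namespace Groth.Agent.S14261

/-- Let p be a prime, B a perfect ring of characteristic p and A a perfect B-algebra (p = 0 in A and the
p-th power map of A is bijective). Suppose A is a finitely presentable object of the category of
perfect B-algebras (the full subcategory of B-algebras on the perfect ones): B-algebra maps from A
into a filtered colimit of perfect B-algebras factor through some term of the system, uniquely after
passing to a later term. Then A is perfectly finitely presented over B: there are a finitely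
presented B-algebra A₀ and a B-algebra homomorphism k : A₀ → A which exhibits A as a perfect closure
of A₀ (every element of A has some p^n-th power in the image of k, and every element of the kernel
of k is nilpotent). (The published statement is the equivalence, for morphisms of quasi-compact
quasi-separated perfect schemes, of perfect finite presentation with a compactness condition ranging
over cofiltered systems of perfect schemes with affine transition maps; this row is the case of
affine schemes with the compactness condition tested on affine systems only, which is all the
published argument uses.) -/
theorem result (p : ℕ) [Fact p.Prime] (B : CommRingCat.{u})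
    [CharP B p] [PerfectRing B p]
    (A : ObjectProperty.FullSubcategory fun Y : Under B => (p : Y.right) = 0 ∧ Function.Bijective fun y : Y.right => y ^ p)
    [IsFinitelyPresentable.{u} A] :
    ∃ (A₀ : Type u) (_ : CommRing A₀) (_ : Algebra B A₀) (_ : Algebra.FinitePresentation B A₀)
      (k : A₀ →+* A.obj.right), k.comp (algebraMap B A₀) = A.obj.hom.hom ∧ IsPRadical k p := by
  have hB : (p : B) = 0 := CharP.cast_eq_zero B p
  rcases subsingleton_or_nontrivial A.obj.right with h | h
  · letI : CommRing (B ⧸ (⊤ : Ideal B)) := inferInstance
    haveI : Subsingleton (B ⧸ (⊤ : Ideal B)) := Ideal.Quotient.subsingleton_iff.2 rfl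
    refine ⟨B ⧸ (⊤ : Ideal B), inferInstance, inferInstance,
      Algebra.FinitePresentation.quotient ⟨{1}, by simp⟩,
      { toFun := fun _ => 0, map_one' := Subsingleton.elim _ _, map_mul' := fun _ _ => (mul_zero _).symm,
        map_zero' := rfl, map_add' := fun _ _ => (add_zero _).symm }, RingHom.ext fun _ => Subsingleton.elim _ _, ?_⟩
    refine ⟨fun a => ⟨0, 0, Subsingleton.elim _ _⟩, fun z _ => ?_⟩
    rw [Subsingleton.elim z 0]
    exact zero_mem _
  · exact PerfModel31.model hB A

end Groth.Agent.S14261
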