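import Groth.Statements.S14262
import Mathlib.RingTheory.Flat.EquationalCriterion
import Mathlib.FieldTheory.Perfect
import Mathlib.RingTheory.Nilpotent.Basic

set_option autoImplicit false
universe u
open FrobAlg

namespace Groth.Agent.S14262

/-- Let p be a prime, A a perfect ring of characteristic p and f ∈ A. The radical of the principal ideal
(f) — equivalently the ideal generated by all p^n-th roots of f, n ≥ 0 — is a flat A-module. -/
theorem result (p : ℕ) [Fact p.Prime] (A : Type u) [CommRing A]
    [CharP A p] [PerfectRing A p] (f : A) :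
    Module.Flat A ((Ideal.span {f}).radical) := by
  classical
  have : IsReduced A := ⟨fun x ⟨n, hn⟩ => (iterateFrobeniusEquiv A p n).injective <| by
    rw [map_zero, iterateFrobeniusEquiv_def]
    exact pow_eq_zero_of_le (Nat.lt_pow_self (Fact.out : p.Prime).one_lt).le hn⟩
  let g : ℕ → A := fun n => ((frobeniusEquiv A p).symm)^[n] f
  have hg : ∀ n, g (n + 1) ^ p = g n := fun n => by
    simp only [g, Function.iterate_succ_apply']
    exact frobeniusEquiv_symm_pow_p A p _
  have hgn : ∀ n, g n ^ p ^ n = f := fun n => by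
    induction n with
    | zero => simp [g]
    | succ n ih => rw [pow_succ' p n, pow_mul, hg, ih]
  have hrad : ∀ x ∈ (Ideal.span {f}).radical, ∃ N, ∀ n, N ≤ n → g n ∣ x := by
    rintro x ⟨m, hm⟩
    obtain ⟨c, hc⟩ := Ideal.mem_span_singleton.1 hm
    refine ⟨m, fun n hn => ?_⟩
    have hle : m ≤ p ^ n := hn.trans (Nat.lt_pow_self (Fact.out : p.Prime).one_lt).le
    obtain ⟨j, hj⟩ := Nat.exists_eq_add_of_le hle
    obtain ⟨d, hd⟩ : ∃ d, d ^ p ^ n = c * x ^ j := by
      obtain ⟨d, hd⟩ := (iterateFrobeniusEquiv A p n).surjective (c * x ^ j)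
      exact ⟨d, by rw [← hd]; exact (iterateFrobenius_def p n d).symm⟩
    refine ⟨d, ?_⟩
    apply (iterateFrobeniusEquiv A p n).injective
    change iterateFrobenius A p n x = iterateFrobenius A p n (g n * d)
    rw [iterateFrobenius_def, iterateFrobenius_def, mul_pow, hgn, hd, hj, pow_add, hc, mul_assoc]
  rw [Module.Flat.iff_forall_isTrivialRelation]
  intro l c x hx
  choose N hN using fun i => hrad (x i : A) (x i).2
  let M := Finset.univ.sup N
  choose a ha using fun i => hN i M (Finset.le_sup (Finset.mem_univ i))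
  have h0 : g M * ∑ i, c i * a i = 0 := by
    rw [Finset.mul_sum]
    have := congrArg (fun z : (Ideal.span {f}).radical => (z : A)) hx
    simp only [AddSubmonoidClass.coe_finset_sum, Submodule.coe_smul, smul_eq_mul, ZeroMemClass.coe_zero] at this
    rw [← this]
    exact Finset.sum_congr rfl fun i _ => by rw [ha]; ring
  have h1 : g (M + 1) * ∑ i, c i * a i = 0 := by
    refine eq_zero_of_pow_eq_zero (n := p) ?_
    obtain ⟨q, hq⟩ := Nat.exists_eq_add_one_of_ne_zero (Fact.out : p.Prime).ne_zero
    rw [mul_pow, hg, hq, pow_succ', ← mul_assoc, h0, zero_mul]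
  obtain ⟨q, hq⟩ := Nat.exists_eq_add_of_le (Fact.out : p.Prime).two_le
  have hy : g (M + 1) ^ (p - 1) ∈ (Ideal.span {f}).radical := by
    refine Ideal.pow_mem_of_mem _ (Ideal.mem_radical_iff.2 ⟨p ^ (M + 1), ?_⟩) _ (by omega)
    rw [hgn]
    exact Ideal.mem_span_singleton_self f
  refine ⟨1, fun i _ => a i * g (M + 1), fun _ => ⟨_, hy⟩, fun i => ?_, fun _ => ?_⟩
  · apply Subtype.ext
    simp only [Finset.univ_unique, Finset.sum_singleton, Submodule.coe_smul, smul_eq_mul]
    rw [ha, mul_assoc, ← pow_succ', Nat.sub_add_cancel (Fact.out : p.Prime).one_le, hg, mul_comm]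
  · rw [← h1, Finset.mul_sum]
    exact Finset.sum_congr rfl fun i _ => by ring

end Groth.Agent.S14262
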