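import Groth.Statements.S14274
import Groth.Statements.S14274
import Groth.Agent.Tors37.Extend2
import Groth.Agent.Sga84.TorsorDesc
import Groth.Agent.Unr55.DescProps
import Mathlib.AlgebraicGeometry.Morphisms.LocalFlatDescent

set_option autoImplicit false
universe u
open scoped CategoryTheory.Obj
open NonAbH1

namespace Groth.Agent.S14274

open AlgebraicGeometry CategoryTheory CategoryTheory.Limits MonoidalCategory in
/-- Let X be a scheme, G a finite locally free X-group scheme (finite, flat and locally of finite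
presentation over X, not necessarily commutative), and U an open subscheme of X whose inclusion is
quasi-compact, such that for every point z of X outside U the local ring of X at z is regular of
Krull dimension at least 2. Let Q₁ and Q₂ be fppf G-torsors over X. Then every U-morphism between
their base changes to U that is equivariant for the base-changed group is the base change of a
unique G-equivariant X-morphism Q₁ -> Q₂. (With the essential-surjectivity row this is the statement
that pullback is an equivalence from G-torsors over X to torsors over U under the base change of G.) -/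
theorem result {X : Scheme.{u}} (G : Over X) [GrpObj G]
    [IsFinite G.hom] [Flat G.hom] [LocallyOfFinitePresentation G.hom]
    (U : X.Opens) [QuasiCompact U.ι]
    (hZ : ∀ z : X, z ∉ U → IsRegularLocalRing (X.presheaf.stalk z) ∧ (2 : WithBot ℕ∞) ≤ ringKrullDim (X.presheaf.stalk z))
    (Q₁ Q₂ : Over X) (a₁ : AlgGrp.Action G Q₁) (a₂ : AlgGrp.Action G Q₂)
    (h₁ : NonAbH1.IsTorsorFor Scheme.fppfPrecoverage a₁) (h₂ : NonAbH1.IsTorsorFor Scheme.fppfPrecoverage a₂)
    (h' : (Over.pullback U.ι).obj Q₁ ⟶ (Over.pullback U.ι).obj Q₂)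
    (hh' : (Functor.LaxMonoidal.μ (Over.pullback U.ι) G Q₁ ≫ (Over.pullback U.ι).map a₁.act) ≫ h' =
      ((Over.pullback U.ι).obj G ◁ h') ≫ (Functor.LaxMonoidal.μ (Over.pullback U.ι) G Q₂ ≫ (Over.pullback U.ι).map a₂.act)) :
    ∃! h : Q₁ ⟶ Q₂, a₁.act ≫ h = (G ◁ h) ≫ a₂.act ∧ (Over.pullback U.ι).map h = h' := by
  have hprops : ∀ (Q : Over X) (a : AlgGrp.Action G Q), NonAbH1.IsTorsorFor Scheme.fppfPrecoverage a →
      IsFinite Q.hom ∧ Flat Q.hom ∧ LocallyOfFinitePresentation Q.hom := by
    intro Q a ha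
    obtain ⟨hps, R, hR, hsec⟩ := ha
    have hb : NonAbH1.IsTorsorFor Scheme.fpqcPrecoverage a :=
      ⟨hps, R, Scheme.fppfPrecoverage_le_fpqcPrecoverage _ hR, hsec⟩
    have := Groth.Agent.Unr55.isFinite.{u}
    have := Groth.Agent.Sga84.flat_descendsAlong.{u}
    have : MorphismProperty.DescendsAlong @LocallyOfFinitePresentation Groth.Agent.Unr55.fpqc.{u} := by
      infer_instance
    exact ⟨Groth.Agent.Sga84.hom_of_isTorsorFor @IsFinite ‹IsFinite G.hom› hb,
      Groth.Agent.Sga84.hom_of_isTorsorFor @Flat ‹Flat G.hom› hb,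
      Groth.Agent.Sga84.hom_of_isTorsorFor @LocallyOfFinitePresentation ‹LocallyOfFinitePresentation G.hom› hb⟩
  obtain ⟨_, _, _⟩ := hprops Q₁ a₁ h₁
  obtain ⟨_, _, _⟩ := hprops Q₂ a₂ h₂
  have key : ∀ (Y : Over X) [IsFinite Y.hom] [Flat Y.hom] [LocallyOfFinitePresentation Y.hom]
      (φ : (Over.pullback U.ι).obj Y ⟶ (Over.pullback U.ι).obj Q₂),
      ∃! k : Y ⟶ Q₂, (Over.pullback U.ι).map k = φ := by
    intro Y _ _ _ φ
    have hj : (pullback.fst Y.hom U.ι).opensRange = Y.hom ⁻¹ᵁ U := by
      ext x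
      simp [IsOpenImmersion.range_pullbackFst]
    have hw : φ.left ≫ pullback.snd Q₂.hom U.ι = pullback.snd Y.hom U.ι := Over.w φ
    obtain ⟨k, ⟨hk, hjk⟩, hu⟩ := Groth.Agent.Tors37.existsUnique_extend U hZ Y.hom Q₂.hom
      (pullback.fst Y.hom U.ι) hj (φ.left ≫ pullback.fst Q₂.hom U.ι)
      (by rw [Category.assoc, pullback.condition, ← Category.assoc, hw, ← pullback.condition])
    refine ⟨Over.homMk k hk, ?_, fun k' hk' => ?_⟩
    · apply Over.OverMorphism.ext
      apply pullback.hom_ext
      · simp [hjk]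
        exact pullback.lift_fst _ _ _
      · rw [hw]; simp
        exact pullback.lift_snd _ _ _
    · apply Over.OverMorphism.ext
      refine hu k'.left ⟨Over.w k', ?_⟩
      rw [← hk']
      simp
      exact (pullback.lift_fst _ _ _).symm
  obtain ⟨k, hk, hu⟩ := key Q₁ h'
  refine ⟨k, ⟨?_, hk⟩, fun k' hk' => hu k' hk'.2⟩
  have : IsFinite (G ⊗ Q₁).hom := by
    have : IsFinite (pullback.fst G.hom Q₁.hom) := MorphismProperty.pullback_fst _ _ ‹IsFinite Q₁.hom›
    exact inferInstanceAs (IsFinite (pullback.fst G.hom Q₁.hom ≫ G.hom))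
  have : Flat (G ⊗ Q₁).hom := inferInstanceAs (Flat (pullback.fst G.hom Q₁.hom ≫ G.hom))
  have : LocallyOfFinitePresentation (G ⊗ Q₁).hom :=
    inferInstanceAs (LocallyOfFinitePresentation (pullback.fst G.hom Q₁.hom ≫ G.hom))
  obtain ⟨F, -, huF⟩ := key (G ⊗ Q₁) ((Over.pullback U.ι).map (a₁.act ≫ k))
  refine (huF _ rfl).trans (huF _ ?_).symm
  have hE : Functor.LaxMonoidal.μ (Over.pullback U.ι) G Q₁ ≫ (Over.pullback U.ι).map ((G ◁ k) ≫ a₂.act) =
      Functor.LaxMonoidal.μ (Over.pullback U.ι) G Q₁ ≫ (Over.pullback U.ι).map (a₁.act ≫ k) := by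
    rw [Functor.map_comp, Functor.map_comp, ← Functor.LaxMonoidal.μ_natural_right_assoc, hk]
    simpa only [Category.assoc] using hh'.symm
  exact (cancel_epi _).mp hE

end Groth.Agent.S14274
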