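import Groth.Statements.S14275
import Mathlib.RingTheory.AdicCompletion.Exactness
import Mathlib.RingTheory.AdicCompletion.Algebra
import Mathlib.RingTheory.AdicCompletion.Functoriality
import Mathlib.RingTheory.Regular.RegularSequence

set_option autoImplicit false
universe u
open CAlg

namespace Groth.Agent.S14275

open scoped Pointwise

section
variable {A : Type u} [CommRing A] (a : A) {M P T : Type u} [AddCommGroup M] [Module A M]
  [AddCommGroup P] [Module A P] [AddCommGroup T] [Module A T]

theorem mem_pow_smul_top {x : M} {n : ℕ} :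
    x ∈ (Ideal.span {a} ^ n • ⊤ : Submodule A M) ↔ ∃ m : M, a ^ n • m = x := by
  rw [Ideal.span_singleton_pow, Submodule.ideal_span_singleton_smul,
    Submodule.mem_smul_pointwise_iff_exists]
  simp

variable (f : M →ₗ[A] P) (g : P →ₗ[A] T) (hf : Function.Injective f) (hg : Function.Surjective g)
  (hfg : Function.Exact f g) (e : ℕ) (hT : ∀ t : T, (∃ m : ℕ, a ^ m • t = 0) → a ^ e • t = 0)

include hf hfg hT in
theorem reflect {n : ℕ} {m : M} (h : f m ∈ (Ideal.span {a} ^ (n + e) • ⊤ : Submodule A P)) :
    m ∈ (Ideal.span {a} ^ n • ⊤ : Submodule A M) := by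
  obtain ⟨p, hp⟩ := (mem_pow_smul_top a).1 h
  have h1 : g (a ^ e • p) = 0 := by
    rw [map_smul]
    exact hT _ ⟨n + e, by rw [← map_smul, hp]; exact hfg.apply_apply_eq_zero m⟩
  obtain ⟨m', hm'⟩ := (hfg _).1 h1
  refine (mem_pow_smul_top a).2 ⟨m', hf ?_⟩
  rw [map_smul, hm', smul_smul, ← pow_add, hp]

include hf hfg hT in
theorem completion_injective : Function.Injective (AdicCompletion.map (Ideal.span {a}) f) := by
  rw [injective_iff_map_eq_zero]
  intro x hx
  induction x using AdicCompletion.induction_on with
  | h s =>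
    rw [AdicCompletion.map_mk] at hx
    ext n
    have h1 := congrArg (fun z => z.val (n + e)) hx
    simp at h1
    have h2 := reflect a f g hf hfg e hT h1
    have h3 := AdicCompletion.AdicCauchySequence.mk_eq_mk (m := n) (n := n + e) (by omega) s
    simp
    rw [← Submodule.Quotient.mk_eq_zero, h3] at h2
    exact (Submodule.Quotient.mk_eq_zero _).1 h2

include hf hfg hg hT in
theorem completion_ker_le (y : AdicCompletion (Ideal.span {a}) P)
    (hy : AdicCompletion.map (Ideal.span {a}) g y = 0) :
    ∃ x, AdicCompletion.map (Ideal.span {a}) f x = y := by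
  induction y using AdicCompletion.induction_on with
  | h s =>
    rw [AdicCompletion.map_mk] at hy
    have h1 : ∀ n, ∃ m : M, f m - s (n + e) ∈ (Ideal.span {a} ^ (n + e) • ⊤ : Submodule A P) := by
      intro n
      have h := congrArg (fun z => z.val (n + e)) hy
      simp at h
      obtain ⟨t, ht⟩ := (mem_pow_smul_top a).1 h
      obtain ⟨p, rfl⟩ := hg t
      obtain ⟨m, hm⟩ := (hfg (s (n + e) - a ^ (n + e) • p)).1 (by
        rw [map_sub, map_smul, ht, sub_self])
      exact ⟨m, (mem_pow_smul_top a).2 ⟨-p, by rw [hm, smul_neg]; abel⟩⟩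
    choose m hm using h1
    refine ⟨AdicCompletion.mk _ _ (AdicCompletion.AdicCauchySequence.mk _ _ m fun n => ?_), ?_⟩
    · rw [SModEq.sub_mem]
      refine reflect a f g hf hfg e hT ?_
      rw [map_sub]
      have h2 : s (n + e) - s (n + 1 + e) ∈ (Ideal.span {a} ^ (n + e) • ⊤ : Submodule A P) :=
        (Submodule.Quotient.eq _).1
          (AdicCompletion.AdicCauchySequence.mk_eq_mk (m := n + e) (n := n + 1 + e) (by omega) s).symm
      have h3 := Submodule.smul_mono_left (N := (⊤ : Submodule A P))
        (Ideal.pow_le_pow_right (I := Ideal.span {a}) (show n + e ≤ n + 1 + e by omega)) (hm (n + 1))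
      have := sub_mem (add_mem (hm n) h2) h3
      rwa [show f (m n) - s (n + e) + (s (n + e) - s (n + 1 + e)) - (f (m (n + 1)) - s (n + 1 + e))
        = f (m n) - f (m (n + 1)) by abel] at this
    · rw [AdicCompletion.map_mk]
      ext n
      simp only [AdicCompletion.mk_apply_coe]
      refine (Submodule.Quotient.eq _).2 ?_
      have h4 : s (n + e) - s n ∈ (Ideal.span {a} ^ n • ⊤ : Submodule A P) :=
        (Submodule.Quotient.eq _).1
          (AdicCompletion.AdicCauchySequence.mk_eq_mk (m := n) (n := n + e) (by omega) s)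
      have h5 := Submodule.smul_mono_left (N := (⊤ : Submodule A P))
        (Ideal.pow_le_pow_right (I := Ideal.span {a}) (show n ≤ n + e by omega)) (hm n)
      have := add_mem h5 h4
      simpa using this

theorem map_lsmul (r : A) (z : AdicCompletion (Ideal.span {a}) M) :
    AdicCompletion.map (Ideal.span {a}) (LinearMap.lsmul A M r) z =
      algebraMap A (AdicCompletion (Ideal.span {a}) A) r • z := by
  induction z using AdicCompletion.induction_on with
  | h s =>
    ext n
    rfl
end

open RingTheory.Sequence in
/-- Let A be a commutative ring, a an element of A with a-adic completion A^, and a_1, ..., a_n a weakly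
regular sequence on A such that for each i = 0, ..., n the quotient A/(a_1, ..., a_i) has bounded
a-power torsion (some fixed power of a kills every element killed by a power of a). Then the images
of a_1, ..., a_n form a weakly regular sequence on A^, and the canonical map from A^ to the a-adic
completion of A/(a_1, ..., a_n) is surjective with kernel the ideal generated by the images of a_1,
..., a_n. -/
theorem result (A : Type u) [CommRing A] (a : A) (rs : List A)
    (hreg : IsWeaklyRegular A rs)
    (hbd : ∀ i ≤ rs.length, ∃ N : ℕ, ∀ x : A ⧸ Ideal.ofList (rs.take i), (∃ m : ℕ, a ^ m • x = 0) → a ^ N • x = 0) :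
    IsWeaklyRegular (AdicCompletion (Ideal.span {a}) A)
        (rs.map (algebraMap A (AdicCompletion (Ideal.span {a}) A))) ∧
      Function.Surjective (AdicCompletion.map (Ideal.span {a}) (Ideal.ofList rs).mkQ) ∧
      LinearMap.ker (AdicCompletion.map (Ideal.span {a}) (Ideal.ofList rs).mkQ) =
        (Ideal.ofList rs).map (algebraMap A (AdicCompletion (Ideal.span {a}) A)) := by
  set I := Ideal.span {a}
  set Ah := AdicCompletion I A
  let q : ∀ i, A →ₗ[A] A ⧸ Ideal.ofList (rs.take i) := fun i => Submodule.mkQ _
  let J : ℕ → Ideal Ah := fun i => (Ideal.ofList (rs.take i)).map (algebraMap A Ah)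
  have hJle : ∀ i, J i ≤ LinearMap.ker (AdicCompletion.map I (q i)) := by
    intro i
    refine Ideal.map_le_iff_le_comap.2 fun x hx => ?_
    show AdicCompletion.map I (q i) (algebraMap A Ah x) = 0
    rw [AdicCompletion.algebraMap_apply, Algebra.algebraMap_self, RingHom.id_apply,
      AdicCompletion.map_of, show q i x = 0 from (Submodule.Quotient.mk_eq_zero _).2 hx, map_zero]
  have hsurj : ∀ i, Function.Surjective (AdicCompletion.map I (q i)) := fun i =>
    AdicCompletion.map_surjective I (Submodule.mkQ_surjective _)
  have hcomm : ∀ i (r : A) (z : Ah), AdicCompletion.map I (LinearMap.lsmul A _ r)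
      (AdicCompletion.map I (q i) z) = AdicCompletion.map I (q i) (algebraMap A Ah r * z) := by
    intro i r z
    rw [map_lsmul, ← map_smul, smul_eq_mul]
  have hinj : ∀ i (hi : i < rs.length),
      Function.Injective (LinearMap.lsmul A (A ⧸ Ideal.ofList (rs.take i)) rs[i]) := by
    intro i hi
    have h := hreg.regular_mod_prev i hi
    rwa [show (Ideal.ofList (rs.take i) • ⊤ : Submodule A A) = Ideal.ofList (rs.take i) from
      Ideal.mul_top _] at h
  have htake : ∀ i (hi : i < rs.length),
      Ideal.ofList (rs.take (i + 1)) = Ideal.ofList (rs.take i) ⊔ Ideal.span {rs[i]} := by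
    intro i hi
    rw [List.take_succ_eq_append_getElem hi, Ideal.ofList_append, Ideal.ofList_singleton]
  let g : ∀ i, i < rs.length → (A ⧸ Ideal.ofList (rs.take i)) →ₗ[A] A ⧸ Ideal.ofList (rs.take (i + 1)) :=
    fun i hi => Submodule.factor ((le_sup_left).trans (htake i hi).ge)
  have hexact : ∀ i (hi : i < rs.length),
      Function.Exact (LinearMap.lsmul A (A ⧸ Ideal.ofList (rs.take i)) rs[i]) (g i hi) := by
    intro i hi y
    obtain ⟨y, rfl⟩ := Submodule.mkQ_surjective _ y
    constructor
    · intro h
      have h' : y ∈ Ideal.ofList (rs.take i) ⊔ Ideal.span {rs[i]} :=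
        htake i hi ▸ (Submodule.Quotient.mk_eq_zero _).1 h
      obtain ⟨b, hb, c, hc, rfl⟩ := Submodule.mem_sup.1 h'
      obtain ⟨d, rfl⟩ := Ideal.mem_span_singleton'.1 hc
      refine ⟨Submodule.mkQ _ d, ?_⟩
      rw [map_add, show Submodule.mkQ (Ideal.ofList (rs.take i)) b = 0 from
        (Submodule.Quotient.mk_eq_zero _).2 hb, zero_add, LinearMap.lsmul_apply, ← map_smul,
        smul_eq_mul, mul_comm]
    · rintro ⟨z, hz⟩
      obtain ⟨z, rfl⟩ := Submodule.mkQ_surjective _ z
      rw [← hz]
      refine (Submodule.Quotient.mk_eq_zero _).2 ?_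
      show rs[i] * z ∈ _
      rw [htake i hi]
      exact Submodule.mem_sup_right (Ideal.mem_span_singleton'.2 ⟨z, mul_comm _ _⟩)
  have hgs : ∀ i hi, Function.Surjective (g i hi) := fun i hi =>
    Submodule.factor_surjective _
  have hker : ∀ i, i ≤ rs.length → LinearMap.ker (AdicCompletion.map I (q i)) ≤ J i := by
    intro i
    induction i with
    | zero =>
      intro _ y hy
      have hy' : AdicCompletion.map I (q 0) y = 0 := hy
      suffices y = 0 by rw [this]; exact zero_mem _
      refine (?_ : Function.Injective (AdicCompletion.map I (q 0))) (hy'.trans (map_zero _).symm)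
      let qi : (A ⧸ Ideal.ofList (rs.take 0)) →ₗ[A] A := Submodule.liftQ _ LinearMap.id (by simp)
      refine Function.LeftInverse.injective (g := AdicCompletion.map I qi) fun z => ?_
      rw [AdicCompletion.map_comp_apply, show qi ∘ₗ q 0 = LinearMap.id from Submodule.liftQ_mkQ _ _ _,
        AdicCompletion.map_id]
      rfl
    | succ i ih =>
      intro hi y hy
      have hlt : i < rs.length := by omega
      obtain ⟨e, he⟩ := hbd (i + 1) hi
      have hy' : AdicCompletion.map I (g i hlt) (AdicCompletion.map I (q i) y) = 0 := by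
        rw [AdicCompletion.map_comp_apply]
        have : g i hlt ∘ₗ q i = q (i + 1) := LinearMap.ext fun z => rfl
        rw [this]
        exact hy
      obtain ⟨x, hx⟩ := completion_ker_le a _ _ (hinj i hlt) (hgs i hlt) (hexact i hlt) e he _ hy'
      obtain ⟨z, rfl⟩ := hsurj i x
      rw [hcomm] at hx
      have h1 := ih hlt.le (show y - algebraMap A Ah rs[i] * z ∈ LinearMap.ker _ by
        rw [LinearMap.mem_ker, map_sub, hx, sub_self])
      have h2 : algebraMap A Ah rs[i] * z ∈ J (i + 1) :=
        Ideal.mul_mem_right _ _ (Ideal.mem_map_of_mem _ (by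
          rw [htake i hlt]; exact Submodule.mem_sup_right (Ideal.subset_span rfl)))
      have h3 : J i ≤ J (i + 1) := Ideal.map_mono (le_sup_left.trans (htake i hlt).ge)
      have := add_mem (h3 h1) h2
      rwa [sub_add_cancel] at this
  refine ⟨⟨fun i hi => ?_⟩, ?_, ?_⟩
  · rw [List.length_map] at hi
    obtain ⟨e, he⟩ := hbd (i + 1) hi
    have hJ : (Ideal.ofList ((rs.map (algebraMap A Ah)).take i) • ⊤ : Submodule Ah Ah) = J i := by
      rw [← List.map_take, ← Ideal.map_ofList]
      exact Ideal.mul_top _
    rw [List.getElem_map, hJ, IsSMulRegular]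
    intro x y hxy
    obtain ⟨x, rfl⟩ := Submodule.mkQ_surjective _ x
    obtain ⟨y, rfl⟩ := Submodule.mkQ_surjective _ y
    refine (Submodule.Quotient.eq _).2 (hker i hi.le (LinearMap.mem_ker.2 ?_))
    refine completion_injective a _ _ (hinj i hi) (hexact i hi) e he ?_
    rw [hcomm, map_zero]
    refine hJle i ?_
    rw [mul_sub]
    exact (Submodule.Quotient.eq _).1 hxy
  · exact AdicCompletion.map_surjective I (Submodule.mkQ_surjective _)
  · have key : ∀ i, i ≤ rs.length → ∀ L, L = rs.take i →
        LinearMap.ker (AdicCompletion.map I (Submodule.mkQ (Ideal.ofList L))) =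
          (Ideal.ofList L).map (algebraMap A Ah) := by
      rintro i hi L rfl
      exact le_antisymm (hker i hi) (hJle i)
    exact key rs.length le_rfl rs List.take_length.symm

end Groth.Agent.S14275
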