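import Groth.Statements.S14280
import Groth.Agent.SpSeq40.Traces

set_option autoImplicit false
universe u
open SpSeq

namespace Groth.Agent.S14280

/-- Let E^{p,q} (p, q ≥ 0) be finite-dimensional complex vector spaces each carrying an endomorphism Φ,
and suppose that for a natural number N and functions a, c ≥ 0 (real) and b, d (natural numbers) one
has E^{p,q} = 0 for q > N, |μ| ≤ a(q)c(p) for every eigenvalue μ of Φ on E^{p,q}, and dim E^{p,q} ≤
b(q)d(p). If Σ_p c(p)d(p) converges then the family of traces tr(Φ | E^{p,q}) is absolutely summable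
over all pairs (p, q). (The published statement takes a and b defined on {0, …, N} only; here they
are functions on all natural numbers, which changes nothing since E^{p,q} = 0 for q > N.) -/
theorem result
    (E : ℕ → ℕ → Type u) [∀ p q, AddCommGroup (E p q)] [∀ p q, Module ℂ (E p q)]
    [∀ p q, FiniteDimensional ℂ (E p q)] (Φ : ∀ p q, E p q →ₗ[ℂ] E p q)
    (N : ℕ) (a c : ℕ → ℝ) (b d : ℕ → ℕ) (ha : ∀ q, 0 ≤ a q) (hc : ∀ p, 0 ≤ c p)
    (h1 : ∀ p q, N < q → Subsingleton (E p q))
    (h2 : ∀ p q (μ : ℂ), Module.End.HasEigenvalue (Φ p q) μ → ‖μ‖ ≤ a q * c p)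
    (h3 : ∀ p q, Module.finrank ℂ (E p q) ≤ b q * d p)
    (hsum : Summable fun p : ℕ => c p * (d p : ℝ)) :
    Summable fun pq : ℕ × ℕ => ‖LinearMap.trace ℂ (E pq.1 pq.2) (Φ pq.1 pq.2)‖ := by
  let g : ℕ → ℝ := fun q => if q ≤ N then a q * b q else 0
  have hg : Summable g := summable_of_ne_finset_zero (s := Finset.range (N + 1)) fun q hq => by
    simp only [Finset.mem_range, not_lt] at hq
    exact if_neg (by omega)
  have hg0 : ∀ q, 0 ≤ g q := fun q => by
    simp only [g]; split_ifs
    exacts [mul_nonneg (ha q) (Nat.cast_nonneg _), le_rfl]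
  refine (hsum.mul_of_nonneg hg (fun p => mul_nonneg (hc p) (Nat.cast_nonneg _)) hg0).of_nonneg_of_le
    (fun _ => norm_nonneg _) ?_
  rintro ⟨p, q⟩
  change ‖LinearMap.trace ℂ (E p q) (Φ p q)‖ ≤ c p * (d p : ℝ) * g q
  by_cases hq : q ≤ N
  · refine (SpSeq40.norm_trace_le (Φ p q) (a q * c p) (h2 p q)).trans ?_
    simp only [g, if_pos hq]
    refine le_trans (mul_le_mul_of_nonneg_right (Nat.cast_le.2 (h3 p q))
      (mul_nonneg (ha q) (hc p))) (le_of_eq ?_)
    push_cast; ring
  · simp only [g, if_neg hq, mul_zero]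
    haveI := h1 p q (not_le.1 hq)
    rw [show Φ p q = 0 from LinearMap.ext fun x => Subsingleton.elim _ _, map_zero, norm_zero]

end Groth.Agent.S14280
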