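import Groth.Statements.S14283
import Groth.Agent.SpSeq40.Traces

set_option autoImplicit false
universe u
open CategoryTheory CategoryTheory.Limits
open SpSeq

namespace Groth.Agent.S14283

/-- For an E_2 spectral sequence (E, Φ) of complex vector spaces carrying an endomorphism Φ compatible
with all its structure maps — here encoded as a cohomological spectral sequence in the category of
ℂ[X]-modules (X acting as Φ) — which is concentrated in the first quadrant (E_2^{p,q} = 0 if p < 0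
or q < 0) and abuts to F^n (n ∈ ℤ) through abutment data whose filtrations are finite, assume that
the E_2^{p,q} are finite-dimensional over ℂ, vanish for q > N, that every eigenvalue μ of Φ on
E_2^{p,q} has |μ| ≤ a(q)c(p) and dim E_2^{p,q} ≤ b(q)d(p) for functions a, c ≥ 0 (real) and b, d
(natural numbers), and that Σ_p c(p)d(p) converges. Then the series Σ_{n ≥ 0} (−1)^n tr(Φ | F^n)
converges absolutely and its sum equals Σ_{p,q ≥ 0} (−1)^{p+q} tr(Φ | E_2^{p,q}). Traces, dimensions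
and eigenvalues are taken on the underlying complex vector spaces (restriction of scalars along ℂ →
ℂ[X]) for the endomorphism 'multiplication by X'. -/
theorem result
    (E : E₂CohomologicalSpectralSequence (ModuleCat.{u} (Polynomial ℂ)))
    (H : ℤ → ModuleCat.{u} (Polynomial ℂ)) (abut : SpSeq.Abutment E H) (hfin : ∀ n, abut.IsFinite n)
    (hquad : ∀ pq : ℤ × ℤ, pq.1 < 0 ∨ pq.2 < 0 → IsZero ((E.page 2 le_rfl).X pq))
    (hfd : ∀ pq : ℤ × ℤ, Module.Finite ℂ ((ModuleCat.restrictScalars (algebraMap ℂ (Polynomial ℂ))).obj ((E.page 2 le_rfl).X pq)))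
    (N : ℕ) (a c : ℕ → ℝ) (b d : ℕ → ℕ) (ha : ∀ q, 0 ≤ a q) (hc : ∀ p, 0 ≤ c p)
    (h1 : ∀ p q : ℕ, N < q → IsZero ((E.page 2 le_rfl).X ((p : ℤ), (q : ℤ))))
    (h2 : ∀ (p q : ℕ) (μ : ℂ), Module.End.HasEigenvalue
        ((ModuleCat.restrictScalars (algebraMap ℂ (Polynomial ℂ))).map
          ((Polynomial.X : Polynomial ℂ) • 𝟙 ((E.page 2 le_rfl).X ((p : ℤ), (q : ℤ))))).hom μ → ‖μ‖ ≤ a q * c p)
    (h3 : ∀ p q : ℕ, Module.finrank ℂ
        ((ModuleCat.restrictScalars (algebraMap ℂ (Polynomial ℂ))).obj ((E.page 2 le_rfl).X ((p : ℤ), (q : ℤ)))) ≤ b q * d p)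
    (hsum : Summable fun p : ℕ => c p * (d p : ℝ)) :
    Summable (fun n : ℕ => ‖LinearMap.trace ℂ _
        ((ModuleCat.restrictScalars (algebraMap ℂ (Polynomial ℂ))).map ((Polynomial.X : Polynomial ℂ) • 𝟙 (H n))).hom‖) ∧
    ∑' n : ℕ, (-1 : ℂ) ^ n * LinearMap.trace ℂ _
        ((ModuleCat.restrictScalars (algebraMap ℂ (Polynomial ℂ))).map ((Polynomial.X : Polynomial ℂ) • 𝟙 (H n))).hom =
      ∑' pq : ℕ × ℕ, (-1 : ℂ) ^ (pq.1 + pq.2) * LinearMap.trace ℂ _
        ((ModuleCat.restrictScalars (algebraMap ℂ (Polynomial ℂ))).map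
          ((Polynomial.X : Polynomial ℂ) • 𝟙 ((E.page 2 le_rfl).X ((pq.1 : ℤ), (pq.2 : ℤ))))).hom := by
  have hB : SpSeq40.Bdd E 2 le_rfl N a c b d :=
    ⟨hquad, h1, fun p q => ⟨hfd _, h2 p q, h3 p q⟩⟩
  obtain ⟨R, hR, hBR, hsumR, hst⟩ := hB.exists_limit hc ha hsum
  let t : ℕ × ℕ → ℂ := fun pq =>
    SpSeq40.tr ((E.page R hR).X ((pq.1 : ℤ), (pq.2 : ℤ)))
  have key : ∀ n : ℕ, SpSeq40.tr (H n) = ∑ pq ∈ Finset.HasAntidiagonal.antidiagonal n, t pq := by
    intro n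
    have hgr : ∀ i, i < n + 1 →
        Module.Finite ℂ (SpSeq40.vec (SpSeq.grPiece (abut.fil n) (abut.anti n) ((0 : ℤ) + i))) ∧
          SpSeq40.tr (SpSeq.grPiece (abut.fil n) (abut.anti n) ((0 : ℤ) + i)) = t (i, n - i) := by
      intro i hi
      rw [zero_add]
      obtain ⟨e⟩ := SpSeq40.nonempty_gr_iso abut n i R (hst _)
      have hidx : ((i : ℤ), (n : ℤ) - i) = ((i : ℤ), ((n - i : ℕ) : ℤ)) := by
        rw [Nat.cast_sub (Nat.lt_succ_iff.1 hi)]
      haveI := hBR.fin ((i : ℤ), (n : ℤ) - i)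
      refine ⟨Module.Finite.of_surjective (SpSeq40.vmap e.hom) (SpSeq40.vmap_surjective _), ?_⟩
      rw [SpSeq40.tr_iso e, hidx]
    obtain ⟨h0, hn⟩ := SpSeq40.fil_top_bot abut n 2 le_rfl (hfin n) hquad 0 ((0 : ℤ) + (n + 1 : ℕ))
      le_rfl (by push_cast; omega)
    obtain ⟨-, hs⟩ := SpSeq40.fil_sum (abut.fil n) (abut.anti n)
      (fun M => Module.Finite ℂ (SpSeq40.vec M)) SpSeq40.tr
      (fun Y hY => ⟨SpSeq40.fin_of_isZero hY, SpSeq40.tr_eq_zero hY⟩)
      (fun e hY => ⟨haveI := hY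
        Module.Finite.of_surjective (SpSeq40.vmap e.hom) (SpSeq40.vmap_surjective _),
        SpSeq40.tr_iso e⟩)
      (fun S hS h1 h3 => ⟨SpSeq40.fin_mid hS h1 h3, SpSeq40.tr_add hS (SpSeq40.fin_mid hS h1 h3)⟩)
      0 (n + 1) h0 hn (fun i hi => (hgr i hi).1)
    rw [hs, Finset.Nat.sum_antidiagonal_eq_sum_range_succ_mk]
    exact Finset.sum_congr rfl fun i hi => (hgr i (Finset.mem_range.1 hi)).2
  have hnorm : Summable fun pq : ℕ × ℕ => ‖t pq‖ :=
    (hBR.summable hc ha hsum).comp_injective SpSeq40.quadEmb_injective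
  let e := Finset.HasAntidiagonal.sigmaAntidiagonalEquivProd (A := ℕ)
  refine ⟨?_, ?_⟩
  · have h := (e.summable_iff.2 hnorm).sigma
    refine Summable.of_nonneg_of_le (fun _ => norm_nonneg _) (fun n => ?_) h
    change ‖SpSeq40.tr (H n)‖ ≤ _
    rw [key, tsum_fintype]
    refine (norm_sum_le _ _).trans (le_of_eq ?_)
    exact (Finset.sum_coe_sort (Finset.HasAntidiagonal.antidiagonal n) fun pq => ‖t pq‖).symm
  · have hsig : Summable fun pq : ℕ × ℕ => (-1 : ℂ) ^ (pq.1 + pq.2) * t pq :=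
      Summable.of_norm (hnorm.congr fun pq => by simp)
    change ∑' n : ℕ, (-1 : ℂ) ^ n * SpSeq40.tr (H n) = _
    refine Eq.trans ?_ ((hBR.tsum_nat.trans hsumR).trans hB.tsum_nat.symm)
    refine Eq.trans ?_ ((e.summable_iff.2 hsig).tsum_sigma.symm.trans (e.tsum_eq fun pq => (-1 : ℂ) ^ (pq.1 + pq.2) * t pq))
    refine tsum_congr fun n => ?_
    rw [key, Finset.mul_sum, tsum_fintype, ← Finset.sum_coe_sort (Finset.HasAntidiagonal.antidiagonal n)]
    refine Finset.sum_congr rfl fun x _ => ?_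
    obtain ⟨⟨p, q⟩, hx⟩ := x
    rw [Finset.HasAntidiagonal.mem_antidiagonal] at hx
    subst hx
    rfl

end Groth.Agent.S14283
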