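import Groth.Statements.S1429
import Groth.Agent.FlatMor66.MaxLocus
import Groth.Agent.S0593

set_option autoImplicit false
universe u
open FlatMor

namespace Groth.Agent.S1429
open Groth.Agent.FlatMor66 AlgebraicGeometry CategoryTheory in
theorem chev : Chev.{u} := fun A B h _ _ _ => Groth.Agent.S0593.result A B h
open Groth.Agent.FlatMor66

open AlgebraicGeometry CategoryTheory Limits in
/-- For affine X and Y, a quasi-finite morphism f : X → Y of finite presentation and a positive
weighting w of f whose fibre integral has maximum value d: the open Y_d on which the integral equals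
d is affine. -/
theorem result {X Y : Scheme.{u}} (f : X ⟶ Y) [LocallyQuasiFinite f] [QuasiCompact f] [LocallyOfFinitePresentation f] [IsAffine X] [IsAffine Y]
    (w : ↑X → ℤ) (hw : MoreMor.IsWeighting f w) (hpos : ∀ x, 0 < w x) (d : ℤ)
    (hmax : ∀ y : Y, MoreMor.fibreIntegral f w y ≤ d) (hatt : ∃ y : Y, MoreMor.fibreIntegral f w y = d) :
    ∃ hYd : IsOpen {y : ↑Y | MoreMor.fibreIntegral f w y = d}, IsAffineOpen (⟨{y : ↑Y | MoreMor.fibreIntegral f w y = d}, hYd⟩ : Y.Opens) := by
  obtain ⟨y₀, hy₀⟩ := hatt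
  obtain ⟨n, rfl⟩ : ∃ n : ℕ, (n : ℤ) = d := ⟨d.toNat, Int.toNat_of_nonneg (hy₀ ▸ fibreIntegral_nonneg' f w hpos y₀)⟩
  obtain ⟨hopen, -⟩ := isOpen_isFinite_max_locus f (finite_fibre_of_compact f) w hw hpos n hmax
  exact ⟨hopen, maxAff chev n X Y f inferInstance inferInstance inferInstance inferInstance w hw hpos hmax hopen⟩

end Groth.Agent.S1429
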