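import Groth.Statements.S14294
import Groth.Agent.PtDeg51.Basic
-- import your own Groth.Agent.* helpers here

set_option autoImplicit false
universe u v
open PtDeg

namespace Groth.Agent.S14294

/-- Let A and G be abelian groups, written additively, and f : A → G a map which is pointed of degree 2,
that is f(x+y+z) + f(x) + f(y) + f(z) = f(x+y) + f(x+z) + f(y+z) for all x, y, z in A. If an integer
n satisfies n·x = 0 for every x in A, then 2n·f(x) = 0 for every x in A, and if moreover n is odd
then n·f(x) = 0 for every x in A. -/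
theorem result {A : Type u} {G : Type v} [AddCommGroup A] [AddCommGroup G]
    (f : A → G) (hf : ∀ x y z : A, f (x + y + z) + f x + f y + f z = f (x + y) + f (x + z) + f (y + z))
    (n : ℤ) (hn : ∀ x : A, n • x = 0) :
    (∀ x : A, (2 * n) • f x = 0) ∧ (Odd n → ∀ x : A, n • f x = 0) := by
  obtain ⟨B, hB⟩ := Groth.Agent.PtDeg51.exists_bilinear hf
  have key : ∀ x, n • f x + (n * (n - 1) / 2) • B x x = 0 ∧ n • B x x = 0 := fun x => by
    constructor
    · rw [← Groth.Agent.PtDeg51.map_zsmul_quad hf B hB n x, hn, Groth.Agent.PtDeg51.map_zero_of_quad hf]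
    · rw [← AddMonoidHom.zsmul_apply, ← map_zsmul B, hn, map_zero, AddMonoidHom.zero_apply]
  refine ⟨fun x => ?_, fun ho x => ?_⟩
  · obtain ⟨h1, h2⟩ := key x
    obtain ⟨c, hc⟩ := (Int.even_mul_pred_self n).two_dvd
    rw [hc, Int.mul_ediv_cancel_left _ two_ne_zero] at h1
    have h3 : (2 * c) • B x x = 0 := by
      rw [← hc, mul_comm, mul_smul, h2, smul_zero]
    linear_combination (norm := module) (2 : ℤ) • h1 - h3
  · obtain ⟨h1, h2⟩ := key x
    obtain ⟨m, rfl⟩ := ho
    rw [show (2 * m + 1) * (2 * m + 1 - 1) / 2 = m * (2 * m + 1) by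
      rw [show (2 * m + 1) * (2 * m + 1 - 1) = m * (2 * m + 1) * 2 by ring,
        Int.mul_ediv_cancel _ two_ne_zero], mul_smul, h2, smul_zero, add_zero] at h1
    exact h1

end Groth.Agent.S14294
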