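import Groth.Statements.S14298
import Groth.Agent.Desc59.Pic.ExtDescend
import Groth.Agent.Amp73.Pullback

set_option autoImplicit false
universe u
open CategoryTheory CategoryTheory.Limits AlgebraicGeometry
open PicF

namespace Groth.Agent.S14298

/-- Let φ : X′ → X be a flat and surjective morphism of locally Noetherian schemes, V ⊆ X an open
subscheme which is big, in the sense that the local ring of X at every point outside V has depth at
least 2, and L an invertible O_V-module. Then L extends to an invertible O_X-module (there is an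
invertible M on X whose restriction to V is isomorphic to L) if and only if the pullback of L to
φ⁻¹(V) extends to an invertible O_{X′}-module. -/
theorem result {X X' : Scheme.{u}}
    [IsLocallyNoetherian X] [IsLocallyNoetherian X'] (φ : X' ⟶ X) [Flat φ] [Surjective φ]
    (V : X.Opens) (hV : ∀ x : X, x ∉ V → 2 ≤ LocCoh.depth (X.presheaf.stalk x) (X.presheaf.stalk x))
    (L : (V : Scheme.{u}).Modules) (hL : PicF.IsInvertible L) :
    (∃ M : X.Modules, PicF.IsInvertible M ∧ Nonempty ((Scheme.Modules.pullback V.ι).obj M ≅ L)) ↔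
      (∃ M' : X'.Modules, PicF.IsInvertible M' ∧
        Nonempty ((Scheme.Modules.pullback (φ ⁻¹ᵁ V).ι).obj M' ≅ (Scheme.Modules.pullback (φ ∣_ V)).obj L)) := by
  constructor
  · rintro ⟨M, hM, ⟨e⟩⟩
    exact ⟨(Scheme.Modules.pullback φ).obj M, Groth.Agent.Amp73.isInvertible_pullback φ hM,
      ⟨(Scheme.Modules.pullbackComp _ _).app M ≪≫ (Scheme.Modules.pullbackCongr (morphismRestrict_ι φ V).symm).app M ≪≫
        ((Scheme.Modules.pullbackComp _ _).app M).symm ≪≫ (Scheme.Modules.pullback _).mapIso e⟩⟩
  · rintro ⟨M', hM', ⟨e⟩⟩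
    exact ⟨_, Groth.Agent.Desc59.Pic.isInvertible_push_of_pullback_ext φ V hV (fun x _ => φ.surjective x) L hL M' hM' e,
      ⟨((Scheme.Modules.restrictFunctorIsoPullback V.ι).app _).symm ≪≫
        asIso ((Scheme.Modules.restrictAdjunction V.ι).counit.app L)⟩⟩

end Groth.Agent.S14298
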