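import Groth.Statements.S14305
import Groth.Agent.PtDeg51.Basic
-- import your own Groth.Agent.* helpers here

set_option autoImplicit false
universe u v
open PtDeg

namespace Groth.Agent.S14305

/-- Let A and G be abelian groups, written additively, f : A → G a map and n ≥ 1. For k ≥ 0 the k-th
deviation of f is the map A^k → G, (y_1, …, y_k) ↦ Σ_{∅ ≠ I ⊆ {1,…,k}} (−1)^{k+|I|} f(Σ_{i ∈ I}
y_i). Then f is pointed of degree n, meaning that its (n+1)-st deviation vanishes identically, if
and only if its n-th deviation is additive in each variable separately (with the other variables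
fixed). -/
theorem result {A : Type u} {G : Type v} [AddCommGroup A] [AddCommGroup G]
    (f : A → G) (n : ℕ) (hn : 1 ≤ n) :
    (∀ x : Fin (n + 1) → A, ∑ I ∈ ((Finset.univ : Finset (Fin (n + 1))).powerset.erase ∅), ((-1 : ℤ) ^ (n + 1 + I.card)) • f (∑ i ∈ I, x i) = 0) ↔
      (∀ (j : Fin n) (y : Fin n → A) (a b : A),
        ∑ I ∈ ((Finset.univ : Finset (Fin n)).powerset.erase ∅), ((-1 : ℤ) ^ (n + I.card)) • f (∑ i ∈ I, (Function.update y j (a + b)) i) =
          ∑ I ∈ ((Finset.univ : Finset (Fin n)).powerset.erase ∅), ((-1 : ℤ) ^ (n + I.card)) • f (∑ i ∈ I, (Function.update y j a) i) + ∑ I ∈ ((Finset.univ : Finset (Fin n)).powerset.erase ∅), ((-1 : ℤ) ^ (n + I.card)) • f (∑ i ∈ I, (Function.update y j b) i)) := by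
  have hD : ∀ (j : Fin n) (y : Fin n → A) (a b : A),
      (∑ I ∈ ((Finset.univ : Finset (Fin (n + 1))).powerset.erase ∅), ((-1 : ℤ) ^ (n + 1 + I.card)) •
          f (∑ i ∈ I, (Fin.cons a (Function.update y j b) : Fin (n + 1) → A) i)) =
      (∑ I ∈ ((Finset.univ : Finset (Fin n)).powerset.erase ∅), ((-1 : ℤ) ^ (n + I.card)) • f (∑ i ∈ I, (Function.update y j (a + b)) i)) -
        (∑ I ∈ ((Finset.univ : Finset (Fin n)).powerset.erase ∅), ((-1 : ℤ) ^ (n + I.card)) • f (∑ i ∈ I, (Function.update y j a) i)) -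
        (∑ I ∈ ((Finset.univ : Finset (Fin n)).powerset.erase ∅), ((-1 : ℤ) ^ (n + I.card)) • f (∑ i ∈ I, (Function.update y j b) i)) := by
    intro j y a b
    have key : ∀ (g : A → G) (v : A), Groth.Agent.PtDeg51.altSum g Finset.univ (Function.update y j v) =
        Groth.Agent.PtDeg51.altSum (fun z => g (v + z)) (Finset.univ.erase j) y -
          Groth.Agent.PtDeg51.altSum g (Finset.univ.erase j) y := by
      intro g v
      conv_lhs => rw [← Finset.insert_erase (Finset.mem_univ j)]
      rw [Groth.Agent.PtDeg51.altSum_insert g (Finset.notMem_erase j _), Function.update_self]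
      congr 1 <;>
        exact Groth.Agent.PtDeg51.altSum_congr _ fun i hi => Function.update_of_ne (Finset.ne_of_mem_erase hi) _ _
    rw [Groth.Agent.PtDeg51.dev_eq, Groth.Agent.PtDeg51.dev_eq, Groth.Agent.PtDeg51.dev_eq,
      Groth.Agent.PtDeg51.dev_eq,
      show (Finset.univ : Finset (Fin (n + 1))) = insert 0 (Finset.univ.map ⟨Fin.succ, Fin.succ_injective n⟩) from
        Finset.ext fun i => by cases i using Fin.cases <;> simp,
      Groth.Agent.PtDeg51.altSum_insert f (by simp), Groth.Agent.PtDeg51.altSum_map,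
      Groth.Agent.PtDeg51.altSum_map, Fin.cons_zero,
      show (Fin.cons a (Function.update y j b) : Fin (n + 1) → A) ∘ (⟨Fin.succ, Fin.succ_injective n⟩ : Fin n ↪ Fin (n + 1)) =
        Function.update y j b from funext fun i => Fin.cons_succ _ _ i,
      key, key, key, key]
    simp only [← add_assoc, pow_succ, mul_neg_one, neg_smul]
    abel
  refine ⟨fun h j y a b => ?_, fun h x => ?_⟩
  · have := (hD j y a b).symm.trans (h _)
    rw [sub_sub, sub_eq_zero] at this
    exact this
  · obtain ⟨m, rfl⟩ : ∃ m, n = m + 1 := ⟨n - 1, by omega⟩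
    have := hD 0 (Fin.tail x) (x 0) (Fin.tail x 0)
    rw [Function.update_eq_self, Fin.cons_self_tail] at this
    rw [this, h 0 (Fin.tail x) (x 0) (Fin.tail x 0), Function.update_eq_self]
    abel

end Groth.Agent.S14305
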