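import Groth.Statements.S14309


set_option autoImplicit false
universe u v w x y
open CAlg

namespace Groth.Agent.S14309

/-- Let R be a commutative ring; A, B, C commutative R-algebras; i : A → B and j : A → C jointly
injective R-algebra maps; c a non-zero-divisor of B; u : C → B/(c) a ring map with u ∘ j equal to i
followed by reduction modulo c; ζ in A with i ζ = c and j ζ = 0; η : R[X_σ, Z] → A an R-algebra map
with η(Z) = ζ; a : R[Y_τ] → B a surjective R-algebra map; η_Z : R[X_σ, Z] → R[Y_τ] a surjective
R-algebra map with a ∘ η_Z = i ∘ η. Fix c̃ in R[Y_τ] with a(c̃) = c, a family (p_h) generating the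
kernel of the composite R[X_σ] → R[X_σ, Z] → A → C, a family (q'_h) generating the kernel of a
together with lifts q_h along η_Z, a family (v_h) generating the kernel of η_Z, and elements g'_h of
R[Y_τ] with η_Z(p_h) + g'_h c̃ in the ideal (q'_h), together with lifts g_h along η_Z. Then the
kernel of η is the ideal generated by the elements Z q_h, Z v_h and p_h + Z g_h. (The published
statement is for the rings of cycle classes, with coefficients ℤ[1/6], of a smooth quotient stack, a
smooth closed substack whose normal bundle has top Chern class c a non-zero-divisor, and the open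
complement; this row states the ring-theoretic content for any such square of commutative rings in
which A embeds in B × C.) -/
theorem result
    {R : Type u} [CommRing R] {A : Type v} {B : Type w} {C : Type x}
    [CommRing A] [CommRing B] [CommRing C] [Algebra R A] [Algebra R B] [Algebra R C]
    (i : A →ₐ[R] B) (j : A →ₐ[R] C)
    (hinj : ∀ t : A, i t = 0 → j t = 0 → t = 0)
    (c : B) (hc : c ∈ nonZeroDivisors B) (u : C →+* B ⧸ Ideal.span ({c} : Set B))
    (hu : ∀ t : A, u (j t) = Ideal.Quotient.mk (Ideal.span ({c} : Set B)) (i t))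
    (ζ : A) (hiζ : i ζ = c) (hjζ : j ζ = 0)
    {σ τ ιp ιq ιv : Type y}
    (η : MvPolynomial (Option σ) R →ₐ[R] A) (hη : η (MvPolynomial.X none) = ζ)
    (a : MvPolynomial τ R →ₐ[R] B) (ha : Function.Surjective a)
    (ηZ : MvPolynomial (Option σ) R →ₐ[R] MvPolynomial τ R)
    (hcomm : ∀ t, a (ηZ t) = i (η t)) (hηZ : Function.Surjective ηZ)
    (cZ : MvPolynomial τ R) (hcZ : a cZ = c)
    (p : ιp → MvPolynomial σ R)
    (hp : Ideal.span (Set.range p) =
      RingHom.ker ((j.comp η).comp (MvPolynomial.rename (Option.some : σ → Option σ))))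
    (q' : ιq → MvPolynomial τ R) (hq' : Ideal.span (Set.range q') = RingHom.ker a)
    (q : ιq → MvPolynomial (Option σ) R) (hq : ∀ h, ηZ (q h) = q' h)
    (v : ιv → MvPolynomial (Option σ) R) (hv : Ideal.span (Set.range v) = RingHom.ker ηZ)
    (g' : ιp → MvPolynomial τ R)
    (hg' : ∀ h, ηZ (MvPolynomial.rename (Option.some : σ → Option σ) (p h)) + g' h * cZ ∈
      Ideal.span (Set.range q'))
    (g : ιp → MvPolynomial (Option σ) R) (hg : ∀ h, ηZ (g h) = g' h) :
    RingHom.ker η = Ideal.span
      (Set.range (fun h : ιq => MvPolynomial.X none * q h) ∪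
        Set.range (fun h : ιv => MvPolynomial.X none * v h) ∪
        Set.range (fun h : ιp =>
          MvPolynomial.rename (Option.some : σ → Option σ) (p h) + MvPolynomial.X none * g h)) := by
  classical
  set J := Ideal.span (Set.range (fun h : ιq => MvPolynomial.X none * q h) ∪
      Set.range (fun h : ιv => MvPolynomial.X none * v h) ∪
      Set.range (fun h : ιp =>
        MvPolynomial.rename (Option.some : σ → Option σ) (p h) + MvPolynomial.X none * g h)) with hJ
  apply le_antisymm
  · intro t ht
    rw [RingHom.mem_ker] at ht
    have hsplit : ∀ w : MvPolynomial (Option σ) R, ∃ w0 w1,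
        w = MvPolynomial.rename Option.some w0 + MvPolynomial.X none * w1 := by
      intro w
      induction w using MvPolynomial.induction_on with
      | C r => exact ⟨MvPolynomial.C r, 0, by simp⟩
      | add a b ha hb =>
        obtain ⟨a0, a1, rfl⟩ := ha
        obtain ⟨b0, b1, rfl⟩ := hb
        exact ⟨a0 + b0, a1 + b1, by rw [map_add]; ring⟩
      | mul_X a o ha =>
        obtain ⟨a0, a1, rfl⟩ := ha
        cases o with
        | none => exact ⟨0, MvPolynomial.rename Option.some a0 + MvPolynomial.X none * a1,
            by rw [map_zero]; ring⟩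
        | some o => exact ⟨a0 * MvPolynomial.X o, a1 * MvPolynomial.X (some o),
            by rw [map_mul, MvPolynomial.rename_X]; ring⟩
    obtain ⟨t0, t1, rfl⟩ := hsplit t
    have ht0 : t0 ∈ Ideal.span (Set.range p) := by
      rw [hp, RingHom.mem_ker]
      have := congrArg j ht
      rw [map_add, map_add, map_mul, map_mul, hη, hjζ, zero_mul, add_zero, map_zero] at this
      exact this
    have h1 : MvPolynomial.rename Option.some t0 ∈ J ⊔ Ideal.span {MvPolynomial.X none} := by
      have hle : Ideal.span (Set.range p) ≤ (J ⊔ Ideal.span {MvPolynomial.X none}).comap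
          (MvPolynomial.rename (R := R) (Option.some : σ → Option σ)) := by
        rw [Ideal.span_le]
        rintro _ ⟨h, rfl⟩
        rw [SetLike.mem_coe, Ideal.mem_comap]
        rw [← add_sub_cancel_right (MvPolynomial.rename Option.some (p h))
          (MvPolynomial.X none * g h)]
        refine Submodule.sub_mem _ (Submodule.mem_sup_left (Ideal.subset_span (Or.inr ⟨h, rfl⟩)))
          (Submodule.mem_sup_right ?_)
        exact Ideal.mul_mem_right _ _ (Ideal.mem_span_singleton_self _)
      exact hle ht0
    obtain ⟨e, he, y, hy, hey⟩ := Submodule.mem_sup.1 h1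
    obtain ⟨y, rfl⟩ := Ideal.mem_span_singleton'.1 hy
    have hJker : ∀ z ∈ J, i (η z) = 0 := by
      intro z hz
      induction hz using Submodule.span_induction with
      | zero => simp
      | add a b _ _ ha hb => rw [map_add, map_add, ha, hb, add_zero]
      | smul a b _ hb => rw [smul_eq_mul, map_mul, map_mul, hb, mul_zero]
      | mem z hz =>
        rcases hz with (⟨h, rfl⟩ | ⟨h, rfl⟩) | ⟨h, rfl⟩
        · rw [map_mul, map_mul, hη, ← hcomm, hq]
          have : a (q' h) = 0 := by
            rw [← RingHom.mem_ker, ← hq']; exact Ideal.subset_span ⟨h, rfl⟩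
          rw [this, mul_zero]
        · rw [map_mul, map_mul, hη, ← hcomm]
          have : ηZ (v h) = 0 := by
            rw [← RingHom.mem_ker, ← hv]; exact Ideal.subset_span ⟨h, rfl⟩
          rw [this, map_zero, mul_zero]
        · have := hg' h
          rw [hq', RingHom.mem_ker, map_add, map_mul, hcZ, hcomm] at this
          rw [map_add, map_add, map_mul, map_mul, hη, hiζ, ← hcomm (g h), hg, mul_comm c]
          exact this
    have h2 : ηZ (y + t1) ∈ Ideal.span (Set.range q') := by
      rw [hq', RingHom.mem_ker, hcomm]
      refine mem_nonZeroDivisors_iff_right.1 hc _ ?_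
      have := congrArg i ht
      rw [← hey, map_zero, map_add, map_add, map_add, map_add, hJker e he, zero_add,
        map_mul, map_mul, map_mul, map_mul, hη, hiζ] at this
      rw [map_add, map_add, add_mul, mul_comm (i (η t1))]
      exact this
    have h3 : y + t1 ∈ Ideal.span (Set.range q) ⊔ Ideal.span (Set.range v) := by
      have : Ideal.span (Set.range q') = (Ideal.span (Set.range q)).map ηZ := by
        rw [Ideal.map_span, ← Set.range_comp]
        exact congrArg (fun f => Ideal.span (Set.range f)) (funext fun h => (hq h).symm)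
      rw [this] at h2
      rw [hv]
      have h4 : y + t1 ∈ ((Ideal.span (Set.range q)).map ηZ.toRingHom).comap ηZ.toRingHom := h2
      rw [Ideal.comap_map_of_surjective ηZ.toRingHom hηZ, ← RingHom.ker_eq_comap_bot] at h4
      exact h4
    have h5 : MvPolynomial.X none * (y + t1) ∈ J := by
      obtain ⟨u1, hu1, u2, hu2, huu⟩ := Submodule.mem_sup.1 h3
      rw [← huu, mul_add]
      clear huu
      refine add_mem ?_ ?_
      · induction hu1 using Submodule.span_induction with
        | zero => simp
        | add a b _ _ ha hb => rw [mul_add]; exact add_mem ha hb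
        | smul a b _ hb => rw [smul_eq_mul, mul_left_comm]; exact J.mul_mem_left _ hb
        | mem z hz => obtain ⟨h, rfl⟩ := hz; exact Ideal.subset_span (Or.inl (Or.inl ⟨h, rfl⟩))
      · induction hu2 using Submodule.span_induction with
        | zero => simp
        | add a b _ _ ha hb => rw [mul_add]; exact add_mem ha hb
        | smul a b _ hb => rw [smul_eq_mul, mul_left_comm]; exact J.mul_mem_left _ hb
        | mem z hz => obtain ⟨h, rfl⟩ := hz; exact Ideal.subset_span (Or.inl (Or.inr ⟨h, rfl⟩))
    rw [← hey, show e + y * MvPolynomial.X none + MvPolynomial.X none * t1 =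
      e + MvPolynomial.X none * (y + t1) by ring]
    exact add_mem he h5
  · rw [hJ, Ideal.span_le]
    rintro z ((⟨h, rfl⟩ | ⟨h, rfl⟩) | ⟨h, rfl⟩)
    · rw [SetLike.mem_coe, RingHom.mem_ker]
      refine hinj _ ?_ ?_
      · rw [map_mul, map_mul, ← hcomm, ← hcomm, hq]
        have : a (q' h) = 0 := by
          rw [← RingHom.mem_ker, ← hq']; exact Ideal.subset_span ⟨h, rfl⟩
        rw [this, mul_zero]
      · rw [map_mul, map_mul, hη, hjζ, zero_mul]
    · rw [SetLike.mem_coe, RingHom.mem_ker]
      refine hinj _ ?_ ?_
      · rw [map_mul, map_mul, ← hcomm, ← hcomm]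
        have : ηZ (v h) = 0 := by
          rw [← RingHom.mem_ker, ← hv]; exact Ideal.subset_span ⟨h, rfl⟩
        rw [this, map_zero, mul_zero]
      · rw [map_mul, map_mul, hη, hjζ, zero_mul]
    · rw [SetLike.mem_coe, RingHom.mem_ker]
      refine hinj _ ?_ ?_
      · have := hg' h
        rw [hq', RingHom.mem_ker, map_add, map_mul, hcZ, hcomm] at this
        rw [map_add, map_add, map_mul, map_mul, hη, hiζ, ← hcomm (g h), hg, mul_comm c]
        exact this
      · have : ((j.comp η).comp (MvPolynomial.rename (Option.some : σ → Option σ))) (p h) = 0 := by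
          rw [← RingHom.mem_ker, ← hp]; exact Ideal.subset_span ⟨h, rfl⟩
        rw [map_add, map_add, map_mul, map_mul, hη, hjζ, zero_mul, add_zero]
        exact this

end Groth.Agent.S14309
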