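import Groth.Statements.S14310
import Groth.Agent.ArSing32.PlanePoly

set_option autoImplicit false
universe u
open ArSing

namespace Groth.Agent.S14310

/-- Let k be an algebraically closed field, f a polynomial in two variables x = X_0, y = X_1 over k, and
a a point of k². The quotient of the power series ring k[[x,y]] by the polynomial f recentred at a
(which is the completed local ring at a of the plane curve f = 0) is isomorphic as a k-algebra to
k[[x,y]]/(y^2) if and only if f = g^2 h for polynomials g and h with h(a) ≠ 0, g(a) = 0 and some
first partial derivative of g non-zero at a. (The published statement asks for the component through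
a to be the square of a smooth plane curve; only smoothness at a matters and is what is stated here
— for the square of a nodal cubic the completed local ring at a smooth point of the cubic is still
k[[x,y]]/(y^2). No hypothesis on the characteristic of k is imposed; the published setting assumes a
characteristic different from 2, 3, 5 and 7, which the argument does not use.) -/
theorem result
    {k : Type u} [Field k] [IsAlgClosed k] (f : MvPolynomial (Fin 2) k) (a : Fin 2 → k) :
    Nonempty ((MvPowerSeries (Fin 2) k ⧸ Ideal.span
        ({(MvPolynomial.aeval (fun i : Fin 2 => MvPolynomial.X i + MvPolynomial.C (a i)) f).toMvPowerSeries} :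
          Set (MvPowerSeries (Fin 2) k))) ≃ₐ[k]
      (MvPowerSeries (Fin 2) k ⧸ Ideal.span ({MvPowerSeries.X 1 ^ 2} : Set (MvPowerSeries (Fin 2) k)))) ↔
    ∃ g h : MvPolynomial (Fin 2) k, f = g ^ 2 * h ∧ MvPolynomial.eval a h ≠ 0 ∧ MvPolynomial.eval a g = 0 ∧
      ∃ i : Fin 2, MvPolynomial.eval a (MvPolynomial.pderiv i g) ≠ 0 := by
  rw [← ArSing32.germ_eq]
  refine ⟨fun h => ArSing32.exists_sq_mul_of_germ a f h, ?_⟩
  rintro ⟨g, h, hf, hh, hg, i, hi⟩
  have hG0 : MvPowerSeries.constantCoeff (ArSing32.germ a g) = 0 := by
    rw [ArSing32.constantCoeff_germ, hg]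
  obtain ⟨φ, hφ, hφy⟩ := ArSing32.iso_yy_of_linear hG0 (by
    rw [← (ArSing32.coeff_single_eq_ind _).1, ← (ArSing32.coeff_single_eq_ind _).2,
      ArSing32.coeff_one_germ, ArSing32.coeff_one_germ]
    fin_cases i
    · exact Or.inl hi
    · exact Or.inr hi)
  have hU : IsUnit (ArSing32.germ a h) := by
    rw [MvPowerSeries.isUnit_iff_constantCoeff, ArSing32.constantCoeff_germ, isUnit_iff_ne_zero]
    exact hh
  exact (ArSing32.iso_map (F := ArSing32.germ a f) (G := ArSing32.yy ^ 2) hφ hU (by
    rw [hf, map_mul, map_pow, map_pow, hφy, mul_comm])).symm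

end Groth.Agent.S14310
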