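import Groth.Statements.S14311
import Groth.Agent.ArSing32.PlanePoly

set_option autoImplicit false
universe u
open ArSing

namespace Groth.Agent.S14311

/-- Let k be an algebraically closed field in which 2 ≠ 0, f a polynomial in x = X_0, y = X_1 over k and
a a zero of f in k². Then the gradient and all second partial derivatives of f vanish at a if and
only if the completed local ring k[[x,y]]/(f recentred at a) of the plane curve f = 0 at a is
isomorphic as a k-algebra neither to k[[x,y]]/(y^2 - x^(n+1)) for any natural number n nor to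
k[[x,y]]/(y^2). (Here n = 0, a smooth point, is allowed; with n ≥ 1 only, as in the published
definition of an A-singularity, the equivalence fails at smooth points of the curve. Only 2 ≠ 0 is
assumed of the characteristic; the published setting assumes a characteristic different from 2, 3, 5
and 7.) -/
theorem result
    {k : Type u} [Field k] [IsAlgClosed k] (h2 : (2 : k) ≠ 0) (f : MvPolynomial (Fin 2) k) (a : Fin 2 → k)
    (hfa : MvPolynomial.eval a f = 0) :
    ((∀ i : Fin 2, MvPolynomial.eval a (MvPolynomial.pderiv i f) = 0) ∧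
      ∀ i j : Fin 2, MvPolynomial.eval a (MvPolynomial.pderiv i (MvPolynomial.pderiv j f)) = 0) ↔
    ¬ ((∃ n : ℕ, Nonempty ((MvPowerSeries (Fin 2) k ⧸ Ideal.span
        ({(MvPolynomial.aeval (fun i : Fin 2 => MvPolynomial.X i + MvPolynomial.C (a i)) f).toMvPowerSeries} :
          Set (MvPowerSeries (Fin 2) k))) ≃ₐ[k] ArSing.ring k n)) ∨
        Nonempty ((MvPowerSeries (Fin 2) k ⧸ Ideal.span
        ({(MvPolynomial.aeval (fun i : Fin 2 => MvPolynomial.X i + MvPolynomial.C (a i)) f).toMvPowerSeries} :
          Set (MvPowerSeries (Fin 2) k))) ≃ₐ[k]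
          (MvPowerSeries (Fin 2) k ⧸ Ideal.span ({MvPowerSeries.X 1 ^ 2} : Set (MvPowerSeries (Fin 2) k))))) := by
  rw [← ArSing32.germ_eq, ← ArSing32.ordGE_three_germ_iff h2 a f hfa]
  have h0 : MvPowerSeries.constantCoeff (ArSing32.germ a f) = 0 := by
    rw [ArSing32.constantCoeff_germ, hfa]
  refine ⟨fun h3 => ?_, fun h => ?_⟩
  · rintro (⟨n, hn⟩ | hn)
    · exact ArSing32.not_ordGE_three_eqn n (ArSing32.ordGE_three_of_iso h3 hn)
    · exact ArSing32.not_ordGE_three_yy_sq (ArSing32.ordGE_three_of_iso h3 hn)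
  · by_contra h3
    apply h
    by_cases hlin : MvPowerSeries.coeff (ArSing32.ind 1 0) (ArSing32.germ a f) ≠ 0 ∨
        MvPowerSeries.coeff (ArSing32.ind 0 1) (ArSing32.germ a f) ≠ 0
    · left
      refine ⟨0, ?_⟩
      obtain ⟨φ, hφ, hφy⟩ := ArSing32.iso_yy_of_linear h0 hlin
      obtain ⟨φ', hφ', hφy'⟩ := ArSing32.iso_yy_of_linear (G := ArSing.eqn k 0)
        (by simp [ArSing.eqn]) (Or.inl (by
          rw [ArSing.eqn, map_sub, zero_add, pow_one,
            show (MvPowerSeries.X 0 : MvPowerSeries (Fin 2) k) = ArSing32.xx from rfl,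
            show (MvPowerSeries.X 1 : MvPowerSeries (Fin 2) k) = ArSing32.yy from rfl, sq,
            ArSing32.coeff_ind_mul_one (MvPowerSeries.constantCoeff_X _) _ _ rfl,
            ArSing32.coeff_ind_yy, ArSing32.coeff_ind_xx]
          simp))
      exact (ArSing32.iso_map (F := ArSing32.germ a f) (G := ArSing32.yy) hφ isUnit_one
        (by rw [hφy, one_mul])).symm.trans
        (ArSing32.iso_map (F := ArSing.eqn k 0) (G := ArSing32.yy) hφ' isUnit_one
          (by rw [hφy', one_mul]))
    · push Not at hlin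
      have hF2 : CAlg6.OrdGE 2 (ArSing32.germ a f) := ArSing32.ordGE_iff_ind.2 fun i j hij => by
        obtain ⟨rfl, rfl⟩ | ⟨rfl, rfl⟩ | ⟨rfl, rfl⟩ :
            (i = 0 ∧ j = 0) ∨ (i = 1 ∧ j = 0) ∨ (i = 0 ∧ j = 1) := by omega
        · rwa [show ArSing32.ind 0 0 = 0 by simp [ArSing32.ind],
            MvPowerSeries.coeff_zero_eq_constantCoeff_apply]
        · exact hlin.1
        · exact hlin.2
      rcases ArSing32.classification h2 hF2 (by
        by_contra hq
        push Not at hq
        refine h3 (ArSing32.ordGE_iff_ind.2 fun i j hij => ?_)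
        by_cases hl : i + j < 2
        · exact ArSing32.ordGE_iff_ind.1 hF2 i j hl
        · obtain ⟨rfl, rfl⟩ | ⟨rfl, rfl⟩ | ⟨rfl, rfl⟩ :
              (i = 2 ∧ j = 0) ∨ (i = 1 ∧ j = 1) ∨ (i = 0 ∧ j = 2) := by omega
          · exact hq.1
          · exact hq.2.1
          · exact hq.2.2) with h' | ⟨n, h'⟩
      · exact Or.inr h'
      · exact Or.inl ⟨n, h'⟩

end Groth.Agent.S14311
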