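import Groth.Statements.S14312
import Groth.Agent.Curves2.PlaneQuartic

set_option autoImplicit false
universe u
open Curves

namespace Groth.Agent.S14312

/-- Over an algebraically closed field k, a reduced plane quartic — the zero locus in the projective
plane of a square-free homogeneous polynomial f of degree 4 in three variables — has at most 6
singular points, a singular point being a point of the projective plane at which f and its three
first partial derivatives vanish. (No hypothesis on the characteristic of k is imposed here. The
further assertions describing the quartics with exactly 5 or exactly 6 singular points are not part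
of this row.) -/
theorem result
    {k : Type u} [Field k] [IsAlgClosed k] (f : MvPolynomial (Fin 3) k)
    (hf : f.IsHomogeneous 4) (hred : Squarefree f) :
    ∃ s : Finset (Projectivization k (Fin 3 → k)), s.card ≤ 6 ∧
      ∀ p : Projectivization k (Fin 3 → k),
        MvPolynomial.eval p.rep f = 0 →
          (∀ i : Fin 3, MvPolynomial.eval p.rep (MvPolynomial.pderiv i f) = 0) → p ∈ s := by
  classical
  by_contra hcon
  push Not at hcon
  let S : Set (Projectivization k (Fin 3 → k)) :=
    {p | MvPolynomial.eval p.rep f = 0 ∧ ∀ i : Fin 3, MvPolynomial.eval p.rep (MvPolynomial.pderiv i f) = 0}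
  obtain ⟨t, htS, htc⟩ : ∃ t : Finset (Projectivization k (Fin 3 → k)), ↑t ⊆ S ∧ t.card = 7 := by
    rcases S.finite_or_infinite with hfin | hinf
    · have h7 : 7 ≤ hfin.toFinset.card := by
        by_contra h
        obtain ⟨p, h1, h2, h3⟩ := hcon hfin.toFinset (by omega)
        exact h3 (hfin.mem_toFinset.mpr ⟨h1, h2⟩)
      obtain ⟨t, ht, htc⟩ := Finset.exists_subset_card_eq h7
      exact ⟨t, fun p hp => hfin.mem_toFinset.mp (ht hp), htc⟩
    · exact hinf.exists_subset_card_eq 7
  let e := (t.equivFinOfCardEq htc).symm
  refine Curves2.PlaneForms.no_seven_sing_quartic hf hred (fun i => (e i).1.rep) (fun i j hij => ?_)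
    (fun i => htS (e i).2)
  rw [LinearIndependent.pair_iff' (Projectivization.rep_nonzero _)]
  intro a ha
  simp only at ha
  apply hij
  apply e.injective
  apply Subtype.ext
  rw [← Projectivization.mk_rep (e i).1, ← Projectivization.mk_rep (e j).1, Projectivization.mk_eq_mk_iff']
  by_cases h0 : a = 0
  · exact absurd (ha.symm.trans (by rw [h0, zero_smul])) (Projectivization.rep_nonzero (e j).1)
  · exact ⟨a⁻¹, by rw [← ha, smul_smul, inv_mul_cancel₀ h0, one_smul]⟩

end Groth.Agent.S14312
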