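import Groth.Statements.S14315
import Groth.Agent.Curves2.CurveMaps
import Groth.Agent.FBase64.SmoothFibre
import Mathlib.Topology.KrullDimension
import Mathlib.AlgebraicGeometry.Morphisms.QuasiFinite
import Mathlib.AlgebraicGeometry.Noetherian

set_option autoImplicit false
universe u
open CategoryTheory CategoryTheory.Limits AlgebraicGeometry TopologicalSpace
open Surf

namespace Groth.Agent.S14315

theorem isClosed_singleton_of_dim_le_one {X : Scheme.{u}} [IsIntegral X] (hdim : topologicalKrullDim X ≤ 1) {z : X}
    (hz : z ≠ genericPoint X) : IsClosed ({z} : Set X) := by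
  rw [← closure_subset_iff_isClosed]
  intro w hw
  by_contra hwz
  have hzw : z ⤳ w := specializes_iff_mem_closure.2 hw
  let c : X → TopologicalSpace.IrreducibleCloseds X := fun y =>
    ⟨closure {y}, isIrreducible_singleton.closure, isClosed_closure⟩
  have hlt : ∀ {y y' : X}, y' ⤳ y → y ≠ y' → c y < c y' := fun {y y'} h hne =>
    lt_of_le_of_ne h.closure_subset fun he => hne
      (Inseparable.eq (inseparable_iff_closure_eq.2 (congrArg SetLike.coe he)))
  let p : LTSeries (TopologicalSpace.IrreducibleCloseds X) :=
    ((RelSeries.singleton _ (c w)).snoc (c z) (hlt hzw hwz)).snoc (c (genericPoint X))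
      (by simpa using hlt (genericPoint_specializes z) hz)
  have h2 := (Order.LTSeries.length_le_krullDim p).trans hdim
  simp [p] at h2

theorem map_genericPoint_of_surjective {X Y : Scheme.{u}} [IsIntegral X] [IsIntegral Y] (f : X ⟶ Y)
    [Surjective f] : f (genericPoint X) = genericPoint Y := by
  refine ((genericPoint_spec Y).eq ?_).symm
  show closure {f (genericPoint X)} = Set.univ
  refine Set.eq_univ_of_forall fun y => ?_
  obtain ⟨x, rfl⟩ := f.surjective y
  exact specializes_iff_mem_closure.1 ((genericPoint_specializes x).map f.continuous)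

theorem map_genericPoint_of_isFinite {X Y : Scheme.{u}} [IsIntegral X] [IsIntegral Y] (f : X ⟶ Y)
    [IsFinite f] (hX : topologicalKrullDim X = 1) (hY : topologicalKrullDim Y ≤ 1) :
    f (genericPoint X) = genericPoint Y := by
  by_contra h
  have hc := isClosed_singleton_of_dim_le_one hY h
  have hall : f ⁻¹' {f (genericPoint X)} = Set.univ := Set.eq_univ_of_forall fun x =>
    hc.closure_eq.le (specializes_iff_mem_closure.1 ((genericPoint_specializes x).map f.continuous))
  have hd := f.isDiscrete_preimage_singleton (f (genericPoint X))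
  rw [hall] at hd
  haveI : DiscreteTopology X := (Homeomorph.Set.univ X).discreteTopology_iff.1 hd.to_subtype
  have h0 := topologicalKrullDim_zero_of_discreteTopology X
  rw [hX] at h0
  norm_num at h0


/-- Let k be an algebraically closed field, S a smooth projective surface over k (integral, proper and
smooth over k, of dimension 2), f : S → C a surjective k-morphism onto a smooth projective curve C
(integral, proper and smooth over k, of dimension 1), and ψ : C' → C a finite k-morphism from
another smooth projective curve C' which is unramified at every point of C' lying over a point of C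
whose fibre of f is not smooth. Then S ×_C C' is smooth over k. (The published statement takes ψ
separable and f the chapter's generically smooth semi-stable fibration with connected fibres over an
algebraically closed field of positive characteristic; this row assumes only f surjective and ψ
finite, over any algebraically closed field.) -/
theorem result (k : Type u) [Field k] [IsAlgClosed k]
    (S : Scheme.{u}) [S.Over (Spec (CommRingCat.of k))] [IsProper (S ↘ (Spec (CommRingCat.of k)))]
    [Smooth (S ↘ (Spec (CommRingCat.of k)))] [IsIntegral S] (hdim : topologicalKrullDim S = 2)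
    (C : Scheme.{u}) [C.Over (Spec (CommRingCat.of k))] [IsProper (C ↘ (Spec (CommRingCat.of k)))]
    [Smooth (C ↘ (Spec (CommRingCat.of k)))] [IsIntegral C] (hdimC : topologicalKrullDim C = 1)
    (f : S ⟶ C) [f.IsOver (Spec (CommRingCat.of k))] [Surjective f]
    (C' : Scheme.{u}) [C'.Over (Spec (CommRingCat.of k))] [IsProper (C' ↘ (Spec (CommRingCat.of k)))]
    [Smooth (C' ↘ (Spec (CommRingCat.of k)))] [IsIntegral C'] (hdimC' : topologicalKrullDim C' = 1)
    (ψ : C' ⟶ C) [ψ.IsOver (Spec (CommRingCat.of k))] [IsFinite ψ]
    (hψ : ∀ c : C', ¬ Smooth (f.fiberToSpecResidueField (ψ.base c)) →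
      ∃ U : C'.Opens, c ∈ U ∧ FormallyUnramified (U.ι ≫ ψ)) :
    Smooth (pullback.snd f ψ ≫ (C' ↘ (Spec (CommRingCat.of k)))) := by
  classical
  let qS := S ↘ Spec (CommRingCat.of k)
  let qC := C ↘ Spec (CommRingCat.of k)
  let q' := C' ↘ Spec (CommRingCat.of k)
  have hf : f ≫ qC = qS := comp_over f _
  have hψC : ψ ≫ qC = q' := comp_over ψ _
  haveI : Flat f := Curves2.flat_of_dominant qC hdimC.le f (map_genericPoint_of_surjective f)
  haveI : Flat ψ := Curves2.flat_of_dominant qC hdimC.le ψ (map_genericPoint_of_isFinite ψ hdimC' hdimC.le)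
  haveI : IsLocallyNoetherian C := LocallyOfFiniteType.isLocallyNoetherian qC
  haveI : LocallyOfFiniteType (f ≫ qC) := by rw [hf]; infer_instance
  haveI : LocallyOfFiniteType f := locallyOfFiniteType_of_comp f qC
  haveI : LocallyOfFinitePresentation f := LocallyOfFinitePresentation.iff_locallyOfFiniteType.2 inferInstance
  haveI : LocallyOfFinitePresentation ψ := LocallyOfFinitePresentation.iff_locallyOfFiniteType.2 inferInstance
  let p₁ := pullback.fst f ψ
  let p₂ := pullback.snd f ψ
  have hsm : ∀ x : (pullback f ψ : Scheme.{u}), ∃ W : (pullback f ψ).Opens, x ∈ W ∧ Smooth (W.ι ≫ p₂ ≫ q') := by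
    intro x
    by_cases hx : Smooth (f.fiberToSpecResidueField (ψ (p₂ x)))
    · have hmem : p₁ x ∈ f.smoothLocus := by
        refine FBase64.mem_smoothLocus_of_smooth_fiber f (p₁ x) ?_
        have e : f (p₁ x) = ψ (p₂ x) := congr($(pullback.condition (f := f) (g := ψ)) x)
        rw [e]
        exact hx
      let V : S.Opens := f.smoothLocus
      haveI : Smooth (V.ι ≫ f) := by
        rw [← Scheme.Hom.smoothLocus_eq_top_iff, ← Scheme.Hom.preimage_smoothLocus_eq]
        exact Scheme.Opens.ι_preimage_self _
      haveI : Smooth ((p₁ ⁻¹ᵁ V).ι ≫ p₂) := MorphismProperty.of_isPullback (P := @Smooth)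
        ((isPullback_morphismRestrict p₁ V).paste_vert (IsPullback.of_hasPullback f ψ)) inferInstance
      refine ⟨p₁ ⁻¹ᵁ V, hmem, ?_⟩
      rw [← Category.assoc]
      infer_instance
    · obtain ⟨U, hcU, hU⟩ := hψ (p₂ x) hx
      haveI := hU
      haveI : Etale (U.ι ≫ ψ) := Etale.of_formallyUnramified_of_flat _
      haveI : Etale ((p₂ ⁻¹ᵁ U).ι ≫ p₁) := MorphismProperty.of_isPullback (P := @Etale)
        ((isPullback_morphismRestrict p₂ U).paste_vert (IsPullback.of_hasPullback f ψ).flip) inferInstance
      refine ⟨p₂ ⁻¹ᵁ U, hcU, ?_⟩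
      rw [← hψC, ← pullback.condition_assoc, hf, ← Category.assoc]
      haveI : Smooth qS := ‹Smooth (S ↘ Spec (CommRingCat.of k))›
      infer_instance
  choose W hxW hW using hsm
  exact IsZariskiLocalAtSource.of_openCover (P := @Smooth)
    ((pullback f ψ).openCoverOfIsOpenCover W
      (TopologicalSpace.IsOpenCover.mk (top_le_iff.1 fun x _ => Opens.mem_iSup.2 ⟨x, hxW x⟩))) hW

end Groth.Agent.S14315

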