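import Groth.Statements.S1432
import Mathlib


set_option autoImplicit false
universe u
open FlatMor

namespace Groth.Agent.S1432
open AlgebraicGeometry CategoryTheory Limits in
theorem ker_SpecMap_of_injective {A B : Type u} [CommRing A] [CommRing B] (φ : A →+* B) (h : Function.Injective φ) :
    (Spec.map (CommRingCat.ofHom φ)).ker = ⊥ := by
  apply Scheme.IdealSheafData.ext_of_isAffine
  rw [Scheme.Hom.ker_apply, Scheme.IdealSheafData.ideal_bot, Pi.bot_apply, ← RingHom.injective_iff_ker_eq_bot]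
  change Function.Injective ((Spec.map (CommRingCat.ofHom φ)).appTop).hom
  intro x y hxy
  apply (Scheme.ΓSpecIso (CommRingCat.of A)).commRingCatIsoToRingEquiv.injective
  apply h
  have e := Scheme.ΓSpecIso_naturality (CommRingCat.ofHom φ)
  have ex := congr(($e).hom x)
  have ey := congr(($e).hom y)
  simp only [CommRingCat.hom_comp, RingHom.comp_apply] at ex ey
  exact ex.symm.trans ((congrArg _ hxy).trans ey)

open AlgebraicGeometry CategoryTheory Limits in
/-- The lifting property along injective ring maps. -/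
def LiftProp {X Y : Scheme.{u}} (f : X ⟶ Y) : Prop :=
  ∀ (A B : Type u) [CommRing A] [CommRing B] (φ : A →+* B), Function.Injective φ →
      ∀ (a : Spec (CommRingCat.of B) ⟶ X) (b : Spec (CommRingCat.of A) ⟶ Y), Spec.map (CommRingCat.ofHom φ) ≫ b = a ≫ f →
        ∃ l : Spec (CommRingCat.of A) ⟶ X, Spec.map (CommRingCat.ofHom φ) ≫ l = a ∧ l ≫ f = b

open AlgebraicGeometry CategoryTheory Limits in
theorem core {X Y : Scheme.{u}} (f : X ⟶ Y) [QuasiCompact f] [IsAffine Y] (H : LiftProp f) : IsClosedImmersion f := by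
  have : CompactSpace X := QuasiCompact.compactSpace_of_compactSpace f
  let 𝒰 := X.affineCover.finiteSubcover
  have : ∀ i, IsAffine (𝒰.X i) := fun i => by dsimp [𝒰]; infer_instance
  let p : (∐ 𝒰.X) ⟶ X := Sigma.desc 𝒰.f
  let ψ : Γ(Y, ⊤) →+* Γ(∐ 𝒰.X, ⊤) := (p ≫ f).appTop.hom
  let b : Spec (CommRingCat.of (Γ(Y, ⊤) ⧸ RingHom.ker ψ)) ⟶ Y :=
    Spec.map (CommRingCat.ofHom (Ideal.Quotient.mk (RingHom.ker ψ))) ≫ Y.isoSpec.inv
  have : IsClosedImmersion b := by
    have := IsClosedImmersion.spec_of_surjective (CommRingCat.ofHom (Ideal.Quotient.mk (RingHom.ker ψ))) Ideal.Quotient.mk_surjective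
    infer_instance
  have sq : Spec.map (CommRingCat.ofHom (RingHom.kerLift ψ)) ≫ b = ((∐ 𝒰.X).isoSpec.inv ≫ p) ≫ f := by
    rw [Category.assoc, ← Scheme.isoSpec_inv_naturality (p ≫ f), ← Spec.map_comp_assoc]
    congr 2
  obtain ⟨l, hl1, hl2⟩ := H _ _ (RingHom.kerLift ψ) (RingHom.kerLift_injective ψ) _ b sq
  have hpf : p ≫ f = ((∐ 𝒰.X).isoSpec.hom ≫ Spec.map (CommRingCat.ofHom (RingHom.kerLift ψ))) ≫ b := by
    rw [Category.assoc, sq, Category.assoc, Iso.hom_inv_id_assoc]
  have hle : b.ker ≤ f.ker := by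
    rw [← Scheme.Hom.iInf_ker_openCover_map_comp f 𝒰]
    refine le_iInf fun i => ?_
    rw [show 𝒰.f i ≫ f = (Sigma.ι 𝒰.X i ≫ (∐ 𝒰.X).isoSpec.hom ≫ Spec.map (CommRingCat.ofHom (RingHom.kerLift ψ))) ≫ b by
      simp only [Category.assoc] at hpf ⊢
      rw [← hpf, Sigma.ι_desc_assoc]]
    exact Scheme.Hom.le_ker_comp _ _
  let t := IsClosedImmersion.lift b f hle
  have ht : t ≫ b = f := IsClosedImmersion.lift_fac _ _ _
  have h1 : l ≫ t = 𝟙 _ := by rw [← cancel_mono b, Category.assoc, ht, hl2, Category.id_comp]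
  have h2 : t ≫ l = 𝟙 _ := by
    refine 𝒰.hom_ext _ _ fun i => ?_
    have : p ≫ t = (∐ 𝒰.X).isoSpec.hom ≫ Spec.map (CommRingCat.ofHom (RingHom.kerLift ψ)) := by
      rw [← cancel_mono b, Category.assoc, ht, hpf]
    rw [Category.comp_id, ← Sigma.ι_desc 𝒰.f i, Category.assoc, show Sigma.desc 𝒰.f ≫ t ≫ l = p from ?_]
    rw [reassoc_of% this, hl1, Iso.hom_inv_id_assoc]
  have : IsIso t := ⟨l, h2, h1⟩
  rw [← ht]
  infer_instance


open AlgebraicGeometry CategoryTheory Limits in
/-- For a quasi-compact morphism f : X → Y, being a closed immersion is equivalent to the following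
lifting property: for each injective ring map A → B and each commutative square with Spec B → X on
top and Spec A → Y at the bottom there is a lift Spec A → X making both triangles commute. -/
theorem result {X Y : Scheme.{u}} (f : X ⟶ Y) [QuasiCompact f] :
    IsClosedImmersion f ↔ ∀ (A B : Type u) [CommRing A] [CommRing B] (φ : A →+* B), Function.Injective φ →
      ∀ (a : Spec (CommRingCat.of B) ⟶ X) (b : Spec (CommRingCat.of A) ⟶ Y), Spec.map (CommRingCat.ofHom φ) ≫ b = a ≫ f →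
        ∃ l : Spec (CommRingCat.of A) ⟶ X, Spec.map (CommRingCat.ofHom φ) ≫ l = a ∧ l ≫ f = b := by
  constructor
  · intro hf A B _ _ φ hφ a b w
    have h : f.ker ≤ b.ker :=
      calc f.ker ≤ (a ≫ f).ker := Scheme.Hom.le_ker_comp a f
        _ = (Spec.map (CommRingCat.ofHom φ) ≫ b).ker := by rw [w]
        _ = b.ker := by rw [Scheme.Hom.ker_comp, ker_SpecMap_of_injective φ hφ, Scheme.IdealSheafData.map_bot]
    refine ⟨IsClosedImmersion.lift f b h, ?_, IsClosedImmersion.lift_fac _ _ _⟩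
    rw [← cancel_mono f, Category.assoc, IsClosedImmersion.lift_fac, w]
  · intro H
    refine IsZariskiLocalAtTarget.of_iSup_eq_top (P := @IsClosedImmersion) (fun i : Y.affineOpens => i.1) (iSup_affineOpens_eq_top Y) fun i => ?_
    have : IsAffine (Scheme.Opens.toScheme i.1) := i.2
    refine core _ fun A B _ _ φ hφ a b w => ?_
    obtain ⟨l, hl1, hl2⟩ := H A B φ hφ (a ≫ (f ⁻¹ᵁ i.1).ι) (b ≫ i.1.ι) (by
      rw [← Category.assoc, w, Category.assoc, morphismRestrict_ι, Category.assoc])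
    obtain ⟨l', r1, r2⟩ : ∃ l', l' ≫ (f ⁻¹ᵁ i.1).ι = l ∧ l' ≫ (f ∣_ i.1) = b := by
      refine ⟨(isPullback_morphismRestrict f i.1).flip.lift l b hl2, IsPullback.lift_fst _ _ _ _, IsPullback.lift_snd _ _ _ _⟩
    refine ⟨l', ?_, r2⟩
    rw [← cancel_mono (f ⁻¹ᵁ i.1).ι, Category.assoc, r1, hl1]

end Groth.Agent.S1432
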