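import Groth.Statements.S14332
import Groth.Agent.CI16.Vanish

set_option autoImplicit false
set_option linter.style.haveILetI false
universe u
open CategoryTheory CategoryTheory.Limits AlgebraicGeometry
open Coherent

namespace Groth.Agent.S14332

/-- Let k be a field, r ≤ n, and G_1, …, G_r homogeneous forms of positive degrees in the homogeneous
coordinates of P = P^n_k whose common zero scheme X = V(G_1, …, G_r), with its closed immersion ι :
X → P, has dimension n − r, so that X is a global complete intersection in P. Then H^p(X, ι^*O(i))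
vanishes for every integer i and every p with 0 < p < n − r. -/
theorem result (k : Type u) [Field k] (n r : ℕ) (hr : r ≤ n) (a : Fin r → ℕ) (ha : ∀ j, 1 ≤ a j) (G : ∀ j : Fin r, LefPen.Form n k (a j)) (hdim : topologicalKrullDim ↥(LefPen.ciIdeal G).subscheme = ((n - r : ℕ) : WithBot ℕ∞)) (i : ℤ) (p : ℕ) (hp : 0 < p) (hpn : p < n - r) : Subsingleton (Coh.HH (LefPen.ciIdeal G).subscheme ((Scheme.Modules.pullback (LefPen.ciIdeal G).subschemeι).obj (Twist.twistProjSpace n k i)) p) := by
  haveI := Pn71.isQCoh_twistProjSpace n k i
  haveI := QCPull72.isQuasicoherent_pullback (LefPen.ciIdeal G).subschemeι (Twist.twistProjSpace n k i)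
  obtain ⟨e⟩ := Coh69.nonempty_hh_push (LefPen.ciIdeal G).subschemeι
    ((Scheme.Modules.pullback (LefPen.ciIdeal G).subschemeι).obj (Twist.twistProjSpace n k i)) p
  haveI : Subsingleton (Coh.HH (CohB1.ProjSpace n k) ((Coh.push (LefPen.ciIdeal G).subschemeι).obj
      ((Scheme.Modules.pullback (LefPen.ciIdeal G).subschemeι).obj (Twist.twistProjSpace n k i))) p) :=
    (CI16.vanish_and_surjective G (CI16.ciReg_of_dim G hr ha hdim)).1 i p hp (by omega)
  exact e.toEquiv.subsingleton

end Groth.Agent.S14332
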