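import Groth.Statements.S14336
import Groth.Agent.CAlg4.SplitReduced
import Mathlib.RingTheory.Flat.Basic
import Mathlib.RingTheory.Spectrum.Prime.FreeLocus
import Mathlib.Topology.Semicontinuity.Basic

set_option autoImplicit false
universe u
open CAlg

namespace Groth.Agent.S14336

theorem fp (B : Type u) [CommRing B] [IsNoetherianRing B] (M : Type u) [AddCommGroup M] [Module B M]
    [Module.Finite B M] [Module.Flat B M] : Module.Projective B M :=
  haveI := Module.finitePresentation_of_finite B M
  Module.freeLocus_eq_univ_iff.1 Module.freeLocus_eq_univ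

/-- Let B be a Noetherian ring, K and K' finitely generated flat B-modules and φ : K → K' a B-linear
map; for a prime y of B write κ(y) for its residue field and φ_y for the base change κ(y) ⊗ K → κ(y)
⊗ K'. Then the function y ↦ dim_{κ(y)} Im(φ_y) on Spec B is lower semicontinuous. -/
theorem result (B : Type u) [CommRing B] [IsNoetherianRing B] (K K' : Type u) [AddCommGroup K] [Module B K] [Module.Finite B K] [Module.Flat B K] [AddCommGroup K'] [Module B K'] [Module.Finite B K'] [Module.Flat B K'] (φ : K →ₗ[B] K') : LowerSemicontinuous (fun y : PrimeSpectrum B => Module.finrank y.asIdeal.ResidueField ↥(LinearMap.range (φ.baseChange y.asIdeal.ResidueField))) := by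
  haveI := fp B K'
  rw [lowerSemicontinuous_iff]
  intro p
  rw [lowerSemicontinuousAt_iff]
  intro y hy
  obtain ⟨S⟩ := Groth.Agent.CAlg4.SplitMap.exists_data (Groth.Agent.CAlg4.SplitMap.frac_residueField p) φ
  have hp : p ∈ PrimeSpectrum.basicOpen S.D := fun h => S.hD (Ideal.algebraMap_residueField_eq_zero.2 h)
  filter_upwards [(PrimeSpectrum.basicOpen S.D).2.mem_nhds hp] with q hq
  exact hy.trans_le (S.le_rank fun h => hq (Ideal.algebraMap_residueField_eq_zero.1 h))

end Groth.Agent.S14336
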