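import Groth.Statements.S14337
import Groth.Agent.S14336

set_option autoImplicit false
universe u
open scoped TensorProduct
open CAlg

namespace Groth.Agent.S14337

/-- Let B be a Noetherian ring, K and K' finitely generated flat B-modules and φ : K → K' a B-linear
map; for a prime y of B write κ(y) for its residue field and φ_y for the base change κ(y) ⊗ K → κ(y)
⊗ K'. If the cokernel K'/Im φ is a projective (locally free) B-module, then Im φ is projective, and
the formation of Im φ commutes with every base change: for every commutative B-algebra B' the map B'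
⊗ Im φ → B' ⊗ K' induced by the inclusion is injective and its range is the range of the base change
B' ⊗ K → B' ⊗ K' of φ. -/
theorem result (B : Type u) [CommRing B] [IsNoetherianRing B] (K K' : Type u) [AddCommGroup K] [Module B K] [Module.Finite B K] [Module.Flat B K] [AddCommGroup K'] [Module B K'] [Module.Finite B K'] [Module.Flat B K'] (φ : K →ₗ[B] K') (hc : Module.Projective B (K' ⧸ LinearMap.range φ)) : Module.Projective B ↥(LinearMap.range φ) ∧ ∀ (B' : Type u) [CommRing B'] [Algebra B B'], Function.Injective ((LinearMap.range φ).subtype.baseChange B') ∧ LinearMap.range ((LinearMap.range φ).subtype.baseChange B') = LinearMap.range (φ.baseChange B') := by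
  haveI := Groth.Agent.S14336.fp B K'
  obtain ⟨s, hs⟩ := Module.projective_lifting_property (LinearMap.range φ).mkQ LinearMap.id
    (Submodule.mkQ_surjective _)
  let r : K' →ₗ[B] LinearMap.range φ := (LinearMap.id - s ∘ₗ (LinearMap.range φ).mkQ).codRestrict _ fun x => by
    rw [← Submodule.Quotient.mk_eq_zero, LinearMap.sub_apply, Submodule.Quotient.mk_sub, sub_eq_zero]
    exact (LinearMap.congr_fun hs ((LinearMap.range φ).mkQ x)).symm
  have hr : r ∘ₗ (LinearMap.range φ).subtype = LinearMap.id := by
    ext x
    have : (LinearMap.range φ).mkQ (x : K') = 0 := (Submodule.Quotient.mk_eq_zero _).2 x.2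
    simp [r, this]
  refine ⟨Module.Projective.of_split _ _ hr, fun B' _ _ => ⟨?_, ?_⟩⟩
  · intro a b hab
    have h := congrArg (r.baseChange B') hab
    rwa [← LinearMap.comp_apply, ← LinearMap.comp_apply, ← LinearMap.baseChange_comp, hr, LinearMap.baseChange_id,
      LinearMap.id_apply, LinearMap.id_apply] at h
  · conv_rhs => rw [show φ = (LinearMap.range φ).subtype ∘ₗ φ.rangeRestrict from rfl, LinearMap.baseChange_comp]
    rw [LinearMap.range_comp_of_range_eq_top]
    exact LinearMap.range_eq_top.2 (LinearMap.lTensor_surjective _ φ.surjective_rangeRestrict)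

end Groth.Agent.S14337
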