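import Groth.Statements.S14338
import Groth.Agent.S14336

set_option autoImplicit false
universe u
open CAlg

namespace Groth.Agent.S14338

/-- Let B be a Noetherian ring, K and K' finitely generated flat B-modules and φ : K → K' a B-linear
map; for a prime y of B write κ(y) for its residue field and φ_y for the base change κ(y) ⊗ K → κ(y)
⊗ K'. Assume B is reduced and the number dim_{κ(y)} Im(φ_y) is the same for all primes y of B. Then
the cokernel K'/Im φ and the image Im φ are projective (locally free) B-modules. -/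
theorem result (B : Type u) [CommRing B] [IsNoetherianRing B] (K K' : Type u) [AddCommGroup K] [Module B K] [Module.Finite B K] [Module.Flat B K] [AddCommGroup K'] [Module B K'] [Module.Finite B K'] [Module.Flat B K'] (φ : K →ₗ[B] K') [IsReduced B] (hconst : ∃ c : ℕ, ∀ y : PrimeSpectrum B, Module.finrank y.asIdeal.ResidueField ↥(LinearMap.range (φ.baseChange y.asIdeal.ResidueField)) = c) : Module.Projective B (K' ⧸ LinearMap.range φ) ∧ Module.Projective B ↥(LinearMap.range φ) := by
  haveI := Groth.Agent.S14336.fp B K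
  haveI := Groth.Agent.S14336.fp B K'
  obtain ⟨c, hc⟩ := hconst
  have h0 : ∀ q : PrimeSpectrum B, Groth.Agent.CAlg4.SplitReduced.rho (0 : K →ₗ[B] K) q +
      Groth.Agent.CAlg4.SplitReduced.rho φ q = c := fun q => by
    rw [show Groth.Agent.CAlg4.SplitReduced.rho (0 : K →ₗ[B] K) q = 0 by
      simp [Groth.Agent.CAlg4.SplitReduced.rho], zero_add]
    exact hc q
  obtain ⟨-, g, hg⟩ := Groth.Agent.CAlg4.SplitReduced.exists_splittings (0 : K →ₗ[B] K) φ
    (by rw [show (fun q => Groth.Agent.CAlg4.SplitReduced.rho (0 : K →ₗ[B] K) q + Groth.Agent.CAlg4.SplitReduced.rho φ q) =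
      fun _ => c from funext h0]; exact IsLocallyConstant.const c)
  obtain ⟨σ, hσ⟩ := Groth.Agent.CAlg4.SplitCoker.exists_section_of_split φ 1 g (by rw [hg, one_smul])
  rw [one_smul] at hσ
  refine ⟨Module.Projective.of_split σ _ hσ, ?_⟩
  refine Module.Projective.of_split (LinearMap.range φ).subtype (φ.rangeRestrict ∘ₗ g) ?_
  ext ⟨_, m, rfl⟩
  exact LinearMap.congr_fun hg m

end Groth.Agent.S14338
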