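import Groth.Statements.S14339
import Groth.Agent.Curves2.PlaneGon
import Groth.Agent.Crv77.RangeField
import Groth.Agent.Crv77.RatPoint
import Groth.Agent.Sep12.Index

set_option autoImplicit false
set_option backward.isDefEq.respectTransparency false
set_option maxHeartbeats 1000000
set_option synthInstance.maxHeartbeats 200000
universe u
open CategoryTheory CategoryTheory.Limits AlgebraicGeometry
open Curves

namespace Groth.Agent.S14339

/-- Let k be a field, d ≥ 4, and f a nonzero homogeneous form of degree d in the homogeneous coordinates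
of P^2_k whose plane curve X = V_+(f) is smooth over k. Then X is not hyperelliptic: there is no
morphism φ : X → P^1_k over k which is finite and flat of constant rank 2 (a double cover of the
projective line). -/
theorem result (k : Type u) [Field k] (d : ℕ) (hd : 4 ≤ d) (f : LefPen.Form 2 k d) (hf : f ≠ 0) [Smooth ((LefPen.hypIdeal f).subschemeι ≫ CohB1.ProjSpace.toSpec 2 k)] : ¬ ∃ φ : (LefPen.hypIdeal f).subscheme ⟶ CohB1.ProjSpace 1 k, φ ≫ CohB1.ProjSpace.toSpec 1 k = (LefPen.hypIdeal f).subschemeι ≫ CohB1.ProjSpace.toSpec 2 k ∧ IsFinite φ ∧ Flat φ ∧ ∀ y : ↥(CohB1.ProjSpace 1 k), Scheme.Hom.finrank φ y = 2 := by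
  rintro ⟨φ, hφ, hfin, hflat, hrk⟩
  let C := (LefPen.hypIdeal f).subscheme
  let _ : C.Over (Spec (CommRingCat.of k)) := ⟨(LefPen.hypIdeal f).subschemeι ≫ CohB1.ProjSpace.toSpec 2 k⟩
  have hinst : C ↘ (Spec (CommRingCat.of k)) = (LefPen.hypIdeal f).subschemeι ≫ CohB1.ProjSpace.toSpec 2 k := rfl
  have : Smooth (C ↘ Spec (CommRingCat.of k)) :=
    inferInstanceAs (Smooth ((LefPen.hypIdeal f).subschemeι ≫ CohB1.ProjSpace.toSpec 2 k))
  have := Curves2.ProjLine.isProper_toSpec k 2
  have : IsProper (C ↘ Spec (CommRingCat.of k)) :=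
    inferInstanceAs (IsProper ((LefPen.hypIdeal f).subschemeι ≫ CohB1.ProjSpace.toSpec 2 k))
  have := Crv77.isNoetherian_of_proper k C
  obtain ⟨h0, h1⟩ := Crv77.finrank_hh_hypersurface (by omega) f hf hinst
  have : ConnectedSpace C := Crv77.connectedSpace_of_h0 C h0
  have hNC : Pi1.IsNormalScheme C := fun x =>
    Curves2.isIntegrallyClosed_stalk_of_smooth (C ↘ Spec (CommRingCat.of k)) x
  have := Crv77.isIntegral_of_connected_normal hNC
  have hdim := Curves2.PlaneGon.dim_eq_one f (by omega) hf
  have hC := Crv77.setup_of_h0 hdim (Crv77.valuationRing_stalks_of_smooth (k := k) hdim) h0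
  let _ := CrvPic30.ffAlg k C
  have hg : FunFld.genus k C.functionField = (d - 1) * (d - 2) / 2 := hC.genus_eq.symm.trans h1
  have := Curves2.ProjLine.isIntegral k 1
  have e : φ (genericPoint C) = genericPoint (CohB1.ProjSpace 1 k) := by
    have hsur : Function.Surjective φ :=
      ((Scheme.Hom.one_le_finrank_iff_surjective φ).1 fun y => by simp [hrk y]).surj
    exact ((genericPoint_spec C).image φ.continuous).eq
      (by rw [Set.image_univ, hsur.range_eq, closure_univ]; exact genericPoint_spec _)
  have hdeg : φ.residueDegree (genericPoint C) = 2 :=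
    (Crv77.finrank_eq_residueDegree φ e (genericPoint (CohB1.ProjSpace 1 k))).symm.trans (hrk _)
  obtain ⟨z, hz, -⟩ := Crv77.exists_double_of_cover hC φ hφ hdeg
  obtain hd4 | hd5 := eq_or_lt_of_le hd
  · subst hd4
    have hg3 : FunFld.genus k C.functionField = 3 := hg.trans (by norm_num)
    obtain ⟨x, y, hxy, hdm⟩ := Crv77.exists_plane_model f hinst hf hC (by rw [hg3]; norm_num)
    exact Crv77.no_double_of_plane_quartic hC hg3 hxy hdm _ hz
      ((FF30.genus_zero_and_exists_deg_one_iff' (have := Module.finite_of_finrank_eq_succ hz; Crv77.isFunctionField_of_finite hC.ff (IntermediateField.adjoin k {z}))).2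
        ⟨IntermediateField.AdjoinSimple.gen k z, Sep12.adjoin_gen_eq_top (k := k) z⟩).1
  · obtain ⟨x, y, hxy, hrel⟩ := Curves2.PlaneGon.exists_relation f hinst (by omega) hf
    have hgd : d ≤ FunFld.genus k C.functionField := by
      rw [hg, Nat.le_div_iff_mul_le two_pos]
      obtain ⟨m, rfl⟩ := Nat.exists_eq_add_of_le (show 5 ≤ d from hd5)
      simp only [show 5 + m - 1 = m + 4 by omega, show 5 + m - 2 = m + 3 by omega]
      nlinarith
    exact Curves2.PlaneGon.no_double hC.ff hxy f.1 ((MvPolynomial.mem_homogeneousSubmodule _ _).1 f.2)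
      (fun h => hf (Subtype.ext h)) hrel hgd (fun h => by rw [h] at hgd; omega) hz

end Groth.Agent.S14339
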