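import Groth.Statements.S6579
import Groth.Agent.Crv77.DegPullback
import Groth.Agent.Crv77.PlaneCoh
import Groth.Agent.Crv77.FunMap
import Groth.Agent.VarCurve.HomDeg
import Groth.Agent.Amp73.PullTensor
import Groth.Agent.Var76.RegTools
import Groth.Agent.RegSh99.Basic
import Groth.Agent.Curves2.ProjLineProper

set_option autoImplicit false
universe u
open CategoryTheory CategoryTheory.Limits AlgebraicGeometry
open Curves
open Groth.Agent.Var76.LineBundle

set_option backward.isDefEq.respectTransparency false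

namespace Groth.Agent.S6579

theorem deg_twist_one (k : Type u) [Field k] :
    Curv2.deg k (CohB1.ProjSpace 1 k) (Twist.twistProjSpace 1 k 1) 1 = 1 := by
  let P := CohB1.ProjSpace 1 k
  have : IsProper (P ↘ Spec (CommRingCat.of k)) := Curves2.ProjLine.isProper_toSpec k 1
  have hP : topologicalKrullDim P = 1 := (S10829.result k 1).trans Nat.cast_one
  have := Crv77.isNoetherian_of_proper k P
  obtain ⟨e0⟩ : Nonempty (Twist.twistProjSpace 1 k 0 ≅ Coh.structureModule P) := EGA73.nonempty_twist_zero_iso
  have s1 := Pn71.subsingleton_hh 1 k 1 1 (fun h => one_ne_zero h.1) (fun h => by simp at h)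
  have s2 := Pn71.subsingleton_hh 1 k 0 1 (fun h => one_ne_zero h.1) (fun h => by simp at h)
  have hh0 : Module.finrank k (Coh.HH P (Twist.twistProjSpace 1 k 1) 0) = 2 :=
    (Var76.Reg.finrank_hh_twist (k := k) (n := 1) 1).trans (by norm_num)
  have h00 : Module.finrank k (Coh.HH P (Coh.structureModule P) 0) = 1 :=
    (Crv77.hEquiv k e0 0).symm.finrank_eq.trans ((Var76.Reg.finrank_hh_twist (k := k) (n := 1) 0).trans (by norm_num))
  have h01 : Module.finrank k (Coh.HH P (Coh.structureModule P) 1) = 0 :=
    (Crv77.hEquiv k e0 1).symm.finrank_eq.trans (Module.finrank_zero_of_subsingleton)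
  have h11 : Module.finrank k (Coh.HH P (Twist.twistProjSpace 1 k 1) 1) = 0 := Module.finrank_zero_of_subsingleton
  have hcc := Crv77.curveCoh_of_proper k P hP.le
  rw [Curv2.deg, hcc.euler_eq (Crv77.isCoh_of_isInvertible (Var76.Reg.isInvertible_twist 1)),
    hcc.euler_eq Crv77.isCoh_structureModule]
  simp [Crv77.h, hh0, h00, h01, h11]

/-- A global function is a constant when `h⁰(O) = 1`. -/
theorem exists_const (k : Type u) [Field k] (X : Scheme.{u}) [X.Over (Spec (CommRingCat.of k))] [Nonempty X]
    (h0 : Module.finrank k (Coh.HH X (Coh.structureModule X) 0) = 1) (a : Γ(X, ⊤)) :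
    ∃ c : k, Coh.toGlobal (X ↘ Spec (CommRingCat.of k)) c = a := by
  let v := (Crv77.sec (Coh.structureModule X)).symm ((1 : Γ(X, ⊤)) : Γ(Coh.structureModule X, ⊤))
  have hv : v ≠ 0 := fun h => by
    have h2 := congrArg (Crv77.sec (Coh.structureModule X)) h
    rw [AddEquiv.apply_symm_apply, map_zero] at h2
    have : Nonempty (⊤ : X.Opens) := ⟨⟨Classical.arbitrary X, trivial⟩⟩
    exact one_ne_zero (α := Γ(X, ⊤)) h2
  obtain ⟨c, hc⟩ := (finrank_eq_one_iff_of_nonzero' v hv).1 h0
    ((Crv77.sec (Coh.structureModule X)).symm (a : Γ(Coh.structureModule X, ⊤)))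
  have h2 := congrArg (Crv77.sec (Coh.structureModule X)) hc
  rw [Crv77.sec_smul k, AddEquiv.apply_symm_apply] at h2
  exact ⟨c, (mul_one _).symm.trans (h2.trans ((Crv77.sec (Coh.structureModule X)).apply_symm_apply _))⟩

/-- Let k be a field and X a proper curve over k all of whose local rings are regular (X integral,
proper, of dimension one), (L, V) a g^1_d on X with ordered basis s_0, s_1 of V, and φ : X → P^1_k a
morphism over k together with α : φ^*O(1) → L sending φ^*T_i to s_i (the morphism attached to the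
linear series). Then either (1) φ is nonconstant and has degree at most d — here: φ does not factor
through a closed point, and k(X) has dimension at most d over the local ring of P^1_k at the image
of the generic point of X (that image is then the generic point, so this is [k(X) : k(P^1_k)] ≤ d) —
or (2) φ maps X (set-theoretically) to a single closed point of P^1_k, and in that case H^0(X, O_X)
is bigger than k. -/
theorem result (k : Type u) [Field k] (X : Scheme.{u}) [X.Over (Spec (CommRingCat.of k))]
    [IsIntegral X] [IsProper (X ↘ (Spec (CommRingCat.of k)))] (hdim : topologicalKrullDim X = 1) (hreg : ∀ x : X, IsRegularLocalRing (X.presheaf.stalk x))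
    (d : ℕ) (L : X.Modules) (s : Fin (1 + 1) → LinSer.Sect X L) (hL : LinSer.IsLinSer k X L d 1 s)
    (φ : X ⟶ CohB1.ProjSpace 1 k) (α : (Scheme.Modules.pullback φ).obj (Twist.twistProjSpace 1 k 1) ⟶ L)
    (hφ : φ ≫ CohB1.ProjSpace.toSpec 1 k = X ↘ (Spec (CommRingCat.of k)) ∧
        ∀ i : Fin (1 + 1), (α.val.app (Opposite.op ⊤)).hom (OmegaSh.pullSect φ (Twist.twistProjSpace 1 k 1) ⊤ (Twist.globalOf (CohB1.polyGrading 1 k) (⟨MvPolynomial.X i, MvPolynomial.isHomogeneous_X k i⟩ : (CohB1.polyGrading 1 k) 1))) = s i) :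
    ((¬ ∃ p : CohB1.ProjSpace 1 k, IsClosed ({p} : Set (CohB1.ProjSpace 1 k)) ∧ Set.range φ ⊆ {p}) ∧
      (letI := (φ.stalkMap (genericPoint X)).hom.toAlgebra
       Module.finrank ((CohB1.ProjSpace 1 k).presheaf.stalk (φ (genericPoint X))) X.functionField ≤ d)) ∨
    ((∃ p : CohB1.ProjSpace 1 k, IsClosed ({p} : Set (CohB1.ProjSpace 1 k)) ∧ Set.range φ ⊆ {p}) ∧
      Module.finrank k (Coh.HH X (Coh.structureModule X) 0) ≠ 1) := by
  classical
  let P := CohB1.ProjSpace 1 k
  obtain ⟨hinv, hd, hli⟩ := hL
  obtain ⟨hφk, hα⟩ := hφ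
  have := Curves2.ProjLine.isIntegral k 1
  have : IsProper (P ↘ Spec (CommRingCat.of k)) := Curves2.ProjLine.isProper_toSpec k 1
  have hP : topologicalKrullDim P = 1 := (S10829.result k 1).trans Nat.cast_one
  have hO := Var76.Reg.isInvertible_twist (n := 1) (A := k) 1
  by_cases e : φ (genericPoint X) = genericPoint P
  · left
    constructor
    · rintro ⟨p, hp, hr⟩
      obtain ⟨z, hz⟩ := Crv77.exists_ne_genericPoint hP
      rw [← (show φ (genericPoint X) = p from hr ⟨_, rfl⟩), e] at hp
      exact hz ((genericPoint_specializes z).mem_closed hp (Set.mem_singleton _))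
    · have := Crv77.isNoetherian_of_proper k X
      have := Crv77.isFinite_of_dominant k hdim hP φ hφk e
      have hα0 : α ≠ 0 := by
        intro h0
        have h1 := hα 0
        rw [h0] at h1
        have hs : s 0 = 0 := h1.symm
        have := congrFun (hli (Pi.single 0 1) (by
          rw [Fin.sum_univ_two, Pi.single_eq_same, Pi.single_eq_of_ne (by decide), map_zero, hs]
          exact (congrArg₂ (· + ·) (smul_zero _) (zero_smul _ (s 1))).trans (add_zero 0))) 0
        simp at this
      have hle := (VarCurve.CurveCoh.deg_le_of_hom (Crv77.curveCoh_of_proper k X hdim.le) hdim.le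
        (Amp73.isInvertible_pullback φ hO) hinv α hα0).1
      rw [Crv77.deg_pullback_finite k hP φ hφk e (RegSh99.rankOne_of_isInvertible hO), deg_twist_one k, mul_one,
        hd] at hle
      refine le_of_eq_of_le ?_ (Int.ofNat_le.1 hle)
      rw [← (Crv77.ffMap_spec φ e).1]
      let _ := (φ.stalkMap (genericPoint X)).hom.toAlgebra
      let _ := (Crv77.ffMap φ e).toAlgebra
      have : IsIso (P.presheaf.stalkSpecializes (specializes_of_eq e)) :=
        ⟨P.presheaf.stalkSpecializes (specializes_of_eq e.symm), by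
          rw [P.presheaf.stalkSpecializes_comp, TopCat.Presheaf.stalkSpecializes_refl], by
          rw [P.presheaf.stalkSpecializes_comp, TopCat.Presheaf.stalkSpecializes_refl]⟩
      exact (Algebra.finrank_eq_of_equiv_equiv
        (asIso (P.presheaf.stalkSpecializes (specializes_of_eq e))).commRingCatIsoToRingEquiv (RingEquiv.refl _)
        (RingHom.ext fun a => rfl)).symm
  · right
    let p := φ (genericPoint X)
    have hp : IsClosed ({p} : Set P) := Crv77.isClosed_singleton hP.le e
    have hr : Set.range φ ⊆ {p} := by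
      rintro _ ⟨x, rfl⟩
      exact ((genericPoint_specializes x).map φ.continuous).mem_closed hp (Set.mem_singleton _)
    refine ⟨⟨p, hp, hr⟩, fun h0 => ?_⟩
    obtain ⟨U, hpU, w, hw⟩ := Mero90.exists_frame' hO p
    let O1 := Twist.twistProjSpace 1 k 1
    let Q := (Scheme.Modules.pullback φ).obj O1
    have htop : (⊤ : X.Opens) ≤ φ ⁻¹ᵁ U := fun x _ => show φ x ∈ U from (hr ⟨x, rfl⟩ : φ x = p) ▸ hpU
    let T : Fin (1 + 1) → Γ(O1, ⊤) := fun i => Twist.globalOf (CohB1.polyGrading 1 k)
      (⟨MvPolynomial.X i, MvPolynomial.isHomogeneous_X k i⟩ : (CohB1.polyGrading 1 k) 1)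
    let ε : Γ(Q, ⊤) := res Q htop (Amp73.pullS φ O1 U w)
    let tG : k →+* Γ(X, ⊤) := Coh.toGlobal (X ↘ Spec (CommRingCat.of k))
    have key : ∀ i, ∃ c : k, s i = tG c • α.app ⊤ ε := fun i => by
      obtain ⟨a, ha⟩ := (hw U le_rfl).2 (res O1 (le_top : U ≤ ⊤) (T i))
      obtain ⟨c, hc⟩ := exists_const k X h0 (X.presheaf.map (homOfLE htop).op (φ.app U a))
      refine ⟨c, ?_⟩
      rw [← hα i, show tG c = _ from hc, ← Scheme.Modules.Hom.app_smul]
      refine congrArg (α.app ⊤) ?_
      rw [← res_smul, ← Amp73.pullS_smul]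
      simp only [Amp73.res_self] at ha
      rw [ha, ← Amp73.res_pullS, res_res]
      exact (Amp73.res_self _ _).symm
    obtain ⟨c₀, h₀⟩ := key 0
    obtain ⟨c₁, h₁⟩ := key 1
    by_cases hz : c₀ = 0 ∧ c₁ = 0
    · have := congrFun (hli (Pi.single 0 1) (by
        rw [Fin.sum_univ_two, Pi.single_eq_same, Pi.single_eq_of_ne (by decide), h₀, hz.1, map_zero, map_zero, zero_smul, zero_smul]
        exact (congrArg₂ (· + ·) (smul_zero _) rfl).trans (add_zero 0))) 0
      simp at this
    · have := hli ![c₁, -c₀] (by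
        rw [Fin.sum_univ_two, h₀, h₁]
        show tG (![c₁, -c₀] 0) • (tG c₀ • α.app ⊤ ε) + tG (![c₁, -c₀] 1) • (tG c₁ • α.app ⊤ ε) = (0 : Γ(L, ⊤))
        rw [smul_smul, smul_smul, ← map_mul, ← map_mul, ← add_smul, ← map_add]
        simp [mul_comm c₁ c₀])
      exact hz ⟨by simpa using congrFun this 1, by simpa using congrFun this 0⟩

end Groth.Agent.S6579
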