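import Groth.Statements.S14340
import Groth.Agent.Crv77.OmegaCanon
import Groth.Agent.Crv77.MaxSeries
import Groth.Agent.Crv77.Hopf
import Groth.Agent.Crv77.DegPullback
import Groth.Agent.Crv77.FunDeg
import Groth.Agent.Curves2.Clifford
import Groth.Agent.Curves2.PullInjective
import Groth.Agent.Amp73.PullTensor
import Groth.Agent.S6579
import Groth.Agent.SpFP87.Reduced

set_option autoImplicit false
universe u
open CategoryTheory CategoryTheory.Limits AlgebraicGeometry
open Curves

namespace Groth.Agent.S14340

/-- Let k be a field and C a smooth proper geometrically connected curve over k (of dimension one) of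
genus g = dim_k H^1(C, O_C) ≥ 2 which is hyperelliptic: there is a morphism f : C → P^1_k over k,
finite and flat of constant rank 2; let L = f^*O(1) be its g^1_2. Then for every r with 0 ≤ r ≤ g −
1 the k-vector space H^0(C, L^{⊗r}) has dimension r + 1. (The published statement asserts that the
pullback of sections H^0(P^1_k, O(r)) → H^0(C, L^{⊗r}) is an isomorphism and takes C projective;
this row states the equivalent dimension count, that map being injective for the dominant f with
source of dimension r + 1, and takes C proper, which for curves over a field is the same.) -/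
theorem result (k : Type u) [Field k] (C : Scheme.{u}) [C.Over (Spec (CommRingCat.of k))] [IsProper (C ↘ Spec (CommRingCat.of k))] [Smooth (C ↘ Spec (CommRingCat.of k))] [GeometricallyConnected (C ↘ Spec (CommRingCat.of k))] (hC : topologicalKrullDim C = 1) (g : ℕ) (hg2 : 2 ≤ g) (hg : Curv2.genus k C = g) (f : C ⟶ CohB1.ProjSpace 1 k) (hf : f ≫ CohB1.ProjSpace.toSpec 1 k = C ↘ Spec (CommRingCat.of k)) [IsFinite f] [Flat f] (hrk : ∀ y : ↥(CohB1.ProjSpace 1 k), Scheme.Hom.finrank f y = 2) (r : ℕ) (hr : r + 1 ≤ g) : Module.finrank k (Coh.HH C (CohB1.tensorPow ((Scheme.Modules.pullback f).obj (Twist.twistProjSpace 1 k 1)) r) 0) = r + 1 := by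
  have := Crv77.geometricallyIrreducible_of_connected k C
  have : IrreducibleSpace C := GeometricallyIrreducible.irreducibleSpace (C ↘ Spec (CommRingCat.of k)) (C ↘ Spec (CommRingCat.of k)).isOpenMap
  have : AlgebraicGeometry.IsReduced C := SpFP87.isReduced_of_smooth (C ↘ Spec (CommRingCat.of k))
  have : IsIntegral C := isIntegral_of_irreducibleSpace_of_isReduced C
  have : IsNoetherian C := Crv77.isNoetherian_of_proper k C
  have := Curves2.ProjLine.isIntegral k 1
  have := Curves2.ProjLine.isLocallyNoetherian k 1
  have : IsProper (CohB1.ProjSpace 1 k ↘ Spec (CommRingCat.of k)) := Curves2.ProjLine.isProper_toSpec k 1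
  let P := CohB1.ProjSpace 1 k
  let O1 := Twist.twistProjSpace 1 k 1
  have hP : topologicalKrullDim P = 1 := (S10829.result k 1).trans Nat.cast_one
  have hO1 : PicF.IsInvertible O1 := Var76.Reg.isInvertible_twist 1
  -- the degree of `L`
  have hsurj : Function.Surjective f :=
    ((Scheme.Hom.one_le_finrank_iff_surjective (f := f)).1 fun y => by rw [hrk]; exact one_le_two).surj
  have hgen : f (genericPoint C) = genericPoint P := by
    refine ((genericPoint_spec P).eq ?_).symm
    show IsGenericPoint (f (genericPoint C)) ⊤
    rw [isGenericPoint_def]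
    refine eq_top_iff.2 fun y _ => ?_
    obtain ⟨x, rfl⟩ := hsurj y
    exact specializes_iff_mem_closure.1 (((genericPoint_spec C).specializes trivial).map f.continuous)
  let L := (Scheme.Modules.pullback f).obj O1
  have hL : PicF.IsInvertible L := Amp73.isInvertible_pullback f hO1
  have hd2 : Curv2.deg k C L 1 = 2 := by
    rw [Crv77.deg_pullback_finite k hP f hf hgen (RegSh99.rankOne_of_isInvertible hO1),
      ← Crv77.finrank_eq_residueDegree f hgen (genericPoint P), hrk, S6579.deg_twist_one]
    rfl
  have hcc := Crv77.curveCoh_of_proper k C hC.le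
  have hfin : ∀ M : C.Modules, PicF.IsInvertible M → Module.Finite k (Coh.HH C M 0) :=
    fun M hM => hcc.finite M (Crv77.isCoh_of_isInvertible hM) 0
  have hL2 : 2 ≤ Module.finrank k (Coh.HH C L 0) := by
    have := hfin L hL
    have h1 := LinearMap.finrank_le_finrank_of_injective (Curves2.h0PullSect_injective k f hf O1
      (Curves2.pullSect_ne_zero_of_dominant f hgen (RegSh99.rankOne_of_isInvertible hO1)))
    have h2 : Module.finrank k (Coh.HH P O1 0) = 2 :=
      (Var76.Reg.finrank_hh_twist (k := k) (n := 1) 1).trans (by norm_num)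
    rwa [h2] at h1
  -- extension of the ground field
  obtain ⟨K, _, _, _, X', _, g', hpb, _, _, _, hd', -⟩ := Crv77.exists_closure_model k C hC
  have : IsNoetherian X' := Crv77.isNoetherian_of_proper K X'
  have hX' := Crv77.curveCoh_of_proper K X' hd'.le
  let L' := (Scheme.Modules.pullback g').obj L
  have hL' : PicF.IsInvertible L' := Amp73.isInvertible_pullback g' hL
  have hO : ∀ i, Module.finrank K (Coh.HH X' (Coh.structureModule X') i) =
      Module.finrank k (Coh.HH C (Coh.structureModule C) i) :=
    fun i => Crv77.finrank_hh_structureModule_baseChange k K g' hpb i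
  have hh : ∀ (n : ℕ) i, Module.finrank K (Coh.HH X' (CohB1.tensorPow L' n) i) =
      Module.finrank k (Coh.HH C (CohB1.tensorPow L n) i) := fun n i =>
    (Crv77.hEquiv K (Amp73.pullPowIso g' hL n).symm i).finrank_eq.trans
      (Crv77.finrank_hh_baseChange k K g' hpb _ (Crv77.isCoh_of_isInvertible (EGA73.isInvertible_tensorPow hL n)) i)
  have hd : Curv2.deg K X' L' 1 = 2 := by
    rw [← hd2]
    have hh' : ∀ i, Module.finrank K (Coh.HH X' L' i) = Module.finrank k (Coh.HH C L i) := fun i =>
      Crv77.finrank_hh_baseChange k K g' hpb _ (Crv77.isCoh_of_isInvertible hL) i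
    simp only [Curv2.deg, Curv2.euler, hh', hO]
  have hgK : Curv2.genus K X' = g := (hO 1).trans hg
  have h0K : Module.finrank K (Coh.HH X' (Coh.structureModule X') 0) = 1 :=
    (hO 0).trans (Crv77.finrank_h0_of_connected k C)
  have hlow : ∀ n : ℕ, n + 1 ≤ Module.finrank K (Coh.HH X' (CohB1.tensorPow L' n) 0) := by
    intro n
    induction n with
    | zero => exact h0K.ge
    | succ n ih =>
      have h1 : Nontrivial (Coh.HH X' (CohB1.tensorPow L' n) 0) :=
        Module.nontrivial_of_finrank_pos (R := K) (by omega)
      have hl : 2 ≤ Module.finrank K (Coh.HH X' L' 0) :=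
        hL2.trans (Crv77.finrank_hh_baseChange k K g' hpb _ (Crv77.isCoh_of_isInvertible hL) 0).ge
      have h2 : Nontrivial (Coh.HH X' L' 0) := Module.nontrivial_of_finrank_pos (R := K) (by omega)
      have h3 := Crv77.CurveCoh.h0_add_le hX' (EGA73.isInvertible_tensorPow hL' n) hL' h1 h2
      show n + 1 + 1 ≤ Module.finrank K (Coh.HH X' (CohB1.tensorMod (CohB1.tensorPow L' n) L') 0)
      omega
  rw [← hh r 0]
  refine le_antisymm ?_ (hlow r)
  have h1 := hlow r
  have hdeg : Curv2.deg K X' (CohB1.tensorPow L' r) 1 = r * 2 := by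
    rw [Crv77.CurveCoh.deg_tensorPow hX' hd'.le hL' r, hd]
  rcases Curves2.h0_cases hX' hd'.le h0K (EGA73.isInvertible_tensorPow hL' r) (by omega) with h2 | h2
  · omega
  · rw [hdeg, hgK] at h2
    omega

end Groth.Agent.S14340
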