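import Groth.Statements.S14341
import Groth.Agent.Curves2.RatPoint
import Groth.Agent.SchBasics.Local

set_option autoImplicit false
universe u
open CategoryTheory CategoryTheory.Limits AlgebraicGeometry
open Curves

namespace Groth.Agent.S14341
attribute [local instance] Curv2.resAlgebra


/-- Let k be a field and X a smooth proper geometrically connected curve over k (of dimension one) of
genus dim_k H^1(X, O_X) = 1, with a k-rational point O (a closed point with residue field k); for a
k-rational point P write I_P for the ideal sheaf of the reduced point P, an invertible ideal with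
inverse O_X(P). Then for every invertible O_X-module L of degree 0 there is exactly one k-rational
point P with L ⊗ I_P ≅ I_O, that is L ≅ O_X(P − O): the map P ↦ O_X(P − O) is a bijection from X(k)
onto the isomorphism classes of invertible modules of degree zero. -/
theorem result (k : Type u) [Field k] (X : Scheme.{u}) [X.Over (Spec (CommRingCat.of k))] [IsProper (X ↘ Spec (CommRingCat.of k))] [Smooth (X ↘ Spec (CommRingCat.of k))] [GeometricallyConnected (X ↘ Spec (CommRingCat.of k))] (hX : topologicalKrullDim X = 1) (hg : Curv2.genus k X = 1) (O : X) (hOc : IsClosed ({O} : Set X)) (hO : Function.Bijective (Curv2.resMap k X O)) (L : X.Modules) (hL : PicF.IsInvertible L) (hdeg : Curv2.deg k X L 1 = 0) : ∃! P : {x : X // IsClosed ({x} : Set X) ∧ Function.Bijective (Curv2.resMap k X x)}, Nonempty (CohB1.tensorMod L (ClSub.idealMod (Scheme.IdealSheafData.vanishingIdeal ⟨{P.1}, P.2.1⟩)) ≅ ClSub.idealMod (Scheme.IdealSheafData.vanishingIdeal ⟨{O}, hOc⟩)) := by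
  have : IsLocallyNoetherian X := LocallyOfFiniteType.isLocallyNoetherian (X ↘ Spec (CommRingCat.of k))
  have : ConnectedSpace X := GeometricallyConnected.connectedSpace_of_subsingleton (f := X ↘ Spec (CommRingCat.of k))
  have hnor := fun x : X => Groth.Agent.Curves2.isIntegrallyClosed_stalk_of_smooth
    (X ↘ Spec (CommRingCat.of k)) x
  have : IsIntegral X := Groth.Agent.SchBasics.isIntegral_iff_connectedSpace_and_isDomain.mpr
    ⟨inferInstance, fun x => (hnor x).1⟩
  have : IsNoetherian X := Crv77.isNoetherian_of_proper k X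
  have hC := Crv77.curveCoh_of_proper k X hX.le
  have h1O := Groth.Agent.Curves2.finrank_h0_structureModule_of_ratPoint (k := k) hO
  have hpt : ∀ {P : X} (hP : IsClosed ({P} : Set X)),
      PicF.IsInvertible (ClSub.idealMod (Crv77.ptIdeal hP)) := fun hP =>
    Groth.Agent.Curves2.isInvertible_ptIdeal_of_smooth (k := k) hX hP
  obtain ⟨M, hM, eM⟩ := Groth.Agent.Curves2.exists_ptInverse (k := k) hX hOc
  set L' := CohB1.tensorMod L M with hL'
  have hL'inv : PicF.IsInvertible L' := EGA73.isInvertible_tensorMod hL hM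
  have hdL' : Curv2.deg k X L' 1 = 1 := by
    obtain ⟨e⟩ := Groth.Agent.Curves2.nonempty_untwist (L := L) eM
    have h1 := Groth.Agent.Curves2.deg_ptIdeal_tensor' (k := k) hX.le hOc hL'inv
    rw [Groth.Agent.Curves2.deg_congr k e, hdeg,
      Groth.Agent.Curves2.finrank_residueField_of_bijective hO] at h1
    push_cast at h1
    omega
  have hnL' : Module.finrank k (Coh.HH X L' 0) = 1 := by
    have h1 : Subsingleton (Coh.HH X L' 1) :=
      hC.h1_eq_zero_of_deg_gt hX h1O hL'inv (by rw [hdL', hg]; norm_num)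
    have h2 := hC.riemann h1O (Crv77.isCoh_of_isInvertible hL'inv)
    simp only [Crv77.h, hdL', hg, Module.finrank_zero_of_subsingleton] at h2
    omega
  obtain ⟨eM⟩ := eM
  -- `L ⊗ I_P ≅ I_O` iff `I_P ⊗ (L ⊗ M) ≅ O`
  have fwd : ∀ {P : X} (hP : IsClosed ({P} : Set X)),
      (CohB1.tensorMod L (ClSub.idealMod (Crv77.ptIdeal hP)) ≅ ClSub.idealMod (Crv77.ptIdeal hOc)) →
      (CohB1.tensorMod (ClSub.idealMod (Crv77.ptIdeal hP)) L' ≅ Coh.structureModule X) := fun hP e =>
    (EGA73.tensAssoc' _ L M).symm ≪≫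
      EGA73.tensIso (EGA73.tensComm _ L ≪≫ e) (Iso.refl M) ≪≫ eM
  have bwd : ∀ {P : X} (hP : IsClosed ({P} : Set X)),
      (CohB1.tensorMod (ClSub.idealMod (Crv77.ptIdeal hP)) L' ≅ Coh.structureModule X) →
      Nonempty (CohB1.tensorMod L (ClSub.idealMod (Crv77.ptIdeal hP)) ≅
        ClSub.idealMod (Crv77.ptIdeal hOc)) := fun hP e => by
    obtain ⟨e2⟩ := Groth.Agent.Curves2.nonempty_untwist
      (L := CohB1.tensorMod L (ClSub.idealMod (Crv77.ptIdeal hP))) ⟨eM⟩
    refine ⟨e2.symm ≪≫ EGA73.tensIso (Iso.refl _) ?_ ≪≫ EGA73.tensUnitRight _⟩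
    exact EGA73.tensIso (EGA73.tensComm L _) (Iso.refl M) ≪≫ EGA73.tensAssoc' _ L M ≪≫ e
  obtain ⟨P, hP, hnP⟩ := Groth.Agent.Curves2.exists_closed_h0_eq (k := k) hX.le hL'inv hnL'
    (by rw [hdL']; norm_num)
  have hI := EGA73.isInvertible_tensorMod (hpt hP) hL'inv
  have : Nontrivial (Coh.HH X (CohB1.tensorMod (ClSub.idealMod (Crv77.ptIdeal hP)) L') 0) :=
    Module.nontrivial_of_finrank_eq_succ hnP
  have hd := Groth.Agent.Curves2.deg_ptIdeal_tensor' (k := k) hX.le hP hL'inv
  have hfP : Module.finrank k (X.residueField P) = 1 := by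
    have h1 := Groth.Agent.Curves2.deg_nonneg_of_nontrivial (k := k) hX.le hI this
    have h2 := Groth.Agent.Curves2.one_le_finrank_residueField (k := k) hP
    rw [hd, hdL'] at h1
    omega
  have eP := Groth.Agent.Curves2.nonempty_iso_structureModule_of_deg_zero k hX.le hI this
    (by rw [hd, hdL', hfP]; norm_num)
  obtain ⟨eP'⟩ := eP
  refine ⟨⟨P, hP, Groth.Agent.Curves2.resMap_bijective_of_finrank_eq_one hfP⟩, bwd hP eP', ?_⟩
  rintro ⟨Q, hQ, hQb⟩ ⟨eQ⟩
  exact Subtype.ext (Groth.Agent.Curves2.eq_of_twist_trivial (k := k) hX.le hL'inv hnL' hQ hP (hpt hQ)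
    h1O ⟨fwd hQ eQ⟩ ⟨eP'⟩)

end Groth.Agent.S14341
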