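import Groth.Statements.S14347
import Groth.Agent.Fit14.Props
import Mathlib.LinearAlgebra.Dual.Defs
import Mathlib.LinearAlgebra.InvariantBasisNumber

set_option autoImplicit false
universe u
open QuotLF

namespace Groth.Agent.S14347

/-- Let R be a commutative ring and σ : R^m → R^n an injective linear map with cokernel M, so that M has
a length-one resolution by finite free modules and rank δ = n − m; let K be the cokernel of the dual
map (R^n)^∨ → (R^m)^∨, which is the module Ext¹_R(M, R). Then the Fitting ideals satisfy Fit_{δ +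
j}(M) = Fit_j(K) for all j ≥ 0, and Fit_i(M) = 0 for i < δ (the degeneracy loci of M and of K agree
after the shift by δ). -/
theorem result (R : Type u) [CommRing R] (m n : ℕ)
    (σ : (Fin m → R) →ₗ[R] (Fin n → R)) (hσ : Function.Injective σ) :
    (∀ j : ℕ, Fitt.ideal R ((Fin n → R) ⧸ LinearMap.range σ) (n - m + j) =
        Fitt.ideal R (Module.Dual R (Fin m → R) ⧸ LinearMap.range σ.dualMap) j) ∧
      ∀ i : ℕ, i < n - m → Fitt.ideal R ((Fin n → R) ⧸ LinearMap.range σ) i = ⊥ := by
  classical
  rcases subsingleton_or_nontrivial R with hR | hR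
  · have : Subsingleton (Ideal R) := ⟨fun I J => Ideal.ext fun x => by simp [Subsingleton.elim x 0]⟩
    exact ⟨fun j => Subsingleton.elim _ _, fun i _ => Subsingleton.elim _ _⟩
  have hmn : m ≤ n := le_of_fin_injective R σ hσ
  let S : Fin n → Fin m → R := fun i j => σ (Pi.single j 1) i
  have hσS : ∀ (a : Fin m → R) i, σ a i = ∑ j, a j * S i j := fun a i => by
    conv_lhs => rw [← Finset.univ_sum_single a]
    simp only [map_sum, Finset.sum_apply]
    refine Finset.sum_congr rfl fun j _ => ?_
    rw [show (Pi.single j (a j) : Fin m → R) = a j • Pi.single j 1 by rw [← Pi.single_smul]; simp, map_smul]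
    rfl
  -- generators and relations of the cokernel
  let x : Fin n → (Fin n → R) ⧸ LinearMap.range σ := fun i => Submodule.Quotient.mk (Pi.single i 1)
  have hxl : Fintype.linearCombination R x = (LinearMap.range σ).mkQ := by
    refine LinearMap.pi_ext' fun i => LinearMap.ext_ring ?_
    simp [x]
  have hx : Submodule.span R (Set.range x) = ⊤ := by
    rw [← Fintype.range_linearCombination, hxl, Submodule.range_mkQ]
  have hSx : Submodule.span R (Set.range fun j => fun i => S i j) = Fit14.rels x := by
    rw [Fit14.rels, hxl, Submodule.ker_mkQ, ← Fintype.range_linearCombination]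
    congr 1
    refine LinearMap.ext fun a => funext fun i => ?_
    simp [hσS, Fintype.linearCombination_apply]
  -- generators and relations of the dual cokernel
  let y : Fin m → Module.Dual R (Fin m → R) ⧸ LinearMap.range σ.dualMap := fun j =>
    Submodule.Quotient.mk (LinearMap.proj j)
  have hdual : ∀ φ : Module.Dual R (Fin m → R), φ = ∑ j, φ (Pi.single j 1) • LinearMap.proj j := fun φ =>
    LinearMap.pi_ext' fun l => LinearMap.ext_ring (by
      simp [Pi.single_apply])
  have hy : Submodule.span R (Set.range y) = ⊤ := by
    rw [eq_top_iff]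
    intro z _
    obtain ⟨φ, rfl⟩ := Submodule.Quotient.mk_surjective _ z
    rw [Submodule.mem_span_range_iff_exists_fun]
    refine ⟨fun j => φ (Pi.single j 1), ?_⟩
    conv_rhs => rw [hdual φ]
    simp [y, ← Submodule.mkQ_apply]
  have hSy : Submodule.span R (Set.range fun i => fun j => S i j) = Fit14.rels y := by
    ext a
    have hlc : ∑ j, a j • y j = Submodule.Quotient.mk (∑ j, a j • (LinearMap.proj j : Module.Dual R (Fin m → R))) := by
      simp [y, ← Submodule.mkQ_apply]
    rw [Fit14.mem_rels, hlc, Submodule.Quotient.mk_eq_zero, LinearMap.mem_range, Submodule.mem_span_range_iff_exists_fun]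
    constructor
    · rintro ⟨c, rfl⟩
      refine ⟨∑ i, c i • LinearMap.proj i, LinearMap.pi_ext' fun l => LinearMap.ext_ring ?_⟩
      simp [Pi.single_apply, S]
    · rintro ⟨ψ, hψ⟩
      refine ⟨fun i => ψ (Pi.single i 1), funext fun l => ?_⟩
      have h := LinearMap.congr_fun hψ (Pi.single l 1)
      simp only [LinearMap.dualMap_apply] at h
      rw [LinearMap.pi_apply_eq_sum_univ ψ] at h
      simp [Pi.single_apply] at h
      rw [← h]
      simp only [Finset.sum_apply, Pi.smul_apply, smul_eq_mul, S]
      refine Finset.sum_congr rfl fun i _ => ?_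
      rw [mul_comm]
      congr 2
      funext t
      simp [Pi.single_apply, eq_comm]
  have hM : ∀ k, Fitt.ideal R ((Fin n → R) ⧸ LinearMap.range σ) k =
      Fit14.minors (Set.range fun j => fun i => S i j) (n - k) := Fit14.ideal_eq_minors_of_span x hx hSx
  have hK : ∀ k, Fitt.ideal R (Module.Dual R (Fin m → R) ⧸ LinearMap.range σ.dualMap) k =
      Fit14.minors (Set.range fun i => fun j => S i j) (m - k) := Fit14.ideal_eq_minors_of_span y hy hSy
  refine ⟨fun j => ?_, fun i hi => ?_⟩
  · rw [hM, hK, show n - (n - m + j) = m - j by omega]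
    refine le_antisymm (Ideal.span_le.2 ?_) (Ideal.span_le.2 ?_)
    all_goals
      rintro d ⟨z, e, hz, rfl⟩
      choose c hc using hz
      refine Ideal.subset_span ⟨_, c, fun b => ⟨e b, rfl⟩, ?_⟩
      rw [← Matrix.det_transpose]
      congr 1
      ext a b
      simp [← hc]
  · rw [hM, eq_bot_iff]
    refine Ideal.span_le.2 ?_
    rintro d ⟨z, e, hz, rfl⟩
    choose c hc using hz
    obtain ⟨a, b, hab, hne⟩ : ∃ a b, c a = c b ∧ a ≠ b := by
      by_contra h
      push Not at h
      have := Fintype.card_le_of_injective c (fun a b hab => h a b hab)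
      simp at this
      omega
    rw [SetLike.mem_coe, Ideal.mem_bot]
    refine Matrix.det_zero_of_column_eq hne fun r => ?_
    simp [← hc, hab]

end Groth.Agent.S14347
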