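import Groth.Statements.S14351
import Mathlib.RingTheory.Flat.FaithfullyFlat.Algebra
import Mathlib.LinearAlgebra.TensorProduct.Tower
import Mathlib.RingTheory.Flat.Tensor

set_option autoImplicit false
universe u
open CAlg

namespace Groth.Agent.S14351

open TensorProduct

/-- For ring maps A → B → C with C faithfully flat over B and C faithfully flat over A, the ring B is
faithfully flat over A. -/
theorem result (A B C : Type u) [CommRing A] [CommRing B]
    [CommRing C] [Algebra A B] [Algebra B C] [Algebra A C] [IsScalarTower A B C]
    [Module.FaithfullyFlat B C] [Module.FaithfullyFlat A C] : Module.FaithfullyFlat A B := by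
  have hflat : Module.Flat A B := by
    rw [Module.Flat.iff_lTensor_injective]
    intro J _
    have key : Function.Injective (TensorProduct.AlgebraTensorModule.lTensor B B J.subtype) := by
      rw [← Module.FaithfullyFlat.lTensor_injective_iff_injective B C]
      have hC : Function.Injective (J.subtype.lTensor C) :=
        Module.Flat.lTensor_preserves_injective_linearMap _ J.injective_subtype
      let e (P : Type u) [AddCommGroup P] [Module A P] : C ⊗[B] (B ⊗[A] P) ≃ₗ[C] C ⊗[A] P :=
        TensorProduct.AlgebraTensorModule.cancelBaseChange A B C C P
      have hcomp : ∀ x, e A ((TensorProduct.AlgebraTensorModule.lTensor B B J.subtype).lTensor C x) =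
          J.subtype.lTensor C (e J x) := by
        intro x
        induction x using TensorProduct.induction_on with
        | zero => simp
        | add a b ha hb => simp only [map_add, ha, hb]
        | tmul c y =>
          induction y using TensorProduct.induction_on with
          | zero => simp
          | add a b ha hb => simp only [TensorProduct.tmul_add, map_add, ha, hb]
          | tmul b j => simp [e]
      intro x y hxy
      apply (e J).injective
      apply hC
      rw [← hcomp, ← hcomp, hxy]
    exact key
  refine ⟨fun {m} hm htop => ?_⟩
  rw [Ideal.smul_top_eq_map, Submodule.restrictScalars_eq_top_iff] at htop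
  apply Module.FaithfullyFlat.submodule_ne_top (R := A) (M := C) hm
  rw [Ideal.smul_top_eq_map, Submodule.restrictScalars_eq_top_iff, IsScalarTower.algebraMap_eq A B C,
    ← Ideal.map_map, htop, Ideal.map_top]

end Groth.Agent.S14351
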