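import Groth.Statements.S14352
import Groth.Agent.AlgGrp79.Unram

set_option autoImplicit false
universe u
open Mor

namespace Groth.Agent.S14352

open CategoryTheory CategoryTheory.Limits AlgebraicGeometry

lemma affine_fwd (K : Type u) [Field K] (A : CommRingCat.{u}) (φ : CommRingCat.of K ⟶ A)
    (hft : φ.hom.FiniteType) (hu : φ.hom.FormallyUnramified) :
    IsReduced (Spec A) ∧ DiscreteTopology ↥(Spec A) := by
  algebraize [φ.hom]
  haveI : Module.Finite K A := Algebra.FormallyUnramified.finite_of_free (R := K) (S := A)
  haveI : _root_.IsReduced A := Algebra.FormallyUnramified.isReduced_of_field K A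
  haveI : IsArtinianRing A := IsArtinianRing.of_finite K A
  exact ⟨inferInstance, inferInstanceAs (DiscreteTopology (PrimeSpectrum A))⟩

lemma affine_point (K : Type u) [Field K] [IsAlgClosed K]
    (A : CommRingCat.{u}) (φ : CommRingCat.of K ⟶ A) (hft : φ.hom.FiniteType) [IsReduced (Spec A)]
    (hpt : Subsingleton ↥(Spec A)) : φ.hom.FormallyUnramified := by
  haveI : _root_.IsReduced A := (affine_isReduced_iff A).1 inferInstance
  algebraize [φ.hom]
  rcases subsingleton_or_nontrivial A with hA | hA
  · exact RingHom.FormallyUnramified.of_surjective fun a => ⟨0, Subsingleton.elim _ _⟩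
  haveI : Subsingleton (PrimeSpectrum A) := hpt
  obtain ⟨m, hm⟩ := Ideal.exists_maximal A
  have hm0 : m = ⊥ := by
    have : m = nilradical A := by
      rw [nilradical_eq_sInf]
      refine le_antisymm (le_sInf fun J hJ => ?_) (sInf_le hm.isPrime)
      exact (congrArg PrimeSpectrum.asIdeal (Subsingleton.elim (⟨m, hm.isPrime⟩ : PrimeSpectrum A) ⟨J, hJ⟩)).le
    rw [this, nilradical_eq_zero, Ideal.zero_eq_bot]
  have hfield : IsField A := by
    rw [Ring.isField_iff_isSimpleOrder_ideal]; exact ⟨fun I => by
      by_cases hI : I = ⊤
      · exact Or.inr hI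
      · obtain ⟨m', hm', hle⟩ := Ideal.exists_le_maximal I hI
        have : m' = m := congrArg PrimeSpectrum.asIdeal
          (Subsingleton.elim (⟨m', hm'.isPrime⟩ : PrimeSpectrum A) ⟨m, hm.isPrime⟩)
        exact Or.inl (le_bot_iff.1 (hle.trans (this.le.trans hm0.le)))⟩
  letI : Field A := hfield.toField
  haveI : Module.Finite K A := finite_of_finite_type_of_isJacobsonRing K A
  exact RingHom.FormallyUnramified.of_surjective
    (IsAlgClosed.algebraMap_bijective_of_isIntegral (k := K) (K := A)).2


open CategoryTheory CategoryTheory.Limits AlgebraicGeometry in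
/-- A morphism of schemes f : X → S which is locally of finite presentation is unramified (formally
unramified) if and only if all its geometric fibres are reduced with discrete underlying space: for
every algebraically closed field K and every S-point Spec K → S, the fibre product X ×_S Spec K is a
reduced scheme whose topological space is discrete. -/
theorem result {X S : Scheme.{u}} (f : X ⟶ S)
    [LocallyOfFinitePresentation f] :
    FormallyUnramified f ↔
      ∀ (K : Type u) [Field K] [IsAlgClosed K] (s : Spec (CommRingCat.of K) ⟶ S),
        IsReduced (pullback f s) ∧ DiscreteTopology ↥(pullback f s) := by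
  haveI : IsZariskiLocalAtSource @FormallyUnramified.{u} := HasRingHomProperty.instIsZariskiLocalAtSource (P := @FormallyUnramified.{u}) (Q := RingHom.FormallyUnramified)
  haveI : MorphismProperty.RespectsIso @FormallyUnramified.{u} :=
    MorphismProperty.IsStableUnderBaseChange.respectsIso
  have hSBC : MorphismProperty.IsStableUnderBaseChange @FormallyUnramified.{u} := inferInstance
  constructor
  · intro hf K _ _ s
    let g := pullback.snd f s
    have hch : ∀ i, IsReduced ((pullback f s).affineCover.X i) ∧
        DiscreteTopology ↥((pullback f s).affineCover.X i) := by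
      intro i
      obtain ⟨A, ⟨e⟩⟩ : ∃ A : CommRingCat.{u}, Nonempty (Spec A ≅ (pullback f s).affineCover.X i) :=
        ⟨_, ⟨Iso.refl _⟩⟩
      obtain ⟨φ, hφ⟩ := Spec.map_surjective (e.hom ≫ (pullback f s).affineCover.f i ≫ g)
      have h1 : LocallyOfFiniteType (Spec.map φ) := by rw [hφ]; infer_instance
      have h2 : FormallyUnramified (Spec.map φ) := by
        rw [hφ]
        exact MorphismProperty.comp_mem @FormallyUnramified.{u} _ _ inferInstance
          (MorphismProperty.comp_mem @FormallyUnramified.{u} _ _ inferInstance (MorphismProperty.of_isPullback (P := @FormallyUnramified.{u}) (IsPullback.of_hasPullback f s) hf))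
      rw [HasRingHomProperty.Spec_iff (P := @LocallyOfFiniteType)] at h1
      rw [HasRingHomProperty.Spec_iff (P := @FormallyUnramified)] at h2
      obtain ⟨h3, h4⟩ := affine_fwd K A φ h1 h2
      exact ⟨isReduced_of_isOpenImmersion e.inv, (Scheme.homeoOfIso e).symm.isEmbedding.discreteTopology⟩
    refine ⟨?_, discreteTopology_iff_isOpen_singleton.2 fun x => ?_⟩
    · haveI := fun i => (hch i).1
      exact IsReduced.of_openCover (pullback f s) (pullback f s).affineCover
    · obtain ⟨y, hy⟩ := (pullback f s).affineCover.covers x
      haveI := (hch ((pullback f s).affineCover.idx x)).2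
      rw [← hy, ← Set.image_singleton]
      exact ((pullback f s).affineCover.f _).isOpenEmbedding.isOpenMap _ (isOpen_discrete _)
  · intro h
    refine AlgGrp79.formallyUnramified_of_fiberToSpecResidueField f fun y => ?_
    let K := AlgebraicClosure (S.residueField y)
    let q : Spec (CommRingCat.of K) ⟶ Spec (S.residueField y) :=
      Spec.map (CommRingCat.ofHom (algebraMap (S.residueField y) K))
    have hq : (@Surjective ⊓ @Flat ⊓ @QuasiCompact : MorphismProperty Scheme.{u}) q := by
      refine ⟨⟨⟨fun p => ⟨default, Subsingleton.elim _ _⟩⟩, ?_⟩, inferInstance⟩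
      show Flat q
      exact (HasRingHomProperty.Spec_iff (P := @Flat)).2 (RingHom.flat_algebraMap_iff.2 inferInstance)
    refine MorphismProperty.of_pullback_fst_of_descendsAlong (P := @FormallyUnramified) hq ?_
    let s : Spec (CommRingCat.of K) ⟶ S := q ≫ S.fromSpecResidueField y
    let e : pullback q (f.fiberToSpecResidueField y) ≅ pullback f s :=
      pullbackSymmetry _ _ ≪≫ pullbackLeftPullbackSndIso f (S.fromSpecResidueField y) q
    have he : pullback.fst q (f.fiberToSpecResidueField y) = e.hom ≫ pullback.snd f s := by
      dsimp only [e, s, Scheme.Hom.fiberToSpecResidueField, Iso.trans_hom]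
      erw [Category.assoc, pullbackLeftPullbackSndIso_hom_snd, pullbackSymmetry_hom_comp_snd]
    rw [he]
    refine MorphismProperty.comp_mem @FormallyUnramified.{u} _ _ inferInstance ?_
    obtain ⟨hr, hd⟩ := h K s
    let V : ↥(pullback f s) → (pullback f s).Opens := fun x => ⟨{x}, isOpen_discrete _⟩
    refine IsZariskiLocalAtSource.of_iSup_eq_top V
      (eq_top_iff.2 fun x _ => TopologicalSpace.Opens.mem_iSup.2 ⟨x, rfl⟩) fun x => ?_
    let U := V x
    have hU : IsAffineOpen U := .of_subsingleton Set.subsingleton_singleton
    have hkey : FormallyUnramified (hU.fromSpec ≫ pullback.snd f s) := by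
      obtain ⟨φ, hφ⟩ := Spec.map_surjective (hU.fromSpec ≫ pullback.snd f s)
      have h1 : LocallyOfFiniteType (Spec.map φ) := by rw [hφ]; infer_instance
      rw [← hφ, HasRingHomProperty.Spec_iff (P := @FormallyUnramified)]
      rw [HasRingHomProperty.Spec_iff (P := @LocallyOfFiniteType)] at h1
      haveI : IsReduced (Spec Γ(pullback f s, U)) := isReduced_of_isOpenImmersion hU.fromSpec
      exact affine_point K _ φ h1
        ⟨fun a b => hU.fromSpec.isOpenEmbedding.injective (by
          have ha : hU.fromSpec a ∈ Set.range hU.fromSpec := ⟨a, rfl⟩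
          have hb : hU.fromSpec b ∈ Set.range hU.fromSpec := ⟨b, rfl⟩
          rw [hU.range_fromSpec] at ha hb
          exact (show hU.fromSpec a = x from ha).trans (show hU.fromSpec b = x from hb).symm)⟩
    show FormallyUnramified (U.ι ≫ pullback.snd f s)
    rw [← hU.isoSpec_hom_fromSpec, Category.assoc]
    exact MorphismProperty.comp_mem @FormallyUnramified.{u} _ _ inferInstance hkey

end Groth.Agent.S14352
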