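import Groth.Statements.S14353
import Mathlib.RingTheory.Artinian.Module
import Mathlib.RingTheory.FiniteLength
import Mathlib.LinearAlgebra.TensorProduct.RightExactness
import Mathlib.LinearAlgebra.TensorProduct.Pi
import Mathlib.Algebra.Category.ModuleCat.Limits
import Mathlib.Algebra.Category.ModuleCat.Monoidal.Basic
import Mathlib.CategoryTheory.ConcreteCategory.EpiMono

set_option autoImplicit false
universe u
open CategoryTheory CategoryTheory.Limits CategoryTheory.MonoidalCategory
open CAlg

open Opposite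
namespace Groth.Agent.S14353

open TensorProduct
variable {R : Type u} [CommRing R]

theorem surj_sub {A : ℕ → Type u} [∀ n, AddCommGroup (A n)] [∀ n, Module R (A n)] [∀ n, IsArtinian R (A n)]
    (P : ∀ {i j}, i ≤ j → A j →ₗ[R] A i) (hid : ∀ (i : ℕ) (x : A i), P (le_refl i) x = x)
    (hcomp : ∀ {i j k} (h : i ≤ j) (h' : j ≤ k) (x : A k), P h (P h' x) = P (h.trans h') x) (d : ∀ n, A n) :
    ∃ k : ∀ n, A n, ∀ n, k n - P (Nat.le_succ n) (k (n + 1)) = d n := by
  classical
  let Im : ∀ n, ℕ →o (Submodule R (A n))ᵒᵈ := fun n =>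
    ⟨fun l => OrderDual.toDual (LinearMap.range (P (Nat.le_add_right n l))), fun l l' hl => by
      rintro _ ⟨x, rfl⟩
      exact ⟨P (Nat.add_le_add_left hl n) x, hcomp _ _ x⟩⟩
  choose L hL using fun n => IsArtinian.monotone_stabilizes (Im n)
  let I : ∀ n, Submodule R (A n) := fun n => LinearMap.range (P (Nat.le_add_right n (L n)))
  have hI : ∀ {n j} (h : n ≤ j), n + L n ≤ j → LinearMap.range (P h) = I n := fun {n j} h hj => by
    obtain ⟨l, rfl⟩ := Nat.exists_eq_add_of_le h
    exact (OrderDual.toDual.injective (hL n l (by omega))).symm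
  -- surjectivity of transition maps between eventual images
  have hsurj : ∀ n, ∀ x ∈ I n, ∃ y ∈ I (n + 1), P (Nat.le_succ n) y = x := fun n x hx => by
    let j := n + 1 + L (n + 1) + L n
    rw [← hI (show n ≤ j by omega) (by omega)] at hx
    obtain ⟨z, rfl⟩ := hx
    refine ⟨P (show n + 1 ≤ j by omega) z, ?_, hcomp _ _ z⟩
    rw [← hI (show n + 1 ≤ j by omega) (by omega)]
    exact LinearMap.mem_range_self _ z
  -- an increasing bound
  let u : ℕ → ℕ := fun n => ∑ i ∈ Finset.range (n + 1), (L i + i + 1)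
  have hu1 : ∀ n, n + L n ≤ u n ∧ n < u n := fun n => by
    have : L n + n + 1 ≤ u n := Finset.single_le_sum (f := fun i => L i + i + 1) (fun i _ => Nat.zero_le _) (by simp)
    omega
  have hu2 : ∀ n, u n ≤ u (n + 1) := fun n => by simp only [u]; rw [Finset.sum_range_succ _ (n + 1)]; omega
  let Q : ∀ i j, A j →ₗ[R] A i := fun i j => if h : i ≤ j then P h else 0
  have hQ : ∀ {i j} (h : i ≤ j), Q i j = P h := fun h => dif_pos h
  let s : ∀ n, A n := fun n => ∑ j ∈ Finset.Ico n (u n), Q n j (d j)
  have hd' : ∀ n, d n - (s n - P (Nat.le_succ n) (s (n + 1))) ∈ I n := fun n => by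
    have e1 : P (Nat.le_succ n) (s (n + 1)) = ∑ j ∈ Finset.Ico (n + 1) (u (n + 1)), Q n j (d j) := by
      rw [map_sum]
      refine Finset.sum_congr rfl fun j hj => ?_
      have hj' := (Finset.mem_Ico.mp hj).1
      rw [hQ hj', hQ (show n ≤ j by omega), hcomp]
    have e2 : s n = d n + ∑ j ∈ Finset.Ico (n + 1) (u n), Q n j (d j) := by
      simp only [s]
      rw [Finset.sum_eq_sum_Ico_succ_bot (hu1 n).2, hQ (le_refl n), hid]
    rw [e1, e2, ← Finset.sum_Ico_consecutive _ (hu1 n).2 (hu2 n)]
    rw [show d n - (d n + ∑ j ∈ Finset.Ico (n + 1) (u n), Q n j (d j) - (∑ j ∈ Finset.Ico (n + 1) (u n), Q n j (d j) +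
      ∑ j ∈ Finset.Ico (u n) (u (n + 1)), Q n j (d j))) = ∑ j ∈ Finset.Ico (u n) (u (n + 1)), Q n j (d j) by abel]
    refine Submodule.sum_mem _ fun j hj => ?_
    have hj' := (Finset.mem_Ico.mp hj).1
    have := hu1 n
    rw [hQ (show n ≤ j by omega), ← hI (show n ≤ j by omega) (by omega)]
    exact LinearMap.mem_range_self _ _
  choose g hg using fun n => fun x : I n => hsurj n x x.2
  let k' : ∀ n, I n := fun n => Nat.rec (motive := fun n => I n) 0
    (fun n x => ⟨g n (x - ⟨_, hd' n⟩), (hg n _).1⟩) n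
  refine ⟨fun n => (k' n).1 + s n, fun n => ?_⟩
  have hk : P (Nat.le_succ n) (k' (n + 1)).1 = (k' n).1 - (d n - (s n - P (Nat.le_succ n) (s (n + 1)))) :=
    (hg n (k' n - ⟨_, hd' n⟩)).2
  dsimp only
  rw [map_add, hk]
  exact sub_eq_iff_eq_add.mpr (by abel)

theorem lift {A B : ℕ → Type u} [∀ n, AddCommGroup (A n)] [∀ n, Module R (A n)] [∀ n, IsArtinian R (A n)]
    [∀ n, AddCommGroup (B n)] [∀ n, Module R (B n)]
    (P : ∀ {i j}, i ≤ j → A j →ₗ[R] A i) (hid : ∀ (i : ℕ) (x : A i), P (le_refl i) x = x)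
    (hcomp : ∀ {i j k} (h : i ≤ j) (h' : j ≤ k) (x : A k), P h (P h' x) = P (h.trans h') x)
    (P' : ∀ {i j}, i ≤ j → B j →ₗ[R] B i) (f : ∀ n, A n →ₗ[R] B n)
    (hnat : ∀ {i j} (h : i ≤ j) (x : A j), f i (P h x) = P' h (f j x))
    (b : ∀ n, B n) (hb : ∀ n, P' (Nat.le_succ n) (b (n + 1)) = b n) (hmem : ∀ n, b n ∈ LinearMap.range (f n)) :
    ∃ a : ∀ n, A n, (∀ n, f n (a n) = b n) ∧ ∀ {i j} (h : i ≤ j), P h (a j) = a i := by
  choose x hx using hmem
  let K : ∀ n, Submodule R (A n) := fun n => LinearMap.ker (f n)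
  let PK : ∀ {i j}, i ≤ j → K j →ₗ[R] K i := fun {i j} h => ((P h).comp (K j).subtype).codRestrict (K i) fun y => by
    show f i (P h (y : A j)) = 0
    rw [hnat, show f j (y : A j) = 0 from y.2, map_zero]
  have hd : ∀ n, P (Nat.le_succ n) (x (n + 1)) - x n ∈ K n := fun n => by
    show f n _ = 0
    rw [map_sub, hnat, hx, hb, hx, sub_self]
  obtain ⟨k, hk⟩ := surj_sub (A := fun n => K n) PK (fun i y => Subtype.ext (hid i _))
    (fun h h' y => Subtype.ext (hcomp h h' _)) (fun n => ⟨_, hd n⟩)
  refine ⟨fun n => x n + k n, fun n => by rw [map_add, hx, show f n (k n : A n) = 0 from (k n).2, add_zero],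
    fun {i j} h => ?_⟩
  induction h with
  | refl => rw [hid]
  | step h ih =>
    rename_i m
    have e : (k m : A m) - P (Nat.le_succ m) (k (m + 1) : A (m + 1)) = P (Nat.le_succ m) (x (m + 1)) - x m :=
      congrArg Subtype.val (hk m)
    rw [← hcomp h (Nat.le_succ m)]
    refine (congrArg (P h) ?_).trans ih
    show P (Nat.le_succ m) (x (m + 1) + (k (m + 1) : A (m + 1))) = x m + (k m : A m)
    rw [map_add, sub_eq_iff_eq_add.mp e]
    abel

variable {b : ℕ} {N : Type u} [AddCommGroup N] [Module R N]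

/-- v ↦ ∑ v i ⊗ q (e i) -/
noncomputable def phi (q : (Fin b → R) →ₗ[R] N) (M : Type u) [AddCommGroup M] [Module R M] :
    (Fin b → M) →ₗ[R] M ⊗[R] N :=
  (LinearMap.lTensor M q).comp (piScalarRight R R M (Fin b)).symm.toLinearMap

theorem pi_nat {M M' : Type u} [AddCommGroup M] [Module R M] [AddCommGroup M'] [Module R M'] (h : M →ₗ[R] M')
    (z : M ⊗[R] (Fin b → R)) :
    piScalarRight R R M' (Fin b) (LinearMap.rTensor _ h z) = fun i => h (piScalarRight R R M (Fin b) z i) := by
  induction z using TensorProduct.induction_on with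
  | zero => funext i; simp
  | tmul m v => funext i; simp
  | add y z hy hz => simp only [map_add, hy, hz]; funext i; simp

theorem phi_nat (q : (Fin b → R) →ₗ[R] N) {M M' : Type u} [AddCommGroup M] [Module R M] [AddCommGroup M'] [Module R M']
    (h : M →ₗ[R] M') (v : Fin b → M) :
    phi q M' (fun i => h (v i)) = LinearMap.rTensor N h (phi q M v) := by
  obtain ⟨z, rfl⟩ := (piScalarRight R R M (Fin b)).surjective v
  simp only [phi, LinearMap.comp_apply, LinearEquiv.coe_coe, LinearEquiv.symm_apply_apply]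
  rw [← pi_nat h z, LinearEquiv.symm_apply_apply, ← LinearMap.comp_apply, ← LinearMap.comp_apply,
    LinearMap.lTensor_comp_rTensor, LinearMap.rTensor_comp_lTensor]

noncomputable def psi {a : ℕ} (f : (Fin a → R) →ₗ[R] (Fin b → R)) (M : Type u) [AddCommGroup M] [Module R M] :
    (Fin a → M) →ₗ[R] (Fin b → M) :=
  (piScalarRight R R M (Fin b)).toLinearMap.comp ((LinearMap.lTensor M f).comp (piScalarRight R R M (Fin a)).symm.toLinearMap)

theorem psi_nat {a : ℕ} (f : (Fin a → R) →ₗ[R] (Fin b → R)) {M M' : Type u} [AddCommGroup M] [Module R M]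
    [AddCommGroup M'] [Module R M'] (h : M →ₗ[R] M') (v : Fin a → M) :
    psi f M' (fun i => h (v i)) = fun i => h (psi f M v i) := by
  obtain ⟨z, rfl⟩ := (piScalarRight R R M (Fin a)).surjective v
  simp only [psi, LinearMap.comp_apply, LinearEquiv.coe_coe, LinearEquiv.symm_apply_apply]
  rw [← pi_nat h z, LinearEquiv.symm_apply_apply, ← pi_nat h, ← LinearMap.comp_apply, ← LinearMap.comp_apply (LinearMap.rTensor _ h),
    LinearMap.lTensor_comp_rTensor, LinearMap.rTensor_comp_lTensor]

theorem exact_phi {a : ℕ} (f : (Fin a → R) →ₗ[R] (Fin b → R)) (q : (Fin b → R) →ₗ[R] N)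
    (hq : Function.Surjective q) (hex : Function.Exact f q) (M : Type u) [AddCommGroup M] [Module R M] :
    Function.Surjective (phi q M) ∧ Function.Exact (psi f M) (phi q M) := by
  refine ⟨(LinearMap.lTensor_surjective M hq).comp (LinearEquiv.surjective _), fun v => ?_⟩
  have he := lTensor_exact M hex hq ((piScalarRight R R M (Fin b)).symm v)
  constructor
  · intro hv
    obtain ⟨z, hz⟩ := he.mp hv
    exact ⟨piScalarRight R R M (Fin a) z, by
      simp only [psi, LinearMap.comp_apply, LinearEquiv.coe_coe, LinearEquiv.symm_apply_apply, hz, LinearEquiv.apply_symm_apply]⟩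
  · rintro ⟨w, rfl⟩
    exact he.mpr ⟨(piScalarRight R R M (Fin a)).symm w, by
      simp only [psi, LinearMap.comp_apply, LinearEquiv.coe_coe, LinearEquiv.symm_apply_apply]⟩

/-- For a commutative ring R, an inverse system (M_n)_{n ∈ ℕ} of R-modules of finite length and a
finitely presented R-module N, the canonical comparison map (lim_n M_n) ⊗_R N ⟶ lim_n (M_n ⊗_R N) is
an isomorphism. (The published statement takes N = R/I for a finitely generated ideal I; the
argument covers every finitely presented N, which is the form stated here.) -/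
theorem result (R : Type u) [CommRing R]
    (M : ℕᵒᵖ ⥤ ModuleCat.{u} R) (hM : ∀ n : ℕᵒᵖ, IsFiniteLength R (M.obj n))
    (N : Type u) [AddCommGroup N] [Module R N] [Module.FinitePresentation R N] :
    IsIso (limit.post M (tensorRight (ModuleCat.of R N))) := by
  classical
  obtain ⟨b, a, q, f, hq, hex⟩ := Module.FinitePresentation.exists_fin' (R := R) (M := N)
  haveI hA : ∀ n : ℕ, IsArtinian R (M.obj (op n)) := fun n => (isFiniteLength_iff_isNoetherian_isArtinian.mp (hM _)).2
  let P : ∀ {i j : ℕ}, i ≤ j → ((M.obj (op j)) →ₗ[R] (M.obj (op i))) := fun h => (M.map (homOfLE h).op).hom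
  have hid : ∀ (i : ℕ) (x : M.obj (op i)), P (le_refl i) x = x := fun i x => by
    show (M.map (homOfLE (le_refl i)).op).hom x = x
    rw [show (homOfLE (le_refl i)).op = 𝟙 (op i) from rfl, M.map_id]; rfl
  have hcomp : ∀ {i j k : ℕ} (h : i ≤ j) (h' : j ≤ k) (x : M.obj (op k)), P h (P h' x) = P (h.trans h') x := fun h h' x => by
    show _ = (M.map (homOfLE (h.trans h')).op).hom x
    rw [show (homOfLE (h.trans h')).op = (homOfLE h').op ≫ (homOfLE h).op from rfl, M.map_comp]; rfl
  let π : ∀ n : ℕ, (limit M : ModuleCat.{u} R) →ₗ[R] M.obj (op n) := fun n => (limit.π M (op n)).hom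
  have mk : ∀ x : ∀ n, M.obj (op n), (∀ {i j : ℕ} (h : i ≤ j), P h (x j) = x i) → ∃ X, ∀ n, π n X = x n := fun x hx => by
    let c : Cone M :=
      { pt := ModuleCat.of R R
        π :=
          { app := fun n => ModuleCat.ofHom (LinearMap.toSpanSingleton R _ (x n.unop))
            naturality := fun i j g => by
              refine ModuleCat.hom_ext (LinearMap.ext_ring ?_)
              show LinearMap.toSpanSingleton R _ (x j.unop) 1 =
                P (leOfHom g.unop) (LinearMap.toSpanSingleton R _ (x i.unop) 1)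
              simp only [LinearMap.toSpanSingleton_apply, one_smul]
              exact (hx _).symm } }
    refine ⟨(limit.lift M c).hom (1 : R), fun n => ?_⟩
    show ((limit.lift M c) ≫ limit.π M (op n)).hom (1 : R) = x n
    rw [limit.lift_π]
    exact one_smul R (x n)
  have πcompat : ∀ {i j : ℕ} (h : i ≤ j) (X : (limit M : ModuleCat.{u} R)), P h (π j X) = π i X := fun h X => by
    show (limit.π M _ ≫ M.map (homOfLE h).op).hom X = _
    rw [limit.w]
  have hext : ∀ X Y : (limit M : ModuleCat.{u} R), (∀ n, π n X = π n Y) → X = Y := fun X Y h =>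
    Concrete.limit_ext M X Y fun n => h n.unop
  let F := tensorRight (ModuleCat.of R N)
  let post := limit.post M F
  have hpost : ∀ (n : ℕ) (z : (limit M : ModuleCat.{u} R) ⊗[R] N),
      (limit.π (M ⋙ F) (op n)).hom (post.hom z) = LinearMap.rTensor N (π n) z := fun n z => by
    show (post ≫ limit.π (M ⋙ F) (op n)).hom z = _
    rw [limit.post_π]; rfl
  rw [ConcreteCategory.isIso_iff_bijective]
  refine ⟨(injective_iff_map_eq_zero post.hom).mpr fun z hz => ?_, fun Y => ?_⟩
  · obtain ⟨v, rfl⟩ := (exact_phi f q hq hex _).1 z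
    have hmem : ∀ n, (fun i => π n (v i)) ∈ LinearMap.range (psi f (M.obj (op n))) := fun n => by
      apply ((exact_phi f q hq hex _).2 _).mp
      rw [phi_nat, ← hpost, hz, map_zero]
    obtain ⟨w, hw, hw'⟩ := lift (A := fun n => Fin a → M.obj (op n)) (B := fun n => Fin b → M.obj (op n))
      (fun h => LinearMap.pi fun i => (P h).comp (LinearMap.proj i)) (fun i x => funext fun t => hid i _)
      (fun h h' x => funext fun t => hcomp h h' _) (fun h => LinearMap.pi fun i => (P h).comp (LinearMap.proj i))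
      (fun n => psi f _) (fun h x => psi_nat f (P h) x) (fun n i => π n (v i)) (fun n => funext fun t => πcompat _ _) hmem
    choose W hW using fun i : Fin a => mk (fun n => w n i) (fun h => congrFun (hw' h) i)
    apply ((exact_phi f q hq hex _).2 _).mpr
    refine ⟨W, funext fun i => hext _ _ fun n => ?_⟩
    rw [← congrFun (psi_nat f (π n) W) i, show (fun i => π n (W i)) = w n from funext fun i => hW i n]
    exact congrFun (hw n) i
  · obtain ⟨v, hv, hv'⟩ := lift (A := fun n => Fin b → M.obj (op n)) (B := fun n => M.obj (op n) ⊗[R] N)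
      (fun h => LinearMap.pi fun i => (P h).comp (LinearMap.proj i)) (fun i x => funext fun t => hid i _)
      (fun h h' x => funext fun t => hcomp h h' _) (fun h => LinearMap.rTensor N (P h))
      (fun n => phi q _) (fun h x => phi_nat q (P h) x) (fun n => (limit.π (M ⋙ F) (op n)).hom Y) (fun n => by
        show (limit.π (M ⋙ F) (op (n + 1)) ≫ (M ⋙ F).map (homOfLE (Nat.le_succ n)).op).hom Y = _
        rw [limit.w]) (fun n => (exact_phi f q hq hex _).1 _)
    choose V hV using fun i : Fin b => mk (fun n => v n i) (fun h => congrFun (hv' h) i)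
    refine ⟨phi q _ V, Concrete.limit_ext (M ⋙ F) _ _ fun n => ?_⟩
    obtain ⟨n⟩ := n
    show (limit.π (M ⋙ F) (op n)).hom (post.hom _) = (limit.π (M ⋙ F) (op n)).hom Y
    rw [hpost, ← phi_nat, show (fun i => π n (V i)) = v n from funext fun i => hV i n]
    exact hv n

end Groth.Agent.S14353
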