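import Groth.Statements.S14354
import Groth.Agent.QC70.CohOps
import Groth.Agent.QC70.Closure
import Groth.Agent.QC70.Coherent
import Groth.Agent.Univ70.Sect

set_option autoImplicit false
universe u
open CategoryTheory CategoryTheory.Limits AlgebraicGeometry Opposite
open Coh

namespace Groth.Agent.S14354

set_option backward.isDefEq.respectTransparency.types false
open CategoryTheory Limits AlgebraicGeometry TopologicalSpace Opposite Groth.Agent.QC70

variable {X : Scheme.{u}}

theorem stalkMapM_comp' {A B C : X.Modules} (f : A ⟶ B) (g : B ⟶ C) (y : X) (z : A.presheaf.stalk y) :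
    stalkMapM (f ≫ g) y z = stalkMapM g y (stalkMapM f y z) := stalkMapM_comp f g y z

theorem mem_support_image_iff {M N : X.Modules} (φ : M ⟶ N) (y : X) :
    y ∈ CohB1.support (image φ) ↔ ∃ z, stalkMapM φ y z ≠ 0 := by
  have h : ∀ z, stalkMapM φ y z = stalkMapM (image.ι φ) y (stalkMapM (factorThruImage φ) y z) := fun z => by
    rw [← stalkMapM_comp, image.fac]
  have hi := injective_stalkMapM_of_mono (image.ι φ) y
  have hs := surjective_stalkMapM_of_epi (factorThruImage φ) y
  constructor
  · intro hy
    have hy' : ¬ Subsingleton ((image φ).presheaf.stalk y) := hy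
    rw [not_subsingleton_iff_nontrivial] at hy'
    obtain ⟨a, ha⟩ := exists_ne (0 : (image φ).presheaf.stalk y)
    obtain ⟨z, rfl⟩ := hs a
    exact ⟨z, fun hz => ha (hi (((h z).symm.trans hz).trans (map_zero (stalkLinear (image.ι φ) y)).symm))⟩
  · rintro ⟨z, hz⟩ (hy : Subsingleton _)
    rw [h, hy.elim (stalkMapM (factorThruImage φ) y z) 0] at hz
    exact hz (map_zero (stalkLinear (image.ι φ) y))

/-- Sections of an image over an affine open are the image of the sections. -/
theorem range_imageSubobject {M N : X.Modules} [M.IsQuasicoherent] [N.IsQuasicoherent] (φ : M ⟶ N)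
    {U : X.Opens} (hU : IsAffineOpen U) :
    Set.range ((imageSubobject φ).arrow.app U) = Set.range (φ.app U) := by
  let e := factorThruImageSubobject φ
  haveI : (imageSubobject φ : X.Modules).IsQuasicoherent :=
    haveI := isQuasicoherent_abelianImage φ
    QC70.isQuasicoherent_of_iso ((Abelian.imageIsoImage φ) ≪≫ (imageSubobjectIso φ).symm) this
  haveI : (kernel e).IsQuasicoherent := isQuasicoherent_kernel e
  let S := ShortComplex.mk (kernel.ι e) e (kernel.condition e)
  have hS : S.ShortExact :=
    { exact := ShortComplex.exact_of_f_is_kernel _ (kernelIsKernel e) }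
  have hs := app_surjective_of_isAffineOpen S hS hU
  have h : ∀ x, φ.app U x = (imageSubobject φ).arrow.app U (e.app U x) := fun x =>
    (congr((Scheme.Modules.Hom.app $(imageSubobject_arrow_comp φ) U) x)).symm
  ext n
  constructor
  · rintro ⟨a, rfl⟩
    obtain ⟨x, rfl⟩ := hs a
    exact ⟨x, h x⟩
  · rintro ⟨x, rfl⟩
    exact ⟨_, (h x).symm⟩

variable (G : ℕᵒᵖ ⥤ X.Modules)

/-- The transition map. -/
noncomputable def tr {m n : ℕ} (h : n ≤ m) : G.obj (op m) ⟶ G.obj (op n) := G.map (homOfLE h).op

theorem tr_app_app {m n k : ℕ} (h : n ≤ m) (h' : k ≤ n) (U : X.Opens) (x : Γ(G.obj (op m), U)) :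
    (tr G h').app U ((tr G h).app U x) = (tr G (h'.trans h)).app U x := by
  have e : tr G (h'.trans h) = tr G h ≫ tr G h' := by
    rw [tr, tr, tr, ← G.map_comp]; rfl
  rw [e]
  rfl

theorem exists_limit_section (hG : ∀ n : ℕᵒᵖ, Coh.IsCoh (G.obj n)) (d : ℕ → ℕ) (hd : ∀ e, e ≤ d e)
    (hML : ∀ (e d' : ℕ) (hd' : d e ≤ d'),
      imageSubobject (tr G ((hd e).trans hd')) = imageSubobject (tr G (hd e)))
    {U : X.Opens} (hU : IsAffineOpen U) (e : ℕ) (a : Γ(G.obj (op (d e)), U)) :
    ∃ L : Γ(limit G, U), (limit.π G (op e)).app U L = (tr G (hd e)).app U a := by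
  classical
  haveI : ∀ n, (G.obj n).IsQuasicoherent := fun n => (hG n).1
  let St : ∀ n, Set Γ(G.obj (op n), U) := fun n => Set.range ((tr G (hd n)).app U)
  have hSt : ∀ (n D : ℕ) (hD : d n ≤ D), Set.range ((tr G ((hd n).trans hD)).app U) = St n := by
    intro n D hD
    rw [← range_imageSubobject _ hU, hML n D hD, range_imageSubobject _ hU]
  have hstep : ∀ (n : ℕ) (x : St n), ∃ y : St (n + 1), (tr G (Nat.le_succ n)).app U y.1 = x.1 := by
    intro n x
    let D := max (d n) (d (n + 1))
    obtain ⟨z, hz⟩ : x.1 ∈ Set.range ((tr G ((hd n).trans (le_max_left (d n) (d (n + 1))))).app U) :=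
      (hSt n D (le_max_left _ _)).symm ▸ x.2
    refine ⟨⟨(tr G ((hd (n + 1)).trans (le_max_right (d n) (d (n + 1))))).app U z,
      hSt (n + 1) D (le_max_right _ _) ▸ ⟨z, rfl⟩⟩, ?_⟩
    rw [tr_app_app]
    exact hz
  choose next hnext using hstep
  let x₀ : St e := ⟨(tr G (hd e)).app U a, a, rfl⟩
  let seq : ∀ i : ℕ, St (e + i) := fun i => Nat.rec (motive := fun i => St (e + i)) x₀ (fun i x => next (e + i) x) i
  let s : ∀ n : ℕ, Γ(G.obj (op n), U) := fun n => (tr G (Nat.le_add_left n e)).app U (seq n).1
  have hs : ∀ n, (tr G (Nat.le_succ n)).app U (s (n + 1)) = s n := by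
    intro n
    show (tr G _).app U ((tr G _).app U (next (e + n) (seq n)).1) = _
    have h := hnext (e + n) (seq n)
    show _ = (tr G (Nat.le_add_left n e)).app U (seq n).1
    rw [← h, tr_app_app, tr_app_app]
  have key : ∀ {m n : ℕ} (h : n ≤ m), (tr G h).app U (s m) = s n := by
    intro m n h
    induction h with
    | refl => rw [tr, show (homOfLE (le_refl n)).op = 𝟙 (op n) from rfl, G.map_id]; rfl
    | @step m h ih => rw [← tr_app_app G (Nat.le_succ m) h, hs, ih]
  let F := Univ70.secAb U ⋙ forget AddCommGrpCat.{u}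
  let sec : (G ⋙ F).sections := ⟨fun j => s j.unop, fun {j k} f => by
    obtain ⟨j⟩ := j
    obtain ⟨k⟩ := k
    rw [show f = (homOfLE f.unop.le).op from Subsingleton.elim _ _]
    exact key _⟩
  haveI : PreservesLimitsOfShape ℕᵒᵖ (Scheme.Modules.toPresheaf X) :=
    haveI : PreservesLimitsOfSize.{0, 0} (Scheme.Modules.toPresheafOfModules X) :=
      (PresheafOfModules.sheafificationAdjunction (𝟙 X.ringCatSheaf.obj)).rightAdjoint_preservesLimits
    inferInstanceAs (PreservesLimitsOfShape ℕᵒᵖ
      (Scheme.Modules.toPresheafOfModules X ⋙ PresheafOfModules.toPresheaf _))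
  haveI : PreservesLimitsOfShape ℕᵒᵖ ((evaluation X.Opensᵒᵖ AddCommGrpCat.{u}).obj (op U)) := inferInstance
  haveI : PreservesLimit G F := inferInstance
  let hl := isLimitOfPreserves F (limit.isLimit G)
  refine ⟨(Types.isLimitEquivSections hl).symm sec, ?_⟩
  refine (Types.isLimitEquivSections_symm_apply hl sec (op e)).trans ?_
  show (tr G (Nat.le_add_left e e)).app U (seq e).1 = _
  have h2 : ∀ i, (tr G (Nat.le_add_right e i)).app U (seq i).1 = x₀.1 := by
    intro i
    induction i with
    | zero =>
      show (tr G (Nat.le_add_right e 0)).app U x₀.1 = x₀.1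
      rw [tr, show (homOfLE (Nat.le_add_right e 0)).op = 𝟙 (op e) from rfl]
      erw [G.map_id]; rfl
    | succ i ih =>
      rw [← ih, ← hnext (e + i) (seq i), tr_app_app]
  exact h2 e

theorem isClosed_support_image (hG : ∀ n : ℕᵒᵖ, Coh.IsCoh (G.obj n)) (d : ℕ → ℕ) (hd : ∀ e, e ≤ d e)
    (hML : ∀ (e d' : ℕ) (hd' : d e ≤ d'),
      imageSubobject (tr G ((hd e).trans hd')) = imageSubobject (tr G (hd e))) (e : ℕ) :
    IsClosed (CohB1.support (image (limit.π G (op e)))) := by
  have hp : limit.π G (op e) = limit.π G (op (d e)) ≫ tr G (hd e) := (limit.w G (homOfLE (hd e)).op).symm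
  have : CohB1.support (image (limit.π G (op e))) = CohB1.support (image (tr G (hd e))) := by
    ext y
    rw [mem_support_image_iff, mem_support_image_iff]
    constructor
    · rintro ⟨z, hz⟩
      exact ⟨stalkMapM (limit.π G (op (d e))) y z, by rwa [← stalkMapM_comp, ← hp]⟩
    · rintro ⟨z, hz⟩
      obtain ⟨W, hyW, a, rfl⟩ := germM_exist z
      obtain ⟨U, hU, hyU, hUW⟩ := exists_isAffineOpen_mem_and_subset hyW
      have hle : U ≤ W := fun p hp => hUW hp
      rw [← germM_res hle hyU a, stalkMapM_germ] at hz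
      obtain ⟨L, hL⟩ := exists_limit_section G hG d hd hML hU e (res _ hle a)
      exact ⟨germM _ U y hyU L, by rwa [stalkMapM_germ, hL]⟩
  rw [this]
  haveI : (G.obj (op (d e))).IsFiniteType := (hG _).2
  haveI : (image (tr G (hd e))).IsFiniteType := isFiniteType_of_epi (factorThruImage (tr G (hd e)))
  exact isClosed_support _

/-- Let X be a locally Noetherian scheme and (G_e)_{e ∈ ℕ} an inverse system of coherent O_X-modules
satisfying the Mittag-Leffler condition, in the sense that for every e the image subobject of G_d ⟶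
G_e is the same for all sufficiently large d. Then for every e the support of the image of the
canonical map lim_d G_d ⟶ G_e is closed in X. (The published statement is the case where G_e is the
i-th cohomology sheaf of the Fourier–Mukai transform of the e-th member of a Mittag-Leffler inverse
system of coherent modules on an abelian variety; the argument uses only the coherence of the G_e
and their Mittag-Leffler condition, which is the form stated here.) -/
theorem result (X : Scheme.{u}) [IsLocallyNoetherian X]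
    (G : ℕᵒᵖ ⥤ X.Modules) (hG : ∀ n : ℕᵒᵖ, Coh.IsCoh (G.obj n))
    (hML : ∀ e : ℕ, ∃ (d : ℕ) (hd : e ≤ d), ∀ (d' : ℕ) (hd' : d ≤ d'),
      imageSubobject (G.map (homOfLE (hd.trans hd')).op) = imageSubobject (G.map (homOfLE hd).op))
    (e : ℕ) : IsClosed (CohB1.support (image (limit.π G (op e)))) := by
  choose d hd hML using hML
  exact isClosed_support_image G hG d hd hML e

end Groth.Agent.S14354
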