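import Groth.Statements.S14357
import Mathlib.AlgebraicGeometry.Artinian
import Mathlib.AlgebraicGeometry.Morphisms.QuasiFinite
import Mathlib.Algebra.MvPolynomial.Division
import Mathlib.AlgebraicGeometry.ProjectiveSpectrum.Proper

set_option autoImplicit false
universe u
open AlgebraicGeometry
open Proj

namespace Groth.Agent.S14357

/-- For a field k the projective line over k is not an affine scheme. (The projective line is taken here
as Proj of the polynomial ring in two variables over k with its standard grading; the book builds it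
by gluing two affine lines and identifies the two constructions later.) -/
theorem result (k : Type u) [Field k] :
    ¬ IsAffine (CohB1.ProjSpace 1 k) := by
  intro hA
  classical
  let 𝒜 := CohB1.polyGrading 1 k
  have hsurj : Function.Surjective (algebraMap k (𝒜 0)) := fun p => by
    have h := p.2
    simp only [𝒜, CohB1.polyGrading, MvPolynomial.mem_homogeneousSubmodule] at h
    refine ⟨MvPolynomial.coeff 0 p.1, Subtype.ext ?_⟩
    rw [SetLike.GradeZero.coe_algebraMap, MvPolynomial.algebraMap_eq,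
      ← MvPolynomial.homogeneousComponent_zero, MvPolynomial.homogeneousComponent_of_mem h, if_pos rfl]
  have : IsArtinianRing (𝒜 0) := hsurj.isArtinianRing
  have : IsScalarTower k (𝒜 0) (MvPolynomial (Fin 2) k) :=
    IsScalarTower.of_algebraMap_eq (R := k) (S := 𝒜 0) (A := MvPolynomial (Fin 2) k) fun r => rfl
  have : Algebra.FiniteType (𝒜 0) (MvPolynomial (Fin 2) k) :=
    Algebra.FiniteType.of_restrictScalars_finiteType k (𝒜 0) _
  have : IsAffine (Proj 𝒜) := hA
  have : IsAffineHom (Proj.toSpecZero 𝒜) := isAffineHom_of_isAffine _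
  have : IsFinite (Proj.toSpecZero 𝒜) := IsFinite.iff_isProper_and_isAffineHom.mpr ⟨inferInstance, inferInstance⟩
  have : IsLocallyArtinian (Spec (CommRingCat.of (𝒜 0))) := Scheme.isLocallyArtinianScheme_Spec.mpr inferInstance
  have : IsLocallyArtinian (Proj 𝒜) := .of_locallyQuasiFinite (Proj.toSpecZero 𝒜)
  let I : Ideal (MvPolynomial (Fin 2) k) := Ideal.span {MvPolynomial.X 1}
  have hIp : I.IsPrime := (Ideal.span_singleton_prime (MvPolynomial.X_ne_zero 1)).mpr MvPolynomial.X_prime
  have hIh : I.IsHomogeneous 𝒜 := Ideal.homogeneous_span 𝒜 _ (by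
    rintro _ rfl
    exact ⟨1, MvPolynomial.isHomogeneous_X k 1⟩)
  have h0 : MvPolynomial.X (0 : Fin 2) ∈ HomogeneousIdeal.irrelevant 𝒜 :=
    HomogeneousIdeal.mem_irrelevant_of_mem 𝒜 zero_lt_one (MvPolynomial.isHomogeneous_X k 0)
  have h1 : (MvPolynomial.X 0 : MvPolynomial (Fin 2) k) ∉ I := by
    simp [I, Ideal.mem_span_singleton, MvPolynomial.X_dvd_X]
  let x : ProjectiveSpectrum 𝒜 := ⟨⟨I, hIh⟩, hIp, fun h => h1 (h h0)⟩
  let y : ProjectiveSpectrum 𝒜 := ⟨⊥, (Ideal.isPrime_bot : (⊥ : Ideal (MvPolynomial (Fin 2) k)).IsPrime),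
    fun h => MvPolynomial.X_ne_zero (R := k) (0 : Fin 2) ((Submodule.mem_bot (MvPolynomial (Fin 2) k)).mp (HomogeneousIdeal.toIdeal_bot (𝒜 := 𝒜) ▸ (h h0 : MvPolynomial.X 0 ∈ (⊥ : HomogeneousIdeal 𝒜).toIdeal)))⟩
  have hxy : x ∈ closure ({y} : Set (ProjectiveSpectrum 𝒜)) :=
    (ProjectiveSpectrum.le_iff_mem_closure _ y x).mp ((ProjectiveSpectrum.as_ideal_le_as_ideal _ y x).mp bot_le)
  have : DiscreteTopology (ProjectiveSpectrum 𝒜) := inferInstanceAs (DiscreteTopology (Proj 𝒜))
  rw [closure_discrete, Set.mem_singleton_iff] at hxy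
  have : (MvPolynomial.X 1 : MvPolynomial (Fin 2) k) ∈ y.asHomogeneousIdeal := by
    rw [← hxy]; exact Ideal.mem_span_singleton_self _
  exact MvPolynomial.X_ne_zero (R := k) (1 : Fin 2) ((Submodule.mem_bot (MvPolynomial (Fin 2) k)).mp (HomogeneousIdeal.toIdeal_bot (𝒜 := 𝒜) ▸ (this : MvPolynomial.X 1 ∈ (⊥ : HomogeneousIdeal 𝒜).toIdeal)))

end Groth.Agent.S14357
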