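import Groth.Statements.S14360
import Mathlib.AlgebraicGeometry.Birational.Birational
import Mathlib.AlgebraicGeometry.Birational.Composition

set_option autoImplicit false
universe u
open AlgebraicGeometry
open Variety

namespace Groth.Agent.S14360

open CategoryTheory AlgebraicGeometry

set_option backward.isDefEq.respectTransparency false

/-- Two partial maps whose compositions are inclusions glue to an isomorphism of open subsets. -/
theorem partialIso_of_inverse {X Y : Scheme.{u}} [IrreducibleSpace X] [IrreducibleSpace Y]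
    (W : X.Opens) (V : Y.Opens) (hV : (V : Set Y).Nonempty) (hW : (W : Set X).Nonempty)
    (F : W.toScheme ⟶ Y) (G : V.toScheme ⟶ X) [IsDominant F] [IsDominant G]
    (h1 : ∀ (T : Scheme.{u}) (p : T ⟶ W.toScheme) (q : T ⟶ V.toScheme), q ≫ V.ι = p ≫ F → q ≫ G = p ≫ W.ι)
    (h2 : ∀ (T : Scheme.{u}) (p : T ⟶ V.toScheme) (q : T ⟶ W.toScheme), q ≫ W.ι = p ≫ G → q ≫ F = p ≫ V.ι) :
    Scheme.Birational X Y := by
  let U : W.toScheme.Opens := F ⁻¹ᵁ V
  let U' : V.toScheme.Opens := G ⁻¹ᵁ W
  let α : U.toScheme ⟶ V.toScheme := F ∣_ V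
  let β : U'.toScheme ⟶ W.toScheme := G ∣_ W
  have hα : α ≫ G = U.ι ≫ W.ι := h1 _ U.ι α (morphismRestrict_ι F V)
  have hβ : β ≫ F = U'.ι ≫ V.ι := h2 _ U'.ι β (morphismRestrict_ι G W)
  have rα : Set.range α ⊆ Set.range U'.ι := by
    rintro _ ⟨x, rfl⟩
    rw [Scheme.Opens.range_ι]
    show G (α x) ∈ W
    rw [← Scheme.Hom.comp_apply, hα, Scheme.Hom.comp_apply]
    exact (U.ι x).2
  have rβ : Set.range β ⊆ Set.range U.ι := by
    rintro _ ⟨x, rfl⟩
    rw [Scheme.Opens.range_ι]
    show F (β x) ∈ V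
    rw [← Scheme.Hom.comp_apply, hβ, Scheme.Hom.comp_apply]
    exact (U'.ι x).2
  let a := IsOpenImmersion.lift U'.ι α rα
  let b := IsOpenImmersion.lift U.ι β rβ
  have ha : a ≫ U'.ι = α := IsOpenImmersion.lift_fac _ _ _
  have hb : b ≫ U.ι = β := IsOpenImmersion.lift_fac _ _ _
  have hab : a ≫ b = 𝟙 _ := by
    rw [← cancel_mono U.ι, Category.assoc, hb, ← cancel_mono W.ι, Category.assoc, morphismRestrict_ι,
      ← Category.assoc, ha, Category.id_comp, hα]
  have hba : b ≫ a = 𝟙 _ := by
    rw [← cancel_mono U'.ι, Category.assoc, ha, ← cancel_mono V.ι, Category.assoc, morphismRestrict_ι,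
      ← Category.assoc, hb, Category.id_comp, hβ]
  refine ⟨{
    source := W.ι ''ᵁ U
    dense_source := (W.ι ''ᵁ U).2.dense ?_
    target := V.ι ''ᵁ U'
    dense_target := (V.ι ''ᵁ U').2.dense ?_
    iso := (W.ι.isoImage U).symm ≪≫ ⟨a, b, hab, hba⟩ ≪≫ V.ι.isoImage U' }⟩
  · obtain ⟨x, hx⟩ := F.denseRange.exists_mem_open V.2 hV
    exact ⟨_, x, hx, rfl⟩
  · obtain ⟨x, hx⟩ := G.denseRange.exists_mem_open W.2 hW
    exact ⟨_, x, hx, rfl⟩

/-- Data extracted from a composite of partial maps being equivalent to the identity. -/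
theorem exists_of_comp_equiv_id {X Y : Scheme.{u}} [IrreducibleSpace X] [IrreducibleSpace Y]
    (f : X.PartialMap Y) [IsDominant f.hom] (g : Y.PartialMap X)
    (h : (f.comp g).equiv (Scheme.PartialMap.id X)) :
    ∃ (W : X.Opens) (hW : Dense (W : Set X)) (hWf : W ≤ f.domain) (a : W.toScheme ⟶ g.domain.toScheme),
      a ≫ g.domain.ι = X.homOfLE hWf ≫ f.hom ∧ a ≫ g.hom = W.ι := by
  obtain ⟨W, hW, hWl, hWr, h⟩ := h
  have hWf : W ≤ f.domain := hWl.trans (Scheme.Opens.ι_image_le _ _)
  refine ⟨W, hW, hWf, X.homOfLE hWl ≫ (f.domain.ι.isoImage _).inv ≫ f.hom ∣_ g.domain, ?_, ?_⟩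
  · simp only [Category.assoc, morphismRestrict_ι]
    rw [← Category.assoc _ _ f.hom, ← Category.assoc _ _ f.hom]
    congr 1
    rw [← cancel_mono f.domain.ι]
    simp [Scheme.PartialMap.comp]
  · simpa [Scheme.PartialMap.comp, Scheme.PartialMap.id] using h.trans (Scheme.homOfLE_ι _ _)

/-- Let X and Y be integral schemes. Then X and Y have isomorphic dense open subschemes if and only if
they are birational in the sense of rational maps, i.e. there exist dominant rational maps f : X ⤏ Y
and g : Y ⤏ X such that the composites g ∘ f and f ∘ g are the identity rational maps of X and of Y. -/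
theorem result (X Y : Scheme.{u})
    [IsIntegral X] [IsIntegral Y] :
    Scheme.Birational X Y ↔
      ∃ (f : X ⤏ Y) (g : Y ⤏ X) (_ : f.IsDominant) (_ : g.IsDominant),
        f.comp g = Scheme.RationalMap.id X ∧ g.comp f = Scheme.RationalMap.id Y := by
  constructor
  · rintro ⟨e⟩
    have key : ∀ {A B : Scheme.{u}} [IrreducibleSpace A] [IrreducibleSpace B] (e : A.PartialIso B),
        ∃ (_ : IsDominant e.toPartialMap.hom),
          e.toRationalMap.IsDominant := fun {A B} _ _ e => by
      have : IsDominant e.target.ι := ⟨by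
        rw [DenseRange, Scheme.Opens.range_ι]; exact e.dense_target⟩
      have : IsDominant e.toPartialMap.hom := by
        show IsDominant (e.iso.hom ≫ e.target.ι)
        infer_instance
      exact ⟨this, inferInstance⟩
    obtain ⟨hf, hf'⟩ := key e
    obtain ⟨hg, hg'⟩ := key e.symm
    have comp_id : ∀ {A B : Scheme.{u}} [IrreducibleSpace A] [IrreducibleSpace B] (e : A.PartialIso B)
        [IsDominant e.toPartialMap.hom],
        e.toRationalMap.comp e.symm.toRationalMap = Scheme.RationalMap.id A := fun {A B} _ _ e _ => by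
      rw [Scheme.RationalMap.toRationalMap_comp, Scheme.PartialMap.toRationalMap_eq_iff]
      have hle : e.source ≤ (e.toPartialMap.comp e.symm.toPartialMap).domain := by
        intro x hx
        exact ⟨⟨x, hx⟩, (e.iso.hom ⟨x, hx⟩).2, rfl⟩
      refine ⟨e.source, e.dense_source, hle, le_top, ?_⟩
      have hlift : A.homOfLE hle ≫ (e.toPartialMap.domain.ι.isoImage _).inv ≫
          e.toPartialMap.hom ∣_ e.symm.toPartialMap.domain = e.iso.hom := by
        rw [← cancel_mono e.target.ι]
        show _ ≫ Scheme.Opens.ι e.symm.toPartialMap.domain = _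
        simp only [Category.assoc, morphismRestrict_ι]
        rw [← Category.assoc _ _ e.toPartialMap.hom, ← Category.assoc _ _ e.toPartialMap.hom]
        have : A.homOfLE hle ≫ (e.toPartialMap.domain.ι.isoImage _).inv ≫
            Scheme.Opens.ι (e.toPartialMap.hom ⁻¹ᵁ e.symm.toPartialMap.domain) = 𝟙 _ := by
          rw [← cancel_mono e.source.ι, Category.id_comp]
          simp
        rw [show _ = 𝟙 _ from this]
        simp
      simp only [Scheme.PartialMap.restrict_hom, Scheme.PartialMap.comp_hom]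
      show A.homOfLE hle ≫ (_ ≫ _ ∣_ e.symm.toPartialMap.domain ≫ e.iso.inv ≫ e.source.ι) = A.homOfLE _ ≫ Scheme.Opens.ι ⊤ ≫ 𝟙 _
      erw [reassoc_of% hlift]
      rw [e.iso.hom_inv_id_assoc, Category.comp_id, Scheme.homOfLE_ι]
    exact ⟨e.toRationalMap, e.symm.toRationalMap, hf', hg', comp_id e, comp_id e.symm⟩
  · rintro ⟨f, g, hf, hg, h1, h2⟩
    obtain ⟨f, rfl⟩ := f.exists_rep
    obtain ⟨g, rfl⟩ := g.exists_rep
    have : IsDominant f.hom := f.isDominant_toRationalMap_iff.1 hf
    have : IsDominant g.hom := g.isDominant_toRationalMap_iff.1 hg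
    rw [Scheme.RationalMap.toRationalMap_comp, Scheme.PartialMap.toRationalMap_eq_iff] at h1 h2
    obtain ⟨W, hW, hWf, a, ha, ha'⟩ := exists_of_comp_equiv_id f g h1
    obtain ⟨V, hV, hVg, b, hb, hb'⟩ := exists_of_comp_equiv_id g f h2
    have : IsDominant (f.restrict W hW hWf).hom := inferInstance
    have : IsDominant (g.restrict V hV hVg).hom := inferInstance
    refine partialIso_of_inverse W V hV.nonempty hW.nonempty (f.restrict W hW hWf).hom
      (g.restrict V hV hVg).hom (fun T p q hpq => ?_) (fun T p q hpq => ?_)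
    · have : q ≫ Y.homOfLE hVg = p ≫ a := by
        rw [← cancel_mono g.domain.ι, Category.assoc, Category.assoc, Scheme.homOfLE_ι, ha]
        exact hpq
      show q ≫ Y.homOfLE hVg ≫ g.hom = _
      rw [reassoc_of% this, ha']
    · have : q ≫ X.homOfLE hWf = p ≫ b := by
        rw [← cancel_mono f.domain.ι, Category.assoc, Category.assoc, Scheme.homOfLE_ι, hb]
        exact hpq
      show q ≫ X.homOfLE hWf ≫ f.hom = _
      rw [reassoc_of% this, hb']

end Groth.Agent.S14360
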