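import Groth.Statements.S14363
import Mathlib.RingTheory.Ideal.AssociatedPrime.Basic
import Mathlib.RingTheory.Support

set_option autoImplicit false
universe u
open CAlg

namespace Groth.Agent.S14363

/-- Let A be a Noetherian ring and 0 → M' → M → M'' → 0 a short exact sequence of A-modules. If a prime
p of A is an associated prime of M'' and is not in the support of M', then p is an associated prime
of M. -/
theorem result (A : Type u) [CommRing A] [IsNoetherianRing A]
    (M' M M'' : Type u) [AddCommGroup M'] [Module A M'] [AddCommGroup M] [Module A M]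
    [AddCommGroup M''] [Module A M'']
    (f : M' →ₗ[A] M) (g : M →ₗ[A] M'') (hf : Function.Injective f) (hg : Function.Surjective g)
    (hfg : Function.Exact f g)
    (p : PrimeSpectrum A) (hp : p.asIdeal ∈ associatedPrimes A M'') (hsupp : p ∉ Module.support A M') :
    p.asIdeal ∈ associatedPrimes A M := by
  obtain ⟨x, hx⟩ := (isAssociatedPrime_iff.1 hp).2
  have hmem : ∀ r, r ∈ p.asIdeal ↔ r • x = 0 := fun r => by
    rw [hx, Submodule.mem_colon_singleton, Submodule.mem_bot]
  obtain ⟨m, rfl⟩ := hg x
  obtain ⟨S, hS⟩ := (IsNoetherian.noetherian p.asIdeal : p.asIdeal.FG)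
  have hkill : ∀ t ∈ S, ∃ s ∉ p.asIdeal, s • t • m = 0 := by
    intro t ht
    have : t ∈ p.asIdeal := hS ▸ Ideal.subset_span ht
    rw [hmem, ← map_smul] at this
    obtain ⟨m', hm'⟩ := (hfg _).1 this
    obtain ⟨s, hs, hs'⟩ := Module.notMem_support_iff'.1 hsupp m'
    exact ⟨s, hs, by rw [← hm', ← map_smul, hs', map_zero]⟩
  choose! s hs hs' using hkill
  have hprod : ∏ t ∈ S, s t ∉ p.asIdeal := fun h => by
    obtain ⟨t, ht, h'⟩ := (p.2.prod_mem_iff).1 h
    exact hs t ht h'
  refine isAssociatedPrime_iff.2 ⟨p.2, (∏ t ∈ S, s t) • m, ?_⟩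
  ext r
  rw [Submodule.mem_colon_singleton, Submodule.mem_bot]
  constructor
  · intro hr
    rw [← hS] at hr
    induction hr using Submodule.span_induction with
    | zero => simp
    | add a b _ _ ha hb => rw [add_smul, ha, hb, add_zero]
    | smul a b _ hb => rw [smul_eq_mul, mul_smul, hb, smul_zero]
    | mem t ht =>
      classical
      rw [← Finset.prod_erase_mul _ _ ht, mul_smul, smul_comm t, smul_comm t, hs' t ht, smul_zero]
  · intro hr
    have h2 := congrArg g hr
    rw [map_zero, map_smul, map_smul, ← mul_smul, ← hmem] at h2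
    exact (p.2.mem_or_mem h2).resolve_right hprod

end Groth.Agent.S14363
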