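import Groth.Statements.S14369
import Groth.Agent.Var76.IrredFibres

set_option autoImplicit false
universe u
open CategoryTheory CategoryTheory.Limits AlgebraicGeometry
open Variety

namespace Groth.Agent.S14369


open Groth.Agent.Var76

/-- Let k be an algebraically closed field, X and Y schemes of finite type over k with Y irreducible,
and f : X → Y a k-morphism whose underlying continuous map is closed. Suppose that for some natural
number d the fibre of f over every closed point y of Y (the subspace of points mapping to y) is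
irreducible of dimension d. Then X is irreducible and dim X = d + dim Y. (The published statement is
for varieties, i.e. reduced separated schemes; this row assumes neither.) -/
theorem result (k : Type u) [Field k] [IsAlgClosed k]
    {X Y : Scheme.{u}} (qX : X ⟶ Spec (CommRingCat.of k)) (qY : Y ⟶ Spec (CommRingCat.of k))
    [LocallyOfFiniteType qX] [QuasiCompact qX] [LocallyOfFiniteType qY] [QuasiCompact qY]
    (f : X ⟶ Y) (hf : f ≫ qY = qX) [IrreducibleSpace ↥Y] (hcl : IsClosedMap f.base) (d : ℕ)
    (hirr : ∀ y : ↥Y, IsClosed ({y} : Set ↥Y) → IsIrreducible (f.base ⁻¹' {y}))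
    (hdim : ∀ y : ↥Y, IsClosed ({y} : Set ↥Y) → topologicalKrullDim ↥(f.base ⁻¹' {y}) = d) :
    IrreducibleSpace ↥X ∧ topologicalKrullDim ↥X = d + topologicalKrullDim ↥Y := by
  obtain ⟨⟨Z₀, ⟨hZ₀, hd₀⟩, huniq⟩, hall⟩ := IrredFibres.main f hf d hirr hdim
  have hsur : f.base '' Z₀ = Set.univ := by
    rw [← hd₀.closure_eq, (hcl _ (isClosed_of_mem_irreducibleComponents Z₀ hZ₀)).closure_eq]
  refine IrredFibres.irreducible_and_dim f hf d hirr hdim fun Z hZ => ?_
  have : JacobsonSpace X := LocallyOfFiniteType.jacobsonSpace qX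
  have hsub : Set.univ ⊆ Z₀ := by
    rw [← closure_closedPoints]
    refine closure_minimal (fun x hx => ?_) (isClosed_of_mem_irreducibleComponents Z₀ hZ₀)
    have hy := IrredFibres.isClosed_image f hf (x := x) hx
    obtain ⟨x', hx', hfx'⟩ : f x ∈ f.base '' Z₀ := hsur ▸ trivial
    exact (hall Z₀ hZ₀).1 (f x) hy ⟨x', hfx', hx'⟩ rfl
  have h0 : Z₀ = Set.univ := Set.univ_subset_iff.1 hsub
  have h1 : Z = Set.univ := Set.univ_subset_iff.1 (hZ.2 (show IsIrreducible Set.univ from h0 ▸ hZ₀.1) (Set.subset_univ Z))
  have : Z₀ = Z := h0.trans h1.symm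
  exact this ▸ hd₀

end Groth.Agent.S14369
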