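import Groth.Statements.S1437
import Groth.Agent.FlatMor66.AffStrat

set_option autoImplicit false
universe u
open FlatMor

namespace Groth.Agent.S1437

open AlgebraicGeometry CategoryTheory Limits in
/-- A Noetherian scheme of finite dimension d has affine stratification number at most d: it admits an
affine stratification with index set {0, …, d}. -/
theorem result (X : Scheme.{u}) [IsNoetherian X] (d : ℕ) (hd : topologicalKrullDim ↑X = d) :
    MoreMor.HasAffineStratification X d := by
  exact Groth.Agent.FlatMor66.hasAffineStratification_of_dim d X hd.le

end Groth.Agent.S1437
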