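import Groth.Statements.S14370
import Groth.Agent.Var76.IrredFibres

set_option autoImplicit false
universe u
open CategoryTheory CategoryTheory.Limits AlgebraicGeometry
open Variety

namespace Groth.Agent.S14370


open Groth.Agent.Var76 TopologicalSpace
open Groth.Agent.WC97 (tdegN)

/-- Let k be an algebraically closed field, X and Y schemes of finite type over k with Y irreducible,
and f : X → Y a k-morphism. Suppose that X is pure-dimensional (every irreducible component of X has
dimension dim X) and that for some natural number d the fibre of f over every closed point y of Y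
(the subspace of points mapping to y) is irreducible of dimension d. Then X is irreducible and dim X
= d + dim Y. (The published statement is for varieties, i.e. reduced separated schemes; this row
assumes neither.) -/
theorem result (k : Type u) [Field k] [IsAlgClosed k]
    {X Y : Scheme.{u}} (qX : X ⟶ Spec (CommRingCat.of k)) (qY : Y ⟶ Spec (CommRingCat.of k))
    [LocallyOfFiniteType qX] [QuasiCompact qX] [LocallyOfFiniteType qY] [QuasiCompact qY]
    (f : X ⟶ Y) (hf : f ≫ qY = qX) [IrreducibleSpace ↥Y]
    (hpure : ∀ Z ∈ irreducibleComponents (↥X), topologicalKrullDim ↥Z = topologicalKrullDim ↥X) (d : ℕ)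
    (hirr : ∀ y : ↥Y, IsClosed ({y} : Set ↥Y) → IsIrreducible (f.base ⁻¹' {y}))
    (hdim : ∀ y : ↥Y, IsClosed ({y} : Set ↥Y) → topologicalKrullDim ↥(f.base ⁻¹' {y}) = d) :
    IrreducibleSpace ↥X ∧ topologicalKrullDim ↥X = d + topologicalKrullDim ↥Y := by
  obtain ⟨⟨Z₀, ⟨hZ₀, hd₀⟩, huniq⟩, hall⟩ := IrredFibres.main f hf d hirr hdim
  have h0 := (hall Z₀ hZ₀).2
  rw [hd₀.closure_eq, hpure Z₀ hZ₀, IsHomeomorph.topologicalKrullDim_eq _ (Homeomorph.Set.univ Y).isHomeomorph] at h0
  refine IrredFibres.irreducible_and_dim f hf d hirr hdim fun Z hZ => ?_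
  have h1 := (hall Z hZ).2
  rw [hpure Z hZ, h0] at h1
  obtain ⟨ζ, rfl, -⟩ := E4O.exists_eq_closure_of_mem_irreducibleComponents hZ
  rw [((isGenericPoint_closure (x := ζ)).image f.continuous).def.symm,
    WC97.topologicalKrullDim_closure qY (f ζ), (WC97.dim_eq qY).1] at h1
  have h2 : tdegN qY (genericPoint Y) ≤ tdegN qY (f ζ) := by
    have h3 : d + tdegN qY (genericPoint Y) = d + tdegN qY (f ζ) := by exact_mod_cast h1
    omega
  have h4 := FibreBound.eq_of_tdegN_le qY ((genericPoint_spec Y).specializes (y := f ζ) trivial) h2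
  exact Dense.mono (Set.singleton_subset_iff.2 ⟨ζ, subset_closure rfl, h4.symm⟩)
    (dense_iff_closure_eq.2 (genericPoint_spec Y))

end Groth.Agent.S14370
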