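import Groth.Statements.S14371
import Groth.Agent.EGA4Alg4.RegParam
import Mathlib.RingTheory.KrullDimension.NonZeroDivisors
import Mathlib.RingTheory.Ideal.Quotient.Operations
import Mathlib.RingTheory.LocalRing.Quotient
import Mathlib.LinearAlgebra.Basis.VectorSpace

set_option autoImplicit false
universe u
open CAlg

namespace Groth.Agent.S14371

open IsLocalRing Groth.Agent.EGA4Alg4 in

/-- Let R be a regular local ring of dimension n with maximal ideal m and residue field κ, and I, J
ideals of R such that R/I and R/J are regular local rings of dimensions a and b (two subvarieties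
smooth at the point). Suppose the quotient R/(I + J) is local with cotangent space m/(m² + I + J) of
dimension a + b − n over κ (the tangent spaces of the two subvarieties meet in the expected
dimension, i.e. they intersect transversally at the point). Then R/(I + J) is a regular local ring
of dimension a + b − n; in particular I + J is a prime ideal. (The published statement is about the
local rings of a smooth variety over an algebraically closed field at a point where two smooth
closed subvarieties meet transversally, and also states the resulting equalities of tangent spaces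
and of ideals; this row is the local-ring form, for an arbitrary regular local ring.) -/
theorem result {R : Type u} [CommRing R] [IsRegularLocalRing R]
    (I J : Ideal R) [IsRegularLocalRing (R ⧸ I)] [IsRegularLocalRing (R ⧸ J)] [IsLocalRing (R ⧸ (I ⊔ J))]
    (n a b : ℕ) (hn : ringKrullDim R = n) (ha : ringKrullDim (R ⧸ I) = a) (hb : ringKrullDim (R ⧸ J) = b)
    (ht : Module.finrank (IsLocalRing.ResidueField (R ⧸ (I ⊔ J))) (IsLocalRing.CotangentSpace (R ⧸ (I ⊔ J))) + n = a + b) :
    IsRegularLocalRing (R ⧸ (I ⊔ J)) ∧ ringKrullDim (R ⧸ (I ⊔ J)) = ((a + b - n : ℕ) : WithBot ℕ∞) := by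
  classical
  haveI : Nontrivial (R ⧸ I) := inferInstance
  have hIm : I ≤ maximalIdeal R := IsLocalRing.le_maximalIdeal (Ideal.Quotient.nontrivial_iff.1 ‹_›)
  have hJm : J ≤ maximalIdeal R := IsLocalRing.le_maximalIdeal (Ideal.Quotient.nontrivial_iff.1
    (inferInstance : Nontrivial (R ⧸ J)))
  let cot := (maximalIdeal R).toCotangent
  let W : Submodule (ResidueField R) (CotangentSpace R) :=
    Submodule.span _ (cot '' {y | (y : R) ∈ I})
  obtain ⟨t, htsub, htspan, htli⟩ := exists_linearIndependent (ResidueField R) (cot '' {y | (y : R) ∈ I})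
  haveI : Fintype t := @Fintype.ofFinite _ htli.finite
  let e := (Fintype.equivFin t).symm
  set r := Fintype.card t
  choose x hxI hx using fun i => htsub (e i).2
  let J' := Ideal.span (Set.range fun i => (x i : R))
  have hJ'I : J' ≤ I := Ideal.span_le.2 (Set.range_subset_iff.2 fun i => hxI i)
  have hli : LinearIndependent (ResidueField R) fun i => cot (x i) := by
    simp only [hx]
    exact htli.comp _ e.injective
  obtain ⟨hdim, hreg'⟩ := (regular_params_iff x).1.1 ⟨inferInstance, hli⟩
  have hprime := (regular_params_iff x).2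
  haveI : J'.IsPrime := hprime hreg' hdim
  -- `n ≤ r + a`
  have hra : n ≤ r + a := by
    obtain ⟨S, hcard, hS⟩ := Submodule.FG.exists_span_finset_card_eq_spanFinrank
      (maximalIdeal (R ⧸ I)).fg_of_isNoetherianRing
    have hSa : S.card = a := by
      have := IsRegularLocalRing.spanFinrank_maximalIdeal (R := R ⧸ I)
      rw [ha, ← hcard] at this; exact_mod_cast this
    choose z hz using fun q : S => Ideal.Quotient.mk_surjective (q : R ⧸ I)
    have hzm : ∀ q, z q ∈ maximalIdeal R := fun q hu => by
      have : (q : R ⧸ I) ∈ maximalIdeal (R ⧸ I) := hS ▸ Submodule.subset_span q.2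
      exact this (hz q ▸ hu.map _)
    let z' : S → maximalIdeal R := fun q => ⟨z q, hzm q⟩
    have htop : W ⊔ Submodule.span (ResidueField R) (Set.range (cot ∘ z')) = ⊤ := by
      rw [← Submodule.span_union, Set.range_comp, ← Set.image_union, ← span_eq_maximalIdeal_iff]
      refine le_antisymm (Ideal.span_le.2 (by rintro _ ⟨y, -, rfl⟩; exact y.2)) fun y hy => ?_
      rw [Set.image_union, Ideal.span_union]
      have h0 : Ideal.Quotient.mk I y ∈ (Ideal.span (Subtype.val '' Set.range z')).map (Ideal.Quotient.mk I) := by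
        rw [Ideal.map_span]
        have h1 : Ideal.Quotient.mk I y ∈ maximalIdeal (R ⧸ I) := by
          rw [maximalIdeal_quotient_eq (Ideal.Quotient.nontrivial_iff.1 ‹_›)]; exact Ideal.mem_map_of_mem _ hy
        rw [← hS] at h1
        refine Submodule.span_mono ?_ h1
        intro q hq
        exact ⟨z ⟨q, hq⟩, ⟨z' ⟨q, hq⟩, ⟨⟨q, hq⟩, rfl⟩, rfl⟩, hz ⟨q, hq⟩⟩
      obtain ⟨b, hb, hbe⟩ := (Ideal.mem_map_iff_of_surjective _ Ideal.Quotient.mk_surjective).1 h0
      refine Submodule.mem_sup.2 ⟨y - b, Ideal.subset_span
        (show y - b ∈ Subtype.val '' {w : maximalIdeal R | (w : R) ∈ I} from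
          ⟨⟨y - b, hIm (Ideal.Quotient.eq.1 hbe.symm)⟩, Ideal.Quotient.eq.1 hbe.symm, rfl⟩),
        b, hb, sub_add_cancel y b⟩
    have hW : Module.finrank (ResidueField R) W = r := by
      exact (congrArg (fun V : Submodule (ResidueField R) (CotangentSpace R) => Module.finrank (ResidueField R) V)
        htspan.symm).trans ((finrank_span_set_eq_card htli).trans (Set.toFinset_card _))
    have h1 := Submodule.finrank_add_le_finrank_add_finrank W (Submodule.span (ResidueField R) (Set.range (cot ∘ z')))
    rw [htop, finrank_top, hW] at h1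
    have h2 : Module.finrank (ResidueField R) (Submodule.span (ResidueField R) (Set.range (cot ∘ z'))) ≤ a := by
      refine (finrank_range_le_card _).trans ?_
      rw [Fintype.card_coe, hSa]
    have h3 : Module.finrank (ResidueField R) (CotangentSpace R) = n := by
      have := (IsRegularLocalRing.iff_finrank_cotangentSpace R).1 inferInstance
      rw [hn] at this; exact_mod_cast this
    rw [← h3]
    exact h1.trans (Nat.add_le_add_left h2 r)
  obtain ⟨e₀, he₀⟩ : ∃ e₀ : ℕ, ringKrullDim (R ⧸ J') = e₀ := by
    haveI := hreg'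
    exact ⟨_, (IsRegularLocalRing.spanFinrank_maximalIdeal (R := R ⧸ J')).symm⟩
  rw [he₀, hn] at hdim
  have hdim' : e₀ + r = n := by exact_mod_cast hdim
  have hea : a ≤ e₀ := by
    have := ringKrullDim_le_of_surjective (Ideal.Quotient.factor hJ'I) (Ideal.Quotient.factor_surjective hJ'I)
    rw [ha, he₀] at this; exact_mod_cast this
  have hIJ' : I = J' := by
    by_contra hne
    obtain ⟨y, hy, hy'⟩ := SetLike.exists_of_lt (hJ'I.lt_of_ne (Ne.symm hne))
    have := ringKrullDim_succ_le_of_surjective (Ideal.Quotient.factor hJ'I) (Ideal.Quotient.factor_surjective hJ'I)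
      (r := Ideal.Quotient.mk J' y) (mem_nonZeroDivisors_of_ne_zero fun h => hy' (Ideal.Quotient.eq_zero_iff_mem.1 h))
      (by rw [Ideal.Quotient.factor_mk, Ideal.Quotient.eq_zero_iff_mem]; exact hy)
    rw [ha, he₀] at this
    have : a + 1 ≤ e₀ := by exact_mod_cast this
    omega
  -- the intersection
  let I₂ := I.map (Ideal.Quotient.mk J)
  have hI₂ : I₂.spanFinrank ≤ r := by
    show (I.map (Ideal.Quotient.mk J)).spanFinrank ≤ r
    rw [hIJ', Ideal.map_span, ← Set.range_comp]
    refine (Submodule.spanFinrank_span_le_ncard_of_finite (Set.finite_range _)).trans ?_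
    rw [← Set.image_univ]
    exact (Set.ncard_image_le Set.finite_univ).trans (by simp [r])
  have hI₂m : I₂ ≤ Ring.jacobson (R ⧸ J) := by
    rw [IsLocalRing.ringJacobson_eq_maximalIdeal, maximalIdeal_quotient_eq (Ideal.Quotient.nontrivial_iff.1
      (inferInstance : Nontrivial (R ⧸ J)))]
    exact Ideal.map_mono hIm
  have hD := ringKrullDim_le_ringKrullDim_quotient_add_spanFinrank I₂ hI₂m
  rw [hb, ringKrullDim_eq_of_ringEquiv ((DoubleQuot.quotQuotEquivQuotSup J I).trans
    (Ideal.quotEquivOfEq (sup_comm J I)))] at hD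
  set q := Module.finrank (ResidueField (R ⧸ (I ⊔ J))) (CotangentSpace (R ⧸ (I ⊔ J)))
  obtain ⟨D, hDe⟩ : ∃ D : ℕ, ringKrullDim (R ⧸ (I ⊔ J)) = D := by
    obtain ⟨c, hc⟩ := WithBot.ne_bot_iff_exists.mp (ringKrullDim_ne_bot (R := R ⧸ (I ⊔ J)))
    obtain ⟨D, rfl⟩ := ENat.ne_top_iff_exists.mp
      (fun h : c = ⊤ => (ringKrullDim_lt_top (R := R ⧸ (I ⊔ J))).ne (by rw [← hc, h]; rfl))
    exact ⟨D, hc.symm⟩
  have hup : D ≤ q := by
    have := ringKrullDim_le_spanFinrank_maximalIdeal (R := R ⧸ (I ⊔ J))
    rw [hDe, spanFinrank_maximalIdeal_eq_finrank_cotangentSpace] at this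
    exact_mod_cast this
  rw [hDe] at hD
  have hlow : b ≤ D + I₂.spanFinrank := by exact_mod_cast hD
  refine ⟨(IsRegularLocalRing.iff_finrank_cotangentSpace _).2 ?_, ?_⟩
  · rw [hDe]; exact_mod_cast (by omega : q = D)
  · rw [hDe]; exact_mod_cast (by omega : D = a + b - n)

end Groth.Agent.S14371
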