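import Groth.Statements.S14372
import Groth.Agent.Ci77.Basic
import Mathlib.Algebra.MvPolynomial.PDeriv
import Mathlib.LinearAlgebra.Dual.Lemmas
import Mathlib.LinearAlgebra.FiniteDimensional.Lemmas
import Mathlib.Algebra.MvPolynomial.Funext
import Mathlib.RingTheory.MvPolynomial.EulerIdentity

set_option autoImplicit false
universe u
open Fano

namespace Groth.Agent.S14372

theorem pderiv_aeval {k : Type u} [CommSemiring k] {σ τ : Type*} [Fintype σ] (L : σ → MvPolynomial τ k) (j : τ)
    (f : MvPolynomial σ k) : MvPolynomial.pderiv j (MvPolynomial.aeval L f) =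
      ∑ l, MvPolynomial.aeval L (MvPolynomial.pderiv l f) * MvPolynomial.pderiv j (L l) := by
  classical
  induction f using MvPolynomial.induction_on with
  | C a => simp
  | add p q hp hq => simp only [map_add, hp, hq, add_mul, Finset.sum_add_distrib]
  | mul_X p i hp =>
    simp only [map_mul, MvPolynomial.aeval_X, MvPolynomial.pderiv_mul, hp, Finset.sum_mul, map_add,
      MvPolynomial.pderiv_X, add_mul, Finset.sum_add_distrib]
    congr 1
    · exact Finset.sum_congr rfl fun l _ => by ring
    · rw [Finset.sum_eq_single i]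
      · simp
      · intro l _ hl; simp [Pi.single_eq_of_ne hl, Pi.single_eq_of_ne (Ne.symm hl)]
      · intro h; exact absurd (Finset.mem_univ i) h

/-- Over an algebraically closed field k of arbitrary characteristic, let f be a homogeneous form of
degree d ≥ 2 in n + 1 variables and U a linear subspace of k^(n+1) on which f vanishes, such that at
every nonzero vector of U some partial derivative of f does not vanish (the hypersurface f = 0 in
P^n contains the r-plane P(U), r + 1 = dim U, and is smooth at every point of it). Then 2 · dim U ≤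
n + 1, i.e. r ≤ (n − 1)/2. (The published statement assumes the hypersurface smooth everywhere; this
row assumes smoothness only along P(U).) -/
theorem result (k : Type u) [Field k] [IsAlgClosed k]
    (n d : ℕ) (hd : 2 ≤ d) (f : MvPolynomial (Fin (n + 1)) k) (hf : f.IsHomogeneous d)
    (U : Submodule k (Fin (n + 1) → k)) (hU : ∀ u ∈ U, MvPolynomial.eval u f = 0)
    (hsm : ∀ u ∈ U, u ≠ 0 → ∃ i : Fin (n + 1), MvPolynomial.eval u (MvPolynomial.pderiv i f) ≠ 0) :
    2 * Module.finrank k ↥U ≤ n + 1 := by
  classical
  set s := Module.finrank k ↥U with hs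
  by_contra hlt
  obtain ⟨W, hW⟩ := Submodule.exists_isCompl U
  set t := Module.finrank k ↥W with ht
  have hst : s + t = n + 1 := by
    rw [hs, ht, Submodule.finrank_add_eq_of_isCompl hW, Module.finrank_fintype_fun_eq_card, Fintype.card_fin]
  let b := Module.finBasis k ↥U
  let c := Module.finBasis k ↥W
  let L : Fin (n + 1) → MvPolynomial (Fin s) k := fun l => ∑ j, MvPolynomial.C ((b j).1 l) * MvPolynomial.X j
  let pt : (Fin s → k) → (Fin (n + 1) → k) := fun x => (∑ j, x j • b j : ↥U).1
  have hev : ∀ (x : Fin s → k) (g : MvPolynomial (Fin (n + 1)) k),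
      MvPolynomial.eval x (MvPolynomial.aeval L g) = MvPolynomial.eval (pt x) g := by
    intro x g
    induction g using MvPolynomial.induction_on with
    | C a => simp
    | add p q hp hq => simp only [map_add, hp, hq]
    | mul_X p i hp =>
      simp only [map_mul, hp, MvPolynomial.aeval_X, MvPolynomial.eval_X]
      congr 1
      simp [L, pt, Finset.sum_apply, mul_comm]
      try rfl
  have hzero : MvPolynomial.aeval L f = 0 := MvPolynomial.funext fun x => by
    rw [hev, map_zero]; exact hU _ (∑ j, x j • b j : ↥U).2
  let g : Fin t → MvPolynomial (Fin s) k := fun i =>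
    ∑ l, MvPolynomial.C ((c i).1 l) * MvPolynomial.aeval L (MvPolynomial.pderiv l f)
  obtain ⟨x, hx0, hx⟩ := Groth.Agent.Ci77.exists_common_zero g (fun i => by
    simp only [g, map_sum, map_mul, hev]
    refine Finset.sum_eq_zero fun l _ => ?_
    have hpt : pt 0 = 0 := by simp [pt]
    simp only [hpt, MvPolynomial.eval_zero, MvPolynomial.eval_C, MvPolynomial.constantCoeff_C]
    rw [MvPolynomial.constantCoeff_eq,
      (hf.pderiv (i := l)).coeff_eq_zero (by simp; omega), mul_zero]) (show t < s by omega)
  let u : ↥U := ∑ j, x j • b j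
  have hu0 : u ≠ 0 := fun h => hx0 (funext fun j => Fintype.linearIndependent_iff.mp b.linearIndependent x h j)
  obtain ⟨l₀, hl₀⟩ := hsm u.1 u.2 (fun h => hu0 (Subtype.ext h))
  apply hl₀
  let Φ : (Fin (n + 1) → k) →ₗ[k] k :=
    { toFun := fun v => ∑ l, v l * MvPolynomial.eval u.1 (MvPolynomial.pderiv l f)
      map_add' := fun v w => by simp [add_mul, Finset.sum_add_distrib]
      map_smul' := fun a v => by simp [Finset.mul_sum, mul_assoc] }
  have hΦU : ∀ j, Φ (b j).1 = 0 := fun j => by
    have := congrArg (MvPolynomial.eval x) (pderiv_aeval L j f)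
    rw [hzero, map_zero, map_zero, map_sum] at this
    refine Eq.trans ?_ this.symm
    show ∑ l, (b j).1 l * MvPolynomial.eval u.1 (MvPolynomial.pderiv l f) = _
    refine Finset.sum_congr rfl fun l _ => ?_
    rw [map_mul, hev, mul_comm]
    congr 1
    simp [L, MvPolynomial.pderiv_X, Pi.single_apply]
  have hΦW : ∀ i, Φ (c i).1 = 0 := fun i => by
    refine Eq.trans ?_ (hx i)
    simp only [g, map_sum, map_mul, hev, MvPolynomial.eval_C]
    rfl
  have hΦ : Φ = 0 := by
    refine LinearMap.ext fun v => ?_
    obtain ⟨p, hp, q, hq, rfl⟩ := Submodule.mem_sup.mp (hW.sup_eq_top ▸ Submodule.mem_top (x := v))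
    have h1 : Φ.comp U.subtype = 0 := b.ext fun j => hΦU j
    have h2 : Φ.comp W.subtype = 0 := c.ext fun i => hΦW i
    rw [map_add, show Φ p = 0 from LinearMap.congr_fun h1 ⟨p, hp⟩, show Φ q = 0 from LinearMap.congr_fun h2 ⟨q, hq⟩,
      add_zero, LinearMap.zero_apply]
  have := LinearMap.congr_fun hΦ (Pi.single l₀ 1)
  simpa [Φ, Pi.single_apply] using this

end Groth.Agent.S14372
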