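import Groth.Statements.S14375
import Groth.Agent.Grp57.Prod
import Mathlib.AlgebraicGeometry.Morphisms.UnderlyingMap

set_option autoImplicit false
universe u
open CategoryTheory CategoryTheory.Limits AlgebraicGeometry
open Variety

namespace Groth.Agent.S14375

/-- Let k be an algebraically closed field, F an irreducible scheme of finite type over k, and f : X → Y
a k-morphism of schemes of finite type over k with Y irreducible which is locally trivial with fibre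
F: every point of Y has an open neighbourhood V such that f⁻¹(V) is isomorphic over V to V ×_k F.
Then X is irreducible. (The published statement is for varieties, i.e. reduced separated schemes;
this row assumes neither.) -/
theorem result (k : Type u) [Field k] [IsAlgClosed k]
    {X Y F : Scheme.{u}} (qX : X ⟶ Spec (CommRingCat.of k)) (qY : Y ⟶ Spec (CommRingCat.of k))
    (qF : F ⟶ Spec (CommRingCat.of k))
    [LocallyOfFiniteType qX] [QuasiCompact qX] [LocallyOfFiniteType qY] [QuasiCompact qY]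
    [LocallyOfFiniteType qF] [QuasiCompact qF] [IrreducibleSpace ↥F] [IrreducibleSpace ↥Y]
    (f : X ⟶ Y) (hf : f ≫ qY = qX)
    (htriv : ∀ y : ↥Y, ∃ V : Y.Opens, y ∈ V ∧
      ∃ e : (↑(f ⁻¹ᵁ V) : Scheme.{u}) ≅ pullback (V.ι ≫ qY) qF, e.hom ≫ pullback.fst (V.ι ≫ qY) qF = f ∣_ V) :
    IrreducibleSpace ↥X := by
  have : Nonempty F := inferInstance
  have hsF : Surjective qF := ⟨fun p => ⟨Classical.arbitrary F, Subsingleton.elim (α := PrimeSpectrum k) _ _⟩⟩
  choose V hV e he using htriv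
  have hirr : ∀ y, IsIrreducible (f.base ⁻¹' (V y : Set Y)) := by
    intro y
    have hVi : IsIrreducible (Set.univ : Set (V y)) := by
      refine ⟨⟨⟨y, hV y⟩, trivial⟩, fun U U' hU hU' hUne hU'ne => ?_⟩
      obtain ⟨O, hO, rfl⟩ := isOpen_induced_iff.1 hU
      obtain ⟨O', hO', rfl⟩ := isOpen_induced_iff.1 hU'
      obtain ⟨z, -, hz⟩ := hUne
      obtain ⟨w, -, hw⟩ := hU'ne
      obtain ⟨t, -, ⟨ht, ht'⟩, htV⟩ := (IrreducibleSpace.isIrreducible_univ Y).2 (O ∩ O') (V y)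
        (hO.inter hO') (V y).2 (by
          obtain ⟨t, -, ht⟩ := (IrreducibleSpace.isIrreducible_univ Y).2 O O' hO hO' ⟨z.1, trivial, hz⟩ ⟨w.1, trivial, hw⟩
          exact ⟨t, trivial, ht⟩) ⟨y, trivial, hV y⟩
      exact ⟨⟨t, htV⟩, trivial, ht, ht'⟩
    have hP := Groth.Agent.Grp57.isIrreducible_prod ((V y).ι ≫ qY) qF hVi
      (IrreducibleSpace.isIrreducible_univ F) isClosed_univ
    have hU : IsIrreducible (Set.univ : Set ↥(pullback ((V y).ι ≫ qY) qF)) := by simpa using hP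
    have h2 := hU.image (fun z => (f ⁻¹ᵁ V y).ι ((e y).inv z))
      ((f ⁻¹ᵁ V y).ι.continuous.comp (e y).inv.continuous).continuousOn
    convert h2 using 1
    ext x
    constructor
    · intro hx
      refine ⟨(e y).hom ⟨x, hx⟩, trivial, ?_⟩
      have h : ∀ w : (f ⁻¹ᵁ V y).toScheme, (e y).inv ((e y).hom w) = w := fun w => by
        rw [← Scheme.Hom.comp_apply (e y).hom, Iso.hom_inv_id]
        rfl
      exact congrArg (f ⁻¹ᵁ V y).ι (h ⟨x, hx⟩)
    · rintro ⟨z, -, rfl⟩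
      exact ((e y).inv z).2
  have hmeet : ∀ y y', (f.base ⁻¹' ((V y : Set Y) ∩ V y')).Nonempty := by
    intro y y'
    obtain ⟨t, -, ht, ht'⟩ := (IrreducibleSpace.isIrreducible_univ Y).2 (V y) (V y') (V y).2 (V y').2
      ⟨y, trivial, hV y⟩ ⟨y', trivial, hV y'⟩
    obtain ⟨z, hz⟩ := (pullback.fst ((V y).ι ≫ qY) qF).surjective ⟨t, ht⟩
    refine ⟨(f ⁻¹ᵁ V y).ι ((e y).inv z), ?_⟩
    have h1 : (f ∣_ V y) ((e y).inv z) = ⟨t, ht⟩ := by
      rw [← Scheme.Hom.comp_apply, ← he y, Iso.inv_hom_id_assoc]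
      exact hz
    have h2 := congr((V y).ι $h1)
    rw [← Scheme.Hom.comp_apply, morphismRestrict_ι, Scheme.Hom.comp_apply] at h2
    show f _ ∈ (V y : Set Y) ∩ V y'
    rw [h2]
    exact ⟨ht, ht'⟩
  obtain ⟨y₀⟩ := (inferInstance : Nonempty Y)
  refine (irreducibleSpace_def X).2 (show IsIrreducible (Set.univ : Set X) from ⟨?_, ?_⟩)
  · obtain ⟨x, -⟩ := (hirr y₀).1
    exact ⟨x, trivial⟩
  rintro U W hU hW ⟨a, -, ha⟩ ⟨b, -, hb⟩
  have hopen : ∀ y, IsOpen (f.base ⁻¹' (V y : Set Y)) := fun y => (V y).2.preimage f.continuous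
  obtain ⟨c, hc1, hc2, hc3⟩ := (hirr (f a)).2 U (f.base ⁻¹' (V (f b) : Set Y)) hU (hopen _)
    ⟨a, hV (f a), ha⟩ (by obtain ⟨x, hx⟩ := hmeet (f a) (f b); exact ⟨x, hx.1, hx.2⟩)
  obtain ⟨d, -, ⟨hd, -⟩, hd'⟩ := (hirr (f b)).2 (U ∩ f.base ⁻¹' (V (f a) : Set Y)) W (hU.inter (hopen _)) hW
    ⟨c, hc3, hc2, hc1⟩ ⟨b, hV (f b), hb⟩
  exact ⟨d, trivial, hd, hd'⟩

end Groth.Agent.S14375
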