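import Groth.Statements.S14379
import Groth.Agent.CAlg7.ValNorm
import Mathlib.RingTheory.FiniteType
import Mathlib.RingTheory.TensorProduct.MvPolynomial
import Mathlib.RingTheory.TensorProduct.Finite

set_option autoImplicit false
open scoped TensorProduct
universe u
open CAlg

namespace Groth.Agent.S14379

open TensorProduct
open Groth.Agent.CAlg7

variable {V : Type u} [CommRing V] (F : Type u) [Field F] [Algebra V F] {R : Type u} [CommRing R] [Algebra V R]

theorem gen_tensor {m : ℕ} (r : Fin m → R) (hr : Function.Surjective (MvPolynomial.aeval r : MvPolynomial (Fin m) V →ₐ[V] R))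
    (N : ℕ) (hN : 1 ≤ N) : ValNorm.Gen (F := F) fun j => (1 : F) ⊗ₜ[V] (r j ^ N) := by
  have hs : Function.Surjective (MvPolynomial.aeval (fun j => (1 : F) ⊗ₜ[V] r j) : MvPolynomial (Fin m) F →ₐ[F] F ⊗[V] R) := by
    intro z
    induction z using TensorProduct.induction_on with
    | zero => exact ⟨0, map_zero _⟩
    | add a b ha hb => obtain ⟨a, rfl⟩ := ha; obtain ⟨b, rfl⟩ := hb; exact ⟨a + b, map_add _ _ _⟩
    | tmul c x =>
      obtain ⟨p, rfl⟩ := hr x
      refine ⟨MvPolynomial.C c * MvPolynomial.map (algebraMap V F) p, ?_⟩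
      rw [map_mul, MvPolynomial.aeval_C]
      induction p using MvPolynomial.induction_on generalizing c with
      | C v =>
        simp [Algebra.algebraMap_eq_smul_one]
        rw [Algebra.TensorProduct.one_def, TensorProduct.smul_tmul', TensorProduct.smul_tmul']
        congr 1
        simp [mul_comm]
      | add p q hp hq => simp only [map_add, mul_add, hp, hq, tmul_add]
      | mul_X p i hp =>
        rw [map_mul, map_mul, MvPolynomial.map_X, MvPolynomial.aeval_X, ← mul_assoc, hp, map_mul, MvPolynomial.aeval_X,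
          Algebra.TensorProduct.tmul_mul_tmul, mul_one]
  refine ValNorm.gen_of_val _ _ (RingHom.isIntegral_of_surjective _ hs) fun L _ φ O hF h j => ?_
  have h1 := h j
  rw [show (1 : F) ⊗ₜ[V] (r j ^ N) = ((1 : F) ⊗ₜ[V] r j) ^ N by rw [Algebra.TensorProduct.tmul_pow, one_pow], map_pow,
    ← O.valuation_le_one_iff, map_pow, pow_le_one_iff (by omega)] at h1
  exact (O.valuation_le_one_iff _).mp h1

/-- Let V be a discrete valuation ring with residue field k and fraction field K, let R be a flat
V-algebra of finite type such that both fibre rings k ⊗_V R and K ⊗_V R have Krull dimension at most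
d, let x_1, …, x_d be elements of R and let N ≥ 1 be an integer. Then there are elements y_1, …, y_d
of the subring of R generated by the N-th powers of elements of R such that, setting f_i = x_i +
y_i, the fibre ring k ⊗_V R is finite over the polynomial ring k[T_1, …, T_d] via T_i ↦ 1 ⊗ f_i and
K ⊗_V R is finite over K[T_1, …, T_d] via T_i ↦ 1 ⊗ f_i; in other words the morphism (f_1, …, f_d)
to affine d-space over V is finite on both fibres. -/
theorem result (V : Type u) [CommRing V] [IsDomain V]
    [IsDiscreteValuationRing V] (R : Type u) [CommRing R] [Algebra V R] [Module.Flat V R]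
    [Algebra.FiniteType V R] (d : ℕ)
    (hs : ringKrullDim (IsLocalRing.ResidueField V ⊗[V] R) ≤ d)
    (hη : ringKrullDim (FractionRing V ⊗[V] R) ≤ d)
    (x : Fin d → R) (N : ℕ) (hN : 1 ≤ N) :
    ∃ y : Fin d → R, (∀ i, y i ∈ Subring.closure (Set.range fun r : R => r ^ N)) ∧
      (MvPolynomial.aeval (fun i => (1 : IsLocalRing.ResidueField V) ⊗ₜ[V] (x i + y i)) :
          MvPolynomial (Fin d) (IsLocalRing.ResidueField V) →ₐ[IsLocalRing.ResidueField V]
            IsLocalRing.ResidueField V ⊗[V] R).toRingHom.Finite ∧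
      (MvPolynomial.aeval (fun i => (1 : FractionRing V) ⊗ₜ[V] (x i + y i)) :
          MvPolynomial (Fin d) (FractionRing V) →ₐ[FractionRing V] FractionRing V ⊗[V] R).toRingHom.Finite := by
  classical
  obtain ⟨m, r, hr⟩ := Algebra.FiniteType.iff_quotient_mvPolynomial''.mp ‹Algebra.FiniteType V R›
  rw [MvPolynomial.aeval_unique r] at hr
  let S : Subring R := Subring.closure (Set.range fun t : R => t ^ N)
  let β : R →+* IsLocalRing.ResidueField V ⊗[V] R := (Algebra.TensorProduct.includeRight : R →ₐ[V] _).toRingHom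
  let γ : R →+* FractionRing V ⊗[V] R := (Algebra.TensorProduct.includeRight : R →ₐ[V] _).toRingHom
  obtain ⟨w, hwS, hwB, hwC⟩ := ValNorm.exists_params (F := IsLocalRing.ResidueField V) (G := FractionRing V) β γ d hs hη S m
    (fun j => (r (MvPolynomial.X j)) ^ N) (fun j => Subring.subset_closure ⟨_, rfl⟩)
    (gen_tensor _ _ hr N hN) (gen_tensor _ _ hr N hN)
  obtain ⟨M₁, hM₁⟩ := ValNorm.perturb (fun i => β (x i)) _ hwB
  obtain ⟨M₂, hM₂⟩ := ValNorm.perturb (fun i => γ (x i)) _ hwC
  refine ⟨fun i => w i ^ (M₁ + M₂), fun i => pow_mem (hwS i) _, ?_, ?_⟩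
  · refine RingHom.IsIntegral.to_finite ?_ (RingHom.FiniteType.of_comp_finiteType (f := MvPolynomial.C) ?_)
    · have h := hM₁ (M₁ + M₂) (by omega)
      have e : (fun i => β (x i) + β (w i) ^ (M₁ + M₂)) = fun i => (1 : IsLocalRing.ResidueField V) ⊗ₜ[V] (x i + w i ^ (M₁ + M₂)) :=
        funext fun i => by rw [← map_pow, ← map_add]; rfl
      rw [e] at h
      exact h
    · show RingHom.FiniteType _
      rw [← MvPolynomial.algebraMap_eq, AlgHom.toRingHom_eq_coe, AlgHom.comp_algebraMap]
      exact RingHom.finiteType_algebraMap.mpr inferInstance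
  · refine RingHom.IsIntegral.to_finite ?_ (RingHom.FiniteType.of_comp_finiteType (f := MvPolynomial.C) ?_)
    · have h := hM₂ (M₁ + M₂) (by omega)
      have e : (fun i => γ (x i) + γ (w i) ^ (M₁ + M₂)) = fun i => (1 : FractionRing V) ⊗ₜ[V] (x i + w i ^ (M₁ + M₂)) :=
        funext fun i => by rw [← map_pow, ← map_add]; rfl
      rw [e] at h
      exact h
    · show RingHom.FiniteType _
      rw [← MvPolynomial.algebraMap_eq, AlgHom.toRingHom_eq_coe, AlgHom.comp_algebraMap]
      exact RingHom.finiteType_algebraMap.mpr inferInstance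

end Groth.Agent.S14379
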