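import Groth.Statements.S1438


set_option autoImplicit false
universe u
open FlatMor

namespace Groth.Agent.S1438

open AlgebraicGeometry CategoryTheory Limits in
/-- A separated scheme with an open covering by n + 1 affine opens has affine stratification number at
most n: it admits an affine stratification with index set {0, …, n}. -/
theorem result (X : Scheme.{u}) [X.IsSeparated] (n : ℕ) (U : Fin (n + 1) → X.Opens)
    (hU : ∀ i, IsAffineOpen (U i)) (hcov : ⨆ i, U i = ⊤) :
    MoreMor.HasAffineStratification X n := by
  classical
  have hex : ∀ x : X, ∃ i, x ∈ U i := fun x => by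
    have h : x ∈ (⨆ i, U i) := hcov ▸ trivial
    simpa using h
  let m : X → Fin (n + 1) := fun x => Fin.find _ (hex x)
  refine ⟨fun x => Fin.rev (m x), fun i => ?_, fun i => ?_⟩
  · have e : {x : X | Fin.rev (m x) ≤ i} = (⋃ k < Fin.rev i, (U k : Set X))ᶜ := by
      ext x
      rw [Set.mem_setOf_eq, Fin.rev_le_iff, Fin.le_find_iff]
      simp
    rw [e]
    exact (isOpen_biUnion fun k _ => (U k).2).isClosed_compl
  let j := Fin.rev i
  let C : TopologicalSpace.Closeds X := ⟨(⋃ k < j, (U k : Set X))ᶜ, (isOpen_biUnion fun k _ => (U k).2).isClosed_compl⟩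
  let iC := (Scheme.IdealSheafData.vanishingIdeal C).subschemeι
  have : IsAffine (U j).toScheme := hU j
  have : IsAffine (pullback iC (U j).ι) := isAffine_of_isAffineHom (pullback.snd iC (U j).ι)
  refine ⟨pullback iC (U j).ι, pullback.fst iC (U j).ι ≫ iC, inferInstance, inferInstance, ?_, ?_⟩
  · exact MorphismProperty.of_postcomp (W := @IsAffineHom) (W' := @IsSeparated) _ (terminal.from X)
      inferInstance (by rw [terminal.comp_from]; infer_instance)
  · rw [Scheme.Pullback.range_fst_comp, Scheme.Opens.range_ι,
      show Set.range iC = (C : Set X) by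
        rw [Scheme.IdealSheafData.range_subschemeι, Scheme.IdealSheafData.coe_support_vanishingIdeal]]
    ext x
    rw [Set.mem_setOf_eq, Fin.rev_eq_iff, Fin.find_eq_iff]
    simp [C, j, and_comm]

end Groth.Agent.S1438
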