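import Groth.Statements.S14383
import Groth.Agent.CAlg7.EtaleOfRank
import Mathlib.RingTheory.RingHom.Etale
import Mathlib.RingTheory.DiscreteValuationRing.Basic
import Mathlib.RingTheory.Nakayama
import Mathlib.RingTheory.Localization.FractionRing
import Mathlib.RingTheory.FinitePresentation

set_option autoImplicit false
open scoped TensorProduct
open AlgebraicGeometry
universe u
open CAlg

namespace Groth.Agent.S14383

open TensorProduct KaehlerDifferential

theorem nat_eq_pow {V : Type u} [CommRing V] [IsDomain V] [IsDiscreteValuationRing V] [CharZero V] {ϖ : V}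
    (hϖ : Irreducible ϖ) (p : ℕ) [Fact p.Prime] [CharP (IsLocalRing.ResidueField V) p] :
    ∃ (e : ℕ) (u : Vˣ), 0 < e ∧ (p : V) = u * ϖ ^ e := by
  obtain ⟨e, u, he⟩ := IsDiscreteValuationRing.eq_unit_mul_pow_irreducible
    (show (p : V) ≠ 0 by exact_mod_cast (Fact.out : p.Prime).ne_zero) hϖ
  refine ⟨e, u, Nat.pos_of_ne_zero fun h0 => ?_, he⟩
  have hm : (p : V) ∈ IsLocalRing.maximalIdeal V := by
    rw [← IsLocalRing.residue_eq_zero_iff, map_natCast, CharP.cast_eq_zero]
  rw [he, h0, pow_zero, mul_one] at hm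
  exact hm u.isUnit

theorem part1 {A R : Type u} [CommRing A] [CommRing R] [Algebra A R] [Algebra.EssFiniteType A R]
    (a w q : R) (e : ℕ) (he : 0 < e) (hq : ∃ u, q = u * w ^ e) (ha : Ideal.span {a} ⊔ Ideal.span {w} = ⊤)
    (het : ((algebraMap R (Localization.Away (a * w))).comp (algebraMap A R)).Etale) :
    ∃ n : ℕ, Ideal.span {q ^ n} • (⊤ : Submodule R (Ω[R⁄A])) ≤ Ideal.span {w * q ^ n} • (⊤ : Submodule R (Ω[R⁄A])) := by
  classical
  let L := Localization.Away (a * w)
  rw [← IsScalarTower.algebraMap_eq, RingHom.etale_algebraMap] at het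
  haveI := het
  haveI : Algebra.FormallyEtale R L := Algebra.FormallyEtale.of_isLocalization (Submonoid.powers (a * w))
  haveI hsub : Subsingleton (L ⊗[R] Ω[R⁄A]) :=
    (KaehlerDifferential.tensorKaehlerEquivOfFormallyEtale A R L).toEquiv.subsingleton
  have hker : ∀ ω : Ω[R⁄A], ∃ N : ℕ, (a * w) ^ N • ω = 0 := fun ω => by
    obtain ⟨⟨_, N, rfl⟩, hN⟩ := (IsLocalizedModule.eq_zero_iff (Submonoid.powers (a * w))
      (TensorProduct.mk R L (Ω[R⁄A]) 1)).mp (Subsingleton.elim _ 0 : TensorProduct.mk R L (Ω[R⁄A]) 1 ω = 0)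
    exact ⟨N, hN⟩
  obtain ⟨s, hs⟩ := Module.Finite.fg_top (R := R) (M := Ω[R⁄A])
  choose N hN using hker
  let n := ∑ ω ∈ s, N ω
  have hall : ∀ ω : Ω[R⁄A], (a * w) ^ n • ω = 0 := fun ω => by
    have hmem : ω ∈ Submodule.span R (s : Set (Ω[R⁄A])) := hs ▸ Submodule.mem_top
    induction hmem using Submodule.span_induction with
    | mem x hx =>
      rw [show n = (n - N x) + N x from (Nat.sub_add_cancel (Finset.single_le_sum (fun i _ => Nat.zero_le _) hx)).symm,
        pow_add, mul_smul, hN, smul_zero]
    | zero => exact smul_zero _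
    | add x y _ _ hx hy => rw [smul_add, hx, hy, add_zero]
    | smul c x _ hx => rw [smul_comm, hx, smul_zero]
  refine ⟨n, Submodule.smul_le.mpr fun r hr ω _ => ?_⟩
  obtain ⟨r, rfl⟩ := Ideal.mem_span_singleton'.mp hr
  have h1 : IsCoprime (a ^ n) w :=
    ((Ideal.isCoprime_span_singleton_iff a w).mp (Ideal.isCoprime_iff_sup_eq.mpr ha)).pow_left
  obtain ⟨c, d, hcd⟩ := h1
  obtain ⟨u, rfl⟩ := hq
  have hz : ((u * w ^ e) ^ n * a ^ n) • ω = 0 := by
    rw [show (u * w ^ e) ^ n * a ^ n = (u ^ n * w ^ ((e - 1) * n)) * (a * w) ^ n by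
      rw [mul_pow, mul_pow a w, ← pow_mul, show e * n = (e - 1) * n + n by
        obtain ⟨e', rfl⟩ := Nat.exists_eq_succ_of_ne_zero he.ne'
        simp [Nat.succ_mul], pow_add]
      ring, mul_smul, hall, smul_zero]
  have key : (r * (u * w ^ e) ^ n) • ω = (d * r) • ((w * (u * w ^ e) ^ n) • ω) := by
    calc (r * (u * w ^ e) ^ n) • ω = ((c * a ^ n + d * w) * (r * (u * w ^ e) ^ n)) • ω := by rw [hcd, one_mul]
      _ = (c * r) • (((u * w ^ e) ^ n * a ^ n) • ω) + (d * r) • ((w * (u * w ^ e) ^ n) • ω) := by
        rw [← mul_smul, ← mul_smul, ← add_smul]; ring_nf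
      _ = _ := by rw [hz, smul_zero, zero_add]
  rw [key]
  exact Submodule.smul_mem _ _ (Submodule.smul_mem_smul (Ideal.mem_span_singleton_self _) Submodule.mem_top)

attribute [local instance] Algebra.TensorProduct.rightAlgebra in
theorem part2 {V : Type u} [CommRing V] [IsDomain V] [IsDiscreteValuationRing V] [IsNoetherianRing V]
    {ϖ : V} (hϖ : Irreducible ϖ) (A : Type u) [CommRing A] [Algebra V A] [Algebra.FiniteType V A]
    (R : Type u) [CommRing R] [Algebra V R] [Algebra.FiniteType V R] [Algebra A R] [IsScalarTower V A R]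
    (q : V) (hq : q ≠ 0) (d : ℕ)
    (hA : AlgebraicGeometry.SmoothOfRelativeDimension d
        (Spec.map (CommRingCat.ofHom (algebraMap (FractionRing V) (FractionRing V ⊗[V] A)))))
    (hR : AlgebraicGeometry.SmoothOfRelativeDimension d
        (Spec.map (CommRingCat.ofHom (algebraMap (FractionRing V) (FractionRing V ⊗[V] R)))))
    (n : ℕ) (hle : Ideal.span {algebraMap V R q ^ n} • (⊤ : Submodule R (Ω[R⁄A])) ≤
      Ideal.span {algebraMap V R ϖ * algebraMap V R q ^ n} • (⊤ : Submodule R (Ω[R⁄A]))) :
    ∃ a : R, Ideal.span {a} ⊔ Ideal.span {algebraMap V R ϖ} = ⊤ ∧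
        ((algebraMap R (Localization.Away (a * algebraMap V R ϖ))).comp (algebraMap A R)).Etale := by
  classical
  let K := FractionRing V
  let w := algebraMap V R ϖ
  haveI : Algebra.EssFiniteType A R := Algebra.EssFiniteType.of_comp V A R
  let N : Submodule R (Ω[R⁄A]) := Ideal.span {algebraMap V R q ^ n} • ⊤
  have hfg : N.FG := Submodule.FG.smul (Submodule.fg_span_singleton _) Module.Finite.fg_top
  have hNN : N ≤ Ideal.span {w} • N := hle.trans (le_of_eq (by
    rw [← Submodule.mul_smul, Ideal.span_singleton_mul_span_singleton]))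
  obtain ⟨a, ha1, ha2⟩ := Submodule.exists_sub_one_mem_and_smul_eq_zero_of_fg_of_le_smul _ N hfg hNN
  refine ⟨a, ?_, ?_⟩
  · rw [Ideal.eq_top_iff_one]
    obtain ⟨b, hb⟩ := Ideal.mem_span_singleton'.mp ha1
    rw [show (1 : R) = a + -(b * w) by rw [hb]; ring]
    exact Submodule.add_mem_sup (Ideal.mem_span_singleton_self _)
      (neg_mem (Ideal.mul_mem_left _ _ (Ideal.mem_span_singleton_self _)))
  let T := Localization.Away (a * w)
  rw [← IsScalarTower.algebraMap_eq, RingHom.etale_algebraMap]
  have hu : IsUnit (algebraMap R T a) ∧ IsUnit (algebraMap R T w) :=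
    IsUnit.mul_iff.mp (map_mul (algebraMap R T) a w ▸ IsLocalization.Away.algebraMap_isUnit (a * w))
  have hunit : ∀ v : nonZeroDivisors V, IsUnit (algebraMap V T v) := fun ⟨v, hv⟩ => by
    obtain ⟨k, u, rfl⟩ := IsDiscreteValuationRing.eq_unit_mul_pow_irreducible (nonZeroDivisors.ne_zero hv) hϖ
    rw [map_mul, map_pow, IsScalarTower.algebraMap_apply V R T ϖ]
    exact (u.isUnit.map _).mul (hu.2.pow _)
  let KT : K →+* T := IsLocalization.lift hunit
  letI : Algebra K T := KT.toAlgebra
  haveI : IsScalarTower V K T := IsScalarTower.of_algebraMap_eq fun v => (IsLocalization.lift_eq hunit v).symm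
  let K' := Algebra.ofId K T
  let gA : K ⊗[V] A →ₐ[K] T := Algebra.TensorProduct.lift K' (IsScalarTower.toAlgHom V A T) (fun x y => Commute.all _ _)
  let gR : K ⊗[V] R →ₐ[K] T := Algebra.TensorProduct.lift K' (IsScalarTower.toAlgHom V R T) (fun x y => Commute.all _ _)
  letI := gA.toRingHom.toAlgebra
  letI := gR.toRingHom.toAlgebra
  haveI : IsScalarTower K (K ⊗[V] A) T := IsScalarTower.of_algebraMap_eq fun x => (gA.commutes x).symm
  haveI : IsScalarTower K (K ⊗[V] R) T := IsScalarTower.of_algebraMap_eq fun x => (gR.commutes x).symm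
  haveI : IsScalarTower A (K ⊗[V] A) T := IsScalarTower.of_algebraMap_eq fun x => by
    show algebraMap A T x = gA ((1 : K) ⊗ₜ x)
    simp [gA]
  haveI : IsScalarTower R (K ⊗[V] R) T := IsScalarTower.of_algebraMap_eq fun x => by
    show algebraMap R T x = gR ((1 : K) ⊗ₜ x)
    simp [gR]
  haveI : Algebra.FormallyEtale V K := Algebra.FormallyEtale.of_isLocalization (nonZeroDivisors V)
  haveI hEA : Algebra.FormallyEtale A (K ⊗[V] A) :=
    Algebra.FormallyEtale.of_equiv ({ Algebra.TensorProduct.comm V A K with commutes' := fun x => rfl } : (A ⊗[V] K) ≃ₐ[A] K ⊗[V] A)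
  haveI hER : Algebra.FormallyEtale R (K ⊗[V] R) :=
    Algebra.FormallyEtale.of_equiv ({ Algebra.TensorProduct.comm V R K with commutes' := fun x => rfl } : (R ⊗[V] K) ≃ₐ[R] K ⊗[V] R)
  haveI : Algebra.FormallyEtale R T := Algebra.FormallyEtale.of_isLocalization (Submonoid.powers (a * w))
  haveI : Algebra.FormallyEtale (K ⊗[V] R) T := Algebra.FormallyEtale.of_restrictScalars (R := R)
  -- smoothness over K
  rw [HasRingHomProperty.Spec_iff (P := @AlgebraicGeometry.SmoothOfRelativeDimension d)] at hA hR
  have hA' := hA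
  have hR' := hR
  have hsmA : (algebraMap K (K ⊗[V] A)).Smooth := RingHom.smooth_iff_locally_isStandardSmooth.mpr
    (RingHom.locally_of_locally (fun h => h.isStandardSmooth) hA')
  have hsmR : (algebraMap K (K ⊗[V] R)).Smooth := RingHom.smooth_iff_locally_isStandardSmooth.mpr
    (RingHom.locally_of_locally (fun h => h.isStandardSmooth) hR')
  rw [RingHom.smooth_algebraMap] at hsmA hsmR
  haveI := hsmA
  haveI := hsmR
  haveI : Algebra.FormallySmooth K T := Algebra.FormallySmooth.comp K (K ⊗[V] R) T
  haveI : Algebra.FiniteType V T := Algebra.FiniteType.trans (S := R) inferInstance inferInstance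
  haveI : Algebra.FiniteType K T := Algebra.FiniteType.of_restrictScalars_finiteType V K T
  have rA : ∀ p : PrimeSpectrum (K ⊗[V] A), Module.rankAtStalk (Ω[(K ⊗[V] A)⁄K]) p = d :=
    CAlg7.rankAtStalk_kaehler_of_locally hA'
  have rT : ∀ p : PrimeSpectrum T, Module.rankAtStalk (Ω[T⁄K]) p = d := fun p => by
    rw [← Module.rankAtStalk_eq_of_equiv (KaehlerDifferential.tensorKaehlerEquivOfFormallyEtale K (K ⊗[V] R) T),
      Module.rankAtStalk_baseChange]
    exact CAlg7.rankAtStalk_kaehler_of_locally hR' _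
  -- unramified
  haveI hΩ : Subsingleton (Ω[T⁄A]) := by
    haveI : Subsingleton (T ⊗[R] Ω[R⁄A]) := by
      refine subsingleton_of_forall_eq 0 fun z => ?_
      induction z using TensorProduct.induction_on with
      | zero => rfl
      | add x y hx hy => rw [hx, hy, add_zero]
      | tmul t ω =>
        have hz : (a * algebraMap V R q ^ n) • ω = 0 := by
          rw [mul_smul]
          exact ha2 _ (Submodule.smul_mem_smul (Ideal.mem_span_singleton_self _) Submodule.mem_top)
        have hu' : IsUnit (algebraMap R T (a * algebraMap V R q ^ n)) := by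
          rw [map_mul, map_pow, ← IsScalarTower.algebraMap_apply]
          exact hu.1.mul ((hunit ⟨q, mem_nonZeroDivisors_of_ne_zero hq⟩).pow _)
        apply hu'.smul_left_cancel.mp
        rw [algebraMap_smul, ← tmul_smul, hz, tmul_zero, smul_zero]
    exact (KaehlerDifferential.tensorKaehlerEquivOfFormallyEtale A R T).symm.toEquiv.subsingleton
  haveI hΩ' : Subsingleton (Ω[T⁄(K ⊗[V] A)]) :=
    (KaehlerDifferential.map_surjective A (K ⊗[V] A) T).subsingleton
  haveI : Algebra.FormallyEtale (K ⊗[V] A) T := CAlg7.formallyEtale_of_rank K rA rT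
  haveI : Algebra.FormallyEtale A T := Algebra.FormallyEtale.comp A (K ⊗[V] A) T
  haveI : IsNoetherianRing A := Algebra.FiniteType.isNoetherianRing V A
  haveI : Algebra.FiniteType A T := Algebra.FiniteType.of_restrictScalars_finiteType V A T
  haveI : Algebra.FinitePresentation A T := Algebra.FinitePresentation.of_finiteType.mp inferInstance
  exact ⟨inferInstance, inferInstance⟩

open AlgebraicGeometry in

/-- Let V be a discrete valuation ring of characteristic zero with uniformizer ϖ, whose residue field k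
is perfect of characteristic p > 0, and let A → R be a homomorphism of V-algebras of finite type,
viewed as a morphism f : Spec R → Spec A of schemes of finite type over Spec V. Say f is η-étale
when there is an open neighbourhood of the closed fibre of Spec R on whose generic fibre f is étale;
for affine Spec R this means: some a ∈ R with (a) + (ϖ) = R has R[1/(aϖ)] étale over A. First: if f
is η-étale then for some n ≥ 0 the submodule p^n Ω_{R/A} of the module of differentials is contained
in ϖ p^n Ω_{R/A} (that is, p^n Ω_{R/A} vanishes along the closed fibre). Conversely: if the generic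
fibres Spec(K ⊗_V A) and Spec(K ⊗_V R) are both smooth over K of the same relative dimension d, K
the fraction field of V, then such an n forces f to be η-étale. (The published statement is for
arbitrary schemes X → Y of finite type over V and also lists an intermediate equivalent condition,
that the restriction of p^n Ω_{X/Y} to the closed fibre as an abelian sheaf vanishes for some n;
this row is the case of affine schemes and states the other two conditions.) -/
theorem result (V : Type u) [CommRing V] [IsDomain V] [IsDiscreteValuationRing V] [CharZero V]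
    (ϖ : V) (hϖ : Irreducible ϖ) (p : ℕ) [Fact p.Prime] [CharP (IsLocalRing.ResidueField V) p]
    [PerfectField (IsLocalRing.ResidueField V)]
    (A : Type u) [CommRing A] [Algebra V A] [Algebra.FiniteType V A]
    (R : Type u) [CommRing R] [Algebra V R] [Algebra.FiniteType V R] [Algebra A R] [IsScalarTower V A R] :
    ((∃ a : R, Ideal.span {a} ⊔ Ideal.span {algebraMap V R ϖ} = ⊤ ∧
        ((algebraMap R (Localization.Away (a * algebraMap V R ϖ))).comp (algebraMap A R)).Etale) →
      ∃ n : ℕ, Ideal.span {((p : R)) ^ n} • (⊤ : Submodule R (Ω[R⁄A])) ≤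
        Ideal.span {algebraMap V R ϖ * (p : R) ^ n} • (⊤ : Submodule R (Ω[R⁄A]))) ∧
    (∀ d : ℕ, SmoothOfRelativeDimension d
        (Spec.map (CommRingCat.ofHom (algebraMap (FractionRing V) (FractionRing V ⊗[V] A)))) →
      SmoothOfRelativeDimension d
        (Spec.map (CommRingCat.ofHom (algebraMap (FractionRing V) (FractionRing V ⊗[V] R)))) →
      (∃ n : ℕ, Ideal.span {((p : R)) ^ n} • (⊤ : Submodule R (Ω[R⁄A])) ≤
        Ideal.span {algebraMap V R ϖ * (p : R) ^ n} • (⊤ : Submodule R (Ω[R⁄A]))) →
      ∃ a : R, Ideal.span {a} ⊔ Ideal.span {algebraMap V R ϖ} = ⊤ ∧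
        ((algebraMap R (Localization.Away (a * algebraMap V R ϖ))).comp (algebraMap A R)).Etale) := by
  obtain ⟨e, u, he, hpe⟩ := nat_eq_pow hϖ p
  have hp : (p : R) = algebraMap V R u * algebraMap V R ϖ ^ e := by
    rw [← map_natCast (algebraMap V R), hpe, map_mul, map_pow]
  haveI : Algebra.EssFiniteType A R := Algebra.EssFiniteType.of_comp V A R
  refine ⟨fun ⟨a, ha, het⟩ => part1 a _ _ e he ⟨_, hp⟩ ha het, fun d hA hR ⟨n, hn⟩ => ?_⟩
  exact part2 hϖ A R (p : V) (by exact_mod_cast (Fact.out : p.Prime).ne_zero) d hA hR n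
    (by rw [map_natCast]; exact hn)

end Groth.Agent.S14383
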