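import Groth.Statements.S14384
import Mathlib.RingTheory.Kaehler.Basic
import Mathlib.RingTheory.LocalRing.ResidueField.Basic
import Mathlib.RingTheory.DiscreteValuationRing.Basic

set_option autoImplicit false
universe u
open CAlg

namespace Groth.Agent.S14384

/-- Let V be a discrete valuation ring of characteristic zero with uniformizer ϖ, whose residue field is
perfect of characteristic p > 0, let R be a V-algebra of finite type, x'_1, …, x'_d elements of R
defining a morphism f' from Spec R to affine d-space over V, and n ≥ 0 such that p^n Ω_{f'} vanishes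
along the closed fibre, written inside Ω_{R/V} as p^n Ω_{R/V} ⊆ ϖ p^n Ω_{R/V} + Σ_i R dx'_i. If y_1,
…, y_d lie in the subring of R generated by the p^(n+1)-th powers of elements of R, then the
morphism f = f' + (y_1, …, y_d) has the same property: p^n Ω_{R/V} ⊆ ϖ p^n Ω_{R/V} + Σ_i R d(x'_i +
y_i). -/
theorem result (V : Type u) [CommRing V] [IsDomain V] [IsDiscreteValuationRing V] [CharZero V]
    (ϖ : V) (hϖ : Irreducible ϖ) (p : ℕ) [Fact p.Prime] [CharP (IsLocalRing.ResidueField V) p]
    [PerfectField (IsLocalRing.ResidueField V)]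
    (R : Type u) [CommRing R] [Algebra V R] [Algebra.FiniteType V R] (d n : ℕ) (x' : Fin d → R)
    (hx' : Ideal.span {((p : R)) ^ n} • (⊤ : Submodule R (Ω[R⁄V])) ≤
      Ideal.span {algebraMap V R ϖ * (p : R) ^ n} • (⊤ : Submodule R (Ω[R⁄V])) ⊔
        Submodule.span R (Set.range fun i => KaehlerDifferential.D V R (x' i)))
    (y : Fin d → R) (hy : ∀ i, y i ∈ Subring.closure (Set.range fun r : R => r ^ (p ^ (n + 1)))) :
    Ideal.span {((p : R)) ^ n} • (⊤ : Submodule R (Ω[R⁄V])) ≤
      Ideal.span {algebraMap V R ϖ * (p : R) ^ n} • (⊤ : Submodule R (Ω[R⁄V])) ⊔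
        Submodule.span R (Set.range fun i => KaehlerDifferential.D V R (x' i + y i)) := by
  set A : Submodule R (Ω[R⁄V]) := Ideal.span {algebraMap V R ϖ * (p : R) ^ n} • (⊤ : Submodule R (Ω[R⁄V]))
  have hp : algebraMap V R ϖ ∣ (p : R) := by
    have h : (p : V) ∈ IsLocalRing.maximalIdeal V := by
      rw [← IsLocalRing.residue_eq_zero_iff, map_natCast, CharP.cast_eq_zero]
    rw [hϖ.maximalIdeal_eq, Ideal.mem_span_singleton] at h
    simpa using map_dvd (algebraMap V R) h
  have key : ∀ r ∈ Subring.closure (Set.range fun r : R => r ^ (p ^ (n + 1))), KaehlerDifferential.D V R r ∈ A := by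
    intro r hr
    induction hr using Subring.closure_induction with
    | mem x hx =>
      obtain ⟨z, rfl⟩ := hx
      obtain ⟨c, hc⟩ := hp
      rw [Derivation.leibniz_pow, ← Nat.cast_smul_eq_nsmul R, ← mul_smul, Nat.cast_pow]
      refine Submodule.smul_mem_smul (Ideal.mem_span_singleton.mpr ⟨c * z ^ (p ^ (n + 1) - 1), ?_⟩) Submodule.mem_top
      rw [pow_succ]
      conv_lhs => arg 1; arg 2; rw [hc]
      ring
    | zero => simp
    | one => simp
    | add x y _ _ hx hy => rw [map_add]; exact add_mem hx hy
    | neg x _ hx => rw [Derivation.map_neg]; exact neg_mem hx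
    | mul x y _ _ hx hy => rw [Derivation.leibniz]; exact add_mem (A.smul_mem _ hy) (A.smul_mem _ hx)
  refine hx'.trans (sup_le le_sup_left (Submodule.span_le.mpr ?_))
  rintro _ ⟨i, rfl⟩
  dsimp only
  rw [SetLike.mem_coe, show KaehlerDifferential.D V R (x' i) =
    -KaehlerDifferential.D V R (y i) + KaehlerDifferential.D V R (x' i + y i) by rw [map_add]; abel]
  exact Submodule.add_mem_sup (neg_mem (key _ (hy i))) (Submodule.subset_span ⟨i, rfl⟩)

end Groth.Agent.S14384
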