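import Groth.Statements.S14385
import Groth.Agent.CAlg7.EtaFinite
import Groth.Agent.S14383
import Groth.Agent.S14384
import Groth.Agent.S14379

set_option autoImplicit false
open scoped TensorProduct
open AlgebraicGeometry
universe u
open CAlg

namespace Groth.Agent.S14385

set_option linter.style.haveILetI false

open KaehlerDifferential in
theorem ker_map_eq (V R : Type u) [CommRing V] [CommRing R] [Algebra V R] (d : ℕ) (z : Fin d → R)
    [Algebra (MvPolynomial (Fin d) V) R] [IsScalarTower V (MvPolynomial (Fin d) V) R]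
    (hz : ∀ i, algebraMap (MvPolynomial (Fin d) V) R (MvPolynomial.X i) = z i) :
    LinearMap.ker (KaehlerDifferential.map V (MvPolynomial (Fin d) V) R R) =
      Submodule.span R (Set.range fun i => D V R (z i)) := by
  rw [← range_mapBaseChange]
  have hX : ∀ (r : R) (i : Fin d),
      mapBaseChange V (MvPolynomial (Fin d) V) R (r ⊗ₜ D V _ (MvPolynomial.X i)) = r • D V R (z i) :=
    fun r i => by rw [mapBaseChange_tmul, map_D, hz]
  refine le_antisymm ?_ (Submodule.span_le.mpr ?_)
  · rintro _ ⟨t, rfl⟩
    induction t using TensorProduct.induction_on with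
    | zero => rw [_root_.map_zero]; exact zero_mem _
    | add a b ha hb => rw [_root_.map_add]; exact add_mem ha hb
    | tmul r ω =>
      have hmem : ω ∈ Submodule.span (MvPolynomial (Fin d) V)
          (Set.range (mvPolynomialBasis V (Fin d))) := (mvPolynomialBasis V (Fin d)).span_eq ▸ Submodule.mem_top
      induction hmem using Submodule.span_induction generalizing r with
      | mem x hx =>
        obtain ⟨i, rfl⟩ := hx
        rw [mvPolynomialBasis_apply, hX]
        exact Submodule.smul_mem _ _ (Submodule.subset_span ⟨i, rfl⟩)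
      | zero => rw [TensorProduct.tmul_zero, _root_.map_zero]; exact zero_mem _
      | add x y _ _ hx hy => rw [TensorProduct.tmul_add, _root_.map_add]; exact add_mem (hx r) (hy r)
      | smul c x _ hx => rw [← TensorProduct.smul_tmul]; exact hx (c • r)
  · rintro _ ⟨i, rfl⟩
    exact ⟨1 ⊗ₜ D V _ (MvPolynomial.X i), by rw [hX, one_smul]⟩

theorem vanish_iff (V R : Type u) [CommRing V] [CommRing R] [Algebra V R] (d : ℕ) (z : Fin d → R)
    [Algebra (MvPolynomial (Fin d) V) R] [IsScalarTower V (MvPolynomial (Fin d) V) R]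
    (hz : ∀ i, algebraMap (MvPolynomial (Fin d) V) R (MvPolynomial.X i) = z i) (I J : Ideal R) :
    I • (⊤ : Submodule R (Ω[R⁄MvPolynomial (Fin d) V])) ≤ J • ⊤ ↔
      I • (⊤ : Submodule R (Ω[R⁄V])) ≤
        J • ⊤ ⊔ Submodule.span R (Set.range fun i => KaehlerDifferential.D V R (z i)) := by
  let f := KaehlerDifferential.map V (MvPolynomial (Fin d) V) R R
  have hf : Submodule.map f ⊤ = ⊤ := by
    rw [Submodule.map_top, LinearMap.range_eq_top]
    exact KaehlerDifferential.map_surjective V (MvPolynomial (Fin d) V) R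
  have key : ∀ I : Ideal R, I • (⊤ : Submodule R (Ω[R⁄MvPolynomial (Fin d) V])) =
      Submodule.map f (I • ⊤) := fun I => by rw [Submodule.map_smul'', hf]
  rw [key, key, LinearMap.map_le_map_iff, ker_map_eq V R d z hz]

/-- Let V be a discrete valuation ring of characteristic zero with uniformizer ϖ, whose residue field k
is perfect of characteristic p > 0, with fraction field K; let R be a flat V-algebra of finite type
such that the generic fibre Spec(K ⊗_V R) → Spec K is smooth of relative dimension d; and suppose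
some d-tuple x' of elements of R defines a morphism f' from Spec R to affine d-space over V which is
η-étale, meaning that for some a ∈ R with (a) + (ϖ) = R the localisation R[1/(aϖ)] is étale over
V[T_1, …, T_d] via T_i ↦ x'_i (f' is étale on the generic fibre of an open neighbourhood of the
closed fibre). Then there is a d-tuple x in R whose morphism f is η-étale in the same sense and
finite on each fibre: k ⊗_V R is finite over k[T_1, …, T_d] and K ⊗_V R is finite over K[T_1, …,
T_d] via T_i ↦ 1 ⊗ x_i. -/
theorem result (V : Type u) [CommRing V] [IsDomain V] [IsDiscreteValuationRing V] [CharZero V]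
    (ϖ : V) (hϖ : Irreducible ϖ) (p : ℕ) [Fact p.Prime] [CharP (IsLocalRing.ResidueField V) p]
    [PerfectField (IsLocalRing.ResidueField V)]
    (R : Type u) [CommRing R] [Algebra V R] [Module.Flat V R] [Algebra.FiniteType V R] (d : ℕ)
    (hsm : SmoothOfRelativeDimension d
      (Spec.map (CommRingCat.ofHom (algebraMap (FractionRing V) (FractionRing V ⊗[V] R)))))
    (x' : Fin d → R) (hx' : (∃ a : R, Ideal.span {a} ⊔ Ideal.span {algebraMap V R ϖ} = ⊤ ∧
        ((algebraMap R (Localization.Away (a * algebraMap V R ϖ))).comp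
          (MvPolynomial.aeval x' : MvPolynomial (Fin d) V →ₐ[V] R).toRingHom).Etale)) :
    ∃ x : Fin d → R, (∃ a : R, Ideal.span {a} ⊔ Ideal.span {algebraMap V R ϖ} = ⊤ ∧
        ((algebraMap R (Localization.Away (a * algebraMap V R ϖ))).comp
          (MvPolynomial.aeval x : MvPolynomial (Fin d) V →ₐ[V] R).toRingHom).Etale) ∧
      (MvPolynomial.aeval (fun i => (1 : IsLocalRing.ResidueField V) ⊗ₜ[V] x i) :
          MvPolynomial (Fin d) (IsLocalRing.ResidueField V) →ₐ[IsLocalRing.ResidueField V]
            IsLocalRing.ResidueField V ⊗[V] R).toRingHom.Finite ∧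
      (MvPolynomial.aeval (fun i => (1 : FractionRing V) ⊗ₜ[V] x i) :
          MvPolynomial (Fin d) (FractionRing V) →ₐ[FractionRing V] FractionRing V ⊗[V] R).toRingHom.Finite := by
  classical
  let A := MvPolynomial (Fin d) V
  let K := FractionRing V
  have hloc := hsm
  rw [HasRingHomProperty.Spec_iff (P := @AlgebraicGeometry.SmoothOfRelativeDimension d)] at hloc
  obtain ⟨n, hn⟩ : ∃ n : ℕ, Ideal.span {((p : R)) ^ n} • (⊤ : Submodule R (Ω[R⁄V])) ≤
      Ideal.span {algebraMap V R ϖ * (p : R) ^ n} • (⊤ : Submodule R (Ω[R⁄V])) ⊔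
        Submodule.span R (Set.range fun i => KaehlerDifferential.D V R (x' i)) := by
    letI : Algebra A R := (MvPolynomial.aeval x').toRingHom.toAlgebra
    haveI : IsScalarTower V A R := IsScalarTower.of_algebraMap_eq fun v => ((MvPolynomial.aeval x').commutes v).symm
    obtain ⟨n, hn⟩ := (Groth.Agent.S14383.result V ϖ hϖ p A R).1 hx'
    exact ⟨n, (vanish_iff V R d x' (fun i => MvPolynomial.aeval_X x' i) _ _).mp hn⟩
  haveI : Algebra.FiniteType K (K ⊗[V] R) := inferInstance
  have hη : ringKrullDim (K ⊗[V] R) ≤ (d : WithBot ℕ∞) :=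
    Groth.Agent.CAlg7.ringKrullDim_le_of_primes (RingHom.id (K ⊗[V] R)) Function.surjective_id d
      fun q hq _ => Groth.Agent.CAlg7.ringKrullDim_quotient_le_of_locally hloc q
  obtain ⟨y, hy, hk, hK⟩ := Groth.Agent.S14379.result V R d
    (Groth.Agent.CAlg7.ringKrullDim_closedFibre_le V R d hloc) hη x' (p ^ (n + 1))
    (Nat.one_le_pow _ _ (Fact.out : p.Prime).pos)
  have hvan := Groth.Agent.S14384.result V ϖ hϖ p R d n x' hn y hy
  refine ⟨fun i => x' i + y i, ?_, hk, hK⟩
  letI : Algebra A R := (MvPolynomial.aeval fun i => x' i + y i).toRingHom.toAlgebra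
  haveI : IsScalarTower V A R :=
    IsScalarTower.of_algebraMap_eq fun v => ((MvPolynomial.aeval fun i => x' i + y i).commutes v).symm
  exact (Groth.Agent.S14383.result V ϖ hϖ p A R).2 d
    (Groth.Agent.CAlg7.smoothOfRelativeDimension_tensor_mvPolynomial V K d) hsm
    ⟨n, (vanish_iff V R d (fun i => x' i + y i) (fun i => MvPolynomial.aeval_X _ i) _ _).mpr hvan⟩

end Groth.Agent.S14385
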