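import Groth.Statements.S14386
import Mathlib.RingTheory.Kaehler.Basic
import Mathlib.RingTheory.RingHom.Etale
import Mathlib.RingTheory.RingHom.QuasiFinite
import Mathlib.RingTheory.Polynomial.Basic
import Mathlib.Algebra.MvPolynomial.Derivation
import Mathlib.RingTheory.Derivation.Basic
import Mathlib.RingTheory.Localization.Away.Basic
import Mathlib.Algebra.TrivSqZeroExt.Basic
import Mathlib.RingTheory.Ideal.Quotient.Operations
import Mathlib.Algebra.Polynomial.Derivative
import Mathlib.RingTheory.DiscreteValuationRing.Basic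
import Mathlib.Algebra.MvPolynomial.Division

set_option autoImplicit false
universe u
open CAlg

namespace Groth.Agent.S14386

section
open MvPolynomial TrivSqZeroExt

/-- the node ring -/
abbrev Node {V : Type u} [CommRing V] (ϖ : V) : Type u :=
  MvPolynomial (Fin 2) V ⧸ Ideal.span {(X 0 * X 1 - C ϖ : MvPolynomial (Fin 2) V)}

/-- its coordinates -/
noncomputable abbrev co {V : Type u} [CommRing V] (ϖ : V) (i : Fin 2) : Node ϖ :=
  Ideal.Quotient.mk _ (X i)

variable {V : Type u} [CommRing V] (ϖ : V) (h : Node ϖ) {B : Type u} [CommRing B] [Algebra V B]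
  [Algebra (Node ϖ) B] [IsScalarTower V (Node ϖ) B] [IsLocalization.Away h B]

theorem co_mul {i j : Fin 2} (hij : i ≠ j) : co ϖ i * co ϖ j = algebraMap V (Node ϖ) ϖ := by
  have h2 : (X i * X j : MvPolynomial (Fin 2) V) = X 0 * X 1 := by
    fin_cases i <;> fin_cases j <;> first | exact absurd rfl hij | rfl | exact mul_comm _ _
  rw [← map_mul, h2, IsScalarTower.algebraMap_apply V (MvPolynomial (Fin 2) V) (Node ϖ),
    Ideal.Quotient.algebraMap_eq, MvPolynomial.algebraMap_eq]
  exact Ideal.Quotient.eq.mpr (Ideal.subset_span rfl)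

theorem node_induction {p : Node ϖ → Prop} (hC : ∀ v, p (algebraMap V (Node ϖ) v))
    (hadd : ∀ a b, p a → p b → p (a + b)) (hX : ∀ a i, p a → p (a * co ϖ i)) : ∀ a, p a := by
  intro a
  obtain ⟨q, rfl⟩ := Ideal.Quotient.mk_surjective a
  induction q using MvPolynomial.induction_on with
  | C v => exact hC v
  | add a b ha hb => rw [map_add]; exact hadd _ _ ha hb
  | mul_X a i ha => rw [map_mul]; exact hX _ _ ha

section der
variable {M : Type u} [AddCommGroup M] [Module B M] [Module V M] [IsScalarTower V B M]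
include h

theorem der_ext (D₁ D₂ : Derivation V B M)
    (hc : ∀ i, D₁ (algebraMap (Node ϖ) B (co ϖ i)) = D₂ (algebraMap (Node ϖ) B (co ϖ i))) : D₁ = D₂ := by
  have hQ : ∀ a : Node ϖ, D₁ (algebraMap (Node ϖ) B a) = D₂ (algebraMap (Node ϖ) B a) := by
    refine node_induction ϖ (fun v => ?_) (fun a b ha hb => ?_) (fun a i ha => ?_)
    · rw [← IsScalarTower.algebraMap_apply, D₁.map_algebraMap, D₂.map_algebraMap]
    · rw [map_add, map_add, map_add, ha, hb]
    · rw [map_mul, Derivation.leibniz, Derivation.leibniz, ha, hc]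
  refine Derivation.ext fun b => ?_
  obtain ⟨⟨a, s⟩, hb⟩ := IsLocalization.surj (Submonoid.powers h) b
  have h1 := congrArg D₁ hb
  have h2 := congrArg D₂ hb
  simp only [Derivation.leibniz] at h1 h2
  rw [hQ] at h1
  rw [hQ] at h1
  rw [← h2, add_right_inj] at h1
  exact (IsUnit.smul_left_cancel (IsLocalization.map_units B s)).mp h1

theorem exists_der (v : Fin 2 → M)
    (hv : algebraMap (Node ϖ) B (co ϖ 0) • v 1 + algebraMap (Node ϖ) B (co ϖ 1) • v 0 = 0) :
    ∃ D : Derivation V B M, ∀ i, D (algebraMap (Node ϖ) B (co ϖ i)) = v i := by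
  letI : Module Bᵐᵒᵖ M := Module.compHom M ((RingHom.id B).fromOpposite fun x y => mul_comm _ _)
  haveI : IsCentralScalar B M := ⟨fun b m => rfl⟩
  let F : MvPolynomial (Fin 2) V →ₐ[V] TrivSqZeroExt B M :=
    MvPolynomial.aeval fun i => inl (algebraMap (Node ϖ) B (co ϖ i)) + inr (v i)
  have hF : ∀ a ∈ Ideal.span {(X 0 * X 1 - C ϖ : MvPolynomial (Fin 2) V)}, F a = 0 := by
    intro a ha
    obtain ⟨b, rfl⟩ := Ideal.mem_span_singleton'.mp ha
    rw [map_mul]
    refine mul_eq_zero_of_right _ ?_
    have hm : algebraMap (Node ϖ) B (co ϖ 0) * algebraMap (Node ϖ) B (co ϖ 1) = algebraMap V B ϖ := by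
      rw [← map_mul, co_mul ϖ (by decide), ← IsScalarTower.algebraMap_apply]
    simp only [F, map_sub, map_mul, aeval_X, aeval_C, sub_eq_zero]
    refine TrivSqZeroExt.ext ?_ ?_
    · simp [hm, TrivSqZeroExt.algebraMap_eq_inl']
    · simp [TrivSqZeroExt.algebraMap_eq_inl', TrivSqZeroExt.snd_mul, hv]
  let G : Node ϖ →ₐ[V] TrivSqZeroExt B M := Ideal.Quotient.liftₐ _ F hF
  have hGfst : ∀ a, (G a).fst = algebraMap (Node ϖ) B a := by
    refine node_induction ϖ (fun w => ?_) (fun a b ha hb => by simp [ha, hb]) (fun a i ha => ?_)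
    · rw [AlgHom.commutes, TrivSqZeroExt.algebraMap_eq_inl', fst_inl, ← IsScalarTower.algebraMap_apply]
    · rw [map_mul, fst_mul, ha, map_mul]
      congr 1
      show (F (X i)).fst = _
      simp [F]
  have hunit : ∀ s : Submonoid.powers h, IsUnit (G s) := fun s =>
    isUnit_iff_isUnit_fst.mpr (by rw [hGfst]; exact IsLocalization.map_units B s)
  let L : B →ₐ[V] TrivSqZeroExt B M := IsLocalization.liftAlgHom (M := Submonoid.powers h) hunit
  have hLG : ∀ a, L (algebraMap (Node ϖ) B a) = G a := fun a => IsLocalization.lift_eq _ a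
  have hLfst : ∀ b, (L b).fst = b := fun b => by
    obtain ⟨⟨a, s⟩, hb⟩ := IsLocalization.surj (Submonoid.powers h) b
    have h1 := congrArg (fun z => (L z).fst) hb
    simp only [map_mul, fst_mul, hLG, hGfst] at h1
    rw [← hb] at h1
    exact (IsLocalization.map_units B s).mul_right_cancel h1
  refine ⟨Derivation.mk' (((TrivSqZeroExt.sndHom B M).restrictScalars V).comp L.toLinearMap) (fun a b => ?_), fun i => ?_⟩
  · show (L (a * b)).snd = a • (L b).snd + b • (L a).snd
    rw [map_mul, snd_mul, hLfst, hLfst, op_smul_eq_smul]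
  · show (L _).snd = v i
    rw [hLG]
    show (F (X i)).snd = v i
    simp [F]

end der

variable (k : Type u) [Field k] [Algebra V k]

theorem exists_pi (hk : algebraMap V k ϖ = 0) {i j : Fin 2} (hij : i ≠ j) :
    ∃ π : Node ϖ →ₐ[V] Polynomial k, π (co ϖ i) = 0 ∧ π (co ϖ j) = Polynomial.X := by
  let F : MvPolynomial (Fin 2) V →ₐ[V] Polynomial k := MvPolynomial.aeval fun t => if t = i then 0 else Polynomial.X
  have hF : ∀ a ∈ Ideal.span {(X 0 * X 1 - C ϖ : MvPolynomial (Fin 2) V)}, F a = 0 := by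
    intro a ha
    obtain ⟨b, rfl⟩ := Ideal.mem_span_singleton'.mp ha
    rw [map_mul]
    refine mul_eq_zero_of_right _ ?_
    simp only [F, map_sub, map_mul, aeval_X, aeval_C, IsScalarTower.algebraMap_apply V k (Polynomial k), hk,
      map_zero, sub_zero]
    fin_cases i <;> simp
  exact ⟨Ideal.Quotient.liftₐ _ F hF, by show F (X i) = 0; simp [F], by show F (X j) = _; simp [F, hij.symm]⟩

theorem mem_span_of_pi (hker : RingHom.ker (algebraMap V k) = Ideal.span {ϖ}) (hsurj : Function.Surjective (algebraMap V k))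
    {i j : Fin 2} (hij : i ≠ j) (π : Node ϖ →ₐ[V] Polynomial k) (h1 : π (co ϖ i) = 0) (h2 : π (co ϖ j) = Polynomial.X)
    (a : Node ϖ) (ha : π a = 0) : a ∈ Ideal.span {co ϖ i} := by
  let ι : Polynomial V →ₐ[V] Node ϖ := Polynomial.aeval (co ϖ j)
  have hall : ∀ a : Node ϖ, ∃ p : Polynomial V, a - ι p ∈ Ideal.span {co ϖ i} := by
    refine node_induction ϖ (fun v => ⟨Polynomial.C v, by simp [ι]⟩) (fun a b ⟨p, hp⟩ ⟨q, hq⟩ => ⟨p + q, ?_⟩)
      (fun a t ⟨p, hp⟩ => ?_)
    · rw [map_add, add_sub_add_comm]; exact add_mem hp hq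
    · rcases eq_or_ne t i with rfl | ht
      · exact ⟨0, by rw [map_zero, sub_zero]; exact Ideal.mul_mem_left _ _ (Ideal.mem_span_singleton_self _)⟩
      · obtain rfl : t = j := by omega
        refine ⟨p * Polynomial.X, ?_⟩
        rw [map_mul, show ι Polynomial.X = co ϖ t from Polynomial.aeval_X _, ← sub_mul]
        exact Ideal.mul_mem_right _ _ hp
  obtain ⟨p, hp⟩ := hall a
  have hle : Ideal.span {co ϖ i} ≤ RingHom.ker π.toRingHom := by
    rw [Ideal.span_le, Set.singleton_subset_iff]; exact h1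
  have hπι : ∀ p, π (ι p) = p.map (algebraMap V k) := fun p => by
    rw [← Polynomial.aeval_algHom_apply, h2, Polynomial.aeval_def, Polynomial.map, ← Polynomial.algebraMap_eq,
      ← IsScalarTower.algebraMap_eq]
  have hp0 : p.map (algebraMap V k) = 0 := by
    rw [← hπι]
    have : π (a - ι p) = 0 := hle hp
    rwa [map_sub, ha, zero_sub, neg_eq_zero] at this
  have hιp : ι p ∈ Ideal.span {co ϖ i} := by
    have hp' : p ∈ (RingHom.ker (algebraMap V k)).map Polynomial.C := by
      rw [← Polynomial.ker_mapRingHom]; exact hp0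
    rw [hker, Ideal.map_span, Set.image_singleton, Ideal.mem_span_singleton] at hp'
    obtain ⟨q, rfl⟩ := hp'
    rw [map_mul, show ι (Polynomial.C ϖ) = algebraMap V (Node ϖ) ϖ from Polynomial.aeval_C _ _, ← co_mul ϖ hij]
    exact Ideal.mul_mem_right _ _ (Ideal.mul_mem_right _ _ (Ideal.mem_span_singleton_self _))
  have := add_mem hp hιp
  rwa [sub_add_cancel] at this

theorem co_regular [IsDomain V] (hϖ : ϖ ≠ 0) {i j : Fin 2} (hij : i ≠ j) (a : Node ϖ) (ha : co ϖ i * a = 0) : a = 0 := by
  obtain ⟨a, rfl⟩ := Ideal.Quotient.mk_surjective a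
  rw [← map_mul, Ideal.Quotient.eq_zero_iff_mem, Ideal.mem_span_singleton] at ha
  obtain ⟨c, hc⟩ := ha
  have hr : (X 0 * X 1 - C ϖ : MvPolynomial (Fin 2) V) = X i * X j - C ϖ := by
    fin_cases i <;> fin_cases j <;> first | exact absurd rfl hij | rfl | simp [mul_comm]
  rw [hr] at hc
  have hX : Prime (X i : MvPolynomial (Fin 2) V) := MvPolynomial.X_prime
  have h1 : (X i : MvPolynomial (Fin 2) V) ∣ C ϖ * c := ⟨X j * c - a, by linear_combination hc⟩
  rcases hX.dvd_or_dvd h1 with hd | ⟨c', rfl⟩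
  · obtain ⟨q, hq⟩ := hd
    have := congrArg (MvPolynomial.eval (0 : Fin 2 → V)) hq
    simp at this
    exact absurd this hϖ
  · rw [Ideal.Quotient.eq_zero_iff_mem, Ideal.mem_span_singleton, hr]
    exact ⟨c', mul_left_cancel₀ hX.ne_zero (by linear_combination hc)⟩

theorem unit_of_dvd_pow {z : B} (x y : B) (hx : ∀ a, x * a = 0 → a = 0) (hy : ∀ a, y * a = 0 → a = 0)
    (hxp : (Ideal.span {x}).IsPrime) (hyp : (Ideal.span {y}).IsPrime)
    (h1 : z ∉ Ideal.span {x}) (h2 : z ∉ Ideal.span {y}) :
    ∀ (n m : ℕ) (c : B), z * c = x ^ n * y ^ m → IsUnit z := by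
  intro n
  induction n with
  | zero =>
    intro m
    induction m with
    | zero => intro c hc; exact IsUnit.of_mul_eq_one c (by simpa using hc)
    | succ m ih =>
      intro c hc
      have hmem : z * c ∈ Ideal.span {y} := Ideal.mem_span_singleton.mpr ⟨x ^ 0 * y ^ m, by rw [hc]; ring⟩
      obtain ⟨c', rfl⟩ := Ideal.mem_span_singleton.mp ((hyp.mem_or_mem hmem).resolve_left h2)
      refine ih c' (sub_eq_zero.mp (hy _ ?_))
      linear_combination hc
  | succ n ih =>
    intro m c hc
    have hmem : z * c ∈ Ideal.span {x} := Ideal.mem_span_singleton.mpr ⟨x ^ n * y ^ m, by rw [hc]; ring⟩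
    obtain ⟨c', rfl⟩ := Ideal.mem_span_singleton.mp ((hxp.mem_or_mem hmem).resolve_left h1)
    refine ih m c' (sub_eq_zero.mp (hx _ ?_))
    linear_combination hc

end

open Polynomial in
theorem eq_smul_of_derivative {k : Type u} [Field k] [CharZero k] (p H : k[X]) (hH : H ≠ 0)
    (e : derivative p * H = p * derivative H) : ∃ c : k, p = C c * H := by
  classical
  rcases eq_or_ne p 0 with rfl | hp
  · exact ⟨0, by simp⟩
  -- equal degrees
  have hdeg : ∀ q : k[X], q ≠ 0 → derivative q * H = q * derivative H → q.natDegree = H.natDegree := by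
    intro q hq e
    have hc : ∀ r : k[X], (derivative r).coeff (r.natDegree - 1) = (r.natDegree : k) * r.leadingCoeff := by
      intro r
      rcases Nat.eq_zero_or_pos r.natDegree with h0 | h0
      · rw [h0, Polynomial.eq_C_of_natDegree_eq_zero h0]; simp
      · rw [coeff_derivative, Nat.sub_add_cancel h0, Nat.cast_sub h0, Nat.cast_one, sub_add_cancel, mul_comm,
          Polynomial.coeff_natDegree]
    rcases Nat.eq_zero_or_pos q.natDegree with hn | hn
    · rw [Polynomial.eq_C_of_natDegree_eq_zero hn, derivative_C, zero_mul, eq_comm, mul_eq_zero] at e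
      rcases e with e | e
      · exact absurd (by rw [Polynomial.eq_C_of_natDegree_eq_zero hn]; exact e) hq
      · rw [hn]; exact (Polynomial.natDegree_eq_zero_of_derivative_eq_zero e).symm
    rcases Nat.eq_zero_or_pos H.natDegree with hm | hm
    · rw [Polynomial.eq_C_of_natDegree_eq_zero hm, derivative_C, mul_zero, mul_eq_zero] at e
      rcases e with e | e
      · rw [hm]; exact Polynomial.natDegree_eq_zero_of_derivative_eq_zero e
      · exact absurd (by rw [Polynomial.eq_C_of_natDegree_eq_zero hm]; exact e) hH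
    have h3 : (derivative q * H).coeff (q.natDegree - 1 + H.natDegree) = (q.natDegree : k) * q.leadingCoeff * H.leadingCoeff := by
      rw [coeff_mul_add_eq_of_natDegree_le (natDegree_derivative_le q) le_rfl, hc]; rfl
    have h4 : (q * derivative H).coeff (q.natDegree + (H.natDegree - 1)) = q.leadingCoeff * ((H.natDegree : k) * H.leadingCoeff) := by
      rw [coeff_mul_add_eq_of_natDegree_le le_rfl (natDegree_derivative_le H), hc]; rfl
    rw [e, show q.natDegree - 1 + H.natDegree = q.natDegree + (H.natDegree - 1) by omega, h4] at h3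
    have : (H.natDegree : k) = q.natDegree :=
      mul_right_cancel₀ (mul_ne_zero (leadingCoeff_ne_zero.mpr hq) (leadingCoeff_ne_zero.mpr hH)) (by linear_combination h3)
    exact (Nat.cast_inj.mp this).symm
  refine ⟨p.leadingCoeff / H.leadingCoeff, sub_eq_zero.mp ?_⟩
  by_contra hr
  set c := p.leadingCoeff / H.leadingCoeff
  have hc : c * H.leadingCoeff = p.leadingCoeff := div_mul_cancel₀ _ (leadingCoeff_ne_zero.mpr hH)
  have h5 := hdeg _ hr (by rw [map_sub, derivative_C_mul]; linear_combination e)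
  have hle : (p - C c * H).natDegree ≤ H.natDegree := h5.le
  have h6 : (p - C c * H).coeff H.natDegree = 0 := by
    rw [coeff_sub, coeff_C_mul, Polynomial.coeff_natDegree, ← hdeg p hp e, Polynomial.coeff_natDegree, hc, sub_self]
  rw [← h5, Polynomial.coeff_natDegree, leadingCoeff_eq_zero] at h6
  exact hr h6

section
open MvPolynomial

theorem vanish_and_not_qf {V : Type u} [CommRing V] [IsDomain V] (ϖ : V) (hϖ : ϖ ≠ 0) (h : Node ϖ)
    {B : Type u} [CommRing B] [Algebra V B] [Algebra (Node ϖ) B] [IsScalarTower V (Node ϖ) B] [IsLocalization.Away h B]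
    (k : Type u) [Field k] [Algebra V k] (hker : RingHom.ker (algebraMap V k) = Ideal.span {ϖ})
    (hsurj : Function.Surjective (algebraMap V k))
    (hh : h ∉ Ideal.span ({co ϖ 0, co ϖ 1} : Set (Node ϖ))) {i j : Fin 2} (hij : i ≠ j)
    (δ : Derivation V B B) (s : B) (hs : IsUnit s)
    (hδi : δ (algebraMap (Node ϖ) B (co ϖ i)) = s * algebraMap (Node ϖ) B (co ϖ i))
    (hδj : δ (algebraMap (Node ϖ) B (co ϖ j)) = -(s * algebraMap (Node ϖ) B (co ϖ j)))
    (f : B) (hf : δ f ∈ Ideal.span {algebraMap (Node ϖ) B (co ϖ i)}) :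
    KaehlerDifferential.D V (B ⧸ Ideal.span {algebraMap (Node ϖ) B (co ϖ i)}) (Ideal.Quotient.mk _ f) = 0 ∧
      (CharZero k → ¬ (Polynomial.aeval f : Polynomial V →ₐ[V] B).toRingHom.QuasiFinite) := by
  classical
  set x := algebraMap (Node ϖ) B (co ϖ i)
  set y := algebraMap (Node ϖ) B (co ϖ j)
  let C0 := B ⧸ Ideal.span {x}
  obtain ⟨π, hπi, hπj⟩ := exists_pi ϖ k (by rw [← RingHom.mem_ker, hker]; exact Ideal.mem_span_singleton_self ϖ) hij
  have hkerπ : ∀ a, π a = 0 ↔ a ∈ Ideal.span {co ϖ i} := fun a =>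
    ⟨mem_span_of_pi ϖ k hker hsurj hij π hπi hπj a, fun ha => by
      obtain ⟨b, rfl⟩ := Ideal.mem_span_singleton'.mp ha; rw [map_mul, hπi, mul_zero]⟩
  have hset : ({co ϖ i, co ϖ j} : Set (Node ϖ)) = {co ϖ 0, co ϖ 1} := by
    fin_cases i <;> fin_cases j <;> first | exact absurd rfl hij | rfl | exact Set.pair_comm _ _
  have hh0 : ∀ a : Node ϖ, (π a).coeff 0 = 0 ↔ a ∈ Ideal.span ({co ϖ i, co ϖ j} : Set (Node ϖ)) := by
    intro a
    rw [Ideal.span_insert, Submodule.mem_sup]
    constructor
    · intro ha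
      obtain ⟨r, hr⟩ := Polynomial.X_dvd_iff.mpr ha
      obtain ⟨r', hr'⟩ : ∃ r' : Node ϖ, π r' = r := by
        obtain ⟨p, rfl⟩ := Polynomial.map_surjective (algebraMap V k) hsurj r
        refine ⟨Polynomial.aeval (co ϖ j) p, ?_⟩
        rw [← Polynomial.aeval_algHom_apply, hπj, Polynomial.aeval_def, Polynomial.map, ← Polynomial.algebraMap_eq,
          ← IsScalarTower.algebraMap_eq]
      exact ⟨a - co ϖ j * r', (hkerπ _).mp (by rw [map_sub, map_mul, hπj, hr', hr, sub_self]),
        co ϖ j * r', Ideal.mul_mem_right _ _ (Ideal.mem_span_singleton_self _), sub_add_cancel _ _⟩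
    · rintro ⟨p, hp, q, hq, rfl⟩
      obtain ⟨q', rfl⟩ := Ideal.mem_span_singleton'.mp hq
      rw [map_add, (hkerπ p).mpr hp, zero_add, map_mul, hπj, Polynomial.coeff_mul_X_zero]
  have hhn : ∀ n : ℕ, (π (h ^ n)).coeff 0 ≠ 0 := fun n => by
    rw [map_pow, Polynomial.coeff_zero_eq_eval_zero, Polynomial.eval_pow, ← Polynomial.coeff_zero_eq_eval_zero]
    exact pow_ne_zero n (by rw [ne_eq, hh0, hset]; exact hh)
  have hπh : ∀ n : ℕ, π (h ^ n) ≠ 0 := fun n e => hhn n (by rw [e]; rfl)
  -- the prime span {x}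
  have hxmem : ∀ a, algebraMap (Node ϖ) B a ∈ Ideal.span {x} → π a = 0 := by
    intro a ha
    rw [← Set.image_singleton, ← Ideal.map_span, IsLocalization.mem_map_algebraMap_iff (Submonoid.powers h)] at ha
    obtain ⟨⟨⟨b, hb⟩, ⟨_, n, rfl⟩⟩, hab⟩ := ha
    rw [← map_mul] at hab
    obtain ⟨⟨_, m, rfl⟩, hm⟩ := IsLocalization.exists_of_eq (M := Submonoid.powers h) (S := B) hab
    have := congrArg π hm
    simp only [map_mul] at this
    rw [(hkerπ b).mpr hb, mul_zero, ← mul_assoc, mul_comm (π (h ^ m)), mul_assoc] at this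
    exact (mul_eq_zero.mp this).resolve_right (mul_ne_zero (hπh m) (hπh n))
  haveI hxp : (Ideal.span {x}).IsPrime := by
    have hP : (Ideal.span {co ϖ i}).IsPrime := by
      rw [show Ideal.span {co ϖ i} = RingHom.ker π.toRingHom from Ideal.ext fun a => (hkerπ a).symm]
      exact RingHom.ker_isPrime _
    have hd : Disjoint (Submonoid.powers h : Set (Node ϖ)) ↑(Ideal.span {co ϖ i}) := by
      rw [Set.disjoint_left]
      rintro _ ⟨n, rfl⟩ ha
      exact hπh n ((hkerπ _).mpr ha)
    have := IsLocalization.isPrime_of_isPrime_disjoint (Submonoid.powers h) B _ hP hd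
    rwa [Ideal.map_span, Set.image_singleton] at this
  have hyx : y ∉ Ideal.span {x} := fun hy => Polynomial.X_ne_zero (hπj ▸ hxmem _ hy : (Polynomial.X : Polynomial k) = 0)
  letI : Module V C0 := inferInstance
  -- the derivation ∂/∂y on C0
  obtain ⟨ε, hε⟩ := exists_der (B := B) ϖ h (M := C0) (fun t => if t = i then 0 else 1) (by
    have hx0 : Ideal.Quotient.mk (Ideal.span {x}) x = 0 := Ideal.Quotient.eq_zero_iff_mem.mpr (Ideal.mem_span_singleton_self _)
    rw [Algebra.smul_def, Algebra.smul_def, Ideal.Quotient.algebraMap_eq]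
    obtain ⟨rfl, rfl⟩ | ⟨rfl, rfl⟩ : (i = 0 ∧ j = 1) ∨ (i = 1 ∧ j = 0) := by omega
    all_goals
      simp only [↓reduceIte, Fin.isValue, show (1 : Fin 2) ≠ 0 by decide, show (0 : Fin 2) ≠ 1 by decide, mul_one, mul_zero, add_zero, zero_add]
      exact hx0)
  have hεi : ε x = 0 := by rw [hε]; simp
  have hεj : ε y = 1 := by rw [hε, if_neg hij.symm]
  have hcase : ∀ t : Fin 2, t = i ∨ t = j := fun t => by omega
  have hδε : ∀ b : B, Ideal.Quotient.mk (Ideal.span {x}) (δ b) = Ideal.Quotient.mk (Ideal.span {x}) (-(s * y)) * ε b := by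
    let D1 : Derivation V B C0 := ((Ideal.span {x}).mkQ).compDer δ
    let D2 : Derivation V B C0 := (-(s * y)) • ε
    have : D1 = D2 := der_ext ϖ h D1 D2 fun t => by
      rcases hcase t with rfl | rfl
      · show Ideal.Quotient.mk _ (δ x) = (-(s * y)) • ε x
        rw [hδi, hεi, smul_zero, Ideal.Quotient.eq_zero_iff_mem]
        exact Ideal.mul_mem_left _ _ (Ideal.mem_span_singleton_self _)
      · show Ideal.Quotient.mk _ (δ y) = (-(s * y)) • ε y
        rw [hδj, hεj, Algebra.smul_def, mul_one, Ideal.Quotient.algebraMap_eq]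
    intro b
    exact (DFunLike.congr_fun this b).trans (show (-(s * y)) • ε b = _ from Algebra.smul_def _ _)
  have hεf : ε f = 0 := by
    have := hδε f
    rw [Ideal.Quotient.eq_zero_iff_mem.mpr hf, eq_comm, mul_eq_zero] at this
    refine this.resolve_left fun h0 => hyx ?_
    rw [Ideal.Quotient.eq_zero_iff_mem, neg_mem_iff] at h0
    exact (hxp.mem_or_mem h0).resolve_left fun hsx => hxp.ne_top (Ideal.eq_top_of_isUnit_mem _ hsx hs)
  refine ⟨?_, fun hchar => ?_⟩
  · let D3 : Derivation V B (Ω[C0⁄V]) := (KaehlerDifferential.D V C0).compAlgebraMap B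
    let ψ : C0 →ₗ[B] Ω[C0⁄V] :=
      (LinearMap.toSpanSingleton C0 _ (KaehlerDifferential.D V C0 (Ideal.Quotient.mk _ y))).restrictScalars B
    have : D3 = ψ.compDer ε := der_ext ϖ h _ _ fun t => by
      show KaehlerDifferential.D V C0 (Ideal.Quotient.mk _ _) =
        ε _ • KaehlerDifferential.D V C0 (Ideal.Quotient.mk _ y)
      rcases hcase t with rfl | rfl
      · show KaehlerDifferential.D V C0 (Ideal.Quotient.mk _ x) = ε x • _
        rw [hεi, zero_smul, Ideal.Quotient.eq_zero_iff_mem.mpr (Ideal.mem_span_singleton_self x), map_zero]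
      · show KaehlerDifferential.D V C0 (Ideal.Quotient.mk _ y) = ε y • _
        rw [hεj, one_smul]
    refine (DFunLike.congr_fun this f).trans ?_
    show ψ (ε f) = 0
    rw [hεf, map_zero]
  · intro hqf
    obtain ⟨⟨q, ⟨_, n, rfl⟩⟩, hq⟩ := IsLocalization.surj (Submonoid.powers h) f
    dsimp only at hq
    let mkC : B →+* C0 := Ideal.Quotient.mk _
    have hεpi : ∀ a : Node ϖ, ∀ r : Node ϖ, π r = Polynomial.derivative (π a) →
        ε (algebraMap (Node ϖ) B a) = mkC (algebraMap (Node ϖ) B r) := by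
      have hwd : ∀ r r' : Node ϖ, π r = π r' → mkC (algebraMap (Node ϖ) B r) = mkC (algebraMap (Node ϖ) B r') := by
        intro r r' e
        rw [Ideal.Quotient.eq, ← map_sub]
        obtain ⟨b, hb⟩ := Ideal.mem_span_singleton'.mp ((hkerπ (r - r')).mp (by rw [map_sub, e, sub_self]))
        rw [← hb, map_mul]
        exact Ideal.mul_mem_left _ _ (Ideal.mem_span_singleton_self _)
      have hsec : ∀ a : Node ϖ, ∃ r, π r = Polynomial.derivative (π a) ∧
          ε (algebraMap (Node ϖ) B a) = mkC (algebraMap (Node ϖ) B r) := by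
        refine node_induction ϖ (fun v => ⟨0, ?_, ?_⟩) (fun a b ⟨r, hr, hr'⟩ ⟨r', hr2, hr2'⟩ => ⟨r + r', ?_, ?_⟩)
          (fun a t ⟨r, hr, hr'⟩ => ?_)
        · rw [map_zero, AlgHom.commutes, IsScalarTower.algebraMap_apply V k (Polynomial k), Polynomial.algebraMap_eq,
            Polynomial.derivative_C]
        · rw [← IsScalarTower.algebraMap_apply, ε.map_algebraMap, map_zero, map_zero]
        · rw [map_add, map_add, map_add, hr, hr2]
        · rw [map_add, map_add, hr', hr2', map_add, map_add]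
        · rcases hcase t with rfl | rfl
          · exact ⟨r * co ϖ t, by rw [map_mul, map_mul, hπi, mul_zero, mul_zero, Polynomial.derivative_zero], by
              rw [map_mul, Derivation.leibniz, hεi, smul_zero, zero_add, hr', Algebra.smul_def, map_mul, map_mul, mul_comm]
              rfl⟩
          · exact ⟨a + r * co ϖ t, by rw [map_add, map_mul, map_mul, hπj, hr, Polynomial.derivative_mul,
              Polynomial.derivative_X, mul_one, add_comm], by
              rw [map_mul, Derivation.leibniz, hεj, hr', Algebra.smul_def, Algebra.smul_def, mul_one, map_add, map_mul,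
                map_add, map_mul, mul_comm _ (mkC (algebraMap (Node ϖ) B (co ϖ t)))]
              rfl⟩
      intro a r hr
      obtain ⟨r', hr', hr''⟩ := hsec a
      rw [hr'', hwd r r' (hr.trans hr'.symm)]
    have hlift : ∀ p : Polynomial k, ∃ r : Node ϖ, π r = p := fun p => by
      obtain ⟨p, rfl⟩ := Polynomial.map_surjective (algebraMap V k) hsurj p
      refine ⟨Polynomial.aeval (co ϖ j) p, ?_⟩
      rw [← Polynomial.aeval_algHom_apply, hπj, Polynomial.aeval_def, Polynomial.map, ← Polynomial.algebraMap_eq,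
        ← IsScalarTower.algebraMap_eq]
    have hder : Polynomial.derivative (π q) * π (h ^ n) = π q * Polynomial.derivative (π (h ^ n)) := by
      obtain ⟨r1, hr1⟩ := hlift (Polynomial.derivative (π q))
      obtain ⟨r2, hr2⟩ := hlift (Polynomial.derivative (π (h ^ n)))
      have h1 := congrArg ε hq
      rw [Derivation.leibniz, hεf, smul_zero, add_zero, hεpi q r1 hr1, hεpi _ r2 hr2, Algebra.smul_def] at h1
      have h2 : mkC (algebraMap (Node ϖ) B (r1 * h ^ n - q * r2)) = 0 := by
        rw [map_sub, map_mul, map_mul, map_sub, map_mul, map_mul, ← h1, ← hq, map_mul]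
        show Ideal.Quotient.mk _ f * mkC _ * mkC _ - mkC f * mkC _ * mkC _ = 0
        ring
      have := hxmem _ (Ideal.Quotient.eq_zero_iff_mem.mp h2)
      rwa [map_sub, map_mul, map_mul, hr1, hr2, sub_eq_zero] at this
    obtain ⟨c, hc⟩ := eq_smul_of_derivative (π q) (π (h ^ n)) (hπh n) hder
    obtain ⟨v, rfl⟩ := hsurj c
    have hfv : mkC f = mkC (algebraMap V B v) := by
      have h1 : π (q - algebraMap V (Node ϖ) v * h ^ n) = 0 := by
        rw [map_sub, map_mul, AlgHom.commutes, IsScalarTower.algebraMap_apply V k (Polynomial k),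
          Polynomial.algebraMap_eq, ← hc, sub_self]
      obtain ⟨b, hb⟩ := Ideal.mem_span_singleton'.mp ((hkerπ _).mp h1)
      rw [Ideal.Quotient.eq]
      refine ((hxp.mem_or_mem ?_).resolve_right fun hn => hπh n (hxmem _ hn))
      have : (f - algebraMap V B v) * algebraMap (Node ϖ) B (h ^ n) = algebraMap (Node ϖ) B b * x := by
        rw [← map_mul, hb, map_sub, map_mul, ← IsScalarTower.algebraMap_apply, ← hq]; ring
      rw [this]
      exact Ideal.mul_mem_left _ _ (Ideal.mem_span_singleton_self _)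
    let J : Ideal B := Ideal.span ({x, y} : Set B)
    have hJ : J ≠ ⊤ := fun hJ => by
      have : ((Ideal.span ({co ϖ i, co ϖ j} : Set (Node ϖ))).map (algebraMap (Node ϖ) B)) = ⊤ := by
        rw [Ideal.map_span, Set.image_pair]; exact hJ
      obtain ⟨_, ⟨m, rfl⟩, hm⟩ := Set.not_disjoint_iff.mp fun hd =>
        (IsLocalization.map_algebraMap_ne_top_iff_disjoint (Submonoid.powers h) B _).mpr hd this
      exact hhn m ((hh0 _).mpr hm)
    obtain ⟨M, hM, hJM⟩ := Ideal.exists_le_maximal J hJ
    letI := (Polynomial.aeval f : Polynomial V →ₐ[V] B).toRingHom.toAlgebra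
    haveI : Algebra.QuasiFinite (Polynomial V) B := hqf
    have hxM : Ideal.span {x} ≤ M :=
      (Ideal.span_mono (Set.singleton_subset_iff.mpr (Set.mem_insert _ _))).trans hJM
    have hmax : ((Ideal.span {x}).comap (algebraMap (Polynomial V) B)).IsMaximal := by
      let χ : Polynomial V →+* k := (Polynomial.aeval (algebraMap V k v)).toRingHom
      have hχ : Function.Surjective χ := fun a => by
        obtain ⟨w, rfl⟩ := hsurj a; exact ⟨Polynomial.C w, Polynomial.aeval_C _ _⟩
      haveI : (RingHom.ker χ).IsMaximal := RingHom.ker_isMaximal_of_surjective χ hχ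
      have hle : RingHom.ker χ ≤ (Ideal.span {x}).comap (algebraMap (Polynomial V) B) := by
        intro p hp
        change Polynomial.aeval (algebraMap V k v) p = 0 at hp
        rw [Polynomial.aeval_algebraMap_apply, ← RingHom.mem_ker, hker, Ideal.mem_span_singleton] at hp
        obtain ⟨w, hw⟩ := hp
        rw [Ideal.mem_comap]
        show Polynomial.aeval f p ∈ Ideal.span {x}
        rw [← Ideal.Quotient.eq_zero_iff_mem, ← Ideal.Quotient.mkₐ_eq_mk V, ← Polynomial.aeval_algHom_apply,
          Ideal.Quotient.mkₐ_eq_mk, show Ideal.Quotient.mk (Ideal.span {x}) f = mkC f from rfl, hfv]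
        show Polynomial.aeval (Ideal.Quotient.mkₐ V (Ideal.span {x}) (algebraMap V B v)) p = 0
        rw [AlgHom.commutes, Polynomial.aeval_algebraMap_apply, hw, map_mul]
        refine mul_eq_zero_of_left ?_ _
        rw [IsScalarTower.algebraMap_apply V B C0, Ideal.Quotient.algebraMap_eq, Ideal.Quotient.eq_zero_iff_mem,
          IsScalarTower.algebraMap_apply V (Node ϖ) B, ← co_mul ϖ hij, map_mul]
        exact Ideal.mul_mem_right _ _ (Ideal.mem_span_singleton_self _)
      rwa [← Ideal.IsMaximal.eq_of_le inferInstance (Ideal.IsPrime.ne_top (Ideal.IsPrime.comap _)) hle]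
    haveI := hM.isPrime
    have hund : (Ideal.span {x}).under (Polynomial V) = M.under (Polynomial V) :=
      hmax.eq_of_le (Ideal.IsPrime.ne_top (Ideal.IsPrime.comap _)) (Ideal.comap_mono hxM)
    exact hyx ((Algebra.QuasiFinite.eq_of_le_of_under_eq (Ideal.span {x}) M hxM hund) ▸ hJM (Ideal.subset_span (Set.mem_insert_of_mem _ rfl)))

theorem prime_co {V : Type u} [CommRing V] (ϖ : V) (h : Node ϖ) {B : Type u} [CommRing B] [Algebra (Node ϖ) B]
    [IsLocalization.Away h B] (k : Type u) [Field k] [Algebra V k]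
    (hker : RingHom.ker (algebraMap V k) = Ideal.span {ϖ}) (hsurj : Function.Surjective (algebraMap V k))
    (hh : h ∉ Ideal.span ({co ϖ 0, co ϖ 1} : Set (Node ϖ))) {i j : Fin 2} (hij : i ≠ j) :
    (Ideal.span {algebraMap (Node ϖ) B (co ϖ i)}).IsPrime := by
  obtain ⟨π, hπi, hπj⟩ := exists_pi ϖ k (by rw [← RingHom.mem_ker, hker]; exact Ideal.mem_span_singleton_self ϖ) hij
  have hsp : Ideal.span {co ϖ i} = RingHom.ker π.toRingHom :=
    le_antisymm ((Ideal.span_singleton_le_iff_mem _).mpr hπi) fun a ha => mem_span_of_pi ϖ k hker hsurj hij π hπi hπj a ha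
  have hP : (Ideal.span {co ϖ i}).IsPrime := hsp ▸ RingHom.ker_isPrime _
  have hd : Disjoint (Submonoid.powers h : Set (Node ϖ)) ↑(Ideal.span {co ϖ i}) := by
    rw [Set.disjoint_left]
    rintro _ ⟨n, rfl⟩ ha
    refine hh ?_
    have hle : Ideal.span {co ϖ i} ≤ Ideal.span ({co ϖ 0, co ϖ 1} : Set (Node ϖ)) :=
      Ideal.span_mono (by fin_cases i <;> simp)
    exact hle (hP.mem_of_pow_mem n ha)
  have := IsLocalization.isPrime_of_isPrime_disjoint (Submonoid.powers h) B _ hP hd
  rwa [Ideal.map_span, Set.image_singleton] at this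

open TrivSqZeroExt in
theorem extend_der {V : Type u} [CommRing V] {B : Type u} [CommRing B] [Algebra V B] (Bp : Type u) [CommRing Bp]
    [Algebra B Bp] [Algebra V Bp] [IsScalarTower V B Bp] (S : Submonoid B) [IsLocalization S Bp]
    {M : Type u} [AddCommGroup M] [Module B M] [Module Bp M] [Module V M] [IsScalarTower B Bp M]
    [IsScalarTower V B M] [IsScalarTower V Bp M] (d : Derivation V B M) :
    ∃ D : Derivation V Bp M, ∀ b, D (algebraMap B Bp b) = d b := by
  letI : Module Bpᵐᵒᵖ M := Module.compHom M ((RingHom.id Bp).fromOpposite fun x y => mul_comm _ _)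
  haveI : IsCentralScalar Bp M := ⟨fun b m => rfl⟩
  let Φ : B →ₐ[V] TrivSqZeroExt Bp M :=
    { toFun := fun b => inl (algebraMap B Bp b) + inr (d b)
      map_one' := by simp
      map_zero' := by simp
      map_add' := fun a b => by ext <;> simp
      map_mul' := fun a b => by
        ext
        · simp
        · simp [TrivSqZeroExt.snd_mul, op_smul_eq_smul, algebraMap_smul, Derivation.leibniz]
      commutes' := fun v => by
        ext
        · simp [TrivSqZeroExt.algebraMap_eq_inl', ← IsScalarTower.algebraMap_apply]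
        · simp [TrivSqZeroExt.algebraMap_eq_inl'] }
  have hΦu : ∀ s : S, IsUnit (Φ s) := fun s =>
    isUnit_iff_isUnit_fst.mpr (by simpa [Φ] using IsLocalization.map_units Bp s)
  let L : Bp →ₐ[V] TrivSqZeroExt Bp M := IsLocalization.liftAlgHom (M := S) hΦu
  have hLB : ∀ b, L (algebraMap B Bp b) = Φ b := fun b => IsLocalization.lift_eq _ b
  have hLf : ∀ b, (L b).fst = b := fun b => by
    obtain ⟨⟨a, s⟩, hb⟩ := IsLocalization.surj S b
    have h1 := congrArg (fun z => (L z).fst) hb
    simp only [map_mul, fst_mul, hLB] at h1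
    simp [Φ] at h1
    rw [← hb] at h1
    exact (IsLocalization.map_units Bp s).mul_right_cancel h1
  refine ⟨Derivation.mk' (((TrivSqZeroExt.sndHom Bp M).restrictScalars V).comp L.toLinearMap) (fun a b => ?_), fun b => ?_⟩
  · show (L (a * b)).snd = a • (L b).snd + b • (L a).snd
    rw [map_mul, snd_mul, hLf, hLf, op_smul_eq_smul]
  · show (L _).snd = d b
    rw [hLB]
    simp [Φ]

theorem log_unit {V : Type u} [CommRing V] {B : Type u} [CommRing B] [Algebra V B] (a : B) (Bp : Type u) [CommRing Bp]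
    [Algebra B Bp] [Algebra V Bp] [IsScalarTower V B Bp] [IsLocalization.Away a Bp] (δ : Derivation V B B) (f x : B)
    (hδx : δ x = x) (hu : IsUnit (algebraMap B Bp x))
    (hf : ((algebraMap B Bp).comp (Polynomial.aeval f : Polynomial V →ₐ[V] B).toRingHom).Etale) :
    IsUnit (algebraMap B Bp (δ f)) := by
  by_contra hnu
  obtain ⟨M, hM, hfM⟩ := exists_max_ideal_of_mem_nonunits hnu
  haveI := hM
  let g : Polynomial V →+* Bp := (algebraMap B Bp).comp (Polynomial.aeval f : Polynomial V →ₐ[V] B).toRingHom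
  letI := g.toAlgebra
  haveI : Algebra.Etale (Polynomial V) Bp := hf
  haveI : Algebra.FormallyUnramified (Polynomial V) Bp := inferInstance
  let κ := Bp ⧸ M
  let d : Derivation V B κ := ((M.mkQ.restrictScalars B).comp (Algebra.linearMap B Bp)).compDer δ
  obtain ⟨D, hD⟩ := extend_der Bp (Submonoid.powers a) d
  have hd : ∀ b, d b = Ideal.Quotient.mk M (algebraMap B Bp (δ b)) := fun b => rfl
  have hD0 : ∀ p : Polynomial V, D (algebraMap (Polynomial V) Bp p) = 0 := fun p => by
    show D (algebraMap B Bp (Polynomial.aeval f p)) = 0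
    rw [hD, Derivation.map_aeval, show d f = 0 from Ideal.Quotient.eq_zero_iff_mem.mpr hfM, smul_zero]
  let D' : Derivation (Polynomial V) Bp κ := Derivation.mk'
    { toFun := D
      map_add' := map_add D
      map_smul' := fun p b => by
        rw [Algebra.smul_def, Derivation.leibniz, hD0, smul_zero, add_zero, RingHom.id_apply, algebraMap_smul] }
    D.leibniz
  haveI : Subsingleton (Derivation (Polynomial V) Bp κ) :=
    (KaehlerDifferential.linearMapEquivDerivation (Polynomial V) Bp (M := κ)).symm.toEquiv.subsingleton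
  have hDx : D' (algebraMap B Bp x) = 0 := by rw [Subsingleton.elim D' 0]; rfl
  change D (algebraMap B Bp x) = 0 at hDx
  rw [hD, hd, hδx, Ideal.Quotient.eq_zero_iff_mem] at hDx
  exact hM.ne_top (Ideal.eq_top_of_isUnit_mem _ hDx hu)

theorem not_isUnit_der {V : Type u} [CommRing V] (ϖ : V) (h : Node ϖ) {B : Type u} [CommRing B] [Algebra V B]
    [Algebra (Node ϖ) B] [IsScalarTower V (Node ϖ) B] [IsLocalization.Away h B] (k : Type u) [Field k] [Algebra V k]
    (hker : RingHom.ker (algebraMap V k) = Ideal.span {ϖ}) (hsurj : Function.Surjective (algebraMap V k))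
    (hh : h ∉ Ideal.span ({co ϖ 0, co ϖ 1} : Set (Node ϖ))) (δ : Derivation V B B)
    (hδx : δ (algebraMap (Node ϖ) B (co ϖ 0)) = algebraMap (Node ϖ) B (co ϖ 0))
    (hδy : δ (algebraMap (Node ϖ) B (co ϖ 1)) = -algebraMap (Node ϖ) B (co ϖ 1)) (f : B) (hu : IsUnit (δ f)) : False := by
  -- δ takes values in (x, y)
  obtain ⟨⟨q, ⟨_, m, rfl⟩⟩, hq⟩ := IsLocalization.surj (Submonoid.powers h) f
  dsimp only at hq
  let J : Ideal B := (Ideal.span ({co ϖ 0, co ϖ 1} : Set (Node ϖ))).map (algebraMap (Node ϖ) B)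
  have hxJ : algebraMap (Node ϖ) B (co ϖ 0) ∈ J := Ideal.mem_map_of_mem _ (Ideal.subset_span (Set.mem_insert _ _))
  have hyJ : algebraMap (Node ϖ) B (co ϖ 1) ∈ J := Ideal.mem_map_of_mem _ (Ideal.subset_span (Set.mem_insert_of_mem _ rfl))
  have hall : ∀ a : Node ϖ, δ (algebraMap _ B a) ∈ J := by
    refine node_induction ϖ (fun v => ?_) (fun a b ha hb => by rw [map_add, map_add]; exact add_mem ha hb) (fun a t ha => ?_)
    · rw [← IsScalarTower.algebraMap_apply, δ.map_algebraMap]; exact zero_mem _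
    · rw [map_mul, Derivation.leibniz, smul_eq_mul, smul_eq_mul]
      refine add_mem (Ideal.mul_mem_left _ _ ?_) (Ideal.mul_mem_left _ _ ha)
      fin_cases t
      · exact hδx.symm ▸ hxJ
      · exact hδy.symm ▸ neg_mem hyJ
  have h1 := congrArg δ hq
  rw [Derivation.leibniz, smul_eq_mul, smul_eq_mul] at h1
  have h2 : algebraMap (Node ϖ) B (h ^ m) * δ f ∈ J := by
    rw [show algebraMap (Node ϖ) B (h ^ m) * δ f = δ (algebraMap _ B q) - f * δ (algebraMap _ B (h ^ m)) by rw [← h1]; ring]
    exact sub_mem (hall q) (Ideal.mul_mem_left _ _ (hall _))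
  have htop : J = ⊤ := Ideal.eq_top_of_isUnit_mem _ h2
    ((IsLocalization.map_units B (⟨h ^ m, m, rfl⟩ : Submonoid.powers h)).mul hu)
  have hdisj : Disjoint (Submonoid.powers h : Set (Node ϖ)) ↑(Ideal.span ({co ϖ 0, co ϖ 1} : Set (Node ϖ))) := by
    rw [Set.disjoint_left]
    rintro _ ⟨l, rfl⟩ hl
    obtain ⟨π, hπi, hπj⟩ := exists_pi ϖ k (by rw [← RingHom.mem_ker, hker]; exact Ideal.mem_span_singleton_self ϖ)
      (i := (0 : Fin 2)) (j := 1) (by decide)
    let ρ : Node ϖ →+* k := Polynomial.constantCoeff.comp π.toRingHom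
    have hρ : RingHom.ker ρ = Ideal.span ({co ϖ 0, co ϖ 1} : Set (Node ϖ)) := by
      refine le_antisymm (fun a ha => ?_) (Ideal.span_le.mpr ?_)
      · obtain ⟨r, hr⟩ := Polynomial.X_dvd_iff.mpr (show (π a).coeff 0 = 0 from ha)
        obtain ⟨p, rfl⟩ := Polynomial.map_surjective (algebraMap V k) hsurj r
        have hb : π (Polynomial.aeval (co ϖ 1) p) = p.map (algebraMap V k) := by
          rw [← Polynomial.aeval_algHom_apply, hπj, Polynomial.aeval_def, Polynomial.map, ← Polynomial.algebraMap_eq,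
            ← IsScalarTower.algebraMap_eq]
        have := mem_span_of_pi ϖ k hker hsurj (by decide) π hπi hπj (a - co ϖ 1 * Polynomial.aeval (co ϖ 1) p)
          (by rw [map_sub, map_mul, hπj, hb, hr, sub_self])
        rw [Ideal.span_insert]
        exact Submodule.mem_sup.mpr ⟨_, this, _, Ideal.mul_mem_right _ _ (Ideal.mem_span_singleton_self _),
          sub_add_cancel _ _⟩
      · rintro a (rfl | rfl)
        · show (π (co ϖ 0)).coeff 0 = 0
          rw [hπi]; rfl
        · show (π (co ϖ 1)).coeff 0 = 0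
          rw [hπj, Polynomial.coeff_X_zero]
    rw [SetLike.mem_coe, ← hρ] at hl
    exact hh (hρ ▸ (RingHom.ker_isPrime ρ).mem_of_pow_mem l hl)
  exact (IsLocalization.map_algebraMap_ne_top_iff_disjoint (Submonoid.powers h) B _).mpr hdisj htop

end

set_option maxHeartbeats 1000000 in

/-- Let V be a discrete valuation ring of characteristic zero with uniformizer ϖ and perfect residue
field k, let Q = V[x, y]/(xy − ϖ) be the coordinate ring of the standard semistable node over V and
P its closed point x = y = 0 of the closed fibre, let h ∈ Q with h ∉ (x, y), so that B = Q[1/h] is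
the ring of an open neighbourhood of P, and let f ∈ B define a morphism to the affine line over V
which is étale on the generic fibre: B[1/ϖ] is étale over V[T] via T ↦ f. Then df vanishes
identically on one of the two components x = 0, y = 0 of the closed fibre of Spec B: the
differential of the image of f in Ω_{(B/xB)/V} is zero or the differential of the image of f in
Ω_{(B/yB)/V} is zero. If moreover k has characteristic zero, then f contracts that component and the
morphism is not quasi-finite: V[T] → B, T ↦ f, is not a quasi-finite ring map. -/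
theorem result (V : Type u) [CommRing V] [IsDomain V] [IsDiscreteValuationRing V] [CharZero V]
    [PerfectField (IsLocalRing.ResidueField V)] (ϖ : V) (hϖ : Irreducible ϖ)
    (h : (MvPolynomial (Fin 2) V ⧸ Ideal.span {(MvPolynomial.X 0 * MvPolynomial.X 1 - MvPolynomial.C ϖ : MvPolynomial (Fin 2) V)}))
    (hh : h ∉ Ideal.span ({(Ideal.Quotient.mk (Ideal.span {(MvPolynomial.X 0 * MvPolynomial.X 1 - MvPolynomial.C ϖ : MvPolynomial (Fin 2) V)}) (MvPolynomial.X 0 : MvPolynomial (Fin 2) V)), (Ideal.Quotient.mk (Ideal.span {(MvPolynomial.X 0 * MvPolynomial.X 1 - MvPolynomial.C ϖ : MvPolynomial (Fin 2) V)}) (MvPolynomial.X 1 : MvPolynomial (Fin 2) V))} : Set (MvPolynomial (Fin 2) V ⧸ Ideal.span {(MvPolynomial.X 0 * MvPolynomial.X 1 - MvPolynomial.C ϖ : MvPolynomial (Fin 2) V)})))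
    (f : Localization.Away h)
    (hf : ((algebraMap (Localization.Away h)
        (Localization.Away (algebraMap V (Localization.Away h) ϖ))).comp
          (Polynomial.aeval f : Polynomial V →ₐ[V] Localization.Away h).toRingHom).Etale) :
    (KaehlerDifferential.D V (Localization.Away h ⧸ Ideal.span
        ({algebraMap (MvPolynomial (Fin 2) V ⧸ Ideal.span {(MvPolynomial.X 0 * MvPolynomial.X 1 - MvPolynomial.C ϖ : MvPolynomial (Fin 2) V)}) (Localization.Away h) (Ideal.Quotient.mk (Ideal.span {(MvPolynomial.X 0 * MvPolynomial.X 1 - MvPolynomial.C ϖ : MvPolynomial (Fin 2) V)}) (MvPolynomial.X 0 : MvPolynomial (Fin 2) V))} : Set (Localization.Away h)))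
        (Ideal.Quotient.mk _ f) = 0 ∨
     KaehlerDifferential.D V (Localization.Away h ⧸ Ideal.span
        ({algebraMap (MvPolynomial (Fin 2) V ⧸ Ideal.span {(MvPolynomial.X 0 * MvPolynomial.X 1 - MvPolynomial.C ϖ : MvPolynomial (Fin 2) V)}) (Localization.Away h) (Ideal.Quotient.mk (Ideal.span {(MvPolynomial.X 0 * MvPolynomial.X 1 - MvPolynomial.C ϖ : MvPolynomial (Fin 2) V)}) (MvPolynomial.X 1 : MvPolynomial (Fin 2) V))} : Set (Localization.Away h)))
        (Ideal.Quotient.mk _ f) = 0) ∧
    (CharZero (IsLocalRing.ResidueField V) →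
      ¬ (Polynomial.aeval f : Polynomial V →ₐ[V] Localization.Away h).toRingHom.QuasiFinite) := by
  classical
  let k := IsLocalRing.ResidueField V
  have hker : RingHom.ker (algebraMap V k) = Ideal.span {ϖ} := by
    rw [← hϖ.maximalIdeal_eq]; exact IsLocalRing.ker_residue
  have hsurj : Function.Surjective (algebraMap V k) := IsLocalRing.residue_surjective
  let B := Localization.Away h
  let x : B := algebraMap _ B (co ϖ 0)
  let y : B := algebraMap _ B (co ϖ 1)
  obtain ⟨δ, hδ⟩ := exists_der (B := B) ϖ h (M := B) ![x, -y] (by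
    simp only [Matrix.cons_val_zero, Matrix.cons_val_one, smul_eq_mul, x, y]; ring)
  have hδx : δ x = x := hδ 0
  have hδy : δ y = -y := hδ 1
  have hxp := prime_co ϖ h (B := B) k hker hsurj hh (i := 0) (j := 1) (by decide)
  have hyp := prime_co ϖ h (B := B) k hker hsurj hh (i := 1) (j := 0) (by decide)
  have hxy : x * y = algebraMap V B ϖ := by
    rw [← map_mul, co_mul ϖ (by decide), ← IsScalarTower.algebraMap_apply]
  have hreg : ∀ (i j : Fin 2), i ≠ j → ∀ b : B, algebraMap _ B (co ϖ i) * b = 0 → b = 0 := fun i j hij b hb => by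
    obtain ⟨a, s, rfl⟩ := IsLocalization.exists_mk'_eq (Submonoid.powers h) b
    rw [← IsLocalization.mk'_one (M := Submonoid.powers h) B, ← IsLocalization.mk'_mul, IsLocalization.mk'_eq_zero_iff] at hb
    obtain ⟨t, ht⟩ := hb
    rw [mul_left_comm] at ht
    exact (IsLocalization.mk'_eq_zero_iff _ _).mpr ⟨t, co_regular ϖ hϖ.ne_zero hij _ ht⟩
  -- δ f divides a power of ϖ
  have hdvd : ∃ (c : B) (n : ℕ), δ f * c = x ^ n * y ^ n := by
    let Bp := Localization.Away (algebraMap V B ϖ)
    have hu := log_unit (algebraMap V B ϖ) Bp δ f x hδx (isUnit_of_mul_isUnit_left (y := algebraMap B Bp y) (by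
      rw [← map_mul, hxy]; exact IsLocalization.Away.algebraMap_isUnit _)) hf
    obtain ⟨⟨g, ⟨_, n, rfl⟩⟩, hg⟩ := IsLocalization.surj (Submonoid.powers (algebraMap V B ϖ)) (↑hu.unit⁻¹ : Bp)
    have h1 : algebraMap B Bp (δ f * g) = algebraMap B Bp (algebraMap V B ϖ ^ n) := by
      rw [map_mul, ← hg, ← mul_assoc, IsUnit.mul_val_inv, one_mul]
    obtain ⟨⟨_, m, rfl⟩, hm⟩ := IsLocalization.exists_of_eq (M := Submonoid.powers (algebraMap V B ϖ)) h1
    exact ⟨algebraMap V B ϖ ^ m * g, m + n, by
      dsimp only at hm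
      rw [← mul_pow, hxy, pow_add, ← hm]; ring⟩
  obtain ⟨c, n, hc⟩ := hdvd
  have hJ : δ f ∈ Ideal.span {x} ∨ δ f ∈ Ideal.span {y} := by
    by_contra hne
    rw [not_or] at hne
    have hu := unit_of_dvd_pow x y (hreg 0 1 (by decide)) (hreg 1 0 (by decide)) hxp hyp hne.1 hne.2 n n c hc
    exact not_isUnit_der ϖ h k hker hsurj hh δ hδx hδy f hu
  rcases hJ with hJ | hJ
  · obtain ⟨h1, h2⟩ := vanish_and_not_qf ϖ hϖ.ne_zero h k hker hsurj hh (i := 0) (j := 1) (by decide) δ 1 isUnit_one
      (by rw [one_mul]; exact hδx) (by rw [one_mul]; exact hδy) f hJ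
    exact ⟨Or.inl h1, h2⟩
  · obtain ⟨h1, h2⟩ := vanish_and_not_qf ϖ hϖ.ne_zero h k hker hsurj hh (i := 1) (j := 0) (by decide) δ (-1) isUnit_one.neg
      (by rw [neg_one_mul]; exact hδy) (by rw [neg_one_mul, neg_neg]; exact hδx) f hJ
    exact ⟨Or.inr h1, h2⟩

end Groth.Agent.S14386
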