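import Groth.Statements.S14387
import Groth.Agent.Henz21.MilnorFibreApp
-- import your own Groth.Agent.* helpers here

set_option autoImplicit false
open scoped TensorProduct
universe u
open Hensel

namespace Groth.Agent.S14387

/-- Let V be a strictly henselian discrete valuation ring (henselian with separably closed residue field
k) of characteristic zero with k perfect, L an algebraically closed field algebraic over the
fraction field of V, given as a V-algebra into which V embeds, A a V-algebra of finite type, 𝔭 a
prime ideal of A lying in the closed fibre (it contains the maximal ideal of V), and B a strict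
henselization of the local ring A_𝔭. Then the spectrum of L ⊗_V B, which is the algebraic Milnor
fibre of Spec A → Spec V at a geometric point over 𝔭, has finitely many connected components; being
affine it is also quasi-compact and quasi-separated. (The published statement is for a scheme of
finite type over a henselian discrete valuation ring; this row states the affine case over a
strictly henselian V, to which it reduces.) -/
theorem result (V : Type u) [CommRing V] [IsDomain V]
    [IsDiscreteValuationRing V] [HenselianLocalRing V] [IsSepClosed (IsLocalRing.ResidueField V)]
    [PerfectField (IsLocalRing.ResidueField V)] [CharZero V]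
    (L : Type u) [Field L] [IsAlgClosed L] [Algebra V L] [FaithfulSMul V L] [Algebra.IsAlgebraic V L]
    (A : Type u) [CommRing A] [Algebra V A] [Algebra.FiniteType V A]
    (𝔭 : Ideal A) [𝔭.IsPrime] (h𝔭 : (IsLocalRing.maximalIdeal V).map (algebraMap V A) ≤ 𝔭)
    (B : Type u) [CommRing B] [IsLocalRing B] [Algebra (Localization.AtPrime 𝔭) B]
    [IsLocalHom (algebraMap (Localization.AtPrime 𝔭) B)]
    [Hensel.IsStrictHenselization (Localization.AtPrime 𝔭) B]
    [Algebra V B] [IsScalarTower V (Localization.AtPrime 𝔭) B] :
    Finite (ConnectedComponents (PrimeSpectrum (L ⊗[V] B))) := by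
  let Ap := Localization.AtPrime 𝔭
  have hexc : EGA4.IsExcellent Ap := Henz21.isExcellent_atPrime_finiteType V A 𝔭
  have : IsNoetherianRing Ap := hexc.1
  have hG := CAlg1.Andre.isGRing_strictHenselization (S := B) hexc.2.2.1
  have hN : CAlg.IsNagata B := S2654.result B ⟨hG.1, hG, Henz21.isJ2_of_isGRing B hG⟩
  have := Henz21.isLocalHom_to_atPrime V A 𝔭 h𝔭
  have : IsLocalHom (algebraMap V B) := by
    rw [IsScalarTower.algebraMap_eq V Ap B]
    exact RingHom.isLocalHom_comp _ _
  have := Henz21.isAlgClosed_of_perfect_sepClosed (IsLocalRing.ResidueField V)
  have := Henz21.isNoetherianRing_tensor_algClosure V L B hN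
  exact Henz21.finite_connectedComponents _

end Groth.Agent.S14387
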