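import Groth.Statements.S1439
import Groth.Agent.FlatMor66.MaxLocus
import Groth.Agent.S0593

set_option autoImplicit false
universe u
open FlatMor

namespace Groth.Agent.S1439
open Groth.Agent.FlatMor66 AlgebraicGeometry CategoryTheory in
theorem chev : Chev.{u} := fun A B h _ _ _ => Groth.Agent.S0593.result A B h
open Groth.Agent.FlatMor66

open AlgebraicGeometry CategoryTheory Limits in
/-- Let f : X → Y be surjective and quasi-finite with X affine and Y separated and nonempty, and let w
be a positive weighting of f. If the fibre integral of w along f takes exactly k distinct values,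
then Y has an affine stratification with index set {0, …, k − 1} (its affine stratification number
is at most k − 1). -/
theorem result {X Y : Scheme.{u}} (f : X ⟶ Y) [Surjective f] [LocallyQuasiFinite f] [LocallyOfFiniteType f] [QuasiCompact f]
    [IsAffine X] [Y.IsSeparated] [Nonempty ↑Y] (w : ↑X → ℤ) (hw : MoreMor.IsWeighting f w) (hpos : ∀ x, 0 < w x)
    (k : ℕ) (hk : (Set.range (MoreMor.fibreIntegral f w)).ncard = k) (hkfin : (Set.range (MoreMor.fibreIntegral f w)).Finite) :
    MoreMor.HasAffineStratification Y (k - 1) := by
  exact hasAffineStratification_of_values chev f w hw hpos k hk hkfin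

end Groth.Agent.S1439
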