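import Groth.Statements.S14397

set_option autoImplicit false
universe u
open DualGr

namespace Groth.Agent.S14397

/-- Let (V, E) with endpoint map E → V × V be a finite multigraph (loops and parallel edges allowed; the
order of the two endpoints is an auxiliary orientation), and let D_1, …, D_n be finite sets of edges
such that every edge lies outside at least one D_i. For each i let Γ_i be the multigraph obtained by
contracting the edges of D_i, and let H₁(Γ, ℤ) → H₁(Γ_i, ℤ) be the map of cycle lattices (integer
edge vectors with zero boundary) given by restriction to the surviving edges. Then the map H₁(Γ, ℤ)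
→ ⊕_i H₁(Γ_i, ℤ) has torsion-free cokernel. (The published statement is about the connected labelled
dual graph of the closed fibre of a nodal curve, smooth outside a normal crossing divisor with
components D_1, …, D_n, over a Noetherian regular strictly local base; Γ_i is the dual graph of the
fibre over the generic point of D_i, the lattices are identified with the character groups of the
toric parts of the Picard schemes of these fibres, and the map is the generization map of character
groups; this row states the assertion about cycle lattices, for any finite multigraph, which is what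
the argument establishes.) -/
theorem result
    {V E : Type u} [Fintype V] [Fintype E] [DecidableEq V] [DecidableEq E]
    (ends : E → V × V) {n : ℕ} (D : Fin n → Finset E) (hcover : ∀ e : E, ∃ i : Fin n, e ∉ D i) :
    IsAddTorsionFree (((i : Fin n) → ↥(DualGr.cycleLattice (DualGr.ctrEnds ends (D i)))) ⧸
      LinearMap.range (LinearMap.pi fun i : Fin n => DualGr.genMap ends (D i))) := by
  classical
  refine ⟨fun m hm a b hab => ?_⟩
  obtain ⟨a, rfl⟩ := Submodule.Quotient.mk_surjective _ a
  obtain ⟨b, rfl⟩ := Submodule.Quotient.mk_surjective _ b
  simp only [← Submodule.Quotient.mk_smul] at hab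
  rw [Submodule.Quotient.eq, LinearMap.mem_range, ← nsmul_sub] at hab
  obtain ⟨x, hx⟩ := hab
  rw [Submodule.Quotient.eq, LinearMap.mem_range]
  choose i hi using hcover
  let x' : E → ℤ := fun e => ((a - b) (i e)).1 ⟨e, hi e⟩
  have hxe : ∀ (j : Fin n) (e : CtrEdge (D j)), x.1 e.1 = (m : ℤ) * ((a - b) j).1 e := by
    intro j e
    have h1 : (genMap ends (D j) x).1 e = (m • (a - b) j).1 e := by
      rw [← Pi.smul_apply, ← hx, LinearMap.pi_apply]
    rw [show (genMap ends (D j) x).1 e = x.1 e.1 from rfl] at h1
    simpa using h1
  have hxx' : x.1 = (m : ℤ) • x' := funext fun e => by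
    rw [Pi.smul_apply, smul_eq_mul]
    exact hxe (i e) ⟨e, hi e⟩
  have hm' : (m : ℤ) ≠ 0 := Int.natCast_ne_zero.2 hm
  have hx' : x' ∈ cycleLattice ends := by
    have h : boundaryHom ends x.1 = 0 := x.2
    rw [hxx', map_smul] at h
    exact (smul_eq_zero.1 h).resolve_left hm'
  refine ⟨⟨x', hx'⟩, funext fun j => Subtype.ext (funext fun e => ?_)⟩
  show x' e.1 = ((a - b) j).1 e
  have := hxe j e
  rw [hxx', Pi.smul_apply, smul_eq_mul] at this
  exact mul_left_cancel₀ hm' this

end Groth.Agent.S14397
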