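import Groth.Statements.S14408
import Groth.Agent.HP96.Positive
import Groth.Agent.Var76.MumPush
import Groth.Agent.EGA73.VeryAmplePnAmple
import Groth.Agent.FlatMor68.P1Modification

set_option autoImplicit false
set_option backward.isDefEq.respectTransparency.types false
universe u
open CategoryTheory CategoryTheory.Limits AlgebraicGeometry
open HilbNum

namespace Groth.Agent.S14408

open Groth.Agent in
/-- Let k be an algebraically closed field, n a positive integer, F a nonzero coherent O-module on
projective n-space P over k (quasi-coherent of finite type), and P_F a polynomial with rational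
coefficients such that P_F(m) = χ(F(m)) = Σ_{j ≤ n} (-1)^j dim_k H^j(P, F ⊗ O(m)) for every integer
m. Then the degree of P_F equals the dimension of the support of F (the closed set of points where
the stalk of F is nonzero, with the subspace topology). The existence of such a polynomial is not
part of this statement; it enters through the hypothesis on P_F. -/
theorem result (k : Type u) [Field k] [IsAlgClosed k] (n : ℕ) (hn : 0 < n)
    (F : (CohB1.ProjSpace n k).Modules) (hF : Coh.IsCoh F) (hF0 : ¬ IsZero F) (P : Polynomial ℚ)
    (hP : ∀ m : ℤ,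
      ((Finset.range (n + 1)).sum fun j => (-1 : ℚ) ^ j *
        (Module.finrank k (Coh.HH (CohB1.ProjSpace n k) (CohB1.tensorMod F (Twist.twistProjSpace n k m)) j) : ℚ)) =
      P.eval (m : ℚ)) :
    topologicalKrullDim ↥(CohB1.support F) = (P.natDegree : WithBot ℕ∞) := by
  haveI : IsProper (CohB1.ProjSpace n k ↘ Spec (CommRingCat.of k)) := FlatMor68.P1Modification.isProper_toSpec k n
  have hL : CohB1.IsAmple (Twist.twistProjSpace n k 1) := EGA73.VeryAmplePnAmple.isAmple_twistProjSpace k n
  have hH : ShStab.IsHilbPoly k (CohB1.ProjSpace n k) (Twist.twistProjSpace n k 1) F P := fun m => by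
    obtain ⟨i⟩ := EGA73.nonempty_twist_iso_tensorPow (Var76.Reg.hgen n k) m
    have e : ShStab.twist (CohB1.ProjSpace n k) (Twist.twistProjSpace n k 1) F m ≅
        CohB1.tensorMod F (Twist.twistProjSpace n k (m : ℤ)) := EGA73.tensIso (Iso.refl F) i.symm
    rw [Crv77.euler_congr (k := k) e]
    have hq : (CohB1.tensorMod F (Twist.twistProjSpace n k (m : ℤ))).IsQuasicoherent :=
      Amp73.isQCoh_tensorMod hF.1 (Pn71.isQCoh_twistProjSpace n k _)
    have hb : Curv2.euler k (CohB1.ProjSpace n k) (CohB1.tensorMod F (Twist.twistProjSpace n k (m : ℤ))) =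
        ∑ i ∈ Finset.range (n + 1), (-1 : ℤ) ^ i *
          (Module.finrank k (Coh.HH (CohB1.ProjSpace n k) (CohB1.tensorMod F (Twist.twistProjSpace n k (m : ℤ))) i) : ℤ) := by
      refine finsum_eq_sum_of_support_subset _ fun j hj => ?_
      rw [Function.mem_support] at hj
      rw [Finset.coe_range, Set.mem_Iio]
      by_contra hd
      have := Var76.Reg.subsingleton_hh_gt n k _ hq j (not_lt.1 hd)
      exact hj (by rw [Module.finrank_zero_of_subsingleton]; simp)
    rw [hb, Int.cast_sum]
    have := hP m
    simp only [Int.cast_natCast] at this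
    rw [← this]
    refine Finset.sum_congr rfl fun j _ => by push_cast; rfl
  obtain ⟨d, hd⟩ := HP96.exists_dim_eq k hF0
  have hpos := (HP96.alpha_pos_iff k hL hF hd.le).2 hd
  rw [hd, HP96.eq_hp k hH]
  have hc : 0 < (HP96.hp k (Twist.twistProjSpace n k 1) F).coeff d :=
    (mul_pos_iff_of_pos_left (by exact_mod_cast Nat.factorial_pos d)).1 hpos
  rw [le_antisymm (HP96.natDegree_hp_le k hL.1 hF hd.le) (Polynomial.le_natDegree_of_ne_zero hc.ne')]

end Groth.Agent.S14408
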