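import Groth.Statements.S14412
import Mathlib.Algebra.Category.ModuleCat.Localization
import Mathlib.RingTheory.LocalProperties.ProjectiveDimension
import Mathlib.Algebra.Homology.DerivedCategory.Ext.Map
import Mathlib.Algebra.Homology.DerivedCategory.Ext.ExactSequences
import Mathlib.Algebra.Homology.DerivedCategory.Ext.EnoughProjectives
import Mathlib.Algebra.Homology.DerivedCategory.Ext.Linear
import Mathlib.Algebra.Module.FinitePresentation
import Mathlib.Algebra.Category.ModuleCat.Projective
import Mathlib.Algebra.Homology.ShortComplex.ModuleCat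

set_option autoImplicit false
universe u
open CategoryTheory
open CAlg

namespace Groth.Agent.S14412

noncomputable instance locModule {R : Type u} [CommRing R] (S : Submonoid R) (M : ModuleCat.{u} R) :
    Module R ((ModuleCat.localizedModuleFunctor.{u} S).obj M) := inferInstanceAs (Module R (M.localizedModule S))

instance locTower {R : Type u} [CommRing R] (S : Submonoid R) (M : ModuleCat.{u} R) :
    IsScalarTower R (Localization S) ((ModuleCat.localizedModuleFunctor.{u} S).obj M) :=
  inferInstanceAs (IsScalarTower R (Localization S) (M.localizedModule S))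

open Abelian in
theorem map_smul' (R : Type u) [CommRing R] (S : Submonoid R) {M N : ModuleCat.{u} R} {i : ℕ}
    (e : Ext M N i) (r : R) :
    Ext.mapExactFunctor (ModuleCat.localizedModuleFunctor.{u} S) (r • e) =
      algebraMap R (Localization S) r • Ext.mapExactFunctor (ModuleCat.localizedModuleFunctor.{u} S) e := by
  have h : (ModuleCat.localizedModuleFunctor.{u} S).map (r • 𝟙 N) =
      algebraMap R (Localization S) r • 𝟙 ((ModuleCat.localizedModuleFunctor.{u} S).obj N) := by
    refine ModuleCat.hom_ext (LinearMap.restrictScalars_injective R ?_)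
    refine IsLocalizedModule.linearMap_ext S (N.localizedModuleMkLinearMap S) (N.localizedModuleMkLinearMap S) ?_
    ext x
    show IsLocalizedModule.mapExtendScalars S (N.localizedModuleMkLinearMap S) (N.localizedModuleMkLinearMap S)
      (Localization S) (r • 𝟙 N : N ⟶ N).hom (N.localizedModuleMkLinearMap S x) =
        algebraMap R (Localization S) r • N.localizedModuleMkLinearMap S x
    rw [algebraMap_smul, ← map_smul]
    exact IsLocalizedModule.map_apply S (N.localizedModuleMkLinearMap S) (N.localizedModuleMkLinearMap S) (r • 𝟙 N : N ⟶ N).hom x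
  rw [Ext.smul_eq_comp_mk₀, Ext.mapExactFunctor_comp, Ext.mapExactFunctor_mk₀, h, Ext.smul_eq_comp_mk₀]

open Abelian in
theorem main (R : Type u) [CommRing R] [IsNoetherianRing R] (S : Submonoid R) (N : ModuleCat.{u} R) [Module.Finite R N]
    (i : ℕ) : ∀ (M : ModuleCat.{u} R) [Module.Finite R M],
    (∀ y : Ext ((ModuleCat.localizedModuleFunctor.{u} S).obj M) ((ModuleCat.localizedModuleFunctor.{u} S).obj N) i,
        ∃ (e : Ext M N i) (s : S),
          algebraMap R (Localization S) (s : R) • y = Ext.mapExactFunctor (ModuleCat.localizedModuleFunctor.{u} S) e) ∧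
      (∀ e : Ext M N i,
        Ext.mapExactFunctor (ModuleCat.localizedModuleFunctor.{u} S) e = 0 → ∃ s : S, (s : R) • e = 0) := by
  let F := ModuleCat.localizedModuleFunctor.{u} S
  induction i with
  | zero =>
    intro M _
    haveI := Module.finitePresentation_of_finite R M
    let lM := M.localizedModuleMkLinearMap S
    let lN := N.localizedModuleMkLinearMap S
    haveI hloc : IsLocalizedModule S (IsLocalizedModule.map S lM lN) := Module.FinitePresentation.isLocalizedModule_map S lM lN
    refine ⟨fun y => ?_, fun e he => ?_⟩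
    · obtain ⟨g, rfl⟩ := (Ext.mk₀_bijective _ _).2 y
      obtain ⟨⟨f, s⟩, hf⟩ := IsLocalizedModule.surj S (IsLocalizedModule.map S lM lN) (g.hom.restrictScalars R)
      refine ⟨Ext.mk₀ (ModuleCat.ofHom f), s, ?_⟩
      rw [Ext.mapExactFunctor_mk₀, ← Ext.mk₀_smul]
      congr 1
      refine ModuleCat.hom_ext (LinearMap.restrictScalars_injective R ?_)
      refine LinearMap.ext fun x => ?_
      have := LinearMap.congr_fun hf x
      refine Eq.trans ?_ this
      show algebraMap R (Localization S) (s : R) • g.hom x = (s : R) • g.hom x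
      rw [algebraMap_smul]
    · obtain ⟨g, rfl⟩ := (Ext.mk₀_bijective _ _).2 e
      rw [Ext.mapExactFunctor_mk₀] at he
      have h0 : IsLocalizedModule.map S lM lN g.hom = IsLocalizedModule.map S lM lN 0 := by
        have h1 : F.map g = 0 := (Ext.mk₀_bijective _ _).1 (he.trans (Ext.mk₀_zero _ _).symm)
        rw [map_zero]
        refine LinearMap.ext fun x => ?_
        have := LinearMap.congr_fun (congrArg ModuleCat.Hom.hom h1) x
        exact this
      obtain ⟨s, hs⟩ := (IsLocalizedModule.eq_iff_exists S (IsLocalizedModule.map S lM lN)).mp h0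
      refine ⟨s, ?_⟩
      rw [← Ext.mk₀_smul, show (s : R) • g = 0 from ModuleCat.hom_ext (by simpa [Submonoid.smul_def] using hs)]
      exact Ext.mk₀_zero _ _
  | succ i ih =>
    intro M _
    obtain ⟨k, π, hπ⟩ := Module.Finite.exists_fin' R M
    haveI : Module.Finite R (LinearMap.ker π) := Module.Finite.of_fg (IsNoetherian.noetherian _)
    let P : ModuleCat.{u} R := ModuleCat.of R (Fin k → R)
    haveI : Projective P := (IsProjective.iff_projective (R := R) (Fin k → R)).1 inferInstance
    haveI : Module.Finite R P := inferInstanceAs (Module.Finite R (Fin k → R))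
    let T : ShortComplex (ModuleCat.{u} R) := ShortComplex.mk
      (ModuleCat.ofHom (LinearMap.ker π).subtype : ModuleCat.of R (LinearMap.ker π) ⟶ P)
      (ModuleCat.ofHom π : P ⟶ M) (ModuleCat.hom_ext (LinearMap.ext fun x => x.2))
    have hT : T.ShortExact :=
      { exact := (ShortComplex.ShortExact.moduleCat_exact_iff_function_exact T).mpr (LinearMap.exact_subtype_ker_map π)
        mono_f := (ModuleCat.mono_iff_injective _).mpr (LinearMap.ker π).injective_subtype
        epi_g := (ModuleCat.epi_iff_surjective _).mpr hπ }
    let hFT := hT.map_of_exact F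
    haveI : Projective (F.obj P) := F.projective_obj P
    haveI : Module.Finite R T.X₁ := inferInstanceAs (Module.Finite R (LinearMap.ker π))
    obtain ⟨ihs, -⟩ := ih T.X₁
    have lift : ∀ e : Ext M N (i + 1), ∃ x, hT.extClass.comp x (show 1 + i = i + 1 by omega) = e := fun e =>
      Ext.contravariant_sequence_exact₃ hT _ e (Ext.eq_zero_of_projective (P := P) _) _
    refine ⟨fun y => ?_, fun e he => ?_⟩
    · obtain ⟨x, rfl⟩ := Ext.contravariant_sequence_exact₃ hFT _ y (Ext.eq_zero_of_projective (P := F.obj P) _)
        (show 1 + i = i + 1 by omega)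
      obtain ⟨x', s, hx⟩ := ihs x
      refine ⟨hT.extClass.comp x' (show 1 + i = i + 1 by omega), s, ?_⟩
      rw [Ext.mapExactFunctor_comp, Ext.mapExactFunctor_extClass, ← hx]
      exact (Ext.comp_smul _ _ _ _).symm
    · obtain ⟨x, rfl⟩ := lift e
      rw [Ext.mapExactFunctor_comp, Ext.mapExactFunctor_extClass] at he
      obtain ⟨z, hz⟩ := Ext.contravariant_sequence_exact₁ hFT _ _ _ he
      obtain ⟨z', s, hz'⟩ := (ih P).1 z
      have h0 : Ext.mapExactFunctor F ((s : R) • x - (Ext.mk₀ T.f).comp z' (zero_add i)) = 0 := by
        rw [← Functor.mapExtAddHom_coe, map_sub, Functor.mapExtAddHom_coe, map_smul', Ext.mapExactFunctor_comp,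
          Ext.mapExactFunctor_mk₀, ← hz', ← hz]
        exact sub_eq_zero.mpr (Ext.comp_smul _ _ _ _).symm
      obtain ⟨t, ht⟩ := (ih T.X₁).2 _ h0
      refine ⟨t * s, ?_⟩
      rw [smul_sub, sub_eq_zero, ← mul_smul] at ht
      rw [Submonoid.coe_mul, ← Ext.comp_smul, ht, Ext.comp_smul, hT.extClass_comp_assoc, smul_zero]

open Abelian in

/-- Let R be a Noetherian commutative ring, S a multiplicative subset of R, and M, N finitely generated
R-modules. For i ≥ 0 consider the map Ext^i_R(M, N) → Ext^i_{S⁻¹R}(S⁻¹M, S⁻¹N) induced on Ext groups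
(computed in the categories of modules) by the exact localization functor M ↦ S⁻¹M. Then this map
exhibits its target as the localization S⁻¹ Ext^i_R(M, N): every element of the target, after
multiplication by some s ∈ S, is the image of an element of Ext^i_R(M, N), and an element of
Ext^i_R(M, N) maps to zero if and only if it is annihilated by some element of S. (Equivalently, the
induced map identifies S⁻¹Ext^i_R(M, N) with Ext^i_{S⁻¹R}(S⁻¹M, S⁻¹N).) -/
theorem result (R : Type u) [CommRing R] [IsNoetherianRing R]
    (S : Submonoid R) (M N : ModuleCat.{u} R) [Module.Finite R M] [Module.Finite R N] (i : ℕ) :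
    (∀ y : Abelian.Ext ((ModuleCat.localizedModuleFunctor.{u} S).obj M) ((ModuleCat.localizedModuleFunctor.{u} S).obj N) i,
        ∃ (e : Abelian.Ext M N i) (s : S),
          algebraMap R (Localization S) (s : R) • y = (ModuleCat.localizedModuleFunctor.{u} S).mapExtAddHom M N i e) ∧
      (∀ e : Abelian.Ext M N i,
        (ModuleCat.localizedModuleFunctor.{u} S).mapExtAddHom M N i e = 0 ↔ ∃ s : S, (s : R) • e = 0) := by
  obtain ⟨h1, h2⟩ := main R S N i M
  refine ⟨h1, fun e => ⟨h2 e, fun ⟨s, hs⟩ => ?_⟩⟩
  have := congrArg (Ext.mapExactFunctor (ModuleCat.localizedModuleFunctor.{u} S)) hs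
  rw [map_smul', Ext.mapExactFunctor_zero] at this
  exact (IsUnit.smul_eq_zero (IsLocalization.map_units (Localization S) s)).mp this

end Groth.Agent.S14412
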