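import Groth.Statements.S14416
import Mathlib.RingTheory.LocalRing.Module
import Mathlib.RingTheory.Support
import Mathlib.LinearAlgebra.Dimension.Finite
import Mathlib.RingTheory.Nakayama

set_option autoImplicit false
universe u
open scoped TensorProduct
open CAlg

namespace Groth.Agent.S14416

/-- Let B → A be a ring map with A a finitely generated B-module such that for every prime ideal p of B
the fibre κ(p) ⊗_B A has dimension at most one over the residue field κ(p). Then B → A is
surjective. In scheme language: a finite morphism whose degree at every point of the target is 0 or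
1 is a closed immersion. (The published statement assumes the two schemes Noetherian; that
hypothesis plays no role and is dropped here.) -/
theorem result
    (B A : Type u) [CommRing B] [CommRing A] [Algebra B A] [Module.Finite B A]
    (h : ∀ p : PrimeSpectrum B,
      Module.finrank p.asIdeal.ResidueField (p.asIdeal.ResidueField ⊗[B] A) ≤ 1) :
    Function.Surjective (algebraMap B A) := by
  suffices Subsingleton (A ⧸ LinearMap.range (Algebra.linearMap B A)) by
    rw [Submodule.Quotient.subsingleton_iff] at this
    exact LinearMap.range_eq_top.1 this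
  set q := (LinearMap.range (Algebra.linearMap B A)).mkQ
  rw [← Module.support_eq_empty_iff (R := B), Set.eq_empty_iff_forall_notMem]
  intro p hp
  rw [Module.mem_support_iff_nontrivial_residueField_tensorProduct] at hp
  let k := p.asIdeal.ResidueField
  have h1 : q.lTensor k (1 ⊗ₜ (1 : A)) = 0 := by
    have : q (1 : A) = 0 := (Submodule.Quotient.mk_eq_zero _).2 ⟨1, by simp⟩
    rw [LinearMap.lTensor_tmul, this, TensorProduct.tmul_zero]
  have hsurj : Function.Surjective (q.lTensor k) :=
    LinearMap.lTensor_surjective _ (Submodule.mkQ_surjective _)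
  apply not_subsingleton (k ⊗[B] (A ⧸ LinearMap.range (Algebra.linearMap B A)))
  constructor
  suffices ∀ y : k ⊗[B] (A ⧸ LinearMap.range (Algebra.linearMap B A)), y = 0 from fun a b => (this a).trans (this b).symm
  intro y
  obtain ⟨x, rfl⟩ := hsurj y
  rcases subsingleton_or_nontrivial (k ⊗[B] A) with h0 | h0
  · rw [Subsingleton.elim x 0, map_zero]
  have hd : Module.finrank k (k ⊗[B] A) = 1 := le_antisymm (h p) Module.finrank_pos
  have hone : (1 : k) ⊗ₜ[B] (1 : A) ≠ 0 := by
    show (1 : k ⊗[B] A) ≠ 0
    exact one_ne_zero
  obtain ⟨c, rfl⟩ := (finrank_eq_one_iff_of_nonzero' _ hone).1 hd x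
  have : q.lTensor k (c • (1 ⊗ₜ[B] (1 : A))) = (q.baseChange k) (c • (1 ⊗ₜ[B] (1 : A))) := rfl
  rw [this, map_smul]
  show c • q.lTensor k (1 ⊗ₜ[B] (1 : A)) = 0
  rw [h1, smul_zero]

end Groth.Agent.S14416
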