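import Groth.Statements.S14418
import Mathlib.RingTheory.Nakayama
import Mathlib.Algebra.Homology.ShortComplex.ModuleCat
import Mathlib.RingTheory.Noetherian.Basic
import Mathlib.Algebra.Category.ModuleCat.EpiMono
import Mathlib.RingTheory.Ideal.Colon

set_option autoImplicit false
universe u
open CategoryTheory
open CAlg

namespace Groth.Agent.S14418

open CategoryTheory in
theorem shortExact_quot {B : Type u} [CommRing B] {N₁ N₂ N₃ : Type u} [AddCommGroup N₁] [Module B N₁]
    [AddCommGroup N₂] [Module B N₂] [AddCommGroup N₃] [Module B N₃] (f : N₁ →ₗ[B] N₂) (g : N₂ →ₗ[B] N₃)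
    (hf : Function.Injective f) (hg : Function.Surjective g) (he : LinearMap.range f = LinearMap.ker g) :
    (ShortComplex.mk (ModuleCat.ofHom f) (ModuleCat.ofHom g)
      (ModuleCat.hom_ext (LinearMap.ext fun x => (he ▸ LinearMap.mem_range_self f x : f x ∈ LinearMap.ker g)))).ShortExact :=
  { exact := (ShortComplex.moduleCat_exact_iff_range_eq_ker _).2 he
    mono_f := (ModuleCat.mono_iff_injective _).2 hf
    epi_g := (ModuleCat.epi_iff_surjective _).2 hg }

open CategoryTheory in
theorem middle_zero {B A : Type u} [CommRing B] [CommRing A] (T : ModuleCat.{u} B ⥤ ModuleCat.{u} A) [T.Additive]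
    (hex : ∀ S : ShortComplex (ModuleCat.{u} B), S.ShortExact → Module.Finite B S.X₁ →
      Module.Finite B S.X₂ → Module.Finite B S.X₃ → (S.map T).Exact)
    {N₁ N₂ N₃ : Type u} [AddCommGroup N₁] [Module B N₁] [AddCommGroup N₂] [Module B N₂] [AddCommGroup N₃]
    [Module B N₃] [Module.Finite B N₁] [Module.Finite B N₂] [Module.Finite B N₃]
    (f : N₁ →ₗ[B] N₂) (g : N₂ →ₗ[B] N₃) (hf : Function.Injective f) (hg : Function.Surjective g)
    (he : LinearMap.range f = LinearMap.ker g) (h3 : Subsingleton (T.obj (ModuleCat.of B N₃))) :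
    Function.Surjective (T.map (ModuleCat.ofHom f)).hom := by
  intro y
  have h := (ShortComplex.moduleCat_exact_iff _).1
    (hex _ (shortExact_quot f g hf hg he) ‹_› ‹_› ‹_›) y (h3.elim _ _)
  exact h

open CategoryTheory in

/-- Let B → A be a local homomorphism of Noetherian local rings, n the maximal ideal of B, and T an
additive functor from B-modules to A-modules which is B-linear (T applied to multiplication by b ∈ B
is multiplication by the image of b in A), carries finitely generated B-modules to finitely
generated A-modules, and is half-exact on finitely generated modules (every short exact sequence of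
finitely generated B-modules goes to a sequence exact at its middle term). If T(B/n) = 0 then T(N) =
0 for every finitely generated B-module N. (The published statement takes T defined on finitely
generated modules only; here T is defined on all B-modules while every hypothesis and the conclusion
concern finitely generated modules.) -/
theorem result {B A : Type u} [CommRing B] [CommRing A]
    [IsNoetherianRing B] [IsLocalRing B] [IsNoetherianRing A] [IsLocalRing A] [Algebra B A]
    [IsLocalHom (algebraMap B A)] (T : ModuleCat.{u} B ⥤ ModuleCat.{u} A) [T.Additive]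
    (hlin : ∀ (N : ModuleCat.{u} B) (b : B),
      T.map (ModuleCat.ofHom (b • (LinearMap.id : N →ₗ[B] N))) =
        ModuleCat.ofHom (algebraMap B A b • (LinearMap.id : T.obj N →ₗ[A] T.obj N)))
    (hfin : ∀ N : ModuleCat.{u} B, Module.Finite B N → Module.Finite A (T.obj N))
    (hex : ∀ S : ShortComplex (ModuleCat.{u} B), S.ShortExact → Module.Finite B S.X₁ →
      Module.Finite B S.X₂ → Module.Finite B S.X₃ → (S.map T).Exact)
    (h0 : Limits.IsZero (T.obj (ModuleCat.of B (B ⧸ IsLocalRing.maximalIdeal B))))
    (N : ModuleCat.{u} B) [Module.Finite B N] : Limits.IsZero (T.obj N) := by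
  classical
  let Z (M : Type u) [AddCommGroup M] [Module B M] : Prop := Subsingleton (T.obj (ModuleCat.of B M))
  have hcongr : ∀ (M M' : Type u) [AddCommGroup M] [Module B M] [AddCommGroup M'] [Module B M'],
      (M ≃ₗ[B] M') → Z M → Z M' := fun M M' _ _ _ _ e h =>
    haveI : Subsingleton (T.obj (ModuleCat.of B M)) := h
    (T.mapIso e.toModuleIso).toLinearEquiv.symm.toEquiv.subsingleton
  have hz : ∀ (M : Type u) [AddCommGroup M] [Module B M], Subsingleton M → Z M := fun M _ _ hs =>
    ModuleCat.subsingleton_of_isZero (T.map_isZero (ModuleCat.isZero_of_subsingleton (ModuleCat.of B M)))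
  have hext : ∀ {N₁ N₂ N₃ : Type u} [AddCommGroup N₁] [Module B N₁] [AddCommGroup N₂] [Module B N₂]
      [AddCommGroup N₃] [Module B N₃] [Module.Finite B N₁] [Module.Finite B N₂] [Module.Finite B N₃]
      (f : N₁ →ₗ[B] N₂) (g : N₂ →ₗ[B] N₃), Function.Injective f → Function.Surjective g →
      LinearMap.range f = LinearMap.ker g → Z N₁ → Z N₃ → Z N₂ := by
    intro N₁ N₂ N₃ _ _ _ _ _ _ _ _ _ f g hf hg he h1 h3
    haveI : Subsingleton (T.obj (ModuleCat.of B N₁)) := h1
    exact (middle_zero T hex f g hf hg he h3).subsingleton
  -- cyclic modules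
  have hcyc : ∀ I : Ideal B, Z (B ⧸ I) := by
    intro I
    induction I using IsNoetherian.induction with
    | _ I ih =>
      by_cases htop : I = ⊤
      · subst htop; exact hz _ (Submodule.Quotient.subsingleton_iff.2 rfl)
      have key : ∀ b : B, b ∉ I → ∃ (φ : (B ⧸ Submodule.colon I {b}) →ₗ[B] B ⧸ I),
          Function.Injective φ ∧ LinearMap.range φ = LinearMap.ker (Submodule.factor (le_sup_left : I ≤ I ⊔ Ideal.span {b}))
          ∧ (∀ c, φ (Submodule.Quotient.mk c) = Submodule.Quotient.mk (c * b)) := by
        intro b hb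
        refine ⟨Submodule.liftQ _ (I.mkQ ∘ₗ LinearMap.toSpanSingleton B B b) ?_, ?_, ?_, fun c => rfl⟩
        · intro c hc
          show Submodule.Quotient.mk (c * b) = 0
          rw [Submodule.Quotient.mk_eq_zero]
          exact Submodule.mem_colon_singleton.1 hc
        · refine (injective_iff_map_eq_zero _).2 fun z hzz => ?_
          obtain ⟨c, rfl⟩ := Submodule.Quotient.mk_surjective _ z
          rw [Submodule.Quotient.mk_eq_zero]
          exact Submodule.mem_colon_singleton.2 ((Submodule.Quotient.mk_eq_zero I).1 hzz)
        · ext z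
          obtain ⟨z, rfl⟩ := Submodule.Quotient.mk_surjective _ z
          rw [LinearMap.mem_ker]
          show _ ↔ (Submodule.Quotient.mk z : B ⧸ I ⊔ Ideal.span {b}) = 0
          rw [Submodule.Quotient.mk_eq_zero, Submodule.mem_sup]
          constructor
          · rintro ⟨c, hc⟩
            obtain ⟨c, rfl⟩ := Submodule.Quotient.mk_surjective _ c
            exact ⟨z - c * b, (Submodule.Quotient.eq I).1 hc.symm, c * b, Ideal.mem_span_singleton'.2 ⟨c, rfl⟩, by ring⟩
          · rintro ⟨y, hy, w, hw, rfl⟩
            obtain ⟨c, rfl⟩ := Ideal.mem_span_singleton'.1 hw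
            refine ⟨Submodule.Quotient.mk c, ((Submodule.Quotient.eq I).2 ?_).trans rfl⟩
            show c * b - (y + c * b) ∈ I
            rw [show c * b - (y + c * b) = -y by ring]
            exact I.neg_mem hy
      have hlt : ∀ b : B, b ∉ I → I < I ⊔ Ideal.span {b} := fun b hb =>
        left_lt_sup.2 fun h => hb ((Ideal.span_singleton_le_iff_mem _).1 h)
      by_cases hprime : Ideal.IsPrime I
      · by_cases hmax : I = IsLocalRing.maximalIdeal B
        · subst hmax; exact ModuleCat.subsingleton_of_isZero h0
        obtain ⟨b, hbm, hb⟩ := SetLike.exists_of_lt ((IsLocalRing.le_maximalIdeal htop).lt_of_ne hmax)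
        let μ : (B ⧸ I) →ₗ[B] B ⧸ I := b • LinearMap.id
        have hμinj : Function.Injective μ := by
          refine (injective_iff_map_eq_zero _).2 fun z hzz => ?_
          obtain ⟨c, rfl⟩ := Submodule.Quotient.mk_surjective _ z
          rw [Submodule.Quotient.mk_eq_zero]
          exact (hprime.mem_or_mem ((Submodule.Quotient.mk_eq_zero I).1 hzz)).resolve_left hb
        have hμker : LinearMap.range μ = LinearMap.ker (Submodule.factor (le_sup_left : I ≤ I ⊔ Ideal.span {b})) := by
          obtain ⟨φ, -, hφ, hφc⟩ := key b hb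
          rw [← hφ]
          ext z
          constructor
          · rintro ⟨w, rfl⟩
            obtain ⟨c, rfl⟩ := Submodule.Quotient.mk_surjective _ w
            exact ⟨Submodule.Quotient.mk c, by rw [hφc, mul_comm]; rfl⟩
          · rintro ⟨w, rfl⟩
            obtain ⟨c, rfl⟩ := Submodule.Quotient.mk_surjective _ w
            exact ⟨Submodule.Quotient.mk c, by rw [hφc, mul_comm]; rfl⟩
        have hsurj := middle_zero T hex μ _ hμinj (Submodule.factor_surjective _) hμker (ih _ (hlt b hb))
        haveI := hfin (ModuleCat.of B (B ⧸ I)) (inferInstanceAs (Module.Finite B (B ⧸ I)))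
        have hT : ∀ x, (T.map (ModuleCat.ofHom μ)).hom x = algebraMap B A b • x := fun x => by
          rw [show ModuleCat.ofHom μ = ModuleCat.ofHom (b • (LinearMap.id : (ModuleCat.of B (B ⧸ I)) →ₗ[B] _)) from rfl,
            hlin]
          rfl
        have hmem : algebraMap B A b ∈ IsLocalRing.maximalIdeal A := fun hu => hbm (isUnit_of_map_unit _ b hu)
        have htop' : (⊤ : Submodule A (T.obj (ModuleCat.of B (B ⧸ I)))) ≤ Ideal.span {algebraMap B A b} • ⊤ := fun y _ => by
          obtain ⟨x, rfl⟩ := hsurj y
          rw [hT]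
          exact Submodule.smul_mem_smul (Ideal.mem_span_singleton_self _) trivial
        have := Submodule.eq_bot_of_le_smul_of_le_jacobson_bot _ _ Module.Finite.fg_top htop'
          (((Ideal.span_singleton_le_iff_mem _).2 hmem).trans (IsLocalRing.maximalIdeal_le_jacobson _))
        exact subsingleton_of_forall_eq 0 fun y => (Submodule.mem_bot A).1 (this ▸ Submodule.mem_top)
      · simp only [Ideal.isPrime_iff, not_and, not_forall, not_or] at hprime
        obtain ⟨a, b, hab, ha, hb⟩ := hprime htop
        obtain ⟨φ, hφi, hφ, -⟩ := key b hb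
        refine hext φ _ hφi (Submodule.factor_surjective _) hφ (ih _ ?_) (ih _ (hlt b hb))
        refine lt_of_le_of_ne (fun c hc => Submodule.mem_colon_singleton.2 (Ideal.mul_mem_right b I hc)) ?_
        intro h
        exact ha (h ▸ Submodule.mem_colon_singleton.2 hab)
  -- all finite modules
  have hall : ∀ K : Submodule B N, Z (N ⧸ K) := by
    intro K
    induction K using IsNoetherian.induction with
    | _ K ih =>
      by_cases htop : K = ⊤
      · subst htop; exact hz _ (Submodule.Quotient.subsingleton_iff.2 rfl)
      obtain ⟨x, -, hx⟩ := SetLike.exists_of_lt (lt_top_iff_ne_top.2 htop)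
      let f := LinearMap.toSpanSingleton B (N ⧸ K) (Submodule.Quotient.mk x)
      let φ := (LinearMap.ker f).liftQ f le_rfl
      refine hext φ (Submodule.factor (le_sup_left : K ≤ K ⊔ Submodule.span B {x}))
        (LinearMap.ker_eq_bot.1 (Submodule.ker_liftQ_eq_bot _ _ _ le_rfl)) (Submodule.factor_surjective _) ?_
        (hcyc _) (ih _ (left_lt_sup.2 fun h => hx (h (Submodule.mem_span_singleton_self x))))
      rw [Submodule.range_liftQ, LinearMap.range_toSpanSingleton]
      ext z
      obtain ⟨z, rfl⟩ := Submodule.Quotient.mk_surjective _ z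
      rw [LinearMap.mem_ker]
      show _ ↔ (Submodule.Quotient.mk z : _ ⧸ K ⊔ Submodule.span B {x}) = 0
      rw [Submodule.Quotient.mk_eq_zero, Submodule.mem_span_singleton, Submodule.mem_sup]
      constructor
      · rintro ⟨c, hc⟩
        exact ⟨z - c • x, (Submodule.Quotient.eq K).1 hc.symm, c • x, Submodule.smul_mem _ c (Submodule.mem_span_singleton_self x), by abel⟩
      · rintro ⟨y, hy, w, hw, rfl⟩
        obtain ⟨c, rfl⟩ := Submodule.mem_span_singleton.1 hw
        refine ⟨c, (Submodule.Quotient.eq K).2 ?_⟩
        rw [show c • x - (y + c • x) = -y by abel]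
        exact K.neg_mem hy
  haveI : Subsingleton (T.obj (ModuleCat.of B N)) := hcongr _ _ (Submodule.quotEquivOfEqBot _ rfl) (hall ⊥)
  exact ModuleCat.isZero_of_subsingleton (T.obj (ModuleCat.of B N))

end Groth.Agent.S14418
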