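import Groth.Statements.S14421
import Mathlib

set_option autoImplicit false
universe u v
open CategoryTheory
open HomAlg

namespace Groth.Agent.S14421

/-- Let φ : K → J be a morphism of cochain complexes of modules over a ring which is surjective in
degree p − 1. Then the map induced on cohomology in degree p is surjective if and only if the map
induced on cocycles in degree p is surjective. (Stated for cochain complexes indexed by the
integers; the published statement is for three-term complexes in degrees p − 1, p, p + 1, which
embed as such complexes.) -/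
theorem result {R : Type u} [Ring R]
    (K J : CochainComplex (ModuleCat.{v} R) ℤ) (φ : K ⟶ J) (p : ℤ) [Epi (φ.f (p - 1))] :
    Epi (HomologicalComplex.homologyMap φ p) ↔ Epi (HomologicalComplex.cyclesMap φ p) := by
  constructor
  · intro _
    rw [epi_iff_surjective_up_to_refinements]
    intro A z'
    obtain ⟨A₁, π₁, _, h, hh⟩ := surjective_up_to_refinements_of_epi
      (HomologicalComplex.homologyMap φ p) (z' ≫ J.homologyπ p)
    obtain ⟨A₂, π₂, _, z, hz⟩ := surjective_up_to_refinements_of_epi (K.homologyπ p) h
    let x := π₂ ≫ π₁ ≫ z' - z ≫ HomologicalComplex.cyclesMap φ p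
    have hx : x ≫ J.homologyπ p = 0 := by
      simp only [x, Preadditive.sub_comp, Category.assoc, sub_eq_zero, hh,
        ← HomologicalComplex.homologyπ_naturality, ← reassoc_of% hz]
    obtain ⟨A₃, π₃, _, y', hy'⟩ := (ShortComplex.exact_of_g_is_cokernel
      (ShortComplex.mk (J.toCycles (p - 1) p) (J.homologyπ p) (J.toCycles_comp_homologyπ _ _))
      (J.homologyIsCokernel (p - 1) p (by simp))).exact_up_to_refinements x hx
    dsimp at y' hy'
    obtain ⟨A₄, π₄, _, y, hy⟩ := surjective_up_to_refinements_of_epi (φ.f (p - 1)) y'
    refine ⟨A₄, π₄ ≫ π₃ ≫ π₂ ≫ π₁, inferInstance,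
      y ≫ K.toCycles (p - 1) p + π₄ ≫ π₃ ≫ z, ?_⟩
    have nat : φ.f (p - 1) ≫ J.toCycles (p - 1) p =
        K.toCycles (p - 1) p ≫ HomologicalComplex.cyclesMap φ p := by
      simp [← cancel_mono (J.iCycles p)]
    have e1 : π₄ ≫ π₃ ≫ x = y ≫ K.toCycles (p - 1) p ≫ HomologicalComplex.cyclesMap φ p := by
      rw [hy', reassoc_of% hy, nat]
    simp only [x, Preadditive.comp_sub] at e1
    simp only [Category.assoc, Preadditive.add_comp, ← e1]
    abel
  · intro _
    haveI : Epi (K.homologyπ p ≫ HomologicalComplex.homologyMap φ p) := by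
      rw [HomologicalComplex.homologyπ_naturality]
      exact epi_comp _ _
    exact epi_of_epi (K.homologyπ p) _

end Groth.Agent.S14421
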