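import Groth.Statements.S14423
import Groth.Agent.TorMod7.Basic
import Mathlib.RingTheory.MvPolynomial.Homogeneous
import Mathlib.RingTheory.Nakayama
import Mathlib.Algebra.GradedMulAction
import Mathlib.LinearAlgebra.Basis.VectorSpace
import Mathlib.Algebra.Module.Torsion.Basic
import Mathlib.LinearAlgebra.TensorProduct.RightExactness
import Mathlib.RingTheory.Polynomial.Basic
import Mathlib.LinearAlgebra.Dimension.Finite

set_option autoImplicit false
universe u
open CategoryTheory
open CAlg

namespace Groth.Agent.S14423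

open MvPolynomial
open scoped TensorProduct

variable {k : Type u} [Field k] {n : ℕ} {M : Type u} [AddCommGroup M]
  [Module (MvPolynomial (Fin (n + 1)) k) M] (ℳ : ℕ → AddSubgroup M)
  [SetLike.GradedSMul (homogeneousSubmodule (Fin (n + 1)) k) ℳ] [DirectSum.Decomposition ℳ]

theorem comp_smul (s : MvPolynomial (Fin (n + 1)) k) {i : ℕ} {x : M} (hx : x ∈ ℳ i) (d : ℕ) :
    (DirectSum.decompose ℳ (s • x) d : M) =
      if i ≤ d then homogeneousComponent (d - i) s • x else 0 := by
  classical
  have hmem : ∀ j, homogeneousComponent j s • x ∈ ℳ (j + i) := fun j =>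
    SetLike.GradedSMul.smul_mem (homogeneousComponent_mem j s) hx
  conv_lhs => rw [← sum_homogeneousComponent s, Finset.sum_smul, DirectSum.decompose_sum]
  rw [DFinsupp.finsetSum_apply, AddSubgroup.val_finsetSum]
  split_ifs with hid
  · rw [Finset.sum_eq_single (d - i)]
    · rw [DirectSum.decompose_of_mem_same]
      have := hmem (d - i)
      rwa [Nat.sub_add_cancel hid] at this
    · intro j _ hj
      exact DirectSum.decompose_of_mem_ne ℳ (hmem j) (by omega)
    · intro hd
      have : s.homogeneousComponent (d - i) = 0 :=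
        homogeneousComponent_eq_zero _ _ (by
          rw [Finset.mem_range] at hd; omega)
      simp [this]
  · exact Finset.sum_eq_zero fun j _ => DirectSum.decompose_of_mem_ne ℳ (hmem j) (by omega)

theorem comp_mem_span {ι : Type u} (e : ι → M) (he : ∀ i, SetLike.IsHomogeneousElem ℳ (e i))
    {y : M} (hy : y ∈ Submodule.span (MvPolynomial (Fin (n + 1)) k) (Set.range e)) (d : ℕ) :
    (DirectSum.decompose ℳ y d : M) ∈ Submodule.span (MvPolynomial (Fin (n + 1)) k) (Set.range e) := by
  rw [Finsupp.mem_span_range_iff_exists_finsupp] at hy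
  obtain ⟨c, rfl⟩ := hy
  rw [Finsupp.sum, DirectSum.decompose_sum, DFinsupp.finsetSum_apply, AddSubgroup.val_finsetSum]
  refine Submodule.sum_mem _ fun i _ => ?_
  obtain ⟨j, hj⟩ := he i
  rw [comp_smul ℳ (c i) hj d]
  split_ifs
  · exact Submodule.smul_mem _ _ (Submodule.subset_span ⟨i, rfl⟩)
  · exact Submodule.zero_mem _

/-- Graded freeness criterion: let k be a field, S = k[x_0, …, x_n] with its standard grading by degree,
and M a finitely generated graded S-module. If Tor_1^S(M, k) = 0, where k = S/S_+ (S modulo the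
ideal of polynomials with zero constant term) and Tor_1^S(M, ·) is the first left derived functor of
M ⊗_S ·, then M is free with a basis of homogeneous elements, i.e. M is isomorphic as a graded
module to a finite direct sum of shifted copies S(−d_i). (Here the module is graded in non-negative
degrees; the published statement allows any integer degrees.) -/
theorem result (k : Type u) [Field k] (n : ℕ)
    (M : Type u) [AddCommGroup M] [Module (MvPolynomial (Fin (n + 1)) k) M]
    [Module.Finite (MvPolynomial (Fin (n + 1)) k) M]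
    (ℳ : ℕ → AddSubgroup M)
    [SetLike.GradedSMul (MvPolynomial.homogeneousSubmodule (Fin (n + 1)) k) ℳ]
    [DirectSum.Decomposition ℳ]
    (h : Limits.IsZero (((Tor (ModuleCat.{u} (MvPolynomial (Fin (n + 1)) k)) 1).obj
      (ModuleCat.of (MvPolynomial (Fin (n + 1)) k) M)).obj
      (ModuleCat.of (MvPolynomial (Fin (n + 1)) k)
        (MvPolynomial (Fin (n + 1)) k ⧸
          RingHom.ker (MvPolynomial.constantCoeff : MvPolynomial (Fin (n + 1)) k →+* k))))) :
    ∃ (ι : Type u) (b : Module.Basis ι (MvPolynomial (Fin (n + 1)) k) M),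
      ∀ i, SetLike.IsHomogeneousElem ℳ (b i) := by
  classical
  let S := MvPolynomial (Fin (n + 1)) k
  let m : Ideal S := RingHom.ker (constantCoeff : S →+* k)
  haveI hmax : m.IsMaximal := RingHom.ker_isMaximal_of_surjective _ fun c => ⟨C c, constantCoeff_C _ c⟩
  letI : Field (S ⧸ m) := Ideal.Quotient.field m
  let P : Submodule S M := m • ⊤
  letI : Module (S ⧸ m) (M ⧸ P) := inferInstanceAs (Module (S ⧸ m) (M ⧸ (m • ⊤ : Submodule S M)))
  haveI : IsScalarTower S (S ⧸ m) (M ⧸ P) :=
    inferInstanceAs (IsScalarTower S (S ⧸ m) (M ⧸ (m • ⊤ : Submodule S M)))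
  -- Tor condition
  have hinj : Function.Injective ((LinearMap.ker m.mkQ).subtype.lTensor M) :=
    (TorMod7.isZero_tor_one_iff_of_surjective (ModuleCat.of S M) m.mkQ m.mkQ_surjective).1 h
  -- homogeneous generators modulo `m`
  let T : Set (M ⧸ P) := P.mkQ '' {x | SetLike.IsHomogeneousElem ℳ x}
  have hTtop : Submodule.span (S ⧸ m) T = ⊤ := by
    rw [eq_top_iff]
    intro y _
    obtain ⟨x, rfl⟩ := P.mkQ_surjective y
    rw [← DirectSum.sum_support_decompose ℳ x, map_sum]
    exact Submodule.sum_mem _ fun i _ => Submodule.subset_span ⟨_, ⟨i, SetLike.coe_mem _⟩, rfl⟩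
  obtain ⟨b, hbT, hbspan, hbli⟩ := exists_linearIndependent (S ⧸ m) T
  rw [hTtop] at hbspan
  choose e he heq using fun i : b => hbT i.2
  let N := Submodule.span S (Set.range e)
  -- generation
  have hgen : N = ⊤ := by
    have h1 : (⊤ : Submodule S (M ⧸ N)) ≤ m • ⊤ := by
      have hsup : ∀ x : M, x ∈ N ⊔ P := by
        intro x
        have hx : P.mkQ x ∈ N.map P.mkQ := by
          have hx : P.mkQ x ∈ Submodule.span (S ⧸ m) b := hbspan ▸ trivial
          rw [← SetLike.mem_coe, ← Submodule.coe_restrictScalars S,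
            Submodule.restrictScalars_span S (S ⧸ m) Ideal.Quotient.mk_surjective] at hx
          refine Submodule.span_le.2 ?_ hx
          exact fun z hz => ⟨e ⟨z, hz⟩, Submodule.subset_span ⟨_, rfl⟩, heq ⟨z, hz⟩⟩
        obtain ⟨z, hz, hxz⟩ := hx
        exact Submodule.mem_sup.2 ⟨z, hz, x - z, (Submodule.Quotient.eq _).1 hxz.symm, by abel⟩
      intro y _
      obtain ⟨x, rfl⟩ := N.mkQ_surjective y
      obtain ⟨z, hz, w, hw, rfl⟩ := Submodule.mem_sup.1 (hsup x)
      rw [map_add, show N.mkQ z = 0 from (Submodule.Quotient.mk_eq_zero _).2 hz, zero_add,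
        ← Submodule.range_mkQ N, ← Submodule.map_top, ← Submodule.map_smul'']
      exact ⟨w, hw, rfl⟩
    obtain ⟨r, hr1, hr⟩ := Submodule.exists_sub_one_mem_and_smul_eq_zero_of_fg_of_le_smul m
      (⊤ : Submodule S (M ⧸ N)) Module.Finite.fg_top h1
    rw [eq_top_iff]
    intro x _
    rw [← DirectSum.sum_support_decompose ℳ x]
    refine Submodule.sum_mem _ fun d _ => ?_
    set z := (DirectSum.decompose ℳ x d : M)
    have hz : z ∈ ℳ d := SetLike.coe_mem _
    have hrz : r • z ∈ N := by
      rw [← Submodule.Quotient.mk_eq_zero, Submodule.Quotient.mk_smul]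
      exact hr _ trivial
    have h2 := comp_mem_span ℳ e he hrz d
    rw [comp_smul ℳ r hz d, if_pos le_rfl, Nat.sub_self, homogeneousComponent_zero] at h2
    have hc : constantCoeff r = 1 := by
      have h0 : constantCoeff (r - 1) = 0 := hr1
      rwa [map_sub, map_one, sub_eq_zero] at h0
    rwa [show coeff 0 r = 1 from hc, C_1, one_smul] at h2
  -- independence
  let π : (b →₀ S) →ₗ[S] M := Finsupp.linearCombination S e
  have hπ : Function.Surjective π := by
    rw [← LinearMap.range_eq_top, Finsupp.range_linearCombination]; exact hgen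
  have hKm : LinearMap.ker π ≤ m • LinearMap.ker π := by
    intro x hx
    have hxm : ∀ i, x i ∈ m := by
      intro i
      rw [← Ideal.Quotient.eq_zero_iff_mem]
      have h0 := congrArg P.mkQ hx
      simp only [π, Finsupp.linearCombination_apply, Finsupp.sum, map_sum, map_smul, map_zero] at h0
      have h1 : Finsupp.linearCombination (S ⧸ m) (fun i : b => (i : M ⧸ P))
          (x.mapRange (Ideal.Quotient.mk m) (map_zero _)) = 0 := by
        rw [Finsupp.linearCombination_apply, Finsupp.sum_mapRange_index (by simp)]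
        refine (Finset.sum_congr rfl fun j _ => ?_).trans h0
        rw [heq]
        rfl
      simpa using DFunLike.congr_fun (linearIndependent_iff.1 hbli _ h1) i
    let t : (b →₀ S) ⊗[S] (LinearMap.ker m.mkQ) :=
      ∑ i ∈ x.support, Finsupp.single i 1 ⊗ₜ[S] ⟨x i, by simpa using hxm i⟩
    have ht : π.rTensor _ t = 0 := hinj (by
      apply (TensorProduct.rid S M).injective
      simpa [t, π, Finsupp.linearCombination_apply, Finsupp.sum] using hx)
    have hex : Function.Exact (LinearMap.ker π).subtype π := fun y =>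
      ⟨fun hy => ⟨⟨y, hy⟩, rfl⟩, by rintro ⟨⟨z, hz⟩, rfl⟩; exact hz⟩
    obtain ⟨u, hu⟩ := ((rTensor_exact (R := S) (M := ↥(LinearMap.ker π)) (N := (b →₀ S)) (P := M) (LinearMap.ker m.mkQ) hex hπ) t).1 ht
    let μ : (b →₀ S) ⊗[S] (LinearMap.ker m.mkQ) →ₗ[S] (b →₀ S) :=
      (TensorProduct.rid S _).toLinearMap ∘ₗ (LinearMap.ker m.mkQ).subtype.lTensor _
    have hx' : x = μ t := by
      simp [μ, t]
      exact x.sum_single.symm
    rw [hx', ← hu]
    generalize u = u'
    induction u' with
    | zero => simp
    | add a c ha hc => rw [map_add, map_add]; exact add_mem ha hc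
    | tmul a c =>
      simp only [μ, LinearMap.rTensor_tmul, LinearMap.comp_apply, LinearMap.lTensor_tmul,
        LinearEquiv.coe_coe, TensorProduct.rid_tmul, Submodule.subtype_apply]
      exact Submodule.smul_mem_smul (by simpa using c.2) a.2
  haveI : Module.Finite (S ⧸ m) (M ⧸ P) := Module.Finite.of_restrictScalars_finite S _ _
  haveI : Finite b := LinearIndependent.finite hbli
  obtain ⟨r, hr1, hr⟩ := Submodule.exists_sub_one_mem_and_smul_eq_zero_of_fg_of_le_smul m
    (LinearMap.ker π) (IsNoetherian.noetherian _) hKm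
  have hr0 : r ≠ 0 := fun h0 => by
    rw [h0, zero_sub, neg_mem_iff] at hr1
    exact hmax.ne_top ((Ideal.eq_top_iff_one _).2 hr1)
  have hπi : LinearMap.ker π = ⊥ := by
    rw [eq_bot_iff]
    exact fun x hx => (smul_eq_zero.1 (hr x hx)).resolve_left hr0
  refine ⟨b, Module.Basis.mk (v := e) (linearIndependent_iff_ker.2 hπi) hgen.ge, fun i => ?_⟩
  rw [Module.Basis.mk_apply]
  exact he i

end Groth.Agent.S14423
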