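import Groth.Statements.S14425
import Groth.Agent.LC17.LocalDepth

set_option autoImplicit false
universe u
open LocCoh

namespace Groth.Agent.S14425

/-- Let (R, m) be a Noetherian local ring, M a nonzero finitely generated R-module and x_1, …, x_n
elements of m generating the ideal a. Then depth(a, M) = n if and only if x_1, …, x_n is an
M-regular sequence (each x_i a non-zero-divisor on M/(x_1, …, x_{i-1})M; the condition (x)M ≠ M is
automatic here). -/
theorem result {R : Type u} [CommRing R] [IsNoetherianRing R] [IsLocalRing R]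
    {M : Type u} [AddCommGroup M] [Module R M] [Module.Finite R M] [Nontrivial M]
    (xs : List R) (hxs : ∀ x ∈ xs, x ∈ IsLocalRing.maximalIdeal R) :
    LocCoh.idealDepth (Ideal.span {x | x ∈ xs}) M = xs.length ↔ RingTheory.Sequence.IsWeaklyRegular M xs := by
  have hspan : Ideal.span {x | x ∈ xs} = Ideal.ofList xs := rfl
  have ha : Ideal.span {x | x ∈ xs} ≤ IsLocalRing.maximalIdeal R := Ideal.span_le.mpr hxs
  have hmem : ∀ x ∈ xs, x ∈ Ideal.span {x | x ∈ xs} := fun x hx => Ideal.subset_span hx
  have hle : Ideal.span {x | x ∈ xs} ≤ Ideal.ofList xs ⊔ Module.annihilator R M :=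
    hspan.le.trans le_sup_left
  refine ⟨fun h => Groth.Agent.LC17.isWeaklyRegular_of_le_idealDepth _ ha xs M hmem hle h.ge,
    fun h => le_antisymm ?_ ?_⟩
  · by_contra! hlt
    refine Groth.Agent.LC17.idealDepth_le_length _ ha xs M hmem hle h ?_
    rw [Nat.cast_add, Nat.cast_one]
    exact (ENat.add_one_le_iff (ENat.natCast_ne_top _)).mpr hlt
  · rw [LocCoh.idealDepth, if_neg (Groth.Agent.EGA4Alg4.smul_top_lt_top _ ha).ne]
    exact le_iSup₂ (f := fun (rs : List R) _ => ((rs.length : ℕ) : ℕ∞)) xs ⟨h, hmem⟩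

end Groth.Agent.S14425
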