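import Groth.Statements.S14426
import Groth.Agent.Koszul41.Reg

set_option autoImplicit false
universe u
open Koszul3

namespace Groth.Agent.S14426

open CategoryTheory CategoryTheory.Limits in
/-- Let (R, m) be a Noetherian local ring, M a nonzero finitely generated R-module and x_1, …, x_n
elements of m generating the ideal a. Then depth(a, M) ≤ n; the Koszul cohomology H^p(x; M) vanishes
for every p < depth(a, M); and H^r(x; M) is nonzero for r = depth(a, M). (Cohomological indexing
with H^n(x; M) = M/(x)M; in homological indexing this reads H_i = 0 for i > n − r and H_{n−r} ≠ 0.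
Koszul complex realised by iterated mapping cones, as in the prelude.) -/
theorem result {R : Type u} [CommRing R] [IsNoetherianRing R] [IsLocalRing R]
    (M : Type u) [AddCommGroup M] [Module R M] [Module.Finite R M] [Nontrivial M]
    (xs : List R) (hxs : ∀ x ∈ xs, x ∈ IsLocalRing.maximalIdeal R) :
    LocCoh.idealDepth (Ideal.span {x | x ∈ xs}) M ≤ xs.length ∧
      (∀ p : ℕ, (p : ℕ∞) < LocCoh.idealDepth (Ideal.span {x | x ∈ xs}) M → IsZero (CohIII.koszulH xs (ModuleCat.of R M) p)) ∧
      (∀ r : ℕ, LocCoh.idealDepth (Ideal.span {x | x ∈ xs}) M = r → ¬ IsZero (CohIII.koszulH xs (ModuleCat.of R M) r)) := by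
  have hI : Ideal.span {x | x ∈ xs} = Ideal.ofList xs := rfl
  have hle : Ideal.ofList xs ≤ IsLocalRing.maximalIdeal R := Ideal.span_le.2 hxs
  have hIM : Ideal.ofList xs • (⊤ : Submodule R M) ≠ ⊤ := fun h => by
    have := Submodule.eq_bot_of_le_smul_of_le_jacobson_bot (Ideal.ofList xs) (⊤ : Submodule R M)
      Module.Finite.fg_top h.ge (hle.trans (IsLocalRing.maximalIdeal_le_jacobson _))
    exact top_ne_bot this
  obtain ⟨d, hd⟩ := ENat.ne_top_iff_exists.1
    (LC15.idealDepth_ne_top (I := Ideal.ofList xs) (M := M) hIM)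
  refine ⟨?_, fun p hp => ?_, fun r hr h => ?_⟩
  · rw [hI, ← hd, Nat.cast_le]
    by_contra hlt
    have hex := Koszul41.ex_of_lt_idealDepth xs d M hd.le 0 (by omega)
    refine hIM (eq_top_iff.2 fun m _ => ?_)
    obtain ⟨w, hw⟩ := hex (-1) 1 (by omega) (by omega)
      ((Koszul94.eps (ModuleCat.of R M) xs).symm m)
      (haveI := Koszul94.subsingleton_X (ModuleCat.of R M) xs 1 one_pos
       Subsingleton.elim _ _)
    exact (Koszul94.range_eps_d (ModuleCat.of R M) xs).le ⟨w, by
      rw [LinearMap.comp_apply, LinearEquiv.coe_coe, hw, LinearEquiv.apply_symm_apply]⟩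
  · refine (Koszul19.isZero_homology_iff_ex _ _).2
      (Koszul41.ex_of_lt_idealDepth xs d M hd.le _ ?_)
    rw [hI, ← hd, Nat.cast_lt] at hp
    omega
  · exact Koszul41.not_ex_idealDepth xs r M hr ((Koszul19.isZero_homology_iff_ex _ _).1 h)

end Groth.Agent.S14426
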