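import Groth.Statements.S1443
import Groth.Agent.Proper66.VanishRpush

set_option autoImplicit false
universe u
open FlatMor

namespace Groth.Agent.S1443

open AlgebraicGeometry CategoryTheory Limits in
/-- Let f : X → Y be a proper morphism with Y affine such that every fibre X_y has dimension ≤ 1 and
H¹(X_y, O_{X_y}) = 0. Then H^p(X, F) = 0 for every quasi-coherent O_X-module F and every p ≥ 2. -/
theorem result {X Y : Scheme.{u}} (f : X ⟶ Y) [IsProper f] [IsAffine Y]
    (hdim : ∀ y : Y, topologicalKrullDim ↑(f.fiber y) ≤ 1) (hH1 : ∀ y : Y, Subsingleton (Coh.HH (f.fiber y) (Coh.structureModule (f.fiber y)) 1))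
    (F : X.Modules) (hF : Coh.IsQCoh F) (p : ℕ) (hp : 2 ≤ p) : Subsingleton (Coh.HH X F p) := by
  haveI : IsProper (f ≫ Y.isoSpec.hom) := inferInstance
  refine Groth.Agent.Proper66.vanish_of_dims_le (A := Γ(Y, ⊤)) (f ≫ Y.isoSpec.hom) (d := 1) (fun y => ?_) p hp F hF
  exact Groth.Agent.Proper66.dims_le_of_isPullback (p := 𝟙 X) (g := Y.isoSpec.inv)
    (f := f) (IsPullback.of_horiz_isIso ⟨by simp⟩) (fun y => by exact_mod_cast hdim y) y

end Groth.Agent.S1443
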