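import Groth.Statements.S14430
import Groth.Agent.S3746
import Groth.Agent.CD47.Resolution
import Groth.Agent.KDer46.Main
import Groth.Agent.VarGal.SmoothReg
import Groth.Agent.Curves2.ProjLineProper

set_option autoImplicit false
universe u
open CategoryTheory CategoryTheory.Limits AlgebraicGeometry
open KZero

namespace Groth.Agent.S14430

/-- Let k be an algebraically closed field and X a smooth quasi-projective variety over k — here a
k-scheme smooth over k admitting an immersion into some P^N_k over k. Write K^0(X) for the
Grothendieck group of finite locally free O_X-modules and K_0(X) for that of coherent O_X-modules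
(K_0 of the corresponding full subcategories of O_X-modules, with relations from short exact
sequences all of whose terms lie in the subcategory). Then there is a homomorphism K^0(X) → K_0(X)
sending the class of each finite locally free E to its class as a coherent module (the canonical
one, determined by this), and it is bijective. (The published statement is for smooth
quasi-projective varieties; this row takes a k-scheme smooth over k with an immersion into some
P^N_k, reduced since smooth; irreducibility is not assumed.) -/
theorem result (k : Type u) [Field k] [IsAlgClosed k] (N : ℕ)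
    (X : Scheme.{u}) [X.Over (Spec (CommRingCat.of k))] [Smooth (X ↘ Spec (CommRingCat.of k))]
    (ι : X ⟶ CohB1.ProjSpace N k) [IsImmersion ι] (hι : ι ≫ CohB1.ProjSpace.toSpec N k = X ↘ Spec (CommRingCat.of k)) :
    ∃ α : KZero.K0sub (fun M : X.Modules => FlatMod.IsFinLocFree M) →+ KZero.K0sub (fun M : X.Modules => Coh.IsCoh M),
      (∀ E : X.Modules, FlatMod.IsFinLocFree E →
        α (KZero.clSub (fun M : X.Modules => FlatMod.IsFinLocFree M) E) = KZero.clSub (fun M : X.Modules => Coh.IsCoh M) E) ∧
      Function.Bijective α := by
  haveI : IsProper (CohB1.ProjSpace.toSpec N k) := Groth.Agent.Curves2.ProjLine.isProper_toSpec k N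
  haveI : IsLocallyNoetherian (CohB1.ProjSpace N k) :=
    LocallyOfFiniteType.isLocallyNoetherian (CohB1.ProjSpace.toSpec N k)
  haveI : CompactSpace ↥(CohB1.ProjSpace N k) :=
    QuasiCompact.compactSpace_of_compactSpace (CohB1.ProjSpace.toSpec N k)
  haveI : IsNoetherian (CohB1.ProjSpace N k) := {}
  haveI : IsLocallyNoetherian X := LocallyOfFiniteType.isLocallyNoetherian ι
  haveI : TopologicalSpace.NoetherianSpace X := ι.isEmbedding.isInducing.noetherianSpace
  haveI : QuasiCompact ι := inferInstance
  haveI : IsNoetherian X := { toCompactSpace := QuasiCompact.compactSpace_of_compactSpace ι }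
  haveI : X.IsSeparated := ⟨by
    rw [← terminal.comp_from (ι ≫ CohB1.ProjSpace.toSpec N k)]
    infer_instance⟩
  have hreg := Groth.Agent.VarGal.isRegularLocalRing_stalk_of_smooth (X ↘ Spec (CommRingCat.of k))
  have hX : KRR.HasEnoughLocFree X := fun F hF => by
    obtain ⟨E, p, hE, -, hp⟩ := Groth.Agent.CD47.exists_epi_finLocFree hreg F hF
    exact ⟨E, p, hE, hp⟩
  have hle : ∀ M : X.Modules, FlatMod.IsFinLocFree M → Coh.IsCoh M := fun M hM =>
    Groth.Agent.CD47.isCoh_of_isFinLocFree hM
  refine ⟨SGA6.mapSub (𝟭 X.Modules) (KRR.vbP X) (fun M : X.Modules => Coh.IsCoh M) hle, fun E hE => ?_,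
    Groth.Agent.S3746.result X hreg hX hle⟩
  show SGA6.mapSub (𝟭 X.Modules) (KRR.vbP X) (fun M : X.Modules => Coh.IsCoh M) hle (KZero.clSub _ E) = _
  rw [Groth.Agent.KDer46.clSub_eq hE, Groth.Agent.KDer46.clSub_eq (hle E hE)]
  exact congrArg _ (FreeAbelianGroup.map_of_apply _)

end Groth.Agent.S14430
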