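import Groth.Statements.S14434
import Groth.Agent.TorMod7.Basic
import Groth.Agent.TorMod7.PD

set_option autoImplicit false
universe u
open CAlg

namespace Groth.Agent.S14434

open CategoryTheory Limits

/-- Let R be a commutative ring, M an R-module and x ∈ R a non-zero-divisor on R and on M. Then
Tor_i^R(M, R/(x)) = 0 for all i ≥ 1 (Tor computed as the left derived functors of the tensor product
on R-modules). -/
theorem result {R : Type u} [CommRing R] (M : Type u) [AddCommGroup M] [Module R M]
    (x : R) (hxR : IsSMulRegular R x) (hxM : IsSMulRegular M x) (i : ℕ) (hi : 1 ≤ i) :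
    Subsingleton (DRing.Tor R i M (R ⧸ Ideal.span {x})) := by
  suffices IsZero (((Tor (ModuleCat.{u} R) i).obj (ModuleCat.of R M)).obj
      (ModuleCat.of R (R ⧸ Ideal.span {x}))) from ModuleCat.subsingleton_of_isZero this
  let p : R →ₗ[R] R ⧸ Ideal.span {x} := Submodule.mkQ _
  have hp : Function.Surjective p := Submodule.mkQ_surjective _
  let μ : R →ₗ[R] ↥(LinearMap.ker p) :=
    (LinearMap.lsmul R R x).codRestrict _ fun a => by
      rw [LinearMap.mem_ker]
      exact (Submodule.Quotient.mk_eq_zero _).2 (Ideal.mem_span_singleton'.2 ⟨a, mul_comm a x⟩)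
  have hμ : Function.Bijective μ := by
    refine ⟨fun a b hab => hxR (congrArg Subtype.val hab), fun a => ?_⟩
    obtain ⟨c, hc⟩ := Ideal.mem_span_singleton'.1
      ((Submodule.Quotient.mk_eq_zero _).1 (LinearMap.mem_ker.1 a.2))
    exact ⟨c, Subtype.ext ((mul_comm x c).trans hc)⟩
  obtain ⟨j, rfl⟩ := Nat.exists_eq_add_of_le hi
  cases j with
  | zero =>
    rw [Groth.Agent.TorMod7.isZero_tor_one_iff_of_surjective _ p hp]
    intro a b hab
    obtain ⟨a, rfl⟩ := LinearMap.lTensor_surjective M hμ.2 a
    obtain ⟨b, rfl⟩ := LinearMap.lTensor_surjective M hμ.2 b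
    rw [← LinearMap.comp_apply, ← LinearMap.comp_apply, ← LinearMap.lTensor_comp] at hab
    have key : ∀ z, (TensorProduct.rid R M) (((LinearMap.ker p).subtype ∘ₗ μ).lTensor M z) =
        x • TensorProduct.rid R M z := by
      intro z
      induction z using TensorProduct.induction_on with
      | zero => simp
      | add z w hz hw => rw [map_add, map_add, hz, hw, map_add, smul_add]
      | tmul m r => simp [μ, smul_smul]
    congr 1
    apply (TensorProduct.rid R M).injective
    apply hxM
    show x • _ = x • _
    rw [← key, hab, key]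
  | succ j =>
    rw [show 1 + (j + 1) = j + 2 by omega]
    let S := Groth.Agent.TorMod7.sesOfSurjective p hp
    have hF : Projective (ModuleCat.of R R) :=
      (IsProjective.iff_projective (R := R) (P := R)).1 inferInstance
    refine Groth.Agent.TorMod7.isZero_tor_succ _ S hF j ?_
    have : Module.Projective R ↥(LinearMap.ker p) :=
      Module.Projective.of_equiv (LinearEquiv.ofBijective μ hμ)
    have : Projective (ModuleCat.of R ↥(LinearMap.ker p)) :=
      (IsProjective.iff_projective (R := R) (P := ↥(LinearMap.ker p))).1 inferInstance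
    exact isZero_Tor_succ_of_projective (ModuleCat.{u} R) _ (ModuleCat.of R ↥(LinearMap.ker p)) j

end Groth.Agent.S14434
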