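import Groth.Statements.S14436
import Mathlib.RingTheory.AlgebraicIndependent.Adjoin
import Mathlib.RingTheory.Etale.Field
import Mathlib.RingTheory.Etale.Kaehler
import Mathlib.RingTheory.Kaehler.Polynomial
import Mathlib.RingTheory.Localization.FractionRing

set_option autoImplicit false
universe u
open CAlg

namespace Groth.Agent.S14436

open TensorProduct

/-- Let L/K be a finitely generated field extension which is separable in the sense that it has a
transcendence basis a_1, …, a_n over which L is a (finite) separable extension of K(a_1, …, a_n).
Then dim_L Ω_{L/K} = n, the transcendence degree of L over K. -/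
theorem result (K L : Type u) [Field K] [Field L] [Algebra K L]
    (hfg : ∃ s : Finset L, IntermediateField.adjoin K (s : Set L) = ⊤)
    (n : ℕ) (a : Fin n → L) (ha : IsTranscendenceBasis K a)
    (hsep : Algebra.IsSeparable ↥(IntermediateField.adjoin K (Set.range a)) L) :
    Module.finrank L (Ω[L⁄K]) = n := by
  let E := IntermediateField.adjoin K (Set.range a)
  let P := MvPolynomial (Fin n) K
  let ψ : P →+* E := (ha.1.aevalEquivField.toRingEquiv.toRingHom).comp (algebraMap P (FractionRing P))
  letI : Algebra P E := ψ.toAlgebra
  letI : Algebra P L := ((algebraMap E L).comp ψ).toAlgebra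
  haveI : IsScalarTower P E L := IsScalarTower.of_algebraMap_eq fun _ => rfl
  haveI : IsScalarTower K P E := IsScalarTower.of_algebraMap_eq fun x => by
    show algebraMap K E x = ha.1.aevalEquivField (algebraMap P (FractionRing P) (algebraMap K P x))
    rw [← IsScalarTower.algebraMap_apply, AlgEquiv.commutes]
  haveI : IsScalarTower K P L := IsScalarTower.of_algebraMap_eq fun x => by
    show algebraMap K L x = algebraMap E L (algebraMap P E (algebraMap K P x))
    rw [← IsScalarTower.algebraMap_apply K P E, ← IsScalarTower.algebraMap_apply]
  haveI hloc : IsFractionRing P E := by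
    let e : FractionRing P ≃ₐ[P] E :=
      AlgEquiv.ofRingEquiv (f := ha.1.aevalEquivField.toRingEquiv) fun _ => rfl
    exact IsLocalization.isLocalization_of_algEquiv (nonZeroDivisors P) e
  haveI : Algebra.FormallyEtale P E := Algebra.FormallyEtale.of_isLocalization (nonZeroDivisors P)
  haveI : Algebra.IsSeparable E L := hsep
  haveI : Algebra.FormallyEtale E L := Algebra.FormallyEtale.of_isSeparable E L
  haveI : Algebra.FormallyEtale P L := Algebra.FormallyEtale.comp P E L
  rw [← (KaehlerDifferential.tensorKaehlerEquivOfFormallyEtale K P L).finrank_eq,
    Module.finrank_eq_card_basis ((KaehlerDifferential.mvPolynomialBasis K (Fin n)).baseChange L),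
    Fintype.card_fin]

end Groth.Agent.S14436
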