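import Groth.Statements.S14437
import Mathlib.LinearAlgebra.Dimension.DivisionRing
import Mathlib.RingTheory.Ideal.Cotangent
import Mathlib.RingTheory.Kaehler.Basic
import Mathlib.LinearAlgebra.Dimension.RankNullity
import Mathlib.LinearAlgebra.FiniteDimensional.Defs

set_option autoImplicit false
universe u
open CAlg

namespace Groth.Agent.S14437

open TensorProduct IsLocalRing

/-- Let k be a field and A → B a local homomorphism of Noetherian local k-algebras with residue fields k
(k → A/m_A and k → B/m_B bijective) — for instance the local rings at a closed point x and at its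
image y under a morphism of schemes of finite type over an algebraically closed k. Then dim_k
(Ω_{B/A} ⊗_B B/m_B) + rank(m_A/m_A² → m_B/m_B²) = dim_k (m_B/m_B²): the fibre at x of the sheaf of
relative differentials is dual to the kernel of the tangent map T_x X → T_y Y. (The published
statement is the canonical isomorphism (Ω_{X/Y})_(x)^∨ ≅ ker(df_x); stated here as the resulting
equality of dimensions. Its second assertion, dim (Ω_{X/Y})_(x) ≥ r when the fibre has an
r-dimensional component through x, is not included.) -/
theorem result (k : Type u) [Field k]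
    (A B : Type u) [CommRing A] [CommRing B] [IsLocalRing A] [IsLocalRing B] [IsNoetherianRing A] [IsNoetherianRing B]
    [Algebra k A] [Algebra k B] [Algebra A B] [IsScalarTower k A B]
    (hle : IsLocalRing.maximalIdeal A ≤ Ideal.comap (IsScalarTower.toAlgHom k A B) (IsLocalRing.maximalIdeal B))
    (hA : Function.Bijective (algebraMap k (IsLocalRing.ResidueField A)))
    (hB : Function.Bijective (algebraMap k (IsLocalRing.ResidueField B))) :
    Module.finrank (IsLocalRing.ResidueField B) (TensorProduct B (IsLocalRing.ResidueField B) (Ω[B⁄A])) +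
      Module.finrank k ↥(LinearMap.range (Ideal.mapCotangent (IsLocalRing.maximalIdeal A) (IsLocalRing.maximalIdeal B)
        (IsScalarTower.toAlgHom k A B) hle)) =
      Module.finrank k (IsLocalRing.CotangentSpace B) := by
  classical
  let m := maximalIdeal B
  let kκ := RingEquiv.ofBijective (algebraMap k (ResidueField B)) hB
  let c : B →+* k := kκ.symm.toRingHom.comp (residue B)
  have hc : ∀ x : k, c (algebraMap k B x) = x := fun x => by
    show kκ.symm (residue B (algebraMap k B x)) = x
    rw [RingEquiv.symm_apply_eq]
    rfl
  have hcmem : ∀ b : B, b - algebraMap k B (c b) ∈ m := fun b => by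
    rw [← IsLocalRing.residue_eq_zero_iff, map_sub, sub_eq_zero]
    exact (kκ.apply_symm_apply (residue B b)).symm
  let V := LinearMap.range (Ideal.mapCotangent (maximalIdeal A) m (IsScalarTower.toAlgHom k A B) hle)
  let Ws : Submodule B m.Cotangent := Submodule.span B (V : Set m.Cotangent)
  have hact : ∀ (b : B) (w : m.Cotangent), b • w = c b • w := fun b w => by
    conv_lhs => rw [← sub_add_cancel b (algebraMap k B (c b))]
    rw [add_smul, Ideal.Cotangent.smul_eq_zero_of_mem (hcmem b), zero_add, algebraMap_smul]
  have hWs : (Ws : Set m.Cotangent) = V := by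
    refine subset_antisymm (fun w hw => ?_) Submodule.subset_span
    induction hw using Submodule.span_induction with
    | zero => exact V.zero_mem
    | add a b _ _ ha hb => exact V.add_mem ha hb
    | smul b w _ hw => rw [hact]; exact V.smul_mem _ hw
    | mem w hw => exact hw
  let t : B → m.Cotangent := fun b => m.toCotangent ⟨b - algebraMap k B (c b), hcmem b⟩
  have ht : ∀ (b : B) (hb : b ∈ m), t b = m.toCotangent ⟨b, hb⟩ := fun b hb => by
    have : c b = 0 := by
      show kκ.symm (residue B b) = 0
      rw [(IsLocalRing.residue_eq_zero_iff b).2 hb, map_zero]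
    show m.toCotangent _ = _
    congr 1
    exact Subtype.ext (by simp [this])
  have htadd : ∀ b b', t (b + b') = t b + t b' := fun b b' => by
    show m.toCotangent _ = m.toCotangent _ + m.toCotangent _
    rw [← map_add]
    exact congrArg _ (Subtype.ext (by simp only [map_add, Submodule.coe_add]; ring))
  have htmul : ∀ b b', t (b * b') = b • t b' + b' • t b := fun b b' => by
    show m.toCotangent _ = b • m.toCotangent _ + b' • m.toCotangent _
    rw [← map_smul, ← map_smul, ← map_add, m.toCotangent_eq]
    simp only [Submodule.coe_add, Submodule.coe_smul, smul_eq_mul, map_mul]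
    rw [pow_two]
    have : (b * b' - algebraMap k B (c b) * algebraMap k B (c b') -
        (b * (b' - algebraMap k B (c b')) + b' * (b - algebraMap k B (c b)))) =
        -((b - algebraMap k B (c b)) * (b' - algebraMap k B (c b'))) := by ring
    rw [this]
    exact neg_mem (Ideal.mul_mem_mul (hcmem b) (hcmem b'))
  have htA : ∀ a : A, t (algebraMap A B a) ∈ Ws := fun a => by
    obtain ⟨x, hx⟩ := hA.2 (residue A a)
    have hmem : a - algebraMap k A x ∈ maximalIdeal A := by
      rw [← IsLocalRing.residue_eq_zero_iff, map_sub, sub_eq_zero, ← hx]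
      rfl
    have hcA : c (algebraMap A B a) = x := by
      have h1 : algebraMap A B (a - algebraMap k A x) ∈ m := hle hmem
      have h2 : c (algebraMap A B a - algebraMap k B x) = 0 := by
        show kκ.symm (residue B _) = 0
        rw [(IsLocalRing.residue_eq_zero_iff _).2
          (by rwa [map_sub, ← IsScalarTower.algebraMap_apply] at h1), map_zero]
      rwa [map_sub, hc, sub_eq_zero] at h2
    refine Submodule.subset_span ⟨(maximalIdeal A).toCotangent ⟨_, hmem⟩, ?_⟩
    show m.toCotangent ⟨algebraMap A B (a - algebraMap k A x), hle hmem⟩ = m.toCotangent _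
    refine congrArg _ (Subtype.ext ?_)
    show algebraMap A B (a - algebraMap k A x) = algebraMap A B a - algebraMap k B (c (algebraMap A B a))
    rw [map_sub, hcA, ← IsScalarTower.algebraMap_apply]
  let q := Ws.mkQ
  let D0 : B →ₗ[A] (m.Cotangent ⧸ Ws) :=
    { toFun := fun b => q (t b)
      map_add' := fun b b' => by rw [htadd, map_add]
      map_smul' := fun a b => by
        rw [RingHom.id_apply, Algebra.smul_def, htmul, map_add, map_smul, map_smul, algebraMap_smul]
        rw [show q (t (algebraMap A B a)) = 0 from (Submodule.Quotient.mk_eq_zero _).2 (htA a),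
          smul_zero, add_zero] }
  let D : Derivation A B (m.Cotangent ⧸ Ws) := Derivation.mk' D0 fun b b' => by
    show q (t (b * b')) = b • q (t b') + b' • q (t b)
    rw [htmul, map_add, map_smul, map_smul]
  let Φ := D.liftKaehlerDifferential
  have hΦ : m ≤ LinearMap.ker (LinearMap.toSpanSingleton B
      (Ω[B⁄A] →ₗ[B] m.Cotangent ⧸ Ws) Φ) := fun x hx => by
    rw [LinearMap.mem_ker]
    refine LinearMap.ext fun w => ?_
    show x • Φ w = 0
    obtain ⟨z, hz⟩ := Submodule.mkQ_surjective Ws (Φ w)
    rw [← hz, ← map_smul, Ideal.Cotangent.smul_eq_zero_of_mem hx, map_zero]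
  let Φ' : ResidueField B ⊗[B] Ω[B⁄A] →ₗ[B] m.Cotangent ⧸ Ws :=
    TensorProduct.lift (Submodule.liftQ m (LinearMap.toSpanSingleton B _ Φ) hΦ)
  let ψ0 : m →ₗ[B] ResidueField B ⊗[B] Ω[B⁄A] :=
    { toFun := fun x => 1 ⊗ₜ KaehlerDifferential.D A B x.1
      map_add' := fun x y => by rw [Submodule.coe_add, map_add, TensorProduct.tmul_add]
      map_smul' := fun b x => by
        rw [RingHom.id_apply, Submodule.coe_smul, smul_eq_mul, Derivation.leibniz,
          TensorProduct.tmul_add, ← TensorProduct.tmul_smul]
        have : (1 : ResidueField B) ⊗ₜ[B] ((x : B) • KaehlerDifferential.D A B b) = 0 := by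
          rw [TensorProduct.tmul_smul, TensorProduct.smul_tmul', Algebra.smul_def, mul_one,
            show algebraMap B (ResidueField B) x.1 = 0 from
              (IsLocalRing.residue_eq_zero_iff _).2 x.2, TensorProduct.zero_tmul]
        rw [this, add_zero] }
  let ψ1 : m.Cotangent →ₗ[B] ResidueField B ⊗[B] Ω[B⁄A] :=
    Submodule.liftQ _ ψ0 (Submodule.smul_le.2 fun r hr x _ => by
      rw [LinearMap.mem_ker, map_smul]
      show r • ((1 : ResidueField B) ⊗ₜ[B] KaehlerDifferential.D A B x.1) = 0
      rw [TensorProduct.smul_tmul', Algebra.smul_def, mul_one,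
        show algebraMap B (ResidueField B) r = 0 from (IsLocalRing.residue_eq_zero_iff _).2 hr,
        TensorProduct.zero_tmul])
  let ψ : (m.Cotangent ⧸ Ws) →ₗ[B] ResidueField B ⊗[B] Ω[B⁄A] :=
    Submodule.liftQ Ws ψ1 (Submodule.span_le.2 fun w hw => by
      obtain ⟨v, rfl⟩ := hw
      obtain ⟨a, rfl⟩ := (maximalIdeal A).toCotangent_surjective v
      show (1 : ResidueField B) ⊗ₜ[B] KaehlerDifferential.D A B (algebraMap A B a.1) = 0
      rw [Derivation.map_algebraMap, TensorProduct.tmul_zero])
  have hDk : ∀ x : k, KaehlerDifferential.D A B (algebraMap k B x) = 0 := fun x => by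
    rw [IsScalarTower.algebraMap_apply k A B, Derivation.map_algebraMap]
  have hψD : ∀ b, ψ (q (t b)) = (1 : ResidueField B) ⊗ₜ[B] KaehlerDifferential.D A B b := fun b => by
    show (1 : ResidueField B) ⊗ₜ[B] KaehlerDifferential.D A B (b - algebraMap k B (c b)) = _
    rw [map_sub, hDk, sub_zero]
  have hleft : ∀ w, Φ' (ψ w) = w := fun w => by
    obtain ⟨v, rfl⟩ := Submodule.mkQ_surjective _ w
    obtain ⟨x, rfl⟩ := m.toCotangent_surjective v
    show (1 : B) • Φ (KaehlerDifferential.D A B x.1) = _
    rw [one_smul, Derivation.liftKaehlerDifferential_comp_D]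
    show q (t x.1) = _
    rw [ht x.1 x.2]
  have hright : ∀ z, ψ (Φ' z) = z := fun z => by
    induction z using TensorProduct.induction_on with
    | zero => simp
    | add a b ha hb => rw [map_add, map_add, ha, hb]
    | tmul r w =>
      obtain ⟨r, rfl⟩ := Ideal.Quotient.mk_surjective r
      show ψ (r • Φ w) = _
      have hw : ψ (Φ w) = (1 : ResidueField B) ⊗ₜ[B] w := by
        have : ψ ∘ₗ Φ = (TensorProduct.mk B (ResidueField B) (Ω[B⁄A]) 1) := by
          apply Derivation.liftKaehlerDifferential_unique
          ext b
          show ψ (Φ (KaehlerDifferential.D A B b)) = _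
          rw [Derivation.liftKaehlerDifferential_comp_D]
          exact hψD b
        exact LinearMap.congr_fun this w
      rw [map_smul, hw, TensorProduct.smul_tmul', Algebra.smul_def, mul_one]
      rfl
  let e : ResidueField B ⊗[B] Ω[B⁄A] ≃ₗ[B] m.Cotangent ⧸ Ws :=
    { Φ' with invFun := ψ, left_inv := hright, right_inv := hleft }
  -- dimensions over k
  haveI : Module.Finite k (CotangentSpace B) :=
    haveI : Module.Finite k (ResidueField B) :=
      Module.Finite.of_surjective (Algebra.linearMap k (ResidueField B)) hB.2
    haveI : IsScalarTower k (ResidueField B) (CotangentSpace B) :=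
      IsScalarTower.of_algebraMap_smul fun x v => by
        rw [IsScalarTower.algebraMap_apply k B (ResidueField B)]
        exact (algebraMap_smul (ResidueField B) (algebraMap k B x) v).trans (algebraMap_smul B x v)
    Module.Finite.trans (ResidueField B) (CotangentSpace B)
  have hk1 : Module.finrank k (ResidueField B) = 1 :=
    ((AlgEquiv.ofBijective (Algebra.ofId k (ResidueField B)) hB).toLinearEquiv.finrank_eq).symm.trans
      (Module.finrank_self k)
  have htower := Module.finrank_mul_finrank k (ResidueField B) (ResidueField B ⊗[B] Ω[B⁄A])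
  rw [hk1, one_mul] at htower
  rw [htower, (e.restrictScalars k).finrank_eq]
  have hV : Ws.restrictScalars k = V := SetLike.coe_injective hWs
  rw [show Module.finrank k (m.Cotangent ⧸ Ws) = Module.finrank k (m.Cotangent ⧸ V) from
    LinearEquiv.finrank_eq ((Submodule.Quotient.restrictScalarsEquiv k Ws).symm ≪≫ₗ
      Submodule.quotEquivOfEq _ _ hV)]
  exact V.finrank_quotient_add_finrank

end Groth.Agent.S14437
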