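import Groth.Statements.S14438
import Mathlib.RingTheory.LocalRing.Length
import Mathlib.RingTheory.Spectrum.Prime.Noetherian
import Mathlib.RingTheory.Length
import Mathlib.LinearAlgebra.TensorProduct.Quotient
import Mathlib.RingTheory.LocalRing.ResidueField.Ideal
import Mathlib.RingTheory.Localization.BaseChange
import Mathlib.RingTheory.Artinian.Ring
import Mathlib.LinearAlgebra.Dimension.Constructions
import Mathlib.RingTheory.IntegralClosure.Algebra.Basic
import Mathlib.RingTheory.TensorProduct.Finite

set_option autoImplicit false
universe u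
open CAlg

namespace Groth.Agent.S14438

open IsLocalRing TensorProduct in
set_option maxHeartbeats 800000 in
theorem fibre_iso {A B : Type u} [CommRing A] [CommRing B] [Algebra A B] (I : Ideal B) (q : Ideal (B ⧸ I)) [q.IsPrime]
    (n : Ideal B) [n.IsPrime] (hn : n = q.comap (Ideal.Quotient.mk I)) :
    Module.length A (LocalizedModule n.primeCompl (B ⧸ I)) = Module.length A (Localization.AtPrime q) := by
  have hS : Algebra.algebraMapSubmonoid (B ⧸ I) n.primeCompl = q.primeCompl := by
    subst hn
    ext x
    obtain ⟨x, rfl⟩ := Ideal.Quotient.mk_surjective x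
    constructor
    · rintro ⟨y, hy, he⟩
      show Ideal.Quotient.mk I x ∉ q
      rw [← he]; exact hy
    · intro hx; exact ⟨x, hx, rfl⟩
  haveI : IsLocalization (Algebra.algebraMapSubmonoid (B ⧸ I) n.primeCompl) (Localization.AtPrime q) := by
    rw [hS]; infer_instance
  haveI : IsLocalizedModule n.primeCompl (IsScalarTower.toAlgHom B (B ⧸ I) (Localization.AtPrime q)).toLinearMap :=
    isLocalizedModule_iff_isLocalization.2 ‹_›
  exact ((IsLocalizedModule.iso n.primeCompl
    (IsScalarTower.toAlgHom B (B ⧸ I) (Localization.AtPrime q)).toLinearMap).restrictScalars A).length_eq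

open IsLocalRing TensorProduct in
theorem length_local {A B : Type u} [CommRing A] [IsLocalRing A] [CommRing B] [Algebra A B] (n : Ideal B) [n.IsMaximal]
    (h : Ideal.map (algebraMap A B) (maximalIdeal A) ≤ n)
    (hres : Function.Bijective (Ideal.quotientMap n (algebraMap A B) (Ideal.map_le_iff_le_comap.mp h)))
    (M : Type u) [AddCommGroup M] [Module A M] [Module (Localization.AtPrime n) M]
    [IsScalarTower A (Localization.AtPrime n) M] :
    Module.length A M = Module.length (Localization.AtPrime n) M := by
  have hcomap : n.comap (algebraMap A B) = maximalIdeal A :=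
    ((maximalIdeal.isMaximal A).eq_of_le (Ideal.comap_ne_top _ (Ideal.IsPrime.ne_top inferInstance))
      (Ideal.map_le_iff_le_comap.1 h)).symm
  haveI : IsLocalHom (algebraMap A (Localization.AtPrime n)) := by
    refine ⟨fun a ha => by_contra fun hna => ?_⟩
    rw [IsScalarTower.algebraMap_apply A B, IsLocalization.AtPrime.isUnit_to_map_iff _ n] at ha
    exact ha (h (Ideal.mem_map_of_mem _ hna))
  rw [IsLocalRing.length_restrictScalars A (Localization.AtPrime n) M]
  suffices hs : Module.length (ResidueField A) (ResidueField (Localization.AtPrime n)) = 1 by rw [hs, mul_one]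
  have hsurj : Function.Surjective (Algebra.linearMap (ResidueField A) (ResidueField (Localization.AtPrime n))) := by
    intro z
    obtain ⟨z, rfl⟩ := (Ideal.bijective_algebraMap_quotient_residueField n).2 z
    obtain ⟨a, rfl⟩ := hres.2 z
    obtain ⟨a, rfl⟩ := Ideal.Quotient.mk_surjective a
    exact ⟨residue A a, rfl⟩
  rw [← (LinearEquiv.ofBijective _ ⟨(algebraMap (ResidueField A) (ResidueField (Localization.AtPrime n))).injective,
    hsurj⟩).length_eq, Module.length_eq_one]

open IsLocalRing TensorProduct in
set_option maxHeartbeats 800000 in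

/-- Let (A, m) be a local ring, B a commutative A-algebra which is free of finite rank d as an A-module,
and assume that for every maximal ideal n of B containing mB the induced map of residue fields A/m →
B/n is bijective (as for the points of a fibre of a finite flat morphism of varieties over an
algebraically closed field). Then the multiplicities of the points of the fibre add up to the
degree: the sum over all such n of the length of the B_n-module (B/mB)_n equals d. -/
theorem result (A B : Type u) [CommRing A] [IsLocalRing A] [CommRing B] [Algebra A B]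
    [Module.Free A B] [Module.Finite A B] (d : ℕ) (hd : Module.finrank A B = d)
    (hres : ∀ (n : Ideal B) [n.IsMaximal] (h : Ideal.map (algebraMap A B) (IsLocalRing.maximalIdeal A) ≤ n),
      Function.Bijective (Ideal.quotientMap n (algebraMap A B) (Ideal.map_le_iff_le_comap.mp h))) :
    finsum (fun n : {n : MaximalSpectrum B // Ideal.map (algebraMap A B) (IsLocalRing.maximalIdeal A) ≤ n.asIdeal} =>
      Module.length (Localization.AtPrime n.1.asIdeal)
        (LocalizedModule n.1.asIdeal.primeCompl (B ⧸ Ideal.map (algebraMap A B) (IsLocalRing.maximalIdeal A)))) = (d : ℕ∞) := by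
  classical
  let I := Ideal.map (algebraMap A B) (maximalIdeal A)
  let k := ResidueField A
  let C := B ⧸ I
  let eC : k ⊗[A] B ≃ₗ[A] C :=
    (TensorProduct.quotTensorEquivQuotSMul B (maximalIdeal A)).trans
      ((Submodule.quotEquivOfEq _ (I.restrictScalars A) (Ideal.smul_top_eq_map _)).trans
        (Submodule.Quotient.restrictScalarsEquiv A I))
  have hlen : Module.length A C = d := by
    rw [← eC.length_eq, Module.length_eq_of_surjective (S := A) (R := k) (M := k ⊗[A] B) residue_surjective,
      Module.length_eq_finrank, Module.finrank_baseChange, hd]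
  haveI : IsArtinianRing C := by
    haveI : IsArtinian A C := (isFiniteLength_iff_isNoetherian_isArtinian.1 (Module.length_ne_top_iff.1
      (by rw [hlen]; exact ENat.natCast_ne_top d))).2
    exact isArtinian_of_tower A inferInstance
  letI : Fintype (PrimeSpectrum C) := Fintype.ofFinite _
  let e : {n : MaximalSpectrum B // I ≤ n.asIdeal} ≃ PrimeSpectrum C :=
  { toFun := fun n => ⟨n.1.asIdeal.map (Ideal.Quotient.mk I),
      haveI := n.1.isMaximal.isPrime
      Ideal.map_isPrime_of_surjective Ideal.Quotient.mk_surjective (by rw [Ideal.mk_ker]; exact n.2)⟩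
    invFun := fun q => ⟨⟨q.asIdeal.comap (Ideal.Quotient.mk I),
      haveI : q.asIdeal.IsMaximal := IsArtinianRing.isMaximal_of_isPrime _
      Ideal.comap_isMaximal_of_surjective _ Ideal.Quotient.mk_surjective⟩,
      fun x hx => by rw [Ideal.mem_comap, Ideal.Quotient.eq_zero_iff_mem.2 hx]; exact zero_mem _⟩
    left_inv := fun n => Subtype.ext (MaximalSpectrum.ext (by
      show (n.1.asIdeal.map (Ideal.Quotient.mk I)).comap _ = _
      rw [Ideal.comap_map_of_surjective _ Ideal.Quotient.mk_surjective, ← RingHom.ker_eq_comap_bot, Ideal.mk_ker,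
        sup_eq_left.2 n.2]))
    right_inv := fun q => PrimeSpectrum.ext (Ideal.map_comap_of_surjective _ Ideal.Quotient.mk_surjective _) }
  letI : Fintype {n : MaximalSpectrum B // I ≤ n.asIdeal} := Fintype.ofEquiv _ e.symm
  let E := (AlgEquiv.ofBijective _ (PrimeSpectrum.toPiLocalization_bijective (R := C))).restrictScalars A
  rw [finsum_eq_sum_of_fintype, ← e.symm.sum_comp, ← hlen, E.toLinearEquiv.length_eq, Module.length_pi_of_fintype]
  refine Finset.sum_congr rfl fun q _ => ?_
  haveI := (e.symm q).1.isMaximal
  rw [← length_local (e.symm q).1.asIdeal (e.symm q).2 (hres _ (e.symm q).2)]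
  exact fibre_iso I q.asIdeal _ rfl

end Groth.Agent.S14438
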