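import Groth.Statements.S1444
import Groth.Agent.Proper66.HOneGen

set_option autoImplicit false
universe u
open FlatMor

namespace Groth.Agent.S1444

open AlgebraicGeometry CategoryTheory Limits in
/-- Let f : X → Y be proper with Y affine, all fibres of f of dimension at most 1, and H¹(X_y, O_{X_y})
= 0 for every point y of Y. Then H¹(X, F) = 0 for every quasi-coherent O_X-module F which is
globally generated (a quotient of a direct sum of copies of the structure sheaf). -/
theorem result {X Y : Scheme.{u}} (f : X ⟶ Y) [IsProper f] [IsAffine Y]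
    (hdim : ∀ y : Y, topologicalKrullDim ↑(f.fiber y) ≤ 1) (hH1 : ∀ y : Y, Subsingleton (Coh.HH (f.fiber y) (Coh.structureModule (f.fiber y)) 1))
    (F : X.Modules) (hF : Coh.IsQCoh F) (ι : Type u) (e : (∐ fun _ : ι => Coh.structureModule X) ⟶ F) [Epi e] :
    Subsingleton (Coh.HH X F 1) := by
  haveI : F.IsQuasicoherent := hF
  let q : X ⟶ Spec (CommRingCat.of Γ(Y, ⊤)) := f ≫ Y.isoSpec.hom
  haveI : IsProper q := inferInstanceAs (IsProper (_ ≫ _))
  have sq : IsPullback (𝟙 X) q f Y.isoSpec.inv := IsPullback.of_horiz_isIso ⟨by simp [q]⟩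
  have hd : ∀ t, topologicalKrullDim ↥(q.fiber t) ≤ (1 : ℕ) :=
    Groth.Agent.Proper66.dims_le_of_isPullback sq fun y => by exact_mod_cast hdim y
  have h0 := Groth.Agent.Proper66.subsingleton_h1 q hd
    ((Groth.Agent.Proper66.hFib_of_fibres f hH1).of_isPullback sq)
  exact Groth.Agent.Proper66.subsingleton_h1_genBySections q
    (Groth.Agent.Proper66.vanish_of_dims_le q hd 2 (by omega)) h0 F ι e

end Groth.Agent.S1444
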