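import Groth.Statements.S14442
import Mathlib
-- import your own Groth.Agent.* helpers here

set_option autoImplicit false
universe u
open GrNak

namespace Groth.Agent.S14442

/-- Let R be a commutative ℕ-graded ring with irrelevant ideal R_+ = ⊕_{i>0} R_i, M an ℕ-graded R-module
and N a graded submodule of M (closed under taking homogeneous components). If M = R_+ M + N then N
= M. (The published statement is for finitely generated ℤ-graded modules over a graded quotient of a
polynomial ring, whose degrees are then bounded below; stated here for non-negatively graded modules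
over any ℕ-graded commutative ring, where the same lowest-degree argument applies without finite
generation.) -/
theorem result {R : Type u} [CommRing R] {σ : Type u} [SetLike σ R] [AddSubmonoidClass σ R]
    (𝒜 : ℕ → σ) [GradedRing 𝒜]
    {M : Type u} [AddCommGroup M] [Module R M] {τ : Type u} [SetLike τ M] [AddSubmonoidClass τ M]
    (ℳ : ℕ → τ) [DirectSum.Decomposition ℳ] [SetLike.GradedSMul 𝒜 ℳ]
    (N : Submodule R M) (hN : ∀ x ∈ N, ∀ i : ℕ, (DirectSum.decompose ℳ x i : M) ∈ N)
    (h : (HomogeneousIdeal.irrelevant 𝒜).toIdeal • (⊤ : Submodule R M) ⊔ N = ⊤) :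
    N = ⊤ := by
  classical
  have hM : ∀ d : ℕ, ∀ x : M, x ∈ ℳ d → x ∈ N := by
    intro d
    induction d using Nat.strong_induction_on with
    | _ d ih =>
      intro x hx
      let P : AddSubmonoid M :=
        { carrier := {y | (DirectSum.decompose ℳ y d : M) ∈ N}
          zero_mem' := by simp
          add_mem' := fun hu hv => by
            simp only [Set.mem_ofPred_eq, DirectSum.decompose_add, DirectSum.add_apply] at hu hv ⊢
            simpa using add_mem hu hv }
      have hsm : ∀ r ∈ (HomogeneousIdeal.irrelevant 𝒜).toIdeal, ∀ m : M, r • m ∈ P := by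
        intro r hr m
        rw [← DirectSum.sum_support_decompose 𝒜 r, ← DirectSum.sum_support_decompose ℳ m, Finset.sum_smul]
        refine sum_mem fun j hj => ?_
        rw [Finset.smul_sum]
        refine sum_mem fun i _ => ?_
        have hmem : (DirectSum.decompose 𝒜 r j : R) • (DirectSum.decompose ℳ m i : M) ∈ ℳ (j +ᵥ i) :=
          SetLike.GradedSMul.smul_mem (SetLike.coe_mem _) (SetLike.coe_mem _)
        rw [vadd_eq_add] at hmem
        show (DirectSum.decompose ℳ _ d : M) ∈ N
        by_cases hd : j + i = d
        · have hj0 : j ≠ 0 := by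
            rintro rfl
            refine (DFinsupp.mem_support_iff.1 hj) (Subtype.ext ?_)
            simpa [GradedRing.proj_apply] using (HomogeneousIdeal.mem_irrelevant_iff 𝒜 r).1 hr
          subst hd
          rw [DirectSum.decompose_of_mem_same ℳ hmem]
          exact N.smul_mem _ (ih i (by omega) _ (SetLike.coe_mem _))
        · rw [DirectSum.decompose_of_mem_ne ℳ hmem hd]
          exact zero_mem _
      obtain ⟨y, hy, z, hz, rfl⟩ := Submodule.mem_sup.1 (h.ge (Submodule.mem_top (x := x)))
      rw [← DirectSum.decompose_of_mem_same ℳ hx, DirectSum.decompose_add, DirectSum.add_apply]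
      have hyP : y ∈ P := by
        refine Submodule.smul_induction_on (p := fun z => z ∈ P) hy (fun r hr m _ => hsm r hr m)
          (fun u v hu hv => add_mem hu hv)
      simpa using add_mem (show (DirectSum.decompose ℳ y d : M) ∈ N from hyP) (hN z hz d)
  refine eq_top_iff.2 fun x _ => ?_
  rw [← DirectSum.sum_support_decompose ℳ x]
  exact sum_mem fun i _ => hM i _ (SetLike.coe_mem _)

end Groth.Agent.S14442
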