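import Groth.Statements.S14443
import Groth.Agent.Var76.OmegaFibre
import Groth.Agent.Var76.OmegaSmooth
import Groth.Agent.Var76.RegKaehler
import Groth.Agent.WC97.Dim

set_option autoImplicit false
universe u
open CategoryTheory CategoryTheory.Limits AlgebraicGeometry
attribute [local instance] FixPt.fiberModule
open Variety

namespace Groth.Agent.S14443

open Groth.Agent
open scoped TensorProduct

set_option backward.isDefEq.respectTransparency false

theorem finrank_bound {k : Type u} [Field k] [IsAlgClosed k] {B A : Type u} [CommRing B] [CommRing A]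
    [Algebra k B] [Algebra k A] [Algebra B A] [IsScalarTower k B A] [Algebra.FiniteType k A]
    (p m : Ideal A) [p.IsPrime] [m.IsMaximal] (hpm : p ≤ m)
    (hcomap : ∀ b : B, algebraMap B A b ∈ m → algebraMap B A b ∈ p)
    (r : ℕ) (hr : ringKrullDim (A ⧸ p) = r) :
    r ≤ Module.finrank k (Ω[A⁄B] ⧸ (m • ⊤ : Submodule A Ω[A⁄B])) := by
  classical
  let D := A ⧸ p
  let mD : Ideal D := m.map (Ideal.Quotient.mk p)
  have : mD.IsMaximal := Ideal.IsMaximal.map_of_surjective_of_ker_le Ideal.Quotient.mk_surjective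
    (Ideal.mk_ker.trans_le hpm)
  have : IsNoetherianRing D := Algebra.FiniteType.isNoetherianRing k D
  have hcot : r ≤ Module.finrank (D ⧸ mD) mD.Cotangent := by
    have hirr : (nilradical D).IsPrime := by
      rw [nilradical_eq_zero]; exact Ideal.isPrime_bot
    have h1 := ringKrullDim_le_spanFinrank_maximalIdeal (R := Localization.AtPrime mD)
    rw [IsLocalization.AtPrime.ringKrullDim_eq_height mD, Var76.RegKaehler.height_eq k hirr r hr mD] at h1
    exact (Nat.cast_le.1 (by exact_mod_cast h1)).trans (Var76.RegKaehler.spanFinrank_le mD)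
  rw [← Groth.Agent.S9414.result k D mD] at hcot
  let mk : A →ₐ[k] D := Ideal.Quotient.mkₐ k p
  -- the image of `B` in `D` consists of constants
  have hconst : ∀ b : B, KaehlerDifferential.D k D (mk (algebraMap B A b)) = 0 := by
    intro b
    let _ : Field (A ⧸ m) := Ideal.Quotient.field m
    have : Algebra.IsIntegral k (A ⧸ m) := by
      have : Module.Finite k (A ⧸ m) := finite_of_finite_type_of_isJacobsonRing k (A ⧸ m)
      exact Algebra.IsIntegral.of_finite k _
    obtain ⟨c, hc⟩ := IsAlgClosed.algebraMap_bijective_of_isIntegral (k := k) (K := A ⧸ m).2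
      (Ideal.Quotient.mk m (algebraMap B A b))
    have h2 : algebraMap B A (b - algebraMap k B c) ∈ p := hcomap _ (by
      rw [← Ideal.Quotient.eq_zero_iff_mem, map_sub, map_sub, ← IsScalarTower.algebraMap_apply, ← hc,
        ← Ideal.Quotient.mk_algebraMap, sub_self])
    have h3 : mk (algebraMap B A b) = algebraMap k D c := by
      rw [map_sub, ← IsScalarTower.algebraMap_apply] at h2
      exact Ideal.Quotient.eq.2 h2
    rw [h3, Derivation.map_algebraMap]
  let Δ₀ : Derivation k A Ω[D⁄k] := (KaehlerDifferential.D k D).compAlgebraMap A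
  let L : A →ₗ[B] Ω[D⁄k] :=
    { toFun := Δ₀
      map_add' := map_add Δ₀
      map_smul' := fun b a => by
        rw [Algebra.smul_def, Δ₀.leibniz, show Δ₀ (algebraMap B A b) = 0 from hconst b, smul_zero, add_zero, algebraMap_smul]
        rfl }
  let Δ : Derivation B A Ω[D⁄k] := Derivation.mk' L fun a b => Δ₀.leibniz a b
  let g : Ω[A⁄B] →ₗ[A] Ω[D⁄k] := Δ.liftKaehlerDifferential
  have hg : Function.Surjective g := by
    intro z
    have hz : z ∈ Submodule.span D (Set.range (KaehlerDifferential.D k D)) := by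
      rw [KaehlerDifferential.span_range_derivation]; trivial
    induction hz using Submodule.span_induction with
    | mem y hy =>
      obtain ⟨d, rfl⟩ := hy
      obtain ⟨a, rfl⟩ := Ideal.Quotient.mk_surjective d
      exact ⟨KaehlerDifferential.D B A a, Δ.liftKaehlerDifferential_comp_D a⟩
    | zero => exact ⟨0, map_zero g⟩
    | add y z _ _ hy hz =>
      obtain ⟨a, rfl⟩ := hy; obtain ⟨b, rfl⟩ := hz
      exact ⟨a + b, map_add g a b⟩
    | smul d y _ hy =>
      obtain ⟨a, rfl⟩ := hy; obtain ⟨c, rfl⟩ := Ideal.Quotient.mk_surjective d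
      exact ⟨c • a, (map_smul g c a).trans (algebraMap_smul D c (g a)).symm⟩
  let q : Ω[A⁄B] →ₗ[A] (D ⧸ mD) ⊗[D] Ω[D⁄k] :=
    ((TensorProduct.mk D (D ⧸ mD) Ω[D⁄k] 1).restrictScalars A).comp g
  have hq : Function.Surjective q := fun z => by
    induction z using TensorProduct.induction_on with
    | zero => exact ⟨0, map_zero q⟩
    | tmul a b =>
      obtain ⟨a, rfl⟩ := Ideal.Quotient.mk_surjective a
      obtain ⟨b', hb'⟩ := hg (a • b)
      refine ⟨b', ?_⟩
      show (1 : D ⧸ mD) ⊗ₜ g b' = _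
      rw [hb', ← TensorProduct.smul_tmul, Algebra.smul_def, mul_one]
      rfl
    | add a b ha hb =>
      obtain ⟨a', rfl⟩ := ha; obtain ⟨b', rfl⟩ := hb
      exact ⟨a' + b', map_add q a' b'⟩
  have hle : (m • ⊤ : Submodule A Ω[A⁄B]) ≤ LinearMap.ker q := by
    refine Submodule.smul_le.2 fun a ha z _ => ?_
    rw [LinearMap.mem_ker]
    show (1 : D ⧸ mD) ⊗ₜ[D] g (a • z) = 0
    rw [map_smul, ← algebraMap_smul D a (g z), ← TensorProduct.smul_tmul, Algebra.smul_def, mul_one]
    rw [show algebraMap D (D ⧸ mD) (algebraMap A D a) = 0 from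
      Ideal.Quotient.eq_zero_iff_mem.2 (Ideal.mem_map_of_mem _ ha), TensorProduct.zero_tmul]
  let qb := ((m • ⊤ : Submodule A Ω[A⁄B]).liftQ q hle).restrictScalars k
  have hqb : Function.Surjective qb := fun z => by
    obtain ⟨w, rfl⟩ := hq z
    exact ⟨Submodule.Quotient.mk w, rfl⟩
  let _ : Field (A ⧸ m) := Ideal.Quotient.field m
  let _ : Field (D ⧸ mD) := Ideal.Quotient.field mD
  have : Algebra.FiniteType B A := Algebra.FiniteType.of_restrictScalars_finiteType k B A
  have : Module.Finite k (A ⧸ m) := finite_of_finite_type_of_isJacobsonRing k (A ⧸ m)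
  have : Module.Finite (A ⧸ m) (Ω[A⁄B] ⧸ (m • ⊤ : Submodule A Ω[A⁄B])) :=
    Module.Finite.of_restrictScalars_finite A _ _
  have : Module.Finite k (Ω[A⁄B] ⧸ (m • ⊤ : Submodule A Ω[A⁄B])) := Module.Finite.trans (A ⧸ m) _
  have hle' := LinearMap.finrank_le_finrank_of_surjective (f := qb) hqb
  have hk1 : Module.finrank k (D ⧸ mD) = 1 := by
    have : Module.Finite k (D ⧸ mD) := finite_of_finite_type_of_isJacobsonRing k (D ⧸ mD)
    let e := AlgEquiv.ofBijective (Algebra.ofId k (D ⧸ mD))
      (IsAlgClosed.algebraMap_bijective_of_isIntegral (k := k) (K := D ⧸ mD))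
    rw [← e.toLinearEquiv.finrank_eq, Module.finrank_self]
  rw [← Module.finrank_mul_finrank k (D ⧸ mD) ((D ⧸ mD) ⊗[D] Ω[D⁄k]), hk1, one_mul] at hle'
  exact hcot.trans hle'

/-- Let k be an algebraically closed field, f : X → Y a morphism of k-schemes of finite type, x a closed
point of X and Z an irreducible closed subset of the fibre f⁻¹(f(x)) passing through x, of dimension
r. Then dim_k (Ω_{X/Y})_(x) ≥ r, where (Ω_{X/Y})_(x) = Ω_{X/Y,x} ⊗ k(x) is the fibre of the sheaf of
relative differentials at x, a vector space over k(x) = k (x is closed and k algebraically closed),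
regarded as a k-module through k → O_{X,x}. (The published statement is for varieties, i.e. X and Y
reduced and separated; this row assumes neither. Since X is locally of finite type over a field it
is locally Noetherian, so f is quasi-separated; the argument, T_x Z ⊆ ker(df_x) and dim T_x Z ≥ dim
Z, uses neither reducedness nor separatedness.) -/
theorem result (k : Type u) [Field k] [IsAlgClosed k]
    {X Y : Scheme.{u}} [X.Over (Spec (CommRingCat.of k))] [Y.Over (Spec (CommRingCat.of k))]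
    [LocallyOfFiniteType (X ↘ Spec (CommRingCat.of k))] [QuasiCompact (X ↘ Spec (CommRingCat.of k))]
    [LocallyOfFiniteType (Y ↘ Spec (CommRingCat.of k))] [QuasiCompact (Y ↘ Spec (CommRingCat.of k))]
    (f : X ⟶ Y) (hf : f ≫ (Y ↘ Spec (CommRingCat.of k)) = X ↘ Spec (CommRingCat.of k))
    (x : X) (hx : IsClosed ({x} : Set X)) (Z : Set X) (hZ : IsIrreducible Z) (hZc : IsClosed Z) (hxZ : x ∈ Z)
    (hZf : Z ⊆ f.base ⁻¹' {f.base x}) (r : ℕ) (hr : topologicalKrullDim ↥Z = (r : WithBot ℕ∞)) :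
    r ≤ Module.finrank k (FixPt.fiber (Omega.sheaf f) x) := by
  classical
  let qX := X ↘ Spec (CommRingCat.of k)
  have : IsLocallyNoetherian X := LocallyOfFiniteType.isLocallyNoetherian qX
  obtain ⟨η, hη⟩ := QuasiSober.sober hZ hZc
  have hηx : η ⤳ x := specializes_iff_mem_closure.2 (hη.def.ge hxZ)
  obtain ⟨_, ⟨V, hV, rfl⟩, hxV, -⟩ := Y.isBasis_affineOpens.exists_subset_of_mem_open
    (show f x ∈ (⊤ : Y.Opens) from trivial) (⊤ : Y.Opens).isOpen
  obtain ⟨_, ⟨W, hW, rfl⟩, hxW, hWle⟩ := X.isBasis_affineOpens.exists_subset_of_mem_open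
    (show x ∈ f ⁻¹ᵁ V from hxV) (f ⁻¹ᵁ V).isOpen
  have e : W ≤ f ⁻¹ᵁ V := hWle
  have hηW : η ∈ W := hηx.mem_open W.2 hxW
  let : Algebra k Γ(Y, V) := (Var76.BertiniScheme.const (k := k) Y V).toAlgebra
  let : Algebra k Γ(X, W) := (Var76.BertiniScheme.const (k := k) X W).toAlgebra
  let : Algebra Γ(Y, V) Γ(X, W) := (f.appLE V W e).hom.toAlgebra
  have : IsScalarTower k Γ(Y, V) Γ(X, W) := IsScalarTower.of_algebraMap_eq fun r => by
    show (X ↘ Spec (CommRingCat.of k)).appLE ⊤ W le_top ((Scheme.ΓSpecIso (CommRingCat.of k)).inv r) =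
      f.appLE V W e ((Y ↘ Spec (CommRingCat.of k)).appLE ⊤ V le_top ((Scheme.ΓSpecIso (CommRingCat.of k)).inv r))
    rw [← ConcreteCategory.comp_apply ((Y ↘ Spec (CommRingCat.of k)).appLE ⊤ V _),
      Scheme.Hom.appLE_comp_appLE]
    simp only [hf]
  have : Algebra.FiniteType k Γ(X, W) := Var76.VarDim.finiteType_const (k := k) hW
  have : QuasiSeparated f := QuasiSeparated.of_comp f (Y ↘ Spec (CommRingCat.of k))
  let U : X.affineOpens := ⟨W, hW⟩
  let m := Div89.primeAt U x hxW
  let p := Div89.primeAt U η hηW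
  have : m.IsMaximal := hW.primeIdealOf_isMaximal_of_isClosed ⟨x, hxW⟩ hx
  have hmem : ∀ (z : X) (hz : z ∈ W) (a : Γ(X, W)), a ∉ Div89.primeAt U z hz ↔ z ∈ X.basicOpen a := by
    intro z hz a
    show a ∉ (hW.primeIdealOf ⟨z, hz⟩).asIdeal ↔ _
    rw [← PrimeSpectrum.mem_basicOpen]
    show hW.primeIdealOf ⟨z, hz⟩ ∈ PrimeSpectrum.basicOpen a ↔ _
    rw [← hW.fromSpec_preimage_basicOpen a]
    show hW.fromSpec (hW.primeIdealOf ⟨z, hz⟩) ∈ X.basicOpen a ↔ _
    rw [hW.fromSpec_primeIdealOf ⟨z, hz⟩]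
  have hpm : p ≤ m := fun a ha => by
    by_contra h
    exact ((hmem η hηW a).2 (hηx.mem_open (X.basicOpen a).2 ((hmem x hxW a).1 h))) ha
  have hfη : f η = f x := hZf hη.mem
  have hcomap : ∀ b : Γ(Y, V), f.appLE V W e b ∈ m → f.appLE V W e b ∈ p := by
    intro b hb
    by_contra h
    have h1 := (hmem η hηW _).1 h
    rw [Scheme.basicOpen_appLE] at h1
    have h2 : x ∈ X.basicOpen (f.appLE V W e b) := by
      rw [Scheme.basicOpen_appLE]
      refine ⟨hxW, ?_⟩
      show f x ∈ Y.basicOpen b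
      rw [← hfη]; exact h1.2
    exact (hmem x hxW _).2 h2 hb
  have hdim : ringKrullDim (Γ(X, W) ⧸ p) = r := by
    show ringKrullDim (Γ(X, W) ⧸ (hW.primeIdealOf ⟨η, hηW⟩).asIdeal) = _
    rw [WC97.ringKrullDim_quotient qX hW hηW, ← WC97.topologicalKrullDim_closure qX η, hη.def, hr]
  obtain ⟨j⟩ := Var76.OmegaSmooth.exists_equiv f hW hV e
  obtain ⟨φ⟩ := Var76.OmegaFibre.fiber_equiv (k := k) (Omega.sheaf f)
    (Omega57.isQuasicoherent_omega f) U hxW Ω[Γ(X, W)⁄Γ(Y, V)] j
  rw [← φ.finrank_eq]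
  have : p.IsPrime := Div89.primeAt_isPrime U η hηW
  exact finrank_bound p m hpm hcomap r hdim

end Groth.Agent.S14443
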