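import Groth.Statements.S14447
import Groth.Agent.AlgGrp79.FixedLocus

set_option autoImplicit false
universe w v u
open AlgGrp

namespace Groth.Agent.S14447
open Groth.Agent.AlgGrp79 CategoryTheory.Limits
open scoped commutatorElement

open CategoryTheory CategoryTheory.Limits in
/-- Let C be a category with finite products and with all coproducts indexed by sets, and assume that
for every set I and every object U the canonical arrow ∐_{i∈I} U → (∐_{i∈I} pt) × U, whose i-th
component pairs U → pt → ∐_{i∈I} pt (i-th coprojection) with the identity of U, is an isomorphism.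
Then the discrete-object functor from sets to C, I ↦ ∐_{i∈I} pt, preserves finite products. (Sets
are the types of one fixed universe, the one indexing the coproducts. The published statement asks
only for the coproducts of copies of one object; this row assumes that C has all coproducts indexed
by sets, which Mathlib's discrete-object functor sigmaConst requires.) -/
theorem result {C : Type u} [Category.{v} C]
    [HasFiniteProducts C] [HasCoproducts.{w} C]
    (h : ∀ (I : Type w) (U : C), IsIso (Sigma.desc fun i : I =>
      prod.lift (terminal.from U ≫ Sigma.ι (fun _ : I => ⊤_ C) i) (𝟙 U))) :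
    PreservesFiniteProducts (sigmaConst.{w}.obj (⊤_ C)) := by
  let F := sigmaConst.{w}.obj (⊤_ C)
  have : PreservesLimit (Functor.empty.{0} (Type w)) F :=
    preservesTerminal_of_iso F
      (F.mapIso (terminalIsTerminal.uniqueUpToIso Types.isTerminalPUnit) ≪≫
        coproductUniqueIso (fun _ : PUnit.{w+1} => ⊤_ C))
  have : PreservesLimitsOfShape (Discrete.{0} PEmpty) F := preservesLimitsOfShape_pempty_of_preservesTerminal F
  have : PreservesLimitsOfShape (Discrete WalkingPair) F := by
    refine ⟨fun {K} => ?_⟩
    have : ∀ I J : Type w, PreservesLimit (pair I J) F := fun I J => by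
      let φ : (I × J) ⟶ (I ⨯ J : Type w) := (Types.binaryProductIso I J).inv
      let m : F.obj (I × J) ⟶ F.obj I ⨯ F.obj J := F.map φ ≫ prodComparison F I J
      let e : (∐ fun _ : I => ∐ fun _ : J => ⊤_ C) ⟶ F.obj (I × J) :=
        Sigma.desc fun i => Sigma.desc fun j => Sigma.ι (fun _ : I × J => ⊤_ C) (i, j)
      let e' : F.obj (I × J) ⟶ (∐ fun _ : I => ∐ fun _ : J => ⊤_ C) :=
        Sigma.desc fun p : I × J => Sigma.ι (fun _ : J => ⊤_ C) p.2 ≫ Sigma.ι (fun _ : I => ∐ fun _ : J => ⊤_ C) p.1
      have : IsIso e := ⟨e', by ext; simp [e, e'], Sigma.hom_ext _ _ fun p => by simp [e, e']; exact (Category.comp_id _).symm⟩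
      have hm : e ≫ m = Sigma.desc fun i : I =>
          prod.lift (terminal.from (F.obj J) ≫ Sigma.ι (fun _ : I => ⊤_ C) i) (𝟙 (F.obj J)) := by
        refine Sigma.hom_ext _ _ fun i => Sigma.hom_ext _ _ fun j => ?_
        simp only [e, m, Sigma.ι_desc_assoc, Sigma.ι_desc]
        have hι : ∀ {A B : Type w} (g : A ⟶ B) (x : A),
            Sigma.ι (fun _ : A => ⊤_ C) x ≫ F.map g = Sigma.ι (fun _ : B => ⊤_ C) (g x) := fun g x => by
          simp [F, sigmaConst]
        apply prod.hom_ext
        · rw [Category.assoc, Category.assoc, Limits.prodComparison_fst, ← F.map_comp, hι,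
            Category.assoc, prod.lift_fst,
            show φ ≫ prod.fst = ↾Prod.fst from Types.binaryProductIso_inv_comp_fst I J]
          rw [← Category.assoc (Sigma.ι (fun _ : J => ⊤_ C) j),
            show Sigma.ι (fun _ : J => ⊤_ C) j ≫ terminal.from (F.obj J) = 𝟙 (⊤_ C) from Subsingleton.elim _ _,
            Category.id_comp]
          rfl
        · rw [Category.assoc, Category.assoc, Limits.prodComparison_snd, ← F.map_comp, hι,
            show φ ≫ prod.snd = ↾Prod.snd from Types.binaryProductIso_inv_comp_snd I J, Category.assoc]
          erw [prod.lift_snd]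
          exact (Category.comp_id _).symm
      have : IsIso (e ≫ m) := by rw [hm]; exact h I (F.obj J)
      have : IsIso m := IsIso.of_isIso_comp_left e m
      have : IsIso (F.map φ ≫ prodComparison F I J) := this
      have : IsIso (prodComparison F I J) := IsIso.of_isIso_comp_left (F.map φ) _
      exact PreservesLimitPair.of_iso_prod_comparison F I J
    exact preservesLimit_of_iso_diagram F (diagramIsoPair K).symm
  exact PreservesFiniteProducts.of_preserves_binary_and_terminal F
end Groth.Agent.S14447
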