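import Groth.Statements.S14448
-- import your own Groth.Agent.* helpers here

set_option autoImplicit false
universe u
open Coherent

namespace Groth.Agent.S14448

open AlgebraicGeometry CategoryTheory Scheme.Modules in
lemma unit_comp {X Y Z : Scheme.{u}} (f : X ⟶ Y) (g : Y ⟶ Z) (L : Z.Modules) :
    (pullbackPushforwardAdjunction (f ≫ g)).unit.app L =
      ((pullbackPushforwardAdjunction g).comp (pullbackPushforwardAdjunction f)).unit.app L ≫
        (pushforwardComp f g).hom.app ((pullback f).obj ((pullback g).obj L)) ≫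
        (pushforward (f ≫ g)).map ((pullbackComp f g).hom.app L) := by
  have h := unit_conjugateEquiv ((pullbackPushforwardAdjunction g).comp (pullbackPushforwardAdjunction f))
    (pullbackPushforwardAdjunction (f ≫ g)) (pullbackComp f g).inv L
  rw [conjugateEquiv_pullbackComp_inv] at h
  have h2 := h =≫ (pushforward (f ≫ g)).map ((pullbackComp f g).hom.app L)
  rw [Category.assoc, Category.assoc] at h2
  refine Eq.trans ?_ h2.symm
  erw [← Functor.map_comp, Iso.inv_hom_id_app, CategoryTheory.Functor.map_id, Category.comp_id]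

open AlgebraicGeometry CategoryTheory Scheme.Modules in
lemma shuffle {X Y : Scheme.{u}} (f : X ⟶ Y) {M : Y.Modules} {N K : X.Modules}
    (α : M ⟶ (pushforward f).obj N) (β : N ⟶ K) {P Q : Y.Opens} {R : X.Opens}
    (i : Q ⟶ P) (k : R ⟶ f ⁻¹ᵁ Q) (j : R ⟶ f ⁻¹ᵁ P) :
    α.app P ≫ β.app (f ⁻¹ᵁ P) ≫ K.presheaf.map j.op =
      M.presheaf.map i.op ≫ α.app Q ≫ N.presheaf.map k.op ≫ β.app R := by
  have hα : M.presheaf.map i.op ≫ α.app Q = α.app P ≫
      N.presheaf.map ((TopologicalSpace.Opens.map f.base).map i).op :=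
    α.mapPresheaf.naturality i.op
  have hβ : N.presheaf.map j.op ≫ β.app R = β.app (f ⁻¹ᵁ P) ≫ K.presheaf.map j.op :=
    β.mapPresheaf.naturality j.op
  erw [← hβ, reassoc_of% hα]
  refine Eq.trans ?_ (Category.assoc _ _ _).symm
  congr 1
  erw [← Functor.map_comp_assoc]
  congr 2

open AlgebraicGeometry CategoryTheory Scheme.Modules in
/-- Take two commutative squares of schemes side by side, f : X → Y over φ : U → V (vertical maps ξ : X
→ U and η : Y → V, f ≫ η = ξ ≫ φ) and g : Y → Z over ψ : V → W (vertical map ζ : Z → W, g ≫ ζ = η ≫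
ψ), and an O_Z-module L. For a commutative square the base change map β_{f,φ}(M) : φ^* η_* M → ξ_*
f^* M is the adjoint of η_*(unit) : η_* M → η_* f_* f^* M = φ_* ξ_* f^* M, and α denotes the
composition isomorphisms of module pullbacks. Then the composite of α_{φ,ψ}(ζ_* L) : φ^* ψ^* ζ_* L →
(φ ≫ ψ)^* ζ_* L with β_{f ≫ g, φ ≫ ψ}(L) equals the composite of φ^* β_{g,ψ}(L), β_{f,φ}(g^* L) and
ξ_* α_{f,g}(L), as maps φ^* ψ^* ζ_* L → ξ_* (f ≫ g)^* L. No cartesian or finiteness hypothesis is
made; the outer square is used through any proof hw of its commutativity. -/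
theorem result {X Y Z U V W : Scheme.{u}} (f : X ⟶ Y) (g : Y ⟶ Z)
    (ξ : X ⟶ U) (η : Y ⟶ V) (ζ : Z ⟶ W) (φ : U ⟶ V) (ψ : V ⟶ W)
    (h₁ : f ≫ η = ξ ≫ φ) (h₂ : g ≫ ζ = η ≫ ψ) (hw : (f ≫ g) ≫ ζ = ξ ≫ (φ ≫ ψ)) (L : Z.Modules) :
    (pullbackComp φ ψ).hom.app ((pushforward ζ).obj L) ≫
        (((pullbackPushforwardAdjunction (φ ≫ ψ)).homEquiv ((pushforward ζ).obj L)
            ((pushforward ξ).obj ((pullback (f ≫ g)).obj L))).symm
          ((pushforward ζ).map ((pullbackPushforwardAdjunction (f ≫ g)).unit.app L) ≫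
            (pushforwardComp (f ≫ g) ζ).hom.app ((pullback (f ≫ g)).obj L) ≫
            (pushforwardCongr hw).hom.app ((pullback (f ≫ g)).obj L) ≫
            (pushforwardComp ξ (φ ≫ ψ)).inv.app ((pullback (f ≫ g)).obj L))) =
      (pullback φ).map (((pullbackPushforwardAdjunction ψ).homEquiv ((pushforward ζ).obj L)
            ((pushforward η).obj ((pullback g).obj L))).symm
          ((pushforward ζ).map ((pullbackPushforwardAdjunction g).unit.app L) ≫
            (pushforwardComp g ζ).hom.app ((pullback g).obj L) ≫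
            (pushforwardCongr h₂).hom.app ((pullback g).obj L) ≫
            (pushforwardComp η ψ).inv.app ((pullback g).obj L))) ≫
        (((pullbackPushforwardAdjunction φ).homEquiv ((pushforward η).obj ((pullback g).obj L))
            ((pushforward ξ).obj ((pullback f).obj ((pullback g).obj L)))).symm
          ((pushforward η).map ((pullbackPushforwardAdjunction f).unit.app ((pullback g).obj L)) ≫
            (pushforwardComp f η).hom.app ((pullback f).obj ((pullback g).obj L)) ≫
            (pushforwardCongr h₁).hom.app ((pullback f).obj ((pullback g).obj L)) ≫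
            (pushforwardComp ξ φ).inv.app ((pullback f).obj ((pullback g).obj L)))) ≫
        (pushforward ξ).map ((pullbackComp f g).hom.app L) := by
  refine (((pullbackPushforwardAdjunction ψ).comp (pullbackPushforwardAdjunction φ)).homEquiv _ _).injective ?_
  rw [Adjunction.homEquiv_unit, Adjunction.homEquiv_unit]
  simp only [Functor.comp_map, Functor.map_comp, Category.assoc, Adjunction.comp_unit_app]
  have hψ : ∀ {M : U.Modules} {N : W.Modules} (a : (pullback (φ ≫ ψ)).obj N ⟶ M),
      (pullbackPushforwardAdjunction ψ).unit.app N ≫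
        (pushforward ψ).map ((pullbackPushforwardAdjunction φ).unit.app ((pullback ψ).obj N)) ≫
        (pushforward ψ).map ((pushforward φ).map ((pullbackComp φ ψ).hom.app N)) ≫
        (pushforward ψ).map ((pushforward φ).map a) =
      (pullbackPushforwardAdjunction (φ ≫ ψ)).homEquiv N M a ≫ (pushforwardComp φ ψ).inv.app M := by
    intro M N a
    rw [Adjunction.homEquiv_unit, unit_comp φ ψ N]
    ext V : 1
    simp [Adjunction.comp_unit_app, pushforward_map_app]
  rw [hψ, Equiv.apply_symm_apply]
  have hφ : ∀ {M : U.Modules} {N N' Q : V.Modules} (b : N' ⟶ N) (a : N ⟶ (pushforward φ).obj M)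
      (c : (pushforward φ).obj M ⟶ Q),
      (pullbackPushforwardAdjunction φ).unit.app N' ≫ (pushforward φ).map ((pullback φ).map b) ≫
        (pushforward φ).map (((pullbackPushforwardAdjunction φ).homEquiv N M).symm a) ≫ c =
      b ≫ a ≫ c := by
    intro M N N' Q b a c
    erw [(pullbackPushforwardAdjunction φ).unit_naturality_assoc]
    rw [← Category.assoc ((pullbackPushforwardAdjunction φ).unit.app N)]
    erw [← Adjunction.homEquiv_unit, Equiv.apply_symm_apply]
  simp only [← Functor.map_comp]
  simp only [Functor.map_comp (pushforward φ)]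
  rw [hφ]
  simp only [Functor.map_comp, Category.assoc]
  rw [← Category.assoc ((pullbackPushforwardAdjunction ψ).unit.app _)]
  erw [← Adjunction.homEquiv_unit, Equiv.apply_symm_apply]
  rw [unit_comp f g L]
  ext V₀ : 1
  simp [Adjunction.comp_unit_app, pushforward_map_app, Category.assoc]
  congr 1
  exact shuffle f _ _ _ _ _

end Groth.Agent.S14448
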