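import Groth.Statements.S14456
import Groth.Agent.CAlg7.FlatLimit

set_option autoImplicit false
universe u
open CAlg

namespace Groth.Agent.S14456

/-- Take a local homomorphism A → B between Noetherian local rings, M a finitely generated B-module and
f an element of the maximal ideal of B. If M/f^(n+1)M is flat over A for every n ≥ 0, then M is flat
over A. -/
theorem result {A B : Type u} [CommRing A] [CommRing B]
    [IsNoetherianRing A] [IsNoetherianRing B] [IsLocalRing A] [IsLocalRing B] [Algebra A B]
    [IsLocalHom (algebraMap A B)] (M : Type u) [AddCommGroup M] [Module B M] [Module A M]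
    [IsScalarTower A B M] [Module.Finite B M] (f : B) (hf : f ∈ IsLocalRing.maximalIdeal B)
    (hflat : ∀ n : ℕ, Module.Flat A (M ⧸ (Ideal.span {f ^ (n + 1)} • (⊤ : Submodule B M)))) :
    Module.Flat A M := by
  refine Groth.Agent.CAlg7.flat_of_forall_flat_quotient_pow (Ideal.span {f})
    (le_trans ((Ideal.span_singleton_le_iff_mem _).2 hf)
      (IsLocalRing.maximalIdeal_le_jacobson _)) fun n => ?_
  cases n with
  | zero =>
    have : Subsingleton (M ⧸ (Ideal.span {f} ^ 0 • ⊤ : Submodule B M)) :=
      Submodule.Quotient.subsingleton_iff.2 (by simp)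
    infer_instance
  | succ n =>
    rw [Ideal.span_singleton_pow]
    exact hflat n

end Groth.Agent.S14456
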