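import Groth.Statements.S14460
import Groth.Agent.FEt83.Galois

set_option autoImplicit false
universe u
open CategoryTheory CategoryTheory.Limits AlgebraicGeometry
open Pi1

namespace Groth.Agent.S14460

set_option backward.isDefEq.respectTransparency.types false in
/-- Let Y → X be finite étale with Y nonempty and all geometric fibres of the same cardinality n, and
let a finite group G act on Y over X without fixed points (no point of Y with values in a field is
fixed by a non-identity element). Then G has at most n elements, and it has exactly n elements if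
and only if the morphism from the disjoint union of copies of Y indexed by G to Y ×_X Y, given on
the copy indexed by g by the identity and g, is an isomorphism. (For Y empty the bound fails, since
every finite group acts without fixed points on the empty cover, whose fibres have cardinality 0;
this row assumes Y nonempty.) -/
theorem result {X : Scheme.{u}} (Y : FEt.Cat X)
    [Nonempty ↥Y.left] (n : ℕ)
    (hn : ∀ (Ω : Type u) [Field Ω] [IsSepClosed Ω] (ξ : Spec (CommRingCat.of Ω) ⟶ X), Nat.card (FEt.fiberObj ξ Y) = n)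
    (G : Type u) [Group G] [Finite G] (ρ : G →* Aut Y)
    (hfree : ∀ g : G, g ≠ 1 → ∀ (K : Type u) [Field K] (y : Spec (CommRingCat.of K) ⟶ Y.left),
      y ≫ (ρ g).hom.left ≠ y) :
    Nat.card G ≤ n ∧
      (Nat.card G = n ↔ IsIso (Limits.Sigma.desc fun g : G =>
        pullback.lift (𝟙 Y.left) (ρ g).hom.left
          ((Category.id_comp Y.hom).trans (Over.w (ρ g).hom.hom).symm) : (∐ fun _ : G => Y.left) ⟶ pullback Y.hom Y.hom)) := by
  classical
  let e : G → (Y.left ⟶ pullback Y.hom Y.hom) := fun g =>
    pullback.lift (𝟙 Y.left) (ρ g).hom.left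
      ((Category.id_comp Y.hom).trans (Over.w (ρ g).hom.hom).symm)
  -- the orbit of a geometric point is free
  have orb : ∀ (K : Type u) [Field K] (s : Spec (CommRingCat.of K) ⟶ Y.left),
      Function.Injective fun g : G => s ≫ (ρ g).hom.left := by
    intro K _ s g h hgh
    by_contra hne
    apply hfree (g * h⁻¹) (mt mul_inv_eq_one.mp hne) K (s ≫ (ρ h).hom.left)
    rw [Category.assoc]
    calc s ≫ (ρ h).hom.left ≫ (ρ (g * h⁻¹)).hom.left
        = s ≫ ((ρ h).hom ≫ (ρ (g * h⁻¹)).hom).left := rfl
      _ = s ≫ (ρ g).hom.left := by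
        rw [← Iso.trans_hom, ← Aut.Aut_mul_def, ← map_mul, inv_mul_cancel_right]
      _ = s ≫ (ρ h).hom.left := hgh
  have orbF : ∀ {Ω : Type u} [Field Ω] (ξ : Spec (CommRingCat.of Ω) ⟶ X) (s : FEt.fiberObj ξ Y),
      Function.Injective fun g : G => (FEt.fiber ξ).map (ρ g).hom s := fun ξ s g h hgh =>
    orb _ s.1 (congrArg Subtype.val hgh)
  obtain ⟨y₀⟩ := (inferInstance : Nonempty Y.left)
  let Ω₀ := SeparableClosure (X.residueField (Y.hom y₀))
  let ξ₀ : Spec (CommRingCat.of Ω₀) ⟶ X :=
    Spec.map (CommRingCat.ofHom (algebraMap (X.residueField (Y.hom y₀)) Ω₀)) ≫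
      X.fromSpecResidueField _
  obtain ⟨t₀⟩ : Nonempty (Spec (CommRingCat.of Ω₀)) := inferInstance
  obtain ⟨s₀, -⟩ := FEt83.exists_fiberObj ξ₀ Y y₀ t₀ (by
    rw [Scheme.Hom.comp_apply, Scheme.fromSpecResidueField_apply])
  have hle : Nat.card G ≤ n := by
    have := FEt83.finite_fiberObj ξ₀ Y
    exact hn Ω₀ ξ₀ ▸ Nat.card_le_card_of_injective _ (orbF ξ₀ s₀)
  refine ⟨hle, ?_, ?_⟩
  · intro hcard
    have hopen : ∀ g, IsOpenImmersion (e g) := fun g => by
      have h1 : e g ≫ pullback.fst Y.hom Y.hom = 𝟙 _ := pullback.lift_fst _ _ _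
      have : Etale (pullback.fst Y.hom Y.hom) :=
        MorphismProperty.pullback_fst _ _ Y.prop.2
      have : IsFinite Y.hom := Y.prop.1
      have : Etale (e g ≫ pullback.fst Y.hom Y.hom) := by rw [h1]; infer_instance
      have : Mono (e g ≫ pullback.fst Y.hom Y.hom) := by rw [h1]; infer_instance
      have : Mono (e g) := mono_of_mono (e g) (pullback.fst Y.hom Y.hom)
      have : Etale (e g) := Etale.of_comp (e g) (pullback.fst Y.hom Y.hom)
      exact IsOpenImmersion.of_flat_of_mono _
    have hd : Pairwise fun g h => Disjoint (Set.range (e g)) (Set.range (e h)) := by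
      intro g h hgh
      rw [Set.disjoint_left]
      intro z hzg hzh
      apply hgh
      have lift : ∀ k, z ∈ Set.range (e k) →
          ((pullback Y.hom Y.hom).fromSpecResidueField z ≫ pullback.fst Y.hom Y.hom) ≫
            (ρ k).hom.left =
          (pullback Y.hom Y.hom).fromSpecResidueField z ≫ pullback.snd Y.hom Y.hom := fun k hk => by
        have := hopen k
        have hfac := IsOpenImmersion.lift_fac (e k)
          ((pullback Y.hom Y.hom).fromSpecResidueField z)
          (by rw [Scheme.range_fromSpecResidueField]; exact Set.singleton_subset_iff.mpr hk)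
        conv_lhs => rw [← hfac, Category.assoc _ (e k), pullback.lift_fst, Category.comp_id]
        conv_rhs => rw [← hfac, Category.assoc _ (e k), pullback.lift_snd]
      exact orb _ _ ((lift g hzg).trans (lift h hzh).symm)
    have := isOpenImmersion_sigmaDesc _ e hd
    show IsIso (Sigma.desc e)
    refine (isIso_iff_isOpenImmersion_and_epi_base _).mpr ⟨inferInstance, ?_⟩
    rw [TopCat.epi_iff_surjective]
    intro z
    let P := pullback Y.hom Y.hom
    let Ω := SeparableClosure (P.residueField z)
    obtain ⟨t⟩ : Nonempty (Spec (CommRingCat.of Ω)) := inferInstance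
    obtain ⟨r, hrz⟩ : ∃ r : Spec (CommRingCat.of Ω) ⟶ P, r t = z :=
      ⟨Spec.map (CommRingCat.ofHom (algebraMap (P.residueField z) Ω)) ≫ P.fromSpecResidueField z,
        by rw [Scheme.Hom.comp_apply, Scheme.fromSpecResidueField_apply]⟩
    let ξ := (r ≫ pullback.fst Y.hom Y.hom) ≫ Y.hom
    have : Finite ((FEt.fiber ξ).obj Y) := FEt83.finite_fiberObj ξ Y
    have hbij := (orbF ξ ⟨r ≫ pullback.fst Y.hom Y.hom, rfl⟩).bijective_of_nat_card_le
      (hn Ω ξ ▸ hcard.ge)
    obtain ⟨g, hg⟩ := hbij.2 ⟨r ≫ pullback.snd Y.hom Y.hom, by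
      show _ = (r ≫ pullback.fst Y.hom Y.hom) ≫ Y.hom
      rw [Category.assoc, Category.assoc, pullback.condition]⟩
    have hr : (r ≫ pullback.fst Y.hom Y.hom) ≫ e g = r := pullback.hom_ext
      (by rw [Category.assoc _ (e g), pullback.lift_fst, Category.comp_id])
      (by rw [Category.assoc _ (e g), pullback.lift_snd]; exact congrArg Subtype.val hg)
    refine ⟨((r ≫ pullback.fst Y.hom Y.hom) ≫ Sigma.ι (fun _ : G => Y.left) g) t, ?_⟩
    show (_ ≫ Sigma.desc e) t = z
    rw [Category.assoc _ (Sigma.ι (fun _ : G => Y.left) g), Sigma.ι_desc, hr, hrz]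
  · intro hiso
    refine le_antisymm hle (hn Ω₀ ξ₀ ▸ Nat.card_le_card_of_surjective
      (fun g => (FEt.fiber ξ₀).map (ρ g).hom s₀) fun s => ?_)
    let r : Spec (CommRingCat.of Ω₀) ⟶ pullback Y.hom Y.hom :=
      pullback.lift s₀.1 s.1 (s₀.2.trans s.2.symm)
    have hiso' : IsIso (Sigma.desc e) := hiso
    obtain ⟨g, y, hy⟩ := (sigmaOpenCover fun _ : G => Y.left).exists_eq (inv (Sigma.desc e) (r t₀))
    have hfac := IsOpenImmersion.lift_fac (Sigma.ι (fun _ : G => Y.left) g)
      (r ≫ inv (Sigma.desc e)) (by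
        rintro _ ⟨t, rfl⟩
        rw [Subsingleton.elim t t₀, Scheme.Hom.comp_apply, ← hy]
        exact ⟨y, rfl⟩)
    set u := IsOpenImmersion.lift (Sigma.ι (fun _ : G => Y.left) g) (r ≫ inv (Sigma.desc e)) _
    have hr : u ≫ e g = r := by
      have := congrArg (· ≫ Sigma.desc e) hfac
      simpa using this
    refine ⟨g, Subtype.ext ?_⟩
    have h1 := congrArg (· ≫ pullback.fst Y.hom Y.hom) hr
    have h2 := congrArg (· ≫ pullback.snd Y.hom Y.hom) hr
    simp only [Category.assoc, e, r, pullback.lift_fst, pullback.lift_snd, Category.comp_id] at h1 h2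
    show s₀.1 ≫ _ = s.1
    rw [← h1, h2]

end Groth.Agent.S14460
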