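import Groth.Statements.S14461
import Groth.Agent.FEt83.FullFaithful
import Mathlib.AlgebraicGeometry.Noetherian
import Mathlib.Topology.NoetherianSpace

set_option autoImplicit false
universe u
open CategoryTheory CategoryTheory.Limits AlgebraicGeometry
open Pi1

namespace Groth.Agent.S14461

/-- Let X be a Noetherian scheme and X₀ → X a closed immersion such that, for every finite étale Y → X,
the projection Y ×_X X₀ → Y induces a bijection on connected components. Then restriction of finite
étale covers from X to X₀ is full and faithful. -/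
theorem result {X X₀ : Scheme.{u}} [IsNoetherian X]
    (i : X₀ ⟶ X) [IsClosedImmersion i]
    (h : ∀ Y : FEt.Cat X, Function.Bijective (pullback.fst Y.hom i).continuous.connectedComponentsMap) :
    (FEt.restrict i).Full ∧ (FEt.restrict i).Faithful := by
  have hm : Groth.Agent.FEt83.MeetsClopens i := by
    intro Y C hC hne
    obtain ⟨y, hy⟩ := hne
    obtain ⟨z, hz⟩ := (h Y).2 (ConnectedComponents.mk y)
    obtain ⟨z, rfl⟩ := ConnectedComponents.surjective_coe z
    exact ⟨z, hC.connectedComponent_subset hy (ConnectedComponents.coe_eq_coe'.mp hz)⟩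
  refine ⟨Groth.Agent.FEt83.full_of_lifts hm fun Y C₀ hC₀ => ?_,
    Groth.Agent.FEt83.faithful_of_meets hm⟩
  let p : Y.left ⟶ X := Y.hom
  have : IsFinite p := Y.prop.1
  have : IsLocallyNoetherian Y.left := LocallyOfFiniteType.isLocallyNoetherian p
  have : CompactSpace Y.left := QuasiCompact.compactSpace_of_compactSpace p
  have : IsNoetherian Y.left := { }
  have hopen (y : Y.left) : IsOpen (connectedComponent y) := by
    rw [← isClosed_compl_iff]
    have : (connectedComponent y)ᶜ =
        ⋃ T ∈ {T ∈ irreducibleComponents (Y.left : Type u) | ¬T ⊆ connectedComponent y}, T := by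
      ext x
      simp only [Set.mem_compl_iff, Set.mem_iUnion₂, Set.mem_ofPred_eq]
      refine ⟨fun hx => ⟨irreducibleComponent x, ⟨irreducibleComponent_mem_irreducibleComponents x,
        fun hs => hx (hs mem_irreducibleComponent)⟩, mem_irreducibleComponent⟩, ?_⟩
      rintro ⟨T, ⟨hT, hTs⟩, hxT⟩ hx
      apply hTs
      rw [connectedComponent_eq hx]
      exact hT.1.isPreirreducible.isPreconnected.subset_connectedComponent hxT
    rw [this]
    refine ((TopologicalSpace.NoetherianSpace.finite_irreducibleComponents.subset
      fun T hT => hT.1)).isClosed_biUnion fun T hT => ?_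
    exact isClosed_of_mem_irreducibleComponents T hT.1
  refine ⟨ConnectedComponents.mk ⁻¹'
    ((pullback.fst Y.hom i).continuous.connectedComponentsMap ''
      (ConnectedComponents.mk '' C₀)), ?_, ?_⟩
  · have key : ∀ S : Set (ConnectedComponents Y.left), IsOpen (ConnectedComponents.mk ⁻¹' S) := by
      intro S
      refine isOpen_iff_forall_mem_open.mpr fun y hy => ⟨connectedComponent y, fun x hx => ?_,
        hopen y, mem_connectedComponent⟩
      simpa [ConnectedComponents.coe_eq_coe'.mpr hx] using hy
    refine ⟨?_, key _⟩
    rw [← isOpen_compl_iff, ← Set.preimage_compl]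
    exact key _
  · ext z
    refine ⟨?_, fun hz => ⟨_, ⟨z, hz, rfl⟩, rfl⟩⟩
    rintro ⟨_, ⟨w, hw, rfl⟩, e⟩
    have := (h Y).1 (a₂ := ConnectedComponents.mk z) e
    exact hC₀.connectedComponent_subset hw
      (ConnectedComponents.coe_eq_coe'.mp this.symm)

end Groth.Agent.S14461
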