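import Groth.Statements.S14462
import Groth.Agent.Unr55.EtaleCodimTwo
import Mathlib.AlgebraicGeometry.Noetherian

set_option autoImplicit false
universe u
open CategoryTheory AlgebraicGeometry
open Unram

set_option backward.isDefEq.respectTransparency.types false

namespace Groth.Agent.S14462

/-- Let f : X → Y be finite and flat with Y locally Noetherian, and let U ⊆ Y be open with every point
of the complement having a local ring of Krull dimension at least 2. If f is étale over U, then f is
étale. -/
theorem result {X Y : Scheme.{u}} [IsLocallyNoetherian Y]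
    (f : X ⟶ Y) [IsFinite f] [Flat f] (U : Y.Opens)
    (hU : ∀ y : Y, y ∉ U → (2 : WithBot ℕ∞) ≤ ringKrullDim (Y.presheaf.stalk y))
    [Etale (f ∣_ U)] : Etale f := by
  open Groth.Agent.Unr55 in
  have hloc : ∀ x : X, ∃ W : X.Opens, x ∈ W ∧ Etale (W.ι ≫ f) := by
    intro x
    obtain ⟨V, hV, hxV, -⟩ := exists_isAffineOpen_mem_and_subset (U := (⊤ : Y.Opens)) (x := f x) trivial
    let W := f ⁻¹ᵁ V
    have hW : IsAffineOpen W := hV.preimage f
    let e : W ≤ f ⁻¹ᵁ V := le_rfl
    let R := Γ(Y, V)
    let S := Γ(X, W)
    have : IsNoetherianRing R := IsLocallyNoetherian.component_noetherian ⟨V, hV⟩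
    let := (f.appLE V W e).hom.toAlgebra
    have hfin : (f.appLE V W e).hom.Finite := by
      rw [← Scheme.Hom.app_eq_appLE]
      exact f.finite_app V hV
    have : Module.Finite R S := hfin
    have : Module.Flat R S := Flat.flat_appLE f hV hW e
    have het : Algebra.Etale R S := etale_of_finite_flat_of_height_le_one R S fun q _ hq => by
      let qq : PrimeSpectrum S := ⟨q, ‹_›⟩
      let pp : PrimeSpectrum R := PrimeSpectrum.comap (f.appLE V W e).hom qq
      let z := hW.fromSpec qq
      have hz : f z = hV.fromSpec pp := by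
        change (hW.fromSpec ≫ f) qq = _
        rw [← hV.SpecMap_appLE_fromSpec f hW e]
        rfl
      have hzU : f z ∈ U := by
        by_contra hn
        have h2 := hU _ hn
        rw [hz] at h2
        have hm : hV.fromSpec pp ∈ (V : Set Y) := by rw [← hV.range_fromSpec]; exact Set.mem_range_self pp
        let := TopCat.Presheaf.algebra_section_stalk Y.presheaf (⟨hV.fromSpec pp, hm⟩ : V)
        have hl : IsLocalization.AtPrime (Y.presheaf.stalk (hV.fromSpec pp)) pp.asIdeal := hV.isLocalization_stalk' pp hm
        rw [IsLocalization.AtPrime.ringKrullDim_eq_height pp.asIdeal (Y.presheaf.stalk (hV.fromSpec pp))] at h2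
        have h1 : (pp.asIdeal.height : WithBot ℕ∞) ≤ (1 : ℕ∞) := WithBot.coe_le_coe.2 hq
        exact absurd (h2.trans h1) (by decide)
      have hex : ∃ W' : X.Opens, z ∈ W' ∧ Etale (W'.ι ≫ f) := by
        refine ⟨f ⁻¹ᵁ U, hzU, ?_⟩
        rw [← morphismRestrict_ι]
        infer_instance
      obtain ⟨-, hu⟩ := (exists_etale_iff f z).1 hex
      have : Algebra.IsUnramifiedAt R q := (formallyUnramified_stalkMap_iff_chart f hV hW e qq).1 hu
      have : Algebra.FinitePresentation R S := Algebra.FinitePresentation.of_finiteType.mp inferInstance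
      have : Module.Flat R (Localization.AtPrime q) := Module.Flat.trans R S _
      exact isEtaleAt_of_flat_localization q
    refine (exists_etale_iff f x).2 ⟨Flat.stalkMap f x, ?_⟩
    obtain ⟨qq, hqq⟩ : x ∈ Set.range hW.fromSpec := by rw [hW.range_fromSpec]; exact hxV
    rw [← hqq]
    exact (formallyUnramified_stalkMap_iff_chart f hV hW e qq).2
      (Algebra.FormallyUnramified.comp R S (Localization.AtPrime qq.asIdeal))
  choose W hxW hW using hloc
  exact (IsZariskiLocalAtSource.iff_of_iSup_eq_top (P := @Etale) W
    (eq_top_iff.2 fun x _ => TopologicalSpace.Opens.mem_iSup.2 ⟨x, hxW x⟩)).2 hW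

end Groth.Agent.S14462
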