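import Groth.Statements.S14469
import Groth.Agent.Curves2.RelVA.FamilyDeg

set_option autoImplicit false
universe u
open CategoryTheory CategoryTheory.Limits AlgebraicGeometry
open Curves

namespace Groth.Agent.S14469
theorem facts {C S : Scheme.{u}} (f : C ⟶ S) [IsProper f] [Smooth f] [GeometricallyConnected f]
    (hdim : ∀ s : S, topologicalKrullDim ↥(f.fiber s) = 1) (g : ℕ) (hg : 2 ≤ g)
    (hgen : ∀ s : S, letI : (f.fiber s).Over (Spec (S.residueField s)) := ⟨f.fiberToSpecResidueField s⟩
      Curv2.genus (S.residueField s) (f.fiber s) = g)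
    (n : ℕ) (hn : 2 ≤ n) (s : S) :
    Subsingleton (CohIII.fiberH f (CohB1.tensorPow (Omega.sheaf f) n) s 1) ∧
      CohIII.fiberRank f (CohB1.tensorPow (Omega.sheaf f) n) 0 s = (2 * n - 1) * (g - 1) := by
  have hn' : (2 : ℤ) ≤ n := by exact_mod_cast hn
  have hg' : (2 : ℤ) ≤ g := by exact_mod_cast hg
  obtain ⟨h1, h0⟩ := Curves2.RelVA.fibre_of_deg_gt f hdim g hgen _
    (EGA73.isInvertible_tensorPow (Curves2.RelVA.isInvertible_omega f hdim) n)
    ((n : ℤ) * (2 * (g : ℤ) - 2)) (by nlinarith) s (Curves2.RelVA.deg_tensorPow_omega f hdim g hgen n s)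
  refine ⟨h1, ?_⟩
  apply Int.ofNat_inj.1
  rw [h0]
  push_cast [Nat.cast_sub (show 1 ≤ g by omega), Nat.cast_sub (show 1 ≤ 2 * n by omega)]
  ring


/-- Let f : C → S be a proper smooth morphism of schemes whose fibres are geometrically connected, of
dimension one and of genus g ≥ 2 (g the dimension of H¹ of the structure sheaf of each fibre over
its residue field), i.e. a family of smooth curves of genus g, and let n ≥ 2. Then f_*(Ω_{C/S}^{⊗n})
is finite locally free of rank (2n - 1)(g - 1) and R^i f_*(Ω_{C/S}^{⊗n}) = 0 for every i ≥ 1. (The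
published statement also asserts that the formation of f_*(Ω_{C/S}^{⊗n}) commutes with every base
change S' → S; this row does not restate that clause.) -/
theorem result {C S : Scheme.{u}} (f : C ⟶ S)
    [IsProper f] [Smooth f] [GeometricallyConnected f]
    (hdim : ∀ s : S, topologicalKrullDim ↥(f.fiber s) = 1) (g : ℕ) (hg : 2 ≤ g)
    (hgen : ∀ s : S, letI : (f.fiber s).Over (Spec (S.residueField s)) := ⟨f.fiberToSpecResidueField s⟩
      Curv2.genus (S.residueField s) (f.fiber s) = g)
    [HasInjectiveResolutions C.Modules] (n : ℕ) (hn : 2 ≤ n) :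
    FlatMod.IsFinLocFreeOfRank ((2 * n - 1) * (g - 1)) ((Coh.push f).obj (CohB1.tensorPow (Omega.sheaf f) n)) ∧
      ∀ i : ℕ, 1 ≤ i → IsZero ((Coh.Rpush f i).obj (CohB1.tensorPow (Omega.sheaf f) n)) := by
  have hL := EGA73.isInvertible_tensorPow (Curves2.RelVA.isInvertible_omega f hdim) n
  haveI : (CohB1.tensorPow (Omega.sheaf f) n).IsQuasicoherent := Mero90.isQCoh_of_isInvertible hL
  have hfp := Cube73.isFP_of_isInvertible hL
  have hfl := Cube73.isFlatOver_of_isInvertible f hL
  refine ⟨Curves2.RelVA.isFinLocFreeOfRank_pushforward f _ hfp hfl (fun s => (facts f hdim g hg hgen n hn s).1) _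
    fun s => (facts f hdim g hg hgen n hn s).2, fun i hi => ?_⟩
  refine Curves2.RelVA.isZero_rpush f _ hfp hfl i fun s => ?_
  rcases eq_or_lt_of_le hi with rfl | h
  · exact (facts f hdim g hg hgen n hn s).1
  · exact Mum71.subsingleton_fiberH_of_dim _ s (d := 1) (hdim s).le h

end Groth.Agent.S14469
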