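import Groth.Statements.S14471
import Groth.Agent.Mero90.Frames
import Groth.Agent.Curves2.CurveMaps
import Groth.Agent.VarGal.GeomRed
import Mathlib.AlgebraicGeometry.AlgClosed.Basic
import Mathlib.RingTheory.OrderOfVanishing.Noetherian

set_option autoImplicit false
universe u
open CategoryTheory CategoryTheory.Limits AlgebraicGeometry
open Curves

namespace Groth.Agent.S14471
open IsDiscreteValuationRing in
theorem ncard_addVal {k R : Type u} [Field k] [CommRing R] [IsDomain R] [IsDiscreteValuationRing R] [Algebra k R]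
    (hres : ∀ x : R, ∃ c : k, x - algebraMap k R c ∈ IsLocalRing.maximalIdeal R) (n : ℕ) :
    ∀ (W : Submodule k R) [Module.Finite k W], Module.finrank k W = n →
      Set.ncard (addVal R '' {x | x ∈ W ∧ x ≠ 0}) = n := by
  induction n with
  | zero =>
    intro W _ hW
    rw [Submodule.finrank_eq_zero.mp hW]
    simp
  | succ n ih =>
    intro W _ hW
    have hne : (addVal R '' {x | x ∈ W ∧ x ≠ 0}).Nonempty := by
      obtain ⟨x, hx, hx0⟩ := Submodule.exists_mem_ne_zero_of_ne_bot (p := W) (fun h => by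
        rw [h, finrank_bot] at hW; omega)
      exact ⟨_, x, ⟨hx, hx0⟩, rfl⟩
    obtain ⟨_, ⟨u, ⟨huW, hu0⟩, rfl⟩, hmin⟩ := WellFounded.has_min wellFounded_lt _ hne
    have hdvd : ∀ w ∈ W, u ∣ w := by
      intro w hw
      by_cases hw0 : w = 0
      · simp [hw0]
      · exact addVal_le_iff_dvd.mp (not_lt.mp (hmin _ ⟨w, ⟨hw, hw0⟩, rfl⟩))
    let T : Submodule k R := W ⊓ (Ideal.span {u} * IsLocalRing.maximalIdeal R).restrictScalars k
    have : Module.Finite k T :=
      Module.Finite.of_injective (Submodule.inclusion (inf_le_left : T ≤ W)) (Submodule.inclusion_injective _)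
    have hlt : ∀ w ∈ T, w ≠ 0 → addVal R w ≠ addVal R u := by
      intro w hw hw0 he
      obtain ⟨b, hb, hwb⟩ := Ideal.mem_span_singleton_mul.mp hw.2
      obtain ⟨c, hc⟩ := addVal_le_iff_dvd.mp he.le
      have : u * (1 - b * c) = 0 := by rw [mul_sub, ← mul_assoc, hwb, ← hc]; ring
      rcases mul_eq_zero.mp this with h | h
      · exact hu0 h
      · exact (IsLocalRing.maximalIdeal.isMaximal R).ne_top ((Ideal.eq_top_iff_one _).mpr
          (by rw [sub_eq_zero.mp h]; exact Ideal.mul_mem_right _ _ hb))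
    have huT : u ∉ T := fun h => hlt u h hu0 rfl
    have hsup : W = T ⊔ (k ∙ u) := by
      refine le_antisymm (fun w hw => ?_) (sup_le inf_le_left ((Submodule.span_singleton_le_iff_mem _ _).mpr huW))
      obtain ⟨a, rfl⟩ := hdvd w hw
      obtain ⟨c, hc⟩ := hres a
      rw [show u * a = (u * a - c • u) + c • u by abel]
      refine Submodule.add_mem_sup ⟨W.sub_mem hw (W.smul_mem c huW), ?_⟩
        (Submodule.smul_mem _ c (Submodule.mem_span_singleton_self u))
      show u * a - c • u ∈ Ideal.span {u} * IsLocalRing.maximalIdeal R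
      rw [Algebra.smul_def, mul_comm (algebraMap k R c) u, ← mul_sub]
      exact Ideal.mul_mem_mul (Ideal.mem_span_singleton_self u) hc
    have hT : Module.finrank k T = n := by
      have hd : Disjoint T (k ∙ u) := (Submodule.disjoint_span_singleton' hu0).mpr huT
      have h1 := Submodule.finrank_sup_add_finrank_inf_eq T (k ∙ u)
      rw [disjoint_iff.mp hd, finrank_bot, add_zero, finrank_span_singleton hu0, ← hsup, hW] at h1
      omega
    have himg : addVal R '' {x | x ∈ W ∧ x ≠ 0} = insert (addVal R u) (addVal R '' {x | x ∈ T ∧ x ≠ 0}) := by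
      apply subset_antisymm
      · rintro _ ⟨w, ⟨hw, hw0⟩, rfl⟩
        by_cases hwT : w ∈ T
        · exact Or.inr ⟨w, ⟨hwT, hw0⟩, rfl⟩
        · left
          refine le_antisymm ?_ (addVal_le_iff_dvd.mpr (hdvd w hw))
          by_contra hlt'
          apply hwT
          obtain ⟨b, hb⟩ := hdvd w hw
          refine ⟨hw, ?_⟩
          show w ∈ Ideal.span {u} * IsLocalRing.maximalIdeal R
          rw [hb]
          refine Ideal.mul_mem_mul (Ideal.mem_span_singleton_self u) ?_
          rw [IsLocalRing.mem_maximalIdeal, mem_nonunits_iff]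
          intro hbu
          apply hlt'
          rw [addVal_le_iff_dvd, hb]
          exact hbu.mul_right_dvd.mpr dvd_rfl
      · rintro _ (rfl | ⟨w, ⟨hw, hw0⟩, rfl⟩)
        · exact ⟨u, ⟨huW, hu0⟩, rfl⟩
        · exact ⟨w, ⟨hw.1, hw0⟩, rfl⟩
    have hnotin : addVal R u ∉ addVal R '' {x | x ∈ T ∧ x ≠ 0} := by
      rintro ⟨w, ⟨hw, hw0⟩, he⟩
      exact hlt w hw hw0 he
    have hfin : (addVal R '' {x | x ∈ T ∧ x ≠ 0}).Finite := by
      rcases Nat.eq_zero_or_pos n with hn | hn
      · rw [hn] at hT
        rw [Submodule.finrank_eq_zero.mp hT]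
        simp
      · exact Set.finite_of_ncard_pos (by rw [ih T hT]; exact hn)
    rw [himg, Set.ncard_insert_of_notMem hnotin hfin, ih T hT]
open Var76.LineBundle in
theorem sect_eq_zero_of_germ {X : Scheme.{u}} [IsIntegral X] {L : X.Modules} (hL : PicF.IsInvertible L)
    (σ : Γ(L, ⊤)) (p : X) (h : L.presheaf.germ ⊤ p trivial σ = 0) : σ = 0 := by
  obtain ⟨N, hpN, i, i', hN⟩ := TopCat.Presheaf.germ_eq L.presheaf (U := (⊤ : X.Opens)) (V := ⊤) p trivial trivial σ 0
    (h.trans (map_zero _).symm)
  have hN' : res L (le_top : N ≤ ⊤) σ = 0 := by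
    rw [map_zero] at hN
    exact hN
  choose U hxU e he using fun x : X => Mero90.exists_frame' hL x
  refine TopCat.Presheaf.section_ext (F := ⟨L.presheaf, L.isSheaf⟩) (U := ⊤) σ 0 fun x _ => ?_
  show L.presheaf.germ ⊤ x trivial σ = L.presheaf.germ ⊤ x trivial 0
  obtain ⟨c, hc⟩ := (he x (U x) le_rfl).2 (res L le_top σ)
  have hne : Nonempty (U x : X.Opens) := ⟨⟨x, hxU x⟩⟩
  let M := U x ⊓ N
  obtain ⟨y, hyM⟩ : ∃ y, y ∈ M := by
    obtain ⟨y, hy1, hy2⟩ := nonempty_preirreducible_inter (U x).isOpen N.isOpen ⟨x, hxU x⟩ ⟨p, hpN⟩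
    exact ⟨y, hy1, hy2⟩
  have hcM : X.presheaf.map (homOfLE (inf_le_left : M ≤ U x)).op c = 0 := by
    apply (he x M inf_le_left).1
    show _ • _ = (0 : Γ(X, M)) • _
    rw [zero_smul]
    have h1 := congrArg (res L (inf_le_left : M ≤ U x)) hc
    rw [res_smul, res_res] at h1
    have h2 : res L (inf_le_right : M ≤ N) (res L (le_top : N ≤ ⊤) σ) = 0 := by
      rw [hN']; exact map_zero _
    rw [res_res] at h2
    rw [res_res, show res L (inf_le_left.trans le_top : M ≤ ⊤) σ = 0 from h2] at h1
    exact h1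
  have hc0 : c = 0 := by
    apply germ_injective_of_isIntegral X y (U := U x) hyM.1
    rw [map_zero, ← TopCat.Presheaf.germ_res_apply X.presheaf (homOfLE (inf_le_left : M ≤ U x)) y hyM c,
      hcM, map_zero]
  rw [map_zero, ← TopCat.Presheaf.germ_res_apply L.presheaf (homOfLE (le_top : U x ≤ ⊤)) x (hxU x) σ]
  show L.presheaf.germ (U x) x (hxU x) (res L le_top σ) = 0
  rw [← hc, hc0]
  show L.presheaf.germ (U x) x (hxU x) ((0 : Γ(X, U x)) • _) = 0
  rw [zero_smul, map_zero]

theorem exists_const_residue {k : Type u} [Field k] [IsAlgClosed k] {X : Scheme.{u}}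
    [X.Over (Spec (CommRingCat.of k))] [LocallyOfFiniteType (X ↘ Spec (CommRingCat.of k))]
    {p : X} (hp : IsClosed ({p} : Set X)) (x : X.presheaf.stalk p) :
    ∃ c : k, x - Curv2.stalkMap k X p c ∈ IsLocalRing.maximalIdeal (X.presheaf.stalk p) := by
  have h : Spec.map (CommRingCat.ofHom (Curv2.stalkMap k X p) ≫ X.residue p) =
      Spec.map (residueFieldIsoBase (X ↘ Spec (CommRingCat.of k)) p hp).inv := by
    rw [SpecMap_residueFieldIsoBase_inv, Spec.map_comp, VarGal.SpecMap_curvStalkMap, ← Category.assoc]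
    rfl
  have h' := Spec.map_injective h
  obtain ⟨c, hc⟩ := (ConcreteCategory.bijective_of_isIso
    (residueFieldIsoBase (X ↘ Spec (CommRingCat.of k)) p hp).inv).2 (X.residue p x)
  refine ⟨c, ?_⟩
  rw [← IsLocalRing.residue_eq_zero_iff, map_sub, sub_eq_zero]
  show X.residue p x = X.residue p (Curv2.stalkMap k X p c)
  rw [← hc, ← h']
  rfl


/-- Let k be an algebraically closed field, C a smooth proper curve over k (proper and smooth over k,
integral, of dimension one), (L, s_0, …, s_r) a linear series g^r_d on C (L an invertible module of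
degree d with k-linearly independent global sections s_0, …, s_r spanning a subspace V of Γ(C, L))
and p a closed point of C. For a nonzero σ ∈ V write ord_p σ for the length of the O_{C,p}-module
L_p/(σ_p), the order of vanishing of σ at p. Then σ ↦ ord_p σ takes exactly r + 1 distinct values on
V minus 0. (The published statement is for a smooth projective curve over the complex numbers and a
complex point p; this row states it over any algebraically closed field.) -/
theorem result (k : Type u) [Field k] [IsAlgClosed k]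
    (C : Scheme.{u}) [C.Over (Spec (CommRingCat.of k))] (hC : Curve.IsSmoothProperCurve k C (C ↘ (Spec (CommRingCat.of k))))
    (L : C.Modules) (d r : ℕ) (s : Fin (r + 1) → LinSer.Sect C L) (hL : LinSer.IsLinSer k C L d r s)
    (p : C) (hp : IsClosed ({p} : Set C)) :
    Set.ncard ((fun c : Fin (r + 1) → k =>
        Module.length (C.presheaf.stalk p)
          (↥(L.presheaf.stalk p) ⧸ Submodule.span (C.presheaf.stalk p)
            {(L.presheaf.germ ⊤ p trivial) (∑ i, (Coh.toGlobal (C ↘ Spec (CommRingCat.of k)) (c i)) • s i)})) ''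
        {c : Fin (r + 1) → k | c ≠ 0}) = r + 1 := by
  obtain ⟨hC1, hC2, hC3, hdim⟩ := hC
  have : IsLocallyNoetherian C := LocallyOfFiniteType.isLocallyNoetherian (C ↘ Spec (CommRingCat.of k))
  have := Curves2.valuationRing_stalk_of_smooth (C ↘ Spec (CommRingCat.of k)) hdim.le p
  have hne := Curves2.maximalIdeal_stalk_ne_bot (by rw [hdim]; exact zero_lt_one) p hp
  have hnf : ¬ IsField (C.presheaf.stalk p) := fun h => hne (IsLocalRing.isField_iff_maximalIdeal_eq.mp h)
  have : IsDiscreteValuationRing (C.presheaf.stalk p) :=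
    ((IsDiscreteValuationRing.TFAE _ hnf).out 1 0 rfl rfl).mp ‹_›
  obtain ⟨hinv, -, hind⟩ := hL
  obtain ⟨U, hpU, e, he⟩ := Mero90.exists_frame' hinv p
  let β : C.presheaf.stalk p ≃ₗ[C.presheaf.stalk p] L.presheaf.stalk p :=
    LinearEquiv.ofBijective (LinearMap.toSpanSingleton _ _ (L.presheaf.germ U p hpU e))
      (Mero90.frame_germ_bijective he ⟨p, hpU⟩)
  let : Algebra k (C.presheaf.stalk p) := (Curv2.stalkMap k C p).toAlgebra
  let a : Fin (r + 1) → C.presheaf.stalk p := fun i => β.symm (L.presheaf.germ ⊤ p trivial (s i))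
  let σ : (Fin (r + 1) → k) → LinSer.Sect C L := fun c =>
    ∑ i, (Coh.toGlobal (C ↘ Spec (CommRingCat.of k)) (c i)) • s i
  have hσ : ∀ c, β.symm (L.presheaf.germ ⊤ p trivial (σ c)) = Fintype.linearCombination k a c := by
    intro c
    rw [Fintype.linearCombination_apply]
    refine (congrArg β.symm (map_sum (L.presheaf.germ (⊤ : C.Opens) p trivial).hom _ _)).trans
      ((map_sum β.symm _ _).trans ?_)
    refine Finset.sum_congr rfl fun i _ => ?_
    refine (congrArg β.symm (Mero.germ_smul (F := L) ⊤ p trivial _ (s i))).trans ?_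
    rw [map_smul, Algebra.smul_def]
    rfl
  let Ψ := Fintype.linearCombination k a
  have hΨ : Function.Injective Ψ := by
    rw [injective_iff_map_eq_zero]
    intro c hc
    apply hind
    apply sect_eq_zero_of_germ hinv _ p
    rw [← β.symm.map_eq_zero_iff]
    exact (hσ c).trans hc
  have hlen : ∀ c, Module.length (C.presheaf.stalk p)
      (↥(L.presheaf.stalk p) ⧸ Submodule.span (C.presheaf.stalk p) {L.presheaf.germ ⊤ p trivial (σ c)}) =
        IsDiscreteValuationRing.addVal (C.presheaf.stalk p) (Ψ c) := by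
    intro c
    rw [← Ring.ord_eq_addVal, Ring.ord]
    refine (Submodule.Quotient.equiv _ _ β.symm ?_).length_eq
    refine (Submodule.map_span _ _).trans ?_
    rw [Set.image_singleton]
    exact congrArg (fun z => Submodule.span _ {z}) (hσ c)
  have himg : (fun c => IsDiscreteValuationRing.addVal (C.presheaf.stalk p) (Ψ c)) '' {c | c ≠ 0} =
      IsDiscreteValuationRing.addVal (C.presheaf.stalk p) '' {x | x ∈ LinearMap.range Ψ ∧ x ≠ 0} := by
    ext v
    constructor
    · rintro ⟨c, hc, rfl⟩
      exact ⟨_, ⟨⟨c, rfl⟩, fun h => hc (hΨ (h.trans (map_zero _).symm))⟩, rfl⟩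
    · rintro ⟨_, ⟨⟨c, rfl⟩, hc⟩, rfl⟩
      exact ⟨c, fun h => hc (by rw [h, map_zero]), rfl⟩
  refine (congrArg Set.ncard ((Set.image_congr (fun c _ => hlen c)).trans himg)).trans ?_
  exact ncard_addVal (exists_const_residue hp) (r + 1) _
    (by rw [LinearMap.finrank_range_of_inj hΨ, Module.finrank_fin_fun])

end Groth.Agent.S14471
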