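import Groth.Statements.S1448
import Groth.Agent.FlatMor66.Degree2

set_option autoImplicit false
universe u
open FlatMor

namespace Groth.Agent.S1448
open Groth.Agent.FlatMor66

open AlgebraicGeometry CategoryTheory Limits in
/-- Consider a separated, flat, quasi-compact and locally quasi-finite morphism f : X → S which is
locally of finite presentation. Then there is a function deg : S → ℕ with every sublevel set {deg ≤
r} closed and every level set retrocompact, such that for every morphism g : T → S and every r, deg
∘ g is constant with value r exactly when the base change of f along g is finite locally free of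
degree r. -/
theorem result {X S : Scheme.{u}} (f : X ⟶ S) [Flat f] [LocallyOfFinitePresentation f] [IsSeparated f] [LocallyQuasiFinite f] [QuasiCompact f] :
    ∃ deg : ↑S → ℕ, (∀ r : ℕ, IsClosed {s : ↑S | deg s ≤ r}) ∧ (∀ r : ℕ, IsRetrocompact {s : ↑S | deg s = r}) ∧
      ∀ (T : Scheme.{u}) (g : T ⟶ S) (r : ℕ), Mor2.IsFinLocFreeOfDeg r (pullback.snd f g) ↔ ∀ t : T, deg (g t) = r := by
  have hfin : ∀ y : S, (f ⁻¹' {y}).Finite := fun y => f.finite_preimage_singleton y
  exact ⟨fun s => (MoreMor.fibreIntegral f (wgt f) s).toNat, isClosed_deg_le f hfin, isRetrocompact_deg_eq f,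
    fun T g r => isFinLocFreeOfDeg_iff f hfin g r⟩

end Groth.Agent.S1448
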