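import Groth.Statements.S14480
import Groth.Agent.Fam20.DimBound

set_option autoImplicit false
universe u
open CategoryTheory AlgebraicGeometry
open CharCyc

namespace Groth.Agent.S14480

/-- Let k be a field, let π : C → X be a morphism between k-schemes of finite type, and let n be a
natural number. For j ≥ 0 let B_j ⊆ X be the set of points x whose fibre π⁻¹(x) has dimension at
least j (so B_0 is the image of π). Then dim C ≤ n if and only if, for every j, the closure of B_j
in X has dimension at most n − j. Dimensions are topological Krull dimensions with the empty space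
of dimension ⊥, and the inequality is written additively as dim cl(B_j) + j ≤ n. -/
theorem result (k : Type u) [Field k] (C X : Scheme.{u})
    (q : X ⟶ Spec (CommRingCat.of k)) (π : C ⟶ X)
    [LocallyOfFiniteType q] [CompactSpace X] [LocallyOfFiniteType π] [CompactSpace C] (n : ℕ) :
    topologicalKrullDim C ≤ n ↔
      ∀ j : ℕ, topologicalKrullDim (closure {x : X | (j : WithBot ℕ∞) ≤ topologicalKrullDim (π.fiber x)}) +
        (j : WithBot ℕ∞) ≤ n := by
  let p : C ⟶ Spec (CommRingCat.of k) := π ≫ q
  have : TopologicalSpace.NoetherianSpace C := Groth.Agent.Var76.FibreBound.noetherianSpace p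
  have : TopologicalSpace.NoetherianSpace X := Groth.Agent.Var76.FibreBound.noetherianSpace q
  have hadd : ∀ z, Groth.Agent.WC97.tdegN p z =
      Groth.Agent.WC97.tdegN q (π z) + Groth.Agent.E4O.fdeg π z :=
    Groth.Agent.Var76.FibreBound.tdegN_eq_add (qX := p) (qY := q) π rfl
  constructor
  · intro h j
    refine (Groth.Agent.Fam20.DimBound.dim_add_le_iff q isClosed_closure.isLocallyClosed j n).2
      fun x hx => ?_
    obtain ⟨z, hzx, hj⟩ := Groth.Agent.Fam20.DimBound.exists_of_mem_closure π j hx
    have h1 := Groth.Agent.Var76.FibreBound.tdegN_le q hzx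
    have h2 : Groth.Agent.WC97.tdegN p z ≤ n := by
      exact_mod_cast (Groth.Agent.Var76.FibreBound.tdegN_le_dim p z).trans h
    have := hadd z
    omega
  · intro h
    refine Groth.Agent.Var76.FibreBound.dim_le_of_forall_univ p fun z => ?_
    have h1 := (Groth.Agent.Fam20.DimBound.dim_add_le_iff q isClosed_closure.isLocallyClosed
      (Groth.Agent.E4O.fdeg π z) n).1 (h _) (π z)
      (subset_closure ((Groth.Agent.Fam20.DimBound.le_dim_fiber_iff π _ _).2 ⟨z, rfl, le_rfl⟩))
    rw [hadd z]
    exact_mod_cast h1

end Groth.Agent.S14480
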