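import Groth.Statements.S14481
import Groth.Agent.Fam20.DimBound

set_option autoImplicit false
universe u
open CategoryTheory AlgebraicGeometry
open CharCyc

namespace Groth.Agent.S14481

/-- First equivalence: let k be a field, let π : C → X be a morphism between k-schemes of finite type
such that every irreducible component of C has dimension n, and let ι : W → X be a regular immersion
of codimension c. The following are equivalent: (a) ι meets C properly, that is, whenever P is an
irreducible component of C and Q is an irreducible component of P ×_X W (the subspace P ∩ π⁻¹(ι(W))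
of C), one has dim Q = dim P − c; (b) dim C ×_X W ≤ n − c (the subspace π⁻¹(ι(W)) of C). Dimensions
are written additively: dim Q + c = n and dim π⁻¹(ι(W)) + c ≤ n, the empty space having dimension ⊥.
(Stated for each of the four kinds of regular immersion of codimension c — regular, Koszul-regular,
H₁-regular, quasi-regular; the published statement does not distinguish kinds.) -/
theorem result (k : Type u) [Field k] (C X W : Scheme.{u})
    (q : X ⟶ Spec (CommRingCat.of k)) (π : C ⟶ X) (ι : W ⟶ X)
    [LocallyOfFiniteType q] [CompactSpace X] [LocallyOfFiniteType π] [CompactSpace C]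
    (κ : RegImm.Kind) (n c : ℕ) (hι : RegImm.IsRegularImmersionOfCodim κ c ι)
    (hC : ∀ P ∈ irreducibleComponents (C : Type u), topologicalKrullDim P = n) :
    (∀ P ∈ irreducibleComponents (C : Type u), ∀ Q ∈ irreducibleComponents (P ∩ π ⁻¹' Set.range ι : Set C),
        topologicalKrullDim Q + (c : WithBot ℕ∞) = n) ↔
      topologicalKrullDim (π ⁻¹' Set.range ι : Set C) + (c : WithBot ℕ∞) ≤ n := by
  let p : C ⟶ Spec (CommRingCat.of k) := π ≫ q
  have : TopologicalSpace.NoetherianSpace C := Groth.Agent.Var76.FibreBound.noetherianSpace p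
  have : TopologicalSpace.NoetherianSpace X := Groth.Agent.Var76.FibreBound.noetherianSpace q
  have hadd : ∀ z, Groth.Agent.WC97.tdegN p z =
      Groth.Agent.WC97.tdegN q (π z) + Groth.Agent.E4O.fdeg π z :=
    Groth.Agent.Var76.FibreBound.tdegN_eq_add (qX := p) (qY := q) π rfl
  have hdeg : ∀ z, Groth.Agent.WC97.tdegN p z ≤ n := fun z => by
    obtain ⟨ξ, hξz, hξ⟩ := Groth.Agent.Var76.FibreBound.exists_maximal p z
    have h := (Groth.Agent.WC97.topologicalKrullDim_closure p ξ).symm.trans
      (hC _ (Groth.Agent.E4O.closure_mem_irreducibleComponents hξ))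
    have h' : Groth.Agent.WC97.tdegN p ξ = n := by exact_mod_cast h
    exact h' ▸ Groth.Agent.Var76.FibreBound.tdegN_le p hξz
  have : IsImmersion ι := hι.1
  have hZ := Groth.Agent.Fam20.DimBound.isLocallyClosed_preimage π ι
  have hdim : ∀ P ∈ irreducibleComponents (C : Type u),
      ∀ Q ∈ irreducibleComponents (P ∩ π ⁻¹' Set.range ι : Set C),
      ∃ η, π η ∈ Set.range ι ∧ topologicalKrullDim Q = (Groth.Agent.WC97.tdegN p η : ℕ) ∧
        n ≤ Groth.Agent.WC97.tdegN p η + c := by
    intro P hP Q hQ
    obtain ⟨ξ, rfl, hξ⟩ := Groth.Agent.E4O.exists_eq_closure_of_mem_irreducibleComponents hP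
    have hS : IsLocallyClosed (closure {ξ} ∩ π ⁻¹' Set.range ι) :=
      isClosed_closure.isLocallyClosed.inter hZ
    obtain ⟨η, hη, rfl, hmax⟩ := Groth.Agent.Fam20.DimBound.exists_generic_of_component hS hQ
    refine ⟨η, hη.2, Groth.Agent.Fam20.DimBound.dim_component p hS hη, ?_⟩
    have h := (Groth.Agent.WC97.topologicalKrullDim_closure p ξ).symm.trans (hC _ hP)
    have h' : Groth.Agent.WC97.tdegN p ξ = n := by exact_mod_cast h
    rw [← h']
    exact Groth.Agent.Fam20.DimBound.le_tdegN_add_of_regImm p π ι hι
      (specializes_iff_mem_closure.2 hη.1) hη.2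
      fun w h1 h2 h3 => (h2.antisymm (hmax w ⟨specializes_iff_mem_closure.1 h1, h3⟩ h2)).eq
  rw [Groth.Agent.Fam20.DimBound.dim_add_le_iff p hZ c n]
  constructor
  · intro h z hz
    obtain ⟨P, hP, hzP⟩ := exists_mem_irreducibleComponents_subset_of_isIrreducible {z}
      isIrreducible_singleton
    have hS : IsLocallyClosed (P ∩ π ⁻¹' Set.range ι) :=
      (isClosed_of_mem_irreducibleComponents P hP).isLocallyClosed.inter hZ
    obtain ⟨η, hη, hηz, Q, hQ, rfl⟩ := Groth.Agent.Fam20.DimBound.exists_specializes_of_mem_closure hS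
      (subset_closure ⟨hzP rfl, hz⟩)
    have h1 := h P hP _ hQ
    rw [Groth.Agent.Fam20.DimBound.dim_component p hS hη] at h1
    have h2 : Groth.Agent.WC97.tdegN p η + c = n := by exact_mod_cast h1
    have h3 := Groth.Agent.Var76.FibreBound.tdegN_le p hηz
    omega
  · intro h P hP Q hQ
    obtain ⟨η, hη, hd, hge⟩ := hdim P hP Q hQ
    have := h η hη
    rw [hd]
    exact_mod_cast (by omega : Groth.Agent.WC97.tdegN p η + c = n)

end Groth.Agent.S14481
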