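import Groth.Statements.S14482
import Groth.Agent.Fam20.DimBound

set_option autoImplicit false
universe u
open CategoryTheory AlgebraicGeometry
open CharCyc

namespace Groth.Agent.S14482

/-- Second assertion: let k be a field, let π : C → X be a morphism between k-schemes of finite type
such that every irreducible component of C has dimension n, let ι : W → X be a regular immersion of
codimension c, and for j ≥ 0 let B_j ⊆ X be the set of points whose fibre under π has dimension at
least j. Assume that every B_j is closed in X. Then dim B_j + j ≤ n for every j, and the condition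
dim π⁻¹(ι(W)) + c ≤ n (that is, dim C ×_X W ≤ n − c) holds if and only if dim ι⁻¹(B_j) + c + j ≤ n
for every j (that is, ι meets the sequence (B_j) n-semi-properly). Dimensions are topological Krull
dimensions of subspaces, the empty space having dimension ⊥. (Stated for each of the four kinds of
regular immersion of codimension c — regular, Koszul-regular, H₁-regular, quasi-regular; the
published statement does not distinguish kinds.) -/
theorem result (k : Type u) [Field k] (C X W : Scheme.{u})
    (q : X ⟶ Spec (CommRingCat.of k)) (π : C ⟶ X) (ι : W ⟶ X)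
    [LocallyOfFiniteType q] [CompactSpace X] [LocallyOfFiniteType π] [CompactSpace C]
    (κ : RegImm.Kind) (n c : ℕ) (hι : RegImm.IsRegularImmersionOfCodim κ c ι)
    (hC : ∀ P ∈ irreducibleComponents (C : Type u), topologicalKrullDim P = n)
    (hB : ∀ j : ℕ, IsClosed {x : X | (j : WithBot ℕ∞) ≤ topologicalKrullDim (π.fiber x)}) :
    (∀ j : ℕ, topologicalKrullDim {x : X | (j : WithBot ℕ∞) ≤ topologicalKrullDim (π.fiber x)} + (j : WithBot ℕ∞) ≤ n) ∧
      (topologicalKrullDim (π ⁻¹' Set.range ι : Set C) + (c : WithBot ℕ∞) ≤ n ↔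
        ∀ j : ℕ, topologicalKrullDim (ι ⁻¹' {x : X | (j : WithBot ℕ∞) ≤ topologicalKrullDim (π.fiber x)} : Set W) + (c : WithBot ℕ∞) + (j : WithBot ℕ∞) ≤ n) := by
  let p : C ⟶ Spec (CommRingCat.of k) := π ≫ q
  have : TopologicalSpace.NoetherianSpace C := Groth.Agent.Var76.FibreBound.noetherianSpace p
  have : TopologicalSpace.NoetherianSpace X := Groth.Agent.Var76.FibreBound.noetherianSpace q
  have hadd : ∀ z, Groth.Agent.WC97.tdegN p z =
      Groth.Agent.WC97.tdegN q (π z) + Groth.Agent.E4O.fdeg π z :=
    Groth.Agent.Var76.FibreBound.tdegN_eq_add (qX := p) (qY := q) π rfl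
  have hdeg : ∀ z, Groth.Agent.WC97.tdegN p z ≤ n := fun z => by
    obtain ⟨ξ, hξz, hξ⟩ := Groth.Agent.Var76.FibreBound.exists_maximal p z
    have h := (Groth.Agent.WC97.topologicalKrullDim_closure p ξ).symm.trans
      (hC _ (Groth.Agent.E4O.closure_mem_irreducibleComponents hξ))
    have h' : Groth.Agent.WC97.tdegN p ξ = n := by exact_mod_cast h
    exact h' ▸ Groth.Agent.Var76.FibreBound.tdegN_le p hξz
  have : IsImmersion ι := hι.1
  have hZ := Groth.Agent.Fam20.DimBound.isLocallyClosed_preimage π ι
  refine ⟨fun j => (Groth.Agent.Fam20.DimBound.dim_add_le_iff q (hB j).isLocallyClosed j n).2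
    fun x hx => ?_, ?_⟩
  · obtain ⟨z, rfl, hj⟩ := (Groth.Agent.Fam20.DimBound.le_dim_fiber_iff π x j).1 hx
    have := hdeg z
    rw [hadd z] at this
    omega
  · have hW : ∀ j : ℕ, topologicalKrullDim (ι ⁻¹' {x : X | (j : WithBot ℕ∞) ≤ topologicalKrullDim (π.fiber x)} : Set W) +
        (c : WithBot ℕ∞) + (j : WithBot ℕ∞) ≤ n ↔
        ∀ z, π z ∈ Set.range ι → j ≤ Groth.Agent.E4O.fdeg π z →
          Groth.Agent.WC97.tdegN q (π z) + c + j ≤ n := by
      intro j
      rw [Groth.Agent.E4O.dim_preimage_of_isEmbedding ι.isEmbedding, add_assoc, ← Nat.cast_add,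
        Groth.Agent.Fam20.DimBound.dim_add_le_iff q
          ((hB j).isLocallyClosed.inter ι.isLocallyClosed_range)]
      constructor
      · intro h z hz hj
        have := h (π z) ⟨(Groth.Agent.Fam20.DimBound.le_dim_fiber_iff π _ j).2 ⟨z, rfl, hj⟩, hz⟩
        omega
      · rintro h _ ⟨hx, hx'⟩
        obtain ⟨z, rfl, hj⟩ := (Groth.Agent.Fam20.DimBound.le_dim_fiber_iff π _ j).1 hx
        have := h z hx' hj
        omega
    rw [Groth.Agent.Fam20.DimBound.dim_add_le_iff p hZ c n]
    constructor
    · intro h j
      refine (hW j).2 fun z hz hj => ?_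
      have := h z hz
      rw [hadd z] at this
      omega
    · intro h z hz
      have := (hW _).1 (h (Groth.Agent.E4O.fdeg π z)) z hz le_rfl
      rw [hadd z]
      omega

end Groth.Agent.S14482
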