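import Groth.Statements.S14483
import Groth.Agent.Fam20.DimBound

set_option autoImplicit false
universe u
open CategoryTheory CategoryTheory.Limits AlgebraicGeometry
open CharCyc

namespace Groth.Agent.S14483

/-- Let k be a field and let f : X → S be a morphism between separated k-schemes of finite type. Two
closed subsets Y, Z of X are said to well intersect with respect to f when dim(Y ×_S Z ∖ Y ×_X Z) ≤
dim Y + dim Z − dim S; here Y ×_S Z ∖ Y ×_X Z is taken as the subspace of X ×_S X of points whose
two projections lie in Y and in Z and which are not in the image of the diagonal, and the inequality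
is written additively as dim(Y ×_S Z ∖ Y ×_X Z) + dim S ≤ dim Y + dim Z (topological Krull
dimensions, the empty space having dimension ⊥). Let Y ⊆ X be closed and irreducible with dim Y <
dim S, and suppose that the pair Y, Y well intersects with respect to f. Then Y → S is generically
radicial onto its image: there is an open subset V of X meeting Y such that f is injective on V ∩ Y
and, at every point of V ∩ Y, the residue field extension induced by f is purely inseparable. -/
theorem result (k : Type u) [Field k] (X S : Scheme.{u})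
    (q : S ⟶ Spec (CommRingCat.of k)) (f : X ⟶ S)
    [LocallyOfFiniteType q] [CompactSpace S] [IsSeparated q] [LocallyOfFiniteType f] [CompactSpace X] [IsSeparated f]
    (Y : Set X) (hYc : IsClosed Y) (hYi : IsIrreducible Y)
    (hWI : topologicalKrullDim {p : ↥(pullback f f) | pullback.fst f f p ∈ Y ∧ pullback.snd f f p ∈ Y ∧ p ∉ Set.range (pullback.diagonal f)} + topologicalKrullDim S ≤ topologicalKrullDim Y + topologicalKrullDim Y)
    (hYS : topologicalKrullDim Y < topologicalKrullDim S) :
    ∃ V : Set X, IsOpen V ∧ (V ∩ Y).Nonempty ∧ Set.InjOn f.base (V ∩ Y) ∧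
      ∀ x ∈ V ∩ Y, (f.residueFieldMap x).hom.IsPurelyInseparable := by
  let pX : X ⟶ Spec (CommRingCat.of k) := f ≫ q
  let p₂ : pullback f f ⟶ Spec (CommRingCat.of k) := pullback.fst f f ≫ pX
  have : TopologicalSpace.NoetherianSpace X := Groth.Agent.Var76.FibreBound.noetherianSpace pX
  have : TopologicalSpace.NoetherianSpace S := Groth.Agent.Var76.FibreBound.noetherianSpace q
  have : QuasiCompact p₂ := inferInstance
  have : TopologicalSpace.NoetherianSpace ↥(pullback f f) := Groth.Agent.Var76.FibreBound.noetherianSpace p₂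
  set T : Set ↥(pullback f f) := {p | pullback.fst f f p ∈ Y ∧ pullback.snd f f p ∈ Y ∧ p ∉ Set.range (pullback.diagonal f)} with hTdef
  have hT : IsLocallyClosed T :=
    (((hYc.preimage (pullback.fst f f).continuous).isLocallyClosed).inter
      (((hYc.preimage (pullback.snd f f).continuous).isLocallyClosed).inter
        (pullback.diagonal f).isClosedEmbedding.isClosed_range.isOpen_compl.isLocallyClosed))
  obtain ⟨y, hy⟩ := QuasiSober.sober hYi hYc
  obtain ⟨x₀, -, hY⟩ := Groth.Agent.Fam20.DimBound.exists_tdegN_eq_dim pX hYc.isLocallyClosed hYi.nonempty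
  have hyd : topologicalKrullDim ↥Y = (Groth.Agent.WC97.tdegN pX y : ℕ) := by
    rw [← Groth.Agent.WC97.topologicalKrullDim_closure pX y, hy.def]
  have : Nonempty S := ⟨f y⟩
  obtain ⟨s₀, -, hs₀⟩ := Groth.Agent.Var76.FibreBound.exists_tdegN_eq_dim q
  -- no point of `T` lies over the generic point of `Y`
  have hnoT : ∀ t ∈ T, pullback.fst f f t ≠ y := by
    intro t ht hty
    have h1 : Groth.Agent.WC97.tdegN pX y ≤ Groth.Agent.WC97.tdegN p₂ t := by
      rw [Groth.Agent.Var76.FibreBound.tdegN_eq_add (qX := p₂) (qY := pX) (pullback.fst f f) rfl t, hty]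
      exact Nat.le_add_right _ _
    have h2 := (add_le_add ((Nat.cast_le.2 h1).trans (Groth.Agent.Fam20.DimBound.tdegN_le_dim p₂ hT ht))
      le_rfl).trans hWI
    rw [hyd, hs₀] at h2
    rw [hyd, hs₀] at hYS
    have h3 : Groth.Agent.WC97.tdegN pX y + Groth.Agent.WC97.tdegN q s₀ ≤
        Groth.Agent.WC97.tdegN pX y + Groth.Agent.WC97.tdegN pX y := by exact_mod_cast h2
    have h4 : Groth.Agent.WC97.tdegN pX y < Groth.Agent.WC97.tdegN q s₀ := by exact_mod_cast hYS
    omega
  let V : X.Opens := ⟨(closure (pullback.fst f f '' T))ᶜ, isClosed_closure.isOpen_compl⟩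
  have hyV : y ∈ V := fun h => by
    obtain ⟨t, ht, hty⟩ := Groth.Agent.Fam20.DimBound.exists_specializes_of_mem_closure_image _ hT h
    exact hnoT t ht (hty.antisymm (hy.specializes ht.1)).eq
  obtain ⟨h1, h2⟩ := Groth.Agent.Fam20.DimBound.injOn_and_isPurelyInseparable f ⟨Y, hYc⟩ V
    fun z hz hz1 _ => by
      by_contra hd
      exact hz1 (subset_closure ⟨z, ⟨hz.1, hz.2, hd⟩, rfl⟩)
  exact ⟨V, V.isOpen, ⟨y, hyV, hy.mem⟩, h1, h2⟩

end Groth.Agent.S14483
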