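import Groth.Statements.S14484
import Groth.Agent.Fam20.DimBound

set_option autoImplicit false
universe u
open CategoryTheory CategoryTheory.Limits AlgebraicGeometry
open CharCyc

namespace Groth.Agent.S14484

/-- Let k be a field and let f : X → S be a morphism between separated k-schemes of finite type. Two
closed subsets Y, Z of X are said to well intersect with respect to f when dim(Y ×_S Z ∖ Y ×_X Z) ≤
dim Y + dim Z − dim S; here Y ×_S Z ∖ Y ×_X Z is taken as the subspace of X ×_S X of points whose
two projections lie in Y and in Z and which are not in the image of the diagonal, and the inequality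
is written additively as dim(Y ×_S Z ∖ Y ×_X Z) + dim S ≤ dim Y + dim Z (topological Krull
dimensions, the empty space having dimension ⊥). Let Y, Z ⊆ X be closed irreducible subsets that
well intersect with respect to f, with dim Y < dim S and dim Z < dim S, and assume Y ⊄ Z. Then f(Y)
is not contained in the closure of f(Y) ∩ f(Z); in particular f(Y) ⊄ f(Z). -/
theorem result (k : Type u) [Field k] (X S : Scheme.{u})
    (q : S ⟶ Spec (CommRingCat.of k)) (f : X ⟶ S)
    [LocallyOfFiniteType q] [CompactSpace S] [IsSeparated q] [LocallyOfFiniteType f] [CompactSpace X] [IsSeparated f]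
    (Y Z : Set X) (hYc : IsClosed Y) (hYi : IsIrreducible Y) (hZc : IsClosed Z) (hZi : IsIrreducible Z)
    (hWI : topologicalKrullDim {p : ↥(pullback f f) | pullback.fst f f p ∈ Y ∧ pullback.snd f f p ∈ Z ∧ p ∉ Set.range (pullback.diagonal f)} + topologicalKrullDim S ≤ topologicalKrullDim Y + topologicalKrullDim Z)
    (hYS : topologicalKrullDim Y < topologicalKrullDim S) (hZS : topologicalKrullDim Z < topologicalKrullDim S)
    (hYZ : ¬ Y ⊆ Z) :
    ¬ (f.base '' Y ⊆ closure (f.base '' Y ∩ f.base '' Z)) ∧ ¬ (f.base '' Y ⊆ f.base '' Z) := by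
  let pX : X ⟶ Spec (CommRingCat.of k) := f ≫ q
  let p₂ : pullback f f ⟶ Spec (CommRingCat.of k) := pullback.fst f f ≫ pX
  have : TopologicalSpace.NoetherianSpace X := Groth.Agent.Var76.FibreBound.noetherianSpace pX
  have : TopologicalSpace.NoetherianSpace S := Groth.Agent.Var76.FibreBound.noetherianSpace q
  have : QuasiCompact p₂ := inferInstance
  have : TopologicalSpace.NoetherianSpace ↥(pullback f f) := Groth.Agent.Var76.FibreBound.noetherianSpace p₂
  set T : Set ↥(pullback f f) := {p | pullback.fst f f p ∈ Y ∧ pullback.snd f f p ∈ Z ∧ p ∉ Set.range (pullback.diagonal f)} with hTdef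
  have hT : IsLocallyClosed T :=
    (((hYc.preimage (pullback.fst f f).continuous).isLocallyClosed).inter
      (((hZc.preimage (pullback.snd f f).continuous).isLocallyClosed).inter
        (pullback.diagonal f).isClosedEmbedding.isClosed_range.isOpen_compl.isLocallyClosed))
  obtain ⟨y, hy⟩ := QuasiSober.sober hYi hYc
  obtain ⟨x₀, -, hY⟩ := Groth.Agent.Fam20.DimBound.exists_tdegN_eq_dim pX hYc.isLocallyClosed hYi.nonempty
  have hyd : topologicalKrullDim ↥Y = (Groth.Agent.WC97.tdegN pX y : ℕ) := by
    rw [← Groth.Agent.WC97.topologicalKrullDim_closure pX y, hy.def]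
  have : Nonempty S := ⟨f y⟩
  obtain ⟨s₀, -, hs₀⟩ := Groth.Agent.Var76.FibreBound.exists_tdegN_eq_dim q
  -- no point of `T` lies over the generic point of `Y`
  have hnoT : ∀ t ∈ T, pullback.fst f f t ≠ y := by
    intro t ht hty
    have h1 : Groth.Agent.WC97.tdegN pX y ≤ Groth.Agent.WC97.tdegN p₂ t := by
      rw [Groth.Agent.Var76.FibreBound.tdegN_eq_add (qX := p₂) (qY := pX) (pullback.fst f f) rfl t, hty]
      exact Nat.le_add_right _ _
    have h2 := (add_le_add ((Nat.cast_le.2 h1).trans (Groth.Agent.Fam20.DimBound.tdegN_le_dim p₂ hT ht))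
      le_rfl).trans hWI
    obtain ⟨z₀, -, hzd⟩ := Groth.Agent.Fam20.DimBound.exists_tdegN_eq_dim pX hZc.isLocallyClosed hZi.nonempty
    rw [hyd, hs₀, hzd] at h2
    rw [hs₀, hzd] at hZS
    have h3 : Groth.Agent.WC97.tdegN pX y + Groth.Agent.WC97.tdegN q s₀ ≤
        Groth.Agent.WC97.tdegN pX y + Groth.Agent.WC97.tdegN pX z₀ := by exact_mod_cast h2
    have h4 : Groth.Agent.WC97.tdegN pX z₀ < Groth.Agent.WC97.tdegN q s₀ := by exact_mod_cast hZS
    omega
  let E : Set ↥(pullback f f) := {p | pullback.fst f f p ∈ Y ∧ pullback.snd f f p ∈ Z}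
  have hE : IsLocallyClosed E := ((hYc.preimage (pullback.fst f f).continuous).inter
    (hZc.preimage (pullback.snd f f).continuous)).isLocallyClosed
  have key : f y ∉ closure (f.base '' Y ∩ f.base '' Z) := by
    intro h
    have hsub : f.base '' Y ∩ f.base '' Z ⊆ (pullback.fst f f ≫ f) '' E := by
      rintro _ ⟨⟨a, ha, rfl⟩, b, hb, hab⟩
      obtain ⟨e, he1, he2⟩ := Scheme.Pullback.exists_preimage_pullback (f := f) (g := f) a b hab.symm
      refine ⟨e, ⟨he1.symm ▸ ha, he2.symm ▸ hb⟩, ?_⟩
      rw [Scheme.Hom.comp_apply, he1]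
    obtain ⟨e, he, hey⟩ := Groth.Agent.Fam20.DimBound.exists_specializes_of_mem_closure_image
      (pullback.fst f f ≫ f) hE (closure_mono hsub h)
    rw [Scheme.Hom.comp_apply] at hey
    have hfe : f (pullback.fst f f e) = f y :=
      (hey.antisymm ((hy.specializes he.1).map f.continuous)).eq
    have hfe2 : f (pullback.snd f f e) = f y := by
      rw [← hfe, ← Scheme.Hom.comp_apply, ← Scheme.Hom.comp_apply, pullback.condition]
    obtain ⟨t, ht1, ht2⟩ := Scheme.Pullback.exists_preimage_pullback (f := f) (g := f) y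
      (pullback.snd f f e) hfe2.symm
    refine hnoT t ⟨ht1.symm ▸ hy.mem, ht2.symm ▸ he.2, ?_⟩ ht1
    rintro ⟨x, rfl⟩
    rw [← Scheme.Hom.comp_apply, pullback.diagonal_fst] at ht1
    rw [← Scheme.Hom.comp_apply, pullback.diagonal_snd] at ht2
    refine hYZ (hy.def ▸ closure_minimal (Set.singleton_subset_iff.2 ?_) hZc)
    rw [← ht1, ht2]
    exact he.2
  refine ⟨fun h => key (h ⟨y, hy.mem, rfl⟩), fun h => key (subset_closure ⟨⟨y, hy.mem, rfl⟩, h ⟨y, hy.mem, rfl⟩⟩)⟩

end Groth.Agent.S14484
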