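import Groth.Statements.S14485
import Groth.Agent.Fam20.DimBound

set_option autoImplicit false
universe u
open CategoryTheory CategoryTheory.Limits AlgebraicGeometry
open CharCyc

namespace Groth.Agent.S14485

/-- Let k be a field and let f : X → S be a morphism between separated k-schemes of finite type. Two
closed subsets Y, Z of X are said to well intersect with respect to f when dim(Y ×_S Z ∖ Y ×_X Z) ≤
dim Y + dim Z − dim S; here Y ×_S Z ∖ Y ×_X Z is taken as the subspace of X ×_S X of points whose
two projections lie in Y and in Z and which are not in the image of the diagonal, and the inequality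
is written additively as dim(Y ×_S Z ∖ Y ×_X Z) + dim S ≤ dim Y + dim Z (topological Krull
dimensions, the empty space having dimension ⊥). Let Y, Z ⊆ X be closed subsets, and let g : S' → S
be faithfully flat with every fibre of dimension d (relative constant dimension d), where S' is
again a separated k-scheme of finite type. Write f' : X' = X ×_S S' → S' for the base change and Y',
Z' ⊆ X' for the preimages of Y, Z. Then well-intersection of Y, Z with respect to f is equivalent to
well-intersection of Y', Z' with respect to f'. -/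
theorem result (k : Type u) [Field k] (X S S' : Scheme.{u})
    (q : S ⟶ Spec (CommRingCat.of k)) (f : X ⟶ S) (g : S' ⟶ S)
    [LocallyOfFiniteType q] [CompactSpace S] [IsSeparated q] [LocallyOfFiniteType f] [CompactSpace X] [IsSeparated f]
    [LocallyOfFiniteType g] [CompactSpace S'] [IsSeparated g] [Flat g] [Surjective g]
    (d : ℕ) (hd : ∀ s : S, topologicalKrullDim (g.fiber s) = d)
    (Y Z : Set X) (hYc : IsClosed Y) (hZc : IsClosed Z) :
    (topologicalKrullDim {p : ↥(pullback f f) | pullback.fst f f p ∈ Y ∧ pullback.snd f f p ∈ Z ∧ p ∉ Set.range (pullback.diagonal f)} + topologicalKrullDim S ≤ topologicalKrullDim Y + topologicalKrullDim Z) ↔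
      (topologicalKrullDim {p : ↥(pullback (pullback.snd f g) (pullback.snd f g)) | pullback.fst (pullback.snd f g) (pullback.snd f g) p ∈ ((pullback.fst f g) ⁻¹' Y) ∧ pullback.snd (pullback.snd f g) (pullback.snd f g) p ∈ ((pullback.fst f g) ⁻¹' Z) ∧ p ∉ Set.range (pullback.diagonal (pullback.snd f g))} + topologicalKrullDim S' ≤ topologicalKrullDim ((pullback.fst f g) ⁻¹' Y) + topologicalKrullDim ((pullback.fst f g) ⁻¹' Z)) := by
  let pX : X ⟶ Spec (CommRingCat.of k) := f ≫ q
  let p₂ : pullback f f ⟶ Spec (CommRingCat.of k) := pullback.fst f f ≫ pX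
  have : TopologicalSpace.NoetherianSpace X := Groth.Agent.Var76.FibreBound.noetherianSpace pX
  have : TopologicalSpace.NoetherianSpace S := Groth.Agent.Var76.FibreBound.noetherianSpace q
  have : QuasiCompact p₂ := inferInstance
  have : TopologicalSpace.NoetherianSpace ↥(pullback f f) := Groth.Agent.Var76.FibreBound.noetherianSpace p₂
  have : TopologicalSpace.NoetherianSpace S' := Groth.Agent.Var76.FibreBound.noetherianSpace (g ≫ q)
  let f' := pullback.snd f g
  let h := pullback.fst f g
  let P' := pullback f' f'
  let hh : P' ⟶ pullback f f := pullback.map f' f' f f h h g pullback.condition.symm pullback.condition.symm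
  have hsq : IsPullback hh (pullback.fst f' f' ≫ f') (pullback.fst f f ≫ f) g := by
    have e1 : IsPullback hh (pullback.fst f' f') (pullback.fst f f) h := by
      refine IsPullback.of_right ?_ (pullback.lift_fst _ _ _) (IsPullback.of_hasPullback f f).flip
      rw [pullback.lift_snd]
      have h1 : IsPullback (pullback.snd f' f' ≫ h) (pullback.fst f' f') f (f' ≫ g) :=
        ((IsPullback.of_hasPullback f' f').flip).paste_horiz (IsPullback.of_hasPullback f g)
      rwa [show f' ≫ g = h ≫ f from pullback.condition.symm] at h1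
    exact e1.paste_vert (IsPullback.of_hasPullback f g)
  have key : ∀ {A B : Scheme.{u}} (u : B ⟶ A) (v : B ⟶ S') (w : A ⟶ S), IsPullback u v w g →
      ∀ (qA : A ⟶ Spec (CommRingCat.of k)) [LocallyOfFiniteType qA] [LocallyOfFiniteType u]
        [TopologicalSpace.NoetherianSpace A] [QuasiCompact u] [QuasiCompact qA]
        (Q : Set A), IsLocallyClosed Q →
        topologicalKrullDim ↥(u ⁻¹' Q) = topologicalKrullDim ↥Q + (d : WithBot ℕ∞) := by
    intro A B u v w hsq qA _ _ _ _ _ Q hQ
    have hb : ∀ b : B, ∀ z, g z = g (v b) → Groth.Agent.E4O.fdeg g z ≤ d := fun b z hz => by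
      have := (Groth.Agent.E4O.dim_fiber_le_iff g (g (v b)) _).1 (hd _).le z hz
      exact_mod_cast this
    have hd' : ∀ b : B, FlatMor.fibreDimAt u b = FlatMor.fibreDimAt g (v b) :=
      fun b => Groth.Agent.FibDim94.fibreDimAt_eq_of_isPullback hsq.flip b
    have : TopologicalSpace.NoetherianSpace B := Groth.Agent.Var76.FibreBound.noetherianSpace (u ≫ qA)
    refine Groth.Agent.Fam20.DimBound.dim_preimage_eq (u ≫ qA) u qA rfl d (fun b => ?_) (fun a => ?_) hQ
    · obtain ⟨z, -, hz, hzd, -, -⟩ := Groth.Agent.E4O.exists_fibreDimAt_eq g (v b)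
      have h1 := (Groth.Agent.E4O.fdeg_le_fibreDimAt (f := u) (x := b) (z := b) specializes_rfl rfl)
      rw [hd', hzd] at h1
      exact le_trans (by exact_mod_cast h1) (hb b z hz)
    · obtain ⟨z, hz, hdz⟩ := (Groth.Agent.Fam20.DimBound.le_dim_fiber_iff g (w a) d).1 (hd _).ge
      obtain ⟨b₀, hb₁, hb₂⟩ := Scheme.Pullback.exists_preimage_pullback (f := w) (g := g) a z hz.symm
      let b := hsq.isoPullback.inv b₀
      have e1 : u b = a := (congrArg (fun m : _ ⟶ A => m b₀) hsq.isoPullback_inv_fst).trans hb₁
      have e2 : v b = z := (congrArg (fun m : _ ⟶ S' => m b₀) hsq.isoPullback_inv_snd).trans hb₂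
      obtain ⟨z', -, hz', hz'd, -, -⟩ := Groth.Agent.E4O.exists_fibreDimAt_eq u b
      refine ⟨z', hz'.trans e1, ?_⟩
      have h1 := (Nat.cast_le.2 hdz).trans
        (Groth.Agent.E4O.fdeg_le_fibreDimAt (f := g) (x := z) (z := z) specializes_rfl rfl)
      rw [← e2, ← hd', hz'd] at h1
      exact_mod_cast h1
  have hY : topologicalKrullDim ↥(h ⁻¹' Y) = topologicalKrullDim ↥Y + (d : WithBot ℕ∞) :=
    key h f' f (IsPullback.of_hasPullback f g) pX Y hYc.isLocallyClosed
  have hZ : topologicalKrullDim ↥(h ⁻¹' Z) = topologicalKrullDim ↥Z + (d : WithBot ℕ∞) :=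
    key h f' f (IsPullback.of_hasPullback f g) pX Z hZc.isLocallyClosed
  have hS : topologicalKrullDim S' = topologicalKrullDim S + (d : WithBot ℕ∞) := by
    have := key g (𝟙 S') (𝟙 S) (IsPullback.of_id_snd) q Set.univ isOpen_univ.isLocallyClosed
    rwa [Set.preimage_univ, (Homeomorph.Set.univ S').isHomeomorph.topologicalKrullDim_eq,
      (Homeomorph.Set.univ S).isHomeomorph.topologicalKrullDim_eq] at this
  have : LocallyOfFiniteType hh := MorphismProperty.of_isPullback hsq.flip ‹_›
  have : QuasiCompact g := inferInstance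
  have : QuasiCompact hh := MorphismProperty.of_isPullback hsq.flip ‹_›
  let T : Set ↥(pullback f f) := {p | pullback.fst f f p ∈ Y ∧ pullback.snd f f p ∈ Z ∧ p ∉ Set.range (pullback.diagonal f)}
  have hT : IsLocallyClosed T :=
    (((hYc.preimage (pullback.fst f f).continuous).isLocallyClosed).inter
      (((hZc.preimage (pullback.snd f f).continuous).isLocallyClosed).inter
        (pullback.diagonal f).isClosedEmbedding.isClosed_range.isOpen_compl.isLocallyClosed))
  have hD : IsPullback h (pullback.diagonal f') (pullback.diagonal f) hh := by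
    refine IsPullback.of_bot ?_ ?_ hsq
    · simpa [hh] using IsPullback.of_hasPullback f g
    · apply pullback.hom_ext
      · simp only [hh, pullback.map, Category.assoc, pullback.lift_fst, pullback.diagonal_fst,
          Category.comp_id, pullback.diagonal_fst_assoc]
      · simp only [hh, pullback.map, Category.assoc, pullback.lift_snd, pullback.diagonal_snd,
          Category.comp_id, pullback.diagonal_snd_assoc]
  have hset : hh ⁻¹' T = {p : ↥P' | pullback.fst f' f' p ∈ h ⁻¹' Y ∧ pullback.snd f' f' p ∈ h ⁻¹' Z ∧
      p ∉ Set.range (pullback.diagonal f')} := by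
    ext p
    have e1 : pullback.fst f f (hh p) = h (pullback.fst f' f' p) :=
      congrArg (fun m : P' ⟶ X => m p) (pullback.lift_fst (f := f) (g := f) _ _ _)
    have e2 : pullback.snd f f (hh p) = h (pullback.snd f' f' p) :=
      congrArg (fun m : P' ⟶ X => m p) (pullback.lift_snd (f := f) (g := f) _ _ _)
    have e3 : hh p ∈ Set.range (pullback.diagonal f) ↔ p ∈ Set.range (pullback.diagonal f') := by
      constructor
      · rintro ⟨x, hx⟩
        obtain ⟨c, -, hc⟩ := Scheme.Pullback.exists_preimage_pullback (f := pullback.diagonal f) (g := hh) x p hx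
        exact ⟨hD.isoPullback.inv c,
          (congrArg (fun m : _ ⟶ P' => m c) hD.isoPullback_inv_snd).trans hc⟩
      · rintro ⟨x, rfl⟩
        exact ⟨h x, congrArg (fun m : _ ⟶ pullback f f => m x) hD.w⟩
    simp only [Set.mem_preimage, T, Set.mem_ofPred_eq, e1, e2, e3]
  have hTd := key hh _ _ hsq p₂ T hT
  rw [hset] at hTd
  rw [hTd, hS, hY, hZ]
  show topologicalKrullDim ↥T + _ ≤ _ ↔ _
  constructor
  · intro h0
    rw [add_add_add_comm, add_add_add_comm (topologicalKrullDim ↥Y)]
    exact add_le_add h0 le_rfl
  · intro h0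
    rw [add_add_add_comm, add_add_add_comm (topologicalKrullDim ↥Y)] at h0
    have cancel : ∀ (a b : WithBot ℕ∞), a + ((d + d : ℕ) : WithBot ℕ∞) ≤ b + ((d + d : ℕ) : WithBot ℕ∞) → a ≤ b := by
      intro a b hab
      induction a with
      | bot => exact bot_le
      | coe a =>
        induction b with
        | bot =>
          rw [WithBot.bot_add, le_bot_iff, WithBot.add_eq_bot] at hab
          exact absurd hab (by simp)
        | coe b =>
          have h1 : a + ((d + d : ℕ) : ℕ∞) ≤ b + ((d + d : ℕ) : ℕ∞) := WithBot.coe_le_coe.1 hab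
          exact WithBot.coe_le_coe.2 ((ENat.add_le_add_iff_right (ENat.natCast_ne_top _)).1 h1)
    refine cancel _ _ ?_
    rw [Nat.cast_add]
    exact h0

end Groth.Agent.S14485
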