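import Groth.Statements.S14498
import Mathlib
-- import your own Groth.Agent.* helpers here

set_option autoImplicit false
universe v u
open AbDiag

namespace Groth.Agent.S14498

open CategoryTheory CategoryTheory.Limits in
/-- In an abelian category, let 0 → F → W → E' → 0 (maps a, b) and 0 → E → W → F' → G → G' → 0 (maps c,
d, e, g) be exact sequences such that the composite F → W → F' is a monomorphism. Then the composite
E → W → E' is a monomorphism, and there is a short exact sequence 0 → Coker(E → E') → Coker(F → F')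
→ Ker(G → G') → 0 whose first map is induced by d (through the quotient map b) and whose second map
is induced by e. -/
theorem result
    {V : Type u} [Category.{v} V] [Abelian V] {F W E' E F' G G' : V}
    (a : F ⟶ W) (b : W ⟶ E') (c : E ⟶ W) (d : W ⟶ F') (e : F' ⟶ G) (g : G ⟶ G')
    [Mono a] [Epi b] (wab : a ≫ b = 0) (hab : (ShortComplex.mk a b wab).Exact)
    [Mono c] (wcd : c ≫ d = 0) (hcd : (ShortComplex.mk c d wcd).Exact)
    (wde : d ≫ e = 0) (hde : (ShortComplex.mk d e wde).Exact)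
    (weg : e ≫ g = 0) (heg : (ShortComplex.mk e g weg).Exact) [Epi g]
    (hmono : Mono (a ≫ d)) :
    Mono (c ≫ b) ∧
      ∃ (φ : cokernel (c ≫ b) ⟶ cokernel (a ≫ d)) (ψ : cokernel (a ≫ d) ⟶ kernel g)
        (w : φ ≫ ψ = 0),
        b ≫ cokernel.π (c ≫ b) ≫ φ = d ≫ cokernel.π (a ≫ d) ∧
        cokernel.π (a ≫ d) ≫ ψ ≫ kernel.ι g = e ∧
        (ShortComplex.mk φ ψ w).ShortExact := by
  have h1 : Mono (c ≫ b) := by
    rw [Preadditive.mono_iff_cancel_zero]
    intro X k hk
    obtain ⟨l, hl⟩ : ∃ l : X ⟶ F, l ≫ a = k ≫ c :=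
      ⟨hab.lift (k ≫ c) (by simpa using hk), hab.lift_f _ _⟩
    have hl0 : l = 0 := by
      rw [← cancel_mono (a ≫ d), zero_comp, ← Category.assoc, hl, Category.assoc, wcd, comp_zero]
    rw [← cancel_mono c, ← hl, hl0, zero_comp, zero_comp]
  refine ⟨h1, ?_⟩
  have hS : (ShortComplex.mk c d wcd).Exact := hcd
  let q : W ⟶ cokernel (a ≫ d) := d ≫ cokernel.π (a ≫ d)
  let m : E' ⟶ cokernel (a ≫ d) := hab.desc q (by simp [q, ← Category.assoc, cokernel.condition])
  have hm : b ≫ m = q := hab.g_desc _ _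
  have hcm : (c ≫ b) ≫ m = 0 := by
    rw [Category.assoc, hm]; simp [q, reassoc_of% wcd]
  let φ : cokernel (c ≫ b) ⟶ cokernel (a ≫ d) := cokernel.desc _ m hcm
  let ψ : cokernel (a ≫ d) ⟶ kernel g :=
    cokernel.desc _ (kernel.lift g e weg) (by
      rw [← cancel_mono (kernel.ι g)]; simp [wde])
  have hφ : b ≫ cokernel.π (c ≫ b) ≫ φ = d ≫ cokernel.π (a ≫ d) := by simp [φ, hm, q]
  have hψ : cokernel.π (a ≫ d) ≫ ψ ≫ kernel.ι g = e := by simp [ψ]
  have w : φ ≫ ψ = 0 := by
    rw [← cancel_epi (cokernel.π (c ≫ b)), ← cancel_epi b, ← cancel_mono (kernel.ι g)]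
    simp only [Category.assoc, comp_zero, zero_comp]
    rw [← Category.assoc (cokernel.π (c ≫ b)), ← Category.assoc b, ← Category.assoc b, Category.assoc b,
      hφ, Category.assoc, hψ, wde]
  refine ⟨φ, ψ, w, hφ, hψ, ?_⟩
  haveI : Epi (kernel.lift g e weg) := heg.epi_kernelLift
  have hepi : Epi ψ := epi_of_epi_fac (show cokernel.π (a ≫ d) ≫ ψ = kernel.lift g e weg by simp [ψ])
  have hmono' : Mono φ := by
    rw [Preadditive.mono_iff_cancel_zero]
    intro X k hk
    obtain ⟨A₁, p₁, hp₁, x, hx⟩ :=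
      surjective_up_to_refinements_of_epi (b ≫ cokernel.π (c ≫ b)) k
    have hz : (x ≫ d) ≫ cokernel.π (a ≫ d) = 0 := by
      have := congrArg (fun t => p₁ ≫ t) hk
      simp only [comp_zero, ← Category.assoc, hx] at this
      simpa [Category.assoc, hφ] using this
    obtain ⟨A₂, p₂, hp₂, y, hy⟩ := (ShortComplex.exact_cokernel (a ≫ d)).exact_up_to_refinements (x ≫ d) hz
    simp only at hy
    obtain ⟨A₃, p₃, hp₃, z, hz'⟩ := hS.exact_up_to_refinements (p₂ ≫ x - y ≫ a) (by
      simp only [Preadditive.sub_comp, Category.assoc]; rw [sub_eq_zero]; simpa using hy)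
    simp only at hz'
    rw [← cancel_epi p₁, ← cancel_epi p₂, ← cancel_epi p₃, hx]
    simp only [comp_zero]
    rw [show p₃ ≫ p₂ ≫ x ≫ b ≫ cokernel.π (c ≫ b) =
        (p₃ ≫ (p₂ ≫ x - y ≫ a)) ≫ b ≫ cokernel.π (c ≫ b) by
      simp [Preadditive.comp_sub, Preadditive.sub_comp, reassoc_of% wab], hz', Category.assoc]
    rw [← Category.assoc c, cokernel.condition, comp_zero]
  have hexact : (ShortComplex.mk φ ψ w).Exact := by
    rw [ShortComplex.exact_iff_exact_up_to_refinements]
    intro X k hk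
    simp only at k hk
    obtain ⟨A₁, p₁, hp₁, x, hx⟩ := surjective_up_to_refinements_of_epi (cokernel.π (a ≫ d)) k
    have hxe : x ≫ e = 0 := by
      have := congrArg (fun t => p₁ ≫ t ≫ kernel.ι g) hk
      simp only [zero_comp, comp_zero, ← Category.assoc, hx] at this
      simpa [Category.assoc, hψ] using this
    obtain ⟨A₂, p₂, hp₂, y, hy⟩ := hde.exact_up_to_refinements x hxe
    simp only at hy
    refine ⟨A₂, p₂ ≫ p₁, epi_comp _ _, y ≫ b ≫ cokernel.π (c ≫ b), ?_⟩
    show (p₂ ≫ p₁) ≫ k = (y ≫ b ≫ cokernel.π (c ≫ b)) ≫ φ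
    rw [Category.assoc, hx, ← Category.assoc, hy, Category.assoc, Category.assoc, Category.assoc, hφ]
  exact { exact := hexact, mono_f := hmono', epi_g := hepi }

end Groth.Agent.S14498
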