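import Groth.Statements.S14511
import Mathlib

set_option autoImplicit false
universe u
open CAlgX

namespace Groth.Agent.S14511

/-- Let R be a commutative ring and P ∈ R[x_1, …, x_r] a polynomial of total degree at most r. Then the
coefficient of the monomial x_1 ⋯ x_r in P equals Σ_J (−1)^{|J|} P(δ_J), the sum over all subsets J
⊆ {1, …, r} (the empty one included), where δ_J is the point with coordinate −1 at the indices in J
and 0 at the others. -/
theorem result (R : Type u) [CommRing R] (r : ℕ)
    (P : MvPolynomial (Fin r) R) (hP : P.totalDegree ≤ r) :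
    MvPolynomial.coeff (∑ i : Fin r, Finsupp.single i 1) P =
      ∑ J : Finset (Fin r), (-1 : R) ^ J.card * MvPolynomial.eval (fun j => if j ∈ J then (-1 : R) else 0) P := by
  classical
  simp only [MvPolynomial.eval_eq', Finset.mul_sum]
  rw [Finset.sum_comm]
  set e := ∑ i : Fin r, Finsupp.single i 1
  have he : ∀ i, e i = 1 := fun i => by simp [e, Finsupp.finset_sum_apply, Finsupp.single_apply]
  have key : ∀ d ∈ P.support, (∑ J : Finset (Fin r), (-1 : R) ^ J.card *
      (P.coeff d * ∏ i, (if i ∈ J then (-1 : R) else 0) ^ d i)) = if d = e then P.coeff d else 0 := by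
    intro d hd
    have h1 : ∀ J : Finset (Fin r), (-1 : R) ^ J.card * (P.coeff d * ∏ i, (if i ∈ J then (-1 : R) else 0) ^ d i)
        = P.coeff d * ((∏ i ∈ J, -((-1 : R) ^ d i)) * ∏ i ∈ Finset.univ \ J, (0 : R) ^ d i) := by
      intro J
      rw [Finset.prod_neg, ← Finset.prod_sdiff (Finset.subset_univ J)]
      rw [Finset.prod_congr rfl (fun i hi => by rw [if_pos hi] : ∀ i ∈ J, (if i ∈ J then (-1 : R) else 0) ^ d i = (-1 : R) ^ d i)]
      rw [Finset.prod_congr rfl (fun i hi => by rw [if_neg (Finset.mem_sdiff.1 hi).2] : ∀ i ∈ Finset.univ \ J, (if i ∈ J then (-1 : R) else 0) ^ d i = (0 : R) ^ d i)]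
      ring
    rw [Finset.sum_congr rfl fun J _ => h1 J, ← Finset.mul_sum, ← Finset.powerset_univ, ← Finset.prod_add]
    split
    · next h => subst h; simp [he]
    · next h =>
      suffices ∃ i, d i = 0 by
        obtain ⟨i, hi⟩ := this
        rw [Finset.prod_eq_zero (Finset.mem_univ i) (by simp [hi]), mul_zero]
      by_contra hne
      push Not at hne
      refine h (Finsupp.ext fun i => ?_)
      have hdeg := (MvPolynomial.le_totalDegree hd).trans hP
      rw [Finsupp.sum_fintype _ _ (by simp)] at hdeg
      have h2 : ∀ j ∈ Finset.univ, 1 ≤ d j := fun j _ => Nat.one_le_iff_ne_zero.2 (hne j)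
      have h3 := (Finset.sum_eq_sum_iff_of_le h2).1 (le_antisymm (Finset.sum_le_sum h2) (by simpa using hdeg))
      rw [he]; exact (h3 i (Finset.mem_univ i)).symm
  rw [Finset.sum_congr rfl key, Finset.sum_ite_eq']
  split
  · rfl
  · next h => exact MvPolynomial.notMem_support_iff.1 h

end Groth.Agent.S14511
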