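import Groth.Statements.S14512
import Groth.Agent.Curves2.Genus0.Geometric

set_option autoImplicit false
universe u
open CategoryTheory CategoryTheory.Limits AlgebraicGeometry
open Curves

namespace Groth.Agent.S14512

/-- Let k be an algebraically closed field and X a complete curve over k (integral, proper over k, of
dimension one) of arithmetic genus dim_k H^1(X, O_X) = 0. Then X is smooth over k. (Over a
non-closed field an integral proper curve with vanishing H^1 need not be smooth, e.g. a projective
line over an inseparable extension of k viewed over k.) -/
theorem result (k : Type u) [Field k] [IsAlgClosed k] (X : Scheme.{u}) [X.Over (Spec (CommRingCat.of k))]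
    [IsIntegral X] [IsProper (X ↘ (Spec (CommRingCat.of k)))] (hdim : topologicalKrullDim X = 1)
    (hg : Curv2.genus k X = 0) :
    Smooth (X ↘ (Spec (CommRingCat.of k))) := by
  haveI := Crv77.isNoetherian_of_proper k X
  haveI := (Crv77.curveCoh_of_proper k X hdim.le).finite _ Crv77.isCoh_structureModule 1
  exact Curves2.Genus0.smooth_of_algClosed (k := k) hdim (Module.finrank_zero_iff.1 hg)

end Groth.Agent.S14512
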