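import Groth.Statements.S14513
import Groth.Agent.Crv77.Hurwitz
import Groth.Agent.Crv77.FunMap
import Groth.Agent.LimTop61.FiniteBirational
import Groth.Agent.Curves2.SmoothNormal
import Groth.Agent.Cons51.JapanesePush

set_option autoImplicit false
universe u
open CategoryTheory CategoryTheory.Limits AlgebraicGeometry
open Curves

namespace Groth.Agent.S14513
theorem bijective_algebraMap_of_finrank_eq_one (K L : Type u) [Field K] [Field L] [Algebra K L]
    (h : Module.finrank K L = 1) : Function.Bijective (algebraMap K L) :=
  ⟨(algebraMap K L).injective, fun z => by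
    obtain ⟨c, hc⟩ := (finrank_eq_one_iff_of_nonzero' (1 : L) one_ne_zero).1 h z
    exact ⟨c, by rw [Algebra.algebraMap_eq_smul_one]; exact hc⟩⟩



/-- Let k be an algebraically closed field and f : X → Y a finite, separable morphism of smooth
projective curves over k (X, Y integral, proper and smooth over k, of dimension one; f sends the
generic point to the generic point and the extension K(X)/K(Y) is separable). If X and Y have the
same genus g = dim_k H^1(O) and g ≥ 2, then f is an isomorphism. (The published statement also
asserts g(X) ≥ g(Y) and that equality holds exactly when f is an isomorphism, both curves are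
projective lines, or both have genus one; this row states the equality case for genus at least two.) -/
theorem result (k : Type u) [Field k] [IsAlgClosed k]
    (X : Scheme.{u}) [X.Over (Spec (CommRingCat.of k))] [IsIntegral X] [IsProper (X ↘ (Spec (CommRingCat.of k)))] [Smooth (X ↘ (Spec (CommRingCat.of k)))] (hdimX : topologicalKrullDim X = 1)
    (Y : Scheme.{u}) [Y.Over (Spec (CommRingCat.of k))] [IsIntegral Y] [IsProper (Y ↘ (Spec (CommRingCat.of k)))] [Smooth (Y ↘ (Spec (CommRingCat.of k)))] (hdimY : topologicalKrullDim Y = 1)
    (f : X ⟶ Y) [IsFinite f] (hf : f ≫ (Y ↘ (Spec (CommRingCat.of k))) = (X ↘ (Spec (CommRingCat.of k))))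
    (e : f (genericPoint X) = genericPoint Y)
    (hg : Curv2.genus k X = Curv2.genus k Y) (h2 : 2 ≤ Curv2.genus k Y) :
    letI := ((Y.presheaf.stalkSpecializes (specializes_of_eq e) ≫ f.stalkMap (genericPoint X)).hom).toAlgebra
    Algebra.IsSeparable Y.functionField X.functionField → IsIso f := by
  intro hsep
  letI := (Crv77.ffMap f e).toAlgebra
  have hH := Crv77.hurwitz k hdimX hdimY f hf e hsep
  rw [hg] at hH
  have hpos : 0 < f.residueDegree (genericPoint X) := by
    letI := (f.residueFieldMap (genericPoint X)).hom.toAlgebra
    have : Module.Finite (Y.residueField (f.base (genericPoint X))) (X.residueField (genericPoint X)) :=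
      RingHom.finite_algebraMap.1 (Cons51.finite_residueFieldMap f _)
    exact Module.finrank_pos
  have hone : f.residueDegree (genericPoint X) = 1 := by
    by_contra hne
    have h2' : (2 : ℤ) ≤ f.residueDegree (genericPoint X) := by omega
    have hg2 : (2 : ℤ) ≤ Curv2.genus k Y := by exact_mod_cast h2
    have hR : (0 : ℤ) ≤ (Module.finrank k (Coh.HH X (Omega.sheaf f) 0) : ℤ) := Int.natCast_nonneg _
    nlinarith
  have hbij : Function.Bijective (algebraMap Y.functionField X.functionField) :=
    bijective_algebraMap_of_finrank_eq_one _ _ ((Crv77.ffMap_spec f e).1.trans hone)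
  refine LimTop61.isIso_of_isFinite_birational
    (fun y => (Curves2.isIntegrallyClosed_stalk_of_smooth (Y ↘ Spec (CommRingCat.of k)) y).2) f e ?_
  have hs : IsIso (Y.presheaf.stalkSpecializes (specializes_of_eq e)) :=
    ⟨Y.presheaf.stalkSpecializes (specializes_of_eq e.symm), by
      rw [Y.presheaf.stalkSpecializes_comp, TopCat.Presheaf.stalkSpecializes_refl], by
      rw [Y.presheaf.stalkSpecializes_comp, TopCat.Presheaf.stalkSpecializes_refl]⟩
  have : IsIso (Y.presheaf.stalkSpecializes (specializes_of_eq e) ≫ f.stalkMap (genericPoint X)) :=
    (ConcreteCategory.isIso_iff_bijective _).2 hbij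
  exact IsIso.of_isIso_comp_left (Y.presheaf.stalkSpecializes (specializes_of_eq e)) _

end Groth.Agent.S14513
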