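import Groth.Statements.S14514
import Groth.Agent.Var76.FibreBound

set_option autoImplicit false
universe u
open CategoryTheory CategoryTheory.Limits AlgebraicGeometry
open Variety

namespace Groth.Agent.S14514


open Groth.Agent.Var76 TopologicalSpace
open Groth.Agent.WC97 (tdegN)
open Groth.Agent.E4O (fdeg)

/-- Let k be an algebraically closed field and f : X → Y a morphism of algebraic varieties over k (X, Y
reduced, separated and of finite type over k) such that Y is irreducible and the image f(X) is dense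
in Y. Then X contains an irreducible closed subset Z with dim Z = dim Y such that f(Z) is dense in
Y. -/
theorem result (k : Type u) [Field k] [IsAlgClosed k]
    (X Y : Scheme.{u}) [X.Over (Spec (CommRingCat.of k))] [Y.Over (Spec (CommRingCat.of k))]
    [IsReduced X] [IsSeparated (X ↘ (Spec (CommRingCat.of k)))] [LocallyOfFiniteType (X ↘ (Spec (CommRingCat.of k)))] [QuasiCompact (X ↘ (Spec (CommRingCat.of k)))]
    [IsReduced Y] [IsSeparated (Y ↘ (Spec (CommRingCat.of k)))] [LocallyOfFiniteType (Y ↘ (Spec (CommRingCat.of k)))] [QuasiCompact (Y ↘ (Spec (CommRingCat.of k)))] [IrreducibleSpace Y]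
    (f : X ⟶ Y) (hf : f ≫ (Y ↘ (Spec (CommRingCat.of k))) = (X ↘ (Spec (CommRingCat.of k)))) [IsDominant f] :
    ∃ Z : Set X, IsClosed Z ∧ IsIrreducible Z ∧ topologicalKrullDim ↥Z = topologicalKrullDim Y ∧
      Dense (f '' Z) := by
  have : LocallyOfFiniteType (f ≫ (Y ↘ (Spec (CommRingCat.of k)))) := hf.symm ▸ inferInstance
  have : LocallyOfFiniteType f := locallyOfFiniteType_of_comp f (Y ↘ (Spec (CommRingCat.of k)))
  have : IsLocallyNoetherian Y := LocallyOfFiniteType.isLocallyNoetherian (Y ↘ (Spec (CommRingCat.of k)))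
  have : NoetherianSpace X := FibreBound.noetherianSpace (X ↘ (Spec (CommRingCat.of k)))
  have : NoetherianSpace Y := FibreBound.noetherianSpace (Y ↘ (Spec (CommRingCat.of k)))
  have hmax : ∀ w, w ⤳ genericPoint Y → w = genericPoint Y := fun w hw =>
    (hw.antisymm ((genericPoint_spec Y).specializes trivial)).eq
  obtain ⟨x₀, hx₀⟩ := FibreBound.mem_range_of_maximal f (f.denseRange.closure_range ▸ trivial) hmax
  classical
  let q := Y ↘ (Spec (CommRingCat.of k))
  let p := X ↘ (Spec (CommRingCat.of k))
  let S : Set ℕ := {n | ∃ x, f x = genericPoint Y ∧ tdegN p x = n}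
  have hS : S.Nonempty := ⟨_, x₀, hx₀, rfl⟩
  obtain ⟨x, hx, hmin⟩ := Nat.sInf_mem hS
  have hfd : fdeg f x = 0 := by
    have hsing : closure {x} ∩ f ⁻¹' {f x} = {x} := by
      refine Set.eq_singleton_iff_unique_mem.2 ⟨⟨subset_closure rfl, rfl⟩, fun w hw => ?_⟩
      by_contra hne
      have h1 := FibreBound.tdegN_lt p (specializes_iff_mem_closure.2 hw.1) (Ne.symm hne)
      have h2 : sInf S ≤ tdegN p w := Nat.sInf_le ⟨w, (hw.2 : f w = f x).trans hx, rfl⟩
      omega
    have h := E4O.dim_fibreClosure (f := f) x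
    rw [hsing] at h
    have h0 : topologicalKrullDim ↥({x} : Set X) ≤ 0 := topologicalKrullDim_zero_of_discreteTopology _
    rw [h] at h0
    exact Nat.le_zero.1 (by exact_mod_cast h0)
  have hT := FibreBound.tdegN_eq_add (qY := q) f hf x
  refine ⟨closure {x}, isClosed_closure, isIrreducible_singleton.closure, ?_, ?_⟩
  · rw [WC97.topologicalKrullDim_closure p x, (WC97.dim_eq q).1, hT, hx, hfd, Nat.add_zero]
  · exact Dense.mono (Set.singleton_subset_iff.2 ⟨x, subset_closure rfl, hx⟩)
      (dense_iff_closure_eq.2 (genericPoint_spec Y))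

end Groth.Agent.S14514
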