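import Groth.Statements.S14519
import Groth.Agent.Curves2.SmoothNormal
import Groth.Agent.SchBasics.BirationalQF

set_option autoImplicit false
universe u
open CategoryTheory CategoryTheory.Limits AlgebraicGeometry
open Curves

namespace Groth.Agent.S14519

/-- Let k be an algebraically closed field and f : X → Y a birational morphism over k between smooth
curves (X, Y integral, separated, of finite type and smooth over k, of dimension one; f sends the
generic point of X to that of Y and the induced map of function fields K(Y) → K(X) is bijective).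
Then f is an open immersion. -/
theorem result (k : Type u) [Field k] [IsAlgClosed k]
    (X Y : Scheme.{u}) [X.Over (Spec (CommRingCat.of k))] [Y.Over (Spec (CommRingCat.of k))]
    [IsIntegral X] [IsSeparated (X ↘ (Spec (CommRingCat.of k)))] [LocallyOfFiniteType (X ↘ (Spec (CommRingCat.of k)))] [QuasiCompact (X ↘ (Spec (CommRingCat.of k)))] [Smooth (X ↘ (Spec (CommRingCat.of k)))] (hdimX : topologicalKrullDim X = 1)
    [IsIntegral Y] [IsSeparated (Y ↘ (Spec (CommRingCat.of k)))] [LocallyOfFiniteType (Y ↘ (Spec (CommRingCat.of k)))] [QuasiCompact (Y ↘ (Spec (CommRingCat.of k)))] [Smooth (Y ↘ (Spec (CommRingCat.of k)))] (hdimY : topologicalKrullDim Y = 1)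
    (f : X ⟶ Y) (hf : f ≫ (Y ↘ (Spec (CommRingCat.of k))) = (X ↘ (Spec (CommRingCat.of k))))
    (e : f (genericPoint X) = genericPoint Y)
    (hbir : Function.Bijective (Y.presheaf.stalkSpecializes (specializes_of_eq e) ≫ f.stalkMap (genericPoint X)).hom) :
    IsOpenImmersion f := by
  let φ := Y.presheaf.stalkSpecializes (specializes_of_eq e) ≫ f.stalkMap (genericPoint X)
  let ψ : Y.functionField ≃+* X.functionField := RingEquiv.ofBijective φ.hom hbir
  have : LocallyOfFiniteType (f ≫ (Y ↘ Spec (CommRingCat.of k))) := hf ▸ inferInstance
  have : LocallyOfFiniteType f := locallyOfFiniteType_of_comp f (Y ↘ Spec (CommRingCat.of k))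
  have : IsLocallyNoetherian Y := LocallyOfFiniteType.isLocallyNoetherian (Y ↘ Spec (CommRingCat.of k))
  have : LocallyOfFinitePresentation f := LocallyOfFinitePresentation.iff_locallyOfFiniteType.mpr ‹_›
  have : IsSeparated (f ≫ (Y ↘ Spec (CommRingCat.of k))) := hf ▸ inferInstance
  have : IsSeparated f := IsSeparated.of_comp f (Y ↘ Spec (CommRingCat.of k))
  have hiso : ∀ x, IsIso (f.stalkMap x) := by
    intro x
    have := Curves2.valuationRing_stalk_of_smooth (Y ↘ Spec (CommRingCat.of k)) hdimY.le (f x)
    let g : X.presheaf.stalk x →+* Y.functionField :=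
      ψ.symm.toRingHom.comp (algebraMap (X.presheaf.stalk x) X.functionField)
    have hg : Function.Injective g := ψ.symm.injective.comp (IsFractionRing.injective _ _)
    have hgf : g.comp (f.stalkMap x).hom = algebraMap (Y.presheaf.stalk (f x)) Y.functionField := by
      refine RingHom.ext fun a => ψ.injective ?_
      show ψ (ψ.symm _) = ψ _
      rw [ψ.apply_symm_apply]
      have hn := congrArg (fun u => u.hom a)
        (Scheme.Hom.stalkSpecializes_stalkMap f (genericPoint X) x (genericPoint_specializes x))
      have hc := congrArg (fun u => u.hom a)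
        (congrArg (fun u => u ≫ f.stalkMap (genericPoint X))
          (TopCat.Presheaf.stalkSpecializes_comp Y.presheaf (specializes_of_eq e)
            (genericPoint_specializes (f x))))
      exact hn.symm.trans hc.symm
    exact (ConcreteCategory.isIso_iff_bijective _).mpr
      ⟨SchBasics.stalkMap_injective f e x, Curves2.surjective_of_valuationRing _ g hg hgf⟩
  have : IsLocalIso f := ⟨fun x => (SchBasics.exists_isOpenImmersion_iff_isIso_stalkMap f x).mpr (hiso x)⟩
  exact SchBasics.isOpenImmersion_of_isLocalIso_of_isSeparated f

end Groth.Agent.S14519
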