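import Groth.Statements.S14523
import Groth.Agent.LimTop61.NormalPoint
import Mathlib.RingTheory.DedekindDomain.PID
import Mathlib.RingTheory.Valuation.ValuationRing

set_option autoImplicit false
universe u
open CategoryTheory CategoryTheory.Limits AlgebraicGeometry
open Variety

namespace Groth.Agent.S14523

open Groth.Agent TopologicalSpace

set_option backward.isDefEq.respectTransparency false

theorem valuationRing_of_dim {R : Type u} [CommRing R] [IsLocalRing R] [IsDomain R] [IsNoetherianRing R]
    [IsIntegrallyClosed R] (h : ringKrullDim R ≤ 1) : ValuationRing R := by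
  have : Ring.KrullDimLE 1 R := Ring.krullDimLE_iff.2 h
  have : Ring.DimensionLEOne R := ⟨fun {p} hp hpp => (Ring.krullDimLE_one_iff_of_noZeroDivisors.1 ‹_›) p hp hpp⟩
  have : IsDedekindRing R := { }
  have : IsDedekindDomain R := { }
  have : IsPrincipalIdealRing R := IsPrincipalIdealRing.of_finite_primes (primesFinite R)
  exact inferInstance
where
  primesFinite (R : Type u) [CommRing R] [IsLocalRing R] [IsDomain R] [Ring.DimensionLEOne R] :
      {I : Ideal R | I.IsPrime}.Finite := by
    refine Set.Finite.subset (Set.toFinite {⊥, IsLocalRing.maximalIdeal R}) fun I hI => ?_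
    rcases eq_or_ne I ⊥ with h | h
    · exact Or.inl h
    · exact Or.inr (IsLocalRing.eq_maximalIdeal (Ideal.IsPrime.isMaximal hI h))

/-- Let k be an algebraically closed field and f : X → Y a proper, birational morphism over k of
irreducible varieties (X, Y integral, separated and of finite type over k; f restricts to an
isomorphism over some nonempty open subset of Y), with Y normal (all local rings integrally closed).
Let U ⊆ Y be the largest open subset over which f is an isomorphism (the domain of f^{-1}). Then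
codim_Y(Y ∖ U) ≥ 2: for every point y of Y whose local ring has Krull dimension at most one, f
restricts to an isomorphism over some open neighbourhood of y. -/
theorem result (k : Type u) [Field k] [IsAlgClosed k]
    (X Y : Scheme.{u}) [X.Over (Spec (CommRingCat.of k))] [Y.Over (Spec (CommRingCat.of k))]
    [IsIntegral X] [IsSeparated (X ↘ (Spec (CommRingCat.of k)))] [LocallyOfFiniteType (X ↘ (Spec (CommRingCat.of k)))] [QuasiCompact (X ↘ (Spec (CommRingCat.of k)))]
    [IsIntegral Y] [IsSeparated (Y ↘ (Spec (CommRingCat.of k)))] [LocallyOfFiniteType (Y ↘ (Spec (CommRingCat.of k)))] [QuasiCompact (Y ↘ (Spec (CommRingCat.of k)))] (hY : ∀ y : Y, IsIntegrallyClosed (Y.presheaf.stalk y))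
    (f : X ⟶ Y) (hf : f ≫ (Y ↘ (Spec (CommRingCat.of k))) = (X ↘ (Spec (CommRingCat.of k)))) [IsProper f]
    (hbir : ∃ V : Y.Opens, (V : Set Y).Nonempty ∧ IsIso (f ∣_ V))
    (y : Y) (hy : ringKrullDim (Y.presheaf.stalk y) ≤ 1) :
    ∃ V : Y.Opens, y ∈ V ∧ IsIso (f ∣_ V) := by
  have : IsLocallyNoetherian Y := LocallyOfFiniteType.isLocallyNoetherian (Y ↘ Spec (CommRingCat.of k))
  obtain ⟨V₀, hV₀, hiso⟩ := hbir
  have hηV : genericPoint Y ∈ V₀ := (genericPoint_spec Y).mem_open_set_iff V₀.2 |>.2 (by simpa using hV₀)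
  have hgen : f (genericPoint X) = genericPoint Y := by
    obtain ⟨z, hz⟩ := (f ∣_ V₀).surjective ⟨genericPoint Y, hηV⟩
    have hz' : f z.1 = genericPoint Y := by
      have h := morphismRestrict_base_coe f V₀ z
      rw [hz] at h
      exact h.symm
    have hsp : f (genericPoint X) ⤳ f z.1 :=
      f.base.hom.map_specializes ((genericPoint_spec X).specializes trivial)
    rw [hz'] at hsp
    exact ((genericPoint_spec Y).specializes trivial).antisymm hsp |>.symm.eq
  have hηX : genericPoint X ∈ f ⁻¹ᵁ V₀ := show f (genericPoint X) ∈ V₀ from hgen.symm ▸ hηV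
  have hbir' : IsIso (f.stalkMap (genericPoint X)) := by
    let z : (f ⁻¹ᵁ V₀).toScheme := ⟨genericPoint X, hηX⟩
    have hcomp : IsOpenImmersion ((f ⁻¹ᵁ V₀).ι ≫ f) := by
      rw [← morphismRestrict_ι]
      infer_instance
    have h1 : IsIso (((f ⁻¹ᵁ V₀).ι ≫ f).stalkMap z) := inferInstance
    rw [Scheme.Hom.stalkMap_comp] at h1
    have h1' : IsIso (f.stalkMap (genericPoint X) ≫ (f ⁻¹ᵁ V₀).ι.stalkMap z) := h1
    exact IsIso.of_isIso_comp_right (f.stalkMap (genericPoint X)) ((f ⁻¹ᵁ V₀).ι.stalkMap z)
  have hsurj : Function.Surjective (f : X → Y) := by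
    intro w
    have hc : IsClosed (Set.range (f : X → Y)) := f.isClosedMap.isClosed_range
    exact hc.stableUnderSpecialization ((genericPoint_spec Y).specializes trivial) ⟨_, hgen⟩
  obtain ⟨x, rfl⟩ := hsurj y
  have hηx : genericPoint X ⤳ x := (genericPoint_spec X).specializes trivial
  have hηy : f (genericPoint X) ⤳ f x := f.base.hom.map_specializes hηx
  have hsm : Function.Bijective (f.stalkMap (genericPoint X)) := ConcreteCategory.bijective_of_isIso _
  have hcomm : ∀ o, f.stalkMap (genericPoint X) (Y.presheaf.stalkSpecializes hηy o) =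
      X.presheaf.stalkSpecializes hηx (f.stalkMap x o) :=
    fun o => Scheme.Hom.stalkSpecializes_stalkMap_apply f _ _ hηx o
  have hiX := LimTop61.stalkSpecializes_injective rfl hηx
  have hiY := LimTop61.stalkSpecializes_injective hgen hηy
  have hinj : Function.Injective (f.stalkMap x) := fun o o' h =>
    hiY (hsm.1 (by rw [hcomm, hcomm, h]))
  let R := Y.presheaf.stalk (f x)
  have := hY (f x)
  have : ValuationRing R := valuationRing_of_dim hy
  let S := X.presheaf.stalk x
  let ψ : R →+* Y.presheaf.stalk (f (genericPoint X)) := (Y.presheaf.stalkSpecializes hηy).hom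
  have hfrac : ∀ w, ∃ a b : R, b ≠ 0 ∧ w * ψ b = ψ a := by
    have key : ∀ (η : Y) (hη : η ⤳ f x), η = genericPoint Y →
        ∀ w, ∃ a b : R, b ≠ 0 ∧
          w * Y.presheaf.stalkSpecializes hη b = Y.presheaf.stalkSpecializes hη a := by
      rintro η hη rfl w
      obtain ⟨a, b, hb, rfl⟩ := IsFractionRing.div_surjective R (K := Y.functionField) w
      refine ⟨a, b, nonZeroDivisors.ne_zero hb, ?_⟩
      exact div_mul_cancel₀ _ ((map_ne_zero_iff _ (IsFractionRing.injective R Y.functionField)).2
        (nonZeroDivisors.ne_zero hb))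
    exact key _ hηy hgen
  have hsurj' : Function.Surjective (f.stalkMap x) := by
    intro z
    obtain ⟨w, hw⟩ := hsm.2 (X.presheaf.stalkSpecializes hηx z)
    obtain ⟨a, b, hb, hab⟩ := hfrac w
    have hz : z * f.stalkMap x b = f.stalkMap x a := hiX (by
      rw [map_mul, ← hcomm, ← hcomm, ← hw, ← map_mul]
      exact congrArg _ hab)
    obtain ⟨c, hc⟩ := ValuationRing.cond a b
    rcases hc with hc | hc
    · -- a * c = b
      have hb' : f.stalkMap x b ≠ 0 := (map_ne_zero_iff _ hinj).2 hb
      rw [← hc, map_mul] at hz hb'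
      have h1 : z * f.stalkMap x c = 1 := by
        refine mul_left_cancel₀ (left_ne_zero_of_mul hb') ?_
        rw [mul_one]
        linear_combination hz
      have hu : IsUnit c := IsUnit.of_map (f.stalkMap x).hom c (IsUnit.of_mul_eq_one_right _ h1)
      refine ⟨(hu.unit⁻¹ : _), ?_⟩
      calc f.stalkMap x (hu.unit⁻¹ : _) = z * f.stalkMap x c * f.stalkMap x (hu.unit⁻¹ : _) := by rw [h1, one_mul]
        _ = z := by rw [mul_assoc, ← map_mul, IsUnit.mul_val_inv, map_one, mul_one]
    · refine ⟨c, ?_⟩
      rw [← hc, map_mul] at hz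
      refine mul_left_cancel₀ ((map_ne_zero_iff _ hinj).2 hb) ?_
      rw [← hz, mul_comm]
  have : IsIso (f.stalkMap x) := (ConcreteCategory.isIso_iff_bijective _).mpr ⟨hinj, hsurj'⟩
  exact LimTop61.exists_isIso_morphismRestrict_of_isIso_stalkMap f x

end Groth.Agent.S14523
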