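import Groth.Statements.S14538
import Groth.Agent.DenseFG4.Rep
import Groth.Agent.GMod80.Coord

set_option autoImplicit false
universe u
open CategoryTheory MonoidalCategory CartesianMonoidalCategory MonObj GrpObj AlgebraicGeometry
open PrincBund

namespace Groth.Agent.S14538

/-- Let k be an algebraically closed field of characteristic 0 and G an affine group scheme of finite
type over k. Then the group G(k) of k-rational points has a finitely generated subgroup whose points
are dense in the underlying space of G. -/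
theorem result (k : Type u) [Field k] [IsAlgClosed k] [CharZero k]
    (G : Over (Spec (CommRingCat.of k))) [GrpObj G] [IsAffine G.left] [LocallyOfFiniteType G.hom] :
    ∃ Φ : Subgroup (𝟙_ (Over (Spec (CommRingCat.of k))) ⟶ G), Φ.FG ∧
      Dense {x : ↥G.left | ∃ g ∈ Φ, g.left.base (IsLocalRing.closedPoint k) = x} := by
  classical
  obtain ⟨A, _, _, ψ, hψ⟩ := GMod80.exists_coord G
  haveI := hψ
  haveI : IsIso ψ.hom.left := ((Over.forget _).mapIso ψ).isIso_hom
  haveI : LocallyOfFiniteType (GMod80.sp k A).hom := by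
    rw [← Over.w ψ.hom]; infer_instance
  haveI hft : Algebra.FiniteType k A := by
    have h : LocallyOfFiniteType (Spec.map (CommRingCat.ofHom (algebraMap k A))) :=
      inferInstanceAs (LocallyOfFiniteType (GMod80.sp k A).hom)
    exact RingHom.finiteType_algebraMap.1 ((HasRingHomProperty.Spec_iff (P := @LocallyOfFiniteType)).1 h)
  let ptI : 𝟙_ (Over (Spec (CommRingCat.of k))) ≅ VecGrp.pt k k :=
    Over.isoMk (Iso.refl _) (by
      show 𝟙 _ ≫ Spec.map (CommRingCat.ofHom (algebraMap k k)) = 𝟙 _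
      rw [Category.id_comp]
      exact Spec.map_id _)
  let F : WithConv (A →ₐ[k] k) →* (𝟙_ (Over (Spec (CommRingCat.of k))) ⟶ G) :=
    MonoidHom.mk' (fun f => ptI.hom ≫ GMod80.e ψ k f) fun f g => by rw [map_mul, MonObj.comp_mul]
  obtain ⟨Φ, hΦ, hnil⟩ := DenseFG4.exists_fg_dense (k := k) (A := A)
  refine ⟨Φ.map F, by
    obtain ⟨s, hs⟩ := hΦ
    exact ⟨s.image F, by rw [Finset.coe_image, ← MonoidHom.map_closure, hs]⟩, ?_⟩
  let φ : Spec (CommRingCat.of A) ≅ G.left := GMod80.sch ψ
  have hS : Dense {y : Spec (CommRingCat.of A) | ∃ g ∈ Φ,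
      (Spec.map (CommRingCat.ofHom (WithConv.ofConv g).toRingHom)).base (IsLocalRing.closedPoint k) = y} := by
    rw [dense_iff_inter_open]
    intro U hU ⟨p, hp⟩
    obtain ⟨_, ⟨a, rfl⟩, hpa, haU⟩ :=
      PrimeSpectrum.isTopologicalBasis_basic_opens.exists_subset_of_mem_open hp hU
    obtain ⟨g, hg, hga⟩ : ∃ g ∈ Φ, (WithConv.ofConv g) a ≠ 0 := by
      by_contra hc
      push Not at hc
      exact hpa (nilradical_le_prime p.asIdeal (hnil a (DenseFG4.mem_vI.2 hc)))
    refine ⟨_, haU ?_, g, hg, rfl⟩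
    show a ∉ Ideal.comap (WithConv.ofConv g).toRingHom (IsLocalRing.maximalIdeal k)
    rw [Ideal.mem_comap, IsLocalRing.maximalIdeal_eq_bot]
    exact fun h => hga h
  refine (DenseRange.dense_image φ.hom.homeomorph.surjective.denseRange
    φ.hom.homeomorph.continuous hS).mono ?_
  rintro _ ⟨_, ⟨g, hg, rfl⟩, rfl⟩
  refine ⟨F g, Subgroup.mem_map_of_mem F hg, ?_⟩
  rfl

end Groth.Agent.S14538
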