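import Groth.Statements.S14543
import Groth.Agent.EqTors4.Levi

set_option autoImplicit false
universe u
open CategoryTheory MonoidalCategory CartesianMonoidalCategory MonObj GrpObj AlgebraicGeometry
open PrincBund

namespace Groth.Agent.S14543

/-- Let k be a field of characteristic 0, G an affine group scheme of finite type over k with unipotent
radical u : U → G, and l₁ : L₁ → G, l₂ : L₂ → G homomorphisms of k-group schemes each of which is a
Levi complement to U (multiplication Lᵢ × U → G is an isomorphism). Then there are a k-rational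
point v of U and an isomorphism e : L₁ ≅ L₂ over k with l₂ ∘ e equal to the conjugate v l₁ v⁻¹. (The
published statement is for affine group schemes over k not necessarily of finite type; this row is
the finite-type case.) -/
theorem result (k : Type u) [Field k] [CharZero k]
    (G : Over (Spec (CommRingCat.of k))) [GrpObj G] [IsAffine G.left] [LocallyOfFiniteType G.hom]
    (U : Over (Spec (CommRingCat.of k))) [GrpObj U] (u : U ⟶ G) (hU : Par.IsUnipotentRadical u)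
    (L₁ L₂ : Over (Spec (CommRingCat.of k))) [GrpObj L₁] [GrpObj L₂] (l₁ : L₁ ⟶ G) (l₂ : L₂ ⟶ G)
    [IsMonHom l₁] [IsMonHom l₂]
    (h₁ : IsIso ((l₁ ⊗ₘ u) ≫ μ[G])) (h₂ : IsIso ((l₂ ⊗ₘ u) ≫ μ[G])) :
    ∃ (v : 𝟙_ (Over (Spec (CommRingCat.of k))) ⟶ U) (e : L₁ ≅ L₂), e.hom ≫ l₂ = AGF.conjBy (v ≫ u) l₁ := by
  classical
  have hU' := hU
  obtain ⟨hu, hcl, hn, hsm, -, hgeo, -⟩ := hU'
  haveI := hu
  haveI := hcl
  haveI := hsm
  haveI := h₁
  haveI := h₂
  haveI : IsAffine U.left := isAffine_of_isAffineHom u.left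
  haveI : Mono u.left := inferInstance
  haveI : Mono u := Over.mono_of_mono_left u
  haveI hq₁ := EqTors4.Levi.isMonHom_proj u l₁ hn
  haveI hq₂ := EqTors4.Levi.isMonHom_proj u l₂ hn
  have cross : ∀ {L L' : Over (Spec (CommRingCat.of k))} [GrpObj L] [GrpObj L'] (l : L ⟶ G) (l' : L' ⟶ G)
      [IsMonHom l] [IsMonHom l'] [IsIso ((l ⊗ₘ u) ≫ μ[G])] [IsIso ((l' ⊗ₘ u) ≫ μ[G])],
      (l ≫ EqTors4.Levi.proj u l') ≫ (l' ≫ EqTors4.Levi.proj u l) = 𝟙 L := by
    intro L L' _ _ l l' _ _ _ _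
    have e : l ≫ EqTors4.Levi.proj u l = ((l ≫ EqTors4.Levi.proj u l') ≫ l') ≫ EqTors4.Levi.proj u l := by
      refine (congrArg (fun z => z ≫ EqTors4.Levi.proj u l) (EqTors4.Levi.decomp u l' l)).symm.trans ?_
      rw [EqTors4.Levi.proj_mul u l hn, ← Category.assoc l (EqTors4.Levi.proj' u l') u,
        EqTors4.Levi.proj_u u l, _root_.mul_one, ← Category.assoc l (EqTors4.Levi.proj u l') l']
    rw [EqTors4.Levi.proj_l] at e
    rw [← Category.assoc]
    exact e.symm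
  let e : L₁ ≅ L₂ :=
    { hom := l₁ ≫ EqTors4.Levi.proj u l₂
      inv := l₂ ≫ EqTors4.Levi.proj u l₁
      hom_inv_id := cross l₁ l₂
      inv_hom_id := cross l₂ l₁ }
  haveI : IsMonHom e.hom := inferInstanceAs (IsMonHom (l₁ ≫ EqTors4.Levi.proj u l₂))
  obtain ⟨R, _, _, _, ψ, hψ, hR⟩ := EqTors4.Levi.exists_coord_linRed u hU l₁ h₁
  haveI := hψ
  obtain ⟨H, _, _, φ, hφ⟩ := GMod80.exists_coord U
  haveI := hφ
  haveI : Algebra.FiniteType k H := GMod80.finiteType φ
  obtain ⟨s⟩ : Nonempty ↥(Spec (CommRingCat.of k)) := inferInstanceAs (Nonempty (PrimeSpectrum k))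
  obtain ⟨hconn, hno⟩ := hgeo s
  haveI : ConnectedSpace U.left := EqTors4.connectedSpace_of_geomFibre s U hconn
  obtain ⟨v, hv⟩ := EqTors4.exists_conj ψ hR φ (EqTors4.isUnipotent_coord φ s hno) u hn l₁ (e.hom ≫ l₂)
    (fun T x => by
      set a := (x ≫ l₁) ≫ EqTors4.Levi.proj u l₂
      set b := (x ≫ l₁) ≫ EqTors4.Levi.proj' u l₂
      have hd : (a ≫ l₂) * (b ≫ u) = x ≫ l₁ := by simpa [a, b] using EqTors4.Levi.decomp u l₂ (x ≫ l₁)
      obtain ⟨n, hn'⟩ := hn T (x ≫ l₁) (b⁻¹)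
      refine ⟨n, ?_⟩
      rw [← hn', GrpObj.inv_comp, show x ≫ e.hom ≫ l₂ = a ≫ l₂ by simp [a, e]]
      have ha : a ≫ l₂ = (x ≫ l₁) * (b ≫ u)⁻¹ := by rw [← hd]; group
      rw [ha]
      group)
  exact ⟨v, e, hv⟩

end Groth.Agent.S14543
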