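import Groth.Statements.S14545
import Groth.Agent.EqTors4.QuotExt
import Groth.Agent.Unr55.FppfScheme

set_option autoImplicit false
universe u
open CategoryTheory MonoidalCategory CartesianMonoidalCategory MonObj GrpObj AlgebraicGeometry
open PrincBund

namespace Groth.Agent.S14545

/-- Let k be a field of characteristic 0 and G an affine group scheme of finite type over k; let G' be a
closed subgroup of G and G₀ a closed normal subgroup of G with quotient q₁ : G → G₁ (so G₁ = G/G₀),
let G₀' = G₀ ∩ G' and let G₁' be the image of G' in G₁, a closed subgroup of G₁ through which G' →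
G₁ factors by a surjective morphism. Suppose that the quotients G₀/G₀' and G₁/G₁' (fppf quotient
sheaves represented by schemes) are affine. Then every scheme Q representing the quotient G/G' is
affine. -/
theorem result (k : Type u) [Field k] [CharZero k]
    (G : Over (Spec (CommRingCat.of k))) [GrpObj G] [IsAffine G.left] [LocallyOfFiniteType G.hom]
    (G' : Over (Spec (CommRingCat.of k))) [GrpObj G'] (i' : G' ⟶ G) [IsMonHom i'] (hi' : IsClosedImmersion i'.left)
    (G₀ : Over (Spec (CommRingCat.of k))) [GrpObj G₀] (i₀ : G₀ ⟶ G) [IsMonHom i₀] (hi₀ : IsClosedImmersion i₀.left)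
    (hn : AlgGrp.IsNormalHom i₀)
    (G₁ : Over (Spec (CommRingCat.of k))) [GrpObj G₁] (q₁ : G ⟶ G₁) [IsMonHom q₁] (hq₁ : RedSub.IsQuotient i₀ q₁)
    (G₀' : Over (Spec (CommRingCat.of k))) [GrpObj G₀'] (j : G₀' ⟶ G₀) [IsMonHom j] (j' : G₀' ⟶ G')
    (hj : IsPullback j j' i₀ i')
    (G₁' : Over (Spec (CommRingCat.of k))) [GrpObj G₁'] (i₁' : G₁' ⟶ G₁) [IsMonHom i₁'] (hi₁' : IsClosedImmersion i₁'.left)
    (p : G' ⟶ G₁') (hp : p ≫ i₁' = i' ≫ q₁) (hps : Surjective p.left)
    (Qa : Over (Spec (CommRingCat.of k))) (qa : G₀ ⟶ Qa) (hqa : RedSub.IsQuotient j qa) (ha : IsAffine Qa.left)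
    (Qb : Over (Spec (CommRingCat.of k))) (qb : G₁ ⟶ Qb) (hqb : RedSub.IsQuotient i₁' qb) (hb : IsAffine Qb.left)
    (Q : Over (Spec (CommRingCat.of k))) (q : G ⟶ Q) (hq : RedSub.IsQuotient i' q) :
    IsAffine Q.left := by
  haveI := hi'
  haveI := hi₁'
  haveI : IsAffine G'.left := isAffine_of_isAffineHom i'.left
  haveI : LocallyOfFiniteType G'.hom := by rw [← Over.w i']; infer_instance
  obtain ⟨_, _, _, -⟩ := id hq₁
  haveI : LocallyOfFiniteType G₁.hom := by
    haveI : LocallyOfFinitePresentation G.hom :=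
      LocallyOfFinitePresentation.iff_locallyOfFiniteType.2 inferInstance
    haveI : LocallyOfFinitePresentation (q₁.left ≫ G₁.hom) := by rw [Over.w]; infer_instance
    haveI : LocallyOfFinitePresentation G₁.hom :=
      Unr55.locallyOfFinitePresentation_of_fppf_comp q₁.left G₁.hom
    infer_instance
  haveI : LocallyOfFiniteType G₁'.hom := by rw [← Over.w i₁']; infer_instance
  haveI : Mono i₁' := Over.mono_of_mono_left i₁'
  haveI : IsMonHom p :=
    { one_hom := by
        rw [← cancel_mono i₁', Category.assoc, hp, ← Category.assoc, IsMonHom.one_hom, IsMonHom.one_hom,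
          IsMonHom.one_hom]
      mul_hom := by
        rw [← cancel_mono i₁', Category.assoc, Category.assoc, hp, ← Category.assoc, IsMonHom.mul_hom,
          Category.assoc, IsMonHom.mul_hom, IsMonHom.mul_hom, ← Category.assoc, ← Category.assoc,
          tensorHom_comp_tensorHom, tensorHom_comp_tensorHom, hp] }
  obtain ⟨Φ, π, hπ, hsq⟩ := EqTors4.QuotExt.exists_isPullback hn hq₁ hj hp
    (EqTors4.QuotExt.cov_of_surjective p hps) hqa hqb hq
  haveI := hb
  haveI : IsAffineHom Qa.hom := by haveI := ha; infer_instance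
  haveI : IsAffineHom (fst G Qa).left := MorphismProperty.pullback_fst _ _ ‹IsAffineHom Qa.hom›
  obtain ⟨_, _, _⟩ := (RedPts82.cov_of_isQuotient hq₁).comp (RedPts82.cov_of_isQuotient hqb)
  haveI : MorphismProperty.DescendsAlong @IsAffineHom Unr55.fpqc.{u} := Unr55.isAffineHom
  haveI : QuasiCompact (q₁ ≫ qb).left := inferInstance
  haveI : IsAffineHom π.left := MorphismProperty.of_isPullback_of_descendsAlong (P := @IsAffineHom)
    (Q := Unr55.fpqc) (hsq.map (Over.forget _)) ⟨⟨‹Surjective (q₁ ≫ qb).left›, ‹Flat (q₁ ≫ qb).left›⟩, ‹QuasiCompact (q₁ ≫ qb).left›⟩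
    ‹IsAffineHom (fst G Qa).left›
  exact isAffine_of_isAffineHom π.left

end Groth.Agent.S14545
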