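import Groth.Statements.S14546
import Groth.Agent.PB4.HomAff
import Groth.Agent.SpPts86.LocPMore

set_option autoImplicit false
universe u
open CategoryTheory MonoidalCategory CartesianMonoidalCategory MonObj GrpObj AlgebraicGeometry
open PrincBund

namespace Groth.Agent.S14546

/-- Let k be a field of characteristic 0, X a quasi-compact k-scheme whose ring of global functions is
finite-dimensional over k, and Z an affine k-scheme. Then the functor on k-schemes S ↦ Hom_k(X ×_k
S, Z) is representable by an affine k-scheme M: there is a universal k-morphism X ×_k M → Z through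
which every k-morphism X ×_k S → Z factors by a unique S → M; and M is of finite type over k if Z
is. (The published statement is about the scheme of invariant cross-sections of an affine scheme
under a transitive affine groupoid over a pregroupoid H, with a finiteness hypothesis on H; this row
is the case of the trivial groupoid, where the representing scheme is the scheme of k-morphisms from
X to Z and that hypothesis reads: X quasi-compact with finite-dimensional global functions.) -/
theorem result (k : Type u) [Field k] [CharZero k]
    (X : Over (Spec (CommRingCat.of k))) [CompactSpace ↥X.left]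
    (hfin : (X.hom.appTop.hom.comp (Scheme.ΓSpecIso (CommRingCat.of k)).inv.hom).Finite)
    (Z : Over (Spec (CommRingCat.of k))) [IsAffine Z.left] :
    ∃ (M : Over (Spec (CommRingCat.of k))) (_ : IsAffine M.left) (ev : X ⊗ M ⟶ Z),
      (∀ (S : Over (Spec (CommRingCat.of k))) (f : X ⊗ S ⟶ Z), ∃! g : S ⟶ M, (X ◁ g) ≫ ev = f) ∧
      (LocallyOfFiniteType Z.hom → LocallyOfFiniteType M.hom) := by
  open Groth.Agent.AlgGrp79.ProdSections in
  letI := Groth.Agent.AlgGrp79.GLnDiag.gAlg X
  let φ : CommRingCat.of k ⟶ Γ(X.left, ⊤) := (Scheme.ΓSpecIso (CommRingCat.of k)).inv ≫ X.hom.appTop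
  let X' : Over (Spec (CommRingCat.of k)) := Over.mk (Spec.map φ)
  let c : X ⟶ X' := Over.homMk X.left.toSpecΓ (by
    change X.left.toSpecΓ ≫ Spec.map φ = X.hom
    rw [Spec.map_comp, ← Category.assoc, ← Scheme.toSpecΓ_naturality, Category.assoc,
      ← SpecMap_ΓSpecIso_hom, ← Spec.map_comp, Iso.inv_hom_id, Spec.map_id, Category.comp_id])
  have : IsFinite X'.hom := (IsFinite.SpecMap_iff φ).2 hfin
  have : Flat X'.hom := by
    refine (HasRingHomProperty.Spec_iff (P := @Flat)).2 ?_
    algebraize [φ.hom]
    exact Module.Flat.of_free
  have : LocallyOfFinitePresentation X'.hom := Groth.Agent.SpPts86.lfp_of_lft X'.hom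
  have : QuasiCompact X.hom := inferInstance
  have : IsAffineHom Z.hom := inferInstance
  obtain ⟨M, ev, haff, hlft, -, hM⟩ := Groth.Agent.RedPts82.HomFF.exists_homScheme X' Z
  have hc : Function.Bijective (Groth.Agent.AlgGrp79.ProdSections.pb c) :=
    show Function.Bijective X.left.toSpecΓ.appTop by
      rw [Scheme.toSpecΓ_appTop]; exact ConcreteCategory.bijective_of_isIso _
  refine ⟨M, isAffine_of_isAffineHom M.hom, (c ▷ M) ≫ ev, fun S f => ?_, hlft⟩
  exact Groth.Agent.PB4.existsUnique_all c hc ev hM S f

end Groth.Agent.S14546
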