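import Groth.Statements.S14554
import Groth.Agent.EtTr32.Transfer
import Groth.Agent.EtTr32.Hensel

set_option autoImplicit false
universe u
open TateGlob

namespace Groth.Agent.S14554

open CategoryTheory CategoryTheory.Abelian AlgebraicGeometry Opposite in
/-- Positive degree etale cohomology of a product of henselian local rings is torsion. -/
theorem exists_nsmul_eq_zero {V : Type u} (O : V → Type u) [∀ v, CommRing (O v)] [∀ v, HenselianLocalRing (O v)]
    (F : EtCoh.Ab (Spec (CommRingCat.of (Π v, O v)))) (n : ℕ)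
    (ξ : EtCoh.H (Spec (CommRingCat.of (Π v, O v))) F (n + 1)) : ∃ N : ℕ, 0 < N ∧ N • ξ = 0 := by
  let X := Spec (CommRingCat.of (Π v, O v))
  let hT := EtTr32.topTerminal X
  refine EtTr32.exists_nsmul_ext_eq_zero.{u + 1}
    ((constantSheaf X.smallEtaleTopology AddCommGrpCat.{u + 1}).obj (AddCommGrpCat.of (ULift.{u + 1} ℤ)))
    (fun I Q g hg s => ?_) n F ξ
  let E : ∀ G : EtCoh.Ab X,
      ((constantSheaf X.smallEtaleTopology AddCommGrpCat.{u + 1}).obj (AddCommGrpCat.of (ULift.{u + 1} ℤ)) ⟶ G) ≃+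
        G.obj.obj (op (EtCoh.top X)) := fun G =>
    ((constantSheafAdj X.smallEtaleTopology AddCommGrpCat.{u + 1} hT).homAddEquiv _ G).trans
      (AddCommGrpCat.uliftZMultiplesAddEquiv _)
  have hE : ∀ φ, E Q (φ ≫ g) = g.hom.app (op (EtCoh.top X)) (E I φ) := fun φ => by
    simp only [E, AddEquiv.trans_apply]
    rfl
  have : Sheaf.IsLocallySurjective g := (Sheaf.isLocallySurjective_iff_epi' AddCommGrpCat.{u + 1} g).2 hg
  obtain ⟨D⟩ := EtTr32.nonempty_transferData O _ (Presheaf.imageSieve_mem X.smallEtaleTopology g.hom (E Q s))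
  obtain ⟨N, hN, t, ht⟩ := D.exists_nsmul_lift g (E Q s) (fun V f hf => hf)
  exact ⟨N, hN, (E I).symm t, (E Q).injective (by rw [hE, AddEquiv.apply_symm_apply, ht, map_nsmul])⟩

open CategoryTheory CategoryTheory.Abelian in
theorem map_nsmul_apply {C : Type*} [Category C] {J : GrothendieckTopology C} [HasSheafify J AddCommGrpCat.{u + 1}]
    [HasExt.{u + 1} (Sheaf J AddCommGrpCat.{u + 1})] {F G : Sheaf J AddCommGrpCat.{u + 1}} (f : F ⟶ G)
    (N : ℕ) {n : ℕ} (x : Sheaf.H F n) : Sheaf.H.map (N • f) n x = N • Sheaf.H.map f n x := by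
  induction N with
  | zero => simp [Sheaf.H.map_apply]
  | succ k ih => rw [succ_nsmul, Sheaf.H.map_add_apply, ih, succ_nsmul]

open CategoryTheory AlgebraicGeometry in
/-- Let K be a global function field with finite constant field Fq and S a set of places of K; write Ô_S
= ∏_{v ∉ S} O_v for the product of the complete valuation rings O_v of the completions K_v, v ∉ S.
Then the cohomology H^i(Spec Ô_S, ℚ) of the constant sheaf ℚ on the small etale site of Spec Ô_S
vanishes for every i > 0. -/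
theorem result (Fq : Type u) [Field Fq] [Finite Fq] (K : Type u) [Field K] [Algebra (RatFunc Fq) K] [FunctionField Fq K]
    [Algebra Fq K] [IsScalarTower Fq (RatFunc Fq) K]
    (S : Set (FunFld.Place Fq K)) (i : ℕ) (hi : 0 < i) :
    Subsingleton (EtCoh.H (Spec (CommRingCat.of (AdFn.OHat S))) (EtCoh.const (Spec (CommRingCat.of (AdFn.OHat S))) ℚ) i) := by
  obtain ⟨n, rfl⟩ : ∃ n, i = n + 1 := ⟨i - 1, by omega⟩
  have : ∀ v : {v : FunFld.Place Fq K // v ∉ S}, HenselianLocalRing (AdFn.Ov v.1) :=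
    fun v => EtTr32.henselianLocalRing_Ov v.1
  refine ⟨fun x y => sub_eq_zero.1 ?_⟩
  obtain ⟨N, hN, hx⟩ := exists_nsmul_eq_zero
    (fun v : {v : FunFld.Place Fq K // v ∉ S} => ↥(AdFn.Ov v.1)) _ n (x - y)
  let m : ℚ →+ ℚ := AddMonoidHom.mulLeft ((N : ℚ)⁻¹)
  let h : AddCommGrpCat.of (ULift.{u + 1} ℚ) ⟶ AddCommGrpCat.of (ULift.{u + 1} ℚ) :=
    AddCommGrpCat.ofHom (AddEquiv.ulift.symm.toAddMonoidHom.comp (m.comp AddEquiv.ulift.toAddMonoidHom))
  have hh : N • h = 𝟙 _ := by
    ext a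
    show N • ((N : ℚ)⁻¹ * a.down) = a.down
    rw [nsmul_eq_mul, ← mul_assoc, mul_inv_cancel₀ (by exact_mod_cast hN.ne'), one_mul]
  have e : x - y = N • (Sheaf.H.map ((constantSheaf _ AddCommGrpCat.{u + 1}).map h) (n + 1) (x - y)) := by
    conv_lhs => rw [← Sheaf.H.map_id_apply (x - y), ← CategoryTheory.Functor.map_id, ← hh,
      Functor.map_nsmul]
    exact map_nsmul_apply _ N _
  rw [e, ← map_nsmul, hx, map_zero]

end Groth.Agent.S14554
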