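import Groth.Statements.S14555
import Groth.Agent.Tors32.Main
import Groth.Agent.EtTr32.Hensel

set_option autoImplicit false
universe u
open TateGlob

namespace Groth.Agent.S14555

open CategoryTheory CategoryTheory.Abelian in
/-- Isomorphisms of coefficients give bijections on cohomology. -/
theorem map_iso_bijective {C : Type*} [Category C] {J : GrothendieckTopology C} [HasSheafify J AddCommGrpCat.{u + 1}]
    [HasExt.{u + 1} (Sheaf J AddCommGrpCat.{u + 1})] {F G : Sheaf J AddCommGrpCat.{u + 1}} (e : F ≅ G) (n : ℕ) :
    Function.Bijective (Sheaf.H.map e.hom n) := by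
  refine Function.bijective_iff_has_inverse.2 ⟨Sheaf.H.map e.inv n, fun x => ?_, fun x => ?_⟩ <;>
    simp [Sheaf.H.map_apply]

open CategoryTheory AlgebraicGeometry in
/-- The comparison for a family of ring maps. -/
theorem bijective_of_maps {A₀ A : Type u} [CommRing A₀] [CommRing A] [Algebra A₀ A] {V : Type u} {O : V → Type u}
    [∀ v, CommRing (O v)] [∀ v, HenselianLocalRing (O v)] (π : ∀ v, A →+* O v)
    (hπ : Function.Bijective (RingHom.pi π)) (G : Over (Spec (CommRingCat.of A₀))) [GrpObj G] [IsCommMonObj G]
    [IsFinite G.hom] [Flat G.hom] :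
    Function.Bijective fun (x : BigSite.H Scheme.fppfPrecoverage (Spec (CommRingCat.of A)) (Tors32.FA (A := A) G) 1)
        (v : V) =>
      HRes.pull Scheme.fppfPrecoverage (Spec.map (CommRingCat.ofHom (π v))) (Tors32.FA (A := A) G) 1 x :=
  letI : ∀ v, Algebra A (O v) := fun v => (π v).toAlgebra
  letI : ∀ v, Algebra A₀ (O v) := fun v => ((π v).comp (algebraMap A₀ A)).toAlgebra
  haveI : ∀ v, IsScalarTower A₀ A (O v) := fun v => .of_algebraMap_eq fun _ => rfl
  Tors32.pull_bijective G hπ

open CategoryTheory AlgebraicGeometry in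
/-- Let K be a global function field with finite constant field Fq, S a finite nonempty set of places of
K, O_S the ring of S-integers and 𝒢 a finite locally free (finite and flat) commutative group scheme
over Spec O_S. Write Ô_S = ∏_{v ∉ S} O_v. Then the map H^1(Ô_S, 𝒢) → ∏_{v ∉ S} H^1(O_v, 𝒢), whose
components are the restriction maps along the projections Ô_S → O_v, is bijective; here the
cohomology is that of the sheaf of points of 𝒢 on the big fppf site of Spec O_S restricted to Spec
Ô_S and to Spec O_v. (The published statement asserts, for any commutative group of finite type over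
a global field, the existence of some model with this property; this row is the case its proof
settles first, a finite locally free group over O_S, for which every such model works.) -/
theorem result (Fq : Type u) [Field Fq] [Finite Fq] (K : Type u) [Field K] [Algebra (RatFunc Fq) K] [FunctionField Fq K]
    [Algebra Fq K] [IsScalarTower Fq (RatFunc Fq) K]
    (S : Set (FunFld.Place Fq K)) (hS : S.Finite) (hne : S.Nonempty)
    (𝒢 : Over (Spec (CommRingCat.of (AdFn.SInt S)))) [GrpObj 𝒢] [IsCommMonObj 𝒢] [IsFinite 𝒢.hom] [Flat 𝒢.hom] :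
    Function.Bijective (fun (x : AdFn.HOHat Scheme.fppfPrecoverage S (CGrpSh.pts Scheme.fppfPrecoverage 𝒢) 1) (v : {v : FunFld.Place Fq K // v ∉ S}) =>
      AdFn.ohatRes Scheme.fppfPrecoverage S (CGrpSh.pts Scheme.fppfPrecoverage 𝒢) 1 v.2 x) := by
  have : ∀ v : {v : FunFld.Place Fq K // v ∉ S}, HenselianLocalRing (AdFn.Ov v.1) :=
    fun v => EtTr32.henselianLocalRing_Ov v.1
  have h := bijective_of_maps (A₀ := AdFn.SInt S) (A := AdFn.OHat S)
    (O := fun v : {v : FunFld.Place Fq K // v ∉ S} => AdFn.Ov v.1)
    (fun v => AdFn.OHat.proj S v.2) Function.bijective_id 𝒢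
  have hb := Function.Bijective.piMap fun v : {v : FunFld.Place Fq K // v ∉ S} =>
    map_iso_bijective (HRes.pullIso Scheme.fppfPrecoverage (CGrpSh.pts Scheme.fppfPrecoverage 𝒢)
      (AdFn.ohatResHom S v.2)) 1
  exact hb.comp h

end Groth.Agent.S14555
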