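import Groth.Statements.S14556
import Groth.Agent.AdelePts32.Glue
import Groth.Agent.HU32.Basic

set_option autoImplicit false
universe u
open TateGlob

namespace Groth.Agent.S14556

open CategoryTheory AlgebraicGeometry in
/-- Let K be a global function field with finite constant field Fq (every element of K having finitely
many poles), A_K its ring of adeles, S a finite nonempty set of places, O_S the ring of S-integers
and 𝒢 a flat, separated commutative O_S-group scheme of finite type. Then the map H^0(A_K, 𝒢) → ∏_v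
H^0(K_v, 𝒢) induced by the projections A_K → K_v is injective, and its image consists of the
restricted product of the H^0(K_v, 𝒢), taken relative to the images of H^0(O_v, 𝒢) → H^0(K_v, 𝒢), v
∉ S: the families almost all of whose components come from O_v. Here H^0 is the degree-0 cohomology
of the sheaf of points of 𝒢 on the big fppf site of Spec O_S, restricted to Spec A_K, Spec K_v and
Spec O_v. -/
theorem result (Fq : Type u) [Field Fq] [Finite Fq] (K : Type u) [Field K] [Algebra (RatFunc Fq) K] [FunctionField Fq K]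
    [Algebra Fq K] [IsScalarTower Fq (RatFunc Fq) K] [AdFn.HasFinitePoles Fq K]
    (S : Set (FunFld.Place Fq K)) (hS : S.Finite) (hne : S.Nonempty)
    (𝒢 : Over (Spec (CommRingCat.of (AdFn.SInt S)))) [GrpObj 𝒢] [IsCommMonObj 𝒢]
    [Flat 𝒢.hom] [IsSeparated 𝒢.hom] [LocallyOfFiniteType 𝒢.hom] [QuasiCompact 𝒢.hom] :
    Function.Injective (AdFn.locProdS Scheme.fppfPrecoverage S (CGrpSh.pts Scheme.fppfPrecoverage 𝒢) 0) ∧
      Set.range (AdFn.locProdS Scheme.fppfPrecoverage S (CGrpSh.pts Scheme.fppfPrecoverage 𝒢) 0) =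
        Set.range (fun y : AdFn.LocRP Scheme.fppfPrecoverage S (CGrpSh.pts Scheme.fppfPrecoverage 𝒢) 0 => (⇑y : (v : FunFld.Place Fq K) → AdFn.HLocS Scheme.fppfPrecoverage S (CGrpSh.pts Scheme.fppfPrecoverage 𝒢) 0 v)) := by
  classical
  let O : ∀ v : FunFld.Place Fq K, Subring (AdFn.Kv v) := fun v => (AdFn.Ov v).toSubring
  have : ∀ v : FunFld.Place Fq K, IsLocalRing (O v) := fun v => inferInstanceAs (IsLocalRing (AdFn.Ov v))
  have : 𝒢.left.IsSeparated := ⟨by
    rw [← Limits.terminal.comp_from 𝒢.hom]; infer_instance⟩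
  let F := CGrpSh.pts Scheme.fppfPrecoverage 𝒢
  have hinj : ∀ a : AdFn.AdeleRing Fq K, (∀ v, AdFn.AdeleRing.proj v a = 0) → a = 0 := fun a ha =>
    Subtype.ext (funext ha)
  let pt : ∀ {U : Over (Spec (CommRingCat.of (AdFn.SInt S)))},
      BigSite.HU Scheme.fppfPrecoverage F 0 U ≃ (U ⟶ 𝒢) := fun {U} =>
    (HU32.sectEq Scheme.fppfPrecoverage F U).toEquiv.trans (Equiv.ulift.trans Additive.toMul)
  have hpt : ∀ {U U' : Over (Spec (CommRingCat.of (AdFn.SInt S)))} (g : U' ⟶ U)
      (x : BigSite.HU Scheme.fppfPrecoverage F 0 U),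
      pt (HRes.resHU Scheme.fppfPrecoverage F 0 g x) = g ≫ pt x := fun g x =>
    congrArg (fun t => Additive.toMul t.down) (HU32.sectEq_resHU Scheme.fppfPrecoverage F g x)
  have hS' : ∀ᶠ v : FunFld.Place Fq K in Filter.cofinite, v ∉ S := hS.eventually_cofinite_notMem
  refine ⟨fun x x' h => pt.injective (Over.OverMorphism.ext ?_), Set.ext fun f => ⟨?_, ?_⟩⟩
  · refine AdelePts32.hom_ext_of_jointlyInjective AdFn.AdeleRing.proj hinj fun v => ?_
    have h1 := congrArg pt (congrFun h v)
    rw [show AdFn.locProdS Scheme.fppfPrecoverage S F 0 x v =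
      HRes.resHU Scheme.fppfPrecoverage F 0 (AdFn.adProjSHom S v) x from rfl,
      show AdFn.locProdS Scheme.fppfPrecoverage S F 0 x' v =
      HRes.resHU Scheme.fppfPrecoverage F 0 (AdFn.adProjSHom S v) x' from rfl, hpt, hpt] at h1
    exact congrArg (fun t : AdFn.specOf (AdFn.SInt.toKv S v) ⟶ 𝒢 => t.left) h1
  · rintro ⟨x, rfl⟩
    refine ⟨⟨AdFn.locProdS Scheme.fppfPrecoverage S F 0 x, ?_⟩, rfl⟩
    filter_upwards [hS', AdelePts32.eventually_integral 𝒢 (AdFn.SInt.toAd S) (AdFn.SInt.toKv S)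
      AdFn.AdeleRing.proj (fun v => RingHom.ext fun _ => rfl) O (fun a => a.2) (pt x)] with v hv hy
    obtain ⟨y, hy⟩ := hy fun r => (AdFn.toKv_mem_Ov v r.1).2 (r.2 v hv)
    simp only [AdFn.locSub, iSup_pos hv, SetLike.mem_coe, AddMonoidHom.mem_range]
    exact ⟨(pt (U := AdFn.specOf (AdFn.SInt.toOv S hv))).symm y, pt.injective
      (((hpt _ _).trans (by rw [Equiv.apply_symm_apply]; exact hy)).trans
        (hpt (AdFn.adProjSHom S v) x).symm)⟩
  · rintro ⟨y, rfl⟩
    obtain ⟨a, ha⟩ := AdelePts32.exists_glue 𝒢 (AdFn.SInt.toAd S) (AdFn.SInt.toKv S)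
      AdFn.AdeleRing.proj (fun v => RingHom.ext fun _ => rfl) hinj O
      (fun b hb => ⟨⟨b, hb⟩, fun _ => rfl⟩) (fun v => pt (y v)) (by
        filter_upwards [hS', y.2] with v hv hy
        simp only [AdFn.locSub, iSup_pos hv, SetLike.mem_coe, AddMonoidHom.mem_range] at hy
        obtain ⟨z, hz⟩ := hy
        exact ⟨(pt z).left, congrArg (fun t : AdFn.specOf (AdFn.SInt.toKv S v) ⟶ 𝒢 => t.left)
          ((hpt (AdFn.intResHom S hv) z).symm.trans (congrArg pt hz))⟩)
    exact ⟨(pt (U := AdFn.specOf (AdFn.SInt.toAd S))).symm a, funext fun v => pt.injective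
      ((hpt (AdFn.adProjSHom S v) _).trans (by rw [Equiv.apply_symm_apply]; exact ha v))⟩

end Groth.Agent.S14556
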