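import Groth.Statements.S14558
import Groth.Agent.Sha32.Core

set_option autoImplicit false
universe u
open TateGlob

namespace Groth.Agent.S14558

open CategoryTheory AlgebraicGeometry in
/-- Let K be a global function field with finite constant field Fq and G a finite commutative K-group
scheme. Then there is a finite separable field extension K' of K such that for every finite
extension K'' of K', Ш^1(K'', G) = 0: every class in H^1(K'', G) (cohomology of the sheaf of points
of G on the big fppf site of Spec K, restricted to Spec K'') whose restriction to H^1(K''_w, G)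
vanishes for every place w of K'' is zero. (The published statement covers all global fields; this
row is the function-field case, with Ш defined by the local conditions at all places.) -/
theorem result (Fq : Type u) [Field Fq] [Finite Fq] (K : Type u) [Field K] [Algebra (RatFunc Fq) K] [FunctionField Fq K]
    [Algebra Fq K] [IsScalarTower Fq (RatFunc Fq) K]
    (G : Over (Spec (CommRingCat.of K))) [GrpObj G] [IsCommMonObj G] [IsFinite G.hom] :
    ∃ (K' : Type u) (_ : Field K') (_ : Algebra K K') (_ : Algebra Fq K') (_ : IsScalarTower Fq K K'),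
      FiniteDimensional K K' ∧ Algebra.IsSeparable K K' ∧
      ∀ (K'' : Type u) [Field K''] [Algebra K K''] [Algebra K' K''] [IsScalarTower K K' K''] [Algebra Fq K'']
        [IsScalarTower Fq K K''] [FiniteDimensional K' K''],
        AdFn.ShaLoc Scheme.fppfPrecoverage Fq ((BigSite.pullBig Scheme.fppfPrecoverage (Spec.map (CommRingCat.ofHom (algebraMap K K''))) AddCommGrpCat.{u + 1}).obj
          (CGrpSh.pts Scheme.fppfPrecoverage G)) 1 = ⊥ := by
  classical
  have : IsAffine G.left := isAffine_of_isAffineHom G.hom
  obtain ⟨H, _, _, ⟨eG⟩⟩ := Tors32.exists_spO_iso G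
  have : Module.Finite K H := Tors32.finite_of_isFinite (by
    rw [← Over.w eG.hom]; exact MorphismProperty.comp_mem @IsFinite _ _ inferInstance ‹_›)
  obtain ⟨K', _, _, hfin, hsep, hfix⟩ := Sha32.exists_fix_field (K := K) H
  let _ : Algebra Fq K' := ((algebraMap K K').comp (algebraMap Fq K)).toAlgebra
  refine ⟨K', inferInstance, inferInstance, inferInstance, IsScalarTower.of_algebraMap_eq fun _ => rfl, hfin, hsep, ?_⟩
  intro K'' _ _ _ _ _ _ _
  let _ : Algebra (RatFunc Fq) K'' := ((algebraMap K K'').comp (algebraMap (RatFunc Fq) K)).toAlgebra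
  have : IsScalarTower (RatFunc Fq) K K'' := IsScalarTower.of_algebraMap_eq fun _ => rfl
  have : IsScalarTower Fq (RatFunc Fq) K'' := IsScalarTower.of_algebraMap_eq fun c => by
    rw [IsScalarTower.algebraMap_apply Fq K K'', IsScalarTower.algebraMap_apply Fq (RatFunc Fq) K]
    rfl
  have : FiniteDimensional K K'' := Module.Finite.trans K' K''
  have : FiniteDimensional (RatFunc Fq) K := ‹FunctionField Fq K›
  have : FiniteDimensional (RatFunc Fq) K'' := Module.Finite.trans K K''
  refine (AddSubgroup.eq_bot_iff_forall _).2 fun x hx => ?_
  refine Sha32.eq_zero_of_local (k := Fq) G (fun Ω _ _ _ σ g => ?_) x fun v => ?_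
  · let _ : Algebra K Ω := ((algebraMap K'' Ω).comp (algebraMap K K'')).toAlgebra
    let _ : Algebra K' Ω := ((algebraMap K'' Ω).comp (algebraMap K' K'')).toAlgebra
    have : IsScalarTower K K'' Ω := IsScalarTower.of_algebraMap_eq fun _ => rfl
    have : IsScalarTower K' K'' Ω := IsScalarTower.of_algebraMap_eq fun _ => rfl
    have : IsScalarTower K K' Ω := IsScalarTower.of_algebraMap_eq fun c => by
      show algebraMap K'' Ω (algebraMap K K'' c) = algebraMap K'' Ω (algebraMap K' K'' _)
      exact congrArg (algebraMap K'' Ω) (IsScalarTower.algebraMap_apply K K' K'' c)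
    exact Sha32.spOMap_comp_eq G eG σ (fun φ h => hfix Ω (σ.restrictScalars K') φ h) g
  · exact AddMonoidHom.mem_ker.1 (AddSubgroup.mem_iInf.1 hx v)

end Groth.Agent.S14558
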