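import Groth.Statements.S14560
import Groth.Agent.Sha32.Finite
import Groth.Agent.Sha32.DualIso
import Groth.Agent.Sha32.DualFin

set_option autoImplicit false
universe u
open TateGlob

namespace Groth.Agent.S14560

open CategoryTheory AlgebraicGeometry in
/-- Let K be a global function field with finite constant field Fq and G a finite commutative K-group
scheme. Then Ш^1(K, G) and Ш^1(K, Ĝ) are finite, where Ш^1(K, F) is the group of classes in H^1(K,
F) (big fppf site of Spec K) restricting to zero in H^1(K_v, F) for every place v, and Ĝ is the dual
sheaf of G (internal Hom from the sheaf of points of G into the multiplicative group). (The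
published statement also asserts the finiteness of Ш^2 and the perfectness of the pairings between
these groups; this row is the Ш^1 finiteness, with Ш defined by the local conditions at all places.) -/
theorem result (Fq : Type u) [Field Fq] [Finite Fq] (K : Type u) [Field K] [Algebra (RatFunc Fq) K] [FunctionField Fq K]
    [Algebra Fq K] [IsScalarTower Fq (RatFunc Fq) K]
    (G : Over (Spec (CommRingCat.of K))) [GrpObj G] [IsCommMonObj G] [IsFinite G.hom] :
    Finite (AdFn.ShaLoc Scheme.fppfPrecoverage Fq (CGrpSh.pts Scheme.fppfPrecoverage G) 1) ∧ Finite (AdFn.ShaLoc Scheme.fppfPrecoverage Fq (CGrpSh2.dualSh Scheme.fppfPrecoverage (CGrpSh.pts Scheme.fppfPrecoverage G)) 1) := by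
  have : FiniteDimensional (RatFunc Fq) K := ‹FunctionField Fq K›
  have : IsAffine G.left := isAffine_of_isAffineHom G.hom
  have : Flat G.hom := Sha32.flat_of_field G.hom
  have : LocallyOfFinitePresentation G.hom := inferInstance
  refine ⟨Sha32.finite_shaLoc (k := Fq) G _ (Iso.refl _), ?_⟩
  obtain ⟨D, υ, iD, cD, hD, haff, hlft, ⟨e⟩⟩ := Sha32.exists_dual_iso G
  have := Sha32.isFinite_charScheme G D υ hD
  exact Sha32.finite_shaLoc (k := Fq) D _ e

end Groth.Agent.S14560
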