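import Groth.Statements.S14573
import Groth.Agent.AdelePts32.Sep
import Groth.Agent.HU32.Basic

set_option autoImplicit false
universe u
open TateGlob

namespace Groth.Agent.S14573

open CategoryTheory AlgebraicGeometry in
/-- Let K be a global function field with finite constant field Fq (every element of K having finitely
many poles), A_K its adele ring, S a finite nonempty set of places, O_S the ring of S-integers and 𝒢
a flat, separated commutative O_S-group scheme of finite type (an O_S-model of its generic fibre).
Assume the generic fibre 𝒢_K is affine. Then the map H^0(A_K, 𝒢^) → ∏_v H^0(K_v, 𝒢^) induced by the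
projections A_K → K_v is injective: a character of 𝒢 defined over A_K that is trivial over every
completion K_v is trivial; here 𝒢^ is the dual sheaf of 𝒢 (internal Hom from its sheaf of points
into the multiplicative group on the big fppf site of Spec O_S) and H^0 its degree-0 cohomology over
Spec A_K and Spec K_v. -/
theorem result (Fq : Type u) [Field Fq] [Finite Fq] (K : Type u) [Field K] [Algebra (RatFunc Fq) K] [FunctionField Fq K]
    [Algebra Fq K] [IsScalarTower Fq (RatFunc Fq) K] [AdFn.HasFinitePoles Fq K]
    (S : Set (FunFld.Place Fq K)) (hS : S.Finite) (hne : S.Nonempty)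
    (𝒢 : Over (Spec (CommRingCat.of (AdFn.SInt S)))) [GrpObj 𝒢] [IsCommMonObj 𝒢]
    [Flat 𝒢.hom] [IsSeparated 𝒢.hom] [LocallyOfFiniteType 𝒢.hom] [QuasiCompact 𝒢.hom]
    (haff : IsAffine ↑(Limits.pullback 𝒢.hom (Spec.map (CommRingCat.ofHom (AdFn.SInt.toK S))))) :
    Function.Injective (AdFn.locProdS Scheme.fppfPrecoverage S (CGrpSh2.dualSh Scheme.fppfPrecoverage (CGrpSh.pts Scheme.fppfPrecoverage 𝒢)) 0) := by
  refine (injective_iff_map_eq_zero _).2 fun x hx => ?_
  refine (HU32.sectEq _ _ _).injective ((AdelePts32.dual_res_injective (F := K)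
    Scheme.fppfPrecoverage (fun v => ⟨AdFn.AdeleRing.proj v, fun _ => rfl⟩)
    (fun a ha => Subtype.ext (funext ha)) 𝒢 _ fun v => ?_).trans (map_zero _).symm)
  refine (HU32.sectEq_resHU _ _ (AdFn.adProjSHom S v) x).symm.trans ?_
  rw [show HRes.resHU _ _ 0 (AdFn.adProjSHom S v) x = 0 from congrFun hx v, map_zero]
  rfl

end Groth.Agent.S14573
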