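import Groth.Statements.S14574
import Groth.Agent.AdelePts32.Model
import Groth.Agent.HU32.Basic

set_option autoImplicit false
universe u
open TateGlob

namespace Groth.Agent.S14574

open CategoryTheory AlgebraicGeometry in
/-- Let K be a global function field with finite constant field Fq, k' a finite field extension of K, B'
a finite commutative k'-group scheme, and G a commutative K-group scheme of finite type that is a
K-subgroup scheme of the Weil restriction R_{k'/K}(B'): there is a monomorphism of abelian fppf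
sheaves from the sheaf of points of G into the direct image of the sheaf of points of B' along Spec
k' → Spec K. Let S be a finite nonempty set of places and 𝒢 an O_S-model of G (a flat, separated
commutative group scheme of finite type over the ring of S-integers with an isomorphism between its
sheaf of points restricted to K-schemes and that of G). Then for all but finitely many places v ∉ S
the map 𝒢(O_v) → G(K_v), i.e. the degree-0 restriction map along Spec K_v → Spec O_v on the
cohomology of the sheaf of points of 𝒢, is bijective. (The published statement covers all global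
fields; this row is the function-field case.) -/
theorem result (Fq : Type u) [Field Fq] [Finite Fq] (K : Type u) [Field K] [Algebra (RatFunc Fq) K] [FunctionField Fq K]
    [Algebra Fq K] [IsScalarTower Fq (RatFunc Fq) K]
    (k' : Type u) [Field k'] [Algebra K k'] [FiniteDimensional K k']
    (B' : Over (Spec (CommRingCat.of k'))) [GrpObj B'] [IsCommMonObj B'] [IsFinite B'.hom]
    (G : Over (Spec (CommRingCat.of K))) [GrpObj G] [IsCommMonObj G] [LocallyOfFiniteType G.hom] [QuasiCompact G.hom]
    (j : CGrpSh.pts Scheme.fppfPrecoverage G ⟶ (BigSite.pushBig Scheme.fppfPrecoverage (Spec.map (CommRingCat.ofHom (algebraMap K k'))) AddCommGrpCat.{u+1}).obj (CGrpSh.pts Scheme.fppfPrecoverage B')) [Mono j]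
    (S : Set (FunFld.Place Fq K)) (hS : S.Finite) (hne : S.Nonempty)
    (𝒢 : Over (Spec (CommRingCat.of (AdFn.SInt S)))) [GrpObj 𝒢] [IsCommMonObj 𝒢]
    [Flat 𝒢.hom] [IsSeparated 𝒢.hom] [LocallyOfFiniteType 𝒢.hom] [QuasiCompact 𝒢.hom]
    (e : AdFn.ModelIso Scheme.fppfPrecoverage S 𝒢 G) :
    ∀ᶠ v in Filter.cofinite, ∀ hv : v ∉ S, Function.Bijective (AdFn.intRes Scheme.fppfPrecoverage S (CGrpSh.pts Scheme.fppfPrecoverage 𝒢) 0 hv) := by
  classical
  obtain ⟨p, hp⟩ := CharP.exists Fq
  have : Fact p.Prime := ⟨(CharP.char_is_prime_or_zero Fq p).resolve_right (CharP.char_ne_zero_of_finite Fq p)⟩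
  have : CharP K p := charP_of_injective_ringHom (algebraMap Fq K).injective p
  have : ExpChar Fq p := ExpChar.prime Fact.out
  have : PerfectRing Fq p := inferInstance
  have : Infinite (RatFunc Fq) := Infinite.of_injective _ (IsFractionRing.injective (Polynomial Fq) (RatFunc Fq))
  have : Infinite K := Infinite.of_injective _ (algebraMap (RatFunc Fq) K).injective
  have : 𝒢.left.IsSeparated := ⟨by
    rw [← Limits.terminal.comp_from 𝒢.hom]; infer_instance⟩
  have : Mono (e.hom ≫ j) := mono_comp _ _
  have hspan : ∀ π : K, (∀ y : K, y ^ p ≠ π) → AdelePts32.PSpans p π := fun π hπ =>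
    AdelePts32.pSpans (k := Fq) hπ
  have hfin : ∀ (E : Type u) [Field E] [Algebra K E] [CharP E p] (π : K),
      (∀ y : E, y ^ p ≠ algebraMap K E π) →
      Finite (AdFn.specOf ((algebraMap K E).comp (AdFn.SInt.toK S)) ⟶ 𝒢) := by
    intro E _ _ _ π hE
    have hπK : ∀ y : K, y ^ p ≠ π := fun y hy => hE (algebraMap K E y) (by rw [← map_pow, hy])
    have := AdelePts32.isReduced_tensor π (hspan π hπK) E hE k'
    exact AdelePts32.finite_points Scheme.fppfPrecoverage (AdFn.SInt.toK S) 𝒢 B' (e.hom ≫ j)
  let : ∀ v : FunFld.Place Fq K, Field (AdFn.Kv v) := fun v => inferInstance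
  let : ∀ v : FunFld.Place Fq K, Algebra K (AdFn.Kv v) := fun v => inferInstance
  have hmain := AdelePts32.eventually_points_integral (p := p) (AdFn.SInt.toK S) 𝒢 hspan hfin
    (ι := FunFld.Place Fq K) AdFn.Kv (AdFn.SInt.toKv S) (fun v r => rfl) (fun v => by
      obtain ⟨π, hπ⟩ := v.2.2 (WithZero.exp (-1))
      refine ⟨π, fun y hy => ?_⟩
      have h1 := congrArg Valued.v hy
      rw [map_pow, show algebraMap K (AdFn.Kv v) π = AdFn.toKv v π from rfl, AdFn.valued_toKv, hπ] at h1
      have h2 : Valued.v y ≠ 0 := fun h => by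
        rw [h, zero_pow (Fact.out : p.Prime).ne_zero] at h1; exact WithZero.exp_ne_zero h1.symm
      rw [← WithZero.exp_log h2, ← WithZero.exp_nsmul, WithZero.exp_inj, nsmul_eq_mul] at h1
      have := Int.eq_one_or_neg_one_of_mul_eq_neg_one h1
      have := (Fact.out : p.Prime).two_le
      omega)
    (fun v => AdFn.Ov v) (fun a => by
      rw [Filter.eventually_cofinite]
      refine (AdelePts32.finite_poles a).subset fun v hv => ?_
      exact not_le.1 fun h => hv ((AdFn.toKv_mem_Ov v a).2 h))
  filter_upwards [hmain] with v hv hvS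
  have hpt : ∀ {U U' : Over (Spec (CommRingCat.of (AdFn.SInt S)))} (g : U' ⟶ U)
      (x : BigSite.HU Scheme.fppfPrecoverage (CGrpSh.pts Scheme.fppfPrecoverage 𝒢) 0 U),
      Additive.toMul (HU32.sectEq _ _ U' (HRes.resHU Scheme.fppfPrecoverage _ 0 g x)).down =
        g ≫ Additive.toMul (HU32.sectEq _ _ U x).down := fun g x =>
    congrArg (fun t => Additive.toMul t.down) (HU32.sectEq_resHU Scheme.fppfPrecoverage _ g x)
  refine ⟨fun x x' h => ?_, fun x => ?_⟩
  · apply (HU32.sectEq _ _ _).injective
    refine ULift.ext _ _ (Additive.toMul.injective (Over.OverMorphism.ext ?_))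
    refine AdelePts32.hom_ext_of_jointlyInjective (fun _ : PUnit.{1} => (AdFn.Ov v).subtype)
      (fun a ha => Subtype.ext (ha PUnit.unit)) fun _ => ?_
    have h1 := congrArg (fun t => Additive.toMul (HU32.sectEq Scheme.fppfPrecoverage (CGrpSh.pts Scheme.fppfPrecoverage 𝒢) (AdFn.specOf (AdFn.SInt.toKv S v)) t).down) h
    have h1 := (hpt (AdFn.intResHom S hvS) x).symm.trans (h1.trans (hpt (AdFn.intResHom S hvS) x'))
    exact congrArg (fun t : AdFn.specOf (AdFn.SInt.toKv S v) ⟶ 𝒢 => t.left) h1
  · obtain ⟨y, hy⟩ := hv (fun r => (AdFn.toKv_mem_Ov v r.1).2 (r.2 v hvS))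
      (Additive.toMul (HU32.sectEq _ _ _ x).down)
    refine ⟨(HU32.sectEq _ _ (AdFn.specOf (AdFn.SInt.toOv S hvS))).symm (ULift.up (Additive.ofMul y)), ?_⟩
    apply (HU32.sectEq _ _ _).injective
    refine ULift.ext _ _ (Additive.toMul.injective ((hpt _ _).trans ?_))
    rw [AddEquiv.apply_symm_apply]
    exact hy

end Groth.Agent.S14574
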