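import Groth.Statements.S1458
import Mathlib

set_option autoImplicit false
universe u
open FlatMor

namespace Groth.Agent.S1458

open TensorProduct in
/-- Let A → B be a finite ring map of finite presentation. Then there are a finitely presented A-algebra
A_u and an idempotent e_u of B ⊗_A A_u such that for every A-algebra A' and every idempotent e of B
⊗_A A' there is an A-algebra map A_u → A' whose induced map B ⊗ A_u → B ⊗ A' sends e_u to e. -/
theorem result {A B : Type u} [CommRing A] [CommRing B] [Algebra A B] [Module.Finite A B] [Algebra.FinitePresentation A B] :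
    ∃ (Au : Type u) (_ : CommRing Au) (_ : Algebra A Au) (eu : B ⊗[A] Au), Algebra.FinitePresentation A Au ∧ IsIdempotentElem eu ∧
      ∀ (A' : Type u) [CommRing A'] [Algebra A A'] (e : B ⊗[A] A'), IsIdempotentElem e →
        ∃ φ : Au →ₐ[A] A', Algebra.TensorProduct.map (AlgHom.id A B) φ eu = e := by
  classical
  have : Module.FinitePresentation A B := Module.FinitePresentation.of_finite_of_finitePresentation A B
  obtain ⟨n, π, hπ⟩ := Module.Finite.exists_fin' A B
  obtain ⟨S, hS⟩ := Module.FinitePresentation.fg_ker π hπ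
  let b : Fin n → B := fun i => π (Pi.single i 1)
  have hπb : ∀ v : Fin n → A, π v = ∑ i, v i • b i := fun v => by
    conv_lhs => rw [pi_eq_sum_univ v, map_sum]
    refine Finset.sum_congr rfl fun i _ => ?_
    rw [map_smul]
    congr 2
    ext j
    simp [Pi.single_apply, eq_comm]
  choose c hc using fun ij : Fin n × Fin n => hπ (b ij.1 * b ij.2)
  let σ := Fin n ⊕ {r // r ∈ S}
  let P := MvPolynomial σ A
  let x : Fin n → P := fun i => MvPolynomial.X (Sum.inl i)
  let y : {r // r ∈ S} → P := fun l => MvPolynomial.X (Sum.inr l)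
  let eqn : Fin n → P := fun k =>
    ∑ ij : Fin n × Fin n, c ij k • (x ij.1 * x ij.2) - x k - ∑ l : {r // r ∈ S}, l.1 k • y l
  let I : Ideal P := Ideal.span (Set.range eqn)
  let q : P →ₐ[A] P ⧸ I := Ideal.Quotient.mkₐ A I
  have hq : ∀ k, q (eqn k) = 0 := fun k => Ideal.Quotient.eq_zero_iff_mem.mpr (Ideal.subset_span ⟨k, rfl⟩)
  have hbs : ∀ (v : Fin n → A) {M : Type u} [CommRing M] [Algebra A M] (a : M),
      (π v) ⊗ₜ[A] a = ∑ k, b k ⊗ₜ[A] (v k • a) := fun v M _ _ a => by
    rw [hπb, TensorProduct.sum_tmul]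
    simp [TensorProduct.smul_tmul]
  have hsq : ∀ {M : Type u} [CommRing M] [Algebra A M] (a : Fin n → M),
      (∑ i, b i ⊗ₜ[A] a i) * (∑ i, b i ⊗ₜ[A] a i) = ∑ k, b k ⊗ₜ[A] (∑ ij : Fin n × Fin n, c ij k • (a ij.1 * a ij.2)) := by
    intro M _ _ a
    simp only [TensorProduct.tmul_sum]
    rw [Finset.sum_comm, Fintype.sum_prod_type, Finset.sum_mul_sum]
    refine Finset.sum_congr rfl fun i _ => Finset.sum_congr rfl fun j _ => ?_
    rw [Algebra.TensorProduct.tmul_mul_tmul, ← hc (i, j), hbs]
  have hπS : ∀ l : {r // r ∈ S}, π l.1 = 0 := fun l => by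
    have : l.1 ∈ LinearMap.ker π := hS ▸ Submodule.subset_span l.2
    exact this
  refine ⟨P ⧸ I, inferInstance, inferInstance, ∑ i, b i ⊗ₜ[A] q (x i),
    Algebra.FinitePresentation.quotient (Submodule.fg_span (Set.finite_range eqn)), ?_, ?_⟩
  · show _ * _ = _
    rw [hsq]
    have h1 : ∀ k, (∑ ij : Fin n × Fin n, c ij k • (q (x ij.1) * q (x ij.2))) =
        q (x k) + ∑ l : {r // r ∈ S}, l.1 k • q (y l) := fun k => by
      have := hq k
      simp only [eqn, map_sub, map_sum, map_smul, map_mul] at this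
      linear_combination this
    simp only [h1, TensorProduct.tmul_add, Finset.sum_add_distrib, TensorProduct.tmul_sum]
    rw [add_eq_left, Finset.sum_comm]
    refine Finset.sum_eq_zero fun l _ => ?_
    exact (hbs l.1 (q (y l))).symm.trans (by rw [hπS, TensorProduct.zero_tmul])
  · intro A' _ _ e he
    obtain ⟨a, rfl⟩ : ∃ a : Fin n → A', e = ∑ i, b i ⊗ₜ[A] a i := by
      clear he
      induction e using TensorProduct.induction_on with
      | zero => exact ⟨0, by simp⟩
      | add u v hu hv =>
        obtain ⟨s, rfl⟩ := hu; obtain ⟨t, rfl⟩ := hv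
        exact ⟨s + t, by simp [TensorProduct.tmul_add, Finset.sum_add_distrib]⟩
      | tmul u v =>
        obtain ⟨w, rfl⟩ := hπ u
        exact ⟨fun k => w k • v, hbs w v⟩
    let v : Fin n → A' := fun k => (∑ ij : Fin n × Fin n, c ij k • (a ij.1 * a ij.2)) - a k
    have hv : ∑ k, b k ⊗ₜ[A] v k = 0 := by
      simp only [v, TensorProduct.tmul_sub, Finset.sum_sub_distrib, ← hsq]
      rw [sub_eq_zero]
      exact he
    obtain ⟨d, hd⟩ : ∃ d : {r // r ∈ S} → A', ∀ k, v k = ∑ l : {r // r ∈ S}, l.1 k • d l := by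
      let Q : ({r // r ∈ S} → A) →ₗ[A] Fin n → A := Fintype.linearCombination A (fun l => l.1)
      have hex : Function.Exact Q π := by
        rw [LinearMap.exact_iff, ← hS, Fintype.range_linearCombination]
        simp
      have hexT := rTensor_exact A' hex hπ
      have hz : π.rTensor A' (∑ k, (Pi.single k 1 : Fin n → A) ⊗ₜ[A] v k) = 0 := by
        simpa only [map_sum, LinearMap.rTensor_tmul] using hv
      obtain ⟨w, hw⟩ := (hexT _).mp hz
      have hcoord : ∀ k, ∃ χ : (Fin n → A) ⊗[A] A' →ₗ[A] A', ∀ f m, χ (f ⊗ₜ m) = f k • m := fun k =>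
        ⟨TensorProduct.lift ((LinearMap.lsmul A A').comp (LinearMap.proj k)), fun f m => rfl⟩
      choose χ hχ using hcoord
      have hlin : ∀ w : ({r // r ∈ S} → A) ⊗[A] A', ∃ d : {r // r ∈ S} → A', ∀ k, χ k (Q.rTensor A' w) = ∑ l : {r // r ∈ S}, l.1 k • d l := by
        intro w
        induction w using TensorProduct.induction_on with
        | zero => exact ⟨0, fun k => by simp⟩
        | add s t hs ht =>
          obtain ⟨ds, hds⟩ := hs; obtain ⟨dt, hdt⟩ := ht
          exact ⟨ds + dt, fun k => by simp [hds, hdt, Finset.sum_add_distrib]⟩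
        | tmul g m =>
          refine ⟨fun l => g l • m, fun k => ?_⟩
          rw [LinearMap.rTensor_tmul, hχ]
          simp only [Q, Fintype.linearCombination_apply, Finset.sum_apply, Pi.smul_apply, smul_eq_mul, Finset.sum_smul]
          exact Finset.sum_congr rfl fun l _ => by rw [mul_comm, mul_smul]
      obtain ⟨d, hd⟩ := hlin w
      refine ⟨d, fun k => ?_⟩
      rw [← hd, hw, map_sum]
      simp [hχ, Pi.single_apply]
    let ev : P →ₐ[A] A' := MvPolynomial.aeval (Sum.elim a d)
    have hevx : ∀ i, ev (x i) = a i := fun i => MvPolynomial.aeval_X _ _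
    have hevy : ∀ l, ev (y l) = d l := fun l => MvPolynomial.aeval_X _ _
    refine ⟨Ideal.Quotient.liftₐ I ev fun p hp => ?_, ?_⟩
    · refine RingHom.mem_ker.mp ((Ideal.span_le (I := RingHom.ker ev.toRingHom)).mpr ?_ hp)
      rintro _ ⟨k, rfl⟩
      show ev (eqn k) = 0
      have h2 : ∑ ij : Fin n × Fin n, c ij k • (a ij.1 * a ij.2) - a k - ∑ l : {r // r ∈ S}, l.1 k • d l = 0 :=
        sub_eq_zero.mpr (hd k)
      simp only [eqn, map_sub, map_sum, map_smul, map_mul, hevx, hevy]
      exact h2
    · simp only [map_sum, Algebra.TensorProduct.map_tmul, AlgHom.id_apply]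
      refine Finset.sum_congr rfl fun i _ => ?_
      congr 1
      exact hevx i

end Groth.Agent.S1458
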