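import Groth.Statements.S14587
import Groth.Agent.AlgGrp79.SmoothDescent

set_option autoImplicit false
universe u
open CategoryTheory MonoidalCategory CartesianMonoidalCategory MonObj GrpObj AlgebraicGeometry CategoryTheory.Limits
open AlgGrp

namespace Groth.Agent.S14587
open Groth.Agent.AlgGrp79 CategoryTheory.Limits
open scoped commutatorElement

/-- Let k be a perfect field and G a finite k-group scheme, r : G_red → G its reduced subgroup scheme (a
homomorphism and closed immersion from a reduced k-group scheme, surjective on underlying spaces)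
and i₀ : G⁰ → G its neutral component (a homomorphism and open immersion from a connected k-group
scheme). Then the multiplication morphism G_red × G⁰ → G is an isomorphism, exhibiting G as the
semi-direct product of G⁰ by G_red. -/
theorem result (k : Type u) [Field k] [PerfectField k]
    (G Gr G₀ : Over (Spec (CommRingCat.of k))) [GrpObj G] [GrpObj Gr] [GrpObj G₀] [IsFinite G.hom]
    (r : Gr ⟶ G) [IsMonHom r] [IsClosedImmersion r.left] [IsReduced Gr.left] [Surjective r.left]
    (i₀ : G₀ ⟶ G) [IsMonHom i₀] [IsOpenImmersion i₀.left] [ConnectedSpace ↥G₀.left] :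
    IsIso ((r ⊗ₘ i₀) ≫ μ[G]) := by
  have : IsFinite Gr.hom := by rw [← Over.w r]; infer_instance
  have : IsLocallyArtinian (Spec (CommRingCat.of k)) := Scheme.isLocallyArtinianScheme_Spec.2 inferInstance
  have : IsLocallyArtinian Gr.left := IsLocallyArtinian.of_locallyQuasiFinite Gr.hom
  have : DiscreteTopology ↥Gr.left := IsLocallyArtinian.discreteTopology
  have : Mono r := Over.mono_of_mono_left r
  have : Mono i₀ := Over.mono_of_mono_left i₀
  have hdiscG : DiscreteTopology ↥G.left := by
    have : IsLocallyArtinian G.left := IsLocallyArtinian.of_locallyQuasiFinite G.hom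
    exact IsLocallyArtinian.discreteTopology
  have htriv : ∀ (T : Over (Spec (CommRingCat.of k))) (n : T ⟶ Gr) (n' : T ⟶ G₀), n ≫ r = n' ≫ i₀ → n = 1 := by
    intro T n n' hn
    let V : Gr.left.Opens := r.left ⁻¹ᵁ i₀.left.opensRange
    have hsub : ∀ a b : Gr.left, a ∈ V → b ∈ V → a = b := by
      intro a b ha hb
      apply r.left.isClosedEmbedding.injective
      exact (isPreconnected_range i₀.left.continuous).subsingleton ha hb
    have hone : ∀ z : ↥(𝟙_ (Over (Spec (CommRingCat.of k)))).left, (η[Gr]).left z ∈ V := by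
      intro z
      refine ⟨(η[G₀]).left z, ?_⟩
      show i₀.left ((η[G₀]).left z) = r.left ((η[Gr]).left z)
      rw [← Scheme.Hom.comp_apply, ← Scheme.Hom.comp_apply, ← Over.comp_left, ← Over.comp_left, IsMonHom.one_hom, IsMonHom.one_hom]
    let V' : Over (Spec (CommRingCat.of k)) := Over.mk (V.ι ≫ Gr.hom)
    let ιV : V' ⟶ Gr := Over.homMk V.ι rfl
    have : Mono ιV.left := inferInstanceAs (Mono V.ι)
    have : Mono ιV := Over.mono_of_mono_left ιV
    have hlift : ∀ {Z : Over (Spec (CommRingCat.of k))} (z : Z ⟶ Gr), (∀ p, z.left p ∈ V) → ∃ w : Z ⟶ V', w ≫ ιV = z := by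
      intro Z z hz
      have hr : Set.range z.left ⊆ Set.range V.ι := by
        rintro _ ⟨p, rfl⟩; rw [Scheme.Opens.range_ι]; exact hz p
      exact ⟨Over.homMk (IsOpenImmersion.lift V.ι z.left hr) (by
        rw [← Over.w z]
        exact (IsOpenImmersion.lift_fac_assoc V.ι z.left hr Gr.hom)), by ext : 1; exact IsOpenImmersion.lift_fac _ _ hr⟩
    obtain ⟨s, hs⟩ := hlift (η[Gr]) hone
    have : IsAffine Gr.left := isAffine_of_isAffineHom Gr.hom
    have : IsSeparated (V'.hom) := inferInstanceAs (IsSeparated (V.ι ≫ Gr.hom))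
    have : IsIso (𝟙_ (Over (Spec (CommRingCat.of k)))).hom := inferInstanceAs (IsIso (𝟙 _))
    have : IsClosedImmersion s.left := by
      have h1 : IsClosedImmersion (s.left ≫ V'.hom) := by rw [Over.w]; infer_instance
      exact IsClosedImmersion.of_comp s.left V'.hom
    have : Surjective s.left := ⟨fun p => ⟨IsLocalRing.closedPoint k, Subtype.ext (hsub _ _ (s.left _).2 p.2)⟩⟩
    have : IsReduced V'.left := inferInstanceAs (IsReduced (V : Scheme.{u}))
    have : IsIso s.left := isIso_of_isClosedImmersion_of_surjective _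
    have : IsIso ((Over.forget _).map s) := ‹IsIso s.left›
    have : IsIso s := isIso_of_reflects_iso s (Over.forget _)
    obtain ⟨w, hw⟩ := hlift n (fun p => ⟨n'.left p, by
      show i₀.left (n'.left p) = r.left (n.left p)
      rw [← Scheme.Hom.comp_apply, ← Scheme.Hom.comp_apply, ← Over.comp_left, ← Over.comp_left, hn]⟩)
    rw [← hw, Hom.one_def, ← toUnit_unique (w ≫ inv s) (toUnit T), Category.assoc, ← hs, IsIso.inv_hom_id_assoc]
  let m : Gr ⊗ G₀ ⟶ G := (r ⊗ₘ i₀) ≫ μ[G]
  have hm : ∀ {T : Over (Spec (CommRingCat.of k))} (p : T ⟶ Gr ⊗ G₀), p ≫ m = (p ≫ fst _ _ ≫ r) * (p ≫ snd _ _ ≫ i₀) := by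
    intro T p
    rw [Hom.mul_def, ← Category.assoc]
    congr 1
    ext : 1 <;> simp
  have : Mono m := ⟨fun {T} p q hpq => by
    rw [hm, hm] at hpq
    have h1 : ((q ≫ fst _ _)⁻¹ * (p ≫ fst _ _)) ≫ r = ((q ≫ snd _ _) * (p ≫ snd _ _)⁻¹) ≫ i₀ := by
      rw [MonObj.mul_comp, MonObj.mul_comp, GrpObj.inv_comp, GrpObj.inv_comp]
      simp only [Category.assoc]
      rw [inv_mul_eq_iff_eq_mul, ← _root_.mul_assoc, eq_mul_inv_iff_mul_eq]
      exact hpq
    have h2 := htriv T _ _ h1
    rw [inv_mul_eq_one] at h2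
    ext : 1
    · exact h2.symm
    · rw [← cancel_mono i₀, Category.assoc, Category.assoc]
      have h3 : p ≫ fst _ _ ≫ r = q ≫ fst _ _ ≫ r := by rw [← Category.assoc, ← Category.assoc, h2]
      rw [h3] at hpq
      exact mul_left_cancel hpq⟩
  let sh : Gr ⊗ G ≅ Gr ⊗ G :=
    { hom := lift (fst _ _) ((fst _ _ ≫ r) * snd _ _)
      inv := lift (fst _ _) ((fst _ _ ≫ r)⁻¹ * snd _ _)
      hom_inv_id := by ext : 1 <;> simp [MonObj.comp_mul, GrpObj.comp_inv]
      inv_hom_id := by ext : 1 <;> simp [MonObj.comp_mul, GrpObj.comp_inv] }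
  have hfac : m = (Gr ◁ i₀) ≫ sh.hom ≫ snd Gr G := by
    rw [lift_snd, MonObj.comp_mul, whiskerLeft_fst_assoc, whiskerLeft_snd]
    simpa using hm (𝟙 (Gr ⊗ G₀))
  have hflat : Flat m.left := by
    have : Flat (snd Gr G).left := MorphismProperty.pullback_snd (P := @Flat) _ _ inferInstance
    have : IsOpenImmersion (Gr ◁ i₀).left :=
      MorphismProperty.of_isPullback (P := @IsOpenImmersion) (isPullback_left (whiskerLeft_isPullback Gr i₀).flip) ‹_›
    have : IsIso sh.hom.left := ((Over.forget _).mapIso sh).isIso_hom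
    rw [hfac, Over.comp_left, Over.comp_left]; infer_instance
  have : LocallyOfFiniteType (Gr ⊗ G₀).hom := by
    have : LocallyOfFiniteType (fst Gr G₀).left := MorphismProperty.pullback_fst (P := @LocallyOfFiniteType) _ _ (by
      rw [← Over.w i₀]; infer_instance)
    rw [← Over.w (fst Gr G₀)]; infer_instance
  have : LocallyOfFinitePresentation m.left := lfp_left m
  have : Mono m.left := Over.mono_left_of_mono m
  have : IsOpenImmersion m.left := IsOpenImmersion.of_flat_of_mono m.left
  have : Surjective m.left := by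
    let c : Gr ⟶ Gr ⊗ G₀ := lift (𝟙 Gr) 1
    have hc : c ≫ m = r := by rw [hm]; simp [c]
    have : Surjective (c.left ≫ m.left) := by rw [← Over.comp_left, hc]; infer_instance
    exact Surjective.of_comp c.left m.left
  have : Epi m.left.base := (TopCat.epi_iff_surjective _).2 m.left.surjective
  have : IsIso m.left := IsOpenImmersion.isIso _
  have : IsIso ((Over.forget _).map m) := ‹IsIso m.left›
  exact isIso_of_reflects_iso m (Over.forget _)
end Groth.Agent.S14587
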