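import Groth.Statements.S14606
import Mathlib

set_option autoImplicit false
universe u
open FrobAlg
open scoped TensorProduct

namespace Groth.Agent.S14606

/-- Let k be a field of characteristic p > 0 and R a finitely generated commutative k-algebra. The
scheme-theoretic image of the n-th relative Frobenius morphism of Spec R is the spectrum of the
k-subalgebra k[R^(p^n)] generated by all p^n-th powers; for n large enough this image is
geometrically reduced: there is an n such that k[R^(p^n)] is a geometrically reduced k-algebra.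
(Stated in affine, ring-theoretic form.) -/
theorem result (k : Type u) [Field k] (p : ℕ) [Fact p.Prime] [CharP k p]
    (R : Type u) [CommRing R] [Algebra k R] [Algebra.FiniteType k R] :
    ∃ n : ℕ, Algebra.IsGeometricallyReduced k ↥(Algebra.adjoin k (Set.range (fun x : R => x ^ (p ^ n)))) := by
  classical
  let K := AlgebraicClosure k
  let S := K ⊗[k] R
  have : IsNoetherianRing S := Algebra.FiniteType.isNoetherianRing K S
  obtain ⟨m, hm⟩ := IsNoetherianRing.isNilpotent_nilradical S
  refine ⟨m, ?_⟩
  rw [Algebra.isGeometricallyReduced_field_iff]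
  set A := Algebra.adjoin k (Set.range (fun x : R => x ^ (p ^ m))) with hA
  set q := p ^ m with hq
  let ι : K ⊗[k] A →ₐ[k] S := Algebra.TensorProduct.map (AlgHom.id k K) A.val
  have hι : Function.Injective ι :=
    Module.Flat.lTensor_preserves_injective_linearMap A.val.toLinearMap Subtype.val_injective
  refine ⟨fun z hz => hι ?_⟩
  rw [map_zero]
  rcases subsingleton_or_nontrivial S with hS | hS
  · exact Subsingleton.elim _ _
  have : CharP K p := charP_of_injective_algebraMap (algebraMap k K).injective p
  have : CharP S p := charP_of_injective_algebraMap (algebraMap K S).injective p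
  have hq0 : 0 < q := pow_pos (Fact.out : p.Prime).pos m
  have hK : ∀ c : K, ∃ d : K, d ^ q = c := fun c => IsAlgClosed.exists_pow_nat_eq c hq0
  -- the `q`-th powers form a `k`-subalgebra of `S`
  let Q : Subalgebra k S :=
    { carrier := {s | ∃ t, t ^ q = s}
      mul_mem' := by rintro a b ⟨s, rfl⟩ ⟨t, rfl⟩; exact ⟨s * t, mul_pow s t q⟩
      add_mem' := by rintro a b ⟨s, rfl⟩ ⟨t, rfl⟩; exact ⟨s + t, add_pow_char_pow s t p m⟩
      algebraMap_mem' := fun r => by
        obtain ⟨d, hd⟩ := hK (algebraMap k K r)
        exact ⟨algebraMap K S d, by rw [← map_pow, hd, ← IsScalarTower.algebraMap_apply]⟩ }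
  have hQ : ∀ w, ι w ∈ Q := by
    intro w
    induction w using TensorProduct.induction_on with
    | zero => rw [map_zero]; exact Q.zero_mem
    | add a b ha hb => rw [map_add]; exact Q.add_mem ha hb
    | tmul c a =>
      have h1 : (c ⊗ₜ[k] (1 : R) : S) ∈ Q := by
        obtain ⟨d, hd⟩ := hK c
        exact ⟨d ⊗ₜ[k] 1, by rw [Algebra.TensorProduct.tmul_pow, hd, one_pow]⟩
      have h2 : ((1 : K) ⊗ₜ[k] (a : R) : S) ∈ Q := by
        have hle : A ≤ Q.comap (Algebra.TensorProduct.includeRight : R →ₐ[k] S) := by
          rw [hA, Algebra.adjoin_le_iff]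
          rintro _ ⟨x, rfl⟩
          exact ⟨(1 : K) ⊗ₜ[k] x, (Algebra.TensorProduct.tmul_pow (1 : K) x q).trans (by rw [one_pow]; rfl)⟩
        exact hle a.2
      have := Q.mul_mem h1 h2
      rw [Algebra.TensorProduct.tmul_mul_tmul, mul_one, one_mul] at this
      exact this
  obtain ⟨t, ht⟩ := hQ z
  have htn : IsNilpotent t := by
    obtain ⟨j, hj⟩ := hz.map ι
    exact ⟨q * j, by rw [pow_mul, ht, hj]⟩
  have h0 : t ^ m = 0 := by
    have := Ideal.pow_mem_pow (mem_nilradical.2 htn) m
    rwa [hm, Ideal.zero_eq_bot, Ideal.mem_bot] at this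
  rw [← ht]
  exact pow_eq_zero_of_le (Nat.lt_pow_self (Fact.out : p.Prime).one_lt).le h0

end Groth.Agent.S14606
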