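import Groth.Statements.S14607
import Groth.Agent.Desc59.Pic.SwanScheme
import Mathlib.AlgebraicGeometry.AffineSpace
import Mathlib.Algebra.MvPolynomial.Equiv

set_option autoImplicit false
universe u
open CategoryTheory AlgebraicGeometry CategoryTheory.Limits
open PicF

namespace Groth.Agent.S14607

/-- Let k be a field and X an integral, separated k-scheme of finite type which is seminormal, in the
sense that every point has an affine open neighbourhood whose ring of functions is seminormal (x³ =
y² implies x = a² and y = a³ for exactly one a). Then the pull-back along the first projection X ×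
A¹ → X induces a bijection from the isomorphism classes of invertible O_X-modules onto those of
invertible modules on X × A¹, i.e. Pic(X) → Pic(X × A¹) is an isomorphism. (This is the assertion
established in the course of the published proof, which deduces from it that the Picard variety of a
geometrically semi-normal proper variety is semi-abelian; semi-normality is taken in the
ring-theoretic form used by the cited input on Picard groups of polynomial rings.) -/
theorem result (k : Type u) [Field k]
    (X : Scheme.{u}) (f : X ⟶ Spec (CommRingCat.of k)) [IsIntegral X] [IsSeparated f] [LocallyOfFiniteType f] [QuasiCompact f]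
    (hX : HTop.IsSeminormal X) :
    Set.BijOn (PicF.pullCl (pullback.fst f (𝔸(PUnit.{u + 1}; Spec (CommRingCat.of k)) ↘ Spec (CommRingCat.of k))))
      {c : PicF.Cl X | PicF.IsInvertibleCl c}
      {c : PicF.Cl (pullback f (𝔸(PUnit.{u + 1}; Spec (CommRingCat.of k)) ↘ Spec (CommRingCat.of k))) | PicF.IsInvertibleCl c} := by
  haveI : X.IsSeparated := ⟨by rw [← terminal.comp_from f]; infer_instance⟩
  let R := CommRingCat.of k
  let u : MvPolynomial PUnit.{u + 1} k ≃ₐ[k] Polynomial k := MvPolynomial.uniqueAlgEquiv k PUnit.{u + 1}
  let φ : 𝔸(PUnit.{u + 1}; Spec R) ≅ Spec (CommRingCat.of (Polynomial k)) :=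
    AffineSpace.SpecIso PUnit.{u + 1} R ≪≫ Scheme.Spec.mapIso (u.toRingEquiv.symm.toCommRingCatIso).op
  have hφ : φ.hom ≫ Spec.map (CommRingCat.ofHom (Polynomial.C : k →+* Polynomial k)) =
      (𝔸(PUnit.{u + 1}; Spec R) ↘ Spec R) := by
    have h1 : CommRingCat.ofHom (Polynomial.C : k →+* Polynomial k) ≫
        CommRingCat.ofHom u.toRingEquiv.symm.toRingHom = CommRingCat.ofHom (MvPolynomial.C) := by
      exact CommRingCat.hom_ext (RingHom.ext fun a => u.symm.commutes a)
    have h2 := AffineSpace.SpecIso_inv_over (n := PUnit.{u + 1}) R
    rw [Iso.inv_comp_eq] at h2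
    rw [h2, ← h1, Spec.map_comp]
    simp [φ]
  have hP : IsPullback (pullback.fst f (𝔸(PUnit.{u + 1}; Spec R) ↘ Spec R))
      (pullback.snd f (𝔸(PUnit.{u + 1}; Spec R) ↘ Spec R) ≫ φ.hom) f
      (Spec.map (CommRingCat.ofHom (Polynomial.C : k →+* Polynomial k))) :=
    (IsPullback.of_hasPullback f _).of_iso (Iso.refl _) (Iso.refl _) φ (Iso.refl _) (by simp) (by simp) (by simp)
      (by simp [hφ])
  exact Groth.Agent.Desc59.Pic.bijOn_pullCl hP hX

end Groth.Agent.S14607
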