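import Groth.Statements.S1461
import Mathlib
import Groth.Agent.NearGen2.Approx
import Groth.Agent.NearGen2.GeomReduced

set_option autoImplicit false
set_option linter.style.haveILetI false
set_option linter.style.longLine false
universe u
open FlatMor

namespace Groth.Agent.S1461

open AlgebraicGeometry Groth.Agent.NearGen2
open CategoryTheory

open AlgebraicGeometry CategoryTheory Limits in
/-- Let f : X → S be a morphism of finite presentation between affine schemes whose fibres are
geometrically reduced. Then f is the base change of a morphism of finite type f₀ : X₀ → S₀ between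
affine schemes with S₀ of finite type over ℤ, where f₀ can be chosen with the same property. -/
theorem result {X S : Scheme.{u}} (f : X ⟶ S) [IsAffine X] [IsAffine S] [LocallyOfFinitePresentation f] [GeometricallyReduced f] :
    ∃ (X₀ S₀ : Scheme.{u}) (f₀ : X₀ ⟶ S₀) (g : S ⟶ S₀) (g' : X ⟶ X₀), IsAffine X₀ ∧ IsAffine S₀ ∧ IsPullback g' f f₀ g ∧
      Algebra.FiniteType ℤ Γ(S₀, ⊤) ∧ LocallyOfFiniteType f₀ ∧ GeometricallyReduced f₀ := by
  obtain ⟨X₀, S₀, f₀, g, g', h1, h2, h3, h4, h5, h6⟩ := exists_approx isFieldStable_geomReduced
    (fun {X' S'} k _ _ _ => by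
      have : QuasiCompact k := HasAffineProperty.iff_of_isAffine.mpr (by infer_instance)
      exact isLocallyConstructible_geomReduced k)
    f (fun s => inferInstance)
  exact ⟨X₀, S₀, f₀, g, g', h1, h2, h3, h4, h5,
    ⟨geometrically_iff_forall_fiberToSpecResidueField.mpr fun s => (h6 s).geometrically_isReduced⟩⟩

end Groth.Agent.S1461
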