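import Groth.Statements.S14610
import Groth.Agent.CAlg26.KerFibre

set_option autoImplicit false
universe u v
open CAlg

open TensorProduct

namespace Groth.Agent.S14610

open TensorProduct in
/-- Let A be a reduced Noetherian ring, M a finitely generated A-module, F a finitely generated free
A-module and δ : M → F an A-linear map such that the function p ↦ dim_{κ(p)} ker(δ ⊗ κ(p)) is
locally constant on Spec A. Then M, ker δ and coker δ = F / im δ are projective A-modules, and for
every A-module N the natural map (ker δ) ⊗ N → M ⊗ N is injective with image equal to the kernel of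
δ ⊗ N. -/
theorem result (A : Type u) [CommRing A]
    [IsNoetherianRing A] [IsReduced A] (M : Type v) (F : Type v) [AddCommGroup M] [Module A M]
    [Module.Finite A M] [AddCommGroup F] [Module A F] [Module.Finite A F] [Module.Free A F]
    (δ : M →ₗ[A] F)
    (h : IsLocallyConstant (fun x : PrimeSpectrum A =>
      Module.finrank x.asIdeal.ResidueField
        (LinearMap.ker (δ.baseChange x.asIdeal.ResidueField)))) :
    Module.Projective A M ∧ Module.Projective A (LinearMap.ker δ) ∧
      Module.Projective A (F ⧸ LinearMap.range δ) ∧
      ∀ (N : Type v) [AddCommGroup N] [Module A N],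
        Function.Injective (LinearMap.rTensor N (LinearMap.ker δ).subtype) ∧
        Function.Exact (LinearMap.rTensor N (LinearMap.ker δ).subtype) (LinearMap.rTensor N δ) := by
  rcases subsingleton_or_nontrivial A with hA | hA
  · haveI : ∀ (X : Type v) [AddCommGroup X] [Module A X], Subsingleton X := fun X _ _ =>
      Module.subsingleton A X
    exact ⟨inferInstance, inferInstance, inferInstance, fun N _ _ => by
      haveI : Subsingleton (M ⊗[A] N) := Module.subsingleton A _
      haveI : Subsingleton (LinearMap.ker δ ⊗[A] N) := Module.subsingleton A _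
      exact ⟨Function.injective_of_subsingleton _, fun z =>
        ⟨fun _ => ⟨0, Subsingleton.elim _ _⟩, fun _ => Subsingleton.elim (α := F ⊗[A] N) (h := Module.subsingleton A _) _ _⟩⟩⟩
  have hsum : ∀ x : PrimeSpectrum A, _ := fun x => CAlg26.finrank_ker_add δ x.asIdeal.ResidueField
  simp only [Module.finrank_baseChange] at hsum
  have hu₁ := CAlg26.upperSemicontinuous_finrank_fibre A M
  have hu₂ := CAlg26.upperSemicontinuous_finrank_fibre A (F ⧸ LinearMap.range δ)
  have hloc : ∀ z, _ := fun z => FCx40.eventually_eq_of_usc_of_add_eq hu₁ hu₂ (z := z)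
    ((h.eventually_eq z).mono fun x hx => by
      have e1 := hsum x
      have e2 := hsum z
      omega)
  haveI hM : Module.Projective A M := CAlg26.projective_of_isLocallyConstant A M
    ((IsLocallyConstant.iff_eventually_eq _).2 fun z => (hloc z).1)
  haveI hQ : Module.Projective A (F ⧸ LinearMap.range δ) :=
    CAlg26.projective_of_isLocallyConstant A _
    ((IsLocallyConstant.iff_eventually_eq _).2 fun z => (hloc z).2)
  obtain ⟨l, hl⟩ := ((Function.Exact.split_tfae (LinearMap.exact_subtype_mkQ (LinearMap.range δ))
    (Submodule.injective_subtype _) (Submodule.mkQ_surjective _)).out 0 1).mp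
    (Module.projective_lifting_property _ _ (Submodule.mkQ_surjective _))
  haveI : Module.Projective A (LinearMap.range δ) := Module.Projective.of_split _ l hl
  obtain ⟨m, hm⟩ := ((Function.Exact.split_tfae (CAlg26.exact_ker_rangeRestrict δ)
    (Submodule.injective_subtype _) δ.surjective_rangeRestrict).out 0 1).mp
    (Module.projective_lifting_property _ _ δ.surjective_rangeRestrict)
  haveI : Module.Projective A (LinearMap.ker δ) := Module.Projective.of_split _ m hm
  refine ⟨hM, inferInstance, hQ, fun N _ _ => ?_⟩
  refine ⟨Function.HasLeftInverse.injective ⟨m.rTensor N, fun z => ?_⟩, fun z => ?_⟩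
  · rw [← LinearMap.comp_apply, ← LinearMap.rTensor_comp, hm, LinearMap.rTensor_id, LinearMap.id_apply]
  · have hinj : Function.Injective ((LinearMap.range δ).subtype.rTensor N) :=
      Function.HasLeftInverse.injective ⟨l.rTensor N, fun w => by
        rw [← LinearMap.comp_apply, ← LinearMap.rTensor_comp, hl, LinearMap.rTensor_id, LinearMap.id_apply]⟩
    have e : δ.rTensor N z = (LinearMap.range δ).subtype.rTensor N (δ.rangeRestrict.rTensor N z) := by
      rw [← LinearMap.comp_apply, ← LinearMap.rTensor_comp]; rfl
    rw [e, map_eq_zero_iff _ hinj]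
    exact rTensor_exact N (CAlg26.exact_ker_rangeRestrict δ) δ.surjective_rangeRestrict z

end Groth.Agent.S14610
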