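import Groth.Statements.S14611
import Groth.Agent.FCx40.Loci

set_option autoImplicit false
universe u
open FlatCx

namespace Groth.Agent.S14611

open CategoryTheory CategoryTheory.Limits in
/-- Let A be a Noetherian ring, Q a cochain complex whose terms are finitely generated projective
A-modules, and d an integer such that H^p(Q) = 0 for every p < d and H^p(Q ⊗_A A/m) = 0 for every p
< d and every maximal ideal m of A. Then Q^d / im(Q^{d-1} → Q^d), the degree-d term of the
truncation τ_{≥ d} Q, is a projective A-module, so that τ_{≥ d} Q is again a complex of projective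
modules. (The published statement also asserts that Q → τ_{≥ d} Q is a quasi-isomorphism when H^p(Q)
= 0 for p < d; this row omits that clause.) -/
theorem result (A : Type u) [CommRing A] [IsNoetherianRing A]
    (Q : CochainComplex (ModuleCat.{u} A) ℤ)
    (hQ : ∀ i, Module.Finite A (Q.X i) ∧ Module.Projective A (Q.X i)) (d : ℤ)
    (h1 : ∀ p < d, IsZero (Q.homology p))
    (h2 : ∀ (m : Ideal A) [m.IsMaximal], ∀ p < d,
      IsZero ((CohIII.tensorObj Q (ModuleCat.of A (A ⧸ m))).homology p)) :
    Module.Projective A (Q.opcycles d) := by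
  have := (hQ (d - 1)).1
  have := (hQ d).1
  have := (hQ d).2
  have := Module.finitePresentation_of_projective A (Q.X d)
  have hprev : (ComplexShape.up ℤ).prev d = d - 1 := ComplexShape.prev_eq' _ (sub_add_cancel d 1)
  have : Module.Flat A (Q.X d ⧸ LinearMap.range (Q.d (d - 1) d).hom) := by
    refine FCx40.flat_coker_of_lift _ fun m _ w hw => ?_
    let K := CohIII.tensorObj Q (ModuleCat.of A (A ⧸ m))
    have : Subsingleton (K.homology (d - 1)) := ModuleCat.subsingleton_of_isZero (h2 m (d - 1) (by omega))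
    have hx : TensorProduct.comm A (A ⧸ m) (Q.X (d - 1)) w ∈ LinearMap.ker (K.d (d - 1) d).hom := by
      show (Q.d (d - 1) d).hom.rTensor (A ⧸ m) _ = 0
      rw [FCx40.rTensor_comm, hw, map_zero]
    obtain ⟨v, hv⟩ := (FCx40.hcls_eq_zero_iff (K := K) (i := d - 1 - 1)
      (ComplexShape.prev_eq' _ (sub_add_cancel (d - 1) 1)) (ComplexShape.next_eq' _ (sub_add_cancel d 1))
      ⟨_, hx⟩).mp (Subsingleton.elim _ _)
    replace hv : (Q.d (d - 1 - 1) (d - 1)).hom.rTensor (A ⧸ m) v = TensorProduct.comm A _ _ w := hv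
    obtain ⟨v', rfl⟩ := (TensorProduct.comm A (A ⧸ m) (Q.X (d - 1 - 1))).surjective v
    rw [FCx40.rTensor_comm] at hv
    obtain ⟨v₀, hv₀⟩ : ∃ v₀, (1 : A ⧸ m) ⊗ₜ[A] v₀ = v' :=
      TensorProduct.mk_surjective A _ (A ⧸ m) Ideal.Quotient.mk_surjective v'
    refine ⟨(Q.d (d - 1 - 1) (d - 1)).hom v₀,
      ConcreteCategory.congr_hom (Q.d_comp_d (d - 1 - 1) (d - 1) d) v₀, ?_⟩
    rw [← (TensorProduct.comm A (A ⧸ m) (Q.X (d - 1))).injective hv, ← hv₀, LinearMap.lTensor_tmul]
  have : Module.FinitePresentation A (Q.X d ⧸ LinearMap.range (Q.d (d - 1) d).hom) :=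
    Module.finitePresentation_of_finite A _
  have := Module.freeLocus_eq_univ_iff.mp (Module.freeLocus_eq_univ (R := A)
    (M := Q.X d ⧸ LinearMap.range (Q.d (d - 1) d).hom))
  exact Module.Projective.of_equiv (FCx40.opcyclesEquiv Q hprev)

end Groth.Agent.S14611
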