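import Groth.Statements.S14614
import Mathlib.AlgebraicGeometry.Morphisms.FlatMono
import Mathlib.AlgebraicGeometry.Morphisms.FinitePresentation
import Mathlib.AlgebraicGeometry.Morphisms.Immersion
import Mathlib.RingTheory.Filtration
import Mathlib.RingTheory.HopkinsLevitzki

set_option autoImplicit false
universe u
open Mor

namespace Groth.Agent.S14614

open AlgebraicGeometry CategoryTheory CategoryTheory.Limits

/-- Artinian quotients of a Noetherian local ring. -/
lemma exists_artinian (R : CommRingCat.{u}) [IsLocalRing R] [IsNoetherianRing R] (n : ℕ) :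
    ∃ (A : CommRingCat.{u}) (_ : IsArtinianRing A) (_ : IsLocalRing A) (φ : R ⟶ A),
      IsLocalHom φ.hom ∧ ∀ a, φ a = 0 → a ∈ IsLocalRing.maximalIdeal R ^ (n + 1) := by
  let J := IsLocalRing.maximalIdeal R ^ (n + 1)
  haveI : Nontrivial (R ⧸ J) := Ideal.Quotient.nontrivial_iff.2 fun h =>
    (IsLocalRing.maximalIdeal.isMaximal R).ne_top
      (top_le_iff.1 (h.symm.le.trans (Ideal.pow_le_self (by omega))))
  haveI : IsLocalRing (R ⧸ J) := IsLocalRing.of_surjective' (Ideal.Quotient.mk J) Ideal.Quotient.mk_surjective
  haveI : IsArtinianRing (R ⧸ J) := by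
    rw [isArtinianRing_iff_isNilpotent_maximalIdeal]
    exact ⟨n + 1, by
      rw [← IsLocalRing.map_maximalIdeal_of_surjective (Ideal.Quotient.mk J) Ideal.Quotient.mk_surjective,
        ← Ideal.map_pow, Ideal.map_quotient_self, Ideal.zero_eq_bot]⟩
  exact ⟨CommRingCat.of (R ⧸ J), inferInstanceAs (IsArtinianRing (R ⧸ J)),
    inferInstanceAs (IsLocalRing (R ⧸ J)), CommRingCat.ofHom (Ideal.Quotient.mk J),
    IsLocalHom.of_surjective _ Ideal.Quotient.mk_surjective, fun a ha => Ideal.Quotient.eq_zero_iff_mem.1 ha⟩

/-- An immersion lifts morphisms from reduced schemes with image in its range. -/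
lemma exists_lift {X Y T : Scheme.{u}} (f : Y ⟶ X) [IsImmersion f] [IsReduced T] (g : T ⟶ X)
    (h : Set.range g ⊆ Set.range f) : ∃ l : T ⟶ Y, l ≫ f = g := by
  haveI hs : Surjective (pullback.snd f g) := ⟨fun t => by
    obtain ⟨y, hy⟩ := h ⟨t, rfl⟩
    obtain ⟨z, -, hz⟩ := Scheme.Pullback.exists_preimage_pullback y t hy
    exact ⟨z, hz⟩⟩
  haveI : IsClosedImmersion (pullback.snd f g) :=
    IsClosedImmersion.of_isPreimmersion _ (by rw [hs.surj.range_eq]; exact isClosed_univ)
  haveI := isIso_of_isClosedImmersion_of_surjective (pullback.snd f g)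
  exact ⟨inv (pullback.snd f g) ≫ pullback.fst f g, by
    rw [Category.assoc, pullback.condition, IsIso.inv_hom_id_assoc]⟩


open CategoryTheory AlgebraicGeometry in
/-- Let S be a locally Noetherian scheme and i : Z → S a closed immersion with the following property:
for every Artinian local ring A with residue field k and every morphism g : Spec A → S, if the
restriction Spec k → Spec A → S of g factors through i then so does g. Then i is also an open
immersion, i.e. the closed subscheme Z is open in S as a subscheme. (The published hypothesis is an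
equivalence; its other direction always holds, so this row assumes only the implication.) -/
theorem result (S : Scheme.{u}) [IsLocallyNoetherian S]
    {Z : Scheme.{u}} (i : Z ⟶ S) [IsClosedImmersion i]
    (h : ∀ (A : Type u) [CommRing A] [IsArtinianRing A] [IsLocalRing A] (g : Spec (CommRingCat.of A) ⟶ S),
      (∃ t : Spec (CommRingCat.of (IsLocalRing.ResidueField A)) ⟶ Z,
          t ≫ i = Spec.map (CommRingCat.ofHom (IsLocalRing.residue A)) ≫ g) →
        ∃ g' : Spec (CommRingCat.of A) ⟶ Z, g' ≫ i = g) :
    IsOpenImmersion i := by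
  haveI : Flat i := by
    rw [Flat.iff_flat_stalkMap]
    intro z
    refine RingHom.Flat.of_bijective ⟨?_, i.stalkMap_surjective z⟩
    rw [injective_iff_map_eq_zero]
    intro a ha
    have key : ∀ n : ℕ, a ∈ IsLocalRing.maximalIdeal (S.presheaf.stalk (i z)) ^ (n + 1) := by
      intro n
      obtain ⟨A, _, _, φ, _, hφ⟩ := exists_artinian (S.presheaf.stalk (i z)) n
      let g : Spec A ⟶ S := Spec.map φ ≫ S.fromSpecStalk (i z)
      let k₀ : Spec (CommRingCat.of (IsLocalRing.ResidueField A)) := IsLocalRing.closedPoint _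
      let o : Spec A := IsLocalRing.closedPoint A
      have ho : g o = i z := by
        show (Spec.map φ ≫ S.fromSpecStalk (i z)) o = i z
        rw [Scheme.Hom.comp_apply]
        exact (congrArg _ (IsLocalRing.comap_closedPoint φ.hom)).trans Scheme.fromSpecStalk_closedPoint
      have hr : Set.range (Spec.map (CommRingCat.ofHom (IsLocalRing.residue A)) ≫ g) ⊆ Set.range i := by
        rintro _ ⟨q, rfl⟩
        haveI := q.isPrime
        obtain rfl : q = k₀ := PrimeSpectrum.ext ((Ideal.eq_bot_of_prime _).trans
          (Ideal.eq_bot_of_prime _).symm)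
        rw [Scheme.Hom.comp_apply, show Spec.map (CommRingCat.ofHom (IsLocalRing.residue A)) k₀ = o from
          IsLocalRing.comap_closedPoint (IsLocalRing.residue A), ho]
        exact ⟨z, rfl⟩
      obtain ⟨t, ht⟩ := exists_lift i _ hr
      obtain ⟨g', hg'⟩ := h A g ⟨t, ht⟩
      have hz : g' o = z := by
        apply i.isClosedEmbedding.injective
        rw [← Scheme.Hom.comp_apply, hg', ho]
      obtain ⟨ψ, hψ⟩ : ∃ ψ : Z.presheaf.stalk z ⟶ A, Spec.map ψ ≫ Z.fromSpecStalk z = g' := by
        have : ∀ z', g' o = z' → ∃ ψ : Z.presheaf.stalk z' ⟶ A, Spec.map ψ ≫ Z.fromSpecStalk z' = g' := by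
          rintro _ rfl
          exact ⟨Scheme.stalkClosedPointTo g', Scheme.Spec_stalkClosedPointTo_fromSpecStalk g'⟩
        exact this z hz
      have e : φ = i.stalkMap z ≫ ψ := by
        apply Spec.map_injective
        rw [← cancel_mono (S.fromSpecStalk (i z)), Spec.map_comp, Category.assoc,
          Scheme.SpecMap_stalkMap_fromSpecStalk, ← Category.assoc, hψ, hg']
      refine hφ a ?_
      rw [e, CommRingCat.comp_apply, ha, map_zero]
    have hinf := Ideal.iInf_pow_eq_bot_of_isLocalRing (IsLocalRing.maximalIdeal (S.presheaf.stalk (i z)))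
      (IsLocalRing.maximalIdeal.isMaximal _).ne_top
    rw [← Ideal.mem_bot, ← hinf, Submodule.mem_iInf]
    rintro (_ | n)
    · simp
    · exact key n
  exact IsOpenImmersion.of_flat_of_mono i

end Groth.Agent.S14614
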