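import Groth.Statements.S14617
import Groth.Agent.Tower27.Basic

set_option autoImplicit false
universe u
open Formal2

namespace Groth.Agent.S14617

/-- Let 0 → (G'_n) → (G_n) → (G''_n) → 0 be a short exact sequence of inverse systems of abelian groups
indexed by ℕ: maps u_n : G'_n → G_n and v_n : G_n → G''_n commuting with the transition maps, with
u_n injective, v_n surjective and ker v_n = im u_n for every n. Writing lim and lim¹ for the kernel
and cokernel of (x_n) ↦ (x_n − t_n(x_{n+1})) on the product, there is an exact sequence 0 → lim G' →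
lim G → lim G'' → lim¹ G' → lim¹ G → lim¹ G'' → 0 in which the four outer maps are the ones induced
by u and v on products and the connecting map δ sends a compatible sequence (z_n) to the class of
the unique (w_n) with u_n(w_n) = y_n − t_n(y_{n+1}), for any levelwise lift (y_n) of (z_n). -/
theorem result (G' G G'' : ℕ → Type u)
    [∀ n, AddCommGroup (G' n)] [∀ n, AddCommGroup (G n)] [∀ n, AddCommGroup (G'' n)]
    (t' : ∀ n, G' (n + 1) →+ G' n) (t : ∀ n, G (n + 1) →+ G n) (t'' : ∀ n, G'' (n + 1) →+ G'' n)
    (u : ∀ n, G' n →+ G n) (v : ∀ n, G n →+ G'' n)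
    (hu : ∀ n x, t n (u (n + 1) x) = u n (t' n x)) (hv : ∀ n x, t'' n (v (n + 1) x) = v n (t n x))
    (hinj : ∀ n, Function.Injective (u n)) (hsurj : ∀ n, Function.Surjective (v n))
    (hex : ∀ n, (v n).ker = (u n).range) :
    ∃ (α : Formal2.limZero G' t' →+ Formal2.limZero G t) (β : Formal2.limZero G t →+ Formal2.limZero G'' t'')
      (δ : Formal2.limZero G'' t'' →+ Formal2.limOne G' t')
      (ε : Formal2.limOne G' t' →+ Formal2.limOne G t) (ζ : Formal2.limOne G t →+ Formal2.limOne G'' t''),
      (∀ (x : Formal2.limZero G' t') (n : ℕ), (α x : ∀ n, G n) n = u n ((x : ∀ n, G' n) n)) ∧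
      (∀ (x : Formal2.limZero G t) (n : ℕ), (β x : ∀ n, G'' n) n = v n ((x : ∀ n, G n) n)) ∧
      (∀ (z : Formal2.limZero G'' t'') (y : ∀ n, G n) (w : ∀ n, G' n),
          (∀ n, v n (y n) = (z : ∀ n, G'' n) n) → (∀ n, u n (w n) = Formal2.towerDiff G t y n) →
            δ z = (QuotientAddGroup.mk w : Formal2.limOne G' t')) ∧
      (∀ y : ∀ n, G' n, ε (QuotientAddGroup.mk y : Formal2.limOne G' t') =
          (QuotientAddGroup.mk (fun n => u n (y n)) : Formal2.limOne G t)) ∧
      (∀ y : ∀ n, G n, ζ (QuotientAddGroup.mk y : Formal2.limOne G t) =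
          (QuotientAddGroup.mk (fun n => v n (y n)) : Formal2.limOne G'' t'')) ∧
      Function.Injective α ∧ α.range = β.ker ∧ β.range = δ.ker ∧ δ.range = ε.ker ∧ ε.range = ζ.ker ∧
      Function.Surjective ζ := by
  classical
  -- `D`, `D'`, `D''` commute with `u` and `v`
  have hDu : ∀ (a : ∀ n, G' n) n, u n (towerDiff G' t' a n) = towerDiff G t (fun k => u k (a k)) n :=
    fun a n => by
      change u n (a n - t' n (a (n + 1))) = u n (a n) - t n (u (n + 1) (a (n + 1)))
      rw [map_sub, hu]
  have hDv : ∀ (a : ∀ n, G n) n, v n (towerDiff G t a n) = towerDiff G'' t'' (fun k => v k (a k)) n :=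
    fun a n => by
      change v n (a n - t n (a (n + 1))) = v n (a n) - t'' n (v (n + 1) (a (n + 1)))
      rw [map_sub, hv]
  have hvu : ∀ n (a : G' n), v n (u n a) = 0 := fun n a => by
    have : u n a ∈ (v n).ker := hex n ▸ ⟨a, rfl⟩
    exact this
  have hker : ∀ n (b : G n), v n b = 0 → ∃ a, u n a = b := fun n b hb => by
    have : b ∈ (u n).range := hex n ▸ hb
    exact this
  choose s hs using hsurj
  have hex' : ∀ z : limZero G'' t'', ∃ w : ∀ n, G' n,
      ∀ n, u n (w n) = towerDiff G t (fun k => s k ((z : ∀ n, G'' n) k)) n := fun z => by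
    have hw : ∀ n, ∃ a, u n a = towerDiff G t (fun k => s k ((z : ∀ n, G'' n) k)) n := fun n => hker n _ (by
      rw [hDv]
      simp only [hs]
      exact congrFun (show towerDiff G'' t'' (z : ∀ n, G'' n) = 0 from z.2) n)
    choose w hw using hw
    exact ⟨w, hw⟩
  choose w₀ hw₀ using hex'
  have key : ∀ (z : limZero G'' t'') (y : ∀ n, G n) (w : ∀ n, G' n),
      (∀ n, v n (y n) = (z : ∀ n, G'' n) n) → (∀ n, u n (w n) = towerDiff G t y n) →
        (QuotientAddGroup.mk (w₀ z) : limOne G' t') = QuotientAddGroup.mk w := by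
    intro z y w hy hw
    have : ∀ n, ∃ a, u n a = y n - s n ((z : ∀ n, G'' n) n) := fun n =>
      hker n _ (by rw [map_sub, hy, hs, sub_self])
    choose a ha using this
    rw [QuotientAddGroup.eq]
    refine ⟨a, funext fun n => hinj n ?_⟩
    rw [hDu, funext ha, Pi.add_apply, map_add, Pi.neg_apply, map_neg, hw, hw₀]
    change towerDiff G t (y - fun k => s k ((z : ∀ n, G'' n) k)) n = _
    rw [map_sub, Pi.sub_apply, neg_add_eq_sub]
  let α : limZero G' t' →+ limZero G t := AddMonoidHom.mk'
    (fun x => ⟨fun n => u n ((x : ∀ n, G' n) n), funext fun n => by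
      rw [← hDu, show towerDiff G' t' (x : ∀ n, G' n) = 0 from x.2]
      exact map_zero _⟩)
    (fun x y => Subtype.ext (funext fun n => map_add (u n) _ _))
  let β : limZero G t →+ limZero G'' t'' := AddMonoidHom.mk'
    (fun x => ⟨fun n => v n ((x : ∀ n, G n) n), funext fun n => by
      rw [← hDv, show towerDiff G t (x : ∀ n, G n) = 0 from x.2]
      exact map_zero _⟩)
    (fun x y => Subtype.ext (funext fun n => map_add (v n) _ _))
  let δ : limZero G'' t'' →+ limOne G' t' := AddMonoidHom.mk'
    (fun z => QuotientAddGroup.mk (w₀ z)) fun z z' => by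
      rw [← QuotientAddGroup.mk_add]
      refine key (z + z') (fun k => s k ((z : ∀ n, G'' n) k) + s k ((z' : ∀ n, G'' n) k)) _
        (fun n => by rw [map_add, hs, hs]; rfl) fun n => ?_
      rw [Pi.add_apply, map_add, hw₀, hw₀, ← Pi.add_apply, ← map_add]
      rfl
  let ε : limOne G' t' →+ limOne G t := QuotientAddGroup.map _ _
    (AddMonoidHom.mk' (fun y n => u n (y n)) fun a b => funext fun n => map_add (u n) _ _) (by
      rintro _ ⟨a, rfl⟩
      exact ⟨fun k => u k (a k), funext fun n => (hDu a n).symm⟩)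
  let ζ : limOne G t →+ limOne G'' t'' := QuotientAddGroup.map _ _
    (AddMonoidHom.mk' (fun y n => v n (y n)) fun a b => funext fun n => map_add (v n) _ _) (by
      rintro _ ⟨a, rfl⟩
      exact ⟨fun k => v k (a k), funext fun n => (hDv a n).symm⟩)
  refine ⟨α, β, δ, ε, ζ, fun _ _ => rfl, fun _ _ => rfl, fun z y w hy hw => key z y w hy hw,
    fun _ => rfl, fun _ => rfl, ?_, ?_, ?_, ?_, ?_, ?_⟩
  · intro x y hxy
    exact Subtype.ext (funext fun n => hinj n (congrFun (congrArg Subtype.val hxy) n))
  · refine le_antisymm ?_ ?_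
    · rintro _ ⟨x, rfl⟩
      exact Subtype.ext (funext fun n => hvu n _)
    · intro x hx
      have hx' : ∀ n, ∃ a, u n a = (x : ∀ n, G n) n := fun n =>
        hker n _ (congrFun (congrArg Subtype.val hx) n)
      choose a ha using hx'
      refine ⟨⟨a, funext fun n => hinj n ?_⟩, Subtype.ext (funext ha)⟩
      rw [hDu, funext ha, show towerDiff G t (x : ∀ n, G n) = 0 from x.2]
      exact (map_zero _).symm
  · refine le_antisymm ?_ ?_
    · rintro _ ⟨x, rfl⟩
      refine (key _ (x : ∀ n, G n) 0 (fun _ => rfl) fun n => ?_).trans (QuotientAddGroup.mk_zero _)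
      rw [Pi.zero_apply, map_zero, show towerDiff G t (x : ∀ n, G n) = 0 from x.2]
      rfl
    · intro z hz
      obtain ⟨a, ha⟩ := (QuotientAddGroup.eq_zero_iff _).mp hz
      refine ⟨⟨fun k => s k ((z : ∀ n, G'' n) k) - u k (a k), funext fun n => ?_⟩,
        Subtype.ext (funext fun n => ?_)⟩
      · change towerDiff G t ((fun k => s k ((z : ∀ n, G'' n) k)) - fun k => u k (a k)) n = 0
        rw [map_sub, Pi.sub_apply, ← hDu, ha, hw₀, sub_self]
      · change v n (s n _ - u n (a n)) = _
        rw [map_sub, hs, hvu, sub_zero]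
  · refine le_antisymm ?_ ?_
    · rintro _ ⟨z, rfl⟩
      exact (QuotientAddGroup.eq_zero_iff _).mpr
        ⟨fun k => s k ((z : ∀ n, G'' n) k), funext fun n => (hw₀ z n).symm⟩
    · intro q hq
      induction q using QuotientAddGroup.induction_on with
      | H w =>
        obtain ⟨y, hy⟩ := (QuotientAddGroup.eq_zero_iff _).mp hq
        refine ⟨⟨fun k => v k (y k), funext fun n => ?_⟩, key _ y w (fun _ => rfl) fun n => ?_⟩
        · rw [← hDv, hy]
          exact hvu n (w n)
        · exact (congrFun hy n).symm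
  · refine le_antisymm ?_ ?_
    · rintro _ ⟨q, rfl⟩
      induction q using QuotientAddGroup.induction_on with
      | H w => exact (QuotientAddGroup.eq_zero_iff _).mpr ⟨0, by
          rw [map_zero]; exact funext fun n => (hvu n (w n)).symm⟩
    · intro q hq
      induction q using QuotientAddGroup.induction_on with
      | H y =>
        obtain ⟨z, hz⟩ := (QuotientAddGroup.eq_zero_iff _).mp hq
        have : ∀ n, ∃ a, u n a = y n - towerDiff G t (fun k => s k (z k)) n := fun n => hker n _ (by
          rw [map_sub, hDv]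
          simp only [hs]
          rw [hz]
          exact sub_self _)
        choose a ha using this
        refine ⟨QuotientAddGroup.mk a, (QuotientAddGroup.eq.mpr ⟨fun k => s k (z k), funext fun n => ?_⟩)⟩
        change towerDiff G t (fun k => s k (z k)) n = -u n (a n) + y n
        rw [ha]; abel
  · intro q
    induction q using QuotientAddGroup.induction_on with
    | H z => exact ⟨QuotientAddGroup.mk fun k => s k (z k),
        congrArg QuotientAddGroup.mk (funext fun n => hs n (z n))⟩

end Groth.Agent.S14617
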