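import Groth.Statements.S14619
import Groth.Agent.Mum71.Fibre

set_option autoImplicit false
set_option synthInstance.maxHeartbeats 200000
set_option linter.style.haveILetI false
universe u
open Coherent

namespace Groth.Agent.S14619

open CategoryTheory CategoryTheory.Limits AlgebraicGeometry in
/-- Let A be a Noetherian ring, X a proper scheme over Spec A and F a coherent O_X-module flat over Spec
A. Suppose H^p(X, F) = 0 for all p > d and H^p(X_y, F|X_y) = 0 for every point y of Spec A and every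
p < d'. Then there is a cochain complex L of finitely generated projective A-modules, with L^i = 0
unless d' ≤ i ≤ d and with L = 0 when all H^p(X, F) vanish, such that for every A-algebra B and
every p the cohomology H^p(X ×_A Spec B, ξ^*F) of the pulled-back module is isomorphic to H^p(L ⊗_A
B). Only the existence of these isomorphisms of abelian groups is asserted (no naturality in B). -/
theorem result (A : Type u) [CommRing A] [IsNoetherianRing A] (X : Scheme.{u}) [X.Over (Spec (CommRingCat.of A))]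
    [IsProper (X ↘ Spec (CommRingCat.of A))] (F : X.Modules) (hF : Coh.IsCoh F)
    (hfl : FlatMod.IsFlatOver (X ↘ Spec (CommRingCat.of A)) F) (d' d : ℕ)
    (hd : ∀ p : ℕ, d < p → Subsingleton (Coh.HH X F p))
    (hd' : ∀ (y : ↑(Spec (CommRingCat.of A))) (p : ℕ), p < d' →
      Subsingleton (CohIII.fiberH (X ↘ Spec (CommRingCat.of A)) F y p)) :
    ∃ L : CochainComplex (ModuleCat.{u} A) ℤ,
      (∀ i, Module.Finite A (L.X i) ∧ Module.Projective A (L.X i)) ∧
      (∀ i : ℤ, i < (d' : ℤ) ∨ (d : ℤ) < i → IsZero (L.X i)) ∧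
      ((∀ p : ℕ, Subsingleton (Coh.HH X F p)) → ∀ i, IsZero (L.X i)) ∧
      ∀ (B : Type u) [CommRing B] [Algebra A B] (p : ℕ),
        Nonempty (Coh.HH (pullback (X ↘ Spec (CommRingCat.of A)) (Spec.map (CommRingCat.ofHom (algebraMap A B))))
            ((Scheme.Modules.pullback (pullback.fst (X ↘ Spec (CommRingCat.of A))
              (Spec.map (CommRingCat.ofHom (algebraMap A B))))).obj F) p ≃+
          CohIII.T L (p : ℤ) (ModuleCat.of A B)) := by
  have : F.IsQuasicoherent := hF.1
  obtain ⟨ι, hι, U, L₀, φ, N, hU, hU', hL, hN, hφ⟩ := Mum71.exists_model A F hF hfl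
  have hLp : ∀ i, Module.Finite A (L₀.X i) ∧ Module.Projective A (L₀.X i) := fun i =>
    ⟨(hL i).1, haveI := (hL i).2; inferInstance⟩
  have hLfl : ∀ i, Module.Flat A (L₀.X i) := fun i => haveI := (hL i).2; inferInstance
  have h0 : ∀ i : ℤ, (∀ p : ℕ, i = (p : ℤ) → Subsingleton (Coh.HH X F p)) → IsZero (L₀.homology i) := by
    intro i hi
    refine IsZero.of_iso ?_ (HomologicalComplex.homologyMapIso (Mum71.tensorSelfIso L₀) i).symm
    by_cases h : i < 0
    · exact Mum71.isZero_T_of_neg hφ _ i h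
    · obtain ⟨p, rfl⟩ : ∃ p : ℕ, i = (p : ℤ) := ⟨i.toNat, by omega⟩
      obtain ⟨e⟩ := Mum71.nonempty_hh hφ hU hU' p
      haveI := hi p rfl
      haveI : Subsingleton (CohIII.T L₀ (p : ℤ) (ModuleCat.of A A)) := e.symm.toEquiv.subsingleton
      exact ModuleCat.isZero_of_subsingleton (CohIII.T L₀ (p : ℤ) (ModuleCat.of A A))
  by_cases hall : ∀ p : ℕ, Subsingleton (Coh.HH X F p)
  · obtain ⟨K, hK, hK0, hiso⟩ := Mum71.exists_amplitude L₀ hLp N hN 0 (-1)
      (fun i _ => h0 i fun p _ => hall p) (fun m _ i hi => Mum71.isZero_T_of_neg hφ _ i hi)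
    have hK' : ∀ i, IsZero (K.X i) := fun i => hK0 i (by omega)
    refine ⟨K, hK, fun i _ => hK' i, fun _ => hK', fun B _ _ p => ?_⟩
    obtain ⟨e⟩ := Mum71.nonempty_hh_bc hU hU' hφ B p
    obtain ⟨i⟩ := hiso (ModuleCat.of A B) (p : ℤ)
    exact ⟨e.trans i.toLinearEquiv.toAddEquiv⟩
  · obtain ⟨K, hK, hK0, hiso⟩ := Mum71.exists_amplitude L₀ hLp N hN (d' : ℤ) (d : ℤ)
      (fun i hi => h0 i fun p hp => hd p (by omega))
      (fun m hm i hi => by
        by_cases h : i < 0
        · exact Mum71.isZero_T_of_neg hφ _ i h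
        · obtain ⟨p, rfl⟩ : ∃ p : ℕ, i = (p : ℤ) := ⟨i.toNat, by omega⟩
          exact Mum71.isZero_T_of_fiberH hφ hU hU' p m (fun y => hd' y p (by omega)))
    refine ⟨K, hK, hK0, fun h => absurd h hall, fun B _ _ p => ?_⟩
    obtain ⟨e⟩ := Mum71.nonempty_hh_bc hU hU' hφ B p
    obtain ⟨i⟩ := hiso (ModuleCat.of A B) (p : ℤ)
    exact ⟨e.trans i.toLinearEquiv.toAddEquiv⟩

end Groth.Agent.S14619
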