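import Groth.Statements.S1462
import Mathlib
import Groth.Agent.NearGen2.CompLocus

set_option autoImplicit false
set_option linter.style.haveILetI false
set_option linter.style.longLine false
universe u
open FlatMor

namespace Groth.Agent.S1462

open AlgebraicGeometry CategoryTheory Limits in
/-- Let f : X → S be a morphism of finite presentation between affine schemes whose fibres are
geometrically irreducible. Then f is the base change of a morphism of finite type f₀ : X₀ → S₀
between affine schemes with S₀ of finite type over ℤ, where f₀ can be chosen with the same property. -/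
theorem result {X S : Scheme.{u}} (f : X ⟶ S) [IsAffine X] [IsAffine S] [LocallyOfFinitePresentation f] [GeometricallyIrreducible f] :
    ∃ (X₀ S₀ : Scheme.{u}) (f₀ : X₀ ⟶ S₀) (g : S ⟶ S₀) (g' : X ⟶ X₀), IsAffine X₀ ∧ IsAffine S₀ ∧ IsPullback g' f f₀ g ∧
      Algebra.FiniteType ℤ Γ(S₀, ⊤) ∧ LocallyOfFiniteType f₀ ∧ GeometricallyIrreducible f₀ := by
  have hP := NearGen2.isCons_hasIrredCount.{u} 1
  obtain ⟨X₀, S₀, f₀, g, g', h1, h2, h3, h4, h5, h6⟩ :=
    NearGen2.exists_approx (P := NearGen2.HasIrredCount 1) hP.1 (fun {X' S'} q _ _ _ =>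
      NearGen2.isLocallyConstructible_locus_of_isCons hP q) f (fun s => (NearGen2.hasIrredCount_fiber_iff 1 f s).mpr
        ((NearGen2.geometricallyIrreducible_fiber_iff f s).mp inferInstance))
  refine ⟨X₀, S₀, f₀, g, g', h1, h2, h3, h4, h5, ⟨geometrically_iff_forall_fiberToSpecResidueField.mpr fun s =>
    ((NearGen2.geometricallyIrreducible_fiber_iff f₀ s).mpr
      ((NearGen2.hasIrredCount_fiber_iff 1 f₀ s).mp (h6 s))).geometrically_irreducibleSpace⟩⟩

end Groth.Agent.S1462
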