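import Groth.Statements.S14621
import Groth.Agent.Topos46.ColimSections
import Mathlib.CategoryTheory.Limits.Preserves.Basic

set_option autoImplicit false
open CategoryTheory CategoryTheory.Limits
universe u
open CohSite

namespace Groth.Agent.S14621

open Opposite

variable {C : Type u} [SmallCategory C] {J : GrothendieckTopology C} {I : Type u} [SmallCategory I]
  [IsFiltered I] {D : I ⥤ Sheaf J (Type u)} {c : Cocone (D ⋙ sheafToPresheaf J (Type u))}
  (hc : IsColimit c)

include hc in
lemma eq_iff {V : C} {i : I} (a b : (D.obj i).obj.obj (op V))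
    (h : (c.ι.app i).app (op V) a = (c.ι.app i).app (op V) b) :
    ∃ (j : I) (f : i ⟶ j), (D.map f).hom.app (op V) a = (D.map f).hom.app (op V) b :=
  (Types.FilteredColimit.isColimit_eq_iff'
    (isColimitOfPreserves ((evaluation Cᵒᵖ (Type u)).obj (op V)) hc) a b).1 h

omit [IsFiltered I] in
include hc in
lemma exists_lift {V : C} (t : c.pt.obj (op V)) :
    ∃ (i : I) (a : (D.obj i).obj.obj (op V)), (c.ι.app i).app (op V) a = t :=
  Types.jointly_surjective _ (isColimitOfPreserves ((evaluation Cᵒᵖ (Type u)).obj (op V)) hc) t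

omit [IsFiltered I] in
lemma c_w_apply {i j : I} (f : i ⟶ j) {V : C} (a : (D.obj i).obj.obj (op V)) :
    (c.ι.app j).app (op V) ((D.map f).hom.app (op V) a) = (c.ι.app i).app (op V) a :=
  ConcreteCategory.congr_hom (congr_app (c.w f) (op V)) a

omit [IsFiltered I] in
lemma transfer {i j m : I} {f : i ⟶ j} {h : j ⟶ m} {g : i ⟶ m} (e : f ≫ h = g) {V : C}
    {a b : (D.obj i).obj.obj (op V)}
    (hab : (D.map f).hom.app (op V) a = (D.map f).hom.app (op V) b) :
    (D.map g).hom.app (op V) a = (D.map g).hom.app (op V) b := by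
  subst e
  rw [Functor.map_comp]
  exact congrArg ((D.map h).hom.app (op V)) hab

variable (hJ : ∀ U : C, ToposFin.IsQCSite J U)

include hc hJ in
lemma isSeparatedFor {X : C} {S : Sieve X} (hS : S ∈ J X) :
    Presieve.IsSeparatedFor c.pt S.arrows := by
  intro x t₁ t₂ ht₁ ht₂
  obtain ⟨n, V, g, hg, hcov⟩ := hJ X S hS
  obtain ⟨i₁, a₁, rfl⟩ := exists_lift hc t₁
  obtain ⟨i₂, a₂, rfl⟩ := exists_lift hc t₂
  let a := (D.map (IsFiltered.leftToMax i₁ i₂)).hom.app (op X) a₁
  let b := (D.map (IsFiltered.rightToMax i₁ i₂)).hom.app (op X) a₂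
  choose j f hf using fun k => eq_iff hc ((D.obj _).obj.map (g k).op a) ((D.obj _).obj.map (g k).op b)
    (((c.ι.app _).naturality_apply (g k).op a).trans
      ((((congrArg (c.pt.map (g k).op) (c_w_apply _ a₁)).trans (ht₁ _ (hg k))).trans
        ((congrArg (c.pt.map (g k).op) (c_w_apply _ a₂)).trans (ht₂ _ (hg k))).symm).trans
        ((c.ι.app _).naturality_apply (g k).op b).symm))
  obtain ⟨m, q, hq⟩ := Topos46.exists_bound f
  have hsep : (D.map q).hom.app (op X) a = (D.map q).hom.app (op X) b := by
    refine (((isSheaf_iff_isSheaf_of_type _ _).1 (D.obj m).2).isSheafFor _ hcov).isSeparatedFor.ext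
      fun W h hh => ?_
    obtain ⟨k⟩ := hh
    obtain ⟨r, hr⟩ := hq k
    rw [← (D.map q).hom.naturality_apply (g k).op, ← (D.map q).hom.naturality_apply (g k).op,
      transfer hr (hf k)]
  calc (c.ι.app i₁).app (op X) a₁ = (c.ι.app _).app (op X) a := (c_w_apply (c := c) (IsFiltered.leftToMax i₁ i₂) a₁).symm
    _ = (c.ι.app m).app (op X) ((D.map q).hom.app (op X) a) := (c_w_apply (c := c) q a).symm
    _ = (c.ι.app m).app (op X) ((D.map q).hom.app (op X) b) := by rw [hsep]
    _ = (c.ι.app _).app (op X) b := c_w_apply q b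
    _ = (c.ι.app i₂).app (op X) a₂ := c_w_apply _ a₂

include hc hJ in
theorem isSheaf [HasPullbacks C] : Presheaf.IsSheaf J c.pt := by
  rw [isSheaf_iff_isSheaf_of_type]
  intro X S hS
  rw [← Presieve.isSeparatedFor_and_exists_isAmalgamation_iff_isSheafFor]
  refine ⟨isSeparatedFor hc hJ hS, fun x hx => ?_⟩
  obtain ⟨n, V, g, hg, hcov⟩ := hJ X S hS
  choose σ a ha using fun k => exists_lift hc (x (g k) (hg k))
  classical
  obtain ⟨i₀, hi₀⟩ := IsFiltered.sup_objs_exists (Finset.univ.image σ)
  have f₀ := fun k => (hi₀ (Finset.mem_image_of_mem σ (Finset.mem_univ k))).some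
  let a' := fun k => (D.map (f₀ k)).hom.app (op (V k)) (a k)
  have ha' : ∀ k, (c.ι.app i₀).app (op (V k)) (a' k) = x (g k) (hg k) :=
    fun k => (c_w_apply (f₀ k) (a k)).trans (ha k)
  choose j f hf using fun p : Fin n × Fin n => eq_iff hc
    ((D.obj i₀).obj.map (pullback.fst (g p.1) (g p.2)).op (a' p.1))
    ((D.obj i₀).obj.map (pullback.snd (g p.1) (g p.2)).op (a' p.2))
    (((c.ι.app i₀).naturality_apply (pullback.fst (g p.1) (g p.2)).op (a' p.1)).trans
      ((((congrArg (c.pt.map _) (ha' p.1)).trans (hx _ _ (hg p.1) (hg p.2) pullback.condition)).trans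
        (congrArg (c.pt.map _) (ha' p.2)).symm).trans
        ((c.ι.app i₀).naturality_apply (pullback.snd (g p.1) (g p.2)).op (a' p.2)).symm))
  obtain ⟨m, q, hq⟩ := Topos46.exists_bound f
  obtain ⟨s, hs, -⟩ := (Presieve.isSheafFor_arrows_iff_pullbacks _ _).1
    (((isSheaf_iff_isSheaf_of_type _ _).1 (D.obj m).2).isSheafFor _ hcov)
    (fun k => (D.map q).hom.app (op (V k)) (a' k)) fun k k' => by
      obtain ⟨r, hr⟩ := hq (k, k')
      rw [← (D.map q).hom.naturality_apply, ← (D.map q).hom.naturality_apply]
      exact transfer hr (hf (k, k'))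
  refine ⟨(c.ι.app m).app (op X) s, fun Y h hh => ?_⟩
  refine (isSeparatedFor hc hJ (J.pullback_stable h hcov)).ext fun W l hl => ?_
  obtain ⟨k, e, he⟩ := (Sieve.mem_ofArrows_iff _ _ _).1 hl
  rw [← hx e l (hg k) hh he.symm, ← Functor.map_comp_apply, ← op_comp, he, op_comp,
    Functor.map_comp_apply]
  refine congrArg (c.pt.map e.op) ?_
  refine ((c.ι.app m).naturality_apply (g k).op s).symm.trans ?_
  refine (congrArg ((c.ι.app m).app (op (V k))) (hs k)).trans ?_
  exact (c_w_apply q (a' k)).trans (ha' k)

/-- Let C be a small category with pullbacks and J a Grothendieck topology on C in which every object is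
quasi-compact in the site sense (every covering sieve contains finitely many morphisms which already
generate a covering sieve). Then for every small filtered category I the inclusion of sheaves of
sets on (C, J) into presheaves preserves colimits of shape I: filtered colimits of sheaves are
computed objectwise. (Only sheaves of sets are stated; the same holds for sheaves of abelian groups
or modules. All pullbacks in C are assumed.) -/
theorem result {C : Type u} [SmallCategory C]
    [HasPullbacks C] (J : GrothendieckTopology C) (hJ : ∀ U : C, ToposFin.IsQCSite J U)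
    (I : Type u) [SmallCategory I] [IsFiltered I] :
    PreservesColimitsOfShape I (sheafToPresheaf J (Type u)) where
  preservesColimit {K} := by
    let E := colimit.cocone (K ⋙ sheafToPresheaf J (Type u))
    have hE : IsColimit E := colimit.isColimit _
    let c : Cocone K :=
      { pt := ⟨E.pt, isSheaf hE hJ⟩
        ι := { app := fun i => ⟨E.ι.app i⟩
               naturality := fun i j f => Sheaf.hom_ext ((E.w f).trans (Category.comp_id _).symm) } }
    exact preservesColimit_of_preserves_colimit_cocone
      (isColimitOfReflects (sheafToPresheaf J (Type u)) (c := c) hE) hE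

end Groth.Agent.S14621
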