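import Groth.Statements.S14623
import Groth.Agent.DerAdj43.Basic
import Mathlib.Algebra.Homology.DerivedCategory.RightDerivedFunctorPlus
import Mathlib.Algebra.Homology.DerivedCategory.ExactFunctor

set_option autoImplicit false
open CategoryTheory CategoryTheory.Limits
universe w v u
open CohDer

namespace Groth.Agent.S14623

/-- Let A and B be abelian categories with enough injectives, L : A ⥤ B an exact additive functor and R
: B ⥤ A an additive right adjoint of L. Then on bounded below derived categories the functor induced
by L (written as its total right derived functor, L being exact) is left adjoint to the right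
derived functor of R; the existence of an adjunction is asserted. -/
theorem result {A B : Type u} [Category.{v} A] [Category.{v} B]
    [Abelian A] [Abelian B] [HasDerivedCategory.{w} A] [HasDerivedCategory.{w} B]
    [EnoughInjectives A] [EnoughInjectives B] {L : A ⥤ B} {R : B ⥤ A} (adj : L ⊣ R)
    [L.Additive] [R.Additive] [PreservesFiniteLimits L] [PreservesFiniteColimits L] :
    Nonempty (L.rightDerivedFunctorPlus ⊣ R.rightDerivedFunctorPlus) := by
  have hinv : (HomotopyCategory.Plus.quasiIso A).IsInvertedBy
      (L.mapHomotopyCategoryPlus ⋙ DerivedCategory.Plus.Qh) := fun X Y f hf => by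
    have h1 : IsIso (DerivedCategory.Qh.map ((L.mapHomotopyCategory (ComplexShape.up ℤ)).map f.hom)) := by
      have := Localization.inverts DerivedCategory.Qh _ f.hom hf
      exact (NatIso.isIso_map_iff L.mapDerivedCategoryFactorsh f.hom).1
        (inferInstanceAs (IsIso (L.mapDerivedCategory.map (DerivedCategory.Qh.map f.hom))))
    have h2 : IsIso (DerivedCategory.Plus.ι.map
        ((L.mapHomotopyCategoryPlus ⋙ DerivedCategory.Plus.Qh).map f)) := h1
    exact isIso_of_fully_faithful DerivedCategory.Plus.ι _
  have : IsIso L.rightDerivedFunctorPlusUnit :=
    Functor.isIso_of_isRightDerivedFunctor_of_inverts L.rightDerivedFunctorPlus _ hinv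
  exact ⟨Groth.Agent.DerAdj43.derivedAdj (Groth.Agent.DerAdj43.homotopyPlusAdj adj)
    (HomotopyCategory.Plus.quasiIso A) (asIso L.rightDerivedFunctorPlusUnit).symm
    R.rightDerivedFunctorPlusUnit (HomotopyCategory.Plus.localizerMorphism B)
    (HomotopyCategory.Plus.localizerMorphism_derives _)⟩

end Groth.Agent.S14623
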