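import Groth.Statements.S14624
import Groth.Agent.Henz21.FunctorApprox
-- import your own Groth.Agent.* helpers here

set_option autoImplicit false
open CategoryTheory CategoryTheory.Limits
universe u
open Hensel

namespace Groth.Agent.S14624

/-- Let A be a commutative ring, m a proper ideal of A and Â the m-adic completion. Assume the
approximation property for polynomial systems: whenever finitely many polynomials over A in finitely
many variables have a common zero â in Â, then for every c there is a common zero a in A which
agrees with â in A/m^c. Let F be a functor from A-algebras (commutative rings under A) to sets which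
preserves filtered colimits, c a natural number and ξ ∈ F(Â). Then there is η ∈ F(A) whose image in
F(A/m^c) equals the image of ξ; here π is the A-algebra map Â → A/m^c (pinned by its underlying ring
map) and ρ the A-algebra map A → A/m^c. (The published statement takes for A the henselization at a
prime ideal of an algebra of finite type over a field or over an excellent discrete valuation ring,
for which the approximation property of polynomial systems is quoted; this row carries that property
as a hypothesis and draws the published conclusion for functors.) -/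
theorem result (A : Type u) [CommRing A]
    (m : Ideal A) (hm : m ≠ ⊤)
    (hAP : ∀ (k l c : ℕ) (f : Fin l → MvPolynomial (Fin k) A) (â : Fin k → AdicCompletion m A),
      (∀ i, MvPolynomial.aeval â (f i) = 0) →
      ∃ a : Fin k → A, (∀ i, MvPolynomial.eval a (f i) = 0) ∧
        ∀ j, Ideal.Quotient.mk (m ^ c) (a j) = AdicCompletion.evalₐ m c (â j))
    (F : Under (CommRingCat.of A) ⥤ Type u)
    (hF : ∀ (J : Type u) [SmallCategory J] [IsFiltered J], PreservesColimitsOfShape J F)
    (c : ℕ)
    (π : Under.mk (CommRingCat.ofHom (algebraMap A (AdicCompletion m A))) ⟶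
      Under.mk (CommRingCat.ofHom (algebraMap A (A ⧸ m ^ c))))
    (hπ : π.right = CommRingCat.ofHom
      (AdicCompletion.evalₐ m c : AdicCompletion m A →ₐ[A] A ⧸ m ^ c).toRingHom)
    (ρ : Under.mk (𝟙 (CommRingCat.of A)) ⟶ Under.mk (CommRingCat.ofHom (algebraMap A (A ⧸ m ^ c))))
    (ξ : F.obj (Under.mk (CommRingCat.ofHom (algebraMap A (AdicCompletion m A))))) :
    ∃ η : F.obj (Under.mk (𝟙 (CommRingCat.of A))), F.map ρ η = F.map π ξ := by
  refine Groth.Agent.Henz21.approx_functor A _ _ π ρ (fun n I hI v => ?_) F hF ξ
  obtain ⟨l, f, hf⟩ := Submodule.fg_iff_exists_fin_generating_family.1 hI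
  let â : Fin n → AdicCompletion m A := fun i => v (Ideal.Quotient.mk I (MvPolynomial.X i))
  have hv : ∀ p, MvPolynomial.aeval â p = v (Ideal.Quotient.mk I p) := fun p =>
    (DFunLike.congr_fun (MvPolynomial.aeval_unique (v.comp (Ideal.Quotient.mkₐ A I))) p).symm
  obtain ⟨a, ha, hca⟩ := hAP n l c f â fun i => by
    rw [hv, Ideal.Quotient.eq_zero_iff_mem.mpr (hf ▸ Submodule.subset_span (Set.mem_range_self i)), map_zero]
  have hle : I ≤ RingHom.ker (MvPolynomial.eval a) := by
    rw [← hf]
    refine Submodule.span_le.mpr ?_
    rintro _ ⟨i, rfl⟩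
    exact ha i
  let g : (MvPolynomial (Fin n) A ⧸ I) →ₐ[A] A :=
    Ideal.Quotient.liftₐ I (MvPolynomial.aeval a) fun x hx => hle hx
  refine ⟨g, fun x => ?_⟩
  rw [hπ]
  have hρ : ∀ r : A, ρ.right r = algebraMap A (A ⧸ m ^ c) r := fun r => by
    have := congrArg (fun k => k r) (congrArg (fun k => (k : CommRingCat.of A ⟶ _).hom) (Under.w ρ))
    simpa using this
  rw [hρ]
  obtain ⟨p, rfl⟩ := Ideal.Quotient.mk_surjective x
  show Ideal.Quotient.mk (m ^ c) (MvPolynomial.aeval a p) =
    AdicCompletion.evalₐ m c (v (Ideal.Quotient.mk I p))
  rw [← hv]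
  induction p using MvPolynomial.induction_on with
  | C r => simp
  | add p q hp hq => simp only [map_add, hp, hq]
  | mul_X p i hp =>
    simp only [map_mul, hp, MvPolynomial.aeval_X]
    rw [hca]

end Groth.Agent.S14624
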