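import Groth.Statements.S14626
import Groth.Agent.Unr55.Et.CechFlasque
import Groth.Agent.Unr55.Et.BcLimits
import Mathlib.AlgebraicGeometry.PullbackCarrier

set_option autoImplicit false
open CategoryTheory CategoryTheory.Limits AlgebraicGeometry
universe u
open EtBase

set_option backward.isDefEq.respectTransparency.types false

namespace Groth.Agent.S14626

/-- For the direct image along a morphism of schemes on small étale sites; take a morphism of schemes f
: X → Y and an abelian étale sheaf F on X which is flasque in the Čech sense, i.e. for every étale U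
over X and every jointly surjective family of étale U-schemes the Čech cohomology groups of F in
positive degrees vanish. Then the direct image f_*F is flasque in the same sense on Y. The finite
products of the over categories (the fibre products entering the Čech complexes) are carried as
instance hypotheses. -/
theorem result {X Y : Scheme.{u}} (f : X ⟶ Y)
    [∀ U : X.Etale, HasFiniteProducts (Over U)] [∀ V : Y.Etale, HasFiniteProducts (Over V)]
    (F : EtCoh.Ab X)
    (hF : ∀ (U : X.Etale) (ι : Type (u + 1)) (Uf : ι → Over U),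
      (∀ x : ↥(U.left), ∃ (i : ι) (y : ↥((Uf i).left.left)), (Uf i).hom.left.base y = x) →
      ∀ p : ℕ, 0 < p → IsZero (EtCech.cechH Uf F.obj p))
    (V : Y.Etale) (ι : Type (u + 1)) (Vf : ι → Over V)
    (hV : ∀ x : ↥(V.left), ∃ (i : ι) (y : ↥((Vf i).left.left)), (Vf i).hom.left.base y = x)
    (p : ℕ) (hp : 0 < p) :
    IsZero (EtCech.cechH Vf ((EtCoh.push f).obj F).obj p) := by
  obtain ⟨q, rfl⟩ := Nat.exists_eq_add_of_le' hp
  have : PreservesLimitsOfShape WalkingCospan (EtCoh.bc f) := inferInstance
  have := Groth.Agent.Unr55.EtSh.preservesFiniteProducts_overPost (EtCoh.bc f) V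
  refine Groth.Agent.Unr55.CechFl.isZero_homology_comp (Over.post (X := V) (EtCoh.bc f)) Vf
    ((Over.forget _).op ⋙ F.obj) q (hF _ ι _ ?_ (q + 1) q.succ_pos)
  intro z
  obtain ⟨i, y, hy⟩ := hV (pullback.fst V.hom f z)
  let g := (Vf i).hom
  have e : g.left ≫ V.hom = (Vf i).left.hom := Over.w g.hom
  let m := ((Over.post (X := V) (EtCoh.bc f)).obj (Vf i)).hom.left
  have hm1 : m ≫ pullback.fst V.hom f = pullback.fst (Vf i).left.hom f ≫ g.left := pullback.lift_fst _ _ _
  have hm2 : m ≫ pullback.snd V.hom f = pullback.snd (Vf i).left.hom f := pullback.lift_snd _ _ _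
  have hpb : IsPullback (pullback.fst (Vf i).left.hom f) m g.left (pullback.fst V.hom f) :=
    IsPullback.of_bot ((congrArg₂ (fun a b => IsPullback (pullback.fst (Vf i).left.hom f) a b f) hm2 e).mpr (IsPullback.of_hasPullback _ _)) hm1.symm
      (IsPullback.of_hasPullback V.hom f)
  obtain ⟨w, -, hw⟩ := Scheme.Pullback.exists_preimage_pullback (f := g.left) (g := pullback.fst V.hom f) y z hy
  refine ⟨i, hpb.isoPullback.inv w, ?_⟩
  change (hpb.isoPullback.inv ≫ m) w = z
  rw [hpb.isoPullback_inv_snd]
  exact hw

end Groth.Agent.S14626
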