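import Groth.Statements.S14628
import Groth.Agent.Unr55.Et.CechFlasque
import Groth.Agent.Unr55.Et.Stalk

set_option autoImplicit false
open CategoryTheory CategoryTheory.Limits AlgebraicGeometry
universe u
open EtBase

set_option backward.isDefEq.respectTransparency.types false

namespace Groth.Agent.S14628

/-- On the small étale site of a scheme, let 0 → F' → F → F'' → 0 be a short exact sequence of abelian
étale sheaves on a scheme X. If F' and F are flasque in the Čech sense (for every étale U over X and
every jointly surjective family of étale U-schemes, Čech cohomology in positive degrees vanishes),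
then so is F''. The finite products of the over categories (the fibre products entering the Čech
complexes) are carried as instance hypotheses. -/
theorem result {X : Scheme.{u}}
    [∀ U : X.Etale, HasFiniteProducts (Over U)] (S : ShortComplex (EtCoh.Ab X)) (hS : S.ShortExact)
    (h1 : (∀ (U : X.Etale) (ι : Type (u + 1)) (Uf : ι → Over U),
      (∀ x : ↥(U.left), ∃ (i : ι) (y : ↥((Uf i).left.left)), (Uf i).hom.left.base y = x) →
      ∀ p : ℕ, 0 < p → IsZero (EtCech.cechH Uf S.X₁.obj p)))
    (h2 : (∀ (U : X.Etale) (ι : Type (u + 1)) (Uf : ι → Over U),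
      (∀ x : ↥(U.left), ∃ (i : ι) (y : ↥((Uf i).left.left)), (Uf i).hom.left.base y = x) →
      ∀ p : ℕ, 0 < p → IsZero (EtCech.cechH Uf S.X₂.obj p)))
    (U : X.Etale) (ι : Type (u + 1)) (Uf : ι → Over U)
    (hU : ∀ x : ↥(U.left), ∃ (i : ι) (y : ↥((Uf i).left.left)), (Uf i).hom.left.base y = x)
    (p : ℕ) (hp : 0 < p) :
    IsZero (EtCech.cechH Uf S.X₃.obj p) := by
  obtain ⟨q, rfl⟩ := Nat.exists_eq_add_of_le' hp
  open Groth.Agent.Unr55 in
  have hsurj : ∀ V : X.Etale, Function.Surjective (S.g.hom.app (Opposite.op V)) := fun V =>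
    CechFl.surjective_of_cechH_one S hS V fun T hT => by
      have hc := hT
      rw [show X.smallEtaleTopology =
        (X.smallPretopology (P := EtCoh.etaleMP) (Q := EtCoh.etaleMP)).toGrothendieck from
        Scheme.smallGrothendieckTopology_eq_toGrothendieck_smallPretopology X le_rfl] at hc
      have hc' := (Scheme.mem_toGrothendieck_smallPretopology V T).1 hc
      refine ⟨Σ W : X.Etale, {g : W ⟶ V // T.arrows g}, fun w => Over.mk w.2.1, fun w => w.2.2, ?_,
        h1 V _ _ ?_ 1 Nat.one_pos⟩
      · refine X.smallEtaleTopology.superset_covering ?_ hT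
        intro W g hg
        exact Sieve.ofArrows_mk (fun w : Σ W : X.Etale, {g : W ⟶ V // T.arrows g} => w.1) (fun w => w.2.1) ⟨W, g, hg⟩
      · intro x
        obtain ⟨W, g, y, hg, -, hy⟩ := hc' x
        exact ⟨⟨W, g, hg⟩, y, hy⟩
  exact Groth.Agent.Unr55.CechFl.isZero_homology_of_exact Uf
    (Functor.whiskerLeft (Over.forget U).op S.f.hom) (Functor.whiskerLeft (Over.forget U).op S.g.hom)
    (fun W => (Groth.Agent.Unr55.CechFl.exists_sections_preimage S hS W.unop.left 0 (map_zero _)).1)
    (fun W y hy => (Groth.Agent.Unr55.CechFl.exists_sections_preimage S hS W.unop.left y hy).2)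
    (fun W z => ConcreteCategory.congr_hom (NatTrans.congr_app (congrArg InducedCategory.Hom.hom S.zero) _) z)
    (fun W => hsurj W.unop.left) q (h2 U ι Uf hU (q + 1) q.succ_pos) (h1 U ι Uf hU (q + 2) (q + 1).succ_pos)

end Groth.Agent.S14628
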