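import Groth.Statements.S14629
import Groth.Agent.Desc59.Pic.SqZero

set_option autoImplicit false
open CategoryTheory CategoryTheory.Limits AlgebraicGeometry
universe u
open PicF

namespace Groth.Agent.S14629

/-- Let X be a scheme and I a quasi-coherent ideal sheaf of square zero defining the closed subscheme i
: X₀ → X, and suppose H¹(X, I) = 0 for the ideal regarded as an O_X-module (Zariski cohomology).
Then two invertible O_X-modules with isomorphic pullbacks to X₀ are isomorphic: restriction of
Picard groups along i is injective. (The published statement allows a nilpotent ideal with the same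
hypothesis on I alone; its proof treats the square-zero case, which is what is stated.) -/
theorem result (X : Scheme.{u}) (I : X.IdealSheafData)
    (hI : I * I = ⊥) (h1 : Subsingleton (Coh.HH X (ClSub.idealMod I) 1))
    (c d : PicF.Cl X) (hc : PicF.IsInvertibleCl c) (hd : PicF.IsInvertibleCl d)
    (h : PicF.pullCl I.subschemeι c = PicF.pullCl I.subschemeι d) : c = d := by
  obtain ⟨L, rfl, hL⟩ := hc
  obtain ⟨M, rfl, hM⟩ := hd
  have h' : PicF.cl ((Scheme.Modules.pullback I.subschemeι).obj L) =
      PicF.cl ((Scheme.Modules.pullback I.subschemeι).obj M) := h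
  have heq : Equivalence fun A B : I.subscheme.Modules => Nonempty (A ≅ B) :=
    ⟨fun _ => ⟨Iso.refl _⟩, fun ⟨e⟩ => ⟨e.symm⟩, fun ⟨e⟩ ⟨e'⟩ => ⟨e ≪≫ e'⟩⟩
  obtain ⟨e⟩ := heq.eqvGen_iff.mp (Quot.eqvGen_exact h')
  have hker : I.subschemeι.ker = I := Scheme.IdealSheafData.ker_subschemeι I
  have hi : ∀ U : X.affineOpens, I.subschemeι.ker.ideal U ^ 2 = ⊥ := fun U => by
    have := congrArg (fun J : X.IdealSheafData => J.ideal U) hI
    rw [hker, pow_two]
    simpa using this
  exact Quot.sound (Desc59.Pic.SqZero.iso_of_pullback_iso I.subschemeι hi (by rw [hker]; exact h1) hL hM e)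

end Groth.Agent.S14629
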