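import Groth.Statements.S14631

set_option autoImplicit false
set_option backward.isDefEq.respectTransparency.types false
open CategoryTheory AlgebraicGeometry
universe u
open EtBase

namespace Groth.Agent.S14631

/-- Let X be a quasi-separated scheme and U an étale X-scheme. Then there is a jointly surjective family
of étale U-schemes each of which is quasi-compact and quasi-separated, hence of finite presentation,
over X. (Sheaves on the small étale site are therefore determined by their values on étale X-schemes
of finite presentation; that equivalence is not stated here.) -/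
theorem result (X : Scheme.{u})
    [QuasiSeparatedSpace ↥X] (U : X.Etale) :
    ∃ (ι : Type u) (V : ι → Over U), (∀ i, QuasiCompact (V i).left.hom ∧ QuasiSeparated (V i).left.hom) ∧
      ∀ x : ↥(U.left), ∃ (i : ι) (y : ↥((V i).left.left)), (V i).hom.left.base y = x := by
  have : Etale U.hom := U.prop
  obtain ⟨ι, V, hV⟩ : ∃ (ι : Type u) (V : ι → U.left.Opens), (∀ i, IsAffineOpen (V i)) ∧ ∀ x, ∃ i, x ∈ V i := by
    refine ⟨↥U.left, fun x => (exists_isAffineOpen_mem_and_subset (X := U.left) (x := x) (U := ⊤) trivial).choose,
      fun x => (exists_isAffineOpen_mem_and_subset (X := U.left) (x := x) (U := ⊤) trivial).choose_spec.1,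
      fun x => ⟨x, (exists_isAffineOpen_mem_and_subset (X := U.left) (x := x) (U := ⊤) trivial).choose_spec.2.1⟩⟩
  refine ⟨ι, fun i => Over.mk (Y := Scheme.Etale.mk ((V i).ι ≫ U.hom))
    (MorphismProperty.Over.homMk (V i).ι rfl trivial), fun i => ?_, fun x => ?_⟩
  · have : IsAffine (V i).toScheme := hV.1 i
    let q : (V i).toScheme ⟶ X := (V i).ι ≫ U.hom
    exact ⟨quasiCompact_of_compactSpace q, QuasiSeparated.of_quasiSeparatedSpace q⟩
  · obtain ⟨i, hi⟩ := hV.2 x
    exact ⟨i, ⟨x, hi⟩, rfl⟩

end Groth.Agent.S14631
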