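import Groth.Statements.S14633
import Groth.Agent.AlgGrp79.Batch
import Groth.Agent.AlgGrp79.RatDense
import Groth.Agent.AlgGrp79.SepDense
import Groth.Agent.AlgGrp79.DiscreteAct

set_option autoImplicit false
universe u
open CategoryTheory MonoidalCategory CartesianMonoidalCategory MonObj GrpObj AlgebraicGeometry CategoryTheory.Limits
open AlgGrp

namespace Groth.Agent.S14633
open Groth.Agent.AlgGrp79 CategoryTheory.Limits
open scoped commutatorElement

/-- Over a field k, let G be a smooth connected k-group scheme of finite type and let Z be a reduced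
k-scheme of finite type of dimension at most 0 (for Z empty the conclusion is immediate). Then every
action of G on Z is trivial: the action morphism G × Z → Z is the second projection. -/
theorem result (k : Type u) [Field k]
    (G Z : Over (Spec (CommRingCat.of k))) [GrpObj G] [Smooth G.hom] [QuasiCompact G.hom] [ConnectedSpace ↥G.left]
    [LocallyOfFiniteType Z.hom] [QuasiCompact Z.hom] [IsReduced Z.left] (hdim : topologicalKrullDim ↥Z.left ≤ 0)
    (a : AlgGrp.Action G Z) : a.act = CartesianMonoidalCategory.snd G Z := by
  have : IsLocallyNoetherian Z.left := LocallyOfFiniteType.isLocallyNoetherian Z.hom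
  have : IsLocallyArtinian Z.left := IsLocallyArtinian.of_topologicalKrullDim_le_zero hdim
  have : DiscreteTopology ↥Z.left := IsLocallyArtinian.discreteTopology
  have : LocallyQuasiFinite Z.hom :=
    locallyQuasiFinite_iff_isDiscrete_preimage_singleton.2 fun _ => IsDiscrete.mono (isDiscrete_univ_iff.2 inferInstance) (Set.subset_univ _)
  have : IsLocallyArtinian (Spec (CommRingCat.of k)) := Scheme.isLocallyArtinianScheme_Spec.2 inferInstance
  have : IsFinite Z.hom := IsFinite.of_locallyQuasiFinite Z.hom
  have hq : LocallyQuasiFinite (fst Z Z).left := MorphismProperty.pullback_fst (P := @LocallyQuasiFinite) _ _ inferInstance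
  have : LocallyQuasiFinite (Z ⊗ Z).hom := by
    rw [← Over.w (fst Z Z)]; infer_instance
  have : IsLocallyArtinian (Z ⊗ Z).left := IsLocallyArtinian.of_locallyQuasiFinite (Z ⊗ Z).hom
  have : DiscreteTopology ↥(Z ⊗ Z).left := IsLocallyArtinian.discreteTopology
  have : GeometricallyReduced G.hom := geometricallyReduced_of_smooth' G.hom
  have : IsReduced (G ⊗ Z).left := FBase64.isReduced_pullback_of_geometricallyReduced G.hom Z.hom
  have : GeometricallyConnected G.hom := by
    have : GeometricallyConnected ((η[G]).left ≫ G.hom) := by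
      rw [Over.w]
      exact ⟨geometrically_iff_of_isClosedUnderIsomorphisms.mpr fun K _ y =>
        (Scheme.Hom.homeomorph (pullback.snd (𝟙 (Spec (CommRingCat.of k))) y)).connectedSpace_iff.mpr inferInstance⟩
    have : Nonempty ↥(𝟙_ (Over (Spec (CommRingCat.of k)))).left := inferInstanceAs (Nonempty ↥(Spec (CommRingCat.of k)))
    exact FBase64.geometricallyConnected_of_source G.hom (η[G]).left
  have : GeometricallyConnected (snd G Z).left := MorphismProperty.pullback_snd (P := @GeometricallyConnected) _ _ ‹_›
  let δ : Z ⟶ Z ⊗ Z := lift (𝟙 Z) (𝟙 Z)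
  have : IsClosedImmersion δ.left := by
    have : IsSeparated (fst Z Z).left := MorphismProperty.pullback_fst (P := @IsSeparated) _ _ inferInstance
    have : IsClosedImmersion (δ.left ≫ (fst Z Z).left) := by
      rw [← Over.comp_left, lift_fst]; exact inferInstanceAs (IsClosedImmersion (𝟙 Z.left))
    exact IsClosedImmersion.of_comp δ.left (fst Z Z).left
  let f : G ⊗ Z ⟶ Z ⊗ Z := lift a.act (snd G Z)
  let s : Z ⟶ G ⊗ Z := lift (toUnit Z ≫ η[G]) (𝟙 Z)
  have hs : s ≫ f = δ := by
    ext : 1
    · rw [Category.assoc, lift_fst, lift_fst]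
      have : s = (λ_ Z).inv ≫ (η[G] ▷ Z) := by ext : 1 <;> simp [s]
      rw [this, Category.assoc, a.one_act, Iso.inv_hom_id]
    · simp [f, s, δ]
  have hrange : Set.range f.left ⊆ Set.range δ.left := by
    rintro _ ⟨x, rfl⟩
    let z := (snd G Z).left x
    refine ⟨z, ?_⟩
    have hC := (snd G Z).left.isConnected_preimage_singleton z
    have hmem : s.left z ∈ (snd G Z).left ⁻¹' {z} := by
      show (snd G Z).left (s.left z) = z
      rw [← Scheme.Hom.comp_apply, ← Over.comp_left, lift_snd]
      rfl
    have := (hC.image f.left f.left.continuous.continuousOn).isPreconnected.subsingleton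
      ⟨_, hmem, rfl⟩ ⟨x, rfl, rfl⟩
    rw [← hs, Over.comp_left, Scheme.Hom.comp_apply]
    exact this
  obtain ⟨g, hg⟩ := exists_lift_of_range_subset δ f hrange
  have h1 := congrArg (fun t => t ≫ fst Z Z) hg
  have h2 := congrArg (fun t => t ≫ snd Z Z) hg
  simp [δ, f] at h1 h2
  rw [← h1, ← h2]
end Groth.Agent.S14633
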