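import Groth.Statements.S14638
import Groth.Agent.AlgGrp79.OpenOrbit
-- import your own Groth.Agent.* helpers here

set_option autoImplicit false
universe u
open CategoryTheory MonoidalCategory CartesianMonoidalCategory MonObj GrpObj AlgebraicGeometry CategoryTheory.Limits
open AlgGrp

namespace Groth.Agent.S14638

/-- Over a field k, let G be a smooth k-group scheme of finite type acting on a variety X (a separated,
geometrically integral k-scheme of finite type). Then X is almost homogeneous, i.e. the graph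
morphism G × X → X × X, (g, x) ↦ (x, g·x), is dominant, if and only if there is a nonempty open
subscheme U of X which is G-stable (the action restricts to an action on U) and homogeneous (the
graph morphism G × U → U × U is surjective). Moreover there is at most one such open subscheme U
(the open orbit). -/
theorem result (k : Type u) [Field k]
    (G X : Over (Spec (CommRingCat.of k))) [GrpObj G] [Smooth G.hom] [QuasiCompact G.hom]
    [IsSeparated X.hom] [LocallyOfFiniteType X.hom] [QuasiCompact X.hom] [GeometricallyIntegral X.hom]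
    (a : AlgGrp.Action G X) :
    (IsDominant (CartesianMonoidalCategory.lift (CartesianMonoidalCategory.snd G X) a.act).left ↔
      ∃ U : X.left.Opens, (U : Set ↥X.left).Nonempty ∧
        ∃ b : AlgGrp.Action G (Over.mk (U.ι ≫ X.hom)),
          (G ◁ (Over.homMk U.ι rfl : Over.mk (U.ι ≫ X.hom) ⟶ X)) ≫ a.act = b.act ≫ Over.homMk U.ι rfl ∧
          Surjective (CartesianMonoidalCategory.lift (CartesianMonoidalCategory.snd G (Over.mk (U.ι ≫ X.hom))) b.act).left) ∧
    ∀ U U' : X.left.Opens,
      ((U : Set ↥X.left).Nonempty ∧ ∃ b : AlgGrp.Action G (Over.mk (U.ι ≫ X.hom)),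
          (G ◁ (Over.homMk U.ι rfl : Over.mk (U.ι ≫ X.hom) ⟶ X)) ≫ a.act = b.act ≫ Over.homMk U.ι rfl ∧
          Surjective (CartesianMonoidalCategory.lift (CartesianMonoidalCategory.snd G (Over.mk (U.ι ≫ X.hom))) b.act).left) →
      ((U' : Set ↥X.left).Nonempty ∧ ∃ b' : AlgGrp.Action G (Over.mk (U'.ι ≫ X.hom)),
          (G ◁ (Over.homMk U'.ι rfl : Over.mk (U'.ι ≫ X.hom) ⟶ X)) ≫ a.act = b'.act ≫ Over.homMk U'.ι rfl ∧
          Surjective (CartesianMonoidalCategory.lift (CartesianMonoidalCategory.snd G (Over.mk (U'.ι ≫ X.hom))) b'.act).left) →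
      U = U' := by
  haveI : IsIntegral X.left := GeometricallyIntegral.isIntegral_of_subsingleton X.hom
  haveI : UniversallyOpen X.hom := inferInstance
  haveI : IrreducibleSpace ↥(X ⊗ X).left := inferInstanceAs (IrreducibleSpace ↥(CategoryTheory.Limits.pullback X.hom X.hom))
  refine ⟨⟨fun h => AlgGrp79.OpenOrbit.exists_open_orbit a h, ?_⟩, ?_⟩
  · rintro ⟨U, ⟨x, hx⟩, b, hb, hs⟩
    let uι : Over.mk (U.ι ≫ X.hom) ⟶ X := Over.homMk U.ι rfl
    have hsq : (G ◁ uι) ≫ lift (snd G X) a.act = lift (snd G _) b.act ≫ (uι ⊗ₘ uι) := by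
      apply CartesianMonoidalCategory.hom_ext
      · simp
      · simp only [Category.assoc, lift_snd, tensorHom_snd, lift_snd_assoc]
        exact hb
    have hr : Set.range (uι ⊗ₘ uι).left ⊆ Set.range (lift (snd G X) a.act).left := by
      rintro _ ⟨q, rfl⟩
      obtain ⟨p, rfl⟩ := hs.surj q
      exact ⟨(G ◁ uι).left p, by rw [← Scheme.Hom.comp_apply, ← Over.comp_left, hsq, Over.comp_left, Scheme.Hom.comp_apply]⟩
    have hpre : Set.range (uι ⊗ₘ uι).left = (fst X X).left ⁻¹' (U : Set X.left) ∩ (snd X X).left ⁻¹' (U : Set X.left) := by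
      have h := AlgebraicGeometry.Scheme.Pullback.range_map (f := U.ι ≫ X.hom) (g := U.ι ≫ X.hom) X.hom X.hom U.ι U.ι (𝟙 _)
        (by simp) (by simp)
      rw [Scheme.Opens.range_ι] at h
      exact h
    have hne : ((fst X X).left ⁻¹' (U : Set X.left) ∩ (snd X X).left ⁻¹' (U : Set X.left)).Nonempty :=
      ⟨(lift (𝟙 X) (𝟙 X)).left x, by
        refine ⟨?_, ?_⟩ <;> rw [Set.mem_preimage, ← Scheme.Hom.comp_apply, ← Over.comp_left]
        · simpa using hx
        · simpa using hx⟩
    have hd := ((U.isOpen.preimage (fst X X).left.continuous).inter (U.isOpen.preimage (snd X X).left.continuous)).dense hne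
    exact ⟨Dense.mono (hpre ▸ hr) hd⟩
  · have key : ∀ U U' : X.left.Opens, (U : Set X.left).Nonempty → (U' : Set X.left).Nonempty →
        (∃ b : AlgGrp.Action G (Over.mk (U.ι ≫ X.hom)),
          (G ◁ (Over.homMk U.ι rfl : Over.mk (U.ι ≫ X.hom) ⟶ X)) ≫ a.act = b.act ≫ Over.homMk U.ι rfl) →
        (∃ b' : AlgGrp.Action G (Over.mk (U'.ι ≫ X.hom)),
          (G ◁ (Over.homMk U'.ι rfl : Over.mk (U'.ι ≫ X.hom) ⟶ X)) ≫ a.act = b'.act ≫ Over.homMk U'.ι rfl ∧
          Surjective (CartesianMonoidalCategory.lift (CartesianMonoidalCategory.snd G (Over.mk (U'.ι ≫ X.hom))) b'.act).left) →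
        U' ≤ U := by
      intro U U' hU hU' ⟨b, hb⟩ ⟨b', hb', hs⟩ x hx
      obtain ⟨u, hu, hu'⟩ := (PreirreducibleSpace.isPreirreducible_univ (X := ↥X.left)) _ _ U.isOpen U'.isOpen
        (by simpa using hU) (by simpa using hU') |>.imp fun _ h => h.2
      let uι : Over.mk (U.ι ≫ X.hom) ⟶ X := Over.homMk U.ι rfl
      let uι' : Over.mk (U'.ι ≫ X.hom) ⟶ X := Over.homMk U'.ι rfl
      obtain ⟨q, hq1, hq2⟩ := Scheme.Pullback.exists_preimage_pullback (f := U'.ι ≫ X.hom) (g := U'.ι ≫ X.hom)
        (⟨u, hu'⟩ : U') (⟨x, hx⟩ : U') (Subsingleton.elim (α := PrimeSpectrum k) _ _)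
      obtain ⟨p, hp⟩ := hs.surj q
      have h1 : (snd G (Over.mk (U'.ι ≫ X.hom))).left p = ⟨u, hu'⟩ := by
        have := congr((fst (Over.mk (U'.ι ≫ X.hom)) (Over.mk (U'.ι ≫ X.hom))).left $hp)
        rw [← Scheme.Hom.comp_apply, ← Over.comp_left, lift_fst] at this
        exact this.trans hq1
      have h2 : b'.act.left p = ⟨x, hx⟩ := by
        have := congr((snd (Over.mk (U'.ι ≫ X.hom)) (Over.mk (U'.ι ≫ X.hom))).left $hp)
        rw [← Scheme.Hom.comp_apply, ← Over.comp_left, lift_snd] at this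
        exact this.trans hq2
      let P := (G ◁ uι').left p
      have hP : P ∈ Set.range (G ◁ uι).left := by
        obtain ⟨z, hz, -⟩ := Scheme.exists_preimage_of_isPullback
          (AlgGrp79.isPullback_left (AlgGrp79.whiskerLeft_isPullback G uι)) P (⟨u, hu⟩ : U) (by
            show (snd G X).left ((G ◁ uι').left p) = u
            rw [← Scheme.Hom.comp_apply, ← Over.comp_left, whiskerLeft_snd, Over.comp_left, Scheme.Hom.comp_apply, h1]
            rfl)
        exact ⟨z, hz⟩
      obtain ⟨z, hz⟩ := hP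
      have e1 : a.act.left P = x := by
        show a.act.left ((G ◁ uι').left p) = x
        rw [← Scheme.Hom.comp_apply, ← Over.comp_left, hb', Over.comp_left, Scheme.Hom.comp_apply, h2]
        rfl
      rw [← e1, ← hz, ← Scheme.Hom.comp_apply, ← Over.comp_left, hb, Over.comp_left, Scheme.Hom.comp_apply]
      exact (b.act.left z).2
    rintro U U' ⟨hU, b, hb, hs⟩ ⟨hU', b', hb', hs'⟩
    exact le_antisymm (key U' U hU' hU ⟨b', hb'⟩ ⟨b, hb, hs⟩) (key U U' hU hU' ⟨b, hb⟩ ⟨b', hb', hs'⟩)

end Groth.Agent.S14638
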