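import Groth.Statements.S1464
import Mathlib
import Groth.Agent.NearGen2.Approx
import Groth.Agent.NearGen2.GeomReduced

set_option autoImplicit false
set_option linter.style.haveILetI false
set_option linter.style.longLine false
universe u
open FlatMor

namespace Groth.Agent.S1464

open AlgebraicGeometry Groth.Agent.NearGen2
open CategoryTheory

open AlgebraicGeometry CategoryTheory Limits in
/-- Let f : X → S be a morphism of finite presentation between affine schemes all of whose fibres have
dimension d. Then f is the base change of a morphism of finite type f₀ : X₀ → S₀ between affine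
schemes with S₀ of finite type over ℤ, where f₀ can be chosen with the same property. -/
theorem result {X S : Scheme.{u}} (f : X ⟶ S) [IsAffine X] [IsAffine S] [LocallyOfFinitePresentation f] (d : ℕ) (hd : ∀ s : S, topologicalKrullDim ↑(f.fiber s) = d) :
    ∃ (X₀ S₀ : Scheme.{u}) (f₀ : X₀ ⟶ S₀) (g : S ⟶ S₀) (g' : X ⟶ X₀), IsAffine X₀ ∧ IsAffine S₀ ∧ IsPullback g' f f₀ g ∧
      Algebra.FiniteType ℤ Γ(S₀, ⊤) ∧ LocallyOfFiniteType f₀ ∧ ∀ s₀ : S₀, topologicalKrullDim ↑(f₀.fiber s₀) = d := by
  have hd0 := Groth.Agent.ConsProp93.isCons_dim.{u} ({((d : ℕ∞) : WithBot ℕ∞)} : Set (WithBot ℕ∞))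
  have hc : ConsProp.IsConsMod.{u} (fun Y T g F =>
      topologicalKrullDim ↥Y ∈ ({((d : ℕ∞) : WithBot ℕ∞)} : Set (WithBot ℕ∞))) :=
    ⟨fun Y Y' T T' g g' e k _ _ _ _ _ _ hsq F F' _ _ => hd0.1 g g' e k hsq,
      fun X' S' v _ _ _ _ F _ => hd0.2 v⟩
  exact exists_approx hd0.1
    (fun {X' S'} k _ _ _ => by
      have : QuasiCompact k := HasAffineProperty.iff_of_isAffine.mpr (by infer_instance)
      have := Groth.Agent.LimTop61.isQuasicoherent_structureModule X'
      have := Groth.Agent.LimTop61.isFP_structureModule' X'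
      exact Groth.Agent.ConsProp93.isLocallyConstructible_locusMod hc k (Coh.structureModule X'))
    f hd

end Groth.Agent.S1464
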