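import Groth.Statements.S14643
import Groth.Agent.AlgGrp79.Act
import Groth.Agent.AlgGrp79.Pullback
import Groth.Agent.AlgGrp79.Cover
import Groth.Agent.AlgGrp79.Derived

set_option autoImplicit false
universe u
open CategoryTheory MonoidalCategory CartesianMonoidalCategory MonObj GrpObj AlgebraicGeometry CategoryTheory.Limits
open AlgGrp

namespace Groth.Agent.S14643
open Groth.Agent.AlgGrp79 CategoryTheory.Limits
open scoped commutatorElement

/-- Over a field k, let G be a smooth k-group scheme of finite type acting on a variety X (a separated,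
geometrically integral k-scheme of finite type). Let n : N → G be the kernel of the action: a closed
subgroup scheme such that, for every k-scheme T, a T-point of G factors through N exactly when it
acts as the identity on all points of X over T-schemes. Let π : G → Q be a homomorphism onto a
k-group scheme of finite type which is flat and surjective with kernel N (the quotient G/N). Then
there is a unique action of Q on X inducing the given one along π; this action of Q is faithful (a
T-point of Q acting as the identity on all points of X over T-schemes is the unit); and X is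
homogeneous under G (surjective graph morphism (g, x) ↦ (x, g·x)) if and only if it is homogeneous
under Q, and almost homogeneous under G (dominant graph morphism) if and only if it is almost
homogeneous under Q. -/
theorem result (k : Type u) [Field k]
    (G N Q X : Over (Spec (CommRingCat.of k))) [GrpObj G] [Smooth G.hom] [QuasiCompact G.hom]
    [IsSeparated X.hom] [LocallyOfFiniteType X.hom] [QuasiCompact X.hom] [GeometricallyIntegral X.hom] (a : AlgGrp.Action G X)
    [GrpObj N] (n : N ⟶ G) [IsMonHom n] [IsClosedImmersion n.left]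
    (hN : ∀ (T : Over (Spec (CommRingCat.of k))) (g : T ⟶ G),
      (∃ m : T ⟶ N, m ≫ n = g) ↔
        ∀ (T' : Over (Spec (CommRingCat.of k))) (s : T' ⟶ T) (x : T' ⟶ X), CartesianMonoidalCategory.lift (s ≫ g) x ≫ a.act = x)
    [GrpObj Q] [LocallyOfFiniteType Q.hom] [QuasiCompact Q.hom] (π : G ⟶ Q) [IsMonHom π] [Flat π.left] [Surjective π.left]
    (hker : AlgGrp.IsKernel n π) :
    (∃! b : AlgGrp.Action Q X, (π ▷ X) ≫ b.act = a.act) ∧
    ∀ b : AlgGrp.Action Q X, (π ▷ X) ≫ b.act = a.act →
      (∀ (T : Over (Spec (CommRingCat.of k))) (q : T ⟶ Q),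
        (∀ (T' : Over (Spec (CommRingCat.of k))) (s : T' ⟶ T) (x : T' ⟶ X), CartesianMonoidalCategory.lift (s ≫ q) x ≫ b.act = x) → q = 1) ∧
      (Surjective (CartesianMonoidalCategory.lift (CartesianMonoidalCategory.snd G X) a.act).left ↔
        Surjective (CartesianMonoidalCategory.lift (CartesianMonoidalCategory.snd Q X) b.act).left) ∧
      (IsDominant (CartesianMonoidalCategory.lift (CartesianMonoidalCategory.snd G X) a.act).left ↔
        IsDominant (CartesianMonoidalCategory.lift (CartesianMonoidalCategory.snd Q X) b.act).left) := by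
  have hπ := isCov_of_flat_surjective π
  have hπX := hπ.whiskerRight X
  have := hπX.epi
  obtain ⟨act, hact⟩ := hπX.desc a.act fun T p p' e => by
    obtain ⟨g, x, rfl⟩ : ∃ g x, p = lift g x := ⟨p ≫ fst _ _, p ≫ snd _ _, by ext <;> simp⟩
    obtain ⟨g', x', rfl⟩ : ∃ g x, p' = lift g x := ⟨p' ≫ fst _ _, p' ≫ snd _ _, by ext <;> simp⟩
    simp only [lift_whiskerRight] at e
    have e1 : g ≫ π = g' ≫ π := by simpa using congrArg (· ≫ fst Q X) e
    have e2 : x = x' := by simpa using congrArg (· ≫ snd Q X) e
    obtain ⟨m, hm⟩ := exists_ker_of_comp_eq π n hker g g' e1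
    subst e2
    have h1 := (hN T (g⁻¹ * g')).1 ⟨m, hm.symm⟩ T (𝟙 T) x
    rw [Category.id_comp] at h1
    calc lift g x ≫ a.act = lift g (lift (g⁻¹ * g') x ≫ a.act) ≫ a.act := by rw [h1]
      _ = lift g' x ≫ a.act := by rw [← mul_act', mul_inv_cancel_left]
  have hpt : ∀ (T : Over (Spec (CommRingCat.of k))) (g : T ⟶ G) (x : T ⟶ X),
      lift (g ≫ π) x ≫ act = lift g x ≫ a.act := fun T g x => by
    rw [← lift_whiskerRight, Category.assoc, hact]
  let b : AlgGrp.Action Q X :=
  { act := act
    one_act := by
      have := hpt (𝟙_ _ ⊗ X) 1 (snd _ _)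
      rw [MonObj.one_comp, one_act', Hom.one_def, toUnit_unique (toUnit _) (fst _ _)] at this
      have e : η[Q] ▷ X = lift (fst _ _ ≫ η[Q]) (snd _ _) := by ext : 1 <;> simp
      rw [e]
      simpa [leftUnitor_hom] using this
    mul_act := by
      have := ((hπ.whiskerLeft G).comp (hπ.whiskerRight Q)).whiskerRight X |>.epi
      rw [← cancel_epi ((G ◁ π ≫ π ▷ Q) ▷ X)]
      apply hom_ext_pts3
      intro T g h x
      simp only [comp_lift_assoc, lift_whiskerLeft_assoc, lift_whiskerRight_assoc, lift_whiskerLeft,
        lift_whiskerRight, lift_lift_associator_hom_assoc]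
      rw [← Hom.mul_def, ← mul_comp', hpt, mul_act', hpt, hpt] }
  refine ⟨⟨b, hact, fun b' hb' => ?_⟩, fun b' hb' => ?_⟩
  · obtain ⟨act', _, _⟩ := b'
    have : act' = act := by rw [← cancel_epi (π ▷ X)]; exact hb'.trans hact.symm
    subst this
    rfl
  · have hb : ∀ (T : Over (Spec (CommRingCat.of k))) (g : T ⟶ G) (x : T ⟶ X),
        lift (g ≫ π) x ≫ b'.act = lift g x ≫ a.act := fun T g x => by
      rw [← lift_whiskerRight, Category.assoc, hb']
    have hL : lift (snd G X) a.act = (π ▷ X) ≫ lift (snd Q X) b'.act := by
      ext : 1 <;> simp [hb']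
    refine ⟨fun T q hq => ?_, ?_, ?_⟩
    · obtain ⟨T', c, g, hc, hg⟩ := hπ.exists_lift q
      have := hc.epi
      obtain ⟨m, hm⟩ := (hN T' g).2 fun T'' s x => by
        rw [← hb, Category.assoc, hg, ← Category.assoc]; exact hq T'' (s ≫ c) x
      rw [← cancel_epi c, ← hg, ← hm, Category.assoc, hker.w, comp_toUnit_assoc, MonObj.comp_one, Hom.one_def]
    · obtain ⟨_, _, _⟩ := hπX
      rw [hL, Over.comp_left]
      constructor
      · intro h; exact Surjective.of_comp (π ▷ X).left (lift (snd Q X) b'.act).left
      · intro h; infer_instance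
    · obtain ⟨_, _, _⟩ := hπX
      rw [hL, Over.comp_left]
      constructor
      · intro h; exact IsDominant.of_comp (π ▷ X).left (lift (snd Q X) b'.act).left
      · intro h; infer_instance
end Groth.Agent.S14643
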