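import Groth.Statements.S14645
import Groth.Agent.AlgGrp79.Homogeneous
import Groth.Agent.AlgGrp79.Batch

set_option autoImplicit false
universe u
open CategoryTheory MonoidalCategory CartesianMonoidalCategory MonObj GrpObj AlgebraicGeometry CategoryTheory.Limits
open AlgGrp

namespace Groth.Agent.S14645
open Groth.Agent.AlgGrp79 CategoryTheory.Limits
open scoped commutatorElement

/-- Over a field k with algebraic closure K, let G be a smooth k-group scheme of finite type acting on a
variety X (a separated, geometrically integral k-scheme of finite type). Then X is homogeneous under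
G, i.e. the graph morphism G × X → X × X, (g, x) ↦ (x, g·x), is surjective, if and only if the
abstract group G(K) of K-points over k acts transitively on the set X(K): for all K-points x, y of X
there is a K-point g of G with g · x = y. -/
theorem result (k : Type u) [Field k]
    (G X : Over (Spec (CommRingCat.of k))) [GrpObj G] [Smooth G.hom] [QuasiCompact G.hom]
    [IsSeparated X.hom] [LocallyOfFiniteType X.hom] [QuasiCompact X.hom] [GeometricallyIntegral X.hom] (a : AlgGrp.Action G X)
    (K : Type u) [Field K] [Algebra k K] [IsAlgClosure k K] :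
    Surjective (CartesianMonoidalCategory.lift (CartesianMonoidalCategory.snd G X) a.act).left ↔
      ∀ x y : Over.mk (Spec.map (CommRingCat.ofHom (algebraMap k K))) ⟶ X, ∃ g : Over.mk (Spec.map (CommRingCat.ofHom (algebraMap k K))) ⟶ G, CartesianMonoidalCategory.lift g x ≫ a.act = y := by
  have : IsAlgClosed K := IsAlgClosure.isAlgClosed k
  have : LocallyOfFiniteType (G ⊗ X).hom := inferInstanceAs (LocallyOfFiniteType (pullback.fst G.hom X.hom ≫ G.hom))
  have : LocallyOfFiniteType (X ⊗ X).hom := inferInstanceAs (LocallyOfFiniteType (pullback.fst X.hom X.hom ≫ X.hom))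
  have : QuasiCompact (G ⊗ X).hom := inferInstanceAs (QuasiCompact (pullback.fst G.hom X.hom ≫ G.hom))
  have : IsLocallyNoetherian (X ⊗ X).left := LocallyOfFiniteType.isLocallyNoetherian (X ⊗ X).hom
  have : QuasiCompact (X ⊗ X).hom := inferInstanceAs (QuasiCompact (pullback.fst X.hom X.hom ≫ X.hom))
  have : QuasiSeparated (X ⊗ X).hom := (HasAffineProperty.iff_of_isAffine (P := @QuasiSeparated)).2 inferInstance
  constructor
  · intro h x y
    obtain ⟨p, hp⟩ := exists_pt_lift (lift (snd G X) a.act) (lift x y)
    refine ⟨p ≫ fst G X, ?_⟩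
    have h1 : p ≫ snd G X = x := by simpa using congr($hp ≫ fst X X)
    have h2 : p ≫ a.act = y := by simpa using congr($hp ≫ snd X X)
    rw [← h2]
    congr 1
    ext : 1 <;> simp [h1]
  · intro h
    refine surjective_of_pts (K := K) _ fun q => ?_
    obtain ⟨g, hg⟩ := h (q ≫ fst X X) (q ≫ snd X X)
    refine ⟨lift g (q ≫ fst X X), ?_⟩
    ext : 1
    · simp
    · simp [hg]
end Groth.Agent.S14645
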