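import Groth.Statements.S1465
import Groth.Agent.Hopf35.Ferrand.Scheme
import Groth.Agent.Pinch2.Base

set_option autoImplicit false
universe u
open FlatMor

namespace Groth.Agent.S1465

open AlgebraicGeometry CategoryTheory Limits in
/-- Let i : Z → X be a closed immersion and j : Z → Y an integral morphism such that each fibre of j
lies in the preimage of an affine open of X. Let i' : Z' → X', j' : Z' → Y' and f : X' → X, g : Y' →
Y, h : Z' → Z form cartesian squares over i and j, with f, g, h separated and locally quasi-finite.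
Then the pushouts W of (i, j) and W' of (i', j') exist in the category of schemes, the induced W' →
W is separated and locally quasi-finite, and the squares comparing Y' → W', X' → W' with Y → W, X →
W are cartesian. -/
theorem result {X Y Z X' Y' Z' : Scheme.{u}}
    (i : Z ⟶ X) [IsClosedImmersion i] (j : Z ⟶ Y) [IsIntegralHom j]
    (h3 : ∀ y : Y, ∃ U : X.Opens, IsAffineOpen U ∧ j ⁻¹' {y} ⊆ (i ⁻¹ᵁ U : Set ↑Z))
    (i' : Z' ⟶ X') (j' : Z' ⟶ Y') (f : X' ⟶ X) (g : Y' ⟶ Y) (h : Z' ⟶ Z)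
    (hX : IsPullback h i' i f) (hY : IsPullback h j' j g)
    [IsSeparated f] [LocallyQuasiFinite f] [LocallyOfFiniteType f] [IsSeparated g] [LocallyQuasiFinite g] [LocallyOfFiniteType g]
    [IsSeparated h] [LocallyQuasiFinite h] [LocallyOfFiniteType h] :
    ∃ (W W' : Scheme.{u}) (a : Y ⟶ W) (b : X ⟶ W) (a' : Y' ⟶ W') (b' : X' ⟶ W') (k : W' ⟶ W),
      IsPushout j i a b ∧ IsPushout j' i' a' b' ∧ a' ≫ k = g ≫ a ∧ b' ≫ k = f ≫ b ∧
      IsSeparated k ∧ LocallyQuasiFinite k ∧ LocallyOfFiniteType k ∧ IsPullback g a' a k ∧ IsPullback f b' b k := by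
  haveI : IsClosedImmersion i' := MorphismProperty.of_isPullback hX ‹_›
  haveI : IsIntegralHom j' := MorphismProperty.of_isPullback hY ‹_›
  have H : Groth.Agent.Pinch2.HasPairs i j := Groth.Agent.Pinch2.hasPairs_integral h3
  have h3' : ∀ y : Y', ∃ U : X'.Opens, IsAffineOpen U ∧ j' ⁻¹' {y} ⊆ i' ⁻¹' (U : Set X') :=
    Groth.Agent.Hopf35.Ferrand.exists_affine_fibre h3 hX.w.symm hY.w.symm
  have H' : Groth.Agent.Pinch2.HasPairs i' j' := Groth.Agent.Pinch2.hasPairs_integral h3'
  obtain ⟨W, b, a, hP, -, -, -⟩ := Groth.Agent.Pinch2.exists_pushout H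
  obtain ⟨W', b', a', hP', -, -, -⟩ := Groth.Agent.Pinch2.exists_pushout H'
  have hw : i' ≫ f ≫ b = j' ≫ g ≫ a := by
    rw [← Category.assoc, ← Category.assoc, ← hX.w, ← hY.w, Category.assoc, Category.assoc, hP.w]
  let k : W' ⟶ W := hP'.desc (f ≫ b) (g ≫ a) hw
  have hb : b' ≫ k = f ≫ b := hP'.inl_desc _ _ _
  have ha : a' ≫ k = g ≫ a := hP'.inr_desc _ _ _
  haveI := Groth.Agent.Pinch2.isClosedImmersion_inr H' hP'
  haveI := Groth.Agent.Pinch2.isIntegralHom_inl H' hP'
  haveI := Groth.Agent.Pinch2.isClosedImmersion_inr H hP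
  haveI := Groth.Agent.Pinch2.isIntegralHom_inl H hP
  haveI : IsSeparated k := Groth.Agent.Pinch2.isSeparated_of_cover
    (Groth.Agent.Pinch2.jointly_surjective' H' hP') hb ha
  exact ⟨W, W', a, b, a', b', k, hP.flip, hP'.flip, ha, hb, inferInstance,
    Groth.Agent.Hopf35.Ferrand.locallyQuasiFinite_map H hP hX.flip hY.flip H' hP' hb ha,
    Groth.Agent.Hopf35.Ferrand.locallyOfFiniteType_map H hP hX.flip hY.flip H' hP' hb ha,
    Groth.Agent.Hopf35.Ferrand.isPullback_inr H hP hX.flip hY.flip H' hP' hb ha,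
    Groth.Agent.Hopf35.Ferrand.isPullback_inl H hP hX.flip hY.flip H' hP' hb ha⟩

end Groth.Agent.S1465
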