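import Groth.Statements.S14650
import Groth.Agent.FiltBl13.ExtRees

set_option autoImplicit false
universe u
open FiltBl LaurentPolynomial Groth.Agent.FiltBl13

namespace Groth.Agent.S14650

/-- Let A be a Noetherian local ring that is a quotient of a Gorenstein ring, and F a filtration of
ideals on A (F^0 = A ⊇ F^1 ⊇ ⋯, F^i F^j ⊆ F^{i+j}) with every F^n nonzero and ⋂ F^n = 0, whose Rees
algebra ⊕_{n ≥ 0} F^n X^n is finitely generated over A and with F^1 of height at least 2
(equivalently, every F^n with n ≥ 1 has height at least 2, all F^n having the same radical). Then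
the extended Rees algebra R' = ⊕_{n ∈ ℤ} F^n T^n ⊆ A[T, T⁻¹] is a Gorenstein ring if and only if the
associated graded ring G = ⊕ F^n/F^{n+1}, realised as R'/uR' with u = T⁻¹, is a Gorenstein ring.
(The published statement is made under the further standing assumption that no nonzero element of
the Rees algebra ⊕_{n ≥ 0} F^n T^n is annihilated by a power of the ideal generated by its
homogeneous elements of positive degree; this row does not assume it, and the assertion holds
without it.) -/
theorem result (A : Type u) [CommRing A] [IsNoetherianRing A] [IsLocalRing A]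
    (S : Type u) [CommRing S] [LocCoh.IsGorensteinRing S] (π : S →+* A) (hπ : Function.Surjective π)
    (𝓕 : FiltBl.IdealFiltration A) (hne : ∀ n, 𝓕.F n ≠ ⊥) (hsep : ⨅ n, 𝓕.F n = ⊥)
    (hfg : Algebra.FiniteType A 𝓕.rees) (hht : 2 ≤ (𝓕.F 1).height) :
    LocCoh.IsGorensteinRing 𝓕.extRees ↔ LocCoh.IsGorensteinRing 𝓕.Gr := by
  have := isNoetherianRing_extRees 𝓕 hfg
  have hf1 : 𝓕.F 1 ≤ IsLocalRing.maximalIdeal A :=
    IsLocalRing.le_maximalIdeal (one_notMem_F_one 𝓕 hsep)
  have hnz := u_mem_nonZeroDivisors 𝓕
  constructor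
  · intro h
    exact gorRing_quotient' hnz
  · intro h
    have hu : ∀ (P : Ideal 𝓕.extRees) [P.IsPrime], 𝓕.u ∈ P →
        LocCoh.IsGorensteinLocalRing (Localization.AtPrime P) := fun P _ hP => by
      obtain ⟨q, hq, hqP⟩ := exists_quotient_prime 𝓕 P hP
      exact (gor_quotient_iff' hnz q P hqP).2 (h.isGorensteinLocalRing_localization q)
    have hA : LocCoh.IsGorensteinRing A :=
      { isGorensteinLocalRing_localization := fun q hq => by
          obtain ⟨_, -, _, ⟨e⟩⟩ := Qc_spec 𝓕 q
          have := Mz_isPrime 𝓕 _ hf1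
          exact gor_of_mapC q _ rfl ((Gor18.gor_congr e).1
            (gor_mono (Qc_le_Mz 𝓕 hf1 (IsLocalRing.le_maximalIdeal hq.ne_top))
              (hu _ (u_mem_Mz 𝓕 _ hf1)))) }
    refine { isGorensteinLocalRing_localization := fun P _ => ?_ }
    by_cases hP : 𝓕.u ∈ P
    · exact hu P hP
    · obtain ⟨Q, _, ⟨e⟩, -⟩ := exists_poly_prime 𝓕 P hP
      have := Gor18.gorRing_polynomial A
      exact (Gor18.gor_congr e).2 (Gor18.gor_atPrime Q _)

end Groth.Agent.S14650
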