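import Groth.Statements.S14651
import Groth.Agent.FiltBl13.ExtRees

set_option autoImplicit false
universe u
open FiltBl LaurentPolynomial Groth.Agent.FiltBl13

namespace Groth.Agent.S14651

/-- Let A be a Noetherian local ring that is a quotient of a Gorenstein ring, and F a filtration of
ideals on A (F^0 = A ⊇ F^1 ⊇ ⋯, F^i F^j ⊆ F^{i+j}) with every F^n nonzero and ⋂ F^n = 0, whose Rees
algebra ⊕_{n ≥ 0} F^n X^n is finitely generated over A and with F^1 of height at least 2
(equivalently, every F^n with n ≥ 1 has height at least 2, all F^n having the same radical). Then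
the extended Rees algebra R' = ⊕_{n ∈ ℤ} F^n T^n ⊆ A[T, T⁻¹] satisfies Serre's condition (S_2) if
and only if the associated graded ring G = ⊕ F^n/F^{n+1}, realised as R'/uR' with u = T⁻¹, satisfies
(S_1) and A satisfies (S_2). (The published statement is made under the further standing assumption
that no nonzero element of the Rees algebra ⊕_{n ≥ 0} F^n T^n is annihilated by a power of the ideal
generated by its homogeneous elements of positive degree; this row does not assume it, and the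
assertion holds without it.) -/
theorem result (A : Type u) [CommRing A] [IsNoetherianRing A] [IsLocalRing A]
    (S : Type u) [CommRing S] [LocCoh.IsGorensteinRing S] (π : S →+* A) (hπ : Function.Surjective π)
    (𝓕 : FiltBl.IdealFiltration A) (hne : ∀ n, 𝓕.F n ≠ ⊥) (hsep : ⨅ n, 𝓕.F n = ⊥)
    (hfg : Algebra.FiniteType A 𝓕.rees) (hht : 2 ≤ (𝓕.F 1).height) :
    LocCoh.HasSk 2 𝓕.extRees 𝓕.extRees ↔ (LocCoh.HasSk 1 𝓕.Gr 𝓕.Gr ∧ LocCoh.HasSk 2 A A) := by
  have := isNoetherianRing_extRees 𝓕 hfg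
  have hnz := u_mem_nonZeroDivisors 𝓕
  rw [CAlg1.hasSk_self_iff, CAlg1.hasSk_self_iff, CAlg1.hasSk_self_iff]
  constructor
  · intro h
    refine ⟨fun q _ => ?_, fun q _ => ?_⟩
    · obtain ⟨h1, h2⟩ := quotient_invariants hnz q _ rfl
      have h3 := h (q.comap (Ideal.Quotient.mk (Ideal.span {𝓕.u})))
      change _ ≤ dep _ at h3
      show _ ≤ dep q
      rw [h1, h2, show ((2 : ℕ) : ℕ∞) = ((1 : ℕ) : ℕ∞) + 1 from by norm_num,
        min_add_add_right] at h3
      exact (ENat.add_le_add_iff_right ENat.one_ne_top).1 h3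
    · obtain ⟨_, -, _, ⟨e⟩⟩ := Qc_spec 𝓕 q
      obtain ⟨h1, h2⟩ := mapC_invariants q _ rfl
      obtain ⟨h3, h4⟩ := invariants_congr e
      have h5 := h (Qc 𝓕 q)
      change _ ≤ dep _ at h5
      show _ ≤ dep q
      rwa [h3, h4, h1, h2] at h5
  · rintro ⟨hG, hA⟩ P _
    show _ ≤ dep P
    by_cases hP : 𝓕.u ∈ P
    · obtain ⟨q, _, hqP⟩ := exists_quotient_prime 𝓕 P hP
      obtain ⟨h1, h2⟩ := quotient_invariants hnz q P hqP
      rw [h1, h2, show ((2 : ℕ) : ℕ∞) = ((1 : ℕ) : ℕ∞) + 1 from by norm_num, min_add_add_right]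
      exact add_le_add (hG q) le_rfl
    · obtain ⟨Q, _, ⟨e⟩, -⟩ := exists_poly_prime 𝓕 P hP
      obtain ⟨h3, h4⟩ := invariants_congr e
      rw [h3, h4]
      exact (CAlg1.hasSk_self_iff 2).1 (hasSk_polynomial 2 ((CAlg1.hasSk_self_iff 2).2 hA)) Q

end Groth.Agent.S14651
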