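import Groth.Statements.S14652
import Groth.Agent.FiltBl13.Gauss

set_option autoImplicit false
universe u
open FiltBl Groth.Agent.FiltBl13

namespace Groth.Agent.S14652

/-- Let A be a Noetherian integrally closed domain with fraction field K, let v_1, …, v_s be finitely
many valuations on K with values in ℤ ∪ {∞} (written additively) that are non-negative on A, and let
r_i = p_i / q_i be positive rationals (p_i, q_i positive integers). Let F be the filtration of
ideals of A given by F^k = {x ∈ A | q_i · v_i(x) ≥ k · p_i for every i}. Then the Rees algebra ⊕_{k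
≥ 0} F^k X^k ⊆ A[X] is an integrally closed domain (it need not be Noetherian). -/
theorem result (A K : Type u) [CommRing A] [IsDomain A]
    [IsNoetherianRing A] [IsIntegrallyClosed A] [Field K] [Algebra A K] [IsFractionRing A K]
    (ι : Type) [Finite ι] (v : ι → AddValuation K (WithTop ℤ))
    (hv : ∀ (i : ι) (x : A), 0 ≤ v i (algebraMap A K x)) (p q : ι → ℕ) (hp : ∀ i, 0 < p i)
    (hq : ∀ i, 0 < q i) (𝓕 : FiltBl.IdealFiltration A)
    (hF : ∀ (k : ℕ) (x : A), x ∈ 𝓕.F k ↔
      ∀ i, ((k * p i : ℕ) : WithTop ℤ) ≤ (q i : WithTop ℤ) * v i (algebraMap A K x)) :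
    IsIntegrallyClosed 𝓕.rees := by
  have hcast : ∀ (n : ℕ) (x : WithTop ℤ), 0 < n → (n : WithTop ℤ) * x = n • x := by
    intro n x hn
    induction x using WithTop.recTopCoe with
    | top =>
      rw [WithTop.mul_top (by exact_mod_cast hn.ne')]
      obtain ⟨k, rfl⟩ := Nat.exists_eq_succ_of_ne_zero hn.ne'
      rw [succ_nsmul, add_top]
    | coe t =>
      rw [show ((n : ℕ) : WithTop ℤ) = ((n : ℤ) : WithTop ℤ) from rfl, ← WithTop.coe_mul,
        ← WithTop.coe_nsmul, nsmul_eq_mul]
  let θ : ι → A → WithTop ℤ := fun i a => q i • v i (algebraMap A K a)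
  have hθ : ∀ i, QVal (θ i) := fun i =>
    { zero := by
        obtain ⟨k, hk⟩ := Nat.exists_eq_succ_of_ne_zero (hq i).ne'
        simp only [θ, map_zero, (v i).map_zero, hk, succ_nsmul, add_top]
      one := by simp only [θ, map_one, (v i).map_one, nsmul_zero]
      neg := fun a => by simp only [θ, map_neg, (v i).map_neg]
      mul := fun a b => by simp only [θ, map_mul, (v i).map_mul, nsmul_add]
      add := fun a b => by
        simp only [θ, map_add]
        have h := (v i).map_add (algebraMap A K a) (algebraMap A K b)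
        rcases min_le_iff.1 h with h | h
        · exact (min_le_left _ _).trans (nsmul_le_nsmul_right h _)
        · exact (min_le_right _ _).trans (nsmul_le_nsmul_right h _) }
  have hmem : ∀ f : Polynomial A, f ∈ 𝓕.rees ↔ ∀ i, Lw (θ i) (p i) 0 f := by
    intro f
    show (∀ n, f.coeff n ∈ 𝓕.F n) ↔ _
    simp only [hF]
    constructor
    · intro h i n
      refine le_trans (le_of_eq ?_) ((h n i).trans_eq (hcast _ _ (hq i)))
      rw [zero_add, show (((n * p i : ℕ)) : WithTop ℤ) = (((n * p i : ℕ) : ℤ) : WithTop ℤ) from rfl,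
        Nat.cast_mul]
    · intro h n i
      rw [hcast _ _ (hq i)]
      refine le_trans (le_of_eq ?_) (h i n)
      rw [zero_add, show (((n * p i : ℕ)) : WithTop ℤ) = (((n * p i : ℕ) : ℤ) : WithTop ℤ) from rfl,
        Nat.cast_mul]
  exact isIntegrallyClosed_subalgebra 𝓕.rees fun f N a ha hrel =>
    (hmem f).2 fun i => lw_of_integral (hθ i) f a (fun j => (hmem _).1 (ha j) i) hrel

end Groth.Agent.S14652
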