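import Groth.Statements.S14655
import Groth.Agent.FiltBl13.ProjStalk

set_option autoImplicit false
universe u
open FiltBl Groth.Agent.FiltBl13

namespace Groth.Agent.S14655

open AlgebraicGeometry in
/-- Let A be a Noetherian ℕ-graded commutative ring which is a Cohen–Macaulay ring. Then the scheme Proj
A is Cohen–Macaulay: every local ring of Proj A is a Cohen–Macaulay local ring. -/
theorem result (A : Type u) [CommRing A]
    (𝒜 : ℕ → AddSubgroup A) [GradedRing 𝒜] [LocCoh.IsCohenMacaulayRing A] (x : Proj 𝒜) :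
    LocCoh.IsCohenMacaulayLocalRing ((Proj 𝒜).presheaf.stalk x) := by
  let P := x.asHomogeneousIdeal.toIdeal
  have : P.IsPrime := x.isPrime
  let e : (Proj 𝒜).presheaf.stalk x ≃+* HomogeneousLocalization.AtPrime 𝒜 P :=
    (Proj.stalkIso 𝒜 x).commRingCatIsoToRingEquiv
  obtain ⟨d, f, hd, hf, hfP⟩ := exists_pos_degree_notMem x
  have hcm := cm_of_pure (algebraMap (HomogeneousLocalization.AtPrime 𝒜 P) (Localization.AtPrime P))
    (LocCoh.IsCohenMacaulayRing.isCohenMacaulayLocalRing_localization P) comap_map_algebraMap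
    (maximalIdeal_le_radical hd hf hfP x.asHomogeneousIdeal.isHomogeneous)
  exact CAlg1.cm_of_ringEquiv e.symm hcm

end Groth.Agent.S14655
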