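import Groth.Statements.S14656
import Groth.Agent.FiltBl13.ProjStalk
import Groth.Agent.EGA4H10.TensorSk

set_option autoImplicit false
universe u
open FiltBl Groth.Agent.FiltBl13

namespace Groth.Agent.S14656

open AlgebraicGeometry in
/-- Let A be a Noetherian ℕ-graded commutative ring satisfying Serre's condition (S_1) (every
localization A_p has depth at least min(1, dim A_p)). Then every local ring of the scheme Proj A
satisfies (S_1). -/
theorem result (A : Type u) [CommRing A] [IsNoetherianRing A]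
    (𝒜 : ℕ → AddSubgroup A) [GradedRing 𝒜] (hA : LocCoh.HasSk 1 A A) (x : Proj 𝒜) :
    LocCoh.HasSk 1 ((Proj 𝒜).presheaf.stalk x) ((Proj 𝒜).presheaf.stalk x) := by
  let P := x.asHomogeneousIdeal.toIdeal
  have : P.IsPrime := x.isPrime
  let e : (Proj 𝒜).presheaf.stalk x ≃+* HomogeneousLocalization.AtPrime 𝒜 P :=
    (Proj.stalkIso 𝒜 x).commRingCatIsoToRingEquiv
  obtain ⟨d, f, hd, hf, hfP⟩ := exists_pos_degree_notMem x
  have := isNoetherianRing_atPrime (𝒜 := 𝒜) (P := P)
  exact EGA4H10.hasSk_self_ringEquiv e.symm 1 (noEmbedded_atPrime hd hf hfP hA)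

end Groth.Agent.S14656
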