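import Groth.Statements.S14657
import Groth.Agent.FiltBl13.GradedClosure

set_option autoImplicit false
universe u
open FiltBl Groth.Agent.FiltBl13

namespace Groth.Agent.S14657

/-- (i) ⇔ (ii): let k be a field and G a Noetherian ℕ-graded k-algebra which is an integral domain of
Krull dimension at least 2 with G_0 = k (the degree-0 part is the image of k); let L be the fraction
field of G and Ḡ the integral closure of G in L. Then the open subscheme Spec G − V(G_+) is normal,
i.e. G_p is integrally closed for every prime p not containing the irrelevant ideal G_+, if and only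
if the G-module Ḡ/G has finite length. -/
theorem result (k : Type u) [Field k]
    (G : Type u) [CommRing G] [IsDomain G] [Algebra k G] [IsNoetherianRing G]
    (𝒢 : ℕ → Submodule k G) [GradedAlgebra 𝒢]
    (h0 : ∀ x ∈ 𝒢 0, x ∈ Set.range (algebraMap k G)) (hdim : 2 ≤ ringKrullDim G)
    (L : Type u) [Field L] [Algebra G L] [IsFractionRing G L] :
    (∀ (p : Ideal G) [p.IsPrime], ¬ (HomogeneousIdeal.irrelevant 𝒢).toIdeal ≤ p →
        IsIntegrallyClosed (Localization.AtPrime p)) ↔
      IsFiniteLength G (↥(integralClosure G L) ⧸
        LinearMap.range (Algebra.linearMap G ↥(integralClosure G L))) := by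
  have := finiteType_of_connected 𝒢 h0
  have : Module.Finite G (integralClosure G L) := CAlg6.finite_integralClosure k G L L
  rw [isFiniteLength_iff_annihilator]
  constructor
  · intro h p hp hle
    by_cases hirr : (HomogeneousIdeal.irrelevant 𝒢).toIdeal ≤ p
    · exact (irrelevant_isMaximal 𝒢 h0).eq_of_le hp.ne_top hirr ▸ irrelevant_isMaximal 𝒢 h0
    · have := h p hirr
      exact absurd hle (conductorOf_not_le_of_isIntegrallyClosed L p)
  · intro h p hp hirr
    refine isIntegrallyClosed_of_conductorOf_not_le L p fun hle => hirr ?_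
    have hcle : conductorOf (G := G) L ≤ (p.homogeneousCore 𝒢).toIdeal := by
      rw [← (conductorOf_isHomogeneous 𝒢 L).toIdeal_homogeneousCore_eq_self]
      exact Ideal.homogeneousCore_mono 𝒢 hle
    have hcp := hp.homogeneousCore (𝒜 := 𝒢)
    have hmax := h _ hcp hcle
    have h1 := (HomogeneousIdeal.isHomogeneous (p.homogeneousCore 𝒢))
    rw [← hmax.eq_of_le (irrelevant_isMaximal 𝒢 h0).ne_top
      (le_irrelevant_of_homogeneous 𝒢 h0 h1 hcp.ne_top)]
    exact Ideal.toIdeal_homogeneousCore_le 𝒢 p

end Groth.Agent.S14657
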