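import Groth.Statements.S14659
import Groth.Agent.FiltBl13.UnitDeg

set_option autoImplicit false
universe u
open FiltBl Groth.Agent.FiltBl13

namespace Groth.Agent.S14659

/-- Let R be a Noetherian ℤ-graded commutative ring which is regular (every localization at a prime is a
regular local ring), whose degree-0 subring R_0 is a local ring, with R_1 ≠ 0 and with a homogeneous
unit in some positive degree; let N be the least positive degree in which R has a unit and t ∈ R_N a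
unit (so that R_N = t · R_0). Then C = R/(t − 1)R is a regular local ring. -/
theorem result (R : Type u) [CommRing R]
    [IsNoetherianRing R] (𝒜 : ℤ → AddSubgroup R) [GradedRing 𝒜]
    (hreg : ∀ (p : Ideal R) [p.IsPrime], IsRegularLocalRing (Localization.AtPrime p))
    [IsLocalRing (GrLC.deg0 𝒜)] (h1 : ∃ x ∈ 𝒜 1, x ≠ 0) (N : ℕ) (hN : 0 < N) (t : R)
    (ht : t ∈ 𝒜 (N : ℤ)) (htu : IsUnit t)
    (hmin : ∀ (n : ℤ), 0 < n → n < (N : ℤ) → ∀ s ∈ 𝒜 n, ¬ IsUnit s) :
    IsRegularLocalRing (R ⧸ Ideal.span {t - 1}) := by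
  have hsmall : ∀ (i j : ℤ), 0 < i → 0 < j → i + j = (N : ℤ) → ∀ a ∈ 𝒜 i, ∀ b ∈ 𝒜 j,
      ∃ c : GrLC.deg0 𝒜, c ∈ IsLocalRing.maximalIdeal (GrLC.deg0 𝒜) ∧ a * b = (c : R) * t := by
    intro i j hi hj hij a ha b hb
    have hinv : ((htu.unit⁻¹ : Rˣ) : R) ∈ 𝒜 (-(N : ℤ)) := by
      have h1 : t * (DirectSum.decompose 𝒜 ((htu.unit⁻¹ : Rˣ) : R) (-(N : ℤ)) : R) = 1 := by
        rw [← DirectSum.coe_decompose_mul_add_of_left_mem 𝒜 ht, htu.mul_val_inv, add_neg_cancel,
          DirectSum.decompose_of_mem_same 𝒜 (SetLike.one_mem_graded 𝒜)]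
      rw [Units.inv_eq_of_mul_eq_one_right (u := htu.unit) h1]
      exact SetLike.coe_mem _
    have hc : a * b * ((htu.unit⁻¹ : Rˣ) : R) ∈ 𝒜 0 := by
      have h1 := SetLike.mul_mem_graded (SetLike.mul_mem_graded ha hb) hinv
      rwa [hij, add_neg_cancel] at h1
    refine ⟨⟨_, hc⟩, ?_, by
      show a * b = a * b * _ * t
      rw [mul_assoc, htu.val_inv_mul, mul_one]⟩
    rw [IsLocalRing.mem_maximalIdeal, mem_nonunits_iff]
    intro hu
    have h2 : IsUnit (a * b * ((htu.unit⁻¹ : Rˣ) : R)) := hu.map (GrLC.deg0 𝒜).subtype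
    exact hmin i hi (by omega) a ha (isUnit_of_mul_isUnit_left (isUnit_of_mul_isUnit_left h2))
  let D : UnitDeg 𝒜 N :=
    { pos := hN, t := htu.unit, t_mem := ht, small := hsmall }
  exact D.regularLocal_quo hreg

end Groth.Agent.S14659
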