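import Groth.Statements.S14660
import Groth.Agent.FiltBl13.ExtRees

set_option autoImplicit false
universe u
open FiltBl LaurentPolynomial Groth.Agent.FiltBl13

namespace Groth.Agent.S14660

/-- (ii) ⇔ (iii): let A be a Noetherian local ring that is a quotient of a Gorenstein ring, and F a
filtration of ideals on A (F^0 = A ⊇ F^1 ⊇ ⋯, F^i F^j ⊆ F^{i+j}) with every F^n nonzero and ⋂ F^n =
0, whose Rees algebra ⊕_{n ≥ 0} F^n X^n is finitely generated over A and with F^1 of height at least
2 (equivalently, every F^n with n ≥ 1 has height at least 2, all F^n having the same radical). Let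
R' = ⊕_{n ∈ ℤ} F^n T^n ⊆ A[T, T⁻¹] be the extended Rees algebra, R_+R' its ideal generated by the
elements a T^n with n ≥ 1 and a ∈ F^n, u = T⁻¹, and G the associated graded ring, given here as any
ring with a surjection φ : R' → G whose kernel is uR', with G_+ = φ(R_+R'). Then the open subscheme
Spec R' − V(R_+R') is Cohen–Macaulay (every localization of R' at a prime not containing R_+R' is a
Cohen–Macaulay local ring) if and only if the localization G_p is Cohen–Macaulay for every prime p
of G with G_+ ⊄ p and the localization A_q is Cohen–Macaulay for every prime q of A with F^1 ⊄ q.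
(The published statement phrases the first condition for the scheme Spec_X ⊕_{n ∈ ℤ} O_X(n) over the
filtered blowing-up X = Proj ⊕_{n ≥ 0} F^n T^n, which is identified with this open subscheme of Spec
R'; it asks the condition on G only at homogeneous primes not containing G_+, which for the graded
ring G is equivalent to asking it at all such primes; it states the condition on A at the primes not
containing a fixed F^N with F^{nN} = (F^N)^n for all n, an ideal with the same radical as F^1; and
it is made under the further standing assumption that no nonzero element of ⊕_{n ≥ 0} F^n T^n is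
annihilated by a power of the ideal generated by its homogeneous elements of positive degree, which
this row does not assume and which is not needed.) -/
theorem result (A : Type u) [CommRing A] [IsNoetherianRing A] [IsLocalRing A]
    (S : Type u) [CommRing S] [LocCoh.IsGorensteinRing S] (π : S →+* A) (hπ : Function.Surjective π)
    (𝓕 : FiltBl.IdealFiltration A) (hne : ∀ n, 𝓕.F n ≠ ⊥) (hsep : ⨅ n, 𝓕.F n = ⊥)
    (hfg : Algebra.FiniteType A 𝓕.rees) (hht : 2 ≤ (𝓕.F 1).height)
    (G : Type u) [CommRing G] (φ : 𝓕.extRees →+* G) (hφ : Function.Surjective φ)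
    (hker : RingHom.ker φ = Ideal.span {𝓕.u}) (Rp : Ideal 𝓕.extRees)
    (hRp : Rp = Ideal.span {x : 𝓕.extRees | ∃ n : ℕ, 0 < n ∧ ∃ a ∈ 𝓕.F n,
      (x : LaurentPolynomial A) = LaurentPolynomial.C a * LaurentPolynomial.T (n : ℤ)}) :
    (∀ (P : Ideal 𝓕.extRees) [P.IsPrime], ¬ Rp ≤ P →
        LocCoh.IsCohenMacaulayLocalRing (Localization.AtPrime P)) ↔
      ((∀ (p : Ideal G) [p.IsPrime], ¬ Ideal.map φ Rp ≤ p →
          LocCoh.IsCohenMacaulayLocalRing (Localization.AtPrime p)) ∧
        (∀ (q : Ideal A) [q.IsPrime], ¬ 𝓕.F 1 ≤ q →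
            LocCoh.IsCohenMacaulayLocalRing (Localization.AtPrime q))) := by
  have := isNoetherianRing_extRees 𝓕 hfg
  have hnz := u_mem_nonZeroDivisors 𝓕
  have := isNoetherianRing_of_surjective _ G φ hφ
  have key := fun (p : Ideal G) [p.IsPrime] => cm_surj_iff hnz φ hφ hker p
  have hRp_le : ∀ (P : Ideal 𝓕.extRees),
      Rp ≤ P ↔ ∀ (n : ℕ) (a : A) (h : a ∈ 𝓕.F n), 0 < n → mono 𝓕 n a h ∈ P := by
    intro P
    rw [hRp, Ideal.span_le]
    constructor
    · exact fun h n a ha hn => h ⟨n, hn, a, ha, rfl⟩
    · rintro h x ⟨n, hn, a, ha, hx⟩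
      rw [show x = mono 𝓕 n a ha from Subtype.ext hx]
      exact h n a ha hn
  constructor
  · intro h
    refine ⟨fun p _ hp => ?_, fun q _ hq => ?_⟩
    · exact (key p).1 (h _ fun hle => hp (Ideal.map_le_iff_le_comap.2 hle))
    · obtain ⟨_, hu, _, ⟨e1⟩⟩ := Qc_spec 𝓕 q
      refine (cm_of_mapC q _ rfl).1 (CAlg1.cm_of_ringEquiv e1 (h _ fun hle => hq fun a ha => ?_))
      have h1 : (C a * T ((1 : ℕ) : ℤ) : A[T;T⁻¹]) ∈ (q.map Polynomial.C).map
          (algebraMap (Polynomial A) A[T;T⁻¹]) := (hRp_le _).1 hle 1 a ha one_pos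
      have h2 := mem_map_laurent.1 h1 ((1 : ℕ) : ℤ)
      rwa [coeff_CT, if_pos rfl] at h2
  · rintro ⟨hG, hA⟩ P _ hP
    by_cases hu : 𝓕.u ∈ P
    · have hsup : RingHom.ker φ ≤ P := hker ▸ (Ideal.span_singleton_le_iff_mem _).2 hu
      have := Ideal.map_isPrime_of_surjective hφ hsup
      have hcm : (P.map φ).comap φ = P := by
        rw [Ideal.comap_map_of_surjective _ hφ, ← RingHom.ker_eq_comap_bot, sup_eq_left.2 hsup]
      have h1 := (key (P.map φ)).2 (hG _ fun hle => hP ?_)
      · obtain ⟨e2⟩ : Nonempty (Localization.AtPrime ((P.map φ).comap φ) ≃+*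
            Localization.AtPrime P) := by
          have aux : ∀ (P' : Ideal 𝓕.extRees) [P'.IsPrime], P' = P →
              Nonempty (Localization.AtPrime P' ≃+* Localization.AtPrime P) := by
            intro P' _ h; subst h; exact ⟨RingEquiv.refl _⟩
          exact aux _ hcm
        exact CAlg1.cm_of_ringEquiv e2 h1
      · exact hcm ▸ Ideal.map_le_iff_le_comap.1 hle
    · obtain ⟨Q, _, ⟨e1⟩, hQ⟩ := exists_poly_prime 𝓕 P hu
      refine CAlg1.cm_of_ringEquiv e1.symm (cm_poly_of_cm Q _ rfl (hA _ fun hle => hP ?_))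
      exact (hRp_le P).2 fun n a ha hn =>
        (hQ n a ha).2 (hle (𝓕.antitone (show 1 ≤ n from hn) ha))

end Groth.Agent.S14660
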