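import Groth.Statements.S14661
import Groth.Agent.FiltBl13.H1

set_option autoImplicit false
universe u
open FiltBl Groth.Agent.FiltBl13 Groth.Agent

namespace Groth.Agent.S14661

/-- Let k be a field and G a Noetherian ℕ-graded k-algebra which is an integral domain of Krull
dimension at least 2 with G_0 = k (the degree-0 part is the image of k); let L be the fraction field
of G and Ḡ the integral closure of G in L. If the G-module Ḡ/G has finite length, then Ḡ/G is
isomorphic, as a G-module, to the local cohomology module H^1_{G_+}(G) with support in the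
irrelevant ideal G_+ (existence of a G-linear isomorphism only; the comparison map itself is not
named here). -/
theorem result (k : Type u) [Field k]
    (G : Type u) [CommRing G] [IsDomain G] [Algebra k G] [IsNoetherianRing G]
    (𝒢 : ℕ → Submodule k G) [GradedAlgebra 𝒢]
    (h0 : ∀ x ∈ 𝒢 0, x ∈ Set.range (algebraMap k G)) (hdim : 2 ≤ ringKrullDim G)
    (L : Type u) [Field L] [Algebra G L] [IsFractionRing G L]
    (hfin : IsFiniteLength G (↥(integralClosure G L) ⧸
      LinearMap.range (Algebra.linearMap G ↥(integralClosure G L)))) :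
    Nonempty ((↥(integralClosure G L) ⧸
        LinearMap.range (Algebra.linearMap G ↥(integralClosure G L))) ≃ₗ[G]
      LocCoh.H (HomogeneousIdeal.irrelevant 𝒢).toIdeal 1 G) := by
  classical
have hQfin : Module.Finite G (↥(integralClosure G L) ⧸
    LinearMap.range (Algebra.linearMap G ↥(integralClosure G L))) := by
  have := (isFiniteLength_iff_isNoetherian_isArtinian.1 hfin).1
  infer_instance
have : Module.Finite G ↥(integralClosure G L) :=
  Module.Finite.of_submodule_quotient (LinearMap.range (Algebra.linearMap G ↥(integralClosure G L)))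
have : Algebra.FiniteType k G := finiteType_of_connected 𝒢 h0
have : FaithfulSMul G ↥(integralClosure G L) := (faithfulSMul_iff_algebraMap_injective _ _).2
  fun a b h => IsFractionRing.injective G L (congrArg Subtype.val h)
have : IsIntegrallyClosed ↥(integralClosure G L) :=
  integralClosure.isIntegrallyClosedOfFiniteExtension (K := L) (L := L)
obtain ⟨N, hN⟩ := exists_pow_irrelevant_le_annihilator 𝒢 h0 _ hfin
  (conductorOf_isHomogeneous 𝒢 L)
let m := (HomogeneousIdeal.irrelevant 𝒢).toIdeal
have hm : m.IsMaximal := irrelevant_isMaximal 𝒢 h0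
have hmne : m ≠ ⊥ := fun hb => by
  have hfield : IsField G := Ring.isField_iff_maximal_bot.2 (hb ▸ hm)
  rw [ringKrullDim_eq_zero_of_isField hfield] at hdim
  exact absurd hdim (by decide)
obtain ⟨x, hxm, hx0⟩ := Submodule.exists_mem_ne_zero_of_ne_bot hmne
obtain ⟨y, hym, hreg⟩ := exists_weaklyRegular_pair k hdim m x hx0
  (B := ↥(integralClosure G L))
have hH := subsingleton_H_one_of_weaklyRegular m hxm hym hreg
have htor : LocCoh.IsPowerTorsion m (↥(integralClosure G L) ⧸
    LinearMap.range (Algebra.linearMap G ↥(integralClosure G L))) :=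
  fun q => ⟨N, fun a ha => Module.mem_annihilator.1 (hN ha) q⟩
exact ⟨((LinearEquiv.ofTop _ ((LC15.gamma_eq_top_iff (I := m)).2 htor)).symm.trans
    (LC15.H0equiv m _).symm).trans
  (LC15.HδEquiv m 0 (f := Algebra.linearMap G ↥(integralClosure G L))
    (g := (LinearMap.range (Algebra.linearMap G ↥(integralClosure G L))).mkQ)
    (FaithfulSMul.algebraMap_injective G ↥(integralClosure G L))
    (LinearMap.exact_iff.2 (Submodule.ker_mkQ _)) (Submodule.mkQ_surjective _)
    (hH 0 (by norm_num)) (hH 1 (by norm_num)))⟩

end Groth.Agent.S14661
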