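import Groth.Statements.S14666
import Groth.Agent.AbSch7.Collapse

set_option autoImplicit false
universe u
open CategoryTheory CategoryTheory.Limits AlgebraicGeometry
open AbSch

namespace Groth.Agent.S14666

/-- Let S be a locally Noetherian scheme, ξ : X ⟶ S a proper morphism all of whose geometric fibres are
integral and for which O_S ⟶ ξ_*O_X is an isomorphism (the map Γ(U, O_S) → Γ(ξ⁻¹U, O_X) is bijective
for every open U of S), v : Y ⟶ S an arbitrary S-scheme and f : X ⟶ Y a morphism over S. Let U be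
the set of points s of S such that f sends every point of the fibre ξ⁻¹(s) to one and the same point
of Y. Then U is open in S, and for every morphism τ : T ⟶ S the base change of f to T factors
through the projection X ×_S T ⟶ T — that is, there is r : T ⟶ Y with r ≫ v = τ and fst ≫ f = snd ≫
r on X ×_S T — if and only if τ maps every point of T into U. -/
theorem result {X Y S : Scheme.{u}} [IsLocallyNoetherian S]
    (ξ : X ⟶ S) [IsProper ξ] [GeometricallyIntegral ξ]
    (h0 : ∀ U : S.Opens, Function.Bijective (ξ.app U).hom)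
    (v : Y ⟶ S) (f : X ⟶ Y) (hf : f ≫ v = ξ) :
    IsOpen {s : ↥S | ∃ y : ↥Y, ∀ x : ↥X, ξ.base x = s → f.base x = y} ∧
    ∀ (T : Scheme.{u}) (τ : T ⟶ S),
      ((∃ r : T ⟶ Y, r ≫ v = τ ∧ pullback.fst ξ τ ≫ f = pullback.snd ξ τ ≫ r) ↔
        ∀ t : ↥T, τ.base t ∈ {s : ↥S | ∃ y : ↥Y, ∀ x : ↥X, ξ.base x = s → f.base x = y}) := by
  have : Surjective ξ := inferInstance
  have hcl : IsClosedMap ξ := ξ.isClosedMap
  have hset : {s : ↥S | ∃ y : ↥Y, ∀ x : ↥X, ξ.base x = s → f.base x = y} = AbSch7.collapsed ξ f := rfl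
  rw [hset]
  refine ⟨AbSch7.isOpen_collapsed ξ f h0 hcl, fun T τ => ⟨?_, fun ht => ?_⟩⟩
  · rintro ⟨r, -, hr⟩ t
    refine ⟨r t, fun x hx => ?_⟩
    obtain ⟨z, hz1, hz2⟩ := Scheme.Pullback.exists_preimage_pullback (f := ξ) (g := τ) x t hx
    rw [← hz1, ← hz2, ← Scheme.Hom.comp_apply, hr, Scheme.Hom.comp_apply]
  · obtain ⟨W, hWdef⟩ : ∃ W : S.Opens, (W : Set ↥S) = AbSch7.collapsed ξ f :=
      ⟨⟨_, AbSch7.isOpen_collapsed ξ f h0 hcl⟩, rfl⟩
    obtain ⟨k, hk⟩ := AbSch7.exists_factor_collapsed ξ f h0 hcl W hWdef.le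
    let l : T ⟶ W.toScheme := IsOpenImmersion.lift W.ι τ (by
      rw [Scheme.Opens.range_ι]; rintro _ ⟨t, rfl⟩; exact hWdef.ge (ht t))
    have hl : l ≫ W.ι = τ := IsOpenImmersion.lift_fac _ _ _
    have hkv : k ≫ v = W.ι := by
      have := AbSch7.epi_morphismRestrict ξ h0 W
      rw [← cancel_epi (ξ ∣_ W), ← Category.assoc, ← hk, Category.assoc, hf, morphismRestrict_ι]
    refine ⟨l ≫ k, by rw [Category.assoc, hkv, hl], ?_⟩
    let m : pullback ξ τ ⟶ (ξ ⁻¹ᵁ W).toScheme :=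
      IsOpenImmersion.lift (ξ ⁻¹ᵁ W).ι (pullback.fst ξ τ) (by
        rw [Scheme.Opens.range_ι]
        rintro _ ⟨z, rfl⟩
        show ξ (pullback.fst ξ τ z) ∈ W
        rw [← Scheme.Hom.comp_apply, pullback.condition, Scheme.Hom.comp_apply]
        exact hWdef.ge (ht _))
    have hm : m ≫ (ξ ⁻¹ᵁ W).ι = pullback.fst ξ τ := IsOpenImmersion.lift_fac _ _ _
    have e : m ≫ (ξ ∣_ W) = pullback.snd ξ τ ≫ l := by
      rw [← cancel_mono W.ι, Category.assoc, Category.assoc, hl, morphismRestrict_ι, reassoc_of% hm,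
        pullback.condition]
    rw [← reassoc_of% e, ← hk, reassoc_of% hm]

end Groth.Agent.S14666
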