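import Groth.Statements.S14668
import Groth.Agent.PnConst7.Const
import Groth.Agent.Rig93.GenGroup

set_option autoImplicit false
universe u
open CategoryTheory CategoryTheory.Limits MonoidalCategory CartesianMonoidalCategory MonObj GrpObj AlgebraicGeometry
open AbSch

namespace Groth.Agent.S14668

set_option backward.isDefEq.respectTransparency false

/-- The geometric fibre lemma: constants only, and collapse. -/
lemma fibre_facts {S : Scheme.{u}} (A : Over S) [GrpObj A] [IsProper A.hom]
    (P : Over S) [IsProper P.hom]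
    (hP : ∀ (K : Type u) [Field K] [IsAlgClosed K] (s : Spec (CommRingCat.of K) ⟶ S),
      ∃ (n : ℕ) (e : pullback P.hom s ≅ CohB1.ProjSpace n K), e.hom ≫ CohB1.ProjSpace.toSpec n K = pullback.snd P.hom s)
    (φ : P ⟶ A) (s : S) :
    Function.Bijective (pullback.snd P.hom (S.fromSpecResidueField s)).appTop ∧ s ∈ Rig93.collapse P.hom φ.left := by
  let k := S.residueField s
  let K := AlgebraicClosure k
  let ψ : CommRingCat.of k ⟶ CommRingCat.of K := CommRingCat.ofHom (algebraMap k K)
  let y : Spec (CommRingCat.of K) ⟶ S := Spec.map ψ ≫ S.fromSpecResidueField s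
  obtain ⟨n, e, he⟩ := hP K y
  refine ⟨?_, ?_⟩
  · refine (Rig93.bijective_appTop_iff (k := k) (K := K) (pullback.snd P.hom (S.fromSpecResidueField s)) ψ).2 ?_
    have : IsIntegral (CohB1.ProjSpace n K) := Curves2.ProjLine.isIntegral K n
    have : IsProper (CohB1.ProjSpace.toSpec n K) := Approx60.Segre.isProper_toSpec K n
    refine (Rig93.bijective_appTop_of_iso
      (pullbackLeftPullbackSndIso P.hom (S.fromSpecResidueField s) (Spec.map ψ) ≪≫ e) _
      (CohB1.ProjSpace.toSpec n K) ?_).2 (Rig93.bijective_appTop_of_isAlgClosed _)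
    rw [Iso.trans_hom, Category.assoc, he, pullbackLeftPullbackSndIso_hom_snd]
  · let G : Over (Spec (CommRingCat.of K)) := (Over.pullback y).obj A
    letI : GrpObj G := Functor.grpObjObj
    have : IsProper G.hom := inferInstanceAs (IsProper (pullback.snd A.hom y))
    let Q := pullback P.hom y
    let f : Over.mk (CohB1.ProjSpace.toSpec n K) ⟶ G := Over.homMk
      (pullback.lift (e.inv ≫ pullback.fst P.hom y ≫ φ.left) (CohB1.ProjSpace.toSpec n K)
        (by rw [Category.assoc, Category.assoc, Over.w, pullback.condition, ← he, Category.assoc,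
          e.inv_hom_id_assoc]))
      (pullback.lift_snd _ _ _)
    obtain ⟨z, hz⟩ := PnConst7.eq_toUnit_comp n K G f
    have hfst : e.inv ≫ pullback.fst P.hom y ≫ φ.left =
        CohB1.ProjSpace.toSpec n K ≫ ((z ≫ f).left ≫ pullback.fst A.hom y) := by
      have h1 : f.left = (toUnit (Over.mk (CohB1.ProjSpace.toSpec n K))).left ≫ (z ≫ f).left :=
        congrArg (fun g : Over.mk (CohB1.ProjSpace.toSpec n K) ⟶ G => g.left) hz
      have h2 := h1 =≫ pullback.fst A.hom y
      rw [show f.left ≫ pullback.fst A.hom y = e.inv ≫ pullback.fst P.hom y ≫ φ.left from pullback.lift_fst _ _ _,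
        Over.toUnit_left, Category.assoc] at h2
      exact h2
    have hy : Set.range y = {s} := by
      have h1 : Set.range y ⊆ Set.range (S.fromSpecResidueField s) := by
        rintro _ ⟨x, rfl⟩; exact ⟨Spec.map ψ x, rfl⟩
      rw [Scheme.range_fromSpecResidueField] at h1
      exact Set.Nonempty.subset_singleton_iff ⟨_, Set.mem_range_self (IsLocalRing.closedPoint K)⟩ |>.1 h1
    have hval : ∀ x, P.hom x = s →
        φ.left x = ((z ≫ f).left ≫ pullback.fst A.hom y) (IsLocalRing.closedPoint K) := by
      intro x hx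
      have hxr : x ∈ Set.range (pullback.fst P.hom y) := by
        rw [Scheme.Pullback.range_fst, hy]; exact hx
      obtain ⟨w, rfl⟩ := hxr
      obtain ⟨v, rfl⟩ : ∃ v, e.inv v = w := ⟨e.hom w, by rw [← Scheme.Hom.comp_apply, e.hom_inv_id]; rfl⟩
      have h3 : φ.left (pullback.fst P.hom y (e.inv v)) =
          ((z ≫ f).left ≫ pullback.fst A.hom y) (CohB1.ProjSpace.toSpec n K v) :=
        congrArg (fun g : CohB1.ProjSpace n K ⟶ A.left => g v) hfst
      rw [h3]
      exact congrArg _ (@Subsingleton.elim _ (inferInstanceAs (Subsingleton (PrimeSpectrum K))) _ _)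
    exact fun x x' hx hx' => (hval x hx).trans (hval x' hx').symm

/-- Let S be a locally Noetherian scheme, A an abelian scheme over S (an S-group scheme whose structure
morphism is proper and flat with geometrically integral fibres), and P an S-scheme whose structure
morphism is proper and flat and whose geometric fibres are projective spaces: for every
algebraically closed field K and every K-point of S, the fibre P ×_S Spec K is isomorphic over Spec
K to projective n-space over K for some n. Then every S-morphism P ⟶ A factors through the structure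
morphism of P: it is the composite of P ⟶ S with a section S ⟶ A. -/
theorem result {S : Scheme.{u}} [IsLocallyNoetherian S]
    (A : Over S) [GrpObj A] [IsProper A.hom] [Flat A.hom] [GeometricallyIntegral A.hom]
    (P : Over S) [IsProper P.hom] [Flat P.hom]
    (hP : ∀ (K : Type u) [Field K] [IsAlgClosed K] (s : Spec (CommRingCat.of K) ⟶ S),
      ∃ (n : ℕ) (e : pullback P.hom s ≅ CohB1.ProjSpace n K), e.hom ≫ CohB1.ProjSpace.toSpec n K = pullback.snd P.hom s)
    (φ : P ⟶ A) :
    ∃ a : 𝟙_ (Over S) ⟶ A, φ = toUnit P ≫ a := by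
  obtain ⟨-, -, hfac⟩ := Rig93.collapse_general P.hom A.hom φ.left (Over.w φ)
    (fun s => (fibre_facts A P hP φ s).1)
  obtain ⟨k, hk, hkφ⟩ := hfac ⊤ (fun s _ => (fibre_facts A P hP φ s).2)
  let t : S ⟶ A.left := S.topIso.inv ≫ k
  have ht : t ≫ A.hom = 𝟙 S := by
    rw [Category.assoc, hk, ← Scheme.topIso_hom, Iso.inv_hom_id]
  have htφ : φ.left = P.hom ≫ t := by
    have : IsIso (P.hom ⁻¹ᵁ ⊤).ι := inferInstanceAs (IsIso (Scheme.topIso _).hom)
    rw [← cancel_epi (P.hom ⁻¹ᵁ ⊤).ι, hkφ, ← morphismRestrict_ι_assoc]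
    simp [t, ← Scheme.topIso_hom]
  exact ⟨Over.homMk t ht, Over.OverMorphism.ext (by simpa [Over.toUnit_left] using htφ)⟩

end Groth.Agent.S14668
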