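import Groth.Statements.S1467
import Groth.Agent.FlatCrit65.HensWE
import Groth.Agent.Henz21.FaithfullyFlat
import Groth.Agent.S0427
import Groth.Agent.S1412
import Groth.Agent.S7127
import Groth.Agent.S1996

set_option autoImplicit false
universe u
open FlatMor

namespace Groth.Agent.S1467

open IsLocalRing in
/-- A strictly henselian weakly étale local algebra is a strict henselization. -/
theorem isStrictHenselization_of_weaklyEtale {A R : Type u} [CommRing A] [IsLocalRing A] [CommRing R]
    [HenselianLocalRing R] [Algebra A R] [IsLocalHom (algebraMap A R)] [IsSepClosed (ResidueField R)]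
    [Algebra.WeaklyEtale A R] : Hensel.IsStrictHenselization A R := by
  let W := Henz21.StrictHenselization A
  have hW : Hensel.IsStrictHenselization A W := inferInstance
  have hWs := hW.isSepClosure
  have : Algebra.IsSeparable (ResidueField A) (ResidueField W) := hWs.separable
  have : HenselianLocalRing W := hW.henselian
  have : IsSepClosed (ResidueField W) := hWs.sep_closed
  let τ : ResidueField W →ₐ[ResidueField A] ResidueField R := IsSepClosed.lift
  obtain ⟨g, ⟨hg, hgr⟩, -⟩ := hW.universal R (algebraMap A R) τ.toRingHom (RingHom.ext τ.commutes)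
  let _ : Algebra W R := g.toAlgebra
  have : IsScalarTower A W R := IsScalarTower.of_algebraMap_eq fun a => (RingHom.congr_fun hg a).symm
  have hloc : IsLocalHom (algebraMap W R) := ⟨fun x hx => by
    rw [← residue_ne_zero_iff_isUnit] at hx ⊢
    intro h0
    apply hx
    show residue R (g x) = 0
    rw [hgr, h0, map_zero]⟩
  have : Algebra.WeaklyEtale A W := FlatCrit65.weaklyEtale_strictHenselization A W
  have : Algebra.WeaklyEtale W R := S7127.result A W R
  have hbij := S0427.result (A := W) (B := R)
  let e : W ≃+* R := RingEquiv.ofBijective _ hbij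
  have he : ∀ x, residue R (e x) = τ (residue W x) := hgr
  have hτ : Function.Surjective τ := fun z => by
    obtain ⟨r, rfl⟩ := residue_surjective z
    exact ⟨residue W (e.symm r), by rw [← he, e.apply_symm_apply]⟩
  let τe : ResidueField W ≃ₐ[ResidueField A] ResidueField R :=
    AlgEquiv.ofBijective τ ⟨τ.toRingHom.injective, hτ⟩
  refine ⟨‹_›, ⟨‹_›, AlgEquiv.Algebra.isSeparable τe⟩, ?_⟩
  intro T _ _ f _ τ' hτ'
  obtain ⟨k, ⟨hk, hkr⟩, hku⟩ := hW.universal T f (τ'.comp τ.toRingHom) (by
    rw [← hτ', RingHom.comp_assoc]
    congr 1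
    exact RingHom.ext τ.commutes)
  have hea : ∀ a, e.symm (algebraMap A R a) = algebraMap A W a := fun a => by
    rw [RingEquiv.symm_apply_eq]
    exact (RingHom.congr_fun hg a).symm
  refine ⟨k.comp e.symm.toRingHom, ⟨RingHom.ext fun a => ?_, fun x => ?_⟩, fun k' hk' => ?_⟩
  · show k (e.symm (algebraMap A R a)) = f a
    rw [hea]
    exact RingHom.congr_fun hk a
  · show residue T (k (e.symm x)) = _
    rw [hkr, RingHom.comp_apply]
    congr 1
    rw [show τ.toRingHom (residue W (e.symm x)) = τ (residue W (e.symm x)) from rfl, ← he, e.apply_symm_apply]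
  · have := hku (k'.comp e.toRingHom) ⟨RingHom.ext fun a => by
        show k' (g (algebraMap A W a)) = f a
        rw [show g (algebraMap A W a) = algebraMap A R a from RingHom.congr_fun hg a]
        exact RingHom.congr_fun hk'.1 a, fun x => by
        show residue T (k' (e x)) = _
        rw [hk'.2, he]; rfl⟩
    rw [← this]
    exact RingHom.ext fun x => by simp

open AlgebraicGeometry CategoryTheory Limits in
/-- A morphism f : X → Y is weakly étale if and only if, for every point x of X, strict henselizations
of the local rings at f x and at x coincide under the stalk map: every strict henselization of O_{X,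
x} is, through the composite map O_{Y, f x} → O_{X, x} → (strict henselization), a strict
henselization of O_{Y, f x}. -/
theorem result {X Y : Scheme.{u}} (f : X ⟶ Y) :
    WeaklyEtale f ↔ ∀ (x : X) (R : Type u) [CommRing R] [IsLocalRing R] [Algebra ↑(X.presheaf.stalk x) R]
      [IsLocalHom (algebraMap ↑(X.presheaf.stalk x) R)] [Hensel.IsStrictHenselization ↑(X.presheaf.stalk x) R],
      letI : Algebra ↑(Y.presheaf.stalk (f x)) R := ((algebraMap ↑(X.presheaf.stalk x) R).comp (f.stalkMap x).hom).toAlgebra
      ∃ _ : IsLocalHom (algebraMap ↑(Y.presheaf.stalk (f x)) R), Hensel.IsStrictHenselization ↑(Y.presheaf.stalk (f x)) R := by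
  constructor
  · intro hf x R _ _ _ _ hR
    obtain ⟨h1, h2⟩ := (S1412.result f).1 hf x
    let _ := (f.stalkMap x).hom.toAlgebra
    have : Algebra.WeaklyEtale ↑(Y.presheaf.stalk (f x)) ↑(X.presheaf.stalk x) := ⟨h1, h2⟩
    let _ : Algebra ↑(Y.presheaf.stalk (f x)) R :=
      ((algebraMap ↑(X.presheaf.stalk x) R).comp (f.stalkMap x).hom).toAlgebra
    have : IsScalarTower ↑(Y.presheaf.stalk (f x)) ↑(X.presheaf.stalk x) R := IsScalarTower.of_algebraMap_eq fun _ => rfl
    have : HenselianLocalRing R := hR.henselian
    have : IsSepClosed (IsLocalRing.ResidueField R) := hR.isSepClosure.sep_closed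
    have := FlatCrit65.weaklyEtale_strictHenselization ↑(X.presheaf.stalk x) R
    have : Algebra.WeaklyEtale ↑(Y.presheaf.stalk (f x)) R :=
      Algebra.WeaklyEtale.trans ↑(Y.presheaf.stalk (f x)) ↑(X.presheaf.stalk x) R
    have hl : IsLocalHom (algebraMap ↑(Y.presheaf.stalk (f x)) R) :=
      RingHom.isLocalHom_comp (algebraMap ↑(X.presheaf.stalk x) R) (f.stalkMap x).hom
    exact ⟨hl, isStrictHenselization_of_weaklyEtale⟩
  · intro h
    refine (S1412.result f).2 fun x => ?_
    let R := Henz21.StrictHenselization ↑(X.presheaf.stalk x)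
    let _ := (f.stalkMap x).hom.toAlgebra
    let _ : Algebra ↑(Y.presheaf.stalk (f x)) R :=
      ((algebraMap ↑(X.presheaf.stalk x) R).comp (f.stalkMap x).hom).toAlgebra
    have : IsScalarTower ↑(Y.presheaf.stalk (f x)) ↑(X.presheaf.stalk x) R := IsScalarTower.of_algebraMap_eq fun _ => rfl
    obtain ⟨hl, hR⟩ := h x R
    have := FlatCrit65.weaklyEtale_strictHenselization ↑(Y.presheaf.stalk (f x)) R
    have := Henz21.strictHenselization_faithfullyFlat (R := ↑(X.presheaf.stalk x)) R
    have := S1996.result ↑(Y.presheaf.stalk (f x)) ↑(X.presheaf.stalk x) R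
    exact ⟨this.flat, this.flat_lmul'⟩

end Groth.Agent.S1467
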