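import Groth.Statements.S14670
import Groth.Agent.CAlg1.Miracle
import Groth.Agent.CAlg6.RegularNormal
import Groth.Agent.EGA4Alg4.IntegralDim
-- import your own Groth.Agent.* helpers here

set_option autoImplicit false
universe u
open CAlg

namespace Groth.Agent.S14670

/-- Let R be a regular local ring and S an integral domain containing R as a subring over which it is a
finitely generated module, such that the localization of S at each of its maximal ideals is a
Cohen–Macaulay local ring. Then S is a flat R-module. (The published statement does not require S to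
be a domain; in that generality it fails — for a discrete valuation ring R with residue field κ the
ring R × κ contains R diagonally, is finite over R with Cohen–Macaulay localizations, and is not
flat — and the printed argument needs every maximal ideal of S to have height dim R, which holds
when S is a domain by going down.) -/
theorem result (R S : Type u) [CommRing R] [CommRing S]
    [IsRegularLocalRing R] [IsDomain S] [Algebra R S] [Module.Finite R S]
    (hinj : Function.Injective (algebraMap R S))
    (hCM : ∀ (q : Ideal S) [q.IsMaximal], LocCoh.IsCohenMacaulayLocalRing (Localization.AtPrime q)) :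
    Module.Flat R S := by
  haveI := Groth.Agent.CAlg1.isDomain_regular R
  haveI : IsIntegrallyClosed R := Groth.Agent.CAlg6.isIntegrallyClosed_of_regular R
  haveI : FaithfulSMul R S := (faithfulSMul_iff_algebraMap_injective R S).2 hinj
  haveI : IsNoetherianRing S := IsNoetherianRing.of_finite R S
  refine Module.flat_of_isLocalized_maximal (S := S) (M := S) (fun q _ => Localization.AtPrime q)
    (fun q _ => Algebra.linearMap S (Localization.AtPrime q)) fun q _ => ?_
  set m := IsLocalRing.maximalIdeal R
  have hqm : q.comap (algebraMap R S) = m :=
    IsLocalRing.eq_maximalIdeal (Ideal.isMaximal_comap_of_isIntegral_of_isMaximal q)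
  haveI : q.LiesOver m := ⟨hqm.symm⟩
  haveI := hCM q
  set B := Localization.AtPrime q
  have hmB : ∀ r ∈ m, algebraMap R B r ∈ IsLocalRing.maximalIdeal B := fun r hr => by
    rw [IsScalarTower.algebraMap_apply R S B]
    exact (IsLocalization.AtPrime.to_map_mem_maximal_iff B q _).2 (show r ∈ q.comap (algebraMap R S) by rw [hqm]; exact hr)
  haveI : IsLocalHom (algebraMap R B) := ⟨fun r hr => by
    by_contra h
    exact (IsLocalRing.mem_maximalIdeal _).1 (hmB r ((IsLocalRing.mem_maximalIdeal r).2 h)) hr⟩
  refine Groth.Agent.CAlg1.miracle_flatness _ R B rfl ?_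
  have hfib : ringKrullDim (B ⧸ m.map (algebraMap R B)) = 0 := by
    have hle : m.map (algebraMap R B) ≤ IsLocalRing.maximalIdeal B := Ideal.map_le_iff_le_comap.2 hmB
    haveI : Nontrivial (B ⧸ m.map (algebraMap R B)) := Ideal.Quotient.nontrivial_iff.2 fun h =>
      (IsLocalRing.maximalIdeal.isMaximal B).ne_top (top_le_iff.1 (h ▸ hle))
    haveI : Ring.KrullDimLE 0 (B ⧸ m.map (algebraMap R B)) := Ring.krullDimLE_zero_iff.2 fun P hP => by
      haveI : (P.comap (Ideal.Quotient.mk (m.map (algebraMap R B)))).IsPrime := Ideal.comap_isPrime _ _
      set P' := P.comap (Ideal.Quotient.mk (m.map (algebraMap R B))) with hP'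
      have hmP : m.map (algebraMap R B) ≤ P' := fun x hx => by
        show Ideal.Quotient.mk _ x ∈ P
        rw [Ideal.Quotient.eq_zero_iff_mem.2 hx]; exact zero_mem _
      haveI : (P'.comap (algebraMap S B)).IsPrime := Ideal.comap_isPrime _ _
      have hQm : (P'.comap (algebraMap S B)).comap (algebraMap R S) = m := by
        rw [Ideal.comap_comap, ← IsScalarTower.algebraMap_eq]
        exact ((IsLocalRing.maximalIdeal.isMaximal R).eq_of_le (Ideal.IsPrime.ne_top') (Ideal.map_le_iff_le_comap.1 hmP)).symm
      haveI : (P'.comap (algebraMap S B)).IsMaximal := Ideal.isMaximal_of_isIntegral_of_isMaximal_comap _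
        (by rw [hQm]; infer_instance)
      have hQ : P'.comap (algebraMap S B) = (IsLocalRing.maximalIdeal B).comap (algebraMap S B) :=
        Ideal.IsMaximal.eq_of_le inferInstance
          (Ideal.IsPrime.ne_top') (Ideal.comap_mono (IsLocalRing.le_maximalIdeal Ideal.IsPrime.ne_top'))
      have hmax : P'.IsMaximal := by
        have : P' = IsLocalRing.maximalIdeal B := by
          have h1 := IsLocalization.map_comap q.primeCompl B P'
          rw [Ideal.under_def, hQ] at h1
          rw [← h1]
          exact IsLocalization.map_comap q.primeCompl B _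
        rw [this]; infer_instance
      rw [← Ideal.map_comap_of_surjective _ Ideal.Quotient.mk_surjective P, ← hP']
      exact (Ideal.map_eq_top_or_isMaximal_of_surjective _ Ideal.Quotient.mk_surjective hmax).resolve_left
        (fun h => hP.ne_top (by rw [← Ideal.map_comap_of_surjective _ Ideal.Quotient.mk_surjective P, ← hP', h]))
    exact le_antisymm (by exact_mod_cast (Order.krullDimLE_iff 0 (PrimeSpectrum (B ⧸ m.map (algebraMap R B)))).1 inferInstance) ringKrullDim_nonneg_of_nontrivial
  rw [hfib, add_zero]
  refine le_antisymm ?_ ?_
  · rw [IsLocalization.AtPrime.ringKrullDim_eq_height q B]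
    refine le_of_le_of_eq (Ideal.height_le_ringKrullDim_of_ne_top Ideal.IsPrime.ne_top') ?_
    exact Groth.Agent.EGA4Alg4.ringKrullDim_eq_of_integral R S hinj
  · rw [IsLocalization.AtPrime.ringKrullDim_eq_height q B, ← IsLocalRing.maximalIdeal_height_eq_ringKrullDim,
      Ideal.height_eq_height_add_of_liesOver_of_hasGoingDown m q]
    exact WithBot.coe_le_coe.2 le_self_add

end Groth.Agent.S14670
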