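import Groth.Statements.S14671
import Groth.Agent.SymTen54.FlatLift
import Groth.Agent.PolLaw95.FlatTS

set_option autoImplicit false
universe u
open scoped TensorProduct
open SymTen

namespace Groth.Agent.S14671

/-- Let R be a commutative ring, M a flat R-module and n ≥ 0. Then the module of symmetric tensors of
degree n — the R-submodule of the n-fold tensor power of M over R consisting of the tensors fixed by
every permutation of the factors — is a flat R-module. (The published corollary also asserts that
forming symmetric tensors of a flat module commutes with every base change; only the flatness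
assertion is stated here.) -/
theorem result (R : Type u) [CommRing R] (M : Type u) [AddCommGroup M] [Module R M]
    [Module.Flat R M] (n : ℕ) :
    Module.Flat R ↥(⨅ σ : Equiv.Perm (Fin n),
      LinearMap.eqLocus (PiTensorProduct.reindex R (fun _ : Fin n => M) σ).toLinearMap LinearMap.id) := by
  classical
  set W := ⨅ σ : Equiv.Perm (Fin n),
    LinearMap.eqLocus (PiTensorProduct.reindex R (fun _ : Fin n => M) σ).toLinearMap LinearMap.id
  have hW : ∀ x : ⨂[R] _ : Fin n, M,
      x ∈ W ↔ ∀ σ : Equiv.Perm (Fin n), PiTensorProduct.reindex R (fun _ : Fin n => M) σ x = x := fun x => by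
    simp [W, Submodule.mem_iInf, LinearMap.mem_eqLocus]
  refine Module.Flat.iff_forall_isTrivialRelation.mpr fun {l a z} h => ?_
  obtain ⟨m, g, z', hz', hg, hrel⟩ := Groth.Agent.SymTen54.exists_free_model
    (fun i => (z i : ⨂[R] _ : Fin n, M)) (fun i σ => (hW _).mp (z i).2 σ) a
    (by simpa [Submodule.coe_sum] using congrArg Subtype.val h)
  let e : Module.Basis (ULift.{u} (Fin m)) R (Fin m → R) :=
    (Pi.basisFun R (Fin m)).reindex Equiv.ulift.symm
  have : Module.Projective R (SymTen.TS R (Fin m → R) n) := Groth.Agent.PolLaw95.projective_TS_of_basis e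
  let y : Fin l → SymTen.TS R (Fin m → R) n := fun i => ⟨z' i, hz' i⟩
  have hy : ∑ i, a i • y i = 0 := Subtype.ext (by simpa [y, AddSubmonoidClass.coe_finsetSum] using hrel)
  obtain ⟨k, c, w, h1, h2⟩ := Module.Flat.isTrivialRelation_of_sum_smul_eq_zero hy
  let G : SymTen.TS R (Fin m → R) n →ₗ[R] W :=
    LinearMap.codRestrict W ((PiTensorProduct.map fun _ : Fin n => g).comp
      (SymTen.TS R (Fin m → R) n).val.toLinearMap) fun t => (hW _).mpr fun σ => by
        simp only [LinearMap.comp_apply, AlgHom.toLinearMap_apply, Subalgebra.coe_val]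
        rw [← Groth.Agent.SymTen54.map_reindex, t.2 σ]
  have hG : ∀ i, G (y i) = z i := fun i => Subtype.ext (hg i)
  exact ⟨k, c, fun j => G (w j), fun i => by rw [← hG i, h1 i, map_sum]; simp, h2⟩

end Groth.Agent.S14671
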