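import Groth.Statements.S14674
import Groth.Agent.Cube7.MulPow
import Groth.Agent.FBase64.Geometric
import Groth.Agent.E4O.DvrCrit
-- import your own Groth.Agent.* helpers here

set_option autoImplicit false
universe u
open CategoryTheory CategoryTheory.Limits MonoidalCategory CartesianMonoidalCategory MonObj GrpObj AlgebraicGeometry
open AbSch Groth.Agent

namespace Groth.Agent.S14674

/-- Let S be a locally Noetherian scheme, X an abelian scheme over S (an S-group scheme whose structure
morphism α is proper and flat with geometrically integral fibres) with unit section e : S ⟶ X, L an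
invertible O_X-module and n an integer; write [n] for the n-th multiple of the identity in the group
of S-endomorphisms of X. Then [n]^*L ⊗ α^*(e^*L)^{⊗ n²} is isomorphic to L^{⊗(n²+n)/2} ⊗
[-1]^*L^{⊗(n²−n)/2} ⊗ α^*e^*L; equivalently [n]^*L ≅ L^{⊗(n²+n)/2} ⊗ [-1]^*L^{⊗(n²−n)/2} ⊗
[0]^*L^{⊗(1−n²)} with [0]^*L = α^*e^*L (existence of an isomorphism of O_X-modules only). -/
theorem result {S : Scheme.{u}} [IsLocallyNoetherian S] (X : Over S) [GrpObj X] [IsProper X.hom] [Flat X.hom] [GeometricallyIntegral X.hom]
    (L : X.left.Modules) (hL : PicF.IsInvertible L) (n : ℤ) :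
    Nonempty (CohB1.tensorMod ((Scheme.Modules.pullback (𝟙 X ^ n).left).obj L)
        ((Scheme.Modules.pullback X.hom).obj (CohB1.tensorPow ((Scheme.Modules.pullback (η[X]).left).obj L) (n.natAbs ^ 2))) ≅
      CohB1.tensorMod (CohB1.tensorMod (CohB1.tensorPow L ((n ^ 2 + n) / 2).toNat)
          ((Scheme.Modules.pullback (𝟙 X ^ (-1 : ℤ)).left).obj (CohB1.tensorPow L ((n ^ 2 - n) / 2).toNat)))
        ((Scheme.Modules.pullback X.hom).obj ((Scheme.Modules.pullback (η[X]).left).obj L))) := by
  have : GeometricallyConnected X.hom := FBase64.geometricallyConnected_of_geometricallyIrreducible X.hom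
  have : LocallyOfFinitePresentation X.hom := E4O.locallyOfFinitePresentation_of_isLocallyNoetherian X.hom
  have he := PicLoc.isInvertible_pullback (η[X]).left hL
  refine (PicGrp.cls_eq_cls_iff (EGA73.isInvertible_tensorMod (PicLoc.isInvertible_pullback _ hL)
      (PicLoc.isInvertible_pullback _ (EGA73.isInvertible_tensorPow he _)))
    (EGA73.isInvertible_tensorMod (EGA73.isInvertible_tensorMod (EGA73.isInvertible_tensorPow hL _)
      (PicLoc.isInvertible_pullback _ (EGA73.isInvertible_tensorPow hL _))) (PicLoc.isInvertible_pullback _ he))).1 ?_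
  rw [Cube7.PicCalc.cls_tensor (PicLoc.isInvertible_pullback _ hL)
      (PicLoc.isInvertible_pullback _ (EGA73.isInvertible_tensorPow he _)),
    Cube7.PicCalc.cls_tensor (EGA73.isInvertible_tensorMod (EGA73.isInvertible_tensorPow hL _)
      (PicLoc.isInvertible_pullback _ (EGA73.isInvertible_tensorPow hL _))) (PicLoc.isInvertible_pullback _ he),
    Cube7.PicCalc.cls_tensor (EGA73.isInvertible_tensorPow hL _)
      (PicLoc.isInvertible_pullback _ (EGA73.isInvertible_tensorPow hL _)),
    Cube7.cls_tensorPow_toNat hL (Cube7.nonneg_add n),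
    ← Cube7.PicCalc.pb_cls _ hL, ← Cube7.PicCalc.pb_cls _ (EGA73.isInvertible_tensorPow hL _),
    ← Cube7.PicCalc.pb_cls _ (EGA73.isInvertible_tensorPow he _), ← Cube7.PicCalc.pb_cls _ he,
    Cube7.cls_tensorPow_toNat hL (Cube7.nonneg_sub n), Cube7.PicCalc.cls_tensorPow,
    map_zpow, map_pow, ← Cube7.PicCalc.pb_cls _ hL, ← Cube7.mulCls_zero, ← zpow_natCast]
  have h := Cube7.mulCls_eq X (PicGrp.cls L hL) n
  rw [Cube7.mulCls_one] at h
  have hn : ((n.natAbs ^ 2 : ℕ) : ℤ) = n ^ 2 := by push_cast; exact sq_abs n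
  rw [hn]
  refine Eq.trans (congrArg (· * _) h) ?_
  rw [_root_.mul_assoc, ← zpow_add, sub_add_cancel, zpow_one]
  all_goals first | rfl | exact he

end Groth.Agent.S14674
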