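import Groth.Statements.S14676
import Mathlib

set_option autoImplicit false
universe u
open CAlg

namespace Groth.Agent.S14676

/-- Let A be a commutative ring which is separated and complete for the I-adic topology of an ideal I,
let P be any polynomial over A (not assumed monic) and a₀ an element of A such that P(a₀) lies in I
and P'(a₀) is a unit modulo I. Then there is a unique a in A congruent to a₀ modulo I with P(a) = 0. -/
theorem result (A : Type u) [CommRing A] (I : Ideal A) [IsAdicComplete I A]
    (P : Polynomial A) (a₀ : A) (h₀ : P.eval a₀ ∈ I)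
    (h₁ : IsUnit (Ideal.Quotient.mk I (P.derivative.eval a₀))) :
    ∃! a : A, a - a₀ ∈ I ∧ P.IsRoot a := by
  classical
  obtain ⟨v₀, hv⟩ := h₁.exists_right_inv
  obtain ⟨v, rfl⟩ := Ideal.Quotient.mk_surjective v₀
  rw [← map_mul, ← map_one (Ideal.Quotient.mk I), Ideal.Quotient.eq] at hv
  let s : ℕ → A := fun n => Nat.rec a₀ (fun _ b => b - v * P.eval b) n
  have hs : ∀ n, s n - a₀ ∈ I ∧ P.eval (s n) ∈ I ^ (n + 1) := by
    intro n
    induction n with
    | zero => exact ⟨by simp [s], by simpa [s] using h₀⟩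
    | succ n ih =>
      have hE : P.eval (s n) ∈ I := Ideal.pow_le_self (by omega) ih.2
      refine ⟨?_, ?_⟩
      · show s n - v * P.eval (s n) - a₀ ∈ I
        rw [sub_right_comm]; exact sub_mem ih.1 (Ideal.mul_mem_left _ _ hE)
      · show P.eval (s n - v * P.eval (s n)) ∈ I ^ (n + 1 + 1)
        obtain ⟨c, hc⟩ := P.binomExpansion (s n) (-(v * P.eval (s n)))
        have h2 : P.derivative.eval (s n) * v - 1 ∈ I := by
          have : P.derivative.eval (s n) * v - 1 = (P.derivative.eval (s n) - P.derivative.eval a₀) * v + (P.derivative.eval a₀ * v - 1) := by ring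
          rw [this]
          refine add_mem (Ideal.mul_mem_right _ _ ?_) hv
          obtain ⟨d, hd⟩ := Polynomial.sub_dvd_eval_sub (s n) a₀ P.derivative
          rw [hd]; exact Ideal.mul_mem_right _ _ ih.1
        rw [sub_eq_add_neg, hc, pow_succ]
        have : P.eval (s n) + P.derivative.eval (s n) * -(v * P.eval (s n)) + c * (-(v * P.eval (s n))) ^ 2
            = P.eval (s n) * (-(P.derivative.eval (s n) * v - 1) + c * v ^ 2 * P.eval (s n)) := by ring
        rw [this]
        exact Ideal.mul_mem_mul ih.2 (add_mem (neg_mem h2) (Ideal.mul_mem_left _ _ hE))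
  have hcauchy : ∀ {m n}, m ≤ n → s m ≡ s n [SMOD (I ^ m • ⊤ : Ideal A)] := by
    intro m n hmn
    induction n, hmn using Nat.le_induction with
    | base => rfl
    | succ n hmn ih =>
      refine ih.trans ?_
      rw [SModEq.sub_mem, smul_eq_mul, Ideal.mul_top]
      show s n - (s n - v * P.eval (s n)) ∈ I ^ m
      rw [sub_sub_cancel]
      exact Ideal.mul_mem_left _ _ (Ideal.pow_le_pow_right (by omega) (hs n).2)
  obtain ⟨a, ha⟩ := IsPrecomplete.prec' (I := I) s hcauchy
  have hroot : ∀ n, P.eval a ∈ I ^ n := by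
    intro n
    have h := ha n
    rw [SModEq.sub_mem, smul_eq_mul, Ideal.mul_top] at h
    obtain ⟨d, hd⟩ := Polynomial.sub_dvd_eval_sub (s n) a P
    have := sub_mem (Ideal.pow_le_pow_right (by omega : n ≤ n + 1) (hs n).2) (hd ▸ Ideal.mul_mem_right d _ h)
    simpa using this
  have ha0 : a - a₀ ∈ I := by
    have h := ha 1
    rw [SModEq.sub_mem, smul_eq_mul, Ideal.mul_top, pow_one] at h
    simpa using sub_mem (hs 1).1 h
  have hr : P.IsRoot a := IsHausdorff.haus' (I := I) _ fun n => by
    rw [SModEq.zero, smul_eq_mul, Ideal.mul_top]; exact hroot n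
  refine ⟨a, ⟨ha0, hr⟩, fun b ⟨hb, hbr⟩ => ?_⟩
  obtain ⟨c, hc⟩ := P.binomExpansion a (b - a)
  rw [add_sub_cancel, hbr, hr, zero_add] at hc
  have hu : IsUnit (P.derivative.eval a + c * (b - a)) := by
    have hmem : (P.derivative.eval a + c * (b - a)) * v - 1 ∈ I := by
      obtain ⟨d, hd⟩ := Polynomial.sub_dvd_eval_sub a a₀ P.derivative
      have e : (P.derivative.eval a + c * (b - a)) * v - 1
          = (P.derivative.eval a - P.derivative.eval a₀) * v + (P.derivative.eval a₀ * v - 1) + c * v * ((b - a₀) - (a - a₀)) := by ring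
      rw [e, hd]
      exact add_mem (add_mem (Ideal.mul_mem_right _ _ (Ideal.mul_mem_right _ _ ha0)) hv) (Ideal.mul_mem_left _ _ (sub_mem hb ha0))
    have := Ideal.mem_jacobson_bot.mp (IsAdicComplete.le_jacobson_bot I hmem) 1
    rw [mul_one, sub_add_cancel] at this
    exact isUnit_of_mul_isUnit_left this
  exact sub_eq_zero.mp (hu.mul_right_eq_zero.mp (by linear_combination -hc))

end Groth.Agent.S14676
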