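import Groth.Statements.S14677
import Mathlib

set_option autoImplicit false
universe u
open CAlg

namespace Groth.Agent.S14677

/-- Let A be a Noetherian commutative ring, I and J ideals of A and M a finitely generated A-module.
Then the map of I-adic completions induced by the inclusion of the submodule JM into M is injective
with image exactly J·M̂, where M̂ is the I-adic completion of M; that is, the completion of JM is J
times the completion of M. (The published statement does not say that A is Noetherian; its proof
uses exactness of completion on finitely generated modules, which needs it, so this row assumes A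
Noetherian.) -/
theorem result (A : Type u) [CommRing A] [IsNoetherianRing A] (I J : Ideal A)
    (M : Type u) [AddCommGroup M] [Module A M] [Module.Finite A M] :
    Function.Injective (AdicCompletion.map I (J • (⊤ : Submodule A M)).subtype) ∧
      LinearMap.range (AdicCompletion.map I (J • (⊤ : Submodule A M)).subtype) =
        (J.map (algebraMap A (AdicCompletion I A))) • (⊤ : Submodule (AdicCompletion I A) (AdicCompletion I M)) := by
  refine ⟨AdicCompletion.map_injective I (Submodule.subtype_injective _), le_antisymm ?_ ?_⟩
  · rintro _ ⟨z, rfl⟩
    obtain ⟨w, rfl⟩ := AdicCompletion.ofTensorProduct_surjective_of_finite I _ z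
    induction w using TensorProduct.induction_on with
    | zero => simp
    | add a b ha hb => simp only [map_add] at *; exact add_mem ha hb
    | tmul r y =>
      rw [AdicCompletion.ofTensorProduct_tmul, map_smul, AdicCompletion.map_of]
      refine Submodule.smul_mem _ _ ?_
      obtain ⟨y, hy⟩ := y
      show AdicCompletion.of I M y ∈ _
      induction hy using Submodule.smul_induction_on' with
      | smul a ha n _ =>
        rw [map_smul, ← algebraMap_smul (AdicCompletion I A) a (AdicCompletion.of I M n)]
        exact Submodule.smul_mem_smul (Ideal.mem_map_of_mem _ ha) Submodule.mem_top
      | add a _ b _ ha hb => rw [map_add]; exact add_mem ha hb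
  · refine Submodule.smul_le.mpr fun a ha n _ => ?_
    induction ha using Submodule.span_induction with
    | mem a ha =>
      obtain ⟨j, hj, rfl⟩ := ha
      rw [algebraMap_smul]
      obtain ⟨w, rfl⟩ := AdicCompletion.ofTensorProduct_surjective_of_finite I _ n
      induction w using TensorProduct.induction_on with
      | zero => simp
      | add a b ha hb => rw [map_add, smul_add]; exact add_mem (ha trivial) (hb trivial)
      | tmul r y =>
        rw [AdicCompletion.ofTensorProduct_tmul, smul_comm, ← map_smul]
        exact ⟨r • AdicCompletion.of I _ ⟨j • y, Submodule.smul_mem_smul hj Submodule.mem_top⟩,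
          by rw [map_smul, AdicCompletion.map_of]; rfl⟩
    | zero => simp
    | add a b _ _ ha hb => rw [add_smul]; exact add_mem ha hb
    | smul c a _ ha => rw [smul_assoc]; exact Submodule.smul_mem _ c ha

end Groth.Agent.S14677
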