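import Groth.Statements.S14678
import Groth.Agent.Unr55.ResidueExt
import Mathlib.AlgebraicGeometry.Morphisms.Preimmersion
import Mathlib.AlgebraicGeometry.Morphisms.Flat
import Mathlib.AlgebraicGeometry.Morphisms.FinitePresentation

set_option autoImplicit false
set_option backward.isDefEq.respectTransparency.types false
universe u
open CategoryTheory CategoryTheory.Limits AlgebraicGeometry
open EtBase

namespace Groth.Agent.S14678

/-- Let S be a scheme, s a point of S and ℓ a finite field extension of the residue field κ(s). Then,
fppf-locally around s, ℓ occurs as a residue field: there are an affine scheme U', a flat morphism b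
: U' ⟶ S locally of finite presentation (so with open image containing s) and a morphism t : Spec ℓ
⟶ U' over the canonical morphism Spec ℓ ⟶ Spec κ(s) ⟶ S which is a preimmersion, i.e. the inclusion
of a point s' of U' above s together with an identification of κ(s') with ℓ over κ(s); such a point
is closed in its fibre over s. (The published statement gives an affine open neighbourhood U of s
and an fppf morphism U' ⟶ U; this row asks only for a flat, locally finitely presented U' ⟶ S, whose
open image then contains s.) -/
theorem result (S : Scheme.{u}) (s : ↥S)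
    (ℓ : Type u) [Field ℓ] [Algebra (S.residueField s) ℓ] [Module.Finite (S.residueField s) ℓ] :
    ∃ (U' : Scheme.{u}) (b : U' ⟶ S) (t : Spec (CommRingCat.of ℓ) ⟶ U'),
      IsAffine U' ∧ Flat b ∧ LocallyOfFinitePresentation b ∧ IsPreimmersion t ∧
        t ≫ b = Spec.map (CommRingCat.ofHom (algebraMap (S.residueField s) ℓ)) ≫ S.fromSpecResidueField s := by
  obtain ⟨A, j, hj, hs, -⟩ := Scheme.exists_affine_mem_range_and_range_subset
    (x := s) (U := (⊤ : S.Opens)) trivial
  have hr : Set.range (S.fromSpecResidueField s) ⊆ Set.range j := by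
    rintro _ ⟨w, rfl⟩
    rw [Scheme.fromSpecResidueField_apply]; exact hs
  obtain ⟨σ, hσ⟩ := Spec.map_surjective (IsOpenImmersion.lift j (S.fromSpecResidueField s) hr)
  have hpre : IsPreimmersion (Spec.map σ) := by
    have : IsPreimmersion (Spec.map σ ≫ j) := by
      rw [hσ, IsOpenImmersion.lift_fac]; infer_instance
    exact IsPreimmersion.of_comp (Spec.map σ) j
  letI : Algebra A (S.residueField s) := σ.hom.toAlgebra
  letI : Algebra A ℓ := ((algebraMap (S.residueField s) ℓ).comp σ.hom).toAlgebra
  have : IsScalarTower A (S.residueField s) ℓ := IsScalarTower.of_algebraMap_eq fun _ => rfl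
  obtain ⟨B, _, _, τ, hfl, hfp, hτ⟩ := Groth.Agent.Unr55.ResidueExt.exists_surjectiveOnStalks
    (A := A) (κ := S.residueField s) (ℓ := ℓ) ((IsPreimmersion.SpecMap_iff σ).1 hpre).2
  have : Flat (Spec.map (CommRingCat.ofHom (algebraMap A B))) :=
    HasRingHomProperty.Spec_iff.2 (RingHom.flat_algebraMap_iff.2 hfl)
  have : LocallyOfFinitePresentation (Spec.map (CommRingCat.ofHom (algebraMap A B))) :=
    HasRingHomProperty.Spec_iff.2 (RingHom.finitePresentation_algebraMap.2 hfp)
  refine ⟨Spec (CommRingCat.of B), Spec.map (CommRingCat.ofHom (algebraMap A B)) ≫ j,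
    Spec.map (CommRingCat.ofHom τ.toRingHom), inferInstance, inferInstance, inferInstance,
    IsPreimmersion.mk_SpecMap ?_ hτ, ?_⟩
  · exact Topology.IsEmbedding.of_subsingleton _
  · rw [← Category.assoc, ← IsOpenImmersion.lift_fac j (S.fromSpecResidueField s) hr, ← hσ, ← Category.assoc,
      ← Spec.map_comp, ← Spec.map_comp]
    congr 2
    exact CommRingCat.hom_ext (RingHom.ext fun a => τ.commutes a)

end Groth.Agent.S14678
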