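import Groth.Statements.S14679
import Mathlib.AlgebraicGeometry.PullbackCarrier
import Mathlib.AlgebraicGeometry.Morphisms.UniversallyInjective

set_option autoImplicit false
set_option backward.isDefEq.respectTransparency.types false
universe u
open CategoryTheory CategoryTheory.Limits AlgebraicGeometry
open EtBase

namespace Groth.Agent.S14679

/-- Given a morphism of schemes f : X ⟶ Y and a point x ∈ X with image y = f(x), such that the residue
field map κ(y) → κ(x) is bijective; let ℓ be an algebraic extension field of κ(y) and form the base
change X ×_Y Spec ℓ along Spec ℓ ⟶ Spec κ(y) ⟶ Y. Then there is exactly one point of X ×_Y Spec ℓ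
mapping to x under the first projection. (The published statement takes ℓ to be an algebraic closure
of κ(y), noting that any algebraic extension works, and also identifies the local ring at the point
with O_{X,x} ⊗_{O_{Y,y}} ℓ; this row allows any algebraic extension ℓ and states only the first
assertion.) -/
theorem result {X Y : Scheme.{u}} (f : X ⟶ Y) (x : ↥X)
    (hx : Function.Bijective (f.residueFieldMap x).hom)
    (ℓ : Type u) [Field ℓ] [Algebra (Y.residueField (f.base x)) ℓ] [Algebra.IsAlgebraic (Y.residueField (f.base x)) ℓ] :
    ∃! z : ↥(pullback f (Spec.map (CommRingCat.ofHom (algebraMap (Y.residueField (f.base x)) ℓ)) ≫ Y.fromSpecResidueField (f.base x))),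
      (pullback.fst f (Spec.map (CommRingCat.ofHom (algebraMap (Y.residueField (f.base x)) ℓ)) ≫ Y.fromSpecResidueField (f.base x))).base z = x := by
  let γ := Spec.map (CommRingCat.ofHom (algebraMap (Y.residueField (f.base x)) ℓ))
  let g := γ ≫ Y.fromSpecResidueField (f.base x)
  show ∃! z : ↥(pullback f g), (pullback.fst f g).base z = x
  have : IsIso (f.residueFieldMap x) := (ConcreteCategory.isIso_iff_bijective _).2 hx
  let P := pullback (X.fromSpecResidueField x ≫ f) g
  have hmono : Mono (Y.fromSpecResidueField (f.base x)) := inferInstance
  have hP : IsPullback (pullback.snd (X.fromSpecResidueField x ≫ f) g) (pullback.fst (X.fromSpecResidueField x ≫ f) g)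
      g (X.fromSpecResidueField x ≫ f) := (IsPullback.of_hasPullback _ g).flip
  have hsub : Subsingleton ↥P := by
    have hcomp : X.fromSpecResidueField x ≫ f = Spec.map (f.residueFieldMap x) ≫ Y.fromSpecResidueField (f.base x) :=
      (Scheme.Hom.SpecMap_residueFieldMap_fromSpecResidueField f x).symm
    have : Mono (X.fromSpecResidueField x ≫ f) := hcomp ▸ inferInstance
    have : Mono (pullback.snd (X.fromSpecResidueField x ≫ f) g) := inferInstance
    exact ⟨fun a b => (pullback.snd (X.fromSpecResidueField x ≫ f) g).injective (Subsingleton.elim _ _)⟩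
  let k : P ⟶ pullback f g := pullback.lift (pullback.fst _ g ≫ X.fromSpecResidueField x) (pullback.snd _ g)
    (by rw [Category.assoc]; exact pullback.condition)
  have hk : IsPullback k (pullback.fst (X.fromSpecResidueField x ≫ f) g) (pullback.fst f g) (X.fromSpecResidueField x) := by
    refine IsPullback.of_right ?_ (pullback.lift_fst _ _ _) (IsPullback.of_hasPullback f g).flip
    simp only [k, pullback.lift_snd]; exact hP
  obtain ⟨z, hz, -⟩ := Scheme.Pullback.exists_preimage_pullback (f := f) (g := g) x default (by
    show f.base x = Y.fromSpecResidueField (f.base x) (γ default)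
    rw [Scheme.fromSpecResidueField_apply])
  refine ⟨z, hz, fun z' hz' => ?_⟩
  have key : ∀ w, (pullback.fst f g) w = x → ∃ p : P, k p = w := by
    intro w hw
    obtain ⟨v, hv1, hv2⟩ := Scheme.Pullback.exists_preimage_pullback (f := pullback.fst f g)
      (g := X.fromSpecResidueField x) w default (by rw [hw, Scheme.fromSpecResidueField_apply])
    exact ⟨hk.isoPullback.inv v, by rw [← Scheme.Hom.comp_apply, hk.isoPullback_inv_fst, hv1]⟩
  obtain ⟨p, rfl⟩ := key z hz
  obtain ⟨p', rfl⟩ := key z' hz'
  rw [Subsingleton.elim p' p]

end Groth.Agent.S14679
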