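import Groth.Statements.S14680
import Mathlib

set_option autoImplicit false
universe u
open CAlg

namespace Groth.Agent.S14680

/-- Let A be a Noetherian commutative ring and f : M' → M, g : M → M'' linear maps between finitely
generated A-modules. Then the sequence 0 → M' → M → M'' → 0 is exact — f injective, the image of f
equal to the kernel of g, g surjective — if and only if for every maximal ideal m of A the sequence
of m-adic completions 0 → M'^ → M^ → M''^ → 0 (maps induced by f and g) is exact in the same sense. -/
theorem result (A : Type u) [CommRing A] [IsNoetherianRing A]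
    (M' M M'' : Type u) [AddCommGroup M'] [Module A M'] [AddCommGroup M] [Module A M] [AddCommGroup M''] [Module A M'']
    [Module.Finite A M'] [Module.Finite A M] [Module.Finite A M''] (f : M' →ₗ[A] M) (g : M →ₗ[A] M'') :
    (Function.Injective f ∧ Function.Exact f g ∧ Function.Surjective g) ↔
      ∀ (m : Ideal A) [m.IsMaximal],
        Function.Injective (AdicCompletion.map m f) ∧ Function.Exact (AdicCompletion.map m f) (AdicCompletion.map m g) ∧
          Function.Surjective (AdicCompletion.map m g) := by
  constructor
  · rintro ⟨h1, h2, h3⟩ m hm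
    exact ⟨AdicCompletion.map_injective m h1, AdicCompletion.map_exact h1 h2 h3, AdicCompletion.map_surjective m h3⟩
  intro h
  have hzero : ∀ (Q : Type u) [AddCommGroup Q] [Module A Q] [Module.Finite A Q],
      (∀ (m : Ideal A) [m.IsMaximal], ∀ z : AdicCompletion m Q, z = 0) → ∀ q : Q, q = 0 := by
    intro Q _ _ _ hQ q
    apply Module.eq_zero_of_localization_maximal (R := A) (fun P (_ : P.IsMaximal) => LocalizedModule P.primeCompl Q) (fun P _ => LocalizedModule.mkLinearMap P.primeCompl Q) q
    intro P hP
    have htop : (P • ⊤ : Submodule A Q) = ⊤ := by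
      rw [eq_top_iff]
      intro y _
      have := congrArg (fun z => z.val 1) (hQ P (AdicCompletion.of P Q y))
      rw [← pow_one P]
      exact (Submodule.Quotient.mk_eq_zero _).mp (by simpa using this)
    obtain ⟨r, hr1, hr2⟩ := Submodule.exists_sub_one_mem_and_smul_eq_zero_of_fg_of_le_smul P ⊤ Module.Finite.fg_top htop.ge
    have hrP : r ∈ P.primeCompl := fun hr => hP.ne_top ((Ideal.eq_top_iff_one P).mpr (by simpa using sub_mem hr hr1))
    exact (IsLocalizedModule.eq_zero_iff P.primeCompl _).mpr ⟨⟨r, hrP⟩, hr2 q Submodule.mem_top⟩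
  refine ⟨?_, ?_, ?_⟩
  · rw [← LinearMap.ker_eq_bot, eq_bot_iff]
    intro x hx
    have := hzero (LinearMap.ker f) (fun m _ z => by
      apply AdicCompletion.map_injective m (LinearMap.ker f).subtype_injective
      apply (h m).1
      rw [← LinearMap.comp_apply, AdicCompletion.map_comp, LinearMap.comp_ker_subtype, AdicCompletion.map_zero]
      simp) ⟨x, hx⟩
    simpa using this
  · have hgf : g ∘ₗ f = 0 := by
      have := hzero (LinearMap.range (g ∘ₗ f)) (fun m _ z => by
        obtain ⟨y, rfl⟩ := AdicCompletion.map_surjective m (g ∘ₗ f).surjective_rangeRestrict z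
        apply AdicCompletion.map_injective m (LinearMap.range (g ∘ₗ f)).subtype_injective
        rw [map_zero, ← LinearMap.comp_apply, AdicCompletion.map_comp,
          show (LinearMap.range (g ∘ₗ f)).subtype ∘ₗ (g ∘ₗ f).rangeRestrict = g ∘ₗ f from rfl, ← AdicCompletion.map_comp]
        exact ((h m).2.1.apply_apply_eq_zero y))
      ext x
      exact congrArg Subtype.val (this ((g ∘ₗ f).rangeRestrict x))
    rw [LinearMap.exact_iff]
    refine le_antisymm (fun x hx => ?_) (by rintro _ ⟨y, rfl⟩; exact LinearMap.congr_fun hgf y)
    let f' : M' →ₗ[A] LinearMap.ker g := f.codRestrict _ (fun y => LinearMap.congr_fun hgf y)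
    let C := LinearMap.ker g ⧸ LinearMap.range f'
    have := hzero C (fun m _ z => by
      obtain ⟨y, rfl⟩ := AdicCompletion.map_surjective m (LinearMap.range f').mkQ_surjective z
      obtain ⟨w, hw⟩ := ((h m).2.1 (AdicCompletion.map m (LinearMap.ker g).subtype y)).mp (by
        rw [← LinearMap.comp_apply, AdicCompletion.map_comp, LinearMap.comp_ker_subtype, AdicCompletion.map_zero]; simp)
      have : y = AdicCompletion.map m f' w := by
        apply AdicCompletion.map_injective m (LinearMap.ker g).subtype_injective
        rw [← hw, ← LinearMap.comp_apply (g := AdicCompletion.map m f'), AdicCompletion.map_comp]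
        rfl
      rw [this, ← LinearMap.comp_apply, AdicCompletion.map_comp, LinearMap.range_mkQ_comp, AdicCompletion.map_zero]
      simp) (Submodule.Quotient.mk ⟨x, hx⟩)
    obtain ⟨y, hy⟩ := (Submodule.Quotient.mk_eq_zero _).mp this
    exact ⟨y, congrArg Subtype.val hy⟩
  · rw [← LinearMap.range_eq_top, eq_top_iff]
    intro x _
    have := hzero (M'' ⧸ LinearMap.range g) (fun m _ z => by
      obtain ⟨y, rfl⟩ := AdicCompletion.map_surjective m (LinearMap.range g).mkQ_surjective z
      obtain ⟨w, rfl⟩ := (h m).2.2 y
      rw [← LinearMap.comp_apply, AdicCompletion.map_comp, LinearMap.range_mkQ_comp, AdicCompletion.map_zero]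
      simp) (Submodule.Quotient.mk x)
    exact (Submodule.Quotient.mk_eq_zero _).mp this

end Groth.Agent.S14680
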