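import Groth.Statements.S14683
import Mathlib
import Groth.Agent.SekSuwa2.Points

set_option autoImplicit false
set_option linter.style.haveILetI false
set_option linter.style.longLine false
universe u
open CategoryTheory AlgebraicGeometry MonoidalCategory CartesianMonoidalCategory MonObj GrpObj
open SekSuwa

namespace Groth.Agent.S14683

/-- Let R be a discrete valuation ring of characteristic zero and residue characteristic p, and let λ, μ
∈ R satisfy the divisibility condition under which the finite R-group schemes G_{λ,1} and G_{μ,1}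
(the kernels of the isogenies ψ of the one-parameter groups with law s + t + λst, resp. μ) are
defined. Then every action of G_{μ,1} on G_{λ,1} by group automorphisms is trivial: for every
R-scheme T and all T-valued points g of G_{μ,1} and x of G_{λ,1}, g · x = x. An action by group
automorphisms is an action of the group scheme G_{μ,1} on the scheme G_{λ,1} whose action map is
multiplicative in the second variable on points. (The published statement is made under standing
assumptions that R contains a primitive p²-th root of unity and that λ, μ have positive valuation;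
this row drops both, which the argument does not use.) -/
theorem result (R : Type u) [CommRing R] [IsDomain R] [IsDiscreteValuationRing R] [CharZero R]
    (p : ℕ) [Fact p.Prime] [CharP (IsLocalRing.ResidueField R) p]
    (lam mu : R) (h₁ : SekSuwa.DivCond lam p) (h₂ : SekSuwa.DivCond mu p)
    (a : AlgGrp.Action (SekSuwa.GK R mu p h₂) (SekSuwa.GK R lam p h₁))
    (hmul : ∀ (T : Over (Spec (CommRingCat.of R))) (g : T ⟶ SekSuwa.GK R mu p h₂)
      (x y : T ⟶ SekSuwa.GK R lam p h₁), lift g (x * y) ≫ a.act = (lift g x ≫ a.act) * (lift g y ≫ a.act))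
    (T : Over (Spec (CommRingCat.of R))) (g : T ⟶ SekSuwa.GK R mu p h₂) (x : T ⟶ SekSuwa.GK R lam p h₁) :
    lift g x ≫ a.act = x := by
  have hp : p.Prime := Fact.out
  let L := AlgebraicClosure (FractionRing R)
  have hinj : Function.Injective (algebraMap R L) := by
    rw [IsScalarTower.algebraMap_eq R (FractionRing R) L]
    exact (algebraMap (FractionRing R) L).injective.comp (IsFractionRing.injective R _)
  haveI : CharZero L := charZero_of_injective_algebraMap hinj
  have hl : algebraMap R L lam ≠ 0 := fun e => nonZeroDivisors.ne_zero (SekSuwa.DivCond.nzd h₁) (hinj (e.trans (map_zero _).symm))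
  have hm : algebraMap R L mu ≠ 0 := fun e => nonZeroDivisors.ne_zero (SekSuwa.DivCond.nzd h₂) (hinj (e.trans (map_zero _).symm))
  suffices key : a.act = snd (SekSuwa.GK R mu p h₂) (SekSuwa.GK R lam p h₁) by rw [key, lift_snd]
  refine Over.OverMorphism.ext ?_
  let e := pullbackSpecIso R (SekSuwa.AK R mu p h₂) (SekSuwa.AK R lam p h₁)
  refine (cancel_epi e.inv).1 ?_
  obtain ⟨ρ₁, hρ₁⟩ := Spec.map_surjective (e.inv ≫ a.act.left)
  obtain ⟨ρ₂, hρ₂⟩ := Spec.map_surjective (e.inv ≫ (snd (SekSuwa.GK R mu p h₂) (SekSuwa.GK R lam p h₁)).left)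
  refine hρ₁.symm.trans (Eq.trans ?_ hρ₂)
  refine congrArg Spec.map (CommRingCat.hom_ext (RingHom.ext fun z => ?_))
  refine sub_eq_zero.1 (SekSuwa2.eq_zero_of_points h₁ L h₂ hinj hl hm _ fun ga de => ?_)
  rw [map_sub, sub_eq_zero]
  let ev := Algebra.TensorProduct.lift ga de fun _ _ => Commute.all _ _
  let T₀ := SekSuwa2.pt (R := R) L
  let gp := SekSuwa2.ptHom h₂ L ga
  let xp := SekSuwa2.ptHom h₁ L de
  have htriv := SekSuwa2.act_points_trivial a T₀ (hmul T₀) p (SekSuwa2.card_points h₂ L hm).1
    (SekSuwa2.card_points h₁ L hl).1 gp xp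
  have hlift : (lift gp xp).left = Spec.map (CommRingCat.ofHom ev.toRingHom) ≫ e.inv := by
    have hf : (lift gp xp).left ≫ (fst (SekSuwa.GK R mu p h₂) (SekSuwa.GK R lam p h₁)).left = gp.left := by
      rw [← Over.comp_left, lift_fst]
    have hs : (lift gp xp).left ≫ (snd (SekSuwa.GK R mu p h₂) (SekSuwa.GK R lam p h₁)).left = xp.left := by
      rw [← Over.comp_left, lift_snd]
    refine Limits.pullback.hom_ext ?_ ?_
    · refine Eq.trans hf ?_
      show Spec.map (CommRingCat.ofHom ga.toRingHom) = (Spec.map (CommRingCat.ofHom ev.toRingHom) ≫ e.inv) ≫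
        Limits.pullback.fst (Spec.map (CommRingCat.ofHom (algebraMap R (SekSuwa.AK R mu p h₂)))) (Spec.map (CommRingCat.ofHom (algebraMap R (SekSuwa.AK R lam p h₁))))
      rw [Category.assoc, pullbackSpecIso_inv_fst, ← Spec.map_comp, ← CommRingCat.ofHom_comp]
      congr 2
      exact RingHom.ext fun y => by simp [ev]
    · refine Eq.trans hs ?_
      show Spec.map (CommRingCat.ofHom de.toRingHom) = (Spec.map (CommRingCat.ofHom ev.toRingHom) ≫ e.inv) ≫
        Limits.pullback.snd (Spec.map (CommRingCat.ofHom (algebraMap R (SekSuwa.AK R mu p h₂)))) (Spec.map (CommRingCat.ofHom (algebraMap R (SekSuwa.AK R lam p h₁))))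
      rw [Category.assoc, pullbackSpecIso_inv_snd, ← Spec.map_comp, ← CommRingCat.ofHom_comp]
      congr 2
      exact RingHom.ext fun y => by simp [ev]
  have h1 : Spec.map (CommRingCat.ofHom ev.toRingHom) ≫ Spec.map ρ₁ = xp.left := by
    rw [hρ₁, ← Category.assoc, ← hlift]
    exact congrArg CommaMorphism.left htriv
  have h2 : Spec.map (CommRingCat.ofHom ev.toRingHom) ≫ Spec.map ρ₂ = xp.left := by
    rw [hρ₂, ← Category.assoc, ← hlift]
    exact congrArg CommaMorphism.left (lift_snd gp xp)
  have h3 := h1.trans h2.symm
  rw [← Spec.map_comp, ← Spec.map_comp] at h3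
  exact ConcreteCategory.congr_hom (Spec.map_injective h3) z

end Groth.Agent.S14683
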