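import Groth.Statements.S14692
import Groth.Agent.CAlg6.KummerLevel
-- import your own Groth.Agent.* helpers here

set_option autoImplicit false
universe u
open CAlg

namespace Groth.Agent.S14692

/-- Let R be a discrete valuation ring of characteristic zero and residue characteristic p, with
uniformizer π and a primitive p^n-th root of unity ζ (n ≥ 1), and A a Noetherian integrally closed
domain which is a faithfully flat R-algebra, in which πA is a prime ideal and every element that is
a unit modulo π is a unit (as when A is π-adically complete, or local). Let f, g be units of A, j a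
natural number with π^{p^{n−1}(p−1)(j+1)} dividing p (that is, j is less than the valuation of ζ −
1, so that the polynomials ((1 + π^{j}T)^{p^n} − 1)/π^{jp^n} and ((1 + π^{j+1}T)^{p^n} −
1)/π^{(j+1)p^n} have coefficients in R), and f₀ ∈ A with f·g^{p^n} = 1 + π^{j p^n}·f₀; suppose j is
maximal with this property: there is no unit g' of A with f·g'^{p^n} ≡ 1 modulo π^{(j+1)p^n}.
Suppose moreover that the algebra L = A[1/π][Z]/(Z^{p^n} − f) is an integral domain (the
μ_{p^n}-torsor Z^{p^n} = f is connected on the generic fibre) and that, B denoting the integral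
closure of A in L (the normalization of Spec A in that cover), the ideal πB is radical (the
normalization has reduced special fibre). Then f₀ is not congruent modulo πA to a p^n-th power. (The
published statement phrases the hypothesis on j as: the class of the torsor Z^{p^n} = f lies in
H¹(Spec A, G_{π^j,n}) and not in H¹(Spec A, G_{π^{j+1},n}); the conditions on g and g' are its
ring-theoretic form, which is the first assertion of the same lemma; A is there factorial and
π-adically complete, or normal local, which this row keeps only through the consequences used: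
integrally closed, and units lift modulo π.) -/
theorem result
    (R : Type u) [CommRing R] [IsDomain R] [IsDiscreteValuationRing R] [CharZero R]
    (p : ℕ) [Fact p.Prime] [CharP (IsLocalRing.ResidueField R) p] (ϖ : R) (hϖ : Irreducible ϖ)
    (n : ℕ) (hn : 0 < n) (ζ : R) (hζ : IsPrimitiveRoot ζ (p ^ n))
    (A : Type u) [CommRing A] [IsDomain A] [IsNoetherianRing A] [IsIntegrallyClosed A] [Algebra R A]
    [Module.FaithfullyFlat R A]
    (hprime : (Ideal.span {algebraMap R A ϖ}).IsPrime)
    (hlift : ∀ a : A, IsUnit (Ideal.Quotient.mk (Ideal.span {algebraMap R A ϖ}) a) → IsUnit a)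
    (f g : Aˣ) (j : ℕ) (hj : ϖ ^ (p ^ (n - 1) * (p - 1) * (j + 1)) ∣ (p : R)) (f₀ : A)
    (hfg : (f : A) * (g : A) ^ (p ^ n) = 1 + (algebraMap R A ϖ) ^ (j * p ^ n) * f₀)
    (hmax : ∀ (g' : Aˣ) (c : A), (f : A) * (g' : A) ^ (p ^ n) ≠ 1 + (algebraMap R A ϖ) ^ ((j + 1) * p ^ n) * c)
    [IsDomain (AdjoinRoot (Polynomial.X ^ (p ^ n) - Polynomial.C (algebraMap A (Localization.Away (algebraMap R A ϖ)) (f : A))))]
    (hred : (Ideal.span {algebraMap A (integralClosure A (AdjoinRoot (Polynomial.X ^ (p ^ n) - Polynomial.C (algebraMap A (Localization.Away (algebraMap R A ϖ)) (f : A))))) (algebraMap R A ϖ)}).IsRadical)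
    (g₀ : A) : f₀ - g₀ ^ (p ^ n) ∉ Ideal.span {(algebraMap R A ϖ)} := by
  classical
  intro hmem
  obtain ⟨c₀, hc₀⟩ := Ideal.mem_span_singleton'.1 hmem
  have hp : p.Prime := Fact.out
  set π : A := algebraMap R A ϖ with hπ
  set q := p ^ n with hq
  have hq0 : 0 < q := pow_pos hp.pos _
  set Aw := Localization.Away π
  set F : Polynomial Aw := Polynomial.X ^ q - Polynomial.C (algebraMap A Aw (f : A))
  set L := AdjoinRoot F
  obtain ⟨⟨P₁, -, hP₁⟩, P₀, hP₀d, hP₀⟩ := CAlg6.KummerLevel.exists_expansion hp hn hj
  have hπ0 : π ≠ 0 := by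
    rw [hπ]
    intro h
    exact hϖ.ne_zero (FaithfulSMul.algebraMap_injective R A (h.trans (map_zero _).symm))
  have hAw : Function.Injective (algebraMap A Aw) :=
    IsLocalization.injective Aw (powers_le_nonZeroDivisors_of_noZeroDivisors hπ0)
  haveI : IsDomain Aw :=
    IsLocalization.isDomain_localization (powers_le_nonZeroDivisors_of_noZeroDivisors hπ0)
  have hAwL : Function.Injective (algebraMap Aw L) := by
    refine AdjoinRoot.of.injective_of_degree_ne_zero ?_
    rw [Polynomial.degree_X_pow_sub_C hq0]
    exact_mod_cast hq0.ne'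
  have hAL : Function.Injective (algebraMap A L) := by
    rw [IsScalarTower.algebraMap_eq A Aw L]
    exact hAwL.comp hAw
  have hπu : IsUnit (algebraMap A L π) := by
    rw [IsScalarTower.algebraMap_apply A Aw L]
    exact (IsLocalization.Away.algebraMap_isUnit π).map _
  haveI : IsScalarTower R A L := inferInstance
  set ι := algebraMap A L with hι
  have hϖL : algebraMap R L ϖ = ι π := IsScalarTower.algebraMap_apply R A L ϖ
  -- the Kummer generator
  set y : L := AdjoinRoot.root F * ι (g : A)
  have hy : y ^ q = 1 + ι π ^ (j * q) * ι f₀ := by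
    have h1 : AdjoinRoot.root F ^ q = ι (f : A) := by
      have h0 := AdjoinRoot.eval₂_root F
      simp only [F, Polynomial.eval₂_sub, Polynomial.eval₂_X_pow, Polynomial.eval₂_C] at h0
      rw [hι, IsScalarTower.algebraMap_apply A Aw L, AdjoinRoot.algebraMap_eq]
      exact sub_eq_zero.1 h0
    rw [show y ^ q = AdjoinRoot.root F ^ q * ι (g : A) ^ q from mul_pow _ _ _, h1, ← map_pow, ← map_mul, hfg]
    simp only [map_add, map_one, map_mul, map_pow]
  -- its reduced form is integral
  obtain ⟨u, hu⟩ := hπu.exists_right_inv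
  set T : L := u ^ j * (y - 1)
  have hyT : y = 1 + ι π ^ j * T := by
    rw [show ι π ^ j * T = (ι π * u) ^ j * (y - 1) by simp only [T]; ring, hu, one_pow]
    ring
  have hT : T ^ q + ι π * Polynomial.aeval T P₀ = ι f₀ := by
    have h1 := hP₀ L T
    rw [hϖL, ← hyT, hy] at h1
    exact (mul_left_cancel₀ (pow_ne_zero _ (hπu.ne_zero)) (add_left_cancel h1)).symm
  have hTint : IsIntegral A T := by
    refine ⟨Polynomial.X ^ q + (Polynomial.C π * P₀.map (algebraMap R A) - Polynomial.C f₀),
      Polynomial.monic_X_pow_add ((Polynomial.degree_sub_le _ _).trans_lt (max_lt ?_ ?_)), ?_⟩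
    · rw [Polynomial.degree_C_mul hπ0]
      exact (Polynomial.degree_map_le).trans_lt hP₀d
    · exact Polynomial.degree_C_le.trans_lt (by exact_mod_cast hq0)
    · rw [← Polynomial.aeval_def]
      simp only [map_add, map_sub, map_mul, map_pow, Polynomial.aeval_X, Polynomial.aeval_C,
        Polynomial.aeval_map_algebraMap]
      linear_combination hT
  set B := integralClosure A L
  let Tb : B := ⟨T, hTint⟩
  -- reducedness
  obtain ⟨s, hs⟩ : algebraMap A B π ∣ Tb - algebraMap A B g₀ := by
    refine Ideal.mem_span_singleton.1 (hred ⟨q, Ideal.mem_span_singleton.2 ?_⟩)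
    obtain ⟨m, hm⟩ : ∃ m, q = p ^ m := ⟨n, rfl⟩
    have hpdvd : (algebraMap A B π : B) ∣ (p : B) := by
      have h1 : (ϖ : R) ∣ (p : R) := by
        refine (dvd_pow_self ϖ ?_).trans hj
        have := hp.two_le
        exact Nat.mul_ne_zero (Nat.mul_ne_zero (pow_ne_zero _ hp.ne_zero) (by omega)) (by omega)
      simpa using map_dvd ((algebraMap A B).comp (algebraMap R A)) h1
    have h2 : (p : B) ∣ (Tb - algebraMap A B g₀) ^ q - (Tb ^ q - algebraMap A B g₀ ^ q) := by
      obtain ⟨r, hr⟩ := (exists_add_pow_prime_pow_eq hp (Tb - algebraMap A B g₀) (algebraMap A B g₀) n)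
      rw [sub_add_cancel] at hr
      exact ⟨-(Tb - algebraMap A B g₀) * algebraMap A B g₀ * r, by rw [hq, hr]; ring⟩
    have h3 : algebraMap A B π ∣ Tb ^ q - algebraMap A B g₀ ^ q := by
      have hP₀B : Polynomial.aeval T P₀ ∈ B := by
        rw [← Polynomial.aeval_map_algebraMap A T P₀]
        exact Subalgebra.aeval_coe B Tb (P₀.map (algebraMap R A)) ▸ SetLike.coe_mem _
      refine ⟨algebraMap A B c₀ - ⟨Polynomial.aeval T P₀, hP₀B⟩, Subtype.ext ?_⟩
      simp only [Subalgebra.coe_sub, Subalgebra.coe_pow, Subalgebra.coe_mul, Subalgebra.coe_algebraMap]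
      have h4 := congrArg ι hc₀
      rw [map_mul, map_sub, map_pow] at h4
      simp only [Tb]
      linear_combination hT - h4
    have h5 := dvd_add (hpdvd.trans h2) h3
    simpa using h5
  have hs' : T = ι g₀ + ι π * (s : L) := by
    have := congrArg Subtype.val hs
    simp only [Subalgebra.coe_sub, Subalgebra.coe_mul, Subalgebra.coe_algebraMap, Tb] at this
    linear_combination this
  -- the correcting unit
  have hv : IsUnit (1 + π ^ j * g₀) := by
    refine hlift _ ?_
    rcases Nat.eq_zero_or_pos j with rfl | hj0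
    · have h1 : Ideal.Quotient.mk (Ideal.span {π}) ((1 + g₀) ^ q) =
          Ideal.Quotient.mk (Ideal.span {π}) ((f : A) * (g : A) ^ q) := by
        rw [hfg, zero_mul, pow_zero, one_mul, Ideal.Quotient.eq, Ideal.mem_span_singleton]
        have h2 : π ∣ (p : A) := by
          have h1 : (ϖ : R) ∣ (p : R) := by
            refine (dvd_pow_self ϖ ?_).trans hj
            have := hp.two_le
            exact Nat.mul_ne_zero (Nat.mul_ne_zero (pow_ne_zero _ hp.ne_zero) (by omega)) (by omega)
          simpa [hπ] using map_dvd (algebraMap R A) h1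
        obtain ⟨r, hr⟩ := exists_add_pow_prime_pow_eq hp (1 : A) g₀ n
        obtain ⟨t, ht⟩ := h2
        rw [hq, hr, one_pow]
        exact ⟨t * 1 * g₀ * r - c₀, by rw [ht]; linear_combination hc₀⟩
      rw [pow_zero, one_mul]
      refine (isUnit_pow_iff hq0.ne').1 ?_
      rw [← map_pow, h1]
      exact ((f.isUnit.mul (g.isUnit.pow q))).map _
    · have h1 : Ideal.Quotient.mk (Ideal.span {π}) (1 + π ^ j * g₀) = 1 := by
        rw [← map_one (Ideal.Quotient.mk (Ideal.span {π})), Ideal.Quotient.eq, add_sub_cancel_left]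
        exact Ideal.mul_mem_right _ _ (Ideal.pow_mem_of_mem _ (Ideal.mem_span_singleton_self π) j hj0)
      rw [h1]
      exact isUnit_one
  obtain ⟨v, hv⟩ := hv
  let g' : Aˣ := g * v⁻¹
  set vi : A := ((v⁻¹ : Aˣ) : A)
  have hvv : ι (v : A) * ι vi = 1 := by rw [← map_mul, Units.mul_inv, map_one]
  set s' : L := (s : L) * ι vi
  have hy' : y * ι vi = 1 + ι π ^ (j + 1) * s' := by
    have h1 : y = ι (v : A) + ι π ^ (j + 1) * (s : L) := by
      rw [hv, hyT, hs', map_add, map_one, map_mul, map_pow]
      ring
    rw [h1, add_mul, hvv]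
    ring
  have hc : IsIntegral A (s' ^ q + Polynomial.aeval s' P₁) := by
    have hs'' : s' ∈ B := mul_mem s.2 (B.algebraMap_mem vi)
    refine add_mem (pow_mem hs'' q) (?_ : Polynomial.aeval s' P₁ ∈ B)
    rw [← Polynomial.aeval_map_algebraMap A s' P₁]
    exact Subalgebra.aeval_coe B ⟨s', hs''⟩ (P₁.map (algebraMap R A)) ▸ SetLike.coe_mem _
  -- descent to the integrally closed base
  obtain ⟨w, hw⟩ := (IsLocalization.Away.algebraMap_isUnit (S := Aw) π).exists_right_inv
  let cw : Aw := w ^ ((j + 1) * q) * algebraMap A Aw ((f : A) * (g' : A) ^ q - 1)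
  have hcw : algebraMap Aw L cw = s' ^ q + Polynomial.aeval s' P₁ := by
    have h1 := hP₁ L s'
    rw [hϖL, ← hy', mul_pow, hy] at h1
    have h2 : ι ((f : A) * (g' : A) ^ q - 1) = (1 + ι π ^ (j * q) * ι f₀) * ι vi ^ q - 1 := by
      rw [show (g' : A) = (g : A) * vi from rfl, mul_pow, ← mul_assoc, hfg]
      simp only [map_add, map_sub, map_one, map_mul, map_pow]
    refine mul_left_cancel₀ (pow_ne_zero ((j + 1) * q) hπu.ne_zero) ?_
    rw [map_mul, map_pow, ← IsScalarTower.algebraMap_apply A Aw L, ← hι, h2, ← mul_assoc, ← mul_pow,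
      show ι π * algebraMap Aw L w = 1 by
        rw [hι, IsScalarTower.algebraMap_apply A Aw L, ← map_mul, hw, map_one], one_pow, one_mul, h1]
    ring
  have hcwint : IsIntegral A cw :=
    (isIntegral_algHom_iff (IsScalarTower.toAlgHom A Aw L) hAwL).1 (by
      rw [IsScalarTower.coe_toAlgHom', hcw]; exact hc)
  let j' : Aw →ₐ[A] FractionRing A :=
    { toRingHom := IsLocalization.Away.lift π (g := algebraMap A (FractionRing A))
        (IsUnit.mk0 _ fun h => hπ0 (IsFractionRing.injective A (FractionRing A) (h.trans (map_zero _).symm)))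
      commutes' := fun a => IsLocalization.Away.lift_eq π _ a }
  obtain ⟨c, hcA⟩ := IsIntegrallyClosed.isIntegral_iff.1 (hcwint.map j')
  have hj'inj : Function.Injective j' := by
    intro a b hab
    obtain ⟨m, a', ha⟩ := IsLocalization.Away.surj π a
    obtain ⟨m', b', hb⟩ := IsLocalization.Away.surj π b
    have e1 := congrArg j' ha
    have e2 := congrArg j' hb
    rw [map_mul, map_pow, AlgHom.commutes, AlgHom.commutes] at e1 e2
    have e3 : a' * π ^ m' = b' * π ^ m := by
      apply IsFractionRing.injective A (FractionRing A)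
      simp only [map_mul, map_pow, ← e1, ← e2, hab]
      ring
    have e4 := congrArg (algebraMap A Aw) e3
    simp only [map_mul, map_pow, ← ha, ← hb] at e4
    refine mul_right_cancel₀ (b := algebraMap A Aw π ^ (m + m'))
      (pow_ne_zero _ ((IsLocalization.Away.algebraMap_isUnit π).ne_zero)) ?_
    rw [pow_add]
    linear_combination e4
  have hcc : cw = algebraMap A Aw c := hj'inj (by rw [AlgHom.commutes]; exact hcA.symm)
  refine hmax g' c (hAw ?_)
  have h9 : algebraMap A Aw π ^ ((j + 1) * q) * cw = algebraMap A Aw ((f : A) * (g' : A) ^ q - 1) := by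
    simp only [cw, ← mul_assoc, ← mul_pow, hw, one_pow, one_mul]
  rw [hcc, map_sub, map_one] at h9
  rw [map_add, map_one, map_mul _ (π ^ _), map_pow]
  linear_combination -h9

end Groth.Agent.S14692
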