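import Groth.Statements.S14693
import Mathlib
import Groth.Prelude.Def_SekSuwa2

set_option autoImplicit false
set_option linter.style.haveILetI false
set_option linter.style.longLine false
universe u
open CategoryTheory AlgebraicGeometry
open SekSuwa

namespace Groth.Agent.S14693

open SekSuwa CategoryTheory Limits in
theorem isPushout_ker (R : Type u) [CommRing R] (lam : R) (N : ℕ) (h : SekSuwa.DivCond lam N) :
    IsPushout (CommRingCat.ofHom (psiHom R lam N h : A R (lam ^ N) →+* A R lam))
      (CommRingCat.ofHom (Bialgebra.counitAlgHom R (A R (lam ^ N))).toRingHom)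
      (CommRingCat.ofHom (AK.mkHom R lam N h : A R lam →+* AK R lam N h))
      (CommRingCat.ofHom (algebraMap R (AK R lam N h))) := by
  have w : ((AK.mkHom R lam N h : A R lam →ₐ[R] AK R lam N h).comp (psiHom R lam N h : A R (lam ^ N) →ₐ[R] A R lam)) =
      (Algebra.ofId R _).comp (Bialgebra.counitAlgHom R (A R (lam ^ N))) := by
    refine A.algHom_ext ?_ ?_
    · show AK.mkHom R lam N h (psiHom R lam N h A.t) = algebraMap R _ (CoalgebraStruct.counit (R := R) (A.t : A R (lam ^ N)))
      rw [psiHom_t, AK.mkHom_kerGen, A.counit_t, map_zero]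
    · show AK.mkHom R lam N h (psiHom R lam N h A.inv) = algebraMap R _ (CoalgebraStruct.counit (R := R) (A.inv : A R (lam ^ N)))
      rw [psiHom_inv, map_pow, A.counit_inv, map_one]
      exact AK.inv_pow R lam N h
  refine IsPushout.of_isColimit' ⟨CommRingCat.hom_ext (congrArg AlgHom.toRingHom w)⟩ ?_
  refine PushoutCocone.isColimitAux' _ fun s => ?_
  have hc : ∀ z, s.inl.hom (psiHom R lam N h z) = s.inr.hom (Bialgebra.counitAlgHom R _ z) :=
    fun z => ConcreteCategory.congr_hom s.condition z
  have hkill : ∀ a ∈ kerIdeal lam N h, s.inl.hom a = 0 := fun a ha => by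
    obtain ⟨d, rfl⟩ := Ideal.mem_span_singleton'.mp ha
    rw [map_mul, ← psiHom_t, hc]
    show _ * s.inr.hom (CoalgebraStruct.counit (R := R) (A.t : A R (lam ^ N))) = 0
    rw [A.counit_t, map_zero, mul_zero]
  refine ⟨CommRingCat.ofHom (Ideal.Quotient.lift _ s.inl.hom hkill), ?_, ?_, fun {m} h1 _ => ?_⟩
  · exact CommRingCat.hom_ext (RingHom.ext fun z => rfl)
  · refine CommRingCat.hom_ext (RingHom.ext fun r => ?_)
    show s.inl.hom (algebraMap R (A R lam) r) = s.inr.hom r
    have := hc (algebraMap R (A R (lam ^ N)) r)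
    rw [AlgHom.commutes, Algebra.algebraMap_self_apply] at this
    have hcm : psiHom R lam N h (algebraMap R (A R (lam ^ N)) r) = algebraMap R (A R lam) r :=
      AlgHom.commutes (psiHom R lam N h : A R (lam ^ N) →ₐ[R] A R lam) r
    rw [hcm] at this
    exact this
  · refine CommRingCat.hom_ext (RingHom.ext fun z => ?_)
    obtain ⟨z, rfl⟩ := Ideal.Quotient.mk_surjective z
    exact ConcreteCategory.congr_hom h1 z

/-- For any commutative ring R, λ ∈ R and N such that λ is a non-zero-divisor and λ^N divides (1 + λX)^N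
− 1 in R[X] with quotient P_{λ,N}, the closed subgroup scheme G_{λ,N} = Spec R[T]/(P_{λ,N}(T)) of
the affine R-group G^(λ) = Spec R[T, 1/(1+λT)] (group law s + t + λst) is the kernel of the
homomorphism ψ_{λ,N} : G^(λ) → G^(λ^N), T ↦ P_{λ,N}(T): the square with sides the inclusion G_{λ,N}
→ G^(λ), ψ_{λ,N}, the unit section of G^(λ^N) and G_{λ,N} → Spec R is cartesian. (The published
text, over a discrete valuation ring and with N = p^n, introduces G_{λ,n} as the kernel of the
isogeny ψ_{λ,n}; this row is that assertion for every N, including the degenerate N = 0 where ψ is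
trivial and G_{λ,0} = G^(λ).) -/
theorem result (R : Type u) [CommRing R] (lam : R) (N : ℕ) (h : SekSuwa.DivCond lam N) :
    AlgGrp.IsKernel (SekSuwa.incl R lam N h) (SekSuwa.psi R lam N h) := by
  refine IsPullback.of_map (Over.forget _) ?_ ?_
  · exact (SekSuwa.incl_psi R lam N h).trans (by rfl)
  · exact isPullback_SpecMap_of_isPushout _ _ _ _ (isPushout_ker R lam N h)

end Groth.Agent.S14693
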