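import Groth.Statements.S14694
import Mathlib
import Groth.Agent.SekSuwa2.AKFree

set_option autoImplicit false
set_option linter.style.haveILetI false
set_option linter.style.longLine false
universe u
open CategoryTheory AlgebraicGeometry
open SekSuwa

namespace Groth.Agent.S14694

/-- For any commutative ring R, λ ∈ R and N ≥ 1 such that λ is a non-zero-divisor and λ^N divides (1 +
λX)^N − 1 in R[X] with quotient P_{λ,N}, the R-group scheme G_{λ,N}, defined as the closed subscheme
of the affine R-group G^(λ) = Spec R[T, 1/(1+λT)] cut out by P_{λ,N}(T), is finite locally free of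
degree N over Spec R (its coordinate ring is R[T]/(P_{λ,N}(T)) with P_{λ,N} monic of degree N). (The
published text states this over a discrete valuation ring with N = p^n: G_{λ,n} is a commutative
finite flat group scheme of rank p^n.) -/
theorem result (R : Type u) [CommRing R] (lam : R) (N : ℕ) (hN : 0 < N) (h : SekSuwa.DivCond lam N) :
    Mor2.IsFinLocFreeOfDeg N (SekSuwa.GK R lam N h).hom := by
  obtain ⟨hf, hfin, hrk⟩ := SekSuwa2.free_finite h hN
  haveI := hf
  haveI := hfin
  have e : (SekSuwa.GK R lam N h).hom =
      Spec.map (CommRingCat.ofHom (algebraMap R (SekSuwa.AK R lam N h))) := rfl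
  rw [e]
  refine ⟨⟨(IsFinite.SpecMap_iff (f := CommRingCat.ofHom (algebraMap R (SekSuwa.AK R lam N h)))).2 ((RingHom.finite_algebraMap).2 hfin),
    (Flat.SpecMap_iff (f := CommRingCat.ofHom (algebraMap R (SekSuwa.AK R lam N h)))).2 ((RingHom.flat_algebraMap_iff).2 inferInstance), ?_⟩, fun y => ?_⟩
  · haveI : Algebra.FinitePresentation R (SekSuwa.AK R lam N h) := by
      haveI := Module.finitePresentation_of_projective R (SekSuwa.AK R lam N h)
      exact (Module.FinitePresentation.iff_finitePresentation_of_finite R _).1 inferInstance
    exact (HasRingHomProperty.Spec_iff (P := @LocallyOfFinitePresentation)).2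
      (RingHom.finitePresentation_algebraMap.2 inferInstance)
  · haveI : Nontrivial R := ⟨⟨0, 1, fun e => by
      haveI := subsingleton_of_zero_eq_one e
      exact (isEmptyElim (show PrimeSpectrum R from y))⟩⟩
    exact (AlgebraicGeometry.Scheme.Hom.finrank_SpecMap_algebraMap R _ y).trans
      ((congrFun (Module.rankAtStalk_eq_finrank_of_free (R := R) (M := SekSuwa.AK R lam N h)) y).trans (hrk inferInstance))

end Groth.Agent.S14694
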