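import Groth.Statements.S14695
import Groth.Agent.S13152
import Groth.Agent.S18858
import Groth.Agent.Tors37.BC

set_option autoImplicit false
universe u
open CategoryTheory AlgebraicGeometry
open NonAbH1

namespace Groth.Agent.S14695

/-- In the case where the morphism Y → X is the identity of X: let X be a normal integral scheme
(integral, with every local ring an integrally closed domain), G and G' X-group schemes which are
finite and flat over X, and g : G → G' a homomorphism which becomes an isomorphism after base change
to the spectrum of the function field of X. If an fppf G-torsor P over X becomes trivial after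
extension of the structure group along g — there is an fppf G'-torsor P' over X with a g-equivariant
X-morphism P → P', and P' has a section over X — then P has a section over X. (The published
statement takes G, G' commutative and all schemes Noetherian, allows also composition with the
pull-back along a morphism Y → X admitting a rational section, and is phrased as injectivity of
H¹(X, G) → H¹(Y, G'_Y); this row is the case where Y → X is the identity of X, as the trivial-kernel
assertion the argument establishes, for which commutativity and the Noetherian condition are not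
needed.) -/
theorem result {X : Scheme.{u}} [IsIntegral X]
    (hX : Pi1.IsNormalScheme X) (G G' : Over X) [GrpObj G] [GrpObj G']
    [IsFinite G.hom] [Flat G.hom] [IsFinite G'.hom] [Flat G'.hom]
    (g : G ⟶ G') [IsMonHom g]
    (hg : IsIso ((Over.pullback (X.fromSpecStalk (genericPoint X))).map g))
    (P : Over X) (a : AlgGrp.Action G P) (hP : NonAbH1.IsTorsorFor Scheme.fppfPrecoverage a)
    (P' : Over X) (a' : AlgGrp.Action G' P') (hP' : NonAbH1.IsTorsorFor Scheme.fppfPrecoverage a')
    (hpush : NonAbH1.IsPushforwardAlongSch g a a') (htriv : NonAbH1.HasSectionOver P' (𝟙 X)) :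
    NonAbH1.HasSectionOver P (𝟙 X) := by
  open MonoidalCategory CartesianMonoidalCategory in
  refine Groth.Agent.S13152.result hX G P a hP ?_
  let η := X.fromSpecStalk (genericPoint X)
  obtain ⟨f, hf⟩ := hpush
  have : IsIso ((Over.pullback η).map g) := hg
  have hfq : ∀ {H Q : Over X} [GrpObj H] {b : AlgGrp.Action H Q},
      NonAbH1.IsTorsorFor Scheme.fppfPrecoverage b →
      NonAbH1.IsTorsorFor Scheme.fpqcPrecoverage (b.bc η) := fun hb => by
    obtain ⟨hps, R, hR, hsec⟩ := NonAbH1.isTorsorFor_bc η Scheme.fppfPrecoverage hb
    exact ⟨hps, R, Scheme.fppfPrecoverage_le_fpqcPrecoverage _ hR, hsec⟩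
  have hfeq : AlgGrp.Action.IsEquivariant a (a'.restrict g) f := by
    rw [AlgGrp.Action.IsEquivariant, AlgGrp.Action.restrict_act, hf, ← Category.assoc]
    congr 1
    apply CartesianMonoidalCategory.hom_ext <;> simp
  have h1 : AlgGrp.Action.IsEquivariant (a.bc η) ((a'.bc η).restrict ((Over.pullback η).map g))
      ((Over.pullback η).map f) := by
    rw [← AlgGrp.Action.bc_restrict]
    exact AlgGrp.Action.isEquivariant_bc η hfeq
  have : IsIso ((Over.pullback η).map f) := Groth.Agent.S18858.result _ _ (hfq hP)
    (Groth.Agent.Tors37.isTorsorFor_restrict _ (hfq hP')) _ h1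
  obtain ⟨s, hs⟩ := htriv
  let σ : Over.mk (𝟙 (Spec (X.presheaf.stalk (genericPoint X)))) ⟶ Red.bc η P' :=
    Over.homMk (Limits.pullback.lift (η ≫ s) (𝟙 _) (by simp [hs])) (Limits.pullback.lift_snd _ _ _)
  refine ⟨(σ ≫ inv ((Over.pullback η).map f)).left ≫ Limits.pullback.fst P.hom η, ?_⟩
  rw [Category.assoc, Limits.pullback.condition, ← Category.assoc]
  erw [Over.w]
  exact Category.id_comp _

end Groth.Agent.S14695
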