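import Groth.Statements.S5094
import Groth.Agent.LimTop61.NormalPoint

set_option autoImplicit false
universe u
open CategoryTheory CategoryTheory.Limits AlgebraicGeometry TopologicalSpace
open Lim8

namespace Groth.Agent.S5094

/-- Let X and Y be integral schemes and f : X → Y a separated morphism, locally of finite type and
birational (f sends the generic point of X to the generic point of Y and its stalk map there, the
induced homomorphism of function fields, is an isomorphism). Let y be a normal point of Y (the local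
ring O_{Y,y} is integrally closed) and suppose that some point of the fibre f⁻¹(y) is isolated in
that fibre. Then y has an open neighbourhood U such that the restriction f⁻¹(U) → U of f is an
isomorphism. -/
theorem result {X Y : Scheme.{u}} [IsIntegral X]
    [IsIntegral Y] (f : X ⟶ Y) [IsSeparated f] [LocallyOfFiniteType f]
    (hgen : f (genericPoint X) = genericPoint Y) (hbir : IsIso (f.stalkMap (genericPoint X)))
    (y : ↥Y) (hy : IsIntegrallyClosed ↑(Y.presheaf.stalk y))
    (x : ↥(f.fiber y)) (hx : IsOpen ({x} : Set ↥(f.fiber y))) :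
    ∃ U : Y.Opens, y ∈ U ∧ IsIso (f ∣_ U) := by
  obtain ⟨x', rfl⟩ : ∃ x', f x' = y := ⟨f.fiberι y x, by
    have h : f.fiberι y x ∈ Set.range (f.fiberι y) := ⟨x, rfl⟩
    rw [Scheme.Hom.range_fiberι] at h
    exact h⟩
  obtain ⟨z, hzy, rfl⟩ : ∃ (z : X) (h : f z = f x'), f.fiberι (f x') x = z := ⟨_, by
    have h : f.fiberι (f x') x ∈ Set.range (f.fiberι (f x')) := ⟨x, rfl⟩
    rw [Scheme.Hom.range_fiberι] at h
    exact h, rfl⟩
  suffices key : ∀ (w : X) (hw : f w = f x') (x : ↥(f.fiber (f x'))), f.fiberι (f x') x = w →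
      IsOpen ({x} : Set ↥(f.fiber (f x'))) → f.QuasiFiniteAt w by
    have hq := key _ hzy x rfl hx
    have : IsIso (f.stalkMap (f.fiberι (f x') x)) :=
      Groth.Agent.LimTop61.isIso_stalkMap_of_quasiFiniteAt f hgen hbir _ hq
        (by rw [hzy]; exact hy)
    obtain ⟨U, hU, hU'⟩ :=
      Groth.Agent.LimTop61.exists_isIso_morphismRestrict_of_isIso_stalkMap f (f.fiberι (f x') x)
    exact ⟨U, hzy ▸ hU, hU'⟩
  intro w hw x hxw hx
  revert x
  generalize f x' = y at hw
  subst hw
  intro x hxw hx
  rw [Scheme.Hom.quasiFiniteAt_iff_isOpen_singleton_asFiber]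
  have : f.asFiber w = x :=
    (f.fiberι (f w)).isEmbedding.injective (by rw [Scheme.Hom.fiberι_asFiber, hxw])
  rwa [this]

end Groth.Agent.S5094
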