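import Groth.Statements.S14698
import Groth.Agent.Curves2.ProjLineProper
import Groth.Agent.S5094

set_option autoImplicit false
universe u
open CategoryTheory CategoryTheory.Limits AlgebraicGeometry
open Resolve

namespace Groth.Agent.S14698

/-- A finite closed subset of a Jacobson space consists of closed points. -/
theorem isClosed_singleton_of_mem_finite {T : Type*} [TopologicalSpace T] [JacobsonSpace T] {F : Set T}
    (hF : IsClosed F) (hfin : F.Finite) {z : T} (hz : z ∈ F) : IsClosed ({z} : Set T) := by
  have hcl : IsClosed (F ∩ closedPoints T) := by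
    have : F ∩ closedPoints T = ⋃ y ∈ F ∩ closedPoints T, {y} := (Set.biUnion_of_singleton _).symm
    rw [this]
    exact (hfin.subset Set.inter_subset_left).isClosed_biUnion fun y hy => hy.2
  have h : z ∈ closure (F ∩ closedPoints T) := by
    rw [JacobsonSpace.closure_inter_closedPoints_eq_closure hF.isLocallyClosed, hF.closure_eq]
    exact hz
  rw [hcl.closure_eq] at h
  exact h.2

/-- Let k be an algebraically closed field and X an integral normal scheme of dimension two admitting a
closed immersion into some P^n_k over k. Let φ : Y → X be a k-morphism from an integral scheme Y of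
dimension two with all local rings regular, itself admitting a closed immersion into some P^m_k over
k, which restricts to an isomorphism over an open subset U of X with finite complement. Then for
every point x of X at which the local ring is not regular, the fibre φ⁻¹(x) (with the topology
induced from Y) is nonempty and every irreducible component of it has dimension one: such a
desingularization is a monoidal model. (The published statement takes φ an isomorphism exactly over
the complement of the singular points; this row allows any open U with finite complement over which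
φ is an isomorphism.) -/
theorem result (k : Type u) [Field k] [IsAlgClosed k] (X : Scheme.{u}) [X.Over (Spec (CommRingCat.of k))]
    [IsIntegral X] (hdim : topologicalKrullDim X = 2)
    (hproj : ∃ (n : ℕ) (ι : X ⟶ CohB1.ProjSpace n k), IsClosedImmersion ι ∧ ι ≫ CohB1.ProjSpace.toSpec n k = (X ↘ (Spec (CommRingCat.of k))))
    (hnorm : Pi1.IsNormalScheme X) (U : X.Opens) (hU : ((U : Set X)ᶜ).Finite)
    (Y : Scheme.{u}) (φ : Y ⟶ X) [IsIntegral Y] (hdimY : topologicalKrullDim Y = 2)
    (hregY : ∀ y : Y, IsRegularLocalRing (Y.presheaf.stalk y))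
    (hprojY : ∃ (n : ℕ) (ι : Y ⟶ CohB1.ProjSpace n k), IsClosedImmersion ι ∧ ι ≫ CohB1.ProjSpace.toSpec n k = φ ≫ (X ↘ (Spec (CommRingCat.of k))))
    (hisoY : IsIso (φ ∣_ U))
    (x : X) (hx : ¬ IsRegularLocalRing (X.presheaf.stalk x)) :
    (φ.base ⁻¹' ({x} : Set X)).Nonempty ∧
      ∀ Z ∈ irreducibleComponents ↥(φ.base ⁻¹' ({x} : Set X)), topologicalKrullDim ↥Z = 1 := by
  obtain ⟨nX, ιX, hιX, hιXe⟩ := hproj
  obtain ⟨nY, ιY, hιY, hιYe⟩ := hprojY
  haveI := Curves2.ProjLine.isProper_toSpec k nX
  haveI := Curves2.ProjLine.isProper_toSpec k nY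
  haveI : IsProper (X ↘ Spec (CommRingCat.of k)) := by rw [← hιXe]; infer_instance
  haveI : IsProper (φ ≫ (X ↘ Spec (CommRingCat.of k))) := by rw [← hιYe]; infer_instance
  haveI : IsProper φ := IsProper.of_comp φ (X ↘ Spec (CommRingCat.of k))
  haveI : JacobsonSpace X := LocallyOfFiniteType.jacobsonSpace (X ↘ Spec (CommRingCat.of k))
  haveI : IsLocallyNoetherian X := LocallyOfFiniteType.isLocallyNoetherian (X ↘ Spec (CommRingCat.of k))
  haveI : IsLocallyNoetherian Y := LocallyOfFiniteType.isLocallyNoetherian φ
  haveI : CompactSpace X := QuasiCompact.compactSpace_of_compactSpace (X ↘ Spec (CommRingCat.of k))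
  haveI : CompactSpace Y := QuasiCompact.compactSpace_of_compactSpace φ
  haveI : IsNoetherian Y := ⟨⟩
  -- the exceptional points are closed and do not contain the generic point
  have hclp : ∀ z : X, z ∉ U → IsClosed ({z} : Set X) := fun z hz =>
    isClosed_singleton_of_mem_finite U.2.isClosed_compl hU hz
  have hgU : genericPoint X ∈ U := by
    by_contra hg
    have hsub : Subsingleton X := ⟨fun a b => by
      have hall : ∀ z : X, z = genericPoint X := fun z =>
        ((genericPoint_spec X).specializes (y := z) trivial).mem_closed (hclp _ hg) rfl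
      rw [hall a, hall b]⟩
    haveI : Subsingleton (TopologicalSpace.IrreducibleCloseds X) := ⟨fun A B => by
      refine TopologicalSpace.IrreducibleCloseds.ext ?_
      exact (Subsingleton.eq_univ_of_nonempty A.2.nonempty).trans (Subsingleton.eq_univ_of_nonempty B.2.nonempty).symm⟩
    have h0 : topologicalKrullDim X ≤ 0 := Order.krullDim_nonpos_of_subsingleton
    rw [hdim] at h0
    exact absurd h0 (by decide)
  haveI := hisoY
  -- generic points
  obtain ⟨⟨z, hzU⟩, hz⟩ := (φ ∣_ U).homeomorph.surjective ⟨genericPoint X, hgU⟩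
  have hφz : φ z = genericPoint X := by
    have h' : (φ ∣_ U).base ⟨z, hzU⟩ = ⟨genericPoint X, hgU⟩ := hz
    have h'' := congrArg Subtype.val h'
    rw [morphismRestrict_base] at h''
    exact h''
  have hgen : φ (genericPoint Y) = genericPoint X :=
    ((hφz ▸ ((genericPoint_spec Y).specializes (y := z) trivial).map φ.continuous :
      φ (genericPoint Y) ⤳ genericPoint X).antisymm ((genericPoint_spec X).specializes trivial)).eq
  have hstalk : ∀ y : Y, φ y ∈ U → IsIso (φ.stalkMap y) := fun y hy => by
    have hst := morphismRestrictStalkMap φ U ⟨y, hy⟩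
    haveI : IsOpenImmersion (φ ∣_ U) := inferInstance
    let u : (φ ⁻¹ᵁ U).toScheme := ⟨y, hy⟩
    have h2 : IsIso ((φ ∣_ U).stalkMap u) := inferInstance
    exact (MorphismProperty.arrow_mk_iso_iff (MorphismProperty.isomorphisms _) hst).1 h2
  have hbir : IsIso (φ.stalkMap (genericPoint Y)) := hstalk _ (hgen ▸ hgU)
  have hsurj : Function.Surjective φ := fun x => by
    have hcl : IsClosed (Set.range φ) := φ.isClosedMap.isClosed_range
    exact ((genericPoint_spec X).specializes (y := x) trivial).mem_closed hcl ⟨_, hgen⟩
  -- a point with an iso near it is regular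
  have hnoiso : ∀ V : X.Opens, x ∈ V → ¬ IsIso (φ ∣_ V) := fun V hxV hV => by
    obtain ⟨y, hy⟩ := hsurj x
    haveI := hV
    have hst := morphismRestrictStalkMap φ V ⟨y, show φ y ∈ V from hy ▸ hxV⟩
    haveI : IsOpenImmersion (φ ∣_ V) := inferInstance
    let u : (φ ⁻¹ᵁ V).toScheme := ⟨y, show φ y ∈ V from hy ▸ hxV⟩
    have h2 : IsIso ((φ ∣_ V).stalkMap u) := inferInstance
    haveI := (MorphismProperty.arrow_mk_iso_iff (MorphismProperty.isomorphisms _) hst).1 h2
    haveI := hregY y
    subst hy
    exact hx (IsRegularLocalRing.of_ringEquiv (asIso (φ.stalkMap y)).commRingCatIsoToRingEquiv.symm)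
  have hxU : x ∉ U := fun h => hnoiso U h hisoY
  refine ⟨hsurj x, fun Z hZ => le_antisymm ?_ ?_⟩
  · -- at most one
    let i : ↥Z → Y := fun w => w.1.1
    have hi : Topology.IsInducing i := Topology.IsInducing.subtypeVal.comp Topology.IsInducing.subtypeVal
    refine Order.krullDim_le_one_iff.2 fun A => ?_
    by_contra hne
    rw [not_or, not_isMin_iff, not_isMax_iff] at hne
    obtain ⟨⟨B, hBA⟩, ⟨C, hAC⟩⟩ := hne
    let M := TopologicalSpace.IrreducibleCloseds.map i hi.continuous
    have hM : StrictMono M := TopologicalSpace.IrreducibleCloseds.map_strictMono_of_isInducing hi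
    let top : TopologicalSpace.IrreducibleCloseds Y :=
      ⟨Set.univ, IrreducibleSpace.isIrreducible_univ Y, isClosed_univ⟩
    have hMC : M C < top := by
      have hFc : IsClosed (φ.base ⁻¹' ({x} : Set X)) := (hclp x hxU).preimage φ.continuous
      have hsub : (M C : Set Y) ⊆ φ.base ⁻¹' ({x} : Set X) :=
        closure_minimal (by rintro _ ⟨w, -, rfl⟩; exact w.1.2) hFc
      refine lt_of_le_of_ne (fun _ _ => trivial) fun h => ?_
      have hg : φ (genericPoint Y) = x := hsub (by rw [h]; trivial)
      exact hxU (hg ▸ hgen ▸ hgU)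
    have h1 := Order.height_add_one_le (hM hBA)
    have h2 := Order.height_add_one_le (hM hAC)
    have h3 := Order.height_add_one_le hMC
    have h4 : (Order.height top : WithBot ℕ∞) ≤ 2 := hdimY ▸ Order.height_le_krullDim top
    have h5 : Order.height top ≤ 2 := WithBot.coe_le_coe.1 (show _ ≤ ((2 : ℕ∞) : WithBot ℕ∞) from h4)
    have h6 : (3 : ℕ∞) ≤ Order.height top :=
      calc (3 : ℕ∞) = 0 + 1 + 1 + 1 := by norm_num
        _ ≤ Order.height (M B) + 1 + 1 + 1 := by gcongr; exact zero_le'
        _ ≤ Order.height (M A) + 1 + 1 := by gcongr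
        _ ≤ Order.height (M C) + 1 := by gcongr
        _ ≤ _ := h3
    exact absurd (h6.trans h5) (by decide)
  · -- at least one
    have hFc : IsClosed (φ.base ⁻¹' ({x} : Set X)) := (hclp x hxU).preimage φ.continuous
    have hZc : IsClosed Z := isClosed_of_mem_irreducibleComponents Z hZ
    let T : Set Y := Subtype.val '' Z
    have hTi : IsIrreducible T := hZ.1.image _ continuous_subtype_val.continuousOn
    have hTc : IsClosed T := hFc.isClosedEmbedding_subtypeVal.isClosedMap _ hZc
    obtain ⟨g, hg⟩ := QuasiSober.sober hTi hTc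
    obtain ⟨g', hg'Z, hg'⟩ : g ∈ T := hg.mem
    rcases (Z \ {g'}).eq_empty_or_nonempty with hempty | ⟨w, hwZ, hwne⟩
    · exfalso
      have hZg : Z = {g'} := Set.Subset.antisymm (Set.diff_eq_empty.1 hempty) (Set.singleton_subset_iff.2 hg'Z)
      haveI : TopologicalSpace.NoetherianSpace ↥(φ.base ⁻¹' ({x} : Set X)) :=
        Topology.IsInducing.subtypeVal.noetherianSpace
      have hfin := TopologicalSpace.NoetherianSpace.finite_irreducibleComponents (α := ↥(φ.base ⁻¹' ({x} : Set X)))
      have hopen : IsOpen ({g'} : Set ↥(φ.base ⁻¹' ({x} : Set X))) := by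
        have hcompl : ({g'} : Set ↥(φ.base ⁻¹' ({x} : Set X))) = (⋃₀ (irreducibleComponents _ \ {Z}))ᶜ := by
          ext v
          refine ⟨fun hv => ?_, fun hv => ?_⟩
          · rintro ⟨W, ⟨hW, hWne⟩, hvW⟩
            rw [Set.mem_singleton_iff] at hv
            subst hv
            exact hWne ((hZ.eq_of_le hW.1 (hZg ▸ Set.singleton_subset_iff.2 hvW)).symm)
          · rw [← hZg]
            by_contra hne
            exact hv ⟨_, ⟨irreducibleComponent_mem_irreducibleComponents v,
              fun h => hne (h ▸ mem_irreducibleComponent)⟩, mem_irreducibleComponent⟩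
        rw [hcompl]
        exact (hfin.sdiff.isClosed_biUnion fun W hW => isClosed_of_mem_irreducibleComponents W hW.1).isOpen_compl |>
          fun h => by rwa [← Set.sUnion_eq_biUnion] at h
      have hopen' : IsOpen ({(φ.fiberHomeo x).symm g'} : Set ↥(φ.fiber x)) := by
        rw [← Set.image_singleton]
        exact (φ.fiberHomeo x).symm.isOpenMap _ hopen
      obtain ⟨V, hxV, hV⟩ := S5094.result φ hgen hbir x (hnorm x).2 _ hopen'
      exact hnoiso V hxV hV
    · let w' : ↥Z := ⟨w, hwZ⟩
      let a : TopologicalSpace.IrreducibleCloseds ↥Z :=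
        ⟨closure {w'}, isIrreducible_singleton.closure, isClosed_closure⟩
      haveI : IrreducibleSpace ↥Z := (isIrreducible_iff_irreducibleSpace ..).1 hZ.1
      let b : TopologicalSpace.IrreducibleCloseds ↥Z :=
        ⟨Set.univ, IrreducibleSpace.isIrreducible_univ _, isClosed_univ⟩
      refine Order.one_le_krullDim_iff.2 ⟨a, b, lt_of_le_of_ne (fun _ _ => trivial) fun h => ?_⟩
      have hgw : (⟨g', hg'Z⟩ : ↥Z) ∈ closure ({w'} : Set ↥Z) := by
        show _ ∈ (a : Set ↥Z)
        rw [h]
        trivial
      have h7 : (w.1 : Y) ⤳ g := by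
        have := (specializes_iff_mem_closure.2 hgw).map (f := fun v : ↥Z => (v.1.1 : Y))
          (continuous_subtype_val.comp continuous_subtype_val)
        rwa [← hg']
      have h8 : g ⤳ (w.1 : Y) := hg.specializes ⟨w, hwZ, rfl⟩
      exact hwne (Subtype.ext ((h7.antisymm h8).eq.trans hg'.symm))

end Groth.Agent.S14698
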