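import Groth.Statements.S14704
import Groth.Agent.FCompl13.FinBcMap
import Groth.Agent.S5737

set_option autoImplicit false
open CategoryTheory
universe u
open FCompl

namespace Groth.Agent.S14704

open AlgebraicGeometry
/-- Let 𝔖, 𝔛, 𝔜 be locally Noetherian formal schemes, presented as adic systems of locally Noetherian
thickenings with a common underlying space, let f : 𝔛 ⟶ 𝔖 be a closed immersion (adic, with a closed
immersion at level 0) and g : 𝔜 ⟶ 𝔖 any morphism, and let p, q be the two projections of the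
levelwise fibre product 𝔛 ×_𝔖 𝔜, assumed to be again a locally Noetherian formal scheme (which
holds, f being of finite type). Then for every coherent O_𝔛-module 𝔉 the base-change morphism u :
g^*(f_* 𝔉) ⟶ q_*(p^* 𝔉), whose adjunct f_* 𝔉 ⟶ g_* q_* p^* 𝔉 = f_* p_* p^* 𝔉 is f_* of the unit 𝔉 ⟶
p_* p^* 𝔉, is an isomorphism. -/
theorem result (𝔖 𝔛 𝔜 : FSch.Sys.{u})
    (h𝔖 : 𝔖.IsLocNoethFormal) (h𝔛 : 𝔛.IsLocNoethFormal) (h𝔜 : 𝔜.IsLocNoethFormal)
    (f : 𝔛 ⟶ 𝔖) (g : 𝔜 ⟶ 𝔖) (hf : FSch.IsClosedImmHom f)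
    (hZ : (FSch.pullbackSys f g).IsLocNoethFormal)
    (𝔉 : FSch.ModF 𝔛 h𝔛.1) (h𝔉 : FSch.IsCohF 𝔛 h𝔛.1 𝔉) :
    IsIso (FSch.bcMapF (FSch.pullbackFst f g) f (FSch.pullbackSnd f g) g (FSch.pullbackSys_condition f g)
      hZ.1 h𝔛.1 h𝔜.1 h𝔖.1 𝔉) := by
  have : ∀ n, IsClosedImmersion ((f : FSch.Hom 𝔛 𝔖).app n) := fun n => by
    have := hf.2
    exact Groth.Agent.S5737.result f h𝔛 h𝔖 hf.1 n
  have : ∀ n, IsFinite ((f : FSch.Hom 𝔛 𝔖).app n) := fun n => inferInstance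
  have : ∀ n, IsFinite ((FSch.pullbackSnd f g : FSch.Hom _ _).app n) := fun n => by
    rw [FSch.pullbackSnd_app]
    exact MorphismProperty.pullback_snd _ _ inferInstance
  have : 𝔉.IsFinitePresentation := h𝔉
  exact Groth.Agent.FCompl13.isIso_bcMapF_of_finite (FSch.pullbackFst f g) f (FSch.pullbackSnd f g) g
    (FSch.pullbackSys_condition f g) h𝔖 h𝔛 h𝔜 hZ hf.1 (Groth.Agent.FCompl13.isAdicHom_pullbackSnd f g hf.1)
    (fun n => IsPullback.of_hasPullback _ _) 𝔉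

end Groth.Agent.S14704
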