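import Groth.Statements.S14715
import Groth.Agent.GIT36.Regular.Stable

set_option autoImplicit false
set_option backward.isDefEq.respectTransparency.types false
universe u
open CategoryTheory MonoidalCategory CartesianMonoidalCategory MonObj GrpObj AlgebraicGeometry Topology
open GIT

namespace Groth.Agent.S14715

/-- Let k be a field of characteristic zero, G a connected reductive algebraic group over k (affine,
smooth, with connected reductive geometric fibre) acting by σ on a finite-type k-scheme X (not
necessarily separated), and L a G-linearised line bundle on X, taken in total-space form (a line
bundle V → X with a linear atlas and a fibrewise-linear lifting of the action; sections of L^n are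
the weight-n functions on V, invariant sections those fixed by the lifted action, X_s the locus over
which s does not vanish identically on the fibre). Let U = X^ss(L) be the open set of semi-stable
points and let x be a stable point of X (some invariant section s of some L^n, n ≥ 1, has s(x) ≠ 0
with X_s affine and the action of G on X_s closed; no condition on stabilisers). Then x is regular
for the action (the dimension of the stabiliser group scheme of a point, computed at the point of X
with values in its residue field, is constant on a neighbourhood of x), and for every algebraically
closed field Ω and every Ω-valued point of X over x, the orbit of that point is closed in U ×_k Spec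
Ω. (The published statement is for any reductive G in any characteristic; this row is the
characteristic-zero case with G connected. L is taken in total-space form.) -/
theorem result (k : Type u) [Field k] [CharZero k]
    (G X : Over (Spec (CommRingCat.of k))) [GrpObj G] (hG : Red.IsReductive G)
    [LocallyOfFiniteType X.hom] [QuasiCompact X.hom]
    (a : AlgGrp.Action G X) (B : GLinSh.LinBun G a)
    (U : X.left.Opens) (hU : (U : Set X.left) = B.ssLocus) (x : X.left) (hx : B.IsStablePt x) :
    (∃ W : X.left.Opens, x ∈ W ∧ ∀ y ∈ W,
          topologicalKrullDim (GLinSh.stab a (Over.homMk (X.left.fromSpecResidueField y) rfl :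
              Over.mk (X.left.fromSpecResidueField y ≫ X.hom) ⟶ X)) =
            topologicalKrullDim (GLinSh.stab a (Over.homMk (X.left.fromSpecResidueField x) rfl :
              Over.mk (X.left.fromSpecResidueField x ≫ X.hom) ⟶ X))) ∧
      ∀ (Ω : Type u) [Field Ω] [IsAlgClosed Ω] (T : Over (Spec (CommRingCat.of k)))
        (_ : T.left ≅ Spec (CommRingCat.of Ω)) (f : T ⟶ X), Set.range f.left.base = {x} →
          IsClosed ((fun p : (fst X T).left ⁻¹ᵁ U => (p : (X ⊗ T).left)) ⁻¹' Set.range (GIT.psi a f).left.base) := by
  haveI := hG.1
  haveI := hG.2.1
  refine ⟨?_, fun Ω _ _ T eT f hf => GIT36.Regular.isClosed_orbit_ssLocus hG B hU hx Ω T eT f hf⟩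
  obtain ⟨W, hxW, hW⟩ := GIT36.Regular.exists_open_regular hG B hx
  refine ⟨W, hxW, fun y hy => ?_⟩
  rw [GIT36.Regular.dim_stab_eq, GIT36.Regular.dim_stab_eq]
  exact hW y hy

end Groth.Agent.S14715
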