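import Groth.Statements.S14716
import Groth.Agent.GIT36.Regular.Stable

set_option autoImplicit false
set_option backward.isDefEq.respectTransparency.types false
universe u
open CategoryTheory MonoidalCategory CartesianMonoidalCategory MonObj GrpObj AlgebraicGeometry Topology
open GIT

namespace Groth.Agent.S14716

/-- Let k be a field of characteristic zero, G a connected reductive algebraic group over k (affine,
smooth, with connected reductive geometric fibre) acting by σ on a finite-type k-scheme X (not
necessarily separated), and L a G-linearised line bundle on X, taken in total-space form (a line
bundle V → X with a linear atlas and a fibrewise-linear lifting of the action; sections of L^n are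
the weight-n functions on V, invariant sections those fixed by the lifted action, X_s the locus over
which s does not vanish identically on the fibre). Let x be a point of X such that x is regular for
the action (the dimension of the stabiliser group scheme of a point, computed at the point of X with
values in its residue field, is constant on a neighbourhood of x), and suppose there is an invariant
section f of L^n, n ≥ 1, with X_f an affine open containing x, such that for every algebraically
closed field Ω and every Ω-valued point of X over x the orbit of that point is closed in X_f ×_k
Spec Ω. Then x is stable: some invariant section s of some L^m, m ≥ 1, has s(x) ≠ 0, X_s affine and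
the action of G on X_s closed. (The published statement is for any reductive G in any
characteristic; this row is the characteristic-zero case with G connected. L is taken in total-space
form.) -/
theorem result (k : Type u) [Field k] [CharZero k]
    (G X : Over (Spec (CommRingCat.of k))) [GrpObj G] (hG : Red.IsReductive G)
    [LocallyOfFiniteType X.hom] [QuasiCompact X.hom]
    (a : AlgGrp.Action G X) (B : GLinSh.LinBun G a)
    (x : X.left)
    (hreg : ∃ W : X.left.Opens, x ∈ W ∧ ∀ y ∈ W,
          topologicalKrullDim (GLinSh.stab a (Over.homMk (X.left.fromSpecResidueField y) rfl :
              Over.mk (X.left.fromSpecResidueField y ≫ X.hom) ⟶ X)) =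
            topologicalKrullDim (GLinSh.stab a (Over.homMk (X.left.fromSpecResidueField x) rfl :
              Over.mk (X.left.fromSpecResidueField x ≫ X.hom) ⟶ X)))
    (n : ℕ) (f : Γ(B.V.left, ⊤)) (Uf : X.left.Opens) (hn : 1 ≤ n) (hf : B.IsInvSection n f)
    (hUf : (Uf : Set X.left) = GLinSh.nonvanishing B.π f) (haff : IsAffineOpen Uf) (hxU : x ∈ Uf)
    (hcl : ∀ (Ω : Type u) [Field Ω] [IsAlgClosed Ω] (T : Over (Spec (CommRingCat.of k)))
        (_ : T.left ≅ Spec (CommRingCat.of Ω)) (g : T ⟶ X), Set.range g.left.base = {x} →
          IsClosed ((fun p : (fst X T).left ⁻¹ᵁ Uf => (p : (X ⊗ T).left)) ⁻¹' Set.range (GIT.psi a g).left.base)) :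
    B.IsStablePt x := by
  haveI := hG.1
  haveI := hG.2.1
  obtain ⟨W, hxW, hW⟩ := hreg
  refine GIT36.Regular.isStablePt_of_regular hG B W hxW (fun y hy => ?_) Uf hn hf hUf haff hxU hcl
  rw [← GIT36.Regular.dim_stab_eq, ← GIT36.Regular.dim_stab_eq]
  exact hW y hy

end Groth.Agent.S14716
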