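import Groth.Statements.S14717
import Groth.Agent.GIT36.Sections.Good
-- import your own Groth.Agent.* helpers here

set_option autoImplicit false
universe u
open CategoryTheory MonoidalCategory CartesianMonoidalCategory MonObj GrpObj AlgebraicGeometry Topology
open GIT

namespace Groth.Agent.S14717

open Groth.Agent.GIT36.Sections

/-- Let k be a field of characteristic zero, G a connected reductive algebraic group over k (affine,
smooth, with connected reductive geometric fibre) acting by σ on a finite-type k-scheme X (not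
necessarily separated), and L a G-linearised line bundle on X, taken in total-space form (a line
bundle V → X with a linear atlas and a fibrewise-linear lifting of the action; sections of L^n are
the weight-n functions on V, invariant sections those fixed by the lifted action, X_s the locus over
which s does not vanish identically on the fibre). Let x_1, …, x_m be finitely many semi-stable
points of X. Then there is an invariant section s of some L^n, n ≥ 1, such that X_s is an affine
open containing all the x_i; if moreover all the x_i are stable (no condition on stabilisers), s can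
be chosen so that the action of G on X_s is closed. (The published statement is for any reductive G
in any characteristic; this row is the characteristic-zero case with G connected. L is taken in
total-space form.) -/
theorem result (k : Type u) [Field k] [CharZero k]
    (G X : Over (Spec (CommRingCat.of k))) [GrpObj G] (hG : Red.IsReductive G)
    [LocallyOfFiniteType X.hom] [QuasiCompact X.hom]
    (a : AlgGrp.Action G X) (B : GLinSh.LinBun G a)
    (s : Finset X.left) (hs : ∀ x ∈ s, B.IsSemistablePt x) :
    ∃ (n : ℕ) (f : Γ(B.V.left, ⊤)) (Uf : X.left.Opens), 1 ≤ n ∧ B.IsInvSection n f ∧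
      (Uf : Set X.left) = GLinSh.nonvanishing B.π f ∧ IsAffineOpen Uf ∧ (∀ x ∈ s, x ∈ Uf) ∧
      ((∀ x ∈ s, B.IsStablePt x) → GLinSh.ClosedOrbitsOn a Uf) := by
  classical
  haveI := B.atlas.affine
  have key : ∀ (n : X.left → ℕ) (g : X.left → Γ(B.V.left, ⊤))
      (U : X.left → X.left.Opens),
      (∀ x ∈ s, 1 ≤ n x ∧ B.IsInvSection (n x) (g x) ∧ (U x : Set X.left) = GLinSh.nonvanishing B.π (g x) ∧
        IsAffineOpen (U x) ∧ x ∈ U x) →
      ∃ (N : ℕ) (f : Γ(B.V.left, ⊤)) (Uf : X.left.Opens), 1 ≤ N ∧ B.IsInvSection N f ∧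
        (Uf : Set X.left) = GLinSh.nonvanishing B.π f ∧ IsAffineOpen Uf ∧ (∀ x ∈ s, x ∈ Uf) ∧
        ((∀ x ∈ s, GLinSh.ClosedOrbitsOn a (U x)) → GLinSh.ClosedOrbitsOn a Uf) := by
    intro n g U h
    let N := ∏ x ∈ s, n x
    have hN : 1 ≤ N := Finset.one_le_prod' fun x hx => (h x hx).1
    have hdvd : ∀ x ∈ s, n x ∣ N := fun x hx => Finset.dvd_prod_of_mem n hx
    have hm : ∀ x ∈ s, 0 < N / n x := fun x hx =>
      Nat.div_pos (Nat.le_of_dvd hN (hdvd x hx)) (h x hx).1
    let F : X.left → Γ(B.V.left, ⊤) := fun x => g x ^ (N / n x)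
    have hF : ∀ x ∈ s, B.IsInvSection N (F x) := fun x hx => by
      have := inv_pow' (h x hx).2.1 (N / n x)
      rwa [Nat.div_mul_cancel (hdvd x hx)] at this
    have hU : ∀ x ∈ s, (U x : Set X.left) = GLinSh.nonvanishing B.π (F x) := fun x hx => by
      rw [(h x hx).2.2.1]
      exact (nv_pow (π := B.π.left) (g x) (hm x hx)).symm
    obtain ⟨f, Uf, hf, hUf, ha, hmem, hcov⟩ := exists_generic B s F hF U hU (fun x hx => (h x hx).2.2.2.1)
      s id (fun x hx => ⟨x, hx, (h x hx).2.2.2.2⟩)
    refine ⟨N, f, Uf, hN, hf, hUf, ha, hmem, fun hc => ?_⟩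
    refine closedOrbitsOn_of_cover (J := s) (fun x => U x.1) (fun x hx => ?_)
      (fun x => preimage_invariant (hF x.1 x.2) (hU x.1 x.2)) (fun x => hc x.1 x.2)
    obtain ⟨i, hi, hxi⟩ := hcov x hx
    exact ⟨⟨i, hi⟩, hxi⟩
  by_cases hst : ∀ x ∈ s, B.IsStablePt x
  · choose n g h1 h2 h3 U h4 h5 h6 using hst
    obtain ⟨N, f, Uf, hN, hf, hUf, ha, hmem, hc⟩ := key (fun x => if h : x ∈ s then n x h else 1)
      (fun x => if h : x ∈ s then g x h else 0) (fun x => if h : x ∈ s then U x h else ⊥) fun x hx => by
        simp only [dif_pos hx]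
        exact ⟨h1 x hx, h2 x hx, h4 x hx, h5 x hx, by rw [← SetLike.mem_coe, h4 x hx]; exact h3 x hx⟩
    exact ⟨N, f, Uf, hN, hf, hUf, ha, hmem, fun _ => hc fun x hx => by simp only [dif_pos hx]; exact h6 x hx⟩
  · choose n g h1 h2 h3 U h4 h5 using hs
    obtain ⟨N, f, Uf, hN, hf, hUf, ha, hmem, -⟩ := key (fun x => if h : x ∈ s then n x h else 1)
      (fun x => if h : x ∈ s then g x h else 0) (fun x => if h : x ∈ s then U x h else ⊥) fun x hx => by
        simp only [dif_pos hx]
        exact ⟨h1 x hx, h2 x hx, h4 x hx, h5 x hx, by rw [← SetLike.mem_coe, h4 x hx]; exact h3 x hx⟩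
    exact ⟨N, f, Uf, hN, hf, hUf, ha, hmem, fun h => absurd h hst⟩

end Groth.Agent.S14717
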