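import Groth.Statements.S14718
import Groth.Agent.GIT36.LineBundle.PullBun
import Groth.Agent.GIT36.LineBundle.GeomOrbit
import Groth.Agent.Ample57.Separated

set_option autoImplicit false
universe u
open CategoryTheory MonoidalCategory CartesianMonoidalCategory MonObj GrpObj AlgebraicGeometry Topology
open GIT

namespace Groth.Agent.S14718

/-- Let k be a field, G a group scheme over k acting by σ on a k-scheme X, φ : X → Y an invariant
k-morphism (φ ∘ σ = φ ∘ p₂) which is affine, and M an ample invertible sheaf on Y. Then there is a
G-linearised line bundle L on X, taken in total-space form, with X = X^ss(L): every point x has an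
invariant section s of some L^n, n ≥ 1, with s(x) ≠ 0 and X_s affine. If moreover (Y, φ) is a
geometric quotient of X by G, then X = X^s(L) for the same L (the action of G on those X_s is
closed; no condition on stabilisers). (The published statement assumes G reductive, X of finite type
and (Y, φ) a categorical quotient with Y quasi-projective; this row keeps only what the construction
uses: φ invariant and affine, M ample. L is taken in total-space form.) -/
theorem result (k : Type u) [Field k]
    (G X Y : Over (Spec (CommRingCat.of k))) [GrpObj G]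
    (a : AlgGrp.Action G X) (φ : X ⟶ Y) (hφ : GIT.IsInvariant a φ) [IsAffineHom φ.left]
    (M : Y.left.Modules) (hM : CohB1.IsAmple M) :
    ∃ B : GLinSh.LinBun G a, B.ssLocus = Set.univ ∧ (GIT.IsGeomQuot a φ → B.sLocus = Set.univ) := by
  have hsep := Groth.Agent.Ample57.isSeparated_of_isAmple hM
  have : Y.left.IsSeparated := hsep
  have : IsSeparated Y.hom :=
    @IsSeparated.of_comp _ _ _ Y.hom (Limits.terminal.from _) (Limits.terminal.comp_from Y.hom ▸ hsep.1)
  let B := GIT36.LineBundle.pullBun φ hM.1 hφ
  refine ⟨B, Set.eq_univ_of_forall fun x => ?_, fun hq => Set.eq_univ_of_forall fun x => ?_⟩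
  all_goals
    obtain ⟨n, s, hxs, haff⟩ := hM.2.2 (φ.left x)
    obtain ⟨f, hf, hloc⟩ := GIT36.LineBundle.exists_invSection hM.1 hφ (n + 1) s
  · exact ⟨n + 1, f, Nat.succ_pos n, hf, hloc.ge hxs, _, hloc.symm, haff.preimage φ.left⟩
  · exact ⟨n + 1, f, Nat.succ_pos n, hf, hloc.ge hxs, _, hloc.symm, haff.preimage φ.left,
      GIT36.LineBundle.closedOrbitsOn_of_isGeomQuot hq _⟩

end Groth.Agent.S14718
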