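import Groth.Statements.S14722
import Groth.Agent.GIT36.SSRed.TwoLifts

set_option autoImplicit false
set_option backward.isDefEq.respectTransparency.types false
universe u
open CategoryTheory MonoidalCategory CartesianMonoidalCategory MonObj GrpObj AlgebraicGeometry Topology
open GIT

namespace Groth.Agent.S14722

/-- Let k be a field of characteristic zero, G a connected reductive algebraic group over k such that,
after base change to any algebraically closed field K ⊇ k, every homomorphism G_K → 𝔾_m is trivial,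
σ an action of G on a scheme X of finite type over k (not necessarily separated or reduced), and π :
V → X a line bundle in total-space form (affine with a linear atlas). If Φ₁ and Φ₂ are two liftings
of σ to fibrewise-linear bundle actions on V — two G-linearisations of the same invertible sheaf L —
then the semi-stable loci they define coincide, and so do the stable loci (no condition on
stabilisers): X^ss(L) and X^s(L) do not depend on the linearisation. (The published statement is for
any reductive G in any characteristic, the character condition bearing on the identity component;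
this row is the characteristic-zero case with G connected. L is taken in total-space form.) -/
theorem result (k : Type u) [Field k] [CharZero k]
    (G X V : Over (Spec (CommRingCat.of k))) [GrpObj G] (hG : Red.IsReductive G)
    (hχ : ∀ (K : Type u) [Field K] [IsAlgClosed K] (f : Spec (CommRingCat.of K) ⟶ Spec (CommRingCat.of k))
      (χ : Red.bc f G ⟶ Red.Gm (Spec (CommRingCat.of K))) [IsMonHom χ], χ = 1)
    [LocallyOfFiniteType X.hom] [QuasiCompact X.hom]
    (a : AlgGrp.Action G X) (π : V ⟶ X) (A : GLinSh.LinAtlas π)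
    (Φ₁ Φ₂ : AlgGrp.Action G V) (h₁ : Φ₁.act ≫ π = (G ◁ π) ≫ a.act) (h₂ : Φ₂.act ≫ π = (G ◁ π) ≫ a.act)
    (hl₁ : GLinSh.IsLinearLift a π Φ₁ A.chart h₁) (hl₂ : GLinSh.IsLinearLift a π Φ₂ A.chart h₂) :
    (⟨V, π, A, Φ₁, h₁, hl₁⟩ : GLinSh.LinBun G a).ssLocus = (⟨V, π, A, Φ₂, h₂, hl₂⟩ : GLinSh.LinBun G a).ssLocus ∧
      (⟨V, π, A, Φ₁, h₁, hl₁⟩ : GLinSh.LinBun G a).sLocus = (⟨V, π, A, Φ₂, h₂, hl₂⟩ : GLinSh.LinBun G a).sLocus := by
  refine ⟨Set.ext fun x => ?_, Set.ext fun x => ⟨
    GIT36.SSRed.exists_inv_twoLifts hG hχ A Φ₁ Φ₂ h₁ h₂ hl₁ hl₂ (GLinSh.ClosedOrbitsOn a) x,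
    GIT36.SSRed.exists_inv_twoLifts hG hχ A Φ₂ Φ₁ h₂ h₁ hl₂ hl₁ (GLinSh.ClosedOrbitsOn a) x⟩⟩
  constructor
  · rintro ⟨n, f, hn, hf, hx, U, hU, hUa⟩
    obtain ⟨n', f', hn', hf', hx', U', hU', hUa', -⟩ := GIT36.SSRed.exists_inv_twoLifts hG hχ A Φ₁ Φ₂ h₁ h₂ hl₁ hl₂
      (fun _ => True) x ⟨n, f, hn, hf, hx, U, hU, hUa, trivial⟩
    exact ⟨n', f', hn', hf', hx', U', hU', hUa'⟩
  · rintro ⟨n, f, hn, hf, hx, U, hU, hUa⟩
    obtain ⟨n', f', hn', hf', hx', U', hU', hUa', -⟩ := GIT36.SSRed.exists_inv_twoLifts hG hχ A Φ₂ Φ₁ h₂ h₁ hl₂ hl₁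
      (fun _ => True) x ⟨n, f, hn, hf, hx, U, hU, hUa, trivial⟩
    exact ⟨n', f', hn', hf', hx', U', hU', hUa'⟩

end Groth.Agent.S14722
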