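import Groth.Statements.S14724
import Groth.Agent.GIT36.SSRed.Reduce

set_option autoImplicit false
set_option backward.isDefEq.respectTransparency.types false
universe u
open CategoryTheory MonoidalCategory CartesianMonoidalCategory MonObj GrpObj AlgebraicGeometry Topology
open GIT

namespace Groth.Agent.S14724

/-- Let k be a field of characteristic zero, G a connected reductive algebraic group over k (affine,
smooth, with connected reductive geometric fibre) acting by σ on a scheme X of finite type over k
(not necessarily separated), and L a G-linearised line bundle on X, taken in total-space form (a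
line bundle V → X with a linear atlas and a fibrewise-linear lifting of the action; sections of L^n
are the weight-n functions on V, invariant sections those fixed by the lifted action, X_s the locus
over which s does not vanish identically on the fibre). Let j : X_red → X be the reduced closed
subscheme with the same underlying space (a surjective closed immersion from a reduced scheme), with
the induced action of G, and let L_red = j^*L: a G-linearised line bundle on X_red in total-space
form whose total space maps to V over j by a morphism q compatible with the lifted actions and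
pulling admissible fibre coordinates of L back to admissible fibre coordinates of L_red. Then
X_red^ss(L_red) is the preimage of X^ss(L) under j and X_red^s(L_red) is the preimage of X^s(L)
(stable: no condition on stabilisers) — the loci are unchanged by passing to X_red. (The induced
action and the pulled-back bundle are given as hypotheses with their compatibilities. The published
statement is for any reductive G in any characteristic; this row is the characteristic-zero case
with G connected. L is taken in total-space form.) -/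
theorem result (k : Type u) [Field k] [CharZero k]
    (G X : Over (Spec (CommRingCat.of k))) [GrpObj G] (hG : Red.IsReductive G)
    [LocallyOfFiniteType X.hom] [QuasiCompact X.hom]
    (a : AlgGrp.Action G X) (B : GLinSh.LinBun G a)
    (Xr : Over (Spec (CommRingCat.of k))) (j : Xr ⟶ X) [IsClosedImmersion j.left] [IsReduced Xr.left]
    (hj : Function.Surjective j.left.base)
    (ar : AlgGrp.Action G Xr) (har : ar.act ≫ j = (G ◁ j) ≫ a.act)
    (Br : GLinSh.LinBun G ar) (q : Br.V ⟶ B.V) (hq : Br.π ≫ j = q ≫ B.π)
    (hlift : Br.lift.act ≫ q = (G ◁ q) ≫ B.lift.act)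
    (hle : ∀ U : X.left.Opens, Br.π.left ⁻¹ᵁ (j.left ⁻¹ᵁ U) ≤ q.left ⁻¹ᵁ (B.π.left ⁻¹ᵁ U))
    (hchart : ∀ (U : X.left.Opens) (y : Γ(B.V.left, B.π.left ⁻¹ᵁ U)), y ∈ B.atlas.chart U →
      q.left.appLE (B.π.left ⁻¹ᵁ U) (Br.π.left ⁻¹ᵁ (j.left ⁻¹ᵁ U)) (hle U) y ∈ Br.atlas.chart (j.left ⁻¹ᵁ U)) :
    Br.ssLocus = j.left.base ⁻¹' B.ssLocus ∧ Br.sLocus = j.left.base ⁻¹' B.sLocus := by
  have key : ∀ (P : X.left.Opens → Prop) (Pr : Xr.left.Opens → Prop),
      (∀ U, Pr (j.left ⁻¹ᵁ U) ↔ P U) → ∀ x : Xr.left,
      (∃ (n : ℕ) (f : Γ(Br.V.left, ⊤)), 1 ≤ n ∧ Br.IsInvSection n f ∧ x ∈ GLinSh.nonvanishing Br.π f ∧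
        ∃ U : Xr.left.Opens, (U : Set Xr.left) = GLinSh.nonvanishing Br.π f ∧ IsAffineOpen U ∧ Pr U) ↔
      (∃ (n : ℕ) (f : Γ(B.V.left, ⊤)), 1 ≤ n ∧ B.IsInvSection n f ∧ j.left x ∈ GLinSh.nonvanishing B.π f ∧
        ∃ U : X.left.Opens, (U : Set X.left) = GLinSh.nonvanishing B.π f ∧ IsAffineOpen U ∧ P U) := by
    intro P Pr hP x
    constructor
    · rintro ⟨n, f, hn, hf, hx, Ur, hUr, hUa, hPU⟩
      obtain ⟨m, g, U, hm, hg, hU, hUaff, hjU⟩ :=
        GIT36.SSRed.inv_lift j hq hle hchart hlift hG hj hn hf hUr hUa
      refine ⟨m, g, hm, hg, ?_, U, hU, hUaff, (hP U).1 (hjU.symm ▸ hPU)⟩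
      rw [← hUr, ← hjU] at hx
      rw [← hU]
      exact hx
    · rintro ⟨n, f, hn, hf, hx, U, hU, hUa, hPU⟩
      obtain ⟨hfr, hnv⟩ := GIT36.SSRed.inv_restrict j hq hle hchart hlift hf
      refine ⟨n, _, hn, hfr, ?_, j.left ⁻¹ᵁ U, ?_, hUa.preimage j.left, (hP U).2 hPU⟩
      · rw [hnv]
        exact hx
      · rw [hnv, ← hU]
        rfl
  refine ⟨Set.ext fun x => ?_, Set.ext fun x => ?_⟩
  · have h := key (fun _ => True) (fun _ => True) (fun _ => Iff.rfl) x
    simp only [and_true] at h
    exact h
  · exact key (GLinSh.ClosedOrbitsOn a) (GLinSh.ClosedOrbitsOn ar)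
      (GIT36.SSRed.closedOrbitsOn_iff j har hj) x

end Groth.Agent.S14724
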