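import Groth.Statements.S14725
import Groth.Agent.GIT36.PropAct.StabFinite
import Groth.Agent.GIT36.PropAct.Proper
import Groth.Agent.GIT36.Desc.QuotAffine
import Groth.Agent.Ample57.Separated

set_option autoImplicit false
universe u
open CategoryTheory MonoidalCategory CartesianMonoidalCategory MonObj GrpObj AlgebraicGeometry Topology
open GIT

namespace Groth.Agent.S14725

/-- Let k be an algebraically closed field of characteristic zero, G a connected reductive algebraic
group over k acting by σ on a connected scheme X smooth and of finite type over k (not necessarily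
separated), such that the stabiliser of the generic point xg of X is 0-dimensional (the stabiliser
group scheme of the κ(xg)-valued point xg has dimension 0), and let U be an invariant open subset of
X (σ⁻¹U = p₂⁻¹U) with the action restricted to U. Then the following are equivalent: (ii) a
geometric quotient (Y, φ) of U by G exists with φ affine and Y quasi-projective (of finite type over
k with an ample invertible sheaf); (iii) the action of G on U is proper (Ψ = (σ, p₂) : G × U → U × U
is proper) and a geometric quotient (Y, φ) of U by G exists with Y quasi-projective. (The published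
statement is over any ground field and in any characteristic; this row is the case of an
algebraically closed field of characteristic zero, where the properness criterion it invokes is
proved.) -/
theorem result (k : Type u) [Field k] [IsAlgClosed k] [CharZero k]
    (G X : Over (Spec (CommRingCat.of k))) [GrpObj G] (hG : Red.IsReductive G)
    [LocallyOfFiniteType X.hom] [QuasiCompact X.hom] [Smooth X.hom] [ConnectedSpace X.left]
    (a : AlgGrp.Action G X)
    (xg : X.left) (hxg : closure ({xg} : Set X.left) = Set.univ)
    (hσ : topologicalKrullDim (GLinSh.stab a (Over.homMk (X.left.fromSpecResidueField xg) rfl :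
        Over.mk (X.left.fromSpecResidueField xg ≫ X.hom) ⟶ X)) = 0)
    (U : X.left.Opens) (hinv : a.act.left ⁻¹ᵁ U = (snd G X).left ⁻¹ᵁ U)
    (aU : AlgGrp.Action G (Over.mk (U.ι ≫ X.hom)))
    (jU : Over.mk (U.ι ≫ X.hom) ⟶ X) (hjU : jU.left = U.ι) (haU : aU.act ≫ jU = (G ◁ jU) ≫ a.act) :
    (∃ (Y : Over (Spec (CommRingCat.of k))) (φ : Over.mk (U.ι ≫ X.hom) ⟶ Y),
        GIT.IsGeomQuot aU φ ∧ IsAffineHom φ.left ∧ LocallyOfFiniteType Y.hom ∧
        ∃ M : Y.left.Modules, CohB1.IsAmple M) ↔
      IsProper (GIT.psi aU (𝟙 (Over.mk (U.ι ≫ X.hom)))).left ∧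
        ∃ (Y : Over (Spec (CommRingCat.of k))) (φ : Over.mk (U.ι ≫ X.hom) ⟶ Y),
          GIT.IsGeomQuot aU φ ∧ LocallyOfFiniteType Y.hom ∧ ∃ M : Y.left.Modules, CohB1.IsAmple M := by
  haveI := hG.1
  haveI : IsAffine G.left := isAffine_of_isAffineHom G.hom
  haveI := hG.2.1
  haveI : LocallyOfFiniteType G.hom := inferInstance
  haveI : CompactSpace G.left := inferInstance
  haveI : QuasiCompact G.hom := inferInstance
  haveI := GIT36.PropAct.connectedSpace_of_isReductive G hG
  haveI : IrreducibleSpace G.left := RedPts82.irreducibleSpace_of_connected_grp G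
  haveI : LocallyOfFiniteType (Over.mk (U.ι ≫ X.hom)).hom := inferInstanceAs (LocallyOfFiniteType (U.ι ≫ X.hom))
  constructor
  · rintro ⟨Y, φ, hq, haff, hYft, M, hM⟩
    haveI := hYft
    haveI := haff
    haveI : Y.left.IsSeparated := Ample57.isSeparated_of_isAmple hM
    haveI : IsSeparated Y.hom := inferInstance
    haveI : IsSeparated (Over.mk (U.ι ≫ X.hom)).hom := by
      rw [← Over.w φ]
      infer_instance
    refine ⟨?_, Y, φ, hq, hYft, M, hM⟩
    haveI : IsOpenImmersion jU.left := by rw [hjU]; infer_instance
    have hst : ∀ z : 𝟙_ (Over (Spec (CommRingCat.of k))) ⟶ Over.mk (U.ι ≫ X.hom),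
        {g : 𝟙_ (Over (Spec (CommRingCat.of k))) ⟶ G | lift g z ≫ aU.act = z}.Finite := by
      intro z
      let c : U := z.left (IsLocalRing.closedPoint k)
      have hxgU : xg ∈ U := (specializes_iff_mem_closure.2 (hxg ▸ Set.mem_univ c.1)).mem_open U.isOpen c.2
      have hη : ∀ p : (Over.mk (U.ι ≫ X.hom)).left, (⟨xg, hxgU⟩ : U) ⤳ p := fun p =>
        (subtype_specializes_iff _ _).2 (specializes_iff_mem_closure.2 (hxg ▸ Set.mem_univ p.1))
      obtain ⟨O, hO, hd⟩ := GIT36.PropAct.exists_open_fdeg_zero a aU jU haU xg hσ ⟨xg, hxgU⟩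
        (by rw [hjU]; rfl)
      exact GIT36.PropAct.finite_pts aU hq.inv hq.orbit _ hη O hO hd z
    haveI := GIT36.PropAct.isFinite_psi_of_affine_map aU hG hq.inv hst
    infer_instance
  · rintro ⟨hp, Y, φ, hq, hYft, M, hM⟩
    haveI := hYft
    exact ⟨Y, φ, hq, GIT36.Desc.isAffineHom_of_isGeomQuot aU hp φ hq, hYft, M, hM⟩

end Groth.Agent.S14725
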