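import Groth.Statements.S14726
import Groth.Agent.Prufer29.Gauss
import Groth.Agent.Prufer29.Unramified
import Mathlib.RingTheory.Ideal.GoingDown
import Mathlib.RingTheory.Smooth.Flat
import Mathlib.RingTheory.Smooth.Locus
import Mathlib.RingTheory.Unramified.LocalStructure

set_option autoImplicit false
universe u
open ValPrufer

namespace Groth.Agent.S14726

open Agent.Prufer29 in
/-- Every nonzero element has the value of an element of `V`. -/
theorem exists_value (V : Type u) [CommRing V] [IsDomain V] [ValuationRing V]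
    (A : Type u) [CommRing A] [IsDomain A] [Algebra V A] [Algebra.Smooth V A]
    (p : Ideal A) [p.IsPrime]
    (hp : p ∈ ((IsLocalRing.maximalIdeal V).map (algebraMap V A)).minimalPrimes) :
    Function.Injective (algebraMap V A) ∧
      ∀ a : A, a ≠ 0 → ∃ (v : V) (s s' : A), s ∉ p ∧ s' ∉ p ∧ s * a = algebraMap V A v * s' := by
  classical
  haveI : Algebra.IsSmoothAt V p := by
    have h : (⟨p, inferInstance⟩ : PrimeSpectrum A) ∈ Algebra.smoothLocus V A := by
      rw [Algebra.smoothLocus_eq_univ]; trivial
    exact h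
  obtain ⟨f, hf, n, _, _, _⟩ := Algebra.IsSmoothAt.exists_isStandardEtale_mvPolynomial (R := V) (p := p)
  let P := MvPolynomial (Fin n) V
  let Af := Localization.Away f
  have hdisj : Disjoint (Submonoid.powers f : Set A) (p : Set A) :=
    (Ideal.disjoint_powers_iff_notMem_of_isPrime _).mpr hf
  let pf : Ideal Af := p.map (algebraMap A Af)
  haveI hpf : pf.IsPrime := IsLocalization.isPrime_of_isPrime_disjoint (Submonoid.powers f) _ _ ‹_› hdisj
  have hcomap : pf.comap (algebraMap A Af) = p :=
    IsLocalization.comap_map_of_isPrime_disjoint (Submonoid.powers f) Af ‹_› hdisj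
  haveI : Module.Flat P Af := Algebra.Smooth.flat P Af
  haveI : Algebra.HasGoingDown P Af := Algebra.HasGoingDown.of_flat
  have hf0 : f ≠ 0 := fun h => hf (h ▸ zero_mem p)
  haveI : IsDomain Af :=
    IsLocalization.isDomain_localization (powers_le_nonZeroDivisors_of_noZeroDivisors hf0)
  have hAinj : Function.Injective (algebraMap A Af) :=
    IsLocalization.injective Af (powers_le_nonZeroDivisors_of_noZeroDivisors hf0)
  have hVA : ∀ v, algebraMap A Af (algebraMap V A v) = algebraMap P Af (MvPolynomial.C v) := fun v => by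
    rw [← IsScalarTower.algebraMap_apply V A Af, IsScalarTower.algebraMap_apply V P Af]; rfl
  -- the contraction of `pf` is the Gauss prime
  have hge : gaussPrime V n ≤ pf.under P := by
    rw [gaussPrime, Ideal.map_le_iff_le_comap]
    intro v hv
    show algebraMap P Af (MvPolynomial.C v) ∈ pf
    rw [← hVA]
    exact Ideal.mem_map_of_mem _ (hp.1.2 (Ideal.mem_map_of_mem _ hv))
  have hq : pf.under P = gaussPrime V n := by
    obtain ⟨Q, hQle, hQ, hQover⟩ := Ideal.exists_ideal_le_liesOver_of_le (q := pf.under P) pf hge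
    have h1 : Q.comap (algebraMap A Af) ≤ p := hcomap ▸ Ideal.comap_mono hQle
    have h2 : (IsLocalRing.maximalIdeal V).map (algebraMap V A) ≤ Q.comap (algebraMap A Af) := by
      rw [Ideal.map_le_iff_le_comap]
      intro v hv
      show algebraMap A Af (algebraMap V A v) ∈ Q
      rw [hVA]
      have : MvPolynomial.C v ∈ gaussPrime V n := Ideal.mem_map_of_mem _ hv
      rw [hQover.over] at this
      exact this
    have h3 : p ≤ Q.comap (algebraMap A Af) := hp.2 ⟨Ideal.comap_isPrime _ _, h2⟩ h1
    have h4 : Q = pf := le_antisymm hQle (Ideal.map_le_iff_le_comap.mpr h3)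
    rw [hQover.over, h4]
  have hPinj : Function.Injective (algebraMap P Af) := by
    rw [injective_iff_map_eq_zero]
    intro x hx
    obtain ⟨Q, -, hQ, hQover⟩ := Ideal.exists_ideal_le_liesOver_of_le (p := (⊥ : Ideal P)) (q := pf.under P) pf bot_le
    have : x ∈ (⊥ : Ideal P) := by
      rw [hQover.over]
      show algebraMap P Af x ∈ Q
      rw [hx]; exact zero_mem Q
    exact Ideal.mem_bot.mp this
  have hVinj : Function.Injective (algebraMap V A) := fun u v h =>
    MvPolynomial.C_injective _ _ (hPinj ((hVA u).symm.trans ((congrArg _ h).trans (hVA v))))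
  refine ⟨hVinj, fun a ha => ?_⟩
  let L := FractionRing Af
  have hAfL : Function.Injective (algebraMap Af L) := IsFractionRing.injective Af L
  let R := Localization.AtPrime (gaussPrime V n)
  haveI : ValuationRing R := valuationRing_gauss V n
  haveI : IsDomain R := IsLocalization.isDomain_localization (gaussPrime V n).primeCompl_le_nonZeroDivisors
  have hqnot : ∀ s : P, s ∉ gaussPrime V n → algebraMap P Af s ∉ pf := fun s hs h => hs (hq ▸ h)
  let iR : R →+* L := IsLocalization.lift (M := (gaussPrime V n).primeCompl)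
    (g := (algebraMap Af L).comp (algebraMap P Af)) fun s => isUnit_iff_ne_zero.mpr fun h =>
      hqnot s.1 s.2 (by
        have h' := (map_eq_zero_iff _ hAfL).mp h
        change algebraMap P Af s.1 = 0 at h'
        rw [h']; exact zero_mem _)
  have hiR : ∀ x : P, iR (algebraMap P R x) = algebraMap Af L (algebraMap P Af x) := fun x =>
    IsLocalization.lift_eq _ x
  have hiRinj : Function.Injective iR := by
    rw [injective_iff_map_eq_zero]
    intro x hx
    obtain ⟨b, s, rfl⟩ := IsLocalization.exists_mk'_eq (gaussPrime V n).primeCompl x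
    have : iR (algebraMap P R b) = 0 := by rw [← IsLocalization.mk'_spec R b s, map_mul, hx, zero_mul]
    rw [hiR, map_eq_zero_iff _ hAfL, map_eq_zero_iff _ hPinj] at this
    rw [this, IsLocalization.mk'_zero]
  letI : Algebra R L := iR.toAlgebra
  haveI : FaithfulSMul R L := (faithfulSMul_iff_algebraMap_injective R L).mpr hiRinj
  let K := FractionRing R
  letI : Algebra K L := FractionRing.liftAlgebra R L
  haveI : IsScalarTower R K L := FractionRing.isScalarTower_liftAlgebra R L
  -- a valuation ring centred at `pf`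
  obtain ⟨W, hWle, hWlt⟩ : ∃ W : ValuationSubring L, (∀ x : Af, W.valuation (algebraMap Af L x) ≤ 1) ∧
      ∀ x : Af, W.valuation (algebraMap Af L x) < 1 ↔ x ∈ pf := by
    let g : Localization.AtPrime pf →+* L := IsLocalization.lift (M := pf.primeCompl) (g := algebraMap Af L)
      fun s => isUnit_iff_ne_zero.mpr fun h => s.2 (by rw [(map_eq_zero_iff _ hAfL).mp h]; exact zero_mem _)
    obtain ⟨W, hW, hloc⟩ := IsLocalRing.exists_factor_valuationRing g
    have hg : ∀ x : Af, g (algebraMap Af _ x) = algebraMap Af L x := fun x => IsLocalization.lift_eq _ x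
    refine ⟨W, fun x => (W.valuation_le_one_iff _).mpr (hg x ▸ hW _), fun x => ?_⟩
    let x' : W := ⟨g (algebraMap Af _ x), hW _⟩
    rw [← hg x]
    show W.valuation (x' : L) < 1 ↔ _
    rw [← ValuationSubring.valuation_lt_one_iff, IsLocalRing.mem_maximalIdeal, mem_nonunits_iff]
    constructor
    · intro h
      by_contra hx
      exact h ((IsLocalization.map_units (Localization.AtPrime pf) (⟨x, hx⟩ : pf.primeCompl)).map (g.codRestrict W.toSubring hW))
    · intro hx h
      have hu := hloc.map_nonunit _ h
      rw [IsLocalization.AtPrime.isUnit_to_map_iff (Localization.AtPrime pf) pf] at hu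
      exact hu hx
  have hone : ∀ x : Af, x ∉ pf → W.valuation (algebraMap Af L x) = 1 := fun x hx =>
    le_antisymm (hWle x) (not_lt.mp fun h => hx ((hWlt x).mp h))
  have hRW : ∀ (b : P) (s : (gaussPrime V n).primeCompl), W.valuation (algebraMap R L (IsLocalization.mk' R b s)) =
      W.valuation (algebraMap Af L (algebraMap P Af b)) := fun b s => by
    have h : algebraMap R L (IsLocalization.mk' R b s) * algebraMap Af L (algebraMap P Af s.1) =
        algebraMap Af L (algebraMap P Af b) := by
      rw [← hiR, ← hiR, RingHom.algebraMap_toAlgebra, ← map_mul, IsLocalization.mk'_spec]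
    rw [← h, map_mul, hone _ (hqnot s.1 s.2), mul_one]
  have hdom : Dom R W := by
    refine ⟨fun r => ?_, fun r hr => ?_⟩
    all_goals obtain ⟨b, s, rfl⟩ := IsLocalization.exists_mk'_eq (gaussPrime V n).primeCompl r
    · rw [hRW]; exact hWle _
    · rw [hRW, hWlt]
      by_contra hb
      refine hr ((IsLocalization.AtPrime.isUnit_mk'_iff R (gaussPrime V n) b s).mpr fun hb' => hb ?_)
      show b ∈ pf.under P
      rw [hq]; exact hb'
  -- the generator
  let pres := Classical.ofNonempty (α := StandardEtalePresentation P Af)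
  let θ : L := algebraMap Af L pres.x
  have hev : ∀ h : Polynomial P, Polynomial.aeval θ (h.map (algebraMap P R)) =
      algebraMap Af L (Polynomial.aeval pres.x h) := fun h => by
    rw [Polynomial.aeval_def, Polynomial.eval₂_map, Polynomial.aeval_def, Polynomial.hom_eval₂]
    congr 1
    exact RingHom.ext hiR
  have hθ : IsIntegral R θ := ⟨pres.f.map (algebraMap P R), pres.monic_f.map _, by
    rw [← Polynomial.aeval_def, hev, pres.hasMap.1, map_zero]⟩
  haveI : IsIntegrallyClosed R := by
    letI := IsBezout.toGCDDomain R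
    infer_instance
  have hθ' : W.valuation (Polynomial.aeval θ (Polynomial.derivative (minpoly K θ))) = 1 := by
    rw [minpoly.isIntegrallyClosed_eq_field_fractions' K hθ, Polynomial.derivative_map,
      Polynomial.aeval_map_algebraMap]
    obtain ⟨F₂, hF₂⟩ := minpoly.isIntegrallyClosed_dvd hθ
      (p := pres.f.map (algebraMap P R)) (by rw [hev, pres.hasMap.1, map_zero])
    have hθ1 : W.valuation θ ≤ 1 := hWle _
    have h1 : W.valuation (Polynomial.aeval θ (Polynomial.derivative (pres.f.map (algebraMap P R)))) = 1 := by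
      rw [Polynomial.derivative_map, hev]
      exact hone _ fun h => hpf.ne_top (Ideal.eq_top_of_isUnit_mem _ h pres.hasMap.isUnit_derivative_f)
    rw [hF₂, Polynomial.derivative_mul, map_add, map_mul, map_mul, minpoly.aeval, zero_mul, add_zero,
      map_mul] at h1
    refine le_antisymm (valuation_aeval_le hdom hθ1 _) ?_
    rw [← h1]
    exact mul_le_of_le_one_right zero_le' (valuation_aeval_le hdom hθ1 _)
  let x₀ := algebraMap A Af a
  obtain ⟨num, N, hnum⟩ := pres.exists_mul_aeval_x_g_pow_eq_aeval_x x₀
  have hmem : ∀ h : Polynomial P, algebraMap Af L (Polynomial.aeval pres.x h) ∈ Algebra.adjoin K {θ} := fun h => by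
    rw [← hev, ← Polynomial.aeval_map_algebraMap K]
    exact Polynomial.aeval_mem_adjoin_singleton _ _
  have hx₀ : x₀ ≠ 0 := fun h => ha (hAinj (h.trans (map_zero _).symm))
  have hgN : algebraMap Af L (Polynomial.aeval pres.x pres.g ^ N) ≠ 0 := fun h =>
    ((pres.hasMap.2.pow N).map (algebraMap Af L)).ne_zero h
  have hxmem : algebraMap Af L x₀ ∈ Algebra.adjoin K {θ} := by
    have e : algebraMap Af L x₀ = algebraMap Af L (Polynomial.aeval pres.x num) *
        (algebraMap Af L (Polynomial.aeval pres.x pres.g ^ N))⁻¹ := by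
      rw [← hnum, map_mul, mul_assoc, mul_inv_cancel₀ hgN, mul_one]
    rw [e]
    refine mul_mem (hmem num) ?_
    have hg : algebraMap Af L (Polynomial.aeval pres.x pres.g ^ N) ∈ Algebra.adjoin K {θ} := by
      rw [map_pow]; exact pow_mem (hmem _) N
    exact Subalgebra.inv_mem_of_algebraic (Algebra.adjoin K {θ}) (x := ⟨_, hg⟩)
      (IsIntegral.of_mem_of_fg _ (hθ.tower_top.fg_adjoin_singleton) _ hg).isAlgebraic
  obtain ⟨c, h₁, h₂, hv₁, hv₂, he⟩ := value_attained hdom hθ hθ' hxmem
    (fun h => hx₀ (hAfL (h.trans (map_zero _).symm))) (hWle _)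
  -- clear denominators
  have hden : ∀ h : Polynomial R, ∃ (s : P) (h' : Polynomial P), s ∉ gaussPrime V n ∧
      algebraMap Af L (algebraMap P Af s) * Polynomial.aeval θ h = algebraMap Af L (Polynomial.aeval pres.x h') := by
    intro h
    obtain ⟨⟨s, hs⟩, hh⟩ := IsLocalization.integerNormalization_map_to_map (gaussPrime V n).primeCompl h
    refine ⟨s, IsLocalization.integerNormalization (gaussPrime V n).primeCompl h, hs, ?_⟩
    rw [← hev, hh, ← algebraMap_smul R s h, map_smul, Algebra.smul_def]
    congr 1
    exact (hiR s).symm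
  obtain ⟨s₁, k₁, hs₁, e₁⟩ := hden h₁
  obtain ⟨s₂, k₂, hs₂, e₂⟩ := hden h₂
  obtain ⟨b, ⟨t, ht⟩, rfl⟩ := IsLocalization.exists_mk'_eq (gaussPrime V n).primeCompl c
  have hcv : algebraMap R L (IsLocalization.mk' R b (⟨t, ht⟩ : (gaussPrime V n).primeCompl)) *
      algebraMap Af L (algebraMap P Af t) = algebraMap Af L (algebraMap P Af b) := by
    rw [← hiR, ← hiR, RingHom.algebraMap_toAlgebra, ← map_mul, IsLocalization.mk'_spec]
  have hb0 : b ≠ 0 := by
    rintro rfl
    rw [IsLocalization.mk'_zero, map_zero, zero_mul] at he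
    rcases mul_eq_zero.mp he with h | h
    · exact hx₀ (hAfL (h.trans (map_zero _).symm))
    · rw [h, map_zero] at hv₂; exact zero_ne_one hv₂
  obtain ⟨v, b₀, -, hb₀, rfl⟩ := exists_content V n b hb0
  let α : Af := algebraMap P Af t * algebraMap P Af s₁ * Polynomial.aeval pres.x k₂
  let β : Af := algebraMap P Af b₀ * algebraMap P Af s₂ * Polynomial.aeval pres.x k₁
  have hk : ∀ (s : P) (k : Polynomial P) (h : Polynomial R), s ∉ gaussPrime V n →
      algebraMap Af L (algebraMap P Af s) * Polynomial.aeval θ h = algebraMap Af L (Polynomial.aeval pres.x k) →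
      W.valuation (Polynomial.aeval θ h) = 1 → Polynomial.aeval pres.x k ∉ pf := fun s k h hs e hv hmem => by
    have := (hWlt _).mpr hmem
    rw [← e, map_mul, hone _ (hqnot s hs), hv, one_mul] at this
    exact lt_irrefl _ this
  have hα : α ∉ pf := fun h => (hpf.mem_or_mem h).elim
    (fun h => (hpf.mem_or_mem h).elim (hqnot t ht) (hqnot s₁ hs₁)) (hk s₂ k₂ h₂ hs₂ e₂ hv₂)
  have hβ : β ∉ pf := fun h => (hpf.mem_or_mem h).elim
    (fun h => (hpf.mem_or_mem h).elim (hqnot b₀ hb₀) (hqnot s₂ hs₂)) (hk s₁ k₁ h₁ hs₁ e₁ hv₁)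
  have hrel : α * x₀ = algebraMap A Af (algebraMap V A v) * β := by
    apply hAfL
    rw [map_mul (algebraMap P Af)] at hcv
    rw [hVA]
    simp only [α, β, map_mul, ← e₁, ← e₂] at hcv ⊢
    linear_combination (algebraMap Af L (algebraMap P Af t) * algebraMap Af L (algebraMap P Af s₁) *
        algebraMap Af L (algebraMap P Af s₂)) * he +
      (algebraMap Af L (algebraMap P Af s₁) * algebraMap Af L (algebraMap P Af s₂) * Polynomial.aeval θ h₁) * hcv
  -- back to `A`
  obtain ⟨α', ⟨fi, hfi⟩, hα'⟩ := IsLocalization.exists_mk'_eq (Submonoid.powers f) α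
  obtain ⟨β', ⟨fj, hfj⟩, hβ'⟩ := IsLocalization.exists_mk'_eq (Submonoid.powers f) β
  have hnot : ∀ (x : Af) (x' g : A) (hg : g ∈ Submonoid.powers f),
      IsLocalization.mk' Af x' (⟨g, hg⟩ : Submonoid.powers f) = x → x ∉ pf → x' ∉ p := by
    intro x x' g hg hx hxp hx'
    refine hxp (hx ▸ ?_)
    rw [IsLocalization.mk'_eq_mul_mk'_one]
    exact Ideal.mul_mem_right _ _ (Ideal.mem_map_of_mem _ hx')
  have hfp : ∀ g ∈ Submonoid.powers f, g ∉ p := fun g hg h => Set.disjoint_left.mp hdisj hg h
  refine ⟨v, α' * fj, β' * fi,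
    fun h => ((Ideal.IsPrime.mem_or_mem ‹p.IsPrime› h).elim (hnot α α' fi hfi hα' hα) (hfp fj hfj)),
    fun h => ((Ideal.IsPrime.mem_or_mem ‹p.IsPrime› h).elim (hnot β β' fj hfj hβ' hβ) (hfp fi hfi)),
    hAinj ?_⟩
  have ea := IsLocalization.mk'_spec Af α' (⟨fi, hfi⟩ : Submonoid.powers f)
  have eb := IsLocalization.mk'_spec Af β' (⟨fj, hfj⟩ : Submonoid.powers f)
  rw [hα'] at ea
  rw [hβ'] at eb
  simp only at ea eb
  rw [map_mul, map_mul, map_mul, map_mul, ← ea, ← eb]
  linear_combination (algebraMap A Af fi * algebraMap A Af fj) * hrel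

/-- Let V be a valuation ring with maximal ideal m, A an integral domain that is a smooth V-algebra, and
p a prime ideal of A minimal among the primes containing mA (a generic point of the special fibre of
Spec A over V). Then A_p is a valuation ring, V → A_p is an injective local homomorphism, and every
nonzero element of A_p is a unit of A_p times the image of an element of V, so that V → A_p induces
a bijection on value groups. (The published statement takes A faithfully flat and a semilocalisation
of a smooth V-algebra at finitely many primes; the local ring A_p is then a local ring of the smooth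
algebra itself at such a prime, and faithful flatness follows from the existence of p, so this row
states the smooth case, which carries the whole content.) -/
theorem result
    (V : Type u) [CommRing V] [IsDomain V] [ValuationRing V]
    (A : Type u) [CommRing A] [IsDomain A] [Algebra V A] [Algebra.Smooth V A]
    (p : Ideal A) [p.IsPrime]
    (hp : p ∈ ((IsLocalRing.maximalIdeal V).map (algebraMap V A)).minimalPrimes) :
    ValuationRing (Localization.AtPrime p) ∧
      Function.Injective (algebraMap V (Localization.AtPrime p)) ∧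
      IsLocalHom (algebraMap V (Localization.AtPrime p)) ∧
      ∀ x : Localization.AtPrime p, x ≠ 0 →
        ∃ (v : V) (w : (Localization.AtPrime p)ˣ), x = algebraMap V (Localization.AtPrime p) v * w := by
  obtain ⟨hinj, hval⟩ := exists_value V A p hp
  have hpm : ∀ v : V, v ∈ IsLocalRing.maximalIdeal V → algebraMap V A v ∈ p := fun v hv =>
    hp.1.2 (Ideal.mem_map_of_mem _ hv)
  let Ap := Localization.AtPrime p
  have hAp : Function.Injective (algebraMap A Ap) := IsLocalization.injective Ap p.primeCompl_le_nonZeroDivisors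
  refine ⟨?_, ?_, ?_, ?_⟩
  · refine (Agent.Prufer29.valuationRing_atPrime_iff p).mpr fun a b => ?_
    by_cases ha : a = 0
    · exact ⟨0, 1, (Ideal.ne_top_iff_one _).mp Ideal.IsPrime.ne_top', .inl (by rw [ha, mul_zero, zero_mul])⟩
    by_cases hb : b = 0
    · exact ⟨0, 1, (Ideal.ne_top_iff_one _).mp Ideal.IsPrime.ne_top', .inr (by rw [hb, mul_zero, zero_mul])⟩
    obtain ⟨va, sa, sa', hsa, hsa', ea⟩ := hval a ha
    obtain ⟨vb, sb, sb', hsb, hsb', eb⟩ := hval b hb
    rcases ValuationRing.dvd_total vb va with ⟨w, rfl⟩ | ⟨w, rfl⟩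
    · refine ⟨algebraMap V A w * sa' * sb, sa * sb', fun h => (Ideal.IsPrime.mem_or_mem ‹_› h).elim hsa hsb', .inl ?_⟩
      rw [map_mul] at ea
      linear_combination sb' * ea - (algebraMap V A w * sa') * eb
    · refine ⟨algebraMap V A w * sb' * sa, sb * sa', fun h => (Ideal.IsPrime.mem_or_mem ‹_› h).elim hsb hsa', .inr ?_⟩
      rw [map_mul] at eb
      linear_combination sa' * eb - (algebraMap V A w * sb') * ea
  · rw [IsScalarTower.algebraMap_eq V A Ap]
    exact hAp.comp hinj
  · refine ⟨fun v hv => ?_⟩
    by_contra h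
    rw [IsScalarTower.algebraMap_apply V A Ap, IsLocalization.AtPrime.isUnit_to_map_iff Ap p] at hv
    exact hv (hpm v ((IsLocalRing.mem_maximalIdeal _).mpr h))
  · intro x hx
    obtain ⟨a, t, rfl⟩ := IsLocalization.exists_mk'_eq p.primeCompl x
    have ha : a ≠ 0 := fun h => hx (by rw [h, IsLocalization.mk'_zero])
    obtain ⟨v, s, s', hs, hs', e⟩ := hval a ha
    have hst : s * t.1 ∉ p := fun h => (Ideal.IsPrime.mem_or_mem ‹_› h).elim hs t.2
    have hu : IsUnit (IsLocalization.mk' Ap s' (⟨s * t.1, hst⟩ : p.primeCompl)) :=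
      (IsLocalization.AtPrime.isUnit_mk'_iff Ap p s' _).mpr hs'
    refine ⟨v, hu.unit, ?_⟩
    rw [IsUnit.unit_spec, IsScalarTower.algebraMap_apply V A Ap, IsLocalization.mul_mk'_eq_mk'_of_mul,
      IsLocalization.mk'_eq_iff_eq]
    congr 1
    show (⟨s * t.1, hst⟩ : p.primeCompl).1 * a = t.1 * (algebraMap V A v * s')
    linear_combination (t.1) * e

end Groth.Agent.S14726
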