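import Groth.Statements.S14727
import Mathlib.RingTheory.AdicCompletion.Functoriality
import Mathlib.RingTheory.Localization.AtPrime.Basic
import Mathlib.RingTheory.Ideal.Quotient.Operations
import Mathlib.RingTheory.Spectrum.Maximal.Basic

set_option autoImplicit false
universe u
open ValPrufer

namespace Groth.Agent.S14727

/-- Chinese remainder theorem along the local rings at the maximal ideals over `I`. -/
theorem level (R : Type u) [CommRing R] (hR : Finite (MaximalSpectrum R)) (I : Ideal R)
    (hI : ∀ (p : Ideal R), p.IsPrime → I ≤ p → p.IsMaximal) (n : ℕ) :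
    (∀ x : R, (∀ m : {m : MaximalSpectrum R // I ≤ m.asIdeal},
        algebraMap R (Localization.AtPrime m.1.asIdeal) x ∈
          (I ^ n • ⊤ : Submodule R (Localization.AtPrime m.1.asIdeal))) → x ∈ I ^ n) ∧
    ∀ y : ∀ m : {m : MaximalSpectrum R // I ≤ m.asIdeal}, Localization.AtPrime m.1.asIdeal,
      ∃ x : R, ∀ m, algebraMap R (Localization.AtPrime m.1.asIdeal) x - y m ∈
        (I ^ n • ⊤ : Submodule R (Localization.AtPrime m.1.asIdeal)) := by
  classical
  let A := fun m : {m : MaximalSpectrum R // I ≤ m.asIdeal} => Localization.AtPrime m.1.asIdeal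
  have hmem : ∀ (m : {m : MaximalSpectrum R // I ≤ m.asIdeal}) (z : A m),
      z ∈ (I ^ n • ⊤ : Submodule R (A m)) ↔ z ∈ (I ^ n).map (algebraMap R (A m)) := fun m z => by
    rw [Ideal.smul_top_eq_map]; rfl
  let K := fun m => ((I ^ n).map (algebraMap R (A m))).comap (algebraMap R (A m))
  have hKm : ∀ m (v : R), v ∈ m.1.asIdeal → ∃ N, v ^ N ∈ K m := by
    intro m v hv
    haveI := m.1.isMaximal
    have hr : algebraMap R (A m) v ∈ ((I ^ n).map (algebraMap R (A m))).radical := by
      rw [Ideal.radical_eq_sInf, Submodule.mem_sInf]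
      rintro Q ⟨hle, hQ⟩
      haveI := hQ
      have hp : ((Ideal.comap (algebraMap R (A m)) Q)).IsPrime := Ideal.comap_isPrime _ _
      have h1 : I ^ n ≤ (Ideal.comap (algebraMap R (A m)) Q) := Ideal.map_le_iff_le_comap.mp hle
      have h2 : (Ideal.comap (algebraMap R (A m)) Q) ≤ m.1.asIdeal := by
        exact (Ideal.comap_mono (IsLocalRing.le_maximalIdeal hQ.ne_top)).trans_eq
          (Localization.AtPrime.under_maximalIdeal (I := m.1.asIdeal))
      rcases Nat.eq_zero_or_pos n with rfl | hn
      · rw [pow_zero, Ideal.one_eq_top, top_le_iff] at h1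
        exact absurd h1 hp.ne_top
      · have h3 := (hI _ hp (fun a ha => hp.mem_of_pow_mem n (h1 (Ideal.pow_mem_pow ha n)))).eq_of_le
          m.1.isMaximal.ne_top h2
        show v ∈ (Ideal.comap (algebraMap R (A m)) Q)
        rw [h3]; exact hv
    obtain ⟨N, hN⟩ := hr
    exact ⟨N, by show algebraMap R (A m) (v ^ N) ∈ (I ^ n).map (algebraMap R (A m)); rw [map_pow]; exact hN⟩
  have hIK : ∀ m, I ^ n ≤ K m := fun m => Ideal.le_comap_map
  have honly : ∀ m (M : Ideal R), M.IsMaximal → K m ≤ M → M = m.1.asIdeal := by
    intro m M hM hle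
    refine (m.1.isMaximal.eq_of_le hM.ne_top fun v hv => ?_).symm
    obtain ⟨N, hN⟩ := hKm m v hv
    exact hM.isPrime.mem_of_pow_mem N (hle hN)
  constructor
  · intro x hx
    by_contra hxn
    let J : Ideal R := (I ^ n).colon {x}
    have hJ : J ≠ ⊤ := fun h => hxn (by
      have h1 : (1 : R) ∈ J := h ▸ Submodule.mem_top
      simpa [J, Submodule.mem_colon_singleton] using h1)
    obtain ⟨M, hM, hle⟩ := J.exists_le_maximal hJ
    have hIJ : I ^ n ≤ J := fun a ha => Submodule.mem_colon_singleton.mpr (Ideal.mul_mem_right x _ ha)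
    rcases Nat.eq_zero_or_pos n with rfl | hn
    · exact hxn (by simp)
    have hIM : I ≤ M := fun a ha => hM.isPrime.mem_of_pow_mem n (hle (hIJ (Ideal.pow_mem_pow ha n)))
    let m : {m : MaximalSpectrum R // I ≤ m.asIdeal} := ⟨⟨M, hM⟩, hIM⟩
    obtain ⟨s, hs, hsx⟩ := (IsLocalization.algebraMap_mem_map_algebraMap_iff m.1.asIdeal.primeCompl (A m) _ x).mp
      ((hmem m _).mp (hx m))
    exact hs (hle (Submodule.mem_colon_singleton.mpr hsx))
  · intro y
    have hloc : ∀ m, ∃ x : R, algebraMap R (A m) x - y m ∈ (I ^ n).map (algebraMap R (A m)) := by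
      intro m
      obtain ⟨a, ⟨s, hs⟩, hy⟩ := IsLocalization.exists_mk'_eq m.1.asIdeal.primeCompl (y m)
      have htop : Ideal.span {s} ⊔ K m = ⊤ := by
        by_contra h
        obtain ⟨M, hM, hle⟩ := Ideal.exists_le_maximal _ h
        have := honly m M hM (le_sup_right.trans hle)
        exact hs (this ▸ hle (Ideal.mem_sup_left (Ideal.mem_span_singleton_self s)))
      have h1 : (1 : R) ∈ Ideal.span {s} ⊔ K m := htop ▸ Submodule.mem_top
      obtain ⟨u, hu, k, hk, huk⟩ := Submodule.mem_sup.mp h1
      obtain ⟨c, rfl⟩ := Ideal.mem_span_singleton'.mp hu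
      refine ⟨a * c, ?_⟩
      have e : algebraMap R (A m) (a * c) - y m = -(y m * algebraMap R (A m) k) := by
        rw [← hy, eq_sub_of_add_eq' huk, map_sub, map_one, map_mul, map_mul,
          ← IsLocalization.mk'_spec (A m) a (⟨s, hs⟩ : m.1.asIdeal.primeCompl)]
        ring
      rw [e]
      exact neg_mem (Ideal.mul_mem_left _ _ hk)
    choose x hx using hloc
    haveI : Finite {m : MaximalSpectrum R // I ≤ m.asIdeal} := inferInstance
    have hcop : Pairwise fun i j => IsCoprime (K i) (K j) := fun i j hij => by
      show IsCoprime (K i) (K j)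
      rw [Ideal.isCoprime_iff_sup_eq]
      by_contra h
      obtain ⟨M, hM, hle⟩ := Ideal.exists_le_maximal _ h
      exact hij (Subtype.ext (MaximalSpectrum.ext ((honly i M hM (le_sup_left.trans hle)).symm.trans
        (honly j M hM (le_sup_right.trans hle)))))
    obtain ⟨z, hz⟩ := Ideal.quotientInfToPiQuotient_surj hcop fun m => Ideal.Quotient.mk (K m) (x m)
    obtain ⟨z, rfl⟩ := Ideal.Quotient.mk_surjective z
    refine ⟨z, fun m => (hmem m _).mpr ?_⟩
    have h2 : z - x m ∈ K m := Ideal.Quotient.eq.mp (congrFun hz m)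
    have h3 : algebraMap R (A m) (z - x m) ∈ (I ^ n).map (algebraMap R (A m)) := h2
    rw [map_sub] at h3
    simpa using add_mem h3 (hx m)

/-- Let R be a semilocal ring (finitely many maximal ideals) and I an ideal of R of co-height zero, i.e.
every prime ideal containing I is maximal. Then the canonical map from the I-adic completion of R to
the product, over the maximal ideals m ⊇ I, of the I-adic completions of the local rings R_m
(equivalently their IR_m-adic completions) is bijective; it is the continuous ring isomorphism of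
the source, stated here as bijectivity of the canonical map of completed modules. -/
theorem result
    (R : Type u) [CommRing R] (hR : Finite (MaximalSpectrum R)) (I : Ideal R)
    (hI : ∀ (p : Ideal R), p.IsPrime → I ≤ p → p.IsMaximal) :
    Function.Bijective (LinearMap.pi (fun m : {m : MaximalSpectrum R // I ≤ m.asIdeal} =>
      AdicCompletion.map I (Algebra.linearMap R (Localization.AtPrime m.1.asIdeal)))) := by
  classical
  let A := fun m : {m : MaximalSpectrum R // I ≤ m.asIdeal} => Localization.AtPrime m.1.asIdeal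
  constructor
  · intro x x' h
    refine AdicCompletion.ext fun n => ?_
    obtain ⟨a, ha⟩ := Submodule.Quotient.mk_surjective _ (x.val n)
    obtain ⟨a', ha'⟩ := Submodule.Quotient.mk_surjective _ (x'.val n)
    rw [← ha, ← ha', Submodule.Quotient.eq, smul_eq_mul, Ideal.mul_top]
    refine (level R hR I hI n).1 _ fun m => ?_
    have h' := congrArg (fun v => AdicCompletion.eval I (A m) n (v m)) h
    change ((AdicCompletion.map I (Algebra.linearMap R (A m))) x).val n =
      ((AdicCompletion.map I (Algebra.linearMap R (A m))) x').val n at h'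
    rw [AdicCompletion.map_val_apply, AdicCompletion.map_val_apply, ← ha, ← ha'] at h'
    rw [map_sub]
    exact (Submodule.Quotient.eq _).mp h'
  · intro y
    have hx : ∀ n, ∃ a : R, ∀ m, Submodule.Quotient.mk (algebraMap R (A m) a) = (y m).val n := fun n => by
      choose b hb using fun m => Submodule.Quotient.mk_surjective _ ((y m).val n)
      obtain ⟨a, ha⟩ := (level R hR I hI n).2 b
      exact ⟨a, fun m => ((Submodule.Quotient.eq _).mpr (ha m)).trans (hb m)⟩
    choose a ha using hx
    refine ⟨⟨fun n => Submodule.Quotient.mk (a n), fun {k n} hkn => ?_⟩, funext fun m => AdicCompletion.ext fun n => ?_⟩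
    · show Submodule.Quotient.mk (a n) = Submodule.Quotient.mk (a k)
      rw [Submodule.Quotient.eq, smul_eq_mul, Ideal.mul_top]
      refine (level R hR I hI k).1 _ fun m => ?_
      rw [map_sub]
      refine (Submodule.Quotient.eq _).mp ?_
      rw [ha k m, ← (y m).2 hkn, ← ha n m]
      rfl
    · show (AdicCompletion.map I (Algebra.linearMap R (A m)) _).val n = _
      exact (AdicCompletion.map_val_apply I _ _).trans (ha n m)

end Groth.Agent.S14727
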