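import Groth.Statements.S14728
import Groth.Agent.Prufer29.Basic

set_option autoImplicit false
universe u
open ValPrufer

namespace Groth.Agent.S14728

/-- Let R be a Prüfer domain, i.e. a domain all of whose local rings at primes are valuation rings. (a)
For a multiplicative subset S, any localisation B = S⁻¹R that is a domain (S not containing 0) is a
Prüfer domain. (b) For a prime ideal I, the quotient R/I is a Prüfer domain. -/
theorem result
    (R : Type u) [CommRing R] [IsDomain R]
    (hR : ∀ (p : Ideal R) [p.IsPrime], ValuationRing (Localization.AtPrime p))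
    (S : Submonoid R) (B : Type u) [CommRing B] [IsDomain B] [Algebra R B] [IsLocalization S B]
    (I : Ideal R) [I.IsPrime] :
    (∀ (q : Ideal B) [q.IsPrime], ValuationRing (Localization.AtPrime q)) ∧
      (∀ (q : Ideal (R ⧸ I)) [q.IsPrime], ValuationRing (Localization.AtPrime q)) := by
  refine ⟨fun q _ => (Agent.Prufer29.valuationRing_atPrime_iff q).mpr fun x y => ?_,
    fun q _ => (Agent.Prufer29.valuationRing_atPrime_iff q).mpr fun x y => ?_⟩
  · obtain ⟨a, u, rfl⟩ := IsLocalization.exists_mk'_eq S x
    obtain ⟨b, v, rfl⟩ := IsLocalization.exists_mk'_eq S y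
    haveI := Ideal.comap_isPrime (algebraMap R B) q
    obtain ⟨c, s, hs, h⟩ := (Agent.Prufer29.valuationRing_atPrime_iff (q.comap (algebraMap R B))).mp (hR _)
      (a * v) (b * u)
    refine ⟨algebraMap R B c, algebraMap R B s, hs, ?_⟩
    have key : ∀ (c s a b : R) (u v : S), s * (a * v) = c * (b * u) →
        algebraMap R B s * IsLocalization.mk' B a u = algebraMap R B c * IsLocalization.mk' B b v := by
      intro c s a b u v h
      rw [IsLocalization.mul_mk'_eq_mk'_of_mul, IsLocalization.mul_mk'_eq_mk'_of_mul,
        IsLocalization.mk'_eq_iff_eq]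
      congr 1
      linear_combination h
    rcases h with h | h
    exacts [.inl (key c s a b u v h), .inr (key c s b a v u h)]
  · obtain ⟨a, rfl⟩ := Ideal.Quotient.mk_surjective x
    obtain ⟨b, rfl⟩ := Ideal.Quotient.mk_surjective y
    haveI := Ideal.comap_isPrime (Ideal.Quotient.mk I) q
    obtain ⟨c, s, hs, h⟩ := (Agent.Prufer29.valuationRing_atPrime_iff (q.comap (Ideal.Quotient.mk I))).mp (hR _) a b
    refine ⟨Ideal.Quotient.mk I c, Ideal.Quotient.mk I s, hs, ?_⟩
    simp only [← map_mul]
    rcases h with h | h
    exacts [.inl (congrArg _ h), .inr (congrArg _ h)]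

end Groth.Agent.S14728
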