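import Groth.Statements.S14730
import Groth.Agent.Prufer29.Semilocal

set_option autoImplicit false
universe u
open ValPrufer

namespace Groth.Agent.S14730

/-- Let R be a semilocal Prüfer domain (an integral domain with finitely many maximal ideals whose
localisations at primes are valuation rings). Then R is the increasing union of subrings that are
semilocal Prüfer domains of finite Krull dimension; equivalently, every finite subset of R is
contained in such a subring. -/
theorem result
    (R : Type u) [CommRing R] [IsDomain R]
    (hR : ∀ (p : Ideal R) [p.IsPrime], ValuationRing (Localization.AtPrime p))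
    (hfin : Finite (MaximalSpectrum R)) (s : Finset R) :
    ∃ R' : Subring R, (↑s : Set R) ⊆ R' ∧
      (∀ (p : Ideal R') [p.IsPrime], ValuationRing (Localization.AtPrime p)) ∧
      Finite (MaximalSpectrum R') ∧ ringKrullDim R' < ⊤ := by
  classical
  let L := FractionRing R
  let s' : Finset L := s.image (algebraMap R L)
  let K : Subfield L := Subfield.closure (↑s' : Set L)
  obtain ⟨hV, hmax, hfrac⟩ := Agent.Prufer29.semilocal_inf (L := L) hR hfin K
  let S := ↥((algebraMap R L).range ⊓ K.toSubring)
  let R' : Subring R := K.toSubring.comap (algebraMap R L)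
  have hinj : Function.Injective (algebraMap R L) := IsFractionRing.injective R L
  let e : R' ≃+* S := RingEquiv.ofBijective
    (((algebraMap R L).comp R'.subtype).codRestrict ((algebraMap R L).range ⊓ K.toSubring)
      fun r => ⟨⟨r.1, rfl⟩, r.2⟩)
    ⟨fun a b h => Subtype.ext (hinj (congrArg Subtype.val h)), fun ⟨x, ⟨r, hr⟩, hxK⟩ => by
      subst hr
      exact ⟨⟨r, hxK⟩, rfl⟩⟩
  refine ⟨R', fun r hr => Subfield.subset_closure (Finset.mem_coe.mpr (Finset.mem_image_of_mem _ hr)),
    fun p _ => Agent.Prufer29.valuationRing_of_equiv e.symm hV p,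
    Agent.Prufer29.finite_maximalSpectrum_of_equiv e.symm hmax, ?_⟩
  rw [ringKrullDim_eq_of_ringEquiv e]
  letI : Algebra S K := (Subring.inclusion (inf_le_right : (algebraMap R L).range ⊓ K.toSubring ≤ K.toSubring)).toAlgebra
  have hSinj : Function.Injective (algebraMap S K) := fun a b h =>
    Subtype.ext (congrArg (Subtype.val : K → L) h)
  let t : Finset K := s'.attach.image fun x => ⟨x.1, Subfield.subset_closure x.2⟩
  have ht : Subfield.closure (↑t : Set K) = ⊤ := by
    refine eq_top_iff.mpr fun x _ => ?_
    have key : K ≤ (Subfield.closure (↑t : Set K)).map K.subtype := by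
      refine Subfield.closure_le.mpr fun y hy => ⟨⟨y, Subfield.subset_closure hy⟩, Subfield.subset_closure ?_, rfl⟩
      exact Finset.mem_coe.mpr (Finset.mem_image.mpr ⟨⟨y, hy⟩, Finset.mem_attach _ _, rfl⟩)
    obtain ⟨y, hy, hyx⟩ := key x.2
    rwa [← show y = x from Subtype.ext hyx]
  have hle : ringKrullDim S ≤ ((t.card + 1 : ℕ) : WithBot ℕ∞) := iSup_le fun c => by
    exact_mod_cast Agent.Prufer29.chain_length_le (S := S) hSinj t ht hV c
  exact lt_of_le_of_lt hle (WithBot.coe_lt_coe.mpr (ENat.natCast_lt_top _))

end Groth.Agent.S14730
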