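import Groth.Statements.S14731
import Groth.Agent.Prufer29.SmoothModel
import Mathlib.RingTheory.Localization.FractionRing
import Mathlib.Algebra.Algebra.Rat

set_option autoImplicit false
universe u
open ValPrufer

namespace Groth.Agent.S14731

/-- In characteristic zero, every field K generated as a field by a finite set is the fraction field of
a subring A of K of finite type and smooth over the integers. -/
theorem result
    (K : Type u) [Field K] [CharZero K] (s : Finset K)
    (hs : Subfield.closure (↑s : Set K) = ⊤) :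
    ∃ A : Subring K, Algebra.FiniteType ℤ A ∧ Algebra.Smooth ℤ A ∧ IsFractionRing A K := by
  classical
  haveI : IsFractionRing (Algebra.adjoin ℤ (↑s : Set K)) K := Agent.Prufer29.isFractionRing_adjoin s hs
  haveI : Algebra.FiniteType ℤ (Algebra.adjoin ℤ (↑s : Set K)) :=
    Algebra.FiniteType.adjoin_of_finite s.finite_toSet
  haveI : Algebra.EssFiniteType (Algebra.adjoin ℤ (↑s : Set K)) K :=
    Algebra.EssFiniteType.of_isLocalization K (nonZeroDivisors _)
  haveI : Algebra.EssFiniteType ℤ K := Algebra.EssFiniteType.comp ℤ (Algebra.adjoin ℤ (↑s : Set K)) K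
  haveI : Algebra.EssFiniteType ℚ K := Algebra.EssFiniteType.of_comp ℤ ℚ K
  haveI : Algebra.FormallySmooth ℤ ℚ := Algebra.FormallySmooth.of_isLocalization (nonZeroDivisors ℤ)
  haveI : Algebra.FormallySmooth ℚ K := Algebra.FormallySmooth.of_perfectField
  haveI : Algebra.FormallySmooth ℤ K := Algebra.FormallySmooth.comp ℤ ℚ K
  obtain ⟨A, hA, hfrac⟩ := Agent.Prufer29.exists_smooth_model (k := ℤ) s hs
  let e : A ≃ₐ[ℤ] A.toSubring :=
    AlgEquiv.ofRingEquiv (f := RingEquiv.refl A) fun n => by simp
  haveI : Algebra.Smooth ℤ A.toSubring := Algebra.Smooth.of_equiv e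
  exact ⟨A.toSubring, inferInstance, inferInstance, hfrac⟩

end Groth.Agent.S14731
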