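import Groth.Statements.S14732
import Groth.Agent.Prufer29.SmoothModel
import Mathlib.RingTheory.Localization.FractionRing
import Mathlib.Algebra.CharP.Algebra
import Mathlib.FieldTheory.Finite.Basic

set_option autoImplicit false
universe u
open ValPrufer

namespace Groth.Agent.S14732

/-- In characteristic p > 0, a field K that is finitely generated over its prime subfield F (a field
with p elements) is the fraction field of an integral scheme smooth over F; concretely, there is an
F-subalgebra A of K, of finite type and smooth over F, whose fraction field is K. -/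
theorem result
    (K : Type u) [Field K] (p : ℕ) [Fact p.Prime] [CharP K p] (s : Finset K)
    (hs : Subfield.closure (↑s : Set K) = ⊤) :
    ∃ A : Subalgebra (⊥ : Subfield K) K, Algebra.FiniteType (⊥ : Subfield K) A ∧
      Algebra.Smooth (⊥ : Subfield K) A ∧ IsFractionRing A K := by
  classical
  let F : Subfield K := ⊥
  haveI : Finite F := by
    have h : (⊥ : Subfield K) ≤ (ZMod.castHom (dvd_refl p) K).fieldRange := bot_le
    haveI : Finite ((ZMod.castHom (dvd_refl p) K).fieldRange : Set K) := by
      rw [RingHom.coe_fieldRange]; exact (Set.finite_range _).to_subtype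
    exact Finite.of_injective _ (Set.inclusion_injective (s := (⊥ : Subfield K).carrier)
      (t := ((ZMod.castHom (dvd_refl p) K).fieldRange : Set K)) h)
  haveI : IsFractionRing (Algebra.adjoin F (↑s : Set K)) K := Agent.Prufer29.isFractionRing_adjoin s hs
  haveI : Algebra.FiniteType F (Algebra.adjoin F (↑s : Set K)) :=
    Algebra.FiniteType.adjoin_of_finite s.finite_toSet
  haveI : Algebra.EssFiniteType (Algebra.adjoin F (↑s : Set K)) K :=
    Algebra.EssFiniteType.of_isLocalization K (nonZeroDivisors _)
  haveI : Algebra.EssFiniteType F K := Algebra.EssFiniteType.comp F (Algebra.adjoin F (↑s : Set K)) K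
  haveI : Algebra.FormallySmooth F K := Algebra.FormallySmooth.of_perfectField
  obtain ⟨A, hA, hfrac⟩ := Agent.Prufer29.exists_smooth_model (k := F) s hs
  exact ⟨A, inferInstance, hA, hfrac⟩

end Groth.Agent.S14732
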