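import Groth.Statements.S14733
import Groth.Agent.Prufer29.Dimension
import Groth.Agent.E4O.FibreComp
import Groth.Agent.E4O.OpenDim

set_option autoImplicit false
open CategoryTheory AlgebraicGeometry
universe u
open ValPrufer

namespace Groth.Agent.S14733

/-- Let R be a Prüfer domain (an integral domain whose localisations at primes are valuation rings), X
an irreducible scheme and f : X ⟶ Spec R a dominant morphism of finite type. If the fibre of f over
a point γ of Spec R is nonempty, then it has the same dimension as the fibre over the generic point. -/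
theorem result
    (R : Type u) [CommRing R] [IsDomain R]
    (hR : ∀ (p : Ideal R) [p.IsPrime], ValuationRing (Localization.AtPrime p))
    (X : Scheme.{u}) [IrreducibleSpace X] (f : X ⟶ Spec (CommRingCat.of R))
    [LocallyOfFiniteType f] [QuasiCompact f] [IsDominant f] (γ : Spec (CommRingCat.of R))
    (h0 : Nonempty ↥(f.fiber γ)) :
    topologicalKrullDim ↥(f.fiber γ) =
      topologicalKrullDim ↥(f.fiber (genericPoint (Spec (CommRingCat.of R)))) := by
  classical
  let ξ := genericPoint X
  have hgen : ∀ x : X, ξ ⤳ x := fun x => (genericPoint_spec X).specializes trivial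
  have hfξ : f ξ = genericPoint (Spec (CommRingCat.of R)) := by
    refine ((genericPoint_spec _).eq ?_).symm
    refine isGenericPoint_def.2 (Set.eq_univ_of_univ_subset ?_)
    rw [← (f.denseRange).closure_range]
    refine closure_minimal ?_ isClosed_closure
    rintro _ ⟨x, rfl⟩
    exact specializes_iff_mem_closure.1 ((hgen x).map f.continuous)
  -- comparison with the generic point
  have key : ∀ x : X, Agent.E4O.fdeg f x ≤ Agent.E4O.fdeg f ξ ∧
      (Agent.E4O.IsFibreMax f x → Agent.E4O.fdeg f ξ ≤ Agent.E4O.fdeg f x) := by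
    intro x
    obtain ⟨_, ⟨V, hV, rfl⟩, hxV, -⟩ :=
      X.isBasis_affineOpens.exists_subset_of_mem_open (Set.mem_univ x) isOpen_univ
    replace hV : IsAffineOpen V := hV
    have := hV.isOpenImmersion_fromSpec
    let φ : CommRingCat.of R ⟶ Γ(X, V) := Spec.preimage (hV.fromSpec ≫ f)
    have hφ : Spec.map φ = hV.fromSpec ≫ f := Spec.map_preimage _
    letI : Algebra R Γ(X, V) := φ.hom.toAlgebra
    have hft : φ.hom.FiniteType := by
      rw [← HasRingHomProperty.Spec_iff (P := @LocallyOfFiniteType), hφ]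
      infer_instance
    haveI : Algebra.FiniteType R Γ(X, V) := hft
    let C : Agent.E4O.Chart f := ⟨R, Γ(X, V), hV.fromSpec, 𝟙 _, by rw [Category.comp_id]; exact hφ.symm⟩
    obtain ⟨q, rfl⟩ : x ∈ Set.range C.pt := hV.range_fromSpec.ge hxV
    obtain ⟨q₀, hq₀⟩ := (hgen (C.pt q)).mem_open C.isOpenEmbedding_pt.isOpen_range ⟨q, rfl⟩
    have hle : q₀.asIdeal ≤ q.asIdeal := (C.specializes_iff _ _).1 (hq₀ ▸ hgen _)
    haveI := q₀.2
    haveI := q.2
    rw [← hq₀, ← C.deg_eq_fdeg, ← C.deg_eq_fdeg]
    refine ⟨Agent.Prufer29.tr_le_of_le (R := R) (S := Γ(X, V)) hR hle, fun hmax =>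
      Agent.Prufer29.tr_le_of_minimal (R := R) (S := Γ(X, V)) hle fun M hM h1 h2 hu => ?_⟩
    have := hmax (C.pt ⟨M, hM⟩) ((C.specializes_iff _ _).2 h2) (by
      rw [C.apply, C.apply]
      exact congrArg C.ptY (PrimeSpectrum.ext hu))
    exact congrArg PrimeSpectrum.asIdeal (C.isOpenEmbedding_pt.injective this)
  have hgf : topologicalKrullDim ↥(f.fiber (genericPoint (Spec (CommRingCat.of R)))) =
      (Agent.E4O.fdeg f ξ : ℕ) := by
    refine le_antisymm ((Agent.E4O.dim_fiber_le_iff f _ _).2 fun x _ => ?_) ?_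
    · exact WithBot.coe_le_coe.mpr (Nat.cast_le.mpr (key x).1)
    · rw [← hfξ]; exact Agent.E4O.le_dim_fiber f ξ
  rw [hgf]
  obtain ⟨z⟩ := h0
  obtain ⟨x, hx, hfx, hmax, -⟩ := Agent.E4O.exists_isFibreMax_specializes f (f.fiberι γ z)
  refine le_antisymm ((Agent.E4O.dim_fiber_le_iff f γ _).2 fun y _ =>
    WithBot.coe_le_coe.mpr (Nat.cast_le.mpr (key y).1)) ?_
  rw [Agent.E4O.apply_fiberι] at hfx
  rw [le_antisymm ((key x).2 hmax) (key x).1, ← hfx]
  exact Agent.E4O.le_dim_fiber f x

end Groth.Agent.S14733
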