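import Groth.Statements.S14737
import Groth.Agent.VP29.Torsor
import Groth.Agent.Ega11.RegLocal
import Mathlib.RingTheory.AdicCompletion.AsTensorProduct
import Mathlib.RingTheory.AdicCompletion.Completeness

set_option autoImplicit false
universe u
open CategoryTheory MonoidalCategory CartesianMonoidalCategory MonObj AlgebraicGeometry
open ValPrufer

namespace Groth.Agent.S14737


theorem quotPowBijective {R : Type u} [CommRing R] [IsNoetherianRing R] (r : R) :
    EtGlue.QuotPowBijective R (AdicCompletion (Ideal.span {r}) R) r := by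
  intro n _
  set I := Ideal.span {r}
  have hpow : Ideal.span {r ^ n} = I ^ n := (Ideal.span_singleton_pow r n).symm
  have hker : ∀ x : AdicCompletion I R,
      x ∈ Ideal.map (algebraMap R (AdicCompletion I R)) (Ideal.span {r ^ n}) ↔
        AdicCompletion.evalₐ I n x = 0 := by
    intro x
    have eq : (I ^ n • ⊤ : Ideal R) = I ^ n := by simp
    rw [hpow]
    trans x ∈ LinearMap.ker (AdicCompletion.eval I R n)
    · rw [← AdicCompletion.pow_smul_top_eq_ker_eval I.fg_of_isNoetherianRing, Ideal.smul_top_eq_map]
      rfl
    · rw [← AdicCompletion.factor_eval_eq_evalₐ I x eq.le, LinearMap.mem_ker]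
      have : Function.Injective (Ideal.Quotient.factor eq.le) := by
        simpa [RingHom.injective_iff_ker_eq_bot, Ideal.Quotient.factor_ker]
          using Ideal.map_mk_eq_bot_of_le eq.symm.le
      exact (map_eq_zero_iff _ this).symm
  constructor
  · rw [injective_iff_map_eq_zero]
    intro a ha
    obtain ⟨a, rfl⟩ := Ideal.Quotient.mk_surjective a
    rw [Ideal.quotientMap_mk, Ideal.Quotient.eq_zero_iff_mem, hker, AlgHom.commutes] at ha
    rw [Ideal.Quotient.eq_zero_iff_mem, hpow, ← Ideal.Quotient.eq_zero_iff_mem]
    exact ha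
  · intro b
    obtain ⟨b, rfl⟩ := Ideal.Quotient.mk_surjective b
    obtain ⟨a, ha⟩ := Ideal.Quotient.mk_surjective (AdicCompletion.evalₐ I n b)
    refine ⟨Ideal.Quotient.mk _ a, ?_⟩
    rw [Ideal.quotientMap_mk, Ideal.Quotient.eq, hker, map_sub, AlgHom.commutes, ← ha]
    exact sub_self _

/-- Let R be a regular local ring with fraction field K, r ∈ R, R̂ the r-adic completion of R, and G a
reductive R-group scheme. Assume the Grothendieck–Serre statement for R and G: every G-torsor for
the fppf topology over Spec R that has a K-point has a section. Then G(R̂[1/r]) = G(R̂) · G(R[1/r]):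
every point g of G over R̂[1/r] is the product, in the group of R̂[1/r]-points, of the restriction
of an R̂-point g₂ and the restriction of an R[1/r]-point g₁; the product is written through the pair
morphism h = (g₂, g₁) into G ×_R G followed by the multiplication of G. (The published statement is
the implication from the Grothendieck–Serre conjecture; only its instance for this R and this G
enters the proof, so that instance is the hypothesis here.) -/
theorem result (R : Type u) [CommRing R] [IsRegularLocalRing R] (r : R)
    (G : Over (Spec (CommRingCat.of R))) [GrpObj G] (hG : Red.IsReductive G)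
    (hGS : ∀ (X : Over (Spec (CommRingCat.of R))) (a : AlgGrp.Action G X),
      NonAbH1.IsTorsorFor Scheme.fppfPrecoverage a →
      NonAbH1.HasSectionOver X (Spec.map (CommRingCat.ofHom (algebraMap R (FractionRing R)))) →
      NonAbH1.HasSectionOver X (𝟙 (Spec (CommRingCat.of R))))
    (g : Spec (CommRingCat.of (Localization.Away
            (algebraMap R (AdicCompletion (Ideal.span {r}) R) r))) ⟶ G.left)
    (hg : g ≫ G.hom = Spec.map (CommRingCat.ofHom (algebraMap R (Localization.Away
            (algebraMap R (AdicCompletion (Ideal.span {r}) R) r))))) :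
    ∃ (g₁ : Spec (CommRingCat.of (Localization.Away r)) ⟶ G.left)
      (g₂ : Spec (CommRingCat.of (AdicCompletion (Ideal.span {r}) R)) ⟶ G.left)
      (h : Spec (CommRingCat.of (Localization.Away
            (algebraMap R (AdicCompletion (Ideal.span {r}) R) r))) ⟶ (G ⊗ G).left),
      g₁ ≫ G.hom = Spec.map (CommRingCat.ofHom (algebraMap R (Localization.Away r))) ∧
      g₂ ≫ G.hom = Spec.map (CommRingCat.ofHom (algebraMap R (AdicCompletion (Ideal.span {r}) R))) ∧
      h ≫ (fst G G).left = Spec.map (CommRingCat.ofHom (algebraMap (AdicCompletion (Ideal.span {r}) R)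
                (Localization.Away (algebraMap R (AdicCompletion (Ideal.span {r}) R) r)))) ≫ g₂ ∧
      h ≫ (snd G G).left = Spec.map (CommRingCat.ofHom (Localization.awayMap
                (algebraMap R (AdicCompletion (Ideal.span {r}) R)) r)) ≫ g₁ ∧
      g = h ≫ (μ[G]).left := by
  rcases eq_or_ne r 0 with rfl | hr
  · haveI h₁ : IsEmpty (Spec (CommRingCat.of (Localization.Away (0 : R)))) := by
      haveI := IsLocalization.subsingleton (M := Submonoid.powers (0 : R)) (S := Localization.Away (0 : R))
        (Submonoid.mem_powers 0)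
      exact inferInstanceAs (IsEmpty (PrimeSpectrum _))
    haveI h₁₂ : IsEmpty (Spec (CommRingCat.of (Localization.Away
        (algebraMap R (AdicCompletion (Ideal.span {(0 : R)}) R) 0)))) := by
      haveI := IsLocalization.subsingleton
        (M := Submonoid.powers (algebraMap R (AdicCompletion (Ideal.span {(0 : R)}) R) 0))
        (S := Localization.Away (algebraMap R (AdicCompletion (Ideal.span {(0 : R)}) R) 0))
        (by rw [map_zero]; exact Submonoid.mem_powers 0)
      exact inferInstanceAs (IsEmpty (PrimeSpectrum _))
    obtain ⟨g₂⟩ : Nonempty (VP29.sp R (AdicCompletion (Ideal.span {(0 : R)}) R) ⟶ G) := ⟨1⟩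
    refine ⟨isInitialOfIsEmpty.to _, g₂.left, isInitialOfIsEmpty.to _, isInitialOfIsEmpty.hom_ext _ _,
      Over.w g₂, isInitialOfIsEmpty.hom_ext _ _, isInitialOfIsEmpty.hom_ext _ _,
      isInitialOfIsEmpty.hom_ext _ _⟩
  haveI : IsDomain R := Ega11.RegLocal.isDomain R
  obtain ⟨hGaff, hGsm, -⟩ := hG
  haveI := hGaff
  haveI := hGsm
  haveI : IsAffine G.left := isAffine_of_isAffineHom G.hom
  letI : Algebra (Localization.Away r)
      (Localization.Away (algebraMap R (AdicCompletion (Ideal.span {r}) R) r)) :=
    (Localization.awayMap (algebraMap R (AdicCompletion (Ideal.span {r}) R)) r).toAlgebra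
  haveI : IsScalarTower R (Localization.Away r)
      (Localization.Away (algebraMap R (AdicCompletion (Ideal.span {r}) R) r)) :=
    IsScalarTower.of_algebraMap_eq fun x => by
      rw [IsScalarTower.algebraMap_apply R (AdicCompletion (Ideal.span {r}) R)
        (Localization.Away (algebraMap R (AdicCompletion (Ideal.span {r}) R) r))]
      simp [RingHom.algebraMap_toAlgebra, Localization.awayMap, IsLocalization.Away.map, IsLocalization.map_eq]
  have hS : VP29.Setting R (Localization.Away r) (AdicCompletion (Ideal.span {r}) R)
      (Localization.Away (algebraMap R (AdicCompletion (Ideal.span {r}) R) r)) r :=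
    ⟨inferInstance, inferInstance, inferInstance, quotPowBijective r, IsRegular.of_ne_zero hr⟩
  have hK : IsUnit (algebraMap R (FractionRing R) r) :=
    IsUnit.mk0 _ (IsFractionRing.to_map_ne_zero_of_mem_nonZeroDivisors (mem_nonZeroDivisors_of_ne_zero hr))
  obtain ⟨g₁, g₂, hfac⟩ := VP29.main hS G hK hGS (Over.homMk g hg)
  let i' := VP29.res R (AdicCompletion (Ideal.span {r}) R)
    (Localization.Away (algebraMap R (AdicCompletion (Ideal.span {r}) R) r))
  let i₁ := VP29.res R (Localization.Away r)
    (Localization.Away (algebraMap R (AdicCompletion (Ideal.span {r}) R) r))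
  have e₂ : lift (i' ≫ g₂) (i₁ ≫ g₁) ≫ fst G G = i' ≫ g₂ := lift_fst _ _
  have e₁ : lift (i' ≫ g₂) (i₁ ≫ g₁) ≫ snd G G = i₁ ≫ g₁ := lift_snd _ _
  exact ⟨g₁.left, g₂.left, (lift (i' ≫ g₂) (i₁ ≫ g₁)).left, Over.w g₁, Over.w g₂,
    congrArg Over.Hom.left e₂, congrArg Over.Hom.left e₁, congrArg Over.Hom.left hfac⟩

end Groth.Agent.S14737
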