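import Groth.Statements.S14738
import Groth.Agent.Prufer29.Semilocal
import Mathlib.RingTheory.Localization.Away.Basic

set_option autoImplicit false
universe u
open ValPrufer

namespace Groth.Agent.S14738

/-- Let R be a semilocal Prüfer domain (an integral domain with finitely many maximal ideals whose
localisations at primes are valuation rings) of finite Krull dimension, and m a maximal ideal of R.
Then there is a ∈ R with V(a) = {m}, i.e. m is the only prime ideal containing a, and there is b ∉ m
such that R[1/b] is the localisation R_m (every element outside m becomes invertible after inverting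
b); consequently the spectra of the local rings R_m form a Zariski open covering of Spec R. (The
published remark assumes positive Krull dimension to construct a; for R a field the assertions hold
with a = 0 and b = 1. It also takes b to be the product of the elements a_n chosen in the same way
for the other maximal ideals n; that choice fails as soon as a non-maximal prime lies in another
maximal ideal but not in m, e.g. for the intersection of two independent rank-two valuation rings of
a field, so this row asserts only that some such b exists.) -/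
theorem result
    (R : Type u) [CommRing R] [IsDomain R]
    (hR : ∀ (p : Ideal R) [p.IsPrime], ValuationRing (Localization.AtPrime p))
    (hfin : Finite (MaximalSpectrum R)) (hdim : ringKrullDim R < ⊤)
    (m : Ideal R) [m.IsMaximal] :
    (∃ a : R, ∀ (p : Ideal R), p.IsPrime → (a ∈ p ↔ p = m)) ∧
      ∃ b : R, b ∉ m ∧ IsLocalization.AtPrime (Localization.Away b) m := by
  classical
  haveI := Agent.Prufer29.finite_primeSpectrum hR hfin hdim
  cases nonempty_fintype (PrimeSpectrum R)
  constructor
  · let T : Finset (PrimeSpectrum R) := Finset.univ.filter fun p => p.asIdeal ≠ m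
    have h : ¬ (m : Set R) ⊆ ⋃ p ∈ (T : Set (PrimeSpectrum R)), (p.asIdeal : Set R) := by
      rw [Ideal.subset_union_prime ⟨m, inferInstance⟩ ⟨m, inferInstance⟩ fun p _ _ _ => p.isPrime]
      rintro ⟨p, hp, hle⟩
      exact (Finset.mem_filter.mp hp).2
        ((Ideal.IsMaximal.eq_of_le ‹_› p.isPrime.ne_top hle).symm)
    obtain ⟨a, ham, ha⟩ := Set.not_subset.mp h
    refine ⟨a, fun p hp => ⟨fun hap => by_contra fun hne => ha ?_, fun he => he ▸ ham⟩⟩
    exact Set.mem_biUnion (Finset.mem_coe.mpr (Finset.mem_filter.mpr ⟨Finset.mem_univ (⟨p, hp⟩ : PrimeSpectrum R), hne⟩)) hap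
  · let T : Finset (PrimeSpectrum R) := Finset.univ.filter fun p => ¬ p.asIdeal ≤ m
    have h : ∀ p : PrimeSpectrum R, ∃ x, x ∉ m ∧ (p ∈ T → x ∈ p.asIdeal) := fun p => by
      by_cases hp : p ∈ T
      · obtain ⟨x, hxp, hxm⟩ := SetLike.not_le_iff_exists.mp (Finset.mem_filter.mp hp).2
        exact ⟨x, hxm, fun _ => hxp⟩
      · exact ⟨1, (Ideal.ne_top_iff_one m).mp Ideal.IsPrime.ne_top', fun h => absurd h hp⟩
    choose x hxm hxp using h
    let b := ∏ p ∈ T, x p
    have hb : b ∉ m := fun h => by
      obtain ⟨p, -, hp⟩ := (Ideal.IsPrime.prod_mem_iff (p := m)).mp h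
      exact hxm p hp
    refine ⟨b, hb, ?_⟩
    refine IsLocalization.of_le (Submonoid.powers b) m.primeCompl ?_ ?_
    · rintro _ ⟨n, rfl⟩
      exact fun h => hb (Ideal.IsPrime.mem_of_pow_mem inferInstance _ h)
    · rintro s hs
      by_contra hu
      obtain ⟨Q, hQ, hsQ⟩ := exists_max_ideal_of_mem_nonunits hu
      haveI := hQ.isPrime
      let p : PrimeSpectrum R := ⟨Q.comap (algebraMap R (Localization.Away b)), Ideal.comap_isPrime _ _⟩
      have hbp : b ∉ p.asIdeal := fun h => hQ.ne_top
        (Ideal.eq_top_of_isUnit_mem _ h (IsLocalization.map_units _ (⟨b, Submonoid.mem_powers b⟩ : Submonoid.powers b)))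
      have hpm : p.asIdeal ≤ m := by
        by_contra hpm
        have hpT : p ∈ T := Finset.mem_filter.mpr ⟨Finset.mem_univ _, hpm⟩
        exact hbp ((Ideal.IsPrime.prod_mem_iff (p := p.asIdeal)).mpr ⟨p, hpT, hxp p hpT⟩)
      exact hs (hpm hsQ)

end Groth.Agent.S14738
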