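import Groth.Statements.S14740
import Groth.Agent.ValVan29.Vanish

set_option autoImplicit false
universe u
open CategoryTheory AlgebraicGeometry MonoidalCategory
open ValPrufer

namespace Groth.Agent.S14740

/-- Let R be a semilocal Prüfer domain (an integral domain with finitely many maximal ideals whose
localisations at primes are valuation rings) of finite Krull dimension, m ≥ 1, X a closed subscheme
of projective (m-1)-space over R which is flat over R, O_X(1) the pullback of O(1), and φ : F ⟶ G an
epimorphism of finitely presented (equivalently, coherent) O_X-modules. Then there is N such that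
for every n ≥ N the map induced by φ on global sections of the twists, Γ(X, F ⊗ O_X(1)^{⊗ n}) → Γ(X,
G ⊗ O_X(1)^{⊗ n}), is surjective. -/
theorem result
    (R : Type u) [CommRing R] [IsDomain R]
    (hR : ∀ (p : Ideal R) [p.IsPrime], ValuationRing (Localization.AtPrime p))
    (hfin : Finite (MaximalSpectrum R)) (hdim : ringKrullDim R < ⊤)
    (m : ℕ) (hm : 1 ≤ m) (X : Scheme.{u}) (ι : X ⟶ CohB1.ProjSpace (m - 1) R) [IsClosedImmersion ι]
    [Flat (ι ≫ CohB1.ProjSpace.toSpec (m - 1) R)]
    (F G : X.Modules) (hF : CohB1.IsFP F) (hG : CohB1.IsFP G) (φ : F ⟶ G) [Epi φ] :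
    ∃ N : ℕ, ∀ n : ℕ, N ≤ n →
      Function.Surjective (((CohB1.sheafifyMod X).map (MonoidalCategoryStruct.whiskerRight (C := CohB1.PMod X)
        φ.val (CohB1.toPMod (CohB1.tensorPow ((Scheme.Modules.pullback ι).obj (Twist.twistProjSpace (m - 1) R 1)) n)))).val.app (Opposite.op ⊤)).hom := by
  let L := (Scheme.Modules.pullback ι).obj (Twist.twistProjSpace (m - 1) R 1)
  have hK : CohB1.IsFP (Limits.kernel φ) :=
    ValVan29.isFP_kernel (ValVan29.subCover ι hR) hF hG φ
  obtain ⟨N, hN⟩ := ValVan29.exists_vanishing_sub hR ι (Limits.kernel φ) hK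
  refine ⟨N, fun n hn => ?_⟩
  have hL : PicF.IsInvertible L := Amp73.isInvertible_pullback ι
    (EGA73.isInvertible_twist (Amp73.span_degree_one _ (fun f hf => by
      classical
      obtain ⟨i, -, rfl⟩ := Finset.mem_image.1 hf
      exact MvPolynomial.isHomogeneous_X R i) (ValVan29.generated (R := R) (N := m - 1))) 1)
  let P := CohB1.tensorPow L n
  let S : ShortComplex X.Modules := ShortComplex.mk (Limits.kernel.ι φ) φ (Limits.kernel.condition φ)
  have hS : S.ShortExact :=
    { exact := ShortComplex.exact_of_f_is_kernel _ (Limits.kernelIsKernel φ)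
      mono_f := (inferInstance : Mono (Limits.kernel.ι φ))
      epi_g := (inferInstance : Epi φ) }
  have hT := Crv77.shortExact_tR_of_locally_flat (O := X.sheaf) P (Crv77.locally_flat_of_rank_one
    (Mero90.isFinLocFreeOfRank_of_isInvertible (EGA73.isInvertible_tensorPow hL n))) hS
  have hT' := Crv77.abComplex_shortExact (X := X) hT
  have h0 : Subsingleton (Coh.HH X (CohB1.tensorMod (Limits.kernel φ) P) 1) := hN n hn 1 le_rfl
  have h1 := (Coh69.hhEquiv (CohB1.tensorMod (Limits.kernel φ) P) 1).symm.toEquiv.subsingleton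
  intro s
  exact @Coh69.surjective_of_subsingleton_H1 _ _ _ _ hT' (⊤ : X.Opens) h1 s

end Groth.Agent.S14740
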