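import Groth.Statements.S14741
import Groth.Agent.ValVan29.Vanish

set_option autoImplicit false
universe u
open CategoryTheory AlgebraicGeometry
open ValPrufer

namespace Groth.Agent.S14741

/-- Let R be a semilocal Prüfer domain (an integral domain with finitely many maximal ideals whose
localisations at primes are valuation rings) of finite Krull dimension, m ≥ 1, X a closed subscheme
of projective (m-1)-space over R which is flat over R, and F a finitely presented (equivalently,
coherent) O_X-module. Then H^q(X, F) = 0 for all q > m. -/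
theorem result
    (R : Type u) [CommRing R] [IsDomain R]
    (hR : ∀ (p : Ideal R) [p.IsPrime], ValuationRing (Localization.AtPrime p))
    (hfin : Finite (MaximalSpectrum R)) (hdim : ringKrullDim R < ⊤)
    (m : ℕ) (hm : 1 ≤ m) (X : Scheme.{u}) (ι : X ⟶ CohB1.ProjSpace (m - 1) R) [IsClosedImmersion ι]
    [Flat (ι ≫ CohB1.ProjSpace.toSpec (m - 1) R)]
    (F : X.Modules) (hF : CohB1.IsFP F) (q : ℕ) (hq : m < q) :
    Subsingleton (Coh.HH X F q) := by
  haveI := Serre71.isProper_projSpace (m - 1) R
  exact ValVan29.subsingleton_hh_of_le (N := m - 1) (ι ≫ CohB1.ProjSpace.toSpec (m - 1) R)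
    (fun j => ι ⁻¹ᵁ Pn71.stdU (m - 1) R j) (fun j => (ValVan29.isAffineOpen_stdU j).preimage ι)
    (by rw [← Scheme.Hom.preimage_iSup, Pn71.iSup_stdU]; rfl) F (ValVan29.isCoh_of_isFP hF).1 q (by omega)

end Groth.Agent.S14741
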