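import Groth.Statements.S14743
import Groth.Agent.AlgGrp79.Act

set_option autoImplicit false
universe u
open CategoryTheory MonoidalCategory CartesianMonoidalCategory MonObj GrpObj AlgebraicGeometry
open AlgGrp

namespace Groth.Agent.S14743
open Groth.Agent.AlgGrp79 CategoryTheory.Limits

/-- Over an algebraically closed field k let L, G, B be commutative k-group schemes, i : L → G and π : G
→ B homomorphisms with i the kernel of π, and suppose that every k-morphism B × B → L is constant
(factors through a k-point of L). If π admits a section which is a morphism of k-schemes, then it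
admits a section which is a homomorphism, so the extension splits. (The published statement is for
algebraic groups, that is, of finite type over k; finiteness plays no role and is not assumed here.) -/
theorem result (k : Type u) [Field k] [IsAlgClosed k]
    (L G B : Over (Spec (CommRingCat.of k))) [GrpObj L] [GrpObj G] [GrpObj B]
    [IsCommMonObj L] [IsCommMonObj G] [IsCommMonObj B]
    (i : L ⟶ G) [IsMonHom i] (π : G ⟶ B) [IsMonHom π] (hker : AlgGrp.IsKernel i π)
    (hconst : ∀ f : B ⊗ B ⟶ L, ∃ l : 𝟙_ (Over (Spec (CommRingCat.of k))) ⟶ L, f = toUnit (B ⊗ B) ≫ l)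
    (s : B ⟶ G) (hs : s ≫ π = 𝟙 B) :
    ∃ s' : B ⟶ G, IsMonHom s' ∧ s' ≫ π = 𝟙 B := by
  let d : B ⊗ B ⟶ G := ((fst B B * snd B B) ≫ s) * ((fst B B ≫ s) * (snd B B ≫ s))⁻¹
  have hd : d ≫ π = toUnit _ ≫ η[B] := by
    simp only [d, mul_comp', GrpObj.inv_comp, Category.assoc, hs, Category.comp_id, mul_inv_cancel, one_def']
  obtain ⟨l, hl⟩ := hconst (hker.lift d (toUnit _) hd)
  have hdl : d = toUnit _ ≫ (l ≫ i) := by
    rw [← hker.lift_fst d (toUnit _) hd, hl, Category.assoc]
  refine ⟨s * (toUnit B ≫ (l ≫ i)), isMonHom_of_forall _ fun T x y => ?_, ?_⟩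
  · have key := congrArg (fun q => lift x y ≫ q) hdl
    simp only [d, MonObj.comp_mul, GrpObj.comp_inv, lift_fst_assoc, lift_snd_assoc, lift_fst, lift_snd] at key
    rw [← Category.assoc (lift x y), ← Category.assoc (lift x y), MonObj.comp_mul] at key
    simp only [lift_fst, lift_snd, comp_toUnit_assoc, comp_toUnit] at key
    simp only [MonObj.comp_mul, comp_toUnit_assoc]
    rw [mul_inv_eq_iff_eq_mul] at key
    rw [key]
    ac_rfl
  · rw [mul_comp', hs, Category.assoc, Category.assoc, hker.w]
    have : l ≫ toUnit L = 𝟙 _ := toUnit_unique _ _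
    rw [reassoc_of% this, ← one_def', _root_.mul_one]
end Groth.Agent.S14743
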