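import Groth.Statements.S14745
import Mathlib

set_option autoImplicit false
universe u v w
open CAlg

namespace Groth.Agent.S14745

/-- Let k be a field of characteristic zero, A a commutative k-algebra on which a finite group Γ acts by
k-algebra automorphisms, and I the ideal of A generated by a set of Γ-invariant elements. Then the
Γ-invariants of A map onto the Γ-invariants of A/I: every element of A whose class modulo I is
Γ-invariant is congruent modulo I to a Γ-invariant element. (The published statement takes A
finitely generated and finitely many invariant generators; neither finiteness is used.) -/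
theorem result (k : Type u) [Field k] [CharZero k]
    (A : Type v) [CommRing A] [Algebra k A] (Γ : Type w) [Group Γ] [Finite Γ]
    [MulSemiringAction Γ A] [SMulCommClass Γ k A]
    (S : Set A) (hS : ∀ f ∈ S, ∀ γ : Γ, γ • f = f) (a : A) (ha : ∀ γ : Γ, γ • a - a ∈ Ideal.span S) :
    ∃ b : A, (∀ γ : Γ, γ • b = b) ∧ a - b ∈ Ideal.span S := by
  classical
  have := Fintype.ofFinite Γ
  have hc : (Fintype.card Γ : k) ≠ 0 := Nat.cast_ne_zero.mpr Fintype.card_ne_zero
  refine ⟨(Fintype.card Γ : k)⁻¹ • ∑ γ : Γ, γ • a, fun g => ?_, ?_⟩
  · rw [smul_comm, Finset.smul_sum]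
    congr 1
    exact Fintype.sum_equiv (Equiv.mulLeft g) _ _ (fun x => smul_smul g x a)
  · have : a - (Fintype.card Γ : k)⁻¹ • ∑ γ : Γ, γ • a
        = (Fintype.card Γ : k)⁻¹ • ∑ γ : Γ, (a - γ • a) := by
      rw [Finset.sum_sub_distrib, smul_sub, Finset.sum_const, Finset.card_univ,
        ← Nat.cast_smul_eq_nsmul k, inv_smul_smul₀ hc]
    rw [this]
    refine Submodule.smul_of_tower_mem (M := A) _ _ (Submodule.sum_mem _ fun γ _ => ?_)
    rw [← neg_sub]
    exact neg_mem (ha γ)

end Groth.Agent.S14745
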