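import Groth.Statements.S14754
import Groth.Agent.AlgGrp79.Chart
import Groth.Agent.AlgGrp79.Batch
import Groth.Agent.AlgGrp79.KernelPts
import Groth.Agent.AlgGrp79.DSHomField

set_option autoImplicit false
universe u
open CategoryTheory CategoryTheory.Limits MonoidalCategory CartesianMonoidalCategory MonObj GrpObj AlgebraicGeometry
open AlgGrp

namespace Groth.Agent.S14754
open Groth.Agent.AlgGrp79 CategoryTheory.Limits
open scoped commutatorElement

/-- Over an algebraically closed field k, every exact sequence of split tori splits: if K, G, Q are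
split tori over k, i : K → G a closed subgroup scheme which is the kernel of a flat surjective
homomorphism π : G → Q, then π has a section which is a homomorphism. -/
theorem result (k : Type u) [Field k] [IsAlgClosed k]
    (K G Q : Over (Spec (CommRingCat.of k))) [GrpObj K] [GrpObj G] [GrpObj Q] (nK nG nQ : ℕ)
    (hK : Red.IsSplitTorusWith (Fin nK → ℤ) K) (hG : Red.IsSplitTorusWith (Fin nG → ℤ) G)
    (hQ : Red.IsSplitTorusWith (Fin nQ → ℤ) Q)
    (i : K ⟶ G) [IsMonHom i] [IsClosedImmersion i.left]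
    (π : G ⟶ Q) [IsMonHom π] [Flat π.left] [Surjective π.left] (hker : AlgGrp.IsKernel i π) :
    ∃ s : Q ⟶ G, IsMonHom s ∧ s ≫ π = 𝟙 Q := by
  obtain ⟨eK⟩ := hK
  obtain ⟨eG⟩ := hG
  obtain ⟨eQ⟩ := hQ
  let eKh := eK.inv.hom.hom
  let eGh := eG.hom.hom.hom
  let eGi := eG.inv.hom.hom
  let eQh := eQ.hom.hom.hom
  let eQi := eQ.inv.hom.hom
  have hG1 : eGh ≫ eGi = 𝟙 _ := congrArg (fun f => f.hom.hom) eG.hom_inv_id
  have hG2 : eGi ≫ eGh = 𝟙 _ := congrArg (fun f => f.hom.hom) eG.inv_hom_id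
  have hQ1 : eQh ≫ eQi = 𝟙 _ := congrArg (fun f => f.hom.hom) eQ.hom_inv_id
  have hQ2 : eQi ≫ eQh = 𝟙 _ := congrArg (fun f => f.hom.hom) eQ.inv_hom_id
  have : IsMonHom eKh := eK.inv.hom.isMonHom_hom
  have : IsMonHom eGh := eG.hom.hom.isMonHom_hom
  have : IsMonHom eGi := eG.inv.hom.isMonHom_hom
  have : IsMonHom eQh := eQ.hom.hom.isMonHom_hom
  have : IsMonHom eQi := eQ.inv.hom.isMonHom_hom
  obtain ⟨φ, hφ⟩ := exists_eq_DSmap (eGi ≫ π ≫ eQh)
  obtain ⟨ψ, hψ⟩ := exists_eq_DSmap (eKh ≫ i ≫ eGh)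
  have hπ : π = eGh ≫ Red.DSmap _ φ ≫ eQi := by
    rw [← hφ]
    simp only [Category.assoc]
    rw [hQ1, Category.comp_id, reassoc_of% hG1]
  -- the kernel of the restriction to `K` is the image of the pullback
  have hψφ : ∀ a, ψ (φ a) = 0 := by
    intro a
    obtain ⟨t, ht⟩ := exists_taut (k := k) (Fin nK → ℤ)
    apply ht
    rw [RedPts82.dsFn_zero, ← RedPts82.dsFn_DSmap, ← RedPts82.dsFn_DSmap, ← hψ, ← hφ]
    have h0 : i ≫ π = 1 := by simpa using isKernel_comp_one hker (𝟙 K)
    simp only [Category.assoc, reassoc_of% hG1]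
    rw [reassoc_of% h0]
    simp only [MonObj.one_comp, MonObj.comp_one]
    exact RedPts82.dsFn_one a
  have hrange : ∀ m, ψ m = 0 → m ∈ φ.range := by
    intro m hm
    obtain ⟨t, ht⟩ := exists_taut (k := k) ((Fin nG → ℤ) ⧸ φ.range)
    let x := t ≫ Red.DSmap (Spec (CommRingCat.of k)) (QuotientAddGroup.mk' φ.range) ≫ eGi
    have h0 : x ≫ π = 1 := by
      have : t ≫ Red.DSmap (Spec (CommRingCat.of k)) (QuotientAddGroup.mk' φ.range) ≫ Red.DSmap _ φ = 1 := by
        apply RedPts82.dsFn_injective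
        intro a
        rw [← Category.assoc, RedPts82.dsFn_DSmap, RedPts82.dsFn_DSmap, RedPts82.dsFn_one]
        have : (QuotientAddGroup.mk' φ.range) (φ a) = 0 := (QuotientAddGroup.eq_zero_iff _).2 ⟨a, rfl⟩
        rw [this, RedPts82.dsFn_zero]
      rw [hπ]
      simp only [x, Category.assoc, reassoc_of% hG2, reassoc_of% this, MonObj.one_comp]
    obtain ⟨y, hy⟩ := exists_ker_of_comp_one hker x h0
    have hfac : t ≫ Red.DSmap (Spec (CommRingCat.of k)) (QuotientAddGroup.mk' φ.range) =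
        (y ≫ eK.hom.hom.hom) ≫ Red.DSmap _ ψ := by
      have hK1 : eK.hom.hom.hom ≫ eKh = 𝟙 _ := congrArg (fun f => f.hom.hom) eK.hom_inv_id
      rw [← hψ]
      simp only [Category.assoc, reassoc_of% hK1, reassoc_of% hy, x, hG2, Category.comp_id]
    have h1 := congrArg (fun z => RedPts82.dsFn z m) hfac
    simp only [RedPts82.dsFn_DSmap, hm, RedPts82.dsFn_zero] at h1
    rw [← RedPts82.dsFn_zero t] at h1
    exact (QuotientAddGroup.eq_zero_iff m).1 (ht h1)
  have hQc : QuasiCompact π.left := by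
    have := RedPts82.isAffineHom_DS (Spec (CommRingCat.of k)) (Fin nG → ℤ)
    have := RedPts82.isAffineHom_DS (Spec (CommRingCat.of k)) (Fin nQ → ℤ)
    have : IsIso eGh.left := inferInstanceAs (IsIso ((Over.forget _).map ((Grp.forget _).mapIso eG).hom))
    have : IsIso eQh.left := inferInstanceAs (IsIso ((Over.forget _).map ((Grp.forget _).mapIso eQ).hom))
    have : IsAffineHom G.hom := by rw [← Over.w eGh]; infer_instance
    have : IsAffineHom Q.hom := by rw [← Over.w eQh]; infer_instance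
    have : IsAffineHom (π.left ≫ Q.hom) := by rw [Over.w]; infer_instance
    have : QuasiCompact (π.left ≫ Q.hom) := inferInstance
    exact QuasiCompact.of_comp π.left Q.hom
  have hφinj : Function.Injective φ := by
    rw [injective_iff_map_eq_zero]
    intro a ha
    obtain ⟨t, ht⟩ := exists_taut (k := k) (Fin nQ → ℤ)
    apply ht
    have h1 : π ≫ eQh ≫ Red.chi _ a = π ≫ 1 := by
      rw [hπ]
      simp only [Category.assoc, reassoc_of% hQ2, MonObj.comp_one]
      apply RedPts82.gmFn_injective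
      rw [← Category.assoc, RedPts82.gmFn_chi, RedPts82.dsFn_DSmap, ha, RedPts82.dsFn_zero, RedPts82.gmFn_one]
    have : Epi π.left := Flat.epi_of_flat_of_surjective π.left
    have : Epi π := Over.epi_of_epi_left π
    have h2 := (cancel_epi π).1 h1
    have h3 : Red.chi (Spec (CommRingCat.of k)) a = 1 := by
      rw [← Category.id_comp (Red.chi _ a), ← hQ2, Category.assoc, h2, MonObj.comp_one]
    rw [RedPts82.dsFn_zero, ← RedPts82.gmFn_chi, h3, MonObj.comp_one, RedPts82.gmFn_one]
  -- split the character groups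
  let ψl := ψ.toIntLinearMap
  obtain ⟨σ, hσ⟩ := Module.projective_lifting_property ψl.rangeRestrict LinearMap.id ψl.surjective_rangeRestrict
  have hmem : ∀ m, m - σ (ψl.rangeRestrict m) ∈ φ.range := fun m => hrange _ (by
    have : ψ (σ (ψl.rangeRestrict m)) = ψ m := congrArg Subtype.val (LinearMap.congr_fun hσ (ψl.rangeRestrict m))
    rw [map_sub, this, sub_self])
  choose r hr using hmem
  let rh : (Fin nG → ℤ) →+ (Fin nQ → ℤ) := AddMonoidHom.mk' r fun a b => hφinj (by
    rw [map_add, hr, hr, hr, map_add, map_add]; abel)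
  have hrφ : ∀ a, rh (φ a) = a := fun a => hφinj (by
    show φ (r (φ a)) = φ a
    have : ψl.rangeRestrict (φ a) = 0 := Subtype.ext (hψφ a)
    rw [hr, this, map_zero, sub_zero])
  refine ⟨eQh ≫ Red.DSmap _ rh ≫ eGi, inferInstance, ?_⟩
  have hcomp : Red.DSmap (Spec (CommRingCat.of k)) rh ≫ Red.DSmap _ φ = 𝟙 _ := by
    rw [← Category.id_comp (Red.DSmap _ rh), Category.assoc]
    apply RedPts82.dsFn_injective
    intro a
    rw [← Category.assoc, RedPts82.dsFn_DSmap, RedPts82.dsFn_DSmap, hrφ]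
  rw [hπ]
  simp only [Category.assoc, reassoc_of% hG2, reassoc_of% hcomp, hQ1]
end Groth.Agent.S14754
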