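import Groth.Statements.S1476
import Groth.Agent.FlatMor67.FibreBC
import Groth.Agent.S2674

set_option autoImplicit false
universe u
open FlatMor

namespace Groth.Agent.S1476

open AlgebraicGeometry CategoryTheory Limits in
/-- Let Y' → Y be flat, locally of finite presentation and surjective and f' the base change of f : X →
Y. Then f has locally Noetherian fibres and is regular (affine-locally: regular ring maps) if and
only if the same holds for f'. -/
theorem result {X Y X' Y' : Scheme.{u}} (f : X ⟶ Y) (f' : X' ⟶ Y') (g' : X' ⟶ X) (g : Y' ⟶ Y) [Flat g] [LocallyOfFinitePresentation g] [Surjective g]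
    (hc : IsPullback g' f' f g) :
    ((∀ y : Y, IsLocallyNoetherian (f.fiber y)) ∧ (∀ (U : X.Opens) (V : Y.Opens) (hU : IsAffineOpen U) (hV : IsAffineOpen V) (hUV : U ≤ f ⁻¹ᵁ V),
        letI := (f.appLE V U hUV).hom.toAlgebra
        CAlg.IsRegularHom Γ(Y, V) Γ(X, U))) ↔
      ((∀ y' : Y', IsLocallyNoetherian (f'.fiber y')) ∧ (∀ (U : X'.Opens) (V : Y'.Opens) (hU : IsAffineOpen U) (hV : IsAffineOpen V) (hUV : U ≤ f' ⁻¹ᵁ V),
        letI := (f'.appLE V U hUV).hom.toAlgebra
        CAlg.IsRegularHom Γ(Y', V) Γ(X', U))) := by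
  have key : ((∀ y : Y, IsLocallyNoetherian (f.fiber y)) ↔ ∀ y' : Y', IsLocallyNoetherian (f'.fiber y')) :=
    S1405.result f f' g' g hc
  constructor
  · rintro ⟨hN, h⟩
    obtain ⟨hfl, hfib⟩ := (FlatMor67.FibreRing.regular_charts_iff f hN).1 h
    exact ⟨key.1 hN, (FlatMor67.FibreRing.regular_charts_iff f' (key.1 hN)).2
      ⟨(FlatMor67.FibreRing.flat_baseChange_iff hc).1 hfl,
        (FlatMor67.FibreRing.onFibres_baseChange_iff FlatMor67.FibreRing.regQ_isLocalProp
          (fun k S _ _ _ _ K _ _ _ => S2674.result k S K) hc hN (key.1 hN)).1 hfib⟩⟩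
  · rintro ⟨hN', h⟩
    obtain ⟨hfl, hfib⟩ := (FlatMor67.FibreRing.regular_charts_iff f' hN').1 h
    exact ⟨key.2 hN', (FlatMor67.FibreRing.regular_charts_iff f (key.2 hN')).2
      ⟨(FlatMor67.FibreRing.flat_baseChange_iff hc).2 hfl,
        (FlatMor67.FibreRing.onFibres_baseChange_iff FlatMor67.FibreRing.regQ_isLocalProp
          (fun k S _ _ _ _ K _ _ _ => S2674.result k S K) hc (key.2 hN') hN').2 hfib⟩⟩

end Groth.Agent.S1476
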