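import Groth.Statements.S14770
import Groth.Agent.Subtr56.Fg
import Groth.Agent.Subtr56.DvrPair

set_option autoImplicit false
universe u
open CategoryTheory CategoryTheory.Limits AlgebraicGeometry
open Subtr

namespace Groth.Agent.S14770

/-- Let Y be a locally Noetherian scheme and f : X ⟶ Y a quasi-compact morphism. Then f is universally
submersive if and only if every base change of f has the lifting property for ordered pairs of
points. (The published statement assumes f universally submersive for the constructible topologies
rather than quasi-compact; for quasi-compact morphisms both sides force surjectivity and that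
condition follows.) -/
theorem result {X Y : Scheme.{u}}
    [IsLocallyNoetherian Y] (f : X ⟶ Y) [QuasiCompact f] :
    SGA1.UnivSubmersive f ↔ Subtr.UnivSSubtrusive f := by
  refine ⟨fun h => Groth.Agent.Subtr56.univSSubtrusive_of_fg f fun U hU R φ hφ => ?_,
    fun h => Groth.Agent.Subtr56.univSubmersive_of_univSSubtrusive f h⟩
  have : IsNoetherianRing Γ(Y, U) := IsLocallyNoetherian.component_noetherian ⟨U, hU⟩
  have : IsNoetherianRing R := by
    letI := φ.hom.toAlgebra
    have : Algebra.FiniteType Γ(Y, U) R := hφ
    exact Algebra.FiniteType.isNoetherianRing Γ(Y, U) R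
  refine Groth.Agent.Subtr56.isSSubtrusive_snd_of_dvr f _ fun D _ _ _ g => ?_
  exact (Groth.Agent.Subtr96.isQuotientMap_iff_dvr D _).1 (h _ _ _ (IsPullback.of_hasPullback f g).flip)

end Groth.Agent.S14770
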