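import Groth.Statements.S14771
import Groth.Agent.Subtr56.Fg
import Groth.Agent.Subtr56.DvrPair
import Groth.Agent.S14770

set_option autoImplicit false
universe u
open CategoryTheory CategoryTheory.Limits AlgebraicGeometry
open Subtr

namespace Groth.Agent.S14771

/-- Let Y be locally Noetherian and f : X ⟶ Y quasi-compact and locally of finite type. The following
are equivalent: (i) f is universally submersive; (ii) every base change of f has the lifting
property for ordered pairs of points; (iii) for every discrete valuation ring D and morphism g :
Spec D ⟶ Y there are a discrete valuation ring D', a morphism a : Spec D' ⟶ X and a surjective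
morphism b : Spec D' ⟶ Spec D with a ≫ f = b ≫ g. (The published statement assumes f only locally of
finite type. Quasi-compactness cannot be dropped: over the local ring of a regular surface at a
closed point s, the disjoint union of the punctured surface, a regular curve C through s and, for
every n ≥ 1, the n-fold blow-up along successive points of the strict transform of C with the n-th
such point removed, satisfies (iii) with D' = D, while (ii) fails at a valuation ring of rank two
whose centres are exactly the removed points; the limit argument behind the published proof uses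
quasi-compactness of the fibres.) -/
theorem result {X Y : Scheme.{u}} [IsLocallyNoetherian Y]
    (f : X ⟶ Y) [LocallyOfFiniteType f] [QuasiCompact f] :
    List.TFAE [
      SGA1.UnivSubmersive f,
      Subtr.UnivSSubtrusive f,
      ∀ (D : Type u) [CommRing D] [IsDomain D] [IsDiscreteValuationRing D] (g : Spec (CommRingCat.of D) ⟶ Y),
        ∃ (D' : Type u) (_ : CommRing D') (_ : IsDomain D') (_ : IsDiscreteValuationRing D')
          (a : Spec (CommRingCat.of D') ⟶ X) (b : Spec (CommRingCat.of D') ⟶ Spec (CommRingCat.of D)),
          Surjective b ∧ a ≫ f = b ≫ g] := by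
  have h12 : SGA1.UnivSubmersive f ↔ Subtr.UnivSSubtrusive f := Groth.Agent.S14770.result f
  tfae_have 1 ↔ 2 := h12
  tfae_have 2 → 3 := fun h D _ _ _ g => by
    have : IsLocallyNoetherian (pullback f g) :=
      LocallyOfFiniteType.isLocallyNoetherian (pullback.snd f g)
    obtain ⟨p, p', hp, hp1, hp2⟩ := h _ _ _ (IsPullback.of_hasPullback f g).flip
      (IsLocalRing.specializes_closedPoint (⟨⊥, Ideal.isPrime_bot⟩ : PrimeSpectrum D))
    obtain ⟨D', _, _, _, c, hc', hc⟩ := Groth.Agent.Subtr56.exists_dvr_pair hp
    refine ⟨D', inferInstance, inferInstance, inferInstance, c ≫ pullback.fst f g,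
      c ≫ pullback.snd f g, ⟨fun q => ?_⟩, by rw [Category.assoc, Category.assoc, pullback.condition]⟩
    rcases Groth.Agent.Subtr96.dvr_cases D q with hq | hq
    · refine ⟨(⟨⊥, Ideal.isPrime_bot⟩ : PrimeSpectrum D'), ?_⟩
      rw [Scheme.Hom.comp_apply, hc', hp2]
      exact (PrimeSpectrum.ext hq).symm
    · exact ⟨IsLocalRing.closedPoint D',
        (Scheme.Hom.comp_apply _ _ _).trans ((congrArg _ hc).trans (hp1.trans hq.symm))⟩
  tfae_have 3 → 2 := fun h => by
    refine Groth.Agent.Subtr56.univSSubtrusive_of_fg f fun U hU R φ hφ => ?_
    have : IsNoetherianRing Γ(Y, U) := IsLocallyNoetherian.component_noetherian ⟨U, hU⟩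
    have : IsNoetherianRing R := by
      letI := φ.hom.toAlgebra
      have : Algebra.FiniteType Γ(Y, U) R := hφ
      exact Algebra.FiniteType.isNoetherianRing Γ(Y, U) R
    refine Groth.Agent.Subtr56.isSSubtrusive_snd_of_dvr f _ fun D _ _ _ g => ?_
    obtain ⟨D', _, _, _, a, b, hb, e⟩ := h D g
    have t := Groth.Agent.Subtr96.tfae_valuation D (pullback.snd f g)
    refine ((t.out 4 1 : (∃ (W : Type u) (_ : CommRing W) (_ : IsDomain W) (_ : ValuationRing W)
        (c : Spec (CommRingCat.of W) ⟶ pullback f g), Surjective (c ≫ pullback.snd f g)) ↔
          Subtr.IsSSubtrusive (pullback.snd f g))).1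
      ⟨D', inferInstance, inferInstance, inferInstance, pullback.lift a b e, ?_⟩
    rw [pullback.lift_snd]
    exact hb
  tfae_finish

end Groth.Agent.S14771
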