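import Groth.Statements.S14772
import Groth.Agent.Subtr56.Fg

set_option autoImplicit false
universe u
open CategoryTheory CategoryTheory.Limits AlgebraicGeometry
open Subtr

namespace Groth.Agent.S14772

/-- Let f : X ⟶ Y be a quasi-compact morphism of schemes. Then every base change of f has the lifting
property for ordered pairs of points if and only if, for every integer n ≥ 1, the base change X ×_Y
𝔸ⁿ_Y ⟶ 𝔸ⁿ_Y has it. (The published statement is about universally subtrusive morphisms f, with the
condition that f be universally submersive for the constructible topologies added on both sides, and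
does not assume f quasi-compact; this row states the quasi-compact case, where that condition is
automatic once f is surjective.) -/
theorem result {X Y : Scheme.{u}} (f : X ⟶ Y) [QuasiCompact f] :
    Subtr.UnivSSubtrusive f ↔
      ∀ n : ℕ, 0 < n →
        Subtr.IsSSubtrusive (pullback.snd f (AffineSpace (ULift.{u} (Fin n)) Y ↘ Y)) := by
  refine ⟨fun h n _ => h _ _ _ (IsPullback.of_hasPullback f _).flip, fun h => ?_⟩
  refine Groth.Agent.Subtr56.univSSubtrusive_of_fg f fun U hU R φ hφ y y' hs => ?_
  letI := φ.hom.toAlgebra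
  have : Algebra.FiniteType Γ(Y, U) R := hφ
  obtain ⟨m, π₀, hπ₀⟩ := Algebra.FiniteType.iff_quotient_mvPolynomial''.1 this
  let ν := ULift.{u} (Fin (m + 1))
  let π : MvPolynomial ν Γ(Y, U) →ₐ[Γ(Y, U)] R :=
    MvPolynomial.aeval fun i : ν => if h : (i.down : ℕ) < m then π₀ (MvPolynomial.X ⟨i.down, h⟩) else 0
  have hπ : Function.Surjective π := fun r => by
    obtain ⟨p, rfl⟩ := hπ₀ r
    refine ⟨MvPolynomial.rename (fun i : Fin m => (⟨i.castSucc⟩ : ν)) p, ?_⟩
    rw [MvPolynomial.aeval_rename, MvPolynomial.aeval_unique π₀]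
    simp [Function.comp_def]
  let σ : Spec R ⟶ AffineSpace ν Y := Spec.map (CommRingCat.ofHom π.toRingHom) ≫
    (AffineSpace.SpecIso ν Γ(Y, U)).inv ≫ AffineSpace.map ν hU.fromSpec
  have hσ : σ ≫ AffineSpace ν Y ↘ Y = Spec.map φ ≫ hU.fromSpec := by
    simp only [σ, Category.assoc, AffineSpace.map_over]
    rw [AffineSpace.SpecIso_inv_over_assoc, ← Category.assoc, ← Spec.map_comp]
    congr 2
    ext a
    exact π.commutes a
  have : IsClosedImmersion (Spec.map (CommRingCat.ofHom π.toRingHom)) :=
    IsClosedImmersion.spec_of_surjective _ hπ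
  have : IsOpenImmersion (AffineSpace.map ν hU.fromSpec) :=
    MorphismProperty.of_isPullback (AffineSpace.isPullback_map hU.fromSpec).flip inferInstance
  have : IsPreimmersion σ := inferInstance
  obtain ⟨p, p', hp, hp1, hp2⟩ := h (m + 1) m.succ_pos (hs.map σ.continuous)
  let c := AffineSpace ν Y ↘ Y
  let l : pullback f (Spec.map φ ≫ hU.fromSpec) ⟶ pullback f c :=
    pullback.lift (pullback.fst _ _) (pullback.snd _ _ ≫ σ) (by rw [Category.assoc, hσ, pullback.condition])
  have hl : IsPullback l (pullback.snd f (Spec.map φ ≫ hU.fromSpec)) (pullback.snd f c) σ := by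
    refine IsPullback.of_right (h₁₂ := pullback.fst f c) (v₁₃ := f) (h₂₂ := c) ?_ (pullback.lift_snd _ _ _)
      (IsPullback.of_hasPullback f c)
    rw [pullback.lift_fst, hσ]
    exact IsPullback.of_hasPullback _ _
  have : IsPreimmersion l := MorphismProperty.of_isPullback hl.flip ‹IsPreimmersion σ›
  have key : ∀ (q : ↥(pullback f c)) (r : Spec R), pullback.snd f c q = σ r →
      ∃ w, l w = q ∧ pullback.snd f (Spec.map φ ≫ hU.fromSpec) w = r := fun q r hq => by
    obtain ⟨ω, h1, h2⟩ := Scheme.Pullback.exists_preimage_pullback (f := pullback.snd f c) (g := σ) q r hq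
    refine ⟨hl.isoPullback.inv ω, ?_, ?_⟩
    · rw [← Scheme.Hom.comp_apply, hl.isoPullback_inv_fst, h1]
    · rw [← Scheme.Hom.comp_apply, hl.isoPullback_inv_snd, h2]
  obtain ⟨w, hw, hwy⟩ := key p y hp1
  obtain ⟨w', hw', hwy'⟩ := key p' y' hp2
  refine ⟨w, w', ?_, hwy, hwy'⟩
  rw [← l.isEmbedding.isInducing.specializes_iff, hw, hw']
  exact hp

end Groth.Agent.S14772
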