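import Groth.Statements.S14781
import Groth.Agent.Subtr56.Refine

set_option autoImplicit false
universe u
open CategoryTheory CategoryTheory.Limits AlgebraicGeometry
open Subtr

namespace Groth.Agent.S14781

/-- Let Y be a scheme that is affine or Noetherian and f : X ⟶ Y a quasi-finite morphism of finite
presentation every base change of which has the lifting property for ordered pairs of points. Then
there are schemes X', Y', a morphism h : X' ⟶ X, a quasi-compact, quasi-separated, surjective
morphism p : X' ⟶ Y' that is an open immersion on an open neighbourhood of every point of X' (an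
open covering of Y' of finite presentation) and a finite surjective morphism q : Y' ⟶ Y of finite
presentation, with h ≫ f = p ≫ q. -/
theorem result {X Y : Scheme.{u}} (f : X ⟶ Y)
    (hY : IsAffine Y ∨ IsNoetherian Y) [LocallyOfFinitePresentation f] [QuasiCompact f] [QuasiSeparated f] [LocallyQuasiFinite f]
    (hf : Subtr.UnivSSubtrusive f) :
    ∃ (X' Y' : Scheme.{u}) (h : X' ⟶ X) (p : X' ⟶ Y') (q : Y' ⟶ Y), h ≫ f = p ≫ q ∧
      Surjective p ∧ QuasiCompact p ∧ QuasiSeparated p ∧ (∀ x : X', ∃ U : X'.Opens, x ∈ U ∧ IsOpenImmersion (U.ι ≫ p)) ∧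
      IsFinite q ∧ Surjective q ∧ LocallyOfFinitePresentation q := by
  have hY' : CompactSpace Y ∧ QuasiSeparatedSpace Y := by
    rcases hY with h | h
    · exact ⟨inferInstance, inferInstance⟩
    · exact ⟨inferInstance, inferInstance⟩
  have := hY'.1
  have := hY'.2
  obtain ⟨Y', q, hq, hfin, hfp, hloc⟩ := Groth.Agent.Subtr56.exists_finite_refinement f hf
  choose V k hV hk using hloc
  have : CompactSpace Y' := QuasiCompact.compactSpace_of_compactSpace q
  have : QuasiSeparatedSpace Y' := quasiSeparatedSpace_of_quasiSeparated q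
  have key : ∀ y : Y', ∃ W : Y'.Opens, IsAffineOpen W ∧ y ∈ W ∧ W ≤ V y := fun y =>
    exists_isAffineOpen_mem_and_subset (hV y)
  choose W hW hyW hWV using key
  obtain ⟨t, ht⟩ := isCompact_univ.elim_finite_subcover (fun y => (W y : Set Y')) (fun y => (W y).2)
    (fun y _ => Set.mem_iUnion.2 ⟨y, hyW y⟩)
  let X' : Scheme.{u} := ∐ fun y : t => (W y.1).toScheme
  let p : X' ⟶ Y' := Sigma.desc fun y : t => (W y.1).ι
  let h : X' ⟶ X := Sigma.desc fun y : t => Y'.homOfLE (hWV y.1) ≫ k y.1
  have : ∀ y : t, IsAffine (W y.1).toScheme := fun y => hW y.1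
  have hpι : ∀ y : t, Sigma.ι (fun y : t => (W y.1).toScheme) y ≫ p = (W y.1).ι := fun y => Sigma.ι_desc _ _
  refine ⟨X', Y', h, p, q, ?_, ⟨fun y => ?_⟩, inferInstance, inferInstance, fun x => ?_, hfin, hq, hfp⟩
  · refine Sigma.hom_ext _ _ fun y => ?_
    rw [Sigma.ι_desc_assoc, Category.assoc, hk, Scheme.homOfLE_ι_assoc, reassoc_of% hpι y]
  · obtain ⟨y', hy', hy⟩ := Set.mem_iUnion₂.1 (ht (Set.mem_univ y))
    refine ⟨Sigma.ι (fun y : t => (W y.1).toScheme) ⟨y', hy'⟩ ⟨y, hy⟩, ?_⟩
    rw [← Scheme.Hom.comp_apply, hpι]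
    rfl
  · obtain ⟨y, w, hw⟩ := (sigmaOpenCover fun y : t => (W y.1).toScheme).exists_eq x
    let i := Sigma.ι (fun y : t => (W y.1).toScheme) y
    refine ⟨i.opensRange, ⟨w, hw⟩, ?_⟩
    rw [← Scheme.Hom.isoOpensRange_inv_comp i, Category.assoc, hpι]
    infer_instance

end Groth.Agent.S14781
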