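import Groth.Statements.S1479
import Groth.Agent.FlatMor67.SmoothPair

set_option autoImplicit false
universe u
open FlatMor

namespace Groth.Agent.S1479

set_option backward.isDefEq.respectTransparency.types false

open AlgebraicGeometry CategoryTheory Limits in
/-- Let X and Y be smooth over S and i : Y → X a closed immersion over S. For every point y of Y there
are an open U of X containing i y, natural numbers m, n, and an étale S-morphism π from U to affine
(m+n)-space over S such that the closed subscheme Y ∩ U of U is the pullback along π of the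
coordinate subspace given by the vanishing of the last n coordinates. -/
theorem result {S X Y : Scheme.{u}} (pX : X ⟶ S) (pY : Y ⟶ S) [Smooth pX] [Smooth pY]
    (i : Y ⟶ X) [IsClosedImmersion i] (w : i ≫ pX = pY) (y : Y) :
    ∃ (U : X.Opens) (m n : ℕ) (π : (U : Scheme.{u}) ⟶ 𝔸(ULift.{u} (Fin m ⊕ Fin n); S)) (ρ : (↑(i ⁻¹ᵁ U) : Scheme.{u}) ⟶ 𝔸(ULift.{u} (Fin m); S)),
      i y ∈ U ∧ Etale π ∧ π ≫ (𝔸(ULift.{u} (Fin m ⊕ Fin n); S) ↘ S) = U.ι ≫ pX ∧
      IsPullback ρ (i ∣_ U)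
        (AffineSpace.homOfVector (𝔸(ULift.{u} (Fin m); S) ↘ S)
          (fun j : ULift.{u} (Fin m ⊕ Fin n) => Sum.elim (fun a => AffineSpace.coord S (ULift.up a)) (fun _ => 0) j.down))
        π := by
  obtain ⟨_, ⟨W, hW, rfl⟩, hsW, -⟩ :=
    S.isBasis_affineOpens.exists_subset_of_mem_open (Set.mem_univ (pX (i y))) isOpen_univ
  obtain ⟨_, ⟨U₀, hU₀, rfl⟩, hyU, e⟩ :=
    X.isBasis_affineOpens.exists_subset_of_mem_open (show i y ∈ pX ⁻¹ᵁ W from hsW) (pX ⁻¹ᵁ W).2
  have hV₀ : IsAffineOpen (i ⁻¹ᵁ U₀) := hU₀.preimage i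
  have e' : i ⁻¹ᵁ U₀ ≤ pY ⁻¹ᵁ W := by
    intro z hz
    rw [← w]
    exact e hz
  have hcomp : pY.appLE W (i ⁻¹ᵁ U₀) e' = pX.appLE W U₀ e ≫ i.app U₀ := by
    subst w
    rw [i.app_eq_appLE, Scheme.Hom.appLE_comp_appLE]
  have hsP := HasRingHomProperty.appLE (P := @Smooth) pX ‹_› ⟨W, hW⟩ ⟨U₀, hU₀⟩ e
  have hsC := HasRingHomProperty.appLE (P := @Smooth) pY ‹_› ⟨W, hW⟩ ⟨i ⁻¹ᵁ U₀, hV₀⟩ e'
  let _ := (pX.appLE W U₀ e).hom.toAlgebra
  let _ := (pY.appLE W (i ⁻¹ᵁ U₀) e').hom.toAlgebra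
  let _ := (i.app U₀).hom.toAlgebra
  have : IsScalarTower Γ(S, W) Γ(X, U₀) Γ(Y, i ⁻¹ᵁ U₀) := IsScalarTower.of_algebraMap_eq' (by
    simp only [RingHom.algebraMap_toAlgebra, hcomp, CommRingCat.hom_comp])
  have : Algebra.Smooth Γ(S, W) Γ(X, U₀) := hsP
  have : Algebra.Smooth Γ(S, W) Γ(Y, i ⁻¹ᵁ U₀) := hsC
  have hsurj : Function.Surjective (i.app U₀).hom := i.app_surjective U₀ hU₀
  obtain ⟨m, n, g, f, hf, het, hg0, hgen⟩ := Groth.Agent.FlatMor67.SmoothPair.exists_coords Γ(S, W)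
    (P := Γ(X, U₀)) (C := Γ(Y, i ⁻¹ᵁ U₀)) hsurj (hV₀.primeIdealOf ⟨y, hyU⟩).asIdeal
  let U : X.Opens := X.basicOpen f
  have hU : IsAffineOpen U := hU₀.basicOpen f
  have : IsAffine U := hU
  have hiyU : i y ∈ U := by
    show y ∈ i ⁻¹ᵁ X.basicOpen f
    rw [Scheme.preimage_basicOpen]
    exact (Groth.Agent.FlatMor67.SmoothPair.mem_basicOpen_iff hV₀ ⟨y, hyU⟩ _).2 hf
  let res : Γ(X, U₀) →+* Γ(X, U) := (X.presheaf.map (homOfLE (X.basicOpen_le f)).op).hom
  have eU : U ≤ pX ⁻¹ᵁ W := (X.basicOpen_le f).trans e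
  let σ := ULift.{u} (Fin m ⊕ Fin n)
  let v : σ → Γ(U, ⊤) := fun j => U.topIso.inv (res (g j.down))
  let π : (U : Scheme.{u}) ⟶ 𝔸(σ; S) := AffineSpace.homOfVector (U.ι ≫ pX) v
  let ρ : (↑(i ⁻¹ᵁ U) : Scheme.{u}) ⟶ 𝔸(ULift.{u} (Fin m); S) :=
    AffineSpace.homOfVector ((i ∣_ U) ≫ U.ι ≫ pX) (fun a => (i ∣_ U).appTop (v (ULift.up (Sum.inl a.down))))
  have hπ : Etale π := by
    refine Groth.Agent.FlatMor67.SmoothPair.etale_homOfVector pX hW hU eU (fun j : σ => res (g j.down)) ?_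
    have hc : (pX.appLE W U eU).hom = res.comp (algebraMap Γ(S, W) Γ(X, U₀)) := by
      rw [RingHom.algebraMap_toAlgebra, ← CommRingCat.hom_comp, Scheme.Hom.appLE_map]
    rw [hc]
    exact Groth.Agent.FlatMor67.SmoothPair.etale_eval₂Hom Γ(S, W) g f het Γ(X, U) res
      (hU₀.isLocalization_basicOpen f)
  have h0 : U.topIso.inv ≫ (i ∣_ U).appTop = i.app U ≫ (i ⁻¹ᵁ U).topIso.inv := by
    simp [Scheme.Hom.appTop, Scheme.Opens.topIso, Scheme.Hom.app_eq_appLE]
    erw [Scheme.Hom.map_appLE, Scheme.Hom.appLE_map]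
  have hsq : ∀ a : Γ(X, U₀), (i ∣_ U).appTop (U.topIso.inv (res a)) =
      (i ⁻¹ᵁ U).topIso.inv (Y.presheaf.map (homOfLE (i.preimage_mono (X.basicOpen_le f))).op (i.app U₀ a)) := by
    intro a
    have h2 := ConcreteCategory.congr_hom (i.naturality (homOfLE (X.basicOpen_le f)).op) a
    refine (ConcreteCategory.congr_hom h0 (res a)).trans ?_
    exact congrArg (i ⁻¹ᵁ U).topIso.inv h2
  have hv0 : ∀ j : Fin n, (i ∣_ U).appTop (v (ULift.up (Sum.inr j))) = 0 := fun j => by
    rw [hsq]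
    rw [show i.app U₀ (g (Sum.inr j)) = 0 from hg0 j, map_zero, map_zero]
  have hker : RingHom.ker (i ∣_ U).appTop.hom ≤ Ideal.span (Set.range fun j : Fin n => v (ULift.up (Sum.inr j))) := by
    intro x hx
    obtain ⟨x, rfl⟩ := (ConcreteCategory.bijective_of_isIso U.topIso.inv).2 x
    have h1 : x ∈ RingHom.ker (i.app U).hom := by
      have h := ConcreteCategory.congr_hom h0 x
      rw [RingHom.mem_ker] at hx ⊢
      refine (ConcreteCategory.bijective_of_isIso (i ⁻¹ᵁ U).topIso.inv).1 ?_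
      rw [map_zero]
      exact h.symm.trans hx
    rw [Groth.Agent.SchBasics.ker_app_basicOpen i hU₀ hV₀ f] at h1
    refine Ideal.span_le.2 ?_ (show x ∈ Ideal.span (res '' (RingHom.ker (i.app U₀).hom : Set Γ(X, U₀))) from h1)
      |> fun h => (Ideal.mem_comap (f := U.topIso.inv.hom)).1 h
    rintro _ ⟨a, ha, rfl⟩
    let _ := res.toAlgebra
    have : IsLocalization.Away f Γ(X, U) := hU₀.isLocalization_basicOpen f
    let ea := IsLocalization.algEquiv (Submonoid.powers f) (Localization.Away f) Γ(X, U)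
    have := Ideal.mem_map_of_mem (U.topIso.inv.hom.comp ea.toRingEquiv.toRingHom) (hgen a ha)
    rw [Ideal.map_span, ← Set.range_comp] at this
    have e1 : ∀ c : Γ(X, U₀), ea.toRingEquiv.toRingHom (algebraMap _ _ c) = res c := fun c => ea.commutes c
    refine Ideal.mem_comap.2 ?_
    simp only [RingHom.comp_apply, Function.comp_def, e1] at this
    exact this
  let z := AffineSpace.homOfVector (𝔸(ULift.{u} (Fin m); S) ↘ S)
    (fun j : σ => Sum.elim (fun a => AffineSpace.coord S (ULift.up a)) (fun _ => 0) j.down)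
  have : Mono z := by
    have : z ≫ AffineSpace.homOfVector (𝔸(σ; S) ↘ S) (fun a : ULift.{u} (Fin m) =>
        AffineSpace.coord S (ULift.up (Sum.inl a.down))) = 𝟙 _ := by
      apply AffineSpace.hom_ext
      · simp [z]
      · intro a
        rw [Scheme.Hom.comp_appTop, CommRingCat.comp_apply, AffineSpace.homOfVector_appTop_coord,
          AffineSpace.homOfVector_appTop_coord, Scheme.Hom.id_appTop]
        rfl
    exact mono_of_mono_fac this
  have hsquare : ρ ≫ z = (i ∣_ U) ≫ π := by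
    apply AffineSpace.hom_ext
    · rw [Category.assoc, AffineSpace.homOfVector_over, AffineSpace.homOfVector_over, Category.assoc,
        AffineSpace.homOfVector_over]
    · rintro ⟨j | j⟩
      · rw [Scheme.Hom.comp_appTop, Scheme.Hom.comp_appTop, CommRingCat.comp_apply, CommRingCat.comp_apply,
          AffineSpace.homOfVector_appTop_coord, AffineSpace.homOfVector_appTop_coord]
        exact AffineSpace.homOfVector_appTop_coord _ _ _
      · rw [Scheme.Hom.comp_appTop, Scheme.Hom.comp_appTop, CommRingCat.comp_apply, CommRingCat.comp_apply,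
          AffineSpace.homOfVector_appTop_coord, AffineSpace.homOfVector_appTop_coord, hv0]
        exact map_zero _
  have hlift : ∀ {T : Scheme.{u}} (a : T ⟶ 𝔸(ULift.{u} (Fin m); S)) (b : T ⟶ (U : Scheme.{u})),
      a ≫ z = b ≫ π → ∃ l, l ≫ (i ∣_ U) = b := by
    intro T a b hab
    have : IsClosedImmersion (i ∣_ U) := IsZariskiLocalAtTarget.restrict ‹_› U
    refine Groth.Agent.FlatMor67.SmoothPair.exists_lift (i ∣_ U) b (hker.trans (Ideal.span_le.2 ?_))
    rintro _ ⟨j, rfl⟩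
    have h := congrArg (fun φ => φ.appTop (AffineSpace.coord S (ULift.up (Sum.inr j) : σ))) hab
    simp only [Scheme.Hom.comp_appTop, CommRingCat.comp_apply, z, π, AffineSpace.homOfVector_appTop_coord,
      Sum.elim_inr, map_zero] at h
    exact h.symm
  refine ⟨U, m, n, π, ρ, hiyU, hπ, AffineSpace.homOfVector_over _ _, IsPullback.mk ⟨hsquare⟩ ⟨?_⟩⟩
  have : IsClosedImmersion (i ∣_ U) := IsZariskiLocalAtTarget.restrict ‹_› U
  exact PullbackCone.IsLimit.mk _ (fun c => (hlift c.fst c.snd c.condition).choose)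
    (fun c => by
      rw [← cancel_mono z, Category.assoc, hsquare, ← Category.assoc,
        (hlift c.fst c.snd c.condition).choose_spec]
      exact c.condition.symm)
    (fun c => (hlift c.fst c.snd c.condition).choose_spec)
    (fun c m' h1 h2 => by rw [← cancel_mono (i ∣_ U), h2, (hlift c.fst c.snd c.condition).choose_spec])

end Groth.Agent.S1479
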