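import Groth.Statements.S14790
import Groth.Agent.S1386
import Groth.Agent.SGA3a.DominantHom
import Groth.Agent.LimTop61.MaximalPoints
import Groth.Agent.Subtr56.Basic

set_option autoImplicit false
universe u
open CategoryTheory CategoryTheory.Limits AlgebraicGeometry
open Subtr

namespace Groth.Agent.S14790

/-- Take a scheme Y that is reduced, quasi-compact and quasi-separated, whose set of maximal points
(points with no proper generization) is quasi-compact, and f : X ⟶ Y a morphism of finite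
presentation. Then there is a dense quasi-compact open subset U ⊆ Y over which f is flat. -/
theorem result {X Y : Scheme.{u}} [IsReduced Y]
    [CompactSpace Y] [QuasiSeparatedSpace Y]
    (hgen : IsCompact {y : Y | ∀ y' : Y, y' ⤳ y → y' = y})
    (f : X ⟶ Y) [LocallyOfFinitePresentation f] [QuasiCompact f] [QuasiSeparated f] :
    ∃ U : Y.Opens, Dense (U : Set Y) ∧ IsCompact (U : Set Y) ∧ Flat (f ∣_ U) := by
  have : LocallyOfFinitePresentation (f ≫ 𝟙 Y) := by rw [Category.comp_id]; infer_instance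
  let C : Set X := {x | ((𝟙 Y : Y ⟶ Y).stalkMap (f x)).hom.Flat ∧ (f.stalkMap x).hom.Flat}ᶜ
  have hC : IsClosed C := (Groth.Agent.S1386.result f (𝟙 Y)).2.isClosed_compl
  have hmax : ∀ η : Y, (∀ z, z ⤳ η → z = η) → η ∉ closure (f '' C) := by
    intro η hη hcl
    let I := Scheme.IdealSheafData.vanishingIdeal (⟨C, hC⟩ : TopologicalSpace.Closeds X)
    have hr : Set.range I.subschemeι = C := Groth.Agent.Curves2.range_vanishingIdeal _
    rw [← hr, ← Set.range_comp] at hcl
    obtain ⟨z, hz⟩ := Groth.Agent.FDesc60.exists_specializes_of_mem_closure_range (I.subschemeι ≫ f) hcl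
    have hzC : I.subschemeι z ∈ C := hr.le ⟨z, rfl⟩
    have hzη : f (I.subschemeι z) = η := hη _ hz
    refine hzC ⟨Flat.stalkMap (𝟙 Y) _, ?_⟩
    have hfield : IsField (Y.presheaf.stalk (f (I.subschemeι z))) :=
      Groth.Agent.SGA3a.isField_stalk_maximal (by rw [hzη]; exact hη)
    let := hfield.toField
    algebraize [(f.stalkMap (I.subschemeι z)).hom]
    show Module.Flat _ _
    infer_instance
  have hex : ∀ η : Y, (∀ z, z ⤳ η → z = η) → ∃ U : Y.Opens, IsAffineOpen U ∧ η ∈ U ∧ (U : Set Y) ⊆ (closure (f '' C))ᶜ :=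
    fun η hη => exists_isAffineOpen_mem_and_subset (U := ⟨_, isClosed_closure.isOpen_compl⟩) (hmax η hη)
  choose U hU hηU hUC using hex
  obtain ⟨t, ht⟩ := hgen.elim_finite_subcover
    (fun η : {y : Y | ∀ y' : Y, y' ⤳ y → y' = y} => (U η.1 η.2 : Set Y)) (fun η => (U η.1 η.2).2)
    (fun η hη => Set.mem_iUnion.2 ⟨⟨η, hη⟩, hηU η hη⟩)
  let V : Y.Opens := ⟨⋃ η ∈ t, (U η.1 η.2 : Set Y), isOpen_biUnion fun η _ => (U η.1 η.2).2⟩
  refine ⟨V, Groth.Agent.LimTop61.dense_of_isMaxPt_mem fun η hη => ht hη,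
    t.finite_toSet.isCompact_biUnion fun η _ => (hU η.1 η.2).isCompact, ?_⟩
  rw [Flat.iff_flat_stalkMap]
  intro x
  have hx : (f.stalkMap x.1).hom.Flat := by
    by_contra hn
    obtain ⟨η, -, hη⟩ := Set.mem_iUnion₂.1 x.2
    exact hUC η.1 η.2 hη (subset_closure ⟨x.1, fun h => hn h.2, rfl⟩)
  have := RingHom.toMorphismProperty_respectsIso_iff.1 RingHom.Flat.respectsIso
  exact ((RingHom.toMorphismProperty RingHom.Flat).arrow_mk_iso_iff (morphismRestrictStalkMap f V x)).2 hx

end Groth.Agent.S14790
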