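import Groth.Statements.S1480
import Groth.Agent.FlatMor67.QFSection
import Mathlib.AlgebraicGeometry.Morphisms.QuasiFinite
import Mathlib.AlgebraicGeometry.Morphisms.Flat
import Mathlib.AlgebraicGeometry.Morphisms.FinitePresentation

set_option autoImplicit false
universe u
open CategoryTheory CategoryTheory.Limits AlgebraicGeometry Opposite TopologicalSpace
attribute [local instance] HasDerivedCategory.standard
open FlatMor

namespace Groth.Agent.S1480

open AlgebraicGeometry CategoryTheory Limits in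
/-- Let f : X → S be flat, locally of finite presentation and locally quasi-finite, and g a nonzero
global function on X. Then there are affine opens V of X and U of S with f(V) ⊆ U and g nonzero on
V, an ideal F of O_S(U), a positive integer r and an injective O_S(U)-linear map from F^r to O_X(V)
whose image contains the restriction of g to V. -/
theorem result {X S : Scheme.{u}} (f : X ⟶ S) [Flat f] [LocallyOfFinitePresentation f] [LocallyQuasiFinite f]
    (g : Γ(X, ⊤)) (hg : g ≠ 0) :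
    ∃ (U : S.Opens) (hU : IsAffineOpen U) (V : X.Opens) (hV : IsAffineOpen V) (hVU : V ≤ f ⁻¹ᵁ U),
      X.presheaf.map (homOfLE le_top).op g ≠ (0 : Γ(X, V)) ∧
      ∃ (F : Ideal Γ(S, U)) (r : ℕ), 0 < r ∧
        letI := (f.appLE U V hVU).hom.toAlgebra
        ∃ φ : (Fin r → ↥F) →ₗ[Γ(S, U)] Γ(X, V), Function.Injective φ ∧ X.presheaf.map (homOfLE le_top).op g ∈ LinearMap.range φ := by
  -- charts on which `g` does not vanish
  obtain ⟨U₀, hU₀, V₀, hV₀, e₀, hg₀⟩ : ∃ (U₀ : S.Opens) (_ : IsAffineOpen U₀) (V₀ : X.Opens)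
      (_ : IsAffineOpen V₀) (_ : V₀ ≤ f ⁻¹ᵁ U₀), X.presheaf.map (homOfLE le_top).op g ≠ (0 : Γ(X, V₀)) := by
    by_contra hcon
    apply hg
    refine X.IsSheaf.section_ext fun x _ => ?_
    obtain ⟨_, ⟨U, hU, rfl⟩, hxU, -⟩ :=
      S.isBasis_affineOpens.exists_subset_of_mem_open (Set.mem_univ (f x)) isOpen_univ
    obtain ⟨_, ⟨V, hV, rfl⟩, hxV, hVU⟩ := X.isBasis_affineOpens.exists_subset_of_mem_open
      (show x ∈ f ⁻¹ᵁ U from hxU) (f ⁻¹ᵁ U).2
    refine ⟨V, le_top, hxV, ?_⟩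
    rw [map_zero]
    by_contra h
    exact hcon ⟨U, hU, V, hV, hVU, h⟩
  let : Algebra Γ(S, U₀) Γ(X, V₀) := (f.appLE U₀ V₀ e₀).hom.toAlgebra
  have : Algebra.FinitePresentation Γ(S, U₀) Γ(X, V₀) :=
    LocallyOfFinitePresentation.finitePresentation_appLE (f := f) hU₀ hV₀ e₀
  have : Module.Flat Γ(S, U₀) Γ(X, V₀) := Flat.flat_appLE f hU₀ hV₀ e₀
  have : Algebra.QuasiFinite Γ(S, U₀) Γ(X, V₀) := LocallyQuasiFinite.quasiFinite_appLE (f := f) hU₀ hV₀ e₀
  obtain ⟨s, v, hsv, H⟩ := FlatMor67.exists_free_over_ideal Γ(S, U₀) Γ(X, V₀)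
    (X.presheaf.map (homOfLE le_top).op g) hg₀
  have hVU : X.basicOpen v ≤ f ⁻¹ᵁ S.basicOpen s := by
    obtain ⟨w, rfl⟩ := hsv
    refine (X.basicOpen_mul _ _).trans_le (inf_le_left.trans ?_)
    rw [Scheme.preimage_basicOpen]
    show X.basicOpen (f.appLE U₀ V₀ e₀ s) ≤ _
    rw [Scheme.Hom.appLE, CategoryTheory.comp_apply, Scheme.basicOpen_res]
    exact inf_le_right
  let := (f.appLE (S.basicOpen s) (X.basicOpen v) hVU).hom.toAlgebra
  let : Algebra Γ(S, U₀) Γ(X, X.basicOpen v) :=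
    (f.appLE U₀ (X.basicOpen v) ((X.basicOpen_le v).trans e₀)).hom.toAlgebra
  have : IsScalarTower Γ(S, U₀) Γ(S, S.basicOpen s) Γ(X, X.basicOpen v) :=
    IsScalarTower.of_algebraMap_eq' (by
      show (f.appLE _ _ _).hom = (f.appLE _ _ _).hom.comp (S.presheaf.map _).hom
      rw [← CommRingCat.hom_comp, Scheme.Hom.map_appLE])
  have : IsScalarTower Γ(S, U₀) Γ(X, V₀) Γ(X, X.basicOpen v) :=
    IsScalarTower.of_algebraMap_eq' (by
      show (f.appLE _ _ _).hom = (X.presheaf.map _).hom.comp (f.appLE _ _ _).hom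
      rw [← CommRingCat.hom_comp, Scheme.Hom.appLE_map])
  have := hU₀.isLocalization_basicOpen s
  have := hV₀.isLocalization_basicOpen v
  obtain ⟨hne, F, r, hr, φ, hφ, hgφ⟩ := H Γ(S, S.basicOpen s) Γ(X, X.basicOpen v)
  have heq : algebraMap Γ(X, V₀) Γ(X, X.basicOpen v) (X.presheaf.map (homOfLE le_top).op g) =
      X.presheaf.map (homOfLE le_top).op g := by
    show X.presheaf.map _ (X.presheaf.map _ g) = _
    rw [← CategoryTheory.comp_apply, ← Functor.map_comp]
    rfl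
  rw [heq] at hne hgφ
  exact ⟨S.basicOpen s, hU₀.basicOpen s, X.basicOpen v, hV₀.basicOpen v, hVU, hne, F, r, hr, φ, hφ, hgφ⟩

end Groth.Agent.S1480
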