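import Groth.Statements.S14807
import Mathlib

set_option autoImplicit false
universe u
open CAlg

namespace Groth.Agent.S14807

/-- Let G be a finite abelian group, written additively, and ℓ a prime number. Every sequence (g_n)_{n ≥
0} of elements of G with ℓ^n · g_n = 0 and ℓ · g_{n+1} = g_n for all n is identically zero; in other
words the inverse limit of the subgroups of ℓ^n-torsion elements, with transition maps
multiplication by ℓ, vanishes. -/
theorem result (G : Type u) [AddCommGroup G] [Finite G]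
    (ℓ : ℕ) (hℓ : ℓ.Prime) (g : ℕ → G) (htor : ∀ n : ℕ, ℓ ^ n • g n = 0)
    (hcomp : ∀ n : ℕ, ℓ • g (n + 1) = g n) (n : ℕ) : g n = 0 := by
  have h1 : ∀ k, ℓ ^ k • g (n + k) = g n := by
    intro k
    induction k with
    | zero => simp
    | succ k ih => rw [pow_succ, mul_smul, ← add_assoc, hcomp, ih]
  set N := Nat.card G
  obtain ⟨e, m, hm, hN⟩ := Nat.exists_eq_pow_mul_and_not_dvd (Nat.card_pos (α := G)).ne' ℓ hℓ.ne_one
  -- order of every element of ℓ-power torsion divides ℓ^e
  have key : ∀ x : G, (∃ j, ℓ ^ j • x = 0) → ℓ ^ e • x = 0 := by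
    rintro x ⟨j, hj⟩
    have h2 : addOrderOf x ∣ ℓ ^ j := addOrderOf_dvd_of_nsmul_eq_zero hj
    have h3 : addOrderOf x ∣ Nat.card G := addOrderOf_dvd_natCard x
    obtain ⟨i, -, hi⟩ := (Nat.dvd_prime_pow hℓ).mp h2
    apply addOrderOf_dvd_iff_nsmul_eq_zero.mp
    rw [hi] at h3 ⊢
    rw [hN] at h3
    exact (Nat.Coprime.pow_left i ((Nat.Prime.coprime_iff_not_dvd hℓ).mpr hm)).dvd_of_dvd_mul_right h3
  rw [← h1 e]
  exact key _ ⟨n + e, htor _⟩

end Groth.Agent.S14807
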