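import Groth.Statements.S1481
import Mathlib.AlgebraicGeometry.ValuativeCriterion
import Mathlib.AlgebraicGeometry.Fiber


set_option autoImplicit false
universe u
open FlatMor

namespace Groth.Agent.S1481

open AlgebraicGeometry CategoryTheory Limits in
/-- A specialisation is the image of a map from the spectrum of a valuation ring. -/
theorem exists_valuation_of_specializes {X : Scheme.{u}} {x y : X} (h : y ⤳ x) :
    ∃ (R : Type u) (_ : CommRing R) (_ : IsDomain R) (_ : ValuationRing R) (g : Spec (CommRingCat.of R) ⟶ X),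
      g (⊥ : PrimeSpectrum R) = y ∧ g (IsLocalRing.closedPoint R) = x := by
  let φ : X.presheaf.stalk x ⟶ X.residueField y := X.presheaf.stalkSpecializes h ≫ X.residue y
  obtain ⟨A, hA, hloc⟩ := IsLocalRing.exists_factor_valuationRing φ.hom
  let ψ : X.presheaf.stalk x ⟶ CommRingCat.of A := CommRingCat.ofHom (φ.hom.codRestrict _ hA)
  refine ⟨A, inferInstance, inferInstance, inferInstance, Spec.map ψ ≫ X.fromSpecStalk x, ?_, ?_⟩
  · let ι : CommRingCat.of A ⟶ X.residueField y := CommRingCat.ofHom (algebraMap A (X.residueField y))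
    have e : Spec.map ι ≫ Spec.map ψ ≫ X.fromSpecStalk x = X.fromSpecResidueField y := by
      rw [Scheme.fromSpecResidueField, ← Scheme.SpecMap_stalkSpecializes_fromSpecStalk h,
        ← Spec.map_comp_assoc, ← Spec.map_comp_assoc]
      rfl
    have h1 : Spec.map ι (IsLocalRing.closedPoint (X.residueField y)) = (⊥ : PrimeSpectrum A) := by
      apply PrimeSpectrum.ext
      show Ideal.comap (algebraMap A (X.residueField y)) (IsLocalRing.maximalIdeal _) = ⊥
      rw [IsLocalRing.isField_iff_maximalIdeal_eq.mp (Field.toIsField _)]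
      exact (RingHom.injective_iff_ker_eq_bot _).mp (IsFractionRing.injective A (X.residueField y))
    rw [← h1, ← Scheme.Hom.comp_apply, e, Scheme.fromSpecResidueField_apply]
  · rw [Scheme.Hom.comp_apply]
    have : Spec.map ψ (IsLocalRing.closedPoint A) = IsLocalRing.closedPoint (X.presheaf.stalk x) :=
      IsLocalRing.comap_closedPoint (S := A) (φ.hom.codRestrict A.toSubring hA)
    rw [this, X.fromSpecStalk_closedPoint]

/-- A point of a sober space generalises to the generic point of an irreducible component. -/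
theorem exists_component_generic {α : Type*} [TopologicalSpace α] [QuasiSober α] (a : α) :
    ∃ b, b ⤳ a ∧ ∃ C ∈ irreducibleComponents α, IsGenericPoint b C := by
  have hg := (isIrreducible_irreducibleComponent (x := a)).isGenericPoint_genericPoint
    isClosed_irreducibleComponent
  exact ⟨_, hg.specializes mem_irreducibleComponent, _,
    irreducibleComponent_mem_irreducibleComponents a, hg⟩

open AlgebraicGeometry in
/-- Closed subsets of fibres are sober. -/
theorem quasiSober_inter_fibre {X S : Scheme.{u}} (f : X ⟶ S) {Z : Set X} (hZ : IsClosed Z) (s : S) :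
    QuasiSober ↑(Z ∩ f ⁻¹' {s}) := by
  have : QuasiSober ↑(f ⁻¹' {s}) := (f.fiberHomeo s).symm.isClosedEmbedding.quasiSober
  let j : ↑(Z ∩ f ⁻¹' {s}) → ↑(f ⁻¹' {s}) := fun a => ⟨a.1, a.2.2⟩
  have hj : Topology.IsClosedEmbedding j := by
    refine ⟨Topology.IsEmbedding.inclusion Set.inter_subset_right, ?_⟩
    have : Set.range j = Subtype.val ⁻¹' Z := by
      ext ⟨a, ha⟩
      refine ⟨?_, fun h => ⟨⟨a, h, ha⟩, rfl⟩⟩
      rintro ⟨b, hb⟩
      obtain rfl : b.1 = a := congrArg Subtype.val hb
      exact b.2.1
    rw [this]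
    exact hZ.preimage continuous_subtype_val
  exact hj.quasiSober

open AlgebraicGeometry CategoryTheory Limits in
/-- Let f : X → S, y a point of X with image t, Y the closure of y, s a point of S and x a point of Y
over s which is generic in an irreducible component of the fibre of Y over s (fibres as subspaces).
Then there are a valuation ring R and a morphism g : Spec R → S sending the generic point to t and
the closed point to s, such that, writing X' for the base change with projections g' : X' → X and f'
: X' → Spec R, there is a point y' of X' over the generic point with g' y' = y which is generic in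
an irreducible component of the generic fibre of g'⁻¹(Y), and a point x' in the closure of y' over
the closed point with g' x' = x which is generic in an irreducible component of the special fibre of
the closure of y'. -/
theorem result {X S : Scheme.{u}} (f : X ⟶ S) (y : X) (s : S) (x : X)
    (hx : x ∈ closure ({y} : Set ↑X)) (hxs : f x = s)
    (hgen : ∃ C ∈ irreducibleComponents ↑(closure ({y} : Set ↑X) ∩ f ⁻¹' {s}), IsGenericPoint (⟨x, hx, hxs⟩ : ↑(closure ({y} : Set ↑X) ∩ f ⁻¹' {s})) C) :
    ∃ (R : Type u) (_ : CommRing R) (_ : IsDomain R) (_ : ValuationRing R) (g : Spec (CommRingCat.of R) ⟶ S),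
      g (⊥ : PrimeSpectrum R) = f y ∧ g (IsLocalRing.closedPoint R) = s ∧
      ∃ (y' : ↑(pullback f g)) (hy't : pullback.snd f g y' = (⊥ : PrimeSpectrum R)) (hy'Y : pullback.fst f g y' ∈ closure ({y} : Set ↑X)),
        pullback.fst f g y' = y ∧
        (∃ C ∈ irreducibleComponents ↑((pullback.fst f g) ⁻¹' closure ({y} : Set ↑X) ∩ (pullback.snd f g) ⁻¹' {(⊥ : PrimeSpectrum R)}),
          IsGenericPoint (⟨y', hy'Y, hy't⟩ : ↑((pullback.fst f g) ⁻¹' closure ({y} : Set ↑X) ∩ (pullback.snd f g) ⁻¹' {(⊥ : PrimeSpectrum R)})) C) ∧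
        ∃ (x' : ↑(pullback f g)) (hx' : x' ∈ closure ({y'} : Set ↑(pullback f g))) (hx's : pullback.snd f g x' = IsLocalRing.closedPoint R),
          pullback.fst f g x' = x ∧
          ∃ C ∈ irreducibleComponents ↑(closure ({y'} : Set ↑(pullback f g)) ∩ (pullback.snd f g) ⁻¹' {IsLocalRing.closedPoint R}),
            IsGenericPoint (⟨x', hx', hx's⟩ : ↑(closure ({y'} : Set ↑(pullback f g)) ∩ (pullback.snd f g) ⁻¹' {IsLocalRing.closedPoint R})) C := by
  obtain ⟨R, _, _, _, g₀, hg₀b, hg₀c⟩ := exists_valuation_of_specializes (specializes_iff_mem_closure.mpr hx)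
  let g := g₀ ≫ f
  have hgt : g (⊥ : PrimeSpectrum R) = f y := by rw [Scheme.Hom.comp_apply, hg₀b]
  have hgs : g (IsLocalRing.closedPoint R) = s := by rw [Scheme.Hom.comp_apply, hg₀c, hxs]
  let σ : Spec (CommRingCat.of R) ⟶ pullback f g := pullback.lift g₀ (𝟙 _) (Category.id_comp _).symm
  have hσ1 : ∀ a, pullback.fst f g (σ a) = g₀ a := fun a => by
    rw [← Scheme.Hom.comp_apply, pullback.lift_fst]
  have hσ2 : ∀ a, pullback.snd f g (σ a) = a := fun a => by
    rw [← Scheme.Hom.comp_apply, pullback.lift_snd]; rfl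
  have := quasiSober_inter_fibre (pullback.snd f g)
    ((isClosed_closure (s := ({y} : Set X))).preimage (pullback.fst f g).continuous) (⊥ : PrimeSpectrum R)
  obtain ⟨⟨y', hy'Y, hy't⟩, hy'0, hy'gen⟩ := exists_component_generic
    (α := ↑((pullback.fst f g) ⁻¹' closure ({y} : Set ↑X) ∩ (pullback.snd f g) ⁻¹' {(⊥ : PrimeSpectrum R)}))
    ⟨σ (⊥ : PrimeSpectrum R), show _ ∈ closure _ by rw [hσ1, hg₀b]; exact subset_closure rfl, hσ2 _⟩
  have hy'0' : y' ⤳ σ (⊥ : PrimeSpectrum R) := hy'0.map continuous_subtype_val
  have hy'y : pullback.fst f g y' = y := by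
    have h1 : pullback.fst f g y' ⤳ y := by
      have := hy'0'.map (pullback.fst f g).continuous
      rwa [hσ1, hg₀b] at this
    exact (h1.antisymm (specializes_iff_mem_closure.mpr hy'Y)).eq
  have hbc : σ (⊥ : PrimeSpectrum R) ⤳ σ (IsLocalRing.closedPoint R) :=
    (IsLocalRing.specializes_closedPoint _).map σ.continuous
  have := quasiSober_inter_fibre (pullback.snd f g)
    (isClosed_closure (s := ({y'} : Set ↑(pullback f g)))) (IsLocalRing.closedPoint R)
  obtain ⟨⟨x', hx', hx's⟩, hx'0, hx'gen⟩ := exists_component_generic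
    (α := ↑(closure ({y'} : Set ↑(pullback f g)) ∩ (pullback.snd f g) ⁻¹' {IsLocalRing.closedPoint R}))
    ⟨σ (IsLocalRing.closedPoint R), specializes_iff_mem_closure.mp (hy'0'.trans hbc), hσ2 _⟩
  refine ⟨R, inferInstance, inferInstance, inferInstance, g, hgt, hgs, y', hy't, hy'Y, hy'y, hy'gen,
    x', hx', hx's, ?_, hx'gen⟩
  have h1 : pullback.fst f g x' ⤳ x := by
    have := (hx'0.map continuous_subtype_val).map (pullback.fst f g).continuous
    rwa [hσ1, hg₀c] at this
  have hzY : pullback.fst f g x' ∈ closure ({y} : Set X) := by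
    have := (specializes_iff_mem_closure.mpr hx').map (pullback.fst f g).continuous
    rw [hy'y] at this
    exact specializes_iff_mem_closure.mp this
  have hzs : f (pullback.fst f g x') = s := by
    rw [← Scheme.Hom.comp_apply, pullback.condition, Scheme.Hom.comp_apply,
      show pullback.snd f g x' = IsLocalRing.closedPoint R from hx's, hgs]
  obtain ⟨C, hC, hxC⟩ := hgen
  let z : ↑(closure ({y} : Set ↑X) ∩ f ⁻¹' {s}) := ⟨_, hzY, hzs⟩
  have hzx : z ⤳ ⟨x, hx, hxs⟩ := (subtype_specializes_iff _ _).mpr h1
  have hsub : C ⊆ closure {z} := by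
    rw [← hxC.def]
    exact specializes_iff_closure_subset.mp hzx
  have hzC : z ∈ C := hC.2 isIrreducible_singleton.closure hsub (subset_closure rfl)
  exact (h1.antisymm ((hxC.specializes hzC).map continuous_subtype_val)).eq

end Groth.Agent.S1481
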