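import Groth.Statements.S14819
import Groth.Agent.PicRoot25.Basic
-- import your own Groth.Agent.* helpers here

set_option autoImplicit false
universe u
open CategoryTheory CategoryTheory.Limits AlgebraicGeometry
open PicF

namespace Groth.Agent.S14819
open scoped Groth.Agent.PicInsep25

/-- Let X be an integral Noetherian scheme which is normal (all local rings integrally closed domains)
and whose ring of global functions Γ(X, O_X) is a field of characteristic p > 0; let L be an
invertible O_X-module of exact order d in Pic(X), i.e. L^{⊗d} ≅ O_X with d ≥ 1 and L^{⊗i} not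
isomorphic to O_X for 0 < i < d, and suppose p divides d. Let X' be a connected scheme such that
every unit of Γ(X', O_{X'}) has a p-th root. Then no finite étale morphism f : X' → X (a finite
étale covering of X by X') satisfies f^*L ≅ O_{X'}. -/
theorem result (X X' : Scheme.{u})
    [IsIntegral X] [IsNoetherian X] (hnorm : Pi1.IsNormalScheme X)
    (hfield : IsField (Γ(X, ⊤) : Type u)) (p : ℕ) [Fact (Nat.Prime p)] [CharP (Γ(X, ⊤) : Type u) p]
    (L : X.Modules) (hL : PicF.IsInvertible L) (d : ℕ) (hd : 0 < d)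
    (hord : Nonempty (CohB1.tensorPow L d ≅ Coh.structureModule X))
    (hmin : ∀ i : ℕ, 0 < i → i < d → IsEmpty (CohB1.tensorPow L i ≅ Coh.structureModule X))
    (hpd : p ∣ d) [ConnectedSpace X']
    (hroot : ∀ u : (Γ(X', ⊤) : Type u), IsUnit u → ∃ v : (Γ(X', ⊤) : Type u), v ^ p = u)
    (f : X' ⟶ X) [IsFinite f] [Etale f] :
    IsEmpty ((Scheme.Modules.pullback f).obj L ≅ Coh.structureModule X') := by
  refine ⟨fun j => ?_⟩
  have hL1 : PicF.IsInvertibleCl (PicF.cl L) := ⟨L, rfl, hL⟩
  obtain ⟨q, hq⟩ := hpd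
  have hp := (Fact.out : Nat.Prime p)
  have hq0 : 0 < q := Nat.pos_of_ne_zero fun h => by simp [h] at hq; omega
  have hqd : q < d := by rw [hq]; exact lt_mul_of_one_lt_left hq0 hp.one_lt
  let M := CohB1.tensorPow L q
  have hM : PicF.IsInvertible M := Groth.Agent.EGA73.isInvertible_tensorPow hL q
  have hMp : Nonempty (CohB1.tensorPow M p ≅ Coh.structureModule X) := by
    refine Groth.Agent.Desc59.Pic.cl_eq_cl_iff.1 ?_
    rw [Groth.Agent.PicInsep25.cl_tensorPow, Groth.Agent.PicInsep25.cl_tensorPow, ← pow_mul, mul_comm, ← hq,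
      ← Groth.Agent.PicInsep25.cl_tensorPow]
    exact Groth.Agent.PicInsep25.cl_iso hord
  have hMf : Nonempty ((Scheme.Modules.pullback f).obj M ≅ Coh.structureModule X') := by
    refine Groth.Agent.Desc59.Pic.cl_eq_cl_iff.1 ?_
    rw [← Groth.Agent.PicInsep25.pullCl_cl, Groth.Agent.PicInsep25.cl_tensorPow,
      Groth.Agent.PicInsep25.pullCl_pow f hL1, Groth.Agent.PicInsep25.pullCl_cl,
      Groth.Agent.PicInsep25.cl_iso ⟨j⟩, Groth.Agent.PicInsep25.cl_one, one_pow]
  obtain ⟨i⟩ := Groth.Agent.PicRoot25.iso_of_etale_cover hnorm f hroot hM hMp hMf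
  exact (hmin q hq0 hqd).false i

end Groth.Agent.S14819
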