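import Groth.Statements.S14839
import Groth.Agent.Comod33.Lattice
-- import your own Groth.Agent.* helpers here

set_option autoImplicit false
universe u v
open HopfRep
open scoped Groth.Agent.Comod33

namespace Groth.Agent.S14839

open TensorProduct in
/-- Over a field K, every simple coalgebra is finite-dimensional. Here a subcoalgebra of C is a subspace
B whose comultiplication lands in the image of B ⊗ B in C ⊗ C, and C is simple when it is nonzero
and its only subcoalgebras are 0 and C. -/
theorem result {K : Type u} {C : Type v} [Field K] [AddCommGroup C]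
    [Module K C] [Coalgebra K C] [Nontrivial C]
    (hsimple : ∀ B : Submodule K C,
      (∀ b ∈ B, CoalgebraStruct.comul (R := K) b ∈ LinearMap.range (TensorProduct.map B.subtype B.subtype)) →
        B = ⊥ ∨ B = ⊤) :
    Module.Finite K C := by
  obtain ⟨E, -, hE0, hE, hfin, hmin⟩ := Comod33.exists_minimal_subcomod (k := K) (A := C)
    (⊤ : Submodule K C) (by simp) Comod33.isSubcomod_top
  have hs : IsSimpleModule (WithConv (C →ₗ[K] K)) (Comod33.toSub E hE) :=
    (Comod33.isSimpleModule_toSub_iff hE).2 ⟨hE0, fun W h1 h2 => hmin W h2 h1⟩
  letI := Comod33.subComod (Comod33.toSub E hE)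
  let E' := ↥((Comod33.toSub E hE).restrictScalars K)
  have hsimp := Comod33.isSimpleComod_subComod (Comod33.toSub E hE)
  have : Module.Finite K E' := hfin
  have := hsimp.1
  have hD : Comod33.coeff K C E' = ⊤ :=
    (hsimple _ Comod33.isSubcoalg_coeff).resolve_left Comod33.coeff_ne_bot
  have : Module.Finite K (Comod33.coeff K C E') := by
    let L : Module.Dual K E' →ₗ[K] E' →ₗ[K] C :=
      { toFun := fun φ => Comod33.cf (A := C) φ
        map_add' := fun a b => LinearMap.ext fun x => by
          simp only [Comod33.cf_apply, LinearMap.add_apply, Comod33.lc, LinearMap.rTensor_add,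
            LinearMap.comp_apply, map_add]
        map_smul' := fun a b => LinearMap.ext fun x => by
          simp only [Comod33.cf_apply, LinearMap.smul_apply, Comod33.lc, LinearMap.rTensor_smul,
            LinearMap.comp_apply, map_smul, RingHom.id_apply] }
    have hle : Comod33.coeff K C E' ≤ LinearMap.range (TensorProduct.lift L) :=
      iSup_le fun φ => by
        rintro _ ⟨x, rfl⟩
        exact ⟨φ ⊗ₜ x, by simp [L]⟩
    exact Submodule.finiteDimensional_of_le hle
  rw [hD] at this
  exact Module.Finite.equiv (LinearEquiv.ofTop ⊤ rfl)

end Groth.Agent.S14839
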