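import Groth.Statements.S1484
import Mathlib.RingTheory.Algebraic.Integral
import Mathlib.RingTheory.LocalRing.ResidueField.Ideal
import Mathlib.FieldTheory.IntermediateField.Algebraic
-- import your own Groth.Agent.* helpers here

set_option autoImplicit false
universe u
open FlatMor

namespace Groth.Agent.S1484

/-- Let R be a ring, p_1, …, p_r primes of R none of which is contained in another, k_i ⊆ κ(p_i)
subfields over which κ(p_i) is not algebraic, and J an ideal of R contained in none of the p_i. Then
some x ∈ J has image in κ(p_i) transcendental over k_i for every i. -/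
theorem result {R : Type u} [CommRing R] {r : ℕ} (p : Fin r → Ideal R) [∀ i, (p i).IsPrime]
    (hp : ∀ i j, i ≠ j → ¬ p i ≤ p j) (k : ∀ i, Subfield (p i).ResidueField)
    (hk : ∀ i, ¬ Algebra.IsAlgebraic ↥(k i) (p i).ResidueField) (J : Ideal R) (hJ : ∀ i, ¬ J ≤ p i) :
    ∃ x ∈ J, ∀ i, Transcendental ↥(k i) (algebraMap R (p i).ResidueField x) := by
  classical
  -- for each `i`, an element of `J` that lies in all other primes and is transcendental at `i`
  have key : ∀ i, ∃ x ∈ J, (∀ j, j ≠ i → x ∈ p j) ∧
      Transcendental ↥(k i) (algebraMap R (p i).ResidueField x) := by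
    intro i
    have h1 : ¬ J ⊓ (Finset.univ.erase i).inf p ≤ p i := by
      intro h
      rcases (‹∀ i, (p i).IsPrime› i).inf_le.mp h with h | h
      · exact hJ i h
      · obtain ⟨j, hj, hle⟩ := (‹∀ i, (p i).IsPrime› i).inf_le'.mp h
        exact hp j i (Finset.ne_of_mem_erase hj) hle
    obtain ⟨z, hz, hzi⟩ := SetLike.not_le_iff_exists.mp h1
    obtain ⟨hzJ, hzother⟩ := hz
    have hzp : ∀ j, j ≠ i → z ∈ p j := fun j hj =>
      Submodule.mem_finsetInf.mp hzother j (Finset.mem_erase.mpr ⟨hj, Finset.mem_univ j⟩)
    -- some element of `R` becomes transcendental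
    have h2 : ∃ a : R, Transcendental ↥(k i) (algebraMap R (p i).ResidueField a) := by
      by_contra hcon
      simp only [not_exists, Transcendental, not_not] at hcon
      refine hk i ⟨fun y => ?_⟩
      obtain ⟨a, b, _, rfl⟩ := IsFractionRing.div_surjective (R ⧸ p i) y
      obtain ⟨a, rfl⟩ := Ideal.Quotient.mk_surjective a
      obtain ⟨b, rfl⟩ := Ideal.Quotient.mk_surjective b
      rw [isAlgebraic_iff_isIntegral, div_eq_mul_inv]
      exact ((hcon a).isIntegral).mul ((hcon b).isIntegral).inv
    obtain ⟨a, ha⟩ := h2
    by_cases hzt : Transcendental ↥(k i) (algebraMap R (p i).ResidueField z)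
    · exact ⟨z, hzJ, hzp, hzt⟩
    · refine ⟨a * z, J.mul_mem_left a hzJ, fun j hj => (p j).mul_mem_left a (hzp j hj), ?_⟩
      rw [map_mul]
      intro halg
      simp only [Transcendental, not_not] at hzt
      apply ha
      have hne : algebraMap R (p i).ResidueField z ≠ 0 := by
        simpa [Ideal.algebraMap_residueField_eq_zero] using hzi
      have h3 := halg.isIntegral.mul hzt.isIntegral.inv
      rw [mul_inv_cancel_right₀ hne] at h3
      exact h3.isAlgebraic
  choose x hxJ hxp hxt using key
  refine ⟨∑ i, x i, J.sum_mem fun i _ => hxJ i, fun i => ?_⟩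
  have : algebraMap R (p i).ResidueField (∑ j, x j) = algebraMap R (p i).ResidueField (x i) := by
    rw [map_sum]
    refine Finset.sum_eq_single i (fun j _ hj => ?_) (fun h => absurd (Finset.mem_univ i) h)
    exact Ideal.algebraMap_residueField_eq_zero.mpr (hxp j i hj.symm)
  rw [this]
  exact hxt i

end Groth.Agent.S1484
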