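import Groth.Statements.S14842
import Groth.Agent.Comod33.Lattice
-- import your own Groth.Agent.* helpers here

set_option autoImplicit false
universe u v
open HopfRep
open scoped Groth.Agent.Comod33

namespace Groth.Agent.S14842

open TensorProduct in
/-- Over a field K, every simple subcoalgebra D of a coalgebra C is the coefficient space of a simple
comodule. Precisely: there is a subspace E of C contained in D which is a simple subcomodule of the
regular right comodule C (E is nonzero, stable under the coaction, and its only subcomodules are 0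
and E) and such that D is the least subspace D' of C with comul(E) inside the image of E ⊗ D'. Here
a subcoalgebra of C is a subspace B whose comultiplication lands in the image of B ⊗ B, and a simple
subcoalgebra is a nonzero subcoalgebra D whose only subcoalgebras contained in D are 0 and D.
(Stated for right comodules; the published statement is for left comodules.) -/
theorem result {K : Type u} {C : Type v} [Field K]
    [AddCommGroup C] [Module K C] [Coalgebra K C]
    (D : Submodule K C) (hD0 : D ≠ ⊥) (hD : (∀ b ∈ D, CoalgebraStruct.comul (R := K) b ∈ LinearMap.range (TensorProduct.map D.subtype D.subtype)))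
    (hDs : ∀ B : Submodule K C, B ≤ D → (∀ b ∈ B, CoalgebraStruct.comul (R := K) b ∈ LinearMap.range (TensorProduct.map B.subtype B.subtype)) → B = ⊥ ∨ B = D) :
    ∃ E : Submodule K C, E ≤ D ∧ E ≠ ⊥ ∧ HopfRep.IsSubcomod (k := K) (A := C) E ∧
      (∀ E' : Submodule K C, E' ≤ E → HopfRep.IsSubcomod (k := K) (A := C) E' → E' = ⊥ ∨ E' = E) ∧
      IsLeast {D' : Submodule K C |
        ∀ e ∈ E, CoalgebraStruct.comul (R := K) e ∈ LinearMap.range (TensorProduct.map E.subtype D'.subtype)} D := by
  have hDsub := Comod33.IsSubcoalg.isSubcomod (k := K) hD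
  obtain ⟨E, hle, hE0, hE, -, hmin⟩ := Comod33.exists_minimal_subcomod D hD0 hDsub
  refine ⟨E, hle, hE0, hE, hmin, ?_, ?_⟩
  · intro e he
    exact Comod33.mem_range_map_subtype (hE e he)
      (Comod33.range_map_subtype_le_left D D (hD e (hle he)))
  · intro D' hD'
    have hs : IsSimpleModule (WithConv (C →ₗ[K] K)) (Comod33.toSub E hE) :=
      (Comod33.isSimpleModule_toSub_iff hE).2 ⟨hE0, fun W h1 h2 => hmin W h2 h1⟩
    letI := Comod33.subComod (Comod33.toSub E hE)
    let E' := ↥((Comod33.toSub E hE).restrictScalars K)
    have hsimp := Comod33.isSimpleComod_subComod (Comod33.toSub E hE)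
    have hhom : Hoch.IsComodHom C (((Comod33.toSub E hE).restrictScalars K).subtype) :=
      ComodSub.isComodHom_subtype _ _ _
    have := hsimp.1
    have hcD : Comod33.coeff K C E' ≤ D := Comod33.coeff_le_of_injective hD hhom
      (Submodule.injective_subtype _) (by rw [Submodule.range_subtype]; exact hle)
    have hEq : Comod33.coeff K C E' = D :=
      (hDs _ hcD Comod33.isSubcoalg_coeff).resolve_left Comod33.coeff_ne_bot
    rw [← hEq]
    refine iSup_le fun φ => ?_
    rintro _ ⟨⟨x, hx⟩, rfl⟩
    obtain ⟨g, hg⟩ := LinearMap.exists_extend (p := (Comod33.toSub E hE).restrictScalars K) φ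
    have h2 : Comod33.cf (A := C) g x = Comod33.cf (A := C) φ ⟨x, hx⟩ := by
      have h3 := Comod33.cf_comp hhom g ⟨x, hx⟩
      rw [hg] at h3
      exact h3
    rw [← h2, Comod33.cf_apply]
    exact (Comod33.mem_range_lTensor_iff D' _).1
      (Comod33.range_map_subtype_le_left E D' (hD' x hx)) g

end Groth.Agent.S14842
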