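import Groth.Statements.S14844
import Groth.Agent.Comod33.Act
-- import your own Groth.Agent.* helpers here

set_option autoImplicit false
universe u v w w'
open HopfRep
open scoped TensorProduct
open scoped Groth.Agent.Comod33

namespace Groth.Agent.S14844

open TensorProduct in
/-- Let R be a commutative ring and C an R-coalgebra, flat over R, which is the internal direct sum of
subcoalgebras D_i (submodules whose comultiplication lands in the image of D_i ⊗ D_i, independent
and with supremum C). Then every right C-comodule V is the internal direct sum of the subcomodules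
V_i, where V_i is the preimage under the coaction of the image of V ⊗ D_i in V ⊗ C, and the coaction
maps V_i into the image of V_i ⊗ D_i, so that the comodule structure of V_i reduces to a
D_i-comodule structure. (The published statement is for a flat sheaf of coalgebras over a base
scheme and left comodules on a scheme over it; this row is the case of an affine base with modules
of global sections, for right comodules.) -/
theorem result {R : Type u} {C : Type v} [CommRing R]
    [AddCommGroup C] [Module R C] [Coalgebra R C] [Module.Flat R C]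
    {ι : Type w} (D : ι → Submodule R C)
    (hD : ∀ i, ∀ d ∈ D i, CoalgebraStruct.comul (R := R) d ∈
      LinearMap.range (TensorProduct.map (D i).subtype (D i).subtype))
    (hind : iSupIndep D) (htop : iSup D = ⊤)
    {V : Type w'} [AddCommGroup V] [Module R V] [HopfRep.Comod R C V] :
    (∀ i, HopfRep.IsSubcomod (k := R) (A := C) ((LinearMap.range (LinearMap.lTensor V (D i).subtype)).comap
        (HopfRep.Comod.coact (k := R) (A := C) (V := V)))) ∧
    iSupIndep (fun i => ((LinearMap.range (LinearMap.lTensor V (D i).subtype)).comap
        (HopfRep.Comod.coact (k := R) (A := C) (V := V)))) ∧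
    (⨆ i, ((LinearMap.range (LinearMap.lTensor V (D i).subtype)).comap
        (HopfRep.Comod.coact (k := R) (A := C) (V := V)))) = ⊤ ∧
    ∀ i, ∀ v ∈ ((LinearMap.range (LinearMap.lTensor V (D i).subtype)).comap
        (HopfRep.Comod.coact (k := R) (A := C) (V := V))),
      HopfRep.Comod.coact (k := R) (A := C) v ∈
        LinearMap.range (TensorProduct.map ((LinearMap.range (LinearMap.lTensor V (D i).subtype)).comap
        (HopfRep.Comod.coact (k := R) (A := C) (V := V))).subtype (D i).subtype) := by
  classical
  have hint : DirectSum.IsInternal D :=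
    DirectSum.isInternal_submodule_of_iSupIndep_of_iSup_eq_top hind htop
  let dec : C ≃ₗ[R] DirectSum ι fun i => D i :=
    (LinearEquiv.ofBijective (DirectSum.coeLinearMap D) hint).symm
  let p : ι → C →ₗ[R] C := fun i => (D i).subtype ∘ₗ (DFinsupp.lapply i) ∘ₗ dec.toLinearMap
  have hdec : ∀ i c (hc : c ∈ D i), dec c = DirectSum.lof R ι (fun i => D i) i ⟨c, hc⟩ := fun i c hc => by
    apply (LinearEquiv.eq_symm_apply _).1
    simp [dec]
  have p_self : ∀ i, ∀ c ∈ D i, p i c = c := fun i c hc => by
    simp only [p, LinearMap.comp_apply, LinearEquiv.coe_coe, hdec i c hc]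
    rw [DirectSum.lof_eq_of]
    exact congrArg Subtype.val (DirectSum.of_eq_same (β := fun i => D i) i ⟨c, hc⟩)
  have p_ne : ∀ i j, i ≠ j → ∀ c ∈ D j, p i c = 0 := fun i j hne c hc => by
    simp only [p, LinearMap.comp_apply, LinearEquiv.coe_coe, hdec j c hc]
    rw [DirectSum.lof_eq_of]
    exact congrArg Subtype.val (DirectSum.of_eq_of_ne (β := fun i => D i) j i ⟨c, hc⟩ hne)
  have hmap : ∀ i j, ∀ z ∈ LinearMap.range (TensorProduct.map (D j).subtype (D j).subtype),
      (p i).rTensor C z = (if i = j then z else 0) ∧ (p i).lTensor C z = (if i = j then z else 0) := by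
    rintro i j _ ⟨z, rfl⟩
    induction z with
    | zero => simp
    | tmul a b =>
      by_cases h : i = j
      · subst h; simp [p_self i _ a.2, p_self i _ b.2]
      · simp [h, p_ne i j h _ a.2, p_ne i j h _ b.2]
    | add a b ha hb =>
      constructor
      · rw [map_add, map_add, ha.1, hb.1]; split <;> simp
      · rw [map_add, map_add, ha.2, hb.2]; split <;> simp
  let f : ι → (C →ₗ[R] R) := fun i => CoalgebraStruct.counit (R := R) ∘ₗ p i
  have hL : ∀ i c, TensorProduct.lid R C ((f i).rTensor C (CoalgebraStruct.comul (R := R) c)) = p i c ∧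
      TensorProduct.rid R C ((f i).lTensor C (CoalgebraStruct.comul (R := R) c)) = p i c := by
    intro i c
    have hc : c ∈ iSup D := htop ▸ Submodule.mem_top
    induction hc using Submodule.iSup_induction' with
    | mem j x hx =>
      obtain ⟨h1, h2⟩ := hmap i j _ (hD j x hx)
      simp only [f, LinearMap.rTensor_comp, LinearMap.lTensor_comp, LinearMap.comp_apply, h1, h2]
      by_cases h : i = j
      · subst h; simp [p_self i _ hx]
      · simp [h, p_ne i j h _ hx]
    | zero => simp
    | add x y _ _ hx hy => exact ⟨by simp only [map_add, hx.1, hy.1], by simp only [map_add, hx.2, hy.2]⟩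
  let ρ := HopfRep.Comod.coact (k := R) (A := C) (V := V)
  let e : ι → V →ₗ[R] V := fun i => Comod33.dact (f i)
  have h_right : ∀ i v, ρ (e i v) = (p i).lTensor V (ρ v) := fun i v => by
    rw [show ρ (e i v) = _ from Comod33.coact_dact (f i) v]
    congr 2
    exact LinearMap.ext fun c => (hL i c).2
  have h_left : ∀ i v, (e i).rTensor C (ρ v) = (p i).lTensor V (ρ v) := fun i v => by
    have hp : p i = (TensorProduct.lid R C).toLinearMap ∘ₗ (f i).rTensor C ∘ₗ CoalgebraStruct.comul :=
      LinearMap.ext fun c => ((hL i c).1).symm
    rw [hp, LinearMap.lTensor_comp, LinearMap.lTensor_comp, LinearMap.comp_apply, LinearMap.comp_apply,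
      ← Comod33.coassoc_apply, show e i = Comod33.rc (f i) ∘ₗ ρ from rfl, LinearMap.rTensor_comp,
      LinearMap.comp_apply]
    generalize ρ.rTensor C (ρ v) = y
    induction y with
    | zero => simp
    | tmul x a =>
      induction x with
      | zero => simp
      | tmul q r => simp [TensorProduct.smul_tmul]
      | add q r hq hr => rw [add_tmul, map_add, map_add, map_add, map_add, hq, hr]
    | add q r hq hr => simp only [map_add, hq, hr]
  let Vi : ι → Submodule R V := fun i =>
    (LinearMap.range (LinearMap.lTensor V (D i).subtype)).comap ρ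
  have e_mem : ∀ i v, e i v ∈ Vi i := fun i v => by
    show ρ (e i v) ∈ LinearMap.range (LinearMap.lTensor V (D i).subtype)
    rw [h_right]
    generalize ρ v = y
    induction y with
    | zero => simp
    | tmul a b => exact ⟨a ⊗ₜ[R] DFinsupp.lapply (R := R) i (dec b), by simp [p]; rfl⟩
    | add a b ha hb => rw [map_add]; exact Submodule.add_mem _ ha hb
  have p_fix : ∀ i j v, v ∈ Vi j → (p i).lTensor V (ρ v) = if i = j then ρ v else 0 := by
    intro i j v hv
    obtain ⟨y, hy⟩ := hv
    rw [← hy]
    clear hy
    induction y with
    | zero => simp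
    | tmul a b =>
      by_cases h : i = j
      · subst h; simp [p_self i _ b.2]
      · simp [h, p_ne i j h _ b.2]
    | add a b ha hb => rw [map_add, map_add, ha, hb]; split <;> simp
  have hinj : ∀ v w, ρ v = ρ w → v = w := fun v w h => by
    have := congrArg (Comod33.rc (CoalgebraStruct.counit (R := R) (A := C))) h
    simpa [← Comod33.dact_apply, ρ] using this
  have e_fix : ∀ i j v, v ∈ Vi j → e i v = if i = j then v else 0 := by
    intro i j v hv
    apply hinj
    rw [h_right, p_fix i j v hv]
    split <;> simp
  have hmapmem : ∀ i v, v ∈ Vi i →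
      ρ v ∈ LinearMap.range (TensorProduct.map (Vi i).subtype (D i).subtype) := by
    intro i v hv
    have h1 : ρ v = (e i).rTensor C ((p i).lTensor V (ρ v)) := by
      rw [show (p i).lTensor V (ρ v) = ρ v by rw [p_fix i i v hv, if_pos rfl], h_left, p_fix i i v hv,
        if_pos rfl]
    rw [h1]
    generalize ρ v = y
    induction y with
    | zero => simp
    | tmul a b => exact ⟨⟨e i a, e_mem i a⟩ ⊗ₜ[R] DFinsupp.lapply (R := R) i (dec b), by simp [p]; rfl⟩
    | add a b ha hb => rw [map_add, map_add]; exact Submodule.add_mem _ ha hb
  refine ⟨fun i v hv => ?_, ?_, ?_, hmapmem⟩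
  · obtain ⟨y, hy⟩ := hmapmem i v hv
    refine ⟨(D i).subtype.lTensor _ y, ?_⟩
    rw [← LinearMap.comp_apply, LinearMap.rTensor_comp_lTensor]
    exact hy
  · intro i
    rw [Submodule.disjoint_def]
    intro v hv hv'
    have h1 : e i v = v := by rw [e_fix i i v hv, if_pos rfl]
    have h0 : (⨆ j, ⨆ (_ : j ≠ i), Vi j) ≤ LinearMap.ker (e i) :=
      iSup₂_le fun j hj w hw => by rw [LinearMap.mem_ker, e_fix i j w hw, if_neg (Ne.symm hj)]
    rw [← h1]
    exact h0 hv'
  · rw [eq_top_iff]
    intro v _
    have key : ∀ y : TensorProduct R V C, ∃ s : Finset ι, ∀ t, s ⊆ t →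
        Comod33.rc (CoalgebraStruct.counit (R := R)) y = ∑ i ∈ t, Comod33.rc (f i) y := by
      intro y
      induction y with
      | zero => exact ⟨∅, fun t _ => by simp⟩
      | tmul a c =>
        refine ⟨(dec c).support, fun t ht => ?_⟩
        have hc : c = ∑ i ∈ t, p i c := by
          conv_lhs => rw [← dec.symm_apply_apply c]
          rw [← DirectSum.sum_support_of (dec c), map_sum]
          rw [Finset.sum_subset ht (fun i _ hi => by
            rw [DFinsupp.notMem_support_iff.1 hi, map_zero, map_zero])]
          refine Finset.sum_congr rfl fun i _ => ?_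
          simp [dec, p, DirectSum.coeLinearMap_of]
          rfl
        rw [Comod33.rc_tmul]
        conv_lhs => rw [hc, map_sum, Finset.sum_smul]
        exact Finset.sum_congr rfl fun i _ => by simp [f]
      | add a b ha hb =>
        obtain ⟨s, hs⟩ := ha
        obtain ⟨s', hs'⟩ := hb
        refine ⟨s ∪ s', fun t ht => ?_⟩
        simp only [map_add, Finset.sum_add_distrib]
        rw [hs t (Finset.union_subset_left ht), hs' t (Finset.union_subset_right ht)]
    obtain ⟨s, hs⟩ := key (ρ v)
    have := hs s subset_rfl
    rw [show Comod33.rc (CoalgebraStruct.counit (R := R)) (ρ v) = v from Comod33.dact_counit v] at this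
    rw [this]
    exact Submodule.sum_mem _ fun i _ => Submodule.mem_iSup_of_mem i (e_mem i v)

end Groth.Agent.S14844
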