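import Groth.Statements.S14846
import Mathlib.FieldTheory.Galois.Infinite
import Mathlib.RingTheory.TwoSidedIdeal.Operations
import Mathlib.LinearAlgebra.TensorProduct.Basis
import Mathlib.RingTheory.TensorProduct.Free

set_option autoImplicit false
universe u v w
open Brauer

namespace Groth.Agent.S14846

open scoped TensorProduct

open TensorProduct in
/-- Let L/K be a Galois extension with group Γ = Aut_K(L), and A a K-algebra which is a simple ring. If
L ⊗_K A is semisimple, then Γ, acting on L ⊗_K A through the first tensor factor, permutes its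
simple components, i.e. its minimal nonzero two-sided ideals, transitively: any minimal two-sided
ideal is carried onto any other by some γ ⊗ id. -/
theorem result
    {K : Type u} {L : Type v} [Field K] [Field L] [Algebra K L] [IsGalois K L]
    {A : Type w} [Ring A] [Algebra K A] [IsSimpleRing A]
    [IsSemisimpleRing (L ⊗[K] A)]
    (I J : TwoSidedIdeal (L ⊗[K] A)) (hI : IsAtom I) (hJ : IsAtom J) :
    ∃ γ : L ≃ₐ[K] L, (J : Set (L ⊗[K] A)) =
      Algebra.TensorProduct.map (γ : L →ₐ[K] L) (AlgHom.id K A) '' (I : Set (L ⊗[K] A)) := by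
  classical
  let T := L ⊗[K] A
  let g : (L ≃ₐ[K] L) → (T ≃ₐ[K] T) := fun γ => Algebra.TensorProduct.congr γ AlgEquiv.refl
  have hg : ∀ γ c (a : A), g γ (c ⊗ₜ[K] a) = γ c ⊗ₜ[K] a := fun γ c a => rfl
  have hgmap : ∀ (γ : L ≃ₐ[K] L) (x : T),
      g γ x = Algebra.TensorProduct.map (γ : L →ₐ[K] L) (AlgHom.id K A) x := fun γ x => rfl
  have hgg : ∀ (γ δ : L ≃ₐ[K] L) (x : T), g γ (g δ x) = g (γ * δ) x := fun γ δ x => by
    induction x using TensorProduct.induction_on with
    | zero => simp only [map_zero]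
    | tmul c a => rfl
    | add p q hp hq => simp only [map_add, hp, hq]
  have hg1 : ∀ x : T, g 1 x = x := fun x => by
    induction x using TensorProduct.induction_on with
    | zero => simp only [map_zero]
    | tmul c a => rfl
    | add p q hp hq => simp only [map_add, hp, hq]
  by_contra hcon
  push Not at hcon
  -- the components are orthogonal
  have horth : ∀ γ, ∀ j ∈ J, ∀ i ∈ I, g γ j * i = 0 := by
    intro γ j hj i hi
    let J' : TwoSidedIdeal T := J.comap (g γ⁻¹).toRingEquiv.toRingHom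
    have hJ' : ∀ x, x ∈ J' ↔ g γ⁻¹ x ∈ J := fun x => TwoSidedIdeal.mem_comap _
    have hatom : IsAtom J' := by
      refine ⟨fun h => hJ.1 (le_antisymm (fun x hx => ?_) bot_le), fun M hM => ?_⟩
      · have : g γ x ∈ J' := by rw [hJ', hgg, inv_mul_cancel, hg1]; exact hx
        rw [h, TwoSidedIdeal.mem_bot] at this
        exact (TwoSidedIdeal.mem_bot _).2 ((g γ).injective (this.trans (map_zero _).symm))
      · let M' : TwoSidedIdeal T := M.comap (g γ).toRingEquiv.toRingHom
        have hM' : ∀ x, x ∈ M' ↔ g γ x ∈ M := fun x => TwoSidedIdeal.mem_comap _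
        have hlt : M' < J := by
          refine lt_of_le_of_ne (fun x hx => ?_) fun h => hM.ne (le_antisymm hM.le fun x hx => ?_)
          · have := (hJ' _).1 (hM.le ((hM' x).1 hx))
            rwa [hgg, inv_mul_cancel, hg1] at this
          · have h1 : g γ⁻¹ x ∈ M' := h ▸ (hJ' x).1 hx
            rwa [hM', hgg, mul_inv_cancel, hg1] at h1
        refine le_antisymm (fun x hx => ?_) bot_le
        have h1 : g γ⁻¹ x ∈ M' := by rw [hM', hgg, mul_inv_cancel, hg1]; exact hx
        rw [hJ.2 M' hlt, TwoSidedIdeal.mem_bot] at h1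
        exact (TwoSidedIdeal.mem_bot _).2 ((g γ⁻¹).injective (h1.trans (map_zero _).symm))
    have hne : J' ≠ I := fun h => hcon γ⁻¹ (Set.ext fun y => by
      constructor
      · intro hy
        refine ⟨g γ y, ?_, ?_⟩
        · show g γ y ∈ I
          rw [← h, hJ', hgg, inv_mul_cancel, hg1]; exact hy
        · rw [← hgmap, hgg, inv_mul_cancel, hg1]
      · rintro ⟨x, hx, rfl⟩
        show _ ∈ J
        rw [← hgmap, ← hJ', h]; exact hx)
    have hinf : J' ⊓ I = ⊥ := disjoint_iff.1 (hatom.disjoint_of_ne hI hne)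
    have hjmem : g γ j ∈ J' := by rw [hJ', hgg, inv_mul_cancel, hg1]; exact hj
    have hmem : g γ j * i ∈ J' ⊓ I :=
      (TwoSidedIdeal.mem_inf _).2 ⟨J'.mul_mem_right _ _ hjmem, I.mul_mem_left _ _ hi⟩
    rwa [hinf, TwoSidedIdeal.mem_bot] at hmem
  -- the common annihilator
  let S : Set T := {x | ∀ γ, ∀ j ∈ J, g γ j * x = 0}
  have hSmul : ∀ x ∈ S, ∀ r s : T, r * x * s ∈ S := fun x hx r s γ j hj => by
    have h1 : g γ j * r = g γ (j * g γ⁻¹ r) := by
      rw [map_mul, hgg, mul_inv_cancel, hg1]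
    rw [← mul_assoc, ← mul_assoc, h1, hx γ _ (J.mul_mem_right _ _ hj), zero_mul]
  have hSsub : ∀ x ∈ S, ∀ y ∈ S, x - y ∈ S := fun x hx y hy γ j hj => by
    rw [mul_sub, hx γ j hj, hy γ j hj, sub_zero]
  have hSg : ∀ x ∈ S, ∀ δ, g δ x ∈ S := fun x hx δ γ j hj => by
    have h1 : g γ j = g δ (g (δ⁻¹ * γ) j) := by rw [hgg, mul_inv_cancel_left]
    rw [h1, ← map_mul, hx _ j hj, map_zero]
  obtain ⟨i, hi, hi0⟩ : ∃ i ∈ I, i ≠ 0 := by
    by_contra h
    push Not at h
    exact hI.1 (le_antisymm (fun x hx => (TwoSidedIdeal.mem_bot _).2 (h x hx)) bot_le)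
  let b := Module.Free.chooseBasis K A
  let bL := b.baseChange L
  have hcoeff : ∀ δ (x : T) o, bL.repr (g δ x) o = δ (bL.repr x o) := by
    intro δ x o
    induction x using TensorProduct.induction_on with
    | zero => simp
    | tmul c a => simp [bL, hg, Module.Basis.baseChange_repr_tmul, map_smul]
    | add p q hp hq => simp [hp, hq]
  let N : Set ℕ := {m | ∃ x ∈ S, x ≠ 0 ∧ (bL.repr x).support.card = m}
  have hN : N.Nonempty := ⟨_, i, fun γ j hj => horth γ j hj i hi, hi0, rfl⟩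
  obtain ⟨x, hxS, hx0, hxm⟩ := Nat.sInf_mem hN
  obtain ⟨o, ho⟩ : ∃ o, bL.repr x o ≠ 0 := by
    by_contra h
    push Not at h
    exact hx0 (bL.repr.injective (Finsupp.ext fun o => (h o).trans (by simp)))
  set x₁ : T := (bL.repr x o)⁻¹ • x with hx₁
  have hx₁S : x₁ ∈ S := by
    have := hSmul x hxS (algebraMap L T (bL.repr x o)⁻¹) 1
    rwa [mul_one, ← Algebra.smul_def] at this
  have hr₁ : ∀ p, bL.repr x₁ p = (bL.repr x o)⁻¹ * bL.repr x p := fun p => by simp [hx₁]
  have ho1 : bL.repr x₁ o = 1 := by rw [hr₁, inv_mul_cancel₀ ho]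
  have hfix : ∀ δ, g δ x₁ = x₁ := by
    intro δ
    by_contra hne
    have hlt : (bL.repr (g δ x₁ - x₁)).support.card < (bL.repr x).support.card := by
      refine Finset.card_lt_card ((Finset.ssubset_iff_of_subset fun p hp => ?_).2 ⟨o, ?_, ?_⟩)
      · rw [Finsupp.mem_support_iff] at hp ⊢
        intro h0
        apply hp
        simp [hcoeff, hr₁, h0]
      · simp [ho]
      · simp [hcoeff, ho1]
    exact absurd (Nat.sInf_le (s := N) ⟨_, hSsub _ (hSg _ hx₁S δ) _ hx₁S, sub_ne_zero.2 hne, rfl⟩)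
      (not_le.2 (hxm ▸ hlt))
  have hrange : ∀ p, bL.repr x₁ p ∈ Set.range (algebraMap K L) := fun p => by
    rw [InfiniteGalois.mem_range_algebraMap_iff_fixed]
    intro δ
    rw [← hcoeff, hfix]
  choose d hd using hrange
  let a : A := ∑ p ∈ (bL.repr x₁).support, d p • b p
  have hxa : x₁ = (1 : L) ⊗ₜ[K] a := by
    conv_lhs => rw [← bL.linearCombination_repr x₁]
    rw [Finsupp.linearCombination_apply, Finsupp.sum, TensorProduct.tmul_sum]
    refine Finset.sum_congr rfl fun p _ => ?_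
    rw [← hd p, algebraMap_smul, TensorProduct.tmul_smul]
    simp [bL]
  have ha : a ≠ 0 := by
    intro h
    rw [h, TensorProduct.tmul_zero] at hxa
    rw [hxa] at ho1
    simp at ho1
  let IA : TwoSidedIdeal A := TwoSidedIdeal.mk' {y : A | (1 : L) ⊗ₜ[K] y ∈ S}
    (fun γ j _ => by rw [TensorProduct.tmul_zero, mul_zero])
    (fun {p q} hp hq γ j hj => by rw [TensorProduct.tmul_add, mul_add, hp γ j hj, hq γ j hj, add_zero])
    (fun {p} hp γ j hj => by rw [TensorProduct.tmul_neg, mul_neg, hp γ j hj, neg_zero])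
    (fun {p q} hq => by
      have := hSmul _ hq ((1 : L) ⊗ₜ[K] p) 1
      show (1 : L) ⊗ₜ[K] (p * q) ∈ S
      rw [show (1 : L) ⊗ₜ[K] (p * q) = (1 ⊗ₜ[K] p : T) * (1 ⊗ₜ[K] q) by
        rw [Algebra.TensorProduct.tmul_mul_tmul, one_mul]]
      exact mul_one ((1 : L) ⊗ₜ[K] p * (1 : L) ⊗ₜ[K] q) ▸ this)
    (fun {p q} hp => by
      have := hSmul _ hp 1 ((1 : L) ⊗ₜ[K] q)
      show (1 : L) ⊗ₜ[K] (p * q) ∈ S
      rw [show (1 : L) ⊗ₜ[K] (p * q) = (1 ⊗ₜ[K] p : T) * (1 ⊗ₜ[K] q) by
        rw [Algebra.TensorProduct.tmul_mul_tmul, one_mul]]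
      rwa [one_mul] at this)
  have haI : a ∈ IA := by
    rw [TwoSidedIdeal.mem_mk']
    show (1 : L) ⊗ₜ[K] a ∈ S
    rw [← hxa]; exact hx₁S
  have h1 : (1 : A) ∈ IA := IsSimpleRing.one_mem_of_ne_zero_mem IA ha haI
  rw [TwoSidedIdeal.mem_mk'] at h1
  refine hJ.1 (le_antisymm (fun j hj => (TwoSidedIdeal.mem_bot _).2 ?_) bot_le)
  have := h1 1 j hj
  rwa [hg1, show (1 : L) ⊗ₜ[K] (1 : A) = 1 from rfl, mul_one] at this

end Groth.Agent.S14846
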