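import Groth.Statements.S14847
import Groth.Agent.Comod33.AvgSplit
import Groth.Agent.Comod33.Semisimple
import Mathlib.RingTheory.Trace.Basic
import Mathlib.LinearAlgebra.TensorProduct.Tower
import Mathlib.RingTheory.HopfAlgebra.Convolution
-- import your own Groth.Agent.* helpers here

set_option autoImplicit false
universe u v
open HopfRep

namespace Groth.Agent.S14847

open TensorProduct in
theorem trace_invariant {k : Type u} [Field k] {A : Type v} [CommRing A] [HopfAlgebra k A]
    [Module.Finite k A] (a : A) :
    (Algebra.trace k A).rTensor A (CoalgebraStruct.comul (R := k) a) =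
      Algebra.trace k A a ⊗ₜ[k] (1 : A) := by
  let Δ' : A →ₐ[k] A ⊗[k] A :=
    (Algebra.TensorProduct.comm k A A).toAlgHom.comp (Bialgebra.comulAlgHom k A)
  let β : A ⊗[k] A →ₐ[A] A ⊗[k] A :=
    Algebra.TensorProduct.lift (Algebra.ofId A (A ⊗[k] A)) Δ' fun _ _ => Commute.all _ _
  let δ : A →ₐ[k] A ⊗[k] A :=
    (Algebra.TensorProduct.map (HopfAlgebra.antipodeAlgHom k A) (AlgHom.id k A)).comp Δ'
  let F : A ⊗[k] (A ⊗[k] A) →ₗ[k] A ⊗[k] A :=
    (TensorProduct.comm k A A).toLinearMap ∘ₗ
      (LinearMap.mul' k A ∘ₗ (HopfAlgebraStruct.antipode (R := k) (A := A)).lTensor A).lTensor A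
  have hβδ : ∀ x, β (δ x) = (1 : A) ⊗ₜ[k] x := by
    intro x
    have h1 : ∀ t : A ⊗[k] A,
        β (Algebra.TensorProduct.map (HopfAlgebra.antipodeAlgHom k A) (AlgHom.id k A)
          (Algebra.TensorProduct.comm k A A t)) =
        F (TensorProduct.assoc k A A A ((CoalgebraStruct.comul (R := k) (A := A)).rTensor A t)) := by
      intro t
      induction t with
      | zero => simp
      | add p q hp hq => simp only [map_add, hp, hq]
      | tmul p q =>
        simp only [Algebra.TensorProduct.comm_tmul, Algebra.TensorProduct.map_tmul, AlgHom.id_apply,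
          HopfAlgebra.antipodeAlgHom_apply, β, Algebra.TensorProduct.lift_tmul,
          LinearMap.rTensor_tmul, Δ', AlgHom.comp_apply, Bialgebra.comulAlgHom_apply]
        generalize CoalgebraStruct.comul (R := k) p = z
        induction z with
        | zero => simp
        | add y z hy hz => simp only [map_add, mul_add, add_tmul, hy, hz]
        | tmul y z =>
          simp [F, Algebra.ofId_apply, Algebra.TensorProduct.algebraMap_apply, mul_comm]
    show β (Algebra.TensorProduct.map _ _ (Algebra.TensorProduct.comm k A A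
      (CoalgebraStruct.comul (R := k) x))) = _
    rw [h1, Coalgebra.coassoc_apply, ← LinearMap.comp_apply, LinearMap.comp_assoc,
      ← LinearMap.lTensor_comp, LinearMap.comp_assoc]
    have hμ : LinearMap.mul' k A ∘ₗ (HopfAlgebraStruct.antipode (R := k) (A := A)).lTensor A ∘ₗ
        CoalgebraStruct.comul = Algebra.linearMap k A ∘ₗ CoalgebraStruct.counit := by
      ext y
      simp [HopfAlgebra.mul_antipode_lTensor_comul_apply]
    rw [hμ, LinearMap.lTensor_comp, LinearMap.comp_apply, LinearMap.comp_apply,
      Coalgebra.lTensor_counit_comul]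
    simp
  have hsurj : Function.Surjective β := by
    intro t
    induction t with
    | zero => exact ⟨0, map_zero β⟩
    | add p q hp hq =>
      obtain ⟨u, rfl⟩ := hp
      obtain ⟨w, rfl⟩ := hq
      exact ⟨u + w, map_add β u w⟩
    | tmul p q => exact ⟨p • δ q, by rw [map_smul, hβδ, smul_tmul', smul_eq_mul, mul_one]⟩
  have hbij : Function.Bijective β :=
    ⟨(LinearMap.injective_iff_surjective (f := β.toLinearMap.restrictScalars k)).2 hsurj, hsurj⟩
  let e := AlgEquiv.ofBijective β hbij
  have ht : ∀ p q : A, Algebra.trace A (A ⊗[k] A) (p ⊗ₜ[k] q) = p * algebraMap k A (Algebra.trace k A q) := by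
    intro p q
    rw [show p ⊗ₜ[k] q = p • ((1 : A) ⊗ₜ[k] q) from by rw [smul_tmul', smul_eq_mul, mul_one],
      map_smul, smul_eq_mul]
    congr 1
    rw [Algebra.trace_apply, Algebra.trace_apply, ← LinearMap.trace_baseChange]
    congr 1
    ext u
    simp
  have key := Algebra.trace_eq_of_algEquiv e ((1 : A) ⊗ₜ[k] a)
  rw [ht, one_mul, show e ((1 : A) ⊗ₜ[k] a) = Δ' a from by
    show β ((1 : A) ⊗ₜ[k] a) = _
    simp only [β, Algebra.TensorProduct.lift_tmul, map_one, one_mul]] at key
  have hgen : ∀ t : A ⊗[k] A, Algebra.trace A (A ⊗[k] A) (Algebra.TensorProduct.comm k A A t) =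
      TensorProduct.lid k A ((Algebra.trace k A).rTensor A t) := by
    intro t
    induction t with
    | zero => simp
    | add p q hp hq => simp only [map_add, hp, hq]
    | tmul p q => simp [ht, Algebra.smul_def, mul_comm]
  have key' : Algebra.trace A (A ⊗[k] A) (Algebra.TensorProduct.comm k A A
      (CoalgebraStruct.comul (R := k) a)) = algebraMap k A (Algebra.trace k A a) := key
  rw [hgen] at key'
  apply (TensorProduct.lid k A).injective
  rw [key']
  simp [Algebra.algebraMap_eq_smul_one]

open TensorProduct in
/-- When K is a field of characteristic zero and G = Spec A is a finite group scheme over K, the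
coordinate Hopf algebra A is cosemisimple, i.e. A is the internal direct sum of simple
subcoalgebras. Here a subcoalgebra of A is a subspace B whose comultiplication lands in the image of
B ⊗ B, and a simple subcoalgebra is a nonzero subcoalgebra D whose only subcoalgebras contained in D
are 0 and D. -/
theorem result {K : Type u} {A : Type v} [Field K] [CharZero K]
    [CommRing A] [HopfAlgebra K A] [Module.Finite K A] :
    ∃ (ι : Type v) (D : ι → Submodule K A), iSupIndep D ∧ iSup D = ⊤ ∧ ∀ i,
        D i ≠ ⊥ ∧ (∀ b ∈ (D i), CoalgebraStruct.comul (R := K) b ∈ LinearMap.range (TensorProduct.map (D i).subtype (D i).subtype)) ∧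
        ∀ B : Submodule K A, B ≤ D i → (∀ b ∈ B, CoalgebraStruct.comul (R := K) b ∈ LinearMap.range (TensorProduct.map B.subtype B.subtype)) → B = ⊥ ∨ B = D i := by
  classical
  let α : A →ₗ[K] K := (Algebra.trace K A 1)⁻¹ • Algebra.trace K A
  haveI : Nontrivial A := ⟨⟨0, 1, fun h => by
    have := congrArg (CoalgebraStruct.counit (R := K)) h
    simp at this⟩⟩
  have h0 : Algebra.trace K A 1 ≠ 0 := by
    have := Algebra.trace_algebraMap (R := K) (S := A) (1 : K)
    rw [map_one] at this
    rw [this]
    simpa using (Module.finrank_pos (R := K) (M := A)).ne'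
  have h1 : α 1 = 1 := inv_mul_cancel₀ h0
  have hα : @Hoch.IsComodHom K _ A _ _ _ A _ _ _ K _ _ (HopfRep.Comod.trivial K A K) α := by
    refine LinearMap.ext fun a => ?_
    show α a ⊗ₜ[K] (1 : A) = α.rTensor A (CoalgebraStruct.comul (R := K) a)
    rw [LinearMap.rTensor_smul, LinearMap.smul_apply, LinearMap.smul_apply, trace_invariant, smul_tmul']
  have hss : HopfRep.IsSemisimpleComod K A A := fun W hW =>
    Comod33.Avg.exists_isCompl_of_integral α hα h1 A W hW (Submodule.exists_isCompl W)
  have := Comod33.isSemisimpleComod_iff.1 hss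
  exact Comod33.cosemisimple_of_isSemisimple (k := K) (A := A)

end Groth.Agent.S14847
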