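import Groth.Statements.S14848
import Mathlib
-- import your own Groth.Agent.* helpers here

set_option autoImplicit false
universe u v
open McKay

namespace Groth.Agent.S14848

/-- Let K be a field of characteristic zero, L an extension field of K and ξ ∈ L a primitive n-th root
of unity (n ≥ 1) with ξ + ξ⁻¹ ∈ K, say ξ + ξ⁻¹ = 2c with c ∈ K (the character of the natural
two-dimensional representation of the cyclic group of order n takes values in K). Then the cyclic
group of order n is realisable over K as a subgroup of SL(2, K): there is an element of SL(2, K) of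
order n. -/
theorem result {K : Type u} {L : Type v} [Field K] [Field L]
    [CharZero K] [Algebra K L] (n : ℕ) (hn : 1 ≤ n) (ξ : L) (hξ : IsPrimitiveRoot ξ n) (c : K)
    (hc : algebraMap K L (2 * c) = ξ + ξ⁻¹) :
    ∃ M : Matrix.SpecialLinearGroup (Fin 2) K, orderOf M = n := by
  classical
  rcases Nat.lt_or_ge n 3 with hn3 | hn3
  · interval_cases n
    · exact ⟨1, orderOf_one⟩
    · refine ⟨⟨-1, by simp [Matrix.det_neg]⟩, orderOf_eq_iff (by norm_num) |>.2 ⟨?_, fun r hr hr0 => ?_⟩⟩
      · exact Subtype.ext ((Matrix.SpecialLinearGroup.coe_pow _ _).trans (by simp))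
      · obtain rfl : r = 1 := by omega
        intro h
        replace h := (pow_one _).symm.trans h
        have := congrFun (congrFun (congrArg Subtype.val h) 0) 0
        simp at this
        exact two_ne_zero (α := K) (by linear_combination -this)
  have hξ0 : ξ ≠ 0 := hξ.ne_zero (by omega)
  let M0 : Matrix (Fin 2) (Fin 2) K := !![0, -1; 1, 2 * c]
  let a : ℕ → K × K := fun k => Nat.rec ((0 : K), (1 : K)) (fun _ p => (2 * c * p.1 + p.2, -p.1)) k
  have hM : ∀ k, M0 ^ k = (a k).1 • M0 + (a k).2 • 1 := by
    intro k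
    induction k with
    | zero => simp [a]
    | succ k ih =>
      rw [pow_succ, ih]
      ext i j
      fin_cases i <;> fin_cases j <;> simp [a, M0, Matrix.add_mul, Matrix.mul_apply, Fin.sum_univ_two] <;> ring
  have hξk : ∀ (z : L), z * z = algebraMap K L (2 * c) * z - 1 → ∀ k,
      z ^ k = algebraMap K L (a k).1 * z + algebraMap K L (a k).2 := by
    intro z hz k
    induction k with
    | zero => simp [a]
    | succ k ih =>
      rw [pow_succ, ih]
      simp only [a, map_add, map_mul, map_neg]
      simp only [map_mul] at hz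
      linear_combination algebraMap K L (a k).1 * hz
  have h1 : ξ * ξ = algebraMap K L (2 * c) * ξ - 1 := by rw [hc]; field_simp; ring
  have h2 : ξ⁻¹ * ξ⁻¹ = algebraMap K L (2 * c) * ξ⁻¹ - 1 := by rw [hc]; field_simp; ring
  have hne : ξ - ξ⁻¹ ≠ 0 := by
    intro h0
    have h3 : ξ ^ 2 = 1 := by
      rw [sub_eq_zero] at h0
      nth_rewrite 1 [sq, h0]
      exact inv_mul_cancel₀ hξ0
    exact absurd (Nat.le_of_dvd two_pos (hξ.dvd_of_pow_eq_one 2 h3)) (by omega)
  let M : Matrix.SpecialLinearGroup (Fin 2) K := ⟨M0, by simp [M0, Matrix.det_fin_two]⟩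
  have hiff : ∀ k, M ^ k = 1 ↔ ξ ^ k = 1 := by
    intro k
    constructor
    · intro h
      have hk : M0 ^ k = 1 := (Matrix.SpecialLinearGroup.coe_pow M k).symm.trans (congrArg Subtype.val h)
      rw [hM] at hk
      have e1 := congrFun (congrFun hk 1) 0
      have e2 := congrFun (congrFun hk 0) 0
      simp [M0] at e1 e2
      rw [hξk ξ h1, e1, e2]; simp
    · intro h
      have hi : ξ⁻¹ ^ k = 1 := by rw [inv_pow, h, inv_one]
      have ea := hξk ξ h1 k
      have eb := hξk _ h2 k
      rw [h] at ea
      rw [hi] at eb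
      have h0 : algebraMap K L (a k).1 * (ξ - ξ⁻¹) = 0 := by linear_combination eb - ea
      have ha0 : (a k).1 = 0 := by simpa [hne] using h0
      rw [ha0, map_zero, zero_mul, zero_add] at ea
      have hb0 : (a k).2 = 1 := (algebraMap K L).injective (by rw [← ea, map_one])
      refine Subtype.ext ?_
      show (M ^ k).1 = _
      rw [Matrix.SpecialLinearGroup.coe_pow]
      show M0 ^ k = 1
      rw [hM, ha0, hb0]; simp
  exact ⟨M, orderOf_eq_iff (by omega) |>.2 ⟨(hiff n).2 hξ.pow_eq_one, fun r hr hr0 h =>
    absurd (Nat.le_of_dvd hr0 (hξ.dvd_of_pow_eq_one r ((hiff r).1 h))) (by omega)⟩⟩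

end Groth.Agent.S14848
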