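import Groth.Statements.S1485
import Groth.Agent.FlatMor67.H1Fibre

set_option autoImplicit false
set_option backward.isDefEq.respectTransparency.types false
set_option maxHeartbeats 800000
universe u
open FlatMor

namespace Groth.Agent.S1485

open AlgebraicGeometry CategoryTheory Limits in
/-- Let f : X → Y be proper and y a point with fibre of dimension ≤ 1. Suppose there is a morphism g :
Y' → Y whose image contains y such that, for the base change f' : X' → Y', H^1 of the structure
sheaf vanishes over the preimage of every affine open of Y' (that is, R^1 f'_* O = 0; taking g the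
identity covers the case R^1 f_* O_X = 0). Then H^1(X_y, O_{X_y}) = 0. -/
theorem result {X Y Y' : Scheme.{u}} (f : X ⟶ Y) [IsProper f] (y : Y) (hdim : topologicalKrullDim ↑(f.fiber y) ≤ 1)
    (g : Y' ⟶ Y) (hy : y ∈ Set.range ⇑g)
    (hR1 : ∀ U : Y'.Opens, IsAffineOpen U → Subsingleton (Coh.HHon (pullback f g) (Coh.structureModule (pullback f g)) (pullback.snd f g ⁻¹ᵁ U) 1)) :
    Subsingleton (Coh.HH (f.fiber y) (Coh.structureModule (f.fiber y)) 1) := by
  obtain ⟨y', rfl⟩ := hy
  obtain ⟨U, hyU, hU⟩ := Lim60.exists_open_fibre_dim_le f (g y') (d := 1) (by exact_mod_cast hdim)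
  obtain ⟨W, hW, hyW, hWU⟩ := exists_isAffineOpen_mem_and_subset (X := Y') (x := y') (U := g ⁻¹ᵁ U) hyU
  haveI : IsAffine W.toScheme := hW
  let f' := pullback.snd f g
  let q := (f' ∣_ W) ≫ hW.isoSpec.hom
  have hsq : IsPullback (f' ⁻¹ᵁ W).ι q f' hW.fromSpec :=
    (isPullback_morphismRestrict f' W).flip.of_iso (Iso.refl _) (Iso.refl _) hW.isoSpec (Iso.refl _)
      (by simp) (by simp [q]) (by simp) (by rw [Iso.refl_hom, Category.comp_id]; exact hW.isoSpec_hom_fromSpec.symm)
  have hsq' : IsPullback ((f' ⁻¹ᵁ W).ι ≫ pullback.fst f g) q f (hW.fromSpec ≫ g) :=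
    hsq.paste_horiz (IsPullback.of_hasPullback f g)
  haveI : IsProper q := MorphismProperty.of_isPullback hsq' inferInstance
  have hd : ∀ z, topologicalKrullDim ↥(q.fiber z) ≤ (1 : ℕ) := fun z => Lim60.dim_fiber_le_of_isPullback hsq' z
    (hU _ (by rw [Scheme.Hom.comp_apply]; exact hWU (hW.range_fromSpec.le (Set.mem_range_self z))))
  have h1 : Subsingleton (Coh.HH (f' ⁻¹ᵁ W).toScheme (Coh.structureModule (f' ⁻¹ᵁ W).toScheme) 1) :=
    ValVan29.subsingleton_hh_of_iso ((Scheme.Modules.restrictFunctorIsoPullback (f' ⁻¹ᵁ W).ι).app _ ≪≫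
      PicLoc.pullbackStructureIso (f' ⁻¹ᵁ W).ι) 1 (hR1 W hW)
  obtain ⟨p, hp⟩ : y' ∈ Set.range hW.fromSpec := by rw [hW.range_fromSpec]; exact hyW
  let t := Spec.map (CommRingCat.ofHom (algebraMap Γ(Y', W) p.asIdeal.ResidueField))
  have sq := (IsPullback.of_hasPullback q t).paste_horiz hsq'
  refine FlatMor67.H1Fibre.subsingleton_fibre_of_field f (t ≫ hW.fromSpec ≫ g) (g y') ?_
    (FlatMor67.H1Fibre.subsingleton_of_iso sq.isoPullback.symm 1 (FlatMor67.H1Fibre.subsingleton_point q hd h1 p))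
  rw [Scheme.Hom.comp_apply, Scheme.Hom.comp_apply, show t (IsLocalRing.closedPoint _) = p from ?_, hp]
  refine PrimeSpectrum.ext ?_
  show Ideal.comap (algebraMap Γ(Y', W) p.asIdeal.ResidueField) (IsLocalRing.maximalIdeal _) = p.asIdeal
  rw [IsLocalRing.maximalIdeal_eq_bot]
  exact Ideal.ker_algebraMap_residueField _

end Groth.Agent.S1485
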