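import Groth.Statements.S14850
import Groth.Agent.Comod33.Semisimple
-- import your own Groth.Agent.* helpers here

set_option autoImplicit false
universe u v
open HopfRep
open scoped Groth.Agent.Comod33

namespace Groth.Agent.S14850

open TensorProduct in
/-- Over a field K, a nonzero coalgebra C is simple if and only if C is isotypic as a right comodule
over itself, i.e. C is the internal direct sum of the images of a family of injective comodule maps
from one simple right C-comodule E. Here a subcoalgebra of C is a subspace B whose comultiplication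
lands in the image of B ⊗ B, and C is simple when its only subcoalgebras are 0 and C. (Stated for
the right regular comodule; the published statement allows left or right.) -/
theorem result {K : Type u} {C : Type v} [Field K] [AddCommGroup C]
    [Module K C] [Coalgebra K C] [Nontrivial C] :
    (∀ B : Submodule K C, (∀ b ∈ B, CoalgebraStruct.comul (R := K) b ∈ LinearMap.range (TensorProduct.map B.subtype B.subtype)) → B = ⊥ ∨ B = ⊤) ↔
    ∃ (E : Type v) (_ : AddCommGroup E) (_ : Module K E) (_ : HopfRep.Comod K C E),
      HopfRep.IsSimpleComod K C E ∧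
      ∃ (ι : Type v) (f : ι → (E →ₗ[K] C)),
        (∀ i, Hoch.IsComodHom C (f i) ∧ Function.Injective (f i)) ∧
        iSupIndep (fun i => LinearMap.range (f i)) ∧ (⨆ i, LinearMap.range (f i)) = ⊤ := by
  constructor
  · intro h
    have hss : IsSemisimpleModule (WithConv (C →ₗ[K] K)) C :=
      Comod33.isSemisimple_regular_of_cosemisimple (fun _ : PUnit.{1} => (⊤ : Submodule K C))
        (by simp [iSup_const]) (fun _ => ⟨top_ne_bot, fun b _ => by
          refine ⟨TensorProduct.map (Submodule.topEquiv.symm.toLinearMap) (Submodule.topEquiv.symm.toLinearMap)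
            (CoalgebraStruct.comul (R := K) b), ?_⟩
          rw [← LinearMap.comp_apply, ← TensorProduct.map_comp]
          have e : (⊤ : Submodule K C).subtype ∘ₗ (Submodule.topEquiv (R := K) (M := C)).symm.toLinearMap =
            LinearMap.id := LinearMap.ext fun _ => rfl
          rw [e, TensorProduct.map_id, LinearMap.id_apply],
          fun B _ hB => h B hB⟩)
    obtain ⟨S, hS, -⟩ := Comod33.exists_sub_simple (⊤ : Submodule (WithConv (C →ₗ[K] K)) C) (by simp)
    letI := Comod33.subComod S
    let E := ↥(S.restrictScalars K)
    have hsimp := Comod33.isSimpleComod_subComod S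
    refine ⟨E, inferInstance, inferInstance, Comod33.subComod S, hsimp, ?_⟩
    have := hsimp.1
    have hc : Comod33.coeff K C E = ⊤ :=
      (h _ Comod33.isSubcoalg_coeff).resolve_left Comod33.coeff_ne_bot
    obtain ⟨s, hind, htop, hsim⟩ := IsSemisimpleModule.exists_sSupIndep_sSup_simples_eq_top
      (R := WithConv (C →ₗ[K] K)) (M := C)
    have he : ∀ m : s, Nonempty (E ≃ₗ[WithConv (C →ₗ[K] K)] m.1) := fun m => by
      have := hsim m.1 m.2
      obtain ⟨e⟩ := Comod33.nonempty_equiv_of_le_coeff hsimp m.1 (by rw [hc]; exact le_top)
      exact ⟨e.symm⟩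
    let e := fun m => (he m).some
    refine ⟨s, fun m => (m.1.subtype ∘ₗ (e m).toLinearMap).restrictScalars K, fun m =>
      ⟨Comod33.isComodHom_restrictScalars _, (Submodule.injective_subtype _).comp (e m).injective⟩, ?_, ?_⟩
    · have hr : ∀ m : s, LinearMap.range ((m.1.subtype ∘ₗ (e m).toLinearMap).restrictScalars K) =
          m.1.restrictScalars K := fun m => by
        ext x
        exact ⟨fun ⟨y, hy⟩ => hy ▸ (e m y).2, fun hx => ⟨(e m).symm ⟨x, hx⟩, by simp⟩⟩
      simp only [hr]
      exact Comod33.iSupIndep_restrictScalars ((sSupIndep_iff _).1 hind)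
    · have hr : ∀ m : s, LinearMap.range ((m.1.subtype ∘ₗ (e m).toLinearMap).restrictScalars K) =
          m.1.restrictScalars K := fun m => by
        ext x
        exact ⟨fun ⟨y, hy⟩ => hy ▸ (e m y).2, fun hx => ⟨(e m).symm ⟨x, hx⟩, by simp⟩⟩
      simp only [hr]
      rw [Comod33.iSup_restrictScalars, ← sSup_eq_iSup', htop, Submodule.restrictScalars_top]
  · rintro ⟨E, _, _, _, hE, ι, f, hf, -, htop⟩ B hB
    have hc : Comod33.coeff K C E = ⊤ := eq_top_iff.2 (htop ▸ iSup_le fun i => Comod33.range_le_coeff (hf i).1)
    have := Comod33.isSimple_coeff hE B (hc ▸ le_top) hB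
    rwa [hc] at this

end Groth.Agent.S14850
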