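import Groth.Statements.S14851
import Groth.Agent.Comod33.Structure
-- import your own Groth.Agent.* helpers here

set_option autoImplicit false
universe u v w w'
open HopfRep
open scoped Groth.Agent.Comod33

namespace Groth.Agent.S14851

open TensorProduct in
/-- The map E ↦ C(E) from isomorphism classes of simple comodules to simple subcoalgebras is injective,
that is: over a field K, two simple right comodules E, E' over a coalgebra C with the same
coefficient space D (the least subspace D' of C such that the coaction lands in E ⊗ D', resp. E' ⊗
D') are isomorphic as comodules. (The published statement is made for a cosemisimple coalgebra and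
for left comodules; the printed argument for this part uses neither restriction.) -/
theorem result {K : Type u} {C : Type v} [Field K]
    [AddCommGroup C] [Module K C] [Coalgebra K C]
    {E : Type w} [AddCommGroup E] [Module K E] [HopfRep.Comod K C E]
    {E' : Type w'} [AddCommGroup E'] [Module K E'] [HopfRep.Comod K C E']
    (hE : HopfRep.IsSimpleComod K C E) (hE' : HopfRep.IsSimpleComod K C E') (D : Submodule K C)
    (hD : IsLeast {D' : Submodule K C |
      ∀ e : E, HopfRep.Comod.coact (k := K) (A := C) e ∈ LinearMap.range (LinearMap.lTensor E D'.subtype)} D)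
    (hD' : IsLeast {D' : Submodule K C |
      ∀ e : E', HopfRep.Comod.coact (k := K) (A := C) e ∈ LinearMap.range (LinearMap.lTensor E' D'.subtype)} D) :
    ∃ e : E ≃ₗ[K] E', Hoch.IsComodHom C e.toLinearMap := by
  have e1 := Comod33.eq_coeff_of_isLeast hD
  have e2 := Comod33.eq_coeff_of_isLeast hD'
  have := hE.1
  obtain ⟨v, hv⟩ := exists_ne (0 : E)
  obtain ⟨φ, hφ⟩ := Comod33.exists_cf_ne_zero (k := K) (A := C) hv
  have := Comod33.isSimpleComod_iff.1 hE
  let f := Comod33.toDualLinear (A := C) _ (Comod33.isComodHom_cf (A := C) φ)
  have hinj : Function.Injective f :=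
    LinearMap.injective_of_ne_zero (fun h => hφ (LinearMap.congr_fun h v))
  have hle : (LinearMap.range f).restrictScalars K ≤ Comod33.coeff K C E' := by
    rw [← e2, e1]
    rintro _ ⟨x, rfl⟩
    exact Comod33.cf_mem_coeff φ x
  have : IsSimpleModule (WithConv (C →ₗ[K] K)) (LinearMap.range f) :=
    IsSimpleModule.congr (LinearEquiv.ofInjective f hinj).symm
  obtain ⟨e⟩ := Comod33.nonempty_equiv_of_le_coeff hE' (LinearMap.range f) hle
  exact Comod33.exists_comodIso_iff.2 ⟨(LinearEquiv.ofInjective f hinj).trans e⟩

end Groth.Agent.S14851
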