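import Groth.Statements.S14852
import Groth.Agent.Comod33.Coeff
-- import your own Groth.Agent.* helpers here

set_option autoImplicit false
universe u v w w'
open HopfRep
open scoped Groth.Agent.Comod33

namespace Groth.Agent.S14852

open TensorProduct in
/-- Over a field K, let C be a cosemisimple coalgebra and D₁ ≠ D₂ simple subcoalgebras of C. If V is a
right C-comodule whose coaction lands in V ⊗ D₁ and W one whose coaction lands in W ⊗ D₂, then the
only comodule map V → W is zero. Here a subcoalgebra of C is a subspace B whose comultiplication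
lands in the image of B ⊗ B, and a simple subcoalgebra is a nonzero subcoalgebra D whose only
subcoalgebras contained in D are 0 and D; cosemisimple means C is the internal direct sum of a
family of simple subcoalgebras. (The published statement is for quasi-coherent G-sheaves on a scheme
with trivial action of G = Spec C; this row is the statement on spaces of sections to which its
proof reduces.) -/
theorem result {K : Type u} {C : Type v} [Field K]
    [AddCommGroup C] [Module K C] [Coalgebra K C]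
    (hC : ∃ (ι : Type v) (D : ι → Submodule K C), iSupIndep D ∧ iSup D = ⊤ ∧ ∀ i,
        D i ≠ ⊥ ∧ (∀ b ∈ (D i), CoalgebraStruct.comul (R := K) b ∈ LinearMap.range (TensorProduct.map (D i).subtype (D i).subtype)) ∧
        ∀ B : Submodule K C, B ≤ D i → (∀ b ∈ B, CoalgebraStruct.comul (R := K) b ∈ LinearMap.range (TensorProduct.map B.subtype B.subtype)) → B = ⊥ ∨ B = D i)
    (D₁ D₂ : Submodule K C) (hne : D₁ ≠ D₂)
    (h₁ : D₁ ≠ ⊥ ∧ (∀ b ∈ D₁, CoalgebraStruct.comul (R := K) b ∈ LinearMap.range (TensorProduct.map D₁.subtype D₁.subtype)) ∧ ∀ B : Submodule K C, B ≤ D₁ → (∀ b ∈ B, CoalgebraStruct.comul (R := K) b ∈ LinearMap.range (TensorProduct.map B.subtype B.subtype)) → B = ⊥ ∨ B = D₁)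
    (h₂ : D₂ ≠ ⊥ ∧ (∀ b ∈ D₂, CoalgebraStruct.comul (R := K) b ∈ LinearMap.range (TensorProduct.map D₂.subtype D₂.subtype)) ∧ ∀ B : Submodule K C, B ≤ D₂ → (∀ b ∈ B, CoalgebraStruct.comul (R := K) b ∈ LinearMap.range (TensorProduct.map B.subtype B.subtype)) → B = ⊥ ∨ B = D₂)
    {V : Type w} [AddCommGroup V] [Module K V] [HopfRep.Comod K C V]
    {W : Type w'} [AddCommGroup W] [Module K W] [HopfRep.Comod K C W]
    (hV : ∀ v : V, HopfRep.Comod.coact (k := K) (A := C) v ∈ LinearMap.range (LinearMap.lTensor V D₁.subtype))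
    (hW : ∀ w : W, HopfRep.Comod.coact (k := K) (A := C) w ∈ LinearMap.range (LinearMap.lTensor W D₂.subtype))
    (φ : V →ₗ[K] W) (hφ : Hoch.IsComodHom C φ) : φ = 0 := by
  ext v
  simp only [LinearMap.zero_apply]
  refine (Module.forall_dual_apply_eq_zero_iff K (φ v)).1 fun χ => ?_
  have e := Comod33.cf_comp (A := C) hφ χ v
  have m2 : Comod33.cf (A := C) χ (φ v) ∈ D₂ := (Comod33.mem_range_lTensor_iff D₂ _).1 (hW _) χ
  have m1 : Comod33.cf (A := C) (χ ∘ₗ φ) v ∈ D₁ := (Comod33.mem_range_lTensor_iff D₁ _).1 (hV _) _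
  have hinf : D₁ ⊓ D₂ = ⊥ := by
    have hsub : Comod33.IsSubcoalg (D₁ ⊓ D₂) := by
      intro b hb
      have hr := Comod33.isSubcomod_inf (Comod33.IsSubcoalg.isSubcomod (k := K) h₁.2.1)
        (Comod33.IsSubcoalg.isSubcomod (k := K) h₂.2.1)
      refine Comod33.mem_range_map_subtype (hr b hb) ?_
      rw [Comod33.mem_range_lTensor_iff]
      exact fun ψ =>
        ⟨(Comod33.mem_range_lTensor_iff D₁ _).1 (Comod33.range_map_subtype_le_left _ _ (h₁.2.1 b hb.1)) ψ,
          (Comod33.mem_range_lTensor_iff D₂ _).1 (Comod33.range_map_subtype_le_left _ _ (h₂.2.1 b hb.2)) ψ⟩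
    rcases h₁.2.2 _ inf_le_left hsub with h | h
    · exact h
    rcases h₂.2.2 _ inf_le_right hsub with h' | h'
    · exact h'
    exact absurd (h.symm.trans h') hne
  have hmem : Comod33.cf (A := C) χ (φ v) ∈ D₁ ⊓ D₂ := ⟨e ▸ m1, m2⟩
  rw [hinf, Submodule.mem_bot] at hmem
  rw [← Comod33.counit_cf (A := C) χ (φ v), hmem, map_zero]

end Groth.Agent.S14852
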