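import Groth.Statements.S14854
import Groth.Agent.Grass5.HilbProj

set_option autoImplicit false
open CategoryTheory CategoryTheory.Limits AlgebraicGeometry
universe u
open HilbD

namespace Groth.Agent.S14854

/-- For a finite morphism f : X → S and d ≥ 0, the Hilbert functor of d points of X over S is
representable by a projective S-scheme: there are an S-scheme H, projective over S in the sense of
being a Proj of a quasi-coherent graded algebra generated in degree one with degree-one part of
finite type, and a universal family of closed subschemes of X ×_S T finite locally free of degree d
over T. -/
theorem result {X S : Scheme.{u}} (f : X ⟶ S) [IsFinite f] (d : ℕ) :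
    ∃ (H : Over S) (Z : HilbD.Obj f d H), HilbD.IsUniversal f d H Z ∧ RelProj.IsProjective H.hom := by
  exact Groth.Agent.Grass5.HilbProj.exists_projective f d


end Groth.Agent.S14854
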