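import Groth.Statements.S14855
import Groth.Agent.CAlg8.Witt
import Mathlib

set_option autoImplicit false
universe u
open CAlg

namespace Groth.Agent.S14855

open Groth.Agent.CAlg8

/-- Let p be a prime and R a commutative ring which is complete and separated for the p-adic topology.
Then the ring W(R) of p-typical Witt vectors of R is complete and separated for its own p-adic
topology, and it is also complete and separated for the adic topology of the ideal I_R, the kernel
of the projection of W(R) onto the zeroth Witt component. -/
theorem result (p : ℕ) [Fact p.Prime] (R : Type u) [CommRing R]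
    [IsAdicComplete (Ideal.span {(p : R)}) R] :
    IsAdicComplete (Ideal.span {(p : WittVector p R)}) (WittVector p R) ∧
      IsAdicComplete (RingHom.ker (WittVector.constantCoeff : WittVector p R →+* R)) (WittVector p R) := by
  refine ⟨Witt.isAdicComplete_of_pow_eq ⊤ 0 (fun m => by rw [add_zero, Ideal.span_singleton_pow, Ideal.mul_top])
      (fun x _ => Submodule.mem_top),
    Witt.isAdicComplete_of_pow_eq _ 1 Witt.ker_constantCoeff_pow_succ fun x hx => ?_⟩
  rw [RingHom.mem_ker]
  refine IsHausdorff.haus' (I := Ideal.span {(p : R)}) _ fun s => ?_
  rw [SModEq.zero, smul_eq_mul, Ideal.mul_top]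
  obtain ⟨y, hy, h⟩ := hx s
  have h0 := Witt.sub_mem_nbhd_iff.mp h 0 Nat.one_pos
  have hy0 : y.coeff 0 = 0 := hy
  rw [hy0, sub_zero] at h0
  exact h0

end Groth.Agent.S14855
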