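import Groth.Statements.S14856
import Groth.Agent.CAlg8.Witt
import Mathlib

set_option autoImplicit false
universe u
open CAlg

namespace Groth.Agent.S14856

open Groth.Agent.CAlg8

/-- Let p be a prime and S a commutative ring in which p is a non-zero-divisor. For a p-typical Witt
vector x over S, a natural number m and an integer s ≥ 1, the power p^s divides each of the Witt
components x_0, …, x_m if and only if p^(n+s) divides the n-th ghost component w_n(x) = x_0^(p^n) +
p x_1^(p^(n-1)) + ⋯ + p^n x_n for every n ≤ m. -/
theorem result (p : ℕ) [Fact p.Prime] (S : Type u) [CommRing S]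
    (hS : ∀ y : S, (p : S) * y = 0 → y = 0) (x : WittVector p S) (m s : ℕ) (hs : 1 ≤ s) :
    (∀ i ≤ m, (p : S) ^ s ∣ x.coeff i) ↔
      (∀ n ≤ m, (p : S) ^ (n + s) ∣ WittVector.ghostComponent n x) := by
  exact Witt.forall_dvd_coeff_iff hS x m hs

end Groth.Agent.S14856
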