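import Groth.Statements.S14857
import Groth.Agent.CAlg8.Witt
import Mathlib

set_option autoImplicit false
open CAlg

namespace Groth.Agent.S14857

open Groth.Agent.CAlg8

/-- For a prime p, the Teichmüller representative [p^p] of the element p^p of the p-adic integers is
divisible by p in the ring of p-typical Witt vectors W(ℤ_p). -/
theorem result (p : ℕ) [Fact p.Prime] :
    (p : WittVector p ℤ_[p]) ∣ WittVector.teichmuller p ((p : ℤ_[p]) ^ p) := by
  have hS : ∀ y : ℤ_[p], (p : ℤ_[p]) * y = 0 → y = 0 := fun y h =>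
    (mul_eq_zero.mp h).resolve_left (Nat.cast_ne_zero.mpr (Fact.out : p.Prime).ne_zero)
  have hle : ∀ n, n + 1 ≤ p * p ^ n - 1 := fun n => by
    have := Nat.lt_pow_self (n := n + 1) (Fact.out : p.Prime).one_lt
    rw [pow_succ'] at this
    omega
  obtain ⟨x, hx⟩ := Witt.exists_of_ghostComponent (p := p) (R := ℤ_[p]) (fun n => (p : ℤ_[p]) ^ (p * p ^ n - 1))
    (fun n => pow_dvd_pow _ (hle n))
  refine ⟨x, Witt.eq_of_ghostComponent_eq hS fun n => ?_⟩
  obtain ⟨k, hk⟩ : ∃ k, p * p ^ n = k + 1 := ⟨p * p ^ n - 1, by have := hle n; omega⟩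
  rw [map_mul, map_natCast, hx, WittVector.ghostComponent_teichmuller, ← pow_mul, hk, Nat.add_sub_cancel, pow_succ']

end Groth.Agent.S14857
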