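import Groth.Statements.S14860
import Mathlib
import Groth.Agent.CAlg8.Witt
import Groth.Agent.CAlg8.FiltLift
import Groth.Agent.CAlg8.WittFilt

set_option autoImplicit false
universe u v
open CAlg
open Groth.Agent.CAlg8 Groth.Agent.CAlg8.WittFilt Groth.Agent.CAlg8.FiltLift

namespace Groth.Agent.S14860

/-- Let p be a prime and R a commutative ring in which p is nilpotent; write W = W(R) for the p-typical
Witt vectors and, for n ≥ 0, I_n ⊆ W for the ideal of Witt vectors whose first n components vanish
(the kernel of the truncation W → W_n(R), so W/I_n = W_n(R)). For a W-module P conditions (i) and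
(ii) below are equivalent: (i) P is a projective W-module of finite type; (ii) P is separated for
the filtration by the submodules I_n P, and for every n the W_n(R)-module P/I_n P is finitely
generated and projective. (The published statement is made for every ℤ_(p)-algebra R, the section's
standing convention; over R = ℚ, where W(ℚ) ≅ ℚ^ℕ by the ghost map, the module ⊕_ℕ ℚ satisfies (ii)
but is not finitely generated, and the published proof uses that I_1 is nilpotent in each W_n(R),
which holds when p is nilpotent in R; so p is taken nilpotent here. The third equivalent condition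
of the published statement, freeness Zariski-locally on R, is not rendered.) -/
theorem result (p : ℕ) [Fact p.Prime] (R : Type u) [CommRing R]
    (hp : IsNilpotent (p : R))
    (P : Type v) [AddCommGroup P] [Module (WittVector p R) P] :
    (Module.Finite (WittVector p R) P ∧ Module.Projective (WittVector p R) P) ↔
      ((⨅ n : ℕ, (RingHom.ker (WittVector.truncate (p := p) (R := R) n) • (⊤ : Submodule (WittVector p R) P))) = ⊥ ∧
        ∀ n : ℕ, Module.Finite (WittVector p R ⧸ RingHom.ker (WittVector.truncate (p := p) (R := R) n))
              (P ⧸ (RingHom.ker (WittVector.truncate (p := p) (R := R) n) • (⊤ : Submodule (WittVector p R) P))) ∧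
            Module.Projective (WittVector p R ⧸ RingHom.ker (WittVector.truncate (p := p) (R := R) n))
              (P ⧸ (RingHom.ker (WittVector.truncate (p := p) (R := R) n) • (⊤ : Submodule (WittVector p R) P)))) := by
  constructor
  · rintro ⟨hf, hP⟩
    obtain ⟨N, q, hq⟩ := Module.Finite.exists_fin' (WittVector p R) P
    obtain ⟨s, hs⟩ := Module.projective_lifting_property q LinearMap.id hq
    refine ⟨eq_bot_iff.mpr fun z hz => ?_, fun n => ⟨?_, ?_⟩⟩
    · rw [Submodule.mem_iInf] at hz
      rw [Submodule.mem_bot, ← LinearMap.id_apply (R := WittVector p R) z, ← hs]
      refine (congrArg q (funext fun i => ?_)).trans (map_zero q)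
      exact eq_zero_of_forall_mem (iInf_ker_truncate R) fun n =>
        apply_mem_of_mem_smul_top _ (smul_top_le_comap _ s (hz n)) i
    · exact Module.Finite.of_restrictScalars_finite (WittVector p R) _ _
    · let J := RingHom.ker (WittVector.truncate (p := p) (R := R) n)
      let e := TensorProduct.quotTensorEquivQuotSMul P J
      let e' := LinearMap.extendScalarsOfSurjective (S := WittVector p R ⧸ J) Ideal.Quotient.mk_surjective e.toLinearMap
      exact Module.Projective.of_equiv (LinearEquiv.ofBijective e' e.bijective)
  · rintro ⟨hsep, hQ⟩
    exact finite_projective_of_quotients (I := fun n => RingHom.ker (WittVector.truncate (p := p) (R := R) n)) (hyp_mk hp) (exists_pow_le hp) P hsep hQ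

end Groth.Agent.S14860
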