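import Groth.Statements.S14869
import Mathlib

set_option autoImplicit false
universe u v w
open CAlg

namespace Groth.Agent.S14869

open TensorProduct in
/-- Let S → R be a surjective homomorphism of commutative rings, let π : P_1 → P_2 be a surjective
homomorphism of S-modules with P_2 projective, and let π̄ : R ⊗_S P_1 → R ⊗_S P_2 be its base
change. Then every R-linear section σ̄ of π̄ lifts to a section of π: there is an S-linear map σ :
P_2 → P_1 with π ∘ σ = id whose base change R ⊗_S σ is σ̄. -/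
theorem result (S R : Type u) [CommRing S] [CommRing R] [Algebra S R]
    (hSR : Function.Surjective (algebraMap S R))
    (P₁ : Type v) [AddCommGroup P₁] [Module S P₁]
    (P₂ : Type w) [AddCommGroup P₂] [Module S P₂] [Module.Projective S P₂]
    (π : P₁ →ₗ[S] P₂) (hπ : Function.Surjective π)
    (σ' : R ⊗[S] P₂ →ₗ[R] R ⊗[S] P₁) (hσ' : (π.baseChange R).comp σ' = LinearMap.id) :
    ∃ σ : P₂ →ₗ[S] P₁, π.comp σ = LinearMap.id ∧ σ.baseChange R = σ' := by
  let m₁ := TensorProduct.mk S R P₁ 1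
  let m₂ := TensorProduct.mk S R P₂ 1
  have hm₁ : Function.Surjective m₁ := TensorProduct.mk_surjective S P₁ R hSR
  obtain ⟨τ, hτ⟩ := Module.projective_lifting_property m₁ ((σ'.restrictScalars S) ∘ₗ m₂) hm₁
  have hd : ∀ x, m₂ (x - π (τ x)) = 0 := by
    intro x
    have h1 : m₁ (τ x) = σ' (m₂ x) := LinearMap.congr_fun hτ x
    have h2 : m₂ (π (τ x)) = π.baseChange R (m₁ (τ x)) := by simp [m₁, m₂]
    rw [map_sub, h2, h1, ← LinearMap.comp_apply, hσ', LinearMap.id_apply, sub_self]
  let δ : P₂ →ₗ[S] LinearMap.ker m₂ := (LinearMap.id - π ∘ₗ τ).codRestrict _ hd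
  let π' : LinearMap.ker m₁ →ₗ[S] LinearMap.ker m₂ := π.restrict fun x hx => by
    rw [LinearMap.mem_ker] at hx ⊢
    show (1 : R) ⊗ₜ[S] π x = 0
    have := congrArg (π.baseChange R) hx
    simpa [m₁] using this
  have hπ' : Function.Surjective π' := by
    rintro ⟨y, hy⟩
    obtain ⟨x, rfl⟩ := hπ y
    have h3 : π.lTensor R (m₁ x) = 0 := by simpa [m₁, m₂] using hy
    obtain ⟨z, hz⟩ := (lTensor_exact R (LinearMap.exact_subtype_ker_map π) hπ _).mp h3
    obtain ⟨k, rfl⟩ := TensorProduct.mk_surjective S (LinearMap.ker π) R hSR z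
    have hk : π k = 0 := k.2
    refine ⟨⟨x - k, ?_⟩, Subtype.ext ?_⟩
    · rw [LinearMap.mem_ker, map_sub, ← hz]; simp [m₁]
    · show π (x - k) = π x
      rw [map_sub, hk, sub_zero]
  obtain ⟨η, hη⟩ := Module.projective_lifting_property π' δ hπ'
  refine ⟨τ + (LinearMap.ker m₁).subtype ∘ₗ η, ?_, ?_⟩
  · ext x
    have h7 : π (η x) = x - π (τ x) := congrArg Subtype.val (LinearMap.congr_fun hη x)
    simp [h7]
  · ext x
    have h1 : m₁ (τ x) = σ' (m₂ x) := LinearMap.congr_fun hτ x
    have h2 : m₁ (η x : P₁) = 0 := (η x).2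
    simp only [m₁, m₂, TensorProduct.mk_apply] at h1 h2
    simp [TensorProduct.tmul_add, h1, h2]

end Groth.Agent.S14869
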