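import Groth.Statements.S14874
import Groth.Agent.PLie29.Basic

set_option autoImplicit false
universe u v
open PLie

namespace Groth.Agent.S14874

/-- Let `L` be a finite-dimensional Lie algebra over a field of characteristic `p` equipped with a
`p`-mapping `φ`. Let `N` be the nilradical of `L` (the ideal nilpotent as a Lie ring that contains
every such ideal) and `P` its `p`-radical (the largest ideal stable under `φ` all of whose elements
are `p`-nilpotent). Then `N = P` if and only if the centre of `L` is contained in `P`. -/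
theorem result
    (k : Type u) [Field k] (p : ℕ) [Fact p.Prime] [CharP k p]
    (L : Type v) [LieRing L] [LieAlgebra k L] [Module.Finite k L]
    (φ : PLie.PMap k p L)
    (N : LieIdeal k L) (hN : LieRing.IsNilpotent N)
    (hNmax : ∀ I : LieIdeal k L, LieRing.IsNilpotent I → I ≤ N)
    (P : LieIdeal k L) (hPsub : ∀ x ∈ P, φ x ∈ P) (hPnil : ∀ x ∈ P, PLie.IsPNilpotent φ x)
    (hPmax : ∀ J : LieIdeal k L, (∀ x ∈ J, φ x ∈ J) → (∀ x ∈ J, PLie.IsPNilpotent φ x) → J ≤ P) :
    N = P ↔ LieAlgebra.center k L ≤ P := by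
  have hPN : P ≤ N := hNmax P (Agent.PLie29.isNilpotent_of_forall_ad P fun x hx =>
    Agent.PLie29.isNilpotent_ad_of_isPNilpotent φ (hPnil x hx))
  refine ⟨fun h => h ▸ hNmax _ Agent.PLie29.center_isNilpotent, fun hc => le_antisymm ?_ hPN⟩
  refine hPmax N (fun x hx => Agent.PLie29.pmap_mem_nilradical φ N hN hNmax hx) fun x hx => ?_
  obtain ⟨m, hm⟩ := Agent.PLie29.isNilpotent_ad_of_mem (R := k) (p := p) N hN hx
  have hpm : m ≤ p ^ m := (Nat.lt_pow_self (Fact.out : p.Prime).one_lt).le
  have hcen : φ.toFun^[m] x ∈ LieAlgebra.center k L := by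
    rw [LieModule.mem_maxTrivSubmodule]
    intro z
    rw [← lie_skew, neg_eq_zero, ← LieAlgebra.ad_apply (R := k), Agent.PLie29.ad_iterate φ,
      pow_eq_zero_of_le hpm hm, LinearMap.zero_apply]
  obtain ⟨n, hn⟩ := hPnil _ (hc hcen)
  exact ⟨n + m, by rw [Function.iterate_add_apply, hn]⟩

end Groth.Agent.S14874
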