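import Groth.Statements.S14875
import Groth.Agent.PLie29.Basic
import Mathlib.Algebra.Lie.Engel
import Mathlib.LinearAlgebra.BilinearForm.Orthogonal
import Mathlib.RingTheory.Nilpotent.Lemmas
import Mathlib.LinearAlgebra.Trace

set_option autoImplicit false
universe u v
open PLie

namespace Groth.Agent.S14875

/-- Let `L` be a finite-dimensional Lie algebra over a field of characteristic `p` equipped with a
`p`-mapping `φ`, whose Killing form is non-degenerate. Let `U` and `H` be Lie subalgebras of `L`
such that `H` is the normaliser of `U`, `U` is the set of elements of `H` that lie in the solvable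
radical of `H` and are `p`-nilpotent, and the orthogonal of `U` for the Killing form is closed under
the bracket. Then `U` is the orthogonal of `H` for the Killing form. (The published statement is for
the Lie algebra of a reductive group over a field of characteristic `p` with its canonical
`p`-structure; this row states it for any finite-dimensional Lie algebra with a `p`-mapping.) -/
theorem result
    (k : Type u) [Field k] (p : ℕ) [Fact p.Prime] [CharP k p]
    (L : Type v) [LieRing L] [LieAlgebra k L] [Module.Finite k L]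
    (φ : PLie.PMap k p L) (hκ : (killingForm k L).Nondegenerate)
    (U H : LieSubalgebra k L) (hH : H = U.normalizer)
    (hU : ∀ x : L, x ∈ U ↔ ∃ hx : x ∈ H, (⟨x, hx⟩ : ↥H) ∈ LieAlgebra.radical k ↥H ∧ PLie.IsPNilpotent φ x)
    (hperp : ∀ a b : L, (∀ y ∈ U, killingForm k L a y = 0) → (∀ y ∈ U, killingForm k L b y = 0) →
      ∀ y ∈ U, killingForm k L ⁅a, b⁆ y = 0) :
    ∀ x : L, x ∈ U ↔ ∀ h ∈ H, killingForm k L h x = 0 := by
  have hle : U ≤ H := hH ▸ LieSubalgebra.le_normalizer (H := U)
  have hnil : ∀ u : ↥U, IsNilpotent (LieModule.toEnd k ↥U L u) := fun u => by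
    obtain ⟨_, _, hp⟩ := (hU u.1).1 u.2
    exact PLie29.isNilpotent_ad_of_isPNilpotent φ hp
  have : LieModule.IsNilpotent ↥U L := (LieModule.isNilpotent_iff_forall (R := k)).2 hnil
  obtain ⟨N, hN⟩ := LieModule.IsNilpotent.nilpotent k ↥U L
  have hmemH : ∀ {h : L}, h ∈ H → ∀ u ∈ U, ⁅h, u⁆ ∈ U := fun {h} hh u hu =>
    (LieSubalgebra.mem_normalizer_iff U h).1 (hH ▸ hh) u hu
  have hstab : ∀ h ∈ H, ∀ i : ℕ, ∀ m ∈ LieModule.lowerCentralSeries k ↥U L i,
      ⁅h, m⁆ ∈ LieModule.lowerCentralSeries k ↥U L i := by
    intro h hh i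
    induction i with
    | zero => simp
    | succ i ih =>
      intro m hm
      rw [LieModule.lowerCentralSeries_succ, ← LieSubmodule.mem_toSubmodule,
        LieSubmodule.lieIdeal_oper_eq_linear_span'] at hm ⊢
      induction hm using Submodule.span_induction with
      | mem z hz =>
        obtain ⟨u, -, v, hv, rfl⟩ := hz
        rw [LieSubalgebra.coe_bracket_of_module, leibniz_lie]
        exact add_mem (Submodule.subset_span ⟨⟨⁅h, (u : L)⁆, hmemH hh u u.2⟩, LieSubmodule.mem_top _, v, hv, rfl⟩)
          (Submodule.subset_span ⟨u, LieSubmodule.mem_top _, ⁅h, v⁆, ih v hv, rfl⟩)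
      | zero => simp
      | add a b _ _ ha hb => rw [lie_add]; exact add_mem ha hb
      | smul c a _ ha => rw [lie_smul]; exact Submodule.smul_mem _ c ha
  have hzero : ∀ h ∈ H, ∀ u ∈ U, killingForm k L h u = 0 := by
    intro h hh u hu
    rw [LieModule.traceForm_apply_apply]
    have hpow : ∀ (i : ℕ) (m : L), (((LieModule.toEnd k L L h) ∘ₗ (LieModule.toEnd k L L u)) ^ i) m ∈
        LieModule.lowerCentralSeries k ↥U L i := by
      intro i
      induction i with
      | zero => simp
      | succ i ih =>
        intro m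
        rw [pow_succ', Module.End.mul_apply]
        refine hstab h hh (i + 1) _ ?_
        rw [LieModule.lowerCentralSeries_succ]
        exact LieSubmodule.lie_mem_lie (LieSubmodule.mem_top (⟨u, hu⟩ : ↥U)) (ih m)
    have hn : IsNilpotent ((LieModule.toEnd k L L h) ∘ₗ (LieModule.toEnd k L L u)) :=
      ⟨N, LinearMap.ext fun m => by simpa [hN] using hpow N m⟩
    exact (LinearMap.isNilpotent_trace_of_isNilpotent hn).eq_zero
  have hrefl : (killingForm k L).IsRefl := (LieModule.traceForm_isSymm k L L).isRefl
  have hPH : ∀ a : L, (∀ y ∈ U, killingForm k L a y = 0) → a ∈ H := by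
    intro a ha
    rw [hH, LieSubalgebra.mem_normalizer_iff]
    intro u hu
    have hdd : (killingForm k L).orthogonal ((killingForm k L).orthogonal U.toSubmodule) = U.toSubmodule :=
      LinearMap.BilinForm.orthogonal_orthogonal hκ hrefl _
    rw [← LieSubalgebra.mem_toSubmodule, ← hdd]
    refine fun b hb => ?_
    have hb' : ∀ y ∈ U, killingForm k L b y = 0 := fun y hy => hrefl _ _ (hb y hy)
    show killingForm k L b ⁅a, u⁆ = 0
    have h2 : killingForm k L ⁅b, a⁆ u = 0 := hperp b a hb' ha u hu
    rwa [LieModule.traceForm_apply_lie_apply] at h2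
  intro x
  refine ⟨fun hx h hh => hzero h hh x hx, fun hx => ?_⟩
  have hdd : (killingForm k L).orthogonal ((killingForm k L).orthogonal U.toSubmodule) = U.toSubmodule :=
    LinearMap.BilinForm.orthogonal_orthogonal hκ hrefl _
  rw [← LieSubalgebra.mem_toSubmodule, ← hdd]
  exact fun b hb => hx b (hPH b fun y hy => hrefl _ _ (hb y hy))

end Groth.Agent.S14875
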