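import Groth.Statements.S14879
import Groth.Agent.AlgGrp79.Act

set_option autoImplicit false
universe u
open Finset
open AlgGrp

namespace Groth.Agent.S14879
open Groth.Agent.AlgGrp79 CategoryTheory.Limits
open scoped commutatorElement

/-- Let k be a field of characteristic zero, n = p + r with p, r ≥ 1, M an n × n matrix over k, A a set
of p row indices and B a set of r row indices, both listed increasingly. For a permutation π of the
indices, with permutation matrix P_π, let Y_A(M·P_π) be the minor of M·P_π on the rows A and the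
first p columns, and Z_B(M·P_π) the minor on the rows B and the last r columns. Then the sum over
all π of sign(π)·Y_A(M·P_π)·Z_B(M·P_π) equals p!·r!·(−1)^N·det M when B is the complement of A,
where N is the number of pairs (a, b) with a in A, b outside A and b < a, and equals 0 otherwise.
Taking det M = 1 this says that the pairing (f, h) ↦ Σ_π sign(π) f(π) h(π) between the spans of the
left p-minors and of the right r-minors is invariant under left translation by matrices of
determinant one and pairs Y_A with the signed complementary minor to p!·r!. (The published statement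
asserts that the two families of minors are dual bases for this pairing, that is, the value 1 in
place of p!·r!; the p!·r! permutations preserving the two column blocks each contribute the same
signed term, so this row carries that factor, which is 1 only for n = 2.) -/
theorem result (k : Type u) [Field k] [CharZero k]
    (p r : ℕ) (hp : 1 ≤ p) (hr : 1 ≤ r) (M : Matrix (Fin (p + r)) (Fin (p + r)) k)
    (A : Finset (Fin (p + r))) (hA : A.card = p) (B : Finset (Fin (p + r))) (hB : B.card = r) :
    ∑ π : Equiv.Perm (Fin (p + r)), (((Equiv.Perm.sign π : ℤˣ) : ℤ) : k) *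
      ((M * π.permMatrix k).submatrix (A.orderEmbOfFin hA) (Fin.castAdd r)).det *
      ((M * π.permMatrix k).submatrix (B.orderEmbOfFin hB) (Fin.natAdd p)).det =
    if B = Aᶜ then ((p.factorial * r.factorial : ℕ) : k) *
      (-1 : k) ^ ((A ×ˢ Aᶜ).filter (fun ab => ab.2 < ab.1)).card * M.det else 0 := by
  classical
  let e : Fin p ⊕ Fin r ≃ Fin (p + r) := finSumFinEquiv
  let a := A.orderEmbOfFin hA
  let b := B.orderEmbOfFin hB
  let c : Fin (p + r) → Fin (p + r) := fun x => Sum.elim a b (e.symm x)
  have hentry : ∀ (π : Equiv.Perm (Fin (p + r))) i j, (M * π.permMatrix k) i j = M i (π⁻¹ j) := by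
    intro π i j
    rw [Equiv.Perm.permMatrix, PEquiv.mul_toMatrix_toPEquiv]
    rfl
  let E : Equiv.Perm (Fin (p + r)) → k := fun π => (((Equiv.Perm.sign π : ℤˣ) : ℤ) : k)
  have hE : ∀ π σ, E (π * σ) = E π * E σ := fun π σ => by simp [E]
  let Φ : Equiv.Perm (Fin (p + r)) → k := fun π => E π * ∏ x, M (c x) (π x)
  have hmain : ∑ π : Equiv.Perm (Fin (p + r)), (((Equiv.Perm.sign π : ℤˣ) : ℤ) : k) *
      ((M * π.permMatrix k).submatrix (A.orderEmbOfFin hA) (Fin.castAdd r)).det *
      ((M * π.permMatrix k).submatrix (B.orderEmbOfFin hB) (Fin.natAdd p)).det =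
      ((p.factorial * r.factorial : ℕ) : k) * (M.submatrix c id).det := by
    rw [← Equiv.sum_comp (Equiv.inv (Equiv.Perm (Fin (p + r))))]
    let ρ : Equiv.Perm (Fin p) → Equiv.Perm (Fin r) → Equiv.Perm (Fin (p + r)) :=
      fun σ τ => e.permCongr (Equiv.Perm.sumCongr σ⁻¹ τ⁻¹)
    have hρ : ∀ σ τ, E (ρ σ τ) = (((Equiv.Perm.sign σ : ℤˣ) : ℤ) : k) * (((Equiv.Perm.sign τ : ℤˣ) : ℤ) : k) := fun σ τ => by
      simp [E, ρ, Equiv.Perm.sign_permCongr, Equiv.Perm.sign_sumCongr]
    have hterm : ∀ π : Equiv.Perm (Fin (p + r)), (((Equiv.Perm.sign π⁻¹ : ℤˣ) : ℤ) : k) *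
        ((M * (π⁻¹).permMatrix k).submatrix a (Fin.castAdd r)).det *
        ((M * (π⁻¹).permMatrix k).submatrix b (Fin.natAdd p)).det =
        ∑ σ : Equiv.Perm (Fin p), ∑ τ : Equiv.Perm (Fin r), Φ (π * ρ σ τ) := by
      intro π
      rw [Matrix.det_apply', Matrix.det_apply', _root_.mul_assoc, Finset.sum_mul_sum, Finset.mul_sum]
      refine Finset.sum_congr rfl fun σ _ => ?_
      rw [Finset.mul_sum]
      refine Finset.sum_congr rfl fun τ _ => ?_
      simp only [Φ, hE, hρ, Matrix.submatrix_apply, hentry, _root_.inv_inv, Equiv.Perm.sign_inv]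
      have hsplit : ∏ x, M (c x) ((π * ρ σ τ) x) =
          (∏ i, M (a i) (π (Fin.castAdd r (σ⁻¹ i)))) * ∏ j, M (b j) (π (Fin.natAdd p (τ⁻¹ j))) := by
        rw [← e.prod_comp, Fintype.prod_sum_type]
        congr 1 <;> refine Finset.prod_congr rfl fun i _ => ?_ <;> simp [c, ρ, e]
      have h1 : ∏ i, M (a i) (π (Fin.castAdd r (σ⁻¹ i))) = ∏ i, M (a (σ i)) (π (Fin.castAdd r i)) := by
        rw [← Equiv.prod_comp σ]; simp
      have h2 : ∏ j, M (b j) (π (Fin.natAdd p (τ⁻¹ j))) = ∏ j, M (b (τ j)) (π (Fin.natAdd p j)) := by
        rw [← Equiv.prod_comp τ]; simp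
      rw [hsplit, h1, h2]
      simp only [E]
      ring
    refine (Finset.sum_congr rfl fun π _ => hterm π).trans ?_
    rw [Finset.sum_comm]
    have hinner : ∀ σ : Equiv.Perm (Fin p), ∑ π, ∑ τ : Equiv.Perm (Fin r), Φ (π * ρ σ τ) =
        (r.factorial : k) * (M.submatrix c id).det := by
      intro σ
      rw [Finset.sum_comm]
      have : ∀ τ : Equiv.Perm (Fin r), ∑ π, Φ (π * ρ σ τ) = (M.submatrix c id).det := fun τ => by
        rw [show ∑ π, Φ (π * ρ σ τ) = ∑ π, Φ π from Equiv.sum_comp (Equiv.mulRight (ρ σ τ)) Φ,
          ← Matrix.det_transpose, Matrix.det_apply']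
        rfl
      simp only [this, Finset.sum_const, Finset.card_univ, Fintype.card_perm, Fintype.card_fin, nsmul_eq_mul]
    simp only [hinner, Finset.sum_const, Finset.card_univ, Fintype.card_perm, Fintype.card_fin, nsmul_eq_mul]
    push_cast
    ring
  rw [hmain]
  split_ifs with h
  · subst h
    have hc : Function.Injective c := by
      intro x y hxy
      apply e.symm.injective
      have hne : ∀ i j, a i ≠ b j := fun i j hij => Finset.mem_compl.1 (Finset.orderEmbOfFin_mem _ hB j)
        (hij ▸ Finset.orderEmbOfFin_mem _ hA i)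
      simp only [c] at hxy
      rcases hx : e.symm x with i | i <;> rcases hy : e.symm y with j | j <;> simp only [hx, hy, Sum.elim_inl, Sum.elim_inr] at hxy
      · rw [a.injective hxy]
      · exact absurd hxy (hne _ _)
      · exact absurd hxy.symm (hne _ _)
      · rw [b.injective hxy]
    let cσ := Equiv.ofBijective c (Finite.injective_iff_bijective.1 hc)
    have hcσ : E cσ = (-1 : k) ^ ((A ×ˢ Aᶜ).filter (fun ab => ab.2 < ab.1)).card := by
      simp only [E]
      rw [Equiv.Perm.sign_eq_prod_prod_Ioi]
      simp only [Units.coe_prod, Int.cast_prod, apply_ite Units.val, Units.val_one, Units.val_neg, apply_ite (Int.cast : ℤ → k),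
        Int.cast_one, Int.cast_neg]
      have hIoi : ∀ x : Fin (p + r), (∏ y ∈ Finset.Ioi x, if cσ x < cσ y then (1 : k) else -1) =
          ∏ y, if x < y then (if cσ x < cσ y then (1 : k) else -1) else 1 := fun x => by
        rw [← Finset.prod_filter]; congr 1; ext y; simp
      simp only [hIoi]
      rw [← e.prod_comp, Fintype.prod_sum_type]
      have hR : ∀ j : Fin r, (∏ y, if e (Sum.inr j) < y then (if cσ (e (Sum.inr j)) < cσ y then (1 : k) else -1) else 1) = 1 := by
        intro j
        rw [← e.prod_comp, Fintype.prod_sum_type]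
        have h1 : ∀ i : Fin p, ¬ (Fin.natAdd p j < Fin.castAdd r i) := fun i => by
          simp only [Fin.lt_def, Fin.coe_natAdd, Fin.coe_castAdd]; omega
        have h2 : ∀ j' : Fin r, (Fin.natAdd p j < Fin.natAdd p j') → b j < b j' := fun j' hj => b.strictMono (by
          simp only [Fin.lt_def, Fin.coe_natAdd] at hj ⊢; omega)
        simp only [cσ, c, e, finSumFinEquiv_apply_left, finSumFinEquiv_apply_right, Equiv.ofBijective_apply,
          finSumFinEquiv_symm_apply_castAdd, finSumFinEquiv_symm_apply_natAdd, Sum.elim_inl, Sum.elim_inr]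
        rw [Finset.prod_eq_one fun i _ => if_neg (h1 i), _root_.one_mul]
        refine Finset.prod_eq_one fun j' _ => ?_
        split_ifs with hlt hlt'
        · rfl
        · exact absurd (h2 j' hlt) hlt'
        · rfl
      rw [Finset.prod_eq_one (f := fun j : Fin r => _) fun j _ => hR j, _root_.mul_one]
      have hL : ∀ i : Fin p, (∏ y, if e (Sum.inl i) < y then (if cσ (e (Sum.inl i)) < cσ y then (1 : k) else -1) else 1) =
          ∏ j : Fin r, if a i < b j then (1 : k) else -1 := by
        intro i
        rw [← e.prod_comp, Fintype.prod_sum_type]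
        have h1 : ∀ j : Fin r, Fin.castAdd r i < Fin.natAdd p j := fun j => by
          simp only [Fin.lt_def, Fin.coe_natAdd, Fin.coe_castAdd]; omega
        simp only [cσ, c, e, finSumFinEquiv_apply_left, finSumFinEquiv_apply_right, Equiv.ofBijective_apply,
          finSumFinEquiv_symm_apply_castAdd, finSumFinEquiv_symm_apply_natAdd, Sum.elim_inl, Sum.elim_inr]
        rw [Finset.prod_eq_one (f := fun i' : Fin p => _) fun i' _ => ?_, _root_.one_mul]
        · exact Finset.prod_congr rfl fun j _ => if_pos (h1 j)
        · split_ifs with hlt hlt'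
          · rfl
          · exact absurd (a.strictMono (Fin.lt_def.2 (by exact Fin.lt_def.1 hlt))) hlt'
          · rfl
      simp only [hL]
      have hmapA : Finset.univ.map a.toEmbedding = A := Finset.map_orderEmbOfFin_univ A hA
      have hmapB : Finset.univ.map b.toEmbedding = Aᶜ := Finset.map_orderEmbOfFin_univ Aᶜ hB
      calc (∏ i, ∏ j, if a i < b j then (1 : k) else -1)
          = ∏ x ∈ A, ∏ y ∈ Aᶜ, if x < y then (1 : k) else -1 := by
            conv_rhs => rw [← hmapB, ← hmapA]
            simp [Finset.prod_map]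
        _ = ∏ xy ∈ A ×ˢ Aᶜ, if xy.2 < xy.1 then (-1 : k) else 1 := by
            rw [Finset.prod_product]
            refine Finset.prod_congr rfl fun x hx => Finset.prod_congr rfl fun y hy => ?_
            have hne : x ≠ y := fun h => Finset.mem_compl.1 hy (h ▸ hx)
            rcases lt_or_gt_of_ne hne with h | h
            · rw [if_pos h, if_neg (not_lt.2 h.le)]
            · rw [if_neg (not_lt.2 h.le), if_pos h]
        _ = _ := by
            rw [Finset.prod_ite, Finset.prod_const, Finset.prod_const_one, _root_.mul_one]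
    rw [← hcσ, _root_.mul_assoc]
    congr 1
    exact Matrix.det_permute cσ M
  · have hd : ¬ Disjoint A B := fun hd => h (Finset.eq_of_subset_of_card_le
      (fun x hx => Finset.mem_compl.2 fun hxA => Finset.disjoint_left.1 hd hxA hx)
      (by rw [Finset.card_compl, Fintype.card_fin, hA, hB]; omega))
    obtain ⟨x, hxA, hxB⟩ := Finset.not_disjoint_iff.1 hd
    obtain ⟨i, hi⟩ : ∃ i, a i = x := by
      have : x ∈ Set.range a := by rw [Finset.range_orderEmbOfFin]; exact hxA
      exact this
    obtain ⟨j, hj⟩ : ∃ j, b j = x := by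
      have : x ∈ Set.range b := by rw [Finset.range_orderEmbOfFin]; exact hxB
      exact this
    rw [Matrix.det_zero_of_row_eq (i := Fin.castAdd r i) (j := Fin.natAdd p j), mul_zero]
    · intro h
      have := congrArg Fin.val h
      simp at this
      omega
    · funext y
      simp [c, e, Matrix.submatrix_apply, hi, hj]
end Groth.Agent.S14879
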