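import Groth.Statements.S14885

set_option autoImplicit false
universe u v
open CategoryTheory TopologicalSpace Opposite AlgebraicGeometry Topology
open AlgGrp

namespace Groth.Agent.S14885
open CategoryTheory.Limits

/-- Let a group Γ act on a ringed space X (a topological space with a sheaf of rings) by automorphisms
τ_g, and let π : X → Y be a Γ-invariant morphism of ringed spaces which exhibits Y as the quotient
ringed space X/Γ: the underlying continuous map of π is a topological quotient map whose fibres are
exactly the Γ-orbits, and for every open subset V of Y the ring map O_Y(V) → O_X(π⁻¹V) is injective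
with image the sections s satisfying τ_g^♯(s) = s for all g. Then (Y, π) is a categorical quotient
for the action in the category of ringed spaces: every morphism of ringed spaces f : X → Z with f ∘
τ_g = f for all g (as morphisms of ringed spaces) factors uniquely as f = f̄ ∘ π. -/
theorem result (X Y : SheafedSpace CommRingCat.{u}) (Γ : Type v) [Group Γ]
    (τ : Γ →* Aut X) (π : X ⟶ Y) (hτ : ∀ g : Γ, (τ g).hom ≫ π = π)
    (h1 : IsQuotientMap π.hom.base)
    (h2 : ∀ x x' : X, π.hom.base x = π.hom.base x' ↔ ∃ g : Γ, (τ g).hom.hom.base x = x')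
    (h3 : ∀ V : Opens Y, Function.Injective (π.hom.c.app (op V)) ∧
      Set.range (π.hom.c.app (op V)) =
        {s | ∀ g : Γ, (τ g).hom.hom.c.app (op ((Opens.map π.hom.base).obj V)) s =
          X.presheaf.map (eqToHom (congrArg (fun f : X ⟶ Y => op ((Opens.map f.hom.base).obj V)) (hτ g).symm)) s})
    (Z : SheafedSpace CommRingCat.{u}) (f : X ⟶ Z) (hf : ∀ g : Γ, (τ g).hom ≫ f = f) :
    ∃! fbar : Y ⟶ Z, π ≫ fbar = f := by
  classical
  choose sec hsec using h1.surjective
  let b : Y → Z := fun y => f.hom.base (sec y)
  have hb : ∀ x, b (π.hom.base x) = f.hom.base x := by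
    intro x
    obtain ⟨g, hg⟩ := (h2 (sec (π.hom.base x)) x).1 (hsec _)
    conv_rhs => rw [← hg]
    exact (congr($(congrArg (fun t : X ⟶ Z => t.hom.base) (hf g)) (sec (π.hom.base x)))).symm
  have hbc : Continuous b := by
    rw [h1.continuous_iff, show b ∘ π.hom.base = f.hom.base from funext hb]
    exact f.hom.base.hom.continuous
  let bT : (Y : TopCat) ⟶ (Z : TopCat) := TopCat.ofHom ⟨b, hbc⟩
  have hbase : π.hom.base ≫ bT = f.hom.base := by ext x; exact hb x
  have hopen : ∀ V : Opens Z, (Opens.map π.hom.base).obj ((Opens.map bT).obj V) = (Opens.map f.hom.base).obj V := by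
    intro V; rw [← hbase]; rfl
  let F : ∀ V : Opens Z, Z.presheaf.obj (op V) ⟶ X.presheaf.obj (op ((Opens.map π.hom.base).obj ((Opens.map bT).obj V))) :=
    fun V => f.hom.c.app (op V) ≫ X.presheaf.map (eqToHom (congrArg op (hopen V).symm))
  have hinv : ∀ (V : Opens Z) (s : Z.presheaf.obj (op V)),
      F V s ∈ Set.range (π.hom.c.app (op ((Opens.map bT).obj V))) := by
    intro V s
    rw [(h3 _).2]
    intro g
    have h := SheafedSpace.congr_hom_app (hf g) (op V)
    rw [SheafedSpace.comp_hom_c_app'] at h
    have nat := (τ g).hom.hom.c.naturality (eqToHom (congrArg op (hopen V).symm))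
    have key : F V ≫ (τ g).hom.hom.c.app (op ((Opens.map π.hom.base).obj ((Opens.map bT).obj V))) =
        F V ≫ X.presheaf.map (eqToHom (congrArg (fun q : X ⟶ Y => op ((Opens.map q.hom.base).obj ((Opens.map bT).obj V))) (hτ g).symm)) := by
      simp only [F, Category.assoc]
      erw [nat]
      rw [← Category.assoc]
      erw [h]
      simp [eqToHom_map]
    exact congr($key s)
  choose c hc using hinv
  have hcinj := fun V => (h3 ((Opens.map bT).obj V)).1
  let C : ∀ V : Opens Z, Z.presheaf.obj (op V) ⟶ Y.presheaf.obj (op ((Opens.map bT).obj V)) := fun V =>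
    CommRingCat.ofHom
      { toFun := c V
        map_one' := hcinj V (by rw [hc, map_one, map_one])
        map_mul' := fun a a' => hcinj V (by rw [hc, map_mul, map_mul, hc, hc])
        map_zero' := hcinj V (by rw [hc, map_zero, map_zero])
        map_add' := fun a a' => hcinj V (by rw [hc, map_add, map_add, hc, hc]) }
  have hC : ∀ V, C V ≫ π.hom.c.app (op ((Opens.map bT).obj V)) = F V := by
    intro V; ext s; exact hc V s
  have hmono : ∀ V, Mono (π.hom.c.app (op ((Opens.map bT).obj V))) := fun V =>
    ConcreteCategory.mono_of_injective _ (hcinj V)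
  let nt : Z.presheaf ⟶ bT _* Y.presheaf :=
    { app := fun V => C V.unop
      naturality := fun V W i => by
        have := hmono W.unop
        rw [← cancel_mono (π.hom.c.app (op ((Opens.map bT).obj W.unop))), Category.assoc, Category.assoc, hC]
        erw [π.hom.c.naturality]
        erw [reassoc_of% (hC V.unop)]
        simp only [F, Category.assoc]
        erw [reassoc_of% f.hom.c.naturality i]
        show _ = f.hom.c.app V ≫ _
        simp only [TopCat.Presheaf.pushforward_obj_map, ← Functor.map_comp]
        congr 2 }
  let fbar : Y ⟶ Z := InducedCategory.homMk { base := bT, c := nt }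
  have hfbar : π ≫ fbar = f := by
    refine SheafedSpace.ext _ _ hbase ?_
    refine NatTrans.ext (funext fun V' => ?_)
    induction V' using Opposite.rec with | op V => ?_
    show (C V ≫ π.hom.c.app (op ((Opens.map bT).obj V))) ≫ X.presheaf.map _ = f.hom.c.app (op V)
    rw [hC]
    show (f.hom.c.app (op V) ≫ X.presheaf.map _) ≫ X.presheaf.map _ = _
    rw [Category.assoc, ← X.presheaf.map_comp]
    refine Eq.trans (congrArg (f.hom.c.app (op V) ≫ ·) ?_) (Category.comp_id _)
    exact (congrArg X.presheaf.map (Subsingleton.elim _ (𝟙 _))).trans (X.presheaf.map_id _)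
  refine ⟨fbar, hfbar, fun g hg => ?_⟩
  obtain ⟨⟨gb, gc⟩⟩ := g
  have hbg : gb = bT := by
    ext y
    obtain ⟨x, rfl⟩ := h1.surjective y
    exact (congr($(congrArg (fun t : X ⟶ Z => t.hom.base) hg) x)).trans (hb x).symm
  subst hbg
  show InducedCategory.homMk _ = fbar
  have hcc : gc = nt := by
    refine NatTrans.ext (funext fun V' => ?_)
    induction V' using Opposite.rec with | op V => ?_
    have := hmono V
    refine (cancel_mono (π.hom.c.app (op ((Opens.map bT).obj V)))).1 ?_
    refine Eq.trans ?_ (hC V).symm
    exact SheafedSpace.congr_hom_app hg (op V)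
  subst hcc
  rfl
end Groth.Agent.S14885
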