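import Groth.Statements.S14887
import Mathlib.RingTheory.ZariskisMainTheorem
import Mathlib.RingTheory.AlgebraicIndependent.TranscendenceBasis
import Mathlib.RingTheory.Algebraic.Integral
import Mathlib.RingTheory.Valuation.ValuationRing
import Mathlib.RingTheory.Spectrum.Prime.Jacobson
import Mathlib.AlgebraicGeometry.Morphisms.FinitePresentation
import Groth.Agent.FlatMor68.ValFibreGeneric

set_option autoImplicit false
universe u
open CategoryTheory AlgebraicGeometry
open FlatMor

namespace Groth.Agent.S14887

open CategoryTheory CategoryTheory.Limits AlgebraicGeometry TopologicalSpace MvPolynomial Groth.Agent.FlatMor68.ValFibreGeneric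

/-- Let R be a valuation ring and let φ : X → Spec R be flat and locally of finite presentation. Call x
∈ X fibre-generic when it is the generic point of an irreducible component of its fibre, i.e. no
point y ≠ x with φ y = φ x specializes to x. Then every generization of a fibre-generic point is
fibre-generic. (The published statement allows an arbitrary base scheme and takes φ finitely
presented. Over a two-dimensional base it fails: for the affine line over the affine plane with
coordinates a, b, the closed point u = a/b of the generic fibre specializes to the generic point of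
the fibre over a = b = 0, and the chain-lifting step of the published proof does not hold in that
generality. This row takes the base to be the spectrum of a valuation ring, the case in which the
result is applied to relative curves, and assumes only local finite presentation, the property being
local on X.) -/
theorem result
    (R : Type u) [CommRing R] [IsDomain R] [ValuationRing R] {X : Scheme.{u}}
    (φ : X ⟶ Spec (CommRingCat.of R)) [Flat φ] [LocallyOfFinitePresentation φ]
    (x x' : X) (hgen : x' ⤳ x) (hx : ∀ y : X, y ⤳ x → φ y = φ x → y = x) :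
    ∀ y : X, y ⤳ x' → φ y = φ x' → y = x' := by
  intro y hy hyφ
  obtain ⟨U, hU, hxU, -⟩ := exists_isAffineOpen_mem_and_subset (X := X) (x := x) (U := ⊤) trivial
  let ψ : CommRingCat.of R ⟶ Γ(X, U) := Spec.preimage (hU.fromSpec ≫ φ)
  have hψ : Spec.map ψ = hU.fromSpec ≫ φ := Spec.map_preimage _
  algebraize [ψ.hom]
  have : LocallyOfFinitePresentation (Spec.map ψ) := by rw [hψ]; infer_instance
  haveI : Algebra.FiniteType R Γ(X, U) :=
    RingHom.FiniteType.of_finitePresentation ((HasRingHomProperty.Spec_iff (P := @LocallyOfFinitePresentation)).1 this)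
  have hrange : ∀ z : X, z ⤳ x → ∃ a : PrimeSpectrum Γ(X, U), hU.fromSpec a = z := fun z hz => by
    have : z ∈ U := hz.mem_open U.2 hxU
    rw [← SetLike.mem_coe, ← hU.range_fromSpec] at this
    exact this
  obtain ⟨q, rfl⟩ := hrange x (specializes_refl x)
  obtain ⟨a', rfl⟩ := hrange x' hgen
  obtain ⟨a, rfl⟩ := hrange y (hy.trans hgen)
  have hle : ∀ b c : PrimeSpectrum Γ(X, U), hU.fromSpec b ⤳ hU.fromSpec c ↔ b.asIdeal ≤ c.asIdeal :=
    fun b c => hU.fromSpec.isOpenEmbedding.isInducing.specializes_iff.trans
      (PrimeSpectrum.le_iff_specializes b c).symm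
  have hφ : ∀ b : PrimeSpectrum Γ(X, U),
      φ (hU.fromSpec b) = PrimeSpectrum.comap (algebraMap R Γ(X, U)) b := fun b => by
    rw [← Scheme.Hom.comp_apply, ← hψ]; rfl
  refine congrArg hU.fromSpec (PrimeSpectrum.ext (eq_of_le_le (R := R) q.asIdeal a.asIdeal a'.asIdeal
    (fun q' hq' hle' he => ?_) ((hle _ _).1 hy) ((hle _ _).1 hgen) ?_))
  · have := hx (hU.fromSpec ⟨q', hq'⟩) ((hle _ _).2 hle') (by rw [hφ, hφ]; exact PrimeSpectrum.ext he)
    exact congrArg PrimeSpectrum.asIdeal (hU.fromSpec.isOpenEmbedding.injective this)
  · rw [hφ, hφ] at hyφ
    exact congrArg PrimeSpectrum.asIdeal hyφ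

end Groth.Agent.S14887
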