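import Groth.Statements.S14888
import Groth.Agent.CAlg24.FiniteSpec
-- import your own Groth.Agent.* helpers here

set_option autoImplicit false
universe u
open CategoryTheory AlgebraicGeometry
open CAlg

namespace Groth.Agent.S14888

/-- Let R be a valuation ring whose spectrum is finite (finite height) and let f : X → Spec R be locally
of finite type with locally quasi-finite fibres. For every x ∈ X the canonical morphism Spec O_{X,x}
→ X is an open immersion, and the composite Spec O_{X,x} → Spec R is locally of finite type; in
particular O_{X,x} is finitely generated as an R-algebra. (The published statement takes X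
quasi-finite over Spec R; the assertions are local at x, so this row assumes only that X is locally
of finite type with discrete fibres.) -/
theorem result
    (R : Type u) [CommRing R] [IsDomain R] [ValuationRing R] [Finite (PrimeSpectrum R)]
    {X : Scheme.{u}} (f : X ⟶ Spec (CommRingCat.of R)) [LocallyOfFiniteType f] [LocallyQuasiFinite f]
    (x : X) :
    IsOpenImmersion (X.fromSpecStalk x) ∧ LocallyOfFiniteType (X.fromSpecStalk x ≫ f) := by
  obtain ⟨_, ⟨U, hU, rfl⟩, hx, -⟩ := X.isBasis_affineOpens.exists_subset_of_mem_open (Set.mem_univ x) isOpen_univ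
  haveI : Finite (PrimeSpectrum Γ(Spec (CommRingCat.of R), ⊤)) :=
    Finite.of_equiv (PrimeSpectrum R)
      (PrimeSpectrum.comapEquiv (Scheme.ΓSpecIso (CommRingCat.of R)).symm.commRingCatIsoToRingEquiv).toEquiv
  have hq := LocallyQuasiFinite.quasiFinite_appLE (f := f) (isAffineOpen_top _) hU (by simp)
  algebraize [(f.appLE ⊤ U (le_top.trans_eq rfl)).hom]
  haveI := Algebra.QuasiFinite.finite_primeSpectrum Γ(Spec (CommRingCat.of R), ⊤) Γ(X, U)
  letI := X.presheaf.algebra_section_stalk (⟨x, hx⟩ : U)
  haveI := hU.isLocalization_stalk ⟨x, hx⟩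
  obtain ⟨b, -, hb⟩ := Groth.Agent.CAlg24.exists_isLocalization_away
    (hU.primeIdealOf ⟨x, hx⟩).asIdeal (X.presheaf.stalk x)
  have h : IsOpenImmersion (X.fromSpecStalk x) := by
    rw [← hU.fromSpecStalk_eq_fromSpecStalk hx]
    dsimp only [IsAffineOpen.fromSpecStalk]
    have e : CommRingCat.ofHom (algebraMap Γ(X, U) (X.presheaf.stalk x)) = X.presheaf.germ U x hx := rfl
    have h' := @IsOpenImmersion.of_isLocalization Γ(X, U) (X.presheaf.stalk x) _ _ _ b hb
    rw [e] at h'
    have h'' : IsOpenImmersion hU.fromSpec := hU.isOpenImmersion_fromSpec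
    exact @IsOpenImmersion.comp _ _ _ _ _ h' h''
  haveI := h
  exact ⟨h, inferInstance⟩

end Groth.Agent.S14888
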