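import Groth.Statements.S14892
import Groth.Agent.CAlg24.ChainTrdeg
-- import your own Groth.Agent.* helpers here

set_option autoImplicit false
universe u
open CAlg

namespace Groth.Agent.S14892

/-- If the field K has finite transcendence degree d over its prime subfield, then every valuation
subring of K has height (Krull dimension) at most d + 1. -/
theorem result
    (K : Type u) [Field K] (A : ValuationSubring K) (d : ℕ)
    (hd : Algebra.trdeg (⊥ : Subfield K) K = d) :
    ringKrullDim A ≤ ((d + 1 : ℕ) : WithBot ℕ∞) := by
  refine iSup_le fun c => ?_
  exact_mod_cast Groth.Agent.CAlg24.chain_length_le_trdeg (S := A) (K := K) Subtype.val_injective d hd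
    (fun p _ => Groth.Agent.CAlg24.valuationRing_atPrime_of_valuationRing p) c

end Groth.Agent.S14892
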