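import Groth.Statements.S14893
import Groth.Agent.CAlg24.ChainTrdeg
-- import your own Groth.Agent.* helpers here

set_option autoImplicit false
universe u
open CAlg

namespace Groth.Agent.S14893

/-- Every valuation ring R is a filtered union of subrings which are valuation rings with finite
spectrum (finite height): there is a nonempty directed index type and a monotone family of such
subrings of R whose supremum is R. -/
theorem result
    (R : Type u) [CommRing R] [IsDomain R] [ValuationRing R] :
    ∃ (ι : Type u) (_ : Preorder ι) (_ : IsDirected ι (fun a b ↦ a ≤ b)) (_ : Nonempty ι)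
      (F : ι → Subring R), Monotone F ∧ (⨆ i, F i) = ⊤ ∧
        ∀ i, ValuationRing (F i) ∧ Finite (PrimeSpectrum (F i)) := by
  classical
  let L := FractionRing R
  have hR : ∀ (p : Ideal R) [p.IsPrime], ValuationRing (Localization.AtPrime p) :=
    fun p _ => Groth.Agent.CAlg24.valuationRing_atPrime_of_valuationRing p
  have hfin : Finite (MaximalSpectrum R) :=
    Finite.of_injective (fun _ => ()) fun m n _ => MaximalSpectrum.ext
      ((IsLocalRing.eq_maximalIdeal m.isMaximal).trans (IsLocalRing.eq_maximalIdeal n.isMaximal).symm)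
  let K : Finset R → Subfield L := fun s => Subfield.closure (↑(s.image (algebraMap R L)) : Set L)
  have hinj : Function.Injective (algebraMap R L) := IsFractionRing.injective R L
  refine ⟨Finset R, inferInstance, inferInstance, inferInstance,
    fun s => (K s).toSubring.comap (algebraMap R L), ?_, ?_, fun s => ⟨?_, ?_⟩⟩
  · intro s t hst
    exact fun x hx => Subfield.closure_mono (Finset.coe_subset.2 (Finset.image_subset_image hst)) hx
  · refine eq_top_iff.2 fun r _ => ?_
    refine (le_iSup (fun s : Finset R => (K s).toSubring.comap (algebraMap R L)) {r}) ?_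
    exact Subfield.subset_closure (by simp)
  · refine @ValuationRing.mk _ _ _ ⟨fun a b => ?_⟩
    have key : ∀ x y : ((K s).toSubring.comap (algebraMap R L)), (x : R) ≠ 0 → ∀ z : R, (x : R) * z = y →
        ∃ z' : ((K s).toSubring.comap (algebraMap R L)), x * z' = y := by
      intro x y hx z hz
      refine ⟨⟨z, ?_⟩, Subtype.ext hz⟩
      show algebraMap R L z ∈ K s
      have : algebraMap R L z = algebraMap R L y / algebraMap R L x := by
        rw [eq_div_iff ((map_ne_zero_iff _ hinj).2 hx), ← map_mul, mul_comm, hz]
      rw [this]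
      exact div_mem y.2 x.2
    by_cases ha : (a : R) = 0
    · exact ⟨0, .inr (by rw [mul_zero]; exact Subtype.ext ha.symm)⟩
    by_cases hb : (b : R) = 0
    · exact ⟨0, .inl (by rw [mul_zero]; exact Subtype.ext hb.symm)⟩
    obtain ⟨c, h | h⟩ := ValuationRing.cond (a : R) (b : R)
    · obtain ⟨z, hz⟩ := key a b ha c h
      exact ⟨z, .inl hz⟩
    · obtain ⟨z, hz⟩ := key b a hb c h
      exact ⟨z, .inr hz⟩
  · let R' := (K s).toSubring.comap (algebraMap R L)
    obtain ⟨hV, hmax, -⟩ := Groth.Agent.Prufer29.semilocal_inf (L := L) hR hfin (K s)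
    let S := ↥((algebraMap R L).range ⊓ (K s).toSubring)
    let e : R' ≃+* S := RingEquiv.ofBijective
      (((algebraMap R L).comp R'.subtype).codRestrict ((algebraMap R L).range ⊓ (K s).toSubring)
        fun r => ⟨⟨r.1, rfl⟩, r.2⟩)
      ⟨fun a b h => Subtype.ext (hinj (congrArg Subtype.val h)), fun ⟨x, ⟨r, hr⟩, hxK⟩ => by
        subst hr
        exact ⟨⟨r, hxK⟩, rfl⟩⟩
    have hdim : ringKrullDim S < ⊤ := by
      letI : Algebra S (K s) := (Subring.inclusion (inf_le_right : (algebraMap R L).range ⊓ (K s).toSubring ≤ (K s).toSubring)).toAlgebra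
      let s' : Finset L := s.image (algebraMap R L)
      let t : Finset (K s) := s'.attach.image fun x => ⟨x.1, Subfield.subset_closure x.2⟩
      have ht : Subfield.closure (↑t : Set (K s)) = ⊤ := by
        refine eq_top_iff.mpr fun x _ => ?_
        have key : K s ≤ (Subfield.closure (↑t : Set (K s))).map (K s).subtype := by
          refine Subfield.closure_le.mpr fun y hy => ⟨⟨y, Subfield.subset_closure hy⟩, Subfield.subset_closure ?_, rfl⟩
          exact Finset.mem_coe.mpr (Finset.mem_image.mpr ⟨⟨y, hy⟩, Finset.mem_attach _ _, rfl⟩)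
        obtain ⟨y, hy, hyx⟩ := key x.2
        rwa [← show y = x from Subtype.ext hyx]
      have hle : ringKrullDim S ≤ ((t.card + 1 : ℕ) : WithBot ℕ∞) := iSup_le fun c => by
        exact_mod_cast Agent.Prufer29.chain_length_le (S := S)
          (fun a b h => Subtype.ext (congrArg (Subtype.val : K s → L) h)) t ht hV c
      exact lt_of_le_of_lt hle (WithBot.coe_lt_coe.mpr (ENat.natCast_lt_top _))
    haveI := Groth.Agent.Prufer29.finite_primeSpectrum (R := S) (fun p _ => hV p) hmax hdim
    exact Finite.of_equiv (PrimeSpectrum S) (PrimeSpectrum.comapEquiv e).toEquiv.symm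

end Groth.Agent.S14893
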