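import Groth.Statements.S14901
import Groth.Agent.Var76.FibreBound
import Groth.Agent.Cyc90.DimFun

set_option autoImplicit false
universe u
open MovLem

namespace Groth.Agent.S14901

open AlgebraicGeometry CategoryTheory in

open Groth.Agent.Var76
open AlgebraicGeometry CategoryTheory Groth.Agent.Var76 TopologicalSpace Topology
open Groth.Agent.WC97 (tdegN)
open Groth.Agent.E4O (fdeg)

/-- Let k be a field, let S and X be separated k-schemes of finite type that are locally equidimensional
(all irreducible components passing through a given point have the same dimension), let f : S → X be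
a k-morphism and Z ⊆ X a closed subset. Let d be the dimension of the image f(S), as a subspace of
X. If every point s of S with f(s) ∈ Z satisfies dim O_{S,s} ≥ d + 1 (equivalently: the closed
subset f⁻¹(Z) of S has local codimension at least d + 1 at each of its points), then f⁻¹(Z) is
empty. -/
theorem result (k : Type u) [Field k] (S X : Scheme.{u})
    (pS : S ⟶ Spec (CommRingCat.of k)) (pX : X ⟶ Spec (CommRingCat.of k))
    [IsSeparated pS] [LocallyOfFiniteType pS] [QuasiCompact pS]
    [IsSeparated pX] [LocallyOfFiniteType pX] [QuasiCompact pX]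
    (hS : ∀ (s : S) (A B : Set S), A ∈ irreducibleComponents (S : Type u) → B ∈ irreducibleComponents (S : Type u) →
      s ∈ A → s ∈ B → topologicalKrullDim A = topologicalKrullDim B)
    (hX : ∀ (x : X) (A B : Set X), A ∈ irreducibleComponents (X : Type u) → B ∈ irreducibleComponents (X : Type u) →
      x ∈ A → x ∈ B → topologicalKrullDim A = topologicalKrullDim B)
    (f : S ⟶ X) (hf : f ≫ pX = pS) (Z : Set X) (hZ : IsClosed Z)
    (h : ∀ s : S, f.base s ∈ Z →
      topologicalKrullDim (Set.range f.base) + 1 ≤ ringKrullDim (S.presheaf.stalk s)) :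
    f.base ⁻¹' Z = ∅ := by
  have : LocallyOfFiniteType (f ≫ pX) := hf ▸ ‹LocallyOfFiniteType pS›
  have : LocallyOfFiniteType f := locallyOfFiniteType_of_comp f pX
  have : IsLocallyNoetherian X := LocallyOfFiniteType.isLocallyNoetherian pX
  have : NoetherianSpace S := FibreBound.noetherianSpace pS
  have : NoetherianSpace X := FibreBound.noetherianSpace pX
  by_contra hne
  obtain ⟨s, hs⟩ := Set.nonempty_iff_ne_empty.2 hne
  obtain ⟨z, hzs, hfz, hzd, -, -⟩ := E4O.exists_fibreDimAt_eq f s
  obtain ⟨ξ, hξ, hξmax⟩ := FibreBound.exists_maximal pS z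
  -- all components through `z` have dimension `tdegN ξ`
  have hsame : ∀ ξ', ξ' ⤳ z → (∀ w, w ⤳ ξ' → w = ξ') → tdegN pS ξ' = tdegN pS ξ := by
    intro ξ' hξ' hmax'
    have h0 := hS z (closure {ξ'}) (closure {ξ}) (E4O.closure_mem_irreducibleComponents hmax')
      (E4O.closure_mem_irreducibleComponents hξmax) (specializes_iff_mem_closure.1 hξ')
      (specializes_iff_mem_closure.1 hξ)
    rw [WC97.topologicalKrullDim_closure pS, WC97.topologicalKrullDim_closure pS] at h0
    exact_mod_cast h0
  -- the image has dimension at least that of `f ξ`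
  have hrange : (tdegN pX (f ξ) : WithBot ℕ∞) ≤ topologicalKrullDim (Set.range f.base) := by
    obtain ⟨W, hW, hηW, h'⟩ := FibreBound.exists_nhd_inter_closure (f ξ)
      (Set.image_univ (f := f) ▸ FibreBound.isConstructible_image f isOpen_univ)
    rcases h' with h' | h'
    · refine le_trans ?_ (TopDim50.dim_mono h')
      have := E4O.dim_open_inter_fibreClosure (f := pX) (f ξ) hW hηW
      rw [show pX ⁻¹' {pX (f ξ)} = Set.univ from
        Set.eq_univ_of_forall fun y => Subsingleton.elim (α := PrimeSpectrum k) _ _, Set.inter_univ,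
        FibreBound.fdeg_str_eq pX] at this
      exact this.ge
    · exact absurd ⟨ξ, rfl⟩ (h' ⟨hηW, subset_closure rfl⟩)
  -- the fibre at `s` is at least as large as the generic one
  have hfd : fdeg f ξ ≤ fdeg f z := by
    have := E4O.fdeg_le_fibreDimAt_of_specializes (f := f) (hξ.trans hzs)
    rw [hzd] at this
    exact_mod_cast this
  have hTξ := FibreBound.tdegN_eq_add (qY := pX) f hf ξ
  have hTz := FibreBound.tdegN_eq_add (qY := pX) f hf z
  have hstalk : ringKrullDim (S.presheaf.stalk z) ≤ ((tdegN pS ξ - tdegN pS z : ℕ) : WithBot ℕ∞) := by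
    refine iSup_le fun c => Nat.cast_le.2 ?_
    let pt : PrimeSpectrum (S.presheaf.stalk z) → S := fun q => S.fromSpecStalk z q
    have key : ∀ i : ℕ, ∀ hi : i < c.length + 1, i + tdegN pS (pt (c ⟨i, hi⟩)) ≤ tdegN pS (pt c.head) := by
      intro i
      induction i with
      | zero => intro hi; rw [Nat.zero_add]; exact le_rfl
      | succ i ih =>
        intro hi
        have h1 := ih (by omega)
        have hlt : c ⟨i, by omega⟩ < c ⟨i + 1, hi⟩ := c.strictMono (by exact Nat.lt_succ_self i)
        have h2 : tdegN pS (pt (c ⟨i + 1, hi⟩)) < tdegN pS (pt (c ⟨i, by omega⟩)) :=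
          FibreBound.tdegN_lt pS (((PrimeSpectrum.le_iff_specializes _ _).mp hlt.le).map (S.fromSpecStalk z).continuous)
            fun e => hlt.ne ((S.fromSpecStalk z).isEmbedding.injective e)
        omega
    have hlast : pt (c ⟨c.length, by omega⟩) ⤳ z := Cyc90.fromSpecStalk_specializes _
    have hhead : pt c.head ⤳ z := Cyc90.fromSpecStalk_specializes _
    obtain ⟨ξ', hξ', hmax'⟩ := FibreBound.exists_maximal pS (pt c.head)
    have h3 := hsame ξ' (hξ'.trans hhead) hmax'
    have h4 := FibreBound.tdegN_le pS hξ'
    have h5 := FibreBound.tdegN_le pS hlast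
    have h6 := key c.length (by omega)
    omega
  have hfin : topologicalKrullDim (Set.range f.base) + 1 ≤ ((tdegN pX (f ξ) : ℕ) : WithBot ℕ∞) := by
    have hmem : f.base z ∈ Z := by
      show f z ∈ Z
      rw [hfz]; exact hs
    refine ((h z hmem).trans hstalk).trans (Nat.cast_le.2 ?_)
    omega
  have hcontra : ((tdegN pX (f ξ) : ℕ) : WithBot ℕ∞) + 1 ≤ ((tdegN pX (f ξ) : ℕ) : WithBot ℕ∞) :=
    le_trans (by gcongr) hfin
  have : tdegN pX (f ξ) + 1 ≤ tdegN pX (f ξ) := by exact_mod_cast hcontra
  omega

end Groth.Agent.S14901
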