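import Groth.Statements.S14904
import Groth.Agent.NeronHD28.GaComponents
import Groth.Agent.NeronHD28.GaBaseChange
import Groth.Agent.Good38.Inertia
import Groth.Agent.EtAlg23.HenselBasic
import Mathlib.AlgebraicGeometry.AlgClosed.Basic
-- import your own Groth.Agent.* helpers here

set_option autoImplicit false
universe u
open CategoryTheory MonoidalCategory CartesianMonoidalCategory MonObj GrpObj AlgebraicGeometry
open Neron

namespace Groth.Agent.S14904

open CategoryTheory.Limits Groth.Agent Groth.Agent.NeronHD28


/-- Let R be a complete discrete valuation ring with fraction field K of characteristic 0 and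
algebraically closed residue field k of characteristic 0, and let G be an affine smooth R-group
scheme of finite type together with an isomorphism of K-group schemes between its generic fibre and
the additive group over K (an affine smooth R-model of the additive group). Then the special fibre
G_k is connected and G is isomorphic to the additive group over R as an R-group scheme (existence of
an isomorphism of group schemes). -/
theorem result (R : Type u) [CommRing R] [IsDomain R] [IsDiscreteValuationRing R]
    [IsAdicComplete (IsLocalRing.maximalIdeal R) R] (K : Type u) [Field K] [Algebra R K] [IsFractionRing R K] [CharZero K]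
    [IsAlgClosed (IsLocalRing.ResidueField R)] [CharZero (IsLocalRing.ResidueField R)]
    (G : Over (Spec (CommRingCat.of R))) [GrpObj G] [Smooth G.hom] [IsAffineHom G.hom] [LocallyOfFiniteType G.hom]
    (e : Red.bc (Spec.map (CommRingCat.ofHom (algebraMap R K))) G ≅ Red.Ga (Spec (CommRingCat.of K))) [IsMonHom e.hom] :
    ConnectedSpace ↥(Red.bc (Spec.map (CommRingCat.ofHom (IsLocalRing.residue R))) G).left ∧
      ∃ e' : G ≅ Red.Ga (Spec (CommRingCat.of R)), IsMonHom e'.hom := by
  haveI : HenselianLocalRing R := by
    haveI := IsAdicComplete.henselianRing R (IsLocalRing.maximalIdeal R)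
    exact EtAlg23.henselianLocalRing_of_henselianRing R
  obtain ⟨e₁, he₁⟩ := GaBaseChange.exists_ga_iso (GmModel.gen R K) e
  obtain ⟨c, j, hc, hj, hjo, hgen, hsp, hcrit⟩ := GaModel.exists_criterion G e₁
  let k := IsLocalRing.ResidueField R
  haveI : LocallyOfFiniteType (Red.bc (closedPt R) G).hom :=
    inferInstanceAs (LocallyOfFiniteType (pullback.snd G.hom (closedPt R)))
  haveI : QuasiCompact (Red.bc (closedPt R) G).hom := inferInstanceAs (QuasiCompact (pullback.snd G.hom (closedPt R)))
  obtain ⟨c₀, hc₀, hc₀mem⟩ := KPts.exists_exponent (G := Red.bc (closedPt R) G)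
  have hu : IsUnit (c₀ : R) := by
    rw [← IsLocalRing.notMem_maximalIdeal, ← IsLocalRing.residue_eq_zero_iff, map_natCast]
    exact Nat.cast_ne_zero.2 hc₀.ne'
  obtain ⟨v, hv⟩ := hu.exists_left_inv
  have hclosed : closedPoints ↥(Red.bc (closedPt R) G).left ⊆
      connectedComponent (Grp57.unitPt (Red.bc (closedPt R) G)) := by
    intro y hy
    let x : 𝟙_ (Over (Spec (CommRingCat.of k))) ⟶ Red.bc (closedPt R) G :=
      Over.homMk (pointOfClosedPoint (Red.bc (closedPt R) G).hom y hy) (pointOfClosedPoint_comp _ _ _)
    obtain ⟨w, hw⟩ := hcrit x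
    obtain ⟨r, hr⟩ := (hw c₀).1 (hc₀mem x)
    have h1 := (hw 1).2 ⟨v * r, by
      rw [map_mul, hr, ← _root_.mul_assoc, ← map_natCast (algebraMap R K) c₀, ← map_mul, hv, map_one, Nat.cast_one]⟩
    rw [pow_one, KPts.pt] at h1
    exact (pointOfClosedPoint_apply (Red.bc (closedPt R) G).hom y hy _) ▸ h1
  haveI : JacobsonSpace ↥(Red.bc (closedPt R) G).left :=
    LocallyOfFiniteType.jacobsonSpace (Red.bc (closedPt R) G).hom
  have huniv : connectedComponent (Grp57.unitPt (Red.bc (closedPt R) G)) = Set.univ := by
    rw [← Set.univ_subset_iff, ← closure_closedPoints (X := ↥(Red.bc (closedPt R) G).left)]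
    exact closure_minimal hclosed isClosed_connectedComponent
  refine ⟨connectedSpace_iff_connectedComponent.2 ⟨_, huniv⟩, ?_⟩
  haveI : Surjective j.left := by
    refine ⟨fun y => ?_⟩
    by_cases hy : G.hom y = IsLocalRing.closedPoint R
    · obtain ⟨y', rfl⟩ : y ∈ Set.range (pullback.fst G.hom (closedPt R)) := by
        rw [Scheme.Pullback.range_fst]
        exact ⟨IsLocalRing.closedPoint _, (closedPt_apply _).trans hy.symm⟩
      exact (hsp y').2 (huniv ▸ Set.mem_univ y')
    · exact hgen y hy
  haveI : IsIso j.left := (isIso_iff_isOpenImmersion_and_surjective j.left).2 ⟨hjo, inferInstance⟩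
  haveI : IsIso ((Over.forget _).map j) := ‹IsIso j.left›
  haveI : IsIso j := isIso_of_reflects_iso _ (Over.forget _)
  haveI : IsMonHom (asIso j).hom := hj
  exact ⟨(asIso j).symm, inferInstanceAs (IsMonHom (asIso j).inv)⟩

end Groth.Agent.S14904
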