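import Groth.Statements.S14905
import Groth.Agent.NeronHD28.GaComponents
import Groth.Agent.NeronHD28.GaBaseChange
import Groth.Agent.Good38.Inertia
import Groth.Agent.EtAlg23.HenselBasic
-- import your own Groth.Agent.* helpers here

set_option autoImplicit false
universe u
open CategoryTheory MonoidalCategory CartesianMonoidalCategory MonObj GrpObj AlgebraicGeometry
open Neron

namespace Groth.Agent.S14905

open CategoryTheory.Limits Groth.Agent Groth.Agent.NeronHD28


/-- Let R be a complete discrete valuation ring with fraction field K of characteristic 0 and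
algebraically closed residue field k of characteristic p > 0, and let G be an affine smooth R-group
scheme of finite type together with an isomorphism of K-group schemes between its generic fibre and
the additive group over K. Then the group of connected components of the special fibre G_k is a
p-group: for every k-point x of G_k some power x^(p^m) lies in the connected component of the
identity; and the identity component of G is the additive group over R: there is a homomorphism of
R-group schemes from the additive group over R to G which is an open immersion. (The published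
statement also asserts that every finite abelian p-group occurs as such a component group; this row
does not state that.) -/
theorem result (R : Type u) [CommRing R] [IsDomain R] [IsDiscreteValuationRing R]
    [IsAdicComplete (IsLocalRing.maximalIdeal R) R] (K : Type u) [Field K] [Algebra R K] [IsFractionRing R K] [CharZero K]
    [IsAlgClosed (IsLocalRing.ResidueField R)]
    (p : ℕ) [Fact p.Prime] [CharP (IsLocalRing.ResidueField R) p]
    (G : Over (Spec (CommRingCat.of R))) [GrpObj G] [Smooth G.hom] [IsAffineHom G.hom] [LocallyOfFiniteType G.hom]
    (e : Red.bc (Spec.map (CommRingCat.ofHom (algebraMap R K))) G ≅ Red.Ga (Spec (CommRingCat.of K))) [IsMonHom e.hom] :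
    (∀ x : 𝟙_ (Over (Spec (CommRingCat.of (IsLocalRing.ResidueField R)))) ⟶ Red.bc (Spec.map (CommRingCat.ofHom (IsLocalRing.residue R))) G,
        ∃ m : ℕ, (x ^ (p ^ m)).left.base (IsLocalRing.closedPoint (IsLocalRing.ResidueField R)) ∈
          connectedComponent ((η[Red.bc (Spec.map (CommRingCat.ofHom (IsLocalRing.residue R))) G]).left.base (IsLocalRing.closedPoint (IsLocalRing.ResidueField R)))) ∧
      ∃ j : Red.Ga (Spec (CommRingCat.of R)) ⟶ G, IsMonHom j ∧ IsOpenImmersion j.left := by
  haveI : HenselianLocalRing R := by
    haveI := IsAdicComplete.henselianRing R (IsLocalRing.maximalIdeal R)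
    exact EtAlg23.henselianLocalRing_of_henselianRing R
  obtain ⟨e₁, he₁⟩ := GaBaseChange.exists_ga_iso (GmModel.gen R K) e
  obtain ⟨c, j, hc, hj, hjo, hgen, hsp, hcrit⟩ := GaModel.exists_criterion G e₁
  refine ⟨fun x => ?_, j, hj, hjo⟩
  obtain ⟨w, hw⟩ := hcrit x
  obtain ⟨a, d, hd, hwd⟩ := IsFractionRing.div_surjective R w
  obtain ⟨ϖ, hϖ⟩ := IsDiscreteValuationRing.exists_irreducible R
  obtain ⟨l, u, hu⟩ := IsDiscreteValuationRing.associated_pow_irreducible (nonZeroDivisors.ne_zero hd) hϖ
  obtain ⟨q, hq⟩ : ϖ ∣ (p : R) := by
    rw [← Ideal.mem_span_singleton, ← hϖ.maximalIdeal_eq, ← IsLocalRing.residue_eq_zero_iff, map_natCast]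
    exact CharP.cast_eq_zero _ p
  refine ⟨l, (hw (p ^ l)).2 ⟨q ^ l * a * u, ?_⟩⟩
  have hd0 : algebraMap R K d ≠ 0 := fun h =>
    nonZeroDivisors.ne_zero hd (IsFractionRing.injective R K (h.trans (map_zero _).symm))
  rw [← hwd, ← mul_div_assoc, eq_div_iff hd0, Nat.cast_pow, ← map_natCast (algebraMap R K) p, ← map_pow, ← map_mul,
    ← map_mul, hq, mul_pow, ← hu]
  congr 1
  ring

end Groth.Agent.S14905
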