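import Groth.Statements.S14906
import Groth.Agent.NeronHD28.GmModel
-- import your own Groth.Agent.* helpers here

set_option autoImplicit false
universe u
open CategoryTheory MonoidalCategory CartesianMonoidalCategory MonObj GrpObj AlgebraicGeometry
open Neron

namespace Groth.Agent.S14906

open Groth.Agent Groth.Agent.NeronHD28


/-- Let R be a complete discrete valuation ring with fraction field K of characteristic 0 and
algebraically closed residue field k, and let G be an affine smooth R-group scheme of finite type
together with an isomorphism of K-group schemes between its generic fibre and the multiplicative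
group over K (an affine smooth R-model of the multiplicative group). Suppose the identity component
of the special fibre G_k is the multiplicative group: there is a homomorphism of k-group schemes
from the multiplicative group over k to G_k which is an open immersion. Then G_k is connected and G
is isomorphic to the multiplicative group over R as an R-group scheme (existence of an isomorphism
of group schemes). -/
theorem result (R : Type u) [CommRing R] [IsDomain R] [IsDiscreteValuationRing R]
    [IsAdicComplete (IsLocalRing.maximalIdeal R) R] (K : Type u) [Field K] [Algebra R K] [IsFractionRing R K] [CharZero K]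
    [IsAlgClosed (IsLocalRing.ResidueField R)]
    (G : Over (Spec (CommRingCat.of R))) [GrpObj G] [Smooth G.hom] [IsAffineHom G.hom] [LocallyOfFiniteType G.hom]
    (e : Red.bc (Spec.map (CommRingCat.ofHom (algebraMap R K))) G ≅ Red.Gm (Spec (CommRingCat.of K))) [IsMonHom e.hom]
    (j₀ : Red.Gm (Spec (CommRingCat.of (IsLocalRing.ResidueField R))) ⟶ Red.bc (Spec.map (CommRingCat.ofHom (IsLocalRing.residue R))) G) [IsMonHom j₀]
    [IsOpenImmersion j₀.left] :
    ConnectedSpace ↥(Red.bc (Spec.map (CommRingCat.ofHom (IsLocalRing.residue R))) G).left ∧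
      ∃ e' : G ≅ Red.Gm (Spec (CommRingCat.of R)), IsMonHom e'.hom := by
  haveI : QuasiCompact G.hom := inferInstance
  haveI : IsSeparated G.hom := inferInstance
  haveI : HenselianLocalRing R := by
    haveI := IsAdicComplete.henselianRing R (IsLocalRing.maximalIdeal R)
    exact EtAlg23.henselianLocalRing_of_henselianRing R
  haveI : IsCommMonObj (Red.bc (GmModel.gen R K) G) := by
    constructor
    apply (cancel_mono e.hom).1
    rw [MonObj.mul_eq_mul, MonObj.comp_mul]
    simp only [MonObj.mul_comp _ _ e.hom]
    rw [RedPts82.gm_comm]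
    simp
  haveI : IsCommMonObj ((SGA7.genFib R K).obj G) :=
    inferInstanceAs (IsCommMonObj (Red.bc (GmModel.gen R K) G))
  haveI : IsCommMonObj G := Good38.isCommMonObj_of_generic R K G
  let jK : Red.bc (GmModel.gen R K) (Red.Gm (Spec (CommRingCat.of R))) ≅ Red.Gm (Spec (CommRingCat.of K)) :=
    ActBC.bcCompIso (GmModel.gen R K) _ _ (Limits.IsTerminal.hom_ext specULiftZIsTerminal _ _)
  haveI : IsMonHom jK.hom := ActBC.bcCompIso_isMonHom _ _ _
  let e₁ : Red.bc (GmModel.gen R K) G ≅ Red.bc (GmModel.gen R K) (Red.Gm (Spec (CommRingCat.of R))) := e ≪≫ jK.symm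
  haveI : IsMonHom jK.inv := inferInstance
  haveI : IsMonHom e₁.hom := inferInstanceAs (IsMonHom (e.hom ≫ jK.inv))
  refine GmModel.exists_iso R K G e₁ fun M hM hM0 => ?_
  haveI : NeZero (M : IsLocalRing.ResidueField R) := ⟨hM0⟩
  haveI : NeZero M := ⟨hM.ne_zero⟩
  obtain ⟨ω, hω⟩ := IsAlgClosed.exists_root (Polynomial.cyclotomic M (IsLocalRing.ResidueField R))
    (Polynomial.degree_cyclotomic_pos M _ hM.pos).ne'
  rw [Polynomial.isRoot_cyclotomic_iff] at hω
  let k := IsLocalRing.ResidueField R
  let κ : Γ(Spec (CommRingCat.of k), ⊤) ≃+* k := (Scheme.ΓSpecIso (CommRingCat.of k)).commRingCatIsoToRingEquiv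
  obtain ⟨w, hw⟩ := RedPts82.gmFn_surjective (X := 𝟙_ (Over (Spec (CommRingCat.of k)))) (a := κ.symm ω)
    ((hω.isUnit hM.ne_zero).map κ.symm)
  haveI : Mono j₀.left := inferInstance
  haveI : Mono j₀ := (Over.forget _).mono_of_mono_map ‹Mono j₀.left›
  refine ⟨w ≫ j₀, ?_, fun h => ?_⟩
  · have h1 : w ^ M = 1 := RedPts82.gmFn_injective (by
      rw [RedPts82.gmFn_pow, RedPts82.gmFn_one, hw]
      exact (map_pow κ.symm ω M).symm.trans ((congrArg κ.symm hω.pow_eq_one).trans (map_one κ.symm)))
    rw [← MonObj.pow_comp w M j₀, h1, MonObj.one_comp j₀]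
  · have h1 : w = 1 := (cancel_mono j₀).1 (h.trans (MonObj.one_comp j₀).symm)
    rw [h1, RedPts82.gmFn_one] at hw
    refine hω.ne_one hM.one_lt ?_
    exact κ.symm.injective (hw.symm.trans (map_one κ.symm).symm)

end Groth.Agent.S14906
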