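import Groth.Statements.S14908
import Groth.Agent.NeronHD28.PrimeToPCyclic
-- import your own Groth.Agent.* helpers here

set_option autoImplicit false
universe u
open CategoryTheory MonoidalCategory CartesianMonoidalCategory MonObj GrpObj AlgebraicGeometry
open Neron

namespace Groth.Agent.S14908

open CategoryTheory.Limits Groth.Agent Groth.Agent.NeronHD28


/-- Let R be a complete discrete valuation ring with fraction field K of characteristic 0 and
algebraically closed residue field k of characteristic p > 0, and let G be an affine smooth R-group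
scheme of finite type together with an isomorphism of K-group schemes between its generic fibre and
the multiplicative group over K. Suppose the identity component of the special fibre G_k is the
additive group: there is a homomorphism of k-group schemes from the additive group over k to G_k
which is an open immersion. Then the group of connected components of G_k is the product of a cyclic
group of order prime to p and a p-group; equivalently its prime-to-p part is cyclic: there is a
k-point x₀ of G_k such that for every k-point x of G_k some power x^(p^e) lies in the connected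
component of some power x₀^m. (The further assertion that every such group occurs is not stated.) -/
theorem result (R : Type u) [CommRing R] [IsDomain R] [IsDiscreteValuationRing R]
    [IsAdicComplete (IsLocalRing.maximalIdeal R) R] (K : Type u) [Field K] [Algebra R K] [IsFractionRing R K] [CharZero K]
    [IsAlgClosed (IsLocalRing.ResidueField R)]
    (p : ℕ) [Fact p.Prime] [CharP (IsLocalRing.ResidueField R) p]
    (G : Over (Spec (CommRingCat.of R))) [GrpObj G] [Smooth G.hom] [IsAffineHom G.hom] [LocallyOfFiniteType G.hom]
    (e : Red.bc (Spec.map (CommRingCat.ofHom (algebraMap R K))) G ≅ Red.Gm (Spec (CommRingCat.of K))) [IsMonHom e.hom]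
    (j₀ : Red.Ga (Spec (CommRingCat.of (IsLocalRing.ResidueField R))) ⟶ Red.bc (Spec.map (CommRingCat.ofHom (IsLocalRing.residue R))) G) [IsMonHom j₀]
    [IsOpenImmersion j₀.left] :
    ∃ x₀ : 𝟙_ (Over (Spec (CommRingCat.of (IsLocalRing.ResidueField R)))) ⟶ Red.bc (Spec.map (CommRingCat.ofHom (IsLocalRing.residue R))) G,
      ∀ x : 𝟙_ (Over (Spec (CommRingCat.of (IsLocalRing.ResidueField R)))) ⟶ Red.bc (Spec.map (CommRingCat.ofHom (IsLocalRing.residue R))) G,
        ∃ e₁ m : ℕ, (x ^ (p ^ e₁)).left.base (IsLocalRing.closedPoint (IsLocalRing.ResidueField R)) ∈ connectedComponent ((x₀ ^ m).left.base (IsLocalRing.closedPoint (IsLocalRing.ResidueField R))) := by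
  haveI : QuasiCompact G.hom := inferInstance
  haveI : IsSeparated G.hom := inferInstance
  haveI : HenselianLocalRing R := by
    haveI := IsAdicComplete.henselianRing R (IsLocalRing.maximalIdeal R)
    exact EtAlg23.henselianLocalRing_of_henselianRing R
  haveI : Flat G.hom := inferInstance
  haveI : IsCommMonObj (Red.bc (Spec.map (CommRingCat.ofHom (algebraMap R K))) G) := by
    constructor
    apply (cancel_mono e.hom).1
    rw [MonObj.mul_eq_mul, MonObj.comp_mul]
    simp only [MonObj.mul_comp _ _ e.hom]
    rw [RedPts82.gm_comm]
    simp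
  haveI : IsCommMonObj ((SGA7.genFib R K).obj G) :=
    inferInstanceAs (IsCommMonObj (Red.bc (Spec.map (CommRingCat.ofHom (algebraMap R K))) G))
  haveI : IsCommMonObj G := Good38.isCommMonObj_of_generic R K G
  haveI : LocallyOfFiniteType (Red.bc (closedPt R) G).hom :=
    inferInstanceAs (LocallyOfFiniteType (pullback.snd G.hom (closedPt R)))
  haveI : QuasiCompact (Red.bc (closedPt R) G).hom := inferInstanceAs (QuasiCompact (pullback.snd G.hom (closedPt R)))
  obtain ⟨c, hc, hcmem⟩ := KPts.exists_exponent (G := Red.bc (closedPt R) G)
  obtain ⟨r, M, hM, rfl⟩ := Nat.exists_eq_pow_mul_and_not_dvd hc.ne' p (Fact.out : p.Prime).ne_one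
  have hu : IsUnit (M : R) := by
    rw [← IsLocalRing.notMem_maximalIdeal, ← IsLocalRing.residue_eq_zero_iff, map_natCast]
    exact fun h => hM ((CharP.cast_eq_zero_iff (IsLocalRing.ResidueField R) p M).1 h)
  obtain ⟨x₀, hx₀⟩ := exists_generator_primeTo R K G e M (Nat.pos_of_ne_zero (fun h => hM (h ▸ dvd_zero p))) hu
  refine ⟨x₀, fun x => ?_⟩
  obtain ⟨j, hj⟩ := hx₀ (x ^ (p ^ r)) (by rw [← pow_mul]; exact hcmem x)
  refine ⟨r, j, (KPts.mem_component_iff (x₀ ^ j) (x ^ (p ^ r))).2 ?_⟩
  haveI : IsCommMonObj (Red.bc (closedPt R) G) := Functor.isCommMonObj_obj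
  have h := (KPts.comp0 (G := Red.bc (closedPt R) G)).inv_mem hj
  rwa [_root_.mul_inv_rev, _root_.inv_inv] at h

end Groth.Agent.S14908
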