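import Groth.Statements.S14909
import Groth.Agent.Weier31.Trunc
import Mathlib.RingTheory.AdjoinRoot
import Mathlib.Algebra.DualNumber
import Mathlib.RingTheory.LocalRing.ResidueField.Basic
import Mathlib.Tactic.LinearCombination

set_option autoImplicit false
universe u
open Neron

namespace Groth.Agent.S14909

/-- Let R be a discrete valuation ring with uniformizer ϖ, let a₁, a₆ ∈ R with a₁ of valuation v ≥ 1, a₆
of valuation 1, and 2 of valuation at least v (so the residue characteristic is 2; 2 = 0 is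
allowed). In the power series ring S = R[[x, y]] let M = (ϖ, x, y) be the maximal ideal and I the
ideal generated by y² + a₁xy − x³ − a₆, 2y + a₁x and 3x² − a₁y, so that S/I is a local ring with
maximal ideal m = M/I. Then the classes of y^(2v) and x·y^(2v−1) form a basis of the vector space
m^(2v)/m^(2v+1) over the residue field: M^(2v) + I = (y^(2v), x·y^(2v−1)) + I, and whenever a·y^(2v)
+ b·x·y^(2v−1) ∈ M^(2v+1) + I with a, b ∈ R, both a and b lie in the maximal ideal of R. (Generation
holds with any exponent i ≥ 1 in place of 2v: M^i + I = (y^i, x·y^(i−1)) + I.) -/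
theorem result (R : Type u) [CommRing R] [IsDomain R] [IsDiscreteValuationRing R]
    (ϖ a₁ a₆ : R) (hϖ : Irreducible ϖ) (v : ℕ) (hv : 1 ≤ v) (u₁ u₆ : Rˣ) (ha₁ : a₁ = u₁ * ϖ ^ v) (ha₆ : a₆ = u₆ * ϖ)
    (h2 : (2 : R) ∈ IsLocalRing.maximalIdeal R ^ v)
    (x y : MvPowerSeries (Fin 2) R) (hx : x = MvPowerSeries.X 0) (hy : y = MvPowerSeries.X 1)
    (I M : Ideal (MvPowerSeries (Fin 2) R))
    (hI : I = Ideal.span {y ^ 2 + a₁ • (x * y) - x ^ 3 - algebraMap R (MvPowerSeries (Fin 2) R) a₆,
      2 * y + a₁ • x, 3 * x ^ 2 - a₁ • y})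
    (hM : M = Ideal.span {algebraMap R (MvPowerSeries (Fin 2) R) ϖ, x, y}) :
    M ^ (2 * v) ⊔ I = Ideal.span {y ^ (2 * v), x * y ^ (2 * v - 1)} ⊔ I ∧
      ∀ a b : R, a • y ^ (2 * v) + b • (x * y ^ (2 * v - 1)) ∈ M ^ (2 * v + 1) ⊔ I →
        a ∈ IsLocalRing.maximalIdeal R ∧ b ∈ IsLocalRing.maximalIdeal R := by
  classical
  set m := IsLocalRing.maximalIdeal R with hm
  have hmspan : m = Ideal.span {ϖ} := hϖ.maximalIdeal_eq
  obtain ⟨w2, hw2⟩ : ∃ w, w * ϖ ^ v = (2 : R) := by
    rw [hmspan, Ideal.span_singleton_pow] at h2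
    exact Ideal.mem_span_singleton'.1 h2
  have hϖm : ϖ ∈ m := hmspan ▸ Ideal.mem_span_singleton_self ϖ
  have h2m : (2 : R) ∈ m := Ideal.pow_le_self (by omega) h2
  obtain ⟨c3, hc3⟩ : ∃ c : R, c * 3 = 1 := by
    have : IsUnit (3 : R) := by
      by_contra h
      have h3 : (3 : R) ∈ m := h
      have h1 := m.sub_mem h3 h2m
      norm_num at h1
      exact (IsLocalRing.maximalIdeal.isMaximal R).ne_top ((Ideal.eq_top_iff_one _).2 h1)
    exact this.exists_left_inv
  let ι : R →+* (MvPowerSeries (Fin 2) R) := algebraMap R (MvPowerSeries (Fin 2) R)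
  have hI' : I = Ideal.span {y ^ 2 + ι a₁ * (x * y) - x ^ 3 - ι a₆, 2 * y + ι a₁ * x, 3 * x ^ 2 - ι a₁ * y} := by
    rw [hI]; simp only [Algebra.smul_def, ι]
  constructor
  · -- generation
    set q := Ideal.Quotient.mk I
    have e1 : q (y ^ 2 + ι a₁ * (x * y) - x ^ 3 - ι a₆) = 0 :=
      Ideal.Quotient.eq_zero_iff_mem.2 (hI' ▸ Ideal.subset_span (by simp))
    have e2 : q (2 * y + ι a₁ * x) = 0 :=
      Ideal.Quotient.eq_zero_iff_mem.2 (hI' ▸ Ideal.subset_span (by simp))
    have e3 : q (3 * x ^ 2 - ι a₁ * y) = 0 :=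
      Ideal.Quotient.eq_zero_iff_mem.2 (hI' ▸ Ideal.subset_span (by simp))
    simp only [map_sub, map_add, map_mul, map_pow, map_ofNat] at e1 e2 e3
    set X := q x
    set Y := q y
    have h3 : q (ι c3) * 3 = 1 := by
      have := congrArg (fun r => q (ι r)) hc3
      simpa only [map_mul, map_ofNat, map_one] using this
    have hx2 : X ^ 2 = q (ι c3) * q (ι a₁) * Y := by linear_combination q (ι c3) * e3 - X ^ 2 * h3
    have ha6 : q (ι a₆) = -(q (ι c3)) * Y ^ 2 := by
      linear_combination -e1 - X * hx2 + (1 - q (ι c3)) * Y * e2 + Y ^ 2 * h3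
    have hw : ∀ (i : ℕ), q (ι (ϖ ^ i)) ∈ Ideal.span {Y ^ (2 * i)} := by
      intro i
      refine Ideal.mem_span_singleton'.2 ⟨(q (ι (↑u₆⁻¹ : R)) * -(q (ι c3))) ^ i, ?_⟩
      have : q (ι ϖ) = q (ι (↑u₆⁻¹ : R)) * q (ι a₆) := by
        rw [← map_mul, ← map_mul, ha₆, ← mul_assoc, Units.inv_mul, one_mul]
      rw [map_pow, map_pow, this, ha6, pow_mul, ← mul_pow]; ring
    let J : ℕ → Ideal ((MvPowerSeries (Fin 2) R) ⧸ I) := fun i => Ideal.span {Y ^ (i + 1), X * Y ^ i}
    have hY : ∀ i, Y ^ (i + 1) ∈ J i := fun i => Ideal.subset_span (by simp)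
    have hXY : ∀ i, X * Y ^ i ∈ J i := fun i => Ideal.subset_span (by simp)
    have hMq : M.map q = Ideal.span {q (ι ϖ), X, Y} := by
      rw [hM, Ideal.map_span]; simp [Set.image_insert_eq, ι, X, Y]
    have hM1 : M.map q = J 0 := by
      rw [hMq]
      refine le_antisymm ?_ ?_
      · refine Ideal.span_le.2 ?_
        rintro z (rfl | rfl | rfl)
        · obtain ⟨c, hc⟩ := Ideal.mem_span_singleton'.1 (hw 1)
          rw [pow_one] at hc
          rw [← hc, SetLike.mem_coe, pow_succ' Y 1, pow_one, ← mul_assoc]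
          exact (J 0).mul_mem_left _ (by simpa using hY 0)
        · simpa using hXY 0
        · simpa using hY 0
      · refine Ideal.span_le.2 ?_
        rintro z (rfl | rfl) <;> simp only [zero_add, pow_one, pow_zero, mul_one] <;>
          exact Ideal.subset_span (by simp)
    have hJ : ∀ i, (M ^ (i + 1)).map q = J i := by
      intro i
      induction i with
      | zero => rw [zero_add, pow_one, hM1]
      | succ i ih =>
        rw [pow_succ, Ideal.map_mul, ih, hM1]
        refine le_antisymm ?_ ?_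
        · rw [Ideal.span_mul_span', Ideal.span_le]
          rintro _ ⟨z, hz, z', hz', rfl⟩
          simp only [Set.mem_insert_iff, Set.mem_singleton_iff, zero_add, pow_one, pow_zero, mul_one] at hz hz'
          rcases hz with rfl | rfl <;> rcases hz' with rfl | rfl
          · rw [SetLike.mem_coe]; convert hY (i + 1) using 1; ring
          · rw [SetLike.mem_coe]; convert hXY (i + 1) using 1; ring
          · rw [SetLike.mem_coe]; convert hXY (i + 1) using 1; ring
          · rw [SetLike.mem_coe]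
            obtain ⟨c, hc⟩ := Ideal.mem_span_singleton'.1 (hw v)
            have ha1 : q (ι a₁) = q (ι u₁) * (c * Y ^ (2 * v)) := by rw [hc, ← map_mul, ← map_mul, ← ha₁]
            have : X * Y ^ i * X = q (ι c3) * (q (ι u₁) * c) * Y ^ (2 * v - 1) * Y ^ (i + 1 + 1) := by
              obtain ⟨d, hd⟩ : ∃ d, 2 * v = d + 1 := ⟨2 * v - 1, by omega⟩
              rw [hd] at ha1 ⊢
              rw [Nat.add_sub_cancel]
              linear_combination Y ^ i * hx2 + q (ι c3) * Y ^ (i + 1) * ha1
            show X * Y ^ i * X ∈ J (i + 1)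
            rw [this]
            exact (J (i + 1)).mul_mem_left _ (hY _)
        · refine Ideal.span_le.2 ?_
          rintro z (rfl | rfl)
          · rw [pow_succ Y (i + 1)]; exact Ideal.mul_mem_mul (hY i) (by simpa using hY 0)
          · rw [pow_succ, ← mul_assoc]; exact Ideal.mul_mem_mul (hXY i) (by simpa using hY 0)
    obtain ⟨d, hd⟩ : ∃ d, 2 * v = d + 1 := ⟨2 * v - 1, by omega⟩
    rw [hd, Nat.add_sub_cancel]
    have := congrArg (Ideal.comap q) (hJ d)
    rw [show J d = (Ideal.span {y ^ (d + 1), x * y ^ d}).map q by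
      rw [Ideal.map_span, Set.image_pair, map_pow, map_mul, map_pow],
      Ideal.comap_map_of_surjective _ Ideal.Quotient.mk_surjective,
      Ideal.comap_map_of_surjective _ Ideal.Quotient.mk_surjective] at this
    rwa [show Ideal.comap q ⊥ = I from Ideal.mk_ker] at this
  · -- independence
    intro a b hab
    have ha6m : a₆ ∈ m := ha₆ ▸ m.mul_mem_left _ hϖm
    suffices key : ∀ (R' : Type u) [CommRing R'] [Algebra R R'] (r : R'), r ^ 2 = algebraMap R R' a₆ →
        (∀ z : R', r * z = 0 → z = 0) → (∀ t : R, r ∣ algebraMap R R' t → t ∈ m) → a ∈ m ∧ b ∈ m by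
      have hmon : (Polynomial.X ^ 2 - Polynomial.C a₆).Monic := Polynomial.monic_X_pow_sub_C _ two_ne_zero
      let R' := AdjoinRoot (Polynomial.X ^ 2 - Polynomial.C a₆)
      let r : R' := AdjoinRoot.root _
      have hr2 : r ^ 2 = algebraMap R R' a₆ := by
        have := AdjoinRoot.eval₂_root (Polynomial.X ^ 2 - Polynomial.C a₆)
        rwa [Polynomial.eval₂_sub, Polynomial.eval₂_X_pow, Polynomial.eval₂_C, sub_eq_zero] at this
      have : Module.Free R R' := Module.Free.of_basis (AdjoinRoot.powerBasis' hmon).basis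
      have ha60 : a₆ ≠ 0 := ha₆ ▸ mul_ne_zero u₆.ne_zero hϖ.ne_zero
      have hreg : ∀ z : R', r * z = 0 → z = 0 := fun z hz => by
        have : a₆ • z = 0 := by rw [Algebra.smul_def, ← hr2, pow_two r, mul_assoc, hz, mul_zero]
        exact (smul_eq_zero.1 this).resolve_left ha60
      let res : R' →+* IsLocalRing.ResidueField R := AdjoinRoot.lift (IsLocalRing.residue R) 0 (by
        simp [IsLocalRing.residue_eq_zero_iff a₆ |>.2 ha6m])
      have hres : ∀ t : R, r ∣ algebraMap R R' t → t ∈ m := by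
        rintro t ⟨z, hz⟩
        rw [← IsLocalRing.residue_eq_zero_iff]
        have := congrArg res hz
        rwa [map_mul, AdjoinRoot.algebraMap_eq, AdjoinRoot.lift_of, AdjoinRoot.lift_root, zero_mul] at this
      exact key R' r hr2 hreg hres
    intro R' _ _ r hr2 hreg hres
    let Q : Ideal (DualNumber R') :=
      { carrier := {z | r ^ (2 * v + 1) ∣ TrivSqZeroExt.fst z ∧ r ^ (2 * v) ∣ TrivSqZeroExt.snd z}
        zero_mem' := by simp
        add_mem' := fun hp hq => ⟨by rw [TrivSqZeroExt.fst_add]; exact dvd_add hp.1 hq.1,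
          by rw [TrivSqZeroExt.snd_add]; exact dvd_add hp.2 hq.2⟩
        smul_mem' := fun c z hz => ⟨by rw [smul_eq_mul, TrivSqZeroExt.fst_mul]; exact hz.1.mul_left _, by
          rw [smul_eq_mul, DualNumber.snd_mul]
          exact dvd_add (hz.2.mul_left _) (((pow_dvd_pow r (by omega)).trans hz.1).mul_left _)⟩ }
    set q := Ideal.Quotient.mk Q
    let τ : Fin 2 → (DualNumber R') ⧸ Q := ![q DualNumber.eps, q (TrivSqZeroExt.inl r)]
    let bd : Fin 2 →₀ ℕ := Finsupp.single 0 1 + Finsupp.single 1 (2 * v)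
    obtain ⟨φ, hφX⟩ := Groth.Agent.Weier31.exists_algHom_powerSeries (R := R) τ bd (fun i => by
      fin_cases i
      · show q DualNumber.eps ^ (bd 0 + 1) = 0
        rw [show bd 0 + 1 = 2 by simp [bd], pow_two (q _), ← map_mul, DualNumber.eps_mul_eps, map_zero]
      · show q (TrivSqZeroExt.inl r) ^ (bd 1 + 1) = 0
        rw [show bd 1 + 1 = 2 * v + 1 by simp [bd], ← map_pow, Ideal.Quotient.eq_zero_iff_mem,
          ← show TrivSqZeroExt.inlHom R' R' r = (TrivSqZeroExt.inl r : (DualNumber R')) from rfl, ← map_pow]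
        exact ⟨by simp, by simp⟩)
    have hφx : φ x = q DualNumber.eps := by rw [hx, hφX]; rfl
    have hφy : φ y = q (TrivSqZeroExt.inl r) := by rw [hy, hφX]; rfl
    have halg : ∀ t : R, φ (algebraMap R (MvPowerSeries (Fin 2) R) t) = q (TrivSqZeroExt.inl (algebraMap R R' t)) := by
      intro t; rw [φ.commutes]; rfl
    have hrv : ∀ t : R, r ^ (2 * v) ∣ algebraMap R R' (t * ϖ ^ v) := fun t => by
      refine ⟨algebraMap R R' (t * (↑u₆⁻¹ : R) ^ v), ?_⟩
      rw [pow_mul, hr2, ← map_pow, ← map_mul, ha₆]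
      congr 1
      have hu : ((↑u₆ : R) * ↑u₆⁻¹) ^ v = 1 := by rw [Units.mul_inv, one_pow]
      linear_combination (-(t * ϖ ^ v)) * hu
    have hI0 : ∀ z ∈ I, φ z = 0 := by
      suffices I ≤ RingHom.ker φ.toRingHom from fun z hz => this hz
      rw [hI', Ideal.span_le]
      rintro z (rfl | rfl | rfl) <;> show φ _ = 0
      · simp only [map_sub, map_add, map_mul, map_pow, hφx, hφy, ι, halg]
        simp only [← map_mul, ← map_pow, ← map_add, ← map_sub]
        rw [Ideal.Quotient.eq_zero_iff_mem]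
        refine ⟨?_, ?_⟩
        · simp [pow_succ, ← hr2]
        · simp [pow_succ, mul_assoc]
          exact ((hrv u₁).mul_right r).trans (by rw [← ha₁])
      · simp only [map_sub, map_add, map_mul, map_pow, map_ofNat, hφx, hφy, ι, halg]
        rw [show (2 : (DualNumber R') ⧸ Q) = q (TrivSqZeroExt.inlHom R' R' (algebraMap R R' 2)) by rw [map_ofNat, map_ofNat, map_ofNat]]
        simp only [← map_mul, ← map_add]
        rw [Ideal.Quotient.eq_zero_iff_mem]
        refine ⟨?_, ?_⟩
        · simpa [pow_succ, TrivSqZeroExt.inlHom] using mul_dvd_mul_right (hw2 ▸ hrv w2) r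
        · simpa [ha₁, TrivSqZeroExt.inlHom, TrivSqZeroExt.fst_mul, DualNumber.snd_mul] using hrv u₁
      · simp only [map_sub, map_add, map_mul, map_pow, map_ofNat, hφx, hφy, ι, halg]
        rw [← map_pow, show (DualNumber.eps : DualNumber R') ^ 2 = 0 by rw [pow_two (DualNumber.eps : DualNumber R'), DualNumber.eps_mul_eps],
          ← map_ofNat q 3, ← map_mul, ← map_mul, ← map_sub, Ideal.Quotient.eq_zero_iff_mem, mul_zero, zero_sub,
          Ideal.neg_mem_iff]
        refine ⟨?_, ?_⟩
        · simpa [pow_succ, ha₁] using mul_dvd_mul_right (hrv u₁) r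
        · simp
    have hP : ∀ i, ∀ z ∈ M ^ i, ∃ p : (DualNumber R'), φ z = q p ∧ r ^ i ∣ TrivSqZeroExt.fst p ∧ r ^ (i - 1) ∣ TrivSqZeroExt.snd p := by
      intro i
      induction i with
      | zero => intro z _; obtain ⟨p, hp⟩ := Ideal.Quotient.mk_surjective (φ z); exact ⟨p, hp.symm, by simp, by simp⟩
      | succ i ih =>
        intro z hz
        rw [pow_succ] at hz
        induction hz using Submodule.mul_induction_on' with
        | mem_mul_mem z hz z' hz' =>
          obtain ⟨p, hp, hp1, hp2⟩ := ih z hz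
          have key : ∃ p' : (DualNumber R'), φ z' = q p' ∧ r ∣ TrivSqZeroExt.fst p' := by
            have hle : M ≤ Ideal.comap φ.toRingHom (Ideal.map q (Ideal.comap (TrivSqZeroExt.fstHom R' R' R').toRingHom (Ideal.span {r}))) := by
              rw [hM, Ideal.span_le]
              rintro z (rfl | rfl | rfl) <;> refine Ideal.mem_comap.2 ?_ <;> show φ _ ∈ _
              · rw [halg]
                refine Ideal.mem_map_of_mem _ ?_
                refine Ideal.mem_span_singleton.2 ⟨r * algebraMap R R' (↑u₆⁻¹ : R), ?_⟩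
                show algebraMap R R' ϖ = _
                rw [← mul_assoc, ← pow_two, hr2, ← map_mul, ha₆, mul_comm (↑u₆ : R), mul_assoc, Units.mul_inv, mul_one]
              · rw [hφx]
                refine Ideal.mem_map_of_mem _ ?_
                refine Ideal.mem_span_singleton.2 ⟨0, ?_⟩
                show TrivSqZeroExt.fst (DualNumber.eps : (DualNumber R')) = _
                simp
              · rw [hφy]
                exact Ideal.mem_map_of_mem _ (Ideal.mem_span_singleton.2 ⟨1, by simp⟩)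
            obtain ⟨p', hp', hpe⟩ := (Ideal.mem_map_iff_of_surjective q Ideal.Quotient.mk_surjective).1 (Ideal.mem_comap.1 (hle hz'))
            exact ⟨p', hpe.symm, Ideal.mem_span_singleton.1 hp'⟩
          obtain ⟨p', hp', hp'1⟩ := key
          refine ⟨p * p', by rw [map_mul, map_mul, hp, hp'], ?_, ?_⟩
          · rw [TrivSqZeroExt.fst_mul, pow_succ]; exact mul_dvd_mul hp1 hp'1
          · rw [DualNumber.snd_mul, Nat.add_sub_cancel]
            refine dvd_add (hp1.mul_right _) ?_
            rcases Nat.eq_zero_or_pos i with rfl | hi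
            · simp
            · have := mul_dvd_mul hp2 hp'1
              rwa [← pow_succ, Nat.sub_add_cancel hi] at this
        | add z _ z' _ hz hz' =>
          obtain ⟨p, hp, hp1, hp2⟩ := hz
          obtain ⟨p', hp', hp1', hp2'⟩ := hz'
          exact ⟨p + p', by rw [map_add, map_add, hp, hp'], by rw [TrivSqZeroExt.fst_add]; exact dvd_add hp1 hp1',
            by rw [TrivSqZeroExt.snd_add]; exact dvd_add hp2 hp2'⟩
    obtain ⟨z, hz, z', hz', hzz⟩ := Submodule.mem_sup.1 hab
    obtain ⟨p, hp, hp1, hp2⟩ := hP _ z hz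
    have hfin : φ (algebraMap R (MvPowerSeries (Fin 2) R) a * y ^ (2 * v) + algebraMap R (MvPowerSeries (Fin 2) R) b * (x * y ^ (2 * v - 1))) = 0 := by
      rw [← Algebra.smul_def, ← Algebra.smul_def, ← hzz, map_add, hI0 z' hz', add_zero, hp,
        Ideal.Quotient.eq_zero_iff_mem]
      exact ⟨hp1, by simpa using hp2⟩
    simp only [map_add, map_mul, map_pow, hφx, hφy, halg] at hfin
    simp only [← map_pow, ← map_mul, ← map_add] at hfin
    rw [Ideal.Quotient.eq_zero_iff_mem] at hfin
    obtain ⟨h1, h2'⟩ := hfin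
    simp at h1 h2'
    have hpow : ∀ (i : ℕ) (z : R'), r ^ (i + 1) ∣ r ^ i * z → r ∣ z := by
      intro i z ⟨c, hc⟩
      refine ⟨c, ?_⟩
      have hi : ∀ (j : ℕ) (w : R'), r ^ j * w = 0 → w = 0 := by
        intro j; induction j with
        | zero => intro w hw; simpa using hw
        | succ j ih => intro w hw; exact hreg w (ih _ (by rw [← mul_assoc, ← pow_succ]; exact hw))
      rw [← sub_eq_zero]; exact hi i _ (by rw [mul_sub, ← mul_assoc, ← pow_succ, hc, sub_self])
    refine ⟨hres a (hpow (2 * v) _ (by rwa [mul_comm (r ^ (2 * v))])), hres b (hpow (2 * v - 1) _ ?_)⟩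
    rw [Nat.sub_add_cancel (by omega), mul_comm (r ^ (2 * v - 1))]
    exact h2'

end Groth.Agent.S14909
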