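import Groth.Statements.S1491
import Groth.Agent.FlatMor67.LCIMor
-- import your own Groth.Agent.* helpers here

set_option autoImplicit false
universe u
attribute [local instance] HasDerivedCategory.standard
open FlatMor

namespace Groth.Agent.S1491

open AlgebraicGeometry CategoryTheory Limits in
/-- Let f : X → Y and g : Y → Z be local complete intersection morphisms, in the affine-local sense that
all ring maps between affine opens are local complete intersection homomorphisms. Then f ≫ g is a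
local complete intersection morphism. -/
theorem result {X Y Z : Scheme.{u}} (f : X ⟶ Y) (g : Y ⟶ Z)
    (hf : (∀ (U : X.Opens) (V : Y.Opens) (hU : IsAffineOpen U) (hV : IsAffineOpen V) (hUV : U ≤ f ⁻¹ᵁ V),
        letI := (f.appLE V U hUV).hom.toAlgebra
        LCI.IsLCI Γ(Y, V) Γ(X, U)))
    (hg : (∀ (U : Y.Opens) (V : Z.Opens) (hU : IsAffineOpen U) (hV : IsAffineOpen V) (hUV : U ≤ g ⁻¹ᵁ V),
        letI := (g.appLE V U hUV).hom.toAlgebra
        LCI.IsLCI Γ(Z, V) Γ(Y, U))) :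
    (∀ (U : X.Opens) (V : Z.Opens) (hU : IsAffineOpen U) (hV : IsAffineOpen V) (hUV : U ≤ (f ≫ g) ⁻¹ᵁ V),
        letI := ((f ≫ g).appLE V U hUV).hom.toAlgebra
        LCI.IsLCI Γ(Z, V) Γ(X, U)) := by
  intro U V hU hV hUV
  refine FlatMor67.isLCI_appLE_of_basicOpen_cover (f ≫ g) hU hUV fun x hx => ?_
  obtain ⟨_, ⟨W, hW, rfl⟩, hfx, hWV⟩ :=
    Y.isBasis_affineOpens.exists_subset_of_mem_open (show f.base x ∈ (g ⁻¹ᵁ V : Y.Opens) from hUV hx)
      (g ⁻¹ᵁ V).2
  obtain ⟨a, ha, hxa⟩ := hU.exists_basicOpen_le (V := U ⊓ f ⁻¹ᵁ W) ⟨x, hx, hfx⟩ hx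
  have e : X.basicOpen a ≤ (f ≫ g) ⁻¹ᵁ V := le_trans (X.basicOpen_le a) hUV
  refine ⟨a, e, hxa, ?_⟩
  have haW : X.basicOpen a ≤ f ⁻¹ᵁ W := le_trans ha inf_le_right
  let := (g.appLE V W hWV).hom.toAlgebra
  let := (f.appLE W (X.basicOpen a) haW).hom.toAlgebra
  let := ((f ≫ g).appLE V (X.basicOpen a) e).hom.toAlgebra
  have : IsScalarTower Γ(Z, V) Γ(Y, W) Γ(X, X.basicOpen a) := IsScalarTower.of_algebraMap_eq'
    (by
      have h1 := Scheme.Hom.appLE_comp_appLE f g V W (X.basicOpen a) hWV haW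
      exact congrArg CommRingCat.Hom.hom h1.symm)
  exact FlatMor67.isLCI_trans (hg W V hW hV hWV) (hf _ W (hU.basicOpen a) hW haW)

end Groth.Agent.S1491
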