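import Groth.Statements.S14929
import Groth.Agent.Var76.FrobHomeo

set_option autoImplicit false
universe u
open CategoryTheory CategoryTheory.Limits AlgebraicGeometry
open Variety

namespace Groth.Agent.S14929


open Groth.Agent.Var76

/-- Let p be a prime and X a scheme of characteristic p (p is zero in the structure sheaf). Then the
absolute Frobenius F_X : X → X, the identity on the underlying space with g ↦ g^p on sections, is a
universal homeomorphism (every base change of it is a homeomorphism), is integral, and induces a
purely inseparable extension of residue fields κ(x) → κ(x) at every point x of X. -/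
theorem result (p : ℕ) [Fact p.Prime]
    (X : Scheme.{u}) [FrobSch.IsCharP X p] :
    FlatMor.IsUnivHomeo (FrobSch.frob X p) ∧ IsIntegralHom (FrobSch.frob X p) ∧
      ∀ x : X, ((FrobSch.frob X p).residueFieldMap x).hom.IsPurelyInseparable := by
  exact ⟨FrobHomeo.frob_isUnivHomeo p X, FrobHomeo.isIntegralHom_of_isUnivHomeo (FrobHomeo.frob_isUnivHomeo p X),
    FrobHomeo.residue_isPurelyInseparable (FrobHomeo.frob_isUnivHomeo p X)⟩

end Groth.Agent.S14929
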