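import Groth.Statements.S1493
import Groth.Agent.FlatMor67.LCIRegular
-- import your own Groth.Agent.* helpers here

set_option autoImplicit false
universe u
attribute [local instance] HasDerivedCategory.standard
open FlatMor

namespace Groth.Agent.S1493

open AlgebraicGeometry CategoryTheory Limits in
/-- Let f : X → Y be locally of finite type with X and Y regular (locally Noetherian with regular local
rings). Then f is a local complete intersection morphism (affine-locally: local complete
intersection ring maps). -/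
theorem result {X Y : Scheme.{u}} (f : X ⟶ Y) [LocallyOfFiniteType f] [IsLocallyNoetherian X] [IsLocallyNoetherian Y]
    (hX : ∀ x : X, IsRegularLocalRing ↑(X.presheaf.stalk x)) (hY : ∀ y : Y, IsRegularLocalRing ↑(Y.presheaf.stalk y)) :
    (∀ (U : X.Opens) (V : Y.Opens) (hU : IsAffineOpen U) (hV : IsAffineOpen V) (hUV : U ≤ f ⁻¹ᵁ V),
        letI := (f.appLE V U hUV).hom.toAlgebra
        LCI.IsLCI Γ(Y, V) Γ(X, U)) := by
  intro U V hU hV hUV
  let := (f.appLE V U hUV).hom.toAlgebra
  have hft : Algebra.FiniteType Γ(Y, V) Γ(X, U) :=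
    (HasRingHomProperty.appLE @LocallyOfFiniteType f inferInstance ⟨V, hV⟩ ⟨U, hU⟩ hUV :)
  have hreg : ∀ {Z : Scheme.{u}} [IsLocallyNoetherian Z],
      (∀ z : Z, IsRegularLocalRing ↑(Z.presheaf.stalk z)) → ∀ {W : Z.Opens}, IsAffineOpen W →
      IsRegularRing Γ(Z, W) := by
    intro Z _ hZ W hW
    have : IsNoetherianRing Γ(Z, W) := IsLocallyNoetherian.component_noetherian ⟨W, hW⟩
    refine isRegularRing_iff.2 fun p hp => ?_
    have hz : hW.fromSpec ⟨p, hp⟩ ∈ W := hW.range_fromSpec.subset ⟨_, rfl⟩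
    let := (TopCat.Presheaf.algebra_section_stalk Z.presheaf ⟨hW.fromSpec ⟨p, hp⟩, hz⟩)
    have hloc : IsLocalization.AtPrime (Z.presheaf.stalk (hW.fromSpec ⟨p, hp⟩)) p :=
      hW.isLocalization_stalk' ⟨p, hp⟩ hz
    have := hZ (hW.fromSpec ⟨p, hp⟩)
    exact IsRegularLocalRing.of_ringEquiv
      (IsLocalization.algEquiv p.primeCompl (Z.presheaf.stalk (hW.fromSpec ⟨p, hp⟩))
        (Localization.AtPrime p)).toRingEquiv
  have := hreg hX hU
  have := hreg hY hV
  obtain ⟨n, α, hα⟩ := Algebra.FiniteType.iff_quotient_mvPolynomial''.1 hft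
  refine ⟨hft, n, α, hα, ?_⟩
  have : IsRegularRing (MvPolynomial (Fin n) Γ(Y, V) ⧸ RingHom.ker α.toRingHom) :=
    IsRegularRing.of_ringEquiv (RingHom.quotientKerEquivOfSurjective (f := α.toRingHom) hα).symm
  exact FlatMor67.isKoszulRegularIdeal_of_regular _

end Groth.Agent.S1493
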