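import Groth.Statements.S14932
import Groth.Agent.FrobTwist31.Field
import Groth.Agent.FrobTwist31.Geo
import Groth.Agent.Var76.FrobHomeo
import Groth.Agent.Var76.VarDim
import Groth.Agent.VarGal.GeomRed

set_option autoImplicit false
universe u
open CategoryTheory CategoryTheory.Limits AlgebraicGeometry
open Variety

namespace Groth.Agent.S14932

/-- Let k be a field of characteristic p > 0 and X a variety over k (an integral scheme, separated and
of finite type over k) which is geometrically reduced over k, of dimension d. Then the Frobenius
twist X^(p) = X ×_{Spec k, F_k} Spec k, the base change of X along the absolute Frobenius of Spec k,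
is an integral scheme, and the relative Frobenius F_{X/k} : X → X^(p) has degree p^d: the residue
field of the generic point of X is an extension of degree p^d of the residue field of its image in
X^(p). (The published item also says that X^(p) is separated and of finite type over k and that
F_{X/k} is finite and dominant; these hold for every base change of a separated morphism of finite
type, respectively for the relative Frobenius of every scheme locally of finite type over a base of
characteristic p, and are not restated. It also states the equivalence of: X^(p) reduced, X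
geometrically reduced, X has a nonempty open smooth over k; that equivalence is not part of this
row.) -/
theorem result (k : Type u) [Field k]
    (p : ℕ) [Fact p.Prime] [CharP k p] (X : Scheme.{u}) [X.Over (Spec (CommRingCat.of k))] [IsIntegral X]
    [IsSeparated (X ↘ (Spec (CommRingCat.of k)))] [LocallyOfFiniteType (X ↘ (Spec (CommRingCat.of k)))] [QuasiCompact (X ↘ (Spec (CommRingCat.of k)))]
    [GeometricallyReduced (X ↘ (Spec (CommRingCat.of k)))] (d : ℕ) (hd : topologicalKrullDim X = d) :
    IsIntegral (FrobSch.frobTwist (X ↘ (Spec (CommRingCat.of k))) p) ∧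
      (FrobSch.relFrob (X ↘ (Spec (CommRingCat.of k))) p).residueDegree (genericPoint X) = p ^ d := by
  let S := Spec (CommRingCat.of k)
  let f := X ↘ S
  have : FrobSch.IsCharP X p := FrobSch.IsCharP.of_hom f p
  let F := FrobSch.relFrob f p
  have hU := Var76.FrobHomeo.relFrob_isUnivHomeo p f
  have hsurj : Function.Surjective F := ((UH57.isUnivHomeo_iff' F).mp hU).2.2.surj
  have : AlgebraicGeometry.IsReduced (FrobSch.frobTwist f p) :=
    GeometricallyReduced.geometrically_isReduced (f := f) _ _ _ (.of_hasPullback f (FrobSch.frob S p))
  have : Nonempty ↥(FrobSch.frobTwist f p) := ⟨F (genericPoint X)⟩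
  have : IrreducibleSpace ↥(FrobSch.frobTwist f p) :=
    { toNonempty := inferInstance
      toPreirreducibleSpace := Function.Surjective.preirreducibleSpace (f := ⇑F) F.continuous hsurj }
  refine ⟨isIntegral_of_irreducibleSpace_of_isReduced _, ?_⟩
  let η := genericPoint X
  let K := X.residueField η
  let : Algebra k K := (Curv2.resMap k X η).toAlgebra
  have : CharP K p := .of_ringHom_of_ne_zero (algebraMap k K) p (Fact.out : p.Prime).ne_zero
  -- transport from the function field
  let : Algebra k X.functionField := (Curv2.stalkMap k X η).toAlgebra
  have hbij : Function.Bijective (X.residue η).hom := ⟨(X.residue η).hom.injective, X.residue_surjective η⟩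
  let e : X.functionField ≃ₐ[k] K := AlgEquiv.ofRingEquiv (f := RingEquiv.ofBijective _ hbij) fun _ => rfl
  have hgr : Algebra.IsGeometricallyReduced k X.functionField :=
    (VarGal.isGeomReducedAt_iff_stalk η).1 ((FBase64.geometricallyReduced_iff_forall f).1 ‹_› η)
  have : Algebra.IsGeometricallyReduced k K := Algebra.IsGeometricallyReduced.of_injective e.symm.toAlgHom e.symm.injective
  have hst : Curv2.stalkMap k X η = Var76.VarDim.constField k X := by
    refine RingHom.ext fun c => ?_
    show X.presheaf.germ ⊤ η trivial (Coh.toGlobal f c) = X.presheaf.germ ⊤ η trivial (Var76.BertiniScheme.const (k := k) X (⊤ : X.Opens) c)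
    congr 1
    simp [Coh.toGlobal, Var76.BertiniScheme.const, f, S, Scheme.Hom.appLE, Scheme.Hom.appTop]
    rfl
  have htr : Algebra.trdeg k K = (d : Cardinal.{u}) := by
    rw [← e.trdeg_eq]
    obtain ⟨W, hW, hηW, -⟩ := exists_isAffineOpen_mem_and_subset (U := (⊤ : X.Opens)) (x := η) trivial
    have : Nonempty W := ⟨⟨η, hηW⟩⟩
    have h := (Var76.VarDim.trdeg_chart (k := k) hW).2
    rw [Var76.VarDim.trdegFF_eq hd] at h
    convert h using 2
    exact congrArg RingHom.toAlgebra hst
  have : Algebra.EssFiniteType k X.functionField := by
    obtain ⟨W, hW, hηW, -⟩ := exists_isAffineOpen_mem_and_subset (U := (⊤ : X.Opens)) (x := η) trivial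
    have : Nonempty W := ⟨⟨η, hηW⟩⟩
    let : Algebra k Γ(X, W) := (Var76.BertiniScheme.const (k := k) X W).toAlgebra
    have := Var76.VarDim.finiteType_const (k := k) hW
    have : IsFractionRing Γ(X, W) X.functionField := functionField_isFractionRing_of_isAffineOpen X W hW
    have : IsScalarTower k Γ(X, W) X.functionField := IsScalarTower.of_algebraMap_eq fun r => by
      show Curv2.stalkMap k X η r = _
      rw [hst]
      exact (Var76.VarDim.germ_const hηW r).symm
    have : Algebra.EssFiniteType Γ(X, W) X.functionField := .of_isLocalization _ (nonZeroDivisors _)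
    exact Algebra.EssFiniteType.comp k Γ(X, W) X.functionField
  have : Algebra.EssFiniteType k K := Algebra.EssFiniteType.of_surjective e.toAlgHom e.surjective
  have : ExpChar k p := .prime Fact.out
  obtain ⟨s, hs, hsep⟩ := exists_isTranscendenceBasis_and_isSeparable_of_linearIndepOn_pow_of_essFiniteType
    (k := k) (K := K) p Fact.out (FrobTwist31.linearIndepOn_pow p)
  have hcard : Fintype.card s = d := by
    have h1 := hs.cardinalMk_eq_trdeg
    rw [htr, Cardinal.mk_fintype] at h1
    exact_mod_cast h1
  have hsep' : Algebra.IsSeparable (IntermediateField.adjoin k (Set.range ((↑) : s → K))) K := by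
    convert! hsep <;> simp
  have hfin : FiniteDimensional (IntermediateField.adjoin k (Set.range ((↑) : s → K))) K := by
    have : Algebra.EssFiniteType (IntermediateField.adjoin k (Set.range ((↑) : s → K))) K :=
      Algebra.EssFiniteType.of_comp k _ _
    exact Algebra.finite_of_essFiniteType_of_isAlgebraic
  -- the image of the residue field of the twist
  let φ := F.residueFieldMap η
  obtain ⟨hk, hpow, hle⟩ := FrobTwist31.image_residueField p (k := k) X
  rw [← hcard, ← FrobTwist31.finrank_eq p k ((↑) : s → K) hs.1 φ.hom.fieldRange hk hpow hle]
  exact FrobTwist31.finrank_fieldRange φ.hom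

end Groth.Agent.S14932
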