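import Groth.Statements.S14933
import Groth.Agent.Var76.OmegaUniv

set_option autoImplicit false
universe u
open CategoryTheory CategoryTheory.Limits AlgebraicGeometry
open Variety

namespace Groth.Agent.S14933

open Groth.Agent Groth.Agent.QC70
open scoped TensorProduct

set_option backward.isDefEq.respectTransparency false

theorem der_pow {X Y : Scheme.{u}} {f : X ⟶ Y} {F : X.Modules} (D : OmegaSh.Der f F) (W : X.Opens)
    (a : Γ(X, W)) (n : ℕ) : D.app W (a ^ (n + 1)) = ((n + 1 : ℕ) : Γ(X, W)) • a ^ n • D.app W a := by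
  induction n with
  | zero => simp
  | succ n ih =>
    rw [pow_succ _ (n + 1), Var76.OmegaUniv.Der.map_mul, ih, smul_smul, smul_smul, smul_smul, ← add_smul]
    congr 1
    push_cast
    ring

theorem der_pow_p {X Y : Scheme.{u}} {f : X ⟶ Y} {F : X.Modules} (D : OmegaSh.Der f F) (p : ℕ)
    [Fact p.Prime] [FrobSch.IsCharP X p] (W : X.Opens) (a : Γ(X, W)) : D.app W (a ^ p) = 0 := by
  obtain ⟨n, hn⟩ : ∃ n, p = n + 1 := ⟨p - 1, by have := (Fact.out : p.Prime).pos; omega⟩
  rw [hn, der_pow, ← hn, FrobSch.natCast_eq_zero_app, zero_smul]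

/-- A derivation over the base kills the functions coming from the Frobenius twist. -/
theorem der_relFrob {p : ℕ} [Fact p.Prime] {X S : Scheme.{u}} [FrobSch.IsCharP S p] (f : X ⟶ S)
    {Ω : X.Modules} (d : OmegaSh.Der f Ω) (W : (FrobSch.frobTwist f p).Opens)
    (c : Γ(FrobSch.frobTwist f p, W)) :
    d.app (FrobSch.relFrob f p ⁻¹ᵁ W) ((FrobSch.relFrob f p).app W c) = 0 := by
  have : FrobSch.IsCharP X p := FrobSch.IsCharP.of_hom f p
  let P := FrobSch.frobTwist f p
  let F := FrobSch.relFrob f p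
  let fst : P ⟶ X := pullback.fst f (FrobSch.frob S p)
  let snd : P ⟶ S := pullback.snd f (FrobSch.frob S p)
  have hfst : F ≫ fst = FrobSch.frob X p := FrobSch.relFrob_fst f p
  have hsnd : F ≫ snd = f := FrobSch.relFrob_snd f p
  refine section_ext Ω _ _ fun x hx => ?_
  obtain ⟨_, ⟨V, hV, rfl⟩, hxV, -⟩ := S.isBasis_affineOpens.exists_subset_of_mem_open
    (show f x ∈ (⊤ : S.Opens) from trivial) (⊤ : S.Opens).isOpen
  obtain ⟨_, ⟨U, hU, rfl⟩, hxU, hUV⟩ := X.isBasis_affineOpens.exists_subset_of_mem_open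
    (show x ∈ f ⁻¹ᵁ V from hxV) (f ⁻¹ᵁ V).isOpen
  have hUV : U ≤ f ⁻¹ᵁ V := hUV
  have hVV : V ≤ FrobSch.frob S p ⁻¹ᵁ V := le_rfl
  let T : P.Opens := fst ⁻¹ᵁ U ⊓ snd ⁻¹ᵁ V
  have hpb := Scheme.Hom.isPullback_resLE (IsPullback.of_hasPullback f (FrobSch.frob S p)).flip
    (US := V) (UT := U) (UX := V) hUV hVV (UY := T) (inf_comm _ _)
  have : IsAffine (U : Scheme.{u}) := hU
  have : IsAffine (V : Scheme.{u}) := hV
  have hT : IsAffineOpen T := IsAffine.of_isPullback hpb
  have hxT : F x ∈ T := by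
    refine ⟨?_, ?_⟩
    · show fst (F x) ∈ U
      rw [← Scheme.Hom.comp_apply, hfst]; exact hxU
    · show snd (F x) ∈ V
      rw [← Scheme.Hom.comp_apply, hsnd]; exact hxV
  have hTU : F ⁻¹ᵁ T ≤ U := fun y hy => by
    have h2 : fst (F y) ∈ U := hy.1
    rw [← Scheme.Hom.comp_apply, hfst] at h2
    exact h2
  have hUT : U ≤ F ⁻¹ᵁ T := fun y hy => by
    refine ⟨?_, ?_⟩
    · show fst (F y) ∈ U
      rw [← Scheme.Hom.comp_apply, hfst]; exact hy
    · show snd (F y) ∈ V
      rw [← Scheme.Hom.comp_apply, hsnd]; exact hUV hy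
  have hpo : IsPushout (f.appLE V U hUV) ((FrobSch.frob S p).appLE V V hVV)
      (fst.appLE U T inf_le_left) (snd.appLE V T inf_le_right) := by
    refine ((isPushout_appTop_of_isPullback hpb).of_iso (Scheme.Opens.topIso V) (Scheme.Opens.topIso V)
      (Scheme.Opens.topIso U) T.topIso ?_ ?_ ?_ ?_).flip <;>
    · simp only [Scheme.Hom.appTop, Scheme.Hom.resLE_app_top, Category.assoc, Iso.inv_hom_id,
        Category.comp_id]
      try rfl
  let R₀ : Subring Γ(P, T) := Subring.closure
    (Set.range (fst.appLE U T inf_le_left) ∪ Set.range (snd.appLE V T inf_le_right))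
  let il : Γ(X, U) ⟶ CommRingCat.of R₀ := CommRingCat.ofHom
    ((fst.appLE U T inf_le_left).hom.codRestrict R₀ fun a => Subring.subset_closure (Or.inl ⟨a, rfl⟩))
  let ir : Γ(S, V) ⟶ CommRingCat.of R₀ := CommRingCat.ofHom
    ((snd.appLE V T inf_le_right).hom.codRestrict R₀ fun a => Subring.subset_closure (Or.inr ⟨a, rfl⟩))
  let ι : CommRingCat.of R₀ ⟶ Γ(P, T) := CommRingCat.ofHom R₀.subtype
  have hw : f.appLE V U hUV ≫ il = (FrobSch.frob S p).appLE V V hVV ≫ ir := by
    ext a
    exact congr($(hpo.w) a)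
  have hid : hpo.desc il ir hw ≫ ι = 𝟙 _ := by
    apply hpo.hom_ext
    · rw [hpo.inl_desc_assoc, Category.comp_id]
      ext a; rfl
    · rw [hpo.inr_desc_assoc, Category.comp_id]
      ext a; rfl
  have hgen : ∀ t, t ∈ R₀ := fun t => by
    have h : ι (hpo.desc il ir hw t) = t := congr($hid t)
    rw [← h]
    exact (hpo.desc il ir hw t).2
  have hTd : ∀ t : Γ(P, T), d.app U (F.appLE T U hUT t) = 0 := by
    intro t
    induction hgen t using Subring.closure_induction with
    | mem y hy =>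
      rcases hy with ⟨a, rfl⟩ | ⟨b, rfl⟩
      · have h2 : F.appLE T U hUT (fst.appLE U T inf_le_left a) = a ^ p := by
          rw [← ConcreteCategory.comp_apply, Scheme.Hom.appLE_comp_appLE]
          refine (congr($(OmegaSh.appLE_congr_hom hfst _ (le_rfl : U ≤ FrobSch.frob X p ⁻¹ᵁ U)) a)).trans ?_
          rw [Scheme.Hom.appLE, ConcreteCategory.comp_apply, FrobSch.frob_app]
          exact resO_self _
        rw [h2, der_pow_p d p]
      · have h1 : F.appLE T U hUT (snd.appLE V T inf_le_right b) = f.appLE V U hUV b := by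
          rw [← ConcreteCategory.comp_apply, Scheme.Hom.appLE_comp_appLE]
          exact congr($(OmegaSh.appLE_congr_hom hsnd _ hUV) b)
        rw [h1, Var76.OmegaUniv.Der.appLE d hUV b]
    | zero => rw [map_zero, map_zero]
    | one =>
      rw [map_one]
      have h := Var76.OmegaUniv.Der.map_mul d U 1 1
      rw [one_mul, one_smul] at h
      exact left_eq_add.mp h
    | add a b _ _ ha hb => rw [map_add, map_add, ha, hb, add_zero]
    | neg a _ ha => rw [map_neg, map_neg, ha, neg_zero]
    | mul a b _ _ ha hb => rw [map_mul, Var76.OmegaUniv.Der.map_mul, ha, hb, smul_zero, smul_zero, add_zero]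
  obtain ⟨g, hgW, hgx⟩ := hT.exists_basicOpen_le ⟨F x, hx⟩ hxT
  let U' := F ⁻¹ᵁ P.basicOpen g
  have hU'W : U' ≤ F ⁻¹ᵁ W := fun y hy => hgW hy
  refine ⟨U', hU'W, hgx, ?_⟩
  rw [QC70.res_zero]
  letI : Algebra Γ(P, T) Γ(P, P.basicOpen g) :=
    (P.presheaf.map (homOfLE (P.basicOpen_le g)).op).hom.toAlgebra
  have : IsLocalization.Away g Γ(P, P.basicOpen g) := hT.isLocalization_basicOpen g
  obtain ⟨n, b, hb⟩ := IsLocalization.Away.surj g (resO P hgW c)
  have hb' : resO P hgW c * resO P (P.basicOpen_le g) g ^ n = resO P (P.basicOpen_le g) b := hb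
  have hres : ∀ t : Γ(P, T), d.app U' (F.app (P.basicOpen g) (resO P (P.basicOpen_le g) t)) = 0 := by
    intro t
    have hle : U' ≤ U := fun y hy => hTU (P.basicOpen_le g hy)
    have heq : F.app (P.basicOpen g) (resO P (P.basicOpen_le g) t) = resO X hle (F.appLE T U hUT t) := by
      show (P.presheaf.map (homOfLE (P.basicOpen_le g)).op ≫ F.app (P.basicOpen g)) t = _
      rw [Scheme.Hom.naturality, Scheme.Hom.appLE, ConcreteCategory.comp_apply, ConcreteCategory.comp_apply]
      exact (resO_resO hUT hle _).symm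
    rw [heq, Var76.OmegaUniv.Der.res, hTd, QC70.res_zero]
  have h1 := congrArg (fun z => d.app U' (F.app (P.basicOpen g) z)) hb'
  simp only [map_mul] at h1
  rw [hres b, Var76.OmegaUniv.Der.map_mul,
    ← resO_pow, hres (g ^ n), smul_zero, zero_add] at h1
  have hu : IsUnit (F.app (P.basicOpen g) (resO P (P.basicOpen_le g) (g ^ n))) := by
    rw [resO_pow]
    exact ((RingedSpace.isUnit_res_basicOpen _ g).pow n).map _
  have h2 := hu.smul_eq_zero.mp h1
  rw [← Var76.OmegaUniv.Der.res]
  refine Eq.trans (congrArg (d.app U') ?_) h2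
  show (F.app W ≫ X.presheaf.map (homOfLE hU'W).op) c = (P.presheaf.map (homOfLE hgW).op ≫ F.app _) c
  rw [Scheme.Hom.naturality]
  rfl

/-- Let p be a prime, S a scheme of characteristic p (p is zero in the structure sheaf) and f : X → S a
morphism of schemes, with relative Frobenius F_{X/S} : X → X^(p) = X ×_{S,F_S} S over S. Then the
sheaf of differentials of X over S is also the sheaf of differentials of X over X^(p): if Ω is an
O_X-module and d : O_X → Ω a universal S-derivation, then d kills every section coming from X^(p),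
i.e. there is a derivation O_X → Ω relative to F_{X/S} with the same values as d, and that
derivation is universal among derivations relative to F_{X/S}. -/
theorem result (p : ℕ) [Fact p.Prime]
    {X S : Scheme.{u}} [FrobSch.IsCharP S p] (f : X ⟶ S)
    (Ω : X.Modules) (d : OmegaSh.Der f Ω) (hd : OmegaSh.IsUniversal d) :
    ∃ d' : OmegaSh.Der (FrobSch.relFrob f p) Ω,
      (∀ (U : X.Opens) (s : Γ(X, U)), d'.app U s = d.app U s) ∧ OmegaSh.IsUniversal d' := by
  classical
  let F := FrobSch.relFrob f p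
  let d' : OmegaSh.Der F Ω :=
    { d := d.d
      d_mul := d.d_mul
      d_map := d.d_map
      d_app := fun {V} c => der_relFrob f d V.unop c }
  refine ⟨d', fun U s => rfl, fun M D => ?_⟩
  let D₀ : OmegaSh.Der f M :=
    { d := D.d
      d_mul := D.d_mul
      d_map := D.d_map
      d_app := fun {V} c => by
        let snd : FrobSch.frobTwist f p ⟶ S := pullback.snd f (FrobSch.frob S p)
        have hs : F ≫ snd = f := FrobSch.relFrob_snd f p
        have e : f ⁻¹ᵁ V.unop ≤ F ⁻¹ᵁ (snd ⁻¹ᵁ V.unop) := fun y hy => by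
          show snd (F y) ∈ V.unop
          rw [← Scheme.Hom.comp_apply, hs]
          exact hy
        have h : f.app V.unop c = resO X e (F.app (snd ⁻¹ᵁ V.unop) (snd.app V.unop c)) := by
          rw [Scheme.Hom.congr_app hs.symm V.unop, Scheme.Hom.comp_app]
          rfl
        show OmegaSh.Der.app D (f ⁻¹ᵁ V.unop) (f.app V.unop c) = 0
        rw [h, Var76.OmegaUniv.Der.res,
          show OmegaSh.Der.app D (F ⁻¹ᵁ (snd ⁻¹ᵁ V.unop)) (F.app (snd ⁻¹ᵁ V.unop) (snd.app V.unop c)) = 0 from
            D.d_app (X := Opposite.op (snd ⁻¹ᵁ V.unop)) (snd.app V.unop c), QC70.res_zero] }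
  obtain ⟨α, hα, huniq⟩ := hd M D₀
  refine ⟨α, ?_, fun β hβ => huniq β ?_⟩
  · refine PresheafOfModules.Derivation.ext ?_
    exact congrArg (fun E : OmegaSh.Der f M => @E.d) hα
  · refine PresheafOfModules.Derivation.ext ?_
    exact congrArg (fun E : OmegaSh.Der F M => @E.d) hβ

end Groth.Agent.S14933
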