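import Groth.Statements.S1498
import Groth.Agent.FlatMor67.UniformFibre
import Groth.Agent.S15985
import Groth.Agent.S14444

set_option autoImplicit false
universe u
attribute [local instance] HasDerivedCategory.standard
open FlatMor

namespace Groth.Agent.S1498

open AlgebraicGeometry CategoryTheory Limits in
/-- Parts (1) and (2) (the source moreover reconstructs X' as the relative Proj of the resulting
algebra, which is not stated here): let f : X → S be proper, flat and of finite presentation with S
quasi-compact, and let L be an O_X-module ample relative to f. Then there is d₀ ≥ 0 such that for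
every thickening i : S → S', every proper flat morphism of finite presentation f' : X' → S' with a
cartesian square over i, and every invertible O_{X'}-module L' pulling back to L, for all d ≥ d₀ the
cohomology H^p, p > 0, of L'^{⊗d} vanishes over the preimage of every affine open of S' and f'_*
L'^{⊗d} is a finite locally free O_{S'}-module. -/
theorem result {X S : Scheme.{u}} (f : X ⟶ S) [IsProper f] [Flat f] [LocallyOfFinitePresentation f] [CompactSpace ↑S]
    (L : X.Modules) (hL : RelAmple.IsRelAmple f L) :
    ∃ d₀ : ℕ, ∀ (X' S' : Scheme.{u}) (i : S ⟶ S') (i' : X ⟶ X') (f' : X' ⟶ S') (hi : MoreMor.IsThickening i) (hc : IsPullback i' f f' i)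
      (hf'₁ : IsProper f') (hf'₂ : Flat f') (hf'₃ : LocallyOfFinitePresentation f') (L' : X'.Modules) (hL' : PicF.IsInvertible L')
      (e : Nonempty ((Scheme.Modules.pullback i').obj L' ≅ L)) (d : ℕ), d₀ ≤ d →
        (∀ (U : S'.Opens) (p : ℕ), IsAffineOpen U → 0 < p → Subsingleton (Coh.HHon X' (CohB1.tensorPow L' d) (f' ⁻¹ᵁ U) p)) ∧
        FlatMod.IsFinLocFree ((Scheme.Modules.pushforward f').obj (CohB1.tensorPow L' d)) := by
  obtain ⟨N, hN⟩ := FlatMor67.UniformFibre.exists_bound f hL
  refine ⟨N, fun X' S' i i' f' hi hc hf'₁ hf'₂ hf'₃ L' hL' ⟨e⟩ d hd => ?_⟩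
  haveI := hi.2
  have hfib : ∀ (y : S') (p : ℕ), 1 ≤ p → Subsingleton (CohIII.fiberH f' (CohB1.tensorPow L' d) y p) := by
    intro y p hp
    obtain ⟨s, rfl⟩ := i.surjective y
    exact (FlatMor67.UniformFibre.bound_baseChange hc hL' e s d p).2 (hN s d p hd hp)
  have hinv := EGA73.isInvertible_tensorPow hL' d
  haveI : Coh.IsQCoh (CohB1.tensorPow L' d) := Mero90.isQCoh_of_isInvertible hinv
  have hfp := PicLim95.isFP_of_isInvertible hinv
  have hfl := Cube73.isFlatOver_of_isInvertible f' hinv
  refine ⟨fun U p hU hp => ?_, (S14444.result f' _ hfp hfl fun v => hfib v 1 le_rfl).1⟩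
  exact FlatMor67.FibreVanish.subsingleton_hhon hfp hfl (fun q hq => S15985.result f' _ hfp hfl q
    fun y => hfib y q hq) hU p hp

end Groth.Agent.S1498
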