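import Groth.Statements.S14980
import Groth.Agent.CBr96.Orbit
-- import your own Groth.Agent.* helpers here

set_option autoImplicit false
universe u
open CategoryTheory MonoidalCategory CartesianMonoidalCategory MonObj AlgebraicGeometry
open CoactBr

namespace Groth.Agent.S14980

/-- Let `R` be a commutative ring, `A` a commutative Hopf algebra over `R` which is finite locally free
as an `R`-module (`G = Spec A` a finite locally free group scheme over `S = Spec R`), `B` a
commutative `R`-algebra, flat over `R`, with a coaction of `A` that is an algebra map (an action of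
`G` on `X = Spec B`) whose ring of invariants is `R` itself (the structure map `R → B^A` is
bijective, so `S` is the quotient of `X` by `G`), and `K` an algebraically closed field over `R`, a
geometric point of `S`. For any two `K`-points `x₁, x₂ : B → K` of `X` (which lie over that
geometric point of `S`) there is a `K`-point `g` of `G` conjugating the inertia group scheme at `x₂`
onto the one at `x₁`: for every scheme `T` over `Spec K` and every `T`-point `k` of `G`, `k` fixes
the `T`-point of `X` induced by `x₁` if and only if `g⁻¹ k g` fixes the one induced by `x₂`. (The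
published statement takes the points to be the canonical points of the primes of `B` over a prime of
`B^A`, base-changed to an algebraic closure of its residue field; any two `K`-points with `K`
algebraically closed are treated here, which is what the argument gives; and `G` finite over `S` is
read as finite locally free, the standing flatness included.) -/
theorem result
    (R A B K : Type u) [CommRing R] [CommRing A] [HopfAlgebra R A]
    [Module.Flat R A] [Module.Finite R A] [Module.Projective R A]
    [CommRing B] [Algebra R B] [Module.Flat R B] [HopfRep.Comod R A B] [GLin.IsCoactAlg R A B]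
    (hC : Function.Bijective (algebraMap R (GLin.invariants R A B)))
    [Field K] [IsAlgClosed K] [Algebra R K] (x₁ x₂ : B →ₐ[R] K) :
    ∃ g : CoactBr.sp R K ⟶ CoactBr.sp R A,
      ∀ (T : Over (Spec (CommRingCat.of R))) (h : T ⟶ CoactBr.sp R K) (k : T ⟶ CoactBr.sp R A),
        lift k (h ≫ CoactBr.pt x₁) ≫ (CoactBr.action R A B).act = h ≫ CoactBr.pt x₁ ↔
          lift ((h ≫ g)⁻¹ * k * (h ≫ g)) (h ≫ CoactBr.pt x₂) ≫ (CoactBr.action R A B).act =
            h ≫ CoactBr.pt x₂ := by
  classical
  let G := Groth.Agent.CBr96.grp R A B
  obtain ⟨ρ, hρt, hρs⟩ := G.exists_point_arrow (Groth.Agent.FinHopf34.isInvariants_grpd _ _ _ _)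
    x₂.toRingHom x₁.toRingHom (by
      ext c
      obtain ⟨r, hr⟩ := hC.2 ⟨c.1, c.2⟩
      have hr1 : algebraMap R B r = c.1 := congrArg Subtype.val hr
      change x₂ c.1 = x₁ c.1
      rw [← hr1, x₁.commutes, x₂.commutes])
  let ρ₀ : TensorProduct R B A →ₐ[R] K :=
    { ρ with
      commutes' := fun r => by
        have h := RingHom.congr_fun hρs (algebraMap R B r)
        exact h.trans (x₁.commutes r) }
  let g₀ : A →ₐ[R] K := ρ₀.comp Algebra.TensorProduct.includeRight
  have hlift : Algebra.TensorProduct.lift x₁ g₀ (fun _ _ => Commute.all _ _) = ρ₀ :=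
    Algebra.TensorProduct.ext' fun b a => by
      rw [Algebra.TensorProduct.lift_tmul]
      have h1 : x₁ b = ρ₀ (TensorProduct.tmul R b (1 : A)) := (RingHom.congr_fun hρs b).symm
      rw [h1]
      change ρ₀ (TensorProduct.tmul R b (1 : A)) * ρ₀ (TensorProduct.tmul R (1 : B) a) = _
      rw [← map_mul, Algebra.TensorProduct.tmul_mul_tmul, _root_.one_mul, _root_.mul_one]
  have hx₂ : (Algebra.TensorProduct.lift x₁ g₀ (fun _ _ => Commute.all _ _)).comp (GLin.coactAlgHom R A B) = x₂ := by
    rw [hlift]
    exact AlgHom.ext fun b => RingHom.congr_fun hρt b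
  refine ⟨CoactBr.pt g₀, fun T h k => ?_⟩
  have h1 := Groth.Agent.CBr96.fix_translate (B := B) (h ≫ CoactBr.pt x₁) (h ≫ CoactBr.pt g₀) k
  rw [Groth.Agent.CBr96.comp_pt_translate, hx₂] at h1
  exact h1

end Groth.Agent.S14980
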