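import Groth.Statements.S14982
import Groth.Agent.CBr96.Orbit
-- import your own Groth.Agent.* helpers here

set_option autoImplicit false
universe u
open CategoryTheory MonoidalCategory CartesianMonoidalCategory MonObj AlgebraicGeometry
open CoactBr

namespace Groth.Agent.S14982

/-- Let `R` be a commutative ring, `A` a commutative Hopf algebra over `R` which is finite locally free
as an `R`-module (`G = Spec A` a finite flat group scheme over `S = Spec R`), `B` a commutative
`R`-algebra with a coaction of `A` that is an algebra map (an action of `G` on `X = Spec B`), `C =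
B^A` the ring of invariants and `π : X → Y = Spec C` the quotient map. Let `K` be a field over `R`,
`x : B → K` an `R`-algebra map (a point of `X`) and `y` the image in `Y` of the point underlying
`x`. Then the inertia group scheme at `x` is trivial (for every scheme `T` over `Spec K`, every
`T`-point of `G` fixing the point of `X` induced by `x` is the unit) if and only if there is a flat
morphism locally of finite presentation `Y' → Y` whose image contains `y` and over which the action
becomes free: for every scheme `T` over `S` and every `T`-point `ζ` of `X` whose composite with `π`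
lifts to `Y'`, every `T`-point of `G` fixing `ζ` is the unit (this is freeness of the base-changed
action of `G ×_S Y'` on `X ×_Y Y'`, written through points of `G` and `X`). (`G` finite flat is read
as finite locally free. The published result also says that `X ×_Y Y'` is then a torsor under
`G_{Y'}` and gives a third equivalent condition, that after a further fppf base change the action is
induced from an action of the trivial group; neither is stated here.) -/
theorem result
    (R A B K : Type u) [CommRing R] [CommRing A] [HopfAlgebra R A]
    [Module.Flat R A] [Module.Finite R A] [Module.Projective R A]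
    [CommRing B] [Algebra R B] [HopfRep.Comod R A B] [GLin.IsCoactAlg R A B]
    [Field K] [Algebra R K] (x : B →ₐ[R] K) :
    (∀ (T : Over (Spec (CommRingCat.of R))) (h : T ⟶ CoactBr.sp R K) (g : T ⟶ CoactBr.sp R A),
        lift g (h ≫ CoactBr.pt x) ≫ (CoactBr.action R A B).act = h ≫ CoactBr.pt x → g = 1) ↔
      ∃ (Y' : Scheme.{u}) (c : Y' ⟶ Spec (CommRingCat.of (GLin.invariants R A B))),
        Flat c ∧ LocallyOfFinitePresentation c ∧
        (∃ y' : Y', c.base y' =
          (Spec.map (CommRingCat.ofHom (x.toRingHom.comp (GLin.invariants R A B).val.toRingHom))).base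
            (IsLocalRing.closedPoint K)) ∧
        ∀ (T : Over (Spec (CommRingCat.of R))) (ζ : T ⟶ CoactBr.sp R B),
          (∃ t : T.left ⟶ Y', t ≫ c = ζ.left ≫ Spec.map (CommRingCat.ofHom (GLin.invariants R A B).val.toRingHom)) →
          ∀ g : T ⟶ CoactBr.sp R A, lift g ζ ≫ (CoactBr.action R A B).act = ζ → g = 1 := by
  classical
  change Groth.Agent.CBr96.InTriv A x ↔ _
  haveI : (RingHom.ker x).IsPrime := RingHom.ker_isPrime x
  constructor
  · intro hx
    rw [Groth.Agent.CBr96.inTriv_iff, Groth.Agent.CBr96.triv_iff_of_field] at hx
    obtain ⟨c, hc, hcx⟩ := Groth.Agent.CBr96.exists_invariant (RingHom.ker x) hx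
    refine ⟨Spec (CommRingCat.of (Localization.Away c)),
      Spec.map (CommRingCat.ofHom (algebraMap (GLin.invariants R A B) (Localization.Away c))), ?_, ?_, ?_, ?_⟩
    · exact inferInstance
    · exact inferInstance
    · have hu : IsUnit ((x.toRingHom.comp (GLin.invariants R A B).val.toRingHom) c) :=
        isUnit_iff_ne_zero.2 (fun h => hcx (RingHom.mem_ker.2 h))
      let φ : Localization.Away c →+* K := IsLocalization.Away.lift (S := Localization.Away c) c hu
      refine ⟨(Spec.map (CommRingCat.ofHom φ)).base (IsLocalRing.closedPoint K), ?_⟩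
      rw [← Scheme.Hom.comp_apply, ← Spec.map_comp, ← CommRingCat.ofHom_comp]
      congr 2
      exact congrArg (fun f => (Spec.map (CommRingCat.ofHom f)).base) (IsLocalization.Away.lift_comp (S := Localization.Away c) c hu)
    · rintro T ζ ⟨t, ht⟩ g hg
      have hg' : lift g (ζ ≫ CoactBr.pt (AlgHom.id R B)) ≫ (CoactBr.action R A B).act =
          ζ ≫ CoactBr.pt (AlgHom.id R B) := by simp only [CoactBr.pt_id, Category.comp_id, hg]
      refine (Groth.Agent.CBr96.eq_one_iff g).2 fun a => ?_
      rw [← sub_eq_zero, ← Groth.Agent.CBr96.secHom_aug ζ g (AlgHom.id R B) a]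
      have hz := Groth.Agent.CBr96.secHom_stab (AlgHom.id R B) ζ g hg' _
        (Ideal.mem_map_of_mem _ (Groth.Agent.CBr96.mem_annIdeal.1 hc a))
      rw [map_mul, map_mul] at hz
      refine (IsUnit.mul_right_eq_zero ?_).1 hz
      have e1 : Groth.Agent.CBr96.secHom (Groth.Agent.CBr96.pairHom ζ g)
          (Groth.Agent.CBr96.xid (AlgHom.id R B) (TensorProduct.tmul R (c : B) (1 : A))) =
          Groth.Agent.CBr96.secHom ζ.left (c : B) := by
        rw [← Groth.Agent.CBr96.secHom_fst ζ g]
        rfl
      have e2 := congrArg Groth.Agent.CBr96.secHom ht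
      rw [Groth.Agent.CBr96.secHom_comp] at e2
      have e3 := RingHom.congr_fun ((Groth.Agent.CBr96.secHom_comp ζ.left
        (GLin.invariants R A B).val.toRingHom).symm.trans e2.symm) c
      change Groth.Agent.CBr96.secHom ζ.left (c : B) = _ at e3
      rw [e1, e3]
      exact (IsLocalization.Away.algebraMap_isUnit c).map (Groth.Agent.CBr96.secHom t)
  · rintro ⟨Y, c, -, -, ⟨y, hy⟩, hfr⟩
    obtain ⟨P, hP, -⟩ := Scheme.Pullback.exists_preimage_pullback (f := c)
      (g := Spec.map (CommRingCat.ofHom (x.toRingHom.comp (GLin.invariants R A B).val.toRingHom))) y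
      (IsLocalRing.closedPoint K) hy
    let Z := Limits.pullback c (Spec.map (CommRingCat.ofHom (x.toRingHom.comp (GLin.invariants R A B).val.toRingHom)))
    let j : K →+* Z.residueField P :=
      (Spec.preimage (Z.fromSpecResidueField P ≫ Limits.pullback.snd _ _)).hom
    letI algL : Algebra R (Z.residueField P) := (j.comp (algebraMap R K)).toAlgebra
    let jx : B →ₐ[R] Z.residueField P :=
      { j.comp x.toRingHom with
        commutes' := fun r => congrArg j (x.commutes r) }
    have hker : RingHom.ker jx = RingHom.ker x := by
      ext b
      simp only [RingHom.mem_ker]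
      exact map_eq_zero j
    have hin : Groth.Agent.CBr96.InTriv A jx := by
      intro T h g hg
      refine hfr T (h ≫ CoactBr.pt jx) ⟨h.left ≫ Z.fromSpecResidueField P ≫ Limits.pullback.fst _ _, ?_⟩ g hg
      have hs : Spec.map (CommRingCat.ofHom j) = Z.fromSpecResidueField P ≫ Limits.pullback.snd _ _ :=
        Spec.map_preimage _
      have key : (Z.fromSpecResidueField P ≫ Limits.pullback.fst _ _) ≫ c =
          Spec.map (CommRingCat.ofHom (j.comp x.toRingHom)) ≫
            Spec.map (CommRingCat.ofHom (GLin.invariants R A B).val.toRingHom) := by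
        rw [Category.assoc, Limits.pullback.condition, ← Category.assoc, ← hs, ← Spec.map_comp, ← Spec.map_comp]
        rfl
      exact (Category.assoc _ _ _).trans ((congrArg (h.left ≫ ·) key).trans (Category.assoc _ _ _).symm)
    rw [Groth.Agent.CBr96.inTriv_iff] at hin ⊢
    exact (Groth.Agent.CBr96.triv_iff_of_ker hker).1 hin

end Groth.Agent.S14982
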