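import Groth.Statements.S14984
import Groth.Agent.Comod33.Act
import Groth.Prelude.Def_CoactBr2
-- import your own Groth.Agent.* helpers here

set_option autoImplicit false
universe u v w
open HopfRep
open scoped TensorProduct

namespace Groth.Agent.S14984

/-- Let `R` be a commutative ring, `A` a commutative Hopf algebra over `R`, flat as an `R`-module, `B` a
commutative `R`-algebra with a coaction of `A` that is an algebra map (an action of `G = Spec A` on
`X = Spec B`), and `C = B^A` the ring of invariants. If the action base-changed along `R → C` — the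
`C`-Hopf algebra `C ⊗ A` coacting on `C ⊗ B` — is tame, i.e. there is a `C`-linear comodule map `β :
C ⊗ A → C ⊗ B` (regular coaction on the source, base-changed coaction on the target) with `β 1 = 1`,
then the original action is tame: there is an `R`-linear comodule map `α : A → B` with `α 1 = 1`.
(The converse is the case `S = C` of stability of tameness under base change. The published lemma
also lists, as a third equivalent condition, tameness of the action of `C ⊗ A` on `B` itself over
`C`; that condition is not stated here.) -/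
theorem result
    (R : Type u) (A : Type v) (B : Type w)
    [CommRing R] [CommRing A] [HopfAlgebra R A] [Module.Flat R A]
    [CommRing B] [Algebra R B] [HopfRep.Comod R A B] [GLin.IsCoactAlg R A B]
    (h : ∃ β : TensorProduct R ↥(GLin.invariants R A B) A →ₗ[↥(GLin.invariants R A B)]
        TensorProduct R ↥(GLin.invariants R A B) B,
      @Hoch.IsComodHom ↥(GLin.invariants R A B) _ (TensorProduct R ↥(GLin.invariants R A B) A) _ _ _
        (TensorProduct R ↥(GLin.invariants R A B) A) _ _
        (HopfRep.Comod.regular ↥(GLin.invariants R A B) (TensorProduct R ↥(GLin.invariants R A B) A))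
        (TensorProduct R ↥(GLin.invariants R A B) B) _ _
        (CoactBr.Comod.baseChange R ↥(GLin.invariants R A B) A B) β ∧ β 1 = 1) :
    ∃ α : A →ₗ[R] B, Hoch.IsComodHom A α ∧ α 1 = 1 := by
  obtain ⟨β, hβ, hβ1⟩ := h
  let S := GLin.invariants R A B
  let μ : TensorProduct R S B →ₐ[S] B :=
    Algebra.TensorProduct.lift (Algebra.ofId S B) (AlgHom.id R B) (fun _ _ => Commute.all _ _)
  let iA : TensorProduct R S A →ₐ[S] TensorProduct R B A :=
    Algebra.TensorProduct.lift (Algebra.ofId S _) Algebra.TensorProduct.includeRight
      (fun _ _ => Commute.all _ _)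
  let iB : B →ₐ[S] TensorProduct R B A := Algebra.TensorProduct.includeLeft
  let Φ : TensorProduct S (TensorProduct R S B) (TensorProduct R S A) →ₐ[S] TensorProduct R B A :=
    Algebra.TensorProduct.lift (iB.comp μ) iA (fun _ _ => Commute.all _ _)
  letI := CoactBr.Comod.baseChange R S A B
  have hΦ : ∀ x : TensorProduct R S B,
      HopfRep.Comod.coact (k := R) (A := A) (μ x) =
        Φ (HopfRep.Comod.coact (k := S) (A := TensorProduct R S A) x) := by
    intro x
    induction x with
    | zero => simp
    | tmul s b =>
      rw [CoactBr.baseChange_coact_tmul, show μ (s ⊗ₜ[R] b) = (s : B) * b by simp [μ, Algebra.ofId_apply],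
        GLin.IsCoactAlg.coact_mul, show HopfRep.Comod.coact (k := R) (A := A) (s : B) = (s : B) ⊗ₜ[R] (1 : A)
          from s.2]
      generalize HopfRep.Comod.coact (k := R) (A := A) b = y
      induction y with
      | zero => simp
      | tmul p q =>
        simp [Φ, iA, iB, μ, Algebra.ofId_apply, Algebra.TensorProduct.algebraMap_apply,
          Algebra.TensorProduct.one_def]
        change ((s : B) * p) ⊗ₜ[R] q = (p ⊗ₜ[R] (1 : A)) * (((s : B) ⊗ₜ[R] (1 : A)) * ((1 : B) ⊗ₜ[R] q))
        simp [mul_comm p]
      | add p q hp hq => simp only [mul_add, TensorProduct.tmul_add, map_add, hp, hq]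
    | add p q hp hq => simp only [map_add, hp, hq]
  refine ⟨(μ.toLinearMap.restrictScalars R) ∘ₗ (β.restrictScalars R) ∘ₗ TensorProduct.mk R S A 1, ?_, ?_⟩
  · unfold Hoch.IsComodHom
    ext a
    have hb := LinearMap.congr_fun hβ ((1 : S) ⊗ₜ[R] a)
    simp only [LinearMap.comp_apply] at hb
    simp only [LinearMap.comp_apply, LinearMap.restrictScalars_apply, TensorProduct.mk_apply,
      AlgHom.toLinearMap_apply]
    rw [hΦ, hb]
    show Φ (β.rTensor _ (CoalgebraStruct.comul (R := S) ((1 : S) ⊗ₜ[R] a))) =
      LinearMap.rTensor A _ (CoalgebraStruct.comul (R := R) a)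
    rw [TensorProduct.comul_tmul, CoactBr.comul_self_apply]
    generalize CoalgebraStruct.comul (R := R) a = z
    induction z with
    | zero => simp
    | tmul p q =>
      show Φ (β.rTensor _ (((1 : S) ⊗ₜ[R] p) ⊗ₜ[S] ((1 : S) ⊗ₜ[R] q))) = _
      show Φ ((β ((1 : S) ⊗ₜ[R] p)) ⊗ₜ[S] ((1 : S) ⊗ₜ[R] q)) = _
      simp [Φ, iA, iB, μ, Algebra.ofId_apply, Algebra.TensorProduct.one_def]
      generalize (Algebra.TensorProduct.lift (Algebra.ofId S B) (AlgHom.id R B) (fun _ _ => Commute.all _ _))
        (β ((1 : S) ⊗ₜ[R] p)) = x
      change (x ⊗ₜ[R] (1 : A)) * ((1 : B) ⊗ₜ[R] q) = x ⊗ₜ[R] q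
      simp
    | add p q hp hq => simp only [map_add, TensorProduct.tmul_add, hp, hq]
  · simp only [LinearMap.comp_apply, LinearMap.restrictScalars_apply, TensorProduct.mk_apply,
      AlgHom.toLinearMap_apply]
    rw [← Algebra.TensorProduct.one_def, hβ1, map_one]

end Groth.Agent.S14984
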