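import Groth.Statements.S14988
import Groth.Agent.KRR40.FlatPush
import Groth.Agent.Kvb46.Local
import Groth.Agent.KRR40.Pull

set_option autoImplicit false
universe u
open CategoryTheory CategoryTheory.Limits AlgebraicGeometry
open ResProp

namespace Groth.Agent.S14988

/-- An epimorphism assembled from pieces. -/
theorem epi_of_pieces {C : Type*} [Category C] {D : Type*} [Category D] [HasColimitsOfSize.{u, u} C]
    [HasColimitsOfSize.{u, u} D] {κ : Type u} (G : κ → (D ⥤ C))
    (hG : ∀ k, PreservesColimitsOfSize.{u, u} (G k)) (N : κ → D) {M : C}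
    (π : (∐ fun k => (G k).obj (N k)) ⟶ M) (hπ : Epi π) {μ : κ → Type u} (V : ∀ k, μ k → D)
    (p : ∀ k, (∐ V k) ⟶ N k) (hp : ∀ k, Epi (p k)) :
    Epi (Sigma.desc fun a : Σ k, μ k =>
      (G a.1).map (Sigma.ι (V a.1) a.2 ≫ p a.1) ≫ Sigma.ι (fun k => (G k).obj (N k)) a.1 ≫ π) := by
  constructor
  intro Z g h hgh
  refine (cancel_epi π).1 (Sigma.hom_ext _ _ fun k => ?_)
  haveI := hG k
  haveI := hp k
  haveI : PreservesColimitsOfSize.{0, 0} (G k) := preservesColimitsOfSize_shrink.{0, u, 0, u} (G k)
  haveI : Epi ((G k).map (p k)) := inferInstance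
  refine (cancel_epi ((G k).map (p k))).1 ?_
  refine (isColimitOfPreserves (G k) (coproductIsCoproduct (V k))).hom_ext fun ⟨l⟩ => ?_
  have := congrArg (Sigma.ι (fun a : Σ k, μ k => (G a.1).obj (V a.1 a.2)) ⟨k, l⟩ ≫ ·) hgh
  simp only [Sigma.ι_desc_assoc, Category.assoc, Functor.map_comp] at this
  show (G k).map (Sigma.ι (V k) l) ≫ _ = (G k).map (Sigma.ι (V k) l) ≫ _
  simpa [Category.assoc] using this

/-- In the case of schemes, let f : X ⟶ Y be a morphism of quasi-compact quasi-separated schemes. If
every quasi-coherent module on Y is a quotient of a direct sum of finite locally free modules (Y has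
the resolution property) and some family (W_i) of finite locally free modules on X is f-generating,
i.e. every quasi-coherent module on X is a quotient of a direct sum of modules W_i ⊗ f^*N with N
quasi-coherent on Y, then every quasi-coherent module on X is a quotient of a direct sum of finite
locally free modules (X has the resolution property). (The published statement is for quasi-compact
quasi-separated morphisms of algebraic stacks and assumes the family universally f-generating; this
row is the case of schemes and assumes the family only f-generating, which is what the argument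
uses.) -/
theorem result {X Y : Scheme.{u}}
    [CompactSpace X] [QuasiSeparatedSpace X] [CompactSpace Y] [QuasiSeparatedSpace Y] (f : X ⟶ Y)
    (hY : ∀ N : Y.Modules, Coh.IsQCoh N →
      ∃ (κ : Type u) (V : κ → Y.Modules) (π : (∐ V) ⟶ N), (∀ k, FlatMod.IsFinLocFree (V k)) ∧ Epi π)
    {ι : Type u} (W : ι → X.Modules) (hW : ∀ i, FlatMod.IsFinLocFree (W i))
    (hf : ∀ M : X.Modules, Coh.IsQCoh M →
      ∃ (κ : Type u) (j : κ → ι) (N : κ → Y.Modules)
        (π : (∐ fun k => CohB1.tensorMod (W (j k)) ((Scheme.Modules.pullback f).obj (N k))) ⟶ M),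
        (∀ k, Coh.IsQCoh (N k)) ∧ Epi π) :
    ∀ M : X.Modules, Coh.IsQCoh M →
      ∃ (κ : Type u) (E : κ → X.Modules) (π : (∐ E) ⟶ M), (∀ k, FlatMod.IsFinLocFree (E k)) ∧ Epi π := by
  intro M hM
  obtain ⟨κ, j, N, π, hN, hπ⟩ := hf M hM
  choose μ V p hV hp using fun k => hY (N k) (hN k)
  haveI : PreservesColimitsOfSize.{u, u} (Scheme.Modules.pullback f) :=
    (Scheme.Modules.pullbackPushforwardAdjunction f).leftAdjoint_preservesColimits
  let G : κ → (Y.Modules ⥤ X.Modules) := fun k => Scheme.Modules.pullback f ⋙ DCoh.tensorBi.obj (W (j k))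
  have hobj : ∀ (k : κ) (P : Y.Modules),
      (G k).obj P = CohB1.tensorMod (W (j k)) ((Scheme.Modules.pullback f).obj P) := fun k P => rfl
  let e : (∐ fun k => (G k).obj (N k)) ≅
      ∐ fun k => CohB1.tensorMod (W (j k)) ((Scheme.Modules.pullback f).obj (N k)) :=
    eqToIso (congrArg (fun F : κ → X.Modules => ∐ F) (funext fun k => hobj k (N k)))
  refine ⟨Σ k, μ k, fun a => (G a.1).obj (V a.1 a.2), _, fun a => ?_,
    epi_of_pieces G
      (fun k => haveI := Groth.Agent.KRR40.preservesColimits_tensorBi (X := X) (W (j k)); inferInstance)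
      N (e.hom ≫ π) (epi_comp _ _) V p hp⟩
  show FlatMod.IsFinLocFree ((G a.1).obj (V a.1 a.2))
  rw [hobj]
  exact Groth.Agent.Kvb46.isFinLocFree_tensor (hW _) (Groth.Agent.KRR40.vb_pullback f (hV _ _))

end Groth.Agent.S14988
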