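import Groth.Statements.S14994
import Mathlib

set_option autoImplicit false
universe u
open CAlg

namespace Groth.Agent.S14994

/-- Let A be a Noetherian integrally closed domain, M a finitely generated torsion-free A-module, N a
submodule of M and ι : M → M** the canonical map to the double dual. Write N** → M** for the double
dual of the inclusion N → M. Then every m ∈ M whose image ι(m) lies in the image of N** is a torsion
element modulo N: some nonzero a ∈ A satisfies a·m ∈ N. In other words the preimage of N** under ι
is contained in the saturation of N in M (the preimage of the torsion submodule of M/N), and the two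
coincide when M/N is torsion-free. (The published statement asserts equality of the preimage with
the saturation for every N; for N = xA inside M = A = k[x] the saturation is all of M while N** has
image xA = N under the identification M** = M, so only the inclusion stated here holds, and it is
the inclusion later used, for saturated N, where the two sides agree.) -/
theorem result (A : Type u) [CommRing A] [IsDomain A]
    [IsNoetherianRing A] [IsIntegrallyClosed A]
    (M : Type u) [AddCommGroup M] [Module A M] [Module.Finite A M] [NoZeroSMulDivisors A M]
    (N : Submodule A M) :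
    (LinearMap.range N.subtype.dualMap.dualMap).comap (Module.Dual.eval A M) ≤
      (Submodule.torsion A (M ⧸ N)).comap N.mkQ := by
  intro m hm
  obtain ⟨ξ, hξ⟩ := hm
  by_contra hnt
  rw [Submodule.mem_comap, Submodule.mem_torsion_iff] at hnt
  let K := FractionRing A
  let l := LocalizedModule.mkLinearMap (nonZeroDivisors A) (M ⧸ N)
  have hl : l (N.mkQ m) ≠ 0 := by
    intro h0
    obtain ⟨⟨a, ha⟩, hc⟩ := (IsLocalizedModule.eq_zero_iff (nonZeroDivisors A) l).mp h0
    exact hnt ⟨⟨a, ha⟩, hc⟩
  obtain ⟨g, hg⟩ : ∃ g : Module.Dual K (LocalizedModule (nonZeroDivisors A) (M ⧸ N)), g (l (N.mkQ m)) ≠ 0 := by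
    by_contra h
    push Not at h
    exact hl ((Module.forall_dual_apply_eq_zero_iff K _).mp h)
  let h : M →ₗ[A] K := (g.restrictScalars A) ∘ₗ l ∘ₗ N.mkQ
  obtain ⟨n, t, ht⟩ := Module.Finite.exists_fin (R := A) (M := M)
  obtain ⟨⟨d, hd⟩, hdi⟩ := IsLocalization.exist_integer_multiples (nonZeroDivisors A) Finset.univ (fun i => h (t i))
  have hrange : ∀ x, d • h x ∈ LinearMap.range (Algebra.linearMap A K) := by
    intro x
    have hx : x ∈ Submodule.span A (Set.range t) := ht ▸ Submodule.mem_top
    induction hx using Submodule.span_induction with
    | mem x hx =>
      obtain ⟨i, rfl⟩ := hx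
      exact hdi i (Finset.mem_univ i)
    | zero => simp
    | add x y _ _ hx hy => rw [map_add, smul_add]; exact add_mem hx hy
    | smul c x _ hx => rw [map_smul, smul_comm]; exact Submodule.smul_mem _ c hx
  let e := LinearEquiv.ofInjective (Algebra.linearMap A K) (IsFractionRing.injective A K)
  let f : Module.Dual A M := e.symm.toLinearMap ∘ₗ (d • h).codRestrict _ hrange
  have hf : ∀ x, algebraMap A K (f x) = d • h x := by
    intro x
    exact congrArg Subtype.val (e.apply_symm_apply ⟨d • h x, hrange x⟩)
  have hfN : f ∘ₗ N.subtype = 0 := by
    ext x
    apply IsFractionRing.injective A K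
    rw [LinearMap.comp_apply, hf, LinearMap.zero_apply, map_zero]
    simp [h, (Submodule.Quotient.mk_eq_zero N).mpr x.2]
  have h5 : f m = 0 := by
    have := LinearMap.congr_fun hξ f
    rw [LinearMap.dualMap_apply, LinearMap.dualMap_apply'] at this
    rw [hfN, map_zero] at this
    simpa using this.symm
  have := hf m
  rw [h5, map_zero] at this
  exact hg ((smul_eq_zero_iff_right (nonZeroDivisors.ne_zero hd)).mp this.symm)

end Groth.Agent.S14994
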