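import Groth.Statements.S14997
import Mathlib
-- import your own Groth.Agent.* helpers here

set_option autoImplicit false
open HilbPol

namespace Groth.Agent.S14997

open Polynomial in
/-- Let d and ℓ be natural numbers with ℓ + 1 ≤ d, let a be a nonzero rational number and let P, Q be
polynomials with rational coefficients, both of degree exactly d. For a polynomial R of degree e
write R(m) = Σ_i α_i(R) m^i / i! (so α_i(R) = i! · coeff_i(R)) and let r_ℓ(R) ∈ ℚ^ℓ be the vector
(α_{e−1}(R)/α_e(R), …, α_{e−ℓ}(R)/α_e(R)) of the ℓ coefficients after the leading one of the reduced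
polynomial R/α_e(R), ordered lexicographically. The polynomials P(m) − P(m − a) and Q(m) − Q(m − a)
have degree d − 1, and r_ℓ(P) ≤ r_ℓ(Q) lexicographically if and only if r_ℓ(P(m) − P(m − a)) ≤
r_ℓ(Q(m) − Q(m − a)) lexicographically (hence the same with strict inequalities, by exchanging P and
Q). When P and Q are the Hilbert polynomials of pure d-dimensional coherent sheaves E → F on a
polarized projective scheme and D is a hypersurface section of degree a containing no associated
point of E or F, the Hilbert polynomials of E|_D and F|_D are P(m) − P(m − a) and Q(m) − Q(m − a),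
and the two sides are the comparisons of the ℓ-truncated reduced Hilbert polynomials p_ℓ(E) ≥ p_ℓ(F)
and p_ℓ(E|_D) ≥ p_ℓ(F|_D). (The published statement is phrased for the sheaves; this row is the
statement about their Hilbert polynomials that the displayed coefficient formula yields.) -/
theorem result (d ℓ : ℕ) (hℓ : ℓ + 1 ≤ d) (a : ℚ) (ha : a ≠ 0)
    (P Q : ℚ[X]) (hP : P.natDegree = d) (hQ : Q.natDegree = d) (hP0 : P ≠ 0) (hQ0 : Q ≠ 0) :
    toLex (fun j : Fin ℓ => ((P).coeff (d - 1 - (j : ℕ)) * (Nat.factorial (d - 1 - (j : ℕ)) : ℚ)) / ((P).coeff (d) * (Nat.factorial (d) : ℚ))) ≤ toLex (fun j : Fin ℓ => ((Q).coeff (d - 1 - (j : ℕ)) * (Nat.factorial (d - 1 - (j : ℕ)) : ℚ)) / ((Q).coeff (d) * (Nat.factorial (d) : ℚ))) ↔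
      toLex (fun j : Fin ℓ => ((P - P.comp (X - C a)).coeff ((d - 1) - 1 - (j : ℕ)) * (Nat.factorial ((d - 1) - 1 - (j : ℕ)) : ℚ)) / ((P - P.comp (X - C a)).coeff ((d - 1)) * (Nat.factorial ((d - 1)) : ℚ))) ≤
        toLex (fun j : Fin ℓ => ((Q - Q.comp (X - C a)).coeff ((d - 1) - 1 - (j : ℕ)) * (Nat.factorial ((d - 1) - 1 - (j : ℕ)) : ℚ)) / ((Q - Q.comp (X - C a)).coeff ((d - 1)) * (Nat.factorial ((d - 1)) : ℚ))) := by
  classical
  have hd : 1 ≤ d := by omega
  have hq0 : ∀ (R : ℚ[X]), R.natDegree = d → R ≠ 0 → R.coeff d ≠ 0 := fun R hR hR0 => by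
    rw [← hR]; exact Polynomial.leadingCoeff_ne_zero.2 hR0
  -- Taylor expansion of the difference
  have hdiff : ∀ (R : ℚ[X]), R.natDegree = d → ∀ i, i < d → (R - R.comp (X - C a)).coeff i =
      - ∑ k ∈ Finset.Ioc i d, R.coeff k * ((k.choose i : ℚ) * (-a) ^ (k - i)) := by
    intro R hR i hi
    have hc : (R.comp (X - C a)).coeff i = ∑ k ∈ Finset.range (d + 1), R.coeff k * ((k.choose i : ℚ) * (-a) ^ (k - i)) := by
      rw [Polynomial.comp, Polynomial.eval₂_eq_sum_range, hR, Polynomial.finsetSum_coeff]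
      refine Finset.sum_congr rfl fun k _ => ?_
      rw [Polynomial.coeff_C_mul, sub_eq_add_neg, ← map_neg C a, Polynomial.coeff_X_add_C_pow]
      ring
    have hsub : Finset.Icc i d ⊆ Finset.range (d + 1) := fun k hk => by
      simp only [Finset.mem_Icc] at hk; simp only [Finset.mem_range]; omega
    rw [Polynomial.coeff_sub, hc, ← Finset.sum_subset hsub fun k hk hk' => ?_,
      Finset.Icc_eq_cons_Ioc hi.le, Finset.sum_cons, Nat.choose_self, Nat.sub_self]
    · push_cast; ring
    · simp only [Finset.mem_Icc, not_and, not_le, Finset.mem_range] at hk hk'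
      rw [Nat.choose_eq_zero_of_lt (by by_contra hle; have := hk' (not_lt.1 hle); omega)]
      simp
  let u : ℚ[X] → ℕ → ℚ := fun R k => (R.coeff (d - k) * (Nat.factorial (d - k) : ℚ)) / (R.coeff d * (Nat.factorial d : ℚ))
  let w : ℕ → ℚ := fun k => (-a) ^ k / (Nat.factorial (k + 1) : ℚ)
  have key : ∀ (R : ℚ[X]), R.natDegree = d → R ≠ 0 → ∀ j : ℕ, j < ℓ →
      ((R - R.comp (X - C a)).coeff ((d - 1) - 1 - j) * (Nat.factorial ((d - 1) - 1 - j) : ℚ)) /
        ((R - R.comp (X - C a)).coeff (d - 1) * (Nat.factorial (d - 1) : ℚ)) =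
      ∑ k ∈ Finset.range (j + 2), u R k * w (j + 1 - k) := by
    intro R hR hR0 j hj
    have htop : (R - R.comp (X - C a)).coeff (d - 1) * (Nat.factorial (d - 1) : ℚ) = R.coeff d * (Nat.factorial d : ℚ) * a := by
      rw [hdiff R hR (d - 1) (by omega), show Finset.Ioc (d - 1) d = {d} by ext k; simp; omega, Finset.sum_singleton]
      obtain ⟨e, rfl⟩ : ∃ e, d = e + 1 := ⟨d - 1, by omega⟩
      simp [Nat.choose_succ_self_right, Nat.factorial_succ]
      ring
    rw [htop, hdiff R hR _ (by omega), neg_mul, Finset.sum_mul, ← Finset.sum_neg_distrib, Finset.sum_div]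
    refine Finset.sum_nbij' (fun k => d - k) (fun k => d - k) ?_ ?_ ?_ ?_ ?_
    · intro k hk; simp at hk ⊢; omega
    · intro k hk; simp at hk ⊢; omega
    · intro k hk; simp at hk ⊢; omega
    · intro k hk; simp at hk ⊢; omega
    · intro k hk
      simp only [Finset.mem_Ioc] at hk
      obtain ⟨r, rfl⟩ : ∃ r, k = (d - 1 - 1 - j) + r + 1 := ⟨k - (d - 1 - 1 - j) - 1, by omega⟩
      set i := d - 1 - 1 - j with hi
      have e1 : d - (d - (i + r + 1)) = i + r + 1 := by omega
      have e2 : j + 1 - (d - (i + r + 1)) = r := by omega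
      have e3 : i + r + 1 - i = r + 1 := by omega
      simp only [u, w, e1, e2, e3, Nat.cast_choose ℚ (show i ≤ i + r + 1 by omega)]
      have hRd := hq0 R hR hR0
      field_simp
      ring
  have hu0 : ∀ (R : ℚ[X]), R.natDegree = d → R ≠ 0 → u R 0 = 1 := fun R hR hR0 => by
    simp only [u, Nat.sub_zero]
    exact div_self (mul_ne_zero (hq0 R hR hR0) (by exact_mod_cast (Nat.factorial_pos d).ne'))
  have h1 : ∀ (R : ℚ[X]), R.natDegree = d → R ≠ 0 →
      (fun j : Fin ℓ => ((R - R.comp (X - C a)).coeff ((d - 1) - 1 - (j : ℕ)) * (Nat.factorial ((d - 1) - 1 - (j : ℕ)) : ℚ)) / ((R - R.comp (X - C a)).coeff ((d - 1)) * (Nat.factorial ((d - 1)) : ℚ))) =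
      fun j : Fin ℓ => u R (j + 1) + ∑ k ∈ Finset.range (j + 1), u R k * w (j + 1 - k) := fun R hR hR0 => funext fun j => by
    rw [key R hR hR0 j j.2, Finset.sum_range_succ, Nat.sub_self]
    simp [w, add_comm]
  have h2 : ∀ (R : ℚ[X]), (fun j : Fin ℓ => ((R).coeff (d - 1 - (j : ℕ)) * (Nat.factorial (d - 1 - (j : ℕ)) : ℚ)) / ((R).coeff (d) * (Nat.factorial (d) : ℚ))) = fun j : Fin ℓ => u R (j + 1) := fun R => funext fun j => by
    simp only [u, show d - 1 - (j : ℕ) = d - (j + 1) by omega]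
  rw [h1 P hP hP0, h1 Q hQ hQ0, h2 P, h2 Q]
  have hmono : StrictMono (fun v : Lex (Fin ℓ → ℚ) => toLex fun j : Fin ℓ => ofLex v j +
      ∑ k ∈ Finset.range (j + 1), (if hk : 1 ≤ k ∧ k - 1 < ℓ then ofLex v ⟨k - 1, hk.2⟩ else 1) * w (j + 1 - k)) := by
    rintro v v' ⟨i, hi, hlt⟩
    refine ⟨i, fun m hm => ?_, ?_⟩
    · show ofLex v m + _ = ofLex v' m + _
      rw [show ofLex v m = ofLex v' m from hi m hm]
      congr 1
      refine Finset.sum_congr rfl fun k hk => ?_
      split_ifs with hk'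
      · rw [show ofLex v ⟨k - 1, hk'.2⟩ = ofLex v' ⟨k - 1, hk'.2⟩ from hi _ (Fin.lt_def.2 (by
          have h' := Finset.mem_range.1 hk; have h'' := Fin.lt_def.1 hm
          show k - 1 < (i : ℕ); omega))]
      · rfl
    · show ofLex v i + _ < ofLex v' i + _
      refine add_lt_add_of_lt_of_le hlt (le_of_eq (Finset.sum_congr rfl fun k hk => ?_))
      split_ifs with hk'
      · rw [show ofLex v ⟨k - 1, hk'.2⟩ = ofLex v' ⟨k - 1, hk'.2⟩ from hi _ (Fin.lt_def.2 (by
          have h' := Finset.mem_range.1 hk; show k - 1 < (i : ℕ); omega))]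
      · rfl
  have heq : ∀ (R : ℚ[X]), R.natDegree = d → R ≠ 0 →
      toLex (fun j : Fin ℓ => u R (j + 1) + ∑ k ∈ Finset.range (j + 1), u R k * w (j + 1 - k)) =
      (fun v : Lex (Fin ℓ → ℚ) => toLex fun j : Fin ℓ => ofLex v j +
        ∑ k ∈ Finset.range (j + 1), (if hk : 1 ≤ k ∧ k - 1 < ℓ then ofLex v ⟨k - 1, hk.2⟩ else 1) * w (j + 1 - k))
        (toLex fun j : Fin ℓ => u R (j + 1)) := fun R hR hR0 => by
    refine congrArg toLex (funext fun j => ?_)
    simp only [ofLex_toLex]
    congr 1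
    refine Finset.sum_congr rfl fun k hk => ?_
    have hk2 := Finset.mem_range.1 hk
    have hj := j.2
    split_ifs with hk'
    · rw [show k - 1 + 1 = k by omega]
    · obtain rfl : k = 0 := by omega
      rw [hu0 R hR hR0]
  rw [heq P hP hP0, heq Q hQ hQ0]
  exact hmono.le_iff_le.symm

end Groth.Agent.S14997
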