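import Groth.Statements.S14998
import Groth.Agent.LimTop61.DvrDense
import Groth.Agent.EGA73.DvrPoints
import Groth.Agent.EGA73.FunctionFieldVal
import Groth.Agent.SchBasics.Closure
import Groth.Agent.SchBasics.Reduced

set_option autoImplicit false
universe u
open CategoryTheory CategoryTheory.Limits AlgebraicGeometry
open AlgGrp

namespace Groth.Agent.S14998

set_option backward.isDefEq.respectTransparency.types false in
theorem exists_lift_vanishing {W S : Scheme.{u}} [AlgebraicGeometry.IsReduced W] (g : W ⟶ S)
    (C : TopologicalSpace.Closeds S) (hC : Set.range g ⊆ (C : Set S)) :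
    ∃ l, l ≫ (Scheme.IdealSheafData.vanishingIdeal C).subschemeι = g := by
  refine ⟨IsClosedImmersion.lift (Scheme.IdealSheafData.vanishingIdeal C).subschemeι g ?_,
    IsClosedImmersion.lift_fac _ _ _⟩
  rw [Scheme.IdealSheafData.ker_subschemeι, ← Scheme.IdealSheafData.map_bot, ← Scheme.nilradical_eq_bot,
    ← Scheme.IdealSheafData.vanishingIdeal_top, Scheme.IdealSheafData.map_vanishingIdeal]
  apply Scheme.IdealSheafData.vanishingIdeal_antimono
  rw [TopologicalSpace.Closeds.closure_le]
  rintro _ ⟨w, -, rfl⟩
  exact hC ⟨w, rfl⟩

/-- The lift supplied by `G`-universal closedness, composed with an invariant morphism. -/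
theorem exists_dvr_point {k : Type u} [Field k]
    {G R S T : Over (Spec (CommRingCat.of k))} [GrpObj G] (a : AlgGrp.Action G R) (f : R ⟶ S) (q : S ⟶ T)
    (hf : W4c2lssmoduli.IsInvariantMor a f) (hp : W4c2lssmoduli.IsGUnivClosed a (f ≫ q))
    {K : Type u} [Field K] (A : ValuationSubring K) [IsDiscreteValuationRing A]
    (y : Spec (CommRingCat.of A) ⟶ T.left) (g : Spec (CommRingCat.of K) ⟶ R.left)
    (hy : Spec.map (CommRingCat.ofHom A.subtype) ≫ y = g ≫ f.left ≫ q.left) :
    ∃ i : Spec (CommRingCat.of A) ⟶ R.left, i ≫ f.left ≫ q.left = y ∧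
      Spec.map (CommRingCat.ofHom A.subtype) ≫ i ≫ f.left = g ≫ f.left := by
  have hw : g ≫ R.hom = Spec.map (CommRingCat.ofHom (algebraMap A K)) ≫ y ≫ T.hom := by
    rw [← Category.assoc _ y, show Spec.map (CommRingCat.ofHom (algebraMap A K)) ≫ y = g ≫ f.left ≫ q.left from hy,
      Category.assoc, Category.assoc, Over.w q, Over.w f]
  let g' : Over.mk (Spec.map (CommRingCat.ofHom (algebraMap A K)) ≫ y ≫ T.hom) ⟶ R := Over.homMk g hw
  let y' : Over.mk (y ≫ T.hom) ⟶ T := Over.homMk y rfl
  obtain ⟨i, γ, hi, hi2⟩ := hp.2 A K (y ≫ T.hom) g' y' (by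
    apply Over.OverMorphism.ext
    exact hy.symm)
  refine ⟨i.left, congrArg CommaMorphism.left hi, ?_⟩
  have := congrArg (· ≫ f) hi2
  simp only [Category.assoc] at this
  erw [show a.act ≫ f = CartesianMonoidalCategory.snd G R ≫ f from hf, ← Category.assoc (CartesianMonoidalCategory.lift γ g'),
    CartesianMonoidalCategory.lift_snd] at this
  exact congrArg CommaMorphism.left this

theorem isClosed_range_aux {k : Type u} [Field k]
    {G R S T : Over (Spec (CommRingCat.of k))} [GrpObj G]
    [LocallyOfFiniteType R.hom] [CompactSpace ↥R.left] [LocallyOfFiniteType S.hom]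
    (a : AlgGrp.Action G R) (f : R ⟶ S) (q : S ⟶ T) [IsSeparated q.left]
    (hf : W4c2lssmoduli.IsInvariantMor a f) (hp : W4c2lssmoduli.IsGUnivClosed a (f ≫ q)) :
    IsClosed (Set.range f.left) := by
  have := LocallyOfFiniteType.isLocallyNoetherian S.hom
  have : LocallyOfFiniteType (f.left ≫ S.hom) := by rw [Over.w f]; infer_instance
  have : LocallyOfFiniteType f.left := locallyOfFiniteType_of_comp f.left S.hom
  refine isClosed_of_closure_subset fun s hs => ?_
  obtain ⟨r, hr⟩ := SchBasics.exists_specializes_of_mem_closure_range f.left hs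
  by_cases he : s = f.left r
  · exact ⟨r, he.symm⟩
  obtain ⟨A, h, hA, hcl, hh⟩ := EGA73.exists_dvr_hom f.left r s hr he
  obtain ⟨i, hi1, hi2⟩ := exists_dvr_point a f q hf hp A (h ≫ q.left) (R.left.fromSpecResidueField r)
    (by rw [← Category.assoc, hh, Category.assoc])
  have : IsDominant (Spec.map (CommRingCat.ofHom A.subtype)) :=
    EGA73.isDominant_specMap A.subtype Subtype.val_injective
  have e : i ≫ f.left = h :=
    ext_of_isDominant_of_isSeparated q.left (by rw [Category.assoc, hi1])
      (Spec.map (CommRingCat.ofHom A.subtype)) (by rw [hi2, hh])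
  exact ⟨i (IsLocalRing.closedPoint A), by rw [← Scheme.Hom.comp_apply, e, hcl]⟩

theorem proper_aux {k : Type u} [Field k]
    {G R S T : Over (Spec (CommRingCat.of k))} [GrpObj G]
    [LocallyOfFiniteType R.hom] [CompactSpace ↥R.left] [LocallyOfFiniteType S.hom] [CompactSpace ↥S.left]
    [LocallyOfFiniteType T.hom] [CompactSpace ↥T.left]
    (a : AlgGrp.Action G R) (f : R ⟶ S) (q : S ⟶ T) [IsSeparated q.left]
    (hf : W4c2lssmoduli.IsInvariantMor a f) (hp : W4c2lssmoduli.IsGUnivClosed a (f ≫ q))
    (C : TopologicalSpace.Closeds S.left) (hC : (C : Set S.left) = Set.range f.left) :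
    IsProper ((Scheme.IdealSheafData.vanishingIdeal C).subschemeι ≫ q.left) := by
  have := LocallyOfFiniteType.isLocallyNoetherian S.hom
  have := LocallyOfFiniteType.isLocallyNoetherian T.hom
  have : LocallyOfFiniteType (f.left ≫ S.hom) := by rw [Over.w f]; infer_instance
  have : LocallyOfFiniteType f.left := locallyOfFiniteType_of_comp f.left S.hom
  have : LocallyOfFiniteType (q.left ≫ T.hom) := by rw [Over.w q]; infer_instance
  have : LocallyOfFiniteType q.left := locallyOfFiniteType_of_comp q.left T.hom
  let J : R.left.IdealSheafData := Scheme.IdealSheafData.vanishingIdeal ⊤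
  have : AlgebraicGeometry.IsReduced J.subscheme := SchBasics.isReduced_vanishingIdeal_subscheme _
  let Z := (Scheme.IdealSheafData.vanishingIdeal C).subschemeι
  obtain ⟨h, hh⟩ := exists_lift_vanishing (J.subschemeι ≫ f.left) C (by
    rw [hC, Scheme.Hom.comp_base, TopCat.coe_comp]
    exact Set.range_comp_subset_range _ _)
  have : LocallyOfFiniteType (h ≫ (Scheme.IdealSheafData.vanishingIdeal C).subschemeι) := by
    rw [hh]; infer_instance
  have : LocallyOfFiniteType h := locallyOfFiniteType_of_comp h (Scheme.IdealSheafData.vanishingIdeal C).subschemeι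
  have hd : ∀ x, ∃ u ∈ (Set.univ : Set J.subscheme), h u ⤳ x := by
    intro x
    obtain ⟨r, hr⟩ : Z x ∈ Set.range f.left := by
      rw [← hC, ← Scheme.IdealSheafData.coe_support_vanishingIdeal (X := S.left) (Z := C),
        ← Scheme.IdealSheafData.range_subschemeι]
      exact ⟨x, rfl⟩
    obtain ⟨u, hu⟩ : r ∈ Set.range J.subschemeι := by
      rw [Scheme.IdealSheafData.range_subschemeι, Scheme.IdealSheafData.coe_support_vanishingIdeal]
      trivial
    refine ⟨u, trivial, specializes_of_eq (Z.isClosedEmbedding.injective ?_)⟩
    rw [← Scheme.Hom.comp_apply, hh, Scheme.Hom.comp_apply, hu, hr]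
  have : UniversallyClosed ((Scheme.IdealSheafData.vanishingIdeal C).subschemeι ≫ q.left) := by
    refine LimTop61.universallyClosed_of_dvr_points _ h Set.univ hd ?_
    intro u _ A hA y hy
    obtain ⟨i, hi1, hi2⟩ := exists_dvr_point a f q hf hp A y (J.subscheme.fromSpecResidueField u ≫ J.subschemeι)
      (by rw [hy, Category.assoc, ← Category.assoc h, hh, Category.assoc])
    obtain ⟨l, hl⟩ := exists_lift_vanishing (i ≫ f.left) C (by
      rw [hC, Scheme.Hom.comp_base, TopCat.coe_comp]
      exact Set.range_comp_subset_range _ _)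
    refine ⟨l, ?_, ?_⟩
    · rw [← Category.assoc, hl, Category.assoc, hi1]
    · rw [← cancel_mono (Scheme.IdealSheafData.vanishingIdeal C).subschemeι, Category.assoc, Category.assoc,
        hl, hh, hi2, Category.assoc]
  exact {}


/-- Let k be a field and G a group scheme over k (a group object of schemes over Spec k) acting on a
k-scheme R of finite type. Let f : R → S and q : S → T be morphisms of k-schemes of finite type such
that q is separated, f is invariant under the action, and the composite p = q ∘ f is G-universally
closed: p is invariant and for every discrete valuation ring A over k with fraction field K, every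
K-point of R and A-point of T over k forming a commutative square with p admit an A-point of R over
T restricting on Spec K to a translate of the given K-point by a K-point of G. Then the
set-theoretic image f(R) is closed in S, and the reduced closed subscheme of S with underlying set
f(R) is proper over T. (The published statement fixes a connected algebraic group over the complex
numbers; this row allows any group scheme over any field, which is what the printed argument uses.) -/
theorem result (k : Type u) [Field k]
    (G R S T : Over (Spec (CommRingCat.of k))) [GrpObj G]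
    [LocallyOfFiniteType R.hom] [CompactSpace ↥R.left] [LocallyOfFiniteType S.hom] [CompactSpace ↥S.left]
    [LocallyOfFiniteType T.hom] [CompactSpace ↥T.left]
    (a : AlgGrp.Action G R) (f : R ⟶ S) (q : S ⟶ T) [IsSeparated q.left]
    (hf : W4c2lssmoduli.IsInvariantMor a f) (hp : W4c2lssmoduli.IsGUnivClosed a (f ≫ q)) :
    IsClosed (Set.range f.left.base) ∧
      IsProper ((Scheme.IdealSheafData.vanishingIdeal
          (⟨closure (Set.range f.left.base), isClosed_closure⟩ : TopologicalSpace.Closeds ↥S.left)).subschemeι ≫ q.left) := by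
  have h := isClosed_range_aux a f q hf hp
  exact ⟨h, proper_aux a f q hf hp _ h.closure_eq⟩

end Groth.Agent.S14998
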