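import Groth.Statements.S14999
import Groth.Agent.AlgGrp33.InvIntegral
import Groth.Agent.VarGal.RelNormFinite
-- import your own Groth.Agent.* helpers here

set_option autoImplicit false
universe u
open CategoryTheory CategoryTheory.Limits AlgebraicGeometry
open AlgGrp

namespace Groth.Agent.S14999

theorem mem_range_of_dvr {k : Type u} [Field k] {G Y : Over (Spec (CommRingCat.of k))} [GrpObj G]
    {A : Type u} [CommRing A] [Algebra k A] (a : AlgGrp.Action G Y)
    (p : Y ⟶ Over.mk (Spec.map (CommRingCat.ofHom (algebraMap k A))))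
    (hp : W4c2lssmoduli.IsGUnivClosed a p) (L : Type u) [Field L] (g₀ : Spec (CommRingCat.of L) ⟶ Y.left)
    (φ : A →+* L) (hφ : g₀ ≫ p.left = Spec.map (CommRingCat.ofHom φ))
    (V : ValuationSubring L) [IsDiscreteValuationRing V] (hV : ∀ x, φ x ∈ V)
    (s : ↑Γ(Y.left, ⊤)) (hs : a.act.left.appTop s = (CartesianMonoidalCategory.snd G Y).left.appTop s) :
    (Scheme.ΓSpecIso (CommRingCat.of L)).hom.hom (g₀.appTop s) ∈ V := by
  let φV : A →+* V := φ.codRestrict V.toSubring hV
  let sA : Spec (CommRingCat.of V) ⟶ Spec (CommRingCat.of k) :=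
    Spec.map (CommRingCat.ofHom φV) ≫ Spec.map (CommRingCat.ofHom (algebraMap k A))
  have hφV : Spec.map (CommRingCat.ofHom (algebraMap V L)) ≫ Spec.map (CommRingCat.ofHom φV) =
      Spec.map (CommRingCat.ofHom φ) := by
    rw [← Spec.map_comp]
    rfl
  let g : Over.mk (Spec.map (CommRingCat.ofHom (algebraMap V L)) ≫ sA) ⟶ Y := Over.homMk g₀ (by
    show g₀ ≫ Y.hom = _ ≫ sA
    rw [← Over.w p, ← Category.assoc, hφ]
    simp only [sA, ← Category.assoc, hφV]
    rfl)
  let h : Over.mk sA ⟶ Over.mk (Spec.map (CommRingCat.ofHom (algebraMap k A))) :=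
    Over.homMk (Spec.map (CommRingCat.ofHom φV)) rfl
  obtain ⟨i, γ, -, hi⟩ := hp.2 V L sA g h (Over.OverMorphism.ext (hφ.trans hφV.symm))
  have h1 := congrArg (fun m => m.left.appTop.hom s) hi
  simp only [Over.comp_left, Scheme.Hom.comp_appTop, CommRingCat.hom_comp, RingHom.comp_apply] at h1
  rw [hs] at h1
  have h2 : g₀.appTop s = (CartesianMonoidalCategory.lift γ g).left.appTop ((CartesianMonoidalCategory.snd G Y).left.appTop s) := by
    rw [← CommRingCat.comp_apply, ← Scheme.Hom.comp_appTop, ← Over.comp_left, CartesianMonoidalCategory.lift_snd]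
    rfl
  rw [h2]
  erw [← h1]
  have h3 := (congrArg (fun q => q.hom (i.left.appTop.hom s))
    (Scheme.ΓSpecIso_naturality (CommRingCat.ofHom (algebraMap V L))))
  refine Set.mem_of_eq_of_mem h3 ?_
  exact SetLike.coe_mem _

/-- Let k be a field, A a finitely generated k-algebra and G a group scheme over k acting on an integral
k-scheme Y of finite type; let p : Y → Spec A be a morphism over k which is G-universally closed
(invariant under the action, and for every discrete valuation ring over k with fraction field K
every commutative square of a K-point of Y and a point of Spec A with values in that ring lifts, up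
to translation of the K-point by a K-point of G, to a point of Y with values in the ring). Call a
global function s on Y invariant when its pullbacks along the action morphism and along the
projection G ×_k Y → Y agree. Then the invariant global functions form a finite A-module: there are
finitely many invariant functions such that every invariant function is a linear combination of them
with coefficients from A (acting on Γ(Y, O_Y) through p). (The published statement is for an
integral G-stable closed subscheme Y of a G-universally closed scheme over Spec A, with k the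
complex numbers and G a connected algebraic group; such a Y is itself G-universally closed over Spec
A, and the printed argument uses only a field k and a group scheme G.) -/
theorem result (k : Type u) [Field k]
    (G Y : Over (Spec (CommRingCat.of k))) [GrpObj G]
    [LocallyOfFiniteType Y.hom] [CompactSpace ↥Y.left] [IsIntegral Y.left]
    (A : Type u) [CommRing A] [Algebra k A] [Algebra.FiniteType k A]
    (a : AlgGrp.Action G Y)
    (p : Y ⟶ Over.mk (Spec.map (CommRingCat.ofHom (algebraMap k A))))
    (hp : W4c2lssmoduli.IsGUnivClosed a p) :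
    ∃ t : Finset ↑Γ(Y.left, ⊤),
      (∀ s ∈ t, a.act.left.appTop s = (CartesianMonoidalCategory.snd G Y).left.appTop s) ∧
      ∀ s : ↑Γ(Y.left, ⊤), a.act.left.appTop s = (CartesianMonoidalCategory.snd G Y).left.appTop s →
        ∃ c : ↑Γ(Y.left, ⊤) → A,
          s = ∑ x ∈ t, ((Scheme.ΓSpecIso (CommRingCat.of A)).inv ≫ p.left.appTop) (c x) * x := by
  classical
  haveI : Nonempty ↥Y.left := inferInstance
  obtain ⟨_, ⟨U, hU, rfl⟩, hxU, -⟩ :=
    Y.left.isBasis_affineOpens.exists_subset_of_mem_open (Set.mem_univ (Classical.arbitrary ↥Y.left)) isOpen_univ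
  haveI : Nonempty ↥(U : Scheme.{u}) := ⟨⟨_, hxU⟩⟩
  let ρ : A →+* Γ(Y.left, ⊤) := ((Scheme.ΓSpecIso (CommRingCat.of A)).inv ≫ p.left.appTop).hom
  let res : Γ(Y.left, ⊤) →+* Γ(Y.left, U) := (Y.left.presheaf.map (homOfLE le_top).op).hom
  have hres : Function.Injective res := map_injective_of_isIntegral Y.left (homOfLE le_top)
  let B := Γ(Y.left, U)
  haveI : IsDomain B := inferInstance
  letI : Algebra A B := (res.comp ρ).toAlgebra
  have hfin : (res.comp ρ).FiniteType := by
    have h1 : (Y.hom.appLE ⊤ U le_top).hom.FiniteType :=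
      Y.hom.finiteType_appLE (isAffineOpen_top _) hU le_top
    refine RingHom.FiniteType.of_comp_finiteType (f := algebraMap k A) ?_
    have h2 : (res.comp ρ).comp (algebraMap k A) =
        (Y.hom.appLE ⊤ U le_top).hom.comp (Scheme.ΓSpecIso (CommRingCat.of k)).inv.hom := by
      refine RingHom.ext fun c => ?_
      show res (p.left.appTop ((Scheme.ΓSpecIso (CommRingCat.of A)).inv (algebraMap k A c))) = _
      have h3 := congrArg (fun q => q.hom c) (Scheme.ΓSpecIso_inv_naturality (CommRingCat.ofHom (algebraMap k A)))
      refine (congrArg (fun z => res (p.left.appTop z)) h3).trans ?_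
      have h4 := congrArg (fun q => q.appTop ((Scheme.ΓSpecIso (CommRingCat.of k)).inv c)) (Over.w p)
      exact congrArg res h4
    rw [h2]
    exact h1.comp (RingHom.FiniteType.of_surjective _
      (ConcreteCategory.bijective_of_isIso (Scheme.ΓSpecIso (CommRingCat.of k)).inv).2)
  haveI : Algebra.FiniteType A B := hfin
  haveI : IsNoetherianRing A := Algebra.FiniteType.isNoetherianRing k A
  letI : Algebra k B := ((algebraMap A B).comp (algebraMap k A)).toAlgebra
  haveI : IsScalarTower k A B := IsScalarTower.of_algebraMap_eq fun _ => rfl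
  let L := FractionRing B
  haveI : IsScalarTower k A L := IsScalarTower.of_algebraMap_eq fun c => by
    rw [IsScalarTower.algebraMap_apply k B L, IsScalarTower.algebraMap_apply k A B, ← IsScalarTower.algebraMap_apply A B L]
  haveI : Algebra.FiniteType k B := Algebra.FiniteType.trans ‹Algebra.FiniteType k A› ‹Algebra.FiniteType A B›
  haveI : Algebra.EssFiniteType k L := Algebra.EssFiniteType.comp k B L
  haveI : Module.Finite A (integralClosure A L) := Groth.Agent.VarGal.finite_integralClosure_field k A L
  haveI : Algebra.EssFiniteType A L := Algebra.EssFiniteType.comp A B L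
  let g₀ : Spec (CommRingCat.of L) ⟶ Y.left := Spec.map (CommRingCat.ofHom (algebraMap B L)) ≫ hU.fromSpec
  have hg₀ : ∀ s, (Scheme.ΓSpecIso (CommRingCat.of L)).hom.hom (g₀.appTop s) = algebraMap B L (res s) := by
    intro s
    have h1 : hU.fromSpec.appTop s = (Scheme.ΓSpecIso Γ(Y.left, U)).inv (res s) := by
      show hU.fromSpec.app ⊤ s = _
      rw [hU.fromSpec_app_of_le ⊤ le_top]
      show (Spec Γ(Y.left, U)).presheaf.map _ ((Scheme.ΓSpecIso Γ(Y.left, U)).inv (res s)) = _
      exact congrArg (fun q => q.hom ((Scheme.ΓSpecIso Γ(Y.left, U)).inv (res s))) ((Spec Γ(Y.left, U)).presheaf.map_id _)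
    simp only [g₀, Scheme.Hom.comp_appTop, CommRingCat.hom_comp, RingHom.comp_apply]
    rw [h1]
    have h2 := congrArg (fun q => q.hom (res s)) (Scheme.ΓSpecIso_inv_naturality (CommRingCat.ofHom (algebraMap B L)))
    refine (congrArg _ h2.symm).trans ?_
    exact (Scheme.ΓSpecIso (CommRingCat.of L)).commRingCatIsoToRingEquiv.apply_symm_apply _
  haveI : IsAffine (Over.mk (Spec.map (CommRingCat.ofHom (algebraMap k A)))).left :=
    inferInstanceAs (IsAffine (Spec (CommRingCat.of A)))
  have hφ : g₀ ≫ p.left = Spec.map (CommRingCat.ofHom (algebraMap A L)) := by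
    refine ext_of_isAffine (CommRingCat.hom_ext (RingHom.ext fun z => ?_))
    obtain ⟨c, rfl⟩ := (ConcreteCategory.bijective_of_isIso (Scheme.ΓSpecIso (CommRingCat.of A)).inv).2 z
    refine (ConcreteCategory.bijective_of_isIso (Scheme.ΓSpecIso (CommRingCat.of L)).hom).1 ?_
    refine (hg₀ _).trans ?_
    have h2 := congrArg (fun q => q.hom c) (Scheme.ΓSpecIso_inv_naturality (CommRingCat.ofHom (algebraMap A L)))
    refine Eq.trans ?_ (congrArg (Scheme.ΓSpecIso (CommRingCat.of L)).hom.hom h2)
    refine Eq.trans ?_ ((Scheme.ΓSpecIso (CommRingCat.of L)).commRingCatIsoToRingEquiv.apply_symm_apply _).symm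
    show algebraMap B L (res (ρ c)) = algebraMap A L c
    rw [IsScalarTower.algebraMap_apply A B L]
    rfl
  have hint : ∀ s, a.act.left.appTop s = (CartesianMonoidalCategory.snd G Y).left.appTop s →
      algebraMap B L (res s) ∈ integralClosure A L := by
    intro s hs
    show IsIntegral A (algebraMap B L (res s))
    by_contra hcon
    obtain ⟨V, hV, hAV, hsV⟩ := Groth.Agent.AlgGrp33.exists_dvr_of_not_isIntegral hcon
    exact hsV (hg₀ s ▸ mem_range_of_dvr a p hp L g₀ (algebraMap A L) hφ V hAV s hs)
  haveI : IsNoetherian A (integralClosure A L) := isNoetherian_of_isNoetherianRing_of_finite A _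
  let S : Set (integralClosure A L) := {z | ∃ s, a.act.left.appTop s =
    (CartesianMonoidalCategory.snd G Y).left.appTop s ∧ (z : L) = algebraMap B L (res s)}
  obtain ⟨t₀, ht₀S, ht₀⟩ := Submodule.fg_span_iff_fg_span_finset_subset S |>.1 (IsNoetherian.noetherian (R := A) _)
  choose σ hσ1 hσ2 using fun z : t₀ => ht₀S z.2
  refine ⟨Finset.univ.image σ, fun s hs => ?_, fun s hs => ?_⟩
  · obtain ⟨z, -, rfl⟩ := Finset.mem_image.1 hs
    exact hσ1 z
  · have hmem : (⟨algebraMap B L (res s), hint s hs⟩ : integralClosure A L) ∈ Submodule.span A (t₀ : Set _) :=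
      ht₀ ▸ Submodule.subset_span ⟨s, hs, rfl⟩
    letI : Algebra A Γ(Y.left, ⊤) := ρ.toAlgebra
    have hmem2 : s ∈ Submodule.span A ((Finset.univ.image σ : Finset _) : Set Γ(Y.left, ⊤)) := by
      let rl : Γ(Y.left, ⊤) →ₗ[A] L :=
        { toFun := fun z => algebraMap B L (res z)
          map_add' := fun x y => by rw [map_add, map_add]
          map_smul' := fun c x => by
            simp only [RingHom.id_apply, Algebra.smul_def, map_mul]
            rw [IsScalarTower.algebraMap_apply A B L]
            rfl }
      have h1 := Submodule.mem_map_of_mem (f := (integralClosure A L).val.toLinearMap) hmem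
      rw [Submodule.map_span] at h1
      have h2 : algebraMap B L (res s) ∈ (Submodule.span A ((Finset.univ.image σ : Finset _) : Set Γ(Y.left, ⊤))).map rl := by
        rw [Submodule.map_span]
        refine Submodule.span_mono ?_ h1
        rintro _ ⟨z, hz, rfl⟩
        exact ⟨σ ⟨z, hz⟩, by simp, (hσ2 ⟨z, hz⟩).symm⟩
      obtain ⟨y, hy, hys⟩ := h2
      exact hres (IsFractionRing.injective B L hys) ▸ hy
    obtain ⟨c, hc⟩ := Submodule.mem_span_finset'.1 hmem2
    refine ⟨fun x => if hx : x ∈ Finset.univ.image σ then c ⟨x, hx⟩ else 0, ?_⟩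
    rw [← hc, ← Finset.sum_coe_sort (Finset.univ.image σ)]
    refine Finset.sum_congr rfl fun x _ => ?_
    simp only [dif_pos x.2, Algebra.smul_def]
    rfl

end Groth.Agent.S14999
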