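import Groth.Statements.S15000
import Groth.Agent.EGAProj74.FormProj

set_option autoImplicit false
universe u
open CategoryTheory CategoryTheory.Limits AlgebraicGeometry
open ProjDeg

namespace Groth.Agent.S15000

open TopologicalSpace Groth.Agent
open Groth.Agent.WC97 (tdegN)

set_option backward.isDefEq.respectTransparency false

/-- Let k be an algebraically closed field and Y a closed subscheme of projective N-space over k, given
by a closed immersion ι compatible with the structure morphisms to Spec k, and suppose the
underlying topological space of Y has Krull dimension d. Then there is a morphism π : Y → P^d_k over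
k which is finite and surjective and under which O(1) of P^d_k pulls back to a module isomorphic to
O_Y(1) = ι^*O(1). This row records the existence of such a finite surjective π together with the
existence of an isomorphism π^*O(1) ≅ O_Y(1) (existence of an isomorphism only). -/
theorem result (k : Type u) [Field k] [IsAlgClosed k]
    (N d : ℕ) (Y : Scheme.{u}) (f : Y ⟶ Spec (CommRingCat.of k))
    (ι : Y ⟶ CohB1.ProjSpace N k) [IsClosedImmersion ι] (hι : ι ≫ CohB1.ProjSpace.toSpec N k = f)
    (hdim : topologicalKrullDim ↥Y = (d : WithBot ℕ∞)) :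
    ∃ π : Y ⟶ CohB1.ProjSpace d k, π ≫ CohB1.ProjSpace.toSpec d k = f ∧ IsFinite π ∧ Function.Surjective π.base ∧
      Nonempty ((Scheme.Modules.pullback π).obj (Twist.twistProjSpace d k 1) ≅
        (Scheme.Modules.pullback ι).obj (Twist.twistProjSpace N k 1)) := by
  classical
  let qn := CohB1.ProjSpace.toSpec N k
  let qd := CohB1.ProjSpace.toSpec d k
  have : IsProper qn := Curves2.ProjLine.isProper_toSpec k N
  have : IsProper qd := Curves2.ProjLine.isProper_toSpec k d
  have : IsIntegral (CohB1.ProjSpace d k) := Curves2.ProjLine.isIntegral k d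
  obtain ⟨l, hl, hcov⟩ := Groth.Agent.S10864.exists_forms ι d hdim
  obtain ⟨π, hπ, haff, -, hiso⟩ :=
    Groth.Agent.EGAProj74.FormProj.exists_proj ι (fun i => ⟨l i, hl i⟩) hcov
  have hprop : IsProper (π ≫ qd) := hπ ▸ inferInstance
  have : IsProper π := IsProper.of_comp π qd
  have hfin : IsFinite π := IsFinite.iff_isProper_and_isAffineHom.2 ⟨inferInstance, haff⟩
  refine ⟨π, hπ.trans hι, hfin, ?_, hiso⟩
  have : Nonempty Y := by
    by_contra hne
    rw [not_nonempty_iff] at hne
    have hb : topologicalKrullDim Y = ⊥ := Order.krullDim_eq_bot_iff.2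
      ⟨fun Z => hne.elim Z.isIrreducible.nonempty.choose⟩
    rw [hb] at hdim
    exact WithBot.bot_ne_coe hdim
  have : LocallyOfFiniteType (ι ≫ qn) := inferInstance
  have : NoetherianSpace Y := Var76.FibreBound.noetherianSpace (ι ≫ qn)
  obtain ⟨x, -, hx⟩ := Var76.FibreBound.exists_tdegN_eq_dim (ι ≫ qn) (X := Y)
  rw [hdim] at hx
  have hfd : E4O.fdeg π x = 0 := E4O.fdeg_eq_zero_of_closed_in_fibre (f := π) fun x' hx' hsp => by
    have hdisc := (π.isDiscrete_preimage_singleton (π x)).to_subtype
    have h2 : (⟨x, rfl⟩ : π ⁻¹' {π x}) ⤳ (⟨x', hx'⟩ : π ⁻¹' {π x}) :=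
      Topology.IsEmbedding.subtypeVal.isInducing.specializes_iff.1 hsp
    exact (congrArg Subtype.val h2.eq).symm
  have hadd := Var76.FibreBound.tdegN_eq_add (qX := ι ≫ qn) (qY := qd) π hπ x
  rw [hfd, add_zero, ← show d = tdegN (ι ≫ qn) x by exact_mod_cast hx] at hadd
  have hgen : π x = genericPoint (CohB1.ProjSpace d k) := by
    have hsp : genericPoint (CohB1.ProjSpace d k) ⤳ π x := (genericPoint_spec _).specializes trivial
    refine (Var76.FibreBound.eq_of_tdegN_le qd hsp ?_).symm
    rw [← hadd]
    have h := (Var76.FibreBound.tdegN_le_dim qd (genericPoint (CohB1.ProjSpace d k))).trans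
      (Groth.Agent.S10829.result k d).le
    exact_mod_cast h
  intro z
  exact π.isClosedMap.isClosed_range.stableUnderSpecialization ((genericPoint_spec _).specializes trivial)
    ⟨x, hgen⟩

end Groth.Agent.S15000
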