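import Groth.Statements.S15003
import Groth.Agent.Small51.UnrDegree

set_option autoImplicit false
universe u
open CategoryTheory CategoryTheory.Limits AlgebraicGeometry
open Harb

namespace Groth.Agent.S15003

/-- Let k be an algebraically closed field and let π : Y → X be a finite, surjective and unramified
k-morphism of smooth varieties over k (X and Y integral, separated and of finite type over k with
all local rings regular) which sends the generic point of Y to the generic point of X, so that the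
function field k(X) embeds in k(Y). Then for every closed point p of X the fibre π⁻¹(p) consists of
exactly deg π points, where deg π = [k(Y) : k(X)] is the degree of that field extension. -/
theorem result (k : Type u) [Field k] [IsAlgClosed k]
    (X Y : Scheme.{u}) [X.Over (Spec (CommRingCat.of k))] [Y.Over (Spec (CommRingCat.of k))]
    [IsIntegral X] [IsIntegral Y]
    [IsSeparated (X ↘ (Spec (CommRingCat.of k)))] [LocallyOfFiniteType (X ↘ (Spec (CommRingCat.of k)))]
    [QuasiCompact (X ↘ (Spec (CommRingCat.of k)))]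
    [IsSeparated (Y ↘ (Spec (CommRingCat.of k)))] [LocallyOfFiniteType (Y ↘ (Spec (CommRingCat.of k)))]
    [QuasiCompact (Y ↘ (Spec (CommRingCat.of k)))]
    (hregX : ∀ x : X, IsRegularLocalRing (X.presheaf.stalk x))
    (hregY : ∀ y : Y, IsRegularLocalRing (Y.presheaf.stalk y))
    (π : Y ⟶ X) (hπ : π ≫ (X ↘ (Spec (CommRingCat.of k))) = (Y ↘ (Spec (CommRingCat.of k))))
    [AlgebraicGeometry.IsFinite π] [AlgebraicGeometry.Surjective π] [AlgebraicGeometry.FormallyUnramified π]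
    (e : π.base (genericPoint Y) = genericPoint X) (p : X) (hp : IsClosed ({p} : Set X)) :
    Nat.card {q : Y // π.base q = p} =
      Models.homDegree (X.presheaf.stalkSpecializes (specializes_of_eq e) ≫ π.stalkMap (genericPoint Y)).hom := by
  have hsurj : Function.Surjective π.base := π.surjective
  obtain ⟨U, hU, hpU, -⟩ := exists_isAffineOpen_mem_and_subset (x := p) (U := ⊤) trivial
  have hV : IsAffineOpen (π ⁻¹ᵁ U) := hU.preimage π
  haveI : Nonempty U := ⟨⟨p, hpU⟩⟩
  obtain ⟨q₀, hq₀⟩ := hsurj p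
  haveI : Nonempty (π ⁻¹ᵁ U : Y.Opens) := ⟨⟨q₀, by show π.base q₀ ∈ U; rw [hq₀]; exact hpU⟩⟩
  have hgX : genericPoint X ∈ U :=
    ((genericPoint_spec X).mem_open_set_iff U.isOpen).mpr ⟨p, trivial, hpU⟩
  have hgY : genericPoint Y ∈ π ⁻¹ᵁ U := by
    show π.base (genericPoint Y) ∈ U
    rw [e]; exact hgX
  letI : Algebra Γ(X, U) Γ(Y, π ⁻¹ᵁ U) := (π.app U).hom.toAlgebra
  haveI : Module.Finite Γ(X, U) Γ(Y, π ⁻¹ᵁ U) := IsFinite.finite_app π U hU
  haveI : Algebra.FormallyUnramified Γ(X, U) Γ(Y, π ⁻¹ᵁ U) := by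
    have h := HasRingHomProperty.appLE @AlgebraicGeometry.FormallyUnramified π inferInstance
      ⟨U, hU⟩ ⟨π ⁻¹ᵁ U, hV⟩ le_rfl
    rw [← Scheme.Hom.app_eq_appLE] at h
    exact h
  letI : Algebra k Γ(X, U) := (((X ↘ Spec (CommRingCat.of k)).appLE ⊤ U le_top).hom.comp
    (Scheme.ΓSpecIso (CommRingCat.of k)).inv.hom).toAlgebra
  haveI : Algebra.FiniteType k Γ(X, U) := by
    have h : ((X ↘ Spec (CommRingCat.of k)).appLE ⊤ U le_top).hom.FiniteType :=
      HasRingHomProperty.appLE @LocallyOfFiniteType _ inferInstance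
        ⟨⊤, isAffineOpen_top _⟩ ⟨U, hU⟩ le_top
    exact h.comp (RingHom.FiniteType.of_surjective _
      (ConcreteCategory.bijective_of_isIso (Scheme.ΓSpecIso (CommRingCat.of k)).inv).2)
  haveI : IsDomain Γ(X, U) := inferInstance
  haveI : IsDomain Γ(Y, π ⁻¹ᵁ U) := inferInstance
  haveI hFX := functionField_isFractionRing_of_isAffineOpen X U hU
  haveI hFY := functionField_isFractionRing_of_isAffineOpen Y (π ⁻¹ᵁ U) hV
  set ψ := (X.presheaf.stalkSpecializes (specializes_of_eq e) ≫ π.stalkMap (genericPoint Y)).hom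
  have hψ : ∀ a : Γ(X, U), ψ (algebraMap Γ(X, U) X.functionField a) =
      algebraMap Γ(Y, π ⁻¹ᵁ U) Y.functionField (algebraMap Γ(X, U) Γ(Y, π ⁻¹ᵁ U) a) := by
    intro a
    show (X.presheaf.germ U (genericPoint X) hgX ≫ X.presheaf.stalkSpecializes (specializes_of_eq e) ≫
      π.stalkMap (genericPoint Y)).hom a = (π.app U ≫ Y.presheaf.germ (π ⁻¹ᵁ U) (genericPoint Y) hgY).hom a
    rw [TopCat.Presheaf.germ_stalkSpecializes_assoc, Scheme.Hom.germ_stalkMap π U (genericPoint Y) hgY]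
  have hinj : Function.Injective (algebraMap Γ(X, U) Γ(Y, π ⁻¹ᵁ U)) := fun a b h =>
    IsFractionRing.injective Γ(X, U) X.functionField (RingHom.injective ψ (by rw [hψ, hψ, h]))
  have hdeg : Models.homDegree ψ = Module.finrank Γ(X, U) Γ(Y, π ⁻¹ᵁ U) := by
    unfold Models.homDegree
    letI := ψ.toAlgebra
    letI : Algebra Γ(X, U) Y.functionField :=
      ((algebraMap Γ(Y, π ⁻¹ᵁ U) Y.functionField).comp (algebraMap Γ(X, U) Γ(Y, π ⁻¹ᵁ U))).toAlgebra
    haveI : IsScalarTower Γ(X, U) Γ(Y, π ⁻¹ᵁ U) Y.functionField :=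
      IsScalarTower.of_algebraMap_eq fun _ => rfl
    haveI : IsScalarTower Γ(X, U) X.functionField Y.functionField :=
      IsScalarTower.of_algebraMap_eq fun a => (hψ a).symm
    exact IsFractionRing.finrank_eq Γ(X, U) X.functionField Γ(Y, π ⁻¹ᵁ U) Y.functionField
  have hA : ∀ (P : Ideal Γ(X, U)) [P.IsPrime], IsRegularLocalRing (Localization.AtPrime P) := by
    intro P hP
    have hx : hU.fromSpec ⟨P, hP⟩ ∈ U := by
      rw [← SetLike.mem_coe, ← hU.range_fromSpec]; exact ⟨_, rfl⟩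
    letI := TopCat.Presheaf.algebra_section_stalk X.presheaf ⟨_, hx⟩
    haveI : IsLocalization P.primeCompl (X.presheaf.stalk (hU.fromSpec ⟨P, hP⟩)) :=
      hU.isLocalization_stalk' ⟨P, hP⟩ hx
    haveI := hregX (hU.fromSpec ⟨P, hP⟩)
    exact IsRegularLocalRing.of_ringEquiv (IsLocalization.algEquiv P.primeCompl
      (X.presheaf.stalk (hU.fromSpec ⟨P, hP⟩)) (Localization.AtPrime P)).toRingEquiv
  have hB : ∀ (P : Ideal Γ(Y, π ⁻¹ᵁ U)) [P.IsPrime], IsRegularLocalRing (Localization.AtPrime P) := by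
    intro P hP
    have hy : hV.fromSpec ⟨P, hP⟩ ∈ π ⁻¹ᵁ U := by
      rw [← SetLike.mem_coe, ← hV.range_fromSpec]; exact ⟨_, rfl⟩
    letI := TopCat.Presheaf.algebra_section_stalk Y.presheaf ⟨_, hy⟩
    haveI : IsLocalization P.primeCompl (Y.presheaf.stalk (hV.fromSpec ⟨P, hP⟩)) :=
      hV.isLocalization_stalk' ⟨P, hP⟩ hy
    haveI := hregY (hV.fromSpec ⟨P, hP⟩)
    exact IsRegularLocalRing.of_ringEquiv (IsLocalization.algEquiv P.primeCompl
      (Y.presheaf.stalk (hV.fromSpec ⟨P, hP⟩)) (Localization.AtPrime P)).toRingEquiv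
  obtain ⟨P, hP⟩ : p ∈ Set.range hU.fromSpec := by rw [hU.range_fromSpec]; exact hpU
  have hmax : (P : PrimeSpectrum Γ(X, U)).asIdeal.IsMaximal := by
    refine (PrimeSpectrum.isClosed_singleton_iff_isMaximal (R := Γ(X, U)) P).1 ?_
    have h : IsClosed (hU.fromSpec ⁻¹' {p}) := hp.preimage hU.fromSpec.continuous
    rwa [← hP, ← Set.image_singleton, hU.fromSpec.isOpenEmbedding.injective.preimage_image] at h
  have hcomm : ∀ Q : PrimeSpectrum Γ(Y, π ⁻¹ᵁ U), π.base (hV.fromSpec Q) =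
      hU.fromSpec (PrimeSpectrum.comap (π.app U).hom Q) := fun Q => by
    have h := IsAffineOpen.SpecMap_appLE_fromSpec π hU hV le_rfl
    rw [← Scheme.Hom.app_eq_appLE] at h
    exact (congrArg (fun f : Spec Γ(Y, π ⁻¹ᵁ U) ⟶ X => f Q) h).symm
  rw [hdeg, ← Groth.Agent.UnrDegree51.natCard_fibre k Γ(X, U) Γ(Y, π ⁻¹ᵁ U) hinj hA hB P hmax]
  refine (Nat.card_congr (Equiv.ofBijective
    (fun Q : ↑(PrimeSpectrum.comap (algebraMap Γ(X, U) Γ(Y, π ⁻¹ᵁ U)) ⁻¹' {(P : PrimeSpectrum Γ(X, U))}) =>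
      (⟨hV.fromSpec (Q.1 : PrimeSpectrum Γ(Y, π ⁻¹ᵁ U)),
        (hcomm Q.1).trans ((congrArg (fun z => hU.fromSpec z) Q.2).trans hP)⟩ : {q : Y // π.base q = p}))
    ⟨fun Q Q' h => ?_, fun q => ?_⟩)).symm
  · have h' := congrArg (fun x : {q : Y // π.base q = p} => x.1) h
    dsimp only at h'
    exact Subtype.ext (hV.fromSpec.isOpenEmbedding.injective h')
  obtain ⟨Q, hQ⟩ : q.1 ∈ Set.range hV.fromSpec := by
    rw [hV.range_fromSpec]
    show π.base q.1 ∈ U
    rw [q.2]; exact hpU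
  refine ⟨⟨Q, hU.fromSpec.isOpenEmbedding.injective ?_⟩, Subtype.ext hQ⟩
  exact (hcomm Q).symm.trans ((congrArg π.base hQ).trans (q.2.trans hP.symm))

end Groth.Agent.S15003
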