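import Groth.Statements.S15004
import Groth.Agent.Small51.Incidence
-- import your own Groth.Agent.* helpers here

set_option autoImplicit false
universe u v
open Harb

namespace Groth.Agent.S15004

/-- Let C be a finite family of d curves, recorded as an incidence relation between a type of points and
a finite index type, such that any two distinct curves of the family meet in exactly h points; for a
point p write r_p for the number of curves of the family through p. Then for every curve C_i of the
family, Σ_{p ∈ C_i} (r_p − 1) = h (d − 1), the sum being finitely supported. (The published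
statement is for a transversal arrangement of curves on a geometrically ruled surface with invariant
e, all numerically equivalent to a C₀ + b f, where any two of the curves meet transversally in h =
2ab − a²e points; only this common pairwise intersection count enters the proof, and this row states
the identity for an abstract incidence relation.) -/
theorem result (P : Type u) (ι : Type v) [Fintype ι]
    (inc : P → ι → Prop) (h : ℕ)
    (hfin : ∀ i j : ι, i ≠ j → {p : P | inc p i ∧ inc p j}.Finite)
    (hcount : ∀ i j : ι, i ≠ j → {p : P | inc p i ∧ inc p j}.ncard = h) (i : ι) :
    ∑ᶠ p ∈ {p : P | inc p i}, (Nat.card {j : ι // inc p j} - 1) = h * (Fintype.card ι - 1) := by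
  classical
  have hinter : ∀ a b : ι, a ≠ b → ((Groth.Agent.Small51.multi hfin).filter (fun p => inc p a ∧ inc p b)).card = h := by
    intro a b hab
    rw [← hcount a b hab, ← Set.ncard_coe_finset]
    congr 1
    ext p
    simp only [Finset.coe_filter, Set.mem_ofPred_eq]
    exact ⟨fun hp => hp.2, fun hp => ⟨Groth.Agent.Small51.mem_multi_of_pair hab hp.1 hp.2, hp⟩⟩
  rw [finsum_mem_eq_sum_of_inter_support_eq (s := {p : P | inc p i}) _
    (t := (Groth.Agent.Small51.multi hfin).filter (fun p => inc p i))]
  · calc ∑ p ∈ (Groth.Agent.Small51.multi hfin).filter (fun p => inc p i), (Nat.card {j : ι // inc p j} - 1)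
        = ∑ p ∈ (Groth.Agent.Small51.multi hfin).filter (fun p => inc p i),
            ((Finset.univ.erase i).filter (fun j => inc p j)).card := Finset.sum_congr rfl fun p hp => by
          rw [Groth.Agent.Small51.natCard_thru, Groth.Agent.Small51.thru, Finset.filter_erase,
            Finset.card_erase_of_mem (by simp [(Finset.mem_filter.1 hp).2])]
      _ = ∑ j ∈ Finset.univ.erase i, (((Groth.Agent.Small51.multi hfin).filter (fun p => inc p i)).filter
            (fun p => inc p j)).card :=
          Finset.sum_card_bipartiteAbove_eq_sum_card_bipartiteBelow inc
      _ = ∑ j ∈ Finset.univ.erase i, h := Finset.sum_congr rfl fun j hj => by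
          rw [Finset.filter_filter]
          exact hinter i j (Finset.ne_of_mem_erase hj).symm
      _ = h * (Fintype.card ι - 1) := by
          rw [Finset.sum_const, Finset.card_erase_of_mem (Finset.mem_univ i), Finset.card_univ, smul_eq_mul, mul_comm]
  · ext p
    simp only [Set.mem_inter_iff, Set.mem_ofPred_eq, Function.mem_support, Finset.coe_filter,
      Groth.Agent.Small51.natCard_thru, Groth.Agent.Small51.mem_multi]
    constructor
    · rintro ⟨hp, hne⟩
      exact ⟨⟨by omega, hp⟩, hne⟩
    · rintro ⟨⟨-, hp⟩, hne⟩
      exact ⟨hp, hne⟩

end Groth.Agent.S15004
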