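import Groth.Statements.S15005
import Groth.Agent.Small51.Incidence
-- import your own Groth.Agent.* helpers here

set_option autoImplicit false
universe u v
open Harb

namespace Groth.Agent.S15005

/-- Let C be a finite family of d curves, recorded as an incidence relation between a type of points and
a finite index type, such that any two distinct curves of the family meet in exactly h points; let
t_k be the number of k-fold points (points lying on exactly k curves of the family). Then f₂ − f₁ =
Σ_{k ≥ 2} k(k − 1) t_k equals h d(d − 1), where f_i = Σ_{k ≥ 2} k^i t_k. (The published statement is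
for a transversal arrangement of curves on a geometrically ruled surface with invariant e, all
numerically equivalent to a C₀ + b f, where any two of the curves meet transversally in h = 2ab −
a²e points; only this common pairwise intersection count enters the proof, and this row states the
identity for an abstract incidence relation.) -/
theorem result (P : Type u) (ι : Type v) [Fintype ι]
    (inc : P → ι → Prop) (h : ℕ)
    (hfin : ∀ i j : ι, i ≠ j → {p : P | inc p i ∧ inc p j}.Finite)
    (hcount : ∀ i j : ι, i ≠ j → {p : P | inc p i ∧ inc p j}.ncard = h) :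
    ∑ k ∈ Finset.Icc 2 (Fintype.card ι), k * (k - 1) * Nat.card {p : P // Nat.card {j : ι // inc p j} = k} =
      h * (Fintype.card ι * (Fintype.card ι - 1)) := by
  classical
  have hinter : ∀ a b : ι, a ≠ b → ((Groth.Agent.Small51.multi hfin).filter (fun p => inc p a ∧ inc p b)).card = h := by
    intro a b hab
    rw [← hcount a b hab, ← Set.ncard_coe_finset]
    congr 1
    ext p
    simp only [Finset.coe_filter, Set.mem_ofPred_eq]
    exact ⟨fun hp => hp.2, fun hp => ⟨Groth.Agent.Small51.mem_multi_of_pair hab hp.1 hp.2, hp⟩⟩
  have hk : ∀ k ∈ Finset.Icc 2 (Fintype.card ι), Nat.card {p : P // Nat.card {j : ι // inc p j} = k} =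
      ((Groth.Agent.Small51.multi hfin).filter (fun p => (Groth.Agent.Small51.thru inc p).card = k)).card := by
    intro k hk
    rw [← Set.ncard_coe_finset, ← Nat.card_coe_set_eq]
    refine Nat.card_congr (Equiv.subtypeEquivRight fun p => ?_)
    simp only [Finset.coe_filter, Set.mem_ofPred_eq, Groth.Agent.Small51.natCard_thru, Groth.Agent.Small51.mem_multi]
    have := (Finset.mem_Icc.1 hk).1
    constructor
    · intro h'; exact ⟨by omega, h'⟩
    · exact fun h' => h'.2
  rw [Finset.sum_congr rfl fun k hkm => by rw [hk k hkm]]
  have hcast : ∀ k ∈ Finset.Icc 2 (Fintype.card ι),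
      k * (k - 1) * ((Groth.Agent.Small51.multi hfin).filter (fun p => (Groth.Agent.Small51.thru inc p).card = k)).card =
      ∑ p ∈ (Groth.Agent.Small51.multi hfin).filter (fun p => (Groth.Agent.Small51.thru inc p).card = k), (Groth.Agent.Small51.thru inc p).offDiag.card := by
    intro k _
    rw [Finset.sum_congr rfl (g := fun _ => k * (k - 1)) fun p hp => ?_, Finset.sum_const, smul_eq_mul, mul_comm]
    rw [Finset.offDiag_card, (Finset.mem_filter.1 hp).2, Nat.mul_sub, mul_one]
  rw [Finset.sum_congr rfl hcast, Finset.sum_fiberwise_of_maps_to (fun p hp => Finset.mem_Icc.2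
    ⟨Groth.Agent.Small51.mem_multi.1 hp, Finset.card_le_univ _⟩)]
  calc ∑ p ∈ Groth.Agent.Small51.multi hfin, (Groth.Agent.Small51.thru inc p).offDiag.card
      = ∑ p ∈ Groth.Agent.Small51.multi hfin, ((Finset.univ : Finset ι).offDiag.filter (fun q => inc p q.1 ∧ inc p q.2)).card :=
        Finset.sum_congr rfl fun p _ => congrArg Finset.card (by
          ext q; simp [Groth.Agent.Small51.mem_thru]; tauto)
    _ = ∑ q ∈ (Finset.univ : Finset ι).offDiag, ((Groth.Agent.Small51.multi hfin).filter (fun p => inc p q.1 ∧ inc p q.2)).card :=
        Finset.sum_card_bipartiteAbove_eq_sum_card_bipartiteBelow _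
    _ = ∑ q ∈ (Finset.univ : Finset ι).offDiag, h :=
        Finset.sum_congr rfl fun q hq => hinter _ _ (Finset.mem_offDiag.1 hq).2.2
    _ = h * (Fintype.card ι * (Fintype.card ι - 1)) := by
        rw [Finset.sum_const, Finset.offDiag_card, Finset.card_univ, smul_eq_mul, Nat.mul_sub, mul_one, mul_comm]

end Groth.Agent.S15005
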