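import Groth.Statements.S15006
import Groth.Agent.Small51.Incidence
-- import your own Groth.Agent.* helpers here

set_option autoImplicit false
universe u v
open Harb

namespace Groth.Agent.S15006

/-- Let C be a finite family of d ≥ 2 curves, recorded as an incidence relation between a type of points
and a finite index type, such that any two distinct curves of the family meet in exactly h ≥ 1
points and no point lies on every curve of the family. Then f₀ ≥ d: the number of multiple points
(points lying on at least two of the curves) is at least the number of curves. (The published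
statement is for a transversal arrangement of d ≥ 4 curves on a geometrically ruled surface with
invariant e ≥ 4, all numerically equivalent to a C₀ + b f with a ≥ 1 and b ≥ ae and with no point
common to all of them, satisfying in addition either a ≥ 2, or a = 1 with some four of the curves
having no point in common, where any two of the curves meet transversally in h = 2ab − a²e ≥ 1
points; only d ≥ 2, h ≥ 1 and the absence of a common point enter the proof, and this row states the
bound for an abstract incidence relation.) -/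
theorem result (P : Type u) (ι : Type v) [Fintype ι]
    (inc : P → ι → Prop) (h : ℕ) (hh : 0 < h) (hd : 2 ≤ Fintype.card ι)
    (hfin : ∀ i j : ι, i ≠ j → {p : P | inc p i ∧ inc p j}.Finite)
    (hcount : ∀ i j : ι, i ≠ j → {p : P | inc p i ∧ inc p j}.ncard = h)
    (hnone : ∀ p : P, ∃ i : ι, ¬ inc p i) :
    Fintype.card ι ≤ Nat.card {p : P // 2 ≤ Nat.card {j : ι // inc p j}} := by
  classical
  have hinter : ∀ a b : ι, a ≠ b → ((Groth.Agent.Small51.multi hfin).filter (fun p => inc p a ∧ inc p b)).card = h := by
    intro a b hab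
    rw [← hcount a b hab, ← Set.ncard_coe_finset]
    congr 1
    ext p
    simp only [Finset.coe_filter, Set.mem_ofPred_eq]
    exact ⟨fun hp => hp.2, fun hp => ⟨Groth.Agent.Small51.mem_multi_of_pair hab hp.1 hp.2, hp⟩⟩
  have hout : ∀ a b : ι, a ≠ b → ∃ p c, inc p a ∧ inc p b ∧ ¬ inc p c ∧ c ≠ a ∧ c ≠ b := by
    intro a b hab
    obtain ⟨p, hp⟩ := Finset.card_pos.1 ((hinter a b hab).symm ▸ hh)
    obtain ⟨-, hpa, hpb⟩ := Finset.mem_filter.1 hp
    obtain ⟨c, hc⟩ := hnone p
    exact ⟨p, c, hpa, hpb, hc, fun e => hc (e ▸ hpa), fun e => hc (e ▸ hpb)⟩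
  have hextra : ∀ a b : ι, a ≠ b → ∃ c q, q ∈ Groth.Agent.Small51.multi hfin ∧ inc q a ∧ inc q c ∧ ¬ inc q b ∧ c ≠ b := by
    intro a b hab
    obtain ⟨p, c, hpa, hpb, hpc, hca, hcb⟩ := hout a b hab
    by_contra hne
    push Not at hne
    have hsub : (Groth.Agent.Small51.multi hfin).filter (fun q => inc q a ∧ inc q c) ⊆
        (Groth.Agent.Small51.multi hfin).filter (fun q => inc q a ∧ inc q b) := fun q hq => by
      obtain ⟨h1, h2, h3⟩ := Finset.mem_filter.1 hq
      refine Finset.mem_filter.2 ⟨h1, h2, ?_⟩
      by_contra h4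
      exact hcb (hne c q h1 h2 h3 h4)
    have heq := Finset.eq_of_subset_of_card_le hsub (by rw [hinter a b hab, hinter a c hca.symm])
    exact hpc (Finset.mem_filter.1 (heq.ge (Finset.mem_filter.2 ⟨Groth.Agent.Small51.mem_multi_of_pair hab hpa hpb, hpa, hpb⟩))).2.2
  rw [Groth.Agent.Small51.natCard_multi hfin]
  set M := Groth.Agent.Small51.multi hfin with hM
  let N : M → ι → ℚ := fun p i => if inc p.1 i then 1 else 0
  let L : (ι → ℚ) →ₗ[ℚ] (M → ℚ) :=
    { toFun := fun v p => ∑ i, N p i * v i
      map_add' := fun v w => funext fun p => by simp [mul_add, Finset.sum_add_distrib]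
      map_smul' := fun c v => funext fun p => by simp [Finset.mul_sum, mul_left_comm] }
  suffices hinj : Function.Injective L by
    simpa using LinearMap.finrank_le_finrank_of_injective hinj
  rw [injective_iff_map_eq_zero]
  intro v hv
  have hgt : ∀ i : ι, h < (M.filter (fun p => inc p i)).card := by
    intro i
    haveI : Nontrivial ι := Fintype.one_lt_card_iff_nontrivial.1 hd
    obtain ⟨j, hj⟩ := exists_ne i
    obtain ⟨c, q, hq, hqi, -, hqj, -⟩ := hextra i j hj.symm
    rw [← hinter i j hj.symm]
    refine Finset.card_lt_card ⟨fun p hp => ?_, fun hsub => hqj ?_⟩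
    · obtain ⟨h1, h2, -⟩ := Finset.mem_filter.1 hp
      exact Finset.mem_filter.2 ⟨h1, h2⟩
    · exact (Finset.mem_filter.1 (hsub (Finset.mem_filter.2 ⟨hq, hqi⟩))).2.2
  have hG : ∀ i j : ι, ∑ p : M, N p i * N p j =
      (if i = j then ((M.filter (fun p => inc p i)).card : ℚ) - h else 0) + h := by
    intro i j
    have hsum : ∑ p : M, N p i * N p j = ((M.filter (fun p => inc p i ∧ inc p j)).card : ℚ) := by
      rw [Finset.univ_eq_attach]
      simp only [N, mul_ite, mul_one, mul_zero, ← ite_and]
      rw [Finset.sum_attach M (fun p => if inc p j ∧ inc p i then (1 : ℚ) else 0), Finset.sum_boole]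
      simp [and_comm]
    rw [hsum]
    split_ifs with hij
    · subst hij; simp
    · rw [hinter i j hij, zero_add]
  have h0 : ∑ i, (((M.filter (fun p => inc p i)).card : ℚ) - h) * v i ^ 2 + h * (∑ i, v i) ^ 2 = 0 := by
    have hLv : ∑ p : M, (L v p) ^ 2 = 0 := by simp [hv]
    rw [← hLv]
    show _ = ∑ p : M, (∑ i, N p i * v i) ^ 2
    simp_rw [sq (∑ i, N _ i * v i), Finset.sum_mul_sum]
    rw [Finset.sum_comm]
    simp_rw [Finset.sum_comm (s := (Finset.univ : Finset M)), fun i j (p : M) =>
      show N p i * v i * (N p j * v j) = N p i * N p j * (v i * v j) by ring, ← Finset.sum_mul, hG, add_mul,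
      Finset.sum_add_distrib, ite_mul, zero_mul, Finset.sum_ite_eq, Finset.mem_univ, if_true, ← sq]
    rw [sq (∑ i, v i), Finset.sum_mul_sum, Finset.mul_sum]
    simp_rw [Finset.mul_sum]
  have hpos : ∀ i ∈ Finset.univ, (0 : ℚ) ≤ (((M.filter (fun p => inc p i)).card : ℚ) - h) * v i ^ 2 := fun i _ =>
    mul_nonneg (sub_nonneg.2 (by exact_mod_cast (hgt i).le)) (sq_nonneg _)
  have hz := ((add_eq_zero_iff_of_nonneg (Finset.sum_nonneg hpos) (by positivity)).1 h0).1
  funext i
  have hi := (Finset.sum_eq_zero_iff_of_nonneg hpos).1 hz i (Finset.mem_univ i)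
  have hne : ((M.filter (fun p => inc p i)).card : ℚ) - h ≠ 0 :=
    (sub_pos.2 (by exact_mod_cast hgt i)).ne'
  simpa [hne] using hi

end Groth.Agent.S15006
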