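import Groth.Statements.S15007
import Groth.Agent.Small51.Incidence
-- import your own Groth.Agent.* helpers here

set_option autoImplicit false
universe u v
open Harb

namespace Groth.Agent.S15007

/-- Let C be a finite family of d ≥ 2 curves, recorded as an incidence relation between a type of points
and a finite index type, such that any two distinct curves of the family meet in exactly h ≥ 1
points and no point lies on every curve of the family. Then f₀ ≥ h + 2: the number of multiple
points (points lying on at least two of the curves) is at least h + 2. (The published claim reads f₀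
≥ 2ab − a²e + 2 for a transversal arrangement of d ≥ 4 curves on a geometrically ruled surface with
invariant e ≥ 4, all numerically equivalent to a C₀ + b f with a ≥ 1 and b ≥ ae and with no point
common to all of them, satisfying in addition either a ≥ 2, or a = 1 with some four of the curves
having no point in common, where any two of the curves meet transversally in h = 2ab − a²e ≥ 1
points; only d ≥ 2, h ≥ 1 and the absence of a common point enter the proof, and this row states the
bound for an abstract incidence relation.) -/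
theorem result (P : Type u) (ι : Type v) [Fintype ι]
    (inc : P → ι → Prop) (h : ℕ) (hh : 0 < h) (hd : 2 ≤ Fintype.card ι)
    (hfin : ∀ i j : ι, i ≠ j → {p : P | inc p i ∧ inc p j}.Finite)
    (hcount : ∀ i j : ι, i ≠ j → {p : P | inc p i ∧ inc p j}.ncard = h)
    (hnone : ∀ p : P, ∃ i : ι, ¬ inc p i) :
    h + 2 ≤ Nat.card {p : P // 2 ≤ Nat.card {j : ι // inc p j}} := by
  classical
  have hinter : ∀ a b : ι, a ≠ b → ((Groth.Agent.Small51.multi hfin).filter (fun p => inc p a ∧ inc p b)).card = h := by
    intro a b hab
    rw [← hcount a b hab, ← Set.ncard_coe_finset]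
    congr 1
    ext p
    simp only [Finset.coe_filter, Set.mem_ofPred_eq]
    exact ⟨fun hp => hp.2, fun hp => ⟨Groth.Agent.Small51.mem_multi_of_pair hab hp.1 hp.2, hp⟩⟩
  have hout : ∀ a b : ι, a ≠ b → ∃ p c, inc p a ∧ inc p b ∧ ¬ inc p c ∧ c ≠ a ∧ c ≠ b := by
    intro a b hab
    obtain ⟨p, hp⟩ := Finset.card_pos.1 ((hinter a b hab).symm ▸ hh)
    obtain ⟨-, hpa, hpb⟩ := Finset.mem_filter.1 hp
    obtain ⟨c, hc⟩ := hnone p
    exact ⟨p, c, hpa, hpb, hc, fun e => hc (e ▸ hpa), fun e => hc (e ▸ hpb)⟩
  have hextra : ∀ a b : ι, a ≠ b → ∃ c q, q ∈ Groth.Agent.Small51.multi hfin ∧ inc q a ∧ inc q c ∧ ¬ inc q b ∧ c ≠ b := by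
    intro a b hab
    obtain ⟨p, c, hpa, hpb, hpc, hca, hcb⟩ := hout a b hab
    by_contra hne
    push Not at hne
    have hsub : (Groth.Agent.Small51.multi hfin).filter (fun q => inc q a ∧ inc q c) ⊆
        (Groth.Agent.Small51.multi hfin).filter (fun q => inc q a ∧ inc q b) := fun q hq => by
      obtain ⟨h1, h2, h3⟩ := Finset.mem_filter.1 hq
      refine Finset.mem_filter.2 ⟨h1, h2, ?_⟩
      by_contra h4
      exact hcb (hne c q h1 h2 h3 h4)
    have heq := Finset.eq_of_subset_of_card_le hsub (by rw [hinter a b hab, hinter a c hca.symm])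
    exact hpc (Finset.mem_filter.1 (heq.ge (Finset.mem_filter.2 ⟨Groth.Agent.Small51.mem_multi_of_pair hab hpa hpb, hpa, hpb⟩))).2.2
  rw [Groth.Agent.Small51.natCard_multi hfin]
  haveI : Nontrivial ι := Fintype.one_lt_card_iff_nontrivial.1 hd
  obtain ⟨i, j, hij⟩ := exists_pair_ne ι
  obtain ⟨-, q, hq, hqi, -, hqj, -⟩ := hextra i j hij
  obtain ⟨-, q', hq', hqj', -, hqi', -⟩ := hextra j i hij.symm
  have hqq : q ≠ q' := fun e => hqi' (e ▸ hqi)
  rw [← hinter i j hij]
  have hsub : insert q (insert q' ((Groth.Agent.Small51.multi hfin).filter (fun p => inc p i ∧ inc p j))) ⊆ Groth.Agent.Small51.multi hfin := by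
    intro x hx
    simp only [Finset.mem_insert, Finset.mem_filter] at hx
    rcases hx with rfl | rfl | hx
    exacts [hq, hq', hx.1]
  have := Finset.card_le_card hsub
  rw [Finset.card_insert_of_notMem (by simp [hqq, hqj]), Finset.card_insert_of_notMem (by simp [hqi'])] at this
  exact this

end Groth.Agent.S15007
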