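import Groth.Statements.S1501
import Groth.Agent.S2153
import Groth.Agent.S4380
import Groth.Agent.S4381
import Groth.Agent.Amp73.PullTensor
import Groth.Agent.EGA73.Invertible

set_option autoImplicit false
universe u
open FlatMor

namespace Groth.Agent.S1501

open AlgebraicGeometry CategoryTheory Limits

lemma isAmple_restrict_congr {X : Scheme.{u}} (L : X.Modules) {U V : X.Opens} (h : U = V) :
    CohB1.IsAmple (L.restrict U.ι) ↔ CohB1.IsAmple (L.restrict V.ι) := by
  subst h; rfl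

lemma isHomeomorph_base {X X' : Scheme.{u}} (i : X ⟶ X') (hi : MoreMor.IsThickening i) :
    IsHomeomorph i.base := by
  haveI := hi.1
  exact isHomeomorph_iff_isEmbedding_surjective.mpr ⟨i.isClosedEmbedding.isEmbedding, hi.2.surj⟩

/-- Ampleness over an open of the base is the same on the thickening. -/
theorem isAmple_iff {X X' S S' : Scheme.{u}} (iX : X ⟶ X') (iS : S ⟶ S') (f : X ⟶ S) (f' : X' ⟶ S')
    (hX : MoreMor.IsThickening iX) (w : iX ≫ f' = f ≫ iS)
    (L' : X'.Modules) (hL' : PicF.IsInvertible L') (V : S'.Opens) :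
    CohB1.IsAmple (((Scheme.Modules.pullback iX).obj L').restrict (f ⁻¹ᵁ (iS ⁻¹ᵁ V)).ι) ↔
      CohB1.IsAmple (L'.restrict (f' ⁻¹ᵁ V).ι) := by
  haveI := hX.1
  have e : f ⁻¹ᵁ (iS ⁻¹ᵁ V) = iX ⁻¹ᵁ (f' ⁻¹ᵁ V) := by
    rw [← Scheme.Hom.comp_preimage, ← Scheme.Hom.comp_preimage, w]
  rw [isAmple_restrict_congr _ e]
  let W := f' ⁻¹ᵁ V
  haveI : IsClosedImmersion (iX ∣_ W) := MorphismProperty.of_isPullback
    (isPullback_morphismRestrict iX W).flip inferInstance
  haveI := hX.2
  haveI : Surjective (iX ∣_ W) := MorphismProperty.of_isPullback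
    (isPullback_morphismRestrict iX W).flip inferInstance
  have hh : IsHomeomorph (iX ∣_ W).base :=
    isHomeomorph_iff_isEmbedding_surjective.mpr
      ⟨(iX ∣_ W).isClosedEmbedding.isEmbedding, (iX ∣_ W).surjective⟩
  have e' : (Scheme.Modules.pullback (iX ∣_ W)).obj (L'.restrict W.ι) ≅
      ((Scheme.Modules.pullback iX).obj L').restrict (iX ⁻¹ᵁ W).ι :=
    (Scheme.Modules.pullback (iX ∣_ W)).mapIso
        ((Scheme.Modules.restrictFunctorIsoPullback W.ι).app L') ≪≫
      (Amp73.pullRestrictIso iX W).app L'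
  rw [← Groth.Agent.S2153.result (iX ∣_ W) hh (L'.restrict W.ι) (EGA73.isInvertible_restrict hL' W.ι)]
  exact ⟨Amp73.isAmple_of_iso e'.symm, Amp73.isAmple_of_iso e'⟩

open AlgebraicGeometry CategoryTheory Limits in
/-- Let (f, f') : (X ⊂ X') → (S ⊂ S') be a morphism of thickenings (iX : X → X' and iS : S → S'
thickenings with f ≫ iS = iX ≫ f') and L' an invertible O_{X'}-module with pullback L to X. Then L'
is ample relative to f' if and only if L is ample relative to f. -/
theorem result {X X' S S' : Scheme.{u}} (iX : X ⟶ X') (iS : S ⟶ S') (f : X ⟶ S) (f' : X' ⟶ S')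
    (hX : MoreMor.IsThickening iX) (hS : MoreMor.IsThickening iS) (w : iX ≫ f' = f ≫ iS)
    (L' : X'.Modules) (hL' : PicF.IsInvertible L') :
    RelAmple.IsRelAmple f' L' ↔ RelAmple.IsRelAmple f ((Scheme.Modules.pullback iX).obj L') := by
  haveI := hX.1
  haveI := hS.1
  have hqX := isHomeomorph_base iX hX
  have hqS := isHomeomorph_base iS hS
  have hpre : ∀ A : Set S', iX.base ⁻¹' (f'.base ⁻¹' A) = f.base ⁻¹' (iS.base ⁻¹' A) := fun A => by
    ext x
    show f' (iX x) ∈ A ↔ iS (f x) ∈ A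
    rw [← Scheme.Hom.comp_apply, w, Scheme.Hom.comp_apply]
  constructor
  · rintro ⟨hq', ha⟩
    have : QuasiCompact (f ≫ iS) := w ▸ inferInstance
    haveI : QuasiCompact f := QuasiCompact.of_comp f iS
    refine (Groth.Agent.S4380.result f _ (fun V : S'.affineOpens => iS ⁻¹ᵁ V.1) ?_).mpr fun V => ?_
    · refine eq_top_iff.mpr fun x _ => TopologicalSpace.Opens.mem_iSup.mpr ?_
      obtain ⟨V, hV, hxV, -⟩ := exists_isAffineOpen_mem_and_subset (show iS x ∈ (⊤ : S'.Opens) from trivial)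
      exact ⟨⟨V, hV⟩, hxV⟩
    · haveI : IsAffine (iS ⁻¹ᵁ V.1).toScheme := V.2.preimage iS
      exact (Groth.Agent.S4381.result _ _).mpr ((isAmple_iff iX iS f f' hX w L' hL' V.1).mpr (ha V))
  · rintro ⟨hq, ha⟩
    refine ⟨⟨fun A hA hA' => ?_⟩, fun V => (isAmple_iff iX iS f f' hX w L' hL' V.1).mp
      (ha ⟨iS ⁻¹ᵁ V.1, V.2.preimage iS⟩)⟩
    have h1 : IsCompact (iS.base ⁻¹' A) := iS.isClosedEmbedding.isCompact_preimage hA'
    have h2 : IsCompact (f.base ⁻¹' (iS.base ⁻¹' A)) :=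
      hq.isCompact_preimage _ (hA.preimage iS.continuous) h1
    rw [← hpre] at h2
    have h3 := h2.image iX.continuous
    rwa [Set.image_preimage_eq _ hqX.surjective] at h3

end Groth.Agent.S1501
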