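import Groth.Statements.S15010
import Mathlib.LinearAlgebra.Matrix.NonsingularInverse
import Mathlib.RingTheory.Localization.Integer
import Mathlib.LinearAlgebra.Matrix.Notation

set_option autoImplicit false
universe u
open TFCurv

namespace Groth.Agent.S15010

/-- Let O be a one-dimensional Noetherian local domain with algebraically closed residue field whose
integral closure O~ in its fraction field K is a finite O-module. If M and N are O-submodules of K^n
with O^n ⊆ M ⊆ O~^n and O^n ⊆ N ⊆ O~^n, then every O-linear isomorphism M → N is the restriction of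
x ↦ A·x for an invertible n × n matrix A with entries in O~. -/
theorem result (O : Type u) [CommRing O] [IsDomain O] [IsNoetherianRing O] [IsLocalRing O] (hdim : ringKrullDim O = 1) [IsAlgClosed (IsLocalRing.ResidueField O)] (K : Type u) [Field K] [Algebra O K] [IsFractionRing O K] (hfin : Module.Finite O ↥(integralClosure O K)) (n : ℕ) (M N : Submodule O (Fin n → K)) (hM1 : Submodule.pi Set.univ (fun _ : Fin n => (1 : Submodule O K)) ≤ M) (hM2 : M ≤ Submodule.pi Set.univ (fun _ : Fin n => (Subalgebra.toSubmodule (integralClosure O K)))) (hN1 : Submodule.pi Set.univ (fun _ : Fin n => (1 : Submodule O K)) ≤ N) (hN2 : N ≤ Submodule.pi Set.univ (fun _ : Fin n => (Subalgebra.toSubmodule (integralClosure O K)))) (φ : ↥M ≃ₗ[O] ↥N) : ∃ A : Matrix (Fin n) (Fin n) ↥(integralClosure O K), IsUnit A ∧ ∀ x : ↥M, ((φ x : ↥N) : Fin n → K) = (A.map (algebraMap ↥(integralClosure O K) K)).mulVec (x : Fin n → K) := by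
  classical
  let R := integralClosure O K
  have hext : ∀ (P Q : Submodule O (Fin n → K)),
      Submodule.pi Set.univ (fun _ : Fin n => (1 : Submodule O K)) ≤ P →
      Q ≤ Submodule.pi Set.univ (fun _ : Fin n => (Subalgebra.toSubmodule R)) → ∀ ψ : P ≃ₗ[O] Q,
      ∃ A : Matrix (Fin n) (Fin n) R, ∀ x : P, ((ψ x : Q) : Fin n → K) = (A.map (algebraMap R K)).mulVec (x : Fin n → K) := by
    intro P Q hP hQ ψ
    have he : ∀ j, (Pi.single j 1 : Fin n → K) ∈ P := fun j => hP fun i _ => by
      rcases eq_or_ne i j with rfl | h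
      · rw [Pi.single_eq_same]
        exact Submodule.one_le.1 le_rfl
      · rw [Pi.single_eq_of_ne h]
        exact zero_mem _
    refine ⟨Matrix.of fun i j => ⟨((ψ ⟨_, he j⟩ : Q) : Fin n → K) i, hQ (ψ _).2 i trivial⟩, fun x => ?_⟩
    obtain ⟨⟨a, ha⟩, hax⟩ := IsLocalization.exist_integer_multiples_of_finite (nonZeroDivisors O) (x : Fin n → K)
    choose y hy using hax
    have ha0 : algebraMap O K a ≠ 0 := IsFractionRing.to_map_ne_zero_of_mem_nonZeroDivisors ha
    have hsum : a • x = ∑ j, y j • (⟨_, he j⟩ : P) := Subtype.ext (funext fun i => by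
      have hyi : algebraMap O K (y i) = a • (x : Fin n → K) i := hy i
      simp [Finset.sum_apply, Pi.single_apply, ← hyi, Algebra.smul_def])
    have h := congrArg (fun p : P => ((ψ p : Q) : Fin n → K)) hsum
    simp only [map_smul, map_sum, Submodule.coe_smul, Submodule.coe_sum] at h
    funext i
    refine mul_left_cancel₀ ha0 ?_
    have hi := congrFun h i
    simp only [Pi.smul_apply, Finset.sum_apply, Algebra.smul_def] at hi
    rw [hi]
    simp only [Matrix.mulVec, dotProduct, Matrix.map_apply, Matrix.of_apply, Finset.mul_sum]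
    refine Finset.sum_congr rfl fun j _ => ?_
    have hyj : algebraMap O K (y j) = algebraMap O K a * (x : Fin n → K) j := by
      rw [hy j]
      exact Algebra.smul_def a _
    rw [Pi.mul_apply, Pi.algebraMap_apply, hyj]
    show _ = algebraMap O K a * (((ψ ⟨_, he j⟩ : Q) : Fin n → K) i * (x : Fin n → K) j)
    ring
  obtain ⟨A, hA⟩ := hext M N hM1 hN2 φ
  obtain ⟨B, hB⟩ := hext N M hN1 hM2 φ.symm
  have hBA : B * A = 1 := by
    have he : ∀ j, (Pi.single j 1 : Fin n → K) ∈ M := fun j => hM1 fun i _ => by
      rcases eq_or_ne i j with rfl | h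
      · rw [Pi.single_eq_same]
        exact Submodule.one_le.1 le_rfl
      · rw [Pi.single_eq_of_ne h]
        exact zero_mem _
    have hinj : Function.Injective (algebraMap R K) := Subtype.val_injective
    apply Matrix.map_injective hinj
    show (B * A).map (algebraMap R K) = (1 : Matrix (Fin n) (Fin n) R).map (algebraMap R K)
    rw [Matrix.map_mul, Matrix.map_one _ (map_zero _) (map_one _)]
    refine Matrix.ext_of_mulVec_single fun j => ?_
    rw [Matrix.one_mulVec, ← Matrix.mulVec_mulVec, ← hA ⟨_, he j⟩, ← hB, φ.symm_apply_apply]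
  exact ⟨A, Matrix.isUnit_iff_isUnit_det A |>.2 (IsUnit.of_mul_eq_one_right _ (by rw [← Matrix.det_mul, hBA, Matrix.det_one])), hA⟩

end Groth.Agent.S15010
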