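import Groth.Statements.S15015
import Groth.Agent.TFCurv38.Series

set_option autoImplicit false
universe u
open TFCurv

namespace Groth.Agent.S15015

/-- Let k be an algebraically closed field and A ≠ k[[t]] a k-subalgebra of k[[t]] that is closed in the
t-adic topology, over which k[[t]] is a finite module, and such that every power series is carried
into A by multiplication with some nonzero element of A (so k[[t]] lies in the fraction field of A
and is its normalisation, as for the complete local ring of a unibranch curve singularity), and let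
Γ ⊆ ℕ be the set of t-orders of the nonzero elements of A (its value semigroup). Then ℕ ∖ Γ is
finite and the k-dimension of k[[t]]/A equals the number of gaps of Γ. -/
theorem result (k : Type u) [Field k] [IsAlgClosed k] (A : Subalgebra k (PowerSeries k)) (hA : Module.Finite ↥A (PowerSeries k)) (hcl : ∀ f : PowerSeries k, (∀ n : ℕ, ∃ g ∈ A, (n : ℕ∞) ≤ PowerSeries.order (f - g)) → f ∈ A) (hsing : A ≠ ⊤) (hbir : ∀ f : PowerSeries k, ∃ a ∈ A, a ≠ 0 ∧ a * f ∈ A) (Γ : Set ℕ) (hΓ : ∀ n : ℕ, n ∈ Γ ↔ ∃ f ∈ A, PowerSeries.order f = n) : Γᶜ.Finite ∧ Module.finrank k (PowerSeries k ⧸ Subalgebra.toSubmodule A) = Γᶜ.ncard := by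
  classical
  obtain ⟨s, hs⟩ := hA.fg_top
  choose a ha ha0 haf using hbir
  let P := ∏ f ∈ s, a f
  have hP0 : P ≠ 0 := Finset.prod_ne_zero_iff.2 fun f _ => ha0 f
  have hPA : P ∈ A := A.prod_mem fun f _ => ha f
  have hmul : ∀ g : PowerSeries k, P * g ∈ A := by
    intro g
    have hg : g ∈ Submodule.span ↥A (s : Set (PowerSeries k)) := hs ▸ Submodule.mem_top
    induction hg using Submodule.span_induction with
    | mem x hx =>
      rw [show P * x = (∏ f ∈ s.erase x, a f) * (a x * x) by
        rw [← mul_assoc, Finset.prod_erase_mul _ _ hx]]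
      exact A.mul_mem (A.prod_mem fun f _ => ha f) (haf x)
    | zero => simp
    | add x y _ _ hx hy => rw [mul_add]; exact A.add_mem hx hy
    | smul b x _ hx =>
      rw [show P * (b • x) = (b : PowerSeries k) * (P * x) from by
        rw [show b • x = (b : PowerSeries k) * x from rfl]; ring]
      exact A.mul_mem b.2 hx
  set c := (PowerSeries.order P).toNat with hc
  have hΓc : ∀ n, c ≤ n → n ∈ Γ := fun n hn => (hΓ n).2 ⟨_, hmul ((PowerSeries.X : PowerSeries k) ^ (n - c)), by
    rw [PowerSeries.order_mul, PowerSeries.order_X_pow, ← PowerSeries.coe_toNat_order hP0, ← hc]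
    norm_cast
    omega⟩
  exact ⟨(Set.finite_Iio c).subset fun n hn => by
    by_contra h
    exact hn (hΓc n (Nat.not_lt.1 h)),
    TFCurv38.finrank_quotient_eq (Subalgebra.toSubmodule A) (c := c)
      (fun f hf => TFCurv38.mem_of_forall_orders (Subalgebra.toSubmodule A) hcl (fun n hn => (hΓ n).1 (hΓc n hn)) hf)
      Γ hΓ⟩

end Groth.Agent.S15015
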