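import Groth.Statements.S15018
import Groth.Agent.TFCurv38.Semigroup

set_option autoImplicit false
open TFCurv

namespace Groth.Agent.S15018

/-- Let Γ be a numerical semigroup (a submonoid of (ℕ, +) with finite complement), Γ ≠ ℕ, with conductor
c (every n ≥ c lies in Γ, c − 1 does not). Then Γ is symmetric (for x < c, x is a gap exactly when c
− 1 − x ∈ Γ) if and only if there is exactly one gap n of Γ such that Γ ∪ {n} is again stable under
adding elements of Γ, i.e. n + γ ∈ Γ for every nonzero γ ∈ Γ. -/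
theorem result (Γ : AddSubmonoid ℕ) (c : ℕ) (hc : ∀ n : ℕ, c ≤ n → n ∈ Γ) (hc0 : c ≠ 0) (hc1 : c - 1 ∉ Γ) : (∀ x : ℕ, x < c → (x ∉ Γ ↔ c - 1 - x ∈ Γ)) ↔ ∃! n : ℕ, n ∉ Γ ∧ ∀ γ : ℕ, γ ∈ Γ → γ ≠ 0 → n + γ ∈ Γ := by
  have hF : c - 1 ∉ Γ ∧ ∀ γ : ℕ, γ ∈ Γ → γ ≠ 0 → c - 1 + γ ∈ Γ :=
    ⟨hc1, fun γ _ hγ0 => hc _ (by omega)⟩
  constructor
  · intro h
    refine ⟨c - 1, hF, fun n hn => ?_⟩
    have hnc : n < c := by
      by_contra h'
      exact hn.1 (hc n (by omega))
    by_contra hne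
    have h1 := hn.2 _ ((h n hnc).1 hn.1) (by omega)
    rw [show n + (c - 1 - n) = c - 1 by omega] at h1
    exact hc1 h1
  · intro h x hx
    obtain ⟨n₀, -, huniq⟩ := h
    refine ⟨fun hxg => ?_, fun hy hxΓ => hc1 ?_⟩
    · have hfin : {y : ℕ | y ∉ Γ ∧ x ≤ y ∧ y - x ∈ Γ}.Finite :=
        (TFCurv38.finite_compl (S := (↑Γ : Set ℕ)) hc).subset fun y hy => hy.1
      obtain ⟨n, hn, hmax⟩ := hfin.exists_maximalFor id _ ⟨x, hxg, le_rfl, by simp⟩
      have hn' : n = c - 1 := by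
        refine (huniq n ⟨hn.1, fun γ hγ hγ0 => ?_⟩).trans (huniq _ hF).symm
        by_contra hng
        have h2 := hmax (j := n + γ) ⟨hng, hn.2.1.trans (Nat.le_add_right n γ), by
          rw [show n + γ - x = (n - x) + γ by have := hn.2.1; omega]
          exact add_mem hn.2.2 hγ⟩ (by simp)
        simp at h2
        omega
      rw [← hn']
      exact hn.2.2
    · have := add_mem hxΓ hy
      rwa [show x + (c - 1 - x) = c - 1 by omega] at this

end Groth.Agent.S15018
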