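import Groth.Statements.S15019
import Groth.Agent.TFCurv38.Semigroup

set_option autoImplicit false
open TFCurv

namespace Groth.Agent.S15019

/-- Let Γ be a numerical semigroup (a submonoid of (ℕ, +) with finite complement), Γ ≠ ℕ, with conductor
c (every n ≥ c lies in Γ, c − 1 does not), let e be its multiplicity (the least nonzero element of
Γ), and let S ⊆ ℕ be a Γ-module in normal form: 0 ∈ S and γ + s ∈ S for all γ ∈ Γ, s ∈ S. Then the
set of gaps n of S with S ∪ {n} again a Γ-module (n + γ ∈ S for every nonzero γ ∈ Γ) has at most e −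
1 elements, and so does the set of nonzero s ∈ S with S ∖ {s} again a Γ-module (s − γ ∉ S for every
nonzero γ ∈ Γ with γ ≤ s). -/
theorem result (Γ : AddSubmonoid ℕ) (c : ℕ) (hc : ∀ n : ℕ, c ≤ n → n ∈ Γ) (hc0 : c ≠ 0) (hc1 : c - 1 ∉ Γ) (e : ℕ) (he : e ∈ Γ) (he0 : e ≠ 0) (hemin : ∀ γ : ℕ, γ ∈ Γ → γ ≠ 0 → e ≤ γ) (S : Set ℕ) (hS0 : (0 : ℕ) ∈ S) (hS : ∀ γ : ℕ, γ ∈ Γ → ∀ s : ℕ, s ∈ S → γ + s ∈ S) : {n : ℕ | n ∉ S ∧ ∀ γ : ℕ, γ ∈ Γ → γ ≠ 0 → n + γ ∈ S}.encard ≤ ((e - 1 : ℕ) : ℕ∞) ∧ {s : ℕ | s ∈ S ∧ s ≠ 0 ∧ ∀ γ : ℕ, γ ∈ Γ → γ ≠ 0 → γ ≤ s → s - γ ∉ S}.encard ≤ ((e - 1 : ℕ) : ℕ∞) := by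
  have key : ∀ T : Set ℕ, (∀ n ∈ T, n % e ≠ 0) → (∀ n ∈ T, ∀ m ∈ T, n % e = m % e → n ≤ m → n = m) →
      T.encard ≤ ((e - 1 : ℕ) : ℕ∞) := by
    intro T h1 h2
    have hcard : (Set.Ico 1 e).encard = ((e - 1 : ℕ) : ℕ∞) := by
      rw [← Finset.coe_Ico, Set.encard_coe_eq_coe_finsetCard, Nat.card_Ico]
    rw [← hcard]
    refine Set.encard_le_encard_of_injOn (f := fun n => n % e)
      (fun n hn => ⟨Nat.pos_of_ne_zero (h1 n hn), Nat.mod_lt _ (Nat.pos_of_ne_zero he0)⟩)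
      fun n hn m hm hnm => ?_
    rcases le_total n m with h | h
    · exact h2 n hn m hm hnm h
    · exact (h2 m hm n hn hnm.symm h).symm
  have hmul : ∀ q : ℕ, q * e ∈ Γ := fun q => by simpa using nsmul_mem he q
  constructor
  · refine key _ (fun n hn h0 => ?_) fun n hn m hm hnm hle => ?_
    · obtain ⟨hnS, -⟩ := hn
      refine hnS ?_
      have := hS _ (hmul (n / e)) 0 hS0
      rwa [add_zero, Nat.div_mul_cancel (Nat.dvd_of_mod_eq_zero h0)] at this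
    · by_contra hne
      have hd : e ∣ m - n := (Nat.modEq_iff_dvd' hle).1 hnm
      refine hm.1 ?_
      have h1 := hn.2 (m - n) (by have := hmul ((m - n) / e); rwa [Nat.div_mul_cancel hd] at this) (by omega)
      rwa [Nat.add_sub_cancel' hle] at h1
  · refine key _ (fun s hs h0 => ?_) fun s hs t ht hst hle => ?_
    · refine hs.2.2 s ?_ hs.2.1 le_rfl (by simpa using hS0)
      have := hmul (s / e)
      rwa [Nat.div_mul_cancel (Nat.dvd_of_mod_eq_zero h0)] at this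
    · by_contra hne
      have hd : e ∣ t - s := (Nat.modEq_iff_dvd' hle).1 hst
      refine ht.2.2 (t - s) (by have := hmul ((t - s) / e); rwa [Nat.div_mul_cancel hd] at this) (by omega)
        (Nat.sub_le t s) ?_
      rw [Nat.sub_sub_self hle]
      exact hs.1

end Groth.Agent.S15019
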