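import Groth.Statements.S1502
import Groth.Agent.LocImm58.CDCover
import Groth.Agent.Approx60.Absolute
import Groth.Agent.S7184
import Groth.Agent.E4O.DvrCrit

set_option autoImplicit false
set_option backward.isDefEq.respectTransparency.types false
universe u
open FlatMor

namespace Groth.Agent.S1502

open AlgebraicGeometry CategoryTheory Limits in
/-- Let X be quasi-compact and quasi-separated. Then there is a morphism f : Y → X which is proper, of
finite presentation and completely decomposed (every point of X is the image of a point with trivial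
residue field extension) such that Y has an ample family of invertible modules. -/
theorem result (X : Scheme.{u}) [CompactSpace ↑X] [QuasiSeparatedSpace ↑X] :
    ∃ (Y : Scheme.{u}) (f : Y ⟶ X), IsProper f ∧ LocallyOfFinitePresentation f ∧
      (∀ x : X, ∃ y : Y, f y = x ∧ Function.Bijective (f.residueFieldMap y)) ∧ MoreMor.HasAmpleFamily Y := by
  obtain ⟨J, _, _, D, π, hgood, ⟨hc⟩⟩ := Groth.Agent.Approx60.exists_approximation X
  obtain ⟨j⟩ := IsCofiltered.nonempty (C := J)
  have : ∀ {a b : J} (φ : a ⟶ b), IsAffineHom (D.map φ) := fun φ => hgood.aff _ _ φ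
  have := hgood.compact j
  have := hgood.lft j
  have := Groth.Agent.Approx60.isLocallyNoetherian_of_lft_toZ (D.obj j)
  have : IsNoetherian (D.obj j) := {}
  let q : X ⟶ D.obj j := π.app j
  have : IsAffineHom q := isAffineHom_π_app D _ hc j
  obtain ⟨Y₀, f₀, _, hfam, hsec⟩ := Groth.Agent.LocImm58.exists_cd_cover_on_closed (X := D.obj j) ⊤
  have := Groth.Agent.E4O.locallyOfFinitePresentation_of_isLocallyNoetherian f₀
  refine ⟨pullback (q) f₀, pullback.fst (q) f₀, inferInstance, inferInstance, fun x => ?_,
    Groth.Agent.S7184.result (pullback.snd (q) f₀) (Or.inl (MorphismProperty.pullback_snd q f₀ inferInstance)) hfam⟩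
  obtain ⟨s, hs⟩ := hsec (q x) trivial
  refine Groth.Agent.FlatMor67.CDLimit.exists_bijective_of_section _ x (pullback.lift (X.fromSpecResidueField x)
    (Spec.map ((q).residueFieldMap x) ≫ s) ?_) (pullback.lift_fst _ _ _)
  rw [Category.assoc, hs, Scheme.Hom.SpecMap_residueFieldMap_fromSpecResidueField]

end Groth.Agent.S1502
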