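import Groth.Statements.S15023
import Groth.Agent.TFCurv38.Series
import Groth.Agent.TFCurv38.Semigroup
import Mathlib.RingTheory.Localization.Module
import Mathlib.LinearAlgebra.TensorProduct.Basic
import Mathlib.RingTheory.IsTensorProduct

set_option autoImplicit false
universe u
open TFCurv

namespace Groth.Agent.S15023

/-- Let k be an algebraically closed field and A ≠ k[[t]] a k-subalgebra of k[[t]] that is closed in the
t-adic topology, over which k[[t]] is a finite module, and such that every power series is carried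
into A by multiplication with some nonzero element of A (so k[[t]] lies in the fraction field of A
and is its normalisation, as for the complete local ring of a unibranch curve singularity), and let
Γ ⊆ ℕ be the set of t-orders of the nonzero elements of A (its value semigroup); assume moreover
that A is the monomial ring of Γ (a power series lies in A exactly when all its exponents lie in Γ),
and let δ be the number of gaps of Γ. Then every finitely generated torsion-free A-module of rank
one is isomorphic to an A-submodule M' of k[[t]] with t^{2δ} k[[t]] ⊆ M' and dim_k(k[[t]]/M') = δ,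
equivalently dim_k(M'/t^{2δ}k[[t]]) = δ: every isomorphism class of rank-one torsion-free modules is
represented by a δ-dimensional A-stable subspace of k[[t]]/t^{2δ}k[[t]]. -/
theorem result (k : Type u) [Field k] [IsAlgClosed k] (A : Subalgebra k (PowerSeries k)) (hA : Module.Finite ↥A (PowerSeries k)) (hcl : ∀ f : PowerSeries k, (∀ n : ℕ, ∃ g ∈ A, (n : ℕ∞) ≤ PowerSeries.order (f - g)) → f ∈ A) (hsing : A ≠ ⊤) (hbir : ∀ f : PowerSeries k, ∃ a ∈ A, a ≠ 0 ∧ a * f ∈ A) (Γ : Set ℕ) (hΓ : ∀ n : ℕ, n ∈ Γ ↔ ∃ f ∈ A, PowerSeries.order f = n) (hmono : ∀ f : PowerSeries k, f ∈ A ↔ ∀ n : ℕ, PowerSeries.coeff n f ≠ 0 → n ∈ Γ) (M : Type u) [AddCommGroup M] [Module ↥A M] [Module.Finite ↥A M] [NoZeroSMulDivisors ↥A M] (hrk : Module.finrank (FractionRing ↥A) (TensorProduct ↥A (FractionRing ↥A) M) = 1) : ∃ M' : Submodule ↥A (PowerSeries k), (Ideal.span {(PowerSeries.X : PowerSeries k) ^ (2 * Γᶜ.ncard)}).restrictScalars ↥A ≤ M' ∧ Nonempty (M ≃ₗ[↥A] ↥M') ∧ Module.finrank k (PowerSeries k ⧸ M'.restrictScalars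 k) = Γᶜ.ncard := by
  classical
  haveI : Nontrivial M := by
    by_contra h
    haveI : Subsingleton M := not_nontrivial_iff_subsingleton.1 h
    haveI : Subsingleton (TensorProduct ↥A (FractionRing ↥A) M) := by
      refine ⟨fun x y => ?_⟩
      have h0 : ∀ z : TensorProduct ↥A (FractionRing ↥A) M, z = 0 := fun z => by
        induction z with
        | zero => rfl
        | add a b ha hb => rw [ha, hb, add_zero]
        | tmul a m => rw [Subsingleton.elim m 0, TensorProduct.tmul_zero]
      rw [h0 x, h0 y]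
    rw [Module.finrank_zero_of_subsingleton] at hrk
    exact zero_ne_one hrk
  -- an ideal isomorphic to the module
  haveI hloc : IsLocalizedModule (nonZeroDivisors ↥A) ((TensorProduct.mk ↥A (FractionRing ↥A) M) 1) :=
    (isLocalizedModule_iff_isBaseChange (nonZeroDivisors ↥A) (FractionRing ↥A) _).2 (TensorProduct.isBaseChange ↥A M _)
  have hinj : Function.Injective ((TensorProduct.mk ↥A (FractionRing ↥A) M) 1) := by
    refine (injective_iff_map_eq_zero _).2 fun m hm => ?_
    obtain ⟨⟨b, hb⟩, hbm⟩ := (IsLocalizedModule.eq_zero_iff (nonZeroDivisors ↥A) _).1 hm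
    exact (smul_eq_zero.1 hbm).resolve_left (nonZeroDivisors.ne_zero hb)
  obtain ⟨e⟩ := (Module.nonempty_linearEquiv_of_finrank_eq_one (R := FractionRing ↥A) hrk)
  let f : M →ₗ[↥A] FractionRing ↥A :=
    (e.symm.toLinearMap.restrictScalars ↥A) ∘ₗ (TensorProduct.mk ↥A (FractionRing ↥A) M) 1
  have hf : Function.Injective f := e.symm.injective.comp hinj
  obtain ⟨gs, hgs⟩ := (inferInstance : Module.Finite ↥A M).fg_top
  obtain ⟨⟨b, hb⟩, hb'⟩ := IsLocalization.exist_integer_multiples_of_finset (nonZeroDivisors ↥A) (gs.image f)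
  have hint : ∀ m, ∃ a : ↥A, algebraMap ↥A (FractionRing ↥A) a = b • f m := by
    intro m
    have hm : m ∈ Submodule.span ↥A (gs : Set M) := hgs ▸ Submodule.mem_top
    induction hm using Submodule.span_induction with
    | mem x hx => exact hb' (f x) (Finset.mem_image_of_mem f hx)
    | zero => exact ⟨0, by simp⟩
    | add x y _ _ hx hy =>
      obtain ⟨p, hp⟩ := hx
      obtain ⟨q, hq⟩ := hy
      exact ⟨p + q, by rw [map_add, map_add, smul_add, hp, hq]⟩
    | smul r x _ hx =>
      obtain ⟨p, hp⟩ := hx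
      exact ⟨r * p, by rw [map_mul, map_smul, hp, smul_comm, Algebra.smul_def r]⟩
  choose ι hι using hint
  let L : M →ₗ[↥A] PowerSeries k :=
    { toFun := fun m => (ι m : PowerSeries k)
      map_add' := fun x y => by
        have : ι (x + y) = ι x + ι y := IsFractionRing.injective ↥A (FractionRing ↥A) (by
          rw [map_add, hι, hι, hι, map_add, smul_add])
        rw [this]; rfl
      map_smul' := fun r x => by
        have : ι (r • x) = r * ι x := IsFractionRing.injective ↥A (FractionRing ↥A) (by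
          rw [map_mul, hι, hι, map_smul, smul_comm, Algebra.smul_def r])
        rw [this]; rfl }
  have hL : Function.Injective L := fun x y h => hf (smul_right_injective _ (nonZeroDivisors.ne_zero hb)
    (show b • f x = b • f y by rw [← hι, ← hι, show ι x = ι y from Subtype.ext h]))
  obtain ⟨m₀, hm₀⟩ := exists_ne (0 : M)
  have hne : ∃ v : ℕ, ∃ m, PowerSeries.order (L m) = v :=
    ⟨_, m₀, (PowerSeries.coe_toNat_order ((map_ne_zero_iff L hL).2 hm₀)).symm⟩
  obtain ⟨m₁, hm₁⟩ := Nat.find_spec hne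
  set h := L m₁ with hh
  have hdiv : ∀ m, ∃ g, h * g = L m := by
    intro m
    obtain ⟨u, hu⟩ := TFCurv38.exists_eq_X_pow_mul (f := h) hm₁.ge
    have hu0 : IsUnit u := by
      rw [PowerSeries.isUnit_iff_constantCoeff, isUnit_iff_ne_zero]
      have h1 := TFCurv38.coeff_ne_zero_of_order_eq hm₁
      rwa [hu, PowerSeries.coeff_X_pow_mul', if_pos le_rfl, Nat.sub_self,
        PowerSeries.coeff_zero_eq_constantCoeff_apply] at h1
    have hle : (Nat.find hne : ℕ∞) ≤ PowerSeries.order (L m) := by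
      rcases eq_or_ne (L m) 0 with h0 | h0
      · rw [h0, PowerSeries.order_zero]; exact le_top
      · rw [← PowerSeries.coe_toNat_order h0]
        exact_mod_cast Nat.find_min' hne ⟨m, (PowerSeries.coe_toNat_order h0).symm⟩
    obtain ⟨g, hg⟩ := TFCurv38.exists_eq_X_pow_mul hle
    refine ⟨hu0.unit⁻¹.val * g, ?_⟩
    rw [hg, hu, mul_assoc, ← mul_assoc u, IsUnit.mul_val_inv, one_mul]
  choose G hG using hdiv
  have hh0 : h ≠ 0 := fun e => by rw [e, PowerSeries.order_zero] at hm₁; exact ENat.top_ne_coe _ hm₁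
  let Φ : M →ₗ[↥A] PowerSeries k :=
    { toFun := G
      map_add' := fun x y => mul_left_cancel₀ hh0 (by rw [hG, mul_add, hG, hG, map_add])
      map_smul' := fun r x => mul_left_cancel₀ hh0 (by
        show h * G (r • x) = h * ((r : PowerSeries k) * G x)
        rw [hG, map_smul, mul_left_comm, hG]; rfl) }
  have hΦ : Function.Injective Φ := fun x y he => hL (by
    rw [← hG x, ← hG y, show G x = G y from he])
  let M0 : Submodule ↥A (PowerSeries k) := LinearMap.range Φ
  have h1 : (1 : PowerSeries k) ∈ M0 := ⟨m₁, mul_left_cancel₀ hh0 (by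
    show h * G m₁ = h * 1
    rw [hG, mul_one])⟩
  have hAM : ∀ a ∈ A, a ∈ M0 := fun a ha => by simpa [Algebra.smul_def] using M0.smul_mem ⟨a, ha⟩ h1
  -- the conductor of the semigroup
  obtain ⟨gA, hgA⟩ := hA.fg_top
  choose aa haa haa0 haaf using hbir
  let P := ∏ x ∈ gA, aa x
  have hP0 : P ≠ 0 := Finset.prod_ne_zero_iff.2 fun x _ => haa0 x
  have hmul : ∀ g : PowerSeries k, P * g ∈ A := by
    intro g
    have hg : g ∈ Submodule.span ↥A (gA : Set (PowerSeries k)) := hgA ▸ Submodule.mem_top
    induction hg using Submodule.span_induction with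
    | mem x hx =>
      rw [show P * x = (∏ y ∈ gA.erase x, aa y) * (aa x * x) by
        rw [← mul_assoc, Finset.prod_erase_mul _ _ hx]]
      exact A.mul_mem (A.prod_mem fun y _ => haa y) (haaf x)
    | zero => simp
    | add x y _ _ hx hy => rw [mul_add]; exact A.add_mem hx hy
    | smul r x _ hx =>
      rw [show P * (r • x) = (r : PowerSeries k) * (P * x) from by
        rw [show r • x = (r : PowerSeries k) * x from rfl]; ring]
      exact A.mul_mem r.2 hx
  set c := (PowerSeries.order P).toNat with hc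
  have hΓc : ∀ n, c ≤ n → n ∈ Γ := fun n hn => (hΓ n).2 ⟨_, hmul ((PowerSeries.X : PowerSeries k) ^ (n - c)), by
    rw [PowerSeries.order_mul, PowerSeries.order_X_pow, ← PowerSeries.coe_toNat_order hP0, ← hc]
    norm_cast
    omega⟩
  let S : Set ℕ := {n | ∃ g ∈ M0, PowerSeries.order g = n}
  have hΓS : ∀ n ∈ Γ, n ∈ S := fun n hn => by
    obtain ⟨a, ha, hn⟩ := (hΓ n).1 hn
    exact ⟨a, hAM a ha, hn⟩
  have hS : ∀ γ ∈ Γ, ∀ n ∈ S, γ + n ∈ S := by
    rintro γ hγ n ⟨g, hg, hgn⟩
    obtain ⟨a, ha, haγ⟩ := (hΓ γ).1 hγ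
    refine ⟨a * g, M0.smul_mem ⟨a, ha⟩ hg, ?_⟩
    rw [PowerSeries.order_mul, haγ, hgn]
    norm_cast
  have hSex : ∃ cS, ∀ n, cS ≤ n → n ∈ S := ⟨c, fun n hn => hΓS n (hΓc n hn)⟩
  set cS := Nat.find hSex with hcS
  have hcS' : ∀ n, cS ≤ n → n ∈ S := Nat.find_spec hSex
  have hbelow : (S ∩ Set.Iio cS).ncard ≤ Γᶜ.ncard := by
    refine Set.ncard_le_ncard_of_injOn (fun n => cS - 1 - n) (fun n hn hmem => ?_) (fun n hn n' hn' he => ?_)
      (TFCurv38.finite_compl hΓc)
    · have hlt : n < cS := hn.2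
      refine Nat.find_min hSex (m := cS - 1) (by omega) fun i hi => ?_
      rcases eq_or_lt_of_le hi with rfl | hi'
      · have := hS _ hmem n hn.1
        simpa only [Nat.sub_add_cancel (show n ≤ cS - 1 by omega)] using this
      · exact hcS' i (by omega)
    · have h1 : n < cS := hn.2
      have h2 : n' < cS := hn'.2
      simp only at he
      omega
  have hδS : Sᶜ.ncard ≤ Γᶜ.ncard :=
    Set.ncard_le_ncard (Set.compl_subset_compl.2 hΓS) (TFCurv38.finite_compl hΓc)
  have hcSeq : cS ≤ (S ∩ Set.Iio cS).ncard + Sᶜ.ncard := by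
    have h2 := TFCurv38.ncard_compl_inter (S := S) cS
    rw [← TFCurv38.count_inter] at h2
    have h3 := Set.ncard_le_ncard (Set.inter_subset_left : Sᶜ ∩ Set.Iio cS ⊆ Sᶜ) (TFCurv38.finite_compl hcS')
    omega
  have hclM : ∀ g : PowerSeries k, (∀ n : ℕ, ∃ g' ∈ M0.restrictScalars k, (n : ℕ∞) ≤ PowerSeries.order (g - g')) →
      g ∈ M0.restrictScalars k := by
    intro g hg
    obtain ⟨g', hg', hord⟩ := hg c
    rw [← sub_add_cancel g g']
    refine (M0.restrictScalars k).add_mem (hAM _ ?_) hg'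
    exact TFCurv38.mem_of_forall_orders (Subalgebra.toSubmodule A) hcl (fun n hn => (hΓ n).1 (hΓc n hn)) hord
  -- shift
  set s := Γᶜ.ncard - Sᶜ.ncard with hs
  let Ψ : PowerSeries k →ₗ[↥A] PowerSeries k := LinearMap.mulLeft ↥A ((PowerSeries.X : PowerSeries k) ^ s)
  let M' : Submodule ↥A (PowerSeries k) := LinearMap.range (Ψ ∘ₗ Φ)
  have hbig : ∀ g : PowerSeries k, ((2 * Γᶜ.ncard : ℕ) : ℕ∞) ≤ PowerSeries.order g → g ∈ M' := by
    intro g hg
    obtain ⟨g', rfl⟩ := TFCurv38.exists_eq_X_pow_mul (le_trans (by exact_mod_cast (show s ≤ 2 * Γᶜ.ncard by omega)) hg)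
    obtain ⟨m, hm⟩ : g' ∈ M0.restrictScalars k := by
      refine TFCurv38.mem_of_forall_orders _ hclM hcS' (TFCurv38.nat_le_order_iff.2 fun i hi => ?_)
      have h2 := TFCurv38.coeff_eq_zero_of_lt hg (i := s + i) (by omega)
      rwa [PowerSeries.coeff_X_pow_mul', if_pos (Nat.le_add_right s i), Nat.add_sub_cancel_left] at h2
    exact ⟨m, by simp [Ψ, hm]⟩
  refine ⟨M', ?_, ⟨LinearEquiv.ofInjective (Ψ ∘ₗ Φ) ?_⟩, ?_⟩
  · intro g hg
    rw [Submodule.restrictScalars_mem, Ideal.mem_span_singleton'] at hg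
    obtain ⟨q, rfl⟩ := hg
    refine hbig _ ?_
    rw [mul_comm q]
    exact TFCurv38.le_order_of_X_pow_mul q
  · exact (mul_right_injective₀ (pow_ne_zero _ PowerSeries.X_ne_zero)).comp hΦ
  · have hG' : ∀ n, n ∈ {n : ℕ | s ≤ n ∧ n - s ∈ S} ↔ ∃ g ∈ M'.restrictScalars k, PowerSeries.order g = n := by
      intro n
      constructor
      · rintro ⟨hsn, g, ⟨m, rfl⟩, hg⟩
        refine ⟨_, ⟨m, rfl⟩, ?_⟩
        show PowerSeries.order ((PowerSeries.X : PowerSeries k) ^ s * Φ m) = n
        rw [PowerSeries.order_mul, PowerSeries.order_X_pow, hg]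
        norm_cast
        omega
      · rintro ⟨g, ⟨m, rfl⟩, hg⟩
        have hg' : PowerSeries.order ((PowerSeries.X : PowerSeries k) ^ s * Φ m) = n := hg
        rw [PowerSeries.order_mul, PowerSeries.order_X_pow] at hg'
        rcases eq_or_ne (Φ m) 0 with h0 | h0
        · rw [h0, PowerSeries.order_zero, add_top] at hg'
          exact absurd hg' (ENat.top_ne_coe n)
        · obtain ⟨j, hj⟩ : ∃ j : ℕ, PowerSeries.order (Φ m) = j := ⟨_, (PowerSeries.coe_toNat_order h0).symm⟩
          rw [hj] at hg'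
          norm_cast at hg'
          exact ⟨by omega, Φ m, ⟨m, rfl⟩, by rw [hj]; norm_cast; omega⟩
    rw [TFCurv38.finrank_quotient_eq (M'.restrictScalars k) hbig {n : ℕ | s ≤ n ∧ n - s ∈ S} hG']
    have hcompl : {n : ℕ | s ≤ n ∧ n - s ∈ S}ᶜ = Set.Iio s ∪ (· + s) '' Sᶜ := by
      ext n
      simp only [Set.mem_compl_iff, Set.mem_ofPred_eq, Set.mem_union, Set.mem_Iio, Set.mem_image]
      constructor
      · intro hn
        by_cases hns : n < s
        · exact Or.inl hns
        · exact Or.inr ⟨n - s, fun h => hn ⟨by omega, h⟩, by omega⟩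
      · rintro (hn | ⟨j, hj, rfl⟩) ⟨h1, h2⟩
        · omega
        · exact hj (by simpa using h2)
    rw [hcompl, Set.ncard_union_eq ?_ (Set.finite_Iio s) ((TFCurv38.finite_compl hcS').image _),
      Set.ncard_image_of_injective _ (add_left_injective s), ← Finset.coe_range, Set.ncard_coe_finset,
      Finset.card_range]
    · omega
    · rw [Set.disjoint_left]
      rintro n hn ⟨j, -, rfl⟩
      simp only [Set.mem_Iio] at hn
      omega

end Groth.Agent.S15023
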