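import Groth.Statements.S15025
import Groth.Agent.TFCurv38.DimOne
import Groth.Agent.TFCurv38.TorSeq

set_option autoImplicit false
universe u
open CategoryTheory
open TFCurv

namespace Groth.Agent.S15025

/-- Let O be a one-dimensional Noetherian local domain with algebraically closed residue field whose
integral closure O~ in its fraction field K is a finite O-module, M a finitely generated
torsion-free O-module and g : M → O^n an injective O-linear map whose cokernel T' has finite length.
Then the torsion submodule of O~ ⊗_O M is O-linearly isomorphic to Tor_1^O(O~, T') (existence of an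
isomorphism only). -/
theorem result (O : Type u) [CommRing O] [IsDomain O] [IsNoetherianRing O] [IsLocalRing O] (hdim : ringKrullDim O = 1) [IsAlgClosed (IsLocalRing.ResidueField O)] (K : Type u) [Field K] [Algebra O K] [IsFractionRing O K] (hfin : Module.Finite O ↥(integralClosure O K)) (M : Type u) [AddCommGroup M] [Module O M] [Module.Finite O M] [NoZeroSMulDivisors O M] (n : ℕ) (g : M →ₗ[O] (Fin n → O)) (hg : Function.Injective g) (hT : IsFiniteLength O ((Fin n → O) ⧸ LinearMap.range g)) : Nonempty (↥(Submodule.torsion O (TensorProduct O ↥(integralClosure O K) M)) ≃ₗ[O] ↑(((Tor (ModuleCat.{u} O) 1).obj (ModuleCat.of O ↥(integralClosure O K))).obj (ModuleCat.of O ((Fin n → O) ⧸ LinearMap.range g)))) := by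
  classical
  obtain ⟨c, hc, hcT⟩ := TFCurv38.exists_smul_eq_zero_of_finiteLength (TFCurv38.maximalIdeal_ne_bot hdim) hT
  have hS : ∀ (a : O) (s : ↥(integralClosure O K)), a • s = 0 → a = 0 ∨ s = 0 := fun a s h => by
    rcases smul_eq_zero.1 (show a • (s : K) = 0 from congrArg Subtype.val h) with h' | h'
    · exact Or.inl h'
    · exact Or.inr (Subtype.ext h')
  obtain ⟨e⟩ := TFCurv38.tor_one_equiv_of_middle (ModuleCat.of O ↥(integralClosure O K)) g (LinearMap.range g).mkQ hg
    (Submodule.mkQ_surjective _) (Submodule.ker_mkQ _).symm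
  exact ⟨(LinearEquiv.ofEq _ _ (TFCurv38.ker_lTensor_eq_torsion hS g hg hc hcT)).symm.trans e⟩

end Groth.Agent.S15025
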