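import Groth.Statements.S15028
import Groth.Agent.Crv77.TwistSection
import Groth.Agent.Crv77.Basic
import Groth.Agent.Serre71.HHLin
import Groth.Agent.QC70.CohOps
-- import your own Groth.Agent.* helpers here

set_option autoImplicit false
universe u
open CategoryTheory CategoryTheory.Limits AlgebraicGeometry
open TFCurv

namespace Groth.Agent.S15028

/-- Let X be an integral proper curve (integral, proper, of dimension one) over an algebraically closed
field k, and let f : E → F be a monomorphism of coherent torsion-free O_X-modules which is
generically an isomorphism (the stalk of its cokernel at the generic point vanishes), with E of rank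
n at the generic point. Then deg E ≤ deg F, degrees being taken as modules of rank n (Euler
characteristic minus n times that of O_X), and equality holds if and only if f is an isomorphism.
(The published statement covers in the same words bundles with parabolic structure and a weight α <
1; only the case without parabolic structure is stated here.) -/
theorem result (k : Type u) [Field k] [IsAlgClosed k] (X : Scheme.{u}) [X.Over (Spec (CommRingCat.of k))] [IsIntegral X] [IsProper (X ↘ Spec (CommRingCat.of k))] (hdim : topologicalKrullDim X = 1) (E F : X.Modules) (hEc : Coh.IsCoh E) (hFc : Coh.IsCoh F) (hEt : TorSh.IsTorsionFree E) (hFt : TorSh.IsTorsionFree F) (n : ℕ) (hn : Module.finrank (X.presheaf.stalk (genericPoint X)) (E.presheaf.stalk (genericPoint X)) = n) (f : E ⟶ F) [Mono f] (hgen : Subsingleton ((cokernel f).presheaf.stalk (genericPoint X))) : Curv2.deg k X E n ≤ Curv2.deg k X F n ∧ (Curv2.deg k X E n = Curv2.deg k X F n ↔ IsIso f) := by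
  classical
  have : IsNoetherian X := Groth.Agent.Crv77.isNoetherian_of_proper k X
  have hX := Groth.Agent.Crv77.curveCoh_of_proper k X hdim.le
  have hC : Coh.IsCoh (cokernel f) := Groth.Agent.Crv77.isCoh_cokernel f hEc hFc
  have := hC.2
  let S : Set X := CohB1.support (cokernel f)
  have hS : S.Finite := Groth.Agent.Crv77.finite_of_isClosed' hdim.le (Groth.Agent.QC70.isClosed_support _)
    (Groth.Agent.QC70.notMem_support_iff.2 hgen)
  have hcl : ∀ x ∈ S, IsClosed ({x} : Set X) := fun x hx =>
    Groth.Agent.Crv77.isClosed_singleton hdim.le fun e =>
      Groth.Agent.QC70.notMem_support_iff.2 hgen (e ▸ hx)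
  have hsupp : Groth.Agent.Crv77.SuppIn (cokernel f) S := fun x hx => Groth.Agent.QC70.notMem_support_iff.1 hx
  have hse : (ShortComplex.mk f (cokernel.π f) (cokernel.condition f)).ShortExact :=
    { exact := ShortComplex.exact_of_g_is_cokernel _ (cokernelIsCokernel f) }
  have hadd := hX.euler_add hse hEc hFc
  have hCe := hX.euler_eq_of_suppIn hC hsupp hS hcl
  have := hX.finite (cokernel f) hC 0
  simp only [Groth.Agent.Crv77.h] at hadd hCe
  constructor
  · simp only [Curv2.deg, hadd, hCe]
    omega
  constructor
  · intro h
    simp only [Curv2.deg, hadd, hCe] at h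
    have h0 : Module.finrank k (Coh.HH X (cokernel f) 0) = 0 := by omega
    have : Subsingleton (Coh.HH X (cokernel f) 0) := Module.finrank_zero_iff.1 h0
    have hglob : ∀ m : Γ(cokernel f, ⊤), m = 0 := fun m =>
      ((Groth.Agent.Serre71.hzero (cokernel f)).symm.injective (Subsingleton.elim _ _))
    have hz : cokernel.π f = 0 := by
      apply Scheme.Modules.hom_ext
      intro U
      ext s
      obtain ⟨t, ht⟩ := hsupp.surjective_res hS hcl (le_top : U ≤ ⊤) ((cokernel.π f).app U s)
      rw [← ht, hglob t]
      exact Groth.Agent.QC70.res_zero _
    have : Epi f := Preadditive.epi_of_cokernel_zero hz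
    exact isIso_of_mono_of_epi f
  · intro h
    exact congrArg (fun e => e - (n : ℤ) * Curv2.euler k X (Coh.structureModule X))
      (Groth.Agent.Crv77.euler_congr (k := k) (asIso f))

end Groth.Agent.S15028
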