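import Groth.Statements.S15030
import Groth.Agent.TFCurv38.ExtMono

set_option autoImplicit false
universe u
open CategoryTheory
open TFCurv

namespace Groth.Agent.S15030

/-- Let k be an algebraically closed field of characteristic zero, δ ≥ 1, and A ⊂ k[[t]] the complete
local ring of the A_{2δ} singularity, i.e. the k-subalgebra of power series all of whose exponents
lie in the semigroup generated by 2 and 2δ + 1 (so A = k[[t², t^{2δ+1}]]). For 0 ≤ i ≤ δ let M_i ⊂
k[[t]] be the A-submodule generated by 1 and t^{2δ+1−2i} (these represent all rank-one torsion-free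
A-modules). Then for 0 ≤ i, j ≤ δ the A-module Ext¹_A(M_i, M_j) has length 2·min(i, j) (length over
A equals k-dimension here). (The published statement also covers the two-branch case n = 2δ − 1 with
the same value; only the one-branch case is stated.) -/
theorem result (k : Type u) [Field k] [IsAlgClosed k] [CharZero k] (δ : ℕ) (hδ : 1 ≤ δ) (A : Subalgebra k (PowerSeries k)) (hmono : ∀ f : PowerSeries k, f ∈ A ↔ ∀ n : ℕ, PowerSeries.coeff n f ≠ 0 → n ∈ AddSubmonoid.closure ({2, 2 * δ + 1} : Set ℕ)) (i j : ℕ) (hi : i ≤ δ) (hj : j ≤ δ) : Module.length ↥A (Abelian.Ext (ModuleCat.of ↥A ↥(Submodule.span ↥A ({1, (PowerSeries.X : PowerSeries k) ^ (2 * δ + 1 - 2 * i)} : Set (PowerSeries k)))) (ModuleCat.of ↥A ↥(Submodule.span ↥A ({1, (PowerSeries.X : PowerSeries k) ^ (2 * δ + 1 - 2 * j)} : Set (PowerSeries k)))) 1) = ((2 * min i j : ℕ) : ℕ∞) := by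
  classical
  obtain ⟨Γ, hΓdef⟩ : ∃ Γ : Set ℕ, ∀ n, n ∈ Γ ↔ (n % 2 = 0 ∨ 2 * δ + 1 ≤ n) := ⟨{n | n % 2 = 0 ∨ 2 * δ + 1 ≤ n}, fun n => Iff.rfl⟩
  have hΓ : ∀ n, n ∈ AddSubmonoid.closure ({2, 2 * δ + 1} : Set ℕ) ↔ n ∈ Γ := by
    intro n
    rw [AddSubmonoid.mem_closure_pair, hΓdef]
    constructor
    · rintro ⟨x, y, rfl⟩
      rcases Nat.eq_zero_or_pos y with rfl | hy
      · exact Or.inl (by simp)
      · refine Or.inr ?_
        have := Nat.le_mul_of_pos_left (2 * δ + 1) hy
        simp only [smul_eq_mul]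
        omega
    · rintro (h | h)
      · exact ⟨n / 2, 0, by simp only [smul_eq_mul]; omega⟩
      · rcases Nat.mod_two_eq_zero_or_one n with h' | h'
        · exact ⟨n / 2, 0, by simp only [smul_eq_mul]; omega⟩
        · exact ⟨(n - (2 * δ + 1)) / 2, 1, by simp only [smul_eq_mul]; omega⟩
  have hmono' : ∀ f : PowerSeries k, f ∈ A ↔ TFCurv38.Supp Γ f := fun f =>
    (hmono f).trans ⟨fun h n hn => (hΓ n).1 (h n hn), fun h n hn => (hΓ n).2 (h n hn)⟩
  let T := 2 * δ + 1 - 2 * j
  let m := min i j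
  let D : Finset ℕ := (Finset.range m).image (fun x => 2 * (i - m) + 2 * x) ∪
    (Finset.range m).image (fun x => T + 2 * x)
  have hm : (m = i ∧ i ≤ j) ∨ (m = j ∧ j ≤ i) := by
    rcases le_total i j with h | h
    · exact Or.inl ⟨min_eq_left h, h⟩
    · exact Or.inr ⟨min_eq_right h, h⟩
  have hcard : D.card = 2 * min i j := by
    rw [Finset.card_union_of_disjoint, Finset.card_image_of_injective _ (fun x y (h : _ = _) => by omega),
      Finset.card_image_of_injective _ (fun x y (h : _ = _) => by omega), Finset.card_range]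
    · omega
    · rw [Finset.disjoint_left]
      intro x h1 h2
      simp only [Finset.mem_image, Finset.mem_range, T] at h1 h2
      omega
  rw [TFCurv38.length_ext_pair hmono' (2 * δ + 1 - 2 * i) (2 * i) (2 * δ + 1) ((hΓdef _).2 (Or.inl (by omega)))
    ((hΓdef _).2 (Or.inr le_rfl)) (by omega) {0, T} {n | n % 2 = 0 ∨ T ≤ n} (fun n => ?_) D (fun n => ?_) _ _ rfl ?_, hcard]
  · simp [Set.image_pair, T]
  · simp only [hΓdef, T, Set.mem_ofPred_eq, Finset.mem_insert, Finset.mem_singleton, exists_eq_or_imp, exists_eq_left]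
    omega
  · simp only [D, hΓdef, Set.mem_ofPred_eq, Finset.mem_union, Finset.mem_image, Finset.mem_range]
    constructor
    · intro h
      refine ⟨fun z hz hz' => ?_, ?_⟩
      · rcases h with ⟨x, hx, rfl⟩ | ⟨x, hx, rfl⟩ <;> simp only [T] <;> omega
      · rcases h with ⟨x, hx, rfl⟩ | ⟨x, hx, rfl⟩ <;> simp only [T] <;> omega
    · rintro ⟨h, h'⟩
      have h1 := h (2 * i) (Or.inl (by omega)) (Or.inr (by omega))
      have h2 := h (2 * δ + 1) (Or.inr le_rfl) (Or.inr (by omega))
      rcases Nat.mod_two_eq_zero_or_one n with hn | hn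
      · exact Or.inl ⟨(n - 2 * (i - m)) / 2, by omega, by omega⟩
      · exact Or.inr ⟨(n - T) / 2, by omega, by omega⟩

end Groth.Agent.S15030
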