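import Groth.Statements.S15031
import Groth.Agent.TFCurv38.Cubical

set_option autoImplicit false
universe u
open CategoryTheory
open TFCurv

namespace Groth.Agent.S15031

/-- Let k be an algebraically closed field, n ≥ 2, and A = R_n ⊂ k[[t]] the monomial ring of the cubical
semigroup ⟨n, n+1, …, 2n−1⟩, i.e. the k-subalgebra of power series with no terms of degree 1, …,
n−1. For 0 ≤ i ≤ n − 2 let M_i ⊂ k[[t]] be the A-submodule generated by 1, t, …, t^i (the monomial
module whose value set is Γ_n together with 1, …, i). Then the A-module Ext¹_A(M_i, M_i) has length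
i·(n − 2 − i); as the A-endomorphisms of M_i are the scalars, this number is the invariant χ₁(M_i) =
dim Ext¹(M_i, M_i) − dim(End(M_i)/A). (The published statement asserts the value for every module
with this value set; only the monomial module is stated here.) -/
theorem result (k : Type u) [Field k] [IsAlgClosed k] (n : ℕ) (hn : 2 ≤ n) (A : Subalgebra k (PowerSeries k)) (hmono : ∀ f : PowerSeries k, f ∈ A ↔ ∀ m : ℕ, PowerSeries.coeff m f ≠ 0 → (m = 0 ∨ n ≤ m)) (i : ℕ) (hi : i + 2 ≤ n) : Module.length ↥A (Abelian.Ext (ModuleCat.of ↥A ↥(Submodule.span ↥A ((fun a : ℕ => (PowerSeries.X : PowerSeries k) ^ a) '' Set.Iic i))) (ModuleCat.of ↥A ↥(Submodule.span ↥A ((fun a : ℕ => (PowerSeries.X : PowerSeries k) ^ a) '' Set.Iic i))) 1) = ((i * (n - 2 - i) : ℕ) : ℕ∞) := by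
  classical
  have : IsLocalRing A := TFCurv38.isLocalRing_exps hmono
  let e : Fin i → ℕ := fun b => b + 1
  have he : Function.Injective e := fun a b h => Fin.ext (by simp only [e] at h; omega)
  have h1 : ∀ b, 1 ≤ e b := fun b => by simp only [e]; omega
  have h2 : ∀ b, e b < n := fun b => by simp only [e]; omega
  let E : Set ℕ := {a | a ≤ i ∨ n ≤ a}
  have hG : (Set.Iic i : Set ℕ) = ((insert 0 (Finset.univ.image e) : Finset ℕ) : Set ℕ) := by
    ext a
    simp only [Set.mem_Iic, Finset.coe_insert, Finset.coe_image, Finset.coe_univ, Set.image_univ,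
      Set.mem_insert_iff, Set.mem_range, e]
    constructor
    · intro ha
      rcases Nat.eq_zero_or_pos a with rfl | hpos
      · exact Or.inl rfl
      · exact Or.inr ⟨⟨a - 1, by omega⟩, by simp only; omega⟩
    · rintro (rfl | ⟨b, rfl⟩) <;> omega
  rw [hG]
  generalize hN' : Submodule.span A ((fun a : ℕ => (PowerSeries.X : PowerSeries k) ^ a) ''
    ((insert 0 (Finset.univ.image e) : Finset ℕ) : Set ℕ)) = N
  have hN : ∀ f, f ∈ N ↔ TFCurv38.Supp E f := fun f => by
    rw [← hN', TFCurv38.mem_span_monomials hmono]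
    have hE : E = {a | ∃ g ∈ insert 0 (Finset.univ.image e), g ≤ a ∧ a - g ∈ {m : ℕ | m = 0 ∨ n ≤ m}} := by
      ext a
      simp only [Finset.mem_insert, Finset.mem_image, Finset.mem_univ, true_and, exists_eq_or_imp, e, E,
        Set.mem_ofPred_eq]
      constructor
      · intro ha
        by_cases hc : a = 0 ∨ n ≤ a
        · exact Or.inl ⟨by omega, by omega⟩
        · exact Or.inr ⟨a, ⟨⟨a - 1, by omega⟩, by simp only; omega⟩, le_rfl, Or.inl (by omega)⟩
      · rintro (h | ⟨g, ⟨b, rfl⟩, h⟩)
        · omega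
        · have := b.isLt
          omega
    rw [hE]
    exact Iff.rfl
  let g : Fin i → PowerSeries k := fun b => PowerSeries.X ^ e b
  let d : A := ⟨PowerSeries.X ^ n, (hmono _).2 (TFCurv38.supp_X_pow_iff.2 (Or.inr le_rfl))⟩
  let c : Fin i → A := fun b =>
    ⟨PowerSeries.X ^ (n + e b), (hmono _).2 (TFCurv38.supp_X_pow_iff.2 (Or.inr (Nat.le_add_right _ _)))⟩
  rw [TFCurv38.length_ext_of_relations (1 : PowerSeries k) g d
    (fun x hx => (mul_eq_zero.1 hx).resolve_left (pow_ne_zero _ PowerSeries.X_ne_zero))
    (fun r hr => Subtype.ext (by simpa [TFCurv38.smul_eq_mul'] using hr)) c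
    (fun b => by simp [c, d, g, TFCurv38.smul_eq_mul', pow_add]) N N
    (by rw [← hN', TFCurv38.insert_one_range_eq])]
  have hW : ∀ u, u ∈ TFCurv38.relForms (1 : PowerSeries k) g d N ↔ ∀ b, TFCurv38.Supp (Set.Ici n) (u b) := by
    intro u
    constructor
    · intro hu b p hp
      have h := TFCurv38.supp_of_single hmono e E u (fun z hz => by
        obtain ⟨y, hy, hy'⟩ := hu z hz
        rw [← hy']
        exact TFCurv38.supp_shift_iff.2 ⟨y, (hN y).1 hy, rfl⟩) b p hp
      have ha := h 0
      have hb := h (i + 1 - p)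
      simp only [E, Set.mem_ofPred_eq] at ha hb
      rw [Set.mem_Ici]
      omega
    · intro hu z hz
      obtain ⟨y, hy, hy'⟩ := TFCurv38.supp_shift_iff.1 (TFCurv38.supp_sum Finset.univ (f := fun b => z b • u b)
        fun b _ => TFCurv38.supp_mul (E := Set.Ici n) (E' := Set.Ici n) (E'' := {a | n ≤ a ∧ a - n ∈ E})
          (fun x (hx : n ≤ x) y (hy : n ≤ y) => ⟨by omega, Or.inr (by omega)⟩)
          (TFCurv38.relation_supp hmono e he h1 h2 z hz b) (hu b))
      exact ⟨y, (hN y).2 hy, hy'.symm⟩
  let π : (Fin i → PowerSeries k) →ₗ[k] (Fin i × Fin (n - 2 - i) → k) := LinearMap.pi fun x =>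
    PowerSeries.coeff (n + (i + 2 + x.2.1)) ∘ₗ LinearMap.proj x.1 -
      if h : i + 2 + x.2.1 - (x.1.1 + 1) ≤ i then
        PowerSeries.coeff (n + (i + 1)) ∘ₗ LinearMap.proj ⟨i - (i + 2 + x.2.1 - (x.1.1 + 1)), by omega⟩
      else 0
  have hπ : ∀ (u : Fin i → PowerSeries k) (x : Fin i × Fin (n - 2 - i)), π u x =
      PowerSeries.coeff (n + (i + 2 + x.2.1)) (u x.1) -
        (if h : i + 2 + x.2.1 - (x.1.1 + 1) ≤ i then
          PowerSeries.coeff (n + (i + 1)) (u ⟨i - (i + 2 + x.2.1 - (x.1.1 + 1)), by omega⟩) else 0) := by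
    intro u x
    simp only [π, LinearMap.pi_apply, LinearMap.sub_apply]
    split_ifs <;> rfl
  rw [TFCurv38.length_quotient_of_proj (TFCurv38.residue_surjective_exps hmono) _ _ π ?_ ?_,
    Fintype.card_prod, Fintype.card_fin, Fintype.card_fin]
  · intro v
    refine ⟨fun b => PowerSeries.mk fun m => if h : n + (i + 2) ≤ m ∧ m - (n + (i + 2)) < n - 2 - i then
      v (b, ⟨m - (n + (i + 2)), h.2⟩) else 0, (hW _).2 fun b m hm => ?_, funext fun x => ?_⟩
    · rw [PowerSeries.coeff_mk] at hm
      split_ifs at hm with h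
      · rw [Set.mem_Ici]
        omega
      · exact absurd rfl hm
    · have hx := x.2.isLt
      rw [hπ]
      simp only [PowerSeries.coeff_mk]
      rw [dif_pos ⟨by omega, by omega⟩]
      have hzero : ¬(n + (i + 2) ≤ n + (i + 1) ∧ n + (i + 1) - (n + (i + 2)) < n - 2 - i) := by omega
      simp only [dif_neg hzero, dite_eq_ite, ite_self, sub_zero]
      congr 1
      exact Prod.ext rfl (Fin.ext (by simp only; omega))
  · intro u hu
    constructor
    · rintro ⟨n0, hn0, m, hm, hu'⟩
      have hcu : ∀ b p, i < p → p < n → PowerSeries.coeff (n + p) (u b) =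
          -(if e b ≤ p then PowerSeries.coeff (p - e b) n0 else 0) := by
        intro b p hp hp'
        rw [hu' b]
        simp only [TFCurv38.smul_eq_mul', c, d, pow_add, mul_assoc, map_sub, add_comm n p,
          PowerSeries.coeff_X_pow_mul]
        rw [((hN _).1 (hm b)).coeff_eq_zero (by simp only [E, Set.mem_ofPred_eq]; omega),
          PowerSeries.coeff_X_pow_mul', zero_sub]
      refine funext fun x => ?_
      have hx := x.2.isLt
      have hb := x.1.isLt
      rw [hπ, hcu _ _ (by omega) (by omega), Pi.zero_apply]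
      split_ifs with h3 h4
      · rw [hcu _ _ (by omega) (by omega), if_pos (by simp only [e]; omega)]
        simp only [e]
        rw [show i + 1 - (i - (i + 2 + x.2.1 - (x.1.1 + 1)) + 1) = i + 2 + x.2.1 - (x.1.1 + 1) by omega]
        simp
      · simp only [e] at h3 h4
        rw [((hN _).1 hn0).coeff_eq_zero (by simp only [E, e, Set.mem_ofPred_eq]; omega)]
        simp
      all_goals simp only [e] at * <;> omega
    · intro h
      choose v hv hv' using fun b => TFCurv38.supp_shift_iff.1 (TFCurv38.supp_mono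
        (E := Set.Ici n) (E' := {a | n ≤ a ∧ a - n ∈ Set.univ}) (fun a ha => ⟨ha, trivial⟩) ((hW u).1 hu b))
      let n0 : PowerSeries k := PowerSeries.mk fun j => if hj : 1 ≤ j ∧ j ≤ i then
        -PowerSeries.coeff (n + (i + 1)) (u ⟨i - j, by omega⟩) else 0
      have hn0 : TFCurv38.Supp E n0 := fun j hj => by
        simp only [n0, PowerSeries.coeff_mk] at hj
        split_ifs at hj with hj'
        · exact Or.inl hj'.2
        · exact absurd rfl hj
      refine ⟨n0, (hN _).2 hn0, fun b => v b + PowerSeries.X ^ e b * n0, fun b => (hN _).2 ?_, fun b => ?_⟩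
      · intro p hp
        by_contra hpE
        simp only [E, Set.mem_ofPred_eq, not_or, not_le] at hpE
        refine hp ?_
        have hb := b.isLt
        rw [map_add, PowerSeries.coeff_X_pow_mul', if_pos (by simp only [e]; omega),
          show PowerSeries.coeff p (v b) = PowerSeries.coeff (n + p) (u b) by
            rw [hv', add_comm n p, PowerSeries.coeff_X_pow_mul]]
        simp only [n0, PowerSeries.coeff_mk, e]
        rcases Nat.lt_or_ge p (i + 2) with hp1 | hp1
        · obtain rfl : p = i + 1 := by omega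
          rw [dif_pos ⟨by omega, by omega⟩]
          rw [show (⟨i - (i + 1 - (b.1 + 1)), by omega⟩ : Fin i) = b from Fin.ext (by simp only; omega)]
          exact add_neg_cancel _
        · have hq := congrFun h (b, ⟨p - (i + 2), by omega⟩)
          rw [hπ, Pi.zero_apply] at hq
          simp only [show i + 2 + (p - (i + 2)) = p by omega] at hq
          by_cases hle : p - (b.1 + 1) ≤ i
          · rw [dif_pos hle] at hq
            rw [dif_pos ⟨by omega, hle⟩, ← sub_eq_add_neg]
            exact hq
          · rw [dif_neg hle, sub_zero] at hq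
            rw [dif_neg (fun hh => hle hh.2), add_zero, hq]
      · simp only [TFCurv38.smul_eq_mul', d, c, pow_add, hv']
        ring

end Groth.Agent.S15031
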