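import Groth.Statements.S15032
import Groth.Agent.TFCurv38.Cubical

set_option autoImplicit false
universe u
open CategoryTheory
open TFCurv

namespace Groth.Agent.S15032

/-- Let k be an algebraically closed field, n ≥ 2, and A = R_n ⊂ k[[t]] the monomial ring of the cubical
semigroup ⟨n, n+1, …, 2n−1⟩, i.e. the k-subalgebra of power series with no terms of degree 1, …,
n−1. For the normalisation R~ = k[[t]] viewed as an A-module, χ₁(R~) = (n − 1)², where χ₁(M) = dim_k
Ext¹_A(M, M) − dim_k(End_A(M)/A): the length of the A-module Ext¹_A(k[[t]], k[[t]]) equals (n − 1)²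
plus the length of the A-linear endomorphisms of k[[t]] modulo multiplications by elements of A. -/
theorem result (k : Type u) [Field k] [IsAlgClosed k] (n : ℕ) (hn : 2 ≤ n) (A : Subalgebra k (PowerSeries k)) (hmono : ∀ f : PowerSeries k, f ∈ A ↔ ∀ m : ℕ, PowerSeries.coeff m f ≠ 0 → (m = 0 ∨ n ≤ m)) : Module.length ↥A (Abelian.Ext (ModuleCat.of ↥A (PowerSeries k)) (ModuleCat.of ↥A (PowerSeries k)) 1) = (((n - 1) ^ 2 : ℕ) : ℕ∞) + Module.length ↥A ((PowerSeries k →ₗ[↥A] PowerSeries k) ⧸ LinearMap.range (Algebra.lsmul ↥A ↥A (PowerSeries k) : ↥A →ₐ[↥A] Module.End ↥A (PowerSeries k)).toLinearMap) := by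
  classical
  have : IsLocalRing A := TFCurv38.isLocalRing_exps hmono
  let e : Fin (n - 1) → ℕ := fun b => b + 1
  have hE : ∀ a : ℕ, ∃ g ∈ insert 0 (Finset.univ.image e), g ≤ a ∧ a - g ∈ {m : ℕ | m = 0 ∨ n ≤ m} := by
    intro a
    by_cases hc : a = 0 ∨ n ≤ a
    · exact ⟨0, Finset.mem_insert_self _ _, a.zero_le, hc⟩
    · exact ⟨a, Finset.mem_insert_of_mem (Finset.mem_image.2 ⟨⟨a - 1, by omega⟩, Finset.mem_univ _, by
        simp only [e]; omega⟩), le_rfl, Or.inl (Nat.sub_self a)⟩
  have hT : (⊤ : Submodule A (PowerSeries k)) =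
      Submodule.span A (insert 1 (Set.range fun b => (PowerSeries.X : PowerSeries k) ^ e b)) := by
    refine Eq.symm (Submodule.eq_top_iff'.2 fun f => ?_)
    rw [TFCurv38.insert_one_range_eq, TFCurv38.mem_span_monomials hmono]
    exact fun a _ => hE a
  rw [TFCurv38.length_ext_top,
    TFCurv38.length_ext_cubical hmono e (fun a b h => Fin.ext (by simp only [e] at h; omega))
      (fun b => by simp only [e]; omega) (fun b => by simp only [e]; omega) Set.univ
      (fun b x _ => trivial) Set.univ (fun p => ⟨fun _ _ => trivial, fun _ => trivial⟩) _ _ hT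
      (fun f => ⟨fun _ a _ => trivial, fun _ => Submodule.mem_top⟩) (Finset.range n)
      (fun m => by simp only [Finset.mem_range, Set.mem_univ, and_true, true_and, not_le]),
    TFCurv38.length_end_quotient hmono (by omega), Finset.card_range]
  norm_cast
  obtain ⟨r, rfl⟩ := Nat.exists_eq_add_of_le hn
  rw [show 2 + r - 1 = r + 1 by omega]
  ring

end Groth.Agent.S15032
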