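import Groth.Statements.S15033
import Groth.Agent.TFCurv38.Cubical

set_option autoImplicit false
universe u
open CategoryTheory
open TFCurv

namespace Groth.Agent.S15033

/-- Let k be an algebraically closed field, n ≥ 2, and A = R_n ⊂ k[[t]] the monomial ring of the cubical
semigroup ⟨n, n+1, …, 2n−1⟩, i.e. the k-subalgebra of power series with no terms of degree 1, …,
n−1. For 0 ≤ i < n − 1 let R_{n−i} ⊂ k[[t]] be the A-submodule generated by 1, t^{n−i}, t^{n−i+1},
…, t^{n−1}, i.e. the overring of A consisting of the power series with no terms of degree 1, …, n −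
i − 1. Then the A-module Ext¹_A(R_{n−i}, R_{n−i}) has length i·(n − 1). Since the A-endomorphisms of
R_{n−i} are the multiplications by elements of R_{n−i}, of colength i over A, this is the published
value χ₁(R_{n−i}) = i·(n − 2) of χ₁(M) = dim Ext¹(M, M) − dim(End(M)/A). -/
theorem result (k : Type u) [Field k] [IsAlgClosed k] (n : ℕ) (hn : 2 ≤ n) (A : Subalgebra k (PowerSeries k)) (hmono : ∀ f : PowerSeries k, f ∈ A ↔ ∀ m : ℕ, PowerSeries.coeff m f ≠ 0 → (m = 0 ∨ n ≤ m)) (i : ℕ) (hi : i + 2 ≤ n) : Module.length ↥A (Abelian.Ext (ModuleCat.of ↥A ↥(Submodule.span ↥A ((fun a : ℕ => (PowerSeries.X : PowerSeries k) ^ a) '' ({0} ∪ Set.Icc (n - i) (n - 1))))) (ModuleCat.of ↥A ↥(Submodule.span ↥A ((fun a : ℕ => (PowerSeries.X : PowerSeries k) ^ a) '' ({0} ∪ Set.Icc (n - i) (n - 1))))) 1) = ((i * (n - 1) : ℕ) : ℕ∞) := by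
  classical
  let e : Fin i → ℕ := fun b => n - i + b
  have hG : ({0} ∪ Set.Icc (n - i) (n - 1) : Set ℕ) =
      ((insert 0 (Finset.univ.image e) : Finset ℕ) : Set ℕ) := by
    ext a
    simp only [Set.mem_union, Set.mem_singleton_iff, Set.mem_Icc, Finset.coe_insert, Finset.coe_image,
      Finset.coe_univ, Set.image_univ, Set.mem_insert_iff, Set.mem_range, e]
    refine or_congr Iff.rfl ⟨fun h => ⟨⟨a - (n - i), by omega⟩, by simp only; omega⟩, fun ⟨b, hb⟩ => ?_⟩
    have := b.isLt
    omega
  have hcard : (((Finset.Ico (n - i) (2 * n - i)).erase n).card) = n - 1 := by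
    rw [Finset.card_erase_of_mem (Finset.mem_Ico.2 (by omega)), Nat.card_Ico]
    omega
  rw [hG, TFCurv38.length_ext_cubical hmono e (fun a b h => Fin.ext (by simp only [e] at h; omega))
    (fun b => by simp only [e]; omega) (fun b => by simp only [e]; omega) {a | a = 0 ∨ n - i ≤ a}
    (fun b x _ => Or.inr (by simp only [e]; omega)) (Set.Ici (n - i)) (fun p => ?_) _ _
    (by rw [TFCurv38.insert_one_range_eq]) (fun f => ?_) ((Finset.Ico (n - i) (2 * n - i)).erase n)
    (fun m => ?_), hcard]
  · constructor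
    · intro hp r
      exact Or.inr (le_add_left hp)
    · intro h
      have h0 := h 0
      have h1 := h 1
      simp only [Set.mem_ofPred_eq] at h0 h1
      rw [Set.mem_Ici]
      omega
  · rw [TFCurv38.mem_span_monomials hmono]
    have hE : {a : ℕ | a = 0 ∨ n - i ≤ a} =
        {a | ∃ g ∈ insert 0 (Finset.univ.image e), g ≤ a ∧ a - g ∈ {m : ℕ | m = 0 ∨ n ≤ m}} := by
      ext a
      simp only [Finset.mem_insert, Finset.mem_image, Finset.mem_univ, true_and, exists_eq_or_imp, e,
        Set.mem_ofPred_eq]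
      constructor
      · intro ha
        by_cases hc : a = 0 ∨ n ≤ a
        · exact Or.inl ⟨by omega, by omega⟩
        · exact Or.inr ⟨a, ⟨⟨a - (n - i), by omega⟩, by simp only; omega⟩, le_rfl, Or.inl (by omega)⟩
      · rintro (h | ⟨g, ⟨b, rfl⟩, h⟩) <;> omega
    rw [hE]
    exact Iff.rfl
  · simp only [Finset.mem_erase, Finset.mem_Ico, Set.mem_Ici, Set.mem_ofPred_eq]
    omega

end Groth.Agent.S15033
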