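import Groth.Statements.S15036
import Groth.Agent.TFCurv38.Semigroup

set_option autoImplicit false
open TFCurv

namespace Groth.Agent.S15036

/-- Let Γ be a numerical semigroup (a submonoid of (ℕ, +) with finite complement), Γ ≠ ℕ, with conductor
c (every n ≥ c lies in Γ, c − 1 does not); let S ⊆ ℕ be a Γ-module in normal form (0 ∈ S, γ + s ∈ S
for γ ∈ Γ, s ∈ S) with conductor c(S) (all n ≥ c(S) in S, c(S) − 1 ∉ S), and let s be a gap of S
such that S ∪ {s} is again a Γ-module. Enumerate S increasingly as s_0 < s_1 < ⋯ and put τ_i(S) =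
s_i + ℓ(S), where ℓ counts the gaps of Γ filled; since ℓ(S ∪ {s}) = ℓ(S) + 1, the termwise
comparison τ(S) ≤ τ(S ∪ {s}) says that the i-th element of S is at most one more than the i-th
element of S ∪ {s} for every i. This holds if and only if s = c(S) − 1, the largest gap of S. -/
theorem result (Γ : AddSubmonoid ℕ) (c : ℕ) (hc : ∀ n : ℕ, c ≤ n → n ∈ Γ) (hc0 : c ≠ 0) (hc1 : c - 1 ∉ Γ) (S : Set ℕ) (hS0 : (0 : ℕ) ∈ S) (hS : ∀ γ : ℕ, γ ∈ Γ → ∀ s : ℕ, s ∈ S → γ + s ∈ S) (cS : ℕ) (hcS : ∀ n : ℕ, cS ≤ n → n ∈ S) (hcS0 : cS ≠ 0) (hcS1 : cS - 1 ∉ S) (s : ℕ) (hs : s ∉ S) (hs' : ∀ γ : ℕ, γ ∈ Γ → γ ≠ 0 → s + γ ∈ S) : (∀ i : ℕ, Nat.nth (fun m => m ∈ S) i ≤ Nat.nth (fun m => m ∈ insert s S) i + 1) ↔ s + 1 = cS := by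
  classical
  have hscS : s < cS := by
    by_contra h
    exact hs (hcS s (by omega))
  have hinfS : (setOf fun m => m ∈ S).Infinite := TFCurv38.infinite_of_bound hcS
  have hinf' : (setOf fun m => m ∈ insert s S).Infinite :=
    TFCurv38.infinite_of_bound (S := insert s S) fun n hn => Or.inr (hcS n hn)
  have hcount : ∀ x, Nat.count (fun m => m ∈ insert s S) x =
      Nat.count (fun m => m ∈ S) x + if s < x then 1 else 0 := by
    intro x
    induction x with
    | zero => simp
    | succ x ih =>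
      rw [Nat.count_succ, Nat.count_succ, ih]
      rcases Nat.lt_trichotomy x s with h | h | h
      · simp only [Set.mem_insert_iff, h.ne, false_or, if_neg (show ¬ s < x by omega),
          if_neg (show ¬ s < x + 1 by omega)]
        omega
      · subst h
        simp [hs]
      · simp only [Set.mem_insert_iff, h.ne', false_or, if_pos h, if_pos (show s < x + 1 by omega)]
        omega
  constructor
  · intro h
    by_contra hne
    have hlt : s < cS - 1 := by omega
    have h1 := h (Nat.count (fun m => m ∈ S) (cS - 1))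
    have h2 : Nat.nth (fun m => m ∈ insert s S) (Nat.count (fun m => m ∈ S) (cS - 1)) < cS - 1 :=
      Nat.nth_lt_of_lt_count (by rw [hcount, if_pos hlt]; omega)
    have h3 : cS - 1 ≤ Nat.nth (fun m => m ∈ S) (Nat.count (fun m => m ∈ S) (cS - 1)) :=
      Nat.le_nth_count hinfS _
    have h4 : Nat.nth (fun m => m ∈ S) (Nat.count (fun m => m ∈ S) (cS - 1)) ≠ cS - 1 := fun e =>
      hcS1 (e ▸ Nat.nth_mem_of_infinite hinfS _)
    omega
  · intro hsc i
    set x := Nat.nth (fun m => m ∈ insert s S) i with hx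
    have hxi : Nat.count (fun m => m ∈ insert s S) (x + 1) = i + 1 := by
      rw [Nat.count_succ, Nat.count_nth_of_infinite hinf', if_pos (Nat.nth_mem_of_infinite hinf' i)]
    rw [hcount] at hxi
    have hkey : i < Nat.count (fun m => m ∈ S) (x + 2) := by
      rw [Nat.count_succ]
      by_cases hxs : s < x + 1
      · rw [if_pos hxs] at hxi
        rw [if_pos (hcS _ (by omega))]
        omega
      · rw [if_neg hxs] at hxi
        omega
    have := Nat.nth_lt_of_lt_count hkey
    omega

end Groth.Agent.S15036
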