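import Groth.Statements.S15038
import Groth.Agent.TFCurv38.Semigroup

set_option autoImplicit false
open TFCurv

namespace Groth.Agent.S15038

/-- Let Γ be a numerical semigroup (a submonoid of (ℕ, +) with finite complement), Γ ≠ ℕ, with conductor
c (every n ≥ c lies in Γ, c − 1 does not). If Γ is symmetric (for x < c, x is a gap exactly when c −
1 − x ∈ Γ) and its multiplicity e, the least nonzero element of Γ, is greater than 2, then Γ is
generated as an additive monoid by at most e − 1 elements. -/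
theorem result (Γ : AddSubmonoid ℕ) (c : ℕ) (hc : ∀ n : ℕ, c ≤ n → n ∈ Γ) (hc0 : c ≠ 0) (hc1 : c - 1 ∉ Γ) (hsymm : ∀ x : ℕ, x < c → (x ∉ Γ ↔ c - 1 - x ∈ Γ)) (e : ℕ) (he : e ∈ Γ) (he0 : e ≠ 0) (hemin : ∀ γ : ℕ, γ ∈ Γ → γ ≠ 0 → e ≤ γ) (he2 : 2 < e) : ∃ G : Finset ℕ, G.card ≤ e - 1 ∧ AddSubmonoid.closure (↑G : Set ℕ) = Γ := by
  classical
  have hec : e ≤ c := hemin c (hc c le_rfl) hc0
  have hr0 : (c - 1) % e ≠ 0 := fun h0 => hc1 (by
    have := nsmul_mem he ((c - 1) / e)
    rwa [smul_eq_mul, Nat.div_mul_cancel (Nat.dvd_of_mod_eq_zero h0)] at this)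
  have hex : ∀ r : ℕ, ∃ g, g ∈ Γ ∧ g % e = r % e := fun r =>
    ⟨r + c * e, hc _ (by have := Nat.le_mul_of_pos_right c (Nat.pos_of_ne_zero he0); omega), by simp⟩
  let w : ℕ → ℕ := fun r => Nat.find (hex r)
  let G : Finset ℕ := insert e (((Finset.Icc 1 (e - 1)).erase ((c - 1) % e)).image w)
  refine ⟨G, (Finset.card_insert_le _ _).trans ?_, le_antisymm ((AddSubmonoid.closure_le).2 ?_) ?_⟩
  · have h1 := (Finset.card_image_le (f := w) (s := (Finset.Icc 1 (e - 1)).erase ((c - 1) % e)))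
    rw [Finset.card_erase_of_mem (Finset.mem_Icc.2 ⟨Nat.pos_of_ne_zero hr0,
      by have := Nat.mod_lt (c - 1) (Nat.pos_of_ne_zero he0); omega⟩), Nat.card_Icc] at h1
    omega
  · intro x hx
    simp only [G, Finset.coe_insert, Set.mem_insert_iff, Finset.coe_image, Set.mem_image] at hx
    rcases hx with rfl | ⟨r, -, rfl⟩
    · exact he
    · exact (Nat.find_spec (hex r)).1
  · conv_lhs => rw [← TFCurv38.closure_lt_conductor hc hsymm hc0 he he0 hemin he2]
    refine (AddSubmonoid.closure_le).2 fun γ hγ => ?_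
    obtain ⟨hγΓ, hγc⟩ := hγ
    have hemem : e ∈ AddSubmonoid.closure (↑G : Set ℕ) := AddSubmonoid.subset_closure (by simp [G])
    have hq : ∀ q : ℕ, q * e ∈ AddSubmonoid.closure (↑G : Set ℕ) := fun q => by simpa using nsmul_mem hemem q
    by_cases h0 : γ % e = 0
    · have := hq (γ / e)
      rwa [Nat.div_mul_cancel (Nat.dvd_of_mod_eq_zero h0)] at this
    · have hne : γ % e ≠ (c - 1) % e := fun h => hc1 (by
        have hd : e ∣ c - 1 - γ := (Nat.modEq_iff_dvd' (by omega)).1 h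
        have h2 := add_mem hγΓ (nsmul_mem he ((c - 1 - γ) / e))
        rwa [smul_eq_mul, Nat.div_mul_cancel hd, show γ + (c - 1 - γ) = c - 1 by omega] at h2)
      have hw : w (γ % e) ∈ AddSubmonoid.closure (↑G : Set ℕ) := by
        refine AddSubmonoid.subset_closure (Finset.mem_coe.2 (Finset.mem_insert_of_mem (Finset.mem_image.2
          ⟨γ % e, Finset.mem_erase.2 ⟨hne, Finset.mem_Icc.2 ⟨Nat.pos_of_ne_zero h0, ?_⟩⟩, rfl⟩)))
        have := Nat.mod_lt γ (Nat.pos_of_ne_zero he0)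
        omega
      have hle : w (γ % e) ≤ γ := Nat.find_min' (hex _) ⟨hγΓ, by simp⟩
      have hmod : w (γ % e) % e = γ % e := (Nat.find_spec (hex (γ % e))).2.trans (Nat.mod_mod _ _)
      have hd : e ∣ γ - w (γ % e) := (Nat.modEq_iff_dvd' hle).1 hmod
      have h2 := add_mem hw (hq ((γ - w (γ % e)) / e))
      rwa [Nat.div_mul_cancel hd, Nat.add_sub_cancel' hle] at h2

end Groth.Agent.S15038
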