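import Groth.Statements.S15039
import Groth.Agent.Ega11.NormBundles
-- import your own Groth.Agent.* helpers here

set_option autoImplicit false
universe u
open CategoryTheory CategoryTheory.Limits AlgebraicGeometry
open TFCurv

namespace Groth.Agent.S15039

/-- Let X be an integral proper curve (integral, proper, of dimension one) over an algebraically closed
field k, with normalisation ν : X~ → X, and write Õ_x for the integral closure of the local ring
O_{X,x} in the function field of X. Then ν_* induces a bijection from isomorphism classes of locally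
free modules of rank n on X~ to isomorphism classes of coherent O_X-modules all of whose stalks F_x
are isomorphic to Õ_x^n as O_{X,x}-modules: every such module is isomorphic to ν_*E for some locally
free E of rank n on X~, and two locally free modules of rank n on X~ with isomorphic direct images
are isomorphic. -/
theorem result (k : Type u) [Field k] [IsAlgClosed k] (X : Scheme.{u}) [X.Over (Spec (CommRingCat.of k))] [IsIntegral X] [IsProper (X ↘ Spec (CommRingCat.of k))] (hdim : topologicalKrullDim X = 1) [QuasiCompact (X.fromSpecStalk (genericPoint X))] [QuasiSeparated (X.fromSpecStalk (genericPoint X))] (n : ℕ) : (∀ F : X.Modules, Coh.IsCoh F → (∀ x : X, Nonempty (↑(F.presheaf.stalk x) ≃ₗ[↑(X.presheaf.stalk x)] (Fin n → ↥(integralClosure ↑(X.presheaf.stalk x) X.functionField)))) → ∃ E : (Curv2.normalization X).Modules, FlatMod.IsFinLocFreeOfRank n E ∧ Nonempty ((Coh.push (Curv2.normalizationι X)).obj E ≅ F)) ∧ (∀ E E' : (Curv2.normalization X).Modules, FlatMod.IsFinLocFreeOfRank n E → FlatMod.IsFinLocFreeOfRank n E' → Nonempty ((Coh.push (Curv2.normalizationι X)).obj E ≅ (Coh.push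 (Curv2.normalizationι X)).obj E') → Nonempty (E ≅ E')) := by
  have : IsIntegral (Curv2.normalization X) :=
    inferInstanceAs (IsIntegral (X.fromSpecStalk (genericPoint X)).normalization)
  refine ⟨fun F hF hst => Groth.Agent.Ega11.NormBundles.exists_bundle k X hdim n F hF hst, fun E E' hE hE' ⟨φ⟩ => ?_⟩
  have : CompactSpace X := QuasiCompact.compactSpace_of_compactSpace (X ↘ Spec (CommRingCat.of k))
  have := Groth.Agent.Ega11.NormCurve.isFinite k X
  have := Groth.Agent.Ega11.NormCurve.isLocallyNoetherian_normalization k X
  obtain ⟨V₀, hV, -, -⟩ := Groth.Agent.Ega11.NormCurve.exists_birOn k X hdim.le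
  have : E.IsQuasicoherent := (Groth.Agent.CD47.isCoh_of_isFinLocFree
    (Groth.Agent.LimTop61.isFinLocFreeOfRank_iff.1 hE).1).1
  have : E'.IsQuasicoherent := (Groth.Agent.CD47.isCoh_of_isFinLocFree
    (Groth.Agent.LimTop61.isFinLocFreeOfRank_iff.1 hE').1).1
  exact Groth.Agent.Ega11.NormPush.nonempty_iso_of_push_iso hV
    (Groth.Agent.Ega11.NodalFactor.isTorsionFree_of_finLocFree hE)
    (Groth.Agent.Ega11.NodalFactor.isTorsionFree_of_finLocFree hE') φ

end Groth.Agent.S15039
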