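import Groth.Statements.S15041
import Groth.Agent.TFCurv38.Cubical

set_option autoImplicit false
universe u
open CategoryTheory
open TFCurv

namespace Groth.Agent.S15041

/-- Let k be an algebraically closed field of characteristic zero and A ⊂ k[[t]] the complete local ring
of the E_6 singularity, i.e. the k-subalgebra of power series all of whose exponents lie in the
semigroup generated by 3 and 4 (A = k[[t³, t⁴]]). Its rank-one torsion-free modules are A, M₁ = A +
A·t⁵, its dual M₁* = A + A·t, M₂ = A + A·t² and M₃ = A + A·t + A·t² = k[[t]], of index 0, 1, 1, 2,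
3. Then Ext¹_A(M, M) has length 2·index(M): length 2 for M₁ and for M₁*, 4 for M₂ and 6 for M₃
(length over A equals k-dimension). As End_A(M₁) = End_A(M₁*) = M₁, End_A(M₂) = M₂, End_A(M₃) = M₃
have colength 1, 1, 2, 3 over A, this is the identity χ₁(M) = dim Ext¹(M, M) − dim(End(M)/A) =
index(M). -/
theorem result (k : Type u) [Field k] [IsAlgClosed k] [CharZero k] (A : Subalgebra k (PowerSeries k)) (hmono : ∀ f : PowerSeries k, f ∈ A ↔ ∀ n : ℕ, PowerSeries.coeff n f ≠ 0 → n ∈ AddSubmonoid.closure ({3, 4} : Set ℕ)) : Module.length ↥A (Abelian.Ext (ModuleCat.of ↥A ↥(Submodule.span ↥A ({1, (PowerSeries.X : PowerSeries k) ^ 5} : Set (PowerSeries k)))) (ModuleCat.of ↥A ↥(Submodule.span ↥A ({1, (PowerSeries.X : PowerSeries k) ^ 5} : Set (PowerSeries k)))) 1) = 2 ∧ Module.length ↥A (Abelian.Ext (ModuleCat.of ↥A ↥(Submodule.span ↥A ({1, (PowerSeries.X : PowerSeries k)} : Set (PowerSeries k)))) (ModuleCat.of ↥A ↥(Submodule.span ↥A ({1, (PowerSeries.X : PowerSeries k)} : Set (PowerSeries k)))) 1) = 2 ∧ Module.length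 ↥A (Abelian.Ext (ModuleCat.of ↥A ↥(Submodule.span ↥A ({1, (PowerSeries.X : PowerSeries k) ^ 2} : Set (PowerSeries k)))) (ModuleCat.of ↥A ↥(Submodule.span ↥A ({1, (PowerSeries.X : PowerSeries k) ^ 2} : Set (PowerSeries k)))) 1) = 4 ∧ Module.length ↥A (Abelian.Ext (ModuleCat.of ↥A ↥(Submodule.span ↥A ({1, (PowerSeries.X : PowerSeries k), (PowerSeries.X : PowerSeries k) ^ 2} : Set (PowerSeries k)))) (ModuleCat.of ↥A ↥(Submodule.span ↥A ({1, (PowerSeries.X : PowerSeries k), (PowerSeries.X : PowerSeries k) ^ 2} : Set (PowerSeries k)))) 1) = 6 := by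
  classical
  obtain ⟨Γ, hΓ⟩ : ∃ Γ : Set ℕ, ∀ n, n ∈ Γ ↔ (n ≠ 1 ∧ n ≠ 2 ∧ n ≠ 5) :=
    ⟨{n | n ≠ 1 ∧ n ≠ 2 ∧ n ≠ 5}, fun n => Iff.rfl⟩
  have hcl : ∀ n, n ∈ AddSubmonoid.closure ({3, 4} : Set ℕ) ↔ n ∈ Γ := by
    intro n
    rw [AddSubmonoid.mem_closure_pair, hΓ]
    constructor
    · rintro ⟨x, y, rfl⟩
      simp only [smul_eq_mul]
      omega
    · intro h
      exact ⟨(n - 4 * (n % 3)) / 3, n % 3, by simp only [smul_eq_mul]; omega⟩
  have hmono' : ∀ f : PowerSeries k, f ∈ A ↔ TFCurv38.Supp Γ f := fun f =>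
    (hmono f).trans ⟨fun h n hn => (hcl n).1 (h n hn), fun h n hn => (hcl n).2 (h n hn)⟩
  refine ⟨?_, ?_, ?_, ?_⟩
  · rw [TFCurv38.length_ext_pair hmono' 5 3 8 ((hΓ _).2 (by omega)) ((hΓ _).2 (by omega)) rfl
        {0, 5} {n | n ≠ 1 ∧ n ≠ 2} (fun n => by
          simp only [hΓ, Set.mem_ofPred_eq, Finset.mem_insert, Finset.mem_singleton, exists_eq_or_imp, exists_eq_left]
          omega) {4, 5} (fun n => by
          simp only [hΓ, Set.mem_ofPred_eq, Finset.mem_insert, Finset.mem_singleton]
          refine ⟨fun h => ⟨fun z hz hz' => by omega, by omega⟩, fun h => ?_⟩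
          have h3 := h.1 3
          have h4 := h.1 4
          have h6 := h.1 6
          have h7 := h.1 7
          omega) _ _ rfl (by simp [Set.image_pair])]
    rfl
  · rw [show (PowerSeries.X : PowerSeries k) = PowerSeries.X ^ 1 from (pow_one _).symm]
    rw [TFCurv38.length_ext_pair hmono' 1 3 4 ((hΓ _).2 (by omega)) ((hΓ _).2 (by omega)) rfl
        {0, 1} {n | n ≠ 2} (fun n => by
          simp only [hΓ, Set.mem_ofPred_eq, Finset.mem_insert, Finset.mem_singleton, exists_eq_or_imp, exists_eq_left]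
          omega) {0, 1} (fun n => by
          simp only [hΓ, Set.mem_ofPred_eq, Finset.mem_insert, Finset.mem_singleton]
          refine ⟨fun h => ⟨fun z hz hz' => by omega, by omega⟩, fun h => ?_⟩
          have h3 := h.1 3
          have h4 := h.1 4
          have h6 := h.1 6
          have h7 := h.1 7
          omega) _ _ rfl (by simp [Set.image_pair])]
    rfl
  · rw [TFCurv38.length_ext_pair hmono' 2 4 6 ((hΓ _).2 (by omega)) ((hΓ _).2 (by omega)) rfl
        {0, 2} {n | n ≠ 1} (fun n => by
          simp only [hΓ, Set.mem_ofPred_eq, Finset.mem_insert, Finset.mem_singleton, exists_eq_or_imp, exists_eq_left]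
          omega) {0, 2, 3, 5} (fun n => by
          simp only [hΓ, Set.mem_ofPred_eq, Finset.mem_insert, Finset.mem_singleton]
          refine ⟨fun h => ⟨fun z hz hz' => by omega, by omega⟩, fun h => ?_⟩
          have h3 := h.1 3
          have h4 := h.1 4
          have h6 := h.1 6
          have h7 := h.1 7
          omega) _ _ rfl (by simp [Set.image_pair])]
    rfl
  · have hset : ({1, (PowerSeries.X : PowerSeries k), PowerSeries.X ^ 2} : Set (PowerSeries k)) =
        insert 1 (Set.range fun b => (PowerSeries.X : PowerSeries k) ^ (![1, 2] : Fin 2 → ℕ) b) := by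
      ext f
      simp [Fin.exists_fin_two, eq_comm]
    rw [hset, TFCurv38.length_ext_multi hmono' (![1, 2] : Fin 2 → ℕ) 6 ((hΓ _).2 (by omega))
      (fun b => (hΓ _).2 (by fin_cases b <;> simp)) Set.univ (fun _ _ _ => trivial) (Set.Ici 3) (Set.Ici 3)
      ?_ (fun z hz p hp => by simp only [Set.mem_Ici] at hz hp; exact ⟨by omega, trivial⟩) _ _ rfl ?_ ?_
      {3, 4, 5} ?_]
    · rfl
    · intro z hz b n hn
      obtain ⟨z0, hz0⟩ := hz
      have hsupp := (hmono' _).1 z0.2
      have hz' := fun c => (hmono' _).1 (z c).2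
      have hc : ∀ m, PowerSeries.coeff m (z0 : PowerSeries k) +
          (PowerSeries.coeff m ((z 0 : PowerSeries k) * PowerSeries.X) +
            PowerSeries.coeff m ((z 1 : PowerSeries k) * PowerSeries.X ^ 2)) = 0 := fun m => by
        have h := congrArg (PowerSeries.coeff m) hz0
        simpa [Fin.sum_univ_two, TFCurv38.smul_eq_mul'] using h
      have h1 : PowerSeries.coeff 0 (z 0 : PowerSeries k) = 0 := by
        have h := hc 1
        rwa [hsupp.coeff_eq_zero (fun h => ((hΓ 1).1 h).1 rfl), PowerSeries.coeff_succ_mul_X,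
          PowerSeries.coeff_mul_X_pow', if_neg (by norm_num), add_zero, zero_add] at h
      have h2 : PowerSeries.coeff 0 (z 1 : PowerSeries k) = 0 := by
        have h := hc 2
        rwa [hsupp.coeff_eq_zero (fun h => ((hΓ 2).1 h).2.1 rfl), PowerSeries.coeff_succ_mul_X,
          PowerSeries.coeff_mul_X_pow', if_pos le_rfl, (hz' 0).coeff_eq_zero (fun h => ((hΓ 1).1 h).1 rfl),
          zero_add, zero_add] at h
      have hn0 : n ≠ 0 := by
        rintro rfl
        fin_cases b
        · exact hn h1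
        · exact hn h2
      have := (hΓ n).1 (hz' b n hn)
      rw [Set.mem_Ici]
      omega
    · intro f
      rw [TFCurv38.insert_one_range_eq, TFCurv38.mem_span_monomials hmono']
      refine ⟨fun _ n _ => trivial, fun _ => fun n _ => ?_⟩
      simp only [Set.mem_ofPred_eq, Finset.mem_insert, Finset.mem_image, Finset.mem_univ, true_and,
        Fin.exists_fin_two, exists_eq_or_imp, Matrix.cons_val_zero, Matrix.cons_val_one, hΓ]
      by_cases hn : n = 1 ∨ n = 2 ∨ n = 5
      · rcases hn with rfl | rfl | rfl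
        · exact Or.inr ⟨1, Or.inl rfl, by omega⟩
        · exact Or.inr ⟨2, Or.inr rfl, by omega⟩
        · exact Or.inr ⟨1, Or.inl rfl, by omega⟩
      · exact Or.inl (by omega)
    · intro u hu
      have hX : ∀ q, q ≠ 1 → q ≠ 2 → q ≠ 5 → (PowerSeries.X : PowerSeries k) ^ q ∈ A := fun q a b c =>
        (hmono' _).2 (TFCurv38.supp_X_pow_iff.2 ((hΓ q).2 ⟨a, b, c⟩))
      let p3 : A := ⟨_, hX 3 (by omega) (by omega) (by omega)⟩
      let p4 : A := ⟨_, hX 4 (by omega) (by omega) (by omega)⟩
      have e0 := hu ![p3, 0] ⟨-p4, by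
        simp [p3, p4, Fin.sum_univ_two, TFCurv38.smul_eq_mul', pow_succ]⟩
      have e1 := hu ![p4, -p3] ⟨0, by
        simp [p3, p4, Fin.sum_univ_two, TFCurv38.smul_eq_mul', pow_succ]; ring⟩
      simp only [Fin.sum_univ_two, Matrix.cons_val_zero, Matrix.cons_val_one, TFCurv38.smul_eq_mul', zero_smul,
        add_zero, p3, p4, ZeroMemClass.coe_zero, zero_mul, Subalgebra.coe_neg, neg_mul] at e0 e1
      have u0 : TFCurv38.Supp (Set.Ici 3) (u 0) := fun m hm => by
        have h := e0 (m + 3) (by
          rwa [PowerSeries.coeff_X_pow_mul', if_pos (Nat.le_add_left 3 m), Nat.add_sub_cancel])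
        simp only [Set.mem_ofPred_eq, Set.mem_univ, and_true] at h
        rw [Set.mem_Ici]
        omega
      have u1 : TFCurv38.Supp (Set.Ici 3) (u 1) := fun m hm => by
        rw [Set.mem_Ici]
        by_contra hm'
        refine hm ?_
        have h := e1.coeff_eq_zero (n := m + 3) (fun h => by
          simp only [Set.mem_ofPred_eq] at h
          omega)
        rw [map_add, map_neg, PowerSeries.coeff_X_pow_mul', PowerSeries.coeff_X_pow_mul',
          if_pos (Nat.le_add_left 3 m), Nat.add_sub_cancel] at h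
        split_ifs at h with h4
        · rw [u0.coeff_eq_zero (fun h => by simp only [Set.mem_Ici] at h; omega), zero_add, neg_eq_zero] at h
          exact h
        · simpa using h
      intro b
      fin_cases b
      · exact u0
      · exact u1
    · intro n
      simp only [Finset.mem_insert, Finset.mem_singleton, Set.mem_Ici, Set.mem_univ, and_true]
      omega

end Groth.Agent.S15041
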