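import Groth.Statements.S15046
import Groth.Agent.Quiet29.Tower
import Mathlib.AlgebraicGeometry.AffineScheme
import Mathlib.RingTheory.RingHom.FaithfullyFlat
-- import your own Groth.Agent.* helpers here

set_option autoImplicit false
open CategoryTheory AlgebraicGeometry
universe u
open Quiet

namespace Groth.Agent.S15046

theorem isPthRoot_at (p : ℕ) [hp : Fact p.Prime] (R : CommRingCat.{u}) [CharP R p] (f : R)
    [CharP (Localization.Away f) p] (n : ℕ) (x : Fin n → Localization.Away f)
    (hx : Quiet29.IsRootExt p (frobenius (Localization.Away f) p) x x)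
    (P : PrimeSpectrum R) (hf : f ∉ P.asIdeal) :
    ∃ U : (Spec R).affineOpens, P ∈ U.1 ∧ IsAffineOpen (Spec.map (CommRingCat.ofHom (frobenius R p)) ⁻¹ᵁ U.1) ∧
      letI := ((Spec.map (CommRingCat.ofHom (frobenius R p))).app U.1).hom.toAlgebra
      ∃ n : ℕ, Quiet.IsRootTower p n Γ(Spec R, U.1) Γ(Spec R, Spec.map (CommRingCat.ofHom (frobenius R p)) ⁻¹ᵁ U.1) := by
  let g : R ⟶ R := CommRingCat.ofHom (frobenius R p)
  let U : (Spec R).Opens := PrimeSpectrum.basicOpen f
  let V : (Spec R).Opens := Spec.map g ⁻¹ᵁ U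
  have hV : V = PrimeSpectrum.basicOpen f := by
    show PrimeSpectrum.basicOpen (f ^ p) = _
    rw [PrimeSpectrum.basicOpen_pow f p (Fact.out : p.Prime).pos]
  have hVaff : IsAffineOpen V := hV ▸ IsAffineOpen.Spec_basicOpen (R := R) f
  refine ⟨⟨U, IsAffineOpen.Spec_basicOpen (R := R) f⟩, hf, hVaff, n, ?_⟩
  haveI : IsLocalization.Away f Γ(Spec R, V) := by rw [hV]; infer_instance
  haveI : IsLocalization.Away f Γ(Spec R, U) := inferInstance
  let e₁ : Localization.Away f ≃ₐ[R] Γ(Spec R, U) :=
    IsLocalization.algEquiv (Submonoid.powers f) _ _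
  let e₂ : Localization.Away f ≃ₐ[R] Γ(Spec R, V) :=
    IsLocalization.algEquiv (Submonoid.powers f) _ _
  have hnat : ∀ a : R, ((Spec.map g).app U).hom (algebraMap R Γ(Spec R, U) a) =
      algebraMap R Γ(Spec R, V) (a ^ p) := fun a => by
    have h : ((Scheme.ΓSpecIso R).inv ≫ (Spec R).presheaf.map (homOfLE le_top).op) ≫ (Spec.map g).app U =
        g ≫ (Scheme.ΓSpecIso R).inv ≫ (Spec R).presheaf.map (homOfLE (le_top : V ≤ ⊤)).op := by
      rw [Category.assoc, (Spec.map g).naturality, show (Spec.map g).app ⊤ = (Spec.map g).appTop from rfl]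
      erw [← Scheme.ΓSpecIso_inv_naturality_assoc]
      rfl
    exact ConcreteCategory.congr_hom h a
  have hcomm : ((Spec.map g).app U).hom.comp e₁.toRingEquiv.toRingHom =
      e₂.toRingEquiv.toRingHom.comp (frobenius (Localization.Away f) p) := by
    refine IsLocalization.ringHom_ext (Submonoid.powers f) (RingHom.ext fun a => ?_)
    show ((Spec.map g).app U).hom (e₁ (algebraMap R _ a)) = e₂ (algebraMap R _ a ^ p)
    rw [e₁.commutes, ← map_pow (algebraMap R (Localization.Away f)), e₂.commutes]
    exact hnat a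
  letI := ((Spec.map g).app U).hom.toAlgebra
  refine Quiet29.isRootTower_of_isRootExt p n _ _ (e₁ ∘ x) (e₂ ∘ x) ⟨fun i => ?_, fun C _ γ c hc => ?_⟩
  · show e₂ (x i) ^ p = ((Spec.map g).app U).hom.comp e₁.toRingEquiv.toRingHom (x i)
    rw [hcomm, ← map_pow]
    rfl
  · obtain ⟨φ, ⟨hφ, hφx⟩, huniq⟩ :=
      (hx.comp p e₂.toRingEquiv).2 C (γ.comp e₁.toRingEquiv.toRingHom) c hc
    refine ⟨φ, ⟨RingHom.ext fun a => ?_, hφx⟩, fun ψ ⟨hψ, hψx⟩ => huniq ψ ⟨?_, hψx⟩⟩
    · obtain ⟨a, rfl⟩ := e₁.surjective a
      have := RingHom.congr_fun hφ a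
      rwa [← hcomm] at this
    · rw [← hcomm, ← RingHom.comp_assoc]
      exact congrArg (fun r => RingHom.comp r e₁.toRingEquiv.toRingHom) hψ

/-- Let `k` be a perfect field of prime characteristic `p` and `A` a smooth `k`-algebra of
characteristic `p`. Then the Frobenius endomorphism `a ↦ a ^ p` of `A` is faithfully flat, and the
endomorphism of `Spec A` it induces is an extraction of `p`-th roots: every point has an affine open
neighbourhood with affine preimage over which the induced ring map is a tower of finitely many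
elementary extractions `B → B[x]/(x^p - b)`. -/
theorem result (p : ℕ) [Fact p.Prime]
    (k : Type u) [Field k] [CharP k p] [PerfectRing k p] (A : Type u) [CommRing A] [Algebra k A]
    [CharP A p] [Algebra.Smooth k A] :
    (frobenius A p).FaithfullyFlat ∧
      Quiet.IsPthRoot p (Spec.map (CommRingCat.ofHom (frobenius A p))) := by
  classical
  have hloc : ∀ P : PrimeSpectrum A, ∃ f : A, f ∉ P.asIdeal ∧ CharP (Localization.Away f) p ∧
      Algebra.IsStandardSmooth k (Localization.Away f) := by
    intro P
    obtain ⟨f, hf, hfs⟩ := Algebra.IsSmoothAt.exists_notMem_isStandardSmooth (R := k) P.asIdeal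
    refine ⟨f, hf, ?_, hfs⟩
    haveI : Nontrivial (Localization.Away f) := by
      let φ : Localization.Away f →+* P.asIdeal.ResidueField := IsLocalization.Away.lift f
        (g := algebraMap A P.asIdeal.ResidueField)
        (isUnit_iff_ne_zero.mpr fun h => hf (Ideal.algebraMap_residueField_eq_zero.mp h))
      exact φ.domain_nontrivial
    exact charP_of_injective_algebraMap (algebraMap k (Localization.Away f)).injective p
  constructor
  · rw [RingHom.FaithfullyFlat.iff_flat_and_comap_surjective]
    refine ⟨?_, fun P => ⟨P, PrimeSpectrum.ext (Ideal.ext fun a => ?_)⟩⟩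
    · let s : Set A := {f | CharP (Localization.Away f) p ∧ Algebra.IsStandardSmooth k (Localization.Away f)}
      refine RingHom.Flat.ofLocalizationSpanTarget _ s ?_ fun ⟨f, hfc, hfs⟩ => ?_
      · by_contra hne
        obtain ⟨M, hM, hle⟩ := Ideal.exists_le_maximal _ hne
        obtain ⟨f, hf, h1, h2⟩ := hloc ⟨M, hM.isPrime⟩
        exact hf (hle (Ideal.subset_span ⟨h1, h2⟩))
      · haveI := hfc
        haveI := hfs
        have hcomm : (algebraMap A (Localization.Away f)).comp (frobenius A p) =
            (frobenius (Localization.Away f) p).comp (algebraMap A (Localization.Away f)) :=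
          RingHom.ext fun a => map_pow (algebraMap A (Localization.Away f)) a p
        rw [hcomm]
        refine RingHom.Flat.comp ?_ ?_
        · exact RingHom.flat_algebraMap_iff.2 (IsLocalization.flat _ (Submonoid.powers f))
        · obtain ⟨n, x, hx⟩ := Quiet29.exists_isRootExt_frobenius p (k := k) (Localization.Away f)
          letI := (frobenius (Localization.Away f) p).toAlgebra
          exact Quiet29.flat_of_isRootTower p n _ _ (Quiet29.isRootTower_of_isRootExt p n _ _ x x hx)
    · show a ^ p ∈ P.asIdeal ↔ a ∈ P.asIdeal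
      exact P.2.pow_mem_iff_mem p (Fact.out : p.Prime).pos
  · intro P
    obtain ⟨f, hf, hfc, hfs⟩ := hloc P
    haveI := hfc
    haveI := hfs
    obtain ⟨n, x, hx⟩ := Quiet29.exists_isRootExt_frobenius p (k := k) (Localization.Away f)
    exact isPthRoot_at p (CommRingCat.of A) f n x hx P hf

end Groth.Agent.S15046
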