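import Groth.Statements.S15047
import Groth.Agent.Desc59.UnivInjFF

set_option autoImplicit false
universe u
open TensorProduct
open Desc

namespace Groth.Agent.S15047

/-- Let A → A' be a faithfully flat homomorphism of commutative rings and M, N any A-modules. An
A'-linear map f : A' ⊗_A M → A' ⊗_A N whose two base changes to A' ⊗_A A' (along a ↦ a ⊗ 1 and a ↦ 1
⊗ a) coincide is the base change of a unique A-linear map h : M → N. Since (A' ⊗_A A') ⊗_A M is
generated over A' ⊗_A A' by the elements 1 ⊗ m, the agreement of the two base changes is stated on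
these generators: for every m, the two images of f (1 ⊗ m) in (A' ⊗_A A') ⊗_A N agree. Equivalently,
the sequence Hom_A(M, N) → Hom_{A'}(A' ⊗ M, A' ⊗ N) ⇉ Hom_{A' ⊗ A'}(A' ⊗ A' ⊗ M, A' ⊗ A' ⊗ N) is an
equalizer diagram. -/
theorem result (A A' : Type u) [CommRing A] [CommRing A'] [Algebra A A']
    [Module.FaithfullyFlat A A'] (M N : Type u) [AddCommGroup M] [Module A M] [AddCommGroup N] [Module A N]
    (f : A' ⊗[A] M →ₗ[A'] A' ⊗[A] N)
    (hf : ∀ m : M,
      LinearMap.rTensor N (Algebra.TensorProduct.includeLeft : A' →ₐ[A] A' ⊗[A] A').toLinearMap (f (1 ⊗ₜ[A] m)) =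
        LinearMap.rTensor N (Algebra.TensorProduct.includeRight : A' →ₐ[A] A' ⊗[A] A').toLinearMap (f (1 ⊗ₜ[A] m))) :
    ∃! h : M →ₗ[A] N, h.baseChange A' = f := by
  have hs := Groth.Agent.Desc59.dualSplit_of_faithfullyFlat A A'
  have hinj := Groth.Agent.Desc59.tmul_one_injective hs N
  let η := TensorProduct.mk A A' N 1
  have hmem : ∀ m : M, f (1 ⊗ₜ[A] m) ∈ LinearMap.range η := by
    intro m
    refine Groth.Agent.Desc59.mem_range_tmul_one hs N _ ?_
    have h' := congr(TensorProduct.assoc A A' A' N $(hf m))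
    have hl : ∀ y : A' ⊗[A] N, TensorProduct.assoc A A' A' N (LinearMap.rTensor N
        (Algebra.TensorProduct.includeLeft : A' →ₐ[A] A' ⊗[A] A').toLinearMap y) =
        LinearMap.lTensor A' η y := by
      intro y
      induction y with
      | zero => simp
      | tmul b n => simp [η]
      | add a b ha hb => simp only [map_add, ha, hb]
    have hr : ∀ y : A' ⊗[A] N, TensorProduct.assoc A A' A' N (LinearMap.rTensor N
        (Algebra.TensorProduct.includeRight : A' →ₐ[A] A' ⊗[A] A').toLinearMap y) =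
        (1 : A') ⊗ₜ[A] y := by
      intro y
      induction y with
      | zero => simp
      | tmul b n => simp
      | add a b ha hb => simp only [map_add, ha, hb, TensorProduct.tmul_add]
    rw [hl, hr] at h'
    exact h'.symm
  let h : M →ₗ[A] N := (LinearEquiv.ofInjective η hinj).symm.toLinearMap ∘ₗ
    LinearMap.codRestrict (LinearMap.range η)
      ((f.restrictScalars A) ∘ₗ (TensorProduct.mk A A' M 1)) hmem
  have hh : ∀ m, (1 : A') ⊗ₜ[A] h m = f (1 ⊗ₜ[A] m) := fun m =>
    congrArg Subtype.val ((LinearEquiv.ofInjective η hinj).apply_symm_apply ⟨_, hmem m⟩)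
  refine ⟨h, ?_, ?_⟩
  · ext m
    simpa using hh m
  · intro h' hh'
    ext m
    apply hinj
    show (1 : A') ⊗ₜ[A] h' m = (1 : A') ⊗ₜ[A] h m
    rw [hh m, ← hh', LinearMap.baseChange_tmul]

end Groth.Agent.S15047
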