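import Groth.Agent.Hopf35.Cocomm
import Groth.Statements.S15048

set_option autoImplicit false
universe u v
open Hopf

namespace Groth.Agent.S15048

theorem result (R : Type u) [CommRing R] (A : Type v) [CommRing A] [HopfAlgebra R A]
    [Coalgebra.IsCocomm R A] [Module.Finite R A] [Module.Projective R A] (n : ℕ)
    (hn : ∀ p : PrimeSpectrum R, Module.rankAtStalk A p = n) :
    (WithConv.toConv (AlgHom.id R A)) ^ n = 1 := by
  exact Groth.Agent.Hopf35.Cocomm.id_pow_eq_one hn

end Groth.Agent.S15048
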