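import Groth.Statements.S15049
import Groth.Agent.LT31.Endo

set_option autoImplicit false
universe u
open LubinTate

namespace Groth.Agent.S15049

/-- Let O be a discrete valuation ring with finite residue field of cardinality q, π a uniformizer of O,
and f = πT + T^q ∈ O[[T]]. Then there is a one-dimensional commutative formal group law F(X,Y) over
O for which f is an endomorphism, f(F(X,Y)) = F(f(X), f(Y)); and F is the unique power series in
O[[X,Y]] with zero constant term and linear part X + Y satisfying this identity. (The published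
statement is for the ring of integers of a finite extension of ℚ_p or of 𝔽_q((X)); completeness is
not used and any discrete valuation ring with finite residue field is allowed here.) -/
theorem result (O : Type u) [CommRing O] [IsDomain O] [IsDiscreteValuationRing O]
    [Finite (IsLocalRing.ResidueField O)] (π : O) (hπ : Irreducible π) (f : PowerSeries O)
    (hf : f = π • PowerSeries.X + PowerSeries.X ^ Nat.card (IsLocalRing.ResidueField O)) :
    ∃ F : FormalGroup O, F.IsComm ∧
      PowerSeries.subst F.toPowerSeries f =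
        MvPowerSeries.subst (fun i : Fin 2 => PowerSeries.subst (MvPowerSeries.X i : MvPowerSeries (Fin 2) O) f) F.toPowerSeries ∧
      ∀ G : MvPowerSeries (Fin 2) O, G.constantCoeff = 0 → G.coeff (Finsupp.single 0 1) = 1 →
        G.coeff (Finsupp.single 1 1) = 1 →
        PowerSeries.subst G f =
        MvPowerSeries.subst (fun i : Fin 2 => PowerSeries.subst (MvPowerSeries.X i : MvPowerSeries (Fin 2) O) f) G →
        G = F.toPowerSeries := by
  classical
  subst hf
  obtain ⟨φ, h0, h1, h2⟩ := Groth.Agent.LT31.exists_endo hπ (σ := Fin 2) fun _ => 1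
  have hφ : Groth.Agent.LT31.IsEndo π φ := ⟨h0, h2⟩
  have hlin : ∀ (m : ℕ) (b : Fin 2 → MvPowerSeries (Fin m) O), (∀ i, (b i).constantCoeff = 0) →
      ∀ j, (MvPowerSeries.subst b φ).coeff (Finsupp.single j 1) =
        (b 0).coeff (Finsupp.single j 1) + (b 1).coeff (Finsupp.single j 1) := by
    intro m b hb j
    rw [Groth.Agent.LT31.coeff_single_subst h0 hb, Fin.sum_univ_two, h1, h1, one_mul, one_mul]
  have hX : ∀ (m : ℕ) (i : Fin m), Groth.Agent.LT31.IsEndo π
      (MvPowerSeries.X i : MvPowerSeries (Fin m) O) := fun m i => Groth.Agent.LT31.isEndo_X π i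
  have hsub : ∀ a c : Fin 3, Groth.Agent.LT31.IsEndo π
      (MvPowerSeries.subst ![(MvPowerSeries.X a : MvPowerSeries (Fin 3) O), MvPowerSeries.X c] φ) :=
    fun a c => hφ.comp fun i => by fin_cases i <;> exact hX 3 _
  have hl : Groth.Agent.LT31.IsEndo π (MvPowerSeries.subst
      ![MvPowerSeries.subst ![(MvPowerSeries.X 0 : MvPowerSeries (Fin 3) O), MvPowerSeries.X 1] φ,
        MvPowerSeries.X 2] φ) := hφ.comp fun i => by
    fin_cases i
    · exact hsub 0 1
    · exact hX 3 2
  have hr : Groth.Agent.LT31.IsEndo π (MvPowerSeries.subst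
      ![(MvPowerSeries.X 0 : MvPowerSeries (Fin 3) O),
        MvPowerSeries.subst ![(MvPowerSeries.X 1 : MvPowerSeries (Fin 3) O), MvPowerSeries.X 2] φ] φ) :=
    hφ.comp fun i => by
      fin_cases i
      · exact hX 3 0
      · exact hsub 1 2
  have hassoc := Groth.Agent.LT31.endo_unique hπ hl.1 hr.1 (fun j => by
    rw [hlin 3 _ (fun i => by fin_cases i <;> [exact (hsub 0 1).1; exact (hX 3 2).1]),
      hlin 3 _ (fun i => by fin_cases i <;> [exact (hX 3 0).1; exact (hsub 1 2).1])]
    simp only [Matrix.cons_val_zero, Matrix.cons_val_one]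
    rw [hlin 3 _ (fun i => by fin_cases i <;> exact (hX 3 _).1),
      hlin 3 _ (fun i => by fin_cases i <;> exact (hX 3 _).1)]
    simp [add_assoc]) hl.2 hr.2
  let F : FormalGroup O := ⟨φ, h0, h1 0, h1 1, hassoc⟩
  refine ⟨F, ⟨?_⟩, h2, fun G hG0 hG1 hG2 hG => ?_⟩
  · have hs : Groth.Agent.LT31.IsEndo π
        (MvPowerSeries.subst ![(MvPowerSeries.X 1 : MvPowerSeries (Fin 2) O), MvPowerSeries.X 0] φ) :=
      hφ.comp fun i => by fin_cases i <;> exact hX 2 _
    exact Groth.Agent.LT31.endo_unique hπ h0 hs.1 (fun j => by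
      rw [h1, hlin 2 _ (fun i => by fin_cases i <;> exact (hX 2 _).1)]
      fin_cases j <;> simp [MvPowerSeries.coeff_index_single_X]) h2 hs.2
  · refine Groth.Agent.LT31.endo_unique hπ hG0 h0 (fun i => ?_) hG h2
    fin_cases i
    · exact hG1.trans (h1 0).symm
    · exact hG2.trans (h1 1).symm

end Groth.Agent.S15049
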