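import Groth.Statements.S15050
import Groth.Agent.LT31.Lemma

set_option autoImplicit false
universe u
open LubinTate

namespace Groth.Agent.S15050

/-- Let O be a discrete valuation ring with finite residue field of cardinality q, π a uniformizer of O,
and f = πT + T^q ∈ O[[T]]. For every α ∈ O there is a unique power series g = [α] ∈ O[[T]] with zero
constant term and linear coefficient α which commutes with f under substitution, g(f(T)) = f(g(T)).
(The published statement is for the ring of integers of a finite extension of ℚ_p or of 𝔽_q((X));
completeness is not used and any discrete valuation ring with finite residue field is allowed here.) -/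
theorem result (O : Type u) [CommRing O] [IsDomain O] [IsDiscreteValuationRing O]
    [Finite (IsLocalRing.ResidueField O)] (π : O) (hπ : Irreducible π) (f : PowerSeries O)
    (hf : f = π • PowerSeries.X + PowerSeries.X ^ Nat.card (IsLocalRing.ResidueField O)) (α : O) :
    ∃! g : PowerSeries O, g.constantCoeff = 0 ∧ g.coeff 1 = α ∧
      PowerSeries.subst g f = PowerSeries.subst f g := by
  classical
  subst hf
  have hv : Groth.Agent.LT31.ltVars Unit π = fun _ => Groth.Agent.LT31.ltf π := by
    funext i
    exact PowerSeries.X_subst _
  obtain ⟨φ, h0, h1, h2⟩ := Groth.Agent.LT31.exists_endo hπ (σ := Unit) fun _ => α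
  rw [hv] at h2
  refine ⟨φ, ⟨h0, h1 (), h2⟩, fun g hg => ?_⟩
  refine Groth.Agent.LT31.endo_unique hπ (σ := Unit) hg.1 h0 (fun i => ?_) ?_ (by rw [hv]; exact h2)
  · exact (hg.2.1).trans (h1 i).symm
  · rw [hv]
    exact hg.2.2

end Groth.Agent.S15050
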