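import Groth.Statements.S15052
import Groth.Agent.LT32.Log

set_option autoImplicit false
universe u
open LubinTate

namespace Groth.Agent.S15052

/-- Let O be a discrete valuation ring with finite residue field of cardinality q, π a uniformizer of O,
and f = πT + T^q ∈ O[[T]]; let K be the fraction field of O and F a one-dimensional formal group law
over O for which f is an endomorphism, f(F(X,Y)) = F(f(X), f(Y)). Then there is a unique power
series ℓ ∈ K[[T]] with zero constant term and linear coefficient 1 such that ℓ(f(T)) = π·ℓ(T); this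
logarithm is a homomorphism to the additive formal group, ℓ(F(T,S)) = ℓ(T) + ℓ(S), and it is
O-linear in the sense that ℓ(g(T)) = α·ℓ(T) for every α ∈ O and every series g ∈ O[[T]] with zero
constant term and linear coefficient α commuting with f. (The published statement is for the ring of
integers of a finite extension of ℚ_p; completeness is not used and any discrete valuation ring with
finite residue field is allowed here.) -/
theorem result (O : Type u) [CommRing O] [IsDomain O] [IsDiscreteValuationRing O]
    [Finite (IsLocalRing.ResidueField O)] (K : Type u) [Field K] [Algebra O K] [IsFractionRing O K]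
    (π : O) (hπ : Irreducible π) (f : PowerSeries O)
    (hf : f = π • PowerSeries.X + PowerSeries.X ^ Nat.card (IsLocalRing.ResidueField O))
    (F : FormalGroup O)
    (hF : PowerSeries.subst F.toPowerSeries f =
        MvPowerSeries.subst (fun i : Fin 2 => PowerSeries.subst (MvPowerSeries.X i : MvPowerSeries (Fin 2) O) f) F.toPowerSeries) :
    ∃ ℓ : PowerSeries K, (ℓ.constantCoeff = 0 ∧ ℓ.coeff 1 = 1 ∧
      PowerSeries.subst (PowerSeries.map (algebraMap O K) f) ℓ = algebraMap O K π • ℓ) ∧
      (∀ ℓ' : PowerSeries K, ℓ'.constantCoeff = 0 → ℓ'.coeff 1 = 1 →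
        PowerSeries.subst (PowerSeries.map (algebraMap O K) f) ℓ' = algebraMap O K π • ℓ' → ℓ' = ℓ) ∧
      PowerSeries.subst ((F.toPowerSeries).map (algebraMap O K)) ℓ =
        PowerSeries.subst (MvPowerSeries.X (0 : Fin 2) : MvPowerSeries (Fin 2) K) ℓ +
          PowerSeries.subst (MvPowerSeries.X (1 : Fin 2) : MvPowerSeries (Fin 2) K) ℓ ∧
      (∀ (α : O) (g : PowerSeries O), g.constantCoeff = 0 → g.coeff 1 = α →
        PowerSeries.subst g f = PowerSeries.subst f g →
        PowerSeries.subst (PowerSeries.map (algebraMap O K) g) ℓ = algebraMap O K α • ℓ) := by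
  subst hf
  obtain ⟨ℓ, h0, h1, hℓ⟩ := LT32.exists_log (K := K) hπ
  have eF := LT32.isEndo_formalGroup F hF
  have hK : LT32.ltVarsK Unit π K = fun _ => PowerSeries.map (algebraMap O K) (LT31.ltf π) := by
    funext i
    show MvPowerSeries.map (algebraMap O K) (LT31.ltVars Unit π i) = _
    rw [LT32.ltVars_unit]
    rfl
  have hSK : ∀ ψ : PowerSeries K,
      PowerSeries.subst (PowerSeries.map (algebraMap O K) (LT31.ltf π)) ψ =
        MvPowerSeries.subst (LT32.ltVarsK Unit π K) ψ := fun ψ => by
    rw [hK]; rfl
  refine ⟨ℓ, ⟨h0, h1, (hSK ℓ).trans hℓ⟩, fun ℓ' _ h1' he => ?_, ?_, ?_⟩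
  · exact LT32.log_unique hπ ((hSK ℓ').symm.trans he) hℓ fun _ => h1'.trans h1.symm
  · have hcomp := LT32.subst_ltVarsK_comp hℓ eF
    have hX : ∀ i : Fin 2, MvPowerSeries.map (algebraMap O K) (MvPowerSeries.X i) =
        (MvPowerSeries.X i : MvPowerSeries (Fin 2) K) := fun i => MvPowerSeries.map_X _ i
    have hXi : ∀ i : Fin 2, MvPowerSeries.subst (LT32.ltVarsK (Fin 2) π K)
        (PowerSeries.subst (MvPowerSeries.X i : MvPowerSeries (Fin 2) K) ℓ) =
          algebraMap O K π •
            PowerSeries.subst (MvPowerSeries.X i : MvPowerSeries (Fin 2) K) ℓ := fun i => by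
      have := LT32.subst_ltVarsK_comp hℓ (LT31.isEndo_X π i)
      rw [hX] at this
      exact this
    refine LT32.log_unique hπ hcomp ?_ fun i => ?_
    · rw [MvPowerSeries.subst_add (LT32.hasSubst_ltVarsK π), hXi, hXi, smul_add]
    · rw [map_add,
        LT32.coeff_single_psubst h0 (b := (MvPowerSeries.X 0 : MvPowerSeries (Fin 2) K)) (by simp) i,
        LT32.coeff_single_psubst h0 (b := (MvPowerSeries.X 1 : MvPowerSeries (Fin 2) K)) (by simp) i]
      refine (LT32.coeff_single_psubst h0 (b := F.toPowerSeries.map (algebraMap O K))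
        (by rw [MvPowerSeries.constantCoeff_map, F.zero_constantCoeff, map_zero]) i).trans ?_
      rw [show (PowerSeries.coeff 1) ℓ = 1 from h1]
      simp only [MvPowerSeries.coeff_map, MvPowerSeries.coeff_X, Finsupp.single_left_inj one_ne_zero]
      fin_cases i <;> simp [F.lin_coeff_X, F.lin_coeff_Y]
  · intro α g hg0 hg1 hgf
    have eg := LT32.isEndo_of_series (π := π) hg0 hgf
    refine LT32.log_unique hπ (LT32.subst_ltVarsK_comp hℓ eg) ?_ fun i => ?_
    · rw [MvPowerSeries.subst_smul (LT32.hasSubst_ltVarsK π), hℓ, smul_comm]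
    · refine (LT32.coeff_single_psubst h0
        (b := MvPowerSeries.map (algebraMap O K) g) (by
          rw [MvPowerSeries.constantCoeff_map, eg.1, map_zero]) i).trans ?_
      rw [MvPowerSeries.coeff_map, MvPowerSeries.coeff_smul, LT32.coeff_series_one, hg1]
      exact mul_comm _ _

end Groth.Agent.S15052
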