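import Groth.Agent.Hopf35.Cocomm
import Groth.Statements.S15053

set_option autoImplicit false
universe u v
open Hopf

namespace Groth.Agent.S15053

theorem result (R : Type u) [CommRing R] (p : ℕ) [Fact p.Prime] (A : Type v) [CommRing A]
    [HopfAlgebra R A] [Module.Finite R A] [Module.Projective R A]
    (hp : ∀ q : PrimeSpectrum R, Module.rankAtStalk A q = p) :
    Coalgebra.IsCocomm R A := by
  exact Groth.Agent.Hopf35.Cocomm.isCocomm (Fact.out : p.Prime) hp

end Groth.Agent.S15053
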