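import Groth.Statements.S15056
import Mathlib.RingTheory.LocalRing.Basic
import Mathlib.RingTheory.Spectrum.Prime.Basic
import Mathlib.FieldTheory.IsAlgClosed.AlgebraicClosure
import Mathlib.RingTheory.LocalRing.ResidueField.Ideal
import Mathlib.RingTheory.IntegralClosure.IsIntegralClosure.Basic
import Mathlib.RingTheory.Finiteness.Nilpotent
import Mathlib.RingTheory.Nilpotent.Lemmas
import Mathlib.RingTheory.Noetherian.Nilpotent
import Mathlib.RingTheory.Polynomial.Basic

set_option autoImplicit false
universe u
open scoped TensorProduct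
open FrobAlg

namespace Groth.Agent.S15056

/-- Let p be a prime number, R a Noetherian ring of characteristic p and A a finitely generated
commutative Hopf algebra over R (an affine algebraic R-group G = Spec A). The n-fold relative
Frobenius of G is the trivial homomorphism exactly when a^(p^n) = 0 for every a in the augmentation
ideal; G has finite Frobenius height when this holds for some n. Then G has finite Frobenius height
if and only if A is a finite R-module and, for every algebraically closed field K and every ring
homomorphism R → K, the base change K ⊗_R A is a local ring (G is finite over R with connected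
geometric fibres). -/
theorem result (p : ℕ) [Fact p.Prime] (R : Type u) [CommRing R] [CharP R p]
    [IsNoetherianRing R] (A : Type u) [CommRing A] [HopfAlgebra R A] [Algebra.FiniteType R A] :
    (∃ n : ℕ, ∀ a : A, Bialgebra.counitAlgHom R A a = 0 → a ^ p ^ n = 0) ↔
      (Module.Finite R A ∧ ∀ (K : Type u) [Field K] [IsAlgClosed K] [Algebra R K], IsLocalRing (K ⊗[R] A)) := by
  classical
  set ε := Bialgebra.counitAlgHom R A
  haveI : IsNoetherianRing A := Algebra.FiniteType.isNoetherianRing R A
  constructor
  · rintro ⟨n, hn⟩
    have hε : ∀ a : A, ε (a - algebraMap R A (ε a)) = 0 := fun a => by simp [ε]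
    have hp : 0 < p ^ n := pow_pos (Fact.out : p.Prime).pos n
    have hint : Algebra.IsIntegral R A := ⟨fun a => by
      have h0 : IsIntegral R (a - algebraMap R A (ε a)) :=
        IsIntegral.of_pow hp (by rw [hn _ (hε a)]; exact isIntegral_zero)
      simpa using h0.add (isIntegral_algebraMap (R := R) (A := A) (x := ε a))⟩
    refine ⟨Algebra.IsIntegral.finite, fun K _ _ _ => ?_⟩
    let χ : K ⊗[R] A →ₐ[K] K :=
      Algebra.TensorProduct.lift (AlgHom.id K K) ((Algebra.ofId R K).comp ε) (fun x y => Commute.all _ _)
    have hnil : ∀ x, IsNilpotent (x - algebraMap K (K ⊗[R] A) (χ x)) := fun x => by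
      induction x using TensorProduct.induction_on with
      | zero => simp
      | tmul k a =>
        have e : k ⊗ₜ[R] a - algebraMap K (K ⊗[R] A) (χ (k ⊗ₜ[R] a)) = k ⊗ₜ[R] (a - algebraMap R A (ε a)) := by
          rw [TensorProduct.tmul_sub, sub_right_inj, Algebra.algebraMap_eq_smul_one (R := R) (ε a),
            ← TensorProduct.smul_tmul, Algebra.TensorProduct.algebraMap_apply]
          congr 1
          simp [χ, Algebra.smul_def, mul_comm]
        refine ⟨p ^ n, ?_⟩
        rw [e, Algebra.TensorProduct.tmul_pow, hn _ (hε a), TensorProduct.tmul_zero]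
      | add x y hx hy =>
        rw [map_add, map_add, add_sub_add_comm]
        exact (Commute.all _ _).isNilpotent_add hx hy
    have hunit : ∀ x, IsUnit x ↔ χ x ≠ 0 := fun x => by
      refine ⟨fun h => (h.map χ).ne_zero, fun h => ?_⟩
      have h1 := IsNilpotent.isUnit_add_left_of_commute (hnil x) ((h.isUnit).map (algebraMap K (K ⊗[R] A)))
        (Commute.all _ _)
      rwa [add_sub_cancel] at h1
    haveI : Nontrivial (K ⊗[R] A) := χ.toRingHom.domain_nontrivial
    refine IsLocalRing.of_nonunits_add fun a b ha hb => ?_
    simp only [mem_nonunits_iff, hunit, ne_eq, not_not] at ha hb ⊢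
    rw [map_add, ha, hb, add_zero]
  · rintro ⟨hfin, hloc⟩
    have hrad : RingHom.ker ε ≤ nilradical A := by
      intro a ha
      rw [nilradical_eq_sInf, Ideal.mem_sInf]
      intro Q hQ
      have : Q.IsPrime := hQ
      let K := AlgebraicClosure Q.ResidueField
      haveI := hloc K
      let χ₁ : K ⊗[R] A →ₐ[K] K :=
        Algebra.TensorProduct.lift (AlgHom.id K K) ((Algebra.ofId R K).comp ε) (fun x y => Commute.all _ _)
      let χ₂ : K ⊗[R] A →ₐ[K] K :=
        Algebra.TensorProduct.lift (AlgHom.id K K) (IsScalarTower.toAlgHom R A K) (fun x y => Commute.all _ _)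
      have hm : ∀ χ : K ⊗[R] A →ₐ[K] K, RingHom.ker χ = IsLocalRing.maximalIdeal _ := fun χ =>
        IsLocalRing.eq_maximalIdeal (RingHom.ker_isMaximal_of_surjective χ fun k => ⟨algebraMap K _ k, χ.commutes k⟩)
      have h1 : (1 : K) ⊗ₜ[R] a ∈ RingHom.ker χ₁ := by
        simp [χ₁, RingHom.mem_ker, RingHom.mem_ker.1 ha]
      rw [hm χ₁, ← hm χ₂] at h1
      have h2 : algebraMap A K a = 0 := by simpa [χ₂, RingHom.mem_ker] using h1
      rw [IsScalarTower.algebraMap_apply A Q.ResidueField K, map_eq_zero_iff _ (algebraMap Q.ResidueField K).injective,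
        Ideal.algebraMap_residueField_eq_zero] at h2
      exact h2
    obtain ⟨N, hN⟩ := (Ideal.FG.isNilpotent_iff_le_nilradical (IsNoetherian.noetherian (RingHom.ker ε))).mpr hrad
    refine ⟨N, fun a ha => ?_⟩
    have h1 : a ^ N = 0 := by
      have h2 := Ideal.pow_mem_pow (RingHom.mem_ker.2 ha) N
      rw [hN] at h2
      exact h2
    exact pow_eq_zero_of_le (Nat.lt_pow_self (Fact.out : p.Prime).one_lt).le h1

end Groth.Agent.S15056
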