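import Groth.Statements.S15058
import Mathlib
-- import your own Groth.Agent.* helpers here

set_option autoImplicit false
universe u
open FmlGrp

namespace Groth.Agent.S15058

theorem congr_coeff {R : Type u} [CommRing R] (F : MvPowerSeries (Fin 2) R) (j : Fin 2)
    (hj : F.coeff (Finsupp.single j 1) = 1) (g g' : PowerSeries R) (hg : g.constantCoeff = 0)
    (hg' : g'.constantCoeff = 0) (n : ℕ) (h : PowerSeries.X ^ n ∣ g - g') :
    PowerSeries.X ^ (n + 1) ∣
      (MvPowerSeries.subst (Function.update (fun _ => (PowerSeries.X : PowerSeries R)) j g) F : PowerSeries R) -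
        (MvPowerSeries.subst (Function.update (fun _ => (PowerSeries.X : PowerSeries R)) j g') F : PowerSeries R) -
          (g - g') := by
  classical
  have hs : ∀ k : PowerSeries R, k.constantCoeff = 0 →
      MvPowerSeries.HasSubst (Function.update (fun _ : Fin 2 => (PowerSeries.X : PowerSeries R)) j k) := fun k hk =>
    MvPowerSeries.hasSubst_of_constantCoeff_zero fun s => by
      rcases eq_or_ne s j with rfl | hsj
      · rw [Function.update_self]; exact hk
      · rw [Function.update_of_ne hsj]; exact PowerSeries.constantCoeff_X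
  rw [PowerSeries.X_pow_dvd_iff]
  intro m hm
  have key : ∀ d : Fin 2 →₀ ℕ, d ≠ Finsupp.single j 1 → PowerSeries.X ^ (n + 1) ∣
      d.prod (fun s e => Function.update (fun _ => (PowerSeries.X : PowerSeries R)) j g s ^ e) -
        d.prod (fun s e => Function.update (fun _ => (PowerSeries.X : PowerSeries R)) j g' s ^ e) := by
    intro d hd
    have hprod : ∀ k : PowerSeries R,
        d.prod (fun s e => Function.update (fun _ => (PowerSeries.X : PowerSeries R)) j k s ^ e) =
          PowerSeries.X ^ d (j + 1) * k ^ d j := by
      intro k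
      rw [Finsupp.prod_fintype _ _ (fun s => pow_zero _), Fin.prod_univ_two]
      fin_cases j <;> simp [mul_comm]
    rw [hprod, hprod, ← mul_sub, ← geom_sum₂_mul]
    rcases Nat.eq_zero_or_pos (d j) with h0 | hpos
    · simp [h0]
    have hij : 1 ≤ d (j + 1) + (d j - 1) := by
      by_contra hlt
      push Not at hlt
      refine hd (Finsupp.ext fun s => ?_)
      fin_cases j <;> fin_cases s <;> simp_all <;> omega
    have hX : ∀ k : PowerSeries R, k.constantCoeff = 0 → ∀ e, PowerSeries.X ^ e ∣ k ^ e := fun k hk e =>
      pow_dvd_pow_of_dvd (PowerSeries.X_dvd_iff.2 hk) e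
    have hgeom : PowerSeries.X ^ (d j - 1) ∣ ∑ i ∈ Finset.range (d j), g ^ i * g' ^ (d j - 1 - i) :=
      Finset.dvd_sum fun i hi => by
        have hi' : i ≤ d j - 1 := by have := Finset.mem_range.1 hi; omega
        conv_lhs => rw [← Nat.add_sub_cancel' hi', pow_add]
        exact mul_dvd_mul (hX g hg i) (hX g' hg' _)
    refine (pow_dvd_pow _ (show n + 1 ≤ d (j + 1) + ((d j - 1) + n) by omega)).trans ?_
    rw [pow_add, pow_add]
    exact mul_dvd_mul dvd_rfl (mul_dvd_mul hgeom h)
  have hfin : ∀ k : PowerSeries R, k.constantCoeff = 0 → (fun d => MvPowerSeries.coeff d F •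
      (MvPowerSeries.coeff (Finsupp.single () m) (d.prod fun s e =>
        Function.update (fun _ => (PowerSeries.X : PowerSeries R)) j k s ^ e))).HasFiniteSupport :=
    fun k hk => MvPowerSeries.coeff_subst_finite (hs k hk) F _
  rw [map_sub, map_sub]
  show MvPowerSeries.coeff (Finsupp.single () m) (MvPowerSeries.subst _ F) -
    MvPowerSeries.coeff (Finsupp.single () m) (MvPowerSeries.subst _ F) - _ = 0
  rw [MvPowerSeries.coeff_subst (hs g hg), MvPowerSeries.coeff_subst (hs g' hg'),
    ← finsum_sub_distrib (hfin g hg) (hfin g' hg'), finsum_eq_single _ (Finsupp.single j 1)]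
  · rw [hj, one_smul, one_smul]
    simp [Finsupp.prod_single_index, PowerSeries.coeff]
    simp only [map_sub, sub_self]
  · intro d hd
    rw [← smul_sub, ← map_sub]
    have h1 := (PowerSeries.X_pow_dvd_iff.1 (key d hd)) m hm
    simp only [PowerSeries.coeff] at h1
    rw [h1, smul_zero]

theorem exists_right_inverse {R : Type u} [CommRing R] (F : MvPowerSeries (Fin 2) R)
    (h0 : F.constantCoeff = 0) (j : Fin 2) (hj : F.coeff (Finsupp.single j 1) = 1) :
    ∃ g : PowerSeries R, g.constantCoeff = 0 ∧
      (MvPowerSeries.subst (Function.update (fun _ => (PowerSeries.X : PowerSeries R)) j g) F : PowerSeries R) = 0 := by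
  let Φ : PowerSeries R → PowerSeries R := fun g => g -
    MvPowerSeries.subst (Function.update (fun _ => (PowerSeries.X : PowerSeries R)) j g) F
  have hs : ∀ k : PowerSeries R, k.constantCoeff = 0 →
      MvPowerSeries.HasSubst (Function.update (fun _ : Fin 2 => (PowerSeries.X : PowerSeries R)) j k) := fun k hk =>
    MvPowerSeries.hasSubst_of_constantCoeff_zero fun s => by
      rcases eq_or_ne s j with rfl | hsj
      · rw [Function.update_self]; exact hk
      · rw [Function.update_of_ne hsj]; exact PowerSeries.constantCoeff_X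
  have hΦ0 : ∀ k : PowerSeries R, k.constantCoeff = 0 → (Φ k).constantCoeff = 0 := fun k hk => by
    have h1 : PowerSeries.constantCoeff
        (MvPowerSeries.subst (Function.update (fun _ => (PowerSeries.X : PowerSeries R)) j k) F : PowerSeries R) = 0 := by
      refine MvPowerSeries.constantCoeff_subst_eq_zero (hs k hk) (fun s => ?_) h0
      rcases eq_or_ne s j with rfl | hsj
      · rw [Function.update_self]; exact hk
      · rw [Function.update_of_ne hsj]; exact PowerSeries.constantCoeff_X
    rw [map_sub, hk, h1, sub_zero]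
  let s : ℕ → PowerSeries R := fun n => Φ^[n] 0
  have hs0 : ∀ n, (s n).constantCoeff = 0 := fun n => by
    induction n with
    | zero => exact map_zero _
    | succ n ih => simp only [s, Function.iterate_succ_apply']; exact hΦ0 _ ih
  have hcong : ∀ n g g', g.constantCoeff = 0 → g'.constantCoeff = 0 → PowerSeries.X ^ n ∣ g - g' →
      PowerSeries.X ^ (n + 1) ∣ Φ g - Φ g' := fun n g g' hg hg' h => by
    have := (congr_coeff F j hj g g' hg hg' n h).neg_right
    simp only [Φ]
    convert this using 1
    ring
  have hstep : ∀ n, PowerSeries.X ^ (n + 1) ∣ s (n + 1) - s n := fun n => by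
    induction n with
    | zero => exact (pow_one (PowerSeries.X : PowerSeries R)).symm ▸ PowerSeries.X_dvd_iff.2 (by rw [map_sub, hs0, hs0, sub_zero])
    | succ n ih =>
      simp only [s, Function.iterate_succ_apply'] at ih ⊢
      exact hcong _ _ _ (hΦ0 _ (hs0 n)) (hs0 n) ih
  let g : PowerSeries R := PowerSeries.mk fun n => PowerSeries.coeff n (s n)
  have hlim : ∀ n, PowerSeries.X ^ (n + 1) ∣ g - s n := by
    intro n
    rw [PowerSeries.X_pow_dvd_iff]
    intro m hm
    rw [map_sub, PowerSeries.coeff_mk, sub_eq_zero]
    clear_value g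
    obtain ⟨e, rfl⟩ := Nat.exists_eq_add_of_le (Nat.lt_succ_iff.1 hm)
    clear hm
    induction e with
    | zero => rfl
    | succ e ih =>
      rw [ih]
      refine (sub_eq_zero.1 ?_).symm
      rw [← map_sub]
      exact PowerSeries.X_pow_dvd_iff.1 (hstep (m + e)) m (by omega)
  have hg : g.constantCoeff = 0 := by
    rw [← PowerSeries.coeff_zero_eq_constantCoeff_apply, PowerSeries.coeff_mk]
    simp [s]
  refine ⟨g, hg, ?_⟩
  ext m
  have h1 := hcong (m + 1) g (s m) hg (hs0 m) (hlim m)
  have h2 : PowerSeries.X ^ (m + 1) ∣ Φ g - g := by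
    have h3 : PowerSeries.X ^ (m + 1) ∣ Φ (s m) - g := by
      have h4 : Φ (s m) = s (m + 1) := by simp only [s, Function.iterate_succ_apply']
      rw [h4, show s (m + 1) - g = -(g - s (m + 1)) by ring]
      exact (dvd_trans (pow_dvd_pow _ (Nat.le_succ _)) (hlim (m + 1))).neg_right
    rw [show Φ g - g = (Φ g - Φ (s m)) + (Φ (s m) - g) by ring]
    exact dvd_add (dvd_trans (pow_dvd_pow _ (Nat.le_succ _)) h1) h3
  have h5 := PowerSeries.X_pow_dvd_iff.1 h2 m (Nat.lt_succ_self m)
  simp only [Φ, sub_sub_cancel_left, map_neg, neg_eq_zero] at h5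
  rw [h5, map_zero]


/-- Let R be a commutative ring and F(X,Y) ∈ R[[X,Y]] a one-dimensional formal group law (zero constant
term, linear part X + Y, associative). Then there is a power series g(X) ∈ R[[X]] with zero constant
term which is a two-sided inverse for F, F(X, g(X)) = 0 = F(g(X), X), and it is unique: every power
series with zero constant term which is a right inverse or a left inverse equals g. (The published
text proves this for formal group laws of any finite dimension with coefficients in a complete
Noetherian local ring; the argument is a formal degree-by-degree construction, and this row states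
the one-dimensional case over an arbitrary commutative ring.) -/
theorem result (R : Type u) [CommRing R] (F : FormalGroup R) :
    ∃ g : PowerSeries R, g.constantCoeff = 0 ∧
      F.toPowerSeries.subst ![PowerSeries.X, g] = (0 : PowerSeries R) ∧
      F.toPowerSeries.subst ![g, PowerSeries.X] = (0 : PowerSeries R) ∧
      ∀ k : PowerSeries R, k.constantCoeff = 0 →
        (F.toPowerSeries.subst ![PowerSeries.X, k] = (0 : PowerSeries R) ∨
          F.toPowerSeries.subst ![k, PowerSeries.X] = (0 : PowerSeries R)) → k = g := by
  obtain ⟨g, hg0, hg⟩ := exists_right_inverse F.toPowerSeries F.zero_constantCoeff 1 F.lin_coeff_Y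
  obtain ⟨h, hh0, hh⟩ := exists_right_inverse F.toPowerSeries F.zero_constantCoeff 0 F.lin_coeff_X
  rw [show Function.update (fun _ : Fin 2 => (PowerSeries.X : PowerSeries R)) 1 g = ![PowerSeries.X, g] from
    funext fun i => by fin_cases i <;> rfl] at hg
  rw [show Function.update (fun _ : Fin 2 => (PowerSeries.X : PowerSeries R)) 0 h = ![h, PowerSeries.X] from
    funext fun i => by fin_cases i <;> rfl] at hh
  have hsX : PowerSeries.HasSubst (PowerSeries.X : PowerSeries R) := PowerSeries.HasSubst.X'
  have hsub : ∀ k : PowerSeries R, k.constantCoeff = 0 → PowerSeries.HasSubst k :=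
    fun k hk => PowerSeries.HasSubst.of_constantCoeff_zero' hk
  have hright : ∀ k : PowerSeries R, k.constantCoeff = 0 →
      F.toPowerSeries.subst ![PowerSeries.X, k] = (0 : PowerSeries R) → k = h := by
    intro k hk hkr
    have := F.assoc' (hsub h hh0) hsX (hsub k hk)
    rw [hh, hkr, F.zero_add (hsub k hk), F.add_zero (hsub h hh0)] at this
    exact this
  have hgh : g = h := hright g hg0 hg
  refine ⟨g, hg0, hg, hgh ▸ hh, fun k hk hkk => ?_⟩
  rcases hkk with hkr | hkl
  · exact (hright k hk hkr).trans hgh.symm
  · have := F.assoc' (hsub k hk) hsX (hsub g hg0)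
    rw [hkl, hg, F.zero_add (hsub g hg0), F.add_zero (hsub k hk)] at this
    exact this.symm

end Groth.Agent.S15058
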