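import Groth.Statements.S1506
import Groth.Agent.FlatMor67.PCSourceScheme
import Groth.Agent.S1508

set_option autoImplicit false
universe u
attribute [local instance] HasDerivedCategory.standard
open FlatMor

namespace Groth.Agent.S1506

open AlgebraicGeometry CategoryTheory Limits in
/-- Let a : X' → X be flat, surjective and locally of finite presentation and f : X → S. Then f is
pseudo-coherent if and only if a ≫ f is. -/
theorem result {X X' S : Scheme.{u}} (f : X ⟶ S) (a : X' ⟶ X) [Flat a] [Surjective a] [LocallyOfFinitePresentation a] :
    MoreMor.IsPseudoCoherentMor f ↔ MoreMor.IsPseudoCoherentMor (a ≫ f) := by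
  refine ⟨fun h => S1504.result a f (fun U V hU hV e => (S7172.result a U V hU hV e).1) h,
    FlatMor67.PCSource.pcMor_of_fppf_cover f a⟩

end Groth.Agent.S1506
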