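import Groth.Statements.S15060
import Groth.Agent.LT32.Log

set_option autoImplicit false
universe u
open LubinTate

namespace Groth.Agent.S15060

/-- Let O be a discrete valuation ring with finite residue field of cardinality q, π a uniformizer of O,
f = πT + T^q ∈ O[[T]], and F a one-dimensional formal group law over O for which f is an
endomorphism, f(F(X,Y)) = F(f(X), f(Y)). For α ∈ O write [α] for a power series with zero constant
term and linear coefficient α commuting with f (it is unique). Then for all α, β ∈ O and all such
series [α], [β], [αβ], [α+β] one has [α]([β](T)) = [αβ](T) and F([α](T), [β](T)) = [α+β](T): the map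
α ↦ [α] is a ring homomorphism from O to the endomorphisms of F with their formal-group addition and
composition. (The published statement is for the ring of integers of a finite extension of ℚ_p or of
𝔽_q((X)); completeness is not used and any discrete valuation ring with finite residue field is
allowed here.) -/
theorem result (O : Type u) [CommRing O] [IsDomain O] [IsDiscreteValuationRing O]
    [Finite (IsLocalRing.ResidueField O)] (π : O) (hπ : Irreducible π) (f : PowerSeries O)
    (hf : f = π • PowerSeries.X + PowerSeries.X ^ Nat.card (IsLocalRing.ResidueField O))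
    (F : FormalGroup O)
    (hF : PowerSeries.subst F.toPowerSeries f =
        MvPowerSeries.subst (fun i : Fin 2 => PowerSeries.subst (MvPowerSeries.X i : MvPowerSeries (Fin 2) O) f)
          F.toPowerSeries)
    (α β : O) (gα gβ gαβ gs : PowerSeries O)
    (hα0 : gα.constantCoeff = 0) (hα1 : gα.coeff 1 = α) (hαf : PowerSeries.subst gα f = PowerSeries.subst f gα)
    (hβ0 : gβ.constantCoeff = 0) (hβ1 : gβ.coeff 1 = β) (hβf : PowerSeries.subst gβ f = PowerSeries.subst f gβ)
    (hαβ0 : gαβ.constantCoeff = 0) (hαβ1 : gαβ.coeff 1 = α * β)
    (hαβf : PowerSeries.subst gαβ f = PowerSeries.subst f gαβ)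
    (hs0 : gs.constantCoeff = 0) (hs1 : gs.coeff 1 = α + β) (hsf : PowerSeries.subst gs f = PowerSeries.subst f gs) :
    PowerSeries.subst gβ gα = gαβ ∧ F.toPowerSeries.subst ![gα, gβ] = gs := by
  subst hf
  have eα := LT32.isEndo_of_series (π := π) hα0 hαf
  have eβ := LT32.isEndo_of_series (π := π) hβ0 hβf
  have eF := LT32.isEndo_formalGroup F hF
  have eb : ∀ i : Fin 2, LT31.IsEndo π (σ := Unit) (![gα, gβ] i) := by
    intro i
    fin_cases i <;> assumption
  refine ⟨LT32.isEndo_ext hπ (eα.comp fun _ => eβ) (LT32.isEndo_of_series hαβ0 hαβf) fun i => ?_,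
    LT32.isEndo_ext hπ (eF.comp eb) (LT32.isEndo_of_series hs0 hsf) fun i => ?_⟩
  · refine (LT31.coeff_single_subst eα.1 (fun _ => eβ.1) i).trans ?_
    simp only [Finset.univ_unique, Finset.sum_singleton, LT32.coeff_series_one, hα1, hβ1, hαβ1]
  · refine (LT31.coeff_single_subst eF.1 (fun j => (eb j).1) i).trans ?_
    simp only [Fin.sum_univ_two, Matrix.cons_val_zero, Matrix.cons_val_one, LT32.coeff_series_one,
      hα1, hβ1, hs1, F.lin_coeff_X, F.lin_coeff_Y, one_mul]

end Groth.Agent.S15060
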