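import Groth.Statements.S15062
import Groth.Agent.FinHopf34.Conn

set_option autoImplicit false
universe u
open scoped TensorProduct
open Hopf

namespace Groth.Agent.S15062

open Groth.Agent.FinHopf34
/-- Let R be a henselian Noetherian local ring and A a commutative Hopf algebra over R which is finite
and flat as an R-module (a finite flat R-group G = Spec A, not assumed commutative); let e ∈ A be an
idempotent with ε(e) = 1 such that A/(1 − e) is a local ring, so that G⁰ = Spec A/(1 − e) is the
connected component of the unit section, and let B ⊆ A be the subalgebra of functions invariant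
under right translation by G⁰: the equaliser of a ↦ (id ⊗ π)(Δ a) and a ↦ a ⊗ 1 into A ⊗_R A/(1 − e)
(so Spec B = G^ét). Then: (2) for every commutative Hopf algebra C over R which is finite étale over
R (a finite étale R-group H) and every bialgebra homomorphism φ : C → A (a homomorphism G → H), the
image of φ lies in B — the homomorphism factors (necessarily uniquely, A being faithfully flat over
B) through G → G^ét; (3) for every commutative Hopf algebra D over R which is finite and flat over R
and a local ring (a connected finite flat R-group H) and every bialgebra homomorphism ψ : A → D (a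
homomorphism H → G), ψ(e) = 1, i.e. ψ kills the ideal (1 − e) and the homomorphism factors
(uniquely) through G⁰ → G. -/
theorem result (R : Type u) [CommRing R] [HenselianLocalRing R] [IsNoetherianRing R]
    (A : Type u) [CommRing A] [HopfAlgebra R A] [Module.Finite R A] [Module.Flat R A]
    (e : A) (he : IsIdempotentElem e) (hε : Bialgebra.counitAlgHom R A e = 1)
    [IsLocalRing (A ⧸ Ideal.span ({1 - e} : Set A))] :
    (∀ (C : Type u) [CommRing C] [HopfAlgebra R C] [Module.Finite R C] [Algebra.Etale R C] (φ : C →ₐc[R] A) (c : C),
        φ c ∈ (AlgHom.equalizer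
          ((Algebra.TensorProduct.map (AlgHom.id R A) (Ideal.Quotient.mkₐ R (Ideal.span ({1 - e} : Set A)))).comp
            (Bialgebra.comulAlgHom R A))
          (Algebra.TensorProduct.includeLeft : A →ₐ[R] A ⊗[R] (A ⧸ Ideal.span ({1 - e} : Set A))))) ∧
      ∀ (D : Type u) [CommRing D] [HopfAlgebra R D] [Module.Finite R D] [Module.Flat R D] [IsLocalRing D]
        (ψ : A →ₐc[R] D), ψ e = 1 := by
  refine ⟨fun C _ _ _ _ φ c => ?_, fun D _ _ _ _ _ ψ => ?_⟩
  · let π := Ideal.Quotient.mkₐ R (unitI e)
    have key : π.comp (φ : C →ₐ[R] A) = (Algebra.ofId R (A ⧸ unitI e)).comp (Bialgebra.counitAlgHom R C) := by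
      refine eq_of_unramified _ _ fun d => ?_
      have h := sub_aug_mem_jac (counit0 hε) (AlgHom.id R (A ⧸ unitI e)) (π (φ d))
      have h2 : counit0 hε (π (φ d)) = Bialgebra.counitAlgHom R C d :=
        CoalgHomClass.counit_comp_apply φ d
      rw [h2] at h
      exact h
    show Algebra.TensorProduct.map (AlgHom.id R A) π (CoalgebraStruct.comul (R := R) (φ c)) = φ c ⊗ₜ[R] 1
    rw [← CoalgHomClass.map_comp_comul_apply φ c]
    have h : ∀ z : C ⊗[R] C, Algebra.TensorProduct.map (AlgHom.id R A) π
        (TensorProduct.map (φ : C →ₗ[R] A) (φ : C →ₗ[R] A) z) =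
        φ (TensorProduct.rid R C ((CoalgebraStruct.counit (R := R) (A := C)).lTensor C z)) ⊗ₜ[R] 1 := by
      intro z
      induction z with
      | zero => simp
      | add p q hp hq => simp only [map_add, TensorProduct.add_tmul, hp, hq]
      | tmul a b =>
        have hb : π (φ b) = algebraMap R (A ⧸ unitI e) (CoalgebraStruct.counit (R := R) b) := DFunLike.congr_fun key b
        simp only [TensorProduct.map_tmul, Algebra.TensorProduct.map_tmul, LinearMap.lTensor_tmul,
          TensorProduct.rid_tmul]
        show φ a ⊗ₜ[R] π (φ b) = _
        rw [hb, map_smul, Algebra.algebraMap_eq_smul_one, TensorProduct.tmul_smul, TensorProduct.smul_tmul']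
    rw [h, Coalgebra.lTensor_counit_comul]
    simp
  · rcases IsLocalRing.isUnit_or_isUnit_of_add_one (a := ψ e) (b := 1 - ψ e) (by abel) with hu | hu
    · exact IsIdempotentElem.iff_eq_one_of_isUnit hu |>.1 (he.map (ψ : A →ₐ[R] D))
    · have h1 : ψ e = 0 := by
        have h := (he.map (ψ : A →ₐ[R] D)).one_sub
        have h2 := (IsIdempotentElem.iff_eq_one_of_isUnit hu).1 h
        simpa using h2
      have h3 : (Bialgebra.counitAlgHom R A e : R) = Bialgebra.counitAlgHom R D (ψ e) := (CoalgHomClass.counit_comp_apply ψ e).symm
      rw [h1, map_zero, hε] at h3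
      exact absurd h3 one_ne_zero

end Groth.Agent.S15062
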