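import Groth.Statements.S15063
import Groth.Agent.FinHopf34.Conn

set_option autoImplicit false
universe u
open Hopf

namespace Groth.Agent.S15063

open Groth.Agent.FinHopf34 TensorProduct
universe w

theorem conv3_comp {k : Type u} [CommRing k] {A : Type u} [CommRing A] [HopfAlgebra k A] {C D : Type u}
    [CommRing C] [Algebra k C] [CommRing D] [Algebra k D] (L : C →ₐ[k] D) (f g h : A →ₐ[k] C) (a : A) :
    Dyn.conv3 k A (L.comp f) (L.comp g) (L.comp h) a = L (Dyn.conv3 k A f g h a) := by
  show Algebra.TensorProduct.lmul' (S := D) k (Algebra.TensorProduct.map _ _ _) =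
    L (Algebra.TensorProduct.lmul' (S := C) k (Algebra.TensorProduct.map _ _ _))
  suffices key : ∀ z : (A ⊗[k] A) ⊗[k] A, Algebra.TensorProduct.lmul' (S := D) k (Algebra.TensorProduct.map
      ((Algebra.TensorProduct.lmul' (S := D) k).comp (Algebra.TensorProduct.map (L.comp f) (L.comp g))) (L.comp h) z) =
      L (Algebra.TensorProduct.lmul' (S := C) k (Algebra.TensorProduct.map
        ((Algebra.TensorProduct.lmul' (S := C) k).comp (Algebra.TensorProduct.map f g)) h z)) from key _
  intro z
  induction z with
  | zero => simp
  | add p q hp hq => simp only [map_add, hp, hq]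
  | tmul w c =>
    induction w with
    | zero => simp
    | add p q hp hq => simp only [TensorProduct.add_tmul, map_add, hp, hq]
    | tmul x y => simp

theorem conv3_unit {k : Type u} [CommRing k] {A : Type u} [CommRing A] [HopfAlgebra k A] (a : A) :
    Dyn.conv3 k A (AlgHom.id k A) ((Algebra.ofId k A).comp (Bialgebra.counitAlgHom k A))
      (HopfAlgebra.antipodeAlgHom k A) a = algebraMap k A (Bialgebra.counitAlgHom k A a) := by
  show Algebra.TensorProduct.lmul' (S := A) k (Algebra.TensorProduct.map _ _ ((Algebra.TensorProduct.map _ _)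
    (CoalgebraStruct.comul (R := k) a))) = _
  have h1 : ∀ w : A ⊗[k] A, Algebra.TensorProduct.lmul' (S := A) k
      (Algebra.TensorProduct.map (AlgHom.id k A) ((Algebra.ofId k A).comp (Bialgebra.counitAlgHom k A)) w) =
      TensorProduct.rid k A ((CoalgebraStruct.counit (R := k) (A := A)).lTensor A w) := by
    intro w
    induction w with
    | zero => simp
    | add p q hp hq => simp only [map_add, hp, hq]
    | tmul x y => simp [Algebra.smul_def, mul_comm]
  have h2 : ∀ z : A ⊗[k] A, Algebra.TensorProduct.lmul' (S := A) k (Algebra.TensorProduct.map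
      ((Algebra.TensorProduct.lmul' (S := A) k).comp
        (Algebra.TensorProduct.map (AlgHom.id k A) ((Algebra.ofId k A).comp (Bialgebra.counitAlgHom k A))))
      (HopfAlgebra.antipodeAlgHom k A)
      (Algebra.TensorProduct.map (Bialgebra.comulAlgHom k A) (AlgHom.id k A) z)) =
      LinearMap.mul' k A ((HopfAlgebraStruct.antipode (R := k) (A := A)).lTensor A z) := by
    intro z
    induction z with
    | zero => simp
    | add p q hp hq => simp only [map_add, hp, hq]
    | tmul x y =>
      simp only [Algebra.TensorProduct.map_tmul, AlgHom.comp_apply, Algebra.TensorProduct.lmul'_apply_tmul,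
        LinearMap.lTensor_tmul, LinearMap.mul'_apply, Bialgebra.comulAlgHom_apply, AlgHom.coe_id, id_eq]
      rw [h1, Coalgebra.lTensor_counit_comul]
      simp
  rw [h2, HopfAlgebra.mul_antipode_lTensor_comul_apply]
  rfl

/-- Let R be a henselian Noetherian local ring and A a commutative Hopf algebra over R which is finite
and flat as an R-module (a finite flat R-group G = Spec A, not assumed commutative); let e ∈ A be an
idempotent with ε(e) = 1 such that A/(1 − e) is a local ring, so that Spec A/(1 − e) is the
connected component G⁰ of G containing the unit section. Then G⁰ is normal in G: for every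
commutative R-algebra T, every T-valued point g of G and every T-valued point h of G killing the
ideal (1 − e), the conjugate g·h·g⁻¹ again kills (1 − e). (The published statement is for a flat
affine algebraic R-group and also asserts that G⁰ is an open and closed flat subgroup; this row
states the normality clause for finite flat G.) -/
theorem result (R : Type u) [CommRing R] [HenselianLocalRing R] [IsNoetherianRing R]
    (A : Type u) [CommRing A] [HopfAlgebra R A] [Module.Finite R A] [Module.Flat R A]
    (e : A) (he : IsIdempotentElem e) (hε : Bialgebra.counitAlgHom R A e = 1)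
    [IsLocalRing (A ⧸ Ideal.span ({1 - e} : Set A))] :
    SGA3.IsNormalHopfIdeal R A (Ideal.span ({1 - e} : Set A)) := by
  intro T _ _ g h hh a ha
  let Q := A ⧸ unitI e
  let π := Ideal.Quotient.mkₐ R (unitI e)
  let g₀ : A →ₐ[R] A ⊗[R] Q := Algebra.TensorProduct.includeLeft
  let h₀ : A →ₐ[R] A ⊗[R] Q := (Algebra.TensorProduct.includeRight : Q →ₐ[R] A ⊗[R] Q).comp π
  let c := Dyn.conv3 R A g₀ h₀ (g₀.comp (HopfAlgebra.antipodeAlgHom R A))
  have hc : c e = 1 := by
    let E : A ⊗[R] Q →ₐ[R] A :=
      Algebra.TensorProduct.lift (AlgHom.id R A) ((Algebra.ofId R A).comp (counit0 hε)) (fun _ _ => Commute.all _ _)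
    have h1 : E (c e) = 1 := by
      rw [← conv3_comp]
      have e1 : E.comp g₀ = AlgHom.id R A := AlgHom.ext fun x => by simp [E, g₀]
      have e2 : E.comp h₀ = (Algebra.ofId R A).comp (Bialgebra.counitAlgHom R A) := AlgHom.ext fun x => by
        simp only [E, h₀, π, AlgHom.comp_apply, Algebra.TensorProduct.includeRight_apply,
          Algebra.TensorProduct.lift_tmul, map_one, one_mul]
        rfl
      rw [e2, ← AlgHom.comp_assoc, e1, AlgHom.id_comp, conv3_unit, hε, map_one]
    refine eq_of_idem_sub_mem_jac (he.map c) IsIdempotentElem.one ?_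
    have h2 := tmul_sub_mem_jac (counit0 hε) (c e)
    have h3 : ∀ z : A ⊗[R] Q, TensorProduct.rid R A ((counit0 hε).toLinearMap.lTensor A z) = E z := by
      intro z
      induction z with
      | zero => simp
      | add p q hp hq => simp only [map_add, hp, hq]
      | tmul x y => simp [E, Algebra.smul_def, mul_comm]
    rw [h3, h1] at h2
    exact h2
  have hh' : ∀ x ∈ unitI e, h x = 0 := hh
  let L : A ⊗[R] Q →ₐ[R] T :=
    Algebra.TensorProduct.lift g (Ideal.Quotient.liftₐ (unitI e) h hh') (fun _ _ => Commute.all _ _)
  have e1 : L.comp g₀ = g := AlgHom.ext fun x => by simp [L, g₀]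
  have e2 : L.comp h₀ = h := AlgHom.ext fun x => by
    simp only [L, h₀, π, AlgHom.comp_apply, Algebra.TensorProduct.includeRight_apply, Algebra.TensorProduct.lift_tmul,
      map_one, one_mul]
    rfl
  have key : ∀ x, Dyn.conv3 R A g h (g.comp (HopfAlgebra.antipodeAlgHom R A)) x = L (c x) := by
    intro x
    rw [← conv3_comp, e2, ← AlgHom.comp_assoc, e1]
  obtain ⟨b, rfl⟩ := Ideal.mem_span_singleton'.1 ha
  rw [key, map_mul, map_sub, map_one, hc, sub_self, mul_zero, map_zero]

end Groth.Agent.S15063
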