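import Groth.Statements.S15064
import Groth.Agent.FinHopf34.Primitive
import Groth.Agent.S11931

set_option autoImplicit false
universe u
open scoped TensorProduct
open Hopf

namespace Groth.Agent.S15064

/-- Let k be a field of characteristic p > 0 and A a finite-dimensional commutative and cocommutative
Hopf algebra over k (a finite commutative k-group G = Spec A) which is bi-infinitesimal — A is a
local ring and so is the dual algebra Hom_k(A, k) with the convolution product (G and its Cartier
dual are connected) — with dim_k A > 1, and assume G is simple: every Hopf ideal of A is either zero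
or the augmentation ideal (G has no closed subgroup schemes other than G and 1). Then G is
isomorphic to α_p: A has a primitive element x (Δ(x) = x ⊗ 1 + 1 ⊗ x) with x^p = 0 whose powers 1,
x, …, x^(p−1) are linearly independent over k, and dim_k A = p (so A = k[x]/(x^p) with x primitive). -/
theorem result (k : Type u) [Field k] (p : ℕ) [Fact p.Prime] [CharP k p]
    (A : Type u) [CommRing A] [HopfAlgebra k A] [Coalgebra.IsCocomm k A] [FiniteDimensional k A] [IsLocalRing A]
    (hdual : IsLocalRing (WithConv (A →ₗ[k] k))) (hA : 1 < Module.finrank k A)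
    (hsimple : ∀ I : Ideal A, I.IsHopfIdeal k → I = ⊥ ∨ I = RingHom.ker (Bialgebra.counitAlgHom k A)) :
    ∃ x : A, Coalgebra.comul x = x ⊗ₜ[k] (1 : A) + (1 : A) ⊗ₜ[k] x ∧ x ^ p = 0 ∧
      LinearIndependent k (fun i : Fin p => x ^ (i : ℕ)) ∧ Module.finrank k A = p := by
  obtain ⟨x, hx0, hx⟩ := S11931.result k A hA hdual
  obtain ⟨t, ht, ht0, htp⟩ := FinHopf34.IsPrim.exists_pow_char_eq_zero p hx hx0
  have hI : Ideal.span ({t} : Set A) = RingHom.ker (Bialgebra.counitAlgHom k A) :=
    (hsimple _ (FinHopf34.isHopfIdeal_span_prim ht)).resolve_left fun h => ht0 (Ideal.span_singleton_eq_bot.1 h)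
  have h1 : ∀ f : A, Bialgebra.counitAlgHom k A f = 0 → f ^ p = 0 := by
    intro f hf
    rw [← RingHom.mem_ker, ← hI, Ideal.mem_span_singleton'] at hf
    obtain ⟨a, rfl⟩ := hf
    rw [mul_pow, htp, mul_zero]
  have hsurj := Comod33.Infinitesimal.surjective_aeval (k := k) (A := A)
    (Comod33.Infinitesimal.isNilpotent_aug (k := k) (A := A)) (fun _ : Fin 1 => t)
    (by rw [Set.range_const, hI]; exact le_sup_left)
    (fun _ => show t ∈ RingHom.ker (Bialgebra.counitAlgHom k A) by rw [← hI]; exact Ideal.mem_span_singleton_self _)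
  have hspan : (Submodule.span k (Set.range fun i : Fin p => t ^ (i : ℕ))) = ⊤ := by
    refine Submodule.eq_top_iff'.2 fun a => ?_
    obtain ⟨P, rfl⟩ := hsurj a
    have hpow : ∀ n : ℕ, t ^ n ∈ Submodule.span k (Set.range fun i : Fin p => t ^ (i : ℕ)) := fun n => by
      by_cases hn : n < p
      · exact Submodule.subset_span ⟨⟨n, hn⟩, rfl⟩
      · rw [pow_eq_zero_of_le (not_lt.1 hn) htp]; exact Submodule.zero_mem _
    rw [MvPolynomial.aeval_def, MvPolynomial.eval₂_eq']
    refine Submodule.sum_mem _ fun d _ => ?_
    simp only [Finset.univ_unique, Finset.prod_singleton, ← Algebra.smul_def]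
    exact Submodule.smul_mem _ _ (hpow _)
  have hle : Module.finrank k A ≤ p := by
    rw [← finrank_top k A, ← hspan]
    exact (finrank_range_le_card _).trans (Fintype.card_fin p).le
  have heq := FinHopf34.finrank_eq_pow_cotangent (k := k) (A := A) p h1
  have hp : Module.finrank k A = p := by
    rcases Nat.lt_or_ge (Module.finrank k (RingHom.ker (Bialgebra.counitAlgHom k A)).Cotangent) 1 with h | h
    · rw [heq, Nat.lt_one_iff.1 h, pow_zero] at hA; omega
    · exact le_antisymm hle (heq ▸ Nat.le_self_pow (show Module.finrank k (RingHom.ker (Bialgebra.counitAlgHom k A)).Cotangent ≠ 0 by omega) p)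
  exact ⟨t, ht, htp, linearIndependent_of_top_le_span_of_card_eq_finrank hspan.ge
    (by rw [Fintype.card_fin, hp]), hp⟩

end Groth.Agent.S15064
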