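import Groth.Statements.S15065
import Groth.Agent.S7974
import Groth.Agent.Hopf35.EtaleDual

set_option autoImplicit false
universe u
open Hopf

namespace Groth.Agent.S15065

/-- Let k be an algebraically closed field and A a finite-dimensional commutative and cocommutative Hopf
algebra over k which is reduced (a finite étale commutative k-group G = Spec A), with dim_k A > 1,
and assume G is simple: every Hopf ideal of A is either zero or the augmentation ideal (no closed
subgroup schemes other than G and 1). Then the order dim_k A is a prime number ℓ, so that G is the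
constant group ℤ/ℓℤ. (The published statement lists the simple finite commutative groups over an
algebraically closed field of characteristic p > 0; the étale case does not use the characteristic
and is stated here for any algebraically closed field.) -/
theorem result (k : Type u) [Field k] [IsAlgClosed k] (A : Type u) [CommRing A] [HopfAlgebra k A]
    [Coalgebra.IsCocomm k A] [FiniteDimensional k A] [IsReduced A] (hA : 1 < Module.finrank k A)
    (hsimple : ∀ I : Ideal A, I.IsHopfIdeal k → I = ⊥ ∨ I = RingHom.ker (Bialgebra.counitAlgHom k A)) :
    (Module.finrank k A).Prime := by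
  haveI : Finite (A →ₐ[k] k) := Comod33.FinGrp.finite_points
  haveI : Finite (WithConv (A →ₐ[k] k)) := Finite.of_injective _ WithConv.ofConv_injective
  have hcard : Nat.card (WithConv (A →ₐ[k] k)) = Module.finrank k A :=
    (Nat.card_congr (WithConv.equiv (A →ₐ[k] k))).trans (by
      refine le_antisymm ?_ ?_
      · exact Hopf35.EtaleDual.card_points_le
      · exact le_of_eq Hopf35.EtaleDual.card_points_of_isReduced.symm)
  obtain ⟨q, hq, hdvd⟩ := Nat.exists_prime_and_dvd (ne_of_gt hA)
  haveI := Fact.mk hq
  obtain ⟨g, hg⟩ := exists_prime_orderOf_dvd_card' q (hcard ▸ hdvd)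
  let H := Subgroup.zpowers g
  have hH : Nat.card H = q := (Nat.card_zpowers g).trans hg
  have hI := S7974.result k A H
  have hbot : (⨅ h ∈ H, RingHom.ker (WithConv.ofConv h : A →ₐ[k] k)) = ⊥ := by
    refine (hsimple _ hI).resolve_right fun h => ?_
    have hg1 : g = 1 := by
      refine WithConv.ofConv_injective (AlgHom.ext fun a => ?_)
      have hm : a - algebraMap k A (Bialgebra.counitAlgHom k A a) ∈
          (⨅ h ∈ H, RingHom.ker (WithConv.ofConv h : A →ₐ[k] k)) := by
        rw [h, RingHom.mem_ker]; simp
      have := (Submodule.mem_iInf _).1 ((Submodule.mem_iInf _).1 hm g) (Subgroup.mem_zpowers g)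
      rw [RingHom.mem_ker, map_sub, AlgHom.commutes, sub_eq_zero] at this
      simpa using this
    rw [hg1, orderOf_one] at hg
    exact hq.ne_one hg.symm
  haveI : Fintype H := Fintype.ofFinite H
  have hle : Module.finrank k A ≤ q := by
    let ev : A →ₗ[k] (H → k) := LinearMap.pi fun h => h.1.ofConv.toLinearMap
    have hev : Function.Injective ev := by
      rw [injective_iff_map_eq_zero]
      intro a ha
      have : a ∈ (⨅ h ∈ H, RingHom.ker (WithConv.ofConv h : A →ₐ[k] k)) := by
        simp only [Submodule.mem_iInf, RingHom.mem_ker]
        exact fun h hh => congrFun ha ⟨h, hh⟩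
      rwa [hbot, Ideal.mem_bot] at this
    refine (LinearMap.finrank_le_finrank_of_injective hev).trans ?_
    rw [Module.finrank_pi, ← Nat.card_eq_fintype_card, hH]
  rwa [le_antisymm hle (Nat.le_of_dvd (by omega) hdvd)]

end Groth.Agent.S15065
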