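import Groth.Statements.S15066
import Groth.Agent.FinHopf34.GrpLike

set_option autoImplicit false
universe u
open Hopf

namespace Groth.Agent.S15066

/-- Let k be an algebraically closed field of characteristic p > 0 and A a finite-dimensional
commutative and cocommutative Hopf algebra over k (a finite commutative k-group G = Spec A) which is
a local ring (G connected) and whose dual algebra Hom_k(A, k) with the convolution product is
reduced (the Cartier dual of G is étale, i.e. G is multiplicative), with dim_k A > 1, and assume G
is simple: every Hopf ideal of A is either zero or the augmentation ideal (no closed subgroup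
schemes other than G and 1). Then G is isomorphic to μ_p: A has a group-like element g (Δ(g) = g ⊗
g, ε(g) = 1) with g^p = 1 whose powers 1, g, …, g^(p−1) are linearly independent over k, and dim_k A
= p (so A = k[g]/(g^p − 1)). -/
theorem result (k : Type u) [Field k] [IsAlgClosed k] (p : ℕ) [Fact p.Prime]
    [CharP k p] (A : Type u) [CommRing A] [HopfAlgebra k A] [Coalgebra.IsCocomm k A] [FiniteDimensional k A]
    [IsLocalRing A] (hdual : IsReduced (WithConv (A →ₗ[k] k))) (hA : 1 < Module.finrank k A)
    (hsimple : ∀ I : Ideal A, I.IsHopfIdeal k → I = ⊥ ∨ I = RingHom.ker (Bialgebra.counitAlgHom k A)) :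
    ∃ g : A, IsGroupLikeElem k g ∧ g ^ p = 1 ∧ LinearIndependent k (fun i : Fin p => g ^ (i : ℕ)) ∧
      Module.finrank k A = p := by
  haveI : IsReduced (CartDual.D k A) := hdual
  obtain ⟨g₀, hg₀, hg₀1⟩ := FinHopf34.exists_groupLike_ne_one (k := k) (A := A) hA
  obtain ⟨g, hg, hg1, hgp⟩ := FinHopf34.exists_groupLike_pow_eq_one p hg₀ hg₀1
  have hI : Ideal.span ({g - 1} : Set A) = RingHom.ker (Bialgebra.counitAlgHom k A) := by
    refine (hsimple _ (FinHopf34.isHopfIdeal_span_sub_one hg)).resolve_left fun h => hg1 (sub_eq_zero.1 ?_)
    exact Ideal.span_singleton_eq_bot.1 h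
  have hsurj := Comod33.Infinitesimal.surjective_aeval (k := k) (A := A)
    (Comod33.Infinitesimal.isNilpotent_aug (k := k) (A := A)) (fun _ : Fin 1 => g - 1)
    (by rw [Set.range_const, hI]; exact le_sup_left)
    (fun _ => show g - 1 ∈ RingHom.ker (Bialgebra.counitAlgHom k A) by rw [← hI]; exact Ideal.mem_span_singleton_self _)
  have hli := FinHopf34.linearIndependent_pow hg hg1 (Fact.out : p.Prime) hgp
  refine ⟨g, hg, hgp, hli, le_antisymm ?_ ?_⟩
  · have hspan : (Submodule.span k (Set.range fun i : Fin p => g ^ (i : ℕ))) = ⊤ := by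
      refine Submodule.eq_top_iff'.2 fun a => ?_
      obtain ⟨P, rfl⟩ := hsurj a
      have hpow : ∀ n : ℕ, g ^ n ∈ Submodule.span k (Set.range fun i : Fin p => g ^ (i : ℕ)) := fun n => by
        rw [show g ^ n = g ^ (n % p) by rw [pow_eq_pow_mod n hgp]]
        exact Submodule.subset_span ⟨⟨n % p, Nat.mod_lt _ (Fact.out : p.Prime).pos⟩, rfl⟩
      have hmul : ∀ y ∈ Submodule.span k (Set.range fun i : Fin p => g ^ (i : ℕ)),
          y * g ∈ Submodule.span k (Set.range fun i : Fin p => g ^ (i : ℕ)) := by
        intro y hy
        induction hy using Submodule.span_induction with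
        | mem y hy => obtain ⟨i, rfl⟩ := hy; rw [← pow_succ]; exact hpow _
        | zero => rw [zero_mul]; exact Submodule.zero_mem _
        | add a b _ _ ha hb => rw [add_mul]; exact Submodule.add_mem _ ha hb
        | smul c y _ hy => rw [smul_mul_assoc]; exact Submodule.smul_mem _ c hy
      induction P using MvPolynomial.induction_on with
      | C c =>
        rw [MvPolynomial.aeval_C, Algebra.algebraMap_eq_smul_one, ← pow_zero g]
        exact Submodule.smul_mem _ c (hpow 0)
      | add P Q hP hQ => rw [map_add]; exact Submodule.add_mem _ hP hQ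
      | mul_X P i hP =>
        rw [map_mul, MvPolynomial.aeval_X, mul_sub, mul_one]
        exact Submodule.sub_mem _ (hmul _ hP) hP
    rw [← finrank_top k A, ← hspan]
    refine (finrank_range_le_card _).trans ?_
    rw [Fintype.card_fin]
  · simpa using hli.fintype_card_le_finrank

end Groth.Agent.S15066
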