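import Groth.Statements.S15068
import Groth.Agent.FinHopf34.ConnExt

set_option autoImplicit false
universe u
open scoped TensorProduct
open Hopf

namespace Groth.Agent.S15068

open Groth.Agent.FinHopf34
/-- Let R be a henselian Noetherian local ring, A and A'' commutative Hopf algebras over R which are
finite and flat as R-modules, and A'' → A an R-algebra homomorphism compatible with
comultiplications and counits making A faithfully flat over A'' (a faithfully flat homomorphism π :
G → G'' of finite flat R-groups); let J ⊆ A be the ideal generated by the image of the augmentation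
ideal of A'' (G' = Spec A/J = ker π, so 1 → G' → G → G'' → 1 is exact). Assume A'' is a local ring
(G'' connected) and A/J is étale over R (G' finite étale), and let e ∈ A be an idempotent with ε(e)
= 1 such that A/(1 − e) is local (G⁰ = Spec A/(1 − e), the unit component of G). Then the composite
A'' → A → A/(1 − e) is bijective: the restriction G⁰ → G'' of π is an isomorphism, whose inverse
splits the extension, G ≅ G' × G''. -/
theorem result (R : Type u) [CommRing R] [HenselianLocalRing R]
    [IsNoetherianRing R] (A A'' : Type u) [CommRing A] [HopfAlgebra R A] [Module.Finite R A] [Module.Flat R A]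
    [CommRing A''] [HopfAlgebra R A''] [Module.Finite R A''] [Module.Flat R A'']
    [Algebra A'' A] [IsScalarTower R A'' A] [Module.FaithfullyFlat A'' A]
    (hΔ : (Bialgebra.comulAlgHom R A).comp (IsScalarTower.toAlgHom R A'' A) =
      (Algebra.TensorProduct.map (IsScalarTower.toAlgHom R A'' A) (IsScalarTower.toAlgHom R A'' A)).comp
        (Bialgebra.comulAlgHom R A''))
    (hε : (Bialgebra.counitAlgHom R A).comp (IsScalarTower.toAlgHom R A'' A) = Bialgebra.counitAlgHom R A'')
    [IsLocalRing A''] [Algebra.Etale R (A ⧸ (RingHom.ker (Bialgebra.counitAlgHom R A'')).map (algebraMap A'' A))]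
    (e : A) (he : IsIdempotentElem e) (heε : Bialgebra.counitAlgHom R A e = 1)
    [IsLocalRing (A ⧸ Ideal.span ({1 - e} : Set A))] :
    Function.Bijective ((Ideal.Quotient.mkₐ R (Ideal.span ({1 - e} : Set A))).comp (IsScalarTower.toAlgHom R A'' A)) := by
  have : Module.Finite A'' (A ⧸ unitI e) := Module.Finite.of_restrictScalars_finite R _ _
  refine ⟨?_, ?_⟩
  · show Function.Injective (algebraMap A'' (A ⧸ unitI e))
    have := flat0 he A''
    have : Module.Free A'' (A ⧸ unitI e) := Module.free_of_flat_of_isLocalRing
    exact FaithfulSMul.algebraMap_injective A'' (A ⧸ unitI e)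
  · let f : A'' →ₗ[A''] (A ⧸ unitI e) := Algebra.linearMap A'' (A ⧸ unitI e)
    let m : Ideal A'' := RingHom.ker (Bialgebra.counitAlgHom R A'')
    have hm : m ≤ Ideal.jacobson ⊥ := by
      rw [IsLocalRing.jacobson_eq_maximalIdeal ⊥ bot_ne_top]
      exact fun x hx => aug_mem_maximalIdeal (Bialgebra.counitAlgHom R A'') hx
    have key : (⊤ : Submodule A'' (A ⧸ unitI e)) ≤ LinearMap.range f ⊔ m • ⊤ := by
      intro q _
      obtain ⟨a, rfl⟩ := Ideal.Quotient.mk_surjective q
      obtain ⟨j, hj, i, hi, hji⟩ := Submodule.mem_sup.1 (sub_counit_mem (A'' := A'') hε heε a)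
      refine Submodule.mem_sup.2 ⟨_, ⟨algebraMap R A'' (Bialgebra.counitAlgHom R A a), rfl⟩,
        Ideal.Quotient.mk (unitI e) j, ?_, ?_⟩
      · rw [Ideal.smul_top_eq_map, Submodule.restrictScalars_mem,
          IsScalarTower.algebraMap_eq A'' A (A ⧸ unitI e), ← Ideal.map_map]
        exact Ideal.mem_map_of_mem _ hj
      · show algebraMap A'' (A ⧸ unitI e) _ + _ = _
        rw [← IsScalarTower.algebraMap_apply R A'' (A ⧸ unitI e), IsScalarTower.algebraMap_apply R A (A ⧸ unitI e),
          Ideal.Quotient.algebraMap_eq, ← map_add, Ideal.Quotient.mk_eq_mk_iff_sub_mem]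
        have hi' := neg_mem hi
        convert hi' using 1
        linear_combination hji
    have hfg : (⊤ : Submodule A'' (A ⧸ unitI e)).FG := Module.Finite.fg_top
    have := Submodule.le_of_le_smul_of_le_jacobson_bot hfg hm key
    intro q
    exact this Submodule.mem_top

end Groth.Agent.S15068
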