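import Groth.Statements.S1507
import Groth.Agent.FlatMor67.PCFinite

set_option autoImplicit false
universe u
attribute [local instance] HasDerivedCategory.standard
open FlatMor

namespace Groth.Agent.S1507

/-- Let A → B be flat and of finite presentation and I an ideal of B. Then A → B/I is a pseudo-coherent
ring map if and only if I is a pseudo-coherent B-module. -/
theorem result {A B : Type u} [CommRing A] [CommRing B] [Algebra A B] [Module.Flat A B] [Algebra.FinitePresentation A B] (I : Ideal B) :
    MoreMor.IsPseudoCoherentHom A (B ⧸ I) ↔ DRing.IsPseudoCoherentModule' B ↥I := by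
  have hs : Function.Surjective (algebraMap B (B ⧸ I)) := Ideal.Quotient.mk_surjective
  rw [FlatMor67.PCH.pcHom_iff B hs]
  obtain ⟨T, hT, e1, e2, e3⟩ :=
    DR39.exists_triangle_of_surjective (Algebra.linearMap B (B ⧸ I)) hs
  have hk : LinearMap.ker (Algebra.linearMap B (B ⧸ I)) = I := Ideal.mk_ker
  have hB : ∀ n, DR39.PC n T.obj₂ := fun n => by rw [e2]; exact DR39.pc_of_bff (DR39.bff_inD_of_free B)
  rw [DRing.IsPseudoCoherentModule', DRing.IsPseudoCoherentModule', DR39.pc'_iff_forall_pc, DR39.pc'_iff_forall_pc]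
  constructor
  · intro h n
    have h1 : DR39.PC n T.obj₁ := DR39.PC.obj₁ hT (hB (n - 1 + 1)) (by rw [e3]; exact h (n - 1)) |>.mono (by omega)
    rw [e1] at h1
    exact h1.of_iso (DR39.inDIso (LinearEquiv.ofEq _ _ hk))
  · intro h n
    rw [← e3]
    exact DR39.PC.obj₃ hT (by rw [e1]; exact (h _).of_iso (DR39.inDIso (LinearEquiv.ofEq _ _ hk)).symm) (hB n)

end Groth.Agent.S1507
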