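import Groth.Statements.S15070
import Groth.Agent.Surf97.ElemTrans

set_option autoImplicit false
universe u
open CategoryTheory CategoryTheory.Limits AlgebraicGeometry
open OrdSurf

namespace Groth.Agent.S15070

/-- Let k be an algebraically closed field of characteristic zero and X a smooth projective surface over
k (an integral k-scheme, smooth over k, of dimension two, admitting a closed immersion over k into
some projective space P^n_k). Let N be a coherent O_X-module all of whose stalks are torsion-free
modules over the local rings, M a finite locally free O_X-module and φ : M → N an epimorphism of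
O_X-modules. Then the kernel of φ is a finite locally free O_X-module. -/
theorem result (k : Type u) [Field k] [IsAlgClosed k] [CharZero k]
    (X : Scheme.{u}) [X.Over (Spec (CommRingCat.of k))] [IsIntegral X]
    [Smooth (X ↘ Spec (CommRingCat.of k))] (hdim : topologicalKrullDim X = 2)
    (hproj : ∃ (n : ℕ) (ι : X ⟶ CohB1.ProjSpace n k), IsClosedImmersion ι ∧
      ι ≫ CohB1.ProjSpace.toSpec n k = X ↘ Spec (CommRingCat.of k))
    (N : X.Modules) (hN : Coh.IsCoh N) (hNtf : TorSh.IsTorsionFree N)
    (M : X.Modules) (hM : FlatMod.IsFinLocFree M) (φ : M ⟶ N) [Epi φ] :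
    FlatMod.IsFinLocFree (kernel φ) := by
  let p := X ↘ Spec (CommRingCat.of k)
  haveI : IsLocallyNoetherian X := LocallyOfFiniteType.isLocallyNoetherian p
  have hMc : Coh.IsCoh M := ⟨Props58.LocFree.isQuasicoherent_of_isFinLocFree hM, Props58.LocFree.isFiniteType_of_isFinLocFree hM⟩
  have hK : Coh.IsCoh (kernel φ) := QC70.isCoh_kernel φ hMc hN.1
  rw [Div89.isFinLocFree_iff_free_stalks hK]
  intro x
  haveI := VarGal.isRegularLocalRing_stalk_of_smooth p x
  haveI := hK.2
  haveI := hMc.2
  haveI := Props58.LocFree.finite_stalk_of_isFiniteType (M := kernel φ) x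
  haveI := Props58.LocFree.finite_stalk_of_isFiniteType (M := M) x
  haveI := Props58.LocFree.free_stalk_of_isFinLocFree hM x
  have hex : (ShortComplex.mk (kernel.ι φ) φ (kernel.condition φ)).Exact := ShortComplex.exact_kernel φ
  refine Surf97.free_of_injective_exact (QC70.stalkLinear (kernel.ι φ) x) (QC70.stalkLinear φ x)
    (QC70.injective_stalkMapM_of_mono _ x) (fun e => ⟨fun he => QC70.stalkMapM_exact _ hex x e he, ?_⟩)
    (QC70.surjective_stalkMapM_of_epi φ x) ((Props58.ringKrullDim_stalk_le X x).trans hdim.le) ?_
  · rintro ⟨d, rfl⟩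
    show QC70.stalkMapM φ x (QC70.stalkMapM (kernel.ι φ) x d) = 0
    rw [← QC70.stalkMapM_comp, kernel.condition, QC70.stalkMapM_zero]
  by_cases hfield : IsField (X.presheaf.stalk x)
  · left
    rw [ringKrullDim_eq_zero_of_isField hfield]
    exact zero_le_one
  · right; right
    obtain ⟨r, hr, hr0⟩ := Submodule.exists_mem_ne_zero_of_ne_bot
      (fun h => hfield (IsLocalRing.isField_iff_maximalIdeal_eq.2 h) : IsLocalRing.maximalIdeal (X.presheaf.stalk x) ≠ ⊥)
    haveI := hNtf x
    exact ⟨r, hr, (isRegular_of_ne_zero hr0).isSMulRegular⟩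

end Groth.Agent.S15070
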