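import Groth.Statements.S15071
import Groth.Agent.Div89.Reflexive
import Groth.Agent.VarGal.SmoothReg
-- import your own Groth.Agent.* helpers here

set_option autoImplicit false
universe u
open CategoryTheory CategoryTheory.Limits AlgebraicGeometry
open OrdSurf

namespace Groth.Agent.S15071

/-- Let k be an algebraically closed field of characteristic zero and X a smooth projective surface over
k (an integral k-scheme, smooth over k, of dimension two, admitting a closed immersion over k into
some projective space P^n_k). Let φ : M → N be a monomorphism between finite locally free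
O_X-modules. Then either φ is an isomorphism, or the support of the cokernel of φ contains a point
of X whose local ring has Krull dimension at most one, i.e. the support has codimension at most one
in X. (The published statement phrases the first alternative as M and N being isomorphic; the
argument shows that the given monomorphism is an isomorphism, which is the form stated here.) -/
theorem result (k : Type u) [Field k] [IsAlgClosed k] [CharZero k]
    (X : Scheme.{u}) [X.Over (Spec (CommRingCat.of k))] [IsIntegral X]
    [Smooth (X ↘ Spec (CommRingCat.of k))] (hdim : topologicalKrullDim X = 2)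
    (hproj : ∃ (n : ℕ) (ι : X ⟶ CohB1.ProjSpace n k), IsClosedImmersion ι ∧
      ι ≫ CohB1.ProjSpace.toSpec n k = X ↘ Spec (CommRingCat.of k))
    (M N : X.Modules) (hM : FlatMod.IsFinLocFree M) (hN : FlatMod.IsFinLocFree N)
    (φ : M ⟶ N) [Mono φ] :
    IsIso φ ∨ ∃ x : X, x ∈ CohB1.support (cokernel φ) ∧ ringKrullDim (X.presheaf.stalk x) ≤ 1 := by
  classical
  rw [or_iff_not_imp_right]
  intro h
  push_neg at h
  let p := X ↘ Spec (CommRingCat.of k)
  haveI : IsLocallyNoetherian X := LocallyOfFiniteType.isLocallyNoetherian p
  have hMc : Coh.IsCoh M := ⟨Props58.LocFree.isQuasicoherent_of_isFinLocFree hM,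
    Props58.LocFree.isFiniteType_of_isFinLocFree hM⟩
  refine Div89.isIso_of_depth_two φ hMc (Props58.LocFree.isQuasicoherent_of_isFinLocFree hN) fun x => ?_
  by_cases hd : ringKrullDim (X.presheaf.stalk x) ≤ 1
  · left
    have hsub : Subsingleton ((cokernel φ).presheaf.stalk x) :=
      not_not.1 fun hs => (h x hs).not_ge hd
    have hex : (ShortComplex.mk φ (cokernel.π φ) (cokernel.condition φ)).Exact :=
      ShortComplex.exact_cokernel φ
    exact ⟨QC70.injective_stalkMapM_of_mono φ x, fun n =>
      QC70.stalkMapM_exact _ hex x n (Subsingleton.elim _ _)⟩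
  · right
    haveI := VarGal.isRegularLocalRing_stalk_of_smooth p x
    haveI := hMc.2
    haveI := Props58.LocFree.finite_stalk_of_isFiniteType (M := M) x
    haveI := Props58.LocFree.free_stalk_of_isFinLocFree hM x
    haveI := Props58.LocFree.free_stalk_of_isFinLocFree hN x
    haveI : Module.Finite (X.presheaf.stalk x) (N.presheaf.stalk x) := by
      haveI := Props58.LocFree.isFiniteType_of_isFinLocFree hN
      exact Props58.LocFree.finite_stalk_of_isFiniteType (M := N) x
    obtain ⟨d, hdd⟩ := EGA4Alg4.exists_supportDim_eq (A := X.presheaf.stalk x) (M := X.presheaf.stalk x)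
    rw [Module.supportDim_self_eq_ringKrullDim] at hdd
    have h2 : 2 ≤ d := by
      by_contra hlt
      apply hd
      rw [hdd]
      exact_mod_cast (show d ≤ 1 by omega)
    refine ⟨Div89.natCast_le_depth_of_isReflexive (k := 2) le_rfl
      ((Nat.cast_le.2 h2).trans (CAlg1.depth_regular _ hdd).ge), ?_⟩
    refine Div89.not_isAssPoint_of_torsionFree N x ⟨fun h => smul_eq_zero.1 h⟩ (Div89.ne_genericPoint_of_two_le_dim ?_)
    rw [hdd]
    exact_mod_cast h2

end Groth.Agent.S15071
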