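import Groth.Statements.S15075
import Groth.Agent.Ega11.TorFreeAss
import Groth.Agent.Curves2.CurveMaps
import Mathlib.Algebra.Category.ModuleCat.Stalk

set_option autoImplicit false
universe u
open CategoryTheory CategoryTheory.Limits AlgebraicGeometry TopologicalSpace Opposite
open OrdSurf

namespace Groth.Agent.S15075

section Stalk

variable {T : TopCat.{u}} {R : T.Presheaf RingCat.{u}} {P Q : PresheafOfModules.{u} R} (g : P ⟶ Q) (x : T)

/-- The stalk of a morphism of presheaves of modules. -/
noncomputable def stalkMap :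
    ↑(TopCat.Presheaf.stalk (C := Ab.{u}) P.presheaf x) →+ ↑(TopCat.Presheaf.stalk (C := Ab.{u}) Q.presheaf x) :=
  ((TopCat.Presheaf.stalkFunctor Ab.{u} x).map ((PresheafOfModules.toPresheaf R).map g)).hom

theorem stalkMap_germ (V : Opens T) (hV : x ∈ V) (m : P.presheaf.obj (Opposite.op V)) :
    stalkMap g x (TopCat.Presheaf.germ (C := Ab.{u}) P.presheaf V x hV m) =
      TopCat.Presheaf.germ (C := Ab.{u}) Q.presheaf V x hV (g.app (Opposite.op V) m) :=
  TopCat.Presheaf.stalkFunctor_map_germ_apply V x hV ((PresheafOfModules.toPresheaf R).map g) m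

theorem stalkMap_smul (r : ↑(TopCat.Presheaf.stalk (C := RingCat.{u}) R x))
    (z : ↑(TopCat.Presheaf.stalk (C := Ab.{u}) P.presheaf x)) : stalkMap g x (r • z) = r • stalkMap g x z := by
  obtain ⟨W₁, h₁, r, rfl⟩ := TopCat.Presheaf.exists_germ_eq (C := RingCat.{u}) R r
  obtain ⟨W₂, h₂, m, rfl⟩ := TopCat.Presheaf.exists_germ_eq (C := Ab.{u}) P.presheaf z
  have hW : x ∈ W₁ ⊓ W₂ := ⟨h₁, h₂⟩
  rw [← TopCat.Presheaf.germ_res_apply R (homOfLE (inf_le_left : W₁ ⊓ W₂ ≤ W₁)) x hW r,
    ← TopCat.Presheaf.germ_res_apply P.presheaf (homOfLE (inf_le_right : W₁ ⊓ W₂ ≤ W₂)) x hW m]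
  erw [← PresheafOfModules.germ_ringCat_smul]
  rw [stalkMap_germ, stalkMap_germ]
  erw [← PresheafOfModules.germ_ringCat_smul]
  exact congrArg _ (map_smul (g.app (Opposite.op (W₁ ⊓ W₂))).hom _ _)

theorem dichotomy
    (h : IsSimpleModule ↑(TopCat.Presheaf.stalk (C := RingCat.{u}) R x) ↑(TopCat.Presheaf.stalk (C := Ab.{u}) P.presheaf x)) :
    Function.Injective (stalkMap g x) ∨ ∀ z, stalkMap g x z = 0 := by
  let f : ↑(TopCat.Presheaf.stalk (C := Ab.{u}) P.presheaf x) →ₗ[↑(TopCat.Presheaf.stalk (C := RingCat.{u}) R x)]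
      ↑(TopCat.Presheaf.stalk (C := Ab.{u}) Q.presheaf x) :=
    { stalkMap g x with map_smul' := stalkMap_smul g x }
  rcases eq_bot_or_eq_top (LinearMap.ker f) with h1 | h1
  · exact Or.inl (LinearMap.ker_eq_bot.1 h1 :)
  · exact Or.inr fun z => LinearMap.mem_ker.1 (h1 ▸ Submodule.mem_top : z ∈ LinearMap.ker f)

theorem eq_zero_or_mono_app (h : IsSimpleModule ↑(TopCat.Presheaf.stalk (C := RingCat.{u}) R x) ↑(TopCat.Presheaf.stalk (C := Ab.{u}) P.presheaf x))
    (hP : ∀ (V : Opens T) (m : P.presheaf.obj (Opposite.op V)),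
      (∀ hx : x ∈ V, TopCat.Presheaf.germ (C := Ab.{u}) P.presheaf V x hx m = 0) → m = 0)
    (hQ : ∀ (V : Opens T) (m : Q.presheaf.obj (Opposite.op V)),
      (∀ hx : x ∈ V, TopCat.Presheaf.germ (C := Ab.{u}) Q.presheaf V x hx m = 0) → m = 0) :
    g = 0 ∨ ∀ V : Opens T, ∀ m : P.presheaf.obj (Opposite.op V), g.app (Opposite.op V) m = 0 → m = 0 := by
  rcases dichotomy g x h with hi | h0
  · refine Or.inr fun V m hm => hP V m fun hx => hi ?_
    rw [stalkMap_germ, map_zero]
    exact (congrArg _ hm).trans (map_zero _)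
  · refine Or.inl (PresheafOfModules.hom_ext fun U => ?_)
    ext m
    exact hQ U.unop (g.app U m) fun hx => (stalkMap_germ g x U.unop hx m).symm.trans (h0 _)

end Stalk

theorem eq_zero_of_germ_eta {X : Scheme.{u}} [IsIntegral X] [IsLocallyNoetherian X] (F : X.Modules)
    (hc : Coh.IsCoh F) (ht : TorSh.IsTorsionFree F) (V : X.Opens) (m : F.presheaf.obj (Opposite.op V))
    (h : ∀ hη : genericPoint X ∈ V, F.presheaf.germ V (genericPoint X) hη m = 0) : m = 0 := by
  refine Ega11.TorFreeAss.eq_zero_of_germ F hc.1 ht m fun x hx hf => ?_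
  obtain rfl := Curves2.eq_genericPoint_of_isField x hf
  exact h hx

/-- Let k be an algebraically closed field of characteristic zero and X a smooth projective surface over
k (an integral k-scheme, smooth over k, of dimension two, admitting a closed immersion over k into
some projective space P^n_k), with generic point η. Let A be a sheaf of rings on X with a morphism φ
: O_X → A of sheaves of rings with central image (a sheaf of O_X-algebras) whose generic stalk A_η
is a division ring, i.e. simple as a left module over itself. Let M and N be sheaves of A-modules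
whose underlying O_X-modules (through φ) are coherent with torsion-free stalks, and whose generic
stalks M_η and N_η are simple A_η-modules (one-dimensional over the division ring A_η). Then every
nonzero morphism of sheaves of A-modules M → N is a monomorphism. (The published statement takes A
to be an order on X — coherent and torsion-free over O_X with A_η a central division algebra over
k(X) — and M, N torsion-free A-modules of rank one; of these hypotheses only the ones listed are
assumed here, the others playing no role in the argument.) -/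
theorem result (k : Type u) [Field k] [IsAlgClosed k] [CharZero k]
    (X : Scheme.{u}) [X.Over (Spec (CommRingCat.of k))] [IsIntegral X]
    [Smooth (X ↘ Spec (CommRingCat.of k))] (hdim : topologicalKrullDim X = 2)
    (hproj : ∃ (n : ℕ) (ι : X ⟶ CohB1.ProjSpace n k), IsClosedImmersion ι ∧
      ι ≫ CohB1.ProjSpace.toSpec n k = X ↘ Spec (CommRingCat.of k))
    (A : Sheaf (Opens.grothendieckTopology X) RingCat.{u}) (φ : X.ringCatSheaf ⟶ A)
    (hcen : ∀ (U : (Opens X)ᵒᵖ) (s : X.ringCatSheaf.obj.obj U) (a : A.obj.obj U),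
      φ.hom.app U s * a = a * φ.hom.app U s)
    (hAη : IsSimpleModule (↑(TopCat.Presheaf.stalk (C := RingCat.{u}) (X := X.carrier) A.obj (genericPoint X))) (↑(TopCat.Presheaf.stalk (C := RingCat.{u}) (X := X.carrier) A.obj (genericPoint X))))
    (M N : SheafOfModules.{u} A)
    (hMc : Coh.IsCoh (X := X) ((SheafOfModules.restrictScalars φ).obj M))
    (hNc : Coh.IsCoh (X := X) ((SheafOfModules.restrictScalars φ).obj N))
    (hMt : TorSh.IsTorsionFree (X := X) ((SheafOfModules.restrictScalars φ).obj M))
    (hNt : TorSh.IsTorsionFree (X := X) ((SheafOfModules.restrictScalars φ).obj N))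
    (hMη : IsSimpleModule (↑(TopCat.Presheaf.stalk (C := RingCat.{u}) (X := X.carrier) A.obj (genericPoint X))) (↑(TopCat.Presheaf.stalk (C := Ab.{u}) (X := X.carrier) M.val.presheaf (genericPoint X))))
    (hNη : IsSimpleModule (↑(TopCat.Presheaf.stalk (C := RingCat.{u}) (X := X.carrier) A.obj (genericPoint X))) (↑(TopCat.Presheaf.stalk (C := Ab.{u}) (X := X.carrier) N.val.presheaf (genericPoint X))))
    (ψ : M ⟶ N) (hψ : ψ ≠ 0) : Mono ψ := by
  haveI : IsLocallyNoetherian X := LocallyOfFiniteType.isLocallyNoetherian (X ↘ Spec (CommRingCat.of k))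
  have hP := eq_zero_of_germ_eta ((SheafOfModules.restrictScalars φ).obj M) hMc hMt
  have hQ := eq_zero_of_germ_eta ((SheafOfModules.restrictScalars φ).obj N) hNc hNt
  rcases eq_zero_or_mono_app (T := X.carrier) ψ.val (genericPoint X) hMη hP hQ with h0 | hinj
  · exact absurd (SheafOfModules.Hom.ext h0) hψ
  · refine ⟨fun {Z} g g' hgg => SheafOfModules.Hom.ext (PresheafOfModules.hom_ext fun U => ?_)⟩
    ext z
    have h1 : ψ.val.app U (g.val.app U z) = ψ.val.app U (g'.val.app U z) :=
      ConcreteCategory.congr_hom (congrArg (fun q : Z ⟶ N => q.val.app U) hgg) z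
    refine sub_eq_zero.1 (hinj U.unop (g.val.app U z - g'.val.app U z) ?_)
    erw [map_sub, h1, sub_self]

end Groth.Agent.S15075
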