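import Groth.Statements.S15083
import Mathlib.LinearAlgebra.Matrix.SpecialLinearGroup
import Mathlib.LinearAlgebra.Matrix.Transvection

set_option autoImplicit false
universe u
open MovLem

namespace Groth.Agent.S15083

open Matrix in
theorem transvection_mul_ite {K : Type*} [CommRing K] {ι : Type*} [Fintype ι] [DecidableEq ι]
    (p q : ι) (c : K) (M : Matrix ι ι K) (x y : ι) :
    (Matrix.transvection p q c * M) x y = if x = p then M x y + c * M q y else M x y := by
  split_ifs with hx
  · subst hx; simp
  · simp [hx]

open Matrix in
theorem diag2n_eq {K : Type*} [Field K] {ι : Type*} [Fintype ι] [DecidableEq ι] {i j : ι}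
    (h : i ≠ j) (a : K) (ha : a ≠ 0) :
    SpecialLinearGroup.diag2n h a ha = SpecialLinearGroup.transvection h a * SpecialLinearGroup.transvection h.symm (-a⁻¹) *
      SpecialLinearGroup.transvection h a * SpecialLinearGroup.transvection h (-1) *
      SpecialLinearGroup.transvection h.symm 1 * SpecialLinearGroup.transvection h (-1) := by
  refine Subtype.ext ?_
  rw [← mul_one (_ * SpecialLinearGroup.transvection h (-1))]
  ext x y
  have e1 : ∀ (p q : ι) (hpq : p ≠ q) (c : K),
      (SpecialLinearGroup.transvection hpq c).1 = Matrix.transvection p q c := fun _ _ _ _ => rfl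
  simp only [SpecialLinearGroup.coe_mul, SpecialLinearGroup.coe_one, e1, mul_assoc,
    SpecialLinearGroup.diag2n_coe, transvection_mul_ite]
  by_cases hxi : x = i <;> by_cases hxj : x = j <;> subst_vars <;>
    simp_all [Matrix.one_apply, Matrix.diagonal_apply, h.symm] <;>
    split_ifs <;> subst_vars <;> simp_all

/-- Let K be a field and r ≥ 1. For every element A of the special linear group SL_{r+1}(K) there is an
algebraic path in SL_{r+1} from the identity to A defined over K: a matrix M of determinant 1 with
entries in the polynomial ring K[y] such that M(0) is the identity matrix and M(1) = A. (The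
published statement takes K to be the function field of SL_{r+1} over the ground field, A its
generic point viewed as a K-rational point, and the parameter space to be the projective line minus
the point 1, with endpoints 0 and ∞; this row gives the path for an arbitrary K-point A on the
affine line with endpoints 0 and 1, which is what the published construction provides before
composing with the coordinate change y ↦ y/(y − 1).) -/
theorem result
    (K : Type u) [Field K] (r : ℕ) (hr : 1 ≤ r)
    (A : Matrix.SpecialLinearGroup (Fin (r + 1)) K) :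
    ∃ M : Matrix.SpecialLinearGroup (Fin (r + 1)) (Polynomial K),
      Matrix.SpecialLinearGroup.map (Polynomial.evalRingHom (0 : K)) M = 1 ∧
      Matrix.SpecialLinearGroup.map (Polynomial.evalRingHom (1 : K)) M = A := by
  classical
  haveI : Nontrivial (Fin (r + 1)) := Fin.nontrivial_iff_two_le.2 (by omega)
  have ht : ∀ (i j : Fin (r + 1)) (hij : i ≠ j) (a : K), ∃ M : Matrix.SpecialLinearGroup (Fin (r + 1)) (Polynomial K),
      Matrix.SpecialLinearGroup.map (Polynomial.evalRingHom (0 : K)) M = 1 ∧
      Matrix.SpecialLinearGroup.map (Polynomial.evalRingHom (1 : K)) M = Matrix.SpecialLinearGroup.transvection hij a := by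
    intro i j hij a
    refine ⟨Matrix.SpecialLinearGroup.transvection hij (Polynomial.C a * Polynomial.X), ?_, ?_⟩ <;>
    · refine Subtype.ext (Matrix.ext fun x y => ?_)
      rw [Matrix.SpecialLinearGroup.map_apply_coe, RingHom.mapMatrix_apply, Matrix.map_apply,
        Matrix.SpecialLinearGroup.transvection_coe]
      simp only [Matrix.SpecialLinearGroup.coe_one, Matrix.SpecialLinearGroup.transvection_coe,
        Matrix.add_apply, Matrix.single_apply, Matrix.one_apply]
      split_ifs <;> simp
  have hmul : ∀ A B : Matrix.SpecialLinearGroup (Fin (r + 1)) K,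
      (∃ M : Matrix.SpecialLinearGroup (Fin (r + 1)) (Polynomial K),
        Matrix.SpecialLinearGroup.map (Polynomial.evalRingHom (0 : K)) M = 1 ∧
        Matrix.SpecialLinearGroup.map (Polynomial.evalRingHom (1 : K)) M = A) →
      (∃ M : Matrix.SpecialLinearGroup (Fin (r + 1)) (Polynomial K),
        Matrix.SpecialLinearGroup.map (Polynomial.evalRingHom (0 : K)) M = 1 ∧
        Matrix.SpecialLinearGroup.map (Polynomial.evalRingHom (1 : K)) M = B) →
      (∃ M : Matrix.SpecialLinearGroup (Fin (r + 1)) (Polynomial K),
        Matrix.SpecialLinearGroup.map (Polynomial.evalRingHom (0 : K)) M = 1 ∧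
        Matrix.SpecialLinearGroup.map (Polynomial.evalRingHom (1 : K)) M = A * B) := by
    rintro A B ⟨M, hM0, hM1⟩ ⟨N, hN0, hN1⟩
    exact ⟨M * N, by simp [hM0, hN0], by simp [hM1, hN1]⟩
  refine Matrix.SpecialLinearGroup.diagonal_transvection_induction' _ A (fun i j hij c hc => ?_) ht hmul
  rw [diag2n_eq hij c hc]
  exact hmul _ _ (hmul _ _ (hmul _ _ (hmul _ _ (hmul _ _ (ht _ _ _ _) (ht _ _ _ _)) (ht _ _ _ _)) (ht _ _ _ _)) (ht _ _ _ _)) (ht _ _ _ _)

end Groth.Agent.S15083
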