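import Groth.Statements.S15084
import Mathlib.RingTheory.IntegralClosure.IntegrallyClosed
import Mathlib.RingTheory.Noetherian.Basic
import Mathlib.RingTheory.IntegralClosure.Algebra.Basic

set_option autoImplicit false
universe u
open MovLem

namespace Groth.Agent.S15084

/-- Let A be a Noetherian integrally closed domain with fraction field K, let B be a domain with
fraction field L, and let A → B be an injective ring homomorphism, with K → L the induced map of
fraction fields, such that Spec B → Spec A is surjective (every prime ideal of A is the contraction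
of a prime ideal of B). If a ∈ K is such that its image in L lies in B, then a ∈ A. (The published
statement: for a surjective morphism f : Y → X of normal integral separated schemes of finite type
over a perfect field and a Cartier divisor D on X, if f^*D is effective then D is effective; a
Cartier divisor is locally the divisor of a nonzero rational function a, effectivity of div(a) on a
normal scheme means that a is a regular function, and this row is that local statement, which is
what the published proof establishes.) -/
theorem result
    (A B K L : Type u) [CommRing A] [IsDomain A] [IsNoetherianRing A] [IsIntegrallyClosed A]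
    [CommRing B] [IsDomain B] [Field K] [Field L]
    [Algebra A B] [Algebra A K] [IsFractionRing A K] [Algebra B L] [IsFractionRing B L]
    [Algebra K L] [Algebra A L] [IsScalarTower A K L] [IsScalarTower A B L]
    (hinj : Function.Injective (algebraMap A B))
    (hsurj : ∀ p : Ideal A, p.IsPrime → ∃ q : Ideal B, q.IsPrime ∧ q.comap (algebraMap A B) = p)
    (a : K) (ha : algebraMap K L a ∈ (algebraMap B L).range) :
    a ∈ (algebraMap A K).range := by
  classical
  by_contra hcon
  let I : K → Ideal A := fun x => (1 : Submodule A K).comap (LinearMap.toSpanSingleton A K x)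
  have hI : ∀ x s, s ∈ I x ↔ algebraMap A K s * x ∈ (algebraMap A K).range := by
    intro x s; simp [I, Submodule.mem_one, RingHom.mem_range, Algebra.smul_def]
  let F : Set (Ideal A) := {J | J ≠ ⊤ ∧ ∃ x : K, algebraMap K L x ∈ (algebraMap B L).range ∧ I x = J}
  have hF : F.Nonempty := by
    refine ⟨I a, fun htop => hcon ?_, a, ha, rfl⟩
    have : (1 : A) ∈ I a := htop ▸ trivial
    simpa [hI] using this
  obtain ⟨p, ⟨hp, x, hx, rfl⟩, hmax⟩ := set_has_maximal_iff_noetherian.2 inferInstance F hF
  have hprime : (I x).IsPrime := by
    refine ⟨hp, fun {s t} hst => or_iff_not_imp_left.2 fun hs => ?_⟩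
    by_contra ht
    let y := algebraMap A K s * x
    have hy : algebraMap K L y ∈ (algebraMap B L).range := by
      rw [map_mul, ← IsScalarTower.algebraMap_apply A K L, IsScalarTower.algebraMap_apply A B L]
      exact Subring.mul_mem _ ⟨_, rfl⟩ hx
    have hle : I x ≤ I y := fun u hu => by
      rw [hI] at hu ⊢
      simpa [y, mul_left_comm] using Subring.mul_mem _ (RingHom.mem_range_self (algebraMap A K) s) hu
    have hne : I y ≠ ⊤ := fun h => hs <| by
      have : (1 : A) ∈ I y := h ▸ trivial
      simpa [hI, y] using this
    have htm : t ∈ I y := by
      rw [hI]; rw [hI] at hst; simpa [y, mul_assoc, mul_comm, mul_left_comm] using hst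
    exact hmax (I y) ⟨hne, y, hy, rfl⟩ (lt_of_le_not_ge hle fun h => ht (h htm))
  by_cases hsub : ∀ t ∈ I x, ∃ s ∈ I x, algebraMap A K t * x = algebraMap A K s
  · -- x is integral
    apply hp
    have hxint : IsIntegral A x := by
      by_cases hbot : I x = ⊥
      · obtain ⟨⟨n, d⟩, hd⟩ := IsLocalization.surj (nonZeroDivisors A) x
        have : (d : A) ∈ I x := (hI _ _).2 ⟨n, by simpa [mul_comm] using hd.symm⟩
        exact absurd ((Submodule.mem_bot A).1 (hbot ▸ this)) (nonZeroDivisors.coe_ne_zero d)
      · let N : Submodule A K := Submodule.map (Algebra.linearMap A K) (I x)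
        refine isIntegral_of_smul_mem_submodule N ?_ ((IsNoetherian.noetherian _).map _) x ?_
        · intro h
          refine hbot ((Submodule.eq_bot_iff _).2 fun u hu => ?_)
          have : algebraMap A K u ∈ N := ⟨u, hu, rfl⟩
          rw [h] at this
          exact IsFractionRing.injective A K (by simpa using this)
        · rintro _ ⟨u, hu, rfl⟩
          obtain ⟨s, hs, hus⟩ := hsub u hu
          exact ⟨s, hs, by simpa [mul_comm x] using hus.symm⟩
    obtain ⟨c, hc⟩ := IsIntegrallyClosed.isIntegral_iff.1 hxint
    exact (Ideal.eq_top_iff_one _).2 ((hI _ _).2 ⟨c, by simpa using hc⟩)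
  · push Not at hsub
    obtain ⟨t, ht, hts⟩ := hsub
    obtain ⟨s, hs⟩ := (hI _ _).1 ht
    have hsn : s ∉ I x := fun h => hts s h hs.symm
    obtain ⟨q, hq, hqp⟩ := hsurj (I x) hprime
    obtain ⟨b, hb⟩ := hx
    have : algebraMap B L (algebraMap A B s) = algebraMap B L (algebraMap A B t * b) := by
      rw [map_mul, hb, ← IsScalarTower.algebraMap_apply, ← IsScalarTower.algebraMap_apply,
        IsScalarTower.algebraMap_apply A K L, IsScalarTower.algebraMap_apply A K L, hs, map_mul]
    have h2 := IsFractionRing.injective B L this
    apply hsn
    rw [← hqp, Ideal.mem_comap, h2]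
    exact q.mul_mem_right _ (Ideal.mem_comap.1 (hqp ▸ ht))

end Groth.Agent.S15084
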