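import Groth.Statements.S15085
import Groth.Agent.WC97.Dim
import Groth.Agent.Ega11.PointDim
import Mathlib.AlgebraicGeometry.Morphisms.Proper
import Mathlib.AlgebraicGeometry.Morphisms.QuasiFinite

set_option autoImplicit false
universe u
open CategoryTheory CategoryTheory.Limits AlgebraicGeometry
open MovLem

namespace Groth.Agent.S15085

open TopologicalSpace in
/-- An irreducible closed set whose dimension is at least the finite dimension of an irreducible closed
set containing it is equal to it. -/
lemma eq_of_dim_le {X : Type u} [TopologicalSpace X] [T0Space X] [QuasiSober X] {T C : Set X}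
    (hTc : IsClosed T) (hC : IsIrreducible C) (hCc : IsClosed C) (hTC : T ⊆ C) {n : ℕ}
    (hn : topologicalKrullDim C = (n : ℕ)) (h : topologicalKrullDim C ≤ topologicalKrullDim T) :
    T = C := by
  let c := hC.genericPoint
  have hc : closure ({c} : Set X) = C := hC.closure_genericPoint hCc
  by_cases hcT : c ∈ T
  · exact hTC.antisymm (hc ▸ hTc.closure_subset_iff.2 (by simpa using hcT))
  exfalso
  have hTn : ((n : ℕ) : WithBot ℕ∞) ≤ topologicalKrullDim T := hn ▸ h
  obtain ⟨l, hl⟩ := Order.le_krullDim_iff.1 hTn
  haveI : QuasiSober T := hTc.isClosedEmbedding_subtypeVal.quasiSober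
  obtain ⟨a, ha⟩ := Ega11.PointDim.exists_points_of_series l
  rw [hl] at ha
  let b : ℕ → C := fun k => if k ≤ n then ⟨(a k).1, hTC (a k).2⟩ else ⟨c, hc ▸ subset_closure rfl⟩
  have hb : ∀ k < n + 1, b (k + 1) ⤳ b k ∧ b k ≠ b (k + 1) := by
    intro k hk
    rw [subtype_specializes_iff]
    by_cases h1 : k + 1 ≤ n
    · simp only [b, if_pos h1, if_pos (show k ≤ n by omega)]
      exact ⟨(subtype_specializes_iff _ _).1 (ha k h1).1, fun e => (ha k h1).2 (Subtype.ext (congrArg Subtype.val e :))⟩
    · simp only [b, if_neg h1, if_pos (show k ≤ n by omega)]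
      refine ⟨specializes_iff_mem_closure.2 (hc.symm ▸ hTC (a k).2), fun e => hcT ?_⟩
      have he : (a k).1 = c := congrArg Subtype.val e
      exact he ▸ (a k).2
  have := Ega11.PointDim.natCast_le_dim (n + 1) b hb
  rw [hn] at this
  have h2 : n + 1 ≤ n := by exact_mod_cast this
  omega

/-- Let k be a field, X an affine scheme of finite type over k which is equidimensional (all irreducible
components have the same dimension), B̂ a proper smooth geometrically integral k-scheme and B ⊆ B̂ a
nonempty affine open subscheme. Let Z be an integral closed subscheme of X ×_k B of dimension dim X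
(that is, of codimension dim B, the product X ×_k B being equidimensional of dimension dim X + dim
B). Then the projection Z → X is finite and maps Z onto an irreducible component of X if and only if
Z is closed in X ×_k B̂. (The published statement allows X to be essentially of finite type, i.e.
also a localization of such a scheme at finitely many points, takes B̂ projective of positive
dimension, and phrases the dimension condition as codimension dim B; this row is the finite-type
case with properness in place of projectivity.) -/
theorem result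
    {k : Type u} [Field k] {X Bhat Z : Scheme.{u}}
    (sX : X ⟶ Spec (CommRingCat.of k)) (sB : Bhat ⟶ Spec (CommRingCat.of k))
    [IsAffine X] [LocallyOfFiniteType sX]
    (hXeq : ∀ T ∈ irreducibleComponents (X : Type u), topologicalKrullDim T = topologicalKrullDim X)
    [IsProper sB] [Smooth sB] [GeometricallyIntegral sB]
    (B : Bhat.Opens) (hB : IsAffineOpen B) (hBne : (B : Set Bhat).Nonempty)
    [IsIntegral Z] (ι : Z ⟶ ((pullback.snd sX sB) ⁻¹ᵁ B).toScheme) [IsClosedImmersion ι]
    (hZ : topologicalKrullDim Z = topologicalKrullDim X)
    (j : Z ⟶ pullback sX sB) (hj : j = ι ≫ ((pullback.snd sX sB) ⁻¹ᵁ B).ι) :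
    (IsFinite (j ≫ pullback.fst sX sB) ∧
        Set.range (j ≫ pullback.fst sX sB).base ∈ irreducibleComponents (X : Type u)) ↔
      IsClosed (Set.range j.base) := by
  haveI : IsAffineHom sX := inferInstance
  haveI : IsAffineHom (pullback.snd sX sB) := MorphismProperty.pullback_snd _ _ ‹_›
  haveI : IsAffine ((pullback.snd sX sB) ⁻¹ᵁ B).toScheme := hB.preimage (pullback.snd sX sB)
  haveI : IsAffine Z := isAffine_of_isAffineHom ι
  have hsp : IsProper (pullback.fst sX sB) := inferInstance
  subst hj
  constructor
  · rintro ⟨hfin, -⟩
    haveI := hfin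
    haveI : IsProper (ι ≫ ((pullback.snd sX sB) ⁻¹ᵁ B).ι) := IsProper.of_comp _ (pullback.fst sX sB)
    exact Scheme.Hom.isClosedMap _ |>.isClosed_range
  · intro hcl
    haveI : IsClosedImmersion (ι ≫ ((pullback.snd sX sB) ⁻¹ᵁ B).ι) := .of_isPreimmersion _ hcl
    set p := (ι ≫ ((pullback.snd sX sB) ⁻¹ᵁ B).ι) ≫ pullback.fst sX sB with hp
    haveI : IsProper p := inferInstance
    haveI : IsAffineHom p := isAffineHom_of_isAffine p
    haveI hfin : IsFinite p := IsFinite.iff_isProper_and_isAffineHom.2 ⟨inferInstance, inferInstance⟩
    refine ⟨hfin, ?_⟩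
    have hirr : IsIrreducible (Set.range p.base) := by
      rw [← Set.image_univ]
      exact (IrreducibleSpace.isIrreducible_univ _).image _ p.continuous.continuousOn
    have hTc : IsClosed (Set.range p.base) := p.isClosedMap.isClosed_range
    obtain ⟨C, hC, hTC⟩ := exists_mem_irreducibleComponents_subset_of_isIrreducible _ hirr
    have hCc := isClosed_of_mem_irreducibleComponents C hC
    obtain ⟨c, hc⟩ := QuasiSober.sober hC.1 hCc
    have hn : topologicalKrullDim C = ((WC97.tdegN sX c : ℕ) : WithBot ℕ∞) := by
      have := WC97.topologicalKrullDim_closure sX c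
      rwa [hc] at this
    haveI : QuasiSober (Set.range p.base) := hTc.isClosedEmbedding_subtypeVal.quasiSober
    have hle : topologicalKrullDim Z ≤ topologicalKrullDim (Set.range p.base) := by
      refine Ega11.PointDim.dim_le_of_fibres_discrete (f := Set.rangeFactorization p.base)
        (p.continuous.codRestrict _) fun a b hab he => ?_
      have he' : p.base a = p.base b := congrArg Subtype.val he
      have hd := p.isDiscrete_preimage_singleton (p.base b)
      haveI := hd.to_subtype
      have : (⟨a, he'⟩ : ↥(p.base ⁻¹' {p.base b})) ⤳ ⟨b, rfl⟩ := (subtype_specializes_iff _ _).2 hab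
      exact congrArg Subtype.val this.eq
    have := eq_of_dim_le hTc hC.1 hCc hTC hn (by rw [hXeq C hC, ← hZ]; exact hle)
    rwa [this]

end Groth.Agent.S15085
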