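import Groth.Statements.S15086
import Groth.Agent.WC97.Dim
import Mathlib.FieldTheory.PrimitiveElement
import Mathlib.RingTheory.Jacobson.Ring
import Mathlib.AlgebraicGeometry.Morphisms.Finite

set_option autoImplicit false
universe u
open CategoryTheory CategoryTheory.Limits AlgebraicGeometry
open MovLem

namespace Groth.Agent.S15086

section
open scoped TensorProduct

/-- The number of primes of `L ⊗ k̄` is the degree of the finite separable extension `L`. -/
lemma card_primeSpectrum_tensor (k L Ω : Type u) [Field k] [Field L] [Field Ω] [Algebra k L] [Algebra k Ω]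
    [IsAlgClosed Ω] [FiniteDimensional k L] [Algebra.IsSeparable k L] :
    Nat.card (PrimeSpectrum (Ω ⊗[k] L)) = Module.finrank k L ∧ Finite (PrimeSpectrum (Ω ⊗[k] L)) := by
  classical
  let A := Ω ⊗[k] L
  let T : (A →ₐ[Ω] Ω) → PrimeSpectrum A := fun ψ => ⟨RingHom.ker ψ, RingHom.ker_isPrime _⟩
  have hT : Function.Bijective T := by
    constructor
    · intro ψ ψ' h
      refine AlgHom.ext fun a => ?_
      have : a - algebraMap Ω A (ψ a) ∈ RingHom.ker ψ := by
        rw [RingHom.mem_ker, map_sub, AlgHom.commutes, Algebra.algebraMap_self, RingHom.id_apply, sub_self]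
      rw [show RingHom.ker ψ = RingHom.ker ψ' from congrArg PrimeSpectrum.asIdeal h, RingHom.mem_ker, map_sub,
        AlgHom.commutes, Algebra.algebraMap_self, RingHom.id_apply, sub_eq_zero] at this
      exact this.symm
    · intro p
      haveI : Algebra.IsIntegral Ω (A ⧸ p.asIdeal) := Algebra.IsIntegral.of_finite _ _
      have hb := IsAlgClosed.algebraMap_bijective_of_isIntegral (k := Ω) (K := A ⧸ p.asIdeal)
      let e : Ω ≃ₐ[Ω] A ⧸ p.asIdeal := AlgEquiv.ofBijective (Algebra.ofId Ω _) hb
      refine ⟨e.symm.toAlgHom.comp (Ideal.Quotient.mkₐ Ω p.asIdeal), PrimeSpectrum.ext ?_⟩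
      ext a
      show e.symm (Ideal.Quotient.mk p.asIdeal a) = 0 ↔ _
      rw [map_eq_zero_iff _ e.symm.injective, Ideal.Quotient.eq_zero_iff_mem]
  let e2 : (L →ₐ[k] Ω) ≃ (A →ₐ[Ω] Ω) := Algebra.TensorProduct.liftEquivRight k Ω L Ω
  let e3 := e2.trans (Equiv.ofBijective T hT)
  refine ⟨?_, Finite.of_equiv _ e3⟩
  rw [← Nat.card_congr e3, Nat.card_eq_fintype_card, AlgHom.card]

end

open AlgebraicGeometry in
/-- The number of geometric points over a closed point is the degree of its residue field. -/
lemma encard_fibre (k : Type u) [Field k] [PerfectField k] {X : Scheme.{u}} (sX : X ⟶ Spec (CommRingCat.of k))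
    [LocallyOfFiniteType sX] (x : X) (hx : IsClosed ({x} : Set X)) :
    letI := (WC97.kStr sX x).toAlgebra
    FiniteDimensional k (X.residueField x) ∧
    ((pullback.fst sX (Spec.map (CommRingCat.ofHom (algebraMap k (AlgebraicClosure k))))).base ⁻¹' {x}).encard =
      (Module.finrank k (X.residueField x) : ℕ∞) := by
  letI := (WC97.kStr sX x).toAlgebra
  haveI : IsClosedImmersion (X.fromSpecResidueField x) :=
    .of_isPreimmersion _ (by rw [Scheme.range_fromSpecResidueField]; exact hx)
  have hlft : LocallyOfFiniteType (Spec.map (CommRingCat.ofHom (WC97.kStr sX x))) := by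
    rw [WC97.kStr_spec]; infer_instance
  haveI : Algebra.FiniteType k (X.residueField x) := (HasRingHomProperty.Spec_iff (P := @LocallyOfFiniteType)).1 hlft
  haveI : FiniteDimensional k (X.residueField x) := finite_of_finite_type_of_isJacobsonRing k (X.residueField x)
  refine ⟨inferInstance, ?_⟩
  let Ω := AlgebraicClosure k
  let i := Spec.map (CommRingCat.ofHom (algebraMap k Ω))
  let j := Spec.map (CommRingCat.ofHom (algebraMap k (X.residueField x)))
  have hj : X.fromSpecResidueField x ≫ sX = j := (WC97.kStr_spec sX x).symm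
  let q : pullback i j ⟶ pullback i sX :=
    pullback.map i j i sX (𝟙 _) (X.fromSpecResidueField x) (𝟙 _) (by simp) (by rw [hj, Category.comp_id])
  haveI : IsClosedImmersion q := MorphismProperty.pullbackMap (P := @IsClosedImmersion) (i₁ := 𝟙 _) (i₂ := X.fromSpecResidueField x) inferInstance inferInstance (Category.id_comp _).symm hj.symm
  let r := q ≫ (pullbackSymmetry i sX).hom
  have hinj : Function.Injective r.base := r.isEmbedding.injective
  have hr : Set.range r.base = (pullback.fst sX i).base ⁻¹' {x} := by
    have h1 : Set.range q.base = pullback.fst i sX ⁻¹' Set.range (𝟙 (Spec (CommRingCat.of Ω)) : _ ⟶ _).base ∩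
        pullback.snd i sX ⁻¹' Set.range (X.fromSpecResidueField x).base :=
      Scheme.Pullback.range_map _ _ _ _ _ _ _ _ _
    ext z
    constructor
    · rintro ⟨a, rfl⟩
      have := ((Set.ext_iff.1 h1 (q.base a)).1 ⟨a, rfl⟩).2
      rw [Scheme.range_fromSpecResidueField] at this
      show (pullback.fst sX i).base (r.base a) = x
      rw [← Scheme.Hom.comp_apply, Category.assoc, pullbackSymmetry_hom_comp_fst]
      exact this
    · intro hz
      have hz' : (pullbackSymmetry i sX).inv.base z ∈ Set.range q.base := by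
        rw [h1]
        refine ⟨⟨_, rfl⟩, ?_⟩
        rw [Set.mem_preimage, Scheme.range_fromSpecResidueField, ← Scheme.Hom.comp_apply, pullbackSymmetry_inv_comp_snd]
        exact hz
      obtain ⟨a, ha⟩ := hz'
      refine ⟨a, ?_⟩
      show (pullbackSymmetry i sX).hom.base (q.base a) = z
      rw [ha, ← Scheme.Hom.comp_apply, Iso.inv_hom_id]; rfl
  obtain ⟨hc, hf⟩ := card_primeSpectrum_tensor k (X.residueField x) Ω
  let eh := (Scheme.homeoOfIso (pullbackSpecIso k Ω (X.residueField x))).toEquiv
  haveI : Finite ↥(pullback i j) := @Finite.of_equiv _ _ hf eh.symm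
  rw [← hr, ← Set.image_univ, hinj.encard_image, Set.encard_univ, ENat.card_eq_coe_natCard, Nat.card_congr eh]
  exact congrArg Nat.cast hc

/-- Let k be an infinite perfect field with algebraic closure k̄, let φ : X → Y be a finite morphism of
k-schemes locally of finite type, let x be a closed point of X and y = φ(x). Let π_X : X_{k̄} → X
and π_Y : Y_{k̄} → Y be the base-change projections and φ_{k̄} : X_{k̄} → Y_{k̄} the induced
morphism. Then the number of points of π_Y⁻¹(y) is at most the number of points of π_X⁻¹(x);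
equality holds if and only if the residue field extension k(y) → k(x) is an isomorphism; and
equality holds whenever φ_{k̄} is injective on π_X⁻¹(x). (Cardinalities are taken in ℕ ∪ {∞}; both
fibres are in fact finite.) -/
theorem result
    {k : Type u} [Field k] [Infinite k] [PerfectField k] {X Y : Scheme.{u}}
    (sX : X ⟶ Spec (CommRingCat.of k)) (sY : Y ⟶ Spec (CommRingCat.of k))
    [LocallyOfFiniteType sX] [LocallyOfFiniteType sY]
    (φ : X ⟶ Y) (hφ : φ ≫ sY = sX) [IsFinite φ]
    (i : Spec (CommRingCat.of (AlgebraicClosure k)) ⟶ Spec (CommRingCat.of k))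
    (hi : i = Spec.map (CommRingCat.ofHom (algebraMap k (AlgebraicClosure k))))
    (φbar : pullback sX i ⟶ pullback sY i)
    (h1 : φbar ≫ pullback.fst sY i = pullback.fst sX i ≫ φ)
    (h2 : φbar ≫ pullback.snd sY i = pullback.snd sX i)
    (x : X) (hx : IsClosed ({x} : Set X)) :
    ((pullback.fst sY i).base ⁻¹' {φ.base x}).encard ≤ ((pullback.fst sX i).base ⁻¹' {x}).encard ∧
      (((pullback.fst sY i).base ⁻¹' {φ.base x}).encard = ((pullback.fst sX i).base ⁻¹' {x}).encard ↔
          Function.Bijective (φ.residueFieldMap x).hom) ∧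
      (Set.InjOn φbar.base ((pullback.fst sX i).base ⁻¹' {x}) →
        ((pullback.fst sY i).base ⁻¹' {φ.base x}).encard = ((pullback.fst sX i).base ⁻¹' {x}).encard) := by
  subst hi
  have hy : IsClosed ({φ.base x} : Set Y) := by simpa using φ.isClosedMap _ hx
  have eX := encard_fibre k sX x hx
  have eY := encard_fibre k sY (φ.base x) hy
  letI aX : Algebra k (X.residueField x) := (WC97.kStr sX x).toAlgebra
  letI aY : Algebra k (Y.residueField (φ.base x)) := (WC97.kStr sY (φ.base x)).toAlgebra
  obtain ⟨fX, cX⟩ := eX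
  obtain ⟨fY, cY⟩ := eY
  let ψ : Y.residueField (φ.base x) →ₐ[k] X.residueField x :=
    { (φ.residueFieldMap x).hom with
      commutes' := fun r => (RingHom.congr_fun (WC97.kStr_comp φ sX sY hφ x) r).symm }
  have hψ : Function.Injective ψ.toLinearMap := RingHom.injective (φ.residueFieldMap x).hom
  have hle := LinearMap.finrank_le_finrank_of_injective hψ
  refine ⟨by rw [cX, cY]; exact_mod_cast hle, ⟨fun h => ⟨RingHom.injective _, ?_⟩, fun h => ?_⟩, fun hinj => ?_⟩
  · rw [cX, cY] at h
    exact (LinearMap.injective_iff_surjective_of_finrank_eq_finrank (f := ψ.toLinearMap) (by exact_mod_cast h)).1 hψ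
  · rw [cX, cY]
    exact congrArg Nat.cast (AlgEquiv.ofBijective ψ h).toLinearEquiv.finrank_eq
  · refine le_antisymm (by rw [cX, cY]; exact_mod_cast hle) (Set.encard_le_encard_of_injOn (fun z hz => ?_) hinj)
    show (pullback.fst sY _).base (φbar.base z) = φ.base x
    rw [← Scheme.Hom.comp_apply, h1, Scheme.Hom.comp_apply, show (pullback.fst sX _).base z = x from hz]

end Groth.Agent.S15086
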