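import Groth.Statements.S15087
import Groth.Agent.E4O.DimField
import Groth.Agent.EGA4Alg4.IntegralDim
import Mathlib.RingTheory.TensorProduct.Finite
import Mathlib.RingTheory.Ideal.MinimalPrime.Basic

set_option autoImplicit false
universe u v w
open MovLem

namespace Groth.Agent.S15087

open TensorProduct

/-- A finitely generated algebra of dimension less than `r` receives no injection from a
polynomial algebra in `r` variables. -/
theorem exists_ne_zero_map_eq_zero {k : Type u} [Field k] {r : ℕ} {T : Type u} [CommRing T]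
    [Algebra k T] [Algebra.FiniteType k T] (hT : ringKrullDim T < r)
    (ψ : MvPolynomial (Fin r) k →ₐ[k] T) : ∃ h : MvPolynomial (Fin r) k, h ≠ 0 ∧ ψ h = 0 := by
  by_contra hne
  simp only [not_exists, not_and'] at hne
  have hinj : Function.Injective ψ :=
    (injective_iff_map_eq_zero ψ).mpr fun h hh => not_not.mp (hne h hh)
  obtain ⟨q, hq, hqc⟩ := Ideal.exists_comap_eq_of_mem_minimalPrimes_of_injective
    (f := ψ.toRingHom) hinj (⊥ : Ideal (MvPolynomial (Fin r) k))
    (by rw [IsDomain.minimalPrimes_eq_singleton_bot]; exact Set.mem_singleton _)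
  have hq' : Function.Injective ((Ideal.Quotient.mkₐ k q).comp ψ) := by
    refine (injective_iff_map_eq_zero _).mpr fun h hh => ?_
    have : h ∈ q.comap ψ.toRingHom := Ideal.mem_comap.mpr (Ideal.Quotient.eq_zero_iff_mem.mp hh)
    rw [hqc] at this
    exact this
  have h1 := trdeg_le_of_injective _ hq'
  rw [MvPolynomial.trdeg_of_isDomain, Cardinal.mk_fin, Cardinal.lift_natCast,
    E4O.trdeg_eq_natCast k (T ⧸ q), Nat.cast_le] at h1
  have h2 : (r : WithBot ℕ∞) ≤ ringKrullDim (T ⧸ q) := by
    rw [E4O.ringKrullDim_eq_trdeg k (T ⧸ q)]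
    exact_mod_cast h1
  exact absurd (h2.trans (ringKrullDim_quotient_le q)) (not_le.mpr hT)

/-- Let k be an infinite perfect field, r, m, s ≥ 1 and d ≥ 0, and put N = s(m+1). In affine space with
coordinates x_1, …, x_r, t, y_1, …, y_d (the cube of dimension d taken as affine d-space with faces
given by setting some coordinates equal to 0 or 1), let Z = V(I) be an integral closed subscheme of
dimension r which does not meet the hyperplane t = 0 and which meets every face {y_i = ε_i for i ∈
S} (S nonempty, ε_i ∈ {0, 1}) in dimension at most r − |S|. Let Σ be a finite set of closed points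
of affine r-space over k. Then there is a nonzero polynomial h in k[g_1, …, g_r] such that for every
field K over k and every g ∈ K^r with h(g) ≠ 0, the translate of Z_K by x ↦ x + t^N g meets no set
{x ∈ Σ} × A^1 × F with F a proper face: for every field L over K, every point ξ of affine r-space
over L lying on a point of Σ, every t ∈ L and every y ∈ L^d lying on a proper face, the point (ξ +
t^N g, t, y) is not a zero of I. (The published statement assumes that Z is an irreducible
admissible additive cycle meeting the faces through Σ properly; the two consequences of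
admissibility that its proof uses — Z misses t = 0, and Z meets all faces properly — are the
hypotheses here, and the dense open subset of affine r-space is given as the locus h ≠ 0.) -/
theorem result
    {k : Type u} [Field k] [Infinite k] [PerfectField k] (r m s d : ℕ) (hr : 1 ≤ r) (hm : 1 ≤ m) (hs : 1 ≤ s)
    (I : Ideal (MvPolynomial (Fin r ⊕ (Unit ⊕ Fin d)) k)) (hI : I.IsPrime)
    (hdim : ringKrullDim (MvPolynomial (Fin r ⊕ (Unit ⊕ Fin d)) k ⧸ I) = r)
    (ht0 : I ⊔ Ideal.span {MvPolynomial.X (Sum.inr (Sum.inl ()))} = ⊤)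
    (hface : ∀ (S : Finset (Fin d)), S.Nonempty → ∀ (ε : Fin d → k), (∀ i, ε i = 0 ∨ ε i = 1) →
      ringKrullDim (MvPolynomial (Fin r ⊕ (Unit ⊕ Fin d)) k ⧸
        (I ⊔ Ideal.span ((fun i => MvPolynomial.X (Sum.inr (Sum.inr i)) - MvPolynomial.C (ε i)) '' (S : Set (Fin d))))) ≤ (r - S.card : ℕ))
    (Sigma : Finset (Ideal (MvPolynomial (Fin r) k))) (hSigma : ∀ P ∈ Sigma, P.IsMaximal) :
    ∃ h : MvPolynomial (Fin r) k, h ≠ 0 ∧
      ∀ (K : Type v) [Field K] [Algebra k K] (g : Fin r → K), MvPolynomial.aeval g h ≠ 0 →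
        ∀ (L : Type w) [Field L] [Algebra k L] [Algebra K L] [IsScalarTower k K L]
          (ξ : Fin r → L) (t : L) (y : Fin d → L),
          ∀ P ∈ Sigma, (∀ p ∈ P, MvPolynomial.aeval ξ p = 0) →
            ∀ (S : Finset (Fin d)), S.Nonempty → ∀ (ε : Fin d → k), (∀ i, ε i = 0 ∨ ε i = 1) →
              (∀ i ∈ S, y i = algebraMap k L (ε i)) →
                ¬ (∀ q ∈ I, MvPolynomial.aeval
                    (Sum.elim (fun i => ξ i + t ^ (s * (m + 1)) * algebraMap K L (g i))
                      (Sum.elim (fun _ : Unit => t) y)) q = 0) := by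
  classical
  let R := MvPolynomial (Fin r ⊕ (Unit ⊕ Fin d)) k
  let T₀ : R := MvPolynomial.X (Sum.inr (Sum.inl ()))
  -- one polynomial for each point of `Sigma` and each proper face
  have key : ∀ (P : Ideal (MvPolynomial (Fin r) k)) (S : Finset (Fin d)) (b : Fin d → Bool),
      P ∈ Sigma → S.Nonempty → ∃ h : MvPolynomial (Fin r) k, h ≠ 0 ∧
        ∀ (L : Type w) [Field L] [Algebra k L] (ξ : Fin r → L) (t : L) (y : Fin d → L) (g : Fin r → L),
          (∀ p ∈ P, MvPolynomial.aeval ξ p = 0) → (∀ i ∈ S, y i = if b i then 1 else 0) →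
          (∀ q ∈ I, MvPolynomial.aeval (Sum.elim (fun i => ξ i + t ^ (s * (m + 1)) * g i)
            (Sum.elim (fun _ : Unit => t) y)) q = 0) → MvPolynomial.aeval g h = 0 := by
    intro P S b hP hS
    have := hSigma P hP
    let _ := Ideal.Quotient.field P
    have : Module.Finite k (MvPolynomial (Fin r) k ⧸ P) :=
      finite_of_finite_type_of_isJacobsonRing _ _
    let ε : Fin d → k := fun i => if b i then 1 else 0
    let J : Ideal R := I ⊔ Ideal.span ((fun i => MvPolynomial.X (Sum.inr (Sum.inr i)) -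
      MvPolynomial.C (ε i)) '' (S : Set (Fin d)))
    have hJ : ringKrullDim (R ⧸ J) ≤ (r - S.card : ℕ) := hface S hS ε fun i => by
      cases h : b i <;> simp [ε, h]
    let T := (R ⧸ J) ⊗[k] (MvPolynomial (Fin r) k ⧸ P)
    have : Algebra.IsIntegral (R ⧸ J) T := Algebra.IsIntegral.of_finite _ _
    have hT : ringKrullDim T < r := by
      refine ((EGA4Alg4.ringKrullDim_le_of_integral (R ⧸ J) T).trans hJ).trans_lt ?_
      exact_mod_cast Nat.sub_lt hr hS.card_pos
    have htu : IsUnit (Ideal.Quotient.mk J T₀) := by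
      have h1 : (1 : R) ∈ J ⊔ Ideal.span {T₀} := (sup_le_sup_right le_sup_left _ : I ⊔ Ideal.span {T₀} ≤ _) (ht0 ▸ trivial)
      obtain ⟨a, ha, c, hc, hac⟩ := Submodule.mem_sup.mp h1
      obtain ⟨c, rfl⟩ := Ideal.mem_span_singleton.mp hc
      refine IsUnit.of_mul_eq_one (Ideal.Quotient.mk J c) ?_
      rw [← map_mul, ← map_one (Ideal.Quotient.mk J), ← hac, map_add,
        Ideal.Quotient.eq_zero_iff_mem.mpr ha, zero_add]
    let jA : R ⧸ J →ₐ[k] T := Algebra.TensorProduct.includeLeft
    let jP : MvPolynomial (Fin r) k ⧸ P →ₐ[k] T := Algebra.TensorProduct.includeRight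
    have htu' : IsUnit (jA (Ideal.Quotient.mk J T₀) ^ (s * (m + 1))) := (htu.map jA).pow _
    let ψ : MvPolynomial (Fin r) k →ₐ[k] T := MvPolynomial.aeval fun i =>
      ↑htu'.unit⁻¹ * (jA (Ideal.Quotient.mk J (MvPolynomial.X (Sum.inl i))) -
        jP (Ideal.Quotient.mk P (MvPolynomial.X i)))
    have : Algebra.FiniteType k T := Algebra.FiniteType.trans (S := R ⧸ J) inferInstance inferInstance
    obtain ⟨h, hh, hψ⟩ := exists_ne_zero_map_eq_zero (T := T) hT ψ
    refine ⟨h, hh, fun L _ _ ξ t y g hξ hy hz => ?_⟩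
    let z := Sum.elim (fun i => ξ i + t ^ (s * (m + 1)) * g i) (Sum.elim (fun _ : Unit => t) y)
    have hJz : ∀ q ∈ J, MvPolynomial.aeval z q = 0 := by
      intro q hq
      refine (sup_le (show I ≤ RingHom.ker (MvPolynomial.aeval z : R →ₐ[k] L) from hz)
        (Ideal.span_le.mpr ?_) : J ≤ _) hq
      rintro _ ⟨i, hi, rfl⟩
      have hi' := hy i hi
      cases hb : b i <;> simp [hb] at hi' <;> simp [z, ε, hb] <;> erw [MvPolynomial.aeval_X] <;> simp [hi']
    let χ : T →ₐ[k] L := Algebra.TensorProduct.lift (Ideal.Quotient.liftₐ J (MvPolynomial.aeval z) hJz)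
      (Ideal.Quotient.liftₐ P (MvPolynomial.aeval ξ) hξ) fun _ _ => Commute.all _ _
    have hA : ∀ q : R, χ (jA (Ideal.Quotient.mk J q)) = MvPolynomial.aeval z q := fun q => by
      refine (Algebra.TensorProduct.lift_tmul ..).trans ?_
      rw [map_one, mul_one]
      rfl
    have hP' : ∀ q, χ (jP (Ideal.Quotient.mk P q)) = MvPolynomial.aeval ξ q := fun q => by
      refine (Algebra.TensorProduct.lift_tmul ..).trans ?_
      rw [map_one, one_mul]
      rfl
    have hg : χ.comp ψ = MvPolynomial.aeval g := by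
      refine MvPolynomial.algHom_ext fun i => ?_
      have h1 := congrArg χ htu'.val_inv_mul
      rw [map_mul, map_one, map_pow, hA] at h1
      simp only [AlgHom.comp_apply, ψ, MvPolynomial.aeval_X, map_mul, map_sub, hA, hP']
      simp only [T₀, z, MvPolynomial.aeval_X, Sum.elim_inl, Sum.elim_inr] at h1 ⊢
      rw [add_sub_cancel_left, ← mul_assoc, h1, one_mul]
    rw [← hg, AlgHom.comp_apply, hψ, map_zero]
  choose! hfun hh0 hkey using key
  let F : Finset _ := Sigma ×ˢ ((Finset.univ : Finset (Finset (Fin d))).filter (·.Nonempty) ×ˢ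
    (Finset.univ : Finset (Fin d → Bool)))
  refine ⟨∏ x ∈ F, hfun x.1 x.2.1 x.2.2, Finset.prod_ne_zero_iff.mpr fun x hx => ?_,
    fun K _ _ g hg L _ _ _ _ ξ t y P hP hξ S hS ε hε hy hz => hg ?_⟩
  · simp [F] at hx
    exact hh0 _ _ _ hx.1 hx.2
  · let b : Fin d → Bool := fun i => decide (ε i = 1)
    rw [map_prod]
    refine Finset.prod_eq_zero (i := (P, S, b)) (by simp [F, hP, hS]) ?_
    refine (algebraMap K L).injective ?_
    rw [map_zero, ← MvPolynomial.aeval_algebraMap_apply]
    refine hkey P S b hP hS L ξ t y _ hξ (fun i hi => ?_) hz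
    rw [hy i hi]
    rcases hε i with h | h <;> simp [b, h]

end Groth.Agent.S15087
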