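import Groth.Statements.S15088
import Mathlib.RingTheory.Jacobson.Ring
import Mathlib.RingTheory.AdjoinRoot
import Mathlib.RingTheory.Finiteness.Nakayama
import Mathlib.RingTheory.Algebraic.Integral
import Mathlib.RingTheory.IntegralClosure.IsIntegralClosure.Basic
import Mathlib.RingTheory.MvPolynomial.MonomialOrder

set_option autoImplicit false
universe u v
open MovLem

namespace Groth.Agent.S15088

section
open MvPolynomial

attribute [local instance] MvPolynomial.algebraMvPolynomial

/-- A polynomial over a field stays a non-zero-divisor after extending the scalars to any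
commutative algebra. -/
theorem map_mem_nonZeroDivisors {σ : Type*} [LinearOrder σ] [WellFoundedGT σ] {k : Type*} [Field k]
    {C : Type*} [CommRing C] [Algebra k C]
    (F : MvPolynomial σ k) (hF : F ≠ 0) :
    MvPolynomial.map (algebraMap k C) F ∈ nonZeroDivisors (MvPolynomial σ C) := by
  nontriviality C
  let o : MonomialOrder σ := MonomialOrder.lex
  refine mem_nonZeroDivisors_iff_right.mpr fun q hq => ?_
  by_contra hne
  have hinj : Function.Injective (algebraMap k C) := (algebraMap k C).injective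
  have hdeg : o.degree (MvPolynomial.map (algebraMap k C) F) = o.degree F := by
    simp only [MonomialOrder.degree, MvPolynomial.support_map_of_injective _ hinj]
  have hlc : IsRegular (o.leadingCoeff (MvPolynomial.map (algebraMap k C) F)) := by
    rw [MonomialOrder.leadingCoeff, hdeg, MvPolynomial.coeff_map]
    exact ((isUnit_iff_ne_zero.mpr (o.leadingCoeff_ne_zero_iff.mpr hF)).map _).isRegular
  have h1 := o.leadingCoeff_mul_of_isRegular_left (g := q) hlc
  rw [mul_comm, hq, MonomialOrder.leadingCoeff_zero] at h1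
  exact MonomialOrder.leadingCoeff_ne_zero_iff.mpr hne (hlc.left (h1.symm.trans (mul_zero _).symm))

/-- Inside `C[g]`, `C` finite over `k`, the twisted translate of a nonzero `F` divides a nonzero
polynomial with coefficients in `k`. -/
theorem exists_dvd {k : Type*} [Field k] {r : ℕ} {C : Type*} [CommRing C] [Algebra k C]
    [Module.Finite k C] (ξ : Fin r → C) (c : Cˣ) (F : MvPolynomial (Fin r) k) (hF : F ≠ 0) :
    ∃ h : MvPolynomial (Fin r) k, h ≠ 0 ∧
      MvPolynomial.aeval (fun i => MvPolynomial.C (ξ i) + MvPolynomial.C (c : C) * MvPolynomial.X i :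
        Fin r → MvPolynomial (Fin r) C) F ∣ MvPolynomial.map (algebraMap k C) h := by
  set f := MvPolynomial.aeval (fun i => MvPolynomial.C (ξ i) + MvPolynomial.C (c : C) * MvPolynomial.X i :
        Fin r → MvPolynomial (Fin r) C) F with hf
  let A : MvPolynomial (Fin r) C →ₐ[C] MvPolynomial (Fin r) C :=
    MvPolynomial.aeval fun i => MvPolynomial.C (ξ i) + MvPolynomial.C (c : C) * MvPolynomial.X i
  let A' : MvPolynomial (Fin r) C →ₐ[C] MvPolynomial (Fin r) C :=
    MvPolynomial.aeval fun i => MvPolynomial.C ((c⁻¹ : Cˣ) : C) *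
      (MvPolynomial.X i - MvPolynomial.C (ξ i))
  have h12 : A.comp A' = AlgHom.id C _ := by
    refine MvPolynomial.algHom_ext fun i => ?_
    simp only [A, A', AlgHom.comp_apply, MvPolynomial.aeval_X, map_mul, map_sub, MvPolynomial.aeval_C,
      MvPolynomial.algebraMap_eq, add_sub_cancel_left, AlgHom.id_apply]
    rw [← mul_assoc, ← map_mul, Units.inv_mul, map_one, one_mul]
  have h21 : A'.comp A = AlgHom.id C _ := by
    refine MvPolynomial.algHom_ext fun i => ?_
    simp only [A, A', AlgHom.comp_apply, MvPolynomial.aeval_X, map_add, map_mul, MvPolynomial.aeval_C,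
      MvPolynomial.algebraMap_eq, AlgHom.id_apply]
    rw [← mul_assoc, ← map_mul, Units.mul_inv, map_one, one_mul, add_sub_cancel]
  have hfeq : f = A (MvPolynomial.map (algebraMap k C) F) := by
    simp only [hf, A, MvPolynomial.aeval_map_algebraMap]
  have hnzd : f ∈ nonZeroDivisors (MvPolynomial (Fin r) C) := by
    rw [hfeq]
    exact map_mem_nonZeroDivisors_of_bijective (AlgEquiv.ofAlgHom A A' h12 h21) F hF
  obtain ⟨h, hh, hdvd⟩ :=
    ((Algebra.IsIntegral.isIntegral (R := MvPolynomial (Fin r) k) f).isAlgebraic).exists_nonzero_dvd hnzd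
  exact ⟨h, hh, hdvd⟩
where
  map_mem_nonZeroDivisors_of_bijective {k : Type _} [Field k] {r : ℕ} {C : Type _} [CommRing C]
      [Algebra k C] (e : MvPolynomial (Fin r) C ≃ₐ[C] MvPolynomial (Fin r) C)
      (F : MvPolynomial (Fin r) k) (hF : F ≠ 0) :
      e (MvPolynomial.map (algebraMap k C) F) ∈ nonZeroDivisors (MvPolynomial (Fin r) C) := by
    refine mem_nonZeroDivisors_iff_right.mpr fun q hq => ?_
    have := mem_nonZeroDivisors_iff_right.mp (map_mem_nonZeroDivisors (C := C) F hF) (e.symm q)
      (e.injective (by rw [map_mul, e.apply_symm_apply, hq, map_zero]))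
    exact e.symm.injective (by rw [this, map_zero])

end

open Polynomial in
theorem isUnit_of_root {k C : Type*} [Field k] [CommRing C] [Algebra k C] (G : k[X])
    (h0 : G.coeff 0 ≠ 0) (τ : C) (hτ : aeval τ G = 0) : IsUnit τ := by
  have h : τ * (- aeval τ G.divX) = algebraMap k C (G.coeff 0) := by
    have := congrArg (aeval τ) (X_mul_divX_add G)
    simp only [map_add, map_mul, aeval_X, aeval_C, hτ] at this
    linear_combination -this
  exact isUnit_of_mul_isUnit_left (h ▸ (isUnit_iff_ne_zero.mpr h0).map _)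

open MvPolynomial in
/-- If the translate of `F` is a unit modulo a maximal ideal `M` of `S` in the finite algebra
`B`, an element congruent to `1` modulo `M` is a multiple of it. -/
theorem exists_sub_one_mem_dvd {S B : Type*} [CommRing S] [CommRing B] [Algebra S B]
    [Module.Finite S B] (M : Ideal S) (f : B)
    (hf : IsUnit (Ideal.Quotient.mk (M.map (algebraMap S B)) f)) :
    ∃ a : S, a - 1 ∈ M ∧ f ∣ algebraMap S B a := by
  have htop : Ideal.span {f} ⊔ M.map (algebraMap S B) = ⊤ := by
    obtain ⟨v, hv⟩ := Ideal.Quotient.mk_surjective hf.unit⁻¹.val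
    rw [Ideal.eq_top_iff_one]
    have h1 : f * v - 1 ∈ M.map (algebraMap S B) := by
      rw [← Ideal.Quotient.eq_zero_iff_mem, map_sub, map_mul, map_one, hv, sub_eq_zero]
      exact hf.mul_val_inv
    have : (1 : B) = f * v + -(f * v - 1) := by ring
    rw [this]
    exact Submodule.add_mem_sup (Ideal.mul_mem_right _ _ (Ideal.mem_span_singleton_self f))
      (neg_mem h1)
  let B' := B ⧸ Ideal.span {f}
  have hN : (⊤ : Submodule S B') ≤ M • ⊤ := by
    rw [Ideal.smul_top_eq_map]
    intro b _
    have hmap : M.map (algebraMap S B') = ⊤ := by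
      have h2 := congrArg (Ideal.map (Ideal.Quotient.mk (Ideal.span {f}))) htop
      rw [Ideal.map_sup, Ideal.map_quotient_self, bot_sup_eq, Ideal.map_top] at h2
      rw [IsScalarTower.algebraMap_eq S B B', ← Ideal.map_map, Ideal.Quotient.algebraMap_eq]
      exact h2
    simp [hmap]
  obtain ⟨a, ha, hann⟩ := Submodule.exists_sub_one_mem_and_smul_eq_zero_of_fg_of_le_smul M
    (⊤ : Submodule S B') (Module.Finite.fg_top) hN
  refine ⟨a, ha, ?_⟩
  have h1 := hann (Ideal.Quotient.mk _ 1) trivial
  rw [Algebra.smul_def, map_one, mul_one, IsScalarTower.algebraMap_apply S B B'] at h1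
  exact Ideal.mem_span_singleton.mp (Ideal.Quotient.eq_zero_iff_mem.mp h1)

/-- Let k be an infinite perfect field, r, m, s ≥ 1 and d ≥ 0, and put N = s(m+1). In affine space with
coordinates x_1, …, x_r, t, y_1, …, y_d let Z = V(I) be an integral closed subscheme of dimension r
which does not meet t = 0 and such that neither the projection of Z to the x-coordinates nor its
projection to the t-line is dominant (I contains a nonzero polynomial in the x's alone and a nonzero
polynomial in t alone). Let Σ be a finite set of closed points of affine r-space over k. Then there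
is a nonzero polynomial h in k[g_1, …, g_r] such that for every field K over k and every g ∈ K^r
with h(g) ≠ 0 the translate Z_g = {(x, t, y) : (x + t^N g, t, y) ∈ Z_K} of Z_K is empty over an open
neighbourhood of the points of affine r-space over K lying over Σ: the closure of the image of Z_g
in affine r-space over K (the zero set of the contraction to K[x_1, …, x_r] of the ideal of Z_g)
contains no point lying over a point of Σ. (The published statement assumes that Z is an irreducible
admissible additive cycle meeting the faces through Σ properly; of this its proof uses only that Z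
misses t = 0, which is a hypothesis here, and the dense open subset of affine r-space is given as
the locus h ≠ 0.) -/
theorem result
    {k : Type u} [Field k] [Infinite k] [PerfectField k] (r m s d : ℕ) (hr : 1 ≤ r) (hm : 1 ≤ m) (hs : 1 ≤ s)
    (I : Ideal (MvPolynomial (Fin r ⊕ (Unit ⊕ Fin d)) k)) (hI : I.IsPrime)
    (hdim : ringKrullDim (MvPolynomial (Fin r ⊕ (Unit ⊕ Fin d)) k ⧸ I) = r)
    (ht0 : I ⊔ Ideal.span {MvPolynomial.X (Sum.inr (Sum.inl ()))} = ⊤)
    (hx : Ideal.comap (MvPolynomial.rename (Sum.inl : Fin r → Fin r ⊕ (Unit ⊕ Fin d)) :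
        MvPolynomial (Fin r) k →ₐ[k] MvPolynomial (Fin r ⊕ (Unit ⊕ Fin d)) k) I ≠ ⊥)
    (ht : Ideal.comap (MvPolynomial.rename (fun _ : Unit => (Sum.inr (Sum.inl ()) : Fin r ⊕ (Unit ⊕ Fin d))) :
        MvPolynomial Unit k →ₐ[k] MvPolynomial (Fin r ⊕ (Unit ⊕ Fin d)) k) I ≠ ⊥)
    (Sigma : Finset (Ideal (MvPolynomial (Fin r) k))) (hSigma : ∀ P ∈ Sigma, P.IsMaximal) :
    ∃ h : MvPolynomial (Fin r) k, h ≠ 0 ∧
      ∀ (K : Type v) [Field K] [Algebra k K] (g : Fin r → K), MvPolynomial.aeval g h ≠ 0 →
        ∀ P ∈ Sigma,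
          Ideal.comap (MvPolynomial.rename (Sum.inl : Fin r → Fin r ⊕ (Unit ⊕ Fin d)) :
              MvPolynomial (Fin r) K →ₐ[K] MvPolynomial (Fin r ⊕ (Unit ⊕ Fin d)) K)
            (Ideal.map (MvPolynomial.aeval
                (Sum.elim (fun i : Fin r => MvPolynomial.X (Sum.inl i) +
                    MvPolynomial.X (Sum.inr (Sum.inl ())) ^ (s * (m + 1)) * MvPolynomial.C (g i))
                  (fun j : Unit ⊕ Fin d => MvPolynomial.X (Sum.inr j))) :
                MvPolynomial (Fin r ⊕ (Unit ⊕ Fin d)) k →ₐ[k] MvPolynomial (Fin r ⊕ (Unit ⊕ Fin d)) K) I) ⊔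
            Ideal.map (MvPolynomial.map (algebraMap k K) : MvPolynomial (Fin r) k →+* MvPolynomial (Fin r) K) P = ⊤ := by
  classical
  -- the two given equations
  obtain ⟨F, hFI, hF0⟩ := Submodule.exists_mem_ne_zero_of_ne_bot hx
  rw [Ideal.mem_comap] at hFI
  obtain ⟨G₂, hG₂I, hG₂0⟩ := Submodule.exists_mem_ne_zero_of_ne_bot ht
  rw [Ideal.mem_comap] at hG₂I
  let T : MvPolynomial (Fin r ⊕ (Unit ⊕ Fin d)) k := MvPolynomial.X (Sum.inr (Sum.inl ()))
  have htI : T ∉ I := fun h => hI.ne_top (top_unique (ht0 ▸ sup_le le_rfl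
    ((Ideal.span_singleton_le_iff_mem _).mpr h)))
  obtain ⟨G, hGI, hGm, hG00⟩ : ∃ G : Polynomial k, Polynomial.aeval T G ∈ I ∧ G.Monic ∧
      G.coeff 0 ≠ 0 := by
    set G₀ := MvPolynomial.pUnitAlgEquiv k G₂ with hG₀
    have hG₀0 : G₀ ≠ 0 := (map_ne_zero_iff _ (MvPolynomial.pUnitAlgEquiv k).injective).mpr hG₂0
    have hG₀I : Polynomial.aeval T G₀ ∈ I := by
      have e : ((Polynomial.aeval T).comp (MvPolynomial.pUnitAlgEquiv k).toAlgHom :
          MvPolynomial Unit k →ₐ[k] _) = MvPolynomial.rename (fun _ : Unit => Sum.inr (Sum.inl ())) := by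
        refine MvPolynomial.algHom_ext fun i => ?_
        simp [T]
      exact (DFunLike.congr_fun e G₂).symm ▸ hG₂I
    obtain ⟨G₁, hG₁, hG₁X⟩ := G₀.exists_eq_pow_rootMultiplicity_mul_and_not_dvd hG₀0 0
    rw [map_zero, sub_zero] at hG₁ hG₁X
    rw [hG₁, map_mul, map_pow, Polynomial.aeval_X] at hG₀I
    have hG₁I : Polynomial.aeval T G₁ ∈ I :=
      (hI.mem_or_mem hG₀I).resolve_left fun h => htI (hI.mem_of_pow_mem _ h)
    have hne : G₁.coeff 0 ≠ 0 := fun h => hG₁X (Polynomial.X_dvd_iff.mpr h)
    have hG₁0 : G₁ ≠ 0 := fun h => hne (by simp [h])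
    refine ⟨G₁ * Polynomial.C G₁.leadingCoeff⁻¹, ?_, Polynomial.monic_mul_leadingCoeff_inv hG₁0, ?_⟩
    · rw [map_mul]; exact Ideal.mul_mem_right _ _ hG₁I
    · simpa [Polynomial.coeff_mul_C] using ⟨hne, hG₁0⟩
  -- one polynomial for each point of `Sigma`
  have key : ∀ P : Ideal (MvPolynomial (Fin r) k), P ∈ Sigma →
      ∃ h : MvPolynomial (Fin r) k, h ≠ 0 ∧ ∀ (B : Type v) [CommRing B] [Algebra k B]
        (x : Fin r → B) (τ : B), (∀ p ∈ P, MvPolynomial.aeval x p = 0) → Polynomial.aeval τ G = 0 →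
        ∀ g : Fin r → B, IsUnit (MvPolynomial.aeval g h) →
          IsUnit (MvPolynomial.aeval (fun i => x i + τ ^ (s * (m + 1)) * g i) F) := by
    intro P hP
    haveI := hSigma P hP
    letI := Ideal.Quotient.field P
    haveI : Algebra.FiniteType k (MvPolynomial (Fin r) k ⧸ P) := inferInstance
    haveI : Module.Finite k (MvPolynomial (Fin r) k ⧸ P) :=
      finite_of_finite_type_of_isJacobsonRing _ _
    let GP := G.map (algebraMap k (MvPolynomial (Fin r) k ⧸ P))
    haveI : Module.Finite (MvPolynomial (Fin r) k ⧸ P) (AdjoinRoot GP) := (hGm.map _).finite_adjoinRoot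
    haveI : Module.Finite k (AdjoinRoot GP) := Module.Finite.trans (MvPolynomial (Fin r) k ⧸ P) _
    have hτ : Polynomial.aeval (AdjoinRoot.root GP) G = 0 := by
      rw [← Polynomial.aeval_map_algebraMap (MvPolynomial (Fin r) k ⧸ P) (AdjoinRoot.root GP) G]
      exact AdjoinRoot.eval₂_root GP
    obtain ⟨h, hh, w, hw⟩ := exists_dvd
      (fun i => algebraMap (MvPolynomial (Fin r) k ⧸ P) (AdjoinRoot GP) (Ideal.Quotient.mk P (MvPolynomial.X i)))
      ((isUnit_of_root G hG00 _ hτ).unit ^ (s * (m + 1))) F hF0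
    refine ⟨h, hh, fun B _ _ x τ hxP hτB g hg => ?_⟩
    let φ : MvPolynomial (Fin r) k ⧸ P →ₐ[k] B := Ideal.Quotient.liftₐ P (MvPolynomial.aeval x) hxP
    let ψ : AdjoinRoot GP →ₐ[k] B := AdjoinRoot.liftAlgHom GP φ τ (by
      rw [Polynomial.eval₂_map, φ.comp_algebraMap]; exact hτB)
    let Ψ : MvPolynomial (Fin r) (AdjoinRoot GP) →ₐ[k] B := MvPolynomial.aevalTower ψ g
    have h1 := congrArg Ψ hw
    have e2 : Ψ (MvPolynomial.map (algebraMap k (AdjoinRoot GP)) h) = MvPolynomial.aeval g h := by
      have : Ψ.toRingHom.comp (MvPolynomial.map (algebraMap k (AdjoinRoot GP))) =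
          (MvPolynomial.aeval g : MvPolynomial (Fin r) k →ₐ[k] B).toRingHom :=
        MvPolynomial.ringHom_ext (fun a => by simp [Ψ]) (fun i => by simp [Ψ])
      exact RingHom.congr_fun this h
    rw [e2, map_mul] at h1
    have hu : IsUnit (Ψ (MvPolynomial.aeval _ F)) := isUnit_of_mul_isUnit_left (h1 ▸ hg)
    rw [← AlgHom.comp_apply, MvPolynomial.comp_aeval] at hu
    convert hu using 3
    ext i
    simp [Ψ, ψ, φ] <;> exact ((MvPolynomial.aeval_X (R := k) x i).symm)
  choose! hfun hh0 hkey using key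
  refine ⟨∏ P ∈ Sigma, hfun P, Finset.prod_ne_zero_iff.mpr hh0, fun K _ _ g hg P hP => ?_⟩
  rw [map_prod, Finset.prod_ne_zero_iff] at hg
  by_contra hne
  obtain ⟨M, hM, hle⟩ := Ideal.exists_le_maximal _ hne
  rw [sup_le_iff] at hle
  set θ : MvPolynomial (Fin r ⊕ (Unit ⊕ Fin d)) k →ₐ[k] MvPolynomial (Fin r ⊕ (Unit ⊕ Fin d)) K :=
    MvPolynomial.aeval (Sum.elim (fun i : Fin r => MvPolynomial.X (Sum.inl i) +
        MvPolynomial.X (Sum.inr (Sum.inl ())) ^ (s * (m + 1)) * MvPolynomial.C (g i))
      (fun j : Unit ⊕ Fin d => MvPolynomial.X (Sum.inr j))) with hθ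
  set J := Ideal.map θ I with hJ
  let GK : Polynomial (MvPolynomial (Fin r) K) := G.map (algebraMap k (MvPolynomial (Fin r) K))
  haveI : Module.Finite (MvPolynomial (Fin r) K) (AdjoinRoot GK) := (hGm.map _).finite_adjoinRoot
  let e : AdjoinRoot GK →ₐ[k] MvPolynomial (Fin r ⊕ (Unit ⊕ Fin d)) K ⧸ J :=
    AdjoinRoot.liftAlgHom GK
      ((Ideal.Quotient.mkₐ k J).comp ((MvPolynomial.rename Sum.inl).restrictScalars k))
      (Ideal.Quotient.mk J (MvPolynomial.X (Sum.inr (Sum.inl ())))) (by
      rw [Polynomial.eval₂_map, AlgHom.comp_algebraMap, ← Polynomial.aeval_def,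
        ← Ideal.Quotient.mkₐ_eq_mk k, Polynomial.aeval_algHom_apply, Ideal.Quotient.mkₐ_eq_mk,
        Ideal.Quotient.eq_zero_iff_mem]
      have := Ideal.mem_map_of_mem θ hGI
      rw [← Polynomial.aeval_algHom_apply] at this
      simpa [T, hθ] using this)
  let gB : Fin r → AdjoinRoot GK := fun i => algebraMap (MvPolynomial (Fin r) K) _ (MvPolynomial.C (g i))
  let xB : Fin r → AdjoinRoot GK := fun i => algebraMap (MvPolynomial (Fin r) K) _ (MvPolynomial.X i)
  let fB : AdjoinRoot GK :=
    MvPolynomial.aeval (fun i => xB i + AdjoinRoot.root GK ^ (s * (m + 1)) * gB i) F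
  have hfB : e fB = 0 := by
    have : (e.comp (MvPolynomial.aeval fun i => xB i + AdjoinRoot.root GK ^ (s * (m + 1)) * gB i)) =
        (Ideal.Quotient.mkₐ k J).comp (θ.comp (MvPolynomial.rename Sum.inl)) := by
      refine MvPolynomial.algHom_ext fun i => ?_
      simp [e, xB, gB, hθ]
    refine (DFunLike.congr_fun this F).trans ?_
    exact Ideal.Quotient.eq_zero_iff_mem.mpr (Ideal.mem_map_of_mem θ hFI)
  let π := Ideal.Quotient.mkₐ k (M.map (algebraMap (MvPolynomial (Fin r) K) (AdjoinRoot GK)))
  have hunit : IsUnit (π fB) := by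
    have hx' : ∀ p ∈ P, MvPolynomial.aeval (fun i => π (xB i)) p = 0 := by
      intro p hp
      have : (π.comp (((Algebra.ofId (MvPolynomial (Fin r) K) (AdjoinRoot GK)).restrictScalars k).comp
          ((MvPolynomial.mapAlgHom (Algebra.ofId k K) : MvPolynomial (Fin r) k →ₐ[k] (MvPolynomial (Fin r) K))))) =
          MvPolynomial.aeval fun i => π (xB i) := by
        refine MvPolynomial.algHom_ext fun i => ?_
        simp only [AlgHom.comp_apply, MvPolynomial.mapAlgHom_apply, MvPolynomial.map_X, MvPolynomial.aeval_X, xB]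
        rfl
      rw [← this]
      refine Ideal.Quotient.eq_zero_iff_mem.mpr (Ideal.mem_map_of_mem _ (hle.2 ?_))
      exact Ideal.mem_map_of_mem _ hp
    have hτ' : Polynomial.aeval (π (AdjoinRoot.root GK)) G = 0 := by
      rw [Polynomial.aeval_algHom_apply, ← Polynomial.aeval_map_algebraMap (MvPolynomial (Fin r) K) (AdjoinRoot.root GK) G]
      rw [show Polynomial.aeval (AdjoinRoot.root GK) (G.map (algebraMap k (MvPolynomial (Fin r) K))) = 0 from
        AdjoinRoot.eval₂_root GK, map_zero]
    have hg' : IsUnit (MvPolynomial.aeval (fun i => π (gB i)) (hfun P)) := by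
      let ρ : K →ₐ[k] _ :=
        π.comp (((Algebra.ofId (MvPolynomial (Fin r) K) (AdjoinRoot GK)).restrictScalars k).comp (IsScalarTower.toAlgHom k K (MvPolynomial (Fin r) K)))
      have : (fun i => π (gB i)) = fun i => ρ (g i) := rfl
      rw [this]
      rw [← MvPolynomial.comp_aeval, AlgHom.comp_apply]
      exact (isUnit_iff_ne_zero.mpr (hg P hP)).map ρ
    have := hkey P hP _ (fun i => π (xB i)) (π (AdjoinRoot.root GK)) hx' hτ' (fun i => π (gB i)) hg'
    convert this using 1
    rw [← AlgHom.comp_apply, MvPolynomial.comp_aeval]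
    simp only [map_add, map_mul, map_pow]
  obtain ⟨a, ha1, w, hw⟩ := exists_sub_one_mem_dvd M fB hunit
  refine hM.ne_top ((Ideal.eq_top_iff_one _).mpr ?_)
  have haM : a ∈ M := hle.1 (Ideal.mem_comap.mpr (Ideal.Quotient.eq_zero_iff_mem.mp ?_))
  · simpa using M.sub_mem haM ha1
  · have h := congrArg e hw
    rw [map_mul, hfB, zero_mul] at h
    rw [← h]
    simp [e, AdjoinRoot.algebraMap_eq]

end Groth.Agent.S15088
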