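import Groth.Statements.S15094
import Groth.Agent.Frob53.KodV
import Groth.Agent.Inv57.OfTensor
import Groth.Agent.CAlg6.RegularNormal
import Groth.Agent.CAlg1.Regular

set_option autoImplicit false
set_option linter.unusedVariables false
set_option linter.style.haveILetI false
universe u
open CategoryTheory CategoryTheory.Limits AlgebraicGeometry TopologicalSpace
open KodV

namespace Groth.Agent.S15094

/-- Let k be an algebraically closed field of characteristic p > 0, X a smooth proper integral scheme
over k, and L an invertible O_X-module with tensor inverse L⁻¹. If H⁰(X, (L⁻¹)^{⊗p^n} ⊗ Ω¹_{X/k}) =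
0 for every n ≥ 1 and H¹(X, (L⁻¹)^{⊗p^{n₀}}) = 0 for some n₀, then H¹(X, L⁻¹) = 0. (The published
statement says smooth projective variety over a field of characteristic p; smooth, proper and
integral over an algebraically closed field is assumed here, the setting of the proposition it is
deduced from.) -/
theorem result (k : Type u) [Field k] [IsAlgClosed k] (p : ℕ) [Fact p.Prime] [CharP k p]
    (X : Scheme.{u}) [X.Over (Spec (CommRingCat.of k))] [IsProper (X ↘ (Spec (CommRingCat.of k)))] [Smooth (X ↘ (Spec (CommRingCat.of k)))] [IsIntegral X]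
    (L Linv : X.Modules) (hL : PicF.IsInvertible L) (hLinv : ClSub.IsInverseOf Linv L)
    (h0 : ∀ n : ℕ, 1 ≤ n → Subsingleton (Coh.HH X (CohB1.tensorMod (CohB1.tensorPow Linv (p ^ n)) (Omega.sheaf (X ↘ (Spec (CommRingCat.of k))))) 0))
    (h1 : ∃ n₀ : ℕ, Subsingleton (Coh.HH X (CohB1.tensorPow Linv (p ^ n₀)) 1)) :
    Subsingleton (Coh.HH X Linv 1) := by
  have hXn : Pi1.IsNormalScheme X := fun x => by
    have := Groth.Agent.VarGal.isRegularLocalRing_stalk_of_smooth (X ↘ Spec (CommRingCat.of k)) x
    exact ⟨Groth.Agent.CAlg1.isDomain_regular _, Groth.Agent.CAlg6.isIntegrallyClosed_of_regular _⟩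
  obtain ⟨n₀, h1⟩ := h1
  exact Groth.Agent.Frob53.subsingleton_h1_of_iterate p hXn
    (hLinv.elim fun f => Groth.Agent.Inv57.isInvertible_of_tensorMod_iso f) h0 n₀ h1
end Groth.Agent.S15094
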