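import Groth.Statements.S15100
import Groth.Agent.CAlg24.CokerVector
import Mathlib.RingTheory.Ideal.KrullsHeightTheorem
import Mathlib.RingTheory.Kaehler.Basic
-- import your own Groth.Agent.* helpers here

set_option autoImplicit false
universe u
open TensorProduct
open CAlg

namespace Groth.Agent.S15100

/-- Let V be a discrete valuation ring with uniformizer u and V → R → A commutative V-algebras with A an
R-algebra compatibly; assume A is a Noetherian local domain of Krull dimension 3 with u in its
maximal ideal, that Ω_{A/V} is a free A-module of rank 2 and that A ⊗_R Ω_{R/V} is a free A-module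
of rank 1. Suppose that on the special fibre Ω_{A/R} is locally free exactly away from the closed
point: for every prime P of A containing u other than the maximal ideal the localization (Ω_{A/R})_P
is free over A_P, while Ω_{A/R} is not free over A. Then Ω_{A/R} is not locally free on the generic
fibre: there is a prime Q of A not containing u with (Ω_{A/R})_Q not free over A_Q. (In the
published statement R is a regular local ring of dimension 2 and A a local ring of dimension 3, both
smooth over V, which yields the two freeness hypotheses used here, and the hypothesis is phrased as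
local freeness of Ω of the special fibre of A over that of R away from the closed point.) -/
theorem result
    (V R A : Type u) [CommRing V] [IsDomain V] [IsDiscreteValuationRing V] [CommRing R] [CommRing A]
    [IsDomain A] [IsNoetherianRing A] [IsLocalRing A]
    [Algebra V R] [Algebra V A] [Algebra R A] [IsScalarTower V R A]
    (u : V) (hu : Irreducible u) (huA : algebraMap V A u ∈ IsLocalRing.maximalIdeal A)
    (hdimA : ringKrullDim A = 3)
    (hΩA : Module.Free A (Ω[A⁄V])) (hrkA : Module.finrank A (Ω[A⁄V]) = 2)
    (hΩR : Module.Free A (A ⊗[R] Ω[R⁄V])) (hrkR : Module.finrank A (A ⊗[R] Ω[R⁄V]) = 1)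
    (h0 : ∀ P : PrimeSpectrum A, algebraMap V A u ∈ P.asIdeal → P.asIdeal ≠ IsLocalRing.maximalIdeal A →
      Module.Free (Localization.AtPrime P.asIdeal) (LocalizedModule P.asIdeal.primeCompl (Ω[A⁄R])))
    (hm : ¬ Module.Free A (Ω[A⁄R])) :
    ∃ Q : PrimeSpectrum A, algebraMap V A u ∉ Q.asIdeal ∧
      ¬ Module.Free (Localization.AtPrime Q.asIdeal) (LocalizedModule Q.asIdeal.primeCompl (Ω[A⁄R])) := by
  classical
  haveI := hΩA
  haveI := hΩR
  haveI : Module.Finite A (Ω[A⁄V]) := Module.finite_of_finrank_eq_succ hrkA
  haveI : Module.Finite A (A ⊗[R] Ω[R⁄V]) := Module.finite_of_finrank_eq_succ hrkR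
  let e := (Module.finBasisOfFinrankEq A (Ω[A⁄V]) hrkA).equivFun
  let w := Module.finBasisOfFinrankEq A (A ⊗[R] Ω[R⁄V]) hrkR
  let ψ : (Fin 2 → A) →ₗ[A] Ω[A⁄R] := (KaehlerDifferential.map V R A A).comp e.symm.toLinearMap
  let v : Fin 2 → A := e (KaehlerDifferential.mapBaseChange V R A (w 0))
  have hψ : Function.Surjective ψ :=
    (KaehlerDifferential.map_surjective V R A).comp e.symm.surjective
  have hker : LinearMap.ker ψ = A ∙ v := by
    have h1 : LinearMap.range (KaehlerDifferential.mapBaseChange V R A) =
        A ∙ KaehlerDifferential.mapBaseChange V R A (w 0) := by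
      rw [← Submodule.map_top, ← w.span_eq, Submodule.map_span]
      congr 1
      ext z
      simp [Fin.exists_fin_one]
      exact eq_comm
    rw [LinearMap.ker_comp, ← KaehlerDifferential.range_mapBaseChange, h1]
    ext z
    simp only [Submodule.mem_comap, Submodule.mem_span_singleton, LinearEquiv.coe_coe, v]
    refine exists_congr fun a => ?_
    rw [LinearEquiv.eq_symm_apply, map_smul]
  have hv0 : v ≠ 0 := by
    intro h
    apply hm
    have hinj : Function.Injective ψ := by
      rw [← LinearMap.ker_eq_bot, hker, h, Submodule.span_singleton_eq_bot]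
    exact Module.Free.of_equiv (LinearEquiv.ofBijective ψ ⟨hinj, hψ⟩)
  set I := Ideal.span (Set.range v)
  have hI : I ≠ ⊤ := fun h => hm (Groth.Agent.CAlg24.free_of_unimodular ψ hψ v hker h)
  have hI' : ∀ P : Ideal A, I ≤ P → ∀ i, v i ∈ P := fun P h i => h (Ideal.subset_span ⟨i, rfl⟩)
  by_contra! hno
  have hall : ∀ P : Ideal A, P.IsPrime → I ≤ P → P = IsLocalRing.maximalIdeal A := by
    intro P hP hIP
    haveI := hP
    by_contra hne
    refine Groth.Agent.CAlg24.not_free_localization ψ hψ v hker P hv0 (hI' P hIP) ?_
    by_cases hu : algebraMap V A u ∈ P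
    · exact h0 ⟨P, hP⟩ hu hne
    · exact hno ⟨P, hP⟩ hu
  have hmin : IsLocalRing.maximalIdeal A ∈ I.minimalPrimes := by
    refine ⟨⟨(IsLocalRing.maximalIdeal.isMaximal A).isPrime, IsLocalRing.le_maximalIdeal hI⟩, ?_⟩
    exact fun P hP _ => (hall P hP.1 hP.2).ge
  have h2 := Ideal.height_le_card_of_mem_minimalPrimes_span (Set.finite_range v) hmin
  have h3 := IsLocalRing.maximalIdeal_height_eq_ringKrullDim (R := A)
  rw [hdimA] at h3
  have h4 : (Set.range v).ncard ≤ 2 := by
    rw [← Set.image_univ]
    exact (Set.ncard_image_le).trans (by simp [Set.ncard_univ])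
  have h5 : (IsLocalRing.maximalIdeal A).height ≤ 2 := h2.trans (by exact_mod_cast h4)
  have h6 : (IsLocalRing.maximalIdeal A).height = 3 := WithBot.coe_injective h3
  rw [h6] at h5
  exact absurd h5 (by decide)

end Groth.Agent.S15100
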