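import Groth.Statements.S15108
import Groth.Agent.CommPair58.ThetaGrp
import Groth.Agent.RedPts82.GmSmooth

set_option autoImplicit false
universe u
open CategoryTheory CategoryTheory.Limits MonoidalCategory CartesianMonoidalCategory MonObj GrpObj AlgebraicGeometry
open GrpSch

namespace Groth.Agent.S15108

/-- Let k be an algebraically closed field and 1 → G_m → G → K → 1 a theta group over k: u : G_m → G and
v : G → K are homomorphisms of k-group schemes forming a sequence exact for the fppf topology (u ≫ v
trivial, G a pseudo-torsor over K under G_m acting by right translations through u, v acquiring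
sections fppf-locally on K), with K commutative and u(G_m) central in G. If K is finite of prime
order ℓ — K is k-isomorphic to Spec B for a k-algebra B of dimension ℓ over k, ℓ a prime number,
possibly the characteristic — then G is commutative: g h = h g for all points g, h of G with values
in any k-scheme T. -/
theorem result (k : Type u) [Field k] [IsAlgClosed k]
    (G K : Over (Spec (CommRingCat.of k))) [GrpObj G] [GrpObj K] [IsCommMonObj K]
    (u : Red.Gm (Spec (CommRingCat.of k)) ⟶ G) (v : G ⟶ K) (hex : NonAbH1.IsExactSeq Scheme.fppfPrecoverage u v)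
    (hcentral : ∀ (T : Over (Spec (CommRingCat.of k))) (g : T ⟶ G) (t : T ⟶ Red.Gm (Spec (CommRingCat.of k))), g * (t ≫ u) = (t ≫ u) * g)
    (B : Type u) [CommRing B] [Algebra k B] [Module.Finite k B] (ℓ : ℕ) (hℓ : ℓ.Prime)
    (hB : Module.finrank k B = ℓ)
    (e : K.left ≅ Spec (CommRingCat.of B)) (he : e.hom ≫ Spec.map (CommRingCat.ofHom (algebraMap k B)) = K.hom) :
    ∀ (T : Over (Spec (CommRingCat.of k))) (g h : T ⟶ G), g * h = h * g := by
  haveI := Groth.Agent.RedPts82.smooth_Gm (Spec (CommRingCat.of k))
  haveI : IsAffine K.left := IsAffine.of_isIso e.hom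
  obtain ⟨A, _, _, ψ, _⟩ := Groth.Agent.CommPair58.exists_hopf K
  let j : Spec (CommRingCat.of A) ≅ Spec (CommRingCat.of B) := (Over.forget _).mapIso ψ ≪≫ e
  let φ : CommRingCat.of B ⟶ CommRingCat.of A := Spec.preimage j.hom
  have hφ : Spec.map φ = j.hom := Spec.map_preimage _
  haveI : IsIso φ := ⟨Spec.preimage j.inv,
    Spec.map_injective (by rw [Spec.map_comp, hφ, Spec.map_preimage, j.inv_hom_id, Spec.map_id]),
    Spec.map_injective (by rw [Spec.map_comp, hφ, Spec.map_preimage, j.hom_inv_id, Spec.map_id])⟩
  have hc : ∀ r, φ (algebraMap k B r) = algebraMap k A r := fun r => by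
    have h : CommRingCat.ofHom (algebraMap k B) ≫ φ = CommRingCat.ofHom (algebraMap k A) := by
      apply Spec.map_injective
      rw [Spec.map_comp, hφ]
      show (ψ.hom.left ≫ e.hom) ≫ _ = _
      rw [Category.assoc, he]
      exact Over.w ψ.hom
    exact congr($h r)
  let E : B ≃ₐ[k] A := AlgEquiv.ofRingEquiv (f := (asIso φ).commRingCatIsoToRingEquiv) hc
  haveI : Module.Finite k A := Module.Finite.equiv E.toLinearEquiv
  exact fun T g h => Groth.Agent.CommPair58.comm_of_theta ψ u v hex hcentral ℓ hℓ
    (E.toLinearEquiv.finrank_eq.symm.trans hB) T g h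

end Groth.Agent.S15108
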