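import Groth.Statements.S15115
import Groth.Agent.LinRed34.Basic
import Mathlib.RingTheory.IsTensorProduct
-- import your own Groth.Agent.* helpers here

set_option autoImplicit false
universe u
open HopfRep

namespace Groth.Agent.S15115

open TensorProduct in
/-- Let k be an algebraically closed field, H a finite-dimensional commutative Hopf algebra over k all
of whose finite-dimensional comodules are semisimple (a finite linearly reductive group scheme G
over k), A a commutative k-algebra, and M an A-module with an H-coaction that is A-linear (G acts on
M by A-module maps, A carrying the trivial action). Let A' be a commutative A-algebra and N = A' ⊗_A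
M its base change, exhibited by an A-linear map φ : M → N, with the induced coaction: A'-linear and
compatible with φ. Then invariants commute with this base change: writing M^G for the A-submodule of
coinvariant elements of M, the natural map A' ⊗_A M^G → N, a' ⊗ m ↦ a' φ(m), is injective and its
image is exactly the set of coinvariant elements of N. (The published statement is the isomorphism
ρ^* π_* F → π'_* σ^* F for a tame Deligne–Mumford stack with coarse moduli space π and any base
change ρ of the coarse space; this row is the statement about invariants to which its proof reduces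
it, for modules that need not be finitely generated.) -/
theorem result (k : Type u) [Field k] [IsAlgClosed k]
    (H : Type u) [CommRing H] [HopfAlgebra k H] [Module.Finite k H] (hred : HopfRep.IsLinearlyReductive k H)
    (A : Type u) [CommRing A] [Algebra k A]
    (M : Type u) [AddCommGroup M] [Module k M] [Module A M] [IsScalarTower k A M] [HopfRep.Comod k H M]
    (hlin : ∀ (a : A) (m : M), HopfRep.Comod.coact (k := k) (A := H) (a • m) = a • HopfRep.Comod.coact (k := k) (A := H) m)
    (A' : Type u) [CommRing A'] [Algebra k A'] [Algebra A A'] [IsScalarTower k A A']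
    (N : Type u) [AddCommGroup N] [Module k N] [Module A N] [Module A' N]
    [IsScalarTower k A N] [IsScalarTower A A' N] [IsScalarTower k A' N] [HopfRep.Comod k H N]
    (φ : M →ₗ[A] N) (hφ : IsBaseChange A' φ)
    (hcomp : ∀ m : M, HopfRep.Comod.coact (k := k) (A := H) (φ m) =
      LinearMap.rTensor H (φ.restrictScalars k) (HopfRep.Comod.coact (k := k) (A := H) m))
    (hlinN : ∀ (a' : A') (n : N), HopfRep.Comod.coact (k := k) (A := H) (a' • n) = a' • HopfRep.Comod.coact (k := k) (A := H) n)
    (P : Submodule A M) (hP : (P : Set M) = (HopfRep.fixedPts k H M : Set M)) :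
    Function.Injective (TensorProduct.lift (((Algebra.lsmul A A N : A' →ₐ[A] Module.End A N).toLinearMap).compl₂ (φ ∘ₗ P.subtype))) ∧
      Set.range (TensorProduct.lift (((Algebra.lsmul A A N : A' →ₐ[A] Module.End A N).toLinearMap).compl₂ (φ ∘ₗ P.subtype))) =
        (HopfRep.fixedPts k H N : Set N) := by
  have hsm : ∀ (a : A), Hoch.IsComodHom H (Algebra.lsmul k k M a : M →ₗ[k] M) := by
    intro a
    refine LinearMap.ext fun m => ?_
    show HopfRep.Comod.coact (k := k) (A := H) (a • m) = _
    rw [hlin]
    simp only [LinearMap.comp_apply]
    generalize HopfRep.Comod.coact (k := k) (A := H) m = z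
    induction z with
    | zero => simp
    | tmul p q => simp [TensorProduct.smul_tmul']
    | add p q hp hq => simp only [smul_add, map_add, hp, hq]
  have hsmN : ∀ (a : A'), Hoch.IsComodHom H (Algebra.lsmul k k N a : N →ₗ[k] N) := by
    intro a
    refine LinearMap.ext fun m => ?_
    show HopfRep.Comod.coact (k := k) (A := H) (a • m) = _
    rw [hlinN]
    simp only [LinearMap.comp_apply]
    generalize HopfRep.Comod.coact (k := k) (A := H) m = z
    induction z with
    | zero => simp
    | tmul p q => simp [TensorProduct.smul_tmul']
    | add p q hp hq => simp only [smul_add, map_add, hp, hq]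
  have hφc : Hoch.IsComodHom H (φ.restrictScalars k) := LinearMap.ext hcomp
  have hmem : ∀ m, LinRed34.rey k H M hred m ∈ P := fun m => by
    rw [← SetLike.mem_coe, hP]; exact LinRed34.rey_mem hred m
  let r : M →ₗ[A] P :=
    { toFun := fun m => ⟨LinRed34.rey k H M hred m, hmem m⟩
      map_add' := fun x y => Subtype.ext (map_add _ x y)
      map_smul' := fun a x => Subtype.ext (LinRed34.map_rey hred (hsm a) x).symm }
  have hr : r ∘ₗ P.subtype = LinearMap.id := by
    refine LinearMap.ext fun p => Subtype.ext ?_
    exact LinRed34.rey_of_fixed hred (show (p : M) ∈ (HopfRep.fixedPts k H M : Set M) from hP ▸ p.2)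
  set L := TensorProduct.lift (((Algebra.lsmul A A N : A' →ₐ[A] Module.End A N).toLinearMap).compl₂
    (φ ∘ₗ P.subtype)) with hL
  have hLeq : ∀ z, L z = hφ.equiv (P.subtype.lTensor A' z) := by
    intro z
    induction z with
    | zero => simp
    | tmul a p => rw [LinearMap.lTensor_tmul, IsBaseChange.equiv_tmul]; simp [hL]
    | add p q hp hq => simp only [map_add, hp, hq]
  refine ⟨?_, Set.Subset.antisymm ?_ ?_⟩
  · intro x y h
    rw [hLeq, hLeq] at h
    have h' := congrArg (r.lTensor A') (hφ.equiv.injective h)
    rwa [← LinearMap.comp_apply, ← LinearMap.comp_apply, ← LinearMap.lTensor_comp, hr,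
      LinearMap.lTensor_id, LinearMap.id_apply, LinearMap.id_apply] at h'
  · rintro _ ⟨z, rfl⟩
    induction z with
    | zero => rw [map_zero]; exact zero_mem _
    | tmul a p =>
      show a • φ (p : M) ∈ HopfRep.fixedPts k H N
      exact LinRed34.map_mem_fixedPts (hsmN a)
        (LinRed34.map_mem_fixedPts hφc (show (p : M) ∈ (HopfRep.fixedPts k H M : Set M) from hP ▸ p.2))
    | add p q hp hq => rw [map_add]; exact add_mem hp hq
  · intro n hn
    obtain ⟨z, rfl⟩ := hφ.equiv.surjective n
    rw [SetLike.mem_coe] at hn
    refine ⟨r.lTensor A' z, ?_⟩
    rw [← LinRed34.rey_of_fixed hred hn, hLeq]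
    clear hn
    induction z with
    | zero => simp
    | tmul a m =>
      rw [LinearMap.lTensor_tmul, LinearMap.lTensor_tmul, IsBaseChange.equiv_tmul,
        IsBaseChange.equiv_tmul]
      exact ((LinRed34.map_rey hred (hsmN a) (φ m)).symm.trans
        (congrArg (a • ·) (LinRed34.map_rey hred hφc m).symm)).symm
    | add p q hp hq => simp only [map_add, hp, hq]

end Groth.Agent.S15115
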