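import Mathlib
import Groth.Statements.S15116

set_option autoImplicit false
universe u v
open NRGIT

namespace Groth.Agent.S15116

theorem result (k : Type u) [Field k] [CharZero k]
    (A : Type v) [CommRing A] [Algebra k A] (𝒜 : ℤ → Submodule k A) [GradedAlgebra 𝒜]
    (hpos : ∀ i : ℤ, 0 < i → 𝒜 i = ⊥)
    (D : Derivation k A A) (l : ℤ) (hl : 0 < l)
    (hD : ∀ (i : ℤ) (a : A), a ∈ 𝒜 i → D a ∈ 𝒜 (i + l))
    (hfree : ∀ m : Ideal A, m.IsMaximal → (∀ i : ℤ, i < 0 → (𝒜 i : Set A) ⊆ m) → ∃ a : A, D a ∉ m) :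
    ∃ f : A, D f = 1 := by
  classical
  let p0 := GradedRing.proj 𝒜 0
  have hp : ∀ (j i : ℤ) (x : A), x ∈ 𝒜 i → GradedRing.proj 𝒜 j x = if i = j then x else 0 := by
    intro j i x hx
    rw [GradedRing.proj_apply]
    split_ifs with h
    · subst h; exact DirectSum.decompose_of_mem_same 𝒜 hx
    · exact DirectSum.decompose_of_mem_ne 𝒜 hx h
  have key : ∀ x y : A, p0 (x * y) = p0 x * p0 y := by
    intro x y
    induction x using DirectSum.Decomposition.inductionOn 𝒜 with
    | zero => simp
    | add a b ha hb => rw [add_mul, map_add, ha, hb, map_add, add_mul]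
    | @homogeneous i a =>
      induction y using DirectSum.Decomposition.inductionOn 𝒜 with
      | zero => simp
      | add c d hc hd => rw [mul_add, map_add, hc, hd, map_add, mul_add]
      | @homogeneous j c =>
        simp only [p0, hp 0 _ _ (SetLike.mul_mem_graded a.2 c.2), hp 0 _ _ a.2, hp 0 _ _ c.2]
        rcases lt_trichotomy i 0 with hi | hi | hi
        · rw [if_neg hi.ne, zero_mul]
          by_cases hj : 0 < j
          · simp [show (c : A) = 0 by simpa [hpos j hj] using c.2]
          · rw [if_neg (show i + j ≠ 0 by omega)]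
        · subst hi; simp
        · simp [show (a : A) = 0 by simpa [hpos i hi] using a.2]
  have hDp : ∀ a : A, p0 (D a) = D (GradedRing.proj 𝒜 (-l) a) := by
    intro a
    induction a using DirectSum.Decomposition.inductionOn 𝒜 with
    | zero => simp
    | add a b ha hb => simp only [map_add, ha, hb]
    | @homogeneous i a =>
      simp only [p0, hp 0 _ _ (hD i a a.2), hp (-l) _ _ a.2]
      by_cases h : i = -l
      · rw [if_pos (show i + l = 0 by omega), if_pos h]
      · rw [if_neg (show i + l ≠ 0 by omega), if_neg h, map_zero]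
  have hD0 : ∀ a ∈ 𝒜 0, D a = 0 := fun a ha => by
    simpa [hpos l hl] using hD 0 a ha
  let I : Ideal A :=
    { carrier := {x | ∀ y, p0 (x * y) ∈ LinearMap.range (D : A →ₗ[k] A)}
      zero_mem' := fun y => by simp
      add_mem' := fun {a b} ha hb y => by rw [add_mul, map_add]; exact add_mem (ha y) (hb y)
      smul_mem' := fun c x hx y => by rw [smul_eq_mul, mul_comm c x, mul_assoc]; exact hx _ }
  by_cases hI : I = ⊤
  · have h1 : (1 : A) ∈ I := hI ▸ trivial
    obtain ⟨f, hf⟩ := h1 1
    refine ⟨f, hf.trans ?_⟩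
    simp only [one_mul, p0, hp 0 0 1 (SetLike.one_mem_graded 𝒜), if_pos]
  · exfalso
    obtain ⟨m, hm, hIm⟩ := Ideal.exists_le_maximal I hI
    obtain ⟨a, ha⟩ := hfree m hm fun i hi x hx => hIm fun y => by
      rw [key, show p0 x = 0 by simp [p0, GradedRing.proj_apply, DirectSum.decompose_of_mem_ne 𝒜 hx (ne_of_lt hi)], zero_mul]
      exact zero_mem _
    refine ha (hIm fun y => ⟨GradedRing.proj 𝒜 (-l) a * p0 y, ?_⟩)
    rw [key, hDp]
    change D _ = _
    rw [Derivation.leibniz, hD0 (p0 y) (by simp [p0, GradedRing.proj_apply]), smul_zero, zero_add, smul_eq_mul, mul_comm]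

end Groth.Agent.S15116
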