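import Mathlib
import Groth.Statements.S15117

set_option autoImplicit false
universe u v w
open TensorProduct
open NRGIT

namespace Groth.Agent.S15117

theorem result (k : Type u) [Field k]
    (A B : Type v) [CommRing A] [CommRing B] [Bialgebra k A] [Bialgebra k B] (π : A →ₐc[k] B)
    (W : Type w) [AddCommGroup W] [Module k W] [HopfRep.Comod k A W]
    (V : Submodule k W) (hV : HopfRep.IsSubcomod (k := k) (A := A) V)
    (hfix : ∀ v ∈ V, (π.toLinearMap.lTensor W) (HopfRep.Comod.coact (k := k) (A := A) v) = v ⊗ₜ[k] (1 : B))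
    (v : W) (hv : v ∈ V) :
    HopfRep.Comod.coact (k := k) (A := A) v ∈
      Submodule.span k {x : W ⊗[k] A | ∃ w ∈ V, ∃ a : A,
        (π.toLinearMap.rTensor A) (Coalgebra.comul (R := k) a) = (1 : B) ⊗ₜ[k] a ∧ x = w ⊗ₜ[k] a} := by
  open scoped TensorProduct in
  classical
  let ψ : A →ₗ[k] B ⊗[k] A := π.toLinearMap.rTensor A ∘ₗ Coalgebra.comul - TensorProduct.mk k B A 1
  let ρ : W →ₗ[k] W ⊗[k] A := HopfRep.Comod.coact
  obtain ⟨y, hy⟩ := hV v hv
  have e1 : ∀ z : W ⊗[k] A, (π.toLinearMap.rTensor A).lTensor W ((Coalgebra.comul (R := k) (A := A)).lTensor W z) =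
      (π.toLinearMap.rTensor A ∘ₗ Coalgebra.comul (R := k) (A := A)).lTensor W z := fun z => by
    rw [LinearMap.lTensor_comp]; rfl
  have hco := LinearMap.congr_fun (HopfRep.Comod.coassoc (k := k) (A := A) (V := W)) v
  simp only [LinearMap.comp_apply, LinearEquiv.coe_coe] at hco
  have hker : ψ.lTensor V y = 0 := by
    apply Module.Flat.rTensor_preserves_injective_linearMap (M := B ⊗[k] A) V.subtype Subtype.val_injective
    rw [map_zero, ← LinearMap.comp_apply, LinearMap.rTensor_comp_lTensor, ← LinearMap.lTensor_comp_rTensor,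
      LinearMap.comp_apply, hy, LinearMap.lTensor_sub, LinearMap.sub_apply, ← e1, ← hco, sub_eq_zero]
    rw [← hy]
    clear hy hco
    induction y using TensorProduct.induction_on with
    | zero => simp
    | add p q hp hq => simp only [map_add, hp, hq]
    | tmul w a =>
      have h := hfix (w : W) w.2
      simp only [LinearMap.rTensor_tmul, Submodule.subtype_apply, LinearMap.lTensor_tmul, TensorProduct.mk_apply]
      rw [show (w : W) ⊗ₜ[k] ((1 : B) ⊗ₜ[k] a) = TensorProduct.assoc k W B A (((w : W) ⊗ₜ[k] (1 : B)) ⊗ₜ[k] a) from rfl,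
        ← h]
      generalize HopfRep.Comod.coact (k := k) (A := A) (w : W) = z
      induction z using TensorProduct.induction_on with
      | zero => simp
      | add p q hp hq => simp only [map_add, TensorProduct.add_tmul, hp, hq]
      | tmul p q => simp
  obtain ⟨z, hz⟩ := (Module.Flat.lTensor_exact V (LinearMap.exact_subtype_ker_map ψ) y).1 hker
  rw [← hy, ← hz]
  clear hz hker hy hco
  induction z using TensorProduct.induction_on with
  | zero => simp
  | add p q hp hq => rw [map_add, map_add]; exact add_mem hp hq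
  | tmul w a =>
    refine Submodule.subset_span ⟨w, w.2, a, ?_, rfl⟩
    have h : ψ (a : A) = 0 := a.2
    exact sub_eq_zero.1 h

end Groth.Agent.S15117
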