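import Groth.Agent.Hopf35.NQuotOrbit
import Groth.Agent.Hopf35.LiftPt
import Groth.Statements.S15118

set_option autoImplicit false
universe u
open CategoryTheory MonoidalCategory CartesianMonoidalCategory MonObj GrpObj AlgebraicGeometry Topology
open NRGIT

namespace Groth.Agent.S15118

theorem result (k : Type u) [Field k] [IsAlgClosed k] [CharZero k]
    (H N Q X Y : Over (Spec (CommRingCat.of k))) [GrpObj H] [GrpObj N] [GrpObj Q]
    [IsAffine H.left] [LocallyOfFiniteType H.hom] [IsReduced H.left]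
    [IsAffine N.left] [LocallyOfFiniteType N.hom] [IsReduced N.left]
    [IsAffine Q.left] [LocallyOfFiniteType Q.hom] [IsReduced Q.left]
    [LocallyOfFiniteType X.hom] [QuasiCompact X.hom] [IsSeparated X.hom] [IsReduced X.left]
    [LocallyOfFiniteType Y.hom] [QuasiCompact Y.hom] [IsSeparated Y.hom] [IsReduced Y.left]
    (i : N ⟶ H) [IsMonHom i] [IsClosedImmersion i.left] (hnorm : AlgGrp.IsNormalHom i)
    (q : H ⟶ Q) [IsMonHom q] [Surjective q.left] (hker : AlgGrp.IsKernel i q)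
    (a : AlgGrp.Action H X) (aN : AlgGrp.Action N X) (haN : aN.act = (i ▷ X) ≫ a.act)
    (π : X ⟶ Y) (hπ : GIT.IsGeomQuot aN π)
    (aQ : AlgGrp.Action Q Y) (hequiv : (q ⊗ₘ π) ≫ aQ.act = a.act ≫ π) :
    GIT.IsClosedAction aQ ↔ GIT.IsClosedAction a := by
  constructor
  · intro hQ Ω _ _ T e f
    exact (Groth.Agent.Hopf35.NQuot.isClosed_range_psi_iff i q a aN π aQ haN hequiv hπ f).2 (hQ Ω T e (f ≫ π))
  · intro hH Ω _ _ T e y
    obtain ⟨x, rfl⟩ := Groth.Agent.Hopf35.LiftPt.exists_lift π hπ.surj e y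
    exact (Groth.Agent.Hopf35.NQuot.isClosed_range_psi_iff i q a aN π aQ haN hequiv hπ x).1 (hH Ω T e x)

end Groth.Agent.S15118
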