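import Groth.Agent.S15118
import Groth.Agent.GIT36.AffQuot.Main
import Groth.Statements.S15120

set_option autoImplicit false
universe u
open CategoryTheory MonoidalCategory CartesianMonoidalCategory MonObj GrpObj AlgebraicGeometry Topology
open NRGIT

namespace Groth.Agent.S15120

theorem result (k : Type u) [Field k] [IsAlgClosed k] [CharZero k]
    (H N Q X Y : Over (Spec (CommRingCat.of k))) [GrpObj H] [GrpObj N] [GrpObj Q]
    [IsAffine H.left] [LocallyOfFiniteType H.hom] [IsReduced H.left]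
    [IsAffine N.left] [LocallyOfFiniteType N.hom] [IsReduced N.left]
    [IsAffine Q.left] [LocallyOfFiniteType Q.hom] [IsReduced Q.left]
    [LocallyOfFiniteType X.hom] [QuasiCompact X.hom] [IsSeparated X.hom] [IsReduced X.left]
    [LocallyOfFiniteType Y.hom] [QuasiCompact Y.hom] [IsSeparated Y.hom] [IsReduced Y.left]
    (i : N ⟶ H) [IsMonHom i] [IsClosedImmersion i.left] (hnorm : AlgGrp.IsNormalHom i)
    (q : H ⟶ Q) [IsMonHom q] [Surjective q.left] (hker : AlgGrp.IsKernel i q)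
    (a : AlgGrp.Action H X) (aN : AlgGrp.Action N X) (haN : aN.act = (i ▷ X) ≫ a.act)
    (π : X ⟶ Y) (hπ : GIT.IsGeomQuot aN π)
    (aQ : AlgGrp.Action Q Y) (hequiv : (q ⊗ₘ π) ≫ aQ.act = a.act ≫ π)
    [IsAffine Y.left] (hQ : Red.IsReductive Q) :
    (∃ (Z : Over (Spec (CommRingCat.of k))) (ψ : Y ⟶ Z), LocallyOfFiniteType Z.hom ∧ QuasiCompact Z.hom ∧
        IsSeparated Z.hom ∧ IsReduced Z.left ∧ GIT.IsGeomQuot aQ ψ) ↔ GIT.IsClosedAction a := by
  constructor
  · rintro ⟨Z, ψ, -, -, -, -, hψ⟩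
    exact (Groth.Agent.S15118.result k H N Q X Y i hnorm q hker a aN haN π hπ aQ hequiv).1
      (Groth.Agent.GIT36.Quot.isClosedAction_of_isGeomQuot hψ)
  · intro hH
    have hc := (Groth.Agent.S15118.result k H N Q X Y i hnorm q hker a aN haN π hπ aQ hequiv).2 hH
    obtain ⟨A, _, _, ψ, hψ, -, hLR⟩ := Groth.Agent.GIT36.AffQuot.exists_coord_linRed Q hQ
    haveI := hψ
    obtain ⟨Z, φ, hZ, h, -, hlft⟩ := Groth.Agent.GIT36.AffQuot.exists_affQ ψ hLR Y aQ
    haveI := hZ
    haveI hl : LocallyOfFiniteType Z.hom := hlft inferInstance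
    haveI : _root_.IsReduced Γ(Z.left, ⊤) :=
      isReduced_of_injective φ.left.appTop.hom h.injective
    haveI : IsReduced (Spec Γ(Z.left, ⊤)) := inferInstance
    exact ⟨Z, φ, hl, inferInstance, inferInstance, isReduced_of_isOpenImmersion Z.left.isoSpec.hom,
      ((h.geomQuot_iff ψ hLR).1).2 hc⟩

end Groth.Agent.S15120
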