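import Mathlib
import Groth.Statements.S15121

set_option autoImplicit false
universe u v w
open InvQ

namespace Groth.Agent.S15121

theorem result
    (k : Type u) [Field k] [CharZero k]
    (A : Type v) [CommRing A] [Algebra k A]
    (Λ : Type w) [AddCommGroup Λ] [DecidableEq Λ] [Module.Free ℤ Λ] [Module.Finite ℤ Λ]
    (𝒜 : Λ → Submodule k A) [GradedAlgebra 𝒜]
    (hpos : ∀ w : Λ, 𝒜 w ≠ ⊥ → 𝒜 (-w) ≠ ⊥ → w = 0)
    (δ : Derivation k A A) (hnil : ∀ a : A, ∃ n : ℕ, ((δ : A →ₗ[k] A) ^ n) a = 0)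
    (d : Λ) (hhom : ∀ (w : Λ) (a : A), a ∈ 𝒜 w → δ a ∈ 𝒜 (w + d)) (hd : 𝒜 d = ⊥)
    (hfix : ∀ m : Ideal A, m.IsMaximal → (∀ w : Λ, w ≠ 0 → (𝒜 w : Set A) ⊆ m) → ¬ (Set.range δ ⊆ m)) :
    ∃ s ∈ 𝒜 (-d), δ s = 1 := by
  classical
  let p0 := GradedRing.proj 𝒜 0
  have hp : ∀ (j i : Λ) (x : A), x ∈ 𝒜 i → GradedRing.proj 𝒜 j x = if i = j then x else 0 := by
    intro j i x hx
    rw [GradedRing.proj_apply]
    split_ifs with h
    · subst h; exact DirectSum.decompose_of_mem_same 𝒜 hx
    · exact DirectSum.decompose_of_mem_ne 𝒜 hx h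
  have key : ∀ x y : A, p0 (x * y) = p0 x * p0 y := by
    intro x y
    induction x using DirectSum.Decomposition.inductionOn 𝒜 with
    | zero => simp
    | add a b ha hb => rw [add_mul, map_add, ha, hb, map_add, add_mul]
    | @homogeneous i a =>
      induction y using DirectSum.Decomposition.inductionOn 𝒜 with
      | zero => simp
      | add c e hc he => rw [mul_add, map_add, hc, he, map_add, mul_add]
      | @homogeneous j c =>
        simp only [p0, hp 0 _ _ (SetLike.mul_mem_graded a.2 c.2), hp 0 _ _ a.2, hp 0 _ _ c.2]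
        by_cases hi : i = 0
        · subst hi; simp
        · rw [if_neg hi, zero_mul]
          by_cases hj : i + j = 0
          · rw [if_pos hj]
            obtain rfl : j = -i := eq_neg_of_add_eq_zero_right hj
            by_cases h1 : 𝒜 i = ⊥
            · simp [show (a : A) = 0 by simpa [h1] using a.2]
            · by_cases h2 : 𝒜 (-i) = ⊥
              · simp [show (c : A) = 0 by simpa [h2] using c.2]
              · exact absurd (hpos i h1 h2) hi
          · rw [if_neg hj]
  have hDp : ∀ a : A, p0 (δ a) = δ (GradedRing.proj 𝒜 (-d) a) := by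
    intro a
    induction a using DirectSum.Decomposition.inductionOn 𝒜 with
    | zero => simp
    | add a b ha hb => simp only [map_add, ha, hb]
    | @homogeneous i a =>
      simp only [p0, hp 0 _ _ (hhom i a a.2), hp (-d) _ _ a.2]
      by_cases h : i = -d
      · rw [if_pos (show i + d = 0 by rw [h, neg_add_cancel]), if_pos h]
      · rw [if_neg (show i + d ≠ 0 from fun e => h (eq_neg_of_add_eq_zero_left e)), if_neg h, map_zero]
  have hD0 : ∀ a ∈ 𝒜 0, δ a = 0 := fun a ha => by
    simpa [hd] using hhom 0 a ha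
  let I : Ideal A :=
    { carrier := {x | ∀ y, ∃ s ∈ 𝒜 (-d), δ s = p0 (x * y)}
      zero_mem' := fun y => ⟨0, zero_mem _, by simp⟩
      add_mem' := fun {a b} ha hb y => by
        obtain ⟨s, hs, hs'⟩ := ha y
        obtain ⟨t, ht, ht'⟩ := hb y
        exact ⟨s + t, add_mem hs ht, by rw [add_mul, map_add, map_add, hs', ht']⟩
      smul_mem' := fun c x hx y => by rw [smul_eq_mul, mul_comm c x, mul_assoc]; exact hx _ }
  by_cases hI : I = ⊤
  · have h1 : (1 : A) ∈ I := hI ▸ trivial
    obtain ⟨f, hf, hf'⟩ := h1 1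
    refine ⟨f, hf, hf'.trans ?_⟩
    simp only [one_mul, p0, hp 0 0 1 (SetLike.one_mem_graded 𝒜), if_pos]
  · exfalso
    obtain ⟨m, hm, hIm⟩ := Ideal.exists_le_maximal I hI
    refine hfix m hm (fun i hi x hx => hIm fun y => ⟨0, zero_mem _, ?_⟩) ?_
    · rw [key, show p0 x = 0 from (hp 0 i x hx).trans (if_neg hi), zero_mul, map_zero]
    · rintro _ ⟨a, rfl⟩
      refine hIm fun y => ⟨GradedRing.proj 𝒜 (-d) a * p0 y, ?_, ?_⟩
      · have := SetLike.mul_mem_graded (A := 𝒜) (i := -d) (j := 0)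
          (show GradedRing.proj 𝒜 (-d) a ∈ 𝒜 (-d) by simp [GradedRing.proj_apply])
          (show p0 y ∈ 𝒜 0 by simp [p0, GradedRing.proj_apply])
        simpa using this
      · rw [key, hDp, Derivation.leibniz, hD0 (p0 y) (by simp [p0, GradedRing.proj_apply]), smul_zero, zero_add, smul_eq_mul, mul_comm]

end Groth.Agent.S15121
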