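import Mathlib
import Groth.Statements.S15122

set_option autoImplicit false
universe u v w
open GIT

namespace Groth.Agent.S15122

theorem result
    (R : Type u) (A : Type v) (B : Type w) [CommRing R] [CommRing A] [CommRing B] [Algebra R A] [Algebra R B]
    [Algebra A B] [IsScalarTower R A B]
    (𝒜 : ℕ → Submodule R A) [GradedAlgebra 𝒜] (ℬ : ℕ → Submodule R B) [GradedAlgebra ℬ]
    (σ : A) (hσ0 : σ ∈ 𝒜 0) [IsLocalization.Away σ B]
    (ι : 𝒜 →+*ᵍ ℬ) (hι : ∀ a : A, ι a = algebraMap A B a) :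
    (HomogeneousIdeal.irrelevant 𝒜).map ι = HomogeneousIdeal.irrelevant ℬ := by
  apply le_antisymm
  · refine HomogeneousIdeal.map_le_of_le_comap _ ?_
    intro a ha
    change ι a ∈ HomogeneousIdeal.irrelevant ℬ
    replace ha : a ∈ HomogeneousIdeal.irrelevant 𝒜 := ha
    rw [HomogeneousIdeal.mem_irrelevant_iff, GradedRing.proj_apply] at ha ⊢
    rw [← map_directSumDecompose (𝒜 := 𝒜) (ℬ := ℬ) ι, ha, map_zero]
  · refine (HomogeneousIdeal.irrelevant_le ℬ).mpr ?_
    intro n hn b hb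
    replace hb : b ∈ ℬ n := hb
    change b ∈ ((HomogeneousIdeal.irrelevant 𝒜).map ι).toIdeal
    rw [HomogeneousIdeal.toIdeal_map]
    obtain ⟨⟨a, ⟨_, k, rfl⟩⟩, hk⟩ := IsLocalization.surj (Submonoid.powers σ) b
    have hs : algebraMap A B (σ ^ k) ∈ ℬ 0 := by
      rw [← hι]
      exact ι.map_mem (by simpa using SetLike.pow_mem_graded (A := 𝒜) k hσ0)
    have hbs : b * algebraMap A B (σ ^ k) ∈ ℬ n := by simpa using SetLike.mul_mem_graded (A := ℬ) hb hs
    have hu : IsUnit (algebraMap A B (σ ^ k)) :=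
      IsLocalization.map_units B (⟨_, k, rfl⟩ : Submonoid.powers σ)
    rw [← Ideal.mul_unit_mem_iff_mem _ hu]
    have he : b * algebraMap A B (σ ^ k) = ι (DirectSum.decompose 𝒜 a n : A) := by
      rw [map_directSumDecompose (𝒜 := 𝒜) (ℬ := ℬ) ι, hι, ← hk, DirectSum.decompose_of_mem_same _ hbs]
    rw [he]
    exact Ideal.mem_map_of_mem ι (HomogeneousIdeal.mem_irrelevant_of_mem 𝒜 hn (SetLike.coe_mem _))

end Groth.Agent.S15122
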