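import Groth.Statements.S15127
import Groth.Agent.FinGrp34.UnipOrbit
import Groth.Agent.Comod33.SubHopf
import Groth.Agent.Hopf34.Fin
import Groth.Prelude.Def_ComodSub

set_option autoImplicit false
universe u
open scoped TensorProduct
open GLin

namespace Groth.Agent.S15127

open Groth.Agent.FinGrp34

/-- Let k be an algebraically closed field, H a commutative Hopf k-algebra such that every nonzero
finite-dimensional H-comodule has a nonzero fixed vector (the affine group U = Spec H is unipotent),
which is the increasing union of a sequence of finitely generated subalgebras B_0 ⊆ B_1 ⊆ ⋯ each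
stable under comultiplication and antipode, with H free as a module over each B_i (so U is the limit
of the unipotent algebraic quotients Spec B_i). Let A be a countably generated commutative k-algebra
with a multiplicative H-coaction (an action of U on the affine scheme Spec A) and x : A → k a
k-point. Then the orbit of x under U is closed: the image of the orbit morphism Spec H → Spec A is a
closed subset. (The published statement is for a pro-unipotent group — a countable successive
extension of copies of the additive group — acting on an affine scheme that is a countable limit of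
affine schemes of finite type; such a group has coordinate ring a polynomial ring in countably many
variables filtered by the finitely generated Hopf subalgebras of its algebraic quotients, hence
satisfies the hypotheses here, which are the ones the argument uses.) -/
theorem result
    (k : Type u) [Field k] [IsAlgClosed k]
    (H : Type u) [CommRing H] [HopfAlgebra k H]
    (hU : HopfRep.IsUnipotent k H)
    (B : ℕ → Subalgebra k H) (hmono : Monotone B) (hcov : ∀ h : H, ∃ i, h ∈ B i)
    (hfg : ∀ i, (B i).FG)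
    (hcomul : ∀ i, ∀ b ∈ B i, CoalgebraStruct.comul (R := k) (A := H) b ∈
      LinearMap.range (TensorProduct.map (B i).val.toLinearMap (B i).val.toLinearMap))
    (hanti : ∀ i, ∀ b ∈ B i, HopfAlgebraStruct.antipode (R := k) (A := H) b ∈ B i)
    (hfree : ∀ i, Module.Free (B i) H)
    (A : Type u) [CommRing A] [Algebra k A] [HopfRep.Comod k H A] [GLin.IsCoactAlg k H A]
    (hA : ∃ s : Set A, s.Countable ∧ Algebra.adjoin k s = ⊤)
    (x : A →ₐ[k] k) :
    GLin.IsClosedOrbit k H x := by
  classical
  let φ := GLin.orbitHom k H x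
  have hΔ : ∀ a : A, CoalgebraStruct.comul (R := k) (φ a) =
      φ.toLinearMap.rTensor H (HopfRep.Comod.coact (k := k) (A := H) a) := by
    intro a
    let X : A →ₗ[k] k := x.toLinearMap
    have e1 : ∀ t : A ⊗[k] H, CoalgebraStruct.comul (R := k)
        ((Algebra.TensorProduct.lid k H) (Algebra.TensorProduct.map x (AlgHom.id k H) t)) =
        TensorProduct.lid k (H ⊗[k] H) (X.rTensor (H ⊗[k] H) ((CoalgebraStruct.comul (R := k) (A := H)).lTensor A t)) := by
      intro t
      induction t with
      | zero => simp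
      | add p q hp hq => simp only [map_add, hp, hq]
      | tmul p q => simp [X]
    have e2 : ∀ t : A ⊗[k] H, φ.toLinearMap.rTensor H t =
        TensorProduct.lid k (H ⊗[k] H) (X.rTensor (H ⊗[k] H)
          (TensorProduct.assoc k A H H ((HopfRep.Comod.coact (k := k) (A := H) (V := A)).rTensor H t))) := by
      intro t
      induction t with
      | zero => simp
      | add p q hp hq => simp only [map_add, hp, hq]
      | tmul p q =>
        show φ p ⊗ₜ[k] q = _
        rw [LinearMap.rTensor_tmul]
        show (Algebra.TensorProduct.lid k H) (Algebra.TensorProduct.map x (AlgHom.id k H)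
          (HopfRep.Comod.coact (k := k) (A := H) p)) ⊗ₜ[k] q = _
        generalize HopfRep.Comod.coact (k := k) (A := H) p = s
        induction s with
        | zero => simp
        | add a b ha hb => simp only [map_add, TensorProduct.add_tmul, ha, hb]
        | tmul a b => simp [X, TensorProduct.smul_tmul']
    rw [e2]
    have := DFunLike.congr_fun (‹HopfRep.Comod k H A›.coassoc) a
    simp only [LinearMap.comp_apply, LinearEquiv.coe_coe] at this
    rw [this, ← e1]
    rfl
  -- non-zero subcomodules of H contain 1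
  have hfixH : ∀ W : Submodule k H, HopfRep.IsSubcomod (k := k) (A := H) W → W ≠ ⊥ → (1 : H) ∈ W := by
    intro W hW hne
    obtain ⟨w, hw, hw0⟩ := (Submodule.ne_bot_iff _).1 hne
    obtain ⟨W₀, hfin, hs, hwW, hmin⟩ := Hopf34.exists_finite_isSubcomod (k := k) (A := H) ({w} : Set H) (Set.finite_singleton w)
    have hle : W₀ ≤ W := hmin W hW (Set.singleton_subset_iff.2 hw)
    letI := ComodSub.Comod.restr (HopfRep.Comod.regular (k := k) (A := H)) W₀ hs
    haveI : Nontrivial W₀ := ⟨⟨⟨w, hwW rfl⟩, 0, fun h => hw0 (congrArg Subtype.val h)⟩⟩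
    obtain ⟨v, hv, hv0⟩ := (Submodule.ne_bot_iff _).1 (hU W₀ hfin inferInstance)
    have h1 : CoalgebraStruct.comul (R := k) (v : H) = (v : H) ⊗ₜ[k] (1 : H) := by
      have := (ComodSub.restr_coact_coe (HopfRep.Comod.regular (k := k) (A := H)) W₀ hs v).symm
      rw [show HopfRep.Comod.coact (k := k) (A := H) v = v ⊗ₜ[k] (1 : H) from hv] at this
      exact this
    have h2 : (v : H) = CoalgebraStruct.counit (R := k) (v : H) • (1 : H) := by
      have h3 := congrArg (fun t => TensorProduct.lid k H ((CoalgebraStruct.counit (R := k) (A := H)).rTensor H t)) h1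
      simp only [Coalgebra.rTensor_counit_comul, LinearMap.rTensor_tmul, TensorProduct.lid_tmul, one_smul] at h3
      exact h3
    have hc : CoalgebraStruct.counit (R := k) (v : H) ≠ 0 := fun h => hv0 (Subtype.ext (by rw [h2, h, zero_smul]; rfl))
    have hmem : CoalgebraStruct.counit (R := k) (v : H) • (1 : H) ∈ W := h2 ▸ hle v.2
    simpa [smul_smul, inv_mul_cancel₀ hc] using W.smul_mem (CoalgebraStruct.counit (R := k) (v : H))⁻¹ hmem
  suffices hrange : Set.range (PrimeSpectrum.comap φ.toRingHom) = PrimeSpectrum.zeroLocus (RingHom.ker φ : Set A) by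
    show IsClosed (Set.range (PrimeSpectrum.comap φ.toRingHom))
    rw [hrange]
    exact PrimeSpectrum.isClosed_zeroLocus _
  refine le_antisymm ?_ fun P hP => ?_
  · rintro _ ⟨Q, rfl⟩ f hf
    show φ f ∈ Q.asIdeal
    rw [RingHom.mem_ker.1 hf]; exact zero_mem _
  suffices hcm : (P.asIdeal.map φ.toRingHom).comap φ.toRingHom = P.asIdeal by
    obtain ⟨Q, hQ, hQP⟩ := (Ideal.comap_map_eq_self_iff_of_isPrime (f := φ.toRingHom) P.asIdeal).1 hcm
    exact ⟨⟨Q, hQ⟩, PrimeSpectrum.ext hQP⟩
  refine le_antisymm (fun a ha => ?_) Ideal.le_comap_map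
  have ha' : φ a ∈ Ideal.span (φ '' (P.asIdeal : Set A)) := ha
  obtain ⟨n, p, h, hsum⟩ : ∃ (n : ℕ) (p : Fin n → P.asIdeal) (h : Fin n → H), φ a = ∑ i, h i * φ (p i) := by
    obtain ⟨f, hf, heq⟩ := Submodule.mem_span_set.1 ha'
    have hc : ∀ i : f.support, ∃ q : P.asIdeal, φ q = (i : H) := fun i => by
      obtain ⟨q, hq, he⟩ := hf i.2
      exact ⟨⟨q, hq⟩, he⟩
    choose q hq using hc
    let e := f.support.equivFin
    refine ⟨f.support.card, fun i => q (e.symm i), fun i => f (e.symm i), ?_⟩
    rw [← heq, Finsupp.sum, ← Finset.sum_coe_sort f.support, ← e.symm.sum_comp]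
    simp [hq]
  obtain ⟨W, hWfin, hWs, hFW, -⟩ := Hopf34.exists_finite_isSubcomod (k := k) (A := H)
    (insert a (Set.range fun i => (p i : A))) ((Set.finite_range _).insert a)
  haveI := hWfin
  let b := Module.finBasis k W
  let A₀ : Subalgebra k A := Algebra.adjoin k (Set.range fun j => (b j : A))
  have hWA : ∀ w ∈ W, w ∈ A₀ := by
    intro w hw
    have : ⊤ ≤ (Subalgebra.toSubmodule A₀).comap W.subtype := by
      rw [← b.span_eq, Submodule.span_le]
      rintro _ ⟨j, rfl⟩
      exact Algebra.subset_adjoin ⟨j, rfl⟩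
    exact this Submodule.mem_top (x := ⟨w, hw⟩)
  let C : Subalgebra k H := A₀.map φ
  have hC : HopfRep.IsSubcomod (k := k) (A := H) (Subalgebra.toSubmodule C) := by
    let M := Algebra.TensorProduct.map C.val (AlgHom.id k H)
    have hle : A₀ ≤ (M.range.comap (Bialgebra.comulAlgHom k H)).comap φ := by
      refine Algebra.adjoin_le ?_
      rintro _ ⟨j, rfl⟩
      show Bialgebra.comulAlgHom k H (φ (b j)) ∈ M.range
      rw [Bialgebra.comulAlgHom_apply, hΔ]
      obtain ⟨z, hz⟩ := hWs _ (b j).2
      rw [← hz]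
      clear hz
      induction z with
      | zero => simp
      | add p q hp hq => simp only [map_add]; exact add_mem hp hq
      | tmul p q => exact ⟨(⟨φ p, _, hWA p p.2, rfl⟩ : C) ⊗ₜ[k] q, by simp [M]⟩
    rintro _ ⟨c, hc, rfl⟩
    obtain ⟨z, hz⟩ := hle hc
    exact ⟨z, hz⟩
  have hex : ∀ s : Finset H, ∃ i, ∀ y ∈ s, y ∈ B i := by
    intro s
    induction s using Finset.induction_on with
    | empty => exact ⟨0, by simp⟩
    | insert y s _ ih =>
      obtain ⟨i, hi⟩ := ih
      obtain ⟨j, hj⟩ := hcov y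
      refine ⟨max i j, fun z hz => ?_⟩
      rcases Finset.mem_insert.1 hz with rfl | hz
      · exact hmono (le_max_right _ _) hj
      · exact hmono (le_max_left _ _) (hi z hz)
  obtain ⟨i, hi⟩ := hex (Finset.univ.image (fun j => φ (b j : A)) ∪ Finset.univ.image h)
  have hCB : C ≤ B i := Subalgebra.map_le.2 <| Algebra.adjoin_le (by
    rintro _ ⟨j, rfl⟩
    exact hi _ (Finset.mem_union_left _ (Finset.mem_image_of_mem (fun j => φ (b j : A)) (Finset.mem_univ j))))
  have hBi : Comod33.SubHopf.IsSubHopf (B i) := ⟨hcomul i, hanti i⟩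
  letI := Comod33.SubHopf.hopfAlgebra hBi
  haveI : Algebra.FiniteType k (B i) := (Subalgebra.fg_iff_finiteType _).1 (hfg i)
  have hΔB : ∀ y : B i, CoalgebraStruct.comul (R := k) (y : H) =
      TensorProduct.map (B i).val.toLinearMap (B i).val.toLinearMap (CoalgebraStruct.comul (R := k) y) :=
    fun y => (Comod33.SubHopf.val₂_comul hBi y).symm
  let C' : Subalgebra k (B i) := C.comap (B i).val
  have hC' : HopfRep.IsSubcomod (k := k) (A := B i) (Subalgebra.toSubmodule C') := by
    intro y hy
    rw [Hopf34.mem_range_rTensor_iff]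
    intro ψ
    obtain ⟨ψ', hψ'⟩ := LinearMap.exists_extend ψ (p := Subalgebra.toSubmodule (B i))
    show ((Hopf34.sl ψ (CoalgebraStruct.comul (R := k) y) : B i) : H) ∈ C
    have key : ∀ t : B i ⊗[k] B i, ((Hopf34.sl ψ t : B i) : H) =
        Hopf34.sl ψ' (TensorProduct.map (B i).val.toLinearMap (B i).val.toLinearMap t) := by
      intro t
      induction t with
      | zero => simp
      | add p q hp hq => simp only [map_add, Subalgebra.coe_add, hp, hq]
      | tmul p q =>
        have : ψ' (q : H) = ψ q := DFunLike.congr_fun hψ' q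
        simp [this]
    rw [key, ← hΔB]
    exact (Hopf34.mem_range_rTensor_iff _ _).1 (hC (y : H) hy) ψ'
  have hfix : ∀ W' : Submodule k (B i), HopfRep.IsSubcomod (k := k) (A := B i) W' → W' ≠ ⊥ → (1 : B i) ∈ W' := by
    intro W' hW' hne
    let j : B i →ₗ[k] H := (B i).val.toLinearMap
    obtain ⟨y, hy, hy1⟩ := hfixH (W'.map j) (by
      rintro _ ⟨y, hy, rfl⟩
      rw [Hopf34.mem_range_rTensor_iff]
      intro ψ
      refine ⟨Hopf34.sl (ψ ∘ₗ j) (CoalgebraStruct.comul (R := k) y), (Hopf34.mem_range_rTensor_iff _ _).1 (hW' y hy) _, ?_⟩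
      show j (Hopf34.sl (ψ ∘ₗ j) _) = Hopf34.sl ψ (CoalgebraStruct.comul (R := k) (y : H))
      rw [hΔB]
      generalize CoalgebraStruct.comul (R := k) y = t
      induction t with
      | zero => simp
      | add p q hp hq => simp only [map_add, hp, hq]
      | tmul p q => simp [j]) (fun hb => hne (by
        rw [Submodule.eq_bot_iff] at hb ⊢
        exact fun y hy => Subtype.ext (hb _ ⟨y, hy, rfl⟩)))
    exact (show y = 1 from Subtype.ext hy1) ▸ hy
  let φ₀ : A₀ →ₐ[k] C' :=
    (((φ.comp A₀.val).codRestrict (B i) fun y => hCB ⟨y, y.2, rfl⟩)).codRestrict C' fun y => ⟨y, y.2, rfl⟩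
  have hφ₀ : Function.Surjective φ₀ := by
    rintro ⟨⟨c, hcB⟩, hc⟩
    obtain ⟨y, hy, hyc⟩ := (hc : c ∈ A₀.map φ)
    exact ⟨⟨y, hy⟩, Subtype.ext (Subtype.ext hyc)⟩
  have hC'fg : C'.FG := by
    have : Algebra.FiniteType k A₀ := Algebra.FiniteType.adjoin_of_finite (Set.finite_range _)
    exact (Subalgebra.fg_iff_finiteType _).2 (this.of_surjective φ₀ hφ₀)
  obtain ⟨P', hP'⟩ : (P.comap A₀.val.toRingHom : PrimeSpectrum A₀) ∈ Set.range (PrimeSpectrum.comap φ₀.toRingHom) := by
    rw [range_comap_of_surjective _ φ₀.toRingHom hφ₀]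
    intro y hy
    refine hP ?_
    show φ (y : A) = 0
    exact congrArg (fun z : C' => ((z : B i) : H)) (RingHom.mem_ker.1 hy)
  obtain ⟨Q, hQ⟩ := UnipOrbit.exists_prime_over hfix C' hC'fg hC' P'
  have hQP : ∀ y : A₀, (φ₀ y : B i) ∈ Q.asIdeal ↔ (y : A) ∈ P.asIdeal := fun y => by
    have h1 : (φ₀ y : B i) ∈ Q.asIdeal ↔ φ₀ y ∈ P'.asIdeal := by rw [← hQ]; rfl
    rw [h1]
    show y ∈ (PrimeSpectrum.comap φ₀.toRingHom P').asIdeal ↔ _
    rw [hP']
    rfl
  have hpA : ∀ j, (p j : A) ∈ A₀ := fun j => hWA _ (hFW (Set.mem_insert_of_mem _ ⟨j, rfl⟩))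
  have hhB : ∀ j, h j ∈ B i := fun j =>
    hi _ (Finset.mem_union_right _ (Finset.mem_image_of_mem h (Finset.mem_univ j)))
  refine (hQP ⟨a, hWA a (hFW (Set.mem_insert a _))⟩).1 ?_
  rw [show (φ₀ ⟨a, _⟩ : B i) = ∑ j, (⟨h j, hhB j⟩ : B i) * (φ₀ ⟨p j, hpA j⟩ : B i) from Subtype.ext (by
    rw [AddSubmonoidClass.coe_finsetSum]
    exact hsum)]
  exact Ideal.sum_mem _ fun j _ => Ideal.mul_mem_left _ _ ((hQP ⟨p j, hpA j⟩).2 (p j).2)

end Groth.Agent.S15127
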