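import Groth.Statements.S15130
import Groth.Agent.CAlg8.NilFlat
import Mathlib

set_option autoImplicit false
universe u v
open CAlg

namespace Groth.Agent.S15130

open Groth.Agent.CAlg8

/-- Let A be an Artinian local ring with residue field k and P → Q → R → M → 0 a complex of A-modules
with P, Q, R flat which is exact at R and at M. If the reduced complex k ⊗ P → k ⊗ Q → k ⊗ R is
exact (the rest of the reduced sequence is then automatically exact), then M is flat and the
original complex is exact at Q as well. (The published statement is for local Artinian algebras over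
an algebraically closed field of characteristic zero having that field as residue field; this row
allows any Artinian local ring.) -/
theorem result
    (A : Type u) [CommRing A] [IsLocalRing A] [IsArtinianRing A]
    (P Q R M : Type v) [AddCommGroup P] [Module A P] [AddCommGroup Q] [Module A Q]
    [AddCommGroup R] [Module A R] [AddCommGroup M] [Module A M]
    [Module.Flat A P] [Module.Flat A Q] [Module.Flat A R]
    (f : P →ₗ[A] Q) (g : Q →ₗ[A] R) (h : R →ₗ[A] M)
    (hfg : g ∘ₗ f = 0) (hgh : Function.Exact g h) (hh : Function.Surjective h)
    (hred : Function.Exact (f.lTensor (IsLocalRing.ResidueField A)) (g.lTensor (IsLocalRing.ResidueField A))) :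
    Module.Flat A M ∧ Function.Exact f g := by
  change Function.Exact (f.lTensor (A ⧸ IsLocalRing.maximalIdeal A)) (g.lTensor (A ⧸ IsLocalRing.maximalIdeal A)) at hred
  set k := A ⧸ IsLocalRing.maximalIdeal A
  have hm : IsNilpotent (IsLocalRing.maximalIdeal A) := NilFlat.isNilpotent_maximalIdeal
  let i := (LinearMap.range g).subtype
  let g' := g.rangeRestrict
  have hg'f : g' ∘ₗ f = 0 := by ext x; exact LinearMap.congr_fun hfg x
  have hex : Function.Exact i h := by
    rw [LinearMap.exact_iff, Submodule.range_subtype]; exact LinearMap.exact_iff.mp hgh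
  have hi : Function.Injective (i.lTensor k) := by
    rw [injective_iff_map_eq_zero]
    intro z hz
    obtain ⟨y, rfl⟩ := LinearMap.lTensor_surjective k g.surjective_rangeRestrict z
    rw [← LinearMap.comp_apply, ← LinearMap.lTensor_comp] at hz
    have : i ∘ₗ g' = g := rfl
    rw [this] at hz
    obtain ⟨x, rfl⟩ := (hred y).mp hz
    rw [← LinearMap.comp_apply, ← LinearMap.lTensor_comp, hg'f, LinearMap.lTensor_zero, LinearMap.zero_apply]
  have hflat : Module.Flat A M :=
    NilFlat.flat_cokernel (m := IsLocalRing.maximalIdeal A) hm i h hh hex hi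
  refine ⟨hflat, ?_⟩
  have : Module.Flat A (LinearMap.range g) :=
    NilFlat.flat_kernel i h (Submodule.subtype_injective _) hh hex
  let K := LinearMap.ker g'
  let f' : P →ₗ[A] K := f.codRestrict K (fun x => LinearMap.congr_fun hg'f x)
  have hK : Function.Injective (K.subtype.lTensor k) :=
    LinearMap.lTensor_injective_of_exact_of_flat g' g.surjective_rangeRestrict _ K.subtype_injective
      (LinearMap.exact_subtype_ker_map g') k
  have hf' : Function.Surjective f' := by
    refine NilFlat.surjective_of_lTensor_quotient (I := IsLocalRing.maximalIdeal A) hm f' fun z => ?_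
    have : g.lTensor k (K.subtype.lTensor k z) = 0 := by
      rw [← LinearMap.comp_apply, ← LinearMap.lTensor_comp]
      have : g ∘ₗ K.subtype = 0 := by
        ext x; exact congrArg Subtype.val (LinearMap.mem_ker.mp x.2)
      rw [this, LinearMap.lTensor_zero, LinearMap.zero_apply]
    obtain ⟨x, hx⟩ := (hred _).mp this
    refine ⟨x, hK ?_⟩
    rw [← hx, ← LinearMap.comp_apply, ← LinearMap.lTensor_comp]
    rfl
  intro y
  refine ⟨fun hy => ?_, ?_⟩
  · obtain ⟨x, hx⟩ := hf' ⟨y, by rw [LinearMap.mem_ker]; exact Subtype.ext hy⟩
    exact ⟨x, congrArg Subtype.val hx⟩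
  · rintro ⟨x, rfl⟩; exact LinearMap.congr_fun hfg x

end Groth.Agent.S15130
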