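import Groth.Statements.S15133
import Groth.Agent.CAlg8.NilFlat
import Mathlib

set_option autoImplicit false
universe u
open CategoryTheory
open CAlg

namespace Groth.Agent.S15133

open Groth.Agent.CAlg8 CategoryTheory

/-- Let A be an Artinian local ring with residue field k, n ≥ 1, and 0 → I → P₀ → P₁ → ⋯ → Pₙ a complex
of A-modules with P₀, …, Pₙ flat whose reduction 0 → k ⊗ I → k ⊗ P₀ → ⋯ → k ⊗ Pₙ is exact. Then I
and coker(Pₙ₋₁ → Pₙ) are flat. The complex is written as a cochain complex C indexed by ℕ with C⁰ =
I and Cⁱ⁺¹ = Pᵢ; its terms in degrees above n + 1 play no role. (The published statement adds that I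
maps onto the kernel of k ⊗ P₀ → k ⊗ P₁, which is already part of the exactness hypothesis, and is
for local Artinian algebras over an algebraically closed field of characteristic zero having that
field as residue field; this row allows any Artinian local ring.) -/
theorem result
    (A : Type u) [CommRing A] [IsLocalRing A] [IsArtinianRing A] (n : ℕ) (hn : 0 < n)
    (C : CochainComplex (ModuleCat.{u} A) ℕ)
    (hflat : ∀ i, i ≤ n → Module.Flat A (C.X (i + 1)))
    (hred : ∀ j, j ≤ n →
      (((MonoidalCategory.tensorLeft (ModuleCat.of A (IsLocalRing.ResidueField A))).mapHomologicalComplex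
        (ComplexShape.up ℕ)).obj C).ExactAt j) :
    Module.Flat A (C.X 0) ∧ Module.Flat A (C.X (n + 1) ⧸ LinearMap.range (C.d n (n + 1)).hom) := by
  set m := IsLocalRing.maximalIdeal A
  have hm : IsNilpotent m := NilFlat.isNilpotent_maximalIdeal
  have hex : ∀ j, j + 1 ≤ n → Function.Exact ((C.d j (j+1)).hom.lTensor (A ⧸ m))
      ((C.d (j+1) (j+1+1)).hom.lTensor (A ⧸ m)) := by
    intro j hj
    have := hred (j+1) hj
    rw [HomologicalComplex.exactAt_iff' _ j (j+1) (j+1+1) (by simp) (by simp),
      ShortComplex.ShortExact.moduleCat_exact_iff_function_exact] at this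
    exact this
  -- injectivity of the reduced map of the image
  have himg : ∀ j, j + 1 ≤ n → Function.Injective
      ((LinearMap.range (C.d (j+1) (j+1+1)).hom).subtype.lTensor (A ⧸ m)) := by
    intro j hj
    set f := (C.d j (j+1)).hom
    set g := (C.d (j+1) (j+1+1)).hom
    have hgf : g ∘ₗ f = 0 := by
      rw [← ModuleCat.hom_comp, C.d_comp_d]; rfl
    rw [injective_iff_map_eq_zero]
    intro z hz
    obtain ⟨y, rfl⟩ := LinearMap.lTensor_surjective (A ⧸ m) g.surjective_rangeRestrict z
    rw [← LinearMap.comp_apply, ← LinearMap.lTensor_comp] at hz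
    have he : (LinearMap.range g).subtype ∘ₗ g.rangeRestrict = g := rfl
    rw [he] at hz
    obtain ⟨x, rfl⟩ := (hex j hj y).mp hz
    have h0 : g.rangeRestrict ∘ₗ f = 0 := by
      ext x; exact LinearMap.congr_fun hgf x
    rw [← LinearMap.comp_apply, ← LinearMap.lTensor_comp, h0, LinearMap.lTensor_zero, LinearMap.zero_apply]
  constructor
  · have h1 := hred 0 (Nat.zero_le n)
    rw [HomologicalComplex.exactAt_iff' _ 0 0 1 (by simp) (by simp),
      ShortComplex.ShortExact.moduleCat_exact_iff_function_exact] at h1
    set g := (C.d 0 1).hom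
    have hinj : Function.Injective (g.lTensor (A ⧸ m)) := by
      rw [injective_iff_map_eq_zero]
      intro z hz
      obtain ⟨y, rfl⟩ := (h1 z).mp hz
      have h00 : C.d 0 0 = 0 := C.shape 0 0 (by simp)
      simp [h00]
      rfl
    have := hflat 0 (Nat.zero_le n)
    have hg := NilFlat.injective_of_lTensor_quotient hm g hinj
    have := NilFlat.flat_cokernel hm g (LinearMap.range g).mkQ (Submodule.mkQ_surjective _)
      (LinearMap.exact_map_mkQ_range g) hinj
    exact NilFlat.flat_kernel g (LinearMap.range g).mkQ hg (Submodule.mkQ_surjective _)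
      (LinearMap.exact_map_mkQ_range g)
  · obtain ⟨k, rfl⟩ : ∃ k, n = k + 1 := ⟨n - 1, by omega⟩
    have := hflat (k+1) le_rfl
    exact NilFlat.flat_cokernel hm _ _ (Submodule.mkQ_surjective _) (LinearMap.exact_subtype_mkQ _) (himg k le_rfl)

end Groth.Agent.S15133
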