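import Groth.Statements.S15134
import Groth.Agent.ArtF85.Quot

set_option autoImplicit false
universe u v
open CategoryTheory
open ArtFun

namespace Groth.Agent.S15134

/-- Let k be a field and F a functor on local Artinian k-algebras with residue field k with F(k) a
point. If F satisfies (H2') — the comparison map F(A₁ ×_k A₂) → F(A₁) × F(A₂) is bijective for every
pair of objects — then F satisfies condition (L): for every small extension f : B → A with kernel J,
writing P = B ×_k B, Q = A ×_k A, r : P → Q for the map induced by f, and C = P/K with K the ideal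
of P consisting of the pairs (b, b) with b ∈ J, every element of F(Q) whose two images in F(A) agree
lifts along F(C) → F(Q). Here P and Q are pinned as fibre products over k, K is described through
the two projections, and the two inequalities on K (it lies in the maximal ideal of P and is killed
by r), which always hold, are taken as hypotheses so that the quotient object and the factored map
can be named. -/
theorem result
    {k : Type u} [Field k] (F : ArtFun.Art k k ⥤ Type v) (h0 : ArtFun.H0 F)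
    (h2' : ∀ ⦃P A' A'' : ArtFun.Art k k⦄ (p' : P ⟶ A') (p'' : P ⟶ A'')
      (h : ArtFun.Art.IsFibreProd p' p'' (ArtFun.Art.toBase A') (ArtFun.Art.toBase A'')),
      Function.Bijective (ArtFun.cmp F h))
    ⦃B A : ArtFun.Art k k⦄ (f : B ⟶ A) (hf : ArtFun.Art.IsSmallExt f)
    ⦃P : ArtFun.Art k k⦄ (p₁ p₂ : P ⟶ B)
    (hP : ArtFun.Art.IsFibreProd p₁ p₂ (ArtFun.Art.toBase B) (ArtFun.Art.toBase B))
    ⦃Q : ArtFun.Art k k⦄ (q₁ q₂ : Q ⟶ A)
    (hQ : ArtFun.Art.IsFibreProd q₁ q₂ (ArtFun.Art.toBase A) (ArtFun.Art.toBase A))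
    (r : P ⟶ Q) (hr₁ : r ≫ q₁ = p₁ ≫ f) (hr₂ : r ≫ q₂ = p₂ ≫ f)
    (hK : Ideal.span {z : P | p₁ z = p₂ z ∧ f (p₁ z) = 0} ≤ IsLocalRing.maximalIdeal P)
    (hKr : Ideal.span {z : P | p₁ z = p₂ z ∧ f (p₁ z) = 0} ≤ RingHom.ker r.toAlgHom)
    (y : F.obj Q) (hy : F.map q₁ y = F.map q₂ y) :
    ∃ z : F.obj (ArtFun.Art.quot P (Ideal.span {z : P | p₁ z = p₂ z ∧ f (p₁ z) = 0}) hK),
      F.map (ArtFun.Art.quotFactor hK r hKr) z = y := by
  let ΔA : A ⟶ Q := ArtF85.fibreLift hQ (𝟙 A) (𝟙 A) rfl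
  let ΔB : B ⟶ P := ArtF85.fibreLift hP (𝟙 B) (𝟙 B) rfl
  have a₁ : ΔA ≫ q₁ = 𝟙 A := ArtF85.fibreLift_fst _ _ _ _
  have a₂ : ΔA ≫ q₂ = 𝟙 A := ArtF85.fibreLift_snd _ _ _ _
  have b₁ : ΔB ≫ p₁ = 𝟙 B := ArtF85.fibreLift_fst _ _ _ _
  have b₂ : ΔB ≫ p₂ = 𝟙 B := ArtF85.fibreLift_snd _ _ _ _
  have hy' : F.map ΔA (F.map q₁ y) = y := by
    refine (ArtF85.injective_cmp_iff hQ).1 (h2' q₁ q₂ hQ).1 _ _ ?_ ?_
    · rw [ArtF85.map_map ΔA q₁, a₁, ArtF85.map_id_apply]
    · rw [ArtF85.map_map ΔA q₂, a₂, ArtF85.map_id_apply, hy]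
  set K := Ideal.span {z : P | p₁ z = p₂ z ∧ f (p₁ z) = 0}
  have hker : RingHom.ker f.toAlgHom ≤ RingHom.ker (ΔB ≫ ArtFun.Art.quotMk P K hK).toAlgHom := fun b hb => by
    rw [RingHom.mem_ker] at hb ⊢
    refine Ideal.Quotient.eq_zero_iff_mem.2 (Ideal.subset_span ⟨?_, ?_⟩)
    · exact (congrArg (fun t : B ⟶ B => t b) b₁).trans (congrArg (fun t : B ⟶ B => t b) b₂).symm
    · exact (congrArg (fun t : B ⟶ B => f (t b)) b₁).trans hb
  let s := ArtF85.surjFactor f hf.1 (ΔB ≫ ArtFun.Art.quotMk P K hK) hker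
  refine ⟨F.map s (F.map q₁ y), ?_⟩
  rw [ArtF85.map_map s]
  conv_rhs => rw [← hy']
  have e1 : ΔB ≫ r = f ≫ ΔA := by
    apply ArtF85.fibreProd_hom_ext hQ
    · rw [Category.assoc, Category.assoc, hr₁, a₁, ← Category.assoc, b₁, Category.id_comp, Category.comp_id]
    · rw [Category.assoc, Category.assoc, hr₂, a₂, ← Category.assoc, b₂, Category.id_comp, Category.comp_id]
  rw [ArtF85.hom_ext_of_surjective hf.1 (g := s ≫ ArtFun.Art.quotFactor hK r hKr) (g' := ΔA) (by
    rw [← Category.assoc, ArtF85.comp_surjFactor, Category.assoc, ArtFun.Art.quotMk_quotFactor, e1])]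

end Groth.Agent.S15134
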