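import Groth.Statements.S15135

set_option autoImplicit false
universe u v
open Deform

namespace Groth.Agent.S15135

/-- For R-modules M ⊆ N, the first-order embedded deformations of M in N are in canonical bijection with
Hom_R(M, N/M). Writing N ⊗ k[ε] = N ⊕ εN as N × N (the pair (x, y) standing for x + εy), such a
deformation is an R-submodule L of N × N which is stable under multiplication by ε (if (x, y) ∈ L
then (0, x) ∈ L), reduces to M (x ∈ M exactly when (x, y) ∈ L for some y) and is flat over the dual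
numbers, flatness being stated elementwise as: (0, y) ∈ L only if y ∈ M (for a submodule reducing to
M this is the equality of the kernel and the image of ε on L, i.e. flatness over k[ε] when R is an
algebra over a field k). To φ : M → N/M corresponds the submodule of all (x, y) with x ∈ M and y ≡
φ(x) mod M. The first clause says this rule defines exactly one submodule for each φ; the second
says that a submodule has the three properties precisely when its membership is given by this rule
for some φ. (The published statement is a linear isomorphism t_G ≅ Hom_R(M, N/M) for the functor G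
of flat deformations of M inside N ⊗ A over local Artinian algebras A; this row states only the
underlying bijection, and the obstruction half is not stated here.) -/
theorem result
    (R : Type u) [CommRing R] (N : Type v) [AddCommGroup N] [Module R N] (M : Submodule R N) :
    (∀ φ : M →ₗ[R] (N ⧸ M), ∃! L : Submodule R (N × N),
        ∀ x y : N, (x, y) ∈ L ↔ ∃ h : x ∈ M, Submodule.Quotient.mk y = φ ⟨x, h⟩) ∧
    (∀ L : Submodule R (N × N),
      ((∀ x y : N, (x, y) ∈ L → ((0 : N), x) ∈ L) ∧
        (∀ x : N, x ∈ M ↔ ∃ y : N, (x, y) ∈ L) ∧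
        (∀ y : N, ((0 : N), y) ∈ L → y ∈ M)) ↔
      ∃ φ : M →ₗ[R] (N ⧸ M), ∀ x y : N, (x, y) ∈ L ↔ ∃ h : x ∈ M, Submodule.Quotient.mk y = φ ⟨x, h⟩) := by
  refine ⟨fun φ => ?_, fun L => ⟨fun hL => ?_, ?_⟩⟩
  · refine ⟨{ carrier := {p | ∃ h : p.1 ∈ M, Submodule.Quotient.mk p.2 = φ ⟨p.1, h⟩}
              zero_mem' := ⟨M.zero_mem, by
                change Submodule.Quotient.mk 0 = φ 0
                rw [map_zero, Submodule.Quotient.mk_zero]⟩
              add_mem' := ?_
              smul_mem' := ?_ }, fun x y => Iff.rfl, fun L hL => Submodule.ext fun p => hL p.1 p.2⟩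
    · rintro ⟨a, b⟩ ⟨a', b'⟩ ⟨h, e⟩ ⟨h', e'⟩
      refine ⟨M.add_mem h h', ?_⟩
      change Submodule.Quotient.mk (b + b') = φ (⟨a, h⟩ + ⟨a', h'⟩)
      rw [map_add, Submodule.Quotient.mk_add, e, e']
    · rintro c ⟨a, b⟩ ⟨h, e⟩
      refine ⟨M.smul_mem c h, ?_⟩
      change Submodule.Quotient.mk (c • b) = φ (c • ⟨a, h⟩)
      rw [map_smul, Submodule.Quotient.mk_smul, e]
  · obtain ⟨hL1, hL2, hL3⟩ := hL
    choose g hg using fun x : M => (hL2 x).1 x.2
    have h0 : ∀ z ∈ M, ((0 : N), z) ∈ L := fun z hz => by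
      obtain ⟨y, hy⟩ := (hL2 z).1 hz
      exact hL1 z y hy
    have huniq : ∀ (x : M) (y : N), ((x : N), y) ∈ L → Submodule.Quotient.mk (p := M) y = Submodule.Quotient.mk (g x) := by
      intro x y hy
      rw [Submodule.Quotient.eq]
      refine hL3 _ ?_
      have h1 := L.sub_mem hy (hg x)
      rwa [Prod.mk_sub_mk, sub_self] at h1
    refine ⟨{ toFun := fun x => Submodule.Quotient.mk (g x)
              map_add' := fun x y => ?_
              map_smul' := fun c x => ?_ }, fun x y => ⟨fun h => ?_, ?_⟩⟩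
    · rw [← Submodule.Quotient.mk_add]
      exact (huniq (x + y) _ (L.add_mem (hg x) (hg y))).symm
    · rw [RingHom.id_apply, ← Submodule.Quotient.mk_smul]
      exact (huniq (c • x) _ (L.smul_mem c (hg x))).symm
    · exact ⟨(hL2 x).2 ⟨y, h⟩, huniq ⟨x, (hL2 x).2 ⟨y, h⟩⟩ y h⟩
    · rintro ⟨h, e⟩
      have h1 := L.add_mem (hg ⟨x, h⟩) (h0 _ ((Submodule.Quotient.eq M).1 e))
      rwa [Prod.mk_add_mk, add_zero, add_sub_cancel] at h1
  · rintro ⟨φ, hφ⟩
    have h0 : φ ⟨0, M.zero_mem⟩ = 0 := φ.map_zero
    refine ⟨fun x y h => ?_, fun x => ⟨fun h => ?_, ?_⟩, fun y h => ?_⟩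
    · obtain ⟨hx, -⟩ := (hφ x y).1 h
      exact (hφ 0 x).2 ⟨M.zero_mem, by rw [h0]; exact (Submodule.Quotient.mk_eq_zero M).2 hx⟩
    · obtain ⟨y, hy⟩ := Submodule.Quotient.mk_surjective M (φ ⟨x, h⟩)
      exact ⟨y, (hφ x y).2 ⟨h, hy⟩⟩
    · rintro ⟨y, hy⟩
      exact ((hφ x y).1 hy).1
    · obtain ⟨_, e⟩ := (hφ 0 y).1 h
      rw [h0] at e
      exact (Submodule.Quotient.mk_eq_zero M).1 e

end Groth.Agent.S15135
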