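import Groth.Statements.S15144
import Groth.Agent.AbSch7.OmegaInv
import Groth.Agent.S7795

set_option autoImplicit false
universe u
open CategoryTheory CategoryTheory.Limits MonoidalCategory CartesianMonoidalCategory MonObj GrpObj AlgebraicGeometry Opposite
open AbSch

namespace Groth.Agent.S15144

set_option backward.isDefEq.respectTransparency.types false
open Groth.Agent

theorem bijective_unit_app {X S : Scheme.{u}} (f : X ⟶ S) (e : S ⟶ X) (he : e ≫ f = 𝟙 S)
    (hO : ∀ U, Function.Bijective (f.app U).hom) (N : S.Modules) (hN : FlatMod.IsFinLocFree N) :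
    Function.Bijective (((Scheme.Modules.pullbackPushforwardAdjunction e).unit.app
      ((Scheme.Modules.pullback f).obj N)).app ⊤) := by
  have h1 := AbSch7.isIso_pullUnit f N hN hO
  have h2 : IsIso (QCPull72.pullUnit (e ≫ f) N) := AbSch7.isIso_pullUnit (e ≫ f) N hN fun U => by
    have : IsIso (e ≫ f) := by rw [he]; infer_instance
    exact ConcreteCategory.bijective_of_isIso ((e ≫ f).app U)
  let adj := (Scheme.Modules.pullbackPushforwardAdjunction f).comp (Scheme.Modules.pullbackPushforwardAdjunction e)
  have hc := unit_conjugateEquiv adj (Scheme.Modules.pullbackPushforwardAdjunction (e ≫ f))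
    (Scheme.Modules.pullbackComp e f).inv N
  rw [Scheme.Modules.conjugateEquiv_pullbackComp_inv] at hc
  have h3 : IsIso (adj.unit.app N) := by
    have : IsIso (adj.unit.app N ≫ (Scheme.Modules.pushforwardComp e f).hom.app
        ((Scheme.Modules.pullback f ⋙ Scheme.Modules.pullback e).obj N)) := by
      rw [hc]
      have : IsIso ((Scheme.Modules.pullbackPushforwardAdjunction (e ≫ f)).unit.app N) := h2
      infer_instance
    exact IsIso.of_isIso_comp_right _ ((Scheme.Modules.pushforwardComp e f).hom.app
      ((Scheme.Modules.pullback f ⋙ Scheme.Modules.pullback e).obj N))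
  let v := (Scheme.Modules.pushforward f).map
    ((Scheme.Modules.pullbackPushforwardAdjunction e).unit.app ((Scheme.Modules.pullback f).obj N))
  have h4 : adj.unit.app N = QCPull72.pullUnit f N ≫ v := by
    simp only [adj, v, Adjunction.comp_unit_app]
  have h5 : IsIso v := by
    rw [h4] at h3
    exact IsIso.of_isIso_comp_left (QCPull72.pullUnit f N) v
  exact (ConcreteCategory.isIso_iff_bijective _).1 ((Scheme.Modules.Hom.isIso_iff_isIso_app (φ := v)).1 h5 ⊤)

/-- Let S be a scheme and A an abelian scheme over S, an S-group scheme whose structure morphism is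
proper, flat and locally of finite presentation with geometrically reduced and geometrically
connected fibres, with unit section e : S → A. Then every global section of Ω_{A/S} is invariant;
equivalently, the canonical map Γ(A, Ω_{A/S}) → Γ(S, e^*Ω_{A/S}) to the sections of the sheaf of
invariant differentials ω_A = e^*Ω_{A/S}, namely the map on global sections of the unit Ω_{A/S} →
e_*e^*Ω_{A/S} of the adjunction between pullback and pushforward along e, is bijective. -/
theorem result {S : Scheme.{u}} (A : Over S) [GrpObj A]
    [IsProper A.hom] [Flat A.hom] [LocallyOfFinitePresentation A.hom]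
    [GeometricallyReduced A.hom] [GeometricallyConnected A.hom] :
    Function.Bijective
      (((Scheme.Modules.pullbackPushforwardAdjunction η[A].left).unit.app (Omega.sheaf A.hom)).val.app (op ⊤)).hom := by
  have : Smooth A.hom := S7795.result A
  obtain ⟨N, hN, ⟨i⟩, -⟩ := AbSch7.exists_omega_iso_pullback A
  have hb := bijective_unit_app A.hom η[A].left (Over.w η[A]) (AbSch7.app_bijective_abSch A) N hN
  let η' := (Scheme.Modules.pullbackPushforwardAdjunction η[A].left).unit
  have hn : η'.app (Omega.sheaf A.hom) = i.hom ≫ η'.app ((Scheme.Modules.pullback A.hom).obj N) ≫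
      (Scheme.Modules.pushforward η[A].left).map ((Scheme.Modules.pullback η[A].left).map i.inv) := by
    rw [← Category.assoc]
    erw [η'.naturality i.hom]
    rw [Category.assoc, Functor.comp_map, ← Functor.map_comp, ← Functor.map_comp, i.hom_inv_id,
      CategoryTheory.Functor.map_id, CategoryTheory.Functor.map_id]
    exact (Category.comp_id _).symm
  show Function.Bijective ((η'.app (Omega.sheaf A.hom)).app ⊤)
  rw [hn]
  have b1 : Function.Bijective (i.hom.app ⊤) := (ConcreteCategory.isIso_iff_bijective _).1
    ((Scheme.Modules.Hom.isIso_iff_isIso_app (φ := i.hom)).1 inferInstance ⊤)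
  have b3 : Function.Bijective (((Scheme.Modules.pushforward η[A].left).map
      ((Scheme.Modules.pullback η[A].left).map i.inv)).app ⊤) := (ConcreteCategory.isIso_iff_bijective _).1
    (Scheme.Modules.Hom.isIso_iff_isIso_app.1 inferInstance ⊤)
  exact b3.comp (hb.comp b1)

end Groth.Agent.S15144
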