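import Groth.Statements.S15148
import Groth.Agent.Cohen12.Branches

set_option autoImplicit false
universe u
open HilbZeta

namespace Groth.Agent.S15148

/-- Let k be a field, s a natural number and R a k-subalgebra of the product of s copies of the power
series ring k[[x]], of finite codimension δ over k and local with residue field k (all components of
an element of R have the same constant term); write v_i for the x-adic order of the i-th component
of an s-tuple, and let c = (c_1, …, c_s) be the conductor exponents, so that an s-tuple f satisfies
f·g ∈ R for every s-tuple g exactly when v_i(f) ≥ c_i for all i (over an algebraically closed field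
such an R is precisely the completed local ring of a reduced curve singularity having s branches
sitting inside its normalisation, δ is its delta invariant and the conductor ideal is generated by
the x_i^{c_i}), and put C = c_1 + ⋯ + c_s. Let I be an ideal of R of finite colength d with
branch-length vector a (for every i the ideal of k[[x]] generated by the i-th components of the
elements of I is (x^{a_i})). Then −δ ≤ d − Σ a_i ≤ C − δ, and the second inequality is strict when R
is not the whole product (the singularity is not smooth). (The published statement is over an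
algebraically closed field; this row allows any field.) -/
theorem result (k : Type u) [Field k] (s : ℕ)
    (R : Subalgebra k (Fin s → PowerSeries k))
    (hfin : Module.Finite k ((Fin s → PowerSeries k) ⧸ Subalgebra.toSubmodule R))
    (hloc : ∀ f ∈ R, ∀ i j : Fin s, PowerSeries.constantCoeff (f i) = PowerSeries.constantCoeff (f j))
    (c : Fin s → ℕ)
    (hc : ∀ f : Fin s → PowerSeries k,
      (∀ g : Fin s → PowerSeries k, g * f ∈ R) ↔ ∀ i, ((c i : ℕ) : ℕ∞) ≤ (f i).order)
    (I : Ideal ↥R) (hI : Module.Finite k (↥R ⧸ I)) (a : Fin s → ℕ)
    (ha : (∀ i : Fin s, Ideal.map ((Pi.evalAlgHom k (fun _ : Fin s => PowerSeries k) i).comp R.val) I = Ideal.span {PowerSeries.X ^ (a i)})) :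
    (∑ i, a i) ≤ Module.finrank k (↥R ⧸ I) + Module.finrank k ((Fin s → PowerSeries k) ⧸ Subalgebra.toSubmodule R) ∧
    Module.finrank k (↥R ⧸ I) + Module.finrank k ((Fin s → PowerSeries k) ⧸ Subalgebra.toSubmodule R) ≤ (∑ i, a i) + ∑ i, c i ∧
    (R ≠ ⊤ → Module.finrank k (↥R ⧸ I) + Module.finrank k ((Fin s → PowerSeries k) ⧸ Subalgebra.toSubmodule R) < (∑ i, a i) + ∑ i, c i) := by
  classical
  obtain ⟨h1, h2⟩ := Cohen12.Branches.branch_orders R I a ha
  have hlo : Cohen12.Branches.img R I ≤ LinearMap.ker (Cohen12.Branches.lowCoeff (k := k) a) := by
    rintro _ ⟨x, hx, rfl⟩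
    rw [Cohen12.Branches.mem_ker_lowCoeff]
    exact h1 x hx
  have hhi : LinearMap.ker (Cohen12.Branches.lowCoeff (k := k) (a + c)) ≤ Cohen12.Branches.img R I := by
    intro g hg
    rw [Cohen12.Branches.mem_ker_lowCoeff] at hg
    exact Cohen12.Branches.mem_img.2 (Cohen12.Branches.mem_ideal R c hc I a h2 g hg)
  have hfI := Cohen12.Branches.finite_img R hfin I hI
  have hfac := Cohen12.Branches.finite_quot_ker (k := k) (a + c)
  rw [← Cohen12.Branches.finrank_img R I hfI]
  refine ⟨?_, ?_, fun hR => ?_⟩
  · rw [← Cohen12.Branches.finrank_quot_ker (k := k) a]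
    exact LinearMap.finrank_le_finrank_of_surjective (Submodule.factor_surjective hlo)
  · rw [← Finset.sum_add_distrib]
    exact (LinearMap.finrank_le_finrank_of_surjective (Submodule.factor_surjective hhi)).trans_eq
      (Cohen12.Branches.finrank_quot_ker (k := k) (a + c))
  · rw [← Finset.sum_add_distrib, ← show _ = ∑ i, (a i + c i) from
      Cohen12.Branches.finrank_quot_ker (k := k) (a + c)]
    refine lt_of_le_of_ne (LinearMap.finrank_le_finrank_of_surjective (Submodule.factor_surjective hhi)) fun heq => hR ?_
    have hinj : Function.Injective (Submodule.factor hhi) :=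
      (LinearMap.injective_iff_surjective_of_finrank_eq_finrank heq.symm).2 (Submodule.factor_surjective _)
    have heqI : ∀ g ∈ Cohen12.Branches.img R I,
        g ∈ LinearMap.ker (Cohen12.Branches.lowCoeff (k := k) (a + c)) := by
      intro g hg
      rw [← Submodule.Quotient.mk_eq_zero]
      refine hinj ?_
      rw [map_zero]
      exact (Submodule.Quotient.mk_eq_zero _).2 hg
    have hc0 : ∀ i, c i = 0 := by
      intro i
      obtain ⟨f, hf, hord⟩ := h2 i
      have := (Cohen12.Branches.mem_ker_lowCoeff (k := k) (a + c) _).1
        (heqI _ (Cohen12.Branches.mem_img.2 ⟨f.2, hf⟩)) i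
      rw [hord, Pi.add_apply, Nat.cast_le] at this
      omega
    exact eq_top_iff.2 fun f _ => Cohen12.Branches.mem_of_le_order R c hc (fun i => by simp [hc0 i])

end Groth.Agent.S15148
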