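import Groth.Statements.S15149
import Groth.Agent.Cohen12.Branches

set_option autoImplicit false
universe u
open HilbZeta

namespace Groth.Agent.S15149

/-- Let k be a field, s a natural number and R a k-subalgebra of the product of s copies of the power
series ring k[[x]], of finite codimension δ over k and local with residue field k (all components of
an element of R have the same constant term); write v_i for the x-adic order of the i-th component
of an s-tuple, and let c = (c_1, …, c_s) be the conductor exponents, so that an s-tuple f satisfies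
f·g ∈ R for every s-tuple g exactly when v_i(f) ≥ c_i for all i (over an algebraically closed field
such an R is precisely the completed local ring of a reduced curve singularity having s branches
sitting inside its normalisation, δ is its delta invariant and the conductor ideal is generated by
the x_i^{c_i}). Fix a branch j, a colength d and a branch-length vector a = (a_1, …, a_s) with a_j ≥
c_j, and let ξ be the s-tuple with x in the j-th place and 1 elsewhere. Call an ideal I of R of type
(d, a) when it has colength d and, for every i, the ideal of k[[x]] generated by the i-th components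
of its elements is (x^{a_i}). Then multiplication by ξ is a bijection from the ideals of type (d, a)
onto the ideals of type (d + 1, a + e_j), where a + e_j is a with its j-th entry raised by one: for
every ideal I of type (d, a) the set ξ·I is (the image of) an ideal of type (d + 1, a + e_j), and
every ideal of type (d + 1, a + e_j) is ξ·I for some ideal I of type (d, a). (The published
statement is the equality, in the Grothendieck ring of varieties, of the classes of the two
corresponding branch-length strata of the punctual Hilbert scheme; this row states the bijection on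
ideals underlying it, which is what the argument establishes; the published statement is over an
algebraically closed field, and this row allows any field.) -/
theorem result (k : Type u) [Field k] (s : ℕ)
    (R : Subalgebra k (Fin s → PowerSeries k))
    (hfin : Module.Finite k ((Fin s → PowerSeries k) ⧸ Subalgebra.toSubmodule R))
    (hloc : ∀ f ∈ R, ∀ i j : Fin s, PowerSeries.constantCoeff (f i) = PowerSeries.constantCoeff (f j))
    (c : Fin s → ℕ)
    (hc : ∀ f : Fin s → PowerSeries k,
      (∀ g : Fin s → PowerSeries k, g * f ∈ R) ↔ ∀ i, ((c i : ℕ) : ℕ∞) ≤ (f i).order)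
    (j : Fin s) (d : ℕ) (a : Fin s → ℕ) (hj : c j ≤ a j) :
    (∀ I ∈ {I : Ideal ↥R | Module.Finite k (↥R ⧸ I) ∧ Module.finrank k (↥R ⧸ I) = d ∧ (∀ i : Fin s, Ideal.map ((Pi.evalAlgHom k (fun _ : Fin s => PowerSeries k) i).comp R.val) I = Ideal.span {PowerSeries.X ^ (a i)})},
      ∃ J ∈ {I : Ideal ↥R | Module.Finite k (↥R ⧸ I) ∧ Module.finrank k (↥R ⧸ I) = d + 1 ∧ (∀ i : Fin s, Ideal.map ((Pi.evalAlgHom k (fun _ : Fin s => PowerSeries k) i).comp R.val) I = Ideal.span {PowerSeries.X ^ ((Function.update a j (a j + 1)) i)})},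
        (Subtype.val '' (J : Set ↥R)) = (fun f => Pi.mulSingle j PowerSeries.X * f) '' (Subtype.val '' (I : Set ↥R))) ∧
    (∀ J ∈ {I : Ideal ↥R | Module.Finite k (↥R ⧸ I) ∧ Module.finrank k (↥R ⧸ I) = d + 1 ∧ (∀ i : Fin s, Ideal.map ((Pi.evalAlgHom k (fun _ : Fin s => PowerSeries k) i).comp R.val) I = Ideal.span {PowerSeries.X ^ ((Function.update a j (a j + 1)) i)})},
      ∃ I ∈ {I : Ideal ↥R | Module.Finite k (↥R ⧸ I) ∧ Module.finrank k (↥R ⧸ I) = d ∧ (∀ i : Fin s, Ideal.map ((Pi.evalAlgHom k (fun _ : Fin s => PowerSeries k) i).comp R.val) I = Ideal.span {PowerSeries.X ^ (a i)})},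
        (Subtype.val '' (J : Set ↥R)) = (fun f => Pi.mulSingle j PowerSeries.X * f) '' (Subtype.val '' (I : Set ↥R))) := by
  classical

  set ξ : (Fin s → PowerSeries k) → (Fin s → PowerSeries k) := fun f => Pi.mulSingle j PowerSeries.X * f with hξ
  -- the correction term lies in the conductor
  have hcorr : ∀ (h : Fin s → PowerSeries k), ((c j : ℕ) : ℕ∞) ≤ (h j).order →
      ξ h - h ∈ R := by
    intro h hh
    have : ξ h - h = Pi.single j ((PowerSeries.X - 1) * h j) := by
      funext i
      rcases eq_or_ne i j with rfl | hne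
      · simp [hξ, sub_mul]
      · simp [hξ, hne]
    rw [this]
    refine Cohen12.Branches.single_mem R c hc j (le_trans hh ?_)
    rw [PowerSeries.order_mul]
    exact le_add_self
  refine ⟨fun I hI => ?_, fun J hJ => ?_⟩
  · obtain ⟨hIf, hId, hIa⟩ := hI
    obtain ⟨h1, h2⟩ := Cohen12.Branches.branch_orders R I a hIa
    have hmem : ∀ f ∈ I, ξ (f : Fin s → PowerSeries k) ∈ R := by
      intro f hf
      have := add_mem (hcorr _ (le_trans (by exact_mod_cast hj) (h1 f hf j))) f.2
      rwa [sub_add_cancel] at this
    let J : Ideal ↥R :=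
      { carrier := {x | ∃ f ∈ I, (x : Fin s → PowerSeries k) = ξ (f : Fin s → PowerSeries k)}
        add_mem' := by
          rintro x y ⟨f, hf, hx⟩ ⟨g, hg, hy⟩
          exact ⟨f + g, I.add_mem hf hg, by simp [hξ, hx, hy, mul_add]⟩
        zero_mem' := ⟨0, I.zero_mem, by simp [hξ]⟩
        smul_mem' := by
          rintro r x ⟨f, hf, hx⟩
          exact ⟨r * f, I.mul_mem_left r hf, by simp [hξ, hx, mul_left_comm]⟩ }
    have himg : Cohen12.Branches.img R J = (Cohen12.Branches.img R I).map (Cohen12.Branches.xi j) := by
      ext g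
      constructor
      · rintro ⟨x, ⟨f, hf, hx⟩, rfl⟩
        exact ⟨_, ⟨f, hf, rfl⟩, hx.symm⟩
      · rintro ⟨_, ⟨f, hf, rfl⟩, rfl⟩
        exact ⟨⟨_, hmem f hf⟩, ⟨f, hf, rfl⟩, rfl⟩
    have hfI := Cohen12.Branches.finite_img R hfin I hIf
    obtain ⟨hiff, hrk⟩ := Cohen12.Branches.finrank_map_xi j (Cohen12.Branches.img R I)
    have hfJ : Module.Finite k ((Fin s → PowerSeries k) ⧸ Cohen12.Branches.img R J) := by
      rw [himg]; exact hiff.2 hfI
    refine ⟨J, ⟨Cohen12.Branches.finite_of_img R J hfJ, ?_, fun i => ?_⟩, ?_⟩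
    · have e := Cohen12.Branches.finrank_img R J hfJ
      have e2 := hrk hfI
      rw [← himg, e, Cohen12.Branches.finrank_img R I hfI, hId] at e2
      omega
    · have hIi := hIa i
      apply le_antisymm
      · refine Ideal.map_le_iff_le_comap.2 ?_
        rintro x ⟨f, hf, hx⟩
        rw [Ideal.mem_comap, Ideal.mem_span_singleton]
        show _ ∣ (x : Fin s → PowerSeries k) i
        have hd := Cohen12.Branches.le_order_iff.1 (h1 f hf i)
        rcases eq_or_ne i j with rfl | hne
        · rw [Function.update_self, hx, pow_succ']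
          simp only [hξ, Pi.mul_apply, Pi.mulSingle_eq_same]
          exact mul_dvd_mul_left _ hd
        · rw [Function.update_of_ne hne, hx]
          simpa [hξ, hne] using hd
      · obtain ⟨f, hf, hord⟩ := h2 i
        obtain ⟨u, hu, hfu⟩ := Cohen12.Branches.eq_mul_isUnit_of_order_eq hord
        rw [Ideal.span_singleton_le_iff_mem]
        have hm : ξ (f : Fin s → PowerSeries k) i ∈
            Ideal.map ((Pi.evalAlgHom k (fun _ : Fin s => PowerSeries k) i).comp R.val) J :=
          Ideal.mem_map_of_mem ((Pi.evalAlgHom k (fun _ : Fin s => PowerSeries k) i).comp R.val)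
            (x := ⟨_, hmem f hf⟩) (show (⟨_, hmem f hf⟩ : ↥R) ∈ J from ⟨f, hf, rfl⟩)
        have he : ξ (f : Fin s → PowerSeries k) i = PowerSeries.X ^ (Function.update a j (a j + 1) i) * u := by
          rcases eq_or_ne i j with rfl | hne
          · rw [Function.update_self]
            simp only [hξ, Pi.mul_apply, Pi.mulSingle_eq_same]
            rw [hfu, pow_succ', mul_assoc]
          · rw [Function.update_of_ne hne]
            simpa [hξ, hne] using hfu
        rw [he] at hm
        exact (Ideal.mul_unit_mem_iff_mem _ hu).1 hm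
    · ext g
      constructor
      · rintro ⟨x, ⟨f, hf, hx⟩, rfl⟩
        exact ⟨_, ⟨f, hf, rfl⟩, hx.symm⟩
      · rintro ⟨_, ⟨f, hf, rfl⟩, rfl⟩
        exact ⟨⟨_, hmem f hf⟩, ⟨f, hf, rfl⟩, rfl⟩
  · obtain ⟨hJf, hJd, hJa⟩ := hJ
    obtain ⟨h1, h2⟩ := Cohen12.Branches.branch_orders R J _ hJa
    -- the preimage under the twist
    have hdiv : ∀ x ∈ J, ∃ h : Fin s → PowerSeries k, ξ h = x ∧ ((c j : ℕ) : ℕ∞) ≤ (h j).order := by
      intro x hx
      have := h1 x hx j
      rw [Function.update_self, Cohen12.Branches.le_order_iff] at this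
      obtain ⟨q, hq⟩ := this
      refine ⟨Function.update (x : Fin s → PowerSeries k) j (PowerSeries.X ^ a j * q), funext fun i => ?_, ?_⟩
      · rcases eq_or_ne i j with rfl | hne
        · simp only [hξ, Pi.mul_apply, Pi.mulSingle_eq_same, Function.update_self, hq, pow_succ', mul_assoc]
        · simp [hξ, hne]
      · rw [Function.update_self]
        exact Cohen12.Branches.le_order_iff.2 (dvd_mul_of_dvd_left (pow_dvd_pow _ hj) _)
    have hmem : ∀ h : Fin s → PowerSeries k, ξ h ∈ R → ((c j : ℕ) : ℕ∞) ≤ (h j).order → h ∈ R := by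
      intro h hξh hh
      have := sub_mem hξh (hcorr h hh)
      rwa [sub_sub_cancel] at this
    let I : Ideal ↥R :=
      { carrier := {f | ∃ x ∈ J, ξ (f : Fin s → PowerSeries k) = (x : Fin s → PowerSeries k)}
        add_mem' := by
          rintro f g ⟨x, hx, hfx⟩ ⟨y, hy, hgy⟩
          refine ⟨x + y, J.add_mem hx hy, ?_⟩
          simp only [hξ] at hfx hgy ⊢
          simp [mul_add, hfx, hgy]
        zero_mem' := ⟨0, J.zero_mem, by simp [hξ]⟩
        smul_mem' := by
          rintro r f ⟨x, hx, hfx⟩
          refine ⟨r * x, J.mul_mem_left r hx, ?_⟩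
          simp only [hξ] at hfx ⊢
          rw [smul_eq_mul, MulMemClass.coe_mul, MulMemClass.coe_mul, ← hfx]
          ring }
    have hset : Cohen12.Branches.img R J = (Cohen12.Branches.img R I).map (Cohen12.Branches.xi j) := by
      ext g
      constructor
      · rintro ⟨x, hx, rfl⟩
        obtain ⟨h, hh, hord⟩ := hdiv x hx
        have hR : h ∈ R := hmem h (hh ▸ x.2) hord
        exact ⟨h, ⟨⟨h, hR⟩, ⟨x, hx, hh⟩, rfl⟩, hh⟩
      · rintro ⟨_, ⟨f, ⟨x, hx, hfx⟩, rfl⟩, rfl⟩
        exact ⟨x, hx, hfx.symm⟩
    have hfJ := Cohen12.Branches.finite_img R hfin J hJf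
    obtain ⟨hiff, hrk⟩ := Cohen12.Branches.finrank_map_xi j (Cohen12.Branches.img R I)
    have hfI : Module.Finite k ((Fin s → PowerSeries k) ⧸ Cohen12.Branches.img R I) := by
      rw [hset] at hfJ; exact hiff.1 hfJ
    refine ⟨I, ⟨Cohen12.Branches.finite_of_img R I hfI, ?_, fun i => ?_⟩, ?_⟩
    · have e := Cohen12.Branches.finrank_img R J hfJ
      have e2 := hrk hfI
      rw [← hset, e, Cohen12.Branches.finrank_img R I hfI, hJd] at e2
      omega
    · apply le_antisymm
      · refine Ideal.map_le_iff_le_comap.2 ?_
        rintro f ⟨x, hx, hfx⟩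
        rw [Ideal.mem_comap, Ideal.mem_span_singleton]
        show _ ∣ (f : Fin s → PowerSeries k) i
        have hd := Cohen12.Branches.le_order_iff.1 (h1 x hx i)
        rw [← hfx] at hd
        rcases eq_or_ne i j with rfl | hne
        · rw [Function.update_self, pow_succ'] at hd
          simp only [hξ, Pi.mul_apply, Pi.mulSingle_eq_same] at hd
          exact (mul_dvd_mul_iff_left PowerSeries.X_ne_zero).1 hd
        · rw [Function.update_of_ne hne] at hd
          simpa [hξ, hne] using hd
      · obtain ⟨x, hx, hord⟩ := h2 i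
        obtain ⟨u, hu, hxu⟩ := Cohen12.Branches.eq_mul_isUnit_of_order_eq hord
        obtain ⟨h, hh, hord'⟩ := hdiv x hx
        have hR : h ∈ R := hmem h (hh ▸ x.2) hord'
        rw [Ideal.span_singleton_le_iff_mem]
        have hm : h i ∈
            Ideal.map ((Pi.evalAlgHom k (fun _ : Fin s => PowerSeries k) i).comp R.val) I :=
          Ideal.mem_map_of_mem ((Pi.evalAlgHom k (fun _ : Fin s => PowerSeries k) i).comp R.val)
            (x := ⟨h, hR⟩) (show (⟨h, hR⟩ : ↥R) ∈ I from ⟨x, hx, hh⟩)
        have he : h i = PowerSeries.X ^ a i * u := by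
          have hi := congr_fun hh i
          rcases eq_or_ne i j with rfl | hne
          · rw [hxu, Function.update_self, pow_succ', mul_assoc] at hi
            simp only [hξ, Pi.mul_apply, Pi.mulSingle_eq_same] at hi
            exact mul_left_cancel₀ PowerSeries.X_ne_zero hi
          · rw [hxu, Function.update_of_ne hne] at hi
            simpa [hξ, hne] using hi
        rw [he] at hm
        exact (Ideal.mul_unit_mem_iff_mem _ hu).1 hm
    · ext g
      constructor
      · rintro ⟨x, hx, rfl⟩
        obtain ⟨h, hh, hord⟩ := hdiv x hx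
        exact ⟨h, ⟨⟨h, hmem h (hh ▸ x.2) hord⟩, ⟨x, hx, hh⟩, rfl⟩, hh⟩
      · rintro ⟨_, ⟨f, ⟨x, hx, hfx⟩, rfl⟩, rfl⟩
        exact ⟨x, hx, hfx.symm⟩

end Groth.Agent.S15149
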