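import Groth.Statements.S1515
import Groth.Agent.FlatMor67.PCFinite
import Groth.Agent.Div89.SectionChart
import Groth.Agent.PerfDiag19.Smooth

set_option autoImplicit false
universe u
attribute [local instance] HasDerivedCategory.standard
open FlatMor

namespace Groth.Agent.S1515

set_option backward.isDefEq.respectTransparency.types false in
open AlgebraicGeometry CategoryTheory Limits in
/-- A flat morphism with perfect diagonal is smooth. -/
theorem smooth_of_perfect {X Y : Scheme.{u}} (f : X ⟶ Y) [LocallyOfFiniteType f] [IsLocallyNoetherian Y] [Flat f]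
    (h : MoreMor.IsPerfectMor (pullback.diagonal f)) : Smooth f := by
  rw [HasRingHomProperty.iff_appLE (P := @Smooth)]
  rintro ⟨V, hV⟩ ⟨U, hU⟩ e
  have hft := HasRingHomProperty.appLE (P := @LocallyOfFiniteType) f ‹_› ⟨V, hV⟩ ⟨U, hU⟩ e
  have hfl := HasRingHomProperty.appLE (P := @Flat) f ‹_› ⟨V, hV⟩ ⟨U, hU⟩ e
  algebraize [(f.appLE V U e).hom]
  have : IsNoetherianRing Γ(Y, V) := IsLocallyNoetherian.component_noetherian ⟨V, hV⟩
  let g := Spec.map (f.appLE V U e)
  have w : g ≫ hV.fromSpec = hU.fromSpec ≫ f := IsAffineOpen.SpecMap_appLE_fromSpec f hV hU e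
  let o := pullback.map g g f f hU.fromSpec hU.fromSpec hV.fromSpec w w
  have sq : pullback.diagonal g ≫ o = hU.fromSpec ≫ pullback.diagonal f := by
    apply pullback.hom_ext <;> simp only [o, Category.assoc, pullback.map] <;> first | (erw [pullback.lift_fst]; simp) | (erw [pullback.lift_snd]; simp)
  have hpb : IsPullback (𝟙 _) (pullback.diagonal g) (pullback.diagonal g ≫ o) o :=
    IsPullback.of_horiz_isIso_mono ⟨Category.id_comp _⟩
  have h2 : MoreMor.IsPerfectMor (pullback.diagonal g ≫ o) := by
    rw [sq]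
    exact (HasRingHomProperty.stableUnderComposition (P := FlatMor67.PCS.pfMor.{u}) FlatMor67.PCS.pfH_stableComp).comp_mem _ _ (HasRingHomProperty.of_isOpenImmersion (P := FlatMor67.PCS.pfMor.{u}) FlatMor67.PCS.pfH_holdsAway.containsIdentities) h
  have h3 : FlatMor67.PCS.pfMor (pullback.diagonal g) := FlatMor67.PCS.pfMor_flat_baseChange _ _ _ _ hpb h2
  rw [show g = Spec.map (CommRingCat.ofHom (algebraMap Γ(Y, V) Γ(X, U))) from rfl, diagonal_SpecMap,
    MorphismProperty.cancel_right_of_respectsIso (P := FlatMor67.PCS.pfMor.{u}),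
    HasRingHomProperty.Spec_iff (P := FlatMor67.PCS.pfMor.{u})] at h3
  let _ := (Algebra.TensorProduct.lmul' Γ(Y, V) (S := Γ(X, U))).toRingHom.toAlgebra
  have h4 : DRing.HasFiniteTorDim (TensorProduct Γ(Y, V) Γ(X, U) Γ(X, U)) Γ(X, U) := h3.2
  exact RingHom.smooth_algebraMap.2
    (PerfDiag19.smooth_of_diagonal (fun x y => Algebra.TensorProduct.lmul'_apply_tmul x y) h4)

open AlgebraicGeometry CategoryTheory Limits in
/-- (1) ⇔ (2) ⇔ (4): let f : X → Y be separated and of finite type between locally Noetherian schemes,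
with diagonal Δ (a closed immersion). Then f is smooth iff f is flat and Δ is a regular closed
immersion, iff f is flat and Δ is a perfect morphism. -/
theorem result {X Y : Scheme.{u}} (f : X ⟶ Y) [IsSeparated f] [LocallyOfFiniteType f] [QuasiCompact f] [IsLocallyNoetherian X] [IsLocallyNoetherian Y] :
    (Smooth f ↔ Flat f ∧ Mor2.IsRegularClosedImmersion (pullback.diagonal f)) ∧
    (Smooth f ↔ Flat f ∧ MoreMor.IsPerfectMor (pullback.diagonal f)) := by
  have h1 : Smooth f → Mor2.IsRegularClosedImmersion (pullback.diagonal f) := fun h =>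
    Groth.Agent.Div89.SectionReg.isRegularClosedImmersion_section (pullback.snd f f) _ (pullback.diagonal_snd f)
  have h2 := FlatMor67.PCF.pfMor_of_regularClosedImmersion (pullback.diagonal f)
  exact ⟨⟨fun h => ⟨inferInstance, h1 h⟩, fun ⟨hf, h⟩ => smooth_of_perfect f (h2 h)⟩,
    ⟨fun h => ⟨inferInstance, h2 (h1 h)⟩, fun ⟨hf, h⟩ => smooth_of_perfect f h⟩⟩

end Groth.Agent.S1515
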