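import Groth.Statements.S15150
import Mathlib

set_option autoImplicit false
universe u
open HilbZeta
open scoped TensorProduct

namespace Groth.Agent.S15150

/-- Let A be a reduced commutative ring, S an A-algebra together with an A-algebra homomorphism π : S →
A (a section of Spec S → Spec A), with kernel m, and I an ideal of S such that S/I is a finite
projective A-module of constant rank d and m is contained in the radical of I (the finite flat
subscheme Spec S/I of degree d lies, as a set, on the section). Then m^d ⊆ I: the subscheme lies in
the (d−1)-st infinitesimal neighbourhood of the section. (The published statement is for a closed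
subscheme, flat and proper of degree d over a Noetherian base, of a family of reduced curve
singularities with a section, with no reducedness assumption on the base; over the dual numbers k[ε]
the ideal (x − ε) of k[ε][x] has quotient free of rank one and radical containing x but does not
contain x, so the base is taken reduced here, and the statement is given in its affine form, to
which the argument reduces at once; the curve hypotheses play no role and are dropped; the condition
that Spec S/I lies set-theoretically on the section, which the published argument deduces from
properness of Z inside the germ, is a hypothesis here.) -/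
theorem result (A : Type u) [CommRing A] [IsReduced A]
    (S : Type u) [CommRing S] [Algebra A S] (π : S →ₐ[A] A) (I : Ideal S) (d : ℕ)
    [Module.Finite A (S ⧸ I)] [Module.Projective A (S ⧸ I)]
    (hrank : ∀ p : PrimeSpectrum A, Module.rankAtStalk (R := A) (S ⧸ I) p = d)
    (hsupp : RingHom.ker π ≤ I.radical) :
    RingHom.ker π ^ d ≤ I := by
  have key : ∀ (κ C : Type u) [Field κ] [CommRing C] [Algebra κ C] [Module.Finite κ C] (N : Ideal C),
      N ≤ nilradical C → N ^ Module.finrank κ C = ⊥ := by
    intro κ C _ _ _ _ N hN
    have : IsNoetherianRing C := isNoetherianRing_iff.mpr (isNoetherian_of_tower κ inferInstance)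
    obtain ⟨n, hn⟩ := (Ideal.FG.isNilpotent_iff_le_nilradical (Ideal.fg_of_isNoetherianRing N)).2 hN
    have step : ∀ i, N ^ i = ⊥ ∨
        Module.finrank κ ((N ^ i).restrictScalars κ) + i ≤ Module.finrank κ C := by
      intro i
      induction i with
      | zero => exact Or.inr (by simpa using Submodule.finrank_le _)
      | succ i ih =>
        rcases ih with h | h
        · exact Or.inl (by rw [pow_succ, h, Ideal.bot_mul])
        by_cases hi : N ^ i = ⊥
        · exact Or.inl (by rw [pow_succ, hi, Ideal.bot_mul])
        refine Or.inr ?_
        have hne : N ^ (i + 1) ≠ N ^ i := by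
          intro he
          have : ∀ j, N ^ (i + j) = N ^ i := fun j => by
            induction j with
            | zero => rfl
            | succ j hj => rw [← add_assoc, pow_succ, hj, ← pow_succ, he]
          have h2 := this n
          rw [pow_add, hn, mul_zero] at h2
          exact hi h2.symm
        have := Submodule.finrank_lt_finrank_of_lt (K := κ)
          (s := (N ^ (i + 1)).restrictScalars κ) (t := (N ^ i).restrictScalars κ)
          (lt_of_le_of_ne (Ideal.pow_le_pow_right (Nat.le_succ i))
            fun h => hne (Submodule.restrictScalars_injective κ C C h))
        omega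
    rcases step (Module.finrank κ C) with h | h
    · exact h
    · have : Module.finrank κ ((N ^ Module.finrank κ C).restrictScalars κ) = 0 := by omega
      rw [Submodule.finrank_eq_zero, Submodule.restrictScalars_eq_bot_iff] at this
      exact this
  intro x hx
  rw [← Ideal.Quotient.eq_zero_iff_mem, ← Module.forall_dual_apply_eq_zero_iff A]
  intro φ
  refine IsReduced.eq_zero _ ?_
  rw [nilpotent_iff_mem_prime]
  intro p hp
  let B := S ⧸ I
  let C := TensorProduct A p.ResidueField B
  let j : S →ₐ[A] C := (Algebra.TensorProduct.includeRight (R := A) (A := p.ResidueField) (B := B)).comp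
    (Ideal.Quotient.mkₐ A I)
  have hN : (RingHom.ker π).map j ≤ nilradical C := by
    refine Ideal.map_le_iff_le_comap.2 fun y hy => ?_
    obtain ⟨n, hn⟩ := hsupp hy
    refine Ideal.mem_comap.2 ⟨n, ?_⟩
    rw [← map_pow, Ideal.zero_eq_bot, Ideal.mem_bot]
    show (Algebra.TensorProduct.includeRight (R := A) (A := p.ResidueField) (B := B)) (Ideal.Quotient.mk I (y ^ n)) = 0
    rw [Ideal.Quotient.eq_zero_iff_mem.2 hn, map_zero]
  have hd : Module.finrank p.ResidueField C = d :=
    (Module.rankAtStalk_eq (R := A) (M := B) ⟨p, hp⟩).symm.trans (hrank ⟨p, hp⟩)
  have h0 := key p.ResidueField C _ hN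
  rw [hd, ← Ideal.map_pow] at h0
  have hjx : j x = 0 := by
    have := Ideal.mem_map_of_mem j hx
    rwa [h0, Ideal.mem_bot] at this
  have h1 := congrArg ((TensorProduct.AlgebraTensorModule.rid A A p.ResidueField).toLinearMap ∘ₗ
    LinearMap.lTensor p.ResidueField φ) hjx
  have h2 : j x = (1 : p.ResidueField) ⊗ₜ[A] (Ideal.Quotient.mk I x : B) := rfl
  rw [h2, map_zero] at h1
  simp only [LinearMap.comp_apply, LinearMap.lTensor_tmul, LinearEquiv.coe_coe,
    TensorProduct.AlgebraTensorModule.rid_tmul] at h1
  rwa [← Algebra.algebraMap_eq_smul_one, Ideal.algebraMap_residueField_eq_zero] at h1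

end Groth.Agent.S15150
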