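import Groth.Statements.S15151
import Mathlib.RingTheory.Flat.TorsionFree


set_option autoImplicit false
universe u
open CategoryTheory AlgebraicGeometry
open HilbZeta

namespace Groth.Agent.S15151

/-- Let k be a field, and let f : X → Y and g : Y → Spec k[t] be morphisms of schemes with f
quasi-compact and with zero kernel ideal sheaf (Y is the scheme-theoretic image of f), such that the
composite X → Spec k[t] is flat. Then g is flat; in particular a k[t]-subalgebra of a flat
k[t]-algebra is flat. (The published statement has no quasi-compactness hypothesis on f and is over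
an algebraically closed field; this row assumes f quasi-compact and allows any field.) -/
theorem result (k : Type u) [Field k]
    (X Y : Scheme.{u}) (f : X ⟶ Y) (g : Y ⟶ Spec (CommRingCat.of (Polynomial k)))
    [QuasiCompact f] (hker : f.ker = ⊥) [Flat (f ≫ g)] : Flat g := by
  rw [HasRingHomProperty.iff_of_iSup_eq_top (P := @Flat) (fun V : Y.affineOpens => V) (iSup_affineOpens_eq_top Y)]
  intro V
  rw [← RingHom.Flat.propertyIsLocal.respectsIso.cancel_left_isIso
    (Scheme.ΓSpecIso (CommRingCat.of (Polynomial k))).inv (g.appLE ⊤ V.1 le_top), ← CommRingCat.hom_comp]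
  set φ := ((Scheme.ΓSpecIso (CommRingCat.of (Polynomial k))).inv ≫ g.appLE ⊤ V.1 le_top).hom with hφ
  have hreg : ∀ r : Polynomial k, r ≠ 0 → ∀ b : Γ(Y, V.1), φ r * b = 0 → b = 0 := by
    intro r hr b hb
    have hinj : Function.Injective (f.app V.1).hom := by
      rw [RingHom.injective_iff_ker_eq_bot, ← Scheme.Hom.ker_apply, hker, Scheme.IdealSheafData.ideal_bot]
      rfl
    refine hinj ?_
    rw [map_zero]
    refine TopCat.Sheaf.eq_of_locally_eq' X.sheaf (fun W : {W : X.affineOpens // W.1 ≤ f ⁻¹ᵁ V.1} => W.1.1)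
      (f ⁻¹ᵁ V.1) (fun W => homOfLE W.2) ?_ ((f.app V.1).hom b) 0 ?_
    · intro x hx
      obtain ⟨_, ⟨W, hW, rfl⟩, hxW, hWU⟩ := X.isBasis_affineOpens.exists_subset_of_mem_open hx (f ⁻¹ᵁ V.1).2
      exact TopologicalSpace.Opens.mem_iSup.2 ⟨⟨⟨W, hW⟩, hWU⟩, hxW⟩
    · intro W
      rw [map_zero]
      show (f.appLE V.1 W.1.1 W.2).hom b = 0
      have hflat : ((Scheme.ΓSpecIso (CommRingCat.of (Polynomial k))).inv ≫
          (f ≫ g).appLE ⊤ W.1.1 le_top).hom.Flat := by
        rw [CommRingCat.hom_comp, RingHom.Flat.propertyIsLocal.respectsIso.cancel_left_isIso]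
        exact HasRingHomProperty.appLE @Flat (f ≫ g) ‹_› ⟨⊤, isAffineOpen_top _⟩ W.1 le_top
      set ψ := ((Scheme.ΓSpecIso (CommRingCat.of (Polynomial k))).inv ≫ (f ≫ g).appLE ⊤ W.1.1 le_top).hom with hψ
      have heq : ψ r = (f.appLE V.1 W.1.1 W.2).hom (φ r) := by
        rw [hψ, hφ, ← Scheme.Hom.appLE_comp_appLE f g ⊤ V.1 W.1.1 le_top W.2]
        rfl
      have h0 : ψ r * (f.appLE V.1 W.1.1 W.2).hom b = 0 := by
        rw [heq, ← map_mul, hb, map_zero]
      algebraize [ψ]
      have : Module.IsTorsionFree (Polynomial k) Γ(X, W.1.1) := by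
        rw [Submodule.isTorsionFree_iff_torsion_eq_bot, ← Module.Flat.flat_iff_torsion_eq_bot_of_isBezout]
        assumption
      refine (smul_eq_zero.1 ?_).resolve_left hr
      rw [Algebra.smul_def]
      exact h0
  algebraize [φ]
  show Module.Flat (Polynomial k) Γ(Y, V.1)
  have : Module.IsTorsionFree (Polynomial k) Γ(Y, V.1) := by
    refine ⟨fun r hr x y hxy => ?_⟩
    have hxy' : φ r * x = φ r * y := hxy
    exact sub_eq_zero.1 (hreg r (IsRegular.ne_zero hr) (x - y) (by rw [mul_sub, hxy', sub_self]))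
  rw [Module.Flat.flat_iff_torsion_eq_bot_of_isBezout, ← Submodule.isTorsionFree_iff_torsion_eq_bot]
  assumption

end Groth.Agent.S15151
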