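import Groth.Statements.S15152
import Groth.Agent.Cohen12.Branches
import Mathlib

set_option autoImplicit false
universe u
open HilbZeta

namespace Groth.Agent.S15152

/-- Let k be a field, s a natural number and R a k-subalgebra of the product of s copies of the power
series ring k[[x]], of finite codimension δ over k and local with residue field k (all components of
an element of R have the same constant term); write v_i for the x-adic order of the i-th component
of an s-tuple, and let c = (c_1, …, c_s) be the conductor exponents, so that an s-tuple f satisfies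
f·g ∈ R for every s-tuple g exactly when v_i(f) ≥ c_i for all i (over an algebraically closed field
such an R is precisely the completed local ring of a reduced curve singularity having s branches
sitting inside its normalisation, δ is its delta invariant and the conductor ideal is generated by
the x_i^{c_i}). Let A be the k-subalgebra of the product of s polynomial rings k[x] consisting of
the tuples whose image in the power series product lies in R, and m₀ its ideal of tuples with zero
constant terms. Then: A is of finite type over k and has no idempotents besides 0 and 1; the product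
of polynomial rings is a finite A-module, and for some N every product of N elements of m₀
multiplies all of it into A; every element of R is approximated to any x-adic order by elements of
A; and for every N there is an M such that every element of A whose components are all divisible by
x^M lies in m₀^N. In words: Y = Spec A is a connected affine curve whose normalisation is the
disjoint union of s affine lines and is an isomorphism away from the origin, and the completed local
ring of Y at the origin is R, compatibly with the inclusion of the polynomial product in the power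
series product. (The published statement asserts the existence of such a curve Y and is over an
algebraically closed field; this row names Y and allows any field.) -/
theorem result (k : Type u) [Field k] (s : ℕ)
    (R : Subalgebra k (Fin s → PowerSeries k))
    (hfin : Module.Finite k ((Fin s → PowerSeries k) ⧸ Subalgebra.toSubmodule R))
    (hloc : ∀ f ∈ R, ∀ i j : Fin s, PowerSeries.constantCoeff (f i) = PowerSeries.constantCoeff (f j))
    (c : Fin s → ℕ)
    (hc : ∀ f : Fin s → PowerSeries k,
      (∀ g : Fin s → PowerSeries k, g * f ∈ R) ↔ ∀ i, ((c i : ℕ) : ℕ∞) ≤ (f i).order)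
    (A : Subalgebra k (Fin s → Polynomial k))
    (hA : ∀ g : Fin s → Polynomial k, g ∈ A ↔ (fun i => ((g i : Polynomial k) : PowerSeries k)) ∈ R) :
    Algebra.FiniteType k ↥A ∧
    (∀ e ∈ A, e * e = e → e = 0 ∨ e = 1) ∧
    Module.Finite ↥A (Fin s → Polynomial k) ∧
    (∃ N : ℕ, ∀ g : Fin N → (Fin s → Polynomial k),
      (∀ n, g n ∈ A ∧ ∀ i, (g n i).coeff 0 = 0) → ∀ p : Fin s → Polynomial k, p * ∏ n, g n ∈ A) ∧
    (∀ f ∈ R, ∀ N : ℕ, ∃ g ∈ A, ∀ i : Fin s, (N : ℕ∞) ≤ (f i - ((g i : Polynomial k) : PowerSeries k)).order) ∧
    (∀ N : ℕ, ∃ M : ℕ, ∀ g : ↥A, (∀ i : Fin s, Polynomial.X ^ M ∣ (g : Fin s → Polynomial k) i) →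
      g ∈ (Ideal.span {h : ↥A | ∀ i : Fin s, ((h : Fin s → Polynomial k) i).coeff 0 = 0}) ^ N) := by
  classical
  let cP : Polynomial k →+* PowerSeries k := Polynomial.coeToPowerSeries.ringHom
  have hdvd : ∀ (n : ℕ) (p : Polynomial k), Polynomial.X ^ n ∣ p →
      (n : ℕ∞) ≤ ((p : Polynomial k) : PowerSeries k).order := by
    rintro n p ⟨q, rfl⟩
    refine Cohen12.Branches.le_order_iff.2 ⟨(q : PowerSeries k), ?_⟩
    simp
  have hmemA : ∀ g : Fin s → Polynomial k, (∀ i, Polynomial.X ^ c i ∣ g i) → g ∈ A := fun g hg =>
    (hA g).2 (Cohen12.Branches.mem_of_le_order R c hc fun i => hdvd _ _ (hg i))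
  set K := Finset.univ.sup c + 1 with hK
  have hcK : ∀ i, c i ≤ K := fun i => (Finset.le_sup (Finset.mem_univ i)).trans (Nat.le_succ _)
  -- idempotents of the product
  have hsingle : ∀ (i : Fin s) (q : Polynomial k), Polynomial.X ^ K ∣ q → Pi.single i q ∈ A := by
    intro i q hq
    refine hmemA _ fun l => ?_
    rcases eq_or_ne l i with rfl | hne
    · rw [Pi.single_eq_same]; exact (pow_dvd_pow _ (hcK l)).trans hq
    · simp [hne]
  -- the product is integral over `A`
  let XX : Fin s → Fin s → Polynomial k := fun i => Pi.single i Polynomial.X
  have hint : ∀ x : Fin s → Polynomial k, IsIntegral A x := by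
    intro x
    have hCk : ∀ i (a : k), IsIntegral A (Pi.single i (Polynomial.C a) : Fin s → Polynomial k) := by
      intro i a
      have h1 : IsIntegral A (Pi.single i 1 : Fin s → Polynomial k) := by
        refine ⟨Polynomial.X ^ 2 - Polynomial.X, Polynomial.monic_X_pow_sub (lt_of_le_of_lt Polynomial.degree_X_le (by norm_num)), ?_⟩
        simp [sq, ← Pi.single_mul]
      have : (Pi.single i (Polynomial.C a) : Fin s → Polynomial k) =
          algebraMap k (Fin s → Polynomial k) a * Pi.single i 1 := by
        funext l
        rcases eq_or_ne l i with rfl | hne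
        · simp [Polynomial.C_eq_algebraMap]
        · simp [hne]
      rw [this]
      exact (isIntegral_algebraMap (x := (⟨_, A.algebraMap_mem a⟩ : A))).mul h1
    have hX : ∀ i, IsIntegral A (XX i) := by
      intro i
      refine IsIntegral.of_pow (n := K) (by omega) ?_
      have : XX i ^ K = Pi.single i (Polynomial.X ^ K) := by
        funext l
        rcases eq_or_ne l i with rfl | hne
        · simp [XX]
        · simp [XX, hne, hK]
      rw [this]
      exact isIntegral_algebraMap (x := (⟨_, hsingle i _ dvd_rfl⟩ : A))
    have hone : ∀ (i : Fin s) (q : Polynomial k), IsIntegral A (Pi.single i q : Fin s → Polynomial k) := by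
      intro i q
      induction q using Polynomial.induction_on with
      | C a => exact hCk i a
      | add p q hp hq => rw [Pi.single_add]; exact hp.add hq
      | monomial n a h =>
        have : (Pi.single i (Polynomial.C a * Polynomial.X ^ (n + 1)) : Fin s → Polynomial k) =
            Pi.single i (Polynomial.C a * Polynomial.X ^ n) * XX i := by
          rw [← Pi.single_mul, pow_succ, mul_assoc]
        rw [this]; exact h.mul (hX i)
    rw [← Finset.univ_sum_single x]
    exact IsIntegral.sum _ fun i _ => hone i (x i)
  have hft : Algebra.FiniteType k (Fin s → Polynomial k) := inferInstance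
  have : Algebra.IsIntegral A (Fin s → Polynomial k) := ⟨hint⟩
  have : Algebra.FiniteType A (Fin s → Polynomial k) :=
    Algebra.FiniteType.of_restrictScalars_finiteType k A (Fin s → Polynomial k)
  have hfinA : Module.Finite A (Fin s → Polynomial k) := Algebra.IsIntegral.finite
  refine ⟨?_, ?_, hfinA, ⟨K, ?_⟩, ?_, ?_⟩
  · exact ⟨fg_of_fg_of_fg k A (Fin s → Polynomial k) hft.out hfinA.fg_top Subtype.val_injective⟩
  · intro e he hee
    have hi : ∀ i, e i = 0 ∨ e i = 1 := fun i => by
      have h1 := congr_fun hee i
      simpa using IsIdempotentElem.iff_eq_zero_or_one.1 (show IsIdempotentElem (e i) from h1)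
    rcases isEmpty_or_nonempty (Fin s) with hs | ⟨⟨i₀⟩⟩
    · exact Or.inl (funext fun i => isEmptyElim i)
    have hsame : ∀ i, (e i).coeff 0 = (e i₀).coeff 0 := fun i => by
      have := hloc _ ((hA e).1 he) i i₀
      simpa using this
    rcases hi i₀ with h0 | h0
    · refine Or.inl (funext fun i => ?_)
      rcases hi i with h | h
      · exact h
      · have := hsame i; simp [h, h0] at this
    · refine Or.inr (funext fun i => ?_)
      rcases hi i with h | h
      · have := hsame i; simp [h, h0] at this
      · exact h
  · intro g hg p
    refine hmemA _ fun i => (pow_dvd_pow _ (hcK i)).trans ?_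
    rw [Pi.mul_apply, Finset.prod_apply]
    refine Dvd.dvd.mul_left ?_ _
    have := Finset.prod_dvd_prod_of_dvd (fun _ => Polynomial.X) (fun n => g n i) (s := Finset.univ)
      fun n _ => Polynomial.X_dvd_iff.2 ((hg n).2 i)
    simpa using this
  · intro f hf N
    set M := max N K
    refine ⟨fun i => (f i).trunc M, ?_, fun i => ?_⟩
    · rw [hA]
      have h1 : (fun i => (((f i).trunc M : Polynomial k) : PowerSeries k)) =
          f - (fun i => f i - (((f i).trunc M : Polynomial k) : PowerSeries k)) := by
        funext i; simp
      rw [h1]
      refine sub_mem hf (Cohen12.Branches.mem_of_le_order R c hc fun i => ?_)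
      refine PowerSeries.nat_le_order _ _ fun m hm => ?_
      have : m < M := lt_of_lt_of_le hm ((hcK i).trans (le_max_right _ _))
      simp [PowerSeries.coeff_trunc, this]
    · refine PowerSeries.nat_le_order _ _ fun m hm => ?_
      have : m < M := lt_of_lt_of_le hm (le_max_left _ _)
      simp [PowerSeries.coeff_trunc, this]
  · intro N
    rcases N with _ | N
    · exact ⟨0, fun g _ => by simp⟩
    refine ⟨K * (N + 1), fun g hg => ?_⟩
    set m₀ := Ideal.span {h : ↥A | ∀ i : Fin s, ((h : Fin s → Polynomial k) i).coeff 0 = 0}
    choose q hq using hg
    let u : Fin s → ↥A := fun i => ⟨_, hsingle i (Polynomial.X ^ K) dvd_rfl⟩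
    let w : Fin s → ↥A := fun i => ⟨_, hsingle i (Polynomial.X ^ K * q i) (dvd_mul_right _ _)⟩
    have hu : ∀ i, u i ∈ m₀ := fun i => Ideal.subset_span fun l => by
      rcases eq_or_ne l i with rfl | hne
      · simp [u, Polynomial.coeff_X_pow, hK]
      · simp [u, hne]
    have hw : ∀ i, w i ∈ m₀ := fun i => Ideal.subset_span fun l => by
      rcases eq_or_ne l i with rfl | hne
      · simp [w, Polynomial.mul_coeff_zero, Polynomial.coeff_X_pow, hK]
      · simp [w, hne]
    have hsum : g = ∑ i, u i ^ N * w i := by
      apply Subtype.ext
      funext l
      rw [AddSubmonoidClass.coe_finsetSum, Finset.sum_apply, Finset.sum_eq_single l]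
      · simp only [u, w, MulMemClass.coe_mul, SubmonoidClass.coe_pow, Pi.mul_apply, Pi.pow_apply,
          Pi.single_eq_same]
        rw [hq l, pow_mul, pow_succ, mul_assoc]
      · intro b _ hb
        simp [w, Ne.symm hb]
      · simp
    rw [hsum, pow_succ]
    exact sum_mem fun i _ => Ideal.mul_mem_mul (Ideal.pow_mem_pow (hu i) N) (hw i)

end Groth.Agent.S15152
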