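import Groth.Statements.S15155
import Groth.Agent.CAlg24.SkewDet
import Mathlib.RingTheory.Polynomial.RationalRoot
import Mathlib.RingTheory.Polynomial.UniqueFactorization
import Mathlib.Analysis.Complex.Polynomial.Basic
-- import your own Groth.Agent.* helpers here

set_option autoImplicit false
open CAlg

namespace Groth.Agent.S15155

/-- Let J be the 2m × 2m block matrix with blocks 0, I_m in the first row and −I_m, 0 in the second,
over the complex numbers. On the set of complex 2m × 2m matrices A with ᵗA · J = J · A (equivalently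
ᵗA = J A J⁻¹, J being invertible), the characteristic polynomial is the square of a single
polynomial in the entries of A with coefficients in ℂ[X], and the determinant is the square of a
single polynomial in the entries of A. -/
theorem result (m : ℕ) :
    (∃ P : MvPolynomial ((Fin m ⊕ Fin m) × (Fin m ⊕ Fin m)) (Polynomial ℂ),
      ∀ A : Matrix (Fin m ⊕ Fin m) (Fin m ⊕ Fin m) ℂ,
        A.transpose * Matrix.fromBlocks 0 1 (-1) 0 = Matrix.fromBlocks 0 1 (-1) 0 * A →
        A.charpoly = (MvPolynomial.eval (fun ij => Polynomial.C (A ij.1 ij.2)) P) ^ 2) ∧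
    (∃ Q : MvPolynomial ((Fin m ⊕ Fin m) × (Fin m ⊕ Fin m)) ℂ,
      ∀ A : Matrix (Fin m ⊕ Fin m) (Fin m ⊕ Fin m) ℂ,
        A.transpose * Matrix.fromBlocks 0 1 (-1) 0 = Matrix.fromBlocks 0 1 (-1) 0 * A →
        A.det = (MvPolynomial.eval (fun ij => A ij.1 ij.2) Q) ^ 2) := by
  classical
  set J : Matrix (Fin m ⊕ Fin m) (Fin m ⊕ Fin m) ℂ := Matrix.fromBlocks 0 1 (-1) 0 with hJ
  have hJt : J.transpose = -J := by
    rw [hJ, Matrix.fromBlocks_transpose, Matrix.fromBlocks_neg]; simp
  have hJJ : J * J = -1 := by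
    rw [hJ, Matrix.fromBlocks_multiply, ← Matrix.fromBlocks_one, Matrix.fromBlocks_neg]; simp
  have hsq : J.det * J.det = 1 := by
    rw [← Matrix.det_mul, hJJ, Matrix.det_neg, Matrix.det_one, mul_one]
    simp [pow_add, ← two_mul, pow_mul]
  obtain ⟨s, hs⟩ := IsAlgClosed.exists_pow_nat_eq J.det two_pos
  have hskew : ∀ A : Matrix (Fin m ⊕ Fin m) (Fin m ⊕ Fin m) ℂ, A.transpose * J = J * A →
      (J * A).transpose = -(J * A) := fun A hA => by
    rw [Matrix.transpose_mul, hJt, Matrix.mul_neg, hA]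
  have hscalar : ∀ {ι : Type} [Fintype ι] [DecidableEq ι] {S : Type} [CommRing S] (d : S) (P : Matrix ι ι S),
      d * d = 1 → ∀ (Jm : Matrix ι ι S), Jm.det = d → P.det = d * (Jm * P).det := fun d P hd Jm hJd => by
    rw [Matrix.det_mul, hJd, ← mul_assoc, hd, one_mul]
  constructor
  · skip
    let J' : Matrix (Fin m ⊕ Fin m) (Fin m ⊕ Fin m) (MvPolynomial ((Fin m ⊕ Fin m) × (Fin m ⊕ Fin m)) (Polynomial ℂ)) := J.map ((MvPolynomial.C : Polynomial ℂ →+* (MvPolynomial ((Fin m ⊕ Fin m) × (Fin m ⊕ Fin m)) (Polynomial ℂ))).comp Polynomial.C)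
    let X' : Matrix (Fin m ⊕ Fin m) (Fin m ⊕ Fin m) (MvPolynomial ((Fin m ⊕ Fin m) × (Fin m ⊕ Fin m)) (Polynomial ℂ)) := Matrix.of fun a b => MvPolynomial.X (a, b)
    let half : (MvPolynomial ((Fin m ⊕ Fin m) × (Fin m ⊕ Fin m)) (Polynomial ℂ)) := MvPolynomial.C (Polynomial.C (1 / 2))
    let M : Matrix (Fin m ⊕ Fin m) (Fin m ⊕ Fin m) (MvPolynomial ((Fin m ⊕ Fin m) × (Fin m ⊕ Fin m)) (Polynomial ℂ)) :=
      (MvPolynomial.C (Polynomial.X : Polynomial ℂ) : MvPolynomial ((Fin m ⊕ Fin m) × (Fin m ⊕ Fin m)) (Polynomial ℂ)) • J' - half • (J' * X' - (J' * X').transpose)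
    have hM : M.transpose = -M := by
      have hJ' : J'.transpose = -J' := by
        rw [← Matrix.transpose_map, hJt, Matrix.map_neg _ (map_neg _)]
      simp only [M, Matrix.transpose_sub, Matrix.transpose_smul, Matrix.transpose_transpose, hJ', smul_neg, smul_sub]
      abel
    obtain ⟨q, hq⟩ := Groth.Agent.CAlg24.isSquare_det_of_skew (R := (MvPolynomial ((Fin m ⊕ Fin m) × (Fin m ⊕ Fin m)) (Polynomial ℂ))) two_ne_zero M hM
    refine ⟨MvPolynomial.C (Polynomial.C s) * q, fun A hA => ?_⟩
    let ev : (MvPolynomial ((Fin m ⊕ Fin m) × (Fin m ⊕ Fin m)) (Polynomial ℂ)) →+* Polynomial ℂ := MvPolynomial.eval fun ij => Polynomial.C (A ij.1 ij.2)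
    have hMe : M.map ev = J.map Polynomial.C * A.charmatrix := by
      have hJ'e : J'.map ev = J.map Polynomial.C := by ext a b; simp [J', ev]
      have hX'e : X'.map ev = A.map Polynomial.C := by ext a b; simp [X', ev]
      have hJX : (J' * X').map ev = (J * A).map Polynomial.C := by
        rw [Matrix.map_mul, hJ'e, hX'e, Matrix.map_mul]
      have h1 : M.map ev = (Polynomial.X : Polynomial ℂ) • J.map Polynomial.C - (J * A).map Polynomial.C := by
        ext a b
        have e1 := congrFun (congrFun hJX a) b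
        have e2 := congrFun (congrFun hJX b) a
        have e3 := congrFun (congrFun (hskew A hA) a) b
        simp only [Matrix.map_apply, Matrix.transpose_apply, Matrix.neg_apply] at e1 e2 e3
        simp only [M, Matrix.map_apply, Matrix.sub_apply, Matrix.smul_apply, Matrix.transpose_apply, smul_eq_mul,
          map_sub, map_mul]
        rw [e1, e2, e3, map_neg]
        simp only [ev, half, J', Matrix.map_apply, RingHom.comp_apply, MvPolynomial.eval_C]
        rw [sub_neg_eq_add, ← two_mul, ← mul_assoc, ← Polynomial.C_ofNat, ← Polynomial.C_mul]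
        norm_num
      rw [h1, Matrix.map_mul, Matrix.charmatrix, Matrix.mul_sub, Matrix.scalar_apply]
      simp [Matrix.smul_eq_mul_diagonal]
    show A.charmatrix.det = ev (MvPolynomial.C (Polynomial.C s) * q) ^ 2
    rw [hscalar (Polynomial.C J.det) A.charmatrix (by rw [← map_mul, hsq, map_one]) (J.map Polynomial.C)
      (by rw [← RingHom.mapMatrix_apply, ← RingHom.map_det]), ← hMe, ← RingHom.mapMatrix_apply, ← RingHom.map_det, hq]
    simp only [ev, map_mul, MvPolynomial.eval_C, mul_pow]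
    rw [← Polynomial.C_pow, hs]
    ring
  · skip
    let J' : Matrix (Fin m ⊕ Fin m) (Fin m ⊕ Fin m) (MvPolynomial ((Fin m ⊕ Fin m) × (Fin m ⊕ Fin m)) ℂ) := J.map MvPolynomial.C
    let X' : Matrix (Fin m ⊕ Fin m) (Fin m ⊕ Fin m) (MvPolynomial ((Fin m ⊕ Fin m) × (Fin m ⊕ Fin m)) ℂ) := Matrix.of fun a b => MvPolynomial.X (a, b)
    let half : (MvPolynomial ((Fin m ⊕ Fin m) × (Fin m ⊕ Fin m)) ℂ) := MvPolynomial.C (1 / 2)
    let M : Matrix (Fin m ⊕ Fin m) (Fin m ⊕ Fin m) (MvPolynomial ((Fin m ⊕ Fin m) × (Fin m ⊕ Fin m)) ℂ) := half • (J' * X' - (J' * X').transpose)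
    have hM : M.transpose = -M := by
      simp only [M, Matrix.transpose_sub, Matrix.transpose_smul, Matrix.transpose_transpose, smul_sub]
      abel
    obtain ⟨q, hq⟩ := Groth.Agent.CAlg24.isSquare_det_of_skew (R := (MvPolynomial ((Fin m ⊕ Fin m) × (Fin m ⊕ Fin m)) ℂ)) two_ne_zero M hM
    refine ⟨MvPolynomial.C s * q, fun A hA => ?_⟩
    let ev : (MvPolynomial ((Fin m ⊕ Fin m) × (Fin m ⊕ Fin m)) ℂ) →+* ℂ := MvPolynomial.eval fun ij => A ij.1 ij.2
    have hMe : M.map ev = J * A := by
      have hJ'e : J'.map ev = J := by ext a b; simp [J', ev]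
      have hX'e : X'.map ev = A := by ext a b; simp [X', ev]
      have hJX : (J' * X').map ev = J * A := by rw [Matrix.map_mul, hJ'e, hX'e]
      ext a b
      have e1 := congrFun (congrFun hJX a) b
      have e2 := congrFun (congrFun hJX b) a
      have e3 := congrFun (congrFun (hskew A hA) a) b
      simp only [Matrix.map_apply, Matrix.transpose_apply, Matrix.neg_apply] at e1 e2 e3
      simp only [M, Matrix.map_apply, Matrix.sub_apply, Matrix.smul_apply, Matrix.transpose_apply, smul_eq_mul,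
        map_sub, map_mul]
      rw [e1, e2, e3]
      simp only [ev, half, MvPolynomial.eval_C]
      ring
    show A.det = ev (MvPolynomial.C s * q) ^ 2
    rw [hscalar J.det A hsq J rfl, ← hMe, ← RingHom.mapMatrix_apply, ← RingHom.map_det, hq]
    simp only [ev, map_mul, MvPolynomial.eval_C, mul_pow, hs]
    ring

end Groth.Agent.S15155
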