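import Groth.Statements.S15156
import Groth.Agent.VB30.Invol


set_option autoImplicit false
open CategoryTheory CategoryTheory.Limits AlgebraicGeometry
open VBCurve

namespace Groth.Agent.S15156
set_option backward.isDefEq.respectTransparency.types false

/-- Let X be a smooth proper integral curve of genus at least 2 over the complex numbers with an
involution σ ≠ id over the complex numbers, and (E, φ) a σ-linearized finite locally free module of
rank r ≥ 1: φ : σ^*E ≅ E with φ ∘ σ^*φ equal to the canonical identification σ^*σ^*E ≅ E. A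
submodule F ⊂ E is σ-invariant when the composite σ^*F → σ^*E → E factors through F. Then (E, φ) is
semistable with respect to σ-invariant finite locally free submodules (deg F · r ≤ deg E · rk F for
each such F of positive rank) if and only if E is slope-semistable (the same inequality for every
finite locally free submodule of positive rank); degrees are χ − rank · χ(O). -/
theorem result
    (X : Scheme.{0}) [X.Over (Spec (CommRingCat.of ℂ))] [IsIntegral X] [IsProper (X ↘ Spec (CommRingCat.of ℂ))] [Smooth (X ↘ Spec (CommRingCat.of ℂ))]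
    (hdim : topologicalKrullDim X = 1) (hg : 2 ≤ Curv2.genus ℂ X)
    (σ : X ⟶ X) (hσS : σ ≫ (X ↘ Spec (CommRingCat.of ℂ)) = X ↘ Spec (CommRingCat.of ℂ)) (hσ : σ ≫ σ = 𝟙 X) (hσ1 : σ ≠ 𝟙 X)
    (r : ℕ) (hr : 0 < r) (E : X.Modules) (hE : FlatMod.IsFinLocFreeOfRank r E)
    (φ : (Scheme.Modules.pullback σ).obj E ≅ E)
    (hφ : (Scheme.Modules.pullback σ).map φ.hom ≫ φ.hom =
      (Scheme.Modules.pullbackComp σ σ).hom.app E ≫ (Scheme.Modules.pullbackCongr hσ).hom.app E ≫
        (Scheme.Modules.pullbackId X).hom.app E) :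
    (∀ (F : X.Modules) (r' : ℕ) (i : F ⟶ E), Mono i → 0 < r' → FlatMod.IsFinLocFreeOfRank r' F →
      (∃ j : (Scheme.Modules.pullback σ).obj F ⟶ F, j ≫ i = (Scheme.Modules.pullback σ).map i ≫ φ.hom) →
      Curv2.deg ℂ X F r' * (r : ℤ) ≤ Curv2.deg ℂ X E r * (r' : ℤ)) ↔
    (∀ (F : X.Modules) (r' : ℕ) (i : F ⟶ E), Mono i → 0 < r' → FlatMod.IsFinLocFreeOfRank r' F →
      Curv2.deg ℂ X F r' * (r : ℤ) ≤ Curv2.deg ℂ X E r * (r' : ℤ)) := by
  have hS : CrvPic30.Setup ℂ X := CrvPic30.setup_of_smooth_algClosed hdim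
  have hc := VB30.cur_of_setup hS
  have lE := VB30.isFinLocFree_of_rank hE
  have rE := VB30.rk_eq_of_isFinLocFreeOfRank hE
  haveI : IsIso σ := ⟨σ, hσ, hσ⟩
  refine ⟨fun h F r' i hi hr' hF => ?_, fun h F r' i hi hr' hF _ => h F r' i hi hr' hF⟩
  have hss : VB30.SS ℂ E := hc.ss_of_invariant σ hσS lE (by omega) φ fun G j hj g0 hG hinv => by
    have a := h G (VB30.rk G) j hj g0 (VB30.isFinLocFreeOfRank_rk hG) hinv
    rw [VB30.deg_eq_dg (VB30.isFinLocFreeOfRank_rk hG), VB30.deg_eq_dg hE] at a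
    rwa [rE]
  have rF := VB30.rk_eq_of_isFinLocFreeOfRank hF
  have b := hss F i hi (by omega) (VB30.isFinLocFree_of_rank hF)
  rw [VB30.deg_eq_dg hE, VB30.deg_eq_dg hF]
  rwa [rE, rF] at b

end Groth.Agent.S15156
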