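import Groth.Statements.S15166
import Groth.Agent.BddFin96.Quad

set_option autoImplicit false
universe u v
open Polynomial
open BddFin

namespace Groth.Agent.S15166

/-- Let K be a field of characteristic different from 2 such that K contains all roots of unity (for
every n ≥ 1 the polynomial X^n − 1 splits into linear factors over K), V a finite-dimensional
K-vector space and q a quadratic form on V that does not represent zero. Then every finite subgroup
of the group of K-linear automorphisms of V preserving q is abelian and has order at most 2 ^ (dim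
V). (The published statement also covers perfect fields of characteristic 2; this row is the case of
characteristic ≠ 2.) -/
theorem result
    (K : Type u) [Field K] (hK : ∀ n : ℕ, 0 < n → (X ^ n - 1 : K[X]).Splits) (h2 : (2 : K) ≠ 0)
    (V : Type v) [AddCommGroup V] [Module K V] [FiniteDimensional K V]
    (q : QuadraticForm K V) (hq : q.Anisotropic)
    (G : Subgroup (V ≃ₗ[K] V)) [Finite G] (hG : ∀ g ∈ G, ∀ x : V, q (g x) = q x) :
    (∀ g ∈ G, ∀ h ∈ G, g * h = h * g) ∧ Nat.card G ≤ 2 ^ Module.finrank K V := by
  have hsq : ∀ g ∈ G, g ^ 2 = 1 := by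
    intro g hg
    obtain ⟨d, hd, he⟩ := isOfFinOrder_iff_pow_eq_one.mp (isOfFinOrder_of_finite (⟨g, hg⟩ : G))
    exact Groth.Agent.BddFin96.sq_eq_one hK h2 q hq g (hG g hg) d hd (congrArg Subtype.val he)
  refine ⟨fun g hg h hh => congrArg Subtype.val (Groth.Agent.BddFin96.commute_of_sq (G := G)
    (fun c => Subtype.ext (hsq c c.2)) ⟨g, hg⟩ ⟨h, hh⟩), ?_⟩
  exact Groth.Agent.BddFin96.card_le_two_pow h2 (Module.finrank K V) rfl G hsq

end Groth.Agent.S15166
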