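import Groth.Statements.S15183
import Groth.Agent.BddFin96.Units

set_option autoImplicit false
universe u v
open Polynomial
open BddFin

namespace Groth.Agent.S15183

/-- Let K be a field such that K contains all roots of unity (for every n ≥ 1 the polynomial X^n − 1
splits into linear factors over K), and A a finite-dimensional central simple K-algebra which is not
a division algebra (some non-zero element is not a unit). Then the quotient of the unit group of A
by that of K has elements of every finite order invertible in K: for every d ≥ 1 with d ≠ 0 in K
there is a unit x of A with x ^ d in K and x ^ k not in K for 0 < k < d. (The published assertion is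
phrased for the automorphism group of the Severi–Brauer variety of A, which is isomorphic to the
units of A modulo those of K; this row is the algebra-side statement its proof establishes.) -/
theorem result
    (K : Type u) [Field K] (hK : ∀ n : ℕ, 0 < n → (X ^ n - 1 : K[X]).Splits)
    (A : Type v) [Ring A] [Algebra K A] [Algebra.IsCentral K A] [IsSimpleRing A] [FiniteDimensional K A]
    (hA : ∃ y : A, y ≠ 0 ∧ ¬ IsUnit y) (d : ℕ) (hd : 0 < d) (hdK : (d : K) ≠ 0) :
    ∃ x : A, IsUnit x ∧ x ^ d ∈ (algebraMap K A).range ∧
      ∀ k : ℕ, 0 < k → k < d → x ^ k ∉ (algebraMap K A).range := by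
  have : NeZero ((d : ℕ) : AlgebraicClosure K) := ⟨by
    rw [← map_natCast (algebraMap K (AlgebraicClosure K)), _root_.map_ne_zero]; exact hdK⟩
  obtain ⟨z, hz⟩ := HasEnoughRootsOfUnity.exists_primitiveRoot (AlgebraicClosure K) d
  obtain ⟨ζ, hζ⟩ := (hK d hd).mem_range_of_isRoot (monic_X_pow_sub_C (1 : K) hd.ne').ne_zero
    (i := algebraMap K (AlgebraicClosure K)) (x := z) (by simp [IsRoot, hz.pow_eq_one])
  have : IsArtinianRing A := IsArtinianRing.of_finite K A
  obtain ⟨e, he, he0, he1⟩ := Groth.Agent.BddFin96.exists_nontrivial_idempotent A hA
  exact Groth.Agent.BddFin96.exists_torsion_of_idempotent hd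
    ((hζ ▸ hz : IsPrimitiveRoot (algebraMap K (AlgebraicClosure K) ζ) d).of_map_of_injective
      (algebraMap K (AlgebraicClosure K)).injective) he he0 he1

end Groth.Agent.S15183
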