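import Groth.Statements.S15190
import Groth.Agent.Csa25.SBAutGroup

set_option autoImplicit false
universe u
open CategoryTheory CategoryTheory.Limits AlgebraicGeometry Polynomial
open BddFin

namespace Groth.Agent.S15190

/-- Let k be a field of characteristic p > 0 such that k contains all roots of unity (for every r ≥ 1
the polynomial X^r − 1 splits into linear factors over k), A a central division algebra of dimension
n² over k with n = n' · p ^ m and n' prime to p, and X → Spec k the Severi–Brauer variety of A (X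
represents the functor of left ideals of A with projective quotient of corank n² − n). Then every
finite subgroup G of the group of automorphisms of X over k is a semidirect product: there are
subgroups H and S of G with H normal in G, H ∩ S trivial and H S = G, such that every element of H
has order prime to p and S is abelian with s ^ (p ^ m) = 1 for all s in S. (The published statement
also bounds the order of H; that bound is not part of this row.) -/
theorem result
    (k : Type u) [Field k] (p : ℕ) [Fact p.Prime] [CharP k p]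
    (hk : ∀ r : ℕ, 0 < r → (X ^ r - 1 : k[X]).Splits)
    (A : Type u) [DivisionRing A] [Algebra k A] [Algebra.IsCentral k A]
    (n n' m : ℕ) (hn0 : 0 < n) (hA : Module.finrank k A = n * n) (hn : n = n' * p ^ m) (hn' : ¬ p ∣ n')
    {X : Scheme.{u}} (f : X ⟶ Spec (CommRingCat.of k)) (hX : BrSev.IsSBOf k A (n * n - n) f)
    (G : Subgroup (Aut (Over.mk f))) [Finite G] :
    ∃ H S : Subgroup (Aut (Over.mk f)), H ≤ G ∧ S ≤ G ∧
      (∀ g ∈ G, ∀ h ∈ H, g * h * g⁻¹ ∈ H) ∧ H ⊓ S = ⊥ ∧ H ⊔ S = G ∧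
      (∀ h ∈ H, ((orderOf h : ℕ) : k) ≠ 0) ∧
      (∀ s ∈ S, ∀ t ∈ S, s * t = t * s) ∧ (∀ s ∈ S, s ^ (p ^ m) = 1) := by
  haveI : FiniteDimensional k A := Module.finite_of_finrank_pos (by rw [hA]; positivity)
  obtain ⟨ξ, hξ, hker⟩ := Groth.Agent.Csa25.exists_units_to_aut k A n hn0 hA f hX
  have hexp : ∀ g : G, g ^ n = 1 := fun g => by
    obtain ⟨M, hM, hgM⟩ := isOfFinOrder_iff_pow_eq_one.mp (isOfFinOrder_of_finite g)
    obtain ⟨a, ha⟩ := hξ (g : Aut (Over.mk f))
    have h1 : ξ (a ^ M) = 1 := by rw [map_pow, ha, ← SubgroupClass.coe_pow, hgM, OneMemClass.coe_one]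
    obtain ⟨c, hc⟩ := (hker _).mp h1
    obtain ⟨d, hd⟩ := Groth.Agent.Csa25.exists_dvd_pow_mem hA hk a.ne_zero hM
      ⟨c, (congrArg Units.val hc).trans (Units.val_pow_eq_pow_val a M)⟩
    have hd0 : d ≠ 0 := fun h => pow_ne_zero n a.ne_zero (by rw [← hd, h, map_zero])
    refine Subtype.ext ?_
    rw [SubgroupClass.coe_pow, OneMemClass.coe_one, ← ha, ← map_pow, hker]
    exact ⟨Units.mk0 d hd0, Units.ext (hd.trans (Units.val_pow_eq_pow_val a n).symm)⟩
  obtain ⟨H, S, hHn, hinf, hsup, hH, hcomm, hS⟩ :=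
    Groth.Agent.Csa25.exists_normal_complement (Γ := G) p fun x y r hx h => by
      refine Subtype.ext (Groth.Agent.Csa25.commute_of_commute_commutator_image (k := k) p ξ hξ hker
        (x := (x : Aut (Over.mk f))) (y := (y : Aut (Over.mk f))) (r := r) ?_ ?_).eq
      · rw [← SubgroupClass.coe_pow, hx, OneMemClass.coe_one]
      · exact h.map G.subtype
  refine ⟨H.map G.subtype, S.map G.subtype, Subgroup.map_subtype_le H, Subgroup.map_subtype_le S,
    ?_, ?_, ?_, ?_, ?_, ?_⟩
  · rintro g hg _ ⟨h, hh, rfl⟩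
    exact ⟨(⟨g, hg⟩ : G) * h * (⟨g, hg⟩ : G)⁻¹, hHn.conj_mem h hh (⟨g, hg⟩ : G), by simp only [map_mul, map_inv, Subgroup.subtype_apply]⟩
  · exact ((Subgroup.map_inf H S G.subtype G.subtype_injective).symm.trans
      (congrArg (Subgroup.map G.subtype) hinf)).trans (Subgroup.map_bot G.subtype)
  · rw [← Subgroup.map_sup, hsup, ← MonoidHom.range_eq_map, Subgroup.range_subtype]
  · rintro _ ⟨h, hh, rfl⟩
    rw [orderOf_injective G.subtype G.subtype_injective, Ne, CharP.cast_eq_zero_iff k p]
    exact fun hd => hH (hd.trans (Subgroup.orderOf_dvd_natCard H hh))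
  · rintro _ ⟨s, hs, rfl⟩ _ ⟨t, ht, rfl⟩
    exact congrArg Subtype.val (hcomm s hs t ht)
  · rintro _ ⟨s, hs, rfl⟩
    obtain ⟨r, hr⟩ := hS ⟨s, hs⟩
    obtain ⟨i, -, hi⟩ := (Nat.dvd_prime_pow (Fact.out : p.Prime)).mp
      (orderOf_dvd_of_pow_eq_one (congrArg Subtype.val hr : s ^ p ^ r = 1))
    have hdn : p ^ i ∣ n' * p ^ m := hi ▸ hn ▸ orderOf_dvd_of_pow_eq_one (hexp s)
    rw [← map_pow, orderOf_dvd_iff_pow_eq_one.mp (hi ▸ (((Fact.out : p.Prime).coprime_iff_not_dvd.mpr hn').pow_left i).dvd_of_dvd_mul_left hdn),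
      map_one]

end Groth.Agent.S15190
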