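import Groth.Statements.S15227
import Groth.Agent.VB30.Canon
import Groth.Agent.VB30.Setup
import Groth.Agent.QC70.CohOps


set_option autoImplicit false
open CategoryTheory CategoryTheory.Limits AlgebraicGeometry MonoidalCategory
open VBCurve

namespace Groth.Agent.S15227
set_option backward.isDefEq.respectTransparency.types false

/-- Let X be a smooth proper integral curve over ℂ of genus g ≥ 3 which is non-hyperelliptic, K a module
isomorphic to its sheaf of differentials, and N an invertible module of degree g − 1 with H^0(N) =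
0, so that the complete linear system of K ⊗ N maps X to a projective space of dimension 2g − 3 as a
curve of degree 3g − 3. An effective divisor D of degree d, recorded through its invertible ideal
sheaf I ⊂ O_X (of degree −d), is a d-secant when its linear span has dimension d − 2, i.e. h^0(I ⊗ K
⊗ N) = h^0(K ⊗ N) − d + 1. Then there is no (g − 1)-secant: no invertible ideal I ⊂ O_X of degree 1
− g satisfies h^0(I ⊗ K ⊗ N) + (g − 2) = h^0(K ⊗ N). -/
theorem result
    (X : Scheme.{0}) [X.Over (Spec (CommRingCat.of ℂ))] [IsIntegral X]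
    [IsProper (X ↘ Spec (CommRingCat.of ℂ))] [Smooth (X ↘ Spec (CommRingCat.of ℂ))]
    (hdim : topologicalKrullDim X = 1) (hg : 2 ≤ Curv2.genus ℂ X)
    (hnh : ∀ M : X.Modules, PicF.IsInvertible M → Curv2.deg ℂ X M 1 = 2 →
      Module.finrank ℂ (Coh.HH X M 0) ≤ 1)
    (K : X.Modules) (eK : K ≅ Omega.sheaf (X ↘ Spec (CommRingCat.of ℂ)))
    (g : ℕ) (hg3 : 3 ≤ g) (hgen : Curv2.genus ℂ X = g)
    (N : X.Modules) (hN : PicF.IsInvertible N) (hdN : Curv2.deg ℂ X N 1 = (g : ℤ) - 1)
    (h0 : Module.finrank ℂ (Coh.HH X N 0) = 0) :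
    ¬ ∃ (I : X.Modules) (ι : I ⟶ Coh.structureModule X),
        PicF.IsInvertible I ∧ Mono ι ∧ Curv2.deg ℂ X I 1 = -((g : ℤ) - 1) ∧
        Module.finrank ℂ (Coh.HH X (CohB1.tensorMod I (CohB1.tensorMod K N)) 0) + (g - 2) =
          Module.finrank ℂ (Coh.HH X (CohB1.tensorMod K N) 0) := by
  have hS : CrvPic30.Setup ℂ X := CrvPic30.setup_of_smooth_algClosed hdim
  have hc := VB30.cur_of_setup hS
  obtain ⟨hKi, hKd, hK1⟩ := VB30.omega_facts hS eK
  have := hc.isNoetherian
  rintro ⟨I, ι, hI, hι, hdI, he⟩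
  rw [VB30.deg_eq_dg_of_isInvertible hI] at hdI
  rw [VB30.deg_eq_dg_of_isInvertible hN] at hdN
  obtain ⟨e⟩ := VB30.tensor_iso_unit_of_secant hS hKi hK1 hKd hN hI (by omega) (by omega) (m := g - 2) (by omega) he
  have := VB30.mono_twMap (X := X) hN ι
  let s : Coh.structureModule X ⟶ N := e.inv ≫ VB30.twMap ι N ≫ (EGA73.tensUnitLeft N).hom
  have : Mono s := mono_comp _ _
  have lN := (VB30.lf_of_isInvertible hN).1
  have := hc.curveCoh.finite _ (VB30.isCoh_of_isFinLocFree lN) 0
  have hinj := Crv77.injective_f_zero (A := ℂ) (VB30.shortExact_cokernel s)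
  have hle := LinearMap.finrank_le_finrank_of_injective (f := Crv77.hmap ℂ s 0) hinj
  have h1 : 1 ≤ Module.finrank ℂ (Coh.HH X (Coh.structureModule X) 0) := hc.one_le_h0
  omega

end Groth.Agent.S15227
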