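import Groth.Statements.S15228
import Groth.Agent.VB30.Canon
import Groth.Agent.VB30.Setup
import Groth.Agent.QC70.CohOps


set_option autoImplicit false
open CategoryTheory CategoryTheory.Limits AlgebraicGeometry MonoidalCategory
open VBCurve

namespace Groth.Agent.S15228
set_option backward.isDefEq.respectTransparency.types false
set_option maxHeartbeats 1600000

/-- Let X be a smooth proper integral curve over ℂ of genus g ≥ 3 which is non-hyperelliptic, K a module
isomorphic to its sheaf of differentials, and N an invertible module of degree g with h^0(N) ≤ 1, so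
that the complete linear system of K ⊗ N maps X to a projective space of dimension 2g − 2 as a curve
of degree 3g − 2. An effective divisor D of degree d, recorded through its invertible ideal sheaf I
⊂ O_X (of degree −d), is a d-secant when its linear span has dimension d − 2, i.e. h^0(I ⊗ K ⊗ N) =
h^0(K ⊗ N) − d + 1. Then X has exactly one g-secant: some invertible ideal I ⊂ O_X of degree −g
satisfies h^0(I ⊗ K ⊗ N) + (g − 1) = h^0(K ⊗ N), and any two such ideals are equal as subobjects of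
O_X (an isomorphism between them commutes with the inclusions). -/
theorem result
    (X : Scheme.{0}) [X.Over (Spec (CommRingCat.of ℂ))] [IsIntegral X]
    [IsProper (X ↘ Spec (CommRingCat.of ℂ))] [Smooth (X ↘ Spec (CommRingCat.of ℂ))]
    (hdim : topologicalKrullDim X = 1) (hg : 2 ≤ Curv2.genus ℂ X)
    (hnh : ∀ M : X.Modules, PicF.IsInvertible M → Curv2.deg ℂ X M 1 = 2 →
      Module.finrank ℂ (Coh.HH X M 0) ≤ 1)
    (K : X.Modules) (eK : K ≅ Omega.sheaf (X ↘ Spec (CommRingCat.of ℂ)))
    (g : ℕ) (hg3 : 3 ≤ g) (hgen : Curv2.genus ℂ X = g)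
    (N : X.Modules) (hN : PicF.IsInvertible N) (hdN : Curv2.deg ℂ X N 1 = (g : ℤ))
    (h0 : Module.finrank ℂ (Coh.HH X N 0) ≤ 1) :
    (∃ (I : X.Modules) (ι : I ⟶ Coh.structureModule X),
        PicF.IsInvertible I ∧ Mono ι ∧ Curv2.deg ℂ X I 1 = -((g : ℤ)) ∧
        Module.finrank ℂ (Coh.HH X (CohB1.tensorMod I (CohB1.tensorMod K N)) 0) + (g - 1) =
          Module.finrank ℂ (Coh.HH X (CohB1.tensorMod K N) 0)) ∧
      ∀ (I I' : X.Modules) (ι : I ⟶ Coh.structureModule X) (ι' : I' ⟶ Coh.structureModule X),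
        (PicF.IsInvertible I ∧ Mono ι ∧ Curv2.deg ℂ X I 1 = -((g : ℤ)) ∧
        Module.finrank ℂ (Coh.HH X (CohB1.tensorMod I (CohB1.tensorMod K N)) 0) + (g - 1) =
          Module.finrank ℂ (Coh.HH X (CohB1.tensorMod K N) 0)) →
        (PicF.IsInvertible I' ∧ Mono ι' ∧ Curv2.deg ℂ X I' 1 = -((g : ℤ)) ∧
        Module.finrank ℂ (Coh.HH X (CohB1.tensorMod I' (CohB1.tensorMod K N)) 0) + (g - 1) =
          Module.finrank ℂ (Coh.HH X (CohB1.tensorMod K N) 0)) →
        ∃ φ : I' ≅ I, φ.hom ≫ ι = ι' := by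
  have hS : CrvPic30.Setup ℂ X := CrvPic30.setup_of_smooth_algClosed hdim
  have hc := VB30.cur_of_setup hS
  obtain ⟨hKi, hKd, hK1⟩ := VB30.omega_facts hS eK
  have := hc.isNoetherian
  have hNd : VB30.dg ℂ N = g := (VB30.deg_eq_dg_of_isInvertible hN).symm.trans hdN
  obtain ⟨lN, rN⟩ := VB30.lf_of_isInvertible hN
  have := hc.curveCoh.finite _ (VB30.isCoh_of_isFinLocFree lN) 0
  have hO : PicF.IsInvertible (Coh.structureModule X) := EGA73.isInvertible_structureModule
  obtain ⟨lO, rO⟩ := VB30.lf_of_isInvertible hO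
  refine ⟨?_, ?_⟩
  · -- the divisor of the section
    have hN0 : Module.finrank ℂ (Coh.HH X N 0) ≠ 0 := by
      have := hc.h0_sub_h1 (VB30.isCoh_of_isFinLocFree lN)
      rw [hNd, rN, VB30.euler_structureModule hS, hgen] at this
      omega
    have := Module.nontrivial_of_finrank_pos (R := ℂ) (Nat.pos_of_ne_zero hN0)
    obtain ⟨x, hx⟩ := exists_ne (0 : Coh.HH X N 0)
    have hs0 : Crv77.toHom x ≠ 0 := fun e => hx <| (Crv77.sec N).injective (by
      rw [map_zero, ← Crv77.toHom_app_one x, e]; rfl)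
    have : Mono (Crv77.toHom x) := (hc.rk_image_eq_zero_or _ lO lN rO).resolve_left hs0
    obtain ⟨I, hI, ⟨e⟩⟩ := Crv77.exists_inverse hN
    have := VB30.mono_twMap (X := X) hI (Crv77.toHom x)
    have hdI : VB30.dg ℂ I = -(g : ℤ) := by
      have := hc.dg_invertible_tensor hN hI
      rw [VB30.dg_congr e, hc.dg_structureModule, hNd] at this
      omega
    refine ⟨I, (EGA73.tensUnitLeft I).inv ≫ VB30.twMap (Crv77.toHom x) I ≫ e.hom, hI, mono_comp _ _,
      (VB30.deg_eq_dg_of_isInvertible hI).trans hdI, ?_⟩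
    have hKN := EGA73.isInvertible_tensorMod hKi hN
    obtain ⟨lKN, rKN⟩ := VB30.lf_of_isInvertible hKN
    have hv := VB30.h1_subsingleton_of_ss hS lKN (hc.ss_of_st lKN (hc.st_line rKN)) (by
      rw [rKN, hc.dg_invertible_tensor hKi hN, hKd, hNd]; push_cast; omega)
    have e1 := hc.h0_sub_h1 (VB30.isCoh_of_isFinLocFree lKN)
    rw [Module.finrank_zero_of_subsingleton (M := Coh.HH X (CohB1.tensorMod K N) 1), rKN,
      VB30.euler_structureModule hS, hc.dg_invertible_tensor hKi hN, hKd, hNd] at e1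
    let c : CohB1.tensorMod I (CohB1.tensorMod K N) ≅ K :=
      EGA73.tensComm I (CohB1.tensorMod K N) ≪≫ EGA73.tensAssoc' K N I ≪≫
        EGA73.tensComm K (CohB1.tensorMod N I) ≪≫ (Crv77.twist K).mapIso e ≪≫ EGA73.tensUnitLeft K
    rw [(Crv77.hEquiv ℂ c 0).finrank_eq]
    have e2 := hc.h0_sub_h1 (VB30.isCoh_of_isFinLocFree (VB30.lf_of_isInvertible hKi).1)
    rw [hK1, hKd, (VB30.lf_of_isInvertible hKi).2, VB30.euler_structureModule hS] at e2
    omega
  · rintro I I' ι ι' ⟨hI, hι, hdI, he⟩ ⟨hI', hι', hdI', he'⟩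
    rw [VB30.deg_eq_dg_of_isInvertible hI] at hdI
    rw [VB30.deg_eq_dg_of_isInvertible hI'] at hdI'
    obtain ⟨e⟩ := VB30.tensor_iso_unit_of_secant hS hKi hK1 hKd hN hI (by omega) (by omega) (m := g - 1) (by omega) he
    obtain ⟨e'⟩ := VB30.tensor_iso_unit_of_secant hS hKi hK1 hKd hN hI' (by omega) (by omega) (m := g - 1) (by omega) he'
    have hON := EGA73.isInvertible_tensorMod hO hN
    have := hc.curveCoh.finite _ (VB30.isCoh_of_isFinLocFree (VB30.lf_of_isInvertible hON).1) 0
    have := VB30.mono_twMap (X := X) hN ι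
    have := VB30.mono_twMap (X := X) hN ι'
    let f := e.inv ≫ VB30.twMap ι N
    let f' := e'.inv ≫ VB30.twMap ι' N
    have hne : ∀ a : Coh.structureModule X ⟶ CohB1.tensorMod (Coh.structureModule X) N, Mono a → a ≠ 0 := fun a ha z => by
      have := VB30.rk_eq_zero_of_isZero (X := X) ((IsZero.iff_id_eq_zero _).2 (show 𝟙 (Coh.structureModule X) = 0 by
        rw [← cancel_mono a, z, comp_zero, comp_zero]))
      omega
    obtain ⟨c, hc'⟩ := VB30.proportional_of_h0
      ((Crv77.hEquiv ℂ (EGA73.tensUnitLeft N) 0).finrank_eq.le.trans h0) f f' (hne f (mono_comp _ _))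
    have hc0 : c ≠ 0 := fun z => hne f' (mono_comp _ _) (by rw [hc', z, VB30.scal_zero, comp_zero])
    have := VB30.isIso_scal (Coh.structureModule X) hc0
    let u : CohB1.tensorMod I' N ≅ CohB1.tensorMod I N :=
      e' ≪≫ asIso (VB30.scal (Coh.structureModule X) c) ≪≫ e.symm
    have hu : u.hom ≫ VB30.twMap ι N = VB30.twMap ι' N := by
      change (e'.hom ≫ VB30.scal (Coh.structureModule X) c ≫ e.inv) ≫ VB30.twMap ι N = _
      rw [Category.assoc, Category.assoc, VB30.scal_comm, ← hc']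
      exact e'.hom_inv_id_assoc _
    obtain ⟨H, eq, heq, -⟩ := VB30.exists_twist_equiv hN
    have : (Crv77.twist N).IsEquivalence := heq ▸ eq.isEquivalence_functor
    refine ⟨(Crv77.twist N).preimageIso u, (Crv77.twist N).map_injective ?_⟩
    rw [Functor.map_comp]
    exact (congrArg (· ≫ VB30.twMap ι N) ((Crv77.twist N).map_preimage u.hom)).trans hu

end Groth.Agent.S15228
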