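import Groth.Statements.S15229
import Groth.Agent.Small51.DivPow
-- import your own Groth.Agent.* helpers here

set_option autoImplicit false
open Finset
open W4c2rk2extmaps

namespace Groth.Agent.S15229

/-- In a commutative ℚ-algebra R let θ, η be elements and g a natural number, and put c_k = (4θ)^k / k!.
Suppose θ^(g+1) = 0 and that η satisfies the relation η^(g+1) = Σ_{i=1}^{g+1} (-1)^(i-1) c_i
η^(g+1-i). Then η^(g+k) θ^(g-k) = c_k η^g θ^(g-k) for every 1 ≤ k ≤ g. (The published statement
concerns the first Chern class η of the tautological line bundle on a projective bundle P(U) over a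
g-dimensional Jacobian, with c_k the Chern classes of U, which are (4θ)^k / k!; there θ^(g+1)
vanishes for dimension reasons and the displayed relation is the projective-bundle relation, and the
printed argument derives the identity from exactly these three inputs, which is the form stated
here.) -/
theorem result (R : Type*) [CommRing R] [Algebra ℚ R]
    (θ η : R) (g : ℕ) (c : ℕ → R) (hc : ∀ k : ℕ, c k = ((Nat.factorial k : ℚ)⁻¹) • ((4 : R) * θ) ^ k)
    (hθ : θ ^ (g + 1) = 0)
    (hrel : η ^ (g + 1) = ∑ i ∈ Finset.Ico 1 (g + 2), (-1 : R) ^ (i - 1) * c i * η ^ (g + 1 - i))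
    (k : ℕ) (hk1 : 1 ≤ k) (hkg : k ≤ g) :
    η ^ (g + k) * θ ^ (g - k) = c k * η ^ g * θ ^ (g - k) := by
  revert hkg hk1
  induction k using Nat.strong_induction_on with
  | _ k ih =>
    intro hk1 hkg
    have hX : ∀ i ∈ Finset.Ico 1 (g + 2), (-1 : R) ^ (i - 1) * c i * η ^ (g + 1 - i) * η ^ (k - 1) * θ ^ (g - k) =
        if i ≤ k then (-1 : R) ^ (i - 1) * c i * c (k - i) * (η ^ g * θ ^ (g - k)) else 0 := by
      intro i hi
      simp only [Finset.mem_Ico] at hi
      have hci : ∃ q : R, c i = q * θ ^ i := ⟨algebraMap ℚ R ((Nat.factorial i : ℚ)⁻¹) * 4 ^ i, by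
        rw [hc, Algebra.smul_def, mul_pow, mul_assoc]⟩
      obtain ⟨q, hq⟩ := hci
      split_ifs with hik
      · rcases Nat.lt_or_ge i k with hlt | hge
        · have hih := ih (k - i) (by omega) (by omega) (by omega)
          rw [show g - (k - i) = i + (g - k) by omega, pow_add θ i] at hih
          have he : η ^ (g + 1 - i) * η ^ (k - 1) = η ^ (g + (k - i)) := by
            rw [← pow_add]; congr 1; omega
          calc (-1 : R) ^ (i - 1) * c i * η ^ (g + 1 - i) * η ^ (k - 1) * θ ^ (g - k)
              = (-1 : R) ^ (i - 1) * q * ((η ^ (g + 1 - i) * η ^ (k - 1)) * (θ ^ i * θ ^ (g - k))) := by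
                rw [hq]; ring
            _ = (-1 : R) ^ (i - 1) * c i * c (k - i) * (η ^ g * θ ^ (g - k)) := by
                rw [he, hih, hq]; ring
        · obtain rfl : i = k := by omega
          rw [Nat.sub_self, show c 0 = 1 by simp [hc], mul_one, mul_assoc _ (η ^ (g + 1 - i)), ← pow_add,
            show g + 1 - i + (i - 1) = g by omega]
          ring
      · have hz : θ ^ i * θ ^ (g - k) = 0 := by
          rw [← pow_add, show i + (g - k) = g + 1 + (i - k - 1) by omega, pow_add, hθ, zero_mul]
        rw [hq]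
        linear_combination ((-1 : R) ^ (i - 1) * q * η ^ (g + 1 - i) * η ^ (k - 1)) * hz
    have hmul : η ^ (g + k) * θ ^ (g - k) = η ^ (g + 1) * η ^ (k - 1) * θ ^ (g - k) := by
      rw [← pow_add, show g + 1 + (k - 1) = g + k by omega]
    rw [hmul, hrel, Finset.sum_mul, Finset.sum_mul, Finset.sum_congr rfl hX, ← Finset.sum_filter,
      show (Finset.Ico 1 (g + 2)).filter (fun i => i ≤ k) = Finset.Ico 1 (k + 1) by
        ext i; simp; omega, ← Finset.sum_mul]
    have h := Groth.Agent.Small51.altSum_divPow ((4 : R) * θ) k hk1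
    simp only [← hc] at h
    rw [h, mul_assoc]

end Groth.Agent.S15229
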