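import Groth.Statements.S1523
import Groth.Agent.VarCurve.PointDrop

set_option autoImplicit false
universe u
open CategoryTheory CategoryTheory.Limits AlgebraicGeometry
open Variety

namespace Groth.Agent.S1523

/-- On a proper curve over an algebraically closed field there is an invertible module whose H^0 is
one-dimensional and whose H^1 vanishes, and an invertible module whose H^0 and H^1 both vanish. -/
theorem result (k : Type u) [Field k] [IsAlgClosed k] (X : Scheme.{u}) [X.Over (Spec (CommRingCat.of k))]
    [IsIntegral X] [IsProper (X ↘ (Spec (CommRingCat.of k)))] (hdim : topologicalKrullDim X = 1) :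
    (∃ L : X.Modules, PicF.IsInvertible L ∧ Module.finrank k (Coh.HH X L 0) = 1 ∧ Subsingleton (Coh.HH X L 1)) ∧
    (∃ N : X.Modules, PicF.IsInvertible N ∧ Subsingleton (Coh.HH X N 0) ∧ Subsingleton (Coh.HH X N 1)) := by
  have := Crv77.isNoetherian_of_proper k X
  obtain ⟨L, hL, h0, h1⟩ := VarCurve.exists_h0_one k hdim
  refine ⟨⟨L, hL, h0, h1⟩, ?_⟩
  obtain ⟨N, hN, hN1, hN0⟩ := VarCurve.exists_drop k hdim hL h1 (by omega)
  have := (Crv77.curveCoh_of_proper k X hdim.le).finite _ (Crv77.isCoh_of_isInvertible hN) 0
  exact ⟨N, hN, (Module.finrank_zero_iff (R := k)).1 (by omega), hN1⟩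

end Groth.Agent.S1523
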