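import Groth.Statements.S15233
import Mathlib.Algebra.Category.Grp.Zero
import Mathlib.CategoryTheory.Sites.Limits

set_option autoImplicit false
universe u
open CategoryTheory CategoryTheory.Limits Opposite
open CohSite

namespace Groth.Agent.S15233

/-- Let C be a small category with a Grothendieck topology J, and let B be a class of objects forming a
prebasis: for every object V and every covering sieve S of V, the arrows of S whose domain lies in B
generate a covering sieve of V. If F is a presheaf of abelian groups on C such that F(U) = 0 for
every object U in B, then the sheafification of F is zero. -/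
theorem result {C : Type u} [SmallCategory C] (J : GrothendieckTopology C)
    (B : ObjectProperty C)
    (hB : ∀ (V : C) (S : Sieve V), S ∈ J V →
      Sieve.generate (fun (U : C) => {g : U ⟶ V | S.arrows g ∧ B U}) ∈ J V)
    (F : Cᵒᵖ ⥤ AddCommGrpCat.{u}) (hF : ∀ U : C, B U → IsZero (F.obj (op U))) :
    IsZero ((presheafToSheaf J AddCommGrpCat.{u}).obj F) := by
  rw [IsZero.iff_id_eq_zero]
  apply ((sheafificationAdjunction J AddCommGrpCat.{u}).homEquiv _ _).injective
  ext ⟨V⟩ s
  have key : ∀ (φ : F ⟶ ((presheafToSheaf J AddCommGrpCat.{u}).obj F).obj), φ.app (op V) s = 0 := by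
    intro φ
    refine ((isSheaf_iff_isSheaf_of_type _ _).1
      ((sheafCompose J (forget AddCommGrpCat.{u})).obj ((presheafToSheaf J AddCommGrpCat.{u}).obj F)).property
        _ (hB V ⊤ (J.top_mem V))).isSeparatedFor.ext ?_
    rintro W g ⟨U, a, g', ⟨-, hU⟩, rfl⟩
    have : Subsingleton (F.obj (op U)) := AddCommGrpCat.subsingleton_of_isZero (hF U hU)
    refine Eq.trans ?_ (map_zero (((presheafToSheaf J AddCommGrpCat.{u}).obj F).obj.map (a ≫ g').op).hom).symm
    refine (NatTrans.naturality_apply φ (a ≫ g').op s).symm.trans ?_
    rw [show F.map (a ≫ g').op s = F.map a.op (F.map g'.op s) by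
      rw [op_comp, Functor.map_comp, ConcreteCategory.comp_apply], Subsingleton.elim (F.map g'.op s) 0,
      map_zero, map_zero]
  exact (key _).trans (key _).symm

end Groth.Agent.S15233
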