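import Groth.Statements.S15235
import Groth.Agent.ML41.Basic

set_option autoImplicit false
universe u
open CategoryTheory Opposite
open HomAlg3

namespace Groth.Agent.S15235

/-- Let (G_j) be an inverse system of abelian groups indexed by the natural numbers, with transition
maps G_{j+1} → G_j, and let j₀ be a natural number such that the transition map G_{j+1} → G_j is
surjective for every j ≥ j₀. Then: (a) the system satisfies the Mittag-Leffler condition; (b) the
evaluation map from the inverse limit (realised as the set of compatible families) to G_{j₀} is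
surjective; (c) if in addition the transition maps G_{j+1} → G_j are injective for every j ≥ j₀,
that evaluation map is bijective. (The published statement indexes the system by the negative
integers and assumes j₀ ≥ 1; this row indexes it by the natural numbers and allows j₀ = 0, which
changes nothing.) -/
theorem result (G : ℕᵒᵖ ⥤ AddCommGrpCat.{u})
    (j₀ : ℕ) (hs : ∀ j : ℕ, j₀ ≤ j → Function.Surjective (G.map (homOfLE (Nat.le_succ j)).op).hom) :
    (G ⋙ forget AddCommGrpCat.{u}).IsMittagLeffler ∧
      Function.Surjective (fun s : (G ⋙ forget AddCommGrpCat.{u}).sections => s.1 (op j₀)) ∧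
      ((∀ j : ℕ, j₀ ≤ j → Function.Injective (G.map (homOfLE (Nat.le_succ j)).op).hom) →
        Function.Bijective (fun s : (G ⋙ forget AddCommGrpCat.{u}).sections => s.1 (op j₀))) := by
  have hs' : ∀ (i j : ℕ) (h : i ≤ j), j₀ ≤ i → Function.Surjective (ML41.tr G h) := by
    intro i j h hi
    induction j, h using Nat.le_induction with
    | base => exact fun x => ⟨x, ML41.tr_refl G _ _⟩
    | succ n hn ih =>
      intro x
      obtain ⟨y, rfl⟩ := ih x
      obtain ⟨z, rfl⟩ := hs n (hi.trans hn) y
      exact ⟨z, (ML41.tr_tr G _ _ z).symm⟩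
  have hML := ML41.isML_of_eventually_surjective G j₀ (fun i j h hi => hs' i j h hi)
  have hsurj : Function.Surjective
      (fun s : (G ⋙ forget AddCommGrpCat.{u}).sections => s.1 (op j₀)) := by
    intro x
    obtain ⟨s, hs1, hs2⟩ := ML41.exists_compat_of_eventual hML j₀ x (fun k h => hs' j₀ k h le_rfl x)
    exact ⟨⟨fun j => s j.unop, fun f => hs1 (leOfHom f.unop)⟩, hs2⟩
  refine ⟨(ML41.ml_iff G).2 hML, hsurj, fun hinj => ⟨fun s t hst => ?_, hsurj⟩⟩
  have hinj' : ∀ (i j : ℕ) (h : i ≤ j), j₀ ≤ i → Function.Injective (ML41.tr G h) := by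
    intro i j h hi
    induction j, h using Nat.le_induction with
    | base =>
      intro x y hxy
      rwa [ML41.tr_refl, ML41.tr_refl] at hxy
    | succ n hn ih =>
      intro x y hxy
      rw [← ML41.tr_tr G hn (Nat.le_succ n), ← ML41.tr_tr G hn (Nat.le_succ n)] at hxy
      exact hinj n (hi.trans hn) (ih hxy)
  refine Subtype.ext (funext fun j => ?_)
  have e : s.1 (op (max j.unop j₀)) = t.1 (op (max j.unop j₀)) :=
    hinj' j₀ _ (le_max_right _ _) le_rfl
      ((s.2 (homOfLE (le_max_right j.unop j₀)).op).trans
        (hst.trans (t.2 (homOfLE (le_max_right j.unop j₀)).op).symm))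
  exact ((s.2 (homOfLE (le_max_left j.unop j₀)).op).symm.trans
    ((congrArg _ e).trans (t.2 (homOfLE (le_max_left j.unop j₀)).op)))

end Groth.Agent.S15235
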