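import Groth.Statements.S15240
import Groth.Agent.AlgGrp79.RosUnits
import Groth.Prelude.Def_ChGrp

set_option autoImplicit false
universe u
open CategoryTheory CategoryTheory.Limits MonoidalCategory CartesianMonoidalCategory MonObj GrpObj AlgebraicGeometry
open AGF

namespace Groth.Agent.S15240

/-- Let k be an algebraically closed field, B a connected solvable affine algebraic group over k
(affine, smooth, connected, solvable k-group scheme) acting on a complete k-scheme X (separated, of
finite type and proper over k) with finitely many orbits (finitely many subsets of X arise as images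
of orbit maps of k-points), and Y a separated k-scheme of finite type on which B acts trivially.
Then every closed irreducible subset Z of X ×_k Y which is stable under the translations by all
k-points of B (acting on the first factor) is of the form V × W: there are a B-stable closed
irreducible subset V of X and a closed irreducible subset W of Y with Z equal to the set of points
whose two projections lie in V and in W. -/
theorem result (k : Type u) [Field k] [IsAlgClosed k]
    (B X Y : Over (Spec (CommRingCat.of k))) [GrpObj B] [IsAffine B.left] [Smooth B.hom] [ConnectedSpace ↥B.left]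
    (hsolv : Red.IsSolvableGrp B)
    [IsProper X.hom]
    [IsSeparated Y.hom] [LocallyOfFiniteType Y.hom] [QuasiCompact Y.hom]
    (a : AlgGrp.Action B X)
    (hfin : Set.Finite {S : Set ↥X.left | ∃ x : 𝟙_ (Over (Spec (CommRingCat.of k))) ⟶ X, S = Set.range ⇑(a.orbitMap x).left.base})
    (Z : Set ↥(X ⊗ Y).left) (hZc : IsClosed Z) (hZi : IsIrreducible Z)
    (hZs : ∀ b : 𝟙_ (Over (Spec (CommRingCat.of k))) ⟶ B,
      ⇑(CartesianMonoidalCategory.lift (CartesianMonoidalCategory.toUnit (X ⊗ Y) ≫ b) (𝟙 (X ⊗ Y)) ≫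
          (α_ B X Y).inv ≫ (a.act ▷ Y)).left.base '' Z ⊆ Z) :
    ∃ (V : Set ↥X.left) (W : Set ↥Y.left), IsClosed V ∧ IsIrreducible V ∧ IsClosed W ∧ IsIrreducible W ∧
      (∀ b : 𝟙_ (Over (Spec (CommRingCat.of k))) ⟶ B,
        ⇑(CartesianMonoidalCategory.lift (CartesianMonoidalCategory.toUnit X ≫ b) (𝟙 X) ≫ a.act).left.base '' V ⊆ V) ∧
      Z = ⇑(CartesianMonoidalCategory.fst X Y).left.base ⁻¹' V ∩ ⇑(CartesianMonoidalCategory.snd X Y).left.base ⁻¹' W := by
  classical
  let pt : ∀ {A : Over (Spec (CommRingCat.of k))}, (𝟙_ (Over (Spec (CommRingCat.of k))) ⟶ A) → A.left :=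
    fun s => s.left.base (IsLocalRing.closedPoint k)
  have hex : ∀ (A : Over (Spec (CommRingCat.of k))) [LocallyOfFiniteType A.hom] (z : A.left), z ∈ closedPoints A.left →
      ∃ s : 𝟙_ (Over (Spec (CommRingCat.of k))) ⟶ A, pt s = z := fun A _ z hz =>
    ⟨Over.homMk (pointOfClosedPoint A.hom z hz) (pointOfClosedPoint_comp _ _ _), pointOfClosedPoint_apply A.hom z hz _⟩
  haveI := AlgGrp79.isIntegral_grp B
  haveI : IrreducibleSpace B.left := inferInstance
  haveI hXYft : LocallyOfFiniteType (X ⊗ Y).hom := by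
    haveI : LocallyOfFiniteType (snd X Y).left := MorphismProperty.pullback_snd _ _ inferInstance
    rw [← Over.w (snd X Y)]; infer_instance
  haveI := LocallyOfFiniteType.jacobsonSpace (X ⊗ Y).hom
  haveI := LocallyOfFiniteType.jacobsonSpace B.hom
  let σ : (𝟙_ (Over (Spec (CommRingCat.of k))) ⟶ X) → (Y ⟶ X ⊗ Y) := fun x => lift (toUnit Y ≫ x) (𝟙 Y)
  let τ : (𝟙_ (Over (Spec (CommRingCat.of k))) ⟶ Y) → (X ⟶ X ⊗ Y) := fun y => lift (𝟙 X) (toUnit X ≫ y)
  have hcb : ∀ {A C D : Over (Spec (CommRingCat.of k))} (f : A ⟶ C) (g : C ⟶ D) (p : A.left),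
      g.left.base (f.left.base p) = (f ≫ g).left.base p := fun f g p => rfl
  have hpt : ∀ {A C : Over (Spec (CommRingCat.of k))} (s : 𝟙_ (Over (Spec (CommRingCat.of k))) ⟶ A) (f : A ⟶ C),
      f.left.base (pt s) = pt (s ≫ f) := fun s f => rfl
  have hσpt : ∀ x (y : 𝟙_ (Over (Spec (CommRingCat.of k))) ⟶ Y), (σ x).left.base (pt y) = pt (lift x y) := fun x y => by
    show (σ x).left.base (y.left.base _) = _
    rw [hcb]
    show pt (y ≫ σ x) = _
    congr 1
    apply CartesianMonoidalCategory.hom_ext <;> simp [σ, toUnit_unique (y ≫ toUnit Y) (𝟙 _)]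
  let T : (𝟙_ (Over (Spec (CommRingCat.of k))) ⟶ B) → (X ⟶ X) := fun b => lift (toUnit X ≫ b) (𝟙 X) ≫ a.act
  -- translates of orbits
  have horb : ∀ b x, (T b).left.base '' Set.range (a.orbitMap x).left.base ⊆ Set.range (a.orbitMap x).left.base := by
    rintro b x _ ⟨_, ⟨p, rfl⟩, rfl⟩
    refine ⟨((toUnit B ≫ b) * 𝟙 B : B ⟶ B).left.base p, ?_⟩
    rw [hcb, hcb]
    congr 3
    rw [a.comp_orbitMap, a.lift_mul_act]
    simp only [T, comp_lift_assoc, Category.comp_id]
    rw [← Category.assoc (a.orbitMap x) (toUnit X) b, toUnit_unique (a.orbitMap x ≫ toUnit X) (toUnit B)]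
    rfl
  let W : Set X.left → Set Y.left := fun O =>
    ⋂ x : {x : 𝟙_ (Over (Spec (CommRingCat.of k))) ⟶ X // pt x ∈ closure O}, (σ x.1).left.base ⁻¹' Z
  have hWc : ∀ O, IsClosed (W O) := fun O => isClosed_iInter fun x => hZc.preimage (σ x.1).left.continuous
  let P : Set X.left → Set (X ⊗ Y).left := fun O =>
    (fst X Y).left.base ⁻¹' closure O ∩ (snd X Y).left.base ⁻¹' W O
  have hPc : ∀ O, IsClosed (P O) := fun O =>
    (isClosed_closure.preimage (fst X Y).left.continuous).inter ((hWc O).preimage (snd X Y).left.continuous)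
  let U : Set (X ⊗ Y).left := ⋃ O ∈ hfin.toFinset, P O
  have hUc : IsClosed U := Set.Finite.isClosed_biUnion (Finset.finite_toSet _) fun O _ => hPc O
  have hcp : ∀ z ∈ closedPoints (X ⊗ Y).left, z ∈ Z ↔ z ∈ U := by
    intro z hz
    obtain ⟨s, rfl⟩ := hex _ z hz
    obtain ⟨x, y, rfl⟩ : ∃ x y, s = lift x y := ⟨s ≫ fst X Y, s ≫ snd X Y, by apply CartesianMonoidalCategory.hom_ext <;> simp⟩
    have hfst : (fst X Y).left.base (pt (lift x y)) = pt x := by
      show (fst X Y).left.base ((lift x y).left.base _) = _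
      rw [hcb, lift_fst]
    have hsnd : (snd X Y).left.base (pt (lift x y)) = pt y := by
      show (snd X Y).left.base ((lift x y).left.base _) = _
      rw [hcb, lift_snd]
    constructor
    · intro hzZ
      refine Set.mem_biUnion (hfin.mem_toFinset.2 ⟨x, rfl⟩) ⟨?_, ?_⟩
      · rw [Set.mem_preimage, hfst]
        refine subset_closure ⟨η[B].left.base (IsLocalRing.closedPoint k), ?_⟩
        rw [hcb]
        show pt (η[B] ≫ a.orbitMap x) = pt x
        congr 1
        rw [a.comp_orbitMap, toUnit_unique (toUnit _) (𝟙 _), Category.id_comp]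
        have h1 := a.lift_one_act x
        rwa [Hom.one_def, toUnit_unique (toUnit _) (𝟙 _), Category.id_comp] at h1
      · rw [Set.mem_preimage, hsnd]
        simp only [W, Set.mem_iInter, Set.mem_preimage]
        rintro ⟨x', hx'⟩
        have hC : IsClosed ((τ y).left.base ⁻¹' Z) := hZc.preimage (τ y).left.continuous
        have hsub : Set.range (a.orbitMap x).left.base ⊆ (τ y).left.base ⁻¹' Z := by
          have hB : (a.orbitMap x ≫ τ y).left.base ⁻¹' Z = Set.univ := by
            refine Set.eq_univ_of_univ_subset ?_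
            rw [← closure_closedPoints]
            refine closure_minimal (fun b hb => ?_) (hZc.preimage (a.orbitMap x ≫ τ y).left.continuous)
            obtain ⟨b', rfl⟩ := hex _ b hb
            have := hZs b' ⟨pt (lift x y), hzZ, rfl⟩
            rw [Set.mem_preimage, hpt]
            rw [hpt] at this
            convert this using 2
            apply CartesianMonoidalCategory.hom_ext
            · simp only [τ, Category.assoc, lift_fst, whiskerRight_fst, Category.comp_id]
              rw [a.comp_orbitMap, toUnit_unique (toUnit _) (𝟙 _), Category.id_comp]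
              simp only [comp_lift_assoc, lift_lift_associator_inv_assoc, ← Category.assoc]
              congr 1
              apply CartesianMonoidalCategory.hom_ext <;> simp [toUnit_unique (lift x y ≫ toUnit (X ⊗ Y)) (𝟙 _)]
            · simp [τ, toUnit_unique (b' ≫ a.orbitMap x ≫ toUnit X) (𝟙 _)]
          rintro _ ⟨p, rfl⟩
          show (τ y).left.base _ ∈ Z
          rw [hcb]
          exact Set.eq_univ_iff_forall.1 hB p
        have h2 := closure_minimal hsub hC hx'
        rw [Set.mem_preimage] at h2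
        rw [hσpt]
        convert h2 using 1
        show _ = (τ y).left.base (x'.left.base _)
        rw [hcb]
        show pt _ = pt _
        congr 1
        apply CartesianMonoidalCategory.hom_ext <;> simp [τ, toUnit_unique (x' ≫ toUnit X) (𝟙 _)]
    · intro hzU
      obtain ⟨O, -, hO1, hO2⟩ := Set.mem_iUnion₂.1 hzU
      rw [Set.mem_preimage, hfst] at hO1
      rw [Set.mem_preimage, hsnd] at hO2
      have h1 := Set.mem_iInter.1 hO2 ⟨x, hO1⟩
      rwa [Set.mem_preimage, hσpt] at h1
  have hZU : Z = U := by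
    rw [← closure_inter_closedPoints hZc, ← closure_inter_closedPoints hUc]
    congr 1
    ext z
    exact ⟨fun h => ⟨(hcp z h.2).1 h.1, h.2⟩, fun h => ⟨(hcp z h.2).2 h.1, h.2⟩⟩
  obtain ⟨O, hO, hZO⟩ : ∃ O ∈ hfin.toFinset, Z ⊆ P O := by
    have := isIrreducible_iff_sUnion_isClosed.1 hZi (hfin.toFinset.image P)
      (fun t ht => by obtain ⟨O, -, rfl⟩ := Finset.mem_image.1 ht; exact hPc O)
      (by simp [U] at hZU ⊢; exact hZU.le)
    obtain ⟨t, ht, hZt⟩ := this
    obtain ⟨O, hO, rfl⟩ := Finset.mem_image.1 ht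
    exact ⟨O, hO, hZt⟩
  have hPZ : P O ⊆ Z := fun z hz => hZU.ge (Set.mem_biUnion hO hz)
  obtain ⟨x₀, rfl⟩ := hfin.mem_toFinset.1 hO
  have hx₀ : pt x₀ ∈ closure (Set.range (a.orbitMap x₀).left.base) := by
    refine subset_closure ⟨η[B].left.base (IsLocalRing.closedPoint k), ?_⟩
    rw [hcb]
    show pt (η[B] ≫ a.orbitMap x₀) = pt x₀
    congr 1
    rw [a.comp_orbitMap, toUnit_unique (toUnit _) (𝟙 _), Category.id_comp]
    have h1 := a.lift_one_act x₀
    rwa [Hom.one_def, toUnit_unique (toUnit _) (𝟙 _), Category.id_comp] at h1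
  refine ⟨closure (Set.range (a.orbitMap x₀).left.base), W _, isClosed_closure, ?_, hWc _, ?_, ?_, Set.Subset.antisymm hZO hPZ⟩
  · exact ((IrreducibleSpace.isIrreducible_univ _).image _ (a.orbitMap x₀).left.continuous.continuousOn |>.closure) |> (by simpa [Set.image_univ] using ·)
  · suffices W _ = (snd X Y).left.base '' Z by rw [this]; exact hZi.image _ (snd X Y).left.continuous.continuousOn
    refine Set.Subset.antisymm (fun q hq => ?_) ?_
    · refine ⟨(σ x₀).left.base q, Set.mem_iInter.1 hq ⟨x₀, hx₀⟩, ?_⟩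
      rw [hcb, lift_snd]
      rfl
    · rintro _ ⟨z, hz, rfl⟩
      exact (hZO hz).2
  · intro b
    exact (image_closure_subset_closure_image (T b).left.continuous).trans (closure_mono (horb b x₀))

end Groth.Agent.S15240
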