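import Groth.Statements.S15245
import Groth.Agent.RedPts82.RootLength

set_option autoImplicit false
universe u
open CategoryTheory AlgebraicGeometry
open RedSub

open Groth.Agent Groth.Agent.RedPts82

namespace Groth.Agent.S15245

/-- Let Φ be a finite reduced root system (a reduced root pairing over ℤ on a finite index set) with a
base b, w an element of its Weyl group, given as the product of the reflections along a word l and
acting on the roots, and γ a positive root. Writing ℓ(u) for the number of positive roots a with
u(a) negative, one has ℓ(w) < ℓ(σ_γ w) if and only if w⁻¹(γ) is positive. (Here the length is taken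
as the number of inverted positive roots.) -/
theorem result {idx M N : Type}
    [AddCommGroup M] [AddCommGroup N] [Finite idx]
    (P : RootPairing idx ℤ M N) [P.IsReduced] (b : P.Base) (l : List idx) (c : idx)
    (hc : c ∈ RedSub.posRoots P b) :
    Set.ncard {a : idx | a ∈ RedSub.posRoots P b ∧ RedSub.wordPerm P l a ∈ RedSub.negRoots P b} <
        Set.ncard {a : idx | a ∈ RedSub.posRoots P b ∧
          (P.reflectionPerm c * RedSub.wordPerm P l) a ∈ RedSub.negRoots P b} ↔
      (RedSub.wordPerm P l)⁻¹ c ∈ RedSub.posRoots P b := by
  rw [mem_posRoots_iff] at hc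
  simp only [mem_posRoots_iff, mem_negRoots_iff]
  show (invSet b (RedSub.wordPerm P l)).ncard <
    (invSet b (P.reflectionPerm c * RedSub.wordPerm P l)).ncard ↔ _
  refine ⟨fun h => ?_, fun h => ?_⟩
  · by_contra hneg
    exact absurd (invSet_lt b l c hc hneg) (by omega)
  · let := P.indexNeg
    have e : RedSub.wordPerm P (c :: l) = P.reflectionPerm c * RedSub.wordPerm P l := by
      simp [RedSub.wordPerm]
    have e' : P.reflectionPerm c * RedSub.wordPerm P (c :: l) = RedSub.wordPerm P l := by
      rw [e, ← mul_assoc, show P.reflectionPerm c * P.reflectionPerm c = 1 from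
        Equiv.ext fun x => P.reflectionPerm_self c x, one_mul]
    have hneg : ¬ b.IsPos ((RedSub.wordPerm P (c :: l))⁻¹ c) := by
      rw [e, mul_inv_rev, Equiv.Perm.mul_apply]
      have e2 : (P.reflectionPerm c)⁻¹ c = P.reflectionPerm c c := by
        rw [Equiv.Perm.coe_inv, Equiv.symm_apply_eq, P.reflectionPerm_self]
      rw [e2]
      have e3 : (RedSub.wordPerm P l)⁻¹ (P.reflectionPerm c c) =
          -((RedSub.wordPerm P l)⁻¹ c) := by
        rw [Equiv.Perm.coe_inv, Equiv.symm_apply_eq, wordPerm_apply_eq]
        show _ = _ • Roots36.neg P _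
        rw [Roots36.smul_neg_index, ← wordPerm_apply_eq, Equiv.apply_symm_apply]
      rw [e3, RootPairing.Base.IsPos.neg_iff_not]
      exact not_not_intro h
    have := invSet_lt b (c :: l) c hc hneg
    rwa [e', e] at this

end Groth.Agent.S15245
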