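import Groth.Statements.S15247
import Groth.Agent.E4O.DimField
import Groth.Agent.Fano25.Chart

set_option autoImplicit false
open Fano

namespace Groth.Agent.S15247

/-- Over ℂ, let Y be an irreducible closed subscheme of projective m-space of dimension m − d, where 1 ≤
d and d + 1 ≤ m. Then the hypersurfaces of degree d + 1 containing Y form a linear family of
codimension at least m + 1 (that is, greater than m) in the projective space of all hypersurfaces of
degree d + 1. Here Y is given by a homogeneous ideal I of ℂ[x_0, …, x_m] whose radical is prime and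
with dim ℂ[x_0, …, x_m]/I = m + 1 − d, a hypersurface contains Y when its form lies in I, and the
conclusion reads: the forms of degree d + 1 in I span a subspace of codimension at least m + 1 in
the space of all forms of degree d + 1. -/
theorem result (m d : ℕ) (hd : 1 ≤ d) (hdm : d + 1 ≤ m)
    (I : Ideal (MvPolynomial (Fin (m + 1)) ℂ))
    (hI : I.IsHomogeneous (CohB1.polyGrading m ℂ))
    (hirr : I.radical.IsPrime)
    (hdim : ringKrullDim (MvPolynomial (Fin (m + 1)) ℂ ⧸ I) = ((m + 1 - d : ℕ) : WithBot ℕ∞)) :
    m + 1 + Module.finrank ℂ ↥(CohB1.polyGrading m ℂ (d + 1) ⊓ Submodule.restrictScalars ℂ I)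
      ≤ Module.finrank ℂ (LefPen.Form m ℂ (d + 1)) := by
  classical
  obtain ⟨P, rfl⟩ : ∃ P, P = I.radical := ⟨_, rfl⟩
  have := hirr
  let A := MvPolynomial (Fin (m + 1)) ℂ ⧸ I.radical
  have hdim' : ringKrullDim A = ((m + 1 - d : ℕ) : WithBot ℕ∞) := by
    rw [← hdim, ringKrullDim_quotient, ringKrullDim_quotient, PrimeSpectrum.zeroLocus_radical]
  let x : Fin (m + 1) → A := fun i => Ideal.Quotient.mk I.radical (MvPolynomial.X i)
  have htop : Algebra.adjoin ℂ (Set.range x) = ⊤ := by
    rw [show x = ⇑(Ideal.Quotient.mkₐ ℂ I.radical) ∘ MvPolynomial.X from rfl, Set.range_comp, ← AlgHom.map_adjoin,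
      MvPolynomial.adjoin_range_X, Algebra.map_top, AlgHom.range_eq_top]
    exact Ideal.Quotient.mkₐ_surjective _ _
  have : Algebra.IsAlgebraic (Algebra.adjoin ℂ (Set.range x)) A := by
    rw [htop]
    exact ⟨fun a => isAlgebraic_algebraMap (⟨a, Algebra.mem_top⟩ : (⊤ : Subalgebra ℂ A))⟩
  obtain ⟨t, htx, ht⟩ := exists_isTranscendenceBasis_subset (R := ℂ) (Set.range x)
  have hfin : t.Finite := (Set.finite_range x).subset htx
  have := hfin.fintype
  have hcard : Fintype.card t = m + 1 - d := by
    have h1 := ht.cardinalMk_eq_trdeg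
    have h2 := Groth.Agent.E4O.ringKrullDim_eq_trdeg ℂ A
    rw [hdim'] at h2
    rw [← h1, Cardinal.mk_fintype, Cardinal.toNat_natCast] at h2
    exact_mod_cast h2.symm
  choose pre hpre using fun z : t => htx z.2
  let r := m - d
  let eq : Fin (r + 1) ≃ t := (Fintype.equivFinOfCardEq (by omega : Fintype.card t = r + 1)).symm
  let e : Fin (r + 1) → Fin (m + 1) := pre ∘ eq
  have hli : AlgebraicIndependent ℂ (fun i => x (e i)) := by
    have := ht.1.comp eq eq.injective
    rwa [show (fun i => x (e i)) = Subtype.val ∘ eq from funext fun i => hpre (eq i)]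
  let F := LefPen.Form m ℂ (d + 1)
  have : FiniteDimensional ℂ F := Module.Finite.of_basis (Fano25.formBasis ℂ m (d + 1))
  let ψ : LefPen.Form r ℂ (d + 1) →ₗ[ℂ] F :=
    LinearMap.codRestrict _ ((MvPolynomial.rename e).toLinearMap ∘ₗ (CohB1.polyGrading r ℂ (d + 1)).subtype) fun g =>
      (MvPolynomial.mem_homogeneousSubmodule _ _).mpr
        (MvPolynomial.IsHomogeneous.rename_isHomogeneous ((MvPolynomial.mem_homogeneousSubmodule _ _).mp g.2))
  let Q := Submodule.comap (CohB1.polyGrading m ℂ (d + 1)).subtype (Submodule.restrictScalars ℂ I)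
  have hQ : Module.finrank ℂ ↥(CohB1.polyGrading m ℂ (d + 1) ⊓ Submodule.restrictScalars ℂ I) =
      Module.finrank ℂ Q := by
    rw [← Submodule.map_comap_subtype]
    exact (Submodule.equivMapOfInjective _ (Submodule.subtype_injective _) Q).finrank_eq.symm
  have key : ∀ g, ψ g ∈ Q → g = 0 := fun g hg => by
    have h1 : MvPolynomial.rename e g.1 ∈ I.radical := Ideal.le_radical hg
    have h2 : MvPolynomial.aeval (fun i => x (e i)) g.1 = 0 := by
      rw [show (fun i => x (e i)) = (⇑(Ideal.Quotient.mkₐ ℂ I.radical) ∘ MvPolynomial.X) ∘ e from rfl,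
        ← MvPolynomial.aeval_rename, ← MvPolynomial.aeval_unique]
      exact Ideal.Quotient.eq_zero_iff_mem.mpr h1
    exact Subtype.ext (algebraicIndependent_iff.mp hli _ h2)
  have hinj : Function.Injective ψ := (injective_iff_map_eq_zero _).mpr fun g hg => key g (by rw [hg]; exact Q.zero_mem)
  have hdisj : Q ⊓ LinearMap.range ψ = ⊥ := (Submodule.eq_bot_iff _).mpr fun z hz => by
    obtain ⟨g, rfl⟩ := hz.2
    rw [key g hz.1, map_zero]
  have hsum := Submodule.finrank_sup_add_finrank_inf_eq Q (LinearMap.range ψ)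
  rw [hdisj, finrank_bot, add_zero, LinearMap.finrank_range_of_inj hinj,
    Module.finrank_eq_card_basis (Fano25.formBasis ℂ r (d + 1)), Fano25.card_mon] at hsum
  have hle := Submodule.finrank_le (Q ⊔ LinearMap.range ψ)
  have hch : m + 1 ≤ (r + (d + 1)).choose (d + 1) := by
    rw [show r + (d + 1) = m + 1 by omega]
    have hgen : ∀ M j, 1 ≤ j → j ≤ M → M + 1 ≤ (M + 1).choose j := by
      intro M
      induction M with
      | zero => intros; omega
      | succ M ih =>
        intro j h1 h2
        rcases j with _ | j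
        · omega
        rcases j with _ | j
        · simp
        rw [Nat.choose_succ_succ]
        have h3 := ih (j + 1) (by omega) (by omega)
        have h4 : 0 < (M + 1).choose (j + 1 + 1) := Nat.choose_pos (by omega)
        simp only [Nat.succ_eq_add_one]
        omega
    exact hgen m (d + 1) (by omega) (by omega)
  change _ ≤ Module.finrank ℂ (LefPen.Form m ℂ (d + 1)) at hle
  omega

end Groth.Agent.S15247
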