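import Groth.Statements.S15248
import Groth.Agent.Fano25.GenericPoint

set_option autoImplicit false
open Fano

namespace Groth.Agent.S15248

/-- Over ℂ, let m and d be integers with 1 ≤ d ≤ m − 2, and consider sequences (X_1, …, X_d) of
hypersurfaces of projective m-space with X_j of degree j. The sequences whose intersection X_1 ∩ ⋯ ∩
X_d has dimension greater than m − d form a locus of codimension greater than m in the product of
the projective spaces of hypersurfaces of degrees 1, …, d. Here a sequence is a point G of the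
affine space of tuples of forms in the m + 1 homogeneous coordinates with G_j of degree j (zero
forms allowed), the dimension condition reads dim ℂ[x_0, …, x_m]/(G_1, …, G_d) ≥ m + 2 − d, and the
conclusion is that this locus has codimension at least m + 1 in that affine space (the ideal of
polynomial functions vanishing on it has height at least m + 1). The tuples with some G_j = 0 belong
to the locus and form a closed subset of codimension exactly m + 1, and away from them the locus is
the inverse image of the projective one, so this affine form carries the same content as the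
projective one. -/
theorem result (m d : ℕ) (hd : 1 ≤ d) (hdm : d + 2 ≤ m) :
    LefPen.CodimGE ℂ
      {G : (j : Fin d) → LefPen.Form m ℂ (j.1 + 1) |
        ((m + 2 - d : ℕ) : WithBot ℕ∞) ≤
          ringKrullDim (MvPolynomial (Fin (m + 1)) ℂ ⧸
            Ideal.span (Set.range fun j : Fin d => (G j).1))}
      (m + 1) := by
  classical
  let V := (j : Fin d) → LefPen.Form m ℂ (j.1 + 1)
  let Jt : Type := Σ j : Fin d, Fano25.Mon (m + 1) (j.1 + 1)
  let b0 : Module.Basis Jt ℂ V := Pi.basis fun j => Fano25.formBasis ℂ m (j.1 + 1)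
  let e := Fintype.equivFin Jt
  let N := Fintype.card Jt
  let b := b0.reindex e
  refine Fano25.codimGE_of_generic b _ _ fun P hP hvan => ?_
  let K := AlgebraicClosure (FractionRing (MvPolynomial (Fin N) ℂ ⧸ P))
  let ι : MvPolynomial (Fin N) ℂ ⧸ P →ₐ[ℂ] K := IsScalarTower.toAlgHom ℂ _ K
  have hι : Function.Injective ι := by
    show Function.Injective (algebraMap (MvPolynomial (Fin N) ℂ ⧸ P) K)
    rw [IsScalarTower.algebraMap_eq (MvPolynomial (Fin N) ℂ ⧸ P) (FractionRing (MvPolynomial (Fin N) ℂ ⧸ P)) K]
    exact (algebraMap (FractionRing (MvPolynomial (Fin N) ℂ ⧸ P)) K).injective.comp (IsFractionRing.injective _ _)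
  let φ : MvPolynomial (Fin N) ℂ →ₐ[ℂ] K := ι.comp (Ideal.Quotient.mkₐ ℂ P)
  let c : (j : Fin d) → Fano25.Mon (m + 1) (j.1 + 1) → MvPolynomial (Fin N) ℂ := fun j β => MvPolynomial.X (e ⟨j, β⟩)
  have hbad : ¬ ringKrullDim (MvPolynomial (Fin (m + 1)) K ⧸ Ideal.span (Set.range fun j =>
      Fano25.formOf (fun β => φ (c j β)))) ≤ ((m + 1 - d : ℕ) : WithBot ℕ∞) := by
    intro hgood
    obtain ⟨q, hq, hq'⟩ := Fano25.exists_dim_certificate φ (fun j : Fin d => j.1 + 1) (fun j => Nat.succ_pos _)
      (fun j => Fano25.formOf (c j)) (fun j => Fano25.formOf_isHomogeneous _) (r := m + 1 - d)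
      (by
        rw [show (fun j => MvPolynomial.map φ.toRingHom (Fano25.formOf (c j))) = fun j : Fin d =>
          Fano25.formOf fun β => φ (c j β) from funext fun j => Fano25.map_formOf _ _]
        exact hgood)
    refine hq ?_
    show ι (Ideal.Quotient.mk P q) = 0
    rw [Ideal.Quotient.eq_zero_iff_mem.mpr (hvan q fun w hw => ?_), map_zero]
    by_contra hne
    have h1 := hq' (MvPolynomial.aeval fun j => b.repr w j) (by rwa [MvPolynomial.aeval_eq_eval])
    have hG : ∀ j : Fin d, MvPolynomial.map (MvPolynomial.aeval fun j => b.repr w j).toRingHom (Fano25.formOf (c j)) = (w j).1 := by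
      intro j
      rw [Fano25.map_formOf, Fano25.eq_formOf ((MvPolynomial.mem_homogeneousSubmodule _ _).mp (w j).2)]
      congr 1
      funext β
      show MvPolynomial.aeval (fun j => b.repr w j) (MvPolynomial.X (e ⟨j, β⟩)) = _
      rw [MvPolynomial.aeval_X]
      simp only [b, Module.Basis.repr_reindex_apply, Equiv.symm_apply_apply, b0, Pi.basis_repr]
      rfl
    replace h1 : ringKrullDim (MvPolynomial (Fin (m + 1)) ℂ ⧸ Ideal.span (Set.range fun j : Fin d => (w j).1)) ≤
        ((m + 1 - d : ℕ) : WithBot ℕ∞) := by rw [← funext hG]; exact h1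
    have h2 := le_trans hw h1
    norm_cast at h2
    omega
  obtain ⟨T, hT, hcard, halg⟩ := Fano25.exists_transcendence_bound (k := ℂ) m d hd hdm (fun j β => φ (c j β)) hbad
  have htr := Fano25.trdeg_le_of_algebraic hT ι hι (s := Set.range fun i => Ideal.Quotient.mk P (MvPolynomial.X i)) (by
    rw [show (fun i => Ideal.Quotient.mk P (MvPolynomial.X i)) = ⇑(Ideal.Quotient.mkₐ ℂ P) ∘ MvPolynomial.X from rfl,
      Set.range_comp, ← AlgHom.map_adjoin, MvPolynomial.adjoin_range_X, Algebra.map_top, AlgHom.range_eq_top]
    exact Ideal.Quotient.mkₐ_surjective _ _) (by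
    rintro _ ⟨i, rfl⟩
    have := halg (e.symm i).1 (e.symm i).2
    simpa [φ, c] using this)
  rw [Fano25.trdeg_quot, Nat.cast_le] at htr
  have hN : N = ∑ j : Fin d, Fintype.card (Fano25.Mon (m + 1) (j.1 + 1)) := Fintype.card_sigma
  show Fano25.qdim P + (m + 1) ≤ N
  omega

end Groth.Agent.S15248
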