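import Groth.Statements.S15249
import Groth.Agent.Fano25.ConeGeneric

set_option autoImplicit false
open Fano

namespace Groth.Agent.S15249

/-- Over ℂ, let 1 ≤ d ≤ n − 3. For a general hypersurface X of degree d in projective n-space and every
point p of X, the lines contained in X and passing through p form a family of dimension at most n −
d − 1. Here X is given by a form Φ of degree d in n + 1 variables; general means on a set of forms
containing the non-vanishing locus of a nonzero polynomial function; a point of X is a nonzero zero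
v of Φ; and the family of lines through [v] on X is measured by the cone C_v of all w in ℂ^(n+1)
such that Φ vanishes identically on the span of v and w, whose codimension in ℂ^(n+1) is asked to be
at least d (C_v is the inverse image in ℂ^(n+1) of the affine cone over that family of lines, a
subset of the projective space of lines through [v], so this says the family has dimension at most n
− d − 1). (The published statement concludes that, for general X, the projection onto X of the
scheme of pointed lines on X is flat with fibres of dimension n − d − 1; this row states only the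
upper bound n − d − 1 on the dimension of the family of lines through each point of X.) -/
theorem result (n d : ℕ) (hd : 1 ≤ d) (hdn : d + 3 ≤ n) :
    LefPen.IsGeneric ℂ {Φ : LefPen.Form n ℂ d |
      ∀ v : Fin (n + 1) → ℂ, v ≠ 0 → MvPolynomial.eval v Φ.1 = 0 →
        LefPen.CodimGE ℂ {w : Fin (n + 1) → ℂ | ∀ s t : ℂ, MvPolynomial.eval (s • v + t • w) Φ.1 = 0} d} := by
  classical
  obtain ⟨m, rfl⟩ : ∃ m, n = m + 1 := ⟨n - 1, by omega⟩
  choose Q hQ0 hQ using fun l => Fano25.exists_poly_cone (k := ℂ) (m := m) (d := d) hd (by omega) l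
  let B := Fano25.formBasis ℂ (m + 1) d
  refine Fano25.isGeneric_of_poly B (Finset.prod_ne_zero_iff.mpr fun l _ => hQ0 l : ∏ l, Q l ≠ 0) fun G hG v hv hGv => ?_
  rw [map_prod, Finset.prod_ne_zero_iff] at hG
  let c : Fano25.Mon (m + 2) d → ℂ := fun β => B.repr G β
  have hGc : G.1 = Fano25.formOf c := Fano25.eq_formOf ((MvPolynomial.mem_homogeneousSubmodule _ _).mp G.2)
  obtain ⟨l, hl⟩ : ∃ l, v l ≠ 0 := by
    by_contra h
    push Not at h
    exact hv (funext h)
  let u : Fin (m + 1) → ℂ := fun a => v (l.succAbove a) / v l
  have hvu : Fin.insertNth (α := fun _ => ℂ) l 1 u = (v l)⁻¹ • v := by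
    funext i
    rcases Fin.eq_self_or_eq_succAbove l i with rfl | ⟨a, rfl⟩
    · simp [inv_mul_cancel₀ hl]
    · simp [u, div_eq_inv_mul]
  have hzero : MvPolynomial.eval (Fin.insertNth (α := fun _ => ℂ) l 1 u) (Fano25.formOf c) = 0 := by
    rw [hvu, MvPolynomial.eval_eq, ← hGc]
    have hh := (MvPolynomial.mem_homogeneousSubmodule _ _).mp G.2
    rw [show (0 : ℂ) = (v l)⁻¹ ^ d * MvPolynomial.eval v G.1 by rw [hGv, mul_zero], MvPolynomial.eval_eq, Finset.mul_sum]
    refine Finset.sum_congr rfl fun δ hδ => ?_
    have hdeg : ∑ i ∈ δ.support, δ i = d := by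
      simpa [Finsupp.weight_apply, Finsupp.sum] using hh (MvPolynomial.mem_support_iff.mp hδ)
    simp only [Pi.smul_apply, smul_eq_mul, mul_pow, Finset.prod_mul_distrib, Finset.prod_pow_eq_pow_sum, hdeg]
    ring
  have hdim := hQ l c u (hG l (Finset.mem_univ l)) hzero
  have hlift := Fano25.dim_cone_le l u _ (fun j => Fano25.formOf_isHomogeneous _) hdim
  refine Fano25.codimGE_of_generic (Pi.basisFun ℂ (Fin (m + 1 + 1))) _ d fun P hP hvan => ?_
  have hle := (Fano25.dim_le_iff _ _).mp hlift P hP (Ideal.span_le.mpr ?_)
  · omega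
  rintro _ ⟨j, rfl⟩
  refine hvan _ fun w hw => ?_
  simp only [Pi.basisFun_repr]
  rw [← MvPolynomial.aeval_eq_eval, ← AlgHom.comp_apply, MvPolynomial.comp_aeval, MvPolynomial.aeval_eq_eval]
  set y : Fin (m + 1) → ℂ := fun a => MvPolynomial.aeval (fun i => w i)
    (MvPolynomial.X (l.succAbove a) - MvPolynomial.C (u a) * MvPolynomial.X l) with hy
  have hyv : ∀ a, y a = w (l.succAbove a) - u a * w l := fun a => by simp [hy]
  let F : Polynomial ℂ := ∑ i : Fin (d + 1),
    Polynomial.monomial (d - i.1) (MvPolynomial.eval y (Fano25.formOf fun β => Fano25.coneCoeff l c u ⟨i, β⟩))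
  have hF : F = 0 := Polynomial.funext fun σ => by
    have h1 : F.eval σ = ∑ i : Fin (d + 1), σ ^ (d - i.1) *
        MvPolynomial.eval y (Fano25.formOf fun β => Fano25.coneCoeff l c u ⟨i, β⟩) := by
      simp [F, Polynomial.eval_finsetSum, mul_comm]
    rw [h1, Polynomial.eval_zero, ← Fano25.eval_cone, ← hGc]
    have hpt : Fin.insertNth (α := fun _ => ℂ) l σ (fun a => y a + u a * σ) = ((σ - w l) / v l) • v + (1 : ℂ) • w := by
      funext i
      rcases Fin.eq_self_or_eq_succAbove l i with rfl | ⟨a, rfl⟩
      · simp [div_mul_cancel₀ _ hl]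
      · simp [hyv, u]; field_simp; ring
    rw [hpt]
    exact hw _ _
  have hc := congrArg (fun p : Polynomial ℂ => p.coeff (d - (j.succ : Fin (d + 1)).1)) hF
  simp only [F, Polynomial.finsetSum_coeff, Polynomial.coeff_monomial, Polynomial.coeff_zero] at hc
  rw [Finset.sum_eq_single j.succ (fun i _ hi => if_neg fun h => hi (Fin.ext (by have := i.isLt; have := (j.succ).isLt; omega)))
    (by simp), if_pos rfl] at hc
  exact hc

end Groth.Agent.S15249
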