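import Groth.Statements.S15252
import Groth.Agent.S14372
import Mathlib.Analysis.Complex.Polynomial.Basic
import Mathlib.LinearAlgebra.FiniteDimensional.Lemmas
import Mathlib.Algebra.Polynomial.Degree.Lemmas
import Mathlib.Algebra.Module.Submodule.Union

set_option autoImplicit false
open Fano

namespace Groth.Agent.S15252

theorem natDegree_restrict_le {K : Type*} [CommRing K] {σ : Type*} {d : ℕ} (f : MvPolynomial σ K)
    (hf : f.IsHomogeneous d) (x y : σ → K) :
    (MvPolynomial.aeval (fun l => Polynomial.C (x l) + Polynomial.C (y l) * Polynomial.X) f).natDegree ≤ d := by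
  classical
  rw [f.as_sum, map_sum]
  refine Polynomial.natDegree_sum_le_of_forall_le _ _ fun m hm => ?_
  have hdeg : m.degree = d := by
    have := hf (MvPolynomial.mem_support_iff.mp hm)
    rw [Finsupp.weight_apply, Finsupp.sum] at this; simpa [Finsupp.degree_apply] using this
  rw [MvPolynomial.aeval_monomial, ← hdeg, Polynomial.algebraMap_eq]
  refine (Polynomial.natDegree_C_mul_le _ _).trans ((Polynomial.natDegree_prod_le _ _).trans ?_)
  rw [Finsupp.degree_apply]
  refine Finset.sum_le_sum fun l _ => ?_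
  refine Polynomial.natDegree_pow_le.trans ?_
  refine (Nat.mul_le_mul_left _ ((Polynomial.natDegree_add_le _ _).trans ?_)).trans (mul_one _).le
  simp [Polynomial.natDegree_C, (Polynomial.natDegree_C_mul_le (y l) Polynomial.X).trans Polynomial.natDegree_X_le]

theorem eval_restrict {K : Type*} [CommRing K] {σ : Type*} (f : MvPolynomial σ K) (x y : σ → K) (t : K) :
    Polynomial.eval t (MvPolynomial.aeval (fun l => Polynomial.C (x l) + Polynomial.C (y l) * Polynomial.X) f) =
      MvPolynomial.eval (x + t • y) f := by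
  induction f using MvPolynomial.induction_on with
  | C a => simp
  | add p q hp hq => simp only [map_add, Polynomial.eval_add, hp, hq]
  | mul_X p i hp =>
    simp only [map_mul, Polynomial.eval_mul, hp, MvPolynomial.aeval_X, MvPolynomial.eval_X]
    simp only [Polynomial.eval_add, Polynomial.eval_C, Polynomial.eval_mul, Polynomial.eval_X, Pi.add_apply, Pi.smul_apply, smul_eq_mul]
    ring

/-- Lines in a plane on which a nonzero cubic function vanishes are finite in number. -/
theorem lines_finite {K : Type*} [Field K] [Infinite K] {σ : Type*} [Fintype σ] {d : ℕ}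
    (f : MvPolynomial σ K) (hf : f.IsHomogeneous d) (P : Submodule K (σ → K)) (hP : Module.finrank K ↥P = 3)
    (x : σ → K) (hx : x ∈ P) (hfx : MvPolynomial.eval x f ≠ 0) :
    {L : Submodule K (σ → K) | L ≤ P ∧ Module.finrank K ↥L = 2 ∧ ∀ u ∈ L, MvPolynomial.eval u f = 0}.Finite := by
  classical
  by_contra hinf
  obtain ⟨S, hS, hcard⟩ := Set.Infinite.exists_subset_card_eq hinf (d + 1)
  have hxL : ∀ L ∈ S, x ∉ L := fun L hL h => hfx ((hS hL).2.2 x h)
  have hsup : ∀ L ∈ S, L ⊔ Submodule.span K {x} = P := fun L hL => by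
    refine Submodule.eq_of_le_of_finrank_le (sup_le (hS hL).1 ((Submodule.span_singleton_le_iff_mem x P).mpr hx)) ?_
    rw [hP]
    have hlt : L < L ⊔ Submodule.span K {x} :=
      lt_of_le_of_ne le_sup_left fun h => hxL L hL (h ▸ Submodule.mem_sup_right (Submodule.mem_span_singleton_self x))
    have := Submodule.finrank_lt_finrank_of_lt hlt
    rw [(hS hL).2.1] at this
    omega
  -- pairwise intersections joined with `x` are proper subspaces of `P`
  let bad : {q : Submodule K (σ → K) × Submodule K (σ → K) // q ∈ S ×ˢ S ∧ q.1 ≠ q.2} ⊕ S → Submodule K P :=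
    Sum.elim (fun q => Submodule.comap P.subtype ((q.1.1 ⊓ q.1.2) ⊔ Submodule.span K {x}))
      (fun L => Submodule.comap P.subtype L.1)
  have hbad : ∀ i, bad i ≠ ⊤ := by
    intro i h
    rcases i with ⟨⟨L, M⟩, hLM, hne⟩ | ⟨L, hL⟩
    · obtain ⟨hL, hM⟩ := Finset.mem_product.mp hLM
      have hle : P ≤ (L ⊓ M) ⊔ Submodule.span K {x} := fun z hz =>
        (h ▸ Submodule.mem_top : (⟨z, hz⟩ : P) ∈ bad (Sum.inl ⟨⟨L, M⟩, hLM, hne⟩))
      have h1 := Submodule.finrank_mono hle
      rw [hP] at h1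
      have hlt : L ⊓ M < L := inf_lt_left.mpr fun hle' => hne
        (Submodule.eq_of_le_of_finrank_eq hle' ((hS hL).2.1.trans (hS hM).2.1.symm))
      have h2 := Submodule.finrank_lt_finrank_of_lt hlt
      have h3 := Submodule.finrank_add_le_finrank_add_finrank (L ⊓ M) (Submodule.span K {x})
      have hx0 : x ≠ 0 := fun h0 => hxL L hL (h0 ▸ L.zero_mem)
      rw [finrank_span_singleton hx0] at h3
      rw [(hS hL).2.1] at h2
      omega
    · exact hxL L hL (h ▸ Submodule.mem_top : (⟨x, hx⟩ : P) ∈ bad (Sum.inr ⟨L, hL⟩))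
  haveI : Finite {q : Submodule K (σ → K) × Submodule K (σ → K) // q ∈ S ×ˢ S ∧ q.1 ≠ q.2} :=
    ((S ×ˢ S).finite_toSet.subset fun q hq => hq.1).to_subtype
  obtain ⟨y, hy⟩ := Submodule.exists_forall_notMem_of_forall_ne_top bad hbad
  have ht : ∀ L ∈ S, ∃ t : K, x + t • (y : σ → K) ∈ L := fun L hL => by
    obtain ⟨l, hl, r, hr, he⟩ := Submodule.mem_sup.mp ((hsup L hL).symm ▸ y.2 : (y : σ → K) ∈ L ⊔ Submodule.span K {x})
    obtain ⟨c, rfl⟩ := Submodule.mem_span_singleton.mp hr
    have hc : c ≠ 0 := fun h0 => hy (Sum.inr ⟨L, hL⟩) (by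
      show (y : σ → K) ∈ L
      rw [← he, h0, zero_smul, add_zero]; exact hl)
    refine ⟨-c⁻¹, ?_⟩
    rw [← he, smul_add, smul_smul, neg_mul, inv_mul_cancel₀ hc, neg_one_smul, neg_smul]
    rw [add_comm (-(c⁻¹ • l)), add_neg_cancel_left]
    exact L.neg_mem (L.smul_mem _ hl)
  choose t ht using ht
  let q := MvPolynomial.aeval (fun l => Polynomial.C (x l) + Polynomial.C ((y : σ → K) l) * Polynomial.X) f
  have hq : q = 0 := by
    refine Polynomial.eq_zero_of_natDegree_lt_card_of_eval_eq_zero q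
      (f := fun L : S => t L.1 L.2) (fun L M hLM => ?_) (fun L => ?_) ?_
    · by_contra hne
      have hz : x + t L.1 L.2 • (y : σ → K) ∈ L.1 ⊓ M.1 := ⟨ht L.1 L.2, by
        rw [show t L.1 L.2 = t M.1 M.2 from hLM]; exact ht M.1 M.2⟩
      have ht0 : t L.1 L.2 ≠ 0 := fun h0 => hxL L.1 L.2 (by simpa [h0] using ht L.1 L.2)
      refine hy (Sum.inl ⟨(L.1, M.1), Finset.mem_product.mpr ⟨L.2, M.2⟩, fun h => hne (Subtype.ext h)⟩) ?_
      show (y : σ → K) ∈ (L.1 ⊓ M.1) ⊔ Submodule.span K {x}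
      have : (y : σ → K) = (t L.1 L.2)⁻¹ • (x + t L.1 L.2 • (y : σ → K)) - (t L.1 L.2)⁻¹ • x := by
        rw [smul_add, smul_smul, inv_mul_cancel₀ ht0, one_smul]; abel
      rw [this]
      exact Submodule.sub_mem _ (Submodule.mem_sup_left (Submodule.smul_mem _ _ hz))
        (Submodule.mem_sup_right (Submodule.smul_mem _ _ (Submodule.mem_span_singleton_self x)))
    · rw [eval_restrict]; exact (hS L.2).2.2 _ (ht L.1 L.2)
    · rw [Fintype.card_coe, hcard]; exact Nat.lt_succ_of_le (natDegree_restrict_le f hf x _)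
  have := eval_restrict f x (y : σ → K) 0
  rw [show MvPolynomial.aeval _ f = q from rfl, hq, Polynomial.eval_zero, zero_smul, add_zero] at this
  exact hfx this.symm

/-- Let X be a smooth cubic hypersurface in projective 4-space over ℂ and let L₁, L₂ be two distinct
lines on X which meet. Then there is a finite set G of points of L₁ such that every line on X
meeting both L₁ and L₂ passes through a point of G. Here X is given by a cubic form f in five
variables satisfying the Jacobian smoothness condition at every nonzero zero, a line on X is a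
2-dimensional subspace of ℂ^5 on which f vanishes, two lines meet when the subspaces intersect
non-trivially, and a point of L₁ is a 1-dimensional subspace of it. (The published statement also
covers two disjoint lines; this row assumes that L₁ and L₂ meet.) -/
theorem result
    (f : MvPolynomial (Fin 5) ℂ) (hf : f.IsHomogeneous 3)
    (hsm : ∀ u : Fin 5 → ℂ, u ≠ 0 → MvPolynomial.eval u f = 0 →
      ∃ i : Fin 5, MvPolynomial.eval u (MvPolynomial.pderiv i f) ≠ 0)
    (L₁ L₂ : Submodule ℂ (Fin 5 → ℂ)) (h₁ : Module.finrank ℂ ↥L₁ = 2) (h₂ : Module.finrank ℂ ↥L₂ = 2)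
    (hf₁ : ∀ u ∈ L₁, MvPolynomial.eval u f = 0) (hf₂ : ∀ u ∈ L₂, MvPolynomial.eval u f = 0)
    (hne : L₁ ≠ L₂) (hmeet : L₁ ⊓ L₂ ≠ ⊥) :
    ∃ G : Set (Submodule ℂ (Fin 5 → ℂ)), G.Finite ∧ (∀ g ∈ G, Module.finrank ℂ ↥g = 1 ∧ g ≤ L₁) ∧
      ∀ L : Submodule ℂ (Fin 5 → ℂ), Module.finrank ℂ ↥L = 2 → (∀ u ∈ L, MvPolynomial.eval u f = 0) →
        L ⊓ L₁ ≠ ⊥ → L ⊓ L₂ ≠ ⊥ → ∃ g ∈ G, g ≤ L := by
  classical
  set P := L₁ ⊔ L₂ with hPdef
  set p₀ := L₁ ⊓ L₂ with hp₀def
  have hlt : p₀ < L₁ := inf_lt_left.mpr fun h => hne (Submodule.eq_of_le_of_finrank_eq h (h₁.trans h₂.symm))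
  have hp1 := Submodule.finrank_lt_finrank_of_lt hlt
  have hp2 : Module.finrank ℂ ↥p₀ ≠ 0 := fun h => hmeet (Submodule.finrank_eq_zero.mp h)
  have hp₀ : Module.finrank ℂ ↥p₀ = 1 := by omega
  have hP : Module.finrank ℂ ↥P = 3 := by
    have h := Submodule.finrank_sup_add_finrank_inf_eq L₁ L₂
    rw [← hPdef, ← hp₀def, h₁, h₂, hp₀] at h
    omega
  obtain ⟨x, hx, hfx⟩ : ∃ x ∈ P, MvPolynomial.eval x f ≠ 0 := by
    by_contra! h
    have := Groth.Agent.S14372.result ℂ 4 3 (by norm_num) f hf P h fun u hu hu0 => hsm u hu0 (h u hu)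
    rw [hP] at this
    omega
  have hfin := lines_finite f hf P hP x hx hfx
  let meetLines := {L : Submodule ℂ (Fin 5 → ℂ) | L ≤ P ∧ Module.finrank ℂ ↥L = 2 ∧ ∀ u ∈ L, MvPolynomial.eval u f = 0}
  refine ⟨{g | Module.finrank ℂ ↥g = 1 ∧ g ≤ L₁ ∧ (g = p₀ ∨ g ∈ (fun L => L ⊓ L₁) '' meetLines)},
    ((Set.finite_singleton p₀).union (hfin.image _)).subset fun g hg => hg.2.2, fun g hg => ⟨hg.1, hg.2.1⟩, ?_⟩
  intro L hL hfL hm₁ hm₂
  obtain ⟨a, ha, ha0⟩ := Submodule.exists_mem_ne_zero_of_ne_bot hm₁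
  obtain ⟨b, hb, hb0⟩ := Submodule.exists_mem_ne_zero_of_ne_bot hm₂
  by_cases hp : p₀ ≤ L
  · exact ⟨p₀, ⟨hp₀, inf_le_left, Or.inl rfl⟩, hp⟩
  have hLne : ¬ L ≤ L₁ := fun h => hp (inf_le_left.trans
    (Submodule.eq_of_le_of_finrank_eq h (hL.trans h₁.symm)).ge)
  have haL₂ : a ∉ L₂ := fun h => hp (by
    have : Submodule.span ℂ {a} = p₀ := Submodule.eq_of_le_of_finrank_eq
      ((Submodule.span_singleton_le_iff_mem a p₀).mpr ⟨ha.2, h⟩) (by rw [finrank_span_singleton ha0, hp₀])
    rw [← this]; exact (Submodule.span_singleton_le_iff_mem a L).mpr ha.1)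
  have hind : LinearIndependent ℂ ![a, b] := LinearIndependent.pair_iff.mpr fun s t hst => by
    by_cases hs : s = 0
    · subst hs
      simp [hb0] at hst
      exact ⟨rfl, hst⟩
    · refine absurd ?_ haL₂
      rw [← inv_smul_smul₀ hs a, eq_neg_of_add_eq_zero_left hst]
      exact L₂.smul_mem _ (L₂.neg_mem (L₂.smul_mem _ hb.2))
  have hLP : L ≤ P := by
    have hspan : Submodule.span ℂ (Set.range ![a, b]) = L := Submodule.eq_of_le_of_finrank_eq
      (Submodule.span_le.mpr (by rintro _ ⟨i, rfl⟩; fin_cases i <;> [exact ha.1; exact hb.1]))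
      (by rw [finrank_span_eq_card hind, hL, Fintype.card_fin])
    rw [← hspan, Submodule.span_le]
    rintro _ ⟨i, rfl⟩
    fin_cases i
    · exact Submodule.mem_sup_left ha.2
    · exact Submodule.mem_sup_right hb.2
  have hlt2 := Submodule.finrank_lt_finrank_of_lt (inf_lt_left.mpr hLne : L ⊓ L₁ < L)
  have hne0 : Module.finrank ℂ ↥(L ⊓ L₁) ≠ 0 := fun h => hm₁ (Submodule.finrank_eq_zero.mp h)
  exact ⟨L ⊓ L₁, ⟨by omega, inf_le_right, Or.inr ⟨L, ⟨hLP, hL, hfL⟩, rfl⟩⟩, inf_le_left⟩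

end Groth.Agent.S15252
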