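import Groth.Statements.S1529
import Groth.Agent.S2256

set_option autoImplicit false
universe u
open CategoryTheory CategoryTheory.Limits AlgebraicGeometry
open Variety

namespace Groth.Agent.S1529

/-- A scheme of finite type over a field whose underlying topological space has Krull dimension at most
zero is affine, and its structure morphism is finite. -/
theorem result (k : Type u) [Field k] (X : Scheme.{u}) [X.Over (Spec (CommRingCat.of k))]
    [LocallyOfFiniteType (X ↘ (Spec (CommRingCat.of k)))] [QuasiCompact (X ↘ (Spec (CommRingCat.of k)))]
    (hdim : topologicalKrullDim X ≤ 0) :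
    IsAffine X ∧ IsFinite (X ↘ (Spec (CommRingCat.of k))) := by
  set f := X ↘ Spec (CommRingCat.of k)
  haveI : IsLocallyNoetherian X := LocallyOfFiniteType.isLocallyNoetherian f
  haveI : CompactSpace X := QuasiCompact.compactSpace_of_compactSpace f
  haveI : IsNoetherian X := ⟨⟩
  haveI : TopologicalSpace.NoetherianSpace X := inferInstance
  have hpt : ∀ Z ∈ irreducibleComponents X, Set.Subsingleton Z := by
    intro Z hZ
    have hmin : ∀ x y : X, x ⤳ y → x = y := by
      intro x y hxy
      by_contra hne
      let a : TopologicalSpace.IrreducibleCloseds X := ⟨closure {y}, isIrreducible_singleton.closure, isClosed_closure⟩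
      let b : TopologicalSpace.IrreducibleCloseds X := ⟨closure {x}, isIrreducible_singleton.closure, isClosed_closure⟩
      have hab : a < b := lt_of_le_not_ge hxy.closure_subset fun hge =>
        hne ((hxy.antisymm (specializes_iff_mem_closure.2 (hge (subset_closure rfl)))).eq)
      have h1 : (1 : WithBot ℕ∞) ≤ topologicalKrullDim X := Order.one_le_krullDim_iff.2 ⟨a, b, hab⟩
      exact absurd (h1.trans hdim) (by decide)
    obtain ⟨g, hg⟩ := QuasiSober.sober hZ.1 (isClosed_of_mem_irreducibleComponents Z hZ)
    intro a ha b hb
    rw [← hmin g a (hg.specializes ha), hmin g b (hg.specializes hb)]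
  have hfin : Finite X := by
    refine Set.finite_univ_iff.1 ?_
    rw [← sUnion_irreducibleComponents]
    exact (TopologicalSpace.NoetherianSpace.finite_irreducibleComponents).sUnion fun Z hZ => (hpt Z hZ).finite
  obtain ⟨h1, h2⟩ := S2256.result k X f hfin
  exact ⟨h1, (HasAffineProperty.iff_of_isAffine (P := @IsFinite)).2 ⟨h1, h2⟩⟩

end Groth.Agent.S1529
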