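import Groth.Statements.S15303
import Groth.Agent.Unr55.EtaleThrough
import Groth.Agent.Unr55.StalkCrit

set_option autoImplicit false
universe u
open EtBase

namespace Groth.Agent.S15303

open CategoryTheory AlgebraicGeometry in
/-- Let k be a field of characteristic zero, X and Y smooth k-schemes, f : X ⟶ Y a smooth k-morphism and
i : Z ⟶ X a closed immersion such that the composite Z ⟶ Y is again a closed immersion. Then for
every point z of Z there are an open neighbourhood U of i(z) in X and a closed subscheme j : W ⟶ U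
of U which is étale over Y (through U ⊆ X ⟶ Y) and contains Z ∩ U, i.e. the restriction of i over U
factors through j. -/
theorem result (k : Type u) [Field k] [CharZero k]
    {X Y Z : Scheme.{u}} [X.Over (Spec (CommRingCat.of k))] [Y.Over (Spec (CommRingCat.of k))]
    [Smooth (X ↘ Spec (CommRingCat.of k))] [Smooth (Y ↘ Spec (CommRingCat.of k))]
    (f : X ⟶ Y) [f.IsOver (Spec (CommRingCat.of k))] [Smooth f]
    (i : Z ⟶ X) [IsClosedImmersion i] [IsClosedImmersion (i ≫ f)] (z : Z) :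
    ∃ (U : X.Opens) (_ : i.base z ∈ U) (W : Scheme.{u}) (j : W ⟶ (U : Scheme.{u})) (_ : IsClosedImmersion j)
      (_ : Etale (j ≫ U.ι ≫ f)) (g : ((i ⁻¹ᵁ U : Z.Opens) : Scheme.{u}) ⟶ W), g ≫ j = i ∣_ U := by
  obtain ⟨V, hV, hyV, -⟩ := exists_isAffineOpen_mem_and_subset (U := (⊤ : Y.Opens)) (x := f (i z)) trivial
  obtain ⟨U₀, hU₀, hzU₀, e⟩ := exists_isAffineOpen_mem_and_subset (U := f ⁻¹ᵁ V) (x := i z) hyV
  have hZ : IsAffineOpen (i ⁻¹ᵁ U₀) := hU₀.preimage i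
  have e' : i ⁻¹ᵁ U₀ ≤ (i ≫ f) ⁻¹ᵁ V := i.preimage_mono e
  let := (f.appLE V U₀ e).hom.toAlgebra
  let := (i.app U₀).hom.toAlgebra
  let := ((i ≫ f).appLE V (i ⁻¹ᵁ U₀) e').hom.toAlgebra
  have : IsScalarTower Γ(Y, V) Γ(X, U₀) Γ(Z, i ⁻¹ᵁ U₀) := IsScalarTower.of_algebraMap_eq' (by
    show ((i ≫ f).appLE V (i ⁻¹ᵁ U₀) e').hom = (i.app U₀).hom.comp (f.appLE V U₀ e).hom
    rw [← CommRingCat.hom_comp, i.app_eq_appLE, Scheme.Hom.appLE_comp_appLE])
  have hsmth : Algebra.Smooth Γ(Y, V) Γ(X, U₀) := (HasRingHomProperty.appLE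
    @Smooth f inferInstance ⟨V, hV⟩ ⟨U₀, hU₀⟩ e :)
  have hunr : Algebra.FormallyUnramified Γ(Y, V) Γ(Z, i ⁻¹ᵁ U₀) := (HasRingHomProperty.appLE
    @FormallyUnramified (i ≫ f) inferInstance ⟨V, hV⟩ ⟨i ⁻¹ᵁ U₀, hZ⟩ e' :)
  let q := hZ.primeIdealOf ⟨z, hzU₀⟩
  have hqz : hZ.fromSpec q = z := hZ.fromSpec_primeIdealOf ⟨z, hzU₀⟩
  obtain ⟨b, hb, I, hI, het⟩ := Unr55.EtThrough.exists_etale_through Γ(Y, V)
    (B := Γ(X, U₀)) (C := Γ(Z, i ⁻¹ᵁ U₀)) (i.app_surjective U₀ hU₀) q.asIdeal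
    ((Algebra.smoothLocus_eq_univ (R := Γ(Y, V)) (A := Γ(X, U₀))).ge (Set.mem_univ ⟨q.asIdeal.comap (algebraMap Γ(X, U₀) Γ(Z, i ⁻¹ᵁ U₀)), inferInstance⟩))
  let U := X.basicOpen b
  have hU : IsAffineOpen U := hU₀.basicOpen b
  let := (X.presheaf.map (homOfLE (X.basicOpen_le b)).op).hom.toAlgebra
  have : IsLocalization.Away b Γ(X, U) := hU₀.isLocalization_basicOpen b
  let := (f.appLE V U ((X.basicOpen_le b).trans e)).hom.toAlgebra
  have : IsScalarTower Γ(Y, V) Γ(X, U₀) Γ(X, U) := IsScalarTower.of_algebraMap_eq' (by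
    show (f.appLE V U _).hom = (X.presheaf.map _).hom.comp (f.appLE V U₀ e).hom
    rw [← CommRingCat.hom_comp, Scheme.Hom.appLE_map])
  let J : Ideal Γ(X, U) := I.map (algebraMap Γ(X, U₀) Γ(X, U))
  have het' : Algebra.Etale Γ(Y, V) (Γ(X, U) ⧸ J) := by
    have hloc : IsLocalization (Algebra.algebraMapSubmonoid (Γ(X, U₀) ⧸ I) (Submonoid.powers b))
        (Γ(X, U) ⧸ J) := inferInstance
    rw [Algebra.algebraMapSubmonoid_powers] at hloc
    have : IsLocalization.Away (Ideal.Quotient.mk I b) (Γ(X, U) ⧸ J) := hloc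
    have : IsScalarTower Γ(Y, V) (Γ(X, U₀) ⧸ I) (Γ(X, U) ⧸ J) := IsScalarTower.of_algebraMap_eq fun x =>
      congrArg (Ideal.Quotient.mk J) (IsScalarTower.algebraMap_apply Γ(Y, V) Γ(X, U₀) Γ(X, U) x)
    exact Algebra.Etale.of_equiv ((IsLocalization.algEquiv (Submonoid.powers (Ideal.Quotient.mk I b))
      (Localization.Away (Ideal.Quotient.mk I b)) (Γ(X, U) ⧸ J)).restrictScalars Γ(Y, V))
  have hziU : i z ∈ U := by
    show i z ∈ X.basicOpen b
    rw [← hqz, ← Scheme.Hom.comp_apply, ← IsAffineOpen.SpecMap_appLE_fromSpec i hU₀ hZ (le_refl _),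
      Scheme.Hom.comp_apply, ← Scheme.Hom.mem_preimage, hU₀.fromSpec_preimage_basicOpen, ← i.app_eq_appLE]
    exact hb
  have hZU : IsAffineOpen (i ⁻¹ᵁ U) := hU.preimage i
  let j₀ : Spec (.of (Γ(X, U) ⧸ J)) ⟶ Spec Γ(X, U) := Spec.map (CommRingCat.ofHom (Ideal.Quotient.mk J))
  have hj₀ : IsClosedImmersion j₀ := IsClosedImmersion.spec_of_surjective _ Ideal.Quotient.mk_surjective
  have hker : J ≤ RingHom.ker (i.app U).hom := by
    rw [Ideal.map_le_iff_le_comap]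
    intro x hx
    rw [Ideal.mem_comap, RingHom.mem_ker]
    have h0 : (i.app U₀).hom x = 0 := hI hx
    have h := ConcreteCategory.congr_hom (i.naturality (homOfLE (X.basicOpen_le b)).op) x
    simp only [CommRingCat.comp_apply] at h
    exact h.trans (by rw [show i.app U₀ x = 0 from h0, map_zero])
  refine ⟨U, hziU, Spec (.of (Γ(X, U) ⧸ J)), j₀ ≫ hU.isoSpec.inv, inferInstance, ?_,
    hZU.isoSpec.hom ≫ Spec.map (CommRingCat.ofHom (Ideal.Quotient.lift J (i.app U).hom hker)), ?_⟩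
  · rw [Category.assoc, hU.isoSpec_inv_ι_assoc, ← hV.SpecMap_appLE_fromSpec f hU ((X.basicOpen_le b).trans e),
      ← Spec.map_comp_assoc]
    refine MorphismProperty.comp_mem _ _ _ ?_ (inferInstance : Etale hV.fromSpec)
    rw [HasRingHomProperty.Spec_iff (P := @Etale)]
    exact RingHom.etale_algebraMap.mpr het'
  · rw [← cancel_mono U.ι, morphismRestrict_ι]
    simp only [Category.assoc, hU.isoSpec_inv_ι, j₀, ← Spec.map_comp_assoc]
    rw [show CommRingCat.ofHom (Ideal.Quotient.mk J) ≫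
      CommRingCat.ofHom (Ideal.Quotient.lift J (i.app U).hom hker) = i.app U from rfl,
      i.app_eq_appLE, IsAffineOpen.SpecMap_appLE_fromSpec i hU hZU, hZU.isoSpec_hom_fromSpec_assoc]

end Groth.Agent.S15303
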