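import Groth.Statements.S15315
import Mathlib.RingTheory.Length

set_option autoImplicit false
universe u
open ArLef

namespace Groth.Agent.S15315

/-- For a Noetherian commutative ring A, elements a, b with a a non-zero-divisor on A/(b), and an ideal
I, one has length(A/(aI + bA)) = length(A/(a, b)) + length(A/(I + bA)) as extended natural numbers;
in particular when two of the three quotients have finite length so does the third. -/
theorem result (A : Type u) [CommRing A] [IsNoetherianRing A] (a b : A) (I : Ideal A)
    (ha : IsSMulRegular (A ⧸ Ideal.span ({b} : Set A)) a) :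
    Module.length A (A ⧸ (Ideal.span {a} * I ⊔ Ideal.span {b})) =
      Module.length A (A ⧸ Ideal.span ({a, b} : Set A)) + Module.length A (A ⧸ (I ⊔ Ideal.span {b})) := by
  have hle : (I ⊔ Ideal.span {b} : Ideal A) ≤
      Submodule.comap (LinearMap.lsmul A A a) (Ideal.span {a} * I ⊔ Ideal.span {b}) := by
    intro x hx
    obtain ⟨i, hi, y, hy, rfl⟩ := Submodule.mem_sup.1 hx
    simp only [Submodule.mem_comap, LinearMap.lsmul_apply, smul_eq_mul, mul_add]
    exact Submodule.add_mem_sup (Ideal.mul_mem_mul (Ideal.mem_span_singleton_self a) hi)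
      (Ideal.mul_mem_left _ a hy)
  have hfac : (Ideal.span {a} * I ⊔ Ideal.span {b} : Ideal A) ≤ Ideal.span ({a, b} : Set A) :=
    sup_le (Ideal.mul_le_left.trans (Ideal.span_mono (by simp))) (Ideal.span_mono (by simp))
  rw [add_comm]
  refine Module.length_eq_add_of_exact (Submodule.mapQ _ _ (LinearMap.lsmul A A a) hle)
    (Submodule.factor hfac) ?_ (Submodule.factor_surjective _) ?_
  · rw [injective_iff_map_eq_zero]
    intro x hx
    obtain ⟨x, rfl⟩ := Submodule.Quotient.mk_surjective _ x
    rw [Submodule.mapQ_apply, Submodule.Quotient.mk_eq_zero, LinearMap.lsmul_apply, smul_eq_mul,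
      Submodule.mem_sup] at hx
    obtain ⟨u, hu, v, hv, huv⟩ := hx
    obtain ⟨i, hi, rfl⟩ := Ideal.mem_span_singleton_mul.1 hu
    have : x - i ∈ Ideal.span {b} := by
      rw [← Submodule.Quotient.mk_eq_zero]
      apply ha
      show a • Submodule.Quotient.mk (x - i) = a • 0
      rw [smul_zero, ← Submodule.Quotient.mk_smul, Submodule.Quotient.mk_eq_zero, smul_eq_mul,
        mul_sub, ← huv, add_sub_cancel_left]
      exact hv
    rw [Submodule.Quotient.mk_eq_zero, show x = i + (x - i) by ring]
    exact Submodule.add_mem_sup hi this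
  · intro y
    obtain ⟨y, rfl⟩ := Submodule.Quotient.mk_surjective _ y
    rw [Submodule.factor, Submodule.mapQ_apply, LinearMap.id_apply, Submodule.Quotient.mk_eq_zero]
    constructor
    · intro hy
      obtain ⟨p, q, hpq⟩ := Ideal.mem_span_pair.1 hy
      refine ⟨Submodule.Quotient.mk p, ?_⟩
      rw [Submodule.mapQ_apply, Submodule.Quotient.eq, LinearMap.lsmul_apply, smul_eq_mul, ← hpq,
        show a * p - (p * a + q * b) = -q * b by ring]
      exact Submodule.mem_sup_right (Ideal.mem_span_singleton'.2 ⟨-q, rfl⟩)
    · rintro ⟨p, hp⟩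
      obtain ⟨p, rfl⟩ := Submodule.Quotient.mk_surjective _ p
      rw [Submodule.mapQ_apply, Submodule.Quotient.eq, LinearMap.lsmul_apply, smul_eq_mul] at hp
      have h1 : a * p ∈ Ideal.span ({a, b} : Set A) :=
        Ideal.mul_mem_right p _ (Ideal.subset_span (by simp))
      simpa using sub_mem h1 (hfac hp)

end Groth.Agent.S15315
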