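import Groth.Statements.S15316
import Groth.Agent.ArLef32.Cases

set_option autoImplicit false
universe u
open ArLef ArLef.NodeAlg

namespace Groth.Agent.S15316

/-- Let B be a discrete valuation ring with uniformizer π and N = B[[t, e]]/(te - π) the complete local
ring of a semi-stable arithmetic surface at a singular point of the closed fibre. A ring
automorphism σ of N with σ(π) associated to π (for instance a B-algebra automorphism, or one lying
over an automorphism of B) either stabilizes the two branches, σ(t) = α t and σ(e) = β e for units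
α, β, or switches them, σ(t) = α e and σ(e) = β t for units α, β. (The published setting has B
complete with algebraically closed residue field and σ linear over B or over an automorphism of B;
the argument uses only that σ(π) generates (π).) -/
theorem result (B : Type u) [CommRing B] [IsDomain B] [IsDiscreteValuationRing B] (π : B) (hπ : Irreducible π)
    (σ : ArLef.NodeAlg B π ≃+* ArLef.NodeAlg B π)
    (hσ : Associated (σ (algebraMap B (ArLef.NodeAlg B π) π)) (algebraMap B (ArLef.NodeAlg B π) π)) :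
    (∃ α β : (ArLef.NodeAlg B π)ˣ, σ (ArLef.NodeAlg.t π) = (α : ArLef.NodeAlg B π) * ArLef.NodeAlg.t π ∧ σ (ArLef.NodeAlg.e π) = (β : ArLef.NodeAlg B π) * ArLef.NodeAlg.e π) ∨
      (∃ α β : (ArLef.NodeAlg B π)ˣ, σ (ArLef.NodeAlg.t π) = (α : ArLef.NodeAlg B π) * ArLef.NodeAlg.e π ∧ σ (ArLef.NodeAlg.e π) = (β : ArLef.NodeAlg B π) * ArLef.NodeAlg.t π) := by
  have : Fact (IsLocalRing.maximalIdeal B = Ideal.span {π}) := ⟨hπ.maximalIdeal_eq⟩
  have := ArLef32.isDomain_node (π := π) hπ.ne_zero
  have hte : σ (t π) * σ (e π) = σ (algebraMap B _ π) := by rw [← map_mul, ArLef32.te_eq]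
  obtain ⟨u, hu⟩ := hσ
  rw [← hte, ← ArLef32.te_eq] at hu
  have hpt : ∀ i, Prime (σ (ArLef32.T π i)) := fun i =>
    (MulEquiv.prime_iff (σ : NodeAlg B π ≃* NodeAlg B π)).2 (ArLef32.T_prime i)
  rcases ArLef32.T_prime_dvd (π := π) 0 (z := σ (t π)) (w := σ (e π) * u)
      ⟨e π, by rw [← mul_assoc]; exact hu⟩ with h | h
  · left
    obtain ⟨α, hα⟩ := ((ArLef32.T_prime 0).associated_of_dvd (hpt 0) h)
    refine ⟨α, α⁻¹ * u⁻¹, hα.symm.trans (mul_comm _ _), ?_⟩
    have h2 : (α : NodeAlg B π) * (σ (e π) * u) = e π := by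
      refine mul_left_cancel₀ (ArLef32.T_ne_zero (π := π) 0) ?_
      show t π * _ = t π * e π
      have hα' : σ (t π) = t π * α := hα.symm
      rw [← hu, hα']
      ring
    refine Eq.trans ?_ (congrArg (fun z => ((α⁻¹ * u⁻¹ : (NodeAlg B π)ˣ) : NodeAlg B π) * z) h2)
    simp only [Units.val_mul]
    linear_combination (-σ (e π) * (α * (α⁻¹ : (NodeAlg B π)ˣ) : NodeAlg B π)) * u.inv_mul +
      (-σ (e π)) * α.inv_mul
  · right
    have h' : t π ∣ σ (e π) := (ArLef32.T_prime_dvd 0 h).resolve_right fun hd =>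
      (ArLef32.T_prime (π := π) 0).not_isUnit (isUnit_of_dvd_unit hd u.isUnit)
    obtain ⟨β, hβ⟩ := ((ArLef32.T_prime 0).associated_of_dvd (hpt 1) h')
    refine ⟨β⁻¹ * u⁻¹, β, ?_, hβ.symm.trans (mul_comm _ _)⟩
    have h2 : σ (t π) * (β * u) = e π := by
      refine mul_left_cancel₀ (ArLef32.T_ne_zero (π := π) 0) ?_
      show t π * _ = t π * e π
      have hβ' : σ (e π) = t π * β := hβ.symm
      rw [← hu, hβ']
      ring
    refine Eq.trans ?_ (congrArg (fun z => ((β⁻¹ * u⁻¹ : (NodeAlg B π)ˣ) : NodeAlg B π) * z) h2)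
    simp only [Units.val_mul]
    linear_combination (-σ (t π) * (β * (β⁻¹ : (NodeAlg B π)ˣ) : NodeAlg B π)) * u.inv_mul +
      (-σ (t π)) * β.inv_mul

end Groth.Agent.S15316
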