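import Groth.Statements.S15317
import Groth.Agent.ArLef32.Cases

set_option autoImplicit false
universe u
open ArLef ArLef.NodeAlg

namespace Groth.Agent.S15317

/-- Let B be a discrete valuation ring with uniformizer π, N = B[[t, e]]/(te - π), and σ a non-trivial
B-algebra automorphism of N stabilizing both branches of the closed fibre (σ(t) associated to t,
σ(e) associated to e). Then the fixed-point ideal of σ, generated by all σ(r) - r, is g·(t, e) for a
non-zero g: the divisorial part of the fixed locus is cut out by g and its residual part is the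
reduced closed point, of multiplicity one. (Stated in the complete local ring, where the published
argument takes place; the published setting has B complete with algebraically closed residue field.) -/
theorem result (B : Type u) [CommRing B] [IsDomain B] [IsDiscreteValuationRing B] (π : B) (hπ : Irreducible π)
    (σ : ArLef.NodeAlg B π ≃ₐ[B] ArLef.NodeAlg B π) (hσ : σ ≠ AlgEquiv.refl)
    (ht : Associated (σ (ArLef.NodeAlg.t π)) (ArLef.NodeAlg.t π))
    (he : Associated (σ (ArLef.NodeAlg.e π)) (ArLef.NodeAlg.e π)) :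
    ∃ g : ArLef.NodeAlg B π, g ≠ 0 ∧
      ArLef.fixIdeal σ = Ideal.span {g} * Ideal.span ({ArLef.NodeAlg.t π, ArLef.NodeAlg.e π} : Set (ArLef.NodeAlg B π)) := by
  have : Fact (IsLocalRing.maximalIdeal B = Ideal.span {π}) := ⟨hπ.maximalIdeal_eq⟩
  have := ArLef32.isDomain_node (π := π) hπ.ne_zero
  obtain ⟨α', hα'⟩ := ht.symm
  obtain ⟨β', hβ'⟩ := he.symm
  obtain ⟨α, hα⟩ : ∃ α : (NodeAlg B π)ˣ, σ (t π) = α * t π := ⟨α', by rw [← hα', mul_comm]⟩
  obtain ⟨β, hβ⟩ : ∃ β : (NodeAlg B π)ˣ, σ (e π) = β * e π := ⟨β', by rw [← hβ', mul_comm]⟩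
  have hab : (α : NodeAlg B π) * β = 1 := by
    refine mul_right_cancel₀ (ArLef32.P_ne_zero (π := π) hπ.ne_zero) ?_
    rw [one_mul, ArLef32.P]
    conv_rhs => rw [← σ.commutes π, ← ArLef32.te_eq, map_mul, hα, hβ]
    rw [← ArLef32.te_eq]
    ring
  set g : NodeAlg B π := α - 1
  have hmul : Ideal.span {g} * Ideal.span ({t π, e π} : Set (NodeAlg B π)) =
      Ideal.span {g * t π, g * e π} := by
    rw [Ideal.span_mul_span', Set.singleton_mul, Set.image_pair]
  have hI : ArLef.fixIdeal σ = Ideal.span {g} * Ideal.span ({t π, e π} : Set (NodeAlg B π)) := by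
    rw [hmul]
    refine le_antisymm (ArLef32.fixIdeal_node_le σ.toRingEquiv _ (fun b => ?_) ?_ ?_) (Ideal.span_le.2 ?_)
    · show σ (algebraMap B _ b) - _ ∈ _
      rw [σ.commutes, sub_self]; exact zero_mem _
    · show σ (t π) - t π ∈ _
      rw [hα]
      exact Ideal.mem_span_pair.2 ⟨1, 0, by ring⟩
    · show σ (e π) - e π ∈ _
      rw [hβ]
      exact Ideal.mem_span_pair.2 ⟨0, -β, by linear_combination -(e π) * hab⟩
    · rintro w (rfl | rfl)
      · have h := ArLef32.sub_mem_fixIdeal σ (t π)
        rw [hα] at h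
        rw [SetLike.mem_coe, show g * t π = α * t π - t π by ring]
        exact h
      · have h := ArLef32.sub_mem_fixIdeal σ (e π)
        rw [hβ] at h
        rw [SetLike.mem_coe, show g * e π = -(α : NodeAlg B π) * (β * e π - e π) by
          linear_combination (e π) * hab]
        exact Ideal.mul_mem_left _ _ h
  refine ⟨g, fun hg => hσ (AlgEquiv.ext fun r => ?_), hI⟩
  have hr := ArLef32.sub_mem_fixIdeal σ r
  rw [hI, hg, Ideal.span_singleton_zero, Submodule.bot_mul, Ideal.mem_bot, sub_eq_zero] at hr
  exact hr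

end Groth.Agent.S15317
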