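import Groth.Statements.S15318
import Groth.Agent.ArLef32.Cases

set_option autoImplicit false
universe u
open ArLef ArLef.NodeAlg

namespace Groth.Agent.S15318

/-- Let B be a discrete valuation ring with uniformizer π, N = B[[t, e]]/(te - π), and σ a B-algebra
automorphism of N switching the two branches of the closed fibre (σ(t) associated to e, σ(e)
associated to t). Then the fixed-point ideal of σ is principal, generated by an element h of order
one (h is not in (t, e)²), and π is a non-zero-divisor modulo h: the fixed locus is a horizontal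
regular divisor through the point with empty residual part. (Stated in the complete local ring,
where the published argument takes place; the published setting has B complete with algebraically
closed residue field.) -/
theorem result (B : Type u) [CommRing B] [IsDomain B] [IsDiscreteValuationRing B] (π : B) (hπ : Irreducible π)
    (σ : ArLef.NodeAlg B π ≃ₐ[B] ArLef.NodeAlg B π)
    (ht : Associated (σ (ArLef.NodeAlg.t π)) (ArLef.NodeAlg.e π))
    (he : Associated (σ (ArLef.NodeAlg.e π)) (ArLef.NodeAlg.t π)) :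
    ∃ h : ArLef.NodeAlg B π, ArLef.fixIdeal σ = Ideal.span {h} ∧
      h ∉ (Ideal.span ({ArLef.NodeAlg.t π, ArLef.NodeAlg.e π} : Set (ArLef.NodeAlg B π))) ^ 2 ∧
      IsSMulRegular (ArLef.NodeAlg B π ⧸ Ideal.span ({h} : Set (ArLef.NodeAlg B π))) π := by
  have : Fact (IsLocalRing.maximalIdeal B = Ideal.span {π}) := ⟨hπ.maximalIdeal_eq⟩
  have := ArLef32.isDomain_node (π := π) hπ.ne_zero
  obtain ⟨α', hα'⟩ := ht.symm
  obtain ⟨β', hβ'⟩ := he.symm
  obtain ⟨α, hα⟩ : ∃ α : (NodeAlg B π)ˣ, σ (t π) = α * e π := ⟨α', by rw [← hα', mul_comm]⟩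
  obtain ⟨β, hβ⟩ : ∃ β : (NodeAlg B π)ˣ, σ (e π) = β * t π := ⟨β', by rw [← hβ', mul_comm]⟩
  have hab : (α : NodeAlg B π) * β = 1 := by
    refine mul_right_cancel₀ (ArLef32.P_ne_zero (π := π) hπ.ne_zero) ?_
    rw [one_mul, ArLef32.P]
    conv_rhs => rw [← σ.commutes π, ← ArLef32.te_eq, map_mul, hα, hβ]
    rw [← ArLef32.te_eq]
    ring
  set h : NodeAlg B π := t π - α * e π
  refine ⟨h, le_antisymm (ArLef32.fixIdeal_node_le σ.toRingEquiv _ (fun b => ?_) ?_ ?_) ?_,
    ArLef32.switch_notMem_sq α, ?_⟩
  · show σ (algebraMap B _ b) - _ ∈ _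
    rw [σ.commutes, sub_self]; exact zero_mem _
  · show σ (t π) - t π ∈ _
    rw [hα]
    exact Ideal.mem_span_singleton.2 ⟨-1, by ring⟩
  · show σ (e π) - e π ∈ _
    rw [hβ]
    exact Ideal.mem_span_singleton.2 ⟨β, by linear_combination (e π) * hab⟩
  · rw [Ideal.span_singleton_le_iff_mem, show h = -(σ (t π) - t π) by rw [hα]; ring]
    exact neg_mem (ArLef32.sub_mem_fixIdeal σ (t π))
  · have key : ∀ z, algebraMap B (NodeAlg B π) π * z ∈ Ideal.span {h} → z ∈ Ideal.span {h} := by
      intro z hz
      refine ArLef32.e_regular_mod_switch α hπ.ne_zero z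
        (ArLef32.e_regular_mod_switch α hπ.ne_zero _ ?_)
      rw [← Ideal.unit_mul_mem_iff_mem _ α.isUnit,
        show (α : NodeAlg B π) * (e π * (e π * z)) =
          algebraMap B (NodeAlg B π) π * z - h * (e π * z) by rw [← ArLef32.te_eq]; ring]
      exact Ideal.sub_mem _ hz (Ideal.mul_mem_right _ _ (Ideal.mem_span_singleton_self _))
    intro x y hxy
    obtain ⟨x, rfl⟩ := Ideal.Quotient.mk_surjective x
    obtain ⟨y, rfl⟩ := Ideal.Quotient.mk_surjective y
    rw [Ideal.Quotient.eq]
    refine key _ ?_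
    rw [mul_sub, ← Ideal.Quotient.eq, ← Algebra.smul_def, ← Algebra.smul_def]
    exact hxy

end Groth.Agent.S15318
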