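import Groth.Statements.S15319
import Groth.Agent.ArLef32.Cases

set_option autoImplicit false
universe u
open ArLef ArLef.NodeAlg

namespace Groth.Agent.S15319

/-- Let B be a discrete valuation ring with uniformizer π, N = B[[t, e]]/(te - π) the complete local
ring of a semi-stable arithmetic surface over B at a singular point of the closed fibre, and σ a
ring automorphism of N sending π to π + γ π^j with γ a unit of B and j ≥ 1 (σ lies over an
automorphism τ of B with v(τ(π) - π) = j). Then the fixed-point ideal of σ is not contained in (π^j)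
= (t^j e^j): the two branches through the point cannot both occur with multiplicity j in the
divisorial part of the fixed locus. (The published setting has B complete with algebraically closed
residue field.) -/
theorem result (B : Type u) [CommRing B] [IsDomain B] [IsDiscreteValuationRing B] (π : B) (hπ : Irreducible π)
    (j : ℕ) (hj : 1 ≤ j) (γ : B) (hγ : IsUnit γ)
    (σ : ArLef.NodeAlg B π ≃+* ArLef.NodeAlg B π)
    (hσ : σ (algebraMap B (ArLef.NodeAlg B π) π) = algebraMap B (ArLef.NodeAlg B π) (π + γ * π ^ j)) :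
    ¬ ArLef.fixIdeal σ ≤ Ideal.span ({algebraMap B (ArLef.NodeAlg B π) (π ^ j)} : Set (ArLef.NodeAlg B π)) := by
  have : Fact (IsLocalRing.maximalIdeal B = Ideal.span {π}) := ⟨hπ.maximalIdeal_eq⟩
  have := ArLef32.isDomain_node (π := π) hπ.ne_zero
  intro hle
  obtain ⟨x, hx⟩ := Ideal.mem_span_singleton.1 (hle (ArLef32.sub_mem_fixIdeal σ (t π)))
  obtain ⟨y, hy⟩ := Ideal.mem_span_singleton.1 (hle (ArLef32.sub_mem_fixIdeal σ (e π)))
  have hP : (algebraMap B (NodeAlg B π) (π ^ j)) ≠ 0 := by
    rw [map_pow]; exact pow_ne_zero _ (ArLef32.P_ne_zero hπ.ne_zero)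
  have h : σ (t π) * σ (e π) = algebraMap B _ π + algebraMap B _ γ * algebraMap B _ (π ^ j) := by
    rw [← map_mul, ArLef32.te_eq, hσ, map_add, map_mul]
  have hkey : algebraMap B _ γ = t π * y + x * e π + algebraMap B _ (π ^ j) * (x * y) := by
    refine mul_left_cancel₀ hP ?_
    rw [sub_eq_iff_eq_add.1 hx, sub_eq_iff_eq_add.1 hy, ← ArLef32.te_eq] at h
    linear_combination -h
  have hm : algebraMap B (NodeAlg B π) γ ∈ IsLocalRing.maximalIdeal (NodeAlg B π) := by
    rw [hkey, ArLef32.maximalIdeal_node]
    refine Ideal.add_mem _ (Ideal.add_mem _ (Ideal.mul_mem_right _ _ (Ideal.subset_span (by simp)))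
      (Ideal.mul_mem_left _ _ (Ideal.subset_span (by simp)))) (Ideal.mul_mem_right _ _ ?_)
    rw [map_pow, ← ArLef32.te_eq]
    exact Ideal.pow_mem_of_mem _ (Ideal.mul_mem_right _ _ (Ideal.subset_span (by simp))) j hj
  exact hm (hγ.map _)

end Groth.Agent.S15319
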