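import Groth.Statements.S1532
import Groth.Agent.Crv77.PointTwist

set_option autoImplicit false
universe u
open CategoryTheory CategoryTheory.Limits AlgebraicGeometry
open Curves Groth.Agent

namespace Groth.Agent.S1532

/-- Let X be a proper integral one-dimensional scheme over k whose global functions are k, of genus g, L
an invertible module and Z a closed subscheme of dimension zero with ideal sheaf I, with deg L > 2g
- 2 + deg Z. Then H^1(X, I ⊗ L) = 0, and if moreover H^0(X, I ⊗ L) = 0 then g = 0 and deg L = deg Z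
- 1. -/
theorem result (k : Type u) [Field k] (X : Scheme.{u}) [X.Over (Spec (CommRingCat.of k))]
    [IsProper (X ↘ (Spec (CommRingCat.of k)))] [IsIntegral X] (hdim : topologicalKrullDim X = 1)
    (h0 : Module.finrank k (Coh.HH X (Coh.structureModule X) 0) = 1)
    (L : X.Modules) (hL : PicF.IsInvertible L) (Z : X.IdealSheafData) (hZ : topologicalKrullDim (Z.support : Set X) ≤ 0)
    (hdeg : 2 * (Curv2.genus k X : ℤ) - 2 + Module.finrank k (Coh.HH X (ClSub.quotMod Z) 0) < Curv2.deg k X L 1) :
    Subsingleton (Coh.HH X (CohB1.tensorMod (ClSub.idealMod Z) L) 1) ∧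
      (Subsingleton (Coh.HH X (CohB1.tensorMod (ClSub.idealMod Z) L) 0) →
        Curv2.genus k X = 0 ∧ Curv2.deg k X L 1 = Module.finrank k (Coh.HH X (ClSub.quotMod Z) 0) - 1) := by
  have : IsNoetherian X := Crv77.isNoetherian_of_proper k X
  have hX := Crv77.curveCoh_of_proper k X hdim.le
  have h1 : Subsingleton (Coh.HH X (CohB1.tensorMod (ClSub.idealMod Z) L) 1) := by
    by_contra hcon
    rw [not_subsingleton_iff_nontrivial] at hcon
    have := hX.deg_le_of_h1 hdim h0 hL Z hZ hcon
    simp only [Crv77.h] at this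
    omega
  refine ⟨h1, fun hz => ?_⟩
  obtain ⟨hfin, hcl⟩ := Crv77.finite_of_dim_le_zero hdim Z.support.isClosed hZ
  have hLc := Crv77.isCoh_of_isInvertible hL
  have e1 := hX.euler_idealMod_tensor Z hfin hcl hL hLc
  rw [hX.euler_eq (Crv77.isCoh_tensorMod (Crv77.isCoh_idealMod Z) hLc), hX.euler_eq hLc] at e1
  have e2 := hX.riemann h0 hLc
  have z0 : Module.finrank k (Coh.HH X (CohB1.tensorMod (ClSub.idealMod Z) L) 0) = 0 :=
    Module.finrank_zero_of_subsingleton
  have z1 : Module.finrank k (Coh.HH X (CohB1.tensorMod (ClSub.idealMod Z) L) 1) = 0 :=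
    Module.finrank_zero_of_subsingleton
  simp only [Crv77.h, z0, z1] at e1 e2
  omega

end Groth.Agent.S1532
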