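import Groth.Statements.S15320
import Groth.Agent.ArLef32.Cases

set_option autoImplicit false
universe u
open ArLef ArLef.NodeAlg

namespace Groth.Agent.S15320

/-- Let B be a discrete valuation ring with uniformizer π, N = B[[t, e]]/(te - π) the complete local
ring of a semi-stable arithmetic surface over B at a singular point x of the closed fibre, and σ a
ring automorphism of N over an automorphism τ of B with v(τ(π) - π) = j ≥ 1, that is σ(π) = π + γ
π^j with γ a unit of B, and with σ(b) - b ∈ π^j N for every b ∈ B (automatic when B is totally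
ramified over the fixed ring of τ, as in the published setting, where the residue field is
algebraically closed). If σ switches the two branches through x (σ(t) associated to e and σ(e) to
t), then the fixed-point ideal I of σ is contained in no proper principal ideal (x is not on the
divisorial part of the fixed locus) and N/I has length 2j - 1 (the multiplicity of x in the residual
fixed-point scheme). -/
theorem result (B : Type u) [CommRing B] [IsDomain B] [IsDiscreteValuationRing B] (π : B) (hπ : Irreducible π)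
    (j : ℕ) (hj : 1 ≤ j) (γ : B) (hγ : IsUnit γ)
    (σ : ArLef.NodeAlg B π ≃+* ArLef.NodeAlg B π)
    (hσB : ∀ b : B, σ (algebraMap B (ArLef.NodeAlg B π) b) - algebraMap B (ArLef.NodeAlg B π) b ∈
      Ideal.span ({algebraMap B (ArLef.NodeAlg B π) (π ^ j)} : Set (ArLef.NodeAlg B π)))
    (hσπ : σ (algebraMap B (ArLef.NodeAlg B π) π) = algebraMap B (ArLef.NodeAlg B π) (π + γ * π ^ j))
    (ht : Associated (σ (ArLef.NodeAlg.t π)) (ArLef.NodeAlg.e π)) (he : Associated (σ (ArLef.NodeAlg.e π)) (ArLef.NodeAlg.t π)) :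
    (∀ g : ArLef.NodeAlg B π, ArLef.fixIdeal σ ≤ Ideal.span ({g} : Set (ArLef.NodeAlg B π)) → IsUnit g) ∧
      Module.length (ArLef.NodeAlg B π) (ArLef.NodeAlg B π ⧸ ArLef.fixIdeal σ) = ((2 * j - 1 : ℕ) : ℕ∞) := by
  have : Fact (IsLocalRing.maximalIdeal B = Ideal.span {π}) := ⟨hπ.maximalIdeal_eq⟩
  have := ArLef32.isDomain_node (π := π) hπ.ne_zero
  obtain ⟨α', hα'⟩ := ht.symm
  obtain ⟨β', hβ'⟩ := he.symm
  obtain ⟨α, hα⟩ : ∃ α : (NodeAlg B π)ˣ, σ (t π) = α * e π := ⟨α', by rw [← hα', mul_comm]⟩
  obtain ⟨β, hβ⟩ : ∃ β : (NodeAlg B π)ˣ, σ (e π) = β * t π := ⟨β', by rw [← hβ', mul_comm]⟩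
  have hab := ArLef32.mul_sub_one_eq hπ.ne_zero σ (α := (α : NodeAlg B π)) (β := β) hj hσπ (by
    rw [hα, hβ]; ring)
  set h : NodeAlg B π := t π - α * e π
  obtain ⟨j, rfl⟩ : ∃ l, j = l + 1 := ⟨j - 1, by omega⟩
  have hP : ∀ n m : ℕ, algebraMap B (NodeAlg B π) π ^ n * e π ^ m -
      (α : NodeAlg B π) ^ n * e π ^ (2 * n + m) ∈ Ideal.span {h} := fun n m => by
    obtain ⟨c, hc⟩ := sub_dvd_pow_sub_pow (t π) ((α : NodeAlg B π) * e π) n
    refine Ideal.mem_span_singleton.2 ⟨c * e π ^ (n + m), ?_⟩
    rw [← ArLef32.te_eq, mul_pow]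
    linear_combination (e π ^ (n + m)) * hc
  have hI : ArLef.fixIdeal σ = Ideal.span {h} ⊔ Ideal.span {e π ^ (2 * j + 1)} := by
    rw [ArLef32.fixIdeal_eq_span σ _ hγ hσB hσπ, hα, hβ]
    rw [Nat.add_sub_cancel] at hab
    apply le_antisymm
    · rw [Ideal.span_le]
      rintro w (rfl | rfl | rfl)
      · have h1 := hP (j + 1) 0
        rw [pow_zero, mul_one] at h1
        rw [SetLike.mem_coe, ← sub_add_cancel (ArLef32.P π ^ (j + 1))
          ((α : NodeAlg B π) ^ (j + 1) * e π ^ (2 * (j + 1) + 0))]
        exact Ideal.add_mem _ (Ideal.mem_sup_left h1) (Ideal.mem_sup_right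
          (Ideal.mul_mem_left _ _ (Ideal.mem_span_singleton.2 (pow_dvd_pow _ (by omega)))))
      · rw [SetLike.mem_coe, show (α : NodeAlg B π) * e π - t π = -h by ring]
        exact neg_mem (Ideal.mem_sup_left (Ideal.mem_span_singleton_self _))
      · have h1 := hP j 1
        rw [pow_one] at h1
        rw [SetLike.mem_coe, show (β : NodeAlg B π) * t π - e π = (β : NodeAlg B π) * h +
          algebraMap B _ γ * ((algebraMap B (NodeAlg B π) π ^ j * e π -
            (α : NodeAlg B π) ^ j * e π ^ (2 * j + 1)) + (α : NodeAlg B π) ^ j * e π ^ (2 * j + 1))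
            by linear_combination (e π) * hab]
        exact Ideal.add_mem _ (Ideal.mem_sup_left (Ideal.mul_mem_left _ _
          (Ideal.mem_span_singleton_self _))) (Ideal.mul_mem_left _ _ (Ideal.add_mem _
            (Ideal.mem_sup_left h1) (Ideal.mem_sup_right
              (Ideal.mul_mem_left _ _ (Ideal.mem_span_singleton_self _)))))
    · set I := Ideal.span {ArLef32.P π ^ (j + 1), (α : NodeAlg B π) * e π - t π,
        (β : NodeAlg B π) * t π - e π}
      have hh : h ∈ I := by
        rw [show h = -((α : NodeAlg B π) * e π - t π) by ring]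
        exact neg_mem (Ideal.subset_span (by simp))
      have hhle : Ideal.span {h} ≤ I := (Ideal.span_singleton_le_iff_mem _).2 hh
      refine sup_le hhle ((Ideal.span_singleton_le_iff_mem _).2 ?_)
      have h1 := hP j 1
      rw [pow_one] at h1
      rw [← Ideal.unit_mul_mem_iff_mem _ ((hγ.map (algebraMap B (NodeAlg B π))).mul (α.isUnit.pow j)),
        show algebraMap B (NodeAlg B π) γ * (α : NodeAlg B π) ^ j * e π ^ (2 * j + 1) =
          ((β : NodeAlg B π) * t π - e π) - (β : NodeAlg B π) * h -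
            algebraMap B _ γ * (algebraMap B (NodeAlg B π) π ^ j * e π -
              (α : NodeAlg B π) ^ j * e π ^ (2 * j + 1)) by linear_combination (-e π) * hab]
      exact Ideal.sub_mem _ (Ideal.sub_mem _ (Ideal.subset_span (by simp))
        (Ideal.mul_mem_left _ _ hh)) (Ideal.mul_mem_left _ _ (hhle h1))
  refine ⟨fun g hg => ?_, ?_⟩
  · by_contra hgu
    obtain ⟨w, hw⟩ := Ideal.mem_span_singleton.1
      (hg (hI ▸ Ideal.mem_sup_left (Ideal.mem_span_singleton_self h)))
    have hgm : g ∈ IsLocalRing.maximalIdeal (NodeAlg B π) := hgu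
    have hwu : IsUnit w := by
      by_contra hwu
      have hwm : w ∈ IsLocalRing.maximalIdeal (NodeAlg B π) := hwu
      refine ArLef32.switch_notMem_sq α ?_
      show h ∈ _
      rw [hw, sq, ← ArLef32.maximalIdeal_node]
      exact Ideal.mul_mem_mul hgm hwm
    have he' : e π ^ (2 * j + 1) ∈ Ideal.span {h} := by
      rw [Ideal.mem_span_singleton, hw, hwu.mul_right_dvd]
      exact Ideal.mem_span_singleton.1
        (hg (hI ▸ Ideal.mem_sup_right (Ideal.mem_span_singleton_self _)))
    have h1 : (1 : NodeAlg B π) ∈ Ideal.span {h} :=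
      ArLef32.length_colon_pow_regular (ArLef32.e_regular_mod_switch α hπ.ne_zero) (2 * j + 1) 1
        (by rwa [mul_one])
    rw [Ideal.mem_span_singleton] at h1
    exact hgu (isUnit_of_mul_isUnit_left (hw ▸ isUnit_of_dvd_one h1))
  · rw [hI, ArLef32.length_pow _ _ (ArLef32.e_regular_mod_switch α hπ.ne_zero),
      ArLef32.switch_sup_e, ArLef32.length_quotient_maximal, mul_one]
    congr 1

end Groth.Agent.S15320
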