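import Groth.Statements.S15322
import Groth.Agent.Unr55.Rigid

set_option autoImplicit false
universe u
open CategoryTheory AlgebraicGeometry
open ArLef

namespace Groth.Agent.S15322

/-- Let f : D → C be a morphism, τ an automorphism of C and σ an automorphism of D with σ f = f τ; call
σ a good lifting of τ when the fixed-point scheme of σ is the full preimage of that of τ, i.e. every
morphism z : Z → D with z f τ = z f has z σ = z. If f is etale, separated and surjective with D
connected and the fixed-point scheme of τ is non-empty (some point of C, with its residue field, is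
fixed by τ), then τ has at most one good lifting. (The published statement is for a finite etale
cover of smooth projective irreducible curves over a field and a non-trivial τ; the argument uses
only the hypotheses stated here.) -/
theorem result {C D : Scheme.{u}} (f : D ⟶ C) [Etale f] [IsSeparated f] [Surjective f]
    [ConnectedSpace D] (τ : C ≅ C) (σ σ' : D ≅ D)
    (hσ : σ.hom ≫ f = f ≫ τ.hom) (hσ' : σ'.hom ≫ f = f ≫ τ.hom)
    (good : ∀ (Z : Scheme.{u}) (z : Z ⟶ D), z ≫ f ≫ τ.hom = z ≫ f → z ≫ σ.hom = z)
    (good' : ∀ (Z : Scheme.{u}) (z : Z ⟶ D), z ≫ f ≫ τ.hom = z ≫ f → z ≫ σ'.hom = z)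
    (x : C) (hx : C.fromSpecResidueField x ≫ τ.hom = C.fromSpecResidueField x) :
    σ = σ' := by
  obtain ⟨d, rfl⟩ := f.surjective x
  have hz : D.fromSpecResidueField d ≫ f ≫ τ.hom = D.fromSpecResidueField d ≫ f := by
    rw [← f.SpecMap_residueFieldMap_fromSpecResidueField_assoc, hx,
      f.SpecMap_residueFieldMap_fromSpecResidueField]
  ext1
  exact Unr55.eq_of_comp_eq f σ.hom σ'.hom (by rw [hσ, hσ']) (D.fromSpecResidueField d)
    (by rw [good _ _ hz, good' _ _ hz])

end Groth.Agent.S15322
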