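import Groth.Statements.S15325
import Groth.Agent.ArLef32.Cases

set_option autoImplicit false
universe u
open ArLef ArLef.NodeAlg

namespace Groth.Agent.S15325

/-- Let k be a field, A = k[[t, e]]/(te) the complete local ring of a nodal curve at a node x, and σ a
k-algebra automorphism of A fixing the two branches, σ(t) = α t and σ(e) = β e with units α, β.
Writing I for the fixed-point ideal of σ (generated by all σ(r) - r), the fixed-point multiplicity
length(A/I) of σ at x and the fixed-point multiplicities length(A/(I + (t))), length(A/(I + (e))) of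
the automorphisms induced on the two branches satisfy length(A/I) + 1 = length(A/(I + (t))) +
length(A/(I + (e))), as extended natural numbers (both sides are infinite when σ fixes a branch
pointwise). (The published setting has k algebraically closed.) -/
theorem result (k : Type u) [Field k]
    (σ : ArLef.NodeAlg k 0 ≃ₐ[k] ArLef.NodeAlg k 0) (α β : (ArLef.NodeAlg k 0)ˣ)
    (ht : σ (ArLef.NodeAlg.t (0 : k)) = (α : ArLef.NodeAlg k 0) * ArLef.NodeAlg.t (0 : k)) (he : σ (ArLef.NodeAlg.e (0 : k)) = (β : ArLef.NodeAlg k 0) * ArLef.NodeAlg.e (0 : k)) :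
    Module.length (ArLef.NodeAlg k 0) (ArLef.NodeAlg k 0 ⧸ ArLef.fixIdeal σ) + 1 =
      Module.length (ArLef.NodeAlg k 0) (ArLef.NodeAlg k 0 ⧸ (ArLef.fixIdeal σ ⊔ Ideal.span ({ArLef.NodeAlg.t (0 : k)} : Set (ArLef.NodeAlg k 0)))) +
        Module.length (ArLef.NodeAlg k 0) (ArLef.NodeAlg k 0 ⧸ (ArLef.fixIdeal σ ⊔ Ideal.span ({ArLef.NodeAlg.e (0 : k)} : Set (ArLef.NodeAlg k 0)))) := by
  have : Fact (IsLocalRing.maximalIdeal k = Ideal.span {(0 : k)}) :=
    ⟨by rw [Ideal.span_singleton_zero]; exact IsLocalRing.maximalIdeal_eq_bot⟩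
  set a : NodeAlg k (0 : k) := (α : NodeAlg k (0 : k)) - 1
  set b : NodeAlg k (0 : k) := (β : NodeAlg k (0 : k)) - 1
  have hP : algebraMap k (NodeAlg k (0 : k)) (0 : k) = 0 := map_zero _
  have hI : ArLef.fixIdeal σ =
      Ideal.span {algebraMap k (NodeAlg k (0 : k)) 0, a * t (0 : k), b * e (0 : k)} := by
    refine le_antisymm (ArLef32.fixIdeal_node_le σ.toRingEquiv _ (fun c => ?_) ?_ ?_)
      (Ideal.span_le.2 ?_)
    · show σ (algebraMap k _ c) - _ ∈ _
      rw [σ.commutes, sub_self]; exact zero_mem _
    · show σ (t (0 : k)) - t (0 : k) ∈ _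
      rw [ht, show (α : NodeAlg k (0 : k)) * t (0 : k) - t (0 : k) = a * t (0 : k) by ring]
      exact Ideal.subset_span (by simp)
    · show σ (e (0 : k)) - e (0 : k) ∈ _
      rw [he, show (β : NodeAlg k (0 : k)) * e (0 : k) - e (0 : k) = b * e (0 : k) by ring]
      exact Ideal.subset_span (by simp)
    · rintro w (rfl | rfl | rfl)
      · rw [hP]; exact Ideal.zero_mem _
      · have h := ArLef32.sub_mem_fixIdeal σ (t (0 : k))
        rw [ht] at h
        rw [SetLike.mem_coe, show a * t (0 : k) =
          (α : NodeAlg k (0 : k)) * t (0 : k) - t (0 : k) by ring]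
        exact h
      · have h := ArLef32.sub_mem_fixIdeal σ (e (0 : k))
        rw [he] at h
        rw [SetLike.mem_coe, show b * e (0 : k) =
          (β : NodeAlg k (0 : k)) * e (0 : k) - e (0 : k) by ring]
        exact h
  have h1 : ArLef.fixIdeal σ ⊔ Ideal.span {t (0 : k)} =
      Ideal.span {t (0 : k), b * e (0 : k)} := by
    rw [hI]
    refine le_antisymm (sup_le (Ideal.span_le.2 ?_) (Ideal.span_mono (by simp))) (Ideal.span_le.2 ?_)
    · rintro w (rfl | rfl | rfl)
      · rw [hP]; exact Ideal.zero_mem _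
      · exact Ideal.mul_mem_left _ _ (Ideal.subset_span (by simp))
      · exact Ideal.subset_span (by simp)
    · rintro w (rfl | rfl)
      · exact Ideal.mem_sup_right (Ideal.mem_span_singleton_self _)
      · exact Ideal.mem_sup_left (Ideal.subset_span (by simp))
  have h2 : ArLef.fixIdeal σ ⊔ Ideal.span {e (0 : k)} =
      Ideal.span {e (0 : k), a * t (0 : k)} := by
    rw [hI]
    refine le_antisymm (sup_le (Ideal.span_le.2 ?_) (Ideal.span_mono (by simp))) (Ideal.span_le.2 ?_)
    · rintro w (rfl | rfl | rfl)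
      · rw [hP]; exact Ideal.zero_mem _
      · exact Ideal.subset_span (by simp)
      · exact Ideal.mul_mem_left _ _ (Ideal.subset_span (by simp))
    · rintro w (rfl | rfl)
      · exact Ideal.mem_sup_right (Ideal.mem_span_singleton_self _)
      · exact Ideal.mem_sup_left (Ideal.subset_span (by simp))
  rw [h1, h2, hI, ArLef32.length_node_reduced a b]

end Groth.Agent.S15325
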