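import Groth.Statements.S15330
import Groth.Agent.VB30.Higgs
import Groth.Agent.VB30.Setup
import Groth.Agent.QC70.CohOps


set_option autoImplicit false
open CategoryTheory AlgebraicGeometry CategoryTheory.Limits
open VBCurve

namespace Groth.Agent.S15330
set_option backward.isDefEq.respectTransparency.types false

/-- Let X be a smooth proper integral curve over the complex numbers, L an invertible module on X, and
(E, φ_E), (F, φ_F) two L-valued Higgs bundles on X of the same rank r ≥ 1 and the same degree d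
(degree = χ − rank · χ(O)), each semistable: deg G · r ≤ d · s for every finite locally free
submodule G of rank s ≥ 1 to which the Higgs field restricts. Let E_0 ⊂ E_1 ⊂ … ⊂ E_n = E with E_0 =
0 and F = F_0 ⊃ F_1 ⊃ … ⊃ F_n = 0 be chains of finite locally free submodules to which the Higgs
fields restrict, of ranks with rk E_i + rk F_i = r, which are opposite: E_{i+1}/E_i ≅ F_i/F_{i+1} as
O-modules for i < n. Then every E_i of positive rank and every F_i of positive rank has slope d/r,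
that is deg · r = d · rank, and is semistable for its restricted Higgs field; and each graded piece
E_{i+1}/E_i of positive rank is finite locally free of rank rk E_{i+1} − rk E_i, of slope d/r, and
semistable for every Higgs field on it compatible with that of E_{i+1} along the projection. (The
published statement indexes the second chain so that F_i/F_{i+1} matches E_i/E_{i−1} and takes the
isomorphisms of graded pieces as Higgs bundles; here they are assumed as O-modules only, together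
with the rank bookkeeping rk E_i + rk F_i = r that they imply.) -/
theorem result
    (X : Scheme.{0}) [X.Over (Spec (CommRingCat.of ℂ))] [IsIntegral X]
    [IsProper (X ↘ Spec (CommRingCat.of ℂ))] [Smooth (X ↘ Spec (CommRingCat.of ℂ))]
    (hdim : topologicalKrullDim X = 1)
    (L : X.Modules) (hL : PicF.IsInvertible L) (r : ℕ) (hr : 0 < r) (d : ℤ)
    (E : X.Modules) (hE : FlatMod.IsFinLocFreeOfRank r E) (φE : E ⟶ CohB1.tensorMod E L)
    (hEd : Curv2.deg ℂ X E r = d)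
    (hEss : (∀ (G : X.Modules) (s : ℕ) (j : G ⟶ E) (χ : G ⟶ CohB1.tensorMod G L), Mono j → 0 < s →
        FlatMod.IsFinLocFreeOfRank s G →
        χ ≫ (CohB1.sheafifyMod X).map (MonoidalCategoryStruct.whiskerRight (C := CohB1.PMod X) j.val (CohB1.toPMod L)) = j ≫ φE →
        Curv2.deg ℂ X G s * (r : ℤ) ≤ Curv2.deg ℂ X E r * (s : ℤ)))
    (F : X.Modules) (hF : FlatMod.IsFinLocFreeOfRank r F) (φF : F ⟶ CohB1.tensorMod F L)
    (hFd : Curv2.deg ℂ X F r = d)
    (hFss : (∀ (G : X.Modules) (s : ℕ) (j : G ⟶ F) (χ : G ⟶ CohB1.tensorMod G L), Mono j → 0 < s →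
        FlatMod.IsFinLocFreeOfRank s G →
        χ ≫ (CohB1.sheafifyMod X).map (MonoidalCategoryStruct.whiskerRight (C := CohB1.PMod X) j.val (CohB1.toPMod L)) = j ≫ φF →
        Curv2.deg ℂ X G s * (r : ℤ) ≤ Curv2.deg ℂ X F r * (s : ℤ)))
    (n : ℕ)
    (Es : ℕ → X.Modules) (rE : ℕ → ℕ) (hEs : ∀ i, FlatMod.IsFinLocFreeOfRank (rE i) (Es i))
    (ιE : ∀ i, Es i ⟶ E) (hιE : ∀ i, Mono (ιE i))
    (ψE : ∀ i, Es i ⟶ CohB1.tensorMod (Es i) L)
    (hψE : ∀ i, ψE i ≫ (CohB1.sheafifyMod X).map (MonoidalCategoryStruct.whiskerRight (C := CohB1.PMod X) (ιE i).val (CohB1.toPMod L)) = ιE i ≫ φE)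
    (a : ∀ i, Es i ⟶ Es (i + 1)) (ha : ∀ i, a i ≫ ιE (i + 1) = ιE i)
    (hE0 : IsZero (Es 0)) (hEn : IsIso (ιE n))
    (Fs : ℕ → X.Modules) (rF : ℕ → ℕ) (hFs : ∀ i, FlatMod.IsFinLocFreeOfRank (rF i) (Fs i))
    (ιF : ∀ i, Fs i ⟶ F) (hιF : ∀ i, Mono (ιF i))
    (ψF : ∀ i, Fs i ⟶ CohB1.tensorMod (Fs i) L)
    (hψF : ∀ i, ψF i ≫ (CohB1.sheafifyMod X).map (MonoidalCategoryStruct.whiskerRight (C := CohB1.PMod X) (ιF i).val (CohB1.toPMod L)) = ιF i ≫ φF)
    (b : ∀ i, Fs (i + 1) ⟶ Fs i) (hb : ∀ i, b i ≫ ιF i = ιF (i + 1))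
    (hF0 : IsIso (ιF 0)) (hFn : IsZero (Fs n))
    (hrk : ∀ i, i ≤ n → rE i + rF i = r)
    (hopp : ∀ i, i < n → Nonempty (cokernel (a i) ≅ cokernel (b i))) :
    (∀ i, i ≤ n → 0 < rE i →
      Curv2.deg ℂ X (Es i) (rE i) * (r : ℤ) = d * (rE i : ℤ) ∧
      (∀ (G : X.Modules) (s : ℕ) (j : G ⟶ (Es i)) (χ : G ⟶ CohB1.tensorMod G L), Mono j → 0 < s →
        FlatMod.IsFinLocFreeOfRank s G →
        χ ≫ (CohB1.sheafifyMod X).map (MonoidalCategoryStruct.whiskerRight (C := CohB1.PMod X) j.val (CohB1.toPMod L)) = j ≫ ψE i →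
        Curv2.deg ℂ X G s * (rE i : ℤ) ≤ Curv2.deg ℂ X (Es i) (rE i) * (s : ℤ))) ∧
    (∀ i, i ≤ n → 0 < rF i →
      Curv2.deg ℂ X (Fs i) (rF i) * (r : ℤ) = d * (rF i : ℤ) ∧
      (∀ (G : X.Modules) (s : ℕ) (j : G ⟶ (Fs i)) (χ : G ⟶ CohB1.tensorMod G L), Mono j → 0 < s →
        FlatMod.IsFinLocFreeOfRank s G →
        χ ≫ (CohB1.sheafifyMod X).map (MonoidalCategoryStruct.whiskerRight (C := CohB1.PMod X) j.val (CohB1.toPMod L)) = j ≫ ψF i →
        Curv2.deg ℂ X G s * (rF i : ℤ) ≤ Curv2.deg ℂ X (Fs i) (rF i) * (s : ℤ))) ∧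
    (∀ i, i < n → rE i < rE (i + 1) →
      FlatMod.IsFinLocFreeOfRank (rE (i + 1) - rE i) (cokernel (a i)) ∧
      Curv2.deg ℂ X (cokernel (a i)) (rE (i + 1) - rE i) * (r : ℤ) = d * ((rE (i + 1) - rE i : ℕ) : ℤ) ∧
      ∀ (φ' : cokernel (a i) ⟶ CohB1.tensorMod (cokernel (a i)) L),
        cokernel.π (a i) ≫ φ' = ψE (i + 1) ≫ (CohB1.sheafifyMod X).map (MonoidalCategoryStruct.whiskerRight (C := CohB1.PMod X) (cokernel.π (a i)).val (CohB1.toPMod L)) →
        (∀ (G : X.Modules) (s : ℕ) (j : G ⟶ cokernel (a i)) (χ : G ⟶ CohB1.tensorMod G L), Mono j → 0 < s →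
        FlatMod.IsFinLocFreeOfRank s G →
        χ ≫ (CohB1.sheafifyMod X).map (MonoidalCategoryStruct.whiskerRight (C := CohB1.PMod X) j.val (CohB1.toPMod L)) = j ≫ φ' →
        Curv2.deg ℂ X G s * ((rE (i + 1) - rE i : ℕ) : ℤ) ≤ Curv2.deg ℂ X (cokernel (a i)) (rE (i + 1) - rE i) * (s : ℤ))) := by
  have hc := VB30.cur_of_smooth ℂ X hdim
  have := hc.isNoetherian
  have lEs : ∀ i, FlatMod.IsFinLocFree (Es i) := fun i => VB30.isFinLocFree_of_rank (hEs i)
  have lFs : ∀ i, FlatMod.IsFinLocFree (Fs i) := fun i => VB30.isFinLocFree_of_rank (hFs i)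
  have eEs : ∀ i, VB30.rk (Es i) = rE i := fun i => VB30.rk_eq_of_isFinLocFreeOfRank (hEs i)
  have eFs : ∀ i, VB30.rk (Fs i) = rF i := fun i => VB30.rk_eq_of_isFinLocFreeOfRank (hFs i)
  -- degree bounds from semistability
  have bE : ∀ i, VB30.dg ℂ (Es i) * r ≤ d * rE i := fun i => by
    rcases Nat.eq_zero_or_pos (rE i) with z | z
    · rw [hc.dg_of_rk_zero (lEs i) ((eEs i).trans z), z]; simp
    · have := hEss _ _ (ιE i) (ψE i) (hιE i) z (hEs i) (hψE i)
      rwa [VB30.deg_eq_dg (hEs i), hEd] at this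
  have bF : ∀ i, VB30.dg ℂ (Fs i) * r ≤ d * rF i := fun i => by
    rcases Nat.eq_zero_or_pos (rF i) with z | z
    · rw [hc.dg_of_rk_zero (lFs i) ((eFs i).trans z), z]; simp
    · have := hFss _ _ (ιF i) (ψF i) (hιF i) z (hFs i) (hψF i)
      rwa [VB30.deg_eq_dg (hFs i), hFd] at this
  -- opposite chains have complementary degrees
  have hsum : ∀ i, i ≤ n → VB30.dg ℂ (Es i) + VB30.dg ℂ (Fs i) = d := by
    intro i
    induction i with
    | zero =>
      intro _
      rw [hc.dg_of_rk_zero (lEs 0) (VB30.rk_eq_zero_of_isZero hE0), zero_add, VB30.dg_congr (asIso (ιF 0)),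
        ← VB30.deg_eq_dg hF, hFd]
    | succ i ih =>
      intro hi
      have : Mono (a i) := by have := hιE i; exact mono_of_mono_fac (ha i)
      have : Mono (b i) := by have := hιF (i + 1); exact mono_of_mono_fac (hb i)
      obtain ⟨e⟩ := hopp i (by omega)
      have d1 := (hc.rk_cokernel (a i) (VB30.isCoh_of_isFinLocFree (lEs _)) (VB30.isCoh_of_isFinLocFree (lEs _))).2
      have d2 := (hc.rk_cokernel (b i) (VB30.isCoh_of_isFinLocFree (lFs _)) (VB30.isCoh_of_isFinLocFree (lFs _))).2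
      rw [VB30.dg_congr e] at d1
      have := ih (by omega)
      omega
  have key : ∀ i, i ≤ n → VB30.dg ℂ (Es i) * r = d * rE i ∧ VB30.dg ℂ (Fs i) * r = d * rF i := fun i hi => by
    have a1 := bE i
    have a2 := bF i
    have a3 : (rE i : ℤ) + rF i = r := by exact_mod_cast hrk i hi
    have a4 : VB30.dg ℂ (Es i) * r + VB30.dg ℂ (Fs i) * r = d * rE i + d * rF i := by
      rw [← add_mul, hsum i hi, ← mul_add, a3]
    constructor <;> linarith
  have hr' : (0 : ℤ) < r := by exact_mod_cast hr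
  have hssE : ∀ i, i ≤ n → ∀ (G : X.Modules) (j : G ⟶ Es i), Mono j → 0 < VB30.rk G → FlatMod.IsFinLocFree G →
      VB30.Inv (ψE i) j → VB30.dg ℂ G * VB30.rk (Es i) ≤ VB30.dg ℂ (Es i) * VB30.rk G := by
    intro i hi G j hj h0 hG ⟨χ, hχ⟩
    have := hιE i
    have h' := hEss G _ (j ≫ ιE i) χ (mono_comp _ _) h0 (VB30.isFinLocFreeOfRank_rk hG) (by
      refine (congrArg (χ ≫ ·) (VB30.twMap_comp j (ιE i) L)).trans ?_
      rw [← Category.assoc, hχ, Category.assoc, Category.assoc]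
      exact congrArg (j ≫ ·) (hψE i))
    rw [VB30.deg_eq_dg (VB30.isFinLocFreeOfRank_rk hG), hEd] at h'
    rw [eEs i]
    refine le_of_mul_le_mul_right ?_ hr'
    calc VB30.dg ℂ G * rE i * r = VB30.dg ℂ G * r * rE i := by ring
      _ ≤ d * VB30.rk G * rE i := mul_le_mul_of_nonneg_right h' (Int.natCast_nonneg _)
      _ = d * rE i * VB30.rk G := by ring
      _ = VB30.dg ℂ (Es i) * VB30.rk G * r := by rw [← (key i hi).1]; ring
  refine ⟨fun i hi h0 => ⟨by rw [VB30.deg_eq_dg (hEs i)]; exact (key i hi).1, fun G s j χ hj hs hG hχ => ?_⟩,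
    fun i hi h0 => ⟨by rw [VB30.deg_eq_dg (hFs i)]; exact (key i hi).2, fun G s j χ hj hs hG hχ => ?_⟩,
    fun i hi hlt => ?_⟩
  · obtain rfl := VB30.rk_eq_of_isFinLocFreeOfRank hG
    have := hssE i hi G j hj hs (VB30.isFinLocFree_of_rank hG) ⟨χ, hχ⟩
    rw [VB30.deg_eq_dg hG, VB30.deg_eq_dg (hEs i)]
    rwa [eEs i] at this
  · have := hιF i
    have h' := hFss G _ (j ≫ ιF i) χ (mono_comp _ _) hs hG (by
      refine (congrArg (χ ≫ ·) (VB30.twMap_comp j (ιF i) L)).trans ?_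
      change χ ≫ VB30.twMap j L ≫ VB30.twMap (ιF i) L = _
      rw [← Category.assoc, show χ ≫ VB30.twMap j L = j ≫ ψF i from hχ, Category.assoc, Category.assoc]
      exact congrArg (j ≫ ·) (hψF i))
    rw [VB30.deg_eq_dg hG, hFd] at h'
    rw [VB30.deg_eq_dg hG, VB30.deg_eq_dg (hFs i)]
    refine le_of_mul_le_mul_right ?_ hr'
    calc VB30.dg ℂ G * rF i * r = VB30.dg ℂ G * r * rF i := by ring
      _ ≤ d * s * rF i := mul_le_mul_of_nonneg_right h' (Int.natCast_nonneg _)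
      _ = d * rF i * s := by ring
      _ = VB30.dg ℂ (Fs i) * s * r := by rw [← (key i hi).2]; ring
  · have : Mono (a i) := by have := hιE i; exact mono_of_mono_fac (ha i)
    have := hιE (i + 1)
    have := VB30.mono_twMap (X := X) hL (ιE (i + 1))
    have hai : VB30.Inv (ψE (i + 1)) (a i) := ⟨ψE i, by
      rw [← cancel_mono (VB30.twMap (ιE (i + 1)) L), Category.assoc, Category.assoc, ← VB30.twMap_comp, ha i]
      refine (hψE i).trans ?_
      rw [← ha i, Category.assoc]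
      exact congrArg (a i ≫ ·) (hψE (i + 1)).symm⟩
    obtain ⟨lQ, rQ, dQ, hQ⟩ := hc.quot_pair_ss (lEs (i + 1)) hL (ψE (i + 1)) (hssE (i + 1) (by omega)) (a i) (lEs i)
      hai (by rw [eEs]; omega) (by
        rw [eEs, eEs]
        refine mul_right_cancel₀ hr'.ne' ?_
        calc VB30.dg ℂ (Es i) * rE (i + 1) * r = VB30.dg ℂ (Es i) * r * rE (i + 1) := by ring
          _ = d * rE (i + 1) * rE i := by rw [(key i (by omega)).1]; ring
          _ = VB30.dg ℂ (Es (i + 1)) * rE i * r := by rw [← (key (i + 1) (by omega)).1]; ring)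
    rw [eEs, eEs] at rQ
    have hQr : FlatMod.IsFinLocFreeOfRank (rE (i + 1) - rE i) (cokernel (a i)) := rQ ▸ VB30.isFinLocFreeOfRank_rk lQ
    refine ⟨hQr, ?_, fun φ' hφ' G s j χ hj hs hG hχ => ?_⟩
    · rw [VB30.deg_eq_dg hQr, ← rQ]
      rw [eEs] at dQ
      refine mul_right_cancel₀ (show (rE (i + 1) : ℤ) ≠ 0 by omega) ?_
      calc VB30.dg ℂ (cokernel (a i)) * r * rE (i + 1) = VB30.dg ℂ (cokernel (a i)) * rE (i + 1) * r := by ring
        _ = VB30.dg ℂ (Es (i + 1)) * r * VB30.rk (cokernel (a i)) := by rw [dQ]; ring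
        _ = d * VB30.rk (cokernel (a i)) * rE (i + 1) := by rw [(key (i + 1) (by omega)).1]; ring
    · obtain rfl := VB30.rk_eq_of_isFinLocFreeOfRank hG
      rw [VB30.deg_eq_dg hG, VB30.deg_eq_dg hQr, ← rQ]
      exact hQ φ' hφ' G j hj hs (VB30.isFinLocFree_of_rank hG) ⟨χ, hχ⟩

end Groth.Agent.S15330
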