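import Groth.Statements.S15335
import Groth.Agent.VB30.Basic


set_option autoImplicit false
universe u
open CategoryTheory CategoryTheory.Limits AlgebraicGeometry
open VBCurve

namespace Groth.Agent.S15335
set_option backward.isDefEq.respectTransparency.types false

/-- Let X be a smooth proper integral curve (integral, smooth and proper of dimension one) over an
algebraically closed field k, and E₁, E₂ finite locally free O_X-modules of ranks r₁ ≥ 1, r₂ ≥ 1.
The maximal slope of E₁ ⊕ E₂ is at most the larger of the maximal slopes of E₁ and E₂: if m₁, m₂ are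
rational numbers such that every finite locally free submodule of positive rank of E₁ (resp. E₂) has
slope deg/rank ≤ m₁ (resp. ≤ m₂), degree meaning χ − rank·χ(O_X), then every finite locally free
submodule F of the biproduct E₁ ⊞ E₂ of rank r' ≥ 1 has slope deg F / r' ≤ max(m₁, m₂). -/
theorem result (k : Type u) [Field k] [IsAlgClosed k] (X : Scheme.{u}) [X.Over (Spec (CommRingCat.of k))]
    [IsIntegral X] [IsProper (X ↘ Spec (CommRingCat.of k))] [Smooth (X ↘ Spec (CommRingCat.of k))]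
    (hdim : topologicalKrullDim X = 1)
    (r₁ r₂ : ℕ) (hr₁ : 0 < r₁) (hr₂ : 0 < r₂) (E₁ E₂ : X.Modules)
    (hE₁ : FlatMod.IsFinLocFreeOfRank r₁ E₁) (hE₂ : FlatMod.IsFinLocFreeOfRank r₂ E₂) (m₁ m₂ : ℚ)
    (h₁ : ∀ (G : X.Modules) (r' : ℕ) (i : G ⟶ E₁), Mono i → 0 < r' → FlatMod.IsFinLocFreeOfRank r' G →
      (Curv2.deg k X G r' : ℚ) / r' ≤ m₁)
    (h₂ : ∀ (G : X.Modules) (r' : ℕ) (i : G ⟶ E₂), Mono i → 0 < r' → FlatMod.IsFinLocFreeOfRank r' G →
      (Curv2.deg k X G r' : ℚ) / r' ≤ m₂)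
    (F : X.Modules) (r' : ℕ) (i : F ⟶ E₁ ⊞ E₂) (hi : Mono i) (hr' : 0 < r')
    (hF : FlatMod.IsFinLocFreeOfRank r' F) :
    (Curv2.deg k X F r' : ℚ) / r' ≤ max m₁ m₂ := by
  have hc := VB30.cur_of_smooth k X hdim
  have lF := VB30.isFinLocFree_of_rank hF
  have eF := VB30.rk_eq_of_isFinLocFreeOfRank hF
  have key : ∀ (E G : X.Modules) (m : ℚ), (∀ (G : X.Modules) (r' : ℕ) (i : G ⟶ E), Mono i → 0 < r' →
      FlatMod.IsFinLocFreeOfRank r' G → (Curv2.deg k X G r' : ℚ) / r' ≤ m) →
      ∀ j : G ⟶ E, Mono j → FlatMod.IsFinLocFree G → (VB30.dg k G : ℚ) ≤ max m₁ m₂ * VB30.rk G ∨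
        max m₁ m₂ < m := fun E G m hm j hj hG => by
    by_cases hle : m ≤ max m₁ m₂
    · refine Or.inl ?_
      rcases Nat.eq_zero_or_pos (VB30.rk G) with z | z
      · rw [hc.dg_of_rk_zero hG z, z]; simp
      · have := hm G _ j hj z (VB30.isFinLocFreeOfRank_rk hG)
        rw [VB30.deg_eq_dg (VB30.isFinLocFreeOfRank_rk hG), div_le_iff₀ (by exact_mod_cast z)] at this
        exact this.trans (mul_le_mul_of_nonneg_right hle (Nat.cast_nonneg _))
    · exact Or.inr (not_le.1 hle)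
  obtain ⟨K, I, a, p, j, ha, hp, hj, haf, -, lK, lI, hr, hd, -, -⟩ :=
    hc.exists_ker_im (i ≫ biprod.snd) lF (VB30.isFinLocFree_of_rank hE₂)
  let b : K ⟶ E₁ := a ≫ i ≫ biprod.fst
  have hb : Mono b := by
    refine Preadditive.mono_of_cancel_zero _ fun g hg => ?_
    rw [← cancel_mono a, zero_comp, ← cancel_mono i, zero_comp]
    refine biprod.hom_ext _ _ ?_ ?_
    · simpa [b, Category.assoc] using hg
    · rw [Category.assoc, Category.assoc, haf, comp_zero, zero_comp]
  rcases key E₁ K m₁ h₁ b hb lK with hK | hK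
  swap
  · exact absurd hK (not_lt.2 (le_max_left _ _))
  rcases key E₂ I m₂ h₂ j hj lI with hI | hI
  swap
  · exact absurd hI (not_lt.2 (le_max_right _ _))
  rw [VB30.deg_eq_dg hF, div_le_iff₀ (by exact_mod_cast hr'), hd, ← eF, hr]
  push_cast
  linarith

end Groth.Agent.S15335
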