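import Groth.Statements.S1534
import Groth.Agent.Crv77.CMCurve

set_option autoImplicit false
universe u
open CategoryTheory CategoryTheory.Limits AlgebraicGeometry
open Curves Groth.Agent TopologicalSpace

namespace Groth.Agent.S1534

/-- A proper scheme of dimension one over a field k whose global functions are k is connected, all of
its local rings are Cohen–Macaulay, and every irreducible component has dimension one. -/
theorem result (k : Type u) [Field k] (X : Scheme.{u}) [X.Over (Spec (CommRingCat.of k))]
    [IsProper (X ↘ (Spec (CommRingCat.of k)))] (hdim : topologicalKrullDim X = 1) (h0 : Module.finrank k (Coh.HH X (Coh.structureModule X) 0) = 1) :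
    ConnectedSpace X ∧ (∀ x : X, LocCoh.IsCohenMacaulayLocalRing (X.presheaf.stalk x)) ∧
      ∀ Z ∈ irreducibleComponents (X : Type u), topologicalKrullDim Z = 1 := by
  have : Nonempty X := by
    by_contra h
    rw [not_nonempty_iff] at h
    have : IsEmpty (IrreducibleCloseds X) := ⟨fun a => IsEmpty.false a.2.nonempty.some⟩
    rw [topologicalKrullDim, Order.krullDim_eq_bot] at hdim
    exact WithBot.bot_ne_coe hdim
  have : IsNoetherian X := Crv77.isNoetherian_of_proper k X
  have hc := Crv77.onlyConst_of_finrank k h0
  exact ⟨hc.connectedSpace, hc.isCM hdim.le, fun Z hZ => hc.dim_component hdim hZ⟩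

end Groth.Agent.S1534
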