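import Groth.Statements.S15340
import Groth.Agent.VB30.Basic


set_option autoImplicit false
universe u
open CategoryTheory CategoryTheory.Limits AlgebraicGeometry
open VBCurve

namespace Groth.Agent.S15340
set_option backward.isDefEq.respectTransparency.types false

/-- Let X be a smooth proper integral curve (integral, smooth and proper of dimension one) over an
algebraically closed field k and E a finite locally free O_X-module of rank r ≥ 1 which is
slope-semistable and slope-stable (deg G · r ≤ deg E · r' for finite locally free submodules G of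
rank r' ≥ 1, strictly when r' < r; degree = χ − rank·χ(O_X)). Then E is indecomposable: it is
nonzero and whenever E ≅ E₁ ⊞ E₂ as O_X-modules, one of E₁, E₂ is zero. -/
theorem result (k : Type u) [Field k] [IsAlgClosed k] (X : Scheme.{u}) [X.Over (Spec (CommRingCat.of k))]
    [IsIntegral X] [IsProper (X ↘ Spec (CommRingCat.of k))] [Smooth (X ↘ Spec (CommRingCat.of k))]
    (hdim : topologicalKrullDim X = 1)
    (r : ℕ) (hr : 0 < r) (E : X.Modules) (hE : FlatMod.IsFinLocFreeOfRank r E)
    (hEss : ModFun.IsSlopeSemistable k X E r) (hEst : ModFun.IsSlopeStable k X E r) :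
    ¬ IsZero E ∧ ∀ (E₁ E₂ : X.Modules), Nonempty (E ≅ E₁ ⊞ E₂) → IsZero E₁ ∨ IsZero E₂ := by
  have hc := VB30.cur_of_smooth k X hdim
  have lE := VB30.isFinLocFree_of_rank hE
  have hr1 := VB30.rk_eq_of_isFinLocFreeOfRank hE
  refine ⟨fun hz => ?_, fun E₁ E₂ ⟨e⟩ => ?_⟩
  · have := VB30.isIntegral_nonempty_gst hE hr hz
    exact this
  · obtain ⟨l₁, l₂, hrk, hdg⟩ := hc.biprod_parts e lE
    rcases Nat.eq_zero_or_pos (VB30.rk E₁) with z₁ | p₁
    · exact Or.inl (hc.isZero_of_rk_eq_zero l₁ z₁)
    rcases Nat.eq_zero_or_pos (VB30.rk E₂) with z₂ | p₂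
    · exact Or.inr (hc.isZero_of_rk_eq_zero l₂ z₂)
    have hs := VB30.st_of_slope hE hEst
    have a := hs E₁ (biprod.inl ≫ e.inv) (mono_comp _ _) p₁ (by omega) l₁
    have b := hs E₂ (biprod.inr ≫ e.inv) (mono_comp _ _) p₂ (by omega) l₂
    exfalso
    rw [hdg, hrk] at a b
    push_cast at a b
    linarith

end Groth.Agent.S15340
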