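import Groth.Statements.S15343
import Groth.Agent.VB30.Etale
import Groth.Agent.Cartier57.Reduced
import Groth.Agent.Sga84.TorsorDesc
import Groth.Agent.Unr55.DescProps
import Groth.Agent.SchBasics.EtaleQF


set_option autoImplicit false
universe u
open CategoryTheory CategoryTheory.Limits AlgebraicGeometry
open VBCurve

namespace Groth.Agent.S15343
set_option backward.isDefEq.respectTransparency.types false

/-- Let X be a smooth proper integral curve (integral, smooth and proper of dimension one) over an
algebraically closed field k of characteristic zero, G a finite group scheme over k and j : P → X a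
torsor (fppf-locally trivial) under the X-group scheme G ×_k X. If E is a finite locally free
O_X-module of rank r with j^*E ≅ O_P^{⊕ r}, then E is finite in the sense of Weil: there are
distinct polynomials P' ≠ Q' with natural-number coefficients and P'(E) ≅ Q'(E), P'(E) being the
direct sum over i of P'_i copies of E^{⊗ i}. (The published statement says that in characteristic
zero an essentially finite bundle is finite; this row takes as hypothesis the characterisation of
essentially finite bundles as those trivialised by a torsor under a finite group scheme.) -/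
theorem result (k : Type u) [Field k] [IsAlgClosed k] (X : Scheme.{u}) [X.Over (Spec (CommRingCat.of k))]
    [IsIntegral X] [IsProper (X ↘ Spec (CommRingCat.of k))] [Smooth (X ↘ Spec (CommRingCat.of k))]
    (hdim : topologicalKrullDim X = 1) [CharZero k]
    (G : Scheme.{u}) [G.Over (Spec (CommRingCat.of k))] [GrpObj (G.asOver (Spec (CommRingCat.of k)))]
    [IsFinite (G ↘ Spec (CommRingCat.of k))]
    (P : Over X) (a : AlgGrp.Action (Red.bc (X ↘ Spec (CommRingCat.of k)) (G.asOver (Spec (CommRingCat.of k)))) P)
    (hP : NonAbH1.IsTorsorFor Scheme.fppfPrecoverage a)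
    (r : ℕ) (E : X.Modules) (hE : FlatMod.IsFinLocFreeOfRank r E)
    (htriv : Nonempty ((Scheme.Modules.pullback P.hom).obj E ≅ FlatMod.freeMod P.left r)) :
    ∃ P' Q' : Polynomial ℕ, P' ≠ Q' ∧ Nonempty ((∐ fun i : Fin (P'.natDegree + 1) => ∐ fun _ : Fin (P'.coeff ↑i) => CohB1.tensorPow E ↑i) ≅
      (∐ fun i : Fin (Q'.natDegree + 1) => ∐ fun _ : Fin (Q'.coeff ↑i) => CohB1.tensorPow E ↑i)) := by
  have hS : CrvPic30.Setup k X := CrvPic30.setup_of_smooth_algClosed hdim
  have hc := VB30.cur_of_setup hS
  obtain ⟨e⟩ := htriv
  let G₀ : Over (Spec (CommRingCat.of k)) := G.asOver (Spec (CommRingCat.of k))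
  haveI : IsFinite G₀.hom := ‹IsFinite (G ↘ Spec (CommRingCat.of k))›
  haveI : Smooth G₀.hom := Cartier57.smooth G₀
  haveI : Etale G₀.hom := (SchBasics.etale_iff_smooth_and_locallyQuasiFinite G₀.hom).2 ⟨inferInstance, inferInstance⟩
  have hf : IsFinite (Red.bc (X ↘ Spec (CommRingCat.of k)) G₀).hom :=
    MorphismProperty.pullback_snd (P := @IsFinite) _ _ ‹_›
  have he : Etale (Red.bc (X ↘ Spec (CommRingCat.of k)) G₀).hom :=
    MorphismProperty.pullback_snd (P := @Etale) _ _ ‹_›
  obtain ⟨hps, R, hR, hsec⟩ := hP
  have h' : NonAbH1.IsTorsorFor Scheme.fpqcPrecoverage a :=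
    ⟨hps, R, Scheme.fppfPrecoverage_le_fpqcPrecoverage X hR, hsec⟩
  have := Unr55.isFinite.{u}
  have : MorphismProperty.DescendsAlong @Etale Unr55.fpqc.{u} := by infer_instance
  haveI : IsFinite P.hom := Sga84.hom_of_isTorsorFor @IsFinite hf h'
  haveI : Etale P.hom := Sga84.hom_of_isTorsorFor @Etale he h'
  haveI : Surjective P.hom := Sga84.surjective_of_isLocallyTrivialFor h'.2
  exact hc.wf_of_etale (VB30.isFinLocFree_of_rank hE) P.hom e

end Groth.Agent.S15343
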