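import Groth.Statements.S15347


set_option autoImplicit false
universe u
open CategoryTheory CategoryTheory.Limits AlgebraicGeometry
open Mor

namespace Groth.Agent.S15347

/-- An immersion lifts morphisms from reduced schemes with image in its range. -/
lemma exists_lift {X Y T : Scheme.{u}} (f : Y ⟶ X) [IsImmersion f] [IsReduced T] (g : T ⟶ X)
    (h : Set.range g ⊆ Set.range f) : ∃ l : T ⟶ Y, l ≫ f = g := by
  haveI hs : Surjective (pullback.snd f g) := ⟨fun t => by
    obtain ⟨y, hy⟩ := h ⟨t, rfl⟩
    obtain ⟨z, -, hz⟩ := Scheme.Pullback.exists_preimage_pullback y t hy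
    exact ⟨z, hz⟩⟩
  haveI : IsClosedImmersion (pullback.snd f g) :=
    IsClosedImmersion.of_isPreimmersion _ (by rw [hs.surj.range_eq]; exact isClosed_univ)
  haveI := isIso_of_isClosedImmersion_of_surjective (pullback.snd f g)
  exact ⟨inv (pullback.snd f g) ≫ pullback.fst f g, by
    rw [Category.assoc, pullback.condition, IsIso.inv_hom_id_assoc]⟩


/-- Let f : Y ⟶ X be an immersion of schemes. Then: for every valuation ring A with fraction field K and
every commutative square Spec K ⟶ Y, Spec A ⟶ X over f such that some morphism from the spectrum of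
the residue field of A to Y lies over Spec A ⟶ X, the square admits a lift; and for every integral
domain A and every morphism s : Spec A ⟶ X such that the points of a dense subset of Spec A lift to
Y (the residue field of each such point maps to Y over s), there is a nonempty open subscheme U of
Spec A with a morphism U ⟶ Y over s. (The published statement is for a representable, locally
finitely presented morphism of algebraic stacks with locally Noetherian target and a quasi-compact
immersion, and also lists that f is a monomorphism; this row is the case of schemes, for any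
immersion and any target.) -/
theorem result {X Y : Scheme.{u}} (f : Y ⟶ X) [IsImmersion f] :
    (∀ S : ValuativeCommSq f,
        (∃ l₀ : Spec (CommRingCat.of (IsLocalRing.ResidueField S.R)) ⟶ Y,
            l₀ ≫ f = Spec.map (CommRingCat.ofHom (IsLocalRing.residue S.R)) ≫ S.i₂) →
          S.commSq.HasLift) ∧
      ∀ (A : Type u) [CommRing A] [IsDomain A] (s : Spec (CommRingCat.of A) ⟶ X) (D : Set ↥(Spec (CommRingCat.of A))),
        Dense D →
        (∀ p ∈ D, ∃ l : Spec ((Spec (CommRingCat.of A)).residueField p) ⟶ Y,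
            l ≫ f = (Spec (CommRingCat.of A)).fromSpecResidueField p ≫ s) →
          ∃ U : (Spec (CommRingCat.of A)).Opens, (U : Set ↥(Spec (CommRingCat.of A))).Nonempty ∧
            ∃ l : (U : Scheme.{u}) ⟶ Y, l ≫ f = U.ι ≫ s := by
  refine ⟨fun S ⟨l₀, hl₀⟩ => ?_, fun A _ _ s D hD hl => ?_⟩
  · let a₀ : Spec (CommRingCat.of S.R) := IsLocalRing.closedPoint S.R
    let g₀ : Spec (CommRingCat.of S.R) := ⟨⊥, Ideal.isPrime_bot⟩
    have hk : S.i₂ a₀ ∈ Set.range f := by
      let k₀ : Spec (CommRingCat.of (IsLocalRing.ResidueField S.R)) := IsLocalRing.closedPoint _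
      have e : Spec.map (CommRingCat.ofHom (IsLocalRing.residue S.R)) k₀ = a₀ :=
        IsLocalRing.comap_closedPoint (IsLocalRing.residue S.R)
      exact ⟨l₀ k₀, (congr(($hl₀) k₀)).trans (by rw [Scheme.Hom.comp_apply, e])⟩
    have hg : S.i₂ g₀ ∈ Set.range f := by
      let o : Spec (CommRingCat.of S.K) := ⟨⊥, Ideal.isPrime_bot⟩
      have e : Spec.map (CommRingCat.ofHom (algebraMap S.R S.K)) o = g₀ :=
        PrimeSpectrum.ext (Ideal.comap_bot_of_injective _ (IsFractionRing.injective S.R S.K))
      exact ⟨S.i₁ o, (congr(($(S.commSq.w)) o)).trans (by rw [Scheme.Hom.comp_apply, e])⟩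
    have hr : Set.range S.i₂ ⊆ Set.range f := by
      rintro _ ⟨p, rfl⟩
      have h1 : S.i₂ p ⤳ S.i₂ a₀ := (IsLocalRing.specializes_closedPoint p).map S.i₂.continuous
      have h2 : S.i₂ g₀ ⤳ S.i₂ p :=
        ((PrimeSpectrum.le_iff_specializes g₀ p).1 bot_le).map S.i₂.continuous
      obtain ⟨O, C, hO, hC, e⟩ := f.isLocallyClosed_range
      rw [e] at hk hg ⊢
      exact ⟨h1.mem_open hO hk.1, h2.mem_closed hC hg.2⟩
    obtain ⟨l, hl⟩ := exists_lift f S.i₂ hr
    refine ⟨⟨⟨l, ?_, hl⟩⟩⟩
    rw [← cancel_mono f, Category.assoc, hl, S.commSq.w]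
  · let g₀ : Spec (CommRingCat.of A) := ⟨⊥, Ideal.isPrime_bot⟩
    obtain ⟨O, C, hO, hC, e⟩ := f.isLocallyClosed_range
    have hDs : D ⊆ s ⁻¹' (O ∩ C) := fun p hp => by
      obtain ⟨l, hl⟩ := hl p hp
      let o : Spec ((Spec (CommRingCat.of A)).residueField p) := IsLocalRing.closedPoint _
      rw [← e]
      exact ⟨l o, (congr(($hl) o)).trans (by rw [Scheme.Hom.comp_apply, Scheme.fromSpecResidueField_apply])⟩
    have hCall : ∀ p, s p ∈ C := fun p =>
      closure_minimal (hDs.trans fun _ h => h.2) (hC.preimage s.continuous) (hD p)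
    refine ⟨⟨s ⁻¹' O, hO.preimage s.continuous⟩, ?_, ?_⟩
    · obtain ⟨p, hp⟩ := hD.nonempty
      exact ⟨p, (hDs hp).1⟩
    · obtain ⟨l, hl⟩ := exists_lift f (Scheme.Opens.ι ⟨s ⁻¹' O, hO.preimage s.continuous⟩ ≫ s) (by
        rintro _ ⟨q, rfl⟩
        rw [e]
        exact ⟨q.2, hCall _⟩)
      exact ⟨l, hl⟩

end Groth.Agent.S15347
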