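import Groth.Statements.S15353
import Groth.Agent.CAlg8.NilLiftProj
import Groth.Agent.CAlg8.NilFlat
import Mathlib

set_option autoImplicit false
universe u
open CAlg

namespace Groth.Agent.S15353

open TensorProduct

/-- Let f : A' → A be a surjective ring homomorphism whose kernel is a nilpotent ideal. Then the induced
homomorphism of Picard groups Pic(A') → Pic(A), base change of invertible modules along f, is
bijective. -/
theorem result {A' A : Type u} [CommRing A'] [CommRing A]
    (f : A' →+* A) (hf : Function.Surjective f) (hker : IsNilpotent (RingHom.ker f)) :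
    Function.Bijective (CommRing.Pic.mapRingHom f) := by
  let _ : Algebra A' A := f.toAlgebra
  have hI : f = algebraMap A' A := rfl
  rw [hI, CommRing.Pic.mapRingHom_algebraMap]
  set I := RingHom.ker (algebraMap A' A)
  let eI : (A' ⧸ I) ≃ₗ[A'] A :=
    (Ideal.quotientKerAlgEquivOfSurjective (f := Algebra.ofId A' A) hf).toLinearEquiv
  have hbij : ∀ (M N : Type u) [AddCommGroup M] [Module A' M] [AddCommGroup N] [Module A' N] [Module.Flat A' N]
      (φ : M →ₗ[A'] N), Function.Bijective (φ.lTensor A) → Function.Bijective φ := by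
    intro M N _ _ _ _ _ φ h
    refine Groth.Agent.CAlg8.NilFlat.bijective_of_bijective_lTensor_quotient (I := I) hker φ ?_
    have hc : ∀ z, (TensorProduct.congr eI (LinearEquiv.refl A' N)) (φ.lTensor (A' ⧸ I) z) =
        φ.lTensor A (TensorProduct.congr eI (LinearEquiv.refl A' M) z) := by
      intro z
      induction z using TensorProduct.induction_on with
      | zero => simp
      | tmul a b => simp
      | add a b ha hb => simp only [map_add, ha, hb]
    have : ⇑(φ.lTensor (A' ⧸ I)) = ⇑(TensorProduct.congr eI (LinearEquiv.refl A' N)).symm ∘ ⇑(φ.lTensor A) ∘ ⇑(TensorProduct.congr eI (LinearEquiv.refl A' M)) := by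
      ext z; simp [← hc z]
    rw [this]
    exact (LinearEquiv.bijective _).comp (h.comp (LinearEquiv.bijective _))
  constructor
  · rw [injective_iff_map_eq_one]
    intro M hM
    rw [CommRing.Pic.mapAlgebra_apply, CommRing.Pic.mk_eq_one_iff] at hM
    obtain ⟨e⟩ := hM
    obtain ⟨m, hm⟩ := TensorProduct.mk_surjective A' M A hf (e.symm 1)
    rw [← CommRing.Pic.mk_eq_self (M := M), CommRing.Pic.mk_eq_one_iff]
    let φ : A' →ₗ[A'] M := LinearMap.toSpanSingleton A' M m
    have : Function.Bijective (φ.lTensor A) := by
      have h : ⇑(φ.lTensor A) = ⇑e.symm ∘ ⇑(TensorProduct.rid A' A) := by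
        refine funext fun z => ?_
        induction z using TensorProduct.induction_on with
        | zero => simp
        | tmul a b =>
          have hm' : (1 : A) ⊗ₜ[A'] m = e.symm 1 := hm
          rw [Function.comp_apply, TensorProduct.rid_tmul]
          show a ⊗ₜ[A'] (b • m) = e.symm (b • a)
          rw [← mul_one (b • a), ← smul_eq_mul, map_smul, ← hm', TensorProduct.smul_tmul', smul_eq_mul, mul_one, TensorProduct.tmul_smul, TensorProduct.smul_tmul']
        | add a b ha hb => simp only [map_add, Function.comp_apply] at *; rw [ha, hb]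
      rw [h]; exact e.symm.bijective.comp (LinearEquiv.bijective _)
    exact ⟨(LinearEquiv.ofBijective φ (hbij _ _ φ this)).symm⟩
  · intro M
    have key : ∀ (N : Type u) [AddCommGroup N] [Module A N] [Module A' N] [IsScalarTower A' A N]
        [Module.Finite A N] [Module.Projective A N],
        ∃ (P : Type u) (_ : AddCommGroup P) (_ : Module A' P), Module.Finite A' P ∧ Module.Projective A' P ∧
          Nonempty ((A ⊗[A'] P) ≃ₗ[A] N) := by
      intro N _ _ _ _ _ _
      obtain ⟨P, _, _, hPf, hPp, q, hq, hqk⟩ := Groth.Agent.CAlg8.NilLiftProj.exists_lift (R := A') (S := A) hf hker N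
      refine ⟨P, inferInstance, inferInstance, hPf, hPp, ⟨LinearEquiv.ofBijective (q.liftBaseChange A) ⟨?_, fun y => ?_⟩⟩⟩
      · rw [injective_iff_map_eq_zero]
        intro z hz
        obtain ⟨y, rfl⟩ := TensorProduct.mk_surjective A' P A hf z
        have hy : q y = 0 := by simpa using hz
        rw [← LinearMap.mem_ker, hqk] at hy
        induction hy using Submodule.smul_induction_on' with
        | smul a ha y _ =>
          show (1 : A) ⊗ₜ[A'] (a • y) = 0
          rw [← TensorProduct.smul_tmul, Algebra.smul_def, show algebraMap A' A a = 0 from ha, zero_mul, TensorProduct.zero_tmul]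
        | add x hx y hy ihx ihy =>
          have hx' : q x = 0 := by rw [← LinearMap.mem_ker, hqk]; exact hx
          have hy' : q y = 0 := by rw [← LinearMap.mem_ker, hqk]; exact hy
          rw [map_add, ihx (by simpa using hx'), ihy (by simpa using hy'), add_zero]
      · obtain ⟨p, rfl⟩ := hq y
        exact ⟨1 ⊗ₜ p, by simp⟩
    let _ : Module A' M := Module.compHom M (algebraMap A' A)
    have : IsScalarTower A' A M := IsScalarTower.of_algebraMap_smul fun _ _ => rfl
    let _ : Module A' (Module.Dual A M) := Module.compHom _ (algebraMap A' A)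
    have : IsScalarTower A' A (Module.Dual A M) := IsScalarTower.of_algebraMap_smul fun _ _ => rfl
    obtain ⟨P, _, _, hPf, hPp, ⟨eP⟩⟩ := key M
    obtain ⟨Q, _, _, hQf, hQp, ⟨eQ⟩⟩ := key (Module.Dual A M)
    let E : A ⊗[A'] (Q ⊗[A'] P) ≃ₗ[A] A :=
      (TensorProduct.AlgebraTensorModule.distribBaseChange A' A Q P) ≪≫ₗ TensorProduct.congr eQ eP ≪≫ₗ Module.Invertible.linearEquiv A M
    obtain ⟨z, hz⟩ := TensorProduct.mk_surjective A' (Q ⊗[A'] P) A hf (E.symm 1)
    replace hz : (1 : A) ⊗ₜ[A'] z = E.symm 1 := hz
    let φ : A' →ₗ[A'] Q ⊗[A'] P := LinearMap.toSpanSingleton A' _ z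
    have hφ : ⇑(φ.lTensor A) = ⇑E.symm ∘ ⇑(TensorProduct.rid A' A) := by
      refine funext fun w => ?_
      induction w using TensorProduct.induction_on with
      | zero => simp
      | tmul a b =>
        rw [Function.comp_apply, TensorProduct.rid_tmul]
        show a ⊗ₜ[A'] (b • z) = E.symm (b • a)
        rw [← mul_one (b • a), ← smul_eq_mul, map_smul, ← hz, TensorProduct.smul_tmul', smul_eq_mul, mul_one, TensorProduct.tmul_smul, TensorProduct.smul_tmul']
      | add a b ha hb => simp only [map_add, Function.comp_apply] at *; rw [ha, hb]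
    have := hbij _ _ φ (hφ ▸ E.symm.bijective.comp (LinearEquiv.bijective _))
    have : Module.Invertible A' P := Module.Invertible.right (LinearEquiv.ofBijective φ this).symm
    refine ⟨CommRing.Pic.mk A' P, ?_⟩
    rw [CommRing.Pic.mapAlgebra_apply, CommRing.Pic.mk_eq_iff]
    exact ⟨(CommRing.Pic.mk.linearEquiv A' P).baseChange A' A _ _ ≪≫ₗ eP⟩

end Groth.Agent.S15353
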