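import Groth.Statements.S15354


set_option autoImplicit false
universe u
open CategoryTheory CategoryTheory.Limits AlgebraicGeometry
open Mor

namespace Groth.Agent.S15354

/-- Let f : Y ⟶ X be a morphism of schemes, A a valuation ring with fraction field K and residue field
k, and ξ, η : Spec A ⟶ Y two A-points of Y over the same A-point of X. If ξ and η restrict to the
same K-point and to the same k-point of Y, then ξ = η. (The published statement is an equivalence,
for algebraic spaces locally of finite presentation over a Noetherian scheme, between local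
separatedness of f and conditions (a), (b); this row is the necessity of (a) in the case of schemes,
where no hypothesis on f is needed.) -/
theorem result {X Y : Scheme.{u}} (f : Y ⟶ X)
    (A : Type u) [CommRing A] [IsDomain A] [ValuationRing A] (K : Type u) [Field K] [Algebra A K]
    [IsFractionRing A K] (ξ η : Spec (CommRingCat.of A) ⟶ Y) (hf : ξ ≫ f = η ≫ f)
    (hK : Spec.map (CommRingCat.ofHom (algebraMap A K)) ≫ ξ = Spec.map (CommRingCat.ofHom (algebraMap A K)) ≫ η)
    (hk : Spec.map (CommRingCat.ofHom (IsLocalRing.residue A)) ≫ ξ =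
      Spec.map (CommRingCat.ofHom (IsLocalRing.residue A)) ≫ η) :
    ξ = η := by
  let a₀ : Spec (CommRingCat.of A) := IsLocalRing.closedPoint A
  let k₀ : Spec (CommRingCat.of (IsLocalRing.ResidueField A)) := IsLocalRing.closedPoint (IsLocalRing.ResidueField A)
  have hy : ξ a₀ = η a₀ := by
    have h := congr(($hk) k₀)
    have e : Spec.map (CommRingCat.ofHom (IsLocalRing.residue A)) k₀ = a₀ :=
      IsLocalRing.comap_closedPoint (IsLocalRing.residue A)
    rw [Scheme.Hom.comp_apply, Scheme.Hom.comp_apply, e] at h
    exact h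
  obtain ⟨_, ⟨V, hV, rfl⟩, hyV, -⟩ :=
    Y.isBasis_affineOpens.exists_subset_of_mem_open (Set.mem_univ (ξ a₀)) isOpen_univ
  replace hV : IsAffineOpen V := hV
  have hr : ∀ μ : Spec (CommRingCat.of A) ⟶ Y, μ a₀ ∈ V →
      Set.range μ ⊆ Set.range hV.fromSpec := by
    rintro μ hμ _ ⟨p, rfl⟩
    rw [hV.range_fromSpec]
    exact ((IsLocalRing.specializes_closedPoint p).map μ.continuous).mem_open V.2 hμ
  obtain ⟨a, ha⟩ : ∃ a, Spec.map a ≫ hV.fromSpec = ξ := ⟨Spec.preimage (IsOpenImmersion.lift hV.fromSpec ξ (hr ξ hyV)),
    by rw [Spec.map_preimage, IsOpenImmersion.lift_fac]⟩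
  obtain ⟨b, hb⟩ : ∃ b, Spec.map b ≫ hV.fromSpec = η := ⟨Spec.preimage (IsOpenImmersion.lift hV.fromSpec η (hr η (hy ▸ hyV))),
    by rw [Spec.map_preimage, IsOpenImmersion.lift_fac]⟩
  subst ha hb
  congr 2
  rw [← Category.assoc, ← Category.assoc, cancel_mono, ← Spec.map_comp, ← Spec.map_comp] at hK
  ext x
  apply IsFractionRing.injective A K
  exact congr($(Spec.map_injective hK) x)

end Groth.Agent.S15354
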