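import Groth.Statements.S15355


set_option autoImplicit false
universe u
open CategoryTheory CategoryTheory.Limits AlgebraicGeometry
open Mor

namespace Groth.Agent.S15355

/-- Let f : Y ⟶ X be a morphism of schemes, A an integral domain and ξ, η : Spec A ⟶ Y two A-points of Y
over the same A-point of X. If ξ and η induce the same κ(p)-point of Y at every point p of some
dense subset of Spec A, then ξ and η agree on a nonempty open subscheme of Spec A. (The published
statement is an equivalence, for algebraic spaces locally of finite presentation over a Noetherian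
scheme, between local separatedness of f and conditions (a), (b); this row is the necessity of (b)
in the case of schemes, where no hypothesis on f is needed.) -/
theorem result {X Y : Scheme.{u}} (f : Y ⟶ X)
    (A : Type u) [CommRing A] [IsDomain A] (ξ η : Spec (CommRingCat.of A) ⟶ Y) (hf : ξ ≫ f = η ≫ f)
    (D : Set ↥(Spec (CommRingCat.of A))) (hD : Dense D)
    (hpt : ∀ p ∈ D, (Spec (CommRingCat.of A)).fromSpecResidueField p ≫ ξ =
      (Spec (CommRingCat.of A)).fromSpecResidueField p ≫ η) :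
    ∃ U : (Spec (CommRingCat.of A)).Opens, (U : Set ↥(Spec (CommRingCat.of A))).Nonempty ∧ U.ι ≫ ξ = U.ι ≫ η := by
  let g0 : Spec (CommRingCat.of A) := ⟨⊥, Ideal.isPrime_bot⟩
  have hgen : ∀ O : Set ↥(Spec (CommRingCat.of A)), IsOpen O → O.Nonempty → g0 ∈ O := fun O hO ⟨p, hp⟩ =>
    ((PrimeSpectrum.le_iff_specializes g0 p).1 bot_le).mem_open hO hp
  have hptD : ∀ p ∈ D, ξ p = η p := fun p hp => by
    let o : Spec ((Spec (CommRingCat.of A)).residueField p) := IsLocalRing.closedPoint _
    have h := congr(($(hpt p hp)) o)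
    rwa [Scheme.Hom.comp_apply, Scheme.Hom.comp_apply, Scheme.fromSpecResidueField_apply] at h
  obtain ⟨_, ⟨V, hV, rfl⟩, hgV, -⟩ :=
    Y.isBasis_affineOpens.exists_subset_of_mem_open (Set.mem_univ (ξ g0)) isOpen_univ
  replace hV : IsAffineOpen V := hV
  have hgV' : g0 ∈ η.base ⁻¹' (V : Set Y) := by
    obtain ⟨p, hp1, hp2⟩ := hD.inter_open_nonempty _ (V.2.preimage ξ.continuous) ⟨g0, hgV⟩
    exact hgen _ (V.2.preimage η.continuous) ⟨p, show η p ∈ V from (hptD p hp2) ▸ hp1⟩
  obtain ⟨_, ⟨a, rfl⟩, hga, haV⟩ := PrimeSpectrum.isTopologicalBasis_basic_opens.exists_subset_of_mem_open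
    (show g0 ∈ ξ.base ⁻¹' (V : Set Y) ∩ η.base ⁻¹' (V : Set Y) from ⟨hgV, hgV'⟩)
    ((V.2.preimage ξ.continuous).inter (V.2.preimage η.continuous))
  let B := Localization.Away a
  haveI : IsDomain B := IsLocalization.isDomain_localization (Submonoid.powers_le.2
    (mem_nonZeroDivisors_of_ne_zero fun h => hga (show a ∈ (⊥ : Ideal A) from h)))
  let j : Spec (CommRingCat.of B) ⟶ Spec (CommRingCat.of A) := Spec.map (CommRingCat.ofHom (algebraMap A B))
  haveI : IsOpenImmersion j := IsOpenImmersion.of_isLocalization a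
  have hjr : Set.range j = (PrimeSpectrum.basicOpen a : Set (PrimeSpectrum A)) :=
    PrimeSpectrum.localization_away_comap_range B a
  obtain ⟨p, hp⟩ : ∃ p, Spec.map p ≫ hV.fromSpec = j ≫ ξ :=
    ⟨Spec.preimage (IsOpenImmersion.lift hV.fromSpec (j ≫ ξ) (by
      rintro _ ⟨q, rfl⟩
      rw [hV.range_fromSpec, Scheme.Hom.comp_apply]
      exact (haV (hjr.subset ⟨q, rfl⟩)).1)), by rw [Spec.map_preimage]; exact IsOpenImmersion.lift_fac _ _ _⟩
  obtain ⟨q, hq⟩ : ∃ q, Spec.map q ≫ hV.fromSpec = j ≫ η :=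
    ⟨Spec.preimage (IsOpenImmersion.lift hV.fromSpec (j ≫ η) (by
      rintro _ ⟨q, rfl⟩
      rw [hV.range_fromSpec, Scheme.Hom.comp_apply]
      exact (haV (hjr.subset ⟨q, rfl⟩)).2)), by rw [Spec.map_preimage]; exact IsOpenImmersion.lift_fac _ _ _⟩
  have hpq : p = q := by
    ext x
    rw [← sub_eq_zero]
    refine (show IsNilpotent (p x - q x) from ?_).eq_zero
    rw [← PrimeSpectrum.basicOpen_eq_bot_iff]
    by_contra hne
    obtain ⟨Q, hQ⟩ := (TopologicalSpace.Opens.ne_bot_iff_nonempty _).1 hne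
    obtain ⟨r, hr1, hr2⟩ := hD.inter_open_nonempty _ (j.isOpenEmbedding.isOpenMap _
      (PrimeSpectrum.basicOpen (p x - q x)).2) ⟨j Q, Q, hQ, rfl⟩
    obtain ⟨P, hP, rfl⟩ := hr1
    apply hP
    have e1 : (Spec (CommRingCat.of B)).fromSpecResidueField P ≫ j ≫ ξ =
        (Spec (CommRingCat.of B)).fromSpecResidueField P ≫ j ≫ η := by
      rw [← reassoc_of% (Scheme.Hom.SpecMap_residueFieldMap_fromSpecResidueField j P),
        ← reassoc_of% (Scheme.Hom.SpecMap_residueFieldMap_fromSpecResidueField j P), hpt _ hr2]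
    rw [← hp, ← hq, ← Category.assoc, ← Category.assoc, cancel_mono] at e1
    obtain ⟨r, hr⟩ := Spec.map_surjective ((Spec (CommRingCat.of B)).fromSpecResidueField P)
    rw [← hr, ← Spec.map_comp, ← Spec.map_comp] at e1
    have e2 : r (p x - q x) = 0 := by
      rw [map_sub, sub_eq_zero]; exact congr($(Spec.map_injective e1) x)
    have hcl : Spec.map r (IsLocalRing.closedPoint _) = P := by
      rw [hr]; exact Scheme.fromSpecResidueField_apply _ _
    rw [← hcl]
    show (p x - q x) ∈ Ideal.comap r.hom _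
    rw [Ideal.mem_comap, e2]
    exact zero_mem _
  refine ⟨j.opensRange, ⟨g0, by rw [Scheme.Hom.coe_opensRange, hjr]; exact hga⟩, ?_⟩
  rw [← cancel_epi j.isoOpensRange.hom, Scheme.Hom.isoOpensRange_hom_ι_assoc,
    Scheme.Hom.isoOpensRange_hom_ι_assoc, ← hp, ← hq, hpq]

end Groth.Agent.S15355
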