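import Groth.Statements.S15359
import Mathlib.Tactic.ByContra
import Mathlib.Tactic.FieldSimp
import Mathlib.Tactic.LinearCombination

set_option autoImplicit false
universe u v
open GalCoh

namespace Groth.Agent.S15359

theorem result
    (Γ : Type u) [CommGroup Γ] (F : Type v) [Field F] (χ : Γ →* Fˣ) (hχ : χ ≠ 1)
    (c : Γ → F) (hc : ∀ g h : Γ, c (g * h) = c g + (χ g : F) * c h) :
    ∃ x : F, ∀ g : Γ, c g = ((χ g : F) - 1) * x := by
  obtain ⟨h, hh⟩ : ∃ h : Γ, (χ h : F) ≠ 1 := by
    by_contra! hne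
    exact hχ (MonoidHom.ext fun g => Units.ext (hne g))
  refine ⟨c h / ((χ h : F) - 1), fun g => ?_⟩
  have h0 : (χ h : F) - 1 ≠ 0 := sub_ne_zero.2 hh
  have e := hc g h
  rw [mul_comm g h, hc h g] at e
  field_simp
  linear_combination e

end Groth.Agent.S15359
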