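import Groth.Statements.S1536
import Groth.Agent.Crv77.Sections
import Groth.Agent.AbSch7.FieldH0
-- import your own Groth.Agent.* helpers here

set_option autoImplicit false
universe u
open CategoryTheory CategoryTheory.Limits AlgebraicGeometry
open Variety

namespace Groth.Agent.S1536

/-- For a proper scheme X over a field k which is geometrically reduced and geometrically connected,
H^0(X, O_X) is one-dimensional over k, i.e. the global functions are the constants. -/
theorem result (k : Type u) [Field k] (X : Scheme.{u}) [X.Over (Spec (CommRingCat.of k))] [IsProper (X ↘ (Spec (CommRingCat.of k)))]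
    [GeometricallyReduced (X ↘ (Spec (CommRingCat.of k)))] [GeometricallyConnected (X ↘ (Spec (CommRingCat.of k)))] :
    Module.finrank k (Coh.HH X (Coh.structureModule X) 0) = 1 := by
  have hb := AbSch7.appTop_bijective_of_field (X ↘ Spec (CommRingCat.of k))
  have hg : Function.Bijective (Coh.toGlobal (X ↘ Spec (CommRingCat.of k))) :=
    hb.comp (Scheme.ΓSpecIso (CommRingCat.of k)).commRingCatIsoToRingEquiv.symm.bijective
  let x₁ : Coh.HH X (Coh.structureModule X) 0 := (Crv77.sec (Coh.structureModule X)).symm (1 : Γ(X, ⊤))
  have h : ∀ a : k, Crv77.sec (Coh.structureModule X) (a • x₁) =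
      (show Γ(X, ⊤) from Coh.toGlobal (X ↘ Spec (CommRingCat.of k)) a) := fun a => by
    rw [Crv77.sec_smul k, AddEquiv.apply_symm_apply]
    exact mul_one (M := Γ(X, ⊤)) _
  let e : k →ₗ[k] Coh.HH X (Coh.structureModule X) 0 := LinearMap.toSpanSingleton k _ x₁
  have he : Function.Bijective e := by
    have : ⇑e = fun a => a • x₁ := rfl
    rw [this]
    refine ⟨fun a b hab => hg.1 ((h a).symm.trans ((congrArg _ hab).trans (h b))), fun y => ?_⟩
    obtain ⟨a, ha⟩ := hg.2 (Crv77.sec (Coh.structureModule X) y)
    exact ⟨a, (Crv77.sec (Coh.structureModule X)).injective ((h a).trans ha)⟩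
  rw [← (LinearEquiv.ofBijective e he).finrank_eq, Module.finrank_self]

end Groth.Agent.S1536
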