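import Groth.Statements.S15360
import Mathlib.NumberTheory.Padics.RingHoms
import Mathlib.Topology.Instances.Matrix
import Mathlib.LinearAlgebra.Matrix.GeneralLinearGroup.Defs
import Mathlib.Analysis.SpecificLimits.Basic

set_option autoImplicit false
universe u
open GalCoh

namespace Groth.Agent.S15360

theorem result (p : ℕ) [Fact p.Prime]
    (𝔊 : Type u) [Group 𝔊] [TopologicalSpace 𝔊] [IsTopologicalGroup 𝔊] [CompactSpace 𝔊] [T2Space 𝔊]
    [TotallyDisconnectedSpace 𝔊]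
    (ϕ : 𝔊 →* GL (Fin 2) ℤ_[p])
    (hϕ : Continuous fun g => ((ϕ g : GL (Fin 2) ℤ_[p]) : Matrix (Fin 2) (Fin 2) ℤ_[p])) :
    Function.Surjective ϕ ↔
      (Function.Surjective ((Matrix.GeneralLinearGroup.map (n := Fin 2) (PadicInt.toZMod (p := p))).comp ϕ) ∧
        ∀ n : ℕ, 1 ≤ n → ∃ (g : 𝔊) (a b c d : ℤ_[p]), ¬ ((p : ℤ_[p]) ∣ a) ∧
          ((ϕ g : GL (Fin 2) ℤ_[p]) : Matrix (Fin 2) (Fin 2) ℤ_[p]) =
            !![1 + (p : ℤ_[p]) ^ n * a, (p : ℤ_[p]) ^ (n + 1) * b;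
               (p : ℤ_[p]) ^ (n + 1) * c, 1 + (p : ℤ_[p]) ^ (n + 1) * d]) := by
  classical
  let t := (PadicInt.toZMod (p := p))
  let mt : Matrix (Fin 2) (Fin 2) ℤ_[p] →+* Matrix (Fin 2) (Fin 2) (ZMod p) := t.mapMatrix
  have hker : ∀ M, mt M = 0 → ∃ K, M = (p : ℤ_[p]) • K := by
    intro M hM
    have : ∀ i j, ∃ k, M i j = (p : ℤ_[p]) * k := fun i j => by
      have h : M i j ∈ RingHom.ker t := congrFun (congrFun hM i) j
      rw [PadicInt.ker_toZMod, PadicInt.maximalIdeal_eq_span_p, Ideal.mem_span_singleton] at h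
      exact h
    choose K hK using this
    exact ⟨Matrix.of K, Matrix.ext fun i j => by simp [hK i j]⟩
  constructor
  · intro hs
    refine ⟨fun γ => ?_, fun n hn => ?_⟩
    · let M : Matrix (Fin 2) (Fin 2) ℤ_[p] := Matrix.of fun i j => ((γ.1 i j).val : ℤ_[p])
      have hmap : mt M = γ.1 := Matrix.ext fun i j => by
        show t ((γ.1 i j).val : ℤ_[p]) = γ.1 i j
        rw [map_natCast, ZMod.natCast_zmod_val]
      have hu : IsUnit M.det := by
        by_contra hu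
        have h0 : t M.det = 0 := by
          rw [← RingHom.mem_ker, PadicInt.ker_toZMod]
          exact (IsLocalRing.mem_maximalIdeal _).mpr hu
        rw [RingHom.map_det, show t.mapMatrix M = γ.1 from hmap] at h0
        exact ((Matrix.isUnit_iff_isUnit_det _).mp γ.isUnit).ne_zero h0
      obtain ⟨g, hg⟩ := hs (Matrix.nonsingInvUnit M hu)
      exact ⟨g, Units.ext (by rw [MonoidHom.comp_apply, hg]; exact hmap)⟩
    · have hu : IsUnit (!![1 + (p : ℤ_[p]) ^ n * 1, (p : ℤ_[p]) ^ (n + 1) * 0;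
          (p : ℤ_[p]) ^ (n + 1) * 0, 1 + (p : ℤ_[p]) ^ (n + 1) * 0]).det := by
        rw [Matrix.det_fin_two_of]
        have hm : -((p : ℤ_[p]) ^ n) ∈ nonunits ℤ_[p] := by
          rw [mem_nonunits_iff, IsUnit.neg_iff]
          exact fun h => PadicInt.irreducible_p.not_isUnit ((isUnit_pow_iff (by omega)).mp h)
        have := IsLocalRing.isUnit_one_sub_self_of_mem_nonunits _ hm
        simpa using this
      obtain ⟨g, hg⟩ := hs (Matrix.nonsingInvUnit _ hu)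
      exact ⟨g, 1, 0, 0, 0, PadicInt.irreducible_p.not_dvd_one, congrArg Units.val hg⟩
  rintro ⟨hmod, hdiag⟩
  let P : ℕ → Matrix (Fin 2) (Fin 2) (ZMod p) → Prop := fun n Mb => ∀ M, mt M = Mb →
    ∃ g N, (ϕ g).1 = 1 + (p : ℤ_[p]) ^ n • M + (p : ℤ_[p]) ^ (n + 1) • N
  have hP : ∀ (n : ℕ) M, (∃ g N, (ϕ g).1 = 1 + (p : ℤ_[p]) ^ n • M + (p : ℤ_[p]) ^ (n + 1) • N) → P n (mt M) := by
    rintro n M ⟨g, N, hg⟩ M' hM'
    obtain ⟨K, hK⟩ := hker (M' - M) (by rw [map_sub, hM', sub_self])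
    refine ⟨g, N - K, ?_⟩
    rw [hg, eq_add_of_sub_eq hK, smul_add, smul_sub, smul_smul, pow_succ]
    abel
  have hzero : ∀ n, P n 0 := fun n => by
    simpa using hP n 0 ⟨1, 0, by simp⟩
  have hadd : ∀ n, 1 ≤ n → ∀ a b, P n a → P n b → P n (a + b) := by
    intro n hn a b ha hb
    let L : Matrix (Fin 2) (Fin 2) (ZMod p) → Matrix (Fin 2) (Fin 2) ℤ_[p] := fun x => Matrix.of fun i j => ((x i j).val : ℤ_[p])
    have hL : ∀ x, mt (L x) = x := fun x => Matrix.ext fun i j => by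
      show t ((x i j).val : ℤ_[p]) = x i j
      rw [map_natCast, ZMod.natCast_zmod_val]
    obtain ⟨g, N, hg⟩ := ha _ (hL a)
    obtain ⟨g', N', hg'⟩ := hb _ (hL b)
    rw [← hL a, ← hL b, ← map_add]
    refine hP n _ ⟨g * g', N + N' + (p : ℤ_[p]) ^ (n - 1) • ((L a + (p : ℤ_[p]) • N) * (L b + (p : ℤ_[p]) • N')), ?_⟩
    rw [map_mul, Units.val_mul, hg, hg']
    obtain ⟨m, rfl⟩ : ∃ m, n = m + 1 := ⟨n - 1, by omega⟩
    simp only [mul_add, add_mul, smul_add, one_mul, mul_one, smul_mul_assoc, mul_smul_comm, smul_smul, Nat.add_sub_cancel]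
    ring_nf
    abel
  have hconj : ∀ n (γ : GL (Fin 2) (ZMod p)) a, P n a → P n (γ.1 * a * γ⁻¹.1) := by
    intro n γ a ha
    obtain ⟨M, rfl⟩ : ∃ M, mt M = a := ⟨Matrix.of fun i j => ((a i j).val : ℤ_[p]), Matrix.ext fun i j => by
      show t ((a i j).val : ℤ_[p]) = a i j
      rw [map_natCast, ZMod.natCast_zmod_val]⟩
    obtain ⟨k, rfl⟩ := hmod γ
    obtain ⟨g, N, hg⟩ := ha M rfl
    have : mt ((ϕ k).1 * M * (ϕ k⁻¹).1) = mt (ϕ k).1 * mt M * mt (ϕ k⁻¹).1 := by rw [map_mul, map_mul]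
    rw [show ((Matrix.GeneralLinearGroup.map (n := Fin 2) t).comp ϕ k)⁻¹ =
      (Matrix.GeneralLinearGroup.map (n := Fin 2) t).comp ϕ k⁻¹ from (map_inv _ _).symm]
    show P n (mt (ϕ k).1 * mt M * mt (ϕ k⁻¹).1)
    rw [← this]
    refine hP n _ ⟨k * g * k⁻¹, (ϕ k).1 * N * (ϕ k⁻¹).1, ?_⟩
    rw [map_mul, map_mul, Units.val_mul, Units.val_mul, hg]
    simp only [mul_add, add_mul, mul_one, mul_smul_comm, smul_mul_assoc]
    congr 2
    rw [← Units.val_mul, ← map_mul, mul_inv_cancel, map_one, Units.val_one]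
  have hall : ∀ n, 1 ≤ n → ∀ x, P n x := by
    intro n hn
    obtain ⟨g, a, b, c, d, ha, hg⟩ := hdiag n hn
    let E : Matrix (Fin 2) (Fin 2) (ZMod p) := !![1, 0; 0, 0]
    have hta : t a ≠ 0 := fun h => ha (by
      rwa [← RingHom.mem_ker, PadicInt.ker_toZMod, PadicInt.maximalIdeal_eq_span_p, Ideal.mem_span_singleton] at h)
    have hE : P n (t a • E) := by
      have : mt !![a, 0; 0, 0] = t a • E := Matrix.ext fun i j => by
        fin_cases i <;> fin_cases j <;> simp [mt, E]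
      exact this ▸ hP n _ ⟨g, !![0, b; c, d], hg.trans (Matrix.ext fun i j => by
        fin_cases i <;> fin_cases j <;> simp)⟩
    have hsmul : ∀ (k : ℕ) x, P n x → P n (k • x) := fun k x hx => by
      induction k with
      | zero => rw [zero_smul]; exact hzero n
      | succ k ih => rw [succ_nsmul]; exact hadd n hn _ _ ih hx
    have hscal : ∀ (r : ZMod p) x, P n x → P n (r • x) := fun r x hx => by
      rw [show r • x = r.val • x by rw [← Nat.cast_smul_eq_nsmul (ZMod p), ZMod.natCast_zmod_val]]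
      exact hsmul _ _ hx
    have hE1 : P n E := by simpa [smul_smul, inv_mul_cancel₀ hta] using hscal (t a)⁻¹ _ hE
    let u₁ : GL (Fin 2) (ZMod p) := ⟨!![0, 1; 1, 0], !![0, 1; 1, 0],
      by simp [Matrix.one_fin_two], by simp [Matrix.one_fin_two]⟩
    let u₂ : GL (Fin 2) (ZMod p) := ⟨!![1, -1; 0, 1], !![1, 1; 0, 1],
      by simp [Matrix.one_fin_two], by simp [Matrix.one_fin_two]⟩
    let u₃ : GL (Fin 2) (ZMod p) := ⟨!![1, 0; 1, 1], !![1, 0; -1, 1],
      by simp [Matrix.one_fin_two], by simp [Matrix.one_fin_two]⟩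
    intro x
    have hx : x = (x 0 0 - x 0 1 - x 1 0) • E + x 1 1 • (u₁.1 * E * u₁⁻¹.1) +
        x 0 1 • (u₂.1 * E * u₂⁻¹.1) + x 1 0 • (u₃.1 * E * u₃⁻¹.1) := Matrix.ext fun i j => by
      fin_cases i <;> fin_cases j <;> simp [u₁, u₂, u₃, E] <;> ring
    rw [hx]
    exact hadd n hn _ _ (hadd n hn _ _ (hadd n hn _ _ (hscal _ _ hE1) (hscal _ _ (hconj n u₁ _ hE1)))
      (hscal _ _ (hconj n u₂ _ hE1))) (hscal _ _ (hconj n u₃ _ hE1))
  intro x
  have happrox : ∀ n, ∃ g K, (ϕ g).1 = x.1 + (p : ℤ_[p]) ^ (n + 1) • K := by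
    intro n
    induction n with
    | zero =>
      obtain ⟨g, hg⟩ := hmod (Matrix.GeneralLinearGroup.map (n := Fin 2) t x)
      obtain ⟨K, hK⟩ := hker ((ϕ g).1 - x.1) (by rw [map_sub, sub_eq_zero]; exact congrArg Units.val hg)
      exact ⟨g, K, by rw [pow_one, ← hK, add_sub_cancel]⟩
    | succ n ih =>
      obtain ⟨g, K, hg⟩ := ih
      obtain ⟨g', N, hg'⟩ := hall (n + 1) (Nat.le_add_left 1 n) (mt (-((ϕ g⁻¹).1 * K))) _ rfl
      refine ⟨g * g', (ϕ g).1 * N, ?_⟩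
      have h1 : (ϕ g).1 * (ϕ g⁻¹).1 = 1 := by rw [← Units.val_mul, ← map_mul, mul_inv_cancel, map_one, Units.val_one]
      rw [map_mul, Units.val_mul, hg', mul_add, mul_add, mul_one, mul_smul_comm, mul_smul_comm, mul_neg,
        ← mul_assoc, h1, one_mul, smul_neg, hg]
      abel
  choose g K hK using happrox
  have htend : Filter.Tendsto (fun n => (ϕ (g n)).1) Filter.atTop (nhds x.1) := by
    refine tendsto_pi_nhds.mpr fun i => tendsto_pi_nhds.mpr fun j => ?_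
    rw [tendsto_iff_norm_sub_tendsto_zero]
    refine squeeze_zero (fun n => norm_nonneg _) (fun n => ?_)
      (tendsto_pow_atTop_nhds_zero_of_lt_one (inv_nonneg.mpr (Nat.cast_nonneg p))
        (inv_lt_one_of_one_lt₀ (by exact_mod_cast (Fact.out : p.Prime).one_lt)) |>.comp (Filter.tendsto_add_atTop_nat 1))
    rw [hK n, Matrix.add_apply, add_sub_cancel_left, Matrix.smul_apply, smul_eq_mul, Function.comp_apply]
    refine (norm_mul_le _ _).trans ((mul_le_of_le_one_right (norm_nonneg _) (PadicInt.norm_le_one _)).trans ?_)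
    rw [norm_pow, PadicInt.norm_p]
  obtain ⟨g₀, hg₀⟩ := (isCompact_range hϕ).isClosed.mem_of_tendsto htend
    (Filter.Eventually.of_forall fun n => ⟨g n, rfl⟩)
  exact ⟨g₀, Units.ext hg₀⟩

end Groth.Agent.S15360
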