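import Groth.Statements.S15361
import Mathlib.LinearAlgebra.Matrix.GeneralLinearGroup.Card
import Mathlib.FieldTheory.Finite.GaloisField
import Mathlib.RingTheory.Norm.Defs
import Mathlib.GroupTheory.Perm.Cycle.Type
import Mathlib.LinearAlgebra.Matrix.CharP

set_option autoImplicit false
open GalCoh

namespace Groth.Agent.S15361

theorem result (p : ℕ) [Fact p.Prime]
    (H : Subgroup (GL (Fin 2) (ZMod p))) :
    H = ⊤ ↔
      (∃ (C : Subgroup (GL (Fin 2) (ZMod p))) (E : Subring (Matrix (Fin 2) (Fin 2) (ZMod p))),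
          C ≤ H ∧ IsField E ∧ Nat.card E = p ^ 2 ∧
            (E : Set (Matrix (Fin 2) (Fin 2) (ZMod p))) =
              insert 0 ((fun g : GL (Fin 2) (ZMod p) => (g : Matrix (Fin 2) (Fin 2) (ZMod p))) ''
                (C : Set (GL (Fin 2) (ZMod p))))) ∧
        p ∣ Nat.card H := by
  classical
  have hp : p.Prime := Fact.out
  constructor
  · rintro rfl
    let K := GaloisField p 2
    have hd : Module.finrank (ZMod p) K = 2 := GaloisField.finrank p two_ne_zero
    let b := Module.finBasisOfFinrankEq (ZMod p) K hd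
    let φ : K →+* Matrix (Fin 2) (Fin 2) (ZMod p) := (Algebra.leftMulMatrix b).toRingHom
    have hφ : Function.Injective φ := Algebra.leftMulMatrix_injective b
    refine ⟨⟨(Units.map φ.toMonoidHom).range, φ.range, le_top, ?_, ?_, ?_⟩, ?_⟩
    · exact (RingEquiv.ofBijective φ.rangeRestrict ⟨fun x y h => hφ (congrArg Subtype.val h), φ.rangeRestrict_surjective⟩).symm.toMulEquiv.isField (Field.toIsField K)
    · rw [← GaloisField.card p 2 two_ne_zero]
      exact (Nat.card_congr (Equiv.ofBijective φ.rangeRestrict ⟨fun x y h => hφ (congrArg Subtype.val h), φ.rangeRestrict_surjective⟩)).symm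
    · ext M
      constructor
      · rintro ⟨x, rfl⟩
        rcases eq_or_ne x 0 with rfl | hx
        · exact Or.inl (map_zero φ)
        · exact Or.inr ⟨Units.map φ.toMonoidHom (Units.mk0 x hx), ⟨_, rfl⟩, rfl⟩
      · rintro (rfl | ⟨g, ⟨x, rfl⟩, rfl⟩)
        · exact zero_mem _
        · exact ⟨x, rfl⟩
    · rw [Subgroup.card_top]
      let w : GL (Fin 2) (ZMod p) := ⟨!![1, 1; 0, 1], !![1, -1; 0, 1], by simp [Matrix.one_fin_two], by simp [Matrix.one_fin_two]⟩
      have hpow : ∀ k : ℕ, (w ^ k).1 = !![1, (k : ZMod p); 0, 1] := fun k => by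
        induction k with
        | zero => simp [Matrix.one_fin_two]
        | succ k ih => rw [pow_succ, Units.val_mul, ih]; simp [w, add_comm]
      have hw : orderOf w = p := by
        refine orderOf_eq_prime (Units.ext (by rw [hpow]; simp [Matrix.one_fin_two])) fun h => ?_
        have h1 := congrArg (fun g : GL (Fin 2) (ZMod p) => g.1 0 1) h
        simp [w] at h1
      have := orderOf_dvd_natCard w
      rwa [hw] at this
  rintro ⟨⟨C, E, hCH, hE, hcard, hset⟩, hdvd⟩
  let := hE.toField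
  have : Finite E := Nat.finite_of_card_ne_zero (by rw [hcard]; exact pow_ne_zero _ hp.ne_zero)
  have hCE : ∀ e : E, e ≠ 0 → ∃ g ∈ H, g.1 = e.1 := fun e he => by
    have h : e.1 ∈ (E : Set (Matrix (Fin 2) (Fin 2) (ZMod p))) := e.2
    rw [hset] at h
    rcases h with h | ⟨g, hg, hge⟩
    · exact absurd (Subtype.ext h) he
    · exact ⟨g, hCH hg, hge⟩
  -- transitivity on non-zero vectors
  have htrans : ∀ v w : Fin 2 → ZMod p, v ≠ 0 → w ≠ 0 → ∃ g ∈ H, Matrix.mulVec g.1 v = w := by
    intro v w hv hw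
    have hinj : Function.Injective fun e : E => Matrix.mulVec e.1 v := by
      intro x y hxy
      by_contra hne
      obtain ⟨g, -, hg⟩ := hCE (x - y) (sub_ne_zero.mpr hne)
      have h0 : Matrix.mulVec g.1 v = 0 := by
        rw [hg]
        show Matrix.mulVec (x.1 - y.1) v = 0
        rw [Matrix.sub_mulVec, show Matrix.mulVec x.1 v = Matrix.mulVec y.1 v from hxy, sub_self]
      apply hv
      have := congrArg (Matrix.mulVec g⁻¹.1) h0
      rwa [Matrix.mulVec_mulVec, Matrix.mulVec_zero, ← Units.val_mul, inv_mul_cancel, Units.val_one, Matrix.one_mulVec] at this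
    obtain ⟨e, he⟩ := (hinj.bijective_of_nat_card_le (by rw [hcard]; simp)).2 w
    obtain ⟨g, hgH, hg⟩ := hCE e (fun h => hw (by rw [← he, h]; exact Matrix.zero_mulVec v))
    exact ⟨g, hgH, hg ▸ he⟩
  -- determinants
  have hdet : ∀ r : (ZMod p)ˣ, ∃ g ∈ H, g.1.det = r := by
    obtain ⟨γ, hγ⟩ := IsCyclic.exists_generator (α := Eˣ)
    have hord : orderOf γ = p ^ 2 - 1 := by
      rw [orderOf_eq_card_of_forall_mem_zpowers hγ, Nat.card_units, hcard]
    set G := (γ : E).1 with hG
    let d := G.det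
    have hCH2 : G * G + d • 1 = G.trace • G := by
      ext i j
      fin_cases i <;> fin_cases j <;>
        simp [d, Matrix.det_fin_two, Matrix.trace_fin_two, Matrix.mul_apply, Fin.sum_univ_two] <;> ring
    have hCp : G ^ p * G ^ p + d • 1 = G.trace • G ^ p := by
      have := congrArg (· ^ p) hCH2
      rwa [add_pow_char_of_commute p ((Commute.one_right (G * G)).smul_right d), smul_pow, smul_pow, one_pow, ZMod.pow_card, ZMod.pow_card,
        (Commute.refl G).mul_pow] at this
    have hprod : (G ^ p - G) * (G ^ p + G - G.trace • 1) = 0 := by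
      have h1 : G ^ p * G = G * G ^ p := (Commute.pow_self G p).eq
      rw [mul_sub, sub_mul, mul_add, mul_add, mul_smul_comm, mul_one, h1, smul_sub, ← hCp, ← hCH2]
      abel
    have hmem : ∀ k : ℕ, (k : ZMod p) • (1 : Matrix (Fin 2) (Fin 2) (ZMod p)) ∈ E := fun k => by
      rw [Nat.cast_smul_eq_nsmul]; exact nsmul_mem (one_mem E) k
    have htE : G.trace • (1 : Matrix (Fin 2) (Fin 2) (ZMod p)) ∈ E := by
      have := hmem G.trace.val
      rwa [ZMod.natCast_zmod_val] at this
    have hne : (γ : E) ^ p ≠ γ := fun h => by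
      have h1 : γ ^ (p - 1) = 1 := by
        have : γ ^ (p - 1) * γ = 1 * γ := by
          rw [← pow_succ, Nat.sub_add_cancel hp.one_le, one_mul]; exact Units.ext (by rw [Units.val_pow_eq_pow_val, h])
        exact mul_right_cancel this
      have := Nat.le_of_dvd (by have := hp.two_le; omega) (hord ▸ orderOf_dvd_of_pow_eq_one h1)
      have h2 : p * 2 ≤ p ^ 2 := by rw [pow_two]; exact Nat.mul_le_mul_left p hp.two_le
      have := hp.two_le
      omega
    have hfac : G ^ p + G - G.trace • 1 = 0 := by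
      have h0 : ((γ : E) ^ p - γ) * ((γ : E) ^ p + γ - ⟨_, htE⟩) = 0 := Subtype.ext hprod
      exact congrArg Subtype.val ((mul_eq_zero.mp h0).resolve_left (sub_ne_zero.mpr hne))
    have hnorm : G ^ (p + 1) = d • 1 := by
      rw [pow_succ, eq_sub_of_add_eq (sub_eq_zero.mp hfac), sub_mul, smul_mul_assoc, one_mul, ← hCH2]
      abel
    have hd0 : d ≠ 0 := fun h0 => by
      rw [h0, zero_smul] at hnorm
      exact (γ ^ (p + 1)).ne_zero (Subtype.ext (by rw [Units.val_pow_eq_pow_val]; exact hnorm))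
    have hdord : ∀ k : ℕ, d ^ k = 1 → p - 1 ∣ k := fun k hk => by
      have h1 : γ ^ ((p + 1) * k) = 1 := Units.ext (Subtype.ext (by
        rw [Units.val_pow_eq_pow_val]
        show G ^ ((p + 1) * k) = 1
        rw [pow_mul, hnorm, smul_pow, hk, one_pow, one_smul]))
      have h2 := hord ▸ orderOf_dvd_of_pow_eq_one h1
      rw [show p ^ 2 - 1 = (p + 1) * (p - 1) by rw [show (1 : ℕ) = 1 ^ 2 by norm_num, Nat.sq_sub_sq, one_pow]] at h2
      exact Nat.dvd_of_mul_dvd_mul_left (by omega) h2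
    intro r
    let du : (ZMod p)ˣ := Units.mk0 d hd0
    have hgen : Subgroup.zpowers du = ⊤ := by
      refine Subgroup.eq_top_of_card_eq _ ((Nat.card_zpowers du).trans (Nat.dvd_antisymm (orderOf_dvd_natCard du) ?_))
      rw [Nat.card_units, Nat.card_zmod]
      exact hdord _ (by rw [← Units.val_mk0 hd0, ← Units.val_pow_eq_pow_val, pow_orderOf_eq_one, Units.val_one])
    obtain ⟨k, hk⟩ := (mem_powers_iff_mem_zpowers.mpr (hgen ▸ Subgroup.mem_top r) : r ∈ Submonoid.powers du)
    obtain ⟨g, hgH, hg⟩ := hCE γ γ.ne_zero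
    exact ⟨g ^ k, H.pow_mem hgH k, by rw [Units.val_pow_eq_pow_val, hg, Matrix.det_pow, ← hk, Units.val_pow_eq_pow_val, Units.val_mk0]⟩
  -- transvections
  have helt : ∀ v : Fin 2 → ZMod p, v ≠ 0 → ∃ g ∈ H, g ≠ 1 ∧ g.1.det = 1 ∧ Matrix.mulVec g.1 v = v := by
    intro v hv
    obtain ⟨u, hu⟩ := exists_prime_orderOf_dvd_card' p hdvd
    have hup : (u : GL (Fin 2) (ZMod p)).1 ^ p = 1 := by
      have h1 := pow_orderOf_eq_one u
      rw [hu] at h1
      rw [← Units.val_pow_eq_pow_val, ← Subgroup.coe_pow, h1]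
      rfl
    set U := (u : GL (Fin 2) (ZMod p)).1 with hU
    have hdetU : U.det = 1 := by
      have := congrArg Matrix.det hup
      rwa [Matrix.det_pow, Matrix.det_one, ZMod.pow_card] at this
    have hnil : (U - 1).det = 0 := by
      have h1 : (U - 1) ^ p = 0 := by rw [sub_pow_char_of_commute p (Commute.one_right U), hup, one_pow, sub_self]
      have := congrArg Matrix.det h1
      rw [Matrix.det_pow, ZMod.pow_card] at this
      exact this.trans Matrix.det_zero
    obtain ⟨w, hw0, hw⟩ := Matrix.exists_mulVec_eq_zero_iff.mpr hnil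
    rw [Matrix.sub_mulVec, Matrix.one_mulVec, sub_eq_zero] at hw
    obtain ⟨h, hhH, hhw⟩ := htrans w v hw0 hv
    refine ⟨h * u * h⁻¹, H.mul_mem (H.mul_mem hhH u.2) (H.inv_mem hhH), fun h1 => ?_, ?_, ?_⟩
    · rw [mul_inv_eq_one, mul_eq_left] at h1
      rw [show u = 1 from Subtype.ext h1, orderOf_one] at hu
      exact hp.ne_one hu.symm
    · rw [Units.val_mul, Units.val_mul, Matrix.det_units_conj, ← hU, hdetU]
    · rw [← hhw, Matrix.mulVec_mulVec, ← Units.val_mul, inv_mul_cancel_right, Units.val_mul, ← Matrix.mulVec_mulVec, ← hU, hw]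
  have hnat : ∀ (a t : ZMod p), a ≠ 0 → (((t / a).val : ℕ) : ZMod p) * a = t := fun a t ha => by
    rw [ZMod.natCast_zmod_val, div_mul_cancel₀ _ ha]
  have hUp : ∀ t : ZMod p, ∃ g ∈ H, g.1 = !![1, t; 0, 1] := by
    obtain ⟨g, hgH, hg1, hgd, hgv⟩ := helt ![1, 0] (fun h => one_ne_zero (congrFun h 0))
    have e0 : g.1 0 0 = 1 := by simpa [Matrix.mulVec, dotProduct] using congrFun hgv 0
    have e1 : g.1 1 0 = 0 := by simpa [Matrix.mulVec, dotProduct] using congrFun hgv 1
    have e2 : g.1 1 1 = 1 := by simpa [Matrix.det_fin_two, e0, e1] using hgd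
    have hgm : g.1 = !![1, g.1 0 1; 0, 1] := by ext i j; fin_cases i <;> fin_cases j <;> simp [e0, e1, e2]
    have ha : g.1 0 1 ≠ 0 := fun h => hg1 (Units.ext (by rw [hgm, h]; simp [Matrix.one_fin_two]))
    have hpow : ∀ k : ℕ, (g ^ k).1 = !![1, (k : ZMod p) * g.1 0 1; 0, 1] := fun k => by
      induction k with
      | zero => simp [Matrix.one_fin_two]
      | succ k ih =>
        rw [pow_succ, Units.val_mul, ih]
        conv_lhs => arg 2; rw [hgm]
        simp [add_mul, add_comm]
    intro t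
    exact ⟨g ^ (t / g.1 0 1).val, H.pow_mem hgH _, by rw [hpow, hnat _ _ ha]⟩
  have hLo : ∀ t : ZMod p, ∃ g ∈ H, g.1 = !![1, 0; t, 1] := by
    obtain ⟨g, hgH, hg1, hgd, hgv⟩ := helt ![0, 1] (fun h => one_ne_zero (congrFun h 1))
    have e0 : g.1 0 1 = 0 := by simpa [Matrix.mulVec, dotProduct] using congrFun hgv 0
    have e1 : g.1 1 1 = 1 := by simpa [Matrix.mulVec, dotProduct] using congrFun hgv 1
    have e2 : g.1 0 0 = 1 := by simpa [Matrix.det_fin_two, e0, e1] using hgd
    have hgm : g.1 = !![1, 0; g.1 1 0, 1] := by ext i j; fin_cases i <;> fin_cases j <;> simp [e0, e1, e2]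
    have ha : g.1 1 0 ≠ 0 := fun h => hg1 (Units.ext (by rw [hgm, h]; simp [Matrix.one_fin_two]))
    have hpow : ∀ k : ℕ, (g ^ k).1 = !![1, 0; (k : ZMod p) * g.1 1 0, 1] := fun k => by
      induction k with
      | zero => simp [Matrix.one_fin_two]
      | succ k ih =>
        rw [pow_succ, Units.val_mul, ih]
        conv_lhs => arg 2; rw [hgm]
        simp [add_mul]
    intro t
    exact ⟨g ^ (t / g.1 1 0).val, H.pow_mem hgH _, by rw [hpow, hnat _ _ ha]⟩
  have hSL : ∀ g : GL (Fin 2) (ZMod p), g.1.det = 1 → g.1 1 0 ≠ 0 → g ∈ H := by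
    intro g hg hc
    rw [Matrix.det_fin_two] at hg
    obtain ⟨a, ha, ha'⟩ := hUp ((g.1 0 0 - 1) / g.1 1 0)
    obtain ⟨b, hb, hb'⟩ := hLo (g.1 1 0)
    obtain ⟨c, hc1, hc'⟩ := hUp ((g.1 1 1 - 1) / g.1 1 0)
    convert H.mul_mem (H.mul_mem ha hb) hc1
    refine Units.ext ?_
    rw [Units.val_mul, Units.val_mul, ha', hb', hc']
    ext i j
    fin_cases i <;> fin_cases j <;> simp <;> field_simp <;> (first | ring1 | linear_combination -hg)
  have hSL' : ∀ g : GL (Fin 2) (ZMod p), g.1.det = 1 → g ∈ H := by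
    intro g hg
    by_cases hc : g.1 1 0 = 0
    · obtain ⟨b, hb, hb'⟩ := hLo 1
      have h1 : (b * g).1.det = 1 := by rw [Units.val_mul, Matrix.det_mul, hg, mul_one, hb']; simp [Matrix.det_fin_two]
      have h2 : (b * g).1 1 0 ≠ 0 := by
        rw [Units.val_mul, hb']
        rw [Matrix.det_fin_two, hc, mul_zero, sub_zero] at hg
        simpa [Matrix.mul_apply, Fin.sum_univ_two, hc] using left_ne_zero_of_mul_eq_one hg
      exact (H.mul_mem_cancel_left hb).mp (hSL _ h1 h2)
    · exact hSL g hg hc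
  rw [eq_top_iff]
  intro g _
  obtain ⟨c, hcH, hc⟩ := hdet (Matrix.GeneralLinearGroup.det g)
  have h1 : (c⁻¹ * g).1.det = 1 := by
    rw [Units.val_mul, Matrix.det_mul, show g.1.det = c.1.det from hc.symm, ← Matrix.det_mul, ← Units.val_mul, inv_mul_cancel, Units.val_one, Matrix.det_one]
  exact (H.mul_mem_cancel_left (H.inv_mem hcH)).mp (hSL' _ h1)

end Groth.Agent.S15361
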