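import Groth.Statements.S15362
import Groth.Agent.SigmaLin26.Frob
-- import your own Groth.Agent.* helpers here

set_option autoImplicit false
universe u v w
open CAlg

namespace Groth.Agent.S15362

/-- For an algebraically closed field L of characteristic p > 0, a commutative L-algebra R integral over
L, and a finitely presented R-module M carrying an additive endomorphism φ with φ(r·m) = r^p·φ(m)
for r ∈ R, m ∈ M, the map m ↦ φ(m) − m is onto. (R is taken of exponential characteristic p so that
its Frobenius is a ring endomorphism; for a non-zero L-algebra this is automatic.) -/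
theorem result (p : ℕ) [Fact p.Prime]
    (L : Type u) [Field L] [IsAlgClosed L] [CharP L p]
    (R : Type v) [CommRing R] [Algebra L R] [Algebra.IsIntegral L R] [ExpChar R p]
    (M : Type w) [AddCommGroup M] [Module R M] [Module.FinitePresentation R M]
    (φ : M →ₛₗ[frobenius R p] M) :
    Function.Surjective fun m : M => φ m - m := by
  classical
  obtain ⟨n, g, hg⟩ := Module.Finite.exists_fin' R M
  choose a ha using fun j : Fin n => hg (φ (g (Pi.single j 1)))
  intro m
  obtain ⟨c, rfl⟩ := hg m
  let S : Set R := Set.range (fun q : Fin n × Fin n => a q.1 q.2) ∪ Set.range c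
  have hSfin : S.Finite := (Set.finite_range _).union (Set.finite_range _)
  let R0 := Algebra.adjoin L S
  haveI : Module.Finite L R0 :=
    Module.Finite.iff_fg.2 (fg_adjoin_of_finite hSfin fun x _ => Algebra.IsIntegral.isIntegral x)
  let a' : Fin n → Fin n → R0 := fun j i =>
    ⟨a j i, Algebra.subset_adjoin (Or.inl ⟨(j, i), rfl⟩)⟩
  let T : (Fin n → R0) →ₛₗ[frobenius L p] (Fin n → R0) :=
    { toFun := fun v i => ∑ j, v j ^ p * a' j i
      map_add' := fun x y => by
        funext i
        apply Subtype.ext
        simp only [Pi.add_apply, AddMemClass.coe_add, AddSubmonoidClass.coe_finsetSum, MulMemClass.coe_mul,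
          SubmonoidClass.coe_pow, add_pow_expChar, add_mul, Finset.sum_add_distrib]
      map_smul' := fun r x => by
        funext i
        apply Subtype.ext
        simp only [Pi.smul_apply, AddSubmonoidClass.coe_finsetSum, MulMemClass.coe_mul,
          SubmonoidClass.coe_pow, SetLike.val_smul, Algebra.smul_def, map_pow, frobenius_def, mul_pow,
          Finset.mul_sum, mul_assoc] }
  obtain ⟨v, hv⟩ := Groth.Agent.SigmaLin26.sub_surjective (σ := frobenius L p)
    (fun x => by
      obtain ⟨y, hy⟩ := IsAlgClosed.exists_pow_nat_eq x (Fact.out : p.Prime).pos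
      exact ⟨y, by rw [frobenius_def, hy]⟩)
    Groth.Agent.SigmaLin26.frob_solvable₁ Groth.Agent.SigmaLin26.frob_solvable₂ T
    (fun i => - ⟨c i, Algebra.subset_adjoin (Or.inr ⟨i, rfl⟩)⟩)
  refine ⟨g fun i => (v i : R), ?_⟩
  have key : ∀ w : Fin n → R0, φ (g fun i => (w i : R)) = g fun i => (T w i : R) := by
    intro w
    have h1 : (fun i => (w i : R)) = ∑ j, (w j : R) • (Pi.single j 1 : Fin n → R) :=
      pi_eq_sum_univ' _
    have h2 : (fun i => (T w i : R)) = ∑ j, ((w j : R) ^ p) • a j := by
      funext i
      simp [T, a', Finset.sum_apply, AddSubmonoidClass.coe_finsetSum]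
    rw [h1, h2, map_sum, map_sum, map_sum]
    refine Finset.sum_congr rfl fun j _ => ?_
    rw [map_smul, LinearMap.map_smulₛₗ, ← ha, map_smul, frobenius_def]
  show φ _ - _ = g c
  rw [key, ← map_sub]
  congr 1
  funext i
  have := congrArg (fun z : R0 => (z : R)) (congrFun hv i)
  simp only [Pi.sub_apply, AddSubgroupClass.coe_sub, NegMemClass.coe_neg] at this ⊢
  linear_combination -this

end Groth.Agent.S15362
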