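import Groth.Statements.S15363
import Mathlib
import Groth.Prelude.Def_SekSuwa2

set_option autoImplicit false
set_option linter.style.haveILetI false
set_option linter.style.longLine false
universe u
open CategoryTheory AlgebraicGeometry
open SekSuwa

namespace Groth.Agent.S15363

theorem ringHom_eq {R : Type u} [CommRing R] {lam : R} {p : ℕ} (h : SekSuwa.DivCond lam p) {B : Type u} [CommRing B]
    (σ : R →+* B) (hflat : σ.Flat) (φ ψ : SekSuwa.AK R lam p h →+* B)
    (hφ : φ.comp (algebraMap R _) = σ) (hψ : ψ.comp (algebraMap R _) = σ)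
    (hu : φ (1 + lam • SekSuwa.AK.t) = ψ (1 + lam • SekSuwa.AK.t)) : φ = ψ := by
  letI := σ.toAlgebra
  let φ' : SekSuwa.AK R lam p h →ₐ[R] B := { φ with commutes' := fun r => RingHom.congr_fun hφ r }
  let ψ' : SekSuwa.AK R lam p h →ₐ[R] B := { ψ with commutes' := fun r => RingHom.congr_fun hψ r }
  change φ' _ = ψ' _ at hu
  rw [map_add, map_add, map_one, map_one, map_smul, map_smul, add_right_inj] at hu
  have hlam : IsSMulRegular R lam := fun a b e => SekSuwa.cancel_nzd (SekSuwa.DivCond.nzd h) e
  haveI : Module.Flat R B := hflat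
  have ht : φ' SekSuwa.AK.t = ψ' SekSuwa.AK.t := hlam.of_flat hu
  have h1 : (1 + lam • (SekSuwa.AK.t : SekSuwa.AK R lam p h)) * SekSuwa.AK.inv = 1 := by
    rw [← SekSuwa.AK.mkHom_u]
    show SekSuwa.AK.mkHom R lam p h SekSuwa.A.u * SekSuwa.AK.mkHom R lam p h SekSuwa.A.inv = 1
    rw [← map_mul, SekSuwa.A.u_mul_inv, map_one]
  have hinv : φ' SekSuwa.AK.inv = ψ' SekSuwa.AK.inv := by
    have a1 := congrArg φ' h1
    have a2 := congrArg ψ' h1
    rw [map_mul, map_one, map_add, map_one, map_smul] at a1 a2
    rw [ht] at a1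
    exact (IsUnit.of_mul_eq_one _ a2).mul_left_cancel (a1.trans a2.symm)
  exact congrArg AlgHom.toRingHom (SekSuwa.AK.algHom_ext (f := φ') (g := ψ') ht hinv)

/-- Let R be an integral domain, p a prime and λ ∈ R a non-zero element with λ^p dividing (1 + λX)^p −
1, so that the congruence group scheme G_λ = Spec R[T]/(P_λ(T)) of level λ and its homomorphism θ_λ
: G_λ → μ_p, X ↦ 1 + λT, are defined. For every scheme G flat over Spec R, composition with θ_λ is
injective on R-morphisms G → G_λ; in particular θ_λ induces an injective map from the homomorphisms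
G → G_λ of a flat R-group scheme G to its homomorphisms G → μ_p. (The published statement is over
the ring of integers of an algebraic closure of a complete discretely valued field of mixed
characteristic, for finite flat commutative group schemes killed by p; the published argument, that
θ_λ is an isomorphism on the generic fibre and G is flat, gives the form stated here.) -/
theorem result (R : Type u) [CommRing R] [IsDomain R]
    (p : ℕ) [Fact p.Prime] (lam : R) (h : SekSuwa.DivCond lam p)
    (G : Over (Spec (CommRingCat.of R))) [Flat G.hom]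
    (f g : G ⟶ SekSuwa.GK R lam p h)
    (hfg : f ≫ SekSuwa.alphaN R lam p h = g ≫ SekSuwa.alphaN R lam p h) : f = g := by
  ext1
  refine Scheme.Cover.hom_ext G.left.affineCover _ _ fun j => ?_
  let e := fun k : G ⟶ SekSuwa.GK R lam p h => G.left.affineCover.f j ≫ k.left
  obtain ⟨φ, hφ⟩ := Spec.map_surjective (e f)
  obtain ⟨ψ, hψ⟩ := Spec.map_surjective (e g)
  obtain ⟨σ, hσ⟩ := Spec.map_surjective (G.left.affineCover.f j ≫ G.hom)
  have hflat : σ.hom.Flat := by
    rw [← Flat.SpecMap_iff, hσ]
    haveI h1 : IsOpenImmersion (G.left.affineCover.f j) := inferInstance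
    haveI h2 : Flat (G.left.affineCover.f j) := inferInstance
    exact MorphismProperty.comp_mem _ _ _ h2 ‹Flat G.hom›
  have hst : ∀ k : G ⟶ SekSuwa.GK R lam p h, ∀ κ, Spec.map κ = e k →
      CommRingCat.ofHom (algebraMap R (SekSuwa.AK R lam p h)) ≫ κ = σ := by
    intro k κ hκ
    apply Spec.map_injective
    rw [Spec.map_comp, hκ, hσ]
    show (G.left.affineCover.f j ≫ k.left) ≫ _ = _
    rw [Category.assoc]
    exact congrArg (G.left.affineCover.f j ≫ ·) (Over.w k)
  have hfa := hst f φ hφ
  have hga := hst g ψ hψ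
  have hcomp : CommRingCat.ofHom (SekSuwa.alphaNHom R lam p h : MonoidAlgebra R (Multiplicative (ZMod p)) →+* SekSuwa.AK R lam p h) ≫ φ =
      CommRingCat.ofHom (SekSuwa.alphaNHom R lam p h : MonoidAlgebra R (Multiplicative (ZMod p)) →+* SekSuwa.AK R lam p h) ≫ ψ := by
    apply Spec.map_injective
    rw [Spec.map_comp, Spec.map_comp, hφ, hψ]
    show (G.left.affineCover.f j ≫ f.left) ≫ _ = (G.left.affineCover.f j ≫ g.left) ≫ _
    rw [Category.assoc, Category.assoc]
    exact congrArg (G.left.affineCover.f j ≫ ·) (congrArg CommaMorphism.left hfg)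
  have hu : φ.hom (1 + lam • SekSuwa.AK.t) = ψ.hom (1 + lam • SekSuwa.AK.t) := by
    have h3 := ConcreteCategory.congr_hom hcomp (MonoidAlgebra.single (Multiplicative.ofAdd (1 : ZMod p)) 1)
    have h4 := SekSuwa.alphaNHom_single_one R lam p h
    exact (congrArg φ.hom h4.symm).trans (Eq.trans h3 (congrArg ψ.hom h4))
  have : φ = ψ := CommRingCat.hom_ext (ringHom_eq h σ.hom hflat φ.hom ψ.hom
    (congrArg CommRingCat.Hom.hom hfa) (congrArg CommRingCat.Hom.hom hga) hu)
  show e f = e g
  rw [← hφ, ← hψ, this]

end Groth.Agent.S15363
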