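import Groth.Statements.S15364
import Groth.Agent.AbSch7.SmoothFib
import Groth.Agent.Stein58.FinitePoints

set_option autoImplicit false
universe u
open CategoryTheory CategoryTheory.Limits MonoidalCategory CartesianMonoidalCategory AlgebraicGeometry
open AbSch

namespace Groth.Agent.S15364

/-- For an abelian scheme f : A → T (a commutative T-group scheme, proper and smooth over T with
geometrically connected fibres) and a commutative group scheme H finite and locally free over T, the
adjunction map H → f_* f^* H of fppf sheaves on T is an isomorphism, i.e. for every T-scheme U the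
map H(U) → H(A ×_T U), s ↦ s ∘ pr, is bijective. This row states the case U = T, to which the
general case reduces by base change: composition with the structure morphism A → T is a bijection
from the sections of H over T onto the T-morphisms A → H. The group structure of H plays no role and
is not assumed. (The published statement has an arbitrary base T; the published argument rests on
the rigidity lemma in its form for Noetherian schemes, so T is taken locally Noetherian here.) -/
theorem result {T : Scheme.{u}} [IsLocallyNoetherian T]
    (A : Over T) [GrpObj A] [IsCommMonObj A] [IsProper A.hom] [Smooth A.hom] [GeometricallyConnected A.hom]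
    (H : Over T) [IsFinite H.hom] [Flat H.hom] [LocallyOfFinitePresentation H.hom] :
    Function.Bijective fun s : (𝟙_ (Over T) ⟶ H) => toUnit A ≫ s := by
  have hf0 := AbSch7.h0Fib_of_smooth A.hom
  have : Surjective A.hom := AbSch7.surjective_of_h0Fib hf0
  have hb : ∀ U, Function.Bijective (A.hom.app U).hom := fun U => AbSch7.app_bijective A.hom hf0 U
  have hepi : Epi A.hom := AbSch7.epi_of_app_injective A.hom fun U => (hb U).1
  refine ⟨fun s₁ s₂ h => ?_, fun φ => ?_⟩
  · refine Over.OverMorphism.ext ?_
    have h' := congrArg (fun m : A ⟶ H => m.left) h
    simp only [Over.comp_left, Over.toUnit_left] at h'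
    exact (cancel_epi A.hom).1 h'
  · have hall : ∀ t, t ∈ AbSch7.collapsed A.hom φ.left := by
      intro t
      have hsub : ∀ x : A.left, A.hom x = t → φ.left x ∈ Set.range (H.hom.fiberι t) := fun x hx => by
        rw [Scheme.Hom.range_fiberι, Set.mem_preimage, Set.mem_singleton_iff, ← Scheme.Hom.comp_apply,
          Over.w, hx]
      have hc := (A.hom.isConnected_preimage_singleton t).image φ.left φ.left.continuous.continuousOn
      have : IsFinite (H.hom.fiberToSpecResidueField t) :=
        MorphismProperty.of_isPullback (IsPullback.of_hasPullback H.hom (T.fromSpecResidueField t))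
          (inferInstance : IsFinite H.hom)
      have hdisc : DiscreteTopology ↥(H.hom.fiber t) :=
        @Stein58.discreteTopology_of_isFinite (T.residueField t) _ _ (H.hom.fiberToSpecResidueField t) this
      have hpre : _root_.IsPreconnected ((H.hom.fiberι t) ⁻¹' (φ.left '' (A.hom ⁻¹' {t}))) := by
        rw [← (H.hom.fiberι t).isEmbedding.isInducing.isPreconnected_image,
          Set.image_preimage_eq_of_subset (by rintro _ ⟨x, hx, rfl⟩; exact hsub x hx)]
        exact hc.isPreconnected
      obtain ⟨x0, hx0⟩ := A.hom.surjective t
      refine ⟨φ.left x0, fun x hx => ?_⟩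
      obtain ⟨z, hz⟩ := hsub x hx
      obtain ⟨z0, hz0⟩ := hsub x0 hx0
      rw [← hz, ← hz0, hpre.subsingleton (show z ∈ _ from ⟨x, hx, hz.symm⟩)
        (show z0 ∈ _ from ⟨x0, hx0, hz0.symm⟩)]
    obtain ⟨k, hk⟩ := AbSch7.exists_factor_of_forall_collapsed A.hom hb A.hom.isClosedMap φ.left hall
    refine ⟨Over.homMk k ?_, Over.OverMorphism.ext ?_⟩
    · show k ≫ H.hom = 𝟙 T
      rw [← cancel_epi A.hom, ← Category.assoc, hk, Over.w, Category.comp_id]
    · simp [hk]

end Groth.Agent.S15364
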