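import Groth.Statements.S15365
import Groth.Agent.CAlg24.PLie
import Mathlib.RingTheory.Smooth.StandardSmoothOfFree
import Mathlib.LinearAlgebra.Matrix.ToLinearEquiv
-- import your own Groth.Agent.* helpers here

set_option autoImplicit false
universe u
open scoped BigOperators
open CAlg

namespace Groth.Agent.S15365

/-- Let A be a commutative ring of characteristic p > 0 and (h_{ij})_{1 ≤ i,j ≤ n} a square matrix over
A, the matrix of a commutative p-Lie algebra (L, φ) with L free with basis e_1, …, e_n and φ(e_j) =
Σ_i h_{ij} e_i. The associated finite group scheme Spec A[X_1, …, X_n]/(X_j^p − Σ_i h_{ij} X_i)_{1 ≤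
j ≤ n} is étale over A if and only if the matrix (h_{ij}) is invertible, i.e. its determinant is a
unit of A. Only the algebra structure enters this assertion. -/
theorem result (p : ℕ) [Fact p.Prime]
    (A : Type u) [CommRing A] [CharP A p] (n : ℕ) (h : Matrix (Fin n) (Fin n) A) :
    Algebra.Etale A (MvPolynomial (Fin n) A ⧸ Ideal.span (Set.range fun j : Fin n =>
        (MvPolynomial.X j : MvPolynomial (Fin n) A) ^ p -
          ∑ i : Fin n, MvPolynomial.C (h i j) * MvPolynomial.X i)) ↔
      IsUnit h.det := by
  classical
  let v : Fin n → MvPolynomial (Fin n) A := fun j =>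
    (MvPolynomial.X j : MvPolynomial (Fin n) A) ^ p -
      ∑ i : Fin n, MvPolynomial.C (h i j) * MvPolynomial.X i
  show Algebra.Etale A (MvPolynomial (Fin n) A ⧸ Ideal.span (Set.range v)) ↔ IsUnit h.det
  constructor
  · intro het
    by_contra hu
    obtain ⟨m, hm, hhm⟩ := Ideal.exists_le_maximal (Ideal.span {h.det}) (by rwa [Ne, Ideal.span_singleton_eq_top])
    letI := Ideal.Quotient.field m
    set π := Ideal.Quotient.mk m with hπ
    have hdet : (h.map π).det = 0 := by
      rw [← RingHom.mapMatrix_apply, ← RingHom.map_det, Ideal.Quotient.eq_zero_iff_mem]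
      exact hhm (Ideal.mem_span_singleton_self _)
    obtain ⟨c, hc0, hc⟩ := Matrix.exists_vecMul_eq_zero_iff.2 hdet
    exact hc0 (Groth.Agent.CAlg24.eq_zero_of_formallyUnramified p (Fact.out : p.Prime).two_le h v
      (fun _ => rfl) (A ⧸ m) c hc)
  · intro hu
    let P := Algebra.PreSubmersivePresentation.naive (v := v) id Function.injective_id
    have hj : IsUnit P.jacobian := by
      rw [Algebra.PreSubmersivePresentation.jacobian_eq_jacobiMatrix_det]
      apply IsUnit.map
      have hM : P.jacobiMatrix = (-h).map MvPolynomial.C := by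
        ext i j
        rw [Algebra.PreSubmersivePresentation.jacobiMatrix_naive]
        simp [v, MvPolynomial.pderiv_X, Pi.single_apply, Finset.sum_ite_eq, mul_ite]
      rw [hM, ← RingHom.mapMatrix_apply, ← RingHom.map_det, Matrix.det_neg]
      exact (((isUnit_one.neg).pow _).mul hu).map _
    rw [Algebra.Etale.iff_isStandardSmoothOfRelativeDimension_zero]
    exact Algebra.SubmersivePresentation.isStandardSmoothOfRelativeDimension ⟨P, hj⟩
      (by simp [Algebra.Presentation.dimension])

end Groth.Agent.S15365
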