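import Groth.Statements.S15366
import Mathlib
import Groth.Agent.CAlgH2.PowerN2

set_option autoImplicit false
universe u
open CAlg

namespace Groth.Agent.S15366

/-- Let k be an algebraically closed field of characteristic p > 0, R = k[[t₁, t₂]], and O = R_{(t₁)}
the local ring of Spec R at the generic point x of the divisor t₁ = 0 (a discrete valuation ring,
with uniformizer t₁ and residue field k((t₂))). Then O embeds, by an injective local k-algebra map
φ, into some complete discrete valuation ring A containing k whose residue field is algebraically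
closed and in which φ(t₁) is still a uniformizer. The prime ideal (t₁) is passed as an ideal P equal
to it together with its primality. -/
theorem result
    (p : ℕ) [Fact p.Prime] (k : Type u) [Field k] [IsAlgClosed k] [CharP k p]
    (P : Ideal (MvPowerSeries (Fin 2) k))
    (hP : P = Ideal.span {(MvPowerSeries.X 0 : MvPowerSeries (Fin 2) k)}) [P.IsPrime] :
    ∃ (A : Type u) (_ : CommRing A) (_ : IsDomain A) (_ : IsDiscreteValuationRing A) (_ : Algebra k A)
      (φ : Localization.AtPrime P →ₐ[k] A),
      IsAdicComplete (IsLocalRing.maximalIdeal A) A ∧ IsAlgClosed (IsLocalRing.ResidueField A) ∧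
        Function.Injective φ ∧ IsLocalHom φ.toRingHom ∧
          Irreducible (φ (algebraMap (MvPowerSeries (Fin 2) k) (Localization.AtPrime P)
            (MvPowerSeries.X 0))) := by
  classical
  let D := MvPowerSeries (Fin 1) k
  let K := AlgebraicClosure (FractionRing D)
  let j : D →+* K := (algebraMap (FractionRing D) K).comp (algebraMap D (FractionRing D))
  have hj : Function.Injective j :=
    (algebraMap (FractionRing D) K).injective.comp (IsFractionRing.injective D (FractionRing D))
  let e := MvPowerSeries.finSuccEquiv k 1
  have heX : e (MvPowerSeries.X 0) = PowerSeries.X := MvPowerSeries.finSuccEquiv_X_zero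
  let ι₀ : MvPowerSeries (Fin 2) k →+* PowerSeries K := (PowerSeries.map j).comp e.toRingEquiv.toRingHom
  let ι : MvPowerSeries (Fin 2) k →ₐ[k] PowerSeries K :=
    { ι₀ with
      commutes' := fun r => by
        change PowerSeries.map j (e (MvPowerSeries.C r)) = _
        rw [MvPowerSeries.finSuccEquiv_C, PowerSeries.map_C]
        have h1 : j (MvPowerSeries.C r) = algebraMap k K r := by
          change algebraMap (FractionRing D) K (algebraMap D (FractionRing D) (algebraMap k D r)) = _
          rw [← IsScalarTower.algebraMap_apply k D (FractionRing D), ← IsScalarTower.algebraMap_apply k (FractionRing D) K]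
        rw [h1, IsScalarTower.algebraMap_apply k K (PowerSeries K)]; rfl }
  have hι : Function.Injective ι := (PowerSeries.map_injective j hj).comp e.injective
  have hiff : ∀ f, IsUnit (ι f) ↔ f ∉ P := by
    intro f
    rw [PowerSeries.isUnit_iff_constantCoeff, isUnit_iff_ne_zero, not_iff_not.symm, not_not, not_not, hP,
      Ideal.mem_span_singleton]
    change PowerSeries.constantCoeff (PowerSeries.map j (e f)) = 0 ↔ _
    rw [← PowerSeries.coeff_zero_eq_constantCoeff_apply, PowerSeries.coeff_map, PowerSeries.coeff_zero_eq_constantCoeff_apply, map_eq_zero_iff j hj, ← PowerSeries.X_dvd_iff, ← heX]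
    exact map_dvd_iff e
  have hu : ∀ y : P.primeCompl, IsUnit (ι y) := fun y => (hiff y).mpr y.2
  let φ : Localization.AtPrime P →ₐ[k] PowerSeries K := IsLocalization.liftAlgHom hu
  have hφ : ∀ f, φ (algebraMap _ _ f) = ι f := fun f => IsLocalization.lift_eq (fun y => hu y) f
  refine ⟨PowerSeries K, inferInstance, inferInstance, inferInstance, inferInstance, φ, ?_, ?_, ?_, ⟨?_⟩, ?_⟩
  · rw [PowerSeries.maximalIdeal_eq_span_X]
    exact Groth.Agent.CAlgH2.isAdicComplete_X K
  · exact IsAlgClosed.of_ringEquiv _ _ PowerSeries.residueFieldOfPowerSeries.symm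
  · refine (injective_iff_map_eq_zero φ).mpr fun x hx => ?_
    obtain ⟨a, s, rfl⟩ := IsLocalization.exists_mk'_eq P.primeCompl x
    have : φ (IsLocalization.mk' _ a s) * φ (algebraMap _ _ (s : MvPowerSeries (Fin 2) k)) = φ (algebraMap _ _ a) := by
      rw [← map_mul, IsLocalization.mk'_spec]
    rw [hx, zero_mul, hφ] at this
    rw [(map_eq_zero_iff ι hι).mp this.symm, IsLocalization.mk'_zero]
  · intro x hx
    obtain ⟨a, s, rfl⟩ := IsLocalization.exists_mk'_eq P.primeCompl x
    have : φ (IsLocalization.mk' _ a s) * φ (algebraMap _ _ (s : MvPowerSeries (Fin 2) k)) = φ (algebraMap _ _ a) := by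
      rw [← map_mul, IsLocalization.mk'_spec]
    rw [hφ, hφ] at this
    have ha : a ∉ P := (hiff a).mp (this ▸ IsUnit.mul hx (hu s))
    exact (IsLocalization.AtPrime.isUnit_mk'_iff _ P a s).mpr ha
  · rw [hφ]
    change Irreducible (PowerSeries.map j (e (MvPowerSeries.X 0)))
    rw [heX, PowerSeries.map_X]
    exact PowerSeries.X_irreducible

end Groth.Agent.S15366
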