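import Groth.Statements.S15367
import Mathlib

set_option autoImplicit false
universe u v
open TensorProduct
open CAlg

namespace Groth.Agent.S15367

/-- Let R be a discrete valuation ring with uniformizer π and residue field k, n ≥ 0, and M₀ a finitely
generated module over R/πⁿR, viewed as an R-module killed by πⁿ; put M₀* = Hom_R(M₀, R/πⁿR). Then
dim_k(M₀*/πM₀*) = dim_k(M₀/πM₀). The published lemma is stated for a finitely presented module over
the quotient of the ring of integers of an algebraic closure of K by the elements of valuation ≥ t,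
with its dual into that quotient ring, and the published proof reduces it by descent to exactly this
statement over the valuation ring of a finite extension of K; the row states that step. -/
theorem result
    (R : Type u) [CommRing R] [IsDomain R] [IsDiscreteValuationRing R] (ϖ : R) (hϖ : Irreducible ϖ) (n : ℕ)
    (M : Type v) [AddCommGroup M] [Module R M] [Module.Finite R M] (hM : ∀ m : M, ϖ ^ n • m = 0) :
    Module.finrank (IsLocalRing.ResidueField R)
        (IsLocalRing.ResidueField R ⊗[R] (M →ₗ[R] (R ⧸ Ideal.span {ϖ ^ n}))) =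
      Module.finrank (IsLocalRing.ResidueField R) (IsLocalRing.ResidueField R ⊗[R] M) := by
  classical
  suffices h : Nonempty ((M →ₗ[R] (R ⧸ Ideal.span {ϖ ^ n})) ≃ₗ[R] M) by
    exact (h.some.baseChange R (IsLocalRing.ResidueField R) _ _).finrank_eq
  have hne : ϖ ^ n ≠ 0 := pow_ne_zero n hϖ.ne_zero
  have htor : Module.IsTorsion R M := fun {x} => ⟨⟨ϖ ^ n, mem_nonZeroDivisors_of_ne_zero hne⟩, hM x⟩
  obtain ⟨ι, _, p, -, e, ⟨E⟩⟩ := Module.equiv_directSum_of_isTorsion htor
  let E' : M ≃ₗ[R] (Π i, R ⧸ R ∙ p i ^ e i) := E.trans (DirectSum.linearEquivFunOnFintype R ι _)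
  have key : ∀ i, Nonempty (((R ⧸ R ∙ p i ^ e i) →ₗ[R] (R ⧸ Ideal.span {ϖ ^ n})) ≃ₗ[R] (R ⧸ R ∙ p i ^ e i)) := by
    intro i
    set a := p i ^ e i with ha
    obtain ⟨c, hc⟩ : a ∣ ϖ ^ n := by
      obtain ⟨m, hm⟩ := E'.surjective (Pi.single i (Submodule.Quotient.mk 1))
      have := congrFun (congrArg E' (hM m)) i
      rw [map_smul, hm, map_zero, Pi.smul_apply, Pi.single_eq_same, Pi.zero_apply,
        ← Submodule.Quotient.mk_smul, Submodule.Quotient.mk_eq_zero, smul_eq_mul, mul_one] at this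
      obtain ⟨r, hr⟩ := Submodule.mem_span_singleton.mp this
      exact ⟨r, by rw [← hr, smul_eq_mul, mul_comm]⟩
    have hc0 : c ≠ 0 := fun h => hne (by rw [hc, h, mul_zero])
    have ha0 : a ≠ 0 := fun h => hne (by rw [hc, h, zero_mul])
    let ψ₀ : R →ₗ[R] (R ⧸ Ideal.span {ϖ ^ n}) := LinearMap.toSpanSingleton R _ (Submodule.Quotient.mk c)
    have hker : LinearMap.ker ψ₀ = R ∙ a := by
      ext r
      rw [LinearMap.mem_ker, LinearMap.toSpanSingleton_apply, ← Submodule.Quotient.mk_smul,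
        Submodule.Quotient.mk_eq_zero, Ideal.mem_span_singleton, smul_eq_mul, hc,
        Submodule.mem_span_singleton, mul_dvd_mul_iff_right hc0]
      exact ⟨fun ⟨t, ht⟩ => ⟨t, by rw [ht, smul_eq_mul, mul_comm]⟩, fun ⟨t, ht⟩ => ⟨t, by rw [← ht, smul_eq_mul, mul_comm]⟩⟩
    let ψ : (R ⧸ R ∙ a) →ₗ[R] (R ⧸ Ideal.span {ϖ ^ n}) := (R ∙ a).liftQ ψ₀ hker.ge
    have hψ : Function.Injective ψ := LinearMap.ker_eq_bot.mp (Submodule.ker_liftQ_eq_bot _ _ _ hker.le)
    have hone : ∀ g : (R ⧸ R ∙ a) →ₗ[R] (R ⧸ Ideal.span {ϖ ^ n}),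
        g (Submodule.Quotient.mk 1) ∈ LinearMap.range ψ := by
      intro g
      obtain ⟨t, ht⟩ := Submodule.Quotient.mk_surjective _ (g (Submodule.Quotient.mk 1))
      have h0 : a • g (Submodule.Quotient.mk 1) = 0 := by
        rw [← map_smul, ← Submodule.Quotient.mk_smul, smul_eq_mul, mul_one,
          (Submodule.Quotient.mk_eq_zero _).mpr (Submodule.mem_span_singleton_self a), map_zero]
      rw [← ht, ← Submodule.Quotient.mk_smul, Submodule.Quotient.mk_eq_zero, Ideal.mem_span_singleton,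
        hc, smul_eq_mul, mul_dvd_mul_iff_left ha0] at h0
      obtain ⟨r, rfl⟩ := h0
      exact ⟨Submodule.Quotient.mk r, by rw [← ht]; show ψ₀ r = _; rw [LinearMap.toSpanSingleton_apply, ← Submodule.Quotient.mk_smul, smul_eq_mul, mul_comm]⟩
    let ev : ((R ⧸ R ∙ a) →ₗ[R] (R ⧸ Ideal.span {ϖ ^ n})) →ₗ[R] LinearMap.range ψ :=
      (LinearMap.applyₗ (Submodule.Quotient.mk 1 : R ⧸ R ∙ a)).codRestrict _ hone
    refine ⟨(LinearEquiv.ofBijective ev ⟨?_, ?_⟩).trans (LinearEquiv.ofInjective ψ hψ).symm⟩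
    · intro g g' h
      apply Submodule.linearMap_qext
      ext
      exact congrArg Subtype.val h
    · rintro ⟨_, y, rfl⟩
      obtain ⟨r, rfl⟩ := Submodule.Quotient.mk_surjective _ y
      refine ⟨r • ψ, Subtype.ext ?_⟩
      show r • ψ (Submodule.Quotient.mk 1) = _
      rw [← map_smul, ← Submodule.Quotient.mk_smul, smul_eq_mul, mul_one]
  exact ⟨(LinearEquiv.congrLeft (R ⧸ Ideal.span {ϖ ^ n}) R E').trans <| (LinearMap.lsum R (fun i => R ⧸ R ∙ p i ^ e i) R).symm.trans <|
    (LinearEquiv.piCongrRight fun i => (key i).some).trans E'.symm⟩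

end Groth.Agent.S15367
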