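import Groth.Statements.S15368
import Mathlib

set_option autoImplicit false
universe u v
open TensorProduct
open CAlg

namespace Groth.Agent.S15368

/-- Let R be a discrete valuation ring with uniformizer π and residue field k, n ≥ 0, M₀ a finitely
generated R-module killed by πⁿ and N₀ a submodule of M₀. Then dim_k(N₀/πN₀) ≤ dim_k(M₀/πM₀). The
published lemma is stated for a finitely presented submodule N of a finitely presented module M over
the quotient of the ring of integers of an algebraic closure of K by the elements of valuation ≥ t,
and the published proof reduces it by descent to exactly this statement over the valuation ring of a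
finite extension of K (comparing π-torsion with π-cotorsion by additivity of length); the row states
that step. -/
theorem result
    (R : Type u) [CommRing R] [IsDomain R] [IsDiscreteValuationRing R] (ϖ : R) (hϖ : Irreducible ϖ) (n : ℕ)
    (M : Type v) [AddCommGroup M] [Module R M] [Module.Finite R M] (hM : ∀ m : M, ϖ ^ n • m = 0)
    (N : Submodule R M) :
    Module.finrank (IsLocalRing.ResidueField R) (IsLocalRing.ResidueField R ⊗[R] N) ≤
      Module.finrank (IsLocalRing.ResidueField R) (IsLocalRing.ResidueField R ⊗[R] M) := by
  have hfg : N.FG := IsNoetherian.noetherian N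
  have h1 : Module.finrank (IsLocalRing.ResidueField R) (IsLocalRing.ResidueField R ⊗[R] M) =
      (⊤ : Submodule R M).spanFinrank := by
    rw [← TensorProduct.spanFinrank_top_eq_of_residueField (⊤ : Submodule R M) Module.Finite.fg_top,
      ← Module.finrank_eq_spanFinrank_of_free]
    exact ((Submodule.topEquiv (R := R) (M := M)).baseChange R (IsLocalRing.ResidueField R) _ _).finrank_eq.symm
  rw [h1, Module.finrank_eq_spanFinrank_of_free, TensorProduct.spanFinrank_top_eq_of_residueField N hfg]
  set d := (⊤ : Submodule R M).spanFinrank
  obtain ⟨s, hs, hcard⟩ : ∃ s : Fin d → M, Submodule.span R (Set.range s) = ⊤ ∧ True := by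
    have hfgt : (⊤ : Submodule R M).FG := Module.Finite.fg_top
    obtain ⟨t, ht, hspan⟩ := Submodule.FG.exists_span_set_encard_eq_spanFinrank hfgt
    have hfin : t.Finite := Set.finite_of_encard_eq_coe ht
    have hc : hfin.toFinset.card = d := by
      rw [← Set.ncard_eq_toFinset_card t hfin, Set.ncard, ht]; rfl
    refine ⟨fun i => (hfin.toFinset.equivFinOfCardEq hc).symm i, ?_, trivial⟩
    have : Set.range (fun i => ((hfin.toFinset.equivFinOfCardEq hc).symm i : M)) = t := by
      ext y
      simp only [Set.mem_range]
      exact ⟨fun ⟨i, hi⟩ => hi ▸ hfin.mem_toFinset.mp (Subtype.prop _), fun hy => ⟨hfin.toFinset.equivFinOfCardEq hc ⟨y, hfin.mem_toFinset.mpr hy⟩, by simp⟩⟩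
    rw [this, hspan]
  let φ : (Fin d → R) →ₗ[R] M := Fintype.linearCombination R s
  have hφ : LinearMap.range φ = ⊤ := by rw [Fintype.range_linearCombination, hs]
  let P := N.comap φ
  have hP : P.map φ = N := Submodule.map_comap_eq_self (hφ ▸ le_top)
  calc N.spanFinrank = (P.map φ).spanFinrank := by rw [hP]
    _ ≤ P.spanFinrank := Submodule.spanFinrank_map_le_of_fg _ (IsNoetherian.noetherian P)
    _ = (⊤ : Submodule R P).spanFinrank := P.spanFinrank_top.symm
    _ = Module.finrank R P := Module.finrank_eq_spanFinrank_of_free.symm
    _ ≤ Module.finrank R (Fin d → R) := P.finrank_le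
    _ = d := Module.finrank_fin_fun R

end Groth.Agent.S15368
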