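import Groth.Statements.S1537
import Groth.Agent.VarGal.GenIrred

set_option autoImplicit false
universe u
open CategoryTheory CategoryTheory.Limits AlgebraicGeometry
open Variety

namespace Groth.Agent.S1537

attribute [local instance] Curv2.resAlgebra in
set_option backward.isDefEq.respectTransparency.types false in

/-- A connected k-scheme is geometrically connected as soon as it has a point whose residue field
contains no element integral over k other than the elements of k. -/
theorem result (k : Type u) [Field k] (X : Scheme.{u}) [X.Over (Spec (CommRingCat.of k))] [ConnectedSpace X]
    (x : X) (hx : ∀ a : X.residueField x, (Curv2.resMap k X x).IsIntegralElem a → a ∈ (Curv2.resMap k X x).range) :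
    GeometricallyConnected (X ↘ (Spec (CommRingCat.of k))) := by
  have hbot : separableClosure k ↥(X.residueField x) = ⊥ := eq_bot_iff.2 fun a ha =>
    IntermediateField.mem_bot.2 (hx a (mem_separableClosure_iff.1 ha).isIntegral)
  have h1 : GeometricallyConnected (X.fromSpecResidueField x ≫ (X ↘ (Spec (CommRingCat.of k)))) := by
    rw [Groth.Agent.VarGal.fromSpecResidueField_over]
    have := Groth.Agent.FBase64.geometricallyIrreducible_specMap (L := ↥(X.residueField x)) hbot
    exact @Groth.Agent.FBase64.geometricallyConnected_of_geometricallyIrreducible _ _ _ this
  exact Groth.Agent.FBase64.geometricallyConnected_of_source _ (X.fromSpecResidueField x)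

end Groth.Agent.S1537
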