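import Groth.Agent.Hopf35.DualNormIso
import Groth.Statements.S15382

set_option autoImplicit false
universe u
open GmDual

namespace Groth.Agent.S15382

open CategoryTheory AlgebraicGeometry in
theorem result (X X' : Scheme.{u}) (f : X' ⟶ X) [IsFinite f] [Etale f]
    [AlgebraicGeometry.IsNoetherian X]
    (N : CGrpSh3.pushGm Scheme.fppfPrecoverage f ⟶ CGrpSh2.Gm Scheme.fppfPrecoverage X)
    (hN : CGrpSh3.IsNormMap Scheme.fppfPrecoverage f N) (F' : BigSite.Ab Scheme.fppfPrecoverage X') :
    IsIso (CGrpSh3.dualNormMap Scheme.fppfPrecoverage f N F') := by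
  exact Groth.Agent.Hopf35.DualNormIso.isIso_dualNormMap f F' N hN

end Groth.Agent.S15382
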