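import Groth.Agent.Hopf35.NormSheaf
import Groth.Statements.S15383

set_option autoImplicit false
universe u
open GmDual

namespace Groth.Agent.S15383

open CategoryTheory AlgebraicGeometry in
theorem result (X X' : Scheme.{u}) (f : X' ⟶ X) [IsFinite f] [Flat f]
    [AlgebraicGeometry.IsNoetherian X]
    (N N' : CGrpSh3.pushGm Scheme.fppfPrecoverage f ⟶ CGrpSh2.Gm Scheme.fppfPrecoverage X)
    (hN : CGrpSh3.IsNormMap Scheme.fppfPrecoverage f N) (hN' : CGrpSh3.IsNormMap Scheme.fppfPrecoverage f N') :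
    N = N' := by
  rw [Groth.Agent.Hopf35.Nm.eq_norm _ f N hN, Groth.Agent.Hopf35.Nm.eq_norm _ f N' hN']

end Groth.Agent.S15383
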