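import Groth.Agent.Hopf35.NormSheaf
import Groth.Statements.S15384

set_option autoImplicit false
universe u
open GmDual

namespace Groth.Agent.S15384

open CategoryTheory AlgebraicGeometry in
theorem result (X X' : Scheme.{u}) (f : X' ⟶ X) [IsFinite f] [Flat f]
    [AlgebraicGeometry.IsNoetherian X] :
    ∃ N : CGrpSh3.pushGm Scheme.fppfPrecoverage f ⟶ CGrpSh2.Gm Scheme.fppfPrecoverage X,
      CGrpSh3.IsNormMap Scheme.fppfPrecoverage f N := by
  exact ⟨Groth.Agent.Hopf35.Nm.norm _ f, Groth.Agent.Hopf35.Nm.isNormMap_norm _ f⟩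

end Groth.Agent.S15384
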