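import Groth.Statements.S15389
import Groth.Agent.DualTor32.Main
import Groth.Agent.DualTor32.SplitExists
import Groth.Agent.EtTr32.Hensel

set_option autoImplicit false
universe u
open TateGlob

namespace Groth.Agent.S15389

open CategoryTheory AlgebraicGeometry in
/-- Let K be a global function field with finite constant field Fq, k'/K a finite separable extension, S
a nonempty finite set of places of K, O_S the ring of S-integers and O' the integral closure of O_S
in k' (the ring of S'-integers of k', S' the places above S), and suppose O' is finite etale over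
O_S, i.e. no place outside S ramifies in k'. Let R = R_{O'/O_S}(𝔾_m) be the Weil restriction of the
multiplicative group, as the abelian sheaf on the big fppf site of Spec O_S given by the direct
image of 𝔾_m along Spec O' → Spec O_S, and R^ its dual sheaf (internal Hom into 𝔾_m). Then for every
place v of K not in S, H^1(O_v, R^) = 0, where O_v is the valuation ring of the completion K_v and
the group is the fppf cohomology of the restriction of R^ to Spec O_v. (The published statement is
for any global field, with S also containing the archimedean places; this row is the function-field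
case.) -/
theorem result (Fq : Type u) [Field Fq] [Finite Fq] (K : Type u) [Field K] [Algebra (RatFunc Fq) K] [FunctionField Fq K]
    [Algebra Fq K] [IsScalarTower Fq (RatFunc Fq) K]
    (k' : Type u) [Field k'] [Algebra K k'] [FiniteDimensional K k'] [Algebra.IsSeparable K k']
    (S : Set (FunFld.Place Fq K)) (hS : S.Finite) (hne : S.Nonempty)
    [Algebra (AdFn.SInt S) k'] [IsScalarTower (AdFn.SInt S) K k']
    (O' : Type u) [CommRing O'] [Algebra (AdFn.SInt S) O'] [Algebra O' k'] [IsScalarTower (AdFn.SInt S) O' k']
    [IsIntegralClosure O' (AdFn.SInt S) k']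
    [IsFinite (Spec.map (CommRingCat.ofHom (algebraMap (AdFn.SInt S) O')))]
    [Etale (Spec.map (CommRingCat.ofHom (algebraMap (AdFn.SInt S) O')))]
    (v : FunFld.Place Fq K) (hv : v ∉ S) :
    Subsingleton (AdFn.HInt Scheme.fppfPrecoverage S
      (CGrpSh2.dualSh Scheme.fppfPrecoverage
        (CGrpSh3.pushGm Scheme.fppfPrecoverage (Spec.map (CommRingCat.ofHom (algebraMap (AdFn.SInt S) O'))))) 1 hv) := by
  have : Algebra.Etale (AdFn.SInt S) O' :=
    RingHom.etale_algebraMap.mp ((HasRingHomProperty.Spec_iff (P := @Etale) (φ := CommRingCat.ofHom (algebraMap (AdFn.SInt S) O'))).mp inferInstance)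
  have : Module.Finite (AdFn.SInt S) O' :=
    RingHom.finite_algebraMap.mp ((IsFinite.SpecMap_iff (f := CommRingCat.ofHom (algebraMap (AdFn.SInt S) O'))).mp inferInstance)
  obtain ⟨T, _, _, _, _, n, ⟨s₀⟩⟩ := DualTor32.exists_spl (AdFn.SInt S) O'
  have : HenselianLocalRing (AdFn.Ov v) := EtTr32.henselianLocalRing_Ov v
  let _ : Algebra (AdFn.SInt S) (AdFn.Ov v) := (AdFn.SInt.toOv S hv).toAlgebra
  exact DualTor32.subsingleton_HU (A := AdFn.Ov v) (V := PUnit.{u + 1}) (O := fun _ => AdFn.Ov v)
    (π := fun _ => RingHom.id _)
    ⟨fun a b h => congrFun h PUnit.unit, fun f => ⟨f PUnit.unit, rfl⟩⟩ s₀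

end Groth.Agent.S15389
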