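import Groth.Statements.S1539
import Groth.Agent.VarGal.Finite

set_option autoImplicit false
universe u
open CategoryTheory CategoryTheory.Limits AlgebraicGeometry
open Variety

namespace Groth.Agent.S1539

/-- If X_{k'} is irreducible for every finite separable field extension k' of k, then X is geometrically
irreducible over k. -/
theorem result (k : Type u) [Field k] (X : Scheme.{u}) [X.Over (Spec (CommRingCat.of k))]
    (h : ∀ (k' : Type u) [Field k'] [Algebra k k'] [FiniteDimensional k k'] [Algebra.IsSeparable k k'],
      IrreducibleSpace (Curv2.bc k X k')) :
    GeometricallyIrreducible (X ↘ (Spec (CommRingCat.of k))) := by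
  have := VarGal.irreducibleSpace_of_finite_levels (X := X) (K := SeparableClosure k)
    fun E _ => h E
  exact FBase64.geometricallyIrreducible_of_sepClosed _ (algebraMap k (SeparableClosure k))

end Groth.Agent.S1539
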