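import Groth.Statements.S15390
import Groth.Agent.DualH2.Main
import Groth.Agent.DualTor32.SplitExists
import Groth.Agent.EtTr32.Hensel

set_option autoImplicit false
universe u
open TateGlob

namespace Groth.Agent.S15390

open CategoryTheory AlgebraicGeometry in
/-- The comparison for a family of ring maps. -/
theorem injective_of_maps {A₀ A : Type u} [CommRing A₀] [CommRing A] [Algebra A₀ A] {B : Type u} [CommRing B]
    [Algebra A₀ B] {V : Type u} {O : V → Type u} [∀ v, CommRing (O v)] [∀ v, HenselianLocalRing (O v)]
    {T : Type u} [CommRing T] [Algebra A₀ T] [Module.FaithfullyFlat A₀ T] [Module.Finite A₀ T] {n : ℕ}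
    (s₀ : DualTor32.Spl A₀ B T n) (π : ∀ v, A →+* O v) (hπ : Function.Bijective (RingHom.pi π))
    (x : BigSite.H Scheme.fppfPrecoverage (Spec (CommRingCat.of A)) (DualH2.FD A₀ A B) 2)
    (hx : ∀ v, HRes.pull Scheme.fppfPrecoverage (Spec.map (CommRingCat.ofHom (π v))) (DualH2.FD A₀ A B) 2 x = 0) :
    x = 0 :=
  letI : ∀ v, Algebra A (O v) := fun v => (π v).toAlgebra
  letI : ∀ v, Algebra A₀ (O v) := fun v => ((π v).comp (algebraMap A₀ A)).toAlgebra
  haveI : ∀ v, IsScalarTower A₀ A (O v) := fun v => .of_algebraMap_eq fun _ => rfl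
  DualH2.pull_two_injective s₀ hπ x hx

open CategoryTheory CategoryTheory.Abelian in
/-- Isomorphisms of coefficients are injective on cohomology. -/
theorem map_iso_injective {C : Type*} [Category C] {J : GrothendieckTopology C} [HasSheafify J AddCommGrpCat.{u + 1}]
    [HasExt.{u + 1} (Sheaf J AddCommGrpCat.{u + 1})] {F G : Sheaf J AddCommGrpCat.{u + 1}} (e : F ≅ G) (n : ℕ) :
    Function.Injective (Sheaf.H.map e.hom n) :=
  Function.LeftInverse.injective (g := Sheaf.H.map e.inv n) fun x => by simp [Sheaf.H.map_apply]

open CategoryTheory AlgebraicGeometry in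
/-- Let K be a global function field with finite constant field Fq, k'/K a finite separable extension, S
a set of places of K, O_S the ring of S-integers and O' the integral closure of O_S in k' (the
S'-integers of k', S' the places above S), and suppose O' is finite etale over O_S, i.e. no place
outside S ramifies in k'. Let R = R_{O'/O_S}(𝔾_m) be the Weil restriction of the multiplicative
group, as the abelian sheaf on the big fppf site of Spec O_S given by the direct image of 𝔾_m along
Spec O' → Spec O_S, and R^ its dual sheaf (internal Hom into 𝔾_m). Then the restriction map H^2(Ô_S,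
R^) → ∏_{v ∉ S} H^2(O_v, R^), Ô_S = ∏_{v ∉ S} O_v, is injective: a class over Ô_S restricting to
zero over every O_v, v ∉ S, is zero. (The published statement is over any global field, with S also
containing the archimedean places; this row is the function-field case. The published statement is
for the Weil restriction of a product of n copies of 𝔾_m; this row is the case n = 1.) -/
theorem result (Fq : Type u) [Field Fq] [Finite Fq] (K : Type u) [Field K] [Algebra (RatFunc Fq) K] [FunctionField Fq K]
    [Algebra Fq K] [IsScalarTower Fq (RatFunc Fq) K]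
    (k' : Type u) [Field k'] [Algebra K k'] [FiniteDimensional K k'] [Algebra.IsSeparable K k']
    (S : Set (FunFld.Place Fq K))
    [Algebra (AdFn.SInt S) k'] [IsScalarTower (AdFn.SInt S) K k']
    (O' : Type u) [CommRing O'] [Algebra (AdFn.SInt S) O'] [Algebra O' k'] [IsScalarTower (AdFn.SInt S) O' k']
    [IsIntegralClosure O' (AdFn.SInt S) k']
    [IsFinite (Spec.map (CommRingCat.ofHom (algebraMap (AdFn.SInt S) O')))]
    [Etale (Spec.map (CommRingCat.ofHom (algebraMap (AdFn.SInt S) O')))]
    (x : AdFn.HOHat Scheme.fppfPrecoverage S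
      (CGrpSh2.dualSh Scheme.fppfPrecoverage
        (CGrpSh3.pushGm Scheme.fppfPrecoverage (Spec.map (CommRingCat.ofHom (algebraMap (AdFn.SInt S) O'))))) 2)
    (hx : ∀ (v : FunFld.Place Fq K) (hv : v ∉ S), AdFn.ohatRes Scheme.fppfPrecoverage S
      (CGrpSh2.dualSh Scheme.fppfPrecoverage
        (CGrpSh3.pushGm Scheme.fppfPrecoverage (Spec.map (CommRingCat.ofHom (algebraMap (AdFn.SInt S) O'))))) 2 hv x = 0) :
    x = 0 := by
  have : Algebra.Etale (AdFn.SInt S) O' :=
    RingHom.etale_algebraMap.mp ((HasRingHomProperty.Spec_iff (P := @Etale) (φ := CommRingCat.ofHom (algebraMap (AdFn.SInt S) O'))).mp inferInstance)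
  have : Module.Finite (AdFn.SInt S) O' :=
    RingHom.finite_algebraMap.mp ((IsFinite.SpecMap_iff (f := CommRingCat.ofHom (algebraMap (AdFn.SInt S) O'))).mp inferInstance)
  obtain ⟨T, _, _, _, _, n, ⟨s₀⟩⟩ := DualTor32.exists_spl (AdFn.SInt S) O'
  have : ∀ v : {v : FunFld.Place Fq K // v ∉ S}, HenselianLocalRing (AdFn.Ov v.1) :=
    fun v => EtTr32.henselianLocalRing_Ov v.1
  exact injective_of_maps (A := AdFn.OHat S) s₀
    (fun v : {v : FunFld.Place Fq K // v ∉ S} => AdFn.OHat.proj S v.2) Function.bijective_id x fun v =>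
      map_iso_injective (HRes.pullIso Scheme.fppfPrecoverage _ (AdFn.ohatResHom S v.2)) 2
        ((hx v.1 v.2).trans (map_zero _).symm)

end Groth.Agent.S15390
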