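import Groth.Statements.S15391
import Mathlib
-- import your own Groth.Agent.* helpers here

set_option autoImplicit false
universe u
open TensorProduct
open TorFree

namespace Groth.Agent.S15391

/-- Let R be a reduced Noetherian commutative ring, M a finitely generated torsion-free R-module (no
non-zero element of M is annihilated by a non-zero-divisor of R), and t an element of M whose image
1 ⊗ t in the fibre κ(p) ⊗_R M vanishes for every prime ideal p of R, κ(p) being the residue field at
p. Then t = 0. This is the affine form of the claim that a global section of a coherent torsion-free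
module on a reduced Noetherian scheme which vanishes in every fibre is zero. -/
theorem result (R : Type u) [CommRing R] [IsReduced R] [IsNoetherianRing R]
    (M : Type u) [AddCommGroup M] [Module R M] [Module.Finite R M] [Module.IsTorsionFree R M]
    (t : M) (ht : ∀ p : PrimeSpectrum R, (1 : p.asIdeal.ResidueField) ⊗ₜ[R] t = (0 : p.asIdeal.ResidueField ⊗[R] M)) :
    t = 0 := by
  let J : Ideal R := LinearMap.ker (LinearMap.toSpanSingleton R M t)
  have hex : ∀ p ∈ minimalPrimes R, ¬ J ≤ p := by
    intro p hp hle
    have hpp := Ideal.minimalPrimes_isPrime hp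
    let L := Localization.AtPrime p
    have hinj : Function.Injective (algebraMap L p.ResidueField) := by
      have hm : IsLocalRing.maximalIdeal L = ⊥ := by
        rw [← le_bot_iff]
        refine le_trans ?_ (le_of_eq (nilradical_eq_zero L))
        rw [nilradical_eq_sInf]
        refine le_sInf fun q hq => ?_
        have hq' : q.IsPrime := hq
        have h1 : q.comap (algebraMap R L) ≤ p := fun r hr => by
          by_contra hrp
          exact hq'.ne_top (q.eq_top_of_isUnit_mem hr (IsLocalization.map_units L (⟨r, hrp⟩ : p.primeCompl)))
        have h2 : p ≤ q.comap (algebraMap R L) := hp.2 ⟨hq'.comap _, bot_le⟩ h1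
        rw [← Localization.AtPrime.map_eq_maximalIdeal, Ideal.map_le_iff_le_comap]
        exact h2
      rw [RingHom.injective_iff_ker_eq_bot]
      exact (IsLocalRing.ker_residue (R := L)).trans hm
    have hinj' : Function.Injective (LinearMap.rTensor M (IsScalarTower.toAlgHom R L p.ResidueField).toLinearMap) := by
      have hb : Function.Bijective (IsScalarTower.toAlgHom R L p.ResidueField).toLinearMap :=
        ⟨hinj, IsLocalRing.residue_surjective⟩
      exact (LinearEquiv.rTensor M (LinearEquiv.ofBijective _ hb)).injective
    have h0 : (1 : L) ⊗ₜ[R] t = (0 : L ⊗[R] M) := hinj' (by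
      rw [LinearMap.rTensor_tmul, map_zero]
      simpa using ht ⟨p, hpp⟩)
    obtain ⟨s, hs⟩ := (IsLocalizedModule.eq_zero_iff p.primeCompl (TensorProduct.mk R L M 1)).1 h0
    exact s.2 (hle hs)
  have hfin := minimalPrimes.finite_of_isNoetherianRing R
  obtain ⟨a, haJ, ha⟩ : ∃ a ∈ J, ∀ p ∈ minimalPrimes R, a ∉ p := by
    by_contra hne
    push Not at hne
    have hsub : (J : Set R) ⊆ ⋃ p ∈ (hfin.toFinset : Set (Ideal R)), (p : Set R) := fun a ha => by
      obtain ⟨p, hp, hap⟩ := hne a ha
      exact Set.mem_biUnion (by simpa using hp) hap
    obtain ⟨p, hp, hle⟩ := (Ideal.subset_union_prime (f := id) ⊥ ⊥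
      (fun i hi _ _ => Ideal.minimalPrimes_isPrime (hfin.mem_toFinset.1 hi))).1 hsub
    exact hex p (hfin.mem_toFinset.1 hp) hle
  have hreg : IsRegular a := by
    rw [isRegular_iff_mem_nonZeroDivisors, mem_nonZeroDivisors_iff_right]
    intro y hy
    have hn : y ∈ nilradical R := by
      rw [nilradical, Ideal.zero_eq_bot, ← Ideal.sInf_minimalPrimes, Submodule.mem_sInf]
      intro p hp
      have := Ideal.minimalPrimes_isPrime hp
      exact (this.mem_or_mem (show y * a ∈ p by rw [hy]; exact zero_mem _)).resolve_right (ha p hp)
    simpa [nilradical_eq_zero] using hn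
  exact (Module.IsTorsionFree.isSMulRegular hreg).right_eq_zero_of_smul haJ

end Groth.Agent.S15391
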