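import Groth.Statements.S15392
import Groth.Agent.IsogPull96.Main
import Groth.Agent.Props58.LocFree.Criteria
-- import your own Groth.Agent.* helpers here

set_option autoImplicit false
universe u
open CategoryTheory CategoryTheory.Limits MonoidalCategory CartesianMonoidalCategory MonObj GrpObj AlgebraicGeometry
open AbVar

namespace Groth.Agent.S15392

/-- Let k be an algebraically closed field of characteristic zero, A and B abelian varieties over k
(proper smooth k-group schemes with geometrically connected fibres), π : A → B a homomorphism which
is an isogeny (finite and surjective), and E a finite locally free O_A-module. For a k-rational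
point a of A write t_a : A → A for the translation by a (the product of the identity and the
constant map a in the group Hom(A, A)). Then π^*π_*E is isomorphic to the direct sum of the
translates t_a^*E over the k-rational points a of A with π(a) equal to the unit of B, that is over
the k-points of the kernel of π (existence of an isomorphism). -/
theorem result (k : Type u) [Field k] [IsAlgClosed k] [CharZero k]
    (A B : Over (Spec (CommRingCat.of k))) [GrpObj A] [IsProper A.hom] [Smooth A.hom] [GeometricallyConnected A.hom]
    [GrpObj B] [IsProper B.hom] [Smooth B.hom] [GeometricallyConnected B.hom]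
    (π : A ⟶ B) [IsMonHom π] [IsFinite π.left] [Surjective π.left]
    (E : A.left.Modules) (hE : FlatMod.IsFinLocFree E) :
    Nonempty ((Scheme.Modules.pullback π.left).obj ((Scheme.Modules.pushforward π.left).obj E) ≅
      ∐ fun a : {a : 𝟙_ (Over (Spec (CommRingCat.of k))) ⟶ A // a ≫ π = 1} =>
        (Scheme.Modules.pullback (𝟙 A * (toUnit A ≫ a.1)).left).obj E) := by
  haveI : GeometricallyReduced A.hom := AbSch7.geometricallyReduced_of_smooth A.hom
  haveI : GeometricallyReduced B.hom := AbSch7.geometricallyReduced_of_smooth B.hom
  haveI : ConnectedSpace A.left := GeometricallyConnected.connectedSpace A.hom A.hom.isOpenMap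
  haveI : ConnectedSpace B.left := GeometricallyConnected.connectedSpace B.hom B.hom.isOpenMap
  haveI : GeometricallyIntegral A.hom := Alb96.geometricallyIntegral_of_connectedSpace A
  haveI : GeometricallyIntegral B.hom := Alb96.geometricallyIntegral_of_connectedSpace B
  haveI : Etale π.left := IsogPull96.etale_of_isogeny π
  haveI := Props58.LocFree.isQuasicoherent_of_isFinLocFree hE
  exact IsogPull96.nonempty_pullback_pushforward_iso π E

end Groth.Agent.S15392
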