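import Groth.Statements.S15405
import Groth.Agent.ASB64.Cyclic

set_option autoImplicit false
universe u
open CategoryTheory CategoryTheory.Limits AlgebraicGeometry
open ASBun

namespace Groth.Agent.S15405

open W4c1astiltbs12 in
/-- Let X be proper over a field k, K an algebraic closure of k such that X_K is connected, and π : X_K
→ X the projection; assume the Picard group laws on X and on X_K and that pullback of invertible
classes along π is multiplicative. Suppose that Pic(X_K) is infinite cyclic, generated by the class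
of an invertible module L; that J is an invertible O_X-module with π^*J ≅ L^{⊗r} for some r ≥ 1; and
that there is an indecomposable finite locally free O_X-module (nonzero, and in any direct-sum
decomposition one summand is zero) whose pullback to X_K is isomorphic to L^{⊕d} for some d. Then:
(a) every indecomposable finite locally free O_X-module E whose pullback to X_K is a finite direct
sum of invertible modules is isomorphic to M ⊗ J_a, where 0 ≤ j < r, M is an indecomposable finite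
locally free O_X-module with π^*M ≅ (L^{⊗j})^{⊕d} for some d, a is an integer and J_a is an
invertible O_X-module whose class in Pic(X) is the a-th power of the class of J; (b) the integers a
and j in such an expression are determined by E. (The published statement takes r to be the least
such integer, the period, and leaves the connectedness of X_K implicit; the argument treats
invertible modules on X_K as indecomposable, whence that hypothesis, and does not use the minimality
of r.) -/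
theorem result (k : Type u) [Field k] {X : Scheme.{u}}
    (p : X ⟶ Spec (CommRingCat.of k)) [IsProper p] (K : Type u) [Field K] [Algebra k K] [IsAlgClosure k K]
    [ConnectedSpace ↥(W4bk4gw11416.baseChange p K)]
    [PicGrp.Law X] [PicGrp.Law (W4bk4gw11416.baseChange p K)] (hπ : PicGrp.PullMul (proj p K))
    (L : (W4bk4gw11416.baseChange p K).Modules) (hL : PicF.IsInvertible L)
    (e : PicLoc.PicSet (W4bk4gw11416.baseChange p K) ≃* Multiplicative ℤ)
    (he : e (PicGrp.cls L hL) = Multiplicative.ofAdd 1)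
    (r : ℕ) (hr : 1 ≤ r) (J : X.Modules) (hJ : PicF.IsInvertible J)
    (hJL : Nonempty (bcMod p K J ≅ CohB1.tensorPow L r))
    (hML : ∃ (M₁ : X.Modules) (d₁ : ℕ), FlatMod.IsFinLocFree M₁ ∧
      (¬ IsZero M₁ ∧ ∀ A B : X.Modules, Nonempty (M₁ ≅ A ⊞ B) → IsZero A ∨ IsZero B) ∧
      Nonempty (bcMod p K M₁ ≅ pow L d₁))
    (E : X.Modules) (hE : FlatMod.IsFinLocFree E)
    (hEi : (¬ IsZero E ∧ ∀ A B : X.Modules, Nonempty (E ≅ A ⊞ B) → IsZero A ∨ IsZero B))
    (n : ℕ) (Ls : Fin n → (W4bk4gw11416.baseChange p K).Modules) (hLs : ∀ i, PicF.IsInvertible (Ls i))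
    (hEs : Nonempty (bcMod p K E ≅ ∐ Ls)) :
    (∃ (a : ℤ) (j : ℕ), j < r ∧ ∃ (M : X.Modules) (d : ℕ) (Ja : X.Modules) (hJa : PicF.IsInvertible Ja),
      FlatMod.IsFinLocFree M ∧ (¬ IsZero M ∧ ∀ A B : X.Modules, Nonempty (M ≅ A ⊞ B) → IsZero A ∨ IsZero B) ∧
      Nonempty (bcMod p K M ≅ pow (CohB1.tensorPow L j) d) ∧
      PicGrp.cls Ja hJa = PicGrp.cls J hJ ^ a ∧ Nonempty (E ≅ CohB1.tensorMod M Ja)) ∧
    (∀ (a a' : ℤ) (j j' : ℕ) (M M' : X.Modules) (d d' : ℕ) (Ja Ja' : X.Modules)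
      (hJa : PicF.IsInvertible Ja) (hJa' : PicF.IsInvertible Ja'),
      j < r → j' < r →
      (¬ IsZero M ∧ ∀ A B : X.Modules, Nonempty (M ≅ A ⊞ B) → IsZero A ∨ IsZero B) → (¬ IsZero M' ∧ ∀ A B : X.Modules, Nonempty (M' ≅ A ⊞ B) → IsZero A ∨ IsZero B) →
      Nonempty (bcMod p K M ≅ pow (CohB1.tensorPow L j) d) → Nonempty (bcMod p K M' ≅ pow (CohB1.tensorPow L j') d') →
      PicGrp.cls Ja hJa = PicGrp.cls J hJ ^ a → PicGrp.cls Ja' hJa' = PicGrp.cls J hJ ^ a' →
      Nonempty (E ≅ CohB1.tensorMod M Ja) → Nonempty (E ≅ CohB1.tensorMod M' Ja') → a = a' ∧ j = j') := by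
  letI : X.Over (Spec (CommRingCat.of k)) := ⟨p⟩
  haveI : IsProper (X ↘ Spec (CommRingCat.of k)) := ‹IsProper p›
  haveI : ConnectedSpace ↥(Groth.Agent.FF71.bc k X K) := ‹ConnectedSpace ↥(W4bk4gw11416.baseChange p K)›
  haveI : HasFiniteBiproducts X.Modules := HasFiniteBiproducts.of_hasFiniteProducts
  haveI : HasFiniteBiproducts (W4bk4gw11416.baseChange p K).Modules := HasFiniteBiproducts.of_hasFiniteProducts
  haveI : Algebra.IsAlgebraic k K := IsAlgClosure.isAlgebraic
  have hcoh : ∀ {N : X.Modules}, FlatMod.IsFinLocFree N → Coh.IsCoh N := fun hN =>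
    ⟨Groth.Agent.Props58.LocFree.isQuasicoherent_of_isFinLocFree hN,
      Groth.Agent.Props58.LocFree.isFiniteType_of_isFinLocFree hN⟩
  let ν : ∀ {N : (W4bk4gw11416.baseChange p K).Modules}, PicF.IsInvertible N → ℤ :=
    fun hN => Multiplicative.toAdd (e (PicGrp.cls _ hN))
  have hν : ∀ {N : (W4bk4gw11416.baseChange p K).Modules} (hN : PicF.IsInvertible N),
      PicGrp.cls N hN = PicGrp.cls L hL ^ ν hN := fun hN => e.injective (by
    rw [map_zpow, he, ← ofAdd_zsmul, smul_eq_mul, mul_one]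
    rfl)
  have hLj : ∀ j : ℕ, PicF.IsInvertible (CohB1.tensorPow L j) := fun j => Groth.Agent.EGA73.isInvertible_tensorPow hL j
  have hclj : ∀ j : ℕ, PicGrp.cls _ (hLj j) = PicGrp.cls L hL ^ (j : ℤ) := fun j => by
    rw [zpow_natCast]
    exact Subtype.ext (PicGrp.cls_pow_val hL j).symm
  have hclJ : ∀ (a : ℤ) (Ja : X.Modules) (hJa : PicF.IsInvertible Ja), PicGrp.cls Ja hJa = PicGrp.cls J hJ ^ a →
      PicGrp.cls _ (PicLoc.isInvertible_pullback (proj p K) hJa) = PicGrp.cls L hL ^ ((r : ℤ) * a) := by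
    intro a Ja hJa h
    have h1 : PicGrp.cls _ (PicLoc.isInvertible_pullback (proj p K) hJ) = PicGrp.cls L hL ^ (r : ℤ) := by
      rw [← hclj r, PicGrp.cls_eq_cls_iff]
      exact hJL
    rw [← PicGrp.pullHom_cls (proj p K) hπ Ja hJa, h, map_zpow, PicGrp.pullHom_cls, h1, zpow_mul]
  have hmul : ∀ {N N' : (W4bk4gw11416.baseChange p K).Modules} (hN : PicF.IsInvertible N) (hN' : PicF.IsInvertible N'),
      PicGrp.cls _ (Groth.Agent.EGA73.isInvertible_tensorMod hN hN') = PicGrp.cls N hN * PicGrp.cls N' hN' :=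
    fun hN hN' => Subtype.ext (PicGrp.cls_mul_cls_val hN hN').symm
  -- the form over `K` of a tensor product with an invertible module
  have hform : ∀ (j : ℕ) (M Ja : X.Modules) (d : ℕ), Nonempty (bcMod p K M ≅ pow (CohB1.tensorPow L j) d) →
      Nonempty (bcMod p K (CohB1.tensorMod M Ja) ≅
        pow (CohB1.tensorMod (CohB1.tensorPow L j) (bcMod p K Ja)) d) := by
    intro j M Ja d ⟨i⟩
    obtain ⟨q⟩ := Groth.Agent.TwTens96.nonempty_pow_tens (CohB1.tensorPow L j) (bcMod p K Ja) d 1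
    exact ⟨Groth.Agent.TwTens96.pullTensIso (proj p K) M Ja ≪≫ Groth.Agent.EGA73.tensIso i
      (coproductUniqueIso fun _ : Fin 1 => bcMod p K Ja).symm ≪≫ q ≪≫
      Limits.Sigma.reindex (finCongr (Nat.mul_one d)) (fun _ : Fin d => CohB1.tensorMod (CohB1.tensorPow L j) (bcMod p K Ja))⟩
  obtain ⟨es⟩ := hEs
  have hn : 0 < n := by
    rcases Nat.eq_zero_or_pos n with hn | hn
    · subst hn
      exact Groth.Agent.ASB64.pos_of_iso_pow (k := k) (K := K) (L := L) (r := 0) (hcoh hE) hEi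
        (es ≪≫ Limits.Sigma.mapIso fun a => a.elim0)
    · exact hn
  let v := es ≪≫ (biproduct.isoCoproduct Ls).symm
  let i₀ : Fin n := ⟨0, hn⟩
  refine ⟨?_, ?_⟩
  · let m := ν (hLs i₀)
    let j := (m % (r : ℤ)).toNat
    let a := m / (r : ℤ)
    have hj : (j : ℤ) = m % (r : ℤ) := Int.toNat_of_nonneg (Int.emod_nonneg _ (by omega))
    have hjr : j < r := by
      have h1 : m % (r : ℤ) < r := Int.emod_lt_of_pos _ (by omega)
      omega
    obtain ⟨M₁, d₁, hM₁, hM₁i, ⟨i₁⟩⟩ := hML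
    have hd₁ := Groth.Agent.ASB64.pos_of_iso_pow (k := k) (K := K) (hcoh hM₁) hM₁i i₁
    have h₁ : Groth.Agent.ASB64.Typed K (L : (Groth.Agent.FF71.bc k X K).Modules) d₁ M₁ := ⟨hcoh hM₁, ⟨i₁⟩, hL⟩
    obtain ⟨M, d, hMi, hd, hM⟩ :=
      Groth.Agent.ASB64.exists_indec_constituent (h₁.tensorPow j) (pow_pos hd₁ j)
    obtain ⟨Ja, hJa, hJa'⟩ := PicGrp.exists_eq_cls (PicGrp.cls J hJ ^ a)
    obtain ⟨Jb, hJb, hJb'⟩ := PicGrp.exists_eq_cls (PicGrp.cls Ja hJa)⁻¹
    obtain ⟨inv⟩ := (PicGrp.cls_mul_cls_eq_one_iff hJa hJb).mp (by rw [← hJb', mul_inv_cancel])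
    refine ⟨a, j, hjr, M, d, Ja, hJa, hM.isFinLocFree, hMi, hM.iso, hJa'.symm, ?_⟩
    have hW := Groth.Agent.ASB64.indec_tensor_of_inverse hMi inv
    obtain ⟨w⟩ := hform j M Ja d hM.iso
    obtain ⟨t⟩ : Nonempty (CohB1.tensorMod (CohB1.tensorPow L j) (bcMod p K Ja) ≅ Ls i₀) := by
      rw [← PicGrp.cls_eq_cls_iff (Groth.Agent.EGA73.isInvertible_tensorMod (hLj j)
        (PicLoc.isInvertible_pullback (proj p K) hJa)) (hLs i₀), hmul (hLj j) (PicLoc.isInvertible_pullback (proj p K) hJa), hclj, hclJ a Ja hJa hJa'.symm, hν (hLs i₀),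
        ← zpow_add, hj]
      exact congrArg _ (Int.emod_add_mul_ediv m (r : ℤ))
    haveI := hM.coh.1; haveI := hM.coh.2
    have hcJ := hcoh (Groth.Agent.ASB64.isFinLocFree_of_isInvertible hJa)
    haveI := hcJ.1; haveI := hcJ.2
    exact Groth.Agent.ASB64.nonempty_iso_of_retract p K
      ⟨Groth.Agent.QCTens72.isQuasicoherent_tensorMod _ _, Groth.Agent.QCTens72.isFiniteType_tensorMod _ _⟩
      (hcoh hE) hW hEi (w ≪≫ Limits.Sigma.mapIso fun _ => t)
      (biproduct.ι Ls i₀ ≫ v.inv) (v.hom ≫ biproduct.π Ls i₀) (by simp)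
  · intro a a' j j' M M' d d' Ja Ja' hJa hJa' hj hj' _ _ hM hM' ha ha' ⟨u⟩ ⟨u'⟩
    obtain ⟨w⟩ := hform j M Ja d hM
    obtain ⟨w'⟩ := hform j' M' Ja' d' hM'
    let z := (Scheme.Modules.pullback (proj p K)).mapIso u ≪≫ w
    have hd := Groth.Agent.ASB64.pos_of_iso_pow (k := k) (K := K) (hcoh hE) hEi z
    have hA := Groth.Agent.EGA73.isInvertible_tensorMod (hLj j) (PicLoc.isInvertible_pullback (proj p K) hJa)
    have hA' := Groth.Agent.EGA73.isInvertible_tensorMod (hLj j') (PicLoc.isInvertible_pullback (proj p K) hJa')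
    have h := (PicGrp.cls_eq_cls_iff hA hA').mpr (Groth.Agent.ASB64.nonempty_iso_of_pow (k := k) (K := K) (hcoh hE)
      hA hA' hd z ((Scheme.Modules.pullback (proj p K)).mapIso u' ≪≫ w'))
    rw [hmul (hLj j) (PicLoc.isInvertible_pullback (proj p K) hJa),
      hmul (hLj j') (PicLoc.isInvertible_pullback (proj p K) hJa'), hclj, hclj, hclJ a Ja hJa ha, hclJ a' Ja' hJa' ha', ← zpow_add, ← zpow_add] at h
    have h' := congrArg e h
    rw [map_zpow, map_zpow, he, ← ofAdd_zsmul, ← ofAdd_zsmul, smul_eq_mul, smul_eq_mul, mul_one, mul_one] at h'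
    have h2 : (j : ℤ) + r * a = (j' : ℤ) + r * a' := h'
    have hjj : (j : ℤ) = j' := by
      have hm := congrArg (· % (r : ℤ)) h2
      simpa [Int.add_mul_emod_self_left, Int.emod_eq_of_lt (Int.natCast_nonneg j) (Int.ofNat_lt.mpr hj),
        Int.emod_eq_of_lt (Int.natCast_nonneg j') (Int.ofNat_lt.mpr hj')] using hm
    refine ⟨?_, by exact_mod_cast hjj⟩
    have h3 : (r : ℤ) * a = r * a' := by omega
    exact mul_left_cancel₀ (by omega) h3

end Groth.Agent.S15405
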