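import Groth.Statements.S15409
import Groth.Agent.ASB64.GlobalBC
import Groth.Agent.ASB64.Rules

set_option autoImplicit false
universe u
open CategoryTheory CategoryTheory.Limits AlgebraicGeometry
open ASBun

namespace Groth.Agent.S15409

open W4c1astiltbs12 in
/-- Let X be proper over a field k with k ≅ H⁰(X, O_X), K an algebraic closure of k with X_K connected
and projection π : X_K → X; assume the Picard group laws on X and X_K with pullback along π
multiplicative, that Pic(X_K) is infinite cyclic generated by the class of an invertible module L,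
and that J is an invertible O_X-module whose pullback to X_K has class the r-th power of the class
of L, r ≥ 1. Let j and a be integers and N, N' invertible O_{X_K}-modules with classes (cls L)^j and
(cls L)^{j'} where either j' = −j or j' = j + a·r. If W, W' are indecomposable finite locally free
O_X-modules (nonzero, and in any direct-sum decomposition one summand is zero) with π^*W ≅ N^{⊕d}
and π^*W' ≅ N'^{⊕d'}, then d = d': the rank of the indecomposable absolutely isotypical sheaf of
type L^{⊗j} depends only on ±j modulo r. (The published statement phrases this for the sheaves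
W_{L^{⊗j}}, whose existence for every j it assumes through an indecomposable absolutely isotypical
sheaf of type L; here the two sheaves are given, and r need not be minimal.) -/
theorem result (k : Type u) [Field k] {X : Scheme.{u}}
    (p : X ⟶ Spec (CommRingCat.of k)) [IsProper p] (hO : IsIso p.appTop) (K : Type u) [Field K] [Algebra k K] [IsAlgClosure k K]
    [ConnectedSpace ↥(W4bk4gw11416.baseChange p K)]
    [PicGrp.Law X] [PicGrp.Law (W4bk4gw11416.baseChange p K)] (hπ : PicGrp.PullMul (proj p K))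
    (L : (W4bk4gw11416.baseChange p K).Modules) (hL : PicF.IsInvertible L)
    (e : PicLoc.PicSet (W4bk4gw11416.baseChange p K) ≃* Multiplicative ℤ)
    (he : e (PicGrp.cls L hL) = Multiplicative.ofAdd 1)
    (r : ℕ) (hr : 1 ≤ r) (J : X.Modules) (hJ : PicF.IsInvertible J)
    (hJL : PicGrp.cls (bcMod p K J) (PicLoc.isInvertible_pullback (proj p K) hJ) = PicGrp.cls L hL ^ r)
    (j a j' : ℤ) (hj' : j' = -j ∨ j' = j + a * r)
    (N N' : (W4bk4gw11416.baseChange p K).Modules) (hN : PicF.IsInvertible N) (hN' : PicF.IsInvertible N')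
    (hNj : PicGrp.cls N hN = PicGrp.cls L hL ^ j) (hN'j : PicGrp.cls N' hN' = PicGrp.cls L hL ^ j')
    (W W' : X.Modules) (hW : FlatMod.IsFinLocFree W) (hW' : FlatMod.IsFinLocFree W')
    (hWi : (¬ IsZero W ∧ ∀ A B : X.Modules, Nonempty (W ≅ A ⊞ B) → IsZero A ∨ IsZero B)) (hW'i : (¬ IsZero W' ∧ ∀ A B : X.Modules, Nonempty (W' ≅ A ⊞ B) → IsZero A ∨ IsZero B))
    (d d' : ℕ) (eW : Nonempty (bcMod p K W ≅ pow N d)) (eW' : Nonempty (bcMod p K W' ≅ pow N' d')) :
    d = d' := by
  letI : X.Over (Spec (CommRingCat.of k)) := ⟨p⟩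
  haveI : IsProper (X ↘ Spec (CommRingCat.of k)) := ‹IsProper p›
  haveI : Algebra.IsAlgebraic k K := IsAlgClosure.isAlgebraic
  have hk : Function.Bijective (Coh.toGlobal (X ↘ Spec (CommRingCat.of k))) := by
    haveI := hO
    exact ((Scheme.ΓSpecIso (CommRingCat.of k)).symm ≪≫ asIso p.appTop).commRingCatIsoToRingEquiv.bijective
  have hΓ := Groth.Agent.ASB64.bijective_toGlobal_bc K hk
  have h := Groth.Agent.ASB64.Typed.mk' (k := k) (K := K) hW hN eW
  have h' := Groth.Agent.ASB64.Typed.mk' (k := k) (K := K) hW' hN' eW'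
  have hd : 0 < d := h.pos hΓ hWi
  have hd' : 0 < d' := h'.pos hΓ hW'i
  refine Groth.Agent.ASB64.eq_of_zpowers_eq hΓ hΓ h hWi h' hW'i ?_
  rcases hj' with rfl | rfl
  · have hz : Nonempty (CohB1.tensorMod N N' ≅ Coh.structureModule _) :=
      (PicGrp.cls_mul_cls_eq_one_iff hN hN').mp (by rw [hNj, hN'j, ← zpow_add, add_neg_cancel, zpow_zero])
    have h1 := (Groth.Agent.ASB64.endCl_tensor hΓ h h' hd hd').symm.trans
      (Groth.Agent.ASB64.endCl_eq_one_of_trivial hΓ (h.tensor h') (Nat.mul_pos hd hd') hz.some)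
    rw [eq_inv_of_mul_eq_one_right h1, Subgroup.zpowers_inv]
  · obtain ⟨Ja, hJa, hJa'⟩ := PicGrp.exists_eq_cls (PicGrp.cls J hJ ^ a)
    have hb : PicGrp.cls (bcMod p K Ja) (PicLoc.isInvertible_pullback (proj p K) hJa) =
        PicGrp.cls L hL ^ (a * r) := by
      rw [← PicGrp.pullHom_cls (proj p K) hπ Ja hJa, ← hJa', map_zpow, PicGrp.pullHom_cls, hJL, ← zpow_natCast,
        ← zpow_mul, mul_comm]
    have hJt := Groth.Agent.ASB64.Typed.mk' (k := k) (K := K) (r := 1) (L := bcMod p K Ja)
      (Groth.Agent.ASB64.isFinLocFree_of_isInvertible hJa) (PicLoc.isInvertible_pullback (proj p K) hJa)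
      ⟨(coproductUniqueIso fun _ : Fin 1 => bcMod p K Ja).symm⟩
    have hi : Nonempty (CohB1.tensorMod N (bcMod p K Ja) ≅ N') := by
      rw [← PicGrp.cl_eq_cl_iff, ← PicGrp.cls_mul_cls_val hN (PicLoc.isInvertible_pullback (proj p K) hJa), hb,
        hNj, ← zpow_add, ← hN'j]
      rfl
    have h1 := Groth.Agent.ASB64.endCl_eq_of_type hΓ ((h.tensor hJt).of_iso hi.some) h' (Nat.mul_pos hd one_pos) hd'
    rw [← h1, Groth.Agent.ASB64.endCl_tensor hΓ h hJt hd one_pos, Groth.Agent.ASB64.endCl_type_one hΓ hJt, mul_one]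

end Groth.Agent.S15409
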