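import Groth.Statements.S15411
import Mathlib.RingTheory.Bialgebra.TensorProduct
import Mathlib.RingTheory.Bialgebra.Equiv
import Mathlib.LinearAlgebra.TensorProduct.Basis
import Mathlib.RingTheory.Flat.Basic
import Mathlib.LinearAlgebra.Basis.VectorSpace
import Mathlib.RingTheory.Flat.FaithfullyFlat.Basic

set_option autoImplicit false
universe u
open scoped TensorProduct
open Hopf

namespace Groth.Agent.S15411

/-- Let K be a field and let finitely many commutative K-algebras be given in two layers, K_i for each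
vertex i and K_k for each edge k, with K-algebra maps from K_{l k} and from K_{r k} into K_k for
every edge k, such that K is the equalizer of the system: every family (x_i) whose two images in K_k
agree for every k comes from exactly one element of K. Let A and B be commutative K-bialgebras
(coordinate rings of affine group or monoid schemes over K) and let u_i : K_i ⊗ B ≅ K_i ⊗ A be
isomorphisms of K_i-bialgebras such that, for every edge k, the base changes of u_{l k} and u_{r k}
to K_k agree. Then there is exactly one isomorphism of K-bialgebras v : B ≅ A inducing every u_i,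
that is with u_i (1 ⊗ b) = 1 ⊗ v b. (The published statement is for the system obtained from a
finite inverse factorization system of fields by base change to a finite separable extension K, and
for linear algebraic groups; this row keeps from that setting only what the argument uses: K is a
field and is the equalizer of the finite system, and the group schemes are affine.) -/
theorem result
    (K : Type u) [Field K] (ιv ιe : Type u) [Finite ιv] [Finite ιe]
    (Kv : ιv → Type u) [∀ i, CommRing (Kv i)] [∀ i, Algebra K (Kv i)]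
    (Ke : ιe → Type u) [∀ k, CommRing (Ke k)] [∀ k, Algebra K (Ke k)]
    (l r : ιe → ιv) (ρl : ∀ k, Kv (l k) →ₐ[K] Ke k) (ρr : ∀ k, Kv (r k) →ₐ[K] Ke k)
    (hlim : ∀ x : (∀ i, Kv i), (∀ k, ρl k (x (l k)) = ρr k (x (r k))) →
      ∃! a : K, ∀ i, algebraMap K (Kv i) a = x i)
    (A B : Type u) [CommRing A] [CommRing B] [Bialgebra K A] [Bialgebra K B]
    (u : ∀ i, (Kv i ⊗[K] B) ≃ₐc[Kv i] (Kv i ⊗[K] A))
    (hu : ∀ (k : ιe) (b : B),
      Algebra.TensorProduct.map (ρl k) (AlgHom.id K A) (u (l k) (1 ⊗ₜ[K] b)) =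
        Algebra.TensorProduct.map (ρr k) (AlgHom.id K A) (u (r k) (1 ⊗ₜ[K] b))) :
    ∃! v : B ≃ₐc[K] A, ∀ (i : ιv) (b : B), u i (1 ⊗ₜ[K] b) = 1 ⊗ₜ[K] v b := by
  classical
  -- descent for a family of tensors
  have desc : ∀ x : ∀ i, Kv i ⊗[K] A,
      (∀ k, Algebra.TensorProduct.map (ρl k) (AlgHom.id K A) (x (l k)) =
        Algebra.TensorProduct.map (ρr k) (AlgHom.id K A) (x (r k))) →
      ∃ a : A, ∀ i, x i = 1 ⊗ₜ[K] a := by
    intro x hx
    let bA := Module.Free.chooseBasis K A
    let eq' := fun (L : Type u) [AddCommGroup L] [Module K L] => TensorProduct.equivFinsuppOfBasisRight (M := L) bA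
    have hnat : ∀ k (z : Kv (l k) ⊗[K] A) β, eq' (Ke k) (Algebra.TensorProduct.map (ρl k) (AlgHom.id K A) z) β =
        ρl k (eq' (Kv (l k)) z β) := by
      intro k z β
      induction z with
      | zero => simp
      | add p q hp hq => simp only [map_add, Finsupp.add_apply, hp, hq]
      | tmul c a => simp [eq']
    have hnat' : ∀ k (z : Kv (r k) ⊗[K] A) β, eq' (Ke k) (Algebra.TensorProduct.map (ρr k) (AlgHom.id K A) z) β =
        ρr k (eq' (Kv (r k)) z β) := by
      intro k z β
      induction z with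
      | zero => simp
      | add p q hp hq => simp only [map_add, Finsupp.add_apply, hp, hq]
      | tmul c a => simp [eq']
    have hβ : ∀ β, ∃! a : K, ∀ i, algebraMap K (Kv i) a = eq' (Kv i) (x i) β := fun β =>
      hlim (fun i => eq' (Kv i) (x i) β) fun k => by rw [← hnat, ← hnat', hx k]
    choose c hc hcu using hβ
    cases nonempty_fintype ιv
    let S : Finset _ := Finset.univ.biUnion fun i => (eq' (Kv i) (x i)).support
    have hS : ∀ β ∉ S, c β = 0 := fun β hβ => (hcu β 0 fun i => by
      rw [map_zero]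
      exact (Finsupp.notMem_support_iff.1 fun h => hβ (Finset.mem_biUnion.2 ⟨i, Finset.mem_univ i, h⟩)).symm).symm
    refine ⟨∑ β ∈ S, c β • bA β, fun i => (eq' (Kv i)).injective (Finsupp.ext fun β => ?_)⟩
    rw [← hc β i]
    simp only [eq', TensorProduct.equivFinsuppOfBasisRight_apply_tmul_apply, map_sum, map_smul,
      Module.Basis.repr_self, Finsupp.coe_finsetSum, Finset.sum_apply, Finsupp.smul_apply, smul_eq_mul]
    rw [Finset.sum_eq_single β (fun γ _ hne => by simp [hne])
      (fun h => by rw [hS β h]; simp)]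
    simp [Algebra.algebraMap_eq_smul_one]
  -- a vertex with non-zero ring
  obtain ⟨i₀, hi₀⟩ : ∃ i, Nontrivial (Kv i) := by
    by_contra h
    simp only [not_exists, not_nontrivial_iff_subsingleton] at h
    obtain ⟨a, -, hu'⟩ := hlim (fun _ => 0) fun k => by simp
    exact one_ne_zero ((hu' 1 fun i => (h i).elim _ _).trans (hu' 0 fun i => map_zero _).symm)
  have hinjA : Function.Injective fun a : A => (1 : Kv i₀) ⊗ₜ[K] a :=
    Algebra.TensorProduct.includeRight_injective (algebraMap K (Kv i₀)).injective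
  choose v hv using fun b : B => desc (fun i => u i (1 ⊗ₜ[K] b)) fun k => hu k b
  let f : B →ₐ[K] A := AlgHom.ofLinearMap
    { toFun := v
      map_add' := fun x y => hinjA (by
        show (1 : Kv i₀) ⊗ₜ[K] v (x + y) = 1 ⊗ₜ[K] (v x + v y)
        rw [TensorProduct.tmul_add, ← hv, ← hv, ← hv, TensorProduct.tmul_add, map_add])
      map_smul' := fun c x => hinjA (by
        show (1 : Kv i₀) ⊗ₜ[K] v (c • x) = 1 ⊗ₜ[K] (c • v x)
        rw [TensorProduct.tmul_smul, ← hv, ← hv, TensorProduct.tmul_smul]
        exact ((u i₀).toAlgEquiv.toLinearEquiv.toLinearMap.restrictScalars K).map_smul c _) }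
    (hinjA (by
      show (1 : Kv i₀) ⊗ₜ[K] v 1 = 1 ⊗ₜ[K] (1 : A)
      rw [← hv, ← Algebra.TensorProduct.one_def, ← Algebra.TensorProduct.one_def]
      exact map_one _))
    (fun x y => hinjA (by
      show (1 : Kv i₀) ⊗ₜ[K] v (x * y) = 1 ⊗ₜ[K] (v x * v y)
      rw [show (1 : Kv i₀) ⊗ₜ[K] (v x * v y) = ((1 : Kv i₀) ⊗ₜ[K] v x) * ((1 : Kv i₀) ⊗ₜ[K] v y) by simp,
        ← hv, ← hv, ← hv, ← map_mul]
      simp))
  have hf : ∀ i b, u i (1 ⊗ₜ[K] b) = 1 ⊗ₜ[K] f b := fun i b => hv b i
  have hε : (Bialgebra.counitAlgHom K A).comp f = Bialgebra.counitAlgHom K B := by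
    refine AlgHom.ext fun b => (algebraMap K (Kv i₀)).injective ?_
    have h : CoalgebraStruct.counit (R := Kv i₀) (u i₀ (1 ⊗ₜ[K] b)) =
        CoalgebraStruct.counit (R := Kv i₀) ((1 : Kv i₀) ⊗ₜ[K] b) := CoalgHomClass.counit_comp_apply (u i₀) _
    rw [hf] at h
    simpa [Algebra.algebraMap_eq_smul_one] using h
  let J : ∀ (C : Type u) [CommRing C] [Algebra K C],
      C ⊗[K] C →ₗ[K] (Kv i₀ ⊗[K] C) ⊗[Kv i₀] (Kv i₀ ⊗[K] C) := fun C _ _ =>
    (TensorProduct.AlgebraTensorModule.distribBaseChange K (Kv i₀) C C).toLinearMap.restrictScalars K ∘ₗ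
      (TensorProduct.mk K (Kv i₀) (C ⊗[K] C) 1)
  have hJinj : Function.Injective (J A) :=
    (TensorProduct.AlgebraTensorModule.distribBaseChange K (Kv i₀) A A).injective.comp
      (Algebra.TensorProduct.includeRight_injective (A := Kv i₀) (B := A ⊗[K] A) (algebraMap K (Kv i₀)).injective)
  have hJ : ∀ (C : Type u) [CommRing C] [Bialgebra K C] (c : C),
      CoalgebraStruct.comul (R := Kv i₀) ((1 : Kv i₀) ⊗ₜ[K] c) = J C (CoalgebraStruct.comul (R := K) c) := by
    intro C _ _ c
    show TensorProduct.AlgebraTensorModule.tensorTensorTensorComm K (Kv i₀) K (Kv i₀) (Kv i₀) (Kv i₀) C C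
      (((1 : Kv i₀) ⊗ₜ[Kv i₀] (1 : Kv i₀)) ⊗ₜ[K] CoalgebraStruct.comul (R := K) c) = _
    generalize CoalgebraStruct.comul (R := K) c = z
    induction z with
    | zero => simp
    | add p q hp hq => simp only [TensorProduct.tmul_add, map_add, hp, hq]
    | tmul p q => simp [J]
  have hΔ : (Algebra.TensorProduct.map f f).comp (Bialgebra.comulAlgHom K B) =
      (Bialgebra.comulAlgHom K A).comp f := by
    refine AlgHom.ext fun b => hJinj ?_
    have h := CoalgHomClass.map_comp_comul_apply (u i₀) ((1 : Kv i₀) ⊗ₜ[K] b)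
    rw [hf, hJ, hJ] at h
    refine Eq.trans ?_ h
    show J A (Algebra.TensorProduct.map f f (CoalgebraStruct.comul (R := K) b)) = _
    generalize CoalgebraStruct.comul (R := K) b = z
    induction z with
    | zero => simp
    | add p q hp hq => simp only [map_add, hp, hq]
    | tmul p q =>
      simp [J]
      exact (congrArg₂ (fun s t => s ⊗ₜ[Kv i₀] t) (hf i₀ p) (hf i₀ q)).symm
  have hbij : Function.Bijective f := by
    have hB : Function.Bijective (f.toLinearMap.lTensor (Kv i₀)) := by
      have e : ⇑(f.toLinearMap.lTensor (Kv i₀)) = ⇑(u i₀) := funext fun z => by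
        induction z with
        | zero => simp
        | add p q hp hq => simp only [map_add, hp, hq]
        | tmul c x =>
          show c ⊗ₜ[K] f x = _
          rw [show c ⊗ₜ[K] x = c • ((1 : Kv i₀) ⊗ₜ[K] x) by simp [TensorProduct.smul_tmul']]
          show _ = (u i₀).toAlgEquiv (c • ((1 : Kv i₀) ⊗ₜ[K] x))
          rw [map_smul]
          show _ = c • u i₀ ((1 : Kv i₀) ⊗ₜ[K] x)
          rw [hf, TensorProduct.smul_tmul', smul_eq_mul, mul_one]
      rw [e]
      exact (u i₀).toAlgEquiv.bijective
    haveI : Module.FaithfullyFlat K (Kv i₀) := inferInstance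
    exact ⟨(Module.FaithfullyFlat.lTensor_injective_iff_injective K (Kv i₀) f.toLinearMap).1 hB.1,
      (Module.FaithfullyFlat.lTensor_surjective_iff_surjective K (Kv i₀) f.toLinearMap).1 hB.2⟩
  refine ⟨BialgEquiv.ofBijective (BialgHom.ofAlgHom f hε hΔ) hbij, hf, fun w hw => BialgEquiv.ext fun b => hinjA ?_⟩
  exact (hw i₀ b).symm.trans (hf i₀ b)

end Groth.Agent.S15411
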