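import Groth.Statements.S15415
import Groth.Agent.GalH1.RedNorm
import Groth.Agent.GalH1.UnitsH1
import Mathlib.FieldTheory.Galois.Infinite

set_option autoImplicit false
universe u v w
open scoped TensorProduct
attribute [local instance] CSAGal.tensorAction GpH1.unitsAction
open GalCoh

namespace Groth.Agent.S15415

theorem result
    (k : Type u) [Field k] (K : Type v) [Field K] [Algebra k K] [FiniteDimensional k K] [IsGalois k K]
    (A : Type w) [Ring A] [Algebra k A] [Algebra.IsCentral k A] [IsSimpleRing A] [FiniteDimensional k A]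
    (hA : Curves.Splits k A K)
    (N : A →* k) (hN : CSAGal.IsRedNorm k A N)
    (NK : (K ⊗[k] A) →* K) (hNK : CSAGal.IsRedNorm K (K ⊗[k] A) NK) :
    (∀ a : GpH1.OneCocycle (K ≃ₐ[k] K) (K ⊗[k] A)ˣ, (∀ σ, NK (a σ : K ⊗[k] A) = 1) →
        ∃ (c : kˣ) (b : (K ⊗[k] A)ˣ), NK (b : K ⊗[k] A) = algebraMap k K (c : k) ∧
          ∀ σ : K ≃ₐ[k] K, a σ = b⁻¹ * σ • b) ∧
    (∀ (c c' : kˣ) (b b' : (K ⊗[k] A)ˣ),
        NK (b : K ⊗[k] A) = algebraMap k K (c : k) → NK (b' : K ⊗[k] A) = algebraMap k K (c' : k) →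
        ((∃ s : (K ⊗[k] A)ˣ, NK (s : K ⊗[k] A) = 1 ∧
            ∀ σ : K ≃ₐ[k] K, b'⁻¹ * σ • b' = s⁻¹ * (b⁻¹ * σ • b) * σ • s) ↔
          ∃ x : Aˣ, (c' : k) = N (x : A) * (c : k))) := by
  obtain ⟨n, hn, ⟨φ⟩⟩ := hA
  have hdet : ∀ x : K ⊗[k] A, NK x = Matrix.det (φ x) := fun x => by
    have := GalH1.det_eq_of_isRedNorm (k := K) (A := K ⊗[k] A) (K := K)
      ((Algebra.TensorProduct.lid K (K ⊗[k] A)).trans φ) hNK x
    simp only [AlgEquiv.trans_apply, Algebra.TensorProduct.lid_tmul, one_smul] at this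
    exact this.symm
  have hone : ∀ a : A, NK ((1 : K) ⊗ₜ[k] a) = algebraMap k K (N a) := fun a => by
    rw [hdet, GalH1.det_eq_of_isRedNorm φ hN]
  have hgal : ∀ (σ : K ≃ₐ[k] K) (x : K ⊗[k] A), NK (σ • x) = σ (NK x) := fun σ x => by
    let τ : K ⊗[k] A ≃ₐ[K] Matrix (Fin n) (Fin n) K :=
      { toFun := fun x => (φ (σ • x)).map σ.symm
        invFun := fun M => σ⁻¹ • φ.symm (M.map σ)
        left_inv := fun x => by
          show σ⁻¹ • φ.symm (((φ (σ • x)).map σ.symm).map σ) = x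
          rw [Matrix.map_map, show (σ ∘ σ.symm : K → K) = id from funext σ.apply_symm_apply, Matrix.map_id,
            φ.symm_apply_apply, inv_smul_smul]
        right_inv := fun M => by
          show (φ (σ • σ⁻¹ • φ.symm (M.map σ))).map σ.symm = M
          rw [smul_inv_smul, φ.apply_symm_apply, Matrix.map_map,
            show (σ.symm ∘ σ : K → K) = id from funext σ.symm_apply_apply, Matrix.map_id]
        map_mul' := fun x y => by rw [smul_mul', map_mul, Matrix.map_mul]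
        map_add' := fun x y => by rw [smul_add, map_add, Matrix.map_add _ (map_add σ.symm)]
        commutes' := fun c => by
          rw [Algebra.algebraMap_eq_smul_one, smul_distrib_smul σ c (1 : K ⊗[k] A), smul_one, map_smul, map_one,
            Algebra.algebraMap_eq_smul_one]
          ext r s
          simp [Matrix.one_apply, AlgEquiv.smul_def, apply_ite σ.symm] }
    have h := GalH1.det_eq_of_isRedNorm (k := K) (A := K ⊗[k] A) (K := K)
      ((Algebra.TensorProduct.lid K (K ⊗[k] A)).trans τ) hNK x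
    simp only [AlgEquiv.trans_apply, Algebra.TensorProduct.lid_tmul, one_smul] at h
    have h' : σ.symm (Matrix.det (φ (σ • x))) = NK x := (AlgEquiv.map_det σ.symm _).trans h
    rw [hdet (σ • x), ← h', σ.apply_symm_apply]
  refine ⟨fun a ha => ?_, fun c c' b b' hb hb' => ⟨?_, ?_⟩⟩
  · obtain ⟨b, hb⟩ := (GpH1.OneCocycle.cl_eq_cl_iff a GpH1.OneCocycle.trivial).1
      (GalH1.units_isTrivial (k := k) (K := K) (A := A) a.cl)
    have hb' : ∀ σ, a σ = b⁻¹ * σ • b := fun σ => by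
      refine (hb σ).trans ?_
      show b⁻¹ * 1 * σ • b = _
      rw [mul_one]
    have hne : NK (b : K ⊗[k] A) ≠ 0 := (b.isUnit.map NK).ne_zero
    obtain ⟨c, hc⟩ := (InfiniteGalois.mem_range_algebraMap_iff_fixed (k := k) (NK (b : K ⊗[k] A))).2 fun σ => by
      rw [← hgal]
      have h := ha σ
      rw [hb', Units.val_mul, map_mul] at h
      have h2 := congrArg (NK (b : K ⊗[k] A) * ·) h
      simp only [← mul_assoc, ← map_mul, Units.mul_inv, mul_one] at h2
      rw [map_mul, map_one, one_mul] at h2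
      exact h2
    refine ⟨Units.mk0 c fun h0 => hne (by rw [← hc, h0, map_zero]), b, hc.symm, hb'⟩
  · rintro ⟨s, hs, hsσ⟩
    let u : (K ⊗[k] A)ˣ := b' * (b * s)⁻¹
    have hfix : ∀ σ : K ≃ₐ[k] K, σ • u = u := fun σ => by
      have h : σ • b' = b' * (s⁻¹ * (b⁻¹ * σ • b) * σ • s) := by rw [← hsσ σ, mul_inv_cancel_left]
      simp only [u, smul_mul', smul_inv', h]
      group
    have hfixv : ∀ (v : (K ⊗[k] A)ˣ), (∀ σ : K ≃ₐ[k] K, σ • v = v) → ∃ z : A, (v : K ⊗[k] A) = 1 ⊗ₜ[k] z :=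
      fun v hv => GalH1.exists_eq_one_tmul fun σ => congrArg Units.val (hv σ)
    obtain ⟨z, hz⟩ := hfixv u hfix
    obtain ⟨z', hz'⟩ := hfixv u⁻¹ fun σ => by rw [smul_inv', hfix]
    have e1 : z * z' = 1 := GalH1.one_tmul_injective (k := k) (K := K) A (by
      show (1 : K) ⊗ₜ[k] (z * z') = (1 : K) ⊗ₜ[k] (1 : A)
      rw [← mul_one (1 : K), ← Algebra.TensorProduct.tmul_mul_tmul, ← hz, ← hz', Units.mul_inv,
        mul_one, Algebra.TensorProduct.one_def])
    have e2 : z' * z = 1 := GalH1.one_tmul_injective (k := k) (K := K) A (by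
      show (1 : K) ⊗ₜ[k] (z' * z) = (1 : K) ⊗ₜ[k] (1 : A)
      rw [← mul_one (1 : K), ← Algebra.TensorProduct.tmul_mul_tmul, ← hz, ← hz', Units.inv_mul,
        mul_one, Algebra.TensorProduct.one_def])
    refine ⟨⟨z, z', e1, e2⟩, (algebraMap k K).injective ?_⟩
    have hu : u * (b * s) = b' := inv_mul_cancel_right _ _
    rw [map_mul, ← hone, ← hz, ← hb, ← hb', ← map_mul]
    have h3 := congrArg (fun w : (K ⊗[k] A)ˣ => NK (w : K ⊗[k] A)) hu
    simp only [Units.val_mul, map_mul, hs, mul_one] at h3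
    rw [map_mul]
    exact h3.symm
  · rintro ⟨x, hx⟩
    let w : (K ⊗[k] A)ˣ := Units.map ((Algebra.TensorProduct.includeRight : A →ₐ[k] K ⊗[k] A) : A →* K ⊗[k] A) x
    have hw : (w : K ⊗[k] A) = (1 : K) ⊗ₜ[k] (x : A) := rfl
    refine ⟨b⁻¹ * w⁻¹ * b', ?_, fun σ => ?_⟩
    · have hbne : NK (b : K ⊗[k] A) ≠ 0 := (b.isUnit.map NK).ne_zero
      have hwne : NK (w : K ⊗[k] A) ≠ 0 := (w.isUnit.map NK).ne_zero
      apply mul_left_cancel₀ (mul_ne_zero hwne hbne)
      rw [← map_mul, ← map_mul, ← Units.val_mul, ← Units.val_mul, show w * b * (b⁻¹ * w⁻¹ * b') = b' by group,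
        hb', hx, mul_one, map_mul, ← hone, ← hw, ← hb, ← map_mul, Units.val_mul]
    · have hσw : σ • w = w := Units.ext (by
        show σ • ((1 : K) ⊗ₜ[k] (x : A)) = _
        rw [GalH1.smul_one_tmul]
        rfl)
      simp only [smul_mul', smul_inv', hσw]
      group

end Groth.Agent.S15415
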