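import Groth.Statements.S15420
import Groth.Agent.GrMod19.QReg
import Groth.Agent.GrSyz54.Poly

set_option autoImplicit false
universe u
open GrLC

namespace Groth.Agent.S15420

/-- Let k be a field, S = k[x_0, …, x_r] graded by degree, 𝔪 = (x_0, …, x_r), M a finitely generated
ℤ-graded S-module, x ∈ S_1 a linear form quasi-regular on M (the elements of M killed by x form a
submodule of finite length), and N = M/xM, given as a graded module with a surjective
degree-preserving S-linear map π : M → N with kernel xM; graded local cohomology is computed from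
*injective resolutions in the graded category. Call a module d-regular when H^0_𝔪 of it has no
nonzero piece in degrees above d and H^i_𝔪 of it vanishes in degree d − i + 1 for every i > 0. Then
M is d-regular if and only if N is d-regular and H^0_𝔪(M) has no nonzero piece in degrees above d. -/
theorem result (k : Type u) [Field k] (r : ℕ)
    (M : Type u) [AddCommGroup M] [Module k M] [Module (MvPolynomial (Fin (r + 1)) k) M]
    [IsScalarTower k (MvPolynomial (Fin (r + 1)) k) M] [Module.Finite (MvPolynomial (Fin (r + 1)) k) M]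
    (ℳ : ℤ → Submodule k M) [DirectSum.Decomposition ℳ] [SetLike.GradedSMul (GrSyz.stdGr k (Fin (r + 1))) ℳ]
    (x : MvPolynomial (Fin (r + 1)) k) (hx : x ∈ GrSyz.stdGr k (Fin (r + 1)) 1)
    (hq : IsFiniteLength (MvPolynomial (Fin (r + 1)) k) ↥(Submodule.torsionBy (MvPolynomial (Fin (r + 1)) k) M x))
    (N : Type u) [AddCommGroup N] [Module k N] [Module (MvPolynomial (Fin (r + 1)) k) N]
    [IsScalarTower k (MvPolynomial (Fin (r + 1)) k) N] [Module.Finite (MvPolynomial (Fin (r + 1)) k) N]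
    (𝒩 : ℤ → Submodule k N) [DirectSum.Decomposition 𝒩] [SetLike.GradedSMul (GrSyz.stdGr k (Fin (r + 1))) 𝒩]
    (π : M →ₗ[MvPolynomial (Fin (r + 1)) k] N) (hπ : Function.Surjective π) (hπg : GrLC.IsGrHom ℳ 𝒩 π)
    (hker : LinearMap.ker π = LinearMap.range (x • (LinearMap.id : M →ₗ[MvPolynomial (Fin (r + 1)) k] M)))
    (E : GrLC.StarInjRes (GrSyz.stdGr k (Fin (r + 1))) ℳ) (E' : GrLC.StarInjRes (GrSyz.stdGr k (Fin (r + 1))) 𝒩) (d : ℤ) :
    (GrLC.endDeg (E.Hgr (GrSyz.irrel (GrSyz.stdGr k (Fin (r + 1)))) 0) ≤ ((d : WithTop ℤ) : WithBot (WithTop ℤ)) ∧ ∀ i : ℕ, 0 < i → E.Hcomp (GrSyz.irrel (GrSyz.stdGr k (Fin (r + 1)))) i (d - (i : ℤ) + 1) = ⊥) ↔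
      ((GrLC.endDeg (E'.Hgr (GrSyz.irrel (GrSyz.stdGr k (Fin (r + 1)))) 0) ≤ ((d : WithTop ℤ) : WithBot (WithTop ℤ)) ∧ ∀ i : ℕ, 0 < i → E'.Hcomp (GrSyz.irrel (GrSyz.stdGr k (Fin (r + 1)))) i (d - (i : ℤ) + 1) = ⊥) ∧
        GrLC.endDeg (E.Hgr (GrSyz.irrel (GrSyz.stdGr k (Fin (r + 1)))) 0) ≤ ((d : WithTop ℤ) : WithBot (WithTop ℤ))) := by
  have hp : GrMod19.NonnegGr (GrSyz.stdGr k (Fin (r + 1))) := fun n hn y hy => by
    rw [GrSyz54.stdGr_neg hn, Submodule.mem_bot] at hy
    exact hy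
  have ha : GrMod19.IsPlus (GrSyz.irrel (GrSyz.stdGr k (Fin (r + 1)))) := by
    refine congrArg Ideal.span (Set.ext fun y => ?_)
    simp only [Set.mem_ofPred_eq, Set.mem_iUnion, Set.mem_Ioi, SetLike.mem_coe, exists_prop]
  have hhom : (GrSyz.irrel (GrSyz.stdGr k (Fin (r + 1)))).toIdeal =
      Ideal.span (GrSyz.stdGr k (Fin (r + 1)) 1 : Set (MvPolynomial (Fin (r + 1)) k)) := by
    refine le_antisymm ?_ (Ideal.span_le.2 fun y hy => GrMod19.mem_plus_of_mem ha one_pos hy)
    rw [GrSyz54.irrel_eq_span_X, Ideal.span_le]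
    rintro _ ⟨i, rfl⟩
    exact Ideal.subset_span (GrSyz54.X_mem_stdGr i)
  have key := GrMod19.reg_iff_quot ℳ hp ha hx hq 𝒩 π hπ hπg hker hhom d
  simp only [GrMod19.endDeg_Hgr_zero_le_iff]
  convert key using 2
  all_goals
    first
      | exact forall₂_congr fun i _ => by
          rw [show d + 1 - (i : ℤ) = d - i + 1 by ring]
          exact (GrMod19.vanH_iff _ E).symm
      | exact and_congr_right fun _ => forall₂_congr fun i _ => by
          rw [show d + 1 - (i : ℤ) = d - i + 1 by ring]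
          exact (GrMod19.vanH_iff _ E').symm

end Groth.Agent.S15420
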