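import Groth.Statements.S15432
import Groth.Agent.GrSyz54.HB
import Mathlib.Tactic.LinearCombination
import Mathlib.RingTheory.MvPolynomial.Homogeneous

set_option autoImplicit false
universe u
open GrSyz

namespace Groth.Agent.S15432

/-- Let k be a field, Z a nonempty finite set of nonzero vectors of k^3, regarded as points of the
projective plane, I ⊆ S = k[x_0, x_1, x_2] the homogeneous vanishing ideal of Z (a polynomial lies
in I exactly when each of its homogeneous components vanishes at every vector of Z), M = S/I given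
as a ℤ-graded S-module with a surjective degree-preserving S-linear map π : S → M with kernel I, and
F a minimal graded free resolution of M of length at most 2 whose terms F_1 and F_2 have ranks t + 1
and t, with basis degrees a_1 ≥ … ≥ a_{t+1} for F_1 and b_1 ≥ … ≥ b_t for F_2 (non-increasing along
the chosen bases), so that the (i, j) entry of the matrix F_2 → F_1 has degree b_j − a_i. Put e_i =
b_i − a_i and f_i = b_i − a_{i+1}. Then e_i ≥ 1 and f_i ≥ 1 for every i, and Σ_i a_i = Σ_j b_j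
(equivalently a_i = Σ_{j < i} e_j + Σ_{j ≥ i} f_j for every i). (The ordering of both bases is the
standing assumption under which the published statement is made; this row carries it as the
hypotheses on the basis degrees. The further inequalities f_i ≥ e_i and f_i ≥ e_{i+1} follow at once
from the ordering and are not restated.) -/
theorem result (k : Type u) [Field k]
    (Z : Finset (Fin 3 → k)) (hZ : ∀ p ∈ Z, p ≠ 0) (hZne : Z.Nonempty) (I : Ideal (MvPolynomial (Fin 3) k))
    (hI : ∀ f : MvPolynomial (Fin 3) k, f ∈ I ↔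
      ∀ p ∈ Z, ∀ j : ℕ, MvPolynomial.eval p (MvPolynomial.homogeneousComponent j f) = 0)
    (M : Type u) [AddCommGroup M] [Module k M] [Module (MvPolynomial (Fin 3) k) M] [IsScalarTower k (MvPolynomial (Fin 3) k) M]
    (ℳ : ℤ → Submodule k M) [DirectSum.Decomposition ℳ] [SetLike.GradedSMul (GrSyz.stdGr k (Fin 3)) ℳ]
    (π : MvPolynomial (Fin 3) k →ₗ[MvPolynomial (Fin 3) k] M) (hπ : Function.Surjective π)
    (hπg : GrLC.IsGrHom (GrSyz.stdGr k (Fin 3)) ℳ π) (hker : LinearMap.ker π = I)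
    (F : GrSyz.FreeRes (GrSyz.stdGr k (Fin 3)) ℳ) (hF : F.IsMinimal (GrSyz.irrel (GrSyz.stdGr k (Fin 3))).toIdeal) (hlen : F.HasLengthLE 2)
    (t : ℕ) (h1 : F.rk 1 = t + 1) (h2 : F.rk 2 = t)
    (ha : ∀ i j : Fin (t + 1), i ≤ j → F.deg 1 (Fin.cast h1.symm j) ≤ F.deg 1 (Fin.cast h1.symm i))
    (hb : ∀ i j : Fin t, i ≤ j → F.deg 2 (Fin.cast h2.symm j) ≤ F.deg 2 (Fin.cast h2.symm i)) :
    (∀ i : Fin t, 1 ≤ F.deg 2 (Fin.cast h2.symm i) - F.deg 1 (Fin.cast h1.symm i.castSucc) ∧
        1 ≤ F.deg 2 (Fin.cast h2.symm i) - F.deg 1 (Fin.cast h1.symm i.succ)) ∧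
      ∑ i : Fin (t + 1), F.deg 1 (Fin.cast h1.symm i) = ∑ j : Fin t, F.deg 2 (Fin.cast h2.symm j) := by
  classical
  set e := π 1 with he
  have he0 : e ∈ ℳ 0 := hπg 0 1 Groth.Agent.GrSyz54.one_mem_stdGr
  have hgen : ∀ x : M, ∃ p : MvPolynomial (Fin 3) k, p • e = x := fun x => by
    obtain ⟨p, rfl⟩ := hπ x
    exact ⟨p, by rw [he, ← map_smul, smul_eq_mul, mul_one]⟩
  obtain ⟨p₀, hp₀⟩ := hZne
  have : Nontrivial M := ⟨e, 0, fun h => by
    have h1 : (1 : MvPolynomial (Fin 3) k) ∈ I := hker ▸ LinearMap.mem_ker.2 h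
    have h2 := (hI 1).1 h1 p₀ hp₀ 0
    rw [MvPolynomial.homogeneousComponent_zero, MvPolynomial.coeff_zero_one, map_one, map_one] at h2
    exact one_ne_zero h2⟩
  obtain ⟨hr0, hd0⟩ := Groth.Agent.GrSyz54.rk_zero_of_cyclic F hF e he0 hgen
  have h3 : F.rk 3 = 0 := hlen 3 (by omega)
  have hlt := Groth.Agent.GrSyz54.deg_lt_deg F hF hr0 t h1 h2 h3 ha hb
  refine ⟨fun i => ⟨by have := hlt i; omega, ?_⟩, ?_⟩
  · have := hlt i
    have := ha i.castSucc i.succ (Fin.castSucc_le_succ _)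
    omega
  -- the Hilbert function is bounded by the number of points
  have hle : ∀ d : ℕ, Module.finrank k ↥(ℳ (d : ℤ)) ≤ Z.card := fun d => by
    let ev : ↥(GrSyz.stdGr k (Fin 3) (d : ℤ)) →ₗ[k] (Z → k) :=
      LinearMap.pi fun p => (MvPolynomial.aeval (p.1 : Fin 3 → k)).toLinearMap ∘ₗ Submodule.subtype _
    let g : ↥(GrSyz.stdGr k (Fin 3) (d : ℤ)) →ₗ[k] ↥(ℳ (d : ℤ)) :=
      (π.restrictScalars k).restrict fun v hv => hπg (d : ℤ) v hv
    have hg : Function.Surjective g := fun m => by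
      obtain ⟨x, hx, hx0⟩ := Groth.Agent.GrSyz54.exists_homog_preimage
        (GrSyz.stdGr k (Fin 3)) ℳ hπg (LinearMap.mem_range.2 (hπ (m : M))) m.2
      exact ⟨⟨x, hx⟩, Subtype.ext hx0⟩
    have hker0 : LinearMap.ker ev ≤ LinearMap.ker g := fun f hf => by
      rw [LinearMap.mem_ker] at hf ⊢
      apply Subtype.ext
      have hfI : (f : MvPolynomial (Fin 3) k) ∈ I := (hI _).2 fun p hp j => by
        have hd : (f : MvPolynomial (Fin 3) k) ∈ MvPolynomial.homogeneousSubmodule (Fin 3) k d := by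
          rw [← Groth.Agent.GrSyz54.stdGr_natCast]; exact f.2
        rw [MvPolynomial.homogeneousComponent_of_mem hd]
        split_ifs
        · exact congr_fun hf ⟨p, hp⟩
        · exact map_zero _
      rw [← hker] at hfI
      exact hfI
    have e1 := LinearMap.finrank_range_add_finrank_ker ev
    have e2 := LinearMap.finrank_range_add_finrank_ker g
    have e3 := Submodule.finrank_mono hker0
    have e4 : Module.finrank k (LinearMap.range ev) ≤ Z.card := by
      refine (Submodule.finrank_le _).trans ?_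
      simp
    rw [LinearMap.range_eq_top.2 hg, finrank_top] at e2
    omega
  -- the formula for the Hilbert function
  set A := ∑ i : Fin (t + 1), F.deg 1 (Fin.cast h1.symm i) with hA
  set B := ∑ j : Fin t, F.deg 2 (Fin.cast h2.symm j) with hB
  set QA := ∑ i : Fin (t + 1), F.deg 1 (Fin.cast h1.symm i) ^ 2 with hQA
  set QB := ∑ j : Fin t, F.deg 2 (Fin.cast h2.symm j) ^ 2 with hQB
  have hbin : ∀ (d j : ℤ), j ≤ d →
      2 * Groth.Agent.GrSyz54.binom 2 d j = (d - j + 2) * (d - j + 1) := by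
    intro d j hj
    rw [Groth.Agent.GrSyz54.binom, if_pos hj]
    obtain ⟨N, hN⟩ := Int.eq_ofNat_of_zero_le (a := d - j) (by omega)
    rw [hN, Int.toNat_natCast, Nat.add_comm, Nat.choose_two_right, Nat.add_sub_assoc (by omega) N]
    norm_num
    have hdvd : (2 : ℤ) ∣ ((N : ℤ) + 2) * ((N : ℤ) + 1) := by
      have h := Int.even_mul_succ_self ((N : ℤ) + 1)
      rw [show ((N : ℤ) + 1 + 1) = (N : ℤ) + 2 by ring, mul_comm] at h
      exact h.two_dvd
    rw [Int.mul_ediv_cancel_of_emod_eq_zero (Int.emod_eq_zero_of_dvd hdvd)]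
  obtain ⟨D, hD⟩ := ((Finset.univ.image (F.deg 1)) ∪ (Finset.univ.image (F.deg 2))).bddAbove
  have hD1 : ∀ b, F.deg 1 b ≤ D := fun b => hD (Finset.mem_coe.2 (Finset.mem_union_left _
    (Finset.mem_image_of_mem _ (Finset.mem_univ b))))
  have hD2 : ∀ b, F.deg 2 b ≤ D := fun b => hD (Finset.mem_coe.2 (Finset.mem_union_right _
    (Finset.mem_image_of_mem _ (Finset.mem_univ b))))
  have key : ∀ d : ℕ, D ≤ (d : ℤ) → 2 * (Module.finrank k ↥(ℳ (d : ℤ)) : ℤ) =
      2 * (d : ℤ) * (A - B) + (3 * A - 3 * B - QA + QB) := by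
    intro d hd
    rw [Groth.Agent.GrSyz54.finrank_piece_eq_binom F 2 hlen (d : ℤ), Finset.sum_range_succ,
      Finset.sum_range_succ, Finset.sum_range_one]
    have s0 : ∑ b, Groth.Agent.GrSyz54.binom 2 (d : ℤ) (F.deg 0 b) =
        Groth.Agent.GrSyz54.binom 2 (d : ℤ) 0 := by
      rw [Finset.sum_congr rfl (g := fun _ => Groth.Agent.GrSyz54.binom 2 (d : ℤ) 0)
        (fun b _ => by rw [hd0]), Finset.sum_const, Finset.card_univ, Fintype.card_fin, hr0,
        one_smul]
    have s1 : 2 * ∑ b, Groth.Agent.GrSyz54.binom 2 (d : ℤ) (F.deg 1 b) =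
        ((t : ℤ) + 1) * ((d : ℤ) ^ 2 + 3 * d + 2) - (2 * d + 3) * A + QA := by
      rw [← Equiv.sum_comp (finCongr h1.symm), Finset.mul_sum, hA, hQA,
        Finset.sum_congr rfl (fun i _ => hbin (d : ℤ) (F.deg 1 (finCongr h1.symm i))
          ((hD1 _).trans hd))]
      simp only [finCongr_apply, Finset.mul_sum]
      rw [show ((t : ℤ) + 1) * ((d : ℤ) ^ 2 + 3 * d + 2) =
        ∑ _i : Fin (t + 1), ((d : ℤ) ^ 2 + 3 * d + 2) by simp, ← Finset.sum_sub_distrib,
        ← Finset.sum_add_distrib]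
      exact Finset.sum_congr rfl fun i _ => by ring
    have s2 : 2 * ∑ b, Groth.Agent.GrSyz54.binom 2 (d : ℤ) (F.deg 2 b) =
        (t : ℤ) * ((d : ℤ) ^ 2 + 3 * d + 2) - (2 * d + 3) * B + QB := by
      rw [← Equiv.sum_comp (finCongr h2.symm), Finset.mul_sum, hB, hQB,
        Finset.sum_congr rfl (fun i _ => hbin (d : ℤ) (F.deg 2 (finCongr h2.symm i))
          ((hD2 _).trans hd))]
      simp only [finCongr_apply, Finset.mul_sum]
      rw [show (t : ℤ) * ((d : ℤ) ^ 2 + 3 * d + 2) =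
        ∑ _i : Fin t, ((d : ℤ) ^ 2 + 3 * d + 2) by simp, ← Finset.sum_sub_distrib,
        ← Finset.sum_add_distrib]
      exact Finset.sum_congr rfl fun i _ => by ring
    have s0b := hbin (d : ℤ) 0 (by omega)
    rw [s0]
    linear_combination s0b - s1 + s2
  by_contra hne
  set K := 3 * A - 3 * B - QA + QB with hK
  obtain ⟨d, hd⟩ : ∃ d : ℕ, D ≤ (d : ℤ) ∧ (Z.card : ℤ) + |K| < (d : ℤ) :=
    ⟨D.natAbs + (Z.card + K.natAbs) + 1, by omega, by rw [Int.abs_eq_natAbs]; omega⟩
  have h5 := key d hd.1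
  have h6 := hle d
  have h7 : (Module.finrank k ↥(ℳ (d : ℤ)) : ℤ) ≤ Z.card := by exact_mod_cast h6
  rcases lt_or_gt_of_ne (sub_ne_zero.2 hne) with h | h
  · nlinarith [neg_abs_le K, le_abs_self K, mul_le_mul_of_nonneg_left
      (show A - B ≤ -1 by omega) (show (0 : ℤ) ≤ 2 * d by omega)]
  · nlinarith [neg_abs_le K, le_abs_self K, mul_le_mul_of_nonneg_left
      (show (1 : ℤ) ≤ A - B by omega) (show (0 : ℤ) ≤ 2 * d by omega)]

end Groth.Agent.S15432
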