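import Groth.Statements.S15433
import Groth.Agent.GrSyz54.Cyclic
import Groth.Agent.S15425

set_option autoImplicit false
universe u
open GrSyz

namespace Groth.Agent.S15433

/-- Let k be a field, S = k[x_0, …, x_r] graded by degree, 𝔪 = (x_0, …, x_r), and M = S/I a graded
quotient of S, given with a surjective degree-preserving S-linear map π : S → M whose kernel I
contains no nonzero linear form. Let y_0, …, y_t be linear forms forming a weakly regular sequence
on M (each a non-zerodivisor modulo the previous ones) and N = M/(y_0, …, y_t)M, given as a graded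
module with a surjective degree-preserving S-linear map σ : M → N with kernel (y_0, …, y_t)M, and
suppose N has finite length ℓ. Then reg M + (r − t) ≤ ℓ, reg being the Castelnuovo–Mumford
regularity of M in the sense of minimal graded free resolutions. (The published statement is reg S_X
≤ deg X − codim X for an arithmetically Cohen–Macaulay subvariety X of P^r not contained in a
hyperplane; this row is the algebraic statement its proof establishes, with S_X any graded quotient
of S by an ideal without linear forms, the maximal regular sequence of linear forms given, deg X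
replaced by the length of S_X/(y_0, …, y_t)S_X and codim X by r − t, which agree with the degree and
the codimension in that situation.) -/
theorem result (k : Type u) [Field k] (r : ℕ)
    (M : Type u) [AddCommGroup M] [Module k M] [Module (MvPolynomial (Fin (r + 1)) k) M]
    [IsScalarTower k (MvPolynomial (Fin (r + 1)) k) M] [Module.Finite (MvPolynomial (Fin (r + 1)) k) M]
    (ℳ : ℤ → Submodule k M) [DirectSum.Decomposition ℳ] [SetLike.GradedSMul (GrSyz.stdGr k (Fin (r + 1))) ℳ]
    (π : MvPolynomial (Fin (r + 1)) k →ₗ[MvPolynomial (Fin (r + 1)) k] M) (hπ : Function.Surjective π)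
    (hπg : GrLC.IsGrHom (GrSyz.stdGr k (Fin (r + 1))) ℳ π)
    (hlin : ∀ x : MvPolynomial (Fin (r + 1)) k, x ∈ GrSyz.stdGr k (Fin (r + 1)) 1 → π x = 0 → x = 0)
    (ys : List (MvPolynomial (Fin (r + 1)) k)) (hys : ∀ y ∈ ys, y ∈ GrSyz.stdGr k (Fin (r + 1)) 1)
    (hreg : RingTheory.Sequence.IsWeaklyRegular M ys)
    (N : Type u) [AddCommGroup N] [Module k N] [Module (MvPolynomial (Fin (r + 1)) k) N]
    [IsScalarTower k (MvPolynomial (Fin (r + 1)) k) N]
    (𝒩 : ℤ → Submodule k N) [DirectSum.Decomposition 𝒩] [SetLike.GradedSMul (GrSyz.stdGr k (Fin (r + 1))) 𝒩]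
    (σ : M →ₗ[MvPolynomial (Fin (r + 1)) k] N) (hσ : Function.Surjective σ) (hσg : GrLC.IsGrHom ℳ 𝒩 σ)
    (hker : LinearMap.ker σ = Ideal.ofList ys • (⊤ : Submodule (MvPolynomial (Fin (r + 1)) k) M))
    (ℓ : ℕ) (hℓ : Module.length (MvPolynomial (Fin (r + 1)) k) N = (ℓ : ℕ∞)) :
    GrSyz.reg (GrSyz.stdGr k (Fin (r + 1))) ℳ (GrSyz.irrel (GrSyz.stdGr k (Fin (r + 1)))).toIdeal + ((((r : ℤ) + 1 - (ys.length : ℤ) : ℤ) : WithTop ℤ) : WithBot (WithTop ℤ)) ≤
      (((ℓ : ℤ) : WithTop ℤ) : WithBot (WithTop ℤ)) := by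
  classical
  have hMfin : Module.Finite (MvPolynomial (Fin (r + 1)) k) N := Module.Finite.of_surjective σ hσ
  let τ : MvPolynomial (Fin (r + 1)) k →ₗ[MvPolynomial (Fin (r + 1)) k] N := σ.comp π
  have hτ : Function.Surjective τ := hσ.comp hπ
  have hτg : GrLC.IsGrHom (GrSyz.stdGr k (Fin (r + 1))) 𝒩 τ := fun d x hx => hσg _ _ (hπg _ _ hx)
  have hfl : IsFiniteLength (MvPolynomial (Fin (r + 1)) k) N :=
    Module.length_ne_top_iff.1 (by rw [hℓ]; exact ENat.coe_ne_top ℓ)
  rw [Groth.Agent.S15425.result k r M ℳ ys hys hreg N 𝒩 σ hσ hσg hker hfl]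
  -- the length is the dimension
  have hk : Module.length k N = (ℓ : ℕ∞) := by
    obtain ⟨m, hm⟩ : ∃ m : ℕ, ∀ z ∈ (GrSyz.irrel (GrSyz.stdGr k (Fin (r + 1)))).toIdeal ^ m,
        ∀ x : N, z • x = 0 := by
      obtain ⟨m, hm⟩ := Groth.Agent.GrSyz54.isPowerTorsion_of_isFiniteLength 𝒩 hfl (τ 1)
      refine ⟨m, fun z hz x => ?_⟩
      obtain ⟨p, rfl⟩ := hτ x
      rw [show τ p = p • τ 1 by rw [← map_smul, smul_eq_mul, mul_one], smul_comm, hm z hz, smul_zero]
    rw [← Groth.Agent.GrSyz54.length_eq_of_pow_smul m N hm, hℓ]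
  have hfk : Module.Finite k N := by
    have := (isFiniteLength_iff_isNoetherian_isArtinian.1
      (Module.length_ne_top_iff.1 (show Module.length k N ≠ ⊤ by rw [hk]; exact ENat.coe_ne_top ℓ))).1
    infer_instance
  rw [Module.length_eq_finrank, Nat.cast_inj] at hk
  -- pieces
  have hpre : ∀ (d : ℤ) (y : N), y ∈ 𝒩 d → ∃ p ∈ GrSyz.stdGr k (Fin (r + 1)) d, τ p = y :=
    fun d y hy => Groth.Agent.GrSyz54.exists_homog_preimage _ _ hτg (hτ y) hy
  have hneg : ∀ d : ℤ, d < 0 → 𝒩 d = ⊥ := fun d hd => (Submodule.eq_bot_iff _).2 fun y hy => by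
    obtain ⟨p, hp, rfl⟩ := hpre d y hy
    rw [Groth.Agent.GrSyz54.stdGr_neg hd, Submodule.mem_bot] at hp
    rw [hp, map_zero]
  have hup : ∀ e d : ℕ, d ≤ e → 𝒩 (e : ℤ) ≠ ⊥ → 𝒩 (d : ℤ) ≠ ⊥ := by
    intro e d hde
    induction hde with
    | refl => exact id
    | @step e _ ih =>
      intro he
      refine ih fun h0 => he ((Submodule.eq_bot_iff _).2 fun y hy => ?_)
      obtain ⟨p, hp, rfl⟩ := hpre _ y hy
      refine Groth.Agent.GrSyz54.eq_zero_of_gap (fun q hq => ?_) p hp
      have := hτg _ _ hq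
      rwa [h0, Submodule.mem_bot] at this
  -- the linear forms
  have h1 : (r : ℤ) + 1 ≤ Module.finrank k (𝒩 1) + ys.length := by
    let Y : Submodule k (MvPolynomial (Fin (r + 1)) k) :=
      Submodule.span k (ys.toFinset : Set (MvPolynomial (Fin (r + 1)) k))
    let φ : GrSyz.stdGr k (Fin (r + 1)) 1 →ₗ[k] 𝒩 1 :=
      LinearMap.codRestrict (𝒩 1) ((τ.restrictScalars k).comp (GrSyz.stdGr k (Fin (r + 1)) 1).subtype)
        fun x => hτg _ _ x.2
    have hkerφ : (LinearMap.ker φ).map (GrSyz.stdGr k (Fin (r + 1)) 1).subtype ≤ Y := by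
      rintro _ ⟨x, hx, rfl⟩
      have hx0 : π (x : MvPolynomial (Fin (r + 1)) k) ∈ LinearMap.ker σ := congrArg Subtype.val hx
      rw [hker, ← LinearMap.range_eq_top.2 hπ, ← Submodule.map_top π, ← Submodule.map_smul''] at hx0
      obtain ⟨q, hq, hqx⟩ := hx0
      rw [smul_eq_mul, Ideal.mul_top] at hq
      have e1 : π (Groth.Agent.GrSyz54.cmp (GrSyz.stdGr k (Fin (r + 1))) 1 q) = π x := by
        rw [Groth.Agent.GrSyz54.map_cmp _ _ hπg, hqx]
        exact Groth.Agent.GrSyz54.cmp_of_mem ℳ (hπg _ _ x.2)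
      have e2 : Groth.Agent.GrSyz54.cmp (GrSyz.stdGr k (Fin (r + 1))) 1 q = x :=
        sub_eq_zero.1 (hlin _ (sub_mem (Groth.Agent.GrSyz54.cmp_mem _ _ _) x.2)
          (by rw [map_sub, e1, sub_self]))
      rw [Submodule.subtype_apply, ← e2]
      suffices H : ∀ c : MvPolynomial (Fin (r + 1)) k,
          Groth.Agent.GrSyz54.cmp (GrSyz.stdGr k (Fin (r + 1))) 1 (c * q) ∈ Y by
        simpa using H 1
      refine Submodule.span_induction (fun y hy c => ?_) (fun c => by simp)
        (fun a b _ _ ha hb c => by rw [mul_add, map_add]; exact add_mem (ha c) (hb c))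
        (fun d a _ ha c => by rw [smul_eq_mul, ← mul_assoc]; exact ha _) hq
      have hy1 := hys y hy
      rw [← smul_eq_mul, Groth.Agent.GrSyz54.cmp_smul_homog_right (GrSyz.stdGr k (Fin (r + 1)))
        (GrSyz.stdGr k (Fin (r + 1))) 1 hy1, sub_self, Groth.Agent.GrSyz54.cmp_zero_eq,
        ← MvPolynomial.algebraMap_eq, algebraMap_smul]
      exact Submodule.smul_mem _ _ (Submodule.subset_span (List.mem_toFinset.2 hy))
    have hdim : Module.finrank k (LinearMap.ker φ) ≤ ys.length := by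
      rw [← Submodule.finrank_map_subtype_eq]
      refine (Submodule.finrank_mono hkerφ).trans ((finrank_span_finset_le_card _).trans ?_)
      exact List.toFinset_card_le ys
    have hrn := φ.finrank_range_add_finrank_ker
    have hS : Module.finrank k (GrSyz.stdGr k (Fin (r + 1)) 1) = r + 1 := by
      rw [Groth.Agent.GrSyz54.finrank_stdGr_fin]
      simp
    have := (LinearMap.range φ).finrank_le
    omega
  -- conclusion
  have main : ∀ d : ℤ, 𝒩 d ≠ ⊥ → d + ((r : ℤ) + 1 - ys.length) ≤ ℓ := by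
    intro d hd
    have hd0 : 0 ≤ d := le_of_not_gt fun h => hd (hneg d h)
    obtain ⟨e, rfl⟩ := Int.eq_ofNat_of_zero_le hd0
    rcases eq_or_ne e 0 with rfl | he
    · -- degree 0
      have := Groth.Agent.GrSyz54.finrank_sum_le 𝒩 {1}
      rw [Finset.sum_singleton] at this
      omega
    · let s : Finset ℤ := (Finset.range (e + 1)).image (Nat.cast : ℕ → ℤ)
      have hs := Groth.Agent.GrSyz54.finrank_sum_le 𝒩 s
      rw [Finset.sum_image Nat.cast_injective.injOn] at hs
      have hone : ∀ i ∈ (Finset.range (e + 1)).erase 1, 1 ≤ Module.finrank k (𝒩 (i : ℤ)) :=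
        fun i hi => Submodule.one_le_finrank_iff.2
          (hup e i (by have := Finset.mem_range.1 (Finset.mem_of_mem_erase hi); omega) hd)
      have h1e : 1 ∈ Finset.range (e + 1) := Finset.mem_range.2 (by omega)
      rw [← Finset.add_sum_erase _ _ h1e] at hs
      have hge := Finset.card_nsmul_le_sum _ _ 1 hone
      rw [Finset.card_erase_of_mem h1e, Finset.card_range, smul_eq_mul, mul_one] at hge
      push_cast at hs ⊢
      omega
  have key : ∀ (x : WithBot (WithTop ℤ)) (c : ℤ),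
      x ≤ (((ℓ : ℤ) - c : ℤ) : WithTop ℤ) →
        x + ((c : WithTop ℤ) : WithBot (WithTop ℤ)) ≤ (((ℓ : ℤ) : WithTop ℤ) : WithBot (WithTop ℤ)) := by
    intro x c hx
    calc x + ((c : WithTop ℤ) : WithBot (WithTop ℤ))
        ≤ ((((ℓ : ℤ) - c : ℤ) : WithTop ℤ) : WithBot (WithTop ℤ)) + ((c : WithTop ℤ) : WithBot (WithTop ℤ)) :=
          add_le_add hx le_rfl
      _ = _ := by rw [← WithBot.coe_add, ← WithTop.coe_add, sub_add_cancel]
  refine key _ _ ?_
  rw [Groth.Agent.GrMod19.endDeg_le_iff]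
  intro d hd
  rw [AddSubgroup.eq_bot_iff_forall]
  by_contra hne'
  have hne : 𝒩 d ≠ ⊥ := fun h0 => hne' fun x hx => (Submodule.eq_bot_iff _).1 h0 x hx
  have := main d hne
  omega

end Groth.Agent.S15433
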