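import Groth.Statements.S15435
import Groth.Agent.GrSyz54.TildeReg

set_option autoImplicit false
universe u
open GrSyz

namespace Groth.Agent.S15435

/-- Let k be a field, S = k[x_0, …, x_r] graded by degree, 𝔪 = (x_0, …, x_r), and M a finitely generated
ℤ-graded S-module; M̃ and the M(d)~ denote the O-modules on P^r_k associated with the pieces M_n, n
≥ 0 (they depend only on the pieces of large degree), with the canonical maps M_d → H^0(P^r_k,
M(d)~); graded local cohomology is computed from any *injective resolution in the graded category;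
let d ≥ 0. Then M is d-regular, that is H^0_𝔪(M) has no nonzero piece above degree d and H^i_𝔪(M)
vanishes in degree d − i + 1 for every i > 0, if and only if: (1) the sheaf M̃ is d-regular,
H^i(P^r_k, M̃(d − i)) = 0 for 1 ≤ i ≤ r; (2) H^0_𝔪(M) vanishes in every degree e > d; and (3) the
canonical map from M_d to the global sections of M(d)~ is surjective. (The published statement
allows any integer d; it is stated here for d ≥ 0.) -/
theorem result (k : Type u) [Field k] (r : ℕ)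
    (M : Type u) [AddCommGroup M] [Module k M] [Module (MvPolynomial (Fin (r + 1)) k) M]
    [IsScalarTower k (MvPolynomial (Fin (r + 1)) k) M] [Module.Finite (MvPolynomial (Fin (r + 1)) k) M]
    (ℳ : ℤ → Submodule k M) [DirectSum.Decomposition ℳ] [SetLike.GradedSMul (GrSyz.stdGr k (Fin (r + 1))) ℳ]
    [SetLike.GradedSMul (CohB1.polyGrading r k) (fun n : ℕ => ℳ (n : ℤ))]
    (E : GrLC.StarInjRes (GrSyz.stdGr k (Fin (r + 1))) ℳ) (d : ℕ) :
    (GrLC.endDeg (E.Hgr (GrSyz.irrel (GrSyz.stdGr k (Fin (r + 1)))) 0) ≤ (((d : ℤ) : WithTop ℤ) : WithBot (WithTop ℤ)) ∧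
        ∀ i : ℕ, 0 < i → E.Hcomp (GrSyz.irrel (GrSyz.stdGr k (Fin (r + 1)))) i ((d : ℤ) - (i : ℤ) + 1) = ⊥) ↔
      (Curv2.IsMRegular k r (GrTilde.tilde (CohB1.polyGrading r k) (fun n : ℕ => ℳ (n : ℤ)) 0) (d : ℤ) ∧
        (∀ e : ℤ, (d : ℤ) < e → E.Hcomp (GrSyz.irrel (GrSyz.stdGr k (Fin (r + 1)))) 0 e = ⊥) ∧
        Function.Surjective (fun m : ↥(ℳ ((d : ℕ) : ℤ)) => GrTilde.globalOf (CohB1.polyGrading r k) (fun n : ℕ => ℳ (n : ℤ)) m)) := by
  have h0 : GrLC.endDeg (E.Hgr (GrSyz.irrel (GrSyz.stdGr k (Fin (r + 1)))) 0) ≤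
      (((d : ℤ) : WithTop ℤ) : WithBot (WithTop ℤ)) ↔
      ∀ e : ℤ, (d : ℤ) < e → E.Hcomp (GrSyz.irrel (GrSyz.stdGr k (Fin (r + 1)))) 0 e = ⊥ := by
    rw [GrMod19.endDeg_le_iff]
    exact forall_congr' fun e => imp_congr_right fun _ => (GrMod19.Hcomp_eq_bot_iff E _).symm
  rw [h0, GrSyz54.globalOf_surjective_iff, GrSyz54.isMRegular_iff_vanH,
    GrMod19.vanH_iff _ E]
  simp only [GrMod19.vanH_iff _ E]
  constructor
  · rintro ⟨a, b⟩
    refine ⟨fun i => ?_, a, by simpa using b 1 one_pos⟩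
    have := b (i + 2) (by omega)
    rwa [show (d : ℤ) - ((i + 2 : ℕ) : ℤ) + 1 = (d : ℤ) - ((i + 1 : ℕ) : ℤ) by push_cast; ring] at this
  · rintro ⟨b, a, c⟩
    refine ⟨a, fun i hi => ?_⟩
    match i, hi with
    | 1, _ => simpa using c
    | i + 2, _ =>
      rw [show (d : ℤ) - ((i + 2 : ℕ) : ℤ) + 1 = (d : ℤ) - ((i + 1 : ℕ) : ℤ) by push_cast; ring]
      exact b i

end Groth.Agent.S15435
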