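import Groth.Statements.S15439
import Groth.Agent.AEC96.Conn
-- import your own Groth.Agent.* helpers here

set_option autoImplicit false
universe u
open AlgEqCyc

namespace Groth.Agent.S15439

open AlgebraicGeometry CategoryTheory CategoryTheory.Limits in
/-- Let k be an algebraically closed field, X a scheme over k and C₁, …, Cₙ finitely many closed
subschemes of X, given as closed immersions ιᵢ : Cᵢ → X over k, such that each Cᵢ is smooth over k,
projective over k, integral and of dimension one and such that the union of the ιᵢ(Cᵢ) is a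
connected subset of X. Then for any two k-rational points P and Q of X lying on this union, the
zero-cycles [P] and [Q] on X are algebraically equivalent: [P] − [Q] lies in the subgroup of cycles
on X generated by the elementary algebraically trivial ones. (The published statement speaks of a
connected curve whose irreducible components are smooth and integral and of two of its points,
inside an ambient smooth projective scheme over an algebraically closed field of characteristic
zero; this row takes any finite family of such curves with connected union in any k-scheme X, k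
algebraically closed, and k-rational points.) -/
theorem result (k : Type u) [Field k]
    [IsAlgClosed k] (X : Scheme.{u}) [DecidableEq ↥X] (p : X ⟶ Spec (CommRingCat.of k)) (n : ℕ)
    (C : Fin n → Scheme.{u}) (q : (i : Fin n) → (C i ⟶ Spec (CommRingCat.of k)))
    (ι : (i : Fin n) → (C i ⟶ X)) (hι : ∀ i, IsClosedImmersion (ι i)) (hq : ∀ i, ι i ≫ p = q i)
    (hs : ∀ i, Smooth (q i)) (hpr : ∀ i, Neron.IsProjectiveOver k (Over.mk (q i)))
    (hint : ∀ i, IsIntegral (C i)) (hd : ∀ i, topologicalKrullDim ↥(C i) = 1)
    (hconn : _root_.IsConnected (⋃ i, Set.range ⇑(ι i)))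
    (P Q : Spec (CommRingCat.of k) ⟶ X) (hP : P ≫ p = 𝟙 _) (hQ : Q ≫ p = 𝟙 _)
    (hPC : P (IsLocalRing.closedPoint k) ∈ ⋃ i, Set.range ⇑(ι i))
    (hQC : Q (IsLocalRing.closedPoint k) ∈ ⋃ i, Set.range ⇑(ι i)) :
    AlgEqCyc.IsAlgEquiv p (Function.locallyFinsuppWithin.single (P (IsLocalRing.closedPoint k)) (1 : ℤ))
      (Function.locallyFinsuppWithin.single (Q (IsLocalRing.closedPoint k)) (1 : ℤ)) := by
  have hcl : ∀ R : Spec (CommRingCat.of k) ⟶ X, R ≫ p = 𝟙 _ → R (IsLocalRing.closedPoint k) ∈ ⋃ i, Set.range ⇑(ι i) →
      IsClosed ({R (IsLocalRing.closedPoint k)} : Set X) := fun R hR hm => by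
    obtain ⟨i, c, hc⟩ := Set.mem_iUnion.1 hm
    have := hι i
    have := hs i
    have hsurj : Surjective (pullback.fst R (ι i)) := ⟨fun o => by
      obtain ⟨z, hz, -⟩ := Scheme.Pullback.exists_preimage_pullback (f := R) (g := ι i) o c
        (by rw [Subsingleton.elim o (IsLocalRing.closedPoint k)]; exact hc.symm)
      exact ⟨z, hz⟩⟩
    have : IsIso (pullback.fst R (ι i)) := AlgebraicGeometry.isIso_of_isClosedImmersion_of_surjective _
    have := Groth.Agent.AEC96.isSeparated_of_isProjectiveOver (q i) (hpr i)
    have hP' : (inv (pullback.fst R (ι i)) ≫ pullback.snd R (ι i)) ≫ q i = 𝟙 _ := by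
      rw [← hq i, Category.assoc, ← pullback.condition_assoc, IsIso.inv_hom_id_assoc, hR]
    have : IsClosedImmersion ((inv (pullback.fst R (ι i)) ≫ pullback.snd R (ι i)) ≫ q i) := by
      rw [hP']; infer_instance
    have := IsClosedImmersion.of_comp (inv (pullback.fst R (ι i)) ≫ pullback.snd R (ι i)) (q i)
    have hRc : R = (inv (pullback.fst R (ι i)) ≫ pullback.snd R (ι i)) ≫ ι i := by
      rw [Category.assoc, ← pullback.condition, IsIso.inv_hom_id_assoc]
    have : IsClosedImmersion R := by rw [hRc]; infer_instance
    have hr := R.isClosedEmbedding.isClosed_range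
    rwa [show Set.range R = {R (IsLocalRing.closedPoint k)} from Set.ext fun y =>
      ⟨fun ⟨o, ho⟩ => by rw [← ho, Subsingleton.elim o (IsLocalRing.closedPoint k)]; rfl,
        fun hy => ⟨_, hy.symm⟩⟩] at hr
  exact Groth.Agent.AEC96.isAlgEquiv_of_connected p C q ι hι hq hs hpr hint hd hconn
    (hcl P hP hPC) (hcl Q hQ hQC) hPC hQC

end Groth.Agent.S15439
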