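import Groth.Statements.S15441
import Groth.Agent.WC97.Cycles

set_option autoImplicit false
universe u v
open WeilCoh

namespace Groth.Agent.S15441

open AlgebraicGeometry CategoryTheory in
/-- Let k be an algebraically closed field of characteristic zero, K a field of characteristic zero and
T a Weil cohomology theory over k with coefficients in K, defined on connected smooth projective
varieties over k; let X be such a variety, δ the weight function on X induced from weight 0 on the
point Spec k, and α a zero-cycle on X for δ. Then α is homologically equivalent to zero for T, i.e.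
its cycle class in the cohomology of X vanishes, if and only if the degree of α over k is zero. -/
theorem result (k : Type u) [Field k] [IsAlgClosed k]
    [CharZero k] (K : Type v) [Field K] [CharZero K] (T : WeilCoh.Theory k K) (X : WeilCoh.Var k)
    [QuasiCompact X.obj.hom] (δ : ↥X.obj.left → ℤ) (hδ : Cyc.DeltaCompat X.obj.hom δ (fun _ => 0))
    (α : AlgebraicCycle X.obj.left ℤ) (hα : α ∈ Cyc.Zk X.obj.left δ 0) :
    T.IsHomEquivZero X α ↔ ChowOps.deg X.obj.hom δ α = 0 := by
  classical
  have := Groth.Agent.WC97.isProper_var X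
  let P := Groth.Agent.WC97.pt X
  let f := Groth.Agent.WC97.toPt X
  have : QuasiCompact (sm f) := inferInstanceAs (QuasiCompact X.obj.hom)
  have hP : Cyc.DeltaCompat P.obj.hom (fun _ => 0) (fun _ => 0) := by
    intro x
    refine ⟨0, ?_, by simp⟩
    letI := ((P.obj.hom).residueFieldMap x).hom.toAlgebra
    have : Algebra.IsAlgebraic (Scheme.residueField _ ((P.obj.hom) x)) (P.obj.left.residueField x) :=
      ⟨fun z => by
        obtain ⟨c, rfl⟩ := (Groth.Agent.WC97.kStr_id_bijective (k₀ := k) x).2 z
        have hc := Groth.Agent.WC97.kStr_comp P.obj.hom P.obj.hom (𝟙 _) (Category.comp_id _) x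
        have h2 := isAlgebraic_algebraMap (R := Scheme.residueField _ ((P.obj.hom) x)) (A := P.obj.left.residueField x)
          (Groth.Agent.WC97.kStr (𝟙 (Spec (CommRingCat.of k))) ((P.obj.hom) x) c)
        have e : algebraMap (Scheme.residueField _ ((P.obj.hom) x)) (P.obj.left.residueField x)
          (Groth.Agent.WC97.kStr (𝟙 (Spec (CommRingCat.of k))) ((P.obj.hom) x) c) =
          Groth.Agent.WC97.kStr (𝟙 (Spec (CommRingCat.of k))) x c := (RingHom.congr_fun hc c).symm
        rw [e] at h2
        exact h2⟩
    simp [trdeg_eq_zero]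
  have key := Groth.Agent.WC97.tr_clCyc_map T f δ hδ (fun _ => 0) hP α 1
  rw [map_one, _root_.mul_one, _root_.mul_one] at key
  let o : P.obj.left := IsLocalRing.closedPoint k
  have hsub : Subsingleton P.obj.left := inferInstanceAs (Subsingleton (PrimeSpectrum k))
  obtain ⟨hcl, htr⟩ := T.point P (Groth.Agent.WC97.dim_pt X)
  have hclc : ∀ β : AlgebraicCycle P.obj.left ℤ, T.tr P (T.clCyc P β) = (β o : K) := by
    intro β
    rw [TheoryOn.clCyc, finsum_eq_single _ o (fun z hz => absurd (Subsingleton.elim z o) hz), map_smul,
      hcl, htr, smul_eq_mul, _root_.mul_one]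
  rw [hclc] at key
  have hmem : T.clCyc X α ∈ T.gr X (2 * (dim X.obj.left : ℤ)) := by
    refine finsum_induction (fun z => z ∈ T.gr X _) (zero_mem _) (fun _ _ => add_mem) (fun ξ => ?_)
    by_cases h : δ ξ = 0
    · refine (T.gr X _).smul_mem _ ?_
      refine Groth.Agent.WC97.mem_of_eq T ?_ (T.cl_mem X ξ)
      rw [Groth.Agent.WC97.delta_eq_pdim X.obj.hom δ hδ] at h
      have := Groth.Agent.WC97.codim_cast X ξ
      omega
    · rw [hα ξ h, Int.cast_zero, zero_smul]
      exact zero_mem _
  constructor
  · intro h
    rw [show T.clCyc X α = 0 from h, map_zero] at key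
    exact Int.cast_eq_zero.mp key
  · intro h
    refine Groth.Agent.WC97.eq_of_tr_top T hmem (zero_mem _) ?_
    rw [map_zero, ← key]
    exact Int.cast_eq_zero.mpr h

end Groth.Agent.S15441
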