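import Groth.Statements.S15442
import Groth.Agent.WC97.Var

set_option autoImplicit false
universe u v
open CategoryTheory AlgebraicGeometry
open WeilCoh

namespace Groth.Agent.S15442

/-- Let H^* be a Weil cohomology theory, with coefficient field K of characteristic zero, on nonsingular
connected projective varieties over the algebraically closed field k, and X such a variety. Then the
structure morphism K → H^0(X) is an isomorphism: c ↦ c · 1 is a bijection from K onto the degree-0
part of the cohomology ring. -/
theorem result (k : Type u) [Field k] [IsAlgClosed k] (K : Type v) [Field K] [CharZero K]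
    (T : WeilCoh.Theory k K) (X : WeilCoh.Var k) :
    Function.Bijective (fun c : K =>
      (⟨c • (1 : T.H X), (T.gr X 0).smul_mem c (SetLike.one_mem_graded (T.gr X))⟩ : ↥(T.gr X 0))) := by
  obtain ⟨a0, ha0, htr⟩ := Groth.Agent.WC97.exists_tr_eq T X 1
  constructor
  · intro c d h
    have h1 := congrArg (fun z : T.gr X 0 => T.tr X ((z : T.H X) * a0)) h
    simpa [smul_mul_assoc, htr] using h1
  · intro x
    refine ⟨T.tr X ((x : T.H X) * a0), Subtype.ext ?_⟩
    refine Groth.Agent.WC97.eq_of_tr_left T ((T.gr X 0).smul_mem _ (SetLike.one_mem_graded (T.gr X))) x.2 ?_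
    intro b hb
    rw [sub_zero] at hb
    have hb' : b = T.tr X b • a0 := Groth.Agent.WC97.eq_of_tr_top T hb
      ((T.gr X _).smul_mem _ ha0) (by rw [map_smul, htr, smul_eq_mul, _root_.mul_one])
    rw [hb']
    simp [smul_mul_assoc, mul_smul_comm, htr, mul_comm]

end Groth.Agent.S15442
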