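import Groth.Statements.S15468
import Groth.Agent.IsoNat97.NoAut
import Groth.Agent.AlgSt88.Bootstrap
import Groth.Agent.AlgSt88.Setoid

set_option autoImplicit false
universe u
open CategoryTheory AlgebraicGeometry
open IsoNat

namespace Groth.Agent.S15468

/-- Being an algebraic space is detected by the presheaf of isomorphism classes. If 𝒳 and 𝒴 are
algebraic stacks over a quasi-separated scheme S whose presheaves of isomorphism classes are
isomorphic, and 𝒳 is (equivalent to) an algebraic space, then so is 𝒴. Here an algebraic stack over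
a quasi-separated scheme S means a stack in groupoids for the fppf topology with a smooth surjective
atlas from a scheme, whose diagonal is representable by separated quasi-compact morphisms of
algebraic spaces and whose inertia is locally of finite presentation over it. (The published
statement compares within the wider class of quasi-algebraic stacks, which need not have an atlas;
this row compares algebraic stacks only.) -/
theorem result
    (S : Scheme.{u}) [QuasiSeparatedSpace S]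
    (𝒳 𝒴 : AlgSt.Cat S)
    (h𝒳 : AlgSt.IsAlgStack Scheme.fppfPrecoverage 𝒳)
    (h𝒳d : AlgSt.RepByAlgSpWith (AlgSp.IsSeparatedMor ⊓ AlgSp.IsQuasiCompactMor)
      (FibCat.diag (FibCat.toSelf 𝒳)))
    (h𝒳i : AlgSt.RepByAlgSpWith (AlgSp.LocP @LocallyOfFinitePresentation)
      (FibCat.inertiaToBase (FibCat.toSelf 𝒳)))
    (h𝒴 : AlgSt.IsAlgStack Scheme.fppfPrecoverage 𝒴)
    (h𝒴d : AlgSt.RepByAlgSpWith (AlgSp.IsSeparatedMor ⊓ AlgSp.IsQuasiCompactMor)
      (FibCat.diag (FibCat.toSelf 𝒴)))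
    (h𝒴i : AlgSt.RepByAlgSpWith (AlgSp.LocP @LocallyOfFinitePresentation)
      (FibCat.inertiaToBase (FibCat.toSelf 𝒴)))
    (φ : IsoNat.FIso 𝒳 𝒴)
    (hsp : AlgSt.RepByAlgSp 𝒳) :
    AlgSt.RepByAlgSp 𝒴 := by
  have hX := h𝒳.isStack.1
  have hY := h𝒴.isStack.1
  have hsX : Groth.Agent.IsoNat97.ClsSep 𝒳 := Groth.Agent.IsoNat97.clsSep_of_clean h𝒳.isStack fun η x _ s hs =>
    Groth.Agent.AlgSt88.hom_ext_of_repByAlgSp hsp (by rw [hs]; simp)
  have hsY : Groth.Agent.IsoNat97.ClsSep 𝒴 := by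
    intro T T' π hF hS hL y₁ y₂ y₁' y₂' a₁ a₂ ha₁ ha₂ e
    let ψ := Groth.Agent.IsoNat97.symm hX hY φ
    obtain ⟨b₁, hb₁⟩ := Groth.Agent.IsoNat97.natural' ψ π a₁ ha₁ (Groth.Agent.IsoNat97.cls_rep _).symm
      (Groth.Agent.IsoNat97.cls_rep _).symm
    obtain ⟨b₂, hb₂⟩ := Groth.Agent.IsoNat97.natural' ψ π a₂ ha₂ (Groth.Agent.IsoNat97.cls_rep _).symm
      (Groth.Agent.IsoNat97.cls_rep _).symm
    have h := hsX T T' π _ _ _ _ b₁ b₂ hb₁ hb₂ (Groth.Agent.IsoNat97.cls_eq_iff.1 (by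
      rw [Groth.Agent.IsoNat97.cls_rep, Groth.Agent.IsoNat97.cls_rep, Groth.Agent.IsoNat97.cls_eq_iff.2 e]))
    have h' := Groth.Agent.IsoNat97.cls_eq_iff.2 h
    rw [Groth.Agent.IsoNat97.cls_rep, Groth.Agent.IsoNat97.cls_rep] at h'
    exact Groth.Agent.IsoNat97.cls_eq_iff.1 ((ψ.toEquiv T).injective h')
  refine Groth.Agent.AlgSt88.repByAlgSp_of_setoid_chart h𝒴.isStack (fun {x y} f g hfg => ?_) h𝒴.atlas
  exact Groth.Agent.IsoNat97.hom_unique_of_clean hY
    (Groth.Agent.IsoNat97.isClean_of_clsSep h𝒴.isStack (Groth.Agent.IsoNat97.inertia_sep hY h𝒴d) hsY)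
    (𝒴.p.map f) f g inferInstance (hfg ▸ inferInstance)

end Groth.Agent.S15468
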