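import Groth.Statements.S15481
import Groth.Agent.IsoNat97.SepVal

set_option autoImplicit false
universe u
open CategoryTheory AlgebraicGeometry
open IsoNat

namespace Groth.Agent.S15481

/-- For morphisms locally of finite type to a locally Noetherian algebraic stack, separatedness is
detected by the induced map of presheaves of isomorphism classes. Let f : 𝒳 → 𝒴 and f' : 𝒳' → 𝒴' be
morphisms of algebraic stacks over a quasi-separated scheme S, locally of finite type, with 𝒴 and 𝒴'
locally Noetherian, and suppose given isomorphisms of the presheaves of isomorphism classes of 𝒳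
with 𝒳' and of 𝒴 with 𝒴' under which the induced maps correspond. If the diagonal of f is
(representable by algebraic spaces and) proper, so is that of f'. Here an algebraic stack over a
quasi-separated scheme S means a stack in groupoids for the fppf topology with a smooth surjective
atlas from a scheme, whose diagonal is representable by separated quasi-compact morphisms of
algebraic spaces and whose inertia is locally of finite presentation over it. (The published
statement assumes local finite type and a locally Noetherian target for f only; this row assumes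
them for both morphisms, the hypotheses under which its valuative argument reads separatedness of
either morphism from the presheaves.) -/
theorem result
    (S : Scheme.{u}) [QuasiSeparatedSpace S]
    (𝒳 𝒴 : AlgSt.Cat S)
    (h𝒳 : AlgSt.IsAlgStack Scheme.fppfPrecoverage 𝒳)
    (h𝒳d : AlgSt.RepByAlgSpWith (AlgSp.IsSeparatedMor ⊓ AlgSp.IsQuasiCompactMor)
      (FibCat.diag (FibCat.toSelf 𝒳)))
    (h𝒳i : AlgSt.RepByAlgSpWith (AlgSp.LocP @LocallyOfFinitePresentation)
      (FibCat.inertiaToBase (FibCat.toSelf 𝒳)))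
    (h𝒴 : AlgSt.IsAlgStack Scheme.fppfPrecoverage 𝒴)
    (h𝒴d : AlgSt.RepByAlgSpWith (AlgSp.IsSeparatedMor ⊓ AlgSp.IsQuasiCompactMor)
      (FibCat.diag (FibCat.toSelf 𝒴)))
    (h𝒴i : AlgSt.RepByAlgSpWith (AlgSp.LocP @LocallyOfFinitePresentation)
      (FibCat.inertiaToBase (FibCat.toSelf 𝒴)))
    (𝒳' 𝒴' : AlgSt.Cat S)
    (h𝒳' : AlgSt.IsAlgStack Scheme.fppfPrecoverage 𝒳')
    (h𝒳'd : AlgSt.RepByAlgSpWith (AlgSp.IsSeparatedMor ⊓ AlgSp.IsQuasiCompactMor)
      (FibCat.diag (FibCat.toSelf 𝒳')))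
    (h𝒳'i : AlgSt.RepByAlgSpWith (AlgSp.LocP @LocallyOfFinitePresentation)
      (FibCat.inertiaToBase (FibCat.toSelf 𝒳')))
    (h𝒴' : AlgSt.IsAlgStack Scheme.fppfPrecoverage 𝒴')
    (h𝒴'd : AlgSt.RepByAlgSpWith (AlgSp.IsSeparatedMor ⊓ AlgSp.IsQuasiCompactMor)
      (FibCat.diag (FibCat.toSelf 𝒴')))
    (h𝒴'i : AlgSt.RepByAlgSpWith (AlgSp.LocP @LocallyOfFinitePresentation)
      (FibCat.inertiaToBase (FibCat.toSelf 𝒴')))
    (f : 𝒳 ⥤ᵇ 𝒴) (f' : 𝒳' ⥤ᵇ 𝒴') (φ : IsoNat.FIsoSq f f')
    (hft : AlgSt.LocQ (AlgSp.LocP @LocallyOfFiniteType) f)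
    (hft' : AlgSt.LocQ (AlgSp.LocP @LocallyOfFiniteType) f')
    (hN : AlgSt.SmoothLocally (fun X => IsLocallyNoetherian X) 𝒴)
    (hN' : AlgSt.SmoothLocally (fun X => IsLocallyNoetherian X) 𝒴')
    (hf : AlgSt.IsSeparatedMor f) :
    AlgSt.IsSeparatedMor f' := by
  have hs : ∀ {𝒵 : AlgSt.Cat S}, AlgSt.IsAlgStack Scheme.fppfPrecoverage 𝒵 → Stk.IsStack (AlgSp.J S) 𝒵 :=
    fun h => h.isStack
  intro U y
  haveI : (AlgSp.LocP (S := S) @LocallyOfFiniteType).RespectsIso := Groth.Agent.AlgSt88.respectsIso_locP _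
  obtain ⟨F, e, he, hlft, hsep, hqc⟩ := Groth.Agent.AlgSt88.repByAlgSpWith_inf
    (Groth.Agent.AlgSt88.lft_diag h𝒳' h𝒴' f') (Groth.Agent.IsoNat97.sepQC_diag h𝒳'd h𝒴'd f') U y
  refine ⟨F, e, he, hsep, ⟨hlft, hqc⟩,
    Groth.Agent.IsoNat97.univClosed_of_extHom h𝒳'.isStack.1 h𝒴'.isStack.1 he hlft hqc ?_⟩
  intro R K _ _ _ _ _ _ a ι hι hinj str
  let C : Over S := Over.mk str
  let O : Over S := Over.mk (Spec.map (CommRingCat.ofHom (algebraMap R (Localization.Away a))) ≫ str)
  let o : O ⟶ C := Over.homMk (Spec.map (CommRingCat.ofHom (algebraMap R (Localization.Away a)))) rfl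
  haveI : IsOpenImmersion o.left := IsOpenImmersion.of_isLocalization a
  haveI : IsAffine C.left := inferInstanceAs (IsAffine (Spec _))
  refine Groth.Agent.IsoNat97.extHom_of_sq (hs h𝒳) (hs h𝒴) (hs h𝒳') (hs h𝒴')
    (Groth.Agent.AlgSt88.repByAlgSpWith_inertiaToBase h𝒴'.isStack.1 _
      (Groth.Agent.AlgSt88.repByAlgSpWith_mono inf_le_left h𝒴'd)) φ o ?_
    (Groth.Agent.IsoNat97.extHom_of_diag_proper h𝒳.isStack.1 h𝒴.isStack.1 hf a ι hι hinj str)
  refine Groth.Agent.IsoNat97.appTop_injective_of_ringHom _ fun x y h => ?_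
  apply IsFractionRing.injective R K
  rw [← hι, RingHom.comp_apply, RingHom.comp_apply, h]

end Groth.Agent.S15481
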