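import Groth.Statements.S15485
import Groth.Agent.IsoNat97.CleanLocus

set_option autoImplicit false
universe u
open CategoryTheory AlgebraicGeometry
open IsoNat

namespace Groth.Agent.S15485

/-- If the inertia of an algebraic stack 𝒳 over a quasi-separated scheme S is proper over 𝒳, then the
clean locus of 𝒳 — the full subcategory of objects η such that every object with a morphism to η has
only the identity as endomorphism over the identity of its base — is an open substack of 𝒳, and its
inclusion is (representable and) quasi-compact. Here an algebraic stack over a quasi-separated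
scheme S means a stack in groupoids for the fppf topology with a smooth surjective atlas from a
scheme, whose diagonal is representable by separated quasi-compact morphisms of algebraic spaces and
whose inertia is locally of finite presentation over it. -/
theorem result
    (S : Scheme.{u}) [QuasiSeparatedSpace S]
    (𝒳 : AlgSt.Cat S)
    (h𝒳 : AlgSt.IsAlgStack Scheme.fppfPrecoverage 𝒳)
    (h𝒳d : AlgSt.RepByAlgSpWith (AlgSp.IsSeparatedMor ⊓ AlgSp.IsQuasiCompactMor)
      (FibCat.diag (FibCat.toSelf 𝒳)))
    (h𝒳i : AlgSt.RepByAlgSpWith (AlgSp.LocP @LocallyOfFinitePresentation)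
      (FibCat.inertiaToBase (FibCat.toSelf 𝒳)))
    (hpr : AlgSt.RepByAlgSpWith AlgSp.IsProperMor (FibCat.inertiaToBase (FibCat.toSelf 𝒳))) :
    AlgSt.IsOpenSubstack 𝒳 (fun η => IsoNat.IsClean η) Scheme.fppfPrecoverage ∧
      AlgSt.RepByAlgSpWith AlgSp.IsQuasiCompactMor (AlgSt.subIncl 𝒳 (fun η => IsoNat.IsClean η)) := by
  have hW := Groth.Agent.IsoNat97.isOpen_cleanPts h𝒳 h𝒳i hpr
  have heq := Groth.Agent.IsoNat97.isClean_eq_inPts h𝒳 h𝒳i hpr
  rw [heq]
  refine ⟨Groth.Agent.AlgSt88.isOpenSubstack_inPts h𝒳 hW, fun U x => ?_⟩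
  obtain ⟨F, e, he, hP⟩ := Groth.Agent.IsoNat97.rep_inPts_with (P := @AlgebraicGeometry.QuasiCompact) h𝒳 hW
    (fun U x V hV => Groth.Agent.IsoNat97.quasiCompact_clean h𝒳 h𝒳i hpr U x V hV) U x
  exact ⟨F, e, he, Groth.Agent.SpPts86.isQuasiCompactMor_of_repWith (AlgSp.IsAlgSpace.yon_obj U) hP⟩

end Groth.Agent.S15485
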