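import Groth.Statements.S15488
import Mathlib

set_option autoImplicit false
universe u
open IsoNat

noncomputable section
namespace Groth.Agent.S15488.AuxS88
theorem result
    (A : Type*) [CommRing A] [Nontrivial A] (G : Type*) [Group G] [Finite G]
    (g : G) (l : A) (hl : l ^ orderOf g = 1) :
    Module.Free A (LinearMap.ker (LinearMap.funLeft A A (fun h : G => g * h) - l • LinearMap.id)) ∧
      Module.finrank A (LinearMap.ker (LinearMap.funLeft A A (fun h : G => g * h) - l • LinearMap.id)) * orderOf g = Nat.card G ∧
      ∃ E' : Submodule A (G → A), IsCompl (LinearMap.ker (LinearMap.funLeft A A (fun h : G => g * h) - l • LinearMap.id)) E' := by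
  classical
  set K := LinearMap.ker (LinearMap.funLeft A A (fun h : G => g * h) - l • LinearMap.id)
  let H := Subgroup.zpowers g
  have hmem : ∀ f : G → A, f ∈ K ↔ ∀ h, f (g * h) = l * f h := by
    intro f; simp [K, LinearMap.mem_ker, sub_eq_zero, funext_iff, LinearMap.funLeft]
  have hn : 0 < orderOf g := orderOf_pos g
  have hpow : ∀ a b : ℕ, g ^ a = g ^ b → l ^ a = l ^ b := by
    intro a b h
    rw [pow_eq_pow_iff_modEq] at h
    rw [← Nat.div_add_mod a (orderOf g), ← Nat.div_add_mod b (orderOf g), pow_add, pow_add, pow_mul, pow_mul, hl, one_pow, one_pow, h]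
  let Q := Quotient (QuotientGroup.rightRel H)
  let rep : Q → G := Quotient.out
  have hdec : ∀ h : G, ∃ a : ℕ, h = g ^ a * rep ⟦h⟧ := by
    intro h
    have : (QuotientGroup.rightRel H) (rep ⟦h⟧) h := Quotient.exact (Quotient.out_eq _)
    rw [QuotientGroup.rightRel_apply] at this
    obtain ⟨a, ha⟩ := (Submonoid.mem_powers_iff _ _).1 (mem_powers_iff_mem_zpowers.2 this)
    exact ⟨a, by rw [ha]; group⟩
  choose e he using hdec
  have hq : ∀ (a : ℕ) h, (⟦g ^ a * h⟧ : Q) = ⟦h⟧ := by
    intro a h; apply Quotient.sound
    show (QuotientGroup.rightRel H) (g ^ a * h) h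
    rw [QuotientGroup.rightRel_apply]; simp [H, Subgroup.npow_mem_zpowers]
  have he' : ∀ h, l ^ e (g * h) = l * l ^ e h := by
    intro h; rw [← pow_succ']
    apply hpow
    have h1 := he (g * h)
    have h2 : (⟦g * h⟧ : Q) = ⟦h⟧ := by simpa using hq 1 h
    rw [h2] at h1
    apply mul_right_cancel (b := rep ⟦h⟧)
    rw [← h1, pow_succ', mul_assoc, ← he]
  let r : (G → A) →ₗ[A] (Q → A) := LinearMap.funLeft A A rep
  let s : (Q → A) →ₗ[A] K :=
  { toFun := fun f => ⟨fun h => l ^ e h * f ⟦h⟧, (hmem _).2 fun h => by
      show l ^ e (g * h) * f ⟦g * h⟧ = _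
      rw [he', show (⟦g * h⟧ : Q) = ⟦h⟧ by simpa using hq 1 h]; ring⟩
    map_add' := fun x y => by ext h; simp [mul_add]
    map_smul' := fun c x => by ext h; simp; ring }
  have hrs : ∀ f, r (s f).1 = f := by
    intro f; funext q
    show l ^ e (rep q) * f ⟦rep q⟧ = f q
    have hq' : (⟦rep q⟧ : Q) = q := Quotient.out_eq q
    have := he (rep q)
    rw [hq'] at this ⊢
    have : g ^ e (rep q) = g ^ 0 := by simpa using this.symm
    rw [hpow _ _ this]; simp
  have hK : ∀ f ∈ K, ∀ (a : ℕ) h, f (g ^ a * h) = l ^ a * f h := by
    intro f hf a h; induction a with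
    | zero => simp
    | succ a ih => rw [pow_succ', mul_assoc, (hmem f).1 hf, ih, pow_succ', mul_assoc]
  have hsr : ∀ f : K, s (r f.1) = f := by
    intro f; ext h
    show l ^ e h * f.1 (rep ⟦h⟧) = f.1 h
    conv_rhs => rw [he h, hK _ f.2]
  let E : (Q → A) ≃ₗ[A] K := LinearEquiv.ofLinear s (r.comp K.subtype) (LinearMap.ext hsr) (LinearMap.ext hrs)
  haveI : Fintype Q := Fintype.ofFinite _
  refine ⟨Module.Free.of_equiv E, ?_, LinearMap.ker r, ?_⟩
  · rw [← E.finrank_eq, Module.finrank_pi, ← Nat.card_eq_fintype_card, ← Nat.card_zpowers g,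
      Subgroup.card_eq_card_quotient_mul_card_subgroup H,
      Nat.card_congr (QuotientGroup.quotientRightRelEquivQuotientLeftRel H)]
  · constructor
    · rw [Submodule.disjoint_def]
      intro f hf hf'
      have := hsr ⟨f, hf⟩
      rw [show r f = 0 from hf', map_zero] at this
      exact (congrArg Subtype.val this).symm
    · rw [codisjoint_iff, eq_top_iff]
      intro f _
      rw [Submodule.mem_sup]
      exact ⟨(s (r f)).1, (s (r f)).2, f - (s (r f)).1, by simp [LinearMap.mem_ker, hrs], by abel⟩
end Groth.Agent.S15488.AuxS88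

end

namespace Groth.Agent.S15488

/-- Let A be a nontrivial commutative ring, G a finite group, g an element of G of order ν and l an
element of A with l ^ ν = 1. In the free A-module of functions G → A (the regular representation, g
acting by translation v ↦ v(g·)), the submodule of v with v(g h) = l v(h) for all h is a direct
summand, free of rank |G| / ν (stated as: free, rank · ν = |G|, and a complementary submodule
exists). (The published statement is over an arbitrary ring and also covers Hom(A^N, −) of the
regular representation, which follows; nontriviality of A is needed for the rank to be meaningful.) -/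
theorem result
    (A : Type u) [CommRing A] [Nontrivial A] (G : Type u) [Group G] [Finite G]
    (g : G) (l : A) (hl : l ^ orderOf g = 1) :
    Module.Free A (LinearMap.ker (LinearMap.funLeft A A (fun h : G => g * h) - l • LinearMap.id)) ∧
      Module.finrank A (LinearMap.ker (LinearMap.funLeft A A (fun h : G => g * h) - l • LinearMap.id)) * orderOf g = Nat.card G ∧
      ∃ E' : Submodule A (G → A), IsCompl (LinearMap.ker (LinearMap.funLeft A A (fun h : G => g * h) - l • LinearMap.id)) E' := by
  exact AuxS88.result A G g l hl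

end Groth.Agent.S15488
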