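import Groth.Statements.S15491
import Mathlib
import Groth.Prelude.Def_FibCat2

set_option autoImplicit false
universe v u
open CategoryTheory CategoryTheory.Functor
open IsoNat

noncomputable section
namespace Groth.Agent.S15491.AuxS91
open CategoryTheory CategoryTheory.Limits
variable {A B A' B' A'' B'' : Type u} [Category.{v} A] [Category.{v} B] [Category.{v} A'] [Category.{v} B']
    [Category.{v} A''] [Category.{v} B'']

def phi (r : B ⥤ B') (t' : A' ⥤ B') (l' : A' ⥤ A'') (r' : B' ⥤ B'') (t'' : A'' ⥤ B'')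
    (e₂ : t' ⋙ r' ≅ l' ⋙ t'') :
    CategoricalPullback r t' ⥤ CategoricalPullback (r ⋙ r') t'' where
  obj X := { fst := X.fst, snd := l'.obj X.snd, iso := r'.mapIso X.iso ≪≫ e₂.app X.snd }
  map {X Y} f := { fst := f.fst, snd := l'.map f.snd, w := by
                    have := e₂.hom.naturality f.snd
                    simp only [Functor.comp_map, Functor.comp_obj] at this
                    simp only [Iso.trans_hom, Functor.mapIso_hom, Iso.app_hom, Functor.comp_map]
                    rw [← Category.assoc, ← r'.map_comp, f.w, r'.map_comp, Category.assoc, Category.assoc, this] }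

theorem result
    (t : A ⥤ B) (l : A ⥤ A') (r : B ⥤ B') (t' : A' ⥤ B') (l' : A' ⥤ A'') (r' : B' ⥤ B'') (t'' : A'' ⥤ B'')
    (e₁ : t ⋙ r ≅ l ⋙ t') (e₂ : t' ⋙ r' ≅ l' ⋙ t'')
    (h₂ : FibCat.IsTwoCart t' l' r' t'' e₂) :
    FibCat.IsTwoCart t l r t' e₁ ↔
      FibCat.IsTwoCart t (l ⋙ l') (r ⋙ r') t''
        ((Functor.associator t r r').symm ≪≫ Functor.isoWhiskerRight e₁ r' ≪≫ Functor.associator l t' r' ≪≫
          Functor.isoWhiskerLeft l e₂ ≪≫ (Functor.associator l l' t'').symm) := by
  set L := (CategoricalPullback.CatCommSqOver.toFunctorToCategoricalPullback r' t'' A').obj ⟨t', l', e₂⟩ with hL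
  haveI : L.IsEquivalence := h₂
  let Φ := phi r t' l' r' t'' e₂
  have faith : Φ.Faithful := ⟨fun {X Y} f g h => by
    have h1 : f.fst = g.fst := congrArg (fun m => m.fst) h
    have h2 : l'.map f.snd = l'.map g.snd := congrArg (fun m => m.snd) h
    refine CategoricalPullback.hom_ext h1 (L.map_injective (CategoricalPullback.hom_ext ?_ h2))
    show t'.map f.snd = t'.map g.snd
    rw [← cancel_epi X.iso.hom, ← f.w, ← g.w, h1]⟩
  have full : Φ.Full := ⟨fun {X Y} m => by
    let k : t'.obj X.snd ⟶ t'.obj Y.snd := X.iso.inv ≫ r.map m.fst ≫ Y.iso.hom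
    let q : L.obj X.snd ⟶ L.obj Y.snd :=
      { fst := k, snd := m.snd, w := by
          have hw := m.w
          simp only [Φ, phi, Functor.comp_map, Iso.trans_hom, Functor.mapIso_hom, Iso.app_hom, Category.assoc] at hw
          have hk : r'.map k = r'.map X.iso.inv ≫ r'.map (r.map (show X.fst ⟶ Y.fst from m.fst)) ≫ r'.map Y.iso.hom := by
            simp only [k, ← r'.map_comp]; rfl
          show r'.map k ≫ e₂.hom.app Y.snd = e₂.hom.app X.snd ≫ t''.map m.snd
          rw [hk, Category.assoc, Category.assoc]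
          refine (congrArg (fun z => r'.map X.iso.inv ≫ z) hw).trans ?_
          show r'.map X.iso.inv ≫ r'.map X.iso.hom ≫ _ = _
          rw [← Category.assoc, ← r'.map_comp, Iso.inv_hom_id, r'.map_id, Category.id_comp]
          rfl }
    have hq : t'.map (L.preimage q) = k := congrArg (fun m => m.fst) (L.map_preimage q)
    refine ⟨{ fst := m.fst, snd := L.preimage q, w := ?_ }, CategoricalPullback.hom_ext rfl ?_⟩
    · rw [hq]; simp [k]; rfl
    · exact congrArg (fun m => m.snd) (L.map_preimage q)⟩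
  have esurj : Φ.EssSurj := ⟨fun Z => by
    let P : CategoricalPullback r' t'' := { fst := r.obj Z.fst, snd := Z.snd, iso := Z.iso }
    let α := L.objObjPreimageIso P
    let a' := L.objPreimage P
    let u : t'.obj a' ≅ r.obj Z.fst := (CategoricalPullback.π₁ r' t'').mapIso α
    let v : l'.obj a' ≅ Z.snd := (CategoricalPullback.π₂ r' t'').mapIso α
    refine ⟨{ fst := Z.fst, snd := a', iso := u.symm }, ⟨CategoricalPullback.mkIso (Iso.refl _) v ?_⟩⟩
    have hw : r'.map u.hom ≫ Z.iso.hom = e₂.hom.app a' ≫ t''.map v.hom := α.hom.w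
    simp [Φ, phi, ← hw]⟩
  haveI : Φ.IsEquivalence := { }
  unfold FibCat.IsTwoCart
  set K := (CategoricalPullback.CatCommSqOver.toFunctorToCategoricalPullback r t' A).obj ⟨t, l, e₁⟩
  refine Iff.trans ?_ (Functor.isEquivalence_iff_of_iso (F := K ⋙ Φ) (NatIso.ofComponents
    (fun x => CategoricalPullback.mkIso (Iso.refl _) (Iso.refl _) ?_) ?_))
  · exact ⟨fun _ => inferInstance, fun _ => Functor.isEquivalence_of_comp_right K Φ⟩
  · show r'.map (r.map (𝟙 (t.obj x))) ≫ _ = _ ≫ t''.map (𝟙 (l'.obj (l.obj x)))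
    rw [r.map_id, r'.map_id, t''.map_id]
    simp [K, Φ, phi]
    try first | rfl | exact (Category.comp_id _).symm
  · intro x y f
    apply CategoricalPullback.hom_ext
    · show t.map f ≫ 𝟙 _ = 𝟙 _ ≫ t.map f
      simp
    · show l'.map (l.map f) ≫ 𝟙 _ = 𝟙 _ ≫ l'.map (l.map f)
      simp
end Groth.Agent.S15491.AuxS91

end

namespace Groth.Agent.S15491

/-- Pasting of 2-cartesian squares, stated in the 2-category of categories. Consider functors t : A → B,
t' : A' → B', t'' : A'' → B'' and l : A → A', r : B → B', l' : A' → A'', r' : B' → B'' with natural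
isomorphisms e₁ : t ⋙ r ≅ l ⋙ t' and e₂ : t' ⋙ r' ≅ l' ⋙ t''. If the lower square (t', l', r', t'',
e₂) is 2-cartesian (its comparison functor to the 2-fibre product is an equivalence), then the upper
square (t, l, r, t', e₁) is 2-cartesian if and only if the outer rectangle (t, l ⋙ l', r ⋙ r', t'')
with the pasted isomorphism is. (The published statement is for an arbitrary 2-category whose
2-morphisms are invertible; this row is the case of categories, functors and natural isomorphisms.) -/
theorem result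
    {A B A' B' A'' B'' : Type u} [Category.{v} A] [Category.{v} B] [Category.{v} A'] [Category.{v} B']
    [Category.{v} A''] [Category.{v} B'']
    (t : A ⥤ B) (l : A ⥤ A') (r : B ⥤ B') (t' : A' ⥤ B') (l' : A' ⥤ A'') (r' : B' ⥤ B'') (t'' : A'' ⥤ B'')
    (e₁ : t ⋙ r ≅ l ⋙ t') (e₂ : t' ⋙ r' ≅ l' ⋙ t'')
    (h₂ : FibCat.IsTwoCart t' l' r' t'' e₂) :
    FibCat.IsTwoCart t l r t' e₁ ↔
      FibCat.IsTwoCart t (l ⋙ l') (r ⋙ r') t''
        ((Functor.associator t r r').symm ≪≫ isoWhiskerRight e₁ r' ≪≫ Functor.associator l t' r' ≪≫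
          isoWhiskerLeft l e₂ ≪≫ (Functor.associator l l' t'').symm) := by
  exact AuxS91.result t l r t' l' r' t'' e₁ e₂ h₂

end Groth.Agent.S15491
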