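import Groth.Statements.S15494
import Mathlib

set_option autoImplicit false
set_option linter.unusedVariables false
universe u v
open Dieud

namespace Groth.Agent.S15494

/-- Let W be a commutative ring with a ring endomorphism σ, p a natural number, M a W-module and F an
additive self-map of M with F (w • m) = σ w • F m. Let d ≥ 1, c ≥ 1, h = d + c, and let e_1, …, e_h,
… be vectors of M on which F acts through a display matrix in normal form: F e_i = e_{i+1} for 1 ≤ i
< d; F e_d = Σ_{i=1}^{d} a_{i,d} e_i + e_{d+1}; F e_j = Σ_{i=1}^{d} p a_{i,j} e_i + p e_{j+1} for d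
< j < h; F e_h = Σ_{i=1}^{d} p a_{i,h} e_i. Then F^h e_1 = Σ_{i=1}^{d} Σ_{j=d}^{h} p^{j-d}
σ^{h-j}(a_{i,j}) F^{h+i-j-1} e_1. (The published statement is for the Dieudonné module of a
p-divisible group of dimension d and height h over the Witt ring of a field of characteristic p,
with σ the Frobenius and e_1, …, e_h a basis; this row keeps only the relations which the printed
computation uses, so W, σ, p and the vectors are arbitrary.) -/
theorem result
    (W : Type u) [CommRing W] (σ : W →+* W) (p : ℕ)
    (M : Type v) [AddCommGroup M] [Module W M]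
    (F : M →+ M) (hF : ∀ (w : W) (m : M), F (w • m) = σ w • F m)
    (d c : ℕ) (hd : 0 < d) (hc : 0 < c)
    (a : ℕ → ℕ → W) (e : ℕ → M)
    (h1 : ∀ i : ℕ, 1 ≤ i → i < d → F (e i) = e (i + 1))
    (h2 : F (e d) = (∑ i ∈ Finset.Icc 1 d, a i d • e i) + e (d + 1))
    (h3 : ∀ j : ℕ, d < j → j < d + c →
      F (e j) = (∑ i ∈ Finset.Icc 1 d, ((p : W) * a i j) • e i) + (p : W) • e (j + 1))
    (h4 : F (e (d + c)) = ∑ i ∈ Finset.Icc 1 d, ((p : W) * a i (d + c)) • e i) :
    (⇑F)^[d + c] (e 1) = ∑ i ∈ Finset.Icc 1 d, ∑ j ∈ Finset.Icc d (d + c),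
      ((p : W) ^ (j - d) * (⇑σ)^[d + c - j] (a i j)) • (⇑F)^[d + c + i - j - 1] (e 1) := by
  set x := e 1 with hx
  have hFi : ∀ (k : ℕ) (w : W) (m : M), (⇑F)^[k] (w • m) = (⇑σ)^[k] w • (⇑F)^[k] m := by
    intro k
    induction k with
    | zero => intros; simp
    | succ k ih => intro w m; simp only [Function.iterate_succ_apply', ih, hF]
  have he : ∀ i, 1 ≤ i → i ≤ d → e i = (⇑F)^[i - 1] x := by
    intro i h1i
    induction i, h1i using Nat.le_induction with
    | base => intro _; rfl
    | succ i hi ih =>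
      intro hid
      rw [← h1 i hi (by omega), ih (by omega), ← Function.iterate_succ_apply' (⇑F) (i - 1)]
      congr 2
      omega
  let S : ℕ → M := fun t => ∑ i ∈ Finset.Icc 1 d, ∑ j ∈ Finset.Icc d t,
      ((p : W) ^ (j - d) * (⇑σ)^[t - j] (a i j)) • (⇑F)^[t + i - j - 1] x
  have hcast : ∀ k : ℕ, σ ((p : W) ^ k) = (p : W) ^ k := by intro k; simp
  have hS : ∀ t, d ≤ t → F (S t) + ∑ i ∈ Finset.Icc 1 d,
      ((p : W) ^ (t + 1 - d) * a i (t + 1)) • e i = S (t + 1) := by
    intro t ht
    simp only [S, map_sum, hF, map_mul, hcast]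
    rw [← Finset.sum_add_distrib]
    refine Finset.sum_congr rfl fun i hi => ?_
    rw [Finset.mem_Icc] at hi
    rw [Finset.sum_Icc_succ_top (show d ≤ t + 1 by omega)]
    congr 1
    · refine Finset.sum_congr rfl fun j hj => ?_
      rw [Finset.mem_Icc] at hj
      rw [Function.iterate_succ_apply' (⇑σ) (t - j) (a i j) |>.symm, ← Function.iterate_succ_apply' (⇑F) (t + i - j - 1)]
      congr 3 <;> omega
    · rw [he i hi.1 hi.2, Nat.sub_self, Function.iterate_zero_apply]
      congr 3; omega
  have base : (⇑F)^[d] x = S d + e (d + 1) := by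
    have : (⇑F)^[d] x = F (e d) := by
      rw [he d hd le_rfl, ← Function.iterate_succ_apply' (⇑F)]
      congr 2; omega
    rw [this, h2]
    congr 1
    refine Finset.sum_congr rfl fun i hi => ?_
    rw [Finset.mem_Icc] at hi
    rw [Finset.Icc_self, Finset.sum_singleton, he i hi.1 hi.2]
    simp only [Nat.sub_self, pow_zero, one_mul, Function.iterate_zero_apply]
    congr 2; omega
  have mid : ∀ t, d ≤ t → t < d + c → (⇑F)^[t] x = S t + (p : W) ^ (t - d) • e (t + 1) := by
    intro t ht
    induction t, ht using Nat.le_induction with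
    | base => intro _; simpa using base
    | succ t ht ih =>
      intro htc
      rw [Function.iterate_succ_apply', ih (by omega), map_add, hF, hcast, h3 (t + 1) (by omega) htc,
        smul_add, Finset.smul_sum, ← add_assoc, ← hS t ht]
      congr 1
      · congr 1
        refine Finset.sum_congr rfl fun i _ => ?_
        rw [smul_smul, show t + 1 - d = t - d + 1 by omega, pow_succ, mul_assoc]
      · rw [smul_smul, show t + 1 - d = t - d + 1 by omega, pow_succ]
  obtain ⟨t, ht⟩ : ∃ t, d + c = t + 1 := ⟨d + c - 1, by omega⟩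
  rw [ht, Function.iterate_succ_apply', mid t (by omega) (by omega), map_add, hF, hcast,
    ← ht, h4, ht, Finset.smul_sum]
  have := hS t (by omega)
  simp only [S] at this ⊢
  rw [← this]
  congr 1
  refine Finset.sum_congr rfl fun i _ => ?_
  rw [smul_smul, show t + 1 - d = t - d + 1 by omega, pow_succ, mul_assoc]
end Groth.Agent.S15494
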