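import Groth.Statements.S15495
import Mathlib

set_option autoImplicit false
universe u
open CAlg

namespace Groth.Agent.S15495

/-- In an Artinian local ring R whose maximal ideal m contains the prime number p, the multiplicative
group 1 + m is annihilated under some power of p: there is n with (1 + x)^(p^n) = 1 for every x in
m. (The published text makes this assertion inside a proof, for Artinian local algebras over the
Witt ring of a perfect field of characteristic p; only p ∈ m and the nilpotence of m are used.) -/
theorem result
    (R : Type u) [CommRing R] [IsLocalRing R] [IsArtinianRing R]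
    (p : ℕ) (hp : p.Prime) (hpm : (p : R) ∈ IsLocalRing.maximalIdeal R) :
    ∃ n : ℕ, ∀ x ∈ IsLocalRing.maximalIdeal R, (1 + x) ^ (p ^ n) = 1 := by
  obtain ⟨N, hN⟩ : IsNilpotent (IsLocalRing.maximalIdeal R) := by
    rw [← IsLocalRing.jacobson_eq_maximalIdeal ⊥ bot_ne_top]
    exact IsArtinianRing.isNilpotent_jacobson_bot
  refine ⟨N, fun x hx => ?_⟩
  have key : ∀ n, (1 + x) ^ (p ^ n) - 1 ∈ IsLocalRing.maximalIdeal R ^ (n + 1) := by
    intro n
    induction n with
    | zero => simpa using hx
    | succ n ih =>
      rw [pow_succ p n, pow_mul]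
      set a := (1 + x) ^ p ^ n
      have ha : a - 1 ∈ IsLocalRing.maximalIdeal R := Ideal.pow_le_self (by omega) ih
      have hgeom : (∑ i ∈ Finset.range p, a ^ i) ∈ IsLocalRing.maximalIdeal R := by
        rw [← Ideal.Quotient.eq_zero_iff_mem] at hpm ⊢
        have : Ideal.Quotient.mk (IsLocalRing.maximalIdeal R) a = 1 := by
          rw [← map_one (Ideal.Quotient.mk _), Ideal.Quotient.eq]; exact ha
        simpa [this] using hpm
      rw [← geom_sum_mul, pow_succ']
      exact Ideal.mul_mem_mul hgeom ih
  have := Ideal.pow_le_pow_right (by omega : N ≤ N + 1) (key N)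
  rw [hN, Submodule.zero_eq_bot, Submodule.mem_bot, sub_eq_zero] at this
  exact this

end Groth.Agent.S15495
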