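import Groth.Statements.S15498
import Mathlib
-- import your own Groth.Agent.* helpers here

set_option autoImplicit false
open NewtonPoly

namespace Groth.Agent.S15498

/-- Let m, n ≥ 1 be coprime, h = m + n, δ the segment from (0,0) to (h,m) (the isoclinic Newton polygon
of slope m/h) and ρ the ordinary polygon with n slopes 0 followed with m slopes 1, so ρ(i) = max(0,
i − n). The integer points (i,j), 0 ≤ i ≤ h, on or above ρ and strictly below δ — that is max(0, i −
n) ≤ j and j·h < i·m — are (m−1)(n−1)/2 + (m+n−1) in number (which equals mn − r for r =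
(m−1)(n−1)/2). (The published text works under m ≥ n > 0 coprime; the inequality m ≥ n is not used
and not assumed.) -/
theorem result
    (m n : ℕ) (hm : 0 < m) (hn : 0 < n) (hmn : Nat.Coprime m n) :
    ((Finset.range (m + n + 1) ×ˢ Finset.range (m + 1)).filter
      (fun ij : ℕ × ℕ => ij.1 ≤ ij.2 + n ∧ ij.2 * (m + n) < ij.1 * m)).card
      = (m - 1) * (n - 1) / 2 + (m + n - 1) := by
  classical
  set h := m + n with hh
  set F : ℕ → ℕ := fun i => i * m / h with hF
  have hdiv : ∀ i ∈ Finset.Ico 1 h, ¬ h ∣ i * m := by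
    intro i hi hd
    obtain ⟨h1, h2⟩ := Finset.mem_Ico.1 hi
    have hc : Nat.Coprime h m := by
      rw [hh, Nat.coprime_comm, Nat.coprime_self_add_right]; exact hmn
    exact absurd (Nat.le_of_dvd h1 (hc.dvd_of_dvd_mul_right hd)) (by omega)
  have hfib : ∀ i ∈ Finset.range (h + 1), ((Finset.range (m + 1)).filter
      (fun j => i ≤ j + n ∧ j * h < i * m)).card =
      if i ∈ Finset.Ico 1 h then F i + 1 - (i - n) else 0 := by
    intro i hi
    split_ifs with hmem
    · obtain ⟨h1, h2⟩ := Finset.mem_Ico.1 hmem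
      rw [show (Finset.range (m + 1)).filter (fun j => i ≤ j + n ∧ j * h < i * m) = Finset.Ico (i - n) (F i + 1) by
        ext j
        simp only [Finset.mem_filter, Finset.mem_range, Finset.mem_Ico, Nat.lt_add_one_iff, hF]
        rw [Nat.le_div_iff_mul_le (by omega)]
        constructor
        · rintro ⟨-, hle, hlt⟩; exact ⟨by omega, hlt.le⟩
        · rintro ⟨hle, hle'⟩
          refine ⟨?_, by omega, lt_of_le_of_ne hle' fun he => hdiv i hmem ⟨j, by rw [← he, mul_comm]⟩⟩
          exact Nat.le_of_mul_le_mul_right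
            (hle'.trans ((Nat.mul_le_mul_right m h2.le).trans (le_of_eq (Nat.mul_comm h m)))) (by omega),
        Nat.card_Ico]
    · rw [Finset.card_eq_zero, Finset.filter_eq_empty_iff]
      intro j hj ⟨hle, hlt⟩
      simp only [Finset.mem_range] at hi hj
      simp only [Finset.mem_Ico, not_and, not_lt] at hmem
      rcases Nat.eq_zero_or_pos i with rfl | hpos
      · simp at hlt
      · have : i = h := by have := hmem hpos; omega
        subst this
        rw [mul_comm h m] at hlt
        have := Nat.lt_of_mul_lt_mul_right hlt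
        omega
  rw [Finset.card_filter, Finset.sum_product]
  simp only [← Finset.card_filter]
  rw [Finset.sum_congr rfl hfib, ← Finset.sum_filter,
    show (Finset.range (h + 1)).filter (fun i => i ∈ Finset.Ico 1 h) = Finset.Ico 1 h by
      ext i; simp; omega]
  have hle : ∀ i ∈ Finset.Ico 1 h, i - n ≤ F i + 1 := by
    intro i hi
    obtain ⟨h1, h2⟩ := Finset.mem_Ico.1 hi
    refine le_trans ((Nat.le_div_iff_mul_le (by omega)).2 ?_) (Nat.le_succ _)
    rcases Nat.lt_or_ge i n with hin | hin
    · rw [Nat.sub_eq_zero_of_le hin.le, zero_mul]; exact Nat.zero_le _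
    · obtain ⟨e, rfl⟩ := Nat.exists_eq_add_of_le hin
      rw [Nat.add_sub_cancel_left, hh]
      nlinarith
  have hsum : ∑ i ∈ Finset.Ico 1 h, (F i + 1 - (i - n)) + ∑ i ∈ Finset.Ico 1 h, (i - n) =
      (∑ i ∈ Finset.Ico 1 h, F i) + (h - 1) := by
    rw [← Finset.sum_add_distrib, Finset.sum_congr rfl fun i hi => Nat.sub_add_cancel (hle i hi),
      Finset.sum_add_distrib, Finset.sum_const, Nat.card_Ico, smul_eq_mul, mul_one]
  have htail : (∑ i ∈ Finset.Ico 1 h, (i - n)) * 2 = m * (m - 1) := by
    rw [← Finset.sum_range_id_mul_two m]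
    congr 1
    rw [← Finset.sum_filter_add_sum_filter_not _ (fun i => n ≤ i),
      Finset.sum_eq_zero (s := (Finset.Ico 1 h).filter (fun i => ¬ n ≤ i)) (fun i hi => by
        have := (Finset.mem_filter.1 hi).2; omega), add_zero]
    refine Finset.sum_nbij' (fun i => i - n) (fun i => i + n) ?_ ?_ ?_ ?_ ?_
    all_goals intro i hi
    all_goals simp at hi ⊢
    all_goals omega
  have hfl : (∑ i ∈ Finset.Ico 1 h, F i) * 2 = (h - 1) * (m - 1) := by
    have hrefl : ∑ i ∈ Finset.Ico 1 h, F i = ∑ i ∈ Finset.Ico 1 h, F (h - i) := by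
      refine Finset.sum_nbij' (fun i => h - i) (fun i => h - i) ?_ ?_ ?_ ?_ ?_
      all_goals intro i hi
      all_goals simp at hi ⊢
      · omega
      · omega
      · omega
      · omega
      · rw [Nat.sub_sub_self (by omega)]
    rw [mul_two]
    conv_lhs => arg 2; rw [hrefl]
    rw [← Finset.sum_add_distrib, Finset.sum_congr rfl (g := fun _ => m - 1) fun i hi => ?_,
      Finset.sum_const, Nat.card_Ico, smul_eq_mul]
    obtain ⟨h1, h2⟩ := Finset.mem_Ico.1 hi
    have hpos : 0 < i * m % h := Nat.pos_of_ne_zero fun h0 => hdiv i hi (Nat.dvd_of_mod_eq_zero h0)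
    have hlt : i * m % h < h := Nat.mod_lt _ (by omega)
    have heq : (h - i) * m = h * (m - 1 - F i) + (h - i * m % h) := by
      have hd := Nat.div_add_mod (i * m) h
      have hFm : F i ≤ m - 1 := by
        have : F i < m := (Nat.div_lt_iff_lt_mul (by omega)).2 (by nlinarith)
        omega
      have e1 : (h - i) * m + i * m = h * m := by rw [← Nat.add_mul, Nat.sub_add_cancel h2.le]
      have e2 : h * (m - 1 - F i) + h * F i + h = h * m := by
        rw [← Nat.mul_add, Nat.sub_add_cancel hFm, Nat.mul_sub, mul_one]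
        exact Nat.sub_add_cancel (Nat.le_mul_of_pos_right h hm)
      have hF' : h * F i + i * m % h = i * m := hd
      omega
    have hFm : F i ≤ m - 1 := by
      have : F i < m := (Nat.div_lt_iff_lt_mul (by omega)).2 (by nlinarith)
      omega
    have : F (h - i) = m - 1 - F i := by
      show (h - i) * m / h = _
      rw [heq, Nat.mul_add_div (by omega), Nat.div_eq_of_lt (by omega), add_zero]
    omega
  obtain ⟨q, hq⟩ : 2 ∣ (m - 1) * (n - 1) := by
    rcases Nat.even_or_odd m with he | ho
    · rcases Nat.even_or_odd n with he' | ho'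
      · exfalso
        have := Nat.dvd_gcd he.two_dvd he'.two_dvd
        rw [hmn.gcd_eq_one] at this
        omega
      · exact dvd_mul_of_dvd_right (by obtain ⟨r, rfl⟩ := ho'; simp) _
    · exact dvd_mul_of_dvd_left (by obtain ⟨r, rfl⟩ := ho; simp) _
  have key : (h - 1) * (m - 1) = (m - 1) * (n - 1) + m * (m - 1) := by
    rw [show h - 1 = m + (n - 1) by omega]; ring
  rw [hq, Nat.mul_div_cancel_left _ two_pos]
  omega

end Groth.Agent.S15498
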