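import Groth.Statements.S17853
import Groth.Agent.CAlg9.Horrocks.Quillen

set_option autoImplicit false
open Polynomial LaurentPolynomial TensorProduct
universe u
open CAlg

namespace Groth.Agent.S17853

open Groth.Agent.CAlg9.Horrocks Matrix

variable {A : Type u} [CommRing A]

theorem invert_invert (x : LaurentPolynomial A) :
    LaurentPolynomial.invert (LaurentPolynomial.invert x) = x :=
  LaurentPolynomial.involutive_invert x

/-- `(1 ⊗ f)` in coordinates has the mapped matrix. -/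
theorem toMatrix_baseChange {S T : Type u} [CommRing S] [CommRing T] [Algebra S T] {p q : ℕ}
    (f : (Fin p → S) →ₗ[S] (Fin q → S)) :
    LinearMap.toMatrix' ((TensorProduct.piScalarRight S T T (Fin q)).toLinearMap ∘ₗ
      (f.baseChange T) ∘ₗ (TensorProduct.piScalarRight S T T (Fin p)).symm.toLinearMap) =
      (LinearMap.toMatrix' f).map (algebraMap S T) := by
  ext i j
  rw [LinearMap.toMatrix'_apply, Matrix.map_apply, LinearMap.toMatrix'_apply]
  simp only [LinearMap.comp_apply, LinearEquiv.coe_coe]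
  have h : (TensorProduct.piScalarRight S T T (Fin p)).symm (Pi.single j 1) =
      (1 : T) ⊗ₜ[S] (Pi.single j (1 : S)) := by
    rw [LinearEquiv.symm_apply_eq, TensorProduct.piScalarRight_apply,
      TensorProduct.piScalarRightHom_tmul]
    funext l
    rcases eq_or_ne l j with rfl | hne
    · simp
    · simp [Pi.single_eq_of_ne hne]
  rw [h, LinearMap.baseChange_tmul, TensorProduct.piScalarRight_apply,
    TensorProduct.piScalarRightHom_tmul]
  simp [Algebra.smul_def]

instance isScalarTower_laurent : IsScalarTower A A[X] A[T;T⁻¹] :=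
  IsScalarTower.of_algebraMap_eq fun a => (Polynomial.toLaurent_C a).symm

theorem forward (M : Type u) [AddCommGroup M] [Module A[X] M] [Module.Finite A[X] M]
    [Module.Projective A[X] M] (P : Type u) [AddCommGroup P] [Module A P]
    (θ : M ≃ₗ[A[X]] (A[X] ⊗[A] P)) :
    ∃ (N : Type u) (_ : AddCommGroup N) (_ : Module A[X] N),
        Module.Finite A[X] N ∧ Module.Projective A[X] N ∧
        ∃ e : (A[T;T⁻¹] ⊗[A[X]] M) →ₛₗ[(LaurentPolynomial.invert (R := A)).toRingEquiv.toRingHom]
            (A[T;T⁻¹] ⊗[A[X]] N), Function.Bijective e := by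
  refine ⟨A[X] ⊗[A] P, inferInstance, inferInstance, Module.Finite.equiv θ,
    Module.Projective.of_equiv θ, ?_⟩
  let c : A[T;T⁻¹] ⊗[A[X]] (A[X] ⊗[A] P) ≃ₗ[A[T;T⁻¹]] A[T;T⁻¹] ⊗[A] P :=
    TensorProduct.AlgebraTensorModule.cancelBaseChange A A[X] A[T;T⁻¹] A[T;T⁻¹] P
  let J : A[T;T⁻¹] ⊗[A] P ≃ₗ[A] A[T;T⁻¹] ⊗[A] P :=
    TensorProduct.congr (LaurentPolynomial.invert (R := A)).toLinearEquiv (LinearEquiv.refl A P)
  have hJ : ∀ (l : A[T;T⁻¹]) (z : A[T;T⁻¹] ⊗[A] P),
      J (l • z) = LaurentPolynomial.invert l • J z := by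
    intro l z
    induction z with
    | zero => simp
    | tmul m x => simp [J, TensorProduct.smul_tmul', map_mul]
    | add a b ha hb => rw [smul_add, map_add, map_add, smul_add, ha, hb]
  let θL := LinearEquiv.baseChange A[X] A[T;T⁻¹] _ _ θ
  refine ⟨{ toFun := fun z => c.symm (J (c (θL z)))
            map_add' := fun a b => by rw [map_add, map_add, map_add, map_add]
            map_smul' := fun l z => by rw [map_smul, map_smul, hJ, map_smul]; rfl }, ?_⟩
  exact c.symm.bijective.comp (J.bijective.comp (c.bijective.comp θL.bijective))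

theorem extended_of_matrix (M : Type u) [AddCommGroup M] [Module A[X] M] {r : ℕ}
    (π : (Fin r → A[X]) →ₗ[A[X]] M) (σ : M →ₗ[A[X]] (Fin r → A[X])) (hπσ : π ∘ₗ σ = LinearMap.id)
    (E₀ : Matrix (Fin r) (Fin r) A) (hE₀ : E₀ * E₀ = E₀)
    (hσπ : σ ∘ₗ π = (E₀.map (Polynomial.C)).mulVecLin) :
    ∃ (P : Type u) (_ : AddCommGroup P) (_ : Module A P), Nonempty (M ≃ₗ[A[X]] (A[X] ⊗[A] P)) := by
  classical
  let P : Submodule A (Fin r → A) := LinearMap.range E₀.mulVecLin
  have hPfix : ∀ v : P, E₀ *ᵥ (v : Fin r → A) = v := by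
    rintro ⟨_, w, rfl⟩
    show E₀ *ᵥ (E₀ *ᵥ w) = E₀ *ᵥ w
    rw [Matrix.mulVec_mulVec, hE₀]
  refine ⟨P, inferInstance, inferInstance, ?_⟩
  let pp : (Fin r → A) →ₗ[A] P := E₀.mulVecLin.rangeRestrict
  let I : (A[X] ⊗[A] (Fin r → A)) ≃ₗ[A[X]] (Fin r → A[X]) :=
    TensorProduct.piScalarRight A A[X] A[X] (Fin r)
  let to' : A[X] ⊗[A] P →ₗ[A[X]] M := π ∘ₗ I.toLinearMap ∘ₗ P.subtype.baseChange A[X]
  let from' : M →ₗ[A[X]] A[X] ⊗[A] P := (pp.baseChange A[X]) ∘ₗ I.symm.toLinearMap ∘ₗ σ
  have hI : ∀ w : A[X] ⊗[A] (Fin r → A),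
      I ((E₀.mulVecLin).baseChange A[X] w) = (E₀.map Polynomial.C) *ᵥ (I w) := by
    intro w
    induction w with
    | zero => simp
    | tmul p v =>
      funext i
      simp only [I, LinearMap.baseChange_tmul, TensorProduct.piScalarRight_apply,
        TensorProduct.piScalarRightHom_tmul, Matrix.mulVecLin_apply, Matrix.mulVec, dotProduct,
        Matrix.map_apply, Polynomial.smul_eq_C_mul, map_sum, map_mul, Finset.sum_mul]
      exact Finset.sum_congr rfl fun l _ => by ring
    | add a b ha hb => rw [map_add, map_add, ha, hb, map_add, Matrix.mulVec_add]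
  have hcomp : (P.subtype.baseChange A[X]) ∘ₗ (pp.baseChange A[X]) =
      (E₀.mulVecLin).baseChange A[X] := by
    rw [← LinearMap.baseChange_comp]; rfl
  have hppP : pp ∘ₗ P.subtype = LinearMap.id := LinearMap.ext fun v => Subtype.ext (hPfix v)
  refine ⟨LinearEquiv.ofLinearMap from' to' ?_ ?_⟩
  · refine LinearMap.ext fun w => ?_
    simp only [from', to', LinearMap.comp_apply, LinearMap.id_apply, LinearEquiv.coe_coe]
    rw [← LinearMap.comp_apply σ π, hσπ, Matrix.mulVecLin_apply, ← hI, LinearEquiv.symm_apply_apply,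
      ← LinearMap.comp_apply ((E₀.mulVecLin).baseChange A[X]), ← LinearMap.baseChange_comp,
      ← LinearMap.comp_apply (pp.baseChange A[X]), ← LinearMap.baseChange_comp,
      show pp ∘ₗ E₀.mulVecLin ∘ₗ P.subtype = LinearMap.id from LinearMap.ext fun v => Subtype.ext (by
        show E₀ *ᵥ (E₀ *ᵥ (v : Fin r → A)) = v
        rw [hPfix, hPfix]), LinearMap.baseChange_id, LinearMap.id_apply]
  · refine LinearMap.ext fun m => ?_
    simp only [from', to', LinearMap.comp_apply, LinearMap.id_apply, LinearEquiv.coe_coe]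
    rw [← LinearMap.comp_apply (P.subtype.baseChange A[X]), hcomp, hI, LinearEquiv.apply_symm_apply,
      ← Matrix.mulVecLin_apply, ← hσπ, LinearMap.comp_apply, ← LinearMap.comp_apply π σ, hπσ,
      LinearMap.id_apply, ← LinearMap.comp_apply π σ, hπσ, LinearMap.id_apply]

theorem glue_matrices {L X Y : Type u} [CommRing L] [AddCommGroup X] [Module L X] [AddCommGroup Y]
    [Module L Y] {r r' : ℕ} (τ : L →+* L) (hτ : ∀ l, τ (τ l) = l)
    (cM : X →ₗ[L] (Fin r → L)) (pM : (Fin r → L) →ₗ[L] X) (hM : pM ∘ₗ cM = LinearMap.id)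
    (cN : Y →ₗ[L] (Fin r' → L)) (pN : (Fin r' → L) →ₗ[L] Y) (hN : pN ∘ₗ cN = LinearMap.id)
    (e : X →ₛₗ[τ] Y) (he : Function.Bijective e) :
    ∃ (G : Matrix (Fin r) (Fin r') L) (H : Matrix (Fin r') (Fin r) L),
      G * H = LinearMap.toMatrix' (cM ∘ₗ pM) ∧ H * G = (LinearMap.toMatrix' (cN ∘ₗ pN)).map τ := by
  classical
  choose e' he' using he.2
  have he'' : ∀ z, e' (e z) = z := fun z => he.1 (he' (e z))
  let Φ : X →ₗ[L] (Fin r' → L) :=
    { toFun := fun z i => τ (cN (e z) i)
      map_add' := fun a b => by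
        funext i
        show τ (cN (e (a + b)) i) = τ (cN (e a) i) + τ (cN (e b) i)
        rw [map_add e, map_add cN, Pi.add_apply, map_add]
      map_smul' := fun l z => by
        funext i
        show τ (cN (e (l • z)) i) = l * τ (cN (e z) i)
        rw [map_smulₛₗ, map_smul, Pi.smul_apply, smul_eq_mul, map_mul, hτ] }
  let Ψ : (Fin r' → L) →ₗ[L] X :=
    { toFun := fun x => e' (pN (fun i => τ (x i)))
      map_add' := fun a b => he.1 (by
        rw [he', map_add, he', he', ← map_add]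
        exact congrArg pN (funext fun i => map_add τ _ _))
      map_smul' := fun l x => he.1 (by
        rw [he', RingHom.id_apply, map_smulₛₗ, he', ← map_smul]
        exact congrArg pN (funext fun i => map_mul τ _ _)) }
  have hΨΦ : Ψ ∘ₗ Φ = LinearMap.id := LinearMap.ext fun z => by
    show e' (pN (fun i => τ (τ (cN (e z) i)))) = z
    simp only [hτ]
    rw [show pN (fun i => cN (e z) i) = e z from LinearMap.congr_fun hN (e z), he'']
  refine ⟨LinearMap.toMatrix' (cM ∘ₗ Ψ), LinearMap.toMatrix' (Φ ∘ₗ pM), ?_, ?_⟩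
  · rw [← LinearMap.toMatrix'_comp, show (cM ∘ₗ Ψ) ∘ₗ (Φ ∘ₗ pM) = cM ∘ₗ (Ψ ∘ₗ Φ) ∘ₗ pM from rfl,
      hΨΦ, LinearMap.id_comp]
  · rw [← LinearMap.toMatrix'_comp]
    ext1 i j
    rw [LinearMap.toMatrix'_apply, Matrix.map_apply, LinearMap.toMatrix'_apply]
    show τ (cN (e (pM (cM (e' (pN (fun l => τ ((Pi.single j (1 : L) : Fin r' → L) l))))))) i) = _
    rw [show pM (cM (e' (pN (fun l => τ ((Pi.single j (1 : L) : Fin r' → L) l))))) =
      e' (pN (fun l => τ ((Pi.single j (1 : L) : Fin r' → L) l))) from LinearMap.congr_fun hM _, he',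
      show (fun l => τ ((Pi.single j (1 : L) : Fin r' → L) l)) = Pi.single j 1 from funext fun l => by
        rcases eq_or_ne l j with rfl | hne <;> simp [*]]
    rfl

theorem exists_chart_maps (T : Type u) [CommRing T] [Algebra A[X] T] (M : Type u) [AddCommGroup M]
    [Module A[X] M] {r : ℕ} (π : (Fin r → A[X]) →ₗ[A[X]] M) (σ : M →ₗ[A[X]] (Fin r → A[X]))
    (h : π ∘ₗ σ = LinearMap.id) :
    ∃ (c : T ⊗[A[X]] M →ₗ[T] (Fin r → T)) (p : (Fin r → T) →ₗ[T] T ⊗[A[X]] M),
      p ∘ₗ c = LinearMap.id ∧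
      LinearMap.toMatrix' (c ∘ₗ p) = (LinearMap.toMatrix' (σ ∘ₗ π)).map (algebraMap A[X] T) := by
  refine ⟨(TensorProduct.piScalarRight A[X] T T (Fin r)).toLinearMap ∘ₗ σ.baseChange T,
    π.baseChange T ∘ₗ (TensorProduct.piScalarRight A[X] T T (Fin r)).symm.toLinearMap,
    LinearMap.ext fun z => ?_, ?_⟩
  · simp only [LinearMap.comp_apply, LinearEquiv.coe_coe, LinearEquiv.symm_apply_apply]
    rw [← LinearMap.comp_apply (π.baseChange _), ← LinearMap.baseChange_comp, h,
      LinearMap.baseChange_id]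
  · rw [← toMatrix_baseChange (σ ∘ₗ π), LinearMap.baseChange_comp]
    rfl

theorem backward (M : Type u) [AddCommGroup M] [Module A[X] M] [Module.Finite A[X] M]
    [Module.Projective A[X] M] (N : Type u) [AddCommGroup N] [Module A[X] N] [Module.Finite A[X] N]
    [Module.Projective A[X] N]
    (e : (A[T;T⁻¹] ⊗[A[X]] M) →ₛₗ[(LaurentPolynomial.invert (R := A)).toRingEquiv.toRingHom]
            (A[T;T⁻¹] ⊗[A[X]] N)) (he : Function.Bijective e) :
    ∃ (P : Type u) (_ : AddCommGroup P) (_ : Module A P), Nonempty (M ≃ₗ[A[X]] (A[X] ⊗[A] P)) := by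
  classical
  obtain ⟨r, πM, hπM⟩ := Module.Finite.exists_fin' A[X] M
  obtain ⟨σM, hσM⟩ := Module.projective_lifting_property πM LinearMap.id hπM
  obtain ⟨r', πN, hπN⟩ := Module.Finite.exists_fin' A[X] N
  obtain ⟨σN, hσN⟩ := Module.projective_lifting_property πN LinearMap.id hπN
  obtain ⟨cM, pM, hM, hcpM⟩ := exists_chart_maps A[T;T⁻¹] M πM σM hσM
  obtain ⟨cN, pN, hN, hcpN⟩ := exists_chart_maps A[T;T⁻¹] N πN σN hσN
  obtain ⟨G, H, hGH, hHG⟩ := glue_matrices
    (LaurentPolynomial.invert (R := A)).toRingEquiv.toRingHom invert_invert cM pM hM cN pN hN e he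
  rw [hcpM] at hGH
  rw [hcpN, map_map_hom] at hHG
  generalize hEd : LinearMap.toMatrix' (σM ∘ₗ πM) = E at hGH
  generalize hFd : LinearMap.toMatrix' (σN ∘ₗ πN) = F at hHG
  have hE : E * E = E := by
    rw [← hEd, ← LinearMap.toMatrix'_comp, LinearMap.comp_assoc,
      ← LinearMap.comp_assoc πM σM πM, hσM, LinearMap.id_comp]
  have hF : F * F = F := by
    rw [← hFd, ← LinearMap.toMatrix'_comp, LinearMap.comp_assoc,
      ← LinearMap.comp_assoc πN σN πN, hσN, LinearMap.id_comp]
  have hEσ : E.mulVecLin = σM ∘ₗ πM := by rw [← hEd]; exact Matrix.toLin'_toMatrix' _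
  obtain ⟨U, V, hU, hV, hUV, hVU⟩ := extended E hE F hF G H hGH hHG
  refine extended_of_matrix M (πM ∘ₗ V.mulVecLin) (U.mulVecLin ∘ₗ σM) ?_ (E.map (evalRingHom (0 : A)))
    (by rw [← Matrix.map_mul, hE]) ?_
  · calc (πM ∘ₗ V.mulVecLin) ∘ₗ (U.mulVecLin ∘ₗ σM) = πM ∘ₗ (V * U).mulVecLin ∘ₗ σM := by
          simp only [Matrix.mulVecLin_mul, LinearMap.comp_assoc]
      _ = (πM ∘ₗ σM) ∘ₗ (πM ∘ₗ σM) := by simp only [hVU, hEσ, LinearMap.comp_assoc]
      _ = LinearMap.id := by rw [hσM, LinearMap.id_comp]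
  · calc (U.mulVecLin ∘ₗ σM) ∘ₗ (πM ∘ₗ V.mulVecLin) = U.mulVecLin ∘ₗ (σM ∘ₗ πM) ∘ₗ V.mulVecLin := by
          simp only [LinearMap.comp_assoc]
      _ = (U * (E * V)).mulVecLin := by rw [← hEσ, Matrix.mulVecLin_mul, Matrix.mulVecLin_mul]
      _ = _ := by rw [hV, hUV, map_map_hom]


/-- For an arbitrary commutative ring A, a finitely generated projective A[t]-module M is extended from
A (isomorphic to A[t] ⊗_A P for an A-module P) if and only if it extends to a vector bundle on the
projective line over A. The latter is stated by gluing: there are a finitely generated projective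
module N over the polynomial ring of the chart at infinity and an isomorphism over the Laurent
polynomial ring between the localisation of M and the base change of N along s ↦ t⁻¹, written as a
bijective additive map A[t,t⁻¹] ⊗ M → A[t,t⁻¹] ⊗ N that is semilinear with respect to the A-algebra
involution t ↦ t⁻¹ of A[t,t⁻¹]. (The published statement adds: for A semilocal, M is then free on
each connected component of the affine line.) -/
theorem result
    (A : Type u) [CommRing A] (M : Type u) [AddCommGroup M] [Module A[X] M]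
    [Module.Finite A[X] M] [Module.Projective A[X] M] :
    (∃ (P : Type u) (_ : AddCommGroup P) (_ : Module A P), Nonempty (M ≃ₗ[A[X]] (A[X] ⊗[A] P))) ↔
      ∃ (N : Type u) (_ : AddCommGroup N) (_ : Module A[X] N),
        Module.Finite A[X] N ∧ Module.Projective A[X] N ∧
        ∃ e : (A[T;T⁻¹] ⊗[A[X]] M) →ₛₗ[(LaurentPolynomial.invert (R := A)).toRingEquiv.toRingHom]
            (A[T;T⁻¹] ⊗[A[X]] N), Function.Bijective e := by
  constructor
  · rintro ⟨P, _, _, ⟨θ⟩⟩
    exact forward M P θ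
  · rintro ⟨N, _, _, _, _, e, he⟩
    exact backward M N e he

end Groth.Agent.S17853
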