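import Groth.Statements.S15499
import Groth.Agent.S17853
-- import your own Groth.Agent.* helpers here

set_option autoImplicit false
open Polynomial LaurentPolynomial
open scoped TensorProduct
universe u
open CAlg

namespace Groth.Agent.S15499

/-- Let S = Spec R be a smooth connected affine complex variety, so that R is a finitely generated
smooth ℂ-algebra and an integral domain, and let F be a locally free sheaf of finite rank on the
projective line over S, presented by its two standard charts: a finitely generated projective
R[X]-module P on the affine line over S, a finitely generated projective R[X]-module P' on the chart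
at infinity, and an identification of their base changes to R[X, X⁻¹] that is additive, bijective
and semilinear over the R-algebra involution X ↦ X⁻¹. Then S is covered by basic open sets D(g_1),
…, D(g_n) such that F restricted to the affine line over each D(g_i) is free: the localisation of P
at g_i is a free module over the localisation of R[X] at g_i. -/
theorem result
    (R : Type u) [CommRing R] [IsDomain R] [Algebra ℂ R] [Algebra.FiniteType ℂ R]
    [Algebra.Smooth ℂ R]
    (P : Type u) [AddCommGroup P] [Module R[X] P] [Module.Finite R[X] P]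
    [Module.Projective R[X] P]
    (P' : Type u) [AddCommGroup P'] [Module R[X] P'] [Module.Finite R[X] P']
    [Module.Projective R[X] P']
    (e : R[T;T⁻¹] ⊗[R[X]] P ≃+ R[T;T⁻¹] ⊗[R[X]] P')
    (he : ∀ (a : R[T;T⁻¹]) (m : R[T;T⁻¹] ⊗[R[X]] P),
      e (a • m) = LaurentPolynomial.invert a • e m) :
    ∃ (n : ℕ) (g : Fin n → R), Ideal.span (Set.range g) = ⊤ ∧
      ∀ i, Module.Free (Localization.Away (Polynomial.C (g i) : R[X]))
        (LocalizedModule (Submonoid.powers (Polynomial.C (g i) : R[X])) P) := by
  classical
  let f : (R[T;T⁻¹] ⊗[R[X]] P) →ₛₗ[(LaurentPolynomial.invert (R := R)).toRingEquiv.toRingHom]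
      (R[T;T⁻¹] ⊗[R[X]] P') :=
    { toFun := e, map_add' := map_add e, map_smul' := he }
  obtain ⟨P₀, _, _, ⟨θ⟩⟩ := (S17853.result R P).2 ⟨P', inferInstance, inferInstance, inferInstance,
    inferInstance, f, e.bijective⟩
  -- `P₀` is the fibre of `P` at `0`
  let _ : Algebra R[X] R := (Polynomial.evalRingHom (0 : R)).toAlgebra
  have : IsScalarTower R R[X] R := IsScalarTower.of_algebraMap_eq fun a => (Polynomial.eval_C).symm
  let ι : R ⊗[R[X]] P ≃ₗ[R] P₀ := ((θ.baseChange R[X] R).trans
    (TensorProduct.AlgebraTensorModule.cancelBaseChange R R[X] R R P₀)).trans (TensorProduct.lid R P₀)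
  have : Module.Finite R P₀ := Module.Finite.equiv ι
  have : Module.Projective R P₀ := Module.Projective.of_equiv ι
  have : Module.FinitePresentation R P₀ := Module.finitePresentation_of_projective R P₀
  have hloc : ∀ p : PrimeSpectrum R, ∃ g : R, g ∉ p.asIdeal ∧
      Module.Free (Localization.Away g) (LocalizedModule.Away g P₀) := fun p => by
    have : Module.Free (Localization.AtPrime p.asIdeal) (LocalizedModule.AtPrime p.asIdeal P₀) :=
      Module.free_of_flat_of_isLocalRing
    obtain ⟨r, hr, hfree, -⟩ := Module.FinitePresentation.exists_free_localizedModule_powers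
      p.asIdeal.primeCompl (LocalizedModule.mkLinearMap p.asIdeal.primeCompl P₀)
      (Localization.AtPrime p.asIdeal)
    exact ⟨r, hr, hfree⟩
  choose g hg hfree using hloc
  obtain ⟨t, ht⟩ := Ideal.span_eq_top_iff_finite _ |>.mp
    (show Ideal.span (Set.range g) = ⊤ from by
      by_contra h
      obtain ⟨M, hM, hle⟩ := Ideal.exists_le_maximal _ h
      exact hg ⟨M, hM.isPrime⟩ (hle (Ideal.subset_span ⟨_, rfl⟩)))
  refine ⟨t.card, fun i => (t.equivFin.symm i).1, ?_, fun i => ?_⟩
  · rw [← ht.2]
    congr 1
    ext x
    exact ⟨fun ⟨i, hi⟩ => hi ▸ (t.equivFin.symm i).2, fun hx => ⟨t.equivFin ⟨x, hx⟩, by simp⟩⟩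
  obtain ⟨p, hp⟩ := ht.1 (t.equivFin.symm i).2
  beta_reduce
  rw [← hp]
  set A := Localization.Away (g p)
  set L := Localization.Away (Polynomial.C (g p) : R[X])
  have hu : IsUnit (algebraMap R L (g p)) := by
    rw [IsScalarTower.algebraMap_apply R R[X] L]
    exact IsLocalization.Away.algebraMap_isUnit (Polynomial.C (g p) : R[X])
  let _ : Algebra A L := (IsLocalization.Away.lift (g p) hu).toAlgebra
  have : IsScalarTower R A L := IsScalarTower.of_algebraMap_eq fun r =>
    (IsLocalization.Away.lift_eq (g p) hu r).symm
  have hf := hfree p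
  have : Module.Free A (A ⊗[R] P₀) :=
    Module.Free.of_equiv (LocalizedModule.equivTensorProduct (Submonoid.powers (g p)) P₀)
  exact Module.Free.of_equiv ((TensorProduct.AlgebraTensorModule.cancelBaseChange R A L L P₀).trans
    (((TensorProduct.AlgebraTensorModule.cancelBaseChange R R[X] L L P₀).symm.trans
      (θ.symm.baseChange R[X] L)).trans
      (LocalizedModule.equivTensorProduct (Submonoid.powers (Polynomial.C (g p) : R[X])) P).symm))

end Groth.Agent.S15499
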