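import Groth.Statements.S15502
import Groth.Agent.CAlg6.LogConn

set_option autoImplicit false
open Polynomial
universe u
open CAlg Groth.Agent

namespace Groth.Agent.S15502

/-- Let S = Spec R be a smooth connected affine complex variety (R a finitely generated smooth ℂ-algebra
and a domain), θ_1, …, θ_r ∈ R pairwise disjoint sections of the affine line over S (θ_i − θ_k a
unit for i ≠ k), Θ = ∏ (X − θ_i) ∈ R[X], and M = R^d. Suppose given an additive operator D₀ on M[X]
= R[X]^d with D₀(p v) = Θ p′ v + p D₀(v) (the action of the logarithmic vector field Θ ∂/∂X for a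
connection on the trivial bundle of rank d on the affine line over S with logarithmic poles along
the θ_i), its extension D to M[X, 1/Θ] = (R[X][1/Θ])^d with the same Leibniz rule, and for each i
the residue endomorphism Res_i of M, characterised by D₀(m)(θ_i) = (∏_{k ≠ i} (θ_i − θ_k)) ·
Res_i(m) for constant m ∈ M, whose characteristic polynomial has complex coefficients and no nonzero
integer root. Then M[X, 1/Θ] = D(M[X, 1/Θ]) + M[X]: every element of (R[X][1/Θ])^d is D of some
element plus an element coming from R[X]^d. (The published claim is made for residues whose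
characteristic roots all lie in the image of a right inverse τ of the quotient map ℂ → ℂ/ℤ with τ(0)
= 0, so that no root is a nonzero integer and no two roots differ by a nonzero integer; this row
assumes only that no nonzero integer is a root, which is all the argument uses.) -/
theorem result
    (R : Type u) [CommRing R] [IsDomain R] [Algebra ℂ R] [Algebra.FiniteType ℂ R]
    [Algebra.Smooth ℂ R] (d r : ℕ) (θ : Fin r → R)
    (hθ : ∀ i k, i ≠ k → IsUnit (θ i - θ k))
    (Θ : R[X]) (hΘ : Θ = ∏ i, (X - Polynomial.C (θ i)))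
    (D₀ : (Fin d → R[X]) →+ (Fin d → R[X]))
    (hD₀ : ∀ (p : R[X]) (v : Fin d → R[X]),
      D₀ (p • v) = (Θ * Polynomial.derivative p) • v + p • D₀ v)
    (D : (Fin d → Localization.Away Θ) →+ (Fin d → Localization.Away Θ))
    (hD : ∀ (p : R[X]) (w : Fin d → Localization.Away Θ),
      D (p • w) = (Θ * Polynomial.derivative p) • w + p • D w)
    (hDD₀ : ∀ v : Fin d → R[X],
      D (fun j => algebraMap R[X] (Localization.Away Θ) (v j)) =
        fun j => algebraMap R[X] (Localization.Away Θ) (D₀ v j))
    (Res : Fin r → ((Fin d → R) →ₗ[R] (Fin d → R)))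
    (hRes : ∀ (i : Fin r) (m : Fin d → R) (j : Fin d),
      (D₀ (fun j => Polynomial.C (m j)) j).eval (θ i) =
        (∏ k ∈ Finset.univ.erase i, (θ i - θ k)) * Res i m j)
    (hχ : ∀ i : Fin r, ∃ χ : ℂ[X], (Res i).charpoly = χ.map (algebraMap ℂ R) ∧
      ∀ n : ℤ, n ≠ 0 → χ.eval (n : ℂ) ≠ 0)
    (w : Fin d → Localization.Away Θ) :
    ∃ (w' : Fin d → Localization.Away Θ) (v : Fin d → R[X]),
      w = D w' + fun j => algebraMap R[X] (Localization.Away Θ) (v j) := by
  classical
  have hD₀' : ∀ (p : R[X]) (v : Fin d → R[X]),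
      D₀ (p • v) = ((∏ i, (X - C (θ i))) * derivative p) • v + p • D₀ v := hΘ ▸ hD₀
  set φ := algebraMap R[X] (Localization.Away Θ)
  have hΘ0 : Θ ≠ 0 := hΘ ▸ Finset.prod_ne_zero_iff.2 fun i _ => X_sub_C_ne_zero _
  have hinj : Function.Injective φ :=
    IsLocalization.injective (Localization.Away Θ) (powers_le_nonZeroDivisors_of_noZeroDivisors hΘ0)
  have hu : IsUnit (φ Θ) := IsLocalization.Away.algebraMap_isUnit Θ
  obtain ⟨t, ht⟩ := hu.exists_right_inv
  have hform : ∀ x : Fin d → Localization.Away Θ, ∃ (n : ℕ) (v : Fin d → R[X]), Θ ^ n • x = fun j => φ (v j) := by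
    intro x
    obtain ⟨⟨_, n, rfl⟩, hn⟩ := IsLocalization.exist_integer_multiples_of_finite (Submonoid.powers Θ) x
    choose v hv using hn
    exact ⟨n, v, funext fun j => by simpa [Algebra.smul_def] using (hv j).symm⟩
  have hres : ∀ (n : ℕ), n ≠ 0 → ∀ i, IsUnit (Res i - algebraMap R _ (n : R)) := fun n hn i => by
    obtain ⟨χ, hχ1, hχ2⟩ := hχ i
    exact CAlg6.LogConn.isUnit_sub (Res i) χ hχ1 n (by simpa using hχ2 n (by exact_mod_cast hn))
  have hcalc : ∀ (n : ℕ) (x : Fin d → Localization.Away Θ) (v : Fin d → R[X]), (Θ ^ n • x = fun j => φ (v j)) →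
      Θ ^ n • D x = fun j => φ (CAlg6.LogConn.pole θ D₀ n v j) := by
    intro n x v hx
    have h := hD (Θ ^ n) x
    rw [hx, hDD₀, derivative_pow] at h
    funext j
    have hj := congrFun h j
    have hxj := congrFun hx j
    simp only [Pi.add_apply, Pi.smul_apply] at hj hxj ⊢
    simp only [Algebra.smul_def] at hj hxj ⊢
    simp only [CAlg6.LogConn.pole, ← hΘ, Pi.sub_apply, Pi.smul_apply, smul_eq_mul, map_sub, map_mul, φ] at hj hxj ⊢
    rcases n with _ | k
    · simp at hj ⊢; linear_combination -hj
    · simp only [pow_succ, map_mul, map_natCast, Nat.add_sub_cancel] at hj hxj ⊢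
      linear_combination -hj - ((k + 1 : ℕ) : Localization.Away Θ) * algebraMap R[X] (Localization.Away Θ) (derivative Θ) * hxj
  have cancel : ∀ (x y : Fin d → Localization.Away Θ), Θ • x = Θ • y → x = y := fun x y h => funext fun j => by
    have hj := congrFun h j
    simp only [Pi.smul_apply, Algebra.smul_def] at hj
    exact hu.mul_left_cancel hj
  obtain ⟨n, v, hx⟩ := hform w
  induction n generalizing w v with
  | zero => exact ⟨0, v, by rw [map_zero, zero_add]; simpa using hx⟩
  | succ n ih =>
    have hinv : ∀ i, ∃ a : Fin d → R,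
        CAlg6.LogConn.coefAt θ i • (Res i - algebraMap R _ ((n + 1 : ℕ) : R)) a = CAlg6.LogConn.evalAt θ i v := by
      intro i
      obtain ⟨c, hc⟩ := (CAlg6.LogConn.isUnit_coefAt θ hθ i).exists_right_inv
      obtain ⟨a, ha⟩ := ((Module.End.isUnit_iff _).1 (hres (n + 1) n.succ_ne_zero i)).2 (c • CAlg6.LogConn.evalAt θ i v)
      exact ⟨a, by rw [ha, smul_smul, hc, one_smul]⟩
    choose a ha using hinv
    choose v' hv' using fun j => CAlg6.LogConn.exists_eval_eq θ hθ (fun i => a i j)
    have hev : ∀ i, CAlg6.LogConn.evalAt θ i (CAlg6.LogConn.pole θ D₀ (n + 1) v') = CAlg6.LogConn.evalAt θ i v := by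
      intro i
      rw [CAlg6.LogConn.eval_pole θ D₀ hD₀' Res hRes, show CAlg6.LogConn.evalAt θ i v' = a i from funext fun j => hv' j i]
      exact ha i
    have hdvd : ∀ j, Θ ∣ v j - CAlg6.LogConn.pole θ D₀ (n + 1) v' j := fun j =>
      hΘ ▸ CAlg6.LogConn.dvd_of_eval_eq_zero θ hθ _ fun i => by
        rw [eval_sub, sub_eq_zero]
        exact (congrFun (hev i) j).symm
    choose q hq using hdvd
    let x' : Fin d → Localization.Away Θ := fun j => φ (v' j) * t ^ (n + 1)
    have hx' : Θ ^ (n + 1) • x' = fun j => φ (v' j) := funext fun j => by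
      show Θ ^ (n + 1) • (φ (v' j) * t ^ (n + 1)) = _
      rw [Algebra.smul_def, map_pow, mul_left_comm, ← mul_pow, ht, one_pow, mul_one]
    obtain ⟨w', v₁, h⟩ := ih (w - D x') q (cancel _ _ (funext fun j => by
      have h1 := congrFun (hcalc _ _ _ hx') j
      have h2 := congrFun hx j
      simp only [Pi.smul_apply] at h1 h2 ⊢
      rw [smul_smul, ← pow_succ', Pi.sub_apply, smul_sub, h1, h2, Algebra.smul_def, ← map_mul, ← map_sub, hq]))
    exact ⟨w' + x', v₁, by rw [map_add, add_right_comm, ← h, sub_add_cancel]⟩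

end Groth.Agent.S15502
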