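import Groth.Statements.S15503
import Groth.Agent.CAlg6.LogConn

set_option autoImplicit false
open Polynomial
universe u
open CAlg Groth.Agent

namespace Groth.Agent.S15503

/-- Let S = Spec R be a smooth connected affine complex variety (R a finitely generated smooth ℂ-algebra
and a domain), θ_1, …, θ_r ∈ R pairwise disjoint sections of the affine line over S (θ_i − θ_k a
unit for i ≠ k), Θ = ∏ (X − θ_i) ∈ R[X], and M = R^d. Suppose given an additive operator D₀ on M[X]
= R[X]^d with D₀(p v) = Θ p′ v + p D₀(v) (the action of the logarithmic vector field Θ ∂/∂X for a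
connection on the trivial bundle of rank d on the affine line over S with logarithmic poles along
the θ_i), its extension D to M[X, 1/Θ] = (R[X][1/Θ])^d with the same Leibniz rule, and for each i
the residue endomorphism Res_i of M, characterised by D₀(m)(θ_i) = (∏_{k ≠ i} (θ_i − θ_k)) ·
Res_i(m) for constant m ∈ M, whose characteristic polynomial has complex coefficients and no nonzero
integer root. Then an element f of M[X, 1/Θ] = (R[X][1/Θ])^d with D(f) ∈ M[X] = R[X]^d lies in
R[X]^d. (The published claim is made for residues whose characteristic roots all lie in the image of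
a right inverse τ of the quotient map ℂ → ℂ/ℤ with τ(0) = 0, so that no root is a nonzero integer
and no two roots differ by a nonzero integer; this row assumes only that no nonzero integer is a
root, which is all the argument uses.) -/
theorem result
    (R : Type u) [CommRing R] [IsDomain R] [Algebra ℂ R] [Algebra.FiniteType ℂ R]
    [Algebra.Smooth ℂ R] (d r : ℕ) (θ : Fin r → R)
    (hθ : ∀ i k, i ≠ k → IsUnit (θ i - θ k))
    (Θ : R[X]) (hΘ : Θ = ∏ i, (X - Polynomial.C (θ i)))
    (D₀ : (Fin d → R[X]) →+ (Fin d → R[X]))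
    (hD₀ : ∀ (p : R[X]) (v : Fin d → R[X]),
      D₀ (p • v) = (Θ * Polynomial.derivative p) • v + p • D₀ v)
    (D : (Fin d → Localization.Away Θ) →+ (Fin d → Localization.Away Θ))
    (hD : ∀ (p : R[X]) (w : Fin d → Localization.Away Θ),
      D (p • w) = (Θ * Polynomial.derivative p) • w + p • D w)
    (hDD₀ : ∀ v : Fin d → R[X],
      D (fun j => algebraMap R[X] (Localization.Away Θ) (v j)) =
        fun j => algebraMap R[X] (Localization.Away Θ) (D₀ v j))
    (Res : Fin r → ((Fin d → R) →ₗ[R] (Fin d → R)))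
    (hRes : ∀ (i : Fin r) (m : Fin d → R) (j : Fin d),
      (D₀ (fun j => Polynomial.C (m j)) j).eval (θ i) =
        (∏ k ∈ Finset.univ.erase i, (θ i - θ k)) * Res i m j)
    (hχ : ∀ i : Fin r, ∃ χ : ℂ[X], (Res i).charpoly = χ.map (algebraMap ℂ R) ∧
      ∀ n : ℤ, n ≠ 0 → χ.eval (n : ℂ) ≠ 0)
    (f : Fin d → Localization.Away Θ)
    (hf : ∃ v : Fin d → R[X], D f = fun j => algebraMap R[X] (Localization.Away Θ) (v j)) :
    ∃ v : Fin d → R[X], f = fun j => algebraMap R[X] (Localization.Away Θ) (v j) := by
  classical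
  have hD₀' : ∀ (p : R[X]) (v : Fin d → R[X]),
      D₀ (p • v) = ((∏ i, (X - C (θ i))) * derivative p) • v + p • D₀ v := hΘ ▸ hD₀
  set φ := algebraMap R[X] (Localization.Away Θ)
  have hΘ0 : Θ ≠ 0 := hΘ ▸ Finset.prod_ne_zero_iff.2 fun i _ => X_sub_C_ne_zero _
  have hinj : Function.Injective φ :=
    IsLocalization.injective (Localization.Away Θ) (powers_le_nonZeroDivisors_of_noZeroDivisors hΘ0)
  have hu : IsUnit (φ Θ) := IsLocalization.Away.algebraMap_isUnit Θ
  obtain ⟨t, ht⟩ := hu.exists_right_inv
  have hform : ∀ x : Fin d → Localization.Away Θ, ∃ (n : ℕ) (v : Fin d → R[X]), Θ ^ n • x = fun j => φ (v j) := by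
    intro x
    obtain ⟨⟨_, n, rfl⟩, hn⟩ := IsLocalization.exist_integer_multiples_of_finite (Submonoid.powers Θ) x
    choose v hv using hn
    exact ⟨n, v, funext fun j => by simpa [Algebra.smul_def] using (hv j).symm⟩
  have hres : ∀ (n : ℕ), n ≠ 0 → ∀ i, IsUnit (Res i - algebraMap R _ (n : R)) := fun n hn i => by
    obtain ⟨χ, hχ1, hχ2⟩ := hχ i
    exact CAlg6.LogConn.isUnit_sub (Res i) χ hχ1 n (by simpa using hχ2 n (by exact_mod_cast hn))
  have hcalc : ∀ (n : ℕ) (x : Fin d → Localization.Away Θ) (v : Fin d → R[X]), (Θ ^ n • x = fun j => φ (v j)) →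
      Θ ^ n • D x = fun j => φ (CAlg6.LogConn.pole θ D₀ n v j) := by
    intro n x v hx
    have h := hD (Θ ^ n) x
    rw [hx, hDD₀, derivative_pow] at h
    funext j
    have hj := congrFun h j
    have hxj := congrFun hx j
    simp only [Pi.add_apply, Pi.smul_apply] at hj hxj ⊢
    simp only [Algebra.smul_def] at hj hxj ⊢
    simp only [CAlg6.LogConn.pole, ← hΘ, Pi.sub_apply, Pi.smul_apply, smul_eq_mul, map_sub, map_mul, φ] at hj hxj ⊢
    rcases n with _ | k
    · simp at hj ⊢; linear_combination -hj
    · simp only [pow_succ, map_mul, map_natCast, Nat.add_sub_cancel] at hj hxj ⊢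
      linear_combination -hj - ((k + 1 : ℕ) : Localization.Away Θ) * algebraMap R[X] (Localization.Away Θ) (derivative Θ) * hxj
  have cancel : ∀ (x y : Fin d → Localization.Away Θ), Θ • x = Θ • y → x = y := fun x y h => funext fun j => by
    have hj := congrFun h j
    simp only [Pi.smul_apply, Algebra.smul_def] at hj
    exact hu.mul_left_cancel hj
  obtain ⟨u, hu'⟩ := hf
  obtain ⟨n, v, hx⟩ := hform f
  induction n generalizing v with
  | zero => exact ⟨v, by simpa using hx⟩
  | succ n ih =>
    have hp : ∀ j, Θ ^ (n + 1) * u j = CAlg6.LogConn.pole θ D₀ (n + 1) v j := fun j => hinj (by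
      have h := congrFun (hcalc _ _ _ hx) j
      rw [hu'] at h
      simp only [Pi.smul_apply, Algebra.smul_def] at h
      rw [map_mul]; exact h)
    have hv : ∀ i, CAlg6.LogConn.evalAt θ i v = 0 := by
      intro i
      have h := CAlg6.LogConn.eval_pole θ D₀ hD₀' Res hRes (n + 1) i v
      have h0 : CAlg6.LogConn.evalAt θ i (CAlg6.LogConn.pole θ D₀ (n + 1) v) = 0 := funext fun j => by
        show eval (θ i) _ = _
        rw [← hp, hΘ, eval_mul, eval_pow, CAlg6.LogConn.eval_theta, zero_pow n.succ_ne_zero, zero_mul]; rfl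
      rw [h0] at h
      have h2 := ((CAlg6.LogConn.isUnit_coefAt θ hθ i).smul_eq_zero).1 h.symm
      exact ((Module.End.isUnit_iff _).1 (hres (n + 1) n.succ_ne_zero i)).1 (h2.trans (map_zero _).symm)
    choose q hq using fun j => (CAlg6.LogConn.dvd_of_eval_eq_zero θ hθ (v j) fun i => congrFun (hv i) j)
    rw [← hΘ] at hq
    refine ih q (cancel _ _ (funext fun j => ?_))
    have h2 := congrFun hx j
    simp only [Pi.smul_apply] at h2 ⊢
    rw [smul_smul, ← pow_succ', h2, Algebra.smul_def, ← map_mul, hq]

end Groth.Agent.S15503
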