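import Groth.Statements.S15505
import Mathlib.FieldTheory.Finite.Basic
import Mathlib.LinearAlgebra.Basis.Defs

set_option autoImplicit false
universe u v w
open FrobAlg

namespace Groth.Agent.S15505

/-- Let k be an algebraically closed field of characteristic p, V a k-vector space, φ a p⁻¹-linear
endomorphism of V (additive, φ(a·v) = a^{1/p}·φ(v)) and b a finite basis of V consisting of vectors
fixed by φ. Then the vectors fixed by φ are exactly the combinations of the b_i with coefficients in
the prime field: v is fixed if and only if v = Σ c_i·b_i with all c_i in the image of ℤ/p. -/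
theorem result (p : ℕ) [Fact p.Prime]
    (k : Type u) [Field k] [CharP k p] [IsAlgClosed k]
    (V : Type v) [AddCommGroup V] [Module k V]
    (φ : V →ₛₗ[((frobeniusEquiv k p).symm : k →+* k)] V)
    {ι : Type w} [Fintype ι] (b : Module.Basis ι k V) (hb : ∀ i, φ (b i) = b i) (v : V) :
    φ v = v ↔ ∃ c : ι → ZMod p, v = ∑ i, (ZMod.castHom (dvd_refl p) k (c i)) • b i := by
  classical
  have hφ : ∀ a : ι → k, φ (∑ i, a i • b i) = ∑ i, ((frobeniusEquiv k p).symm (a i)) • b i := fun a => by
    rw [map_sum]
    exact Finset.sum_congr rfl fun i _ => by rw [map_smulₛₗ, hb]; rfl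
  constructor
  · intro h
    have hfix : ∀ i, b.repr v i ^ p = b.repr v i := fun i => by
      have h2 := h
      rw [← b.sum_repr v, hφ] at h2
      have h3 := congrArg (fun w => b.repr w i) h2
      simp only [b.repr_sum_self] at h3
      calc b.repr v i ^ p = ((frobeniusEquiv k p).symm (b.repr v i)) ^ p := by rw [h3]
        _ = b.repr v i := frobeniusEquiv_symm_pow_p k p _
    have hc : ∀ i, ∃ c : ZMod p, (ZMod.castHom (dvd_refl p) k) c = b.repr v i := fun i => by
      have hmem := (Subfield.mem_bot_iff_pow_eq_self (F := k) (p := p)).2 (hfix i)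
      have hle : (⊥ : Subfield k) ≤ (ZMod.castHom (dvd_refl p) k).fieldRange := bot_le
      exact RingHom.mem_fieldRange.1 (hle hmem)
    choose c hc using hc
    exact ⟨c, by simp only [hc]; exact (b.sum_repr v).symm⟩
  · rintro ⟨c, rfl⟩
    rw [hφ]
    refine Finset.sum_congr rfl fun i _ => congrArg (· • b i) ?_
    rw [RingEquiv.symm_apply_eq, frobeniusEquiv_apply, frobenius_def, ← map_pow, ZMod.pow_card]

end Groth.Agent.S15505
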