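import Groth.Statements.S15506
import Mathlib.RingTheory.Unramified.Finite
import Mathlib.AlgebraicGeometry.Morphisms.Etale
import Mathlib.FieldTheory.IsAlgClosed.Basic

set_option autoImplicit false
set_option backward.isDefEq.respectTransparency.types false
universe u
open CategoryTheory AlgebraicGeometry
open EtBase

namespace Groth.Agent.S15506

/-- Let k be a field, K an algebraic closure of k (an algebraically closed field algebraic over k), Ω a
field containing K, and Z a scheme étale over Spec k. Composition with Spec Ω → Spec K is a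
bijection from the k-morphisms Spec K → Z onto the k-morphisms Spec Ω → Z: two k-morphisms Spec K →
Z that agree on Spec Ω are equal, and every k-morphism Spec Ω → Z factors through Spec K. (The
published statement is the case where k has characteristic zero with a chosen embedding of its
algebraic closure into the complex numbers, Ω = ℂ, and Z is the scheme of isomorphisms between two
K3 surfaces over k, known there to be étale over k; this row states the fact about an arbitrary
étale k-scheme that the argument establishes.) -/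
theorem result
    (k K Ω : Type u) [Field k] [Field K] [Field Ω] [Algebra k K] [IsAlgClosed K] [Algebra.IsAlgebraic k K]
    [Algebra K Ω] [Algebra k Ω] [IsScalarTower k K Ω]
    (Z : Scheme.{u}) (f : Z ⟶ Spec (CommRingCat.of k)) [AlgebraicGeometry.Etale f] :
    (∀ g₁ g₂ : Spec (CommRingCat.of K) ⟶ Z,
        g₁ ≫ f = Spec.map (CommRingCat.ofHom (algebraMap k K)) →
        g₂ ≫ f = Spec.map (CommRingCat.ofHom (algebraMap k K)) →
        Spec.map (CommRingCat.ofHom (algebraMap K Ω)) ≫ g₁ = Spec.map (CommRingCat.ofHom (algebraMap K Ω)) ≫ g₂ →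
        g₁ = g₂) ∧
    (∀ h : Spec (CommRingCat.of Ω) ⟶ Z, h ≫ f = Spec.map (CommRingCat.ofHom (algebraMap k Ω)) →
        ∃ g : Spec (CommRingCat.of K) ⟶ Z, g ≫ f = Spec.map (CommRingCat.ofHom (algebraMap k K)) ∧
          Spec.map (CommRingCat.ofHom (algebraMap K Ω)) ≫ g = h) := by
  let q : Spec (CommRingCat.of Ω) ⟶ Spec (CommRingCat.of K) := Spec.map (CommRingCat.ofHom (algebraMap K Ω))
  refine ⟨fun g₁ g₂ _ _ h => ?_, fun h hh => ?_⟩
  · obtain ⟨B, j, hj, hx, -⟩ := Scheme.exists_affine_mem_range_and_range_subset
      (x := g₁ default) (U := (⊤ : Z.Opens)) trivial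
    have hd : ∀ (w : Spec (CommRingCat.of K)), w = default := fun w => Subsingleton.elim _ _
    have h1 : Set.range g₁ ⊆ Set.range j := by rintro _ ⟨w, rfl⟩; rw [hd w]; exact hx
    have h2 : Set.range g₂ ⊆ Set.range j := by
      rintro _ ⟨w, rfl⟩
      have e : g₁ default = g₂ w := by
        rw [Subsingleton.elim (default : Spec (CommRingCat.of K)) (q default),
          Subsingleton.elim w (q default)]
        exact congrArg (fun t : Spec (CommRingCat.of Ω) ⟶ Z => t default) h
      rw [← e]; exact hx
    let a₁ := IsOpenImmersion.lift j g₁ h1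
    let a₂ := IsOpenImmersion.lift j g₂ h2
    have e : q ≫ a₁ = q ≫ a₂ := by
      rw [← cancel_mono j, Category.assoc, Category.assoc, IsOpenImmersion.lift_fac, IsOpenImmersion.lift_fac]
      exact h
    obtain ⟨φ₁, hφ₁⟩ := Spec.map_surjective a₁
    obtain ⟨φ₂, hφ₂⟩ := Spec.map_surjective a₂
    rw [← IsOpenImmersion.lift_fac j g₁ h1, ← IsOpenImmersion.lift_fac j g₂ h2]
    change a₁ ≫ j = a₂ ≫ j
    rw [← hφ₁, ← hφ₂] at e ⊢
    simp only [q, ← Spec.map_comp, Spec.map_inj] at e
    congr 2
    exact CommRingCat.hom_ext (RingHom.ext fun x => (algebraMap K Ω).injective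
      (congrArg (fun t : B ⟶ CommRingCat.of Ω => t.hom x) e))
  · obtain ⟨B, j, hj, hx, -⟩ := Scheme.exists_affine_mem_range_and_range_subset
      (x := h default) (U := (⊤ : Z.Opens)) trivial
    have hr : Set.range h ⊆ Set.range j := by
      rintro _ ⟨w, rfl⟩; rw [Subsingleton.elim w default]; exact hx
    obtain ⟨φ, hφ⟩ := Spec.map_surjective (IsOpenImmersion.lift j h hr)
    obtain ⟨s, hs⟩ := Spec.map_surjective (j ≫ f)
    have hse : s.hom.Etale := by
      have hc : AlgebraicGeometry.Etale (j ≫ f) := inferInstance
      rw [← hs] at hc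
      exact HasRingHomProperty.Spec_iff.1 hc
    algebraize [s.hom]
    have : Algebra.Etale k B := hse
    have : Module.Finite k B := Algebra.FormallyUnramified.finite_of_free k B
    have hcomm : s ≫ φ = CommRingCat.ofHom (algebraMap k Ω) := by
      apply Spec.map_injective
      rw [Spec.map_comp, hs, hφ, ← Category.assoc, IsOpenImmersion.lift_fac]
      exact hh
    let φ' : B →ₐ[k] Ω :=
      { φ.hom with commutes' := fun c => congrArg (fun t : CommRingCat.of k ⟶ CommRingCat.of Ω => t.hom c) hcomm }
    have hmem : ∀ b, φ' b ∈ (IsScalarTower.toAlgHom k K Ω).range := fun b => by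
      have hi : IsIntegral k (φ' b) := (Algebra.IsIntegral.isIntegral b).map φ'
      have hi' : IsIntegral K (φ' b) := hi.tower_top
      obtain ⟨c, hc⟩ := minpoly.degree_eq_one_iff.1
        (IsAlgClosed.degree_eq_one_of_irreducible K (minpoly.irreducible hi'))
      exact ⟨c, hc⟩
    let e := AlgEquiv.ofInjective (IsScalarTower.toAlgHom k K Ω) (algebraMap K Ω).injective
    let ψ : B →ₐ[k] K := e.symm.toAlgHom.comp (φ'.codRestrict _ hmem)
    have hψ : ∀ b, algebraMap K Ω (ψ b) = φ' b := fun b =>
      congrArg Subtype.val (e.apply_symm_apply (φ'.codRestrict _ hmem b))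
    refine ⟨Spec.map (CommRingCat.ofHom ψ.toRingHom) ≫ j, ?_, ?_⟩
    · rw [Category.assoc, ← hs, ← Spec.map_comp]
      congr 1
      exact CommRingCat.hom_ext (RingHom.ext fun c => ψ.commutes c)
    · rw [← Category.assoc, ← Spec.map_comp,
        show CommRingCat.ofHom ψ.toRingHom ≫ CommRingCat.ofHom (algebraMap K Ω) = φ from
          CommRingCat.hom_ext (RingHom.ext fun b => hψ b), hφ, IsOpenImmersion.lift_fac]

end Groth.Agent.S15506
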