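import Groth.Statements.S15509
import Groth.Agent.S7789
import Groth.Agent.NeronHD28.Torsion
import Groth.Agent.RegUFD52.Basic
import Groth.Agent.AbSch7.Biadd

set_option autoImplicit false
universe u
open CategoryTheory CategoryTheory.Limits MonoidalCategory CartesianMonoidalCategory MonObj AlgebraicGeometry
open AbSch

namespace Groth.Agent.S15509

open Groth.Agent

set_option backward.isDefEq.respectTransparency false

/-- Points over the fraction field of a scheme finite over an integrally closed domain extend. -/
theorem exists_section {R : Type u} [CommRing R] [IsDomain R] [IsIntegrallyClosed R] (P : Scheme.{u})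
    (p : P ⟶ Spec (CommRingCat.of R)) [IsFinite p] (x : Spec (CommRingCat.of (FractionRing R)) ⟶ P)
    (hx : x ≫ p = Spec.map (CommRingCat.ofHom (algebraMap R (FractionRing R)))) :
    ∃ σ : Spec (CommRingCat.of R) ⟶ P, σ ≫ p = 𝟙 _ ∧
      Spec.map (CommRingCat.ofHom (algebraMap R (FractionRing R))) ≫ σ = x := by
  have : IsAffine P := isAffine_of_isAffineHom p
  let e := P.isoSpec
  obtain ⟨φ, hφ⟩ := Spec.map_surjective (e.inv ≫ p)
  obtain ⟨ψ, hψ⟩ := Spec.map_surjective (x ≫ e.hom)
  have hfin : φ.hom.Finite := by
    have : IsFinite (Spec.map φ) := by rw [hφ]; infer_instance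
    exact (IsFinite.SpecMap_iff φ).mp this
  have hcomp : φ ≫ ψ = CommRingCat.ofHom (algebraMap R (FractionRing R)) := by
    apply Spec.map_injective
    rw [Spec.map_comp, hφ, hψ, Category.assoc, Iso.hom_inv_id_assoc, hx]
  have hmem : ∀ b, ψ.hom b ∈ (algebraMap R (FractionRing R)).range := by
    intro b
    obtain ⟨q, hq, hqb⟩ := hfin.to_isIntegral b
    refine IsIntegrallyClosed.algebraMap_eq_of_integral ⟨q, hq, ?_⟩
    rw [show algebraMap R (FractionRing R) = ψ.hom.comp φ.hom from
      congrArg CommRingCat.Hom.hom hcomp.symm, ← Polynomial.hom_eval₂, hqb, map_zero]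
  let eR : R ≃+* (algebraMap R (FractionRing R)).range :=
    RingEquiv.ofBijective (algebraMap R (FractionRing R)).rangeRestrict
      ⟨fun a b h => IsFractionRing.injective R (FractionRing R) (congrArg Subtype.val h),
        RingHom.rangeRestrict_surjective _⟩
  let s : Γ(P, ⊤) →+* R := eR.symm.toRingHom.comp (ψ.hom.codRestrict _ hmem)
  have hs : ∀ b, algebraMap R (FractionRing R) (s b) = ψ.hom b := fun b =>
    congrArg Subtype.val (eR.apply_symm_apply ⟨ψ.hom b, hmem b⟩)
  refine ⟨Spec.map (CommRingCat.ofHom s) ≫ e.inv, ?_, ?_⟩
  · rw [Category.assoc, ← hφ, ← Spec.map_comp, ← Spec.map_id]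
    congr 1
    ext r
    apply IsFractionRing.injective R (FractionRing R)
    exact (hs (φ.hom r)).trans (congrArg (fun m => m.hom r) hcomp)
  · rw [← Category.assoc, ← Spec.map_comp]
    rw [show CommRingCat.ofHom s ≫ CommRingCat.ofHom (algebraMap R (FractionRing R)) = ψ from
      CommRingCat.hom_ext (RingHom.ext hs), hψ, Category.assoc, Iso.hom_inv_id, Category.comp_id]

/-- Let R be a regular local ring which is a domain and contains the rational numbers, with fraction
field K and residue field k, and let A be an abelian scheme over Spec R of relative dimension g (a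
commutative group scheme which is smooth and proper with geometrically connected fibres of dimension
g). Then for every integer m ≥ 1 the number of K-valued points of A over Spec R killed by m is at
most the number of k-valued points of A over Spec R killed by m: the m-torsion of the rational
points of the generic fibre is no larger than the m-torsion of the rational points of the closed
fibre. (The published statement is for an arbitrary Noetherian regular local ring R inside a paper
whose standing setting is schemes over the complex numbers; this row keeps from that setting only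
that R contains the rationals, which is what the printed argument uses to make the m-torsion
subgroup scheme étale over the base.) -/
theorem result
    (R : Type u) [CommRing R] [IsDomain R] [IsRegularLocalRing R] [Algebra ℚ R]
    (A : Over (Spec (CommRingCat.of R))) [GrpObj A] [IsCommMonObj A] (g : ℕ) (hA : AgPol.IsAbSch A g)
    (m : ℕ) (hm : 1 ≤ m) :
    Nat.card (AbDual.torsPts A m (Over.mk (Spec.map (CommRingCat.ofHom (algebraMap R (FractionRing R)))))) ≤
      Nat.card (AbDual.torsPts A m (Over.mk (Spec.map (CommRingCat.ofHom (IsLocalRing.residue R))))) := by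
  have := hA.smooth; have := hA.proper; have := hA.geomConnected
  have := AbSch7.geometricallyReduced_of_smooth A.hom
  have := RegUFD52.ufm_of_regular R
  have hm0 : IsUnit ((m : ℤ) : Γ(Spec (CommRingCat.of R), ⊤)) := by
    have h : IsUnit (m : R) := by
      rw [← map_natCast (algebraMap ℚ R)]
      exact (Ne.isUnit (by exact_mod_cast Nat.one_le_iff_ne_zero.mp hm)).map _
    have := h.map (Scheme.ΓSpecIso (CommRingCat.of R)).inv.hom
    rwa [map_natCast, ← Int.cast_natCast] at this
  obtain ⟨hf1, hf2⟩ := S7789.result A (m : ℤ) hm0
  rw [zpow_natCast] at hf1 hf2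
  let f := ((𝟙 A : A ⟶ A) ^ m).left
  let P : Scheme.{u} := pullback f η[A].left
  let p : P ⟶ Spec (CommRingCat.of R) := pullback.snd f η[A].left
  have : IsFinite f := hf1
  have : Etale f := hf2
  have : IsFinite p := inferInstanceAs (IsFinite (pullback.snd f η[A].left))
  have : Etale p := inferInstanceAs (Etale (pullback.snd f η[A].left))
  have hpow : ∀ {T : Over (Spec (CommRingCat.of R))} (x : T ⟶ A), x ^ m = 1 → x.left ≫ f = T.hom ≫ η[A].left := by
    intro T x h
    have h1 : x ≫ ((𝟙 A : A ⟶ A) ^ m) = x ^ m := by rw [MonObj.comp_pow, Category.comp_id]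
    rw [← h1] at h
    exact (congrArg Over.Hom.left h).trans (NeronHD28.one_left T A)
  have hp : pullback.fst f η[A].left ≫ A.hom = p := by
    have hf : f ≫ A.hom = A.hom := Over.w _
    calc pullback.fst f η[A].left ≫ A.hom = (pullback.fst f η[A].left ≫ f) ≫ A.hom := by rw [Category.assoc, hf]
      _ = p ≫ η[A].left ≫ A.hom := by rw [pullback.condition, Category.assoc]
      _ = p := by erw [Over.w η[A]]; exact Category.comp_id _
  let TK : Over (Spec (CommRingCat.of R)) := Over.mk (Spec.map (CommRingCat.ofHom (algebraMap R (FractionRing R))))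
  let Tk : Over (Spec (CommRingCat.of R)) := Over.mk (NeronHD28.closedPt R)
  let lk : ∀ (T : Over (Spec (CommRingCat.of R))), AbDual.torsPts A m T → (T.left ⟶ P) := fun T x =>
    pullback.lift x.1.left T.hom (hpow x.1 x.2)
  have hlk : ∀ (T : Over (Spec (CommRingCat.of R))) (x : AbDual.torsPts A m T), lk T x ≫ p = T.hom :=
    fun T x => pullback.lift_snd _ _ _
  have hinj : ∀ (T : Over (Spec (CommRingCat.of R))), Function.Injective (lk T) := by
    intro T x y h
    apply Subtype.ext
    ext : 1
    simpa [lk] using h =≫ pullback.fst f η[A].left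
  have : Finite (AbDual.torsPts A m Tk) := by
    have hfin : Finite ↥(p ⁻¹' {IsLocalRing.closedPoint R}) := (p.finite_preimage_singleton _).to_subtype
    let c0 : Spec (CommRingCat.of (IsLocalRing.ResidueField R)) := IsLocalRing.closedPoint _
    refine Finite.of_injective (fun x => (⟨(lk Tk x).base c0, ?_⟩ : ↥(p ⁻¹' {IsLocalRing.closedPoint R}))) ?_
    · show p ((lk Tk x).base c0) = _
      rw [← Scheme.Hom.comp_apply, hlk]
      exact NeronHD28.closedPt_apply c0
    · intro x y h
      refine hinj _ (NeronHD28.ext_of_point_eq p (hlk Tk x) (hlk Tk y) fun c => ?_)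
      rw [Subsingleton.elim c c0]
      exact congrArg Subtype.val h
  choose σ hσp hσx using fun x : AbDual.torsPts A m TK => exists_section P p (lk TK x) (hlk TK x)
  have htors : ∀ x, ∃ y : AbDual.torsPts A m Tk, lk Tk y = NeronHD28.closedPt R ≫ σ x := by
    intro x
    let y : Tk ⟶ A := Over.homMk (NeronHD28.closedPt R ≫ σ x ≫ pullback.fst f η[A].left) (by
      rw [Category.assoc, Category.assoc, hp, hσp]; exact Category.comp_id _)
    have hy : y ∈ AbDual.torsPts A m Tk := by
      rw [AbDual.mem_torsPts, show y ^ m = y ≫ ((𝟙 A : A ⟶ A) ^ m) from by rw [MonObj.comp_pow, Category.comp_id]]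
      ext : 1
      refine Eq.trans ?_ (NeronHD28.one_left Tk A).symm
      show (NeronHD28.closedPt R ≫ σ x ≫ pullback.fst f η[A].left) ≫ f = _
      rw [Category.assoc, Category.assoc, pullback.condition, reassoc_of% hσp]
      rfl
    refine ⟨⟨y, hy⟩, ?_⟩
    apply pullback.hom_ext
    · simp [lk, y]
    · rw [hlk, Category.assoc, hσp, Category.comp_id]; rfl
  choose Θ hΘ using htors
  refine Nat.card_le_card_of_injective Θ fun x y h => hinj _ ?_
  have he := NeronHD28.section_unique_of_unramified p (σ x) (σ y) (hσp x) (hσp y) (by rw [← hΘ, ← hΘ, h])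
  rw [← hσx x, ← hσx y, he]

end Groth.Agent.S15509
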