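import Groth.Statements.S1664
import Groth.Agent.Crv77.PointTwist
import Groth.Agent.Amp73.Ample
-- import your own Groth.Agent.* helpers here

set_option autoImplicit false
universe u
open CategoryTheory CategoryTheory.Limits AlgebraicGeometry
open Variety

namespace Groth.Agent.S1664

/-- Let X be quasi-compact. Suppose every point of X lies in the locus where some global section s of
some globally generated invertible module L generates L, with that locus affine. Then X has an ample
invertible module. -/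
theorem result (X : Scheme.{u}) [CompactSpace X]
    (h : ∀ x : X, ∃ (L : X.Modules) (s : Coh.structureModule X ⟶ L), PicF.IsInvertible L ∧ Curv2.IsGloballyGenerated L ∧
      x ∈ CohB1.genLocus L s ∧ IsAffineOpen (CohB1.genLocus L s)) :
    ∃ M : X.Modules, CohB1.IsAmple M := by
  classical
  choose L s hL hgg hx haff using h
  have hsec : ∀ (a : X) (x : X), ∃ t, x ∈ CohB1.genLocus (L a) t := fun a x => by
    obtain ⟨y, hy, hxy⟩ := Groth.Agent.Crv77.exists_isClosed_specializes x
    obtain ⟨t, ht⟩ := Groth.Agent.Crv77.exists_gen_of_isGloballyGenerated (hL a) (hgg a) hy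
    exact ⟨_, hxy.mem_open (CohB1.genLocus (L a) _).2 ht⟩
  have key : ∀ S : Finset X, ∃ M : X.Modules, PicF.IsInvertible M ∧
      (∀ x, ∃ t, x ∈ CohB1.genLocus M t) ∧
      ∀ a ∈ S, ∀ x ∈ CohB1.genLocus (L a) (s a),
        ∃ t, x ∈ CohB1.genLocus M t ∧ IsAffineOpen (CohB1.genLocus M t) := by
    intro S
    induction S using Finset.induction with
    | empty =>
      exact ⟨_, Groth.Agent.EGA73.isInvertible_structureModule, fun x => ⟨𝟙 _, by rw [Groth.Agent.Amp73.genLocus_id]; trivial⟩,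
        fun a ha => absurd ha (Finset.notMem_empty a)⟩
    | insert b S _ ih =>
      obtain ⟨M, hM, hMs, hMS⟩ := ih
      refine ⟨CohB1.tensorMod M (L b), Groth.Agent.EGA73.isInvertible_tensorMod hM (hL b), fun x => ?_, fun a ha x hxa => ?_⟩
      · obtain ⟨t, ht⟩ := hMs x
        obtain ⟨t', ht'⟩ := hsec b x
        exact ⟨_, (Groth.Agent.Amp73.genLocus_tmulHom hM (hL b) t t').ge ⟨ht, ht'⟩⟩
      · rcases Finset.mem_insert.1 ha with rfl | ha
        · obtain ⟨t, ht⟩ := hMs x
          refine ⟨_, (Groth.Agent.Amp73.genLocus_tmulHom hM (hL a) t (s a)).ge ⟨ht, hxa⟩, ?_⟩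
          rw [Groth.Agent.Amp73.genLocus_tmulHom hM (hL a)]
          exact Groth.Agent.Amp73.isAffineOpen_genLocus_inf hM t (haff a)
        · obtain ⟨t, ht, htaff⟩ := hMS a ha x hxa
          obtain ⟨t', ht'⟩ := hsec b x
          refine ⟨_, (Groth.Agent.Amp73.genLocus_tmulHom hM (hL b) t t').ge ⟨ht, ht'⟩, ?_⟩
          rw [Groth.Agent.Amp73.genLocus_tmulHom hM (hL b), inf_comm]
          exact Groth.Agent.Amp73.isAffineOpen_genLocus_inf (hL b) t' htaff
  obtain ⟨S, hS⟩ := isCompact_univ.elim_finite_subcover (fun a => (CohB1.genLocus (L a) (s a) : Set X))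
    (fun a => (CohB1.genLocus (L a) (s a)).2) (fun x _ => Set.mem_iUnion.2 ⟨x, hx x⟩)
  obtain ⟨M, hM, -, hMS⟩ := key S
  refine ⟨M, hM, inferInstance, fun x => ⟨0, ?_⟩⟩
  obtain ⟨a, ha, hxa⟩ := Set.mem_iUnion₂.1 (hS (Set.mem_univ x))
  obtain ⟨t, ht, htaff⟩ := hMS a ha x hxa
  refine ⟨t ≫ (Groth.Agent.Amp73.powOne M).inv, ?_⟩
  rw [Groth.Agent.Amp73.genLocus_comp_iso]
  exact ⟨ht, htaff⟩

end Groth.Agent.S1664
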