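import Groth.Statements.S1551
import Groth.Agent.Lift75.Ample
import Groth.Agent.S1664
-- import your own Groth.Agent.* helpers here

set_option autoImplicit false
universe u
open CategoryTheory CategoryTheory.Limits AlgebraicGeometry
open Variety

namespace Groth.Agent.S1551

/-- A Noetherian separated scheme of dimension one has an ample invertible module. -/
theorem result (X : Scheme.{u}) [IsNoetherian X] [X.IsSeparated]
    (hdim : topologicalKrullDim X = 1) : ∃ L : X.Modules, CohB1.IsAmple L := by
  refine Groth.Agent.S1664.result X fun x => ?_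
  obtain ⟨U, hU, hxU, hmax⟩ := Groth.Agent.Lift75.Ample1.exists_affine_max x
  obtain ⟨L, s, hL, hgg, hs⟩ := Groth.Agent.Lift75.Ample1.exists_gg hdim.le hU hmax
  exact ⟨L, s, hL, hgg, hs.symm ▸ hxU, hs.symm ▸ hU⟩

end Groth.Agent.S1551
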