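import Groth.Statements.S15512
import Groth.Agent.S5165
import Groth.Agent.EGA4Alg4.RegCompletion

set_option autoImplicit false
universe u
open CategoryTheory
open CAlg

open Abelian in
theorem Groth.Agent.S15512.step (A : Type u) [CommRing A] [IsNoetherianRing A] : ∀ (j : ℕ)
    (M : Type u) [AddCommGroup M] [Module A M] [Module.Finite A M],
    HasProjectiveDimensionLT (ModuleCat.of A M) (j + 2) →
    Subsingleton (Ext (ModuleCat.of A M) (ModuleCat.of A A) (j + 1)) →
    HasProjectiveDimensionLT (ModuleCat.of A M) (j + 1) := by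
  intro j
  induction j with
  | zero =>
    intro M _ _ _ hpd hext
    obtain ⟨n, π, hπ⟩ := Module.Finite.exists_fin' A M
    let S := ShortComplex.mk (ModuleCat.ofHom (LinearMap.ker π).subtype) (ModuleCat.ofHom π)
      (by ext x; exact x.2)
    have hS : S.ShortExact :=
      { exact := (ShortComplex.moduleCat_exact_iff_range_eq_ker S).2 (Submodule.range_subtype _)
        mono_f := (ModuleCat.mono_iff_injective _).2 (Submodule.injective_subtype _)
        epi_g := (ModuleCat.epi_iff_surjective _).2 hπ }
    haveI : Projective S.X₂ := (IsProjective.iff_projective (R := A) (Fin n → A)).1 inferInstance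
    haveI : HasProjectiveDimensionLT S.X₁ 1 := (hS.hasProjectiveDimensionLT_X₃_iff 0 inferInstance).1 hpd
    haveI : Projective S.X₁ := projective_iff_hasProjectiveDimensionLT_one.2 inferInstance
    haveI : Module.Projective A (LinearMap.ker π) :=
      (IsProjective.iff_projective (R := A) (LinearMap.ker π)).2 this
    obtain ⟨m, p, ι, -, -, hpι⟩ := Module.Finite.exists_comp_eq_id_of_projective A (LinearMap.ker π)
    let φ : (S.X₁ ⟶ S.X₁) →+ Ext S.X₃ S.X₁ 1 :=
      AddMonoidHom.mk' (fun g => hS.extClass.comp (Ext.mk₀ g) (add_zero 1))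
        (fun a b => by rw [Ext.mk₀_add, Ext.comp_add])
    have hid : 𝟙 S.X₁ = ∑ k : Fin m,
        ModuleCat.ofHom ((LinearMap.proj k).comp ι) ≫
          ModuleCat.ofHom (p.comp (LinearMap.single A (fun _ : Fin m => A) k)) := by
      refine ModuleCat.hom_ext (LinearMap.ext fun x => ?_)
      simp only [ModuleCat.hom_sum, ModuleCat.hom_id, LinearMap.id_apply, LinearMap.coe_sum,
        Finset.sum_apply, ModuleCat.hom_comp, ModuleCat.hom_ofHom, LinearMap.comp_apply]
      rw [← map_sum]
      exact (LinearMap.congr_fun hpι x).symm.trans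
        (congrArg p (Finset.univ_sum_single (ι x)).symm)
    have hzero : hS.extClass = 0 := by
      have h1 : φ (𝟙 S.X₁) = 0 := by
        rw [hid, map_sum]
        refine Finset.sum_eq_zero fun k _ => ?_
        show hS.extClass.comp (Ext.mk₀ (_ ≫ _)) (add_zero 1) = 0
        rw [← Ext.mk₀_comp_mk₀, ← Ext.comp_assoc_of_second_deg_zero, Subsingleton.elim
          (hS.extClass.comp (Ext.mk₀ (ModuleCat.ofHom ((LinearMap.proj k).comp ι))) (add_zero 1)) 0,
          Ext.zero_comp]
      exact (Ext.comp_mk₀_id hS.extClass).symm.trans h1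
    obtain ⟨x₂, hx₂⟩ := Ext.contravariant_sequence_exact₁ hS S.X₁ (Ext.mk₀ (𝟙 S.X₁)) (rfl : 1 + 0 = 1)
      (by rw [hzero, Ext.zero_comp])
    obtain ⟨r, rfl⟩ := Ext.homEquiv₀.symm.surjective x₂
    rw [Ext.homEquiv₀_symm_apply, Ext.mk₀_comp_mk₀] at hx₂
    have hr : S.f ≫ r = 𝟙 S.X₁ := Ext.homEquiv₀.symm.injective hx₂
    obtain ⟨s, hs⟩ := ((Function.Exact.split_tfae (LinearMap.exact_subtype_ker_map π)
      (Submodule.injective_subtype _) hπ).out 0 1 :
      (∃ l, π ∘ₗ l = LinearMap.id) ↔ (∃ l, l ∘ₗ (LinearMap.ker π).subtype = LinearMap.id)).mpr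
      ⟨r.hom, congrArg ModuleCat.Hom.hom hr⟩
    haveI : Module.Projective A M := Module.Projective.of_split s π hs
    haveI : Projective (ModuleCat.of A M) := (IsProjective.iff_projective (R := A) M).1 inferInstance
    exact projective_iff_hasProjectiveDimensionLT_one.1 inferInstance
  | succ j ih =>
    intro M _ _ _ hpd hext
    obtain ⟨n, π, hπ⟩ := Module.Finite.exists_fin' A M
    let S := ShortComplex.mk (ModuleCat.ofHom (LinearMap.ker π).subtype) (ModuleCat.ofHom π)
      (by ext x; exact x.2)
    have hS : S.ShortExact :=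
      { exact := (ShortComplex.moduleCat_exact_iff_range_eq_ker S).2 (Submodule.range_subtype _)
        mono_f := (ModuleCat.mono_iff_injective _).2 (Submodule.injective_subtype _)
        epi_g := (ModuleCat.epi_iff_surjective _).2 hπ }
    haveI : Projective S.X₂ := (IsProjective.iff_projective (R := A) (Fin n → A)).1 inferInstance
    refine (hS.hasProjectiveDimensionLT_X₃_iff j inferInstance).2 (ih (LinearMap.ker π)
      ((hS.hasProjectiveDimensionLT_X₃_iff (j + 1) inferInstance).1 hpd) ?_)
    refine subsingleton_of_forall_eq 0 fun x => ?_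
    obtain ⟨x₂, rfl⟩ := Ext.contravariant_sequence_exact₁ hS (ModuleCat.of A A) x
      (show 1 + (j + 1) = j + 1 + 1 by omega) (Subsingleton.elim (α := Ext (ModuleCat.of A M) _ _) _ _)
    rw [Ext.eq_zero_of_projective x₂, Ext.comp_zero]

open Abelian in
theorem Groth.Agent.S15512.main (A : Type u) [CommRing A] [IsNoetherianRing A]
    (M : Type u) [AddCommGroup M] [Module A M] [Module.Finite A M] (d : ℕ)
    (h : ∀ i : ℕ, d < i → Subsingleton (Ext (ModuleCat.of A M) (ModuleCat.of A A) i)) :
    ∀ D, HasProjectiveDimensionLT (ModuleCat.of A M) D →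
      HasProjectiveDimensionLT (ModuleCat.of A M) (d + 1) := by
  intro D
  induction D with
  | zero => intro _; exact hasProjectiveDimensionLT_of_ge _ 0 _ (Nat.zero_le _)
  | succ D ih =>
    intro hD
    by_cases hle : D ≤ d
    · exact hasProjectiveDimensionLT_of_ge _ (D + 1) _ (by omega)
    · obtain ⟨j, rfl⟩ : ∃ j, D = j + 1 := Nat.exists_eq_succ_of_ne_zero (by omega)
      exact ih (Groth.Agent.S15512.step A j M hD (h _ (by omega)))

namespace Groth.Agent.S15512

/-- Let A be a Noetherian ring which is regular (its localization at every maximal ideal is a regular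
local ring) and of finite Krull dimension, M a finitely generated A-module and d a natural number.
If Ext^i_A(M, A) vanishes for every i > d, then the projective dimension of M is at most d. -/
theorem result (A : Type u) [CommRing A]
    [IsNoetherianRing A] (hreg : ∀ m : MaximalSpectrum A, IsRegularLocalRing (Localization.AtPrime m.asIdeal))
    (hdim : ringKrullDim A < ⊤) (M : Type u) [AddCommGroup M] [Module A M] [Module.Finite A M] (d : ℕ)
    (h : ∀ i : ℕ, d < i → Subsingleton (Abelian.Ext (ModuleCat.of A M) (ModuleCat.of A A) i)) :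
    HasProjectiveDimensionLT (ModuleCat.of A M) (d + 1) := by
  haveI : IsRegularRing A := EGA4Alg4.RegCompletion13.isRegularRing_of_isMaximal
    fun m hm => hreg ⟨m, hm⟩
  obtain ⟨D, hD⟩ := S5165.result A M
  exact main A M d h (D + 1) hD

end Groth.Agent.S15512
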