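import Groth.Statements.S1552
import Groth.Agent.Curves2.Glue.Descend

set_option autoImplicit false
universe u
open CategoryTheory CategoryTheory.Limits AlgebraicGeometry
open Variety

namespace Groth.Agent.S1552
open TopologicalSpace Groth.Agent.Var76.LineBundle

set_option backward.isDefEq.respectTransparency false in
theorem bijective_app_of_isIso {X Y : Scheme.{u}} (f : X ⟶ Y) (V : Y.Opens) (hV : IsIso (f ∣_ V))
    {O : Y.Opens} (hO : O ≤ V) : Function.Bijective (f.app O) := by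
  have h1 : IsIso ((f ∣_ V).app (V.ι ⁻¹ᵁ O)) := inferInstance
  rw [morphismRestrict_app] at h1
  have h2 : IsIso (f.app (V.ι ''ᵁ (V.ι ⁻¹ᵁ O))) := by
    exact (isIso_comp_right_iff _ _).1 h1
  have e : V.ι ''ᵁ (V.ι ⁻¹ᵁ O) = O := by
    rw [Scheme.Hom.image_preimage_eq_opensRange_inf, Scheme.Opens.opensRange_ι, inf_eq_right.2 hO]
  rw [e] at h2
  exact ConcreteCategory.bijective_of_isIso (f.app O)

theorem exists_preimage_eq {X Y : Scheme.{u}} (f : X ⟶ Y) (V : Y.Opens) (hV : IsIso (f ∣_ V))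
    {O : Y.Opens} (hO : O ≤ V) {T : X.Opens} (hT : T ≤ f ⁻¹ᵁ O) : ∃ O' : Y.Opens, O' ≤ O ∧ f ⁻¹ᵁ O' = T := by
  let g := (f ∣_ V) ≫ V.ι
  have hg : ∀ z, g z = f z.1 := fun z => by
    show ((f ∣_ V) ≫ V.ι) z = _
    rw [morphismRestrict_ι]
    rfl
  refine ⟨g ''ᵁ ((f ⁻¹ᵁ V).ι ⁻¹ᵁ T), ?_, Opens.ext (Set.ext fun z => ⟨?_, fun hz => ?_⟩)⟩
  · rintro _ ⟨z, hz, rfl⟩
    exact (hg z).symm ▸ hT hz
  · rintro ⟨w, hw, hwz⟩
    have hz : z ∈ f ⁻¹ᵁ V := by
      show f z ∈ V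
      rw [← hwz]
      exact (hg w).symm ▸ hO (hT hw)
    have h := g.isOpenEmbedding.injective (show g w = g ⟨z, hz⟩ from hwz.trans (hg ⟨z, hz⟩).symm)
    have h' : w.1 = z := congrArg Subtype.val h
    exact (show w.1 ∈ T from hw) |> fun h2 => h' ▸ h2
  · exact ⟨⟨z, hO (hT hz)⟩, hz, hg _⟩


/-- Let f : X → Y be finite, and V ⊆ Y an open over which f is an isomorphism, with Y minus V a discrete
space. Then every invertible O_X-module is isomorphic to the pullback of an invertible O_Y-module. -/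
theorem result {X Y : Scheme.{u}} (f : X ⟶ Y) [IsFinite f]
    (V : Y.Opens) (hV : IsIso (f ∣_ V)) (hdisc : DiscreteTopology ((V : Set Y)ᶜ : Set Y))
    (L : X.Modules) (hL : PicF.IsInvertible L) :
    ∃ N : Y.Modules, PicF.IsInvertible N ∧ Nonempty ((Scheme.Modules.pullback f).obj N ≅ L) := by
  obtain ⟨hbij, hpre⟩ : (∀ O : Y.Opens, O ≤ V → Function.Bijective (f.app O)) ∧
      ∀ O : Y.Opens, O ≤ V → ∀ T : X.Opens, T ≤ f ⁻¹ᵁ O → ∃ O' : Y.Opens, O' ≤ O ∧ f ⁻¹ᵁ O' = T :=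
    ⟨fun O hO => bijective_app_of_isIso f V hV hO, fun O hO T hT => exists_preimage_eq f V hV hO hT⟩
  have hO : ∀ i : {y : Y // y ∉ V}, ∃ O : Y.Opens, i.1 ∈ O ∧ ∀ z ∈ O, z ∉ V → z = i.1 := fun i => by
    obtain ⟨O, hO, hOi⟩ := isOpen_induced_iff.1 (isOpen_discrete ({⟨i.1, i.2⟩} : Set ↥((V : Set Y)ᶜ)))
    refine ⟨⟨O, hO⟩, ?_, fun z hz hzV => ?_⟩
    · have h1 : (⟨i.1, i.2⟩ : ↥((V : Set Y)ᶜ)) ∈ Subtype.val ⁻¹' O := by rw [hOi]; exact rfl
      exact h1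
    · have h1 : (⟨z, hzV⟩ : ↥((V : Set Y)ᶜ)) ∈ Subtype.val ⁻¹' O := hz
      rw [hOi] at h1
      exact congrArg Subtype.val h1
  choose O hiO hOiso using hO
  choose W hW hWO hiW l hl using fun i => Curves2.Glue.exists_nhd_frame_finite f hL i.1 (O i) (hiO i)
  refine Curves2.Glue.exists_descent f L V ((Scheme.Modules.pushforward f).obj L) (fun y hy => ?_)
    (fun _ _ m => m) (fun _ _ _ _ _ _ => rfl) (fun _ _ _ _ => rfl) (fun O hO m hm T hT => ?_) W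
    (fun i j hij z hz => ?_) (fun y => ?_) (fun i => res L (f.preimage_mono inf_le_left) (l i))
    (fun i W' hW' => ?_) l hl (fun i => rfl)
  · obtain ⟨W', -, hW'V, hyW', m, hm⟩ := Curves2.Glue.exists_nhd_frame_finite f hL y V hy
    exact ⟨W', hW'V, hyW', m, fun T hT =>
      (hm (f ⁻¹ᵁ T) (f.preimage_mono hT)).comp (hbij T (hT.trans hW'V))⟩
  · obtain ⟨T', hT', rfl⟩ := hpre O hO T hT
    exact (Function.Bijective.of_comp_iff _ (hbij T' (hT'.trans hO))).1 (hm T' hT')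
  · by_contra hzV
    exact hij (Subtype.ext ((hOiso i z (hWO i hz.1) hzV).symm.trans (hOiso j z (hWO j hz.2) hzV)))
  · exact or_iff_not_imp_left.2 fun hy => ⟨⟨y, hy⟩, hiW _⟩
  · exact ((hl i).res (f.preimage_mono inf_le_left) (f ⁻¹ᵁ W') (f.preimage_mono hW')).comp
      (hbij W' (hW'.trans inf_le_right))

end Groth.Agent.S1552
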