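import Groth.Statements.S15522
import Groth.Agent.Mum71.FibreLin
import Groth.Agent.Mum71.Exch
import Groth.Agent.S2381
import Groth.Agent.S2406

set_option autoImplicit false
set_option synthInstance.maxHeartbeats 200000
set_option linter.style.haveILetI false
universe u
attribute [local instance] HasDerivedCategory.standard
open Coherent

namespace Groth.Agent.S15522

open AlgebraicGeometry CategoryTheory in
/-- Let A be a reduced Noetherian ring, X a proper scheme over Spec A with structure morphism f, F a
coherent O_X-module flat over Spec A, and p a natural number such that the function y ↦ dim_{κ(y)}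
H^p(X_y, F_y) is locally constant on Spec A. For each q write T^q for the functor M ↦ H^q(X, f^*(M~)
⊗ F) from A-modules to abelian groups. Then T^p takes surjections to surjections, and so does
T^(p-1) when p ≥ 1; equivalently, every base-change map H^q(X, F) ⊗_A M → H^q(X, F ⊗_A M) is
bijective for q = p and q = p - 1. (The published statement also asserts that R^p f_*F is locally
free of finite rank; this row states the two exchange properties only, over an affine base.) -/
theorem result (A : Type u) [CommRing A]
    [IsNoetherianRing A] [IsReduced A] (X : Scheme.{u}) [X.Over (Spec (CommRingCat.of A))]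
    [IsProper (X ↘ Spec (CommRingCat.of A))] (F : X.Modules) (hF : Coh.IsCoh F)
    (hfl : FlatMod.IsFlatOver (X ↘ Spec (CommRingCat.of A)) F) (p : ℕ)
    (hconst : IsLocallyConstant (CohIII.fiberRank (X ↘ Spec (CommRingCat.of A)) F p)) :
    (CohIII.tensorAFunctor A F ⋙ CohIII.HAb X p).PreservesEpimorphisms ∧
      ∀ q : ℕ, q + 1 = p → (CohIII.tensorAFunctor A F ⋙ CohIII.HAb X q).PreservesEpimorphisms := by
  haveI := hF.1
  obtain ⟨ι, hι, U, L, φ, N, hU, hU', hL, hN, hφ⟩ := Mum71.exists_model A F hF hfl
  have hP : ∀ i, Module.Finite A ((Mum71.toChain L).X i) ∧ Module.Flat A ((Mum71.toChain L).X i) := fun i =>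
    ⟨(hL _).1, haveI : Module.Free A ((Mum71.toChain L).X i) := (hL _).2; inferInstance⟩
  have hc : IsLocallyConstant (CohIII.dRank (Mum71.toChain L) (-(p : ℤ))) := by
    have h : (CohIII.fiberRank (X ↘ Spec (CommRingCat.of A)) F p : PrimeSpectrum A → ℕ) =
        CohIII.dRank (Mum71.toChain L) (-(p : ℤ)) := funext fun y => Mum71.fiberRank_eq_dRank hU hU' hφ p y
    exact h ▸ hconst
  obtain ⟨hm, he⟩ := (S2381.result _ hP (-(p : ℤ))).2 inferInstance hc
  have iso : ∀ q : ℕ, Nonempty (CohIII.TFun (Mum71.toChain L) (-(q : ℤ)) ⋙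
      forget₂ (ModuleCat.{u} A) AddCommGrpCat.{u} ≅ CohIII.tensorAFunctor A F ⋙ CohIII.HAb X q) := fun q => by
    obtain ⟨e₁⟩ := Mum71.nonempty_natIso F hU hU' hφ q
    obtain ⟨e₂⟩ := Mum71.nonempty_TFun_toChain L (q : ℤ)
    exact ⟨Functor.isoWhiskerRight e₂ _ ≪≫ e₁⟩
  refine ⟨(Mum71.preservesEpi_iff (iso p).some).1 he, fun q hq => (Mum71.preservesEpi_iff (iso q).some).1 ?_⟩
  exact (S2406.result _ (fun i => (hP i).2) _ _ (by omega)).2 hm

end Groth.Agent.S15522
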