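import Groth.Statements.S15524
import Mathlib

set_option autoImplicit false
open Finset
open Zeta

noncomputable section
namespace Groth.Agent.S15524.AuxS24
open Filter Topology
lemma norm_le_one {ι : Type*} [Fintype ι] (β : ι → ℂ) (C : ℝ)
    (h : ∀ N : ℕ, 1 ≤ N → ‖∑ i, β i ^ N‖ ≤ C) (i : ι) : ‖β i‖ ≤ 1 := by
  classical
  obtain ⟨i0, hi0⟩ : ∃ i0, ∀ j, ‖β j‖ ≤ ‖β i0‖ := by
    haveI : Nonempty ι := ⟨i⟩
    exact Finite.exists_max (fun j => ‖β j‖)
  refine (hi0 i).trans ?_
  by_contra hr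
  push Not at hr
  set r := ‖β i0‖
  have hr0 : 0 < r := by linarith
  let γ : ι → ℂ := fun j => β j / r
  have hγ : ∀ j, ‖γ j‖ ≤ 1 := fun j => by
    simp only [γ, norm_div, Complex.norm_real, Real.norm_eq_abs, abs_of_pos hr0]
    exact div_le_one_of_le₀ (hi0 j) hr0.le
  have hγ0 : ‖γ i0‖ = 1 := by
    simp only [γ, norm_div, Complex.norm_real, Real.norm_eq_abs, abs_of_pos hr0]; exact div_self hr0.ne'
  have hsum : Tendsto (fun N => ∑ j, γ j ^ N) atTop (𝓝 0) := by
    apply squeeze_zero_norm' (a := fun N => C * (1/r)^N)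
    · filter_upwards [eventually_ge_atTop 1] with N hN
      simp only [γ, div_pow, ← Finset.sum_div, norm_div, norm_pow, Complex.norm_real, Real.norm_eq_abs, abs_of_pos hr0]
      rw [one_pow, mul_one_div]
      gcongr
      exact h N hN
    · simpa using (tendsto_pow_atTop_nhds_zero_of_lt_one (by positivity) ((div_lt_one hr0).2 hr)).const_mul C
  let S := Finset.univ.filter (fun j => ‖γ j‖ = 1)
  have hS : i0 ∈ S := by simp [S, hγ0]
  have hsumS : Tendsto (fun N => ∑ j ∈ S, γ j ^ N) atTop (𝓝 0) := by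
    have h2 : Tendsto (fun N => ∑ j ∈ Sᶜ, γ j ^ N) atTop (𝓝 0) := by
      simpa using tendsto_finsetSum (a := fun _ => (0:ℂ)) Sᶜ fun j hj =>
        tendsto_pow_atTop_nhds_zero_of_norm_lt_one (x := γ j) (lt_of_le_of_ne (hγ j) (by simpa [S] using hj))
    have := hsum.sub h2
    rw [sub_zero] at this
    refine this.congr fun N => ?_
    rw [← Finset.sum_add_sum_compl S]; ring
  let u : ℕ → (ι → ℂ) := fun N j => if j ∈ S then γ j ^ N else 1
  have hu : ∀ N, u N ∈ Metric.closedBall (0 : ι → ℂ) 1 := by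
    intro N; simp only [mem_closedBall_zero_iff, pi_norm_le_iff_of_nonneg zero_le_one, u]
    intro j; split_ifs with hj <;> simp_all [S]
  obtain ⟨L, -, φ, hφ, hL⟩ := (isCompact_closedBall (0 : ι → ℂ) 1).tendsto_subseq hu
  let ψ : ℕ → ℕ := fun k => φ k + k
  have hψ : Tendsto (fun k => φ (ψ k) - φ k) atTop atTop :=
    tendsto_atTop_mono (fun k => by
      have : ψ k ≤ φ (ψ k) := hφ.id_le _
      simp only [ψ, id] at this ⊢; omega) tendsto_id
  have hone : ∀ j ∈ S, Tendsto (fun k => γ j ^ (φ (ψ k) - φ k)) atTop (𝓝 1) := by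
    intro j hj
    have hn : ‖γ j‖ = 1 := by simpa [S] using hj
    have hne : γ j ≠ 0 := by intro h; simp [h] at hn
    have hj' : Tendsto (fun k => γ j ^ φ k) atTop (𝓝 (L j)) := by
      simpa [u, hj, Function.comp_def] using (tendsto_pi_nhds.1 hL j)
    have hLn : ‖L j‖ = 1 := tendsto_nhds_unique hj'.norm (by simp [hn])
    have hLne : L j ≠ 0 := by intro h; simp [h] at hLn
    have h2 : Tendsto (fun k => γ j ^ φ (ψ k)) atTop (𝓝 (L j)) :=
      hj'.comp (tendsto_atTop_mono (fun k => Nat.le_add_left k (φ k)) tendsto_id)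
    have := h2.div hj' hLne
    rw [div_self hLne] at this
    refine this.congr fun k => ?_
    have hle : φ k ≤ φ (ψ k) := hφ.monotone (Nat.le_add_left _ _)
    simp only [Pi.div_apply]
    rw [pow_sub₀ _ hne hle, div_eq_mul_inv]
  have := tendsto_finsetSum S hone
  have heq := tendsto_nhds_unique this (hsumS.comp hψ)
  simp at heq
  simp [heq] at hS

theorem result {g : ℕ} (q : ℕ) (hq : 0 < q)
    (α : Fin (2 * g) → ℂ) (σ : Equiv.Perm (Fin (2 * g))) (hσ : ∀ i, α (σ i) * α i = q)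
    (d : ℕ) (hd : 0 < d) (C : ℝ)
    (hC : ∀ N : ℕ, 1 ≤ N → ‖∑ i, α i ^ (d * N)‖ ≤ C * (q : ℝ) ^ ((d : ℝ) * N / 2))
    (i : Fin (2 * g)) : ‖α i‖ ^ 2 = q := by
  have hq' : (0:ℝ) < q := by exact_mod_cast hq
  set s : ℝ := Real.sqrt q
  have hs : 0 < s := Real.sqrt_pos.2 hq'
  have key : ∀ j, ‖α j‖ ≤ s := by
    intro j
    have := norm_le_one (fun k => α k ^ d / (s:ℂ) ^ d) C (fun N hN => by
      simp only [div_pow, ← Finset.sum_div, norm_div, norm_pow, Complex.norm_real, Real.norm_eq_abs, abs_of_pos hs, ← pow_mul]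
      rw [div_le_iff₀ (by positivity)]
      refine (hC N hN).trans_eq ?_
      simp only [s, Real.sqrt_eq_rpow, ← Real.rpow_natCast, ← Real.rpow_mul hq'.le]
      congr 2; push_cast; ring) j
    simp only [norm_div, norm_pow, Complex.norm_real, Real.norm_eq_abs, abs_of_pos hs] at this
    rw [div_le_one (by positivity)] at this
    exact (pow_le_pow_iff_left₀ (norm_nonneg _) hs.le hd.ne').1 this
  have e : ‖α (σ i)‖ * ‖α i‖ = q := by rw [← norm_mul, hσ]; simp
  have hss : s * s = q := Real.mul_self_sqrt hq'.le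
  have := key i
  have := key (σ i)
  nlinarith [norm_nonneg (α i), norm_nonneg (α (σ i))]
end Groth.Agent.S15524.AuxS24

end

namespace Groth.Agent.S15524

/-- Let q ≥ 1 and let α_1, …, α_{2g} be complex numbers permuted by α ↦ q/α, i.e. α_{σ(i)} α_i = q for a
permutation σ of the indices; these play the role of the inverse roots of the numerator of the zeta
function of a curve over a field with q elements, for which #X(F_{q^N}) = q^N + 1 − Σ_i α_i^N. If
for some d ≥ 1 and real C one has |Σ_i α_i^{dN}| ≤ C q^{dN/2} for every N ≥ 1, then |α_i|^2 = q for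
every i (the Riemann hypothesis for the curve). -/
theorem result {g : ℕ} (q : ℕ) (hq : 0 < q)
    (α : Fin (2 * g) → ℂ) (σ : Equiv.Perm (Fin (2 * g))) (hσ : ∀ i, α (σ i) * α i = q)
    (d : ℕ) (hd : 0 < d) (C : ℝ)
    (hC : ∀ N : ℕ, 1 ≤ N → ‖∑ i, α i ^ (d * N)‖ ≤ C * (q : ℝ) ^ ((d : ℝ) * N / 2))
    (i : Fin (2 * g)) : ‖α i‖ ^ 2 = q := by
  exact AuxS24.result q hq α σ hσ d hd C hC i

end Groth.Agent.S15524
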