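import Groth.Statements.S15525
import Mathlib

set_option autoImplicit false
universe u
open Zeta

noncomputable section
namespace Groth.Agent.S15525.AuxS25
open Matrix Polynomial
theorem result (L : Type*) [Field L] (ι : L →+* ℂ)
    {r : ℕ} (M : Matrix (Fin r) (Fin r) L)
    (hM : ∀ z ∈ ((Matrix.charpoly M).map ι).roots, ‖z‖ = 1) (n : ℕ) :
    (ι ((Matrix.fromBlocks M 0 0 (M⁻¹).transpose).charpoly.coeff n)).im = 0 := by
  rw [charpoly_fromBlocks_zero₂₁, charpoly_transpose, ← coeff_map]
  have hP : ((M.map ι).charpoly) = (M.charpoly).map ι := charpoly_map M ι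
  set N := M.map ι
  have hN : ∀ z ∈ N.charpoly.roots, ‖z‖ = 1 := hP ▸ hM
  have hdetN : N.det ≠ 0 := by
    rw [det_eq_prod_roots_charpoly]
    exact Multiset.prod_ne_zero fun h => by simpa using hN 0 h
  have hdet : IsUnit M.det := isUnit_iff_ne_zero.2 fun h => hdetN (by rw [show N = ι.mapMatrix M from rfl, ← RingHom.map_det, h, map_zero])
  have hinv : (M⁻¹).map ι = N⁻¹ := by
    refine (inv_eq_left_inv ?_).symm
    rw [← Matrix.map_mul, nonsing_inv_mul _ hdet, Matrix.map_one _ (map_zero ι) (map_one ι)]
  rw [Polynomial.map_mul, ← hP, ← charpoly_map, hinv]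
  have hroots : (N⁻¹).charpoly = N.charpoly.map (starRingEnd ℂ) := by
    have hs := (IsAlgClosed.splits N.charpoly).eq_prod_roots_of_monic N.charpoly_monic
    have hNu : IsUnit N := (isUnit_iff_isUnit_det _).2 (isUnit_iff_ne_zero.2 hdetN)
    apply Polynomial.funext; intro x
    conv_rhs => rw [hs]
    have hev : (N⁻¹).charpoly.eval x = (scalar (Fin r) x - N⁻¹).det := eval_charpoly _ _
    rw [hev, Polynomial.map_multiset_prod, eval_multiset_prod, Multiset.map_map, Multiset.map_map]
    have h1 : (scalar (Fin r) x - N⁻¹) = N⁻¹ * (x • N - 1) := by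
      rw [Matrix.mul_sub, mul_smul_comm, nonsing_inv_mul _ ((isUnit_iff_isUnit_det _).1 hNu), mul_one, smul_one_eq_diagonal, scalar_apply]
    rw [h1, det_mul, det_nonsing_inv, Ring.inverse_eq_inv', det_eq_prod_roots_charpoly]
    have h2 : (x • N - 1).det = (N.charpoly.roots.map (fun z => x * z - 1)).prod := by
      by_cases hx : x = 0
      · subst hx; simp [det_neg, charpoly_natDegree_eq_dim, (IsAlgClosed.splits N.charpoly).natDegree_eq_card_roots.symm, Fintype.card_fin]
      · have : x • N - 1 = (-x) • (scalar (Fin r) x⁻¹ - N) := by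
          ext i j; by_cases hij : i = j <;> simp [hij] <;> field_simp <;> ring
        rw [this, det_smul, ← eval_charpoly]
        conv_lhs => rw [hs]
        rw [eval_multiset_prod, Multiset.map_map, ← charpoly_natDegree_eq_dim N, (IsAlgClosed.splits N.charpoly).natDegree_eq_card_roots,
          ← Multiset.prod_replicate, ← Multiset.map_const', ← Multiset.prod_map_mul]
        congr 1; apply Multiset.map_congr rfl; intro z _
        simp; field_simp; ring
    rw [h2]
    rw [← Multiset.prod_map_inv', ← Multiset.prod_map_mul]
    congr 1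
    apply Multiset.map_congr rfl
    intro z hz
    have hz1 := hN z hz
    have hzc : z⁻¹ = starRingEnd ℂ z := by rw [Complex.inv_def, Complex.normSq_eq_norm_sq, hz1]; simp
    have hzne : z ≠ 0 := by intro h; simp [h] at hz1
    simp [← hzc]; field_simp
  rw [hroots]
  apply Complex.conj_eq_iff_im.1
  rw [← coeff_map, Polynomial.map_mul, Polynomial.map_map]
  rw [show (starRingEnd ℂ).comp (starRingEnd ℂ) = RingHom.id ℂ from RingHom.ext Complex.conj_conj, Polynomial.map_id, mul_comm]
end Groth.Agent.S15525.AuxS25

end

namespace Groth.Agent.S15525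

/-- Let L be a field with a ring embedding ι into ℂ and M an r × r matrix over L all of whose
eigenvalues, the complex roots of its characteristic polynomial mapped along ι, have absolute value
1. Then every coefficient of the characteristic polynomial of the block-diagonal matrix with blocks
M and the inverse transpose of M is mapped by ι into ℝ. This is the pointwise content of the
assertion that for a lisse sheaf F pure of weight 0 the sum of F and its dual is real, the Frobenius
of the dual acting by the inverse transpose. -/
theorem result (L : Type u) [Field L] (ι : L →+* ℂ)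
    {r : ℕ} (M : Matrix (Fin r) (Fin r) L)
    (hM : ∀ z ∈ ((Matrix.charpoly M).map ι).roots, ‖z‖ = 1) (n : ℕ) :
    (ι ((Matrix.fromBlocks M 0 0 (M⁻¹).transpose).charpoly.coeff n)).im = 0 := by
  exact AuxS25.result L ι M hM n

end Groth.Agent.S15525
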