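import Groth.Statements.S15526
import Mathlib

set_option autoImplicit false
universe u
open MvPolynomial
open CAlg

namespace Groth.Agent.S15526

/-- Let R be a commutative ring, P ∈ R[x] a monic polynomial of degree 2g + 1, and A = R[x, y, z]/(y^2 −
P(x), yz − 1). Then every element of A is a finite sum Σ_n Q_n(x) y^n over integers n, negative
powers of y meaning powers of z, with each Q_n ∈ R[x] of degree at most 2g: the R-submodule of A
spanned by the classes of x^i y^n and x^i z^n with i ≤ 2g and n ≥ 0 is all of A. (The published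
statement takes for R the ring of Witt vectors of a finite field and for P a lift of a separable
polynomial; the argument uses only that P is monic of degree 2g + 1.) -/
theorem result (R : Type u) [CommRing R] (g : ℕ)
    (P : Polynomial R) (hP : P.Monic) (hdeg : P.natDegree = 2 * g + 1) :
    Submodule.span R {a : MvPolynomial (Fin 3) R ⧸
        Ideal.span ({X 1 ^ 2 - Polynomial.aeval (X 0 : MvPolynomial (Fin 3) R) P, X 1 * X 2 - 1} :
          Set (MvPolynomial (Fin 3) R)) |
        ∃ i n : ℕ, i ≤ 2 * g ∧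
          (a = Ideal.Quotient.mk _ (X 0 ^ i * X 1 ^ n) ∨ a = Ideal.Quotient.mk _ (X 0 ^ i * X 2 ^ n))} =
      ⊤ := by
  set I := Ideal.span ({X 1 ^ 2 - Polynomial.aeval (X 0 : MvPolynomial (Fin 3) R) P, X 1 * X 2 - 1} :
          Set (MvPolynomial (Fin 3) R))
  set G := {a : MvPolynomial (Fin 3) R ⧸ I | ∃ i n : ℕ, i ≤ 2 * g ∧
          (a = Ideal.Quotient.mk _ (X 0 ^ i * X 1 ^ n) ∨ a = Ideal.Quotient.mk _ (X 0 ^ i * X 2 ^ n))}
  set S := Submodule.span R G
  let q : MvPolynomial (Fin 3) R →ₐ[R] MvPolynomial (Fin 3) R ⧸ I := Ideal.Quotient.mkₐ R I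
  let x := q (X 0); let y := q (X 1); let z := q (X 2)
  have hyz : y * z = 1 := by
    simp only [y, z, ← map_mul, ← map_one q]
    exact Ideal.Quotient.eq.mpr (Ideal.subset_span (by simp))
  have hy2 : y ^ 2 = Polynomial.aeval x P := by
    simp only [x, y, ← map_pow, Polynomial.aeval_algHom_apply]
    exact Ideal.Quotient.eq.mpr (Ideal.subset_span (by simp))
  have hY : ∀ i n, i ≤ 2 * g → x ^ i * y ^ n ∈ S := fun i n hi =>
    Submodule.subset_span ⟨i, n, hi, Or.inl (by simp only [x, y, ← map_pow, ← map_mul]; rfl)⟩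
  have hZ : ∀ i n, i ≤ 2 * g → x ^ i * z ^ n ∈ S := fun i n hi =>
    Submodule.subset_span ⟨i, n, hi, Or.inr (by simp only [x, z, ← map_pow, ← map_mul]; rfl)⟩
  have hclosed : ∀ c, (∀ i n, i ≤ 2 * g → c * (x ^ i * y ^ n) ∈ S ∧ c * (x ^ i * z ^ n) ∈ S) → ∀ a ∈ S, c * a ∈ S := by
    intro c h a ha
    induction ha using Submodule.span_induction with
    | mem a ha =>
      obtain ⟨i, n, hi, rfl | rfl⟩ := ha
      · simpa [x, y, q] using (h i n hi).1
      · simpa [x, z, q] using (h i n hi).2
    | zero => simp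
    | add a b _ _ ha hb => rw [mul_add]; exact add_mem ha hb
    | smul r a _ ha => rw [mul_smul_comm]; exact S.smul_mem r ha
  have hy : ∀ a ∈ S, y * a ∈ S := hclosed y fun i n hi => by
    refine ⟨by convert hY i (n + 1) hi using 1; ring, ?_⟩
    rcases n with _ | n
    · convert hY i 1 hi using 1; ring
    · convert hZ i n hi using 1
      linear_combination (x ^ i * z ^ n) * hyz
  have hz : ∀ a ∈ S, z * a ∈ S := hclosed z fun i n hi => by
    refine ⟨?_, by convert hZ i (n + 1) hi using 1; ring⟩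
    rcases n with _ | n
    · convert hZ i 1 hi using 1; ring
    · convert hY i n hi using 1
      linear_combination (x ^ i * y ^ n) * hyz
  have hred : x ^ (2 * g + 1) = y ^ 2 - ∑ j ∈ Finset.range (2 * g + 1), P.coeff j • x ^ j := by
    rw [hy2, Polynomial.aeval_eq_sum_range, hdeg, Finset.sum_range_succ, ← hdeg, hP.coeff_natDegree, one_smul]
    ring
  have htop : ∀ a, (a = 1 ∨ (∃ n, a = y ^ n) ∨ (∃ n, a = z ^ n)) → x ^ (2 * g + 1) * a ∈ S := by
    intro a ha
    have hb : ∀ j, j ≤ 2 * g → x ^ j * a ∈ S := by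
      intro j hj
      rcases ha with rfl | ⟨n, rfl⟩ | ⟨n, rfl⟩
      · simpa using hY j 0 hj
      · exact hY j n hj
      · exact hZ j n hj
    rw [hred, sub_mul, pow_two, mul_assoc, Finset.sum_mul]
    refine sub_mem (hy _ (hy _ ?_)) (sum_mem fun j hj => ?_)
    · simpa using hb 0 (Nat.zero_le _)
    · rw [smul_mul_assoc]; exact S.smul_mem _ (hb j (Nat.le_of_lt_succ (Finset.mem_range.mp hj)))
  have hx : ∀ a ∈ S, x * a ∈ S := hclosed x fun i n hi => by
    rcases lt_or_eq_of_le hi with h | rfl
    · exact ⟨by convert hY (i + 1) n h using 1; ring, by convert hZ (i + 1) n h using 1; ring⟩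
    · exact ⟨by convert htop (y ^ n) (Or.inr (Or.inl ⟨n, rfl⟩)) using 1; ring,
        by convert htop (z ^ n) (Or.inr (Or.inr ⟨n, rfl⟩)) using 1; ring⟩
  rw [eq_top_iff]
  rintro a -
  obtain ⟨a, rfl⟩ := Ideal.Quotient.mk_surjective a
  show q a ∈ S
  induction a using MvPolynomial.induction_on with
  | C r =>
    rw [← MvPolynomial.algebraMap_eq, AlgHom.commutes, Algebra.algebraMap_eq_smul_one]
    exact S.smul_mem r (by simpa using hY 0 0 (Nat.zero_le _))
  | add a b ha hb => rw [map_add]; exact add_mem ha hb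
  | mul_X a i ha =>
    rw [map_mul, mul_comm]
    fin_cases i
    exacts [hx _ ha, hy _ ha, hz _ ha]

end Groth.Agent.S15526
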