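import Groth.Statements.S1553
import Groth.Agent.VarGal.FibreIneq

set_option autoImplicit false
universe u
open CategoryTheory CategoryTheory.Limits AlgebraicGeometry
open Variety

namespace Groth.Agent.S1553

/-- Let f : X → Y be locally of finite type, x a point with image y such that the local ring of Y at y
is Noetherian, and d a natural number such that at the generic points η of the irreducible
components of X passing through x we have f(η) ≠ y and local fibre dimension d. Then the local
dimension at x of the fibre over y is at most d + dim O_{Y,y} - 1 (written additively). -/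
theorem result {X Y : Scheme.{u}} (f : X ⟶ Y) [LocallyOfFiniteType f]
    (x : X) [IsNoetherianRing (Y.presheaf.stalk (f.base x))] (d : ℕ)
    (hgen : ∀ Z ∈ irreducibleComponents (X : Type u), x ∈ Z → ∀ η : X, IsGenericPoint η Z →
      f.base η ≠ f.base x ∧ FlatMor.fibreDimAt f η = d) :
    FlatMor.fibreDimAt f x + 1 ≤ (d : WithBot ℕ∞) + ringKrullDim (Y.presheaf.stalk (f.base x)) := by
  have hd : ∀ η : X, η ⤳ x → (∀ w : X, w ⤳ η → w = η) → f.base η ≠ f.base x ∧ FlatMor.fibreDimAt f η = d := fun η hηx hη =>
    hgen _ ((Groth.Agent.VarGal.closure_singleton_mem_irreducibleComponents_iff η).2 hη) hηx.mem_closure η isGenericPoint_closure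
  obtain ⟨z, η, hηz, hzx, hz, hdim, hη, hdη⟩ := Groth.Agent.VarGal.exists_fdeg_pair f x (fun η h1 h2 => (hd η h1 h2).2)
  have : IsNoetherianRing (Y.presheaf.stalk (f z)) := by rw [hz]; assumption
  have h := Groth.Agent.VarGal.fdeg_add_one_le f hηz (fun e => (hd η (hηz.trans hzx) hη).1 (e.trans hz))
  rw [hdη, hz] at h
  rw [hdim]
  exact le_of_eq_of_le (by push_cast; rfl) h

end Groth.Agent.S1553
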