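import Groth.Statements.S15536
import Groth.Agent.DR29.Variable
import Mathlib.Algebra.Polynomial.Derivation
import Mathlib.Algebra.Algebra.Rat

set_option autoImplicit false
universe u
open DeRham

namespace Groth.Agent.S15536

open exteriorPower Polynomial in
/-- For a commutative ℚ-algebra R, an R-algebra A, de Rham differentials d on ⋀^• Ω_{A/R} and d' on ⋀^•
Ω_{A[t]/R}, and the map of de Rham complexes ψ induced by the inclusion A → A[t] (pinned by its
values on the elements b₀ db₁ ∧ … ∧ db_p and commuting with d, d'), the map ψ is a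
quasi-isomorphism: in every degree i, each d'-closed form on A[t] is the sum of ψ_i of a d-closed
form on A and a d'-exact form, and a d-closed form on A whose image under ψ_i is d'-exact is d-exact
(in degree 0, exact means zero). -/
theorem result (R A : Type u) [CommRing R]
    [CommRing A] [Algebra R A] [Algebra ℚ R]
    (d : ∀ p : ℕ, ↥(⋀[A]^p (Ω[A⁄R])) →ₗ[R] ↥(⋀[A]^(p + 1) (Ω[A⁄R])))
    (hd : DeRham.IsDiff (KaehlerDifferential.D R A) d)
    (d' : ∀ p : ℕ, ↥(⋀[A[X]]^p (Ω[A[X]⁄R])) →ₗ[R] ↥(⋀[A[X]]^(p + 1) (Ω[A[X]⁄R])))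
    (hd' : DeRham.IsDiff (KaehlerDifferential.D R A[X]) d')
    (ψ : ∀ p : ℕ, ↥(⋀[A]^p (Ω[A⁄R])) →+ ↥(⋀[A[X]]^p (Ω[A[X]⁄R])))
    (hψ : DeRham.IsCxMap (KaehlerDifferential.D R A) (KaehlerDifferential.D R A[X]) (algebraMap A A[X]) ψ)
    (hcomm : ∀ (p : ℕ) (x : ↥(⋀[A]^p (Ω[A⁄R]))), ψ (p + 1) (d p x) = d' p (ψ p x)) (i : ℕ) :
    (∀ y ∈ DeRham.cocycles d' i, ∃ x ∈ DeRham.cocycles d i, y - ψ i x ∈ DeRham.coboundaries d' i) ∧
      (∀ x ∈ DeRham.cocycles d i, ψ i x ∈ DeRham.coboundaries d' i → x ∈ DeRham.coboundaries d i) := by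
  classical
  letI : Algebra A[X] A := (Polynomial.evalRingHom (0 : A)).toAlgebra
  haveI : IsScalarTower R A[X] A := IsScalarTower.of_algebraMap_eq fun r => by
    rw [RingHom.algebraMap_toAlgebra, IsScalarTower.algebraMap_apply R A A[X],
      Polynomial.coe_evalRingHom, Polynomial.algebraMap_apply, Polynomial.eval_C]
    rfl
  have hsA := Agent.DR29.span_kaehler R A
  have hsX := Agent.DR29.span_kaehler R A[X]
  obtain ⟨z, hz⟩ := Agent.DR29.exists_isCxMap_kaehler R R A[X] A
  have hzψ : ∀ q x, z q (ψ q x) = x := fun q x => by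
    refine Agent.DR29.induction_gen hsA (P := fun x => z q (ψ q x) = x) (by simp)
      (fun x y hx hy => by rw [map_add, map_add, hx, hy]) (fun b₀ b => ?_) x
    rw [hψ, hz]
    simp [RingHom.algebraMap_toAlgebra, Polynomial.algebraMap_apply]
  have hinj : ∀ q, Function.Injective (ψ q) := fun q => Function.LeftInverse.injective (hzψ q)
  let c : ℕ → A[X] := fun m => algebraMap R A[X] (algebraMap ℚ R ((m.factorial : ℚ)⁻¹))
  let e : ℕ → A[X] := fun m => c m * Polynomial.X ^ m
  let D := KaehlerDifferential.D R A[X]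
  have he0 : e 0 = 1 := by simp [e, c]
  have hfac : ∀ m, c (m + 1) * ((m + 1 : ℕ) : A[X]) = c m := fun m => by
    simp only [c]
    rw [← map_natCast (algebraMap R A[X]) (m + 1), ← map_mul, ← map_natCast (algebraMap ℚ R) (m + 1),
      ← map_mul, Nat.factorial_succ, Nat.cast_mul, mul_inv, mul_comm, ← mul_assoc,
      mul_inv_cancel₀ (Nat.cast_ne_zero.mpr (Nat.succ_ne_zero m)), one_mul]
  have hde : ∀ m, D (e (m + 1)) = e m • D Polynomial.X := fun m => by
    simp only [e]
    rw [Derivation.leibniz, show D (c (m + 1)) = 0 from Derivation.map_algebraMap _ _, smul_zero,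
      add_zero, Derivation.leibniz_pow, Nat.add_sub_cancel, ← Nat.cast_smul_eq_nsmul A[X],
      smul_smul, smul_smul, hfac]
  have hemul : ∀ m k, ∃ a : ℕ, e m * e k = a • e (m + k) := fun m k => by
    refine ⟨(m + k).choose m, ?_⟩
    have hq : ((m.factorial : ℚ)⁻¹) * (k.factorial : ℚ)⁻¹ =
        ((m + k).choose m : ℚ) * ((m + k).factorial : ℚ)⁻¹ := by
      have h : (m + k).choose m * m.factorial * k.factorial = (m + k).factorial := by
        rw [Nat.choose_symm_add]; exact Nat.add_choose_mul_factorial_mul_factorial m k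
      rw [← h]
      push_cast
      have h1 : (((m + k).choose m : ℕ) : ℚ) ≠ 0 :=
        Nat.cast_ne_zero.mpr (Nat.choose_pos (Nat.le_add_right m k)).ne'
      field_simp
    have hq' := congrArg (fun t => algebraMap R A[X] (algebraMap ℚ R t)) hq
    simp only [map_mul, map_natCast] at hq'
    rw [nsmul_eq_mul]
    simp only [e, c]
    rw [mul_mul_mul_comm, hq', pow_add]
    ring
  let θ : Module.Dual A[X] (Ω[A[X]⁄R]) :=
    ((Polynomial.derivative' (R := A)).restrictScalars R).liftKaehlerDifferential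
  have hθ : ∀ f, θ (D f) = Polynomial.derivative f := fun f =>
    Derivation.liftKaehlerDifferential_comp_D _ f
  let S : Subring A[X] := (Polynomial.C : A →+* A[X]).range
  have hS : ∀ s ∈ S, θ (D s) = 0 := by
    rintro _ ⟨a, rfl⟩
    rw [hθ, Polynomial.derivative_C]
  have hT : ∀ t ∈ (⊤ : Subring A[X]), t ∈ Agent.DR29.extended e S := by
    intro t ht
    clear ht
    induction t using Polynomial.induction_on' with
    | add p q hp hq => exact add_mem hp hq
    | monomial n a =>
      refine AddSubgroup.subset_closure ⟨n, Polynomial.C (a * (n.factorial : A)), ⟨_, rfl⟩, ?_⟩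
      rw [← Polynomial.C_mul_X_pow_eq_monomial, map_mul Polynomial.C, map_natCast]
      have h1 : c n * (n.factorial : A[X]) = 1 := by
        simp only [c]
        rw [← map_natCast (algebraMap R A[X]) n.factorial, ← map_mul,
          ← map_natCast (algebraMap ℚ R) n.factorial, ← map_mul,
          inv_mul_cancel₀ (Nat.cast_ne_zero.mpr (Nat.factorial_ne_zero n)), map_one, map_one]
      calc e n * (Polynomial.C a * (n.factorial : A[X]))
          = (c n * (n.factorial : A[X])) * (Polynomial.C a * Polynomial.X ^ n) := by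
            simp only [e]; ring
        _ = Polynomial.C a * Polynomial.X ^ n := by rw [h1, one_mul]
  have hrange : ∀ q g, g ∈ Agent.DR29.subForms D S q → g ∈ (ψ q).range := by
    intro q g hg
    refine AddSubgroup.closure_le _ |>.mpr ?_ hg
    rintro _ ⟨_, ⟨a, rfl⟩, b, hb, rfl⟩
    choose b' hb' using hb
    refine ⟨DeRham.gen (KaehlerDifferential.D R A) q a b', ?_⟩
    rw [hψ]
    exact congrArg₂ (DeRham.gen D q) rfl (funext hb')
  refine ⟨fun y hy => ?_, fun x hx hex => ?_⟩
  · obtain ⟨g, hg, hgc, hgd⟩ := Agent.DR29.eliminate hsX hd' Polynomial.X e he0 hde hemul θ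
      (by rw [hθ, Polynomial.derivative_X]) S ⊤ hS hT i y (Agent.DR29.subForms_top hsX i y) hy
    obtain ⟨x, rfl⟩ := hrange i g hg
    refine ⟨x, hinj (i + 1) ?_, hgd⟩
    rw [hcomm, hgc, map_zero]
  · cases i with
    | zero =>
      have h : ψ 0 x = 0 := hex
      rw [← hzψ 0 x, h, map_zero]
      exact zero_mem _
    | succ q =>
      obtain ⟨η, hη⟩ := hex
      refine ⟨z q η, ?_⟩
      rw [← Agent.DR29.comm_of_isCxMap hsX hd'.1 hd.1 hz, hη, hzψ]

end Groth.Agent.S15536
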