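import Groth.Statements.S1554
import Groth.Agent.VarGal.FibreIneq

set_option autoImplicit false
universe u
open CategoryTheory CategoryTheory.Limits AlgebraicGeometry
open Variety

namespace Groth.Agent.S1554

/-- Let f : X → Y be locally of finite type, x a point with image y such that the local ring of Y at y
is Noetherian of dimension at most one, and d a natural number such that the local fibre dimension
is d at the generic points of the irreducible components of X passing through x. Then the local
dimension at x of the fibre over y equals d. -/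
theorem result {X Y : Scheme.{u}} (f : X ⟶ Y) [LocallyOfFiniteType f]
    (x : X) [IsNoetherianRing (Y.presheaf.stalk (f.base x))] (hdimY : ringKrullDim (Y.presheaf.stalk (f.base x)) ≤ 1) (d : ℕ)
    (hgen : ∀ Z ∈ irreducibleComponents (X : Type u), x ∈ Z → ∀ η : X, IsGenericPoint η Z → FlatMor.fibreDimAt f η = d) :
    FlatMor.fibreDimAt f x = d := by
  have hd : ∀ η : X, η ⤳ x → (∀ w : X, w ⤳ η → w = η) → FlatMor.fibreDimAt f η = d := fun η hηx hη =>
    hgen _ ((Groth.Agent.VarGal.closure_singleton_mem_irreducibleComponents_iff η).2 hη) hηx.mem_closure η isGenericPoint_closure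
  obtain ⟨z, η, hηz, hzx, hz, hdim, hη, hdη⟩ := Groth.Agent.VarGal.exists_fdeg_pair f x hd
  have : IsNoetherianRing (Y.presheaf.stalk (f z)) := by rw [hz]; assumption
  refine le_antisymm ?_ (hdη ▸ Groth.Agent.E4O.fdeg_le_fibreDimAt_of_specializes (hηz.trans hzx))
  rw [hdim]
  refine Nat.cast_le.2 ?_
  by_cases he : f η = f z
  · exact hdη ▸ Groth.Agent.E4O.fdeg_le hηz he
  · have h := Groth.Agent.VarGal.fdeg_add_one_le f hηz he
    rw [hdη, hz] at h
    have h2 : ((Groth.Agent.E4O.fdeg f z + 1 : ℕ) : WithBot ℕ∞) ≤ ((d + 1 : ℕ) : WithBot ℕ∞) :=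
      h.trans (by push_cast; exact add_le_add le_rfl hdimY)
    exact Nat.le_of_add_le_add_right (Nat.cast_le.1 h2)

end Groth.Agent.S1554
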