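import Groth.Statements.S15547
import Mathlib.RingTheory.Ideal.GoingUp
import Mathlib.AlgebraicGeometry.Morphisms.Finite

set_option autoImplicit false
set_option maxSynthPendingDepth 6
set_option linter.style.haveILetI false
set_option backward.isDefEq.respectTransparency.types false
open CategoryTheory AlgebraicGeometry TopologicalSpace
universe u
open Coherent

namespace Groth.Agent.S15547

/-- Let g : Z ⟶ X be a finite morphism of schemes (Z is the spectrum of the finite quasi-coherent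
O_X-algebra C = g_*O_Z) and x a point of X. Then the points of Z over x correspond bijectively to
the maximal ideals of the stalk C_x = (g_*O_Z)_x: the map sending z with g(z) = x to the preimage of
the maximal ideal of O_{Z,z} under the canonical map (g_*O_Z)_x ⟶ O_{Z,z} is a bijection from the
fibre onto the set of maximal ideals. -/
theorem result {Z X : Scheme.{u}} (g : Z ⟶ X)
    [IsFinite g] (x : X) :
    Set.BijOn (fun z : {z : Z // g.base z = x} =>
        Ideal.comap (((g.base _* Z.presheaf).stalkCongr (Inseparable.of_eq z.2)).inv ≫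
            TopCat.Presheaf.stalkPushforward CommRingCat g.base Z.presheaf z.1).hom
          (IsLocalRing.maximalIdeal (Z.presheaf.stalk z.1)))
      Set.univ {I : Ideal ((g.base _* Z.presheaf).stalk x) | I.IsMaximal} := by
  obtain ⟨V, hV, hxV, -⟩ := exists_isAffineOpen_mem_and_subset (x := x) (U := ⊤) trivial
  let W : Z.Opens := g ⁻¹ᵁ V
  have hW : IsAffineOpen W := hV.preimage g
  letI : Algebra Γ(X, V) Γ(Z, W) := (g.app V).hom.toAlgebra
  haveI : Module.Finite Γ(X, V) Γ(Z, W) := g.finite_app V hV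
  haveI : Algebra.IsIntegral Γ(X, V) Γ(Z, W) := Algebra.IsIntegral.of_finite _ _
  let P : Ideal Γ(X, V) := (hV.primeIdealOf ⟨x, hxV⟩).asIdeal
  let F := g.base _* Z.presheaf
  let φ : Γ(Z, W) →+* F.stalk x := (F.germ V x hxV).hom
  let mem : ∀ z : {z : Z // g.base z = x}, z.1 ∈ W := fun z => show g.base z.1 ∈ V from z.2.symm ▸ hxV
  let J : {z : Z // g.base z = x} → Ideal (F.stalk x) := fun z =>
    Ideal.comap ((F.stalkCongr (Inseparable.of_eq z.2)).inv ≫
      TopCat.Presheaf.stalkPushforward CommRingCat g.base Z.presheaf z.1).hom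
      (IsLocalRing.maximalIdeal (Z.presheaf.stalk z.1))
  let Q : {z : Z // g.base z = x} → Ideal Γ(Z, W) := fun z => (hW.primeIdealOf ⟨z.1, mem z⟩).asIdeal
  have hQP : ∀ z, (Q z).comap (algebraMap Γ(X, V) Γ(Z, W)) = P := fun z => by
    have h := congrArg PrimeSpectrum.asIdeal
      (IsAffineOpen.comap_primeIdealOf_appLE V hV W hW le_rfl (mem z))
    simp only [PrimeSpectrum.comap_asIdeal] at h
    rw [show g.appLE V W le_rfl = g.app V from g.appLE_eq_app] at h
    refine h.trans ?_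
    show (hV.primeIdealOf ⟨g.base z.1, _⟩).asIdeal = _
    simp only [z.2]
    rfl
  have hgerm : ∀ (z : {z : Z // g.base z = x}) (b : Γ(Z, W)), φ b ∈ J z ↔ b ∈ Q z := fun z b => by
    have h : ((F.stalkCongr (Inseparable.of_eq z.2)).inv ≫
        TopCat.Presheaf.stalkPushforward CommRingCat g.base Z.presheaf z.1).hom (φ b) =
        Z.presheaf.germ W z.1 (mem z) b := by
      show (F.germ V x hxV ≫ F.stalkSpecializes (Inseparable.of_eq z.2).le ≫
        TopCat.Presheaf.stalkPushforward CommRingCat g.base Z.presheaf z.1) b = _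
      rw [TopCat.Presheaf.germ_stalkSpecializes_assoc, TopCat.Presheaf.stalkPushforward_germ]
    rw [Ideal.mem_comap, h, IsLocalRing.mem_maximalIdeal, mem_nonunits_iff]
    show _ ↔ b ∈ (hW.primeIdealOf ⟨z.1, mem z⟩).asIdeal
    rw [hW.primeIdealOf_eq_map_closedPoint ⟨z.1, mem z⟩]
    show _ ↔ (Z.presheaf.germ W z.1 (mem z)) b ∈ IsLocalRing.maximalIdeal _
    rw [IsLocalRing.mem_maximalIdeal, mem_nonunits_iff]
  have hmemP : ∀ a : Γ(X, V), x ∈ X.basicOpen a ↔ a ∉ P := fun a => by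
    have h : hV.primeIdealOf ⟨x, hxV⟩ ∈ hV.fromSpec ⁻¹ᵁ X.basicOpen a ↔ a ∉ P := by
      rw [hV.fromSpec_preimage_basicOpen]
      rfl
    refine Iff.trans ?_ h
    show _ ↔ hV.fromSpec (hV.primeIdealOf ⟨x, hxV⟩) ∈ X.basicOpen a
    rw [hV.fromSpec_primeIdealOf]
  have hunit : ∀ a : Γ(X, V), a ∉ P → IsUnit (φ (g.app V a)) := fun a ha => by
    have hx' : x ∈ X.basicOpen a := (hmemP a).2 ha
    show IsUnit (F.germ V x hxV (g.app V a))
    rw [← TopCat.Presheaf.germ_res_apply F (homOfLE (X.basicOpen_le a)) x hx' (g.app V a)]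
    refine IsUnit.map (F.germ (X.basicOpen a) x hx').hom ?_
    have h1 := (RingedSpace.isUnit_res_basicOpen _ a).map (g.app (X.basicOpen a)).hom
    refine Eq.subst (motive := fun t => IsUnit t) ?_ h1
    exact ConcreteCategory.congr_hom (g.naturality (homOfLE (X.basicOpen_le a)).op) a
  have hsurj : ∀ c : F.stalk x, ∃ (a : Γ(X, V)) (b : Γ(Z, W)), a ∉ P ∧ φ (g.app V a) * c = φ b := fun c => by
    obtain ⟨O, hxO, s, rfl⟩ := F.germ_exist c
    obtain ⟨a, haO, hxa⟩ := hV.exists_basicOpen_le ⟨x, hxO⟩ hxV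
    have ha : a ∉ P := (hmemP a).1 hxa
    let e : Z.basicOpen (g.app V a) ≤ g ⁻¹ᵁ O :=
      (Scheme.preimage_basicOpen g a).symm.le.trans (g.preimage_mono haO)
    haveI := hW.isLocalization_basicOpen (g.app V a)
    obtain ⟨⟨b, t, k, hk⟩, hb⟩ := IsLocalization.surj (Submonoid.powers (g.app V a))
      (Z.presheaf.map (homOfLE e).op s)
    refine ⟨a ^ k, b, fun h => ha ((hV.primeIdealOf ⟨x, hxV⟩).isPrime.mem_of_pow_mem k h), ?_⟩
    have hx' : x ∈ X.basicOpen a := hxa
    let ψ : Γ(Z, Z.basicOpen (g.app V a)) →+* F.stalk x :=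
      (F.germ (X.basicOpen a) x hx').hom.comp
        (Z.presheaf.map (homOfLE (Scheme.preimage_basicOpen g a).le).op).hom
    have hψ : ∀ (T : X.Opens) (hT : x ∈ T) (e : Z.basicOpen (g.app V a) ≤ g ⁻¹ᵁ T) (haT : X.basicOpen a ≤ T)
        (r : Γ(Z, g ⁻¹ᵁ T)), ψ (Z.presheaf.map (homOfLE e).op r) = F.germ T x hT r := fun T hT e haT r => by
      rw [← TopCat.Presheaf.germ_res_apply F (homOfLE haT) x hx' r]
      show F.germ (X.basicOpen a) x hx' (Z.presheaf.map (homOfLE (Scheme.preimage_basicOpen g a).le).op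
        (Z.presheaf.map (homOfLE e).op r)) = _
      refine congrArg (F.germ (X.basicOpen a) x hx') ?_
      exact (ConcreteCategory.congr_hom (Z.presheaf.map_comp (homOfLE e).op
        (homOfLE (Scheme.preimage_basicOpen g a).le).op) r).symm
    have hb' := congrArg ψ hb
    rw [map_mul, hψ O hxO e haO s] at hb'
    change _ * ψ (Z.presheaf.map (homOfLE (Z.basicOpen_le (g.app V a))).op t) =
      ψ (Z.presheaf.map (homOfLE (Z.basicOpen_le (g.app V a))).op b) at hb'
    rw [hψ V hxV _ (X.basicOpen_le a) t, hψ V hxV _ (X.basicOpen_le a) b] at hb'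
    rw [map_pow, mul_comm, show φ (g.app V a ^ k) = φ t from congrArg φ hk]
    exact hb'
  have key : ∀ I : Ideal (F.stalk x), I.IsMaximal → ∃ z, I = J z := fun I hI => by
    haveI := hI.isPrime
    have hIP : (I.comap φ).comap (algebraMap Γ(X, V) Γ(Z, W)) ≤ P := fun a ha => by
      by_contra h
      exact hI.ne_top (I.eq_top_of_isUnit_mem ha (hunit a h))
    obtain ⟨Q', hQ', hQp, hQc⟩ := Ideal.exists_ideal_over_prime_of_isIntegral P (I.comap φ) hIP
    let z : Z := hW.fromSpec ⟨Q', hQp⟩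
    have hzW : z ∈ W := hW.range_fromSpec.subset ⟨_, rfl⟩
    have hprime : hW.primeIdealOf ⟨z, hzW⟩ = ⟨Q', hQp⟩ :=
      hW.fromSpec.isOpenEmbedding.injective (hW.fromSpec_primeIdealOf ⟨z, hzW⟩)
    have hzx : g.base z = x := by
      have h1 : hV.primeIdealOf ⟨g.base z, hzW⟩ = hV.primeIdealOf ⟨x, hxV⟩ := by
        rw [← IsAffineOpen.comap_primeIdealOf_appLE V hV W hW le_rfl hzW, hprime]
        exact PrimeSpectrum.ext (by
          show Q'.comap (g.appLE V W le_rfl).hom = P
          rw [Scheme.Hom.appLE_eq_app]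
          exact hQc)
      have h2 := congrArg hV.fromSpec h1
      rwa [hV.fromSpec_primeIdealOf, hV.fromSpec_primeIdealOf] at h2
    haveI : (J ⟨z, hzx⟩).IsPrime := Ideal.comap_isPrime _ _
    refine ⟨⟨z, hzx⟩, hI.eq_of_le (Ideal.IsPrime.ne_top inferInstance) fun c hc => ?_⟩
    obtain ⟨a, b, ha, hab⟩ := hsurj c
    have hb : b ∈ Q' := hQ' (show φ b ∈ I from hab ▸ I.mul_mem_left _ hc)
    have hbJ : φ b ∈ J ⟨z, hzx⟩ := (hgerm ⟨z, hzx⟩ b).2 (by
      show b ∈ (hW.primeIdealOf ⟨z, hzW⟩).asIdeal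
      rw [hprime]
      exact hb)
    rw [← hab] at hbJ
    exact (Ideal.IsPrime.mem_or_mem inferInstance hbJ).resolve_left fun h =>
      (Ideal.IsPrime.ne_top inferInstance : J ⟨z, hzx⟩ ≠ ⊤) (Ideal.eq_top_of_isUnit_mem _ h (hunit a ha))
  have hinj : ∀ z z', Q z = Q z' → z = z' := fun z z' h => by
    have h1 : hW.primeIdealOf ⟨z.1, mem z⟩ = hW.primeIdealOf ⟨z'.1, mem z'⟩ := PrimeSpectrum.ext h
    have h2 := congrArg hW.fromSpec h1
    rw [hW.fromSpec_primeIdealOf, hW.fromSpec_primeIdealOf] at h2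
    exact Subtype.ext h2
  refine ⟨fun z _ => ?_, fun z _ z' _ h => hinj z z' ?_, fun I hI => ?_⟩
  · haveI : (J z).IsPrime := Ideal.comap_isPrime _ _
    obtain ⟨I, hI, hle⟩ := Ideal.exists_le_maximal (J z) (Ideal.IsPrime.ne_top inferInstance)
    obtain ⟨z', rfl⟩ := key I hI
    have hle' : Q z ≤ Q z' := fun b hb => (hgerm z' b).1 (hle ((hgerm z b).2 hb))
    have hQQ : Q z = Q z' := by
      by_contra hne
      obtain ⟨r, hr⟩ : ∃ r, r ∈ (Q z' : Set Γ(Z, W)) \ Q z :=
        let ⟨r, h1, h2⟩ := SetLike.exists_of_lt (lt_of_le_of_ne hle' hne)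
        ⟨r, h1, h2⟩
      exact (ne_of_lt (Ideal.comap_lt_comap_of_integral_mem_sdiff hle' hr
        (Algebra.IsIntegral.isIntegral (R := Γ(X, V)) r))) ((hQP z).trans (hQP z').symm)
    have hz := hinj z z' hQQ
    subst hz
    exact hI
  · refine Ideal.ext fun b => ?_
    rw [← hgerm, ← hgerm]
    exact iff_of_eq (congrArg (φ b ∈ ·) h)
  · obtain ⟨z, rfl⟩ := key I hI
    exact ⟨z, trivial, rfl⟩

end Groth.Agent.S15547
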