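import Groth.Statements.S15548
import Groth.Agent.CAlg26.TorMap

set_option autoImplicit false
universe u
open CategoryTheory
open CAlg

open TensorProduct

namespace Groth.Agent.S15548

/-- Let R be a Noetherian commutative ring, I an ideal of R and M a finitely generated R-module. Then
for every natural number n there is m ≥ n such that the map Tor_1^R(M, R/I^m) → Tor_1^R(M, R/I^n)
induced by the projection R/I^m → R/I^n is the zero map. Here Tor_1^R(M, -) is the first left
derived functor of M ⊗_R - (derived in the second variable). -/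
theorem result (R : Type u) [CommRing R] [IsNoetherianRing R] (I : Ideal R)
    (M : Type u) [AddCommGroup M] [Module R M] [Module.Finite R M] (n : ℕ) :
    ∃ m : ℕ, n ≤ m ∧ ∀ h : I ^ m ≤ I ^ n,
      ((CategoryTheory.Tor (ModuleCat.{u} R) 1).obj (ModuleCat.of R M)).map
        (ModuleCat.ofHom (Submodule.factor h)) = 0 := by
  obtain ⟨r, π, hπ⟩ := Module.Finite.exists_fin' R M
  let K := LinearMap.ker π
  obtain ⟨k, hk⟩ := Ideal.exists_pow_inf_eq_pow_smul I K
  refine ⟨n + k, Nat.le_add_right _ _, fun h => ?_⟩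
  refine CAlg26.tor_one_map_eq_zero (ι := K.subtype) (π := π) K.injective_subtype
    (LinearMap.exact_subtype_ker_map π) hπ (S := ModuleCat.of R (R ⧸ I ^ (n + k)))
    (S' := ModuleCat.of R (R ⧸ I ^ n)) (ModuleCat.ofHom (Submodule.factor h)) fun y hy => ?_
  obtain ⟨q, rfl⟩ := (TensorProduct.tensorQuotEquivQuotSMul K (I ^ (n + k))).symm.surjective y
  obtain ⟨x, rfl⟩ := Submodule.Quotient.mk_surjective _ q
  rw [TensorProduct.tensorQuotEquivQuotSMul_symm_mk] at hy ⊢
  have hy' : (x : Fin r → R) ⊗ₜ[R] (1 : R ⧸ I ^ (n + k)) = 0 := hy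
  rw [← TensorProduct.tensorQuotEquivQuotSMul_symm_mk, LinearEquiv.map_eq_zero_iff,
    Submodule.Quotient.mk_eq_zero] at hy'
  have hmem : (x : Fin r → R) ∈ I ^ (n + k - k) • (I ^ k • ⊤ ⊓ K) :=
    hk (n + k) (Nat.le_add_left _ _) ▸ ⟨hy', x.2⟩
  rw [Nat.add_sub_cancel] at hmem
  have hx : x ∈ I ^ n • (⊤ : Submodule R K) := by
    have h1 : (x : Fin r → R) ∈ I ^ n • K := Submodule.smul_mono le_rfl inf_le_right hmem
    have e : I ^ n • K = (I ^ n • (⊤ : Submodule R K)).map K.subtype := by
      rw [Submodule.map_smul'', Submodule.map_subtype_top]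
    obtain ⟨z, hz, hzx⟩ := Submodule.mem_map.1 (e ▸ h1)
    exact (K.injective_subtype hzx) ▸ hz
  show x ⊗ₜ[R] (1 : R ⧸ I ^ n) = 0
  rw [← TensorProduct.tensorQuotEquivQuotSMul_symm_mk, (Submodule.Quotient.mk_eq_zero _).2 hx, map_zero]

end Groth.Agent.S15548
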