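import Groth.Statements.S15553
import Groth.Agent.Fib44.Sections
-- import your own Groth.Agent.* helpers here

set_option autoImplicit false
universe v₁ v₂ v₃ u₁ u₂ u₃
open CategoryTheory
open FibCat

namespace Groth.Agent.S15553

set_option backward.isDefEq.respectTransparency false in
set_option backward.isDefEq.respectTransparency.types false in

/-- Let f : C ⥤ D be a fibred category such that every fibre of f is non-empty and has trivial
fundamental groupoid in the sense that for every groupoid G the constant-functor functor G ⥤ (f⁻¹(Y)
⥤ G) is an equivalence; let p : F ⥤ D be a category fibred in groupoids over D. Then restriction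
along f, from sections of F over D (functors D ⥤ F over D, with natural transformations over
identities) to sections of F over the diagram f (functors C ⥤ F over D), is an equivalence of
categories. (The published statement allows any fibred category F with its cartesian sections; this
row takes F fibred in groupoids, where every arrow is cartesian and every section is a cartesian
section. The test groupoids G are taken with objects and morphisms in a universe level containing
all the categories involved.) -/
theorem result
    {C : Type u₁} [Category.{v₁} C] {D : Type u₂} [Category.{v₂} D] {F : Type u₃} [Category.{v₃} F]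
    (f : C ⥤ D) [f.IsFibered] (p : F ⥤ D) [FibCat.IsFibGrpd p]
    (hf : ∀ Y : D, W4c2modmodulilect.HasContractibleNerve.{max u₁ u₂ u₃ v₁ v₂ v₃, max u₁ u₂ u₃ v₁ v₂ v₃} (f.Fiber Y)) :
    (Stk.restr (FibCat.toSelf (BasedCategory.ofFunctor f)) (BasedCategory.ofFunctor p)).IsEquivalence := by
  have hφ : ∀ Y : D, W4c2modmodulilect.HasContractibleNerve.{max u₁ u₂ u₃ v₁ v₂ v₃,
      max u₁ u₂ u₃ v₁ v₂ v₃} (StructuredArrow Y f) := fun Y =>
    have := Fib44.isLeftAdjoint_fibreArrow f Y
    Fib44.contractible_of_isLeftAdjoint (Fib44.fibreArrow f Y) (hf Y)
  exact Fib44.restr_toSelf_isEquivalence f p inferInstance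
    (fun Y => Fib44.isConnected_of_contractible (hφ Y))
    (fun G hG Y => Fib44.nonempty_liftCone.{max u₁ u₂ v₁ v₂} inferInstance hG Y (hφ Y))

end Groth.Agent.S15553
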