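import Groth.Statements.S15554
import Groth.Agent.Var76.HypSection
import Groth.Agent.Var76.RegSmooth

set_option autoImplicit false
universe u
open CategoryTheory CategoryTheory.Limits AlgebraicGeometry
open SmVar

namespace Groth.Agent.S15554

open scoped TensorProduct
open Groth.Agent.Var76
set_option backward.isDefEq.respectTransparency false

/-- Let k be an infinite field and X ⊆ P^n_k a smooth projective variety, given as an integral scheme X
with a closed immersion ι into projective n-space over k through which X is smooth over k. Then X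
has a smooth hyperplane section defined over k: there is a global section s of the twisting sheaf
O(1) on P^n_k whose zero scheme H, a hyperplane defined over k, does not contain X and for which the
scheme-theoretic intersection X ∩ H = X ×_{P^n_k} H is smooth over k. (The published statement also
records that X ∩ H has dimension dim X − 1; that is automatic once X is integral and not contained
in H, so this row states smoothness together with X ⊄ H.) -/
theorem result (k : Type u) [Field k] [Infinite k] (n : ℕ)
    (X : Scheme.{u}) [IsIntegral X] (ι : X ⟶ CohB1.ProjSpace n k) [IsClosedImmersion ι]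
    [Smooth (ι ≫ CohB1.ProjSpace.toSpec n k)] :
    ∃ s : Coh.structureModule (CohB1.ProjSpace n k) ⟶ Twist.twistProjSpace n k 1,
      (∃ x : ↥X, ι.base x ∉ (PicF2.zeroScheme (Twist.twistProjSpace n k 1) s).support) ∧
      Smooth (pullback.fst ι (PicF2.zeroScheme (Twist.twistProjSpace n k 1) s).subschemeι ≫ ι ≫
        CohB1.ProjSpace.toSpec n k) := by
  classical
  let : X.Over (Spec (CommRingCat.of k)) := ⟨ι ≫ CohB1.ProjSpace.toSpec n k⟩
  have hι : ι ≫ CohB1.ProjSpace.toSpec n k = X ↘ Spec (CommRingCat.of k) := rfl
  have : Smooth (X ↘ Spec (CommRingCat.of k)) := ‹Smooth (ι ≫ CohB1.ProjSpace.toSpec n k)›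
  let W : Fin (n + 1) → X.Opens := fun j => ι ⁻¹ᵁ ProjCoord.U k n j
  have hW : ∀ j, IsAffineOpen (W j) := fun j => (ProjCoord.isAffineOpen_U k n j).preimage ι
  have hsm : ∀ j, letI := (BertiniScheme.const (k := k) X (W j)).toAlgebra
      Algebra.Smooth k Γ(X, W j) := fun j => by
    let : Algebra k Γ(X, W j) := (BertiniScheme.const (k := k) X (W j)).toAlgebra
    have h1 : Smooth ((hW j).fromSpec ≫ X ↘ Spec (CommRingCat.of k)) := by
      have : IsOpenImmersion (hW j).fromSpec := IsAffineOpen.isOpenImmersion_fromSpec (hW j)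
      infer_instance
    rw [← BertiniScheme.SpecMap_const (hW j), HasRingHomProperty.Spec_iff (P := @Smooth)] at h1
    exact RingHom.smooth_algebraMap.1 h1
  choose q hq0 hq using fun j => HypSection.exists_poly_chart ι hι j (hsm j)
  obtain ⟨q₀, hq₀, hpt⟩ := HypSection.exists_poly_point ι hι
  obtain ⟨c, hc⟩ : ∃ c : Fin (n + 1) → k, MvPolynomial.eval c (q₀ * ∏ j, q j) ≠ 0 := by
    by_contra hall
    push Not at hall
    exact mul_ne_zero hq₀ (Finset.prod_ne_zero_iff.2 fun j _ => hq0 j)
      (MvPolynomial.funext fun c => by rw [hall c, map_zero])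
  let h : CohB1.polyGrading n k 1 := ⟨∑ i, c i • MvPolynomial.X i,
    Submodule.sum_mem _ fun i _ => Submodule.smul_mem _ _ (MvPolynomial.isHomogeneous_X k i)⟩
  have hcoeffs : HypSection.coeffs h = c := by
    funext i
    simp [HypSection.coeffs, h, MvPolynomial.coeff_sum, MvPolynomial.coeff_X, Finsupp.single_left_inj]
  rw [map_mul, map_prod, mul_ne_zero_iff, Finset.prod_ne_zero_iff] at hc
  refine ⟨ProjFrame.sectHom (CohB1.polyGrading n k) h, ?_, ?_⟩
  · obtain ⟨j, x, -, hx⟩ := hpt h (by rw [hcoeffs]; exact hc.1)
    exact ⟨x, HypSection.notMem_of_mem_basicOpen ι j h hx⟩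
  · set Z := PicF2.zeroScheme (Twist.twistProjSpace n k 1) (ProjFrame.sectHom (CohB1.polyGrading n k) h)
    have : MorphismProperty.RespectsIso @Smooth := MorphismProperty.IsStableUnderBaseChange.respectsIso
    rw [← reassoc_of% (Z.comapIso_inv_subschemeι ι), MorphismProperty.cancel_left_of_respectsIso @Smooth]
    set I := Z.comap ι
    have : IsZariskiLocalAtSource @Smooth := HasRingHomProperty.instIsZariskiLocalAtSource (Q := RingHom.Smooth)
    rw [IsZariskiLocalAtSource.iff_of_iSup_eq_top (P := @Smooth)
      (fun j => I.subschemeι ⁻¹ᵁ W j) (by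
        rw [eq_top_iff]
        intro z _
        obtain ⟨j, hj⟩ := ProjCoord.exists_mem_U k n (ι (I.subschemeι z))
        exact TopologicalSpace.Opens.mem_iSup.2 ⟨j, hj⟩)]
    intro j
    let V : X.affineOpens := ⟨W j, hW j⟩
    have : IsOpenImmersion (I.subschemeCover.f V) := I.subschemeCover.openCover.map_prop V
    show Smooth (Scheme.Opens.ι (I.subschemeι ⁻¹ᵁ V.1) ≫ I.subschemeι ≫ (X ↘ Spec (CommRingCat.of k)))
    rw [← I.opensRange_subschemeCover_map V, ← MorphismProperty.cancel_left_of_respectsIso
      @Smooth (I.subschemeCover.f V).isoOpensRange.hom, Scheme.Hom.isoOpensRange_hom_ι_assoc,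
      reassoc_of% (I.subschemeCover_map_subschemeι V)]
    let : Algebra k Γ(X, W j) := (BertiniScheme.const (k := k) X (W j)).toAlgebra
    have := hsm j
    have h2 := BertiniAlg.smooth_quotient (k := k) (ProjCoord.coord ι j h) fun m _ hm =>
      hq j h (by rw [hcoeffs]; exact hc.2 j (Finset.mem_univ j)) m hm
    rw [← HypSection.ideal_section ι j h] at h2
    have h1 : Smooth (Spec.map (CommRingCat.ofHom ((Ideal.Quotient.mk (I.ideal V)).comp
        (BertiniScheme.const (k := k) X (W j))))) := by
      rw [HasRingHomProperty.Spec_iff (P := @Smooth)]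
      exact RingHom.smooth_algebraMap.2 h2
    rw [CommRingCat.ofHom_comp, Spec.map_comp, BertiniScheme.SpecMap_const (hW j)] at h1
    have e := I.glueDataObjι_ι V
    rw [← Category.assoc, show I.glueDataObjι V ≫ V.1.ι = Spec.map (CommRingCat.ofHom (Ideal.Quotient.mk (I.ideal V))) ≫ V.2.fromSpec from e, Category.assoc]
    exact h1

end Groth.Agent.S15554
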