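import Groth.Statements.S15556
import Groth.Agent.S1868
import Groth.Agent.Cyc90.RatPush
import Groth.Agent.Cyc90.Dev.MapAll
import Mathlib.AlgebraicGeometry.Morphisms.UniversallyInjective
import Mathlib.FieldTheory.PurelyInseparable.Basic
-- import your own Groth.Agent.* helpers here

set_option autoImplicit false
set_option backward.isDefEq.respectTransparency.types false
set_option linter.style.haveILetI false
set_option linter.unusedVariables false
universe u
open CategoryTheory AlgebraicGeometry
open CategoryTheory.Limits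
open Cyc

namespace Groth.Agent.S15556

open Groth.Agent.Cyc90 Groth.Agent.Cyc90.Dev

/-- The spectrum of a purely inseparable extension is universally injective over the field. -/
theorem universallyInjective_spec (k E : Type u) [Field k] [Field E] [Algebra k E] [IsPurelyInseparable k E] :
    UniversallyInjective (Spec.map (CommRingCat.ofHom (algebraMap k E))) := by
  refine ((tfae_universallyInjective (f := Spec.map (CommRingCat.ofHom (algebraMap k E)))).out 0 1).2 fun K i g₁ g₂ h => ?_
  letI : Field K := i
  obtain ⟨a, rfl⟩ := Spec.map_surjective g₁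
  obtain ⟨b, rfl⟩ := Spec.map_surjective g₂
  have h' := congrArg CommRingCat.Hom.hom (Spec.map_injective (show Spec.map (CommRingCat.ofHom (algebraMap k E) ≫ a) =
    Spec.map (CommRingCat.ofHom (algebraMap k E) ≫ b) by rw [Spec.map_comp, Spec.map_comp]; exact h))
  exact congrArg Spec.map (CommRingCat.hom_ext (IsPurelyInseparable.injective_comp_algebraMap k E K h'))

/-- Cycles rationally equivalent to zero have class zero, and conversely. -/
theorem cl_eq_zero_iff {X : Scheme.{u}} {δ : X → ℤ} (hX : Cyc.IsSetup X δ) {i : ℤ} {α : AlgebraicCycle X ℤ}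
    (hα : α ∈ Cyc.Zk X δ i) : ChowOps.cl α hα = 0 ↔ Cyc.RatEquivZero δ i α := by
  rw [ChowOps.cl, ChowOps.clHom, QuotientAddGroup.mk'_apply, QuotientAddGroup.eq_zero_iff]
  refine ⟨fun h => ?_, fun h => AddSubgroup.subset_closure h⟩
  exact (AddSubgroup.closure_le (K := (ratZ hX i).comap (ChowOps.zk X δ i).subtype)).2 (fun a ha => ha) h

/-- Let k be a field of characteristic p > 0, E a finite purely inseparable field extension of k, X a
separated scheme of finite type over k, X' = X ×_k E with projection f : X' → X (any pullback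
square), δ a dimension function on X making (X, δ) a cycle setup (X locally Noetherian with
universally catenary local rings) and δ' the induced dimension function on X' (so (X', δ') is a
cycle setup and δ' is compatible with δ along f, which has relative dimension 0). Then flat pullback
of cycles along f induces a bijection of Chow groups of i-cycles after inverting p, in the following
two-sided sense: for every i-cycle β on X' there are an i-cycle α on X, an i-cycle α' on X' with the
flat-pullback coefficients of α, and an exponent s with [α'] = p^s · [β] in CH_i(X'); and for every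
i-cycle α on X and every i-cycle α' on X' with the flat-pullback coefficients of α, if [α'] = 0 in
CH_i(X') then p^s · [α] = 0 in CH_i(X) for some s. (The published statement allows an arbitrary
purely inseparable extension E of k; this row takes E finite over k, the case the printed argument
carries out.) -/
theorem result (k E : Type u) [Field k] [Field E] [Algebra k E] (p : ℕ) [Fact p.Prime] [CharP k p] [Module.Finite k E] [IsPurelyInseparable k E] (X X' : Scheme.{u}) (g : X ⟶ Spec (CommRingCat.of k)) [IsSeparated g] [LocallyOfFiniteType g] [QuasiCompact g] (f : X' ⟶ X) (g' : X' ⟶ Spec (CommRingCat.of E)) (hsq : IsPullback f g' g (Spec.map (CommRingCat.ofHom (algebraMap k E)))) (δ : X → ℤ) (δ' : X' → ℤ) (hX : Cyc.IsSetup X δ) (hX' : Cyc.IsSetup X' δ') (hδ : Cyc.DeltaCompat f δ' δ) (i : ℤ) : (∀ (β : AlgebraicCycle X' ℤ) (hβ : β ∈ Cyc.Zk X' δ' i), ∃ (α : AlgebraicCycle X ℤ) (hα : α ∈ Cyc.Zk X δ i) (α' : AlgebraicCycle X' ℤ) (hα' : α' ∈ Cyc.Zk X' δ' i) (s : ℕ), ⇑α' = Cyc.pullFun f δ' δ 0 ⇑α ∧ ChowOps.cl α' hα' = p ^ s • ChowOps.cl β hβ)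 ∧ (∀ (α : AlgebraicCycle X ℤ) (hα : α ∈ Cyc.Zk X δ i) (α' : AlgebraicCycle X' ℤ) (hα' : α' ∈ Cyc.Zk X' δ' i), ⇑α' = Cyc.pullFun f δ' δ 0 ⇑α → ChowOps.cl α' hα' = 0 → ∃ s : ℕ, p ^ s • ChowOps.cl α hα = 0) := by
  let a := Spec.map (CommRingCat.ofHom (algebraMap k E))
  haveI : IsFinite a := by
    rw [IsFinite.SpecMap_iff]
    exact RingHom.finite_algebraMap.2 inferInstance
  haveI : Flat a := by
    rw [HasRingHomProperty.Spec_iff (P := @Flat)]
    exact RingHom.flat_algebraMap_iff.2 inferInstance
  haveI := universallyInjective_spec k E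
  haveI : IsFinite f := MorphismProperty.of_isPullback (P := @IsFinite) hsq.flip inferInstance
  haveI : Flat f := MorphismProperty.of_isPullback (P := @Flat) hsq.flip inferInstance
  haveI : UniversallyInjective f := MorphismProperty.of_isPullback (P := @UniversallyInjective) hsq.flip inferInstance
  haveI : ExpChar k p := ExpChar.prime Fact.out
  obtain ⟨e, he⟩ := IsPurelyInseparable.finrank_eq_pow (F := k) E p
  have hd : ∀ x : X, f.finrank x = p ^ e := fun x => by
    rw [Scheme.Hom.finrank_of_isPullback g' f a g hsq.flip x, Scheme.Hom.finrank_SpecMap_algebraMap,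
      Module.rankAtStalk_eq_finrank_of_free]
    exact he
  obtain ⟨-, hpush⟩ := Groth.Agent.S1868.result X' X δ' δ hX' hX f (p ^ e) hd hδ i
  haveI := hX.1
  have hδeq : ∀ x, δ' x = δ (f x) := fun x => delta_eq_of_quasiFinite f hδ x
  have hc : ShiftAt f δ' δ 0 := fun x _ => by rw [hδeq x, add_zero]
  refine ⟨fun β hβ => ?_, fun α hα α' hα' hcoe h0 => ?_⟩
  · let α := mapHom f δ' δ β
    have hα : α ∈ Cyc.Zk X δ i := mapHom_mem f hβ
    let α' := pullCycle f hX' hc α
    have hcoe : ⇑α' = Cyc.pullFun f δ' δ 0 ⇑α := coe_pullHom f hX' hc α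
    have heq : α' = (p ^ e) • β := by
      ext x
      obtain ⟨-, hne, hsum⟩ := finite_flat_fibre f (f x)
      have hfib : f ⁻¹' {f x} = {x} := Set.ext fun z => ⟨fun hz => f.injective hz, fun hz => by rw [hz]; rfl⟩
      rw [hfib, finsum_mem_singleton, hd] at hsum
      rw [hcoe, Cyc.pullFun, if_pos (by rw [hδeq, add_zero])]
      show AlgebraicCycle.map f δ' δ β (f x) * _ = _
      rw [map_apply_eq, hfib, finsum_mem_singleton, if_pos (hδeq x),
        Function.locallyFinsuppWithin.coe_nsmul, Pi.smul_apply, nsmul_eq_mul, ← hsum]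
      push_cast
      ring
    have hα' : α' ∈ Cyc.Zk X' δ' i := heq ▸ (zkSub δ' i).nsmul_mem hβ _
    refine ⟨α, hα, α', hα', e, hcoe, ?_⟩
    unfold ChowOps.cl
    rw [← map_nsmul]
    exact congrArg _ (Subtype.ext heq)
  · refine ⟨e, ?_⟩
    have h1 := ratEquivZero_map hX' hX f hδ ((cl_eq_zero_iff hX' hα').1 h0)
    rw [hpush α hα α' hcoe] at h1
    have h2 := (cl_eq_zero_iff hX ((zkSub δ i).nsmul_mem hα _)).2 h1
    unfold ChowOps.cl at h2 ⊢
    rw [← map_nsmul]
    exact (congrArg _ (Subtype.ext rfl)).trans h2

end Groth.Agent.S15556
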