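import Groth.Statements.S15557


set_option autoImplicit false
universe v u
open CategoryTheory
open CohDer

open CategoryTheory.Limits
namespace Groth.Agent.S15557

open CategoryTheory.Pretriangulated in
/-- Let T = (X, Y, Z) and T' = (X', Y', Z') be distinguished triangles in a pretriangulated category and
assume that every morphism X → Z' and every morphism X → Z'[-1] is zero. Then composing with the
first map X' → Y' of T' is a bijection Hom(X, X') → Hom(X, Y'), and composing with the second map Y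
→ Z of T is a bijection Hom(Z, Z') → Hom(Y, Z'). (The published lemma is for triangulated
categories; the octahedral axiom plays no role.) -/
theorem result {D : Type u} [Category.{v} D] [Preadditive D]
    [Limits.HasZeroObject D] [HasShift D ℤ] [∀ n : ℤ, (shiftFunctor D n).Additive] [Pretriangulated D]
    (T T' : Triangle D) (hT : T ∈ distinguishedTriangles) (hT' : T' ∈ distinguishedTriangles)
    (hXZ : ∀ u : T.obj₁ ⟶ T'.obj₃, u = 0)
    (hXZ' : ∀ u : T.obj₁ ⟶ (shiftFunctor D (-1 : ℤ)).obj T'.obj₃, u = 0) :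
    Function.Bijective (fun u : T.obj₁ ⟶ T'.obj₁ => u ≫ T'.mor₁) ∧
      Function.Bijective (fun w : T.obj₃ ⟶ T'.obj₃ => T.mor₂ ≫ w) := by
  refine ⟨⟨fun u u' h => ?_, fun v => ?_⟩, ⟨fun u u' h => ?_, fun v => ?_⟩⟩
  · obtain ⟨a, ha⟩ := Pretriangulated.Triangle.coyoneda_exact₂ _ (Pretriangulated.inv_rot_of_distTriang _ hT') (u - u')
      (by
        change (u - u') ≫ T'.mor₁ = 0
        rw [Preadditive.sub_comp, sub_eq_zero]; exact h)
    rw [← sub_eq_zero, ha, show a = 0 from hXZ' a]; exact zero_comp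
  · obtain ⟨a, ha⟩ := Pretriangulated.Triangle.coyoneda_exact₂ _ hT' v (hXZ _)
    exact ⟨a, ha.symm⟩
  · obtain ⟨a, ha⟩ := Pretriangulated.Triangle.yoneda_exact₃ _ hT (u - u')
      (by rw [Preadditive.comp_sub, sub_eq_zero]; exact h)
    let b : T.obj₁ ⟶ T'.obj₃⟦(-1 : ℤ)⟧ := (shiftShiftNeg T.obj₁ (1 : ℤ)).inv ≫ a⟦(-1 : ℤ)⟧'
    have hb : b = 0 := hXZ' b
    have : a = 0 := (shiftFunctor D (-1 : ℤ)).map_injective (by
      rw [Functor.map_zero, ← cancel_epi (shiftShiftNeg T.obj₁ (1 : ℤ)).inv, comp_zero]; exact hb)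
    rw [← sub_eq_zero, ha, this, comp_zero]
  · obtain ⟨a, ha⟩ := Pretriangulated.Triangle.yoneda_exact₂ _ hT v (hXZ _)
    exact ⟨a, ha.symm⟩

end Groth.Agent.S15557
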