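import Groth.Statements.S15558
import Mathlib

set_option autoImplicit false
set_option backward.isDefEq.respectTransparency false
universe u v
open CategoryTheory AlgebraicGeometry
open Lim

namespace Groth.Agent.S15558


namespace Cofin

open Opposite TopologicalSpace

variable {Λ : Type v} [PartialOrder Λ] (X : Λᵒᵖ ⥤ Scheme.{u})

/-- the transition map -/
abbrev tr {ν μ : Λ} (h : ν ≤ μ) : X.obj (op μ) ⟶ X.obj (op ν) := X.map (homOfLE h).op

lemma tr_refl (μ : Λ) : tr X (le_refl μ) = 𝟙 _ := X.map_id _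

lemma tr_comp {ρ ν μ : Λ} (h : ρ ≤ ν) (h' : ν ≤ μ) : tr X h' ≫ tr X h = tr X (h.trans h') :=
  (X.map_comp _ _).symm

variable (hΛ : ∀ l : Λ, (Set.Iic l).Finite)

/-- the open of `X_ν` still to be covered, given the choices below `ν` -/
def toCover (ν : Λ) (g : ∀ ρ : Set.Iio ν, (X.obj (op ρ.1)).affineOpens) :
    (X.obj (op ν)).Opens :=
  haveI : Finite (Set.Iio ν) := ((hΛ ν).subset Set.Iio_subset_Iic_self).to_subtype
  ⟨⋂ ρ, (tr X ρ.2.le).base ⁻¹' ((g ρ).1 : Set _),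
    isOpen_iInter_of_finite fun ρ => (g ρ).1.2.preimage (tr X ρ.2.le).base.hom.continuous⟩

variable (s : ∀ ν, (X.obj (op ν)).Opens → Set (X.obj (op ν)).affineOpens)

/-- compatible choices below `μ` -/
def Fam (μ : Λ) : Type (max u v) :=
  {f : ∀ ν : Set.Iic μ, (X.obj (op ν.1)).affineOpens //
    ∀ ν : Set.Iic μ, f ν ∈ s ν.1 (toCover X hΛ ν.1 fun ρ => f ⟨ρ.1, ρ.2.le.trans ν.2⟩)}

variable {X hΛ s}

/-- restriction of choices -/
def Fam.res {ν μ : Λ} (h : ν ≤ μ) (f : Fam X hΛ s μ) : Fam X hΛ s ν :=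
  ⟨fun ρ => f.1 ⟨ρ.1, ρ.2.trans h⟩, fun ρ => f.2 ⟨ρ.1, ρ.2.trans h⟩⟩

/-- the chosen open -/
def Fam.top {μ : Λ} (f : Fam X hΛ s μ) : (X.obj (op μ)).affineOpens := f.1 ⟨μ, le_refl _⟩

variable (hsfin : ∀ ν W, (s ν W).Finite) (hsle : ∀ ν W U, U ∈ s ν W → U.1 ≤ W)

include hsfin in
lemma finite_fam (μ : Λ) : Finite (Fam X hΛ s μ) := by
  have hwf : ∀ n, ∀ μ : Λ, (hΛ μ).toFinset.card = n → Finite (Fam X hΛ s μ) := by
    intro n
    induction n using Nat.strong_induction_on with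
    | _ n ih =>
      intro μ hn
      haveI : Finite (Set.Iio μ) := ((hΛ μ).subset Set.Iio_subset_Iic_self).to_subtype
      have hρ : ∀ ρ : Set.Iio μ, Finite (Fam X hΛ s ρ.1) := by
        intro ρ
        refine ih _ ?_ ρ.1 rfl
        rw [← hn]
        refine Finset.card_lt_card (Set.Finite.toFinset_ssubset_toFinset.2 ?_)
        exact ⟨Set.Iic_subset_Iic.2 ρ.2.le, fun h => ρ.2.not_ge (h (le_refl μ : μ ∈ Set.Iic μ))⟩
      haveI : ∀ W, Finite (s μ W) := fun W => (hsfin μ W).to_subtype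
      refine Finite.of_injective (β := Σ g : (∀ ρ : Set.Iio μ, Fam X hΛ s ρ.1),
          s μ (toCover X hΛ μ fun ρ => (g ρ).top))
        (fun f => ⟨fun ρ => f.res ρ.2.le, ⟨f.top, f.2 ⟨μ, le_refl _⟩⟩⟩) ?_
      intro f f' h
      refine Subtype.ext (funext fun ν => ?_)
      rcases eq_or_lt_of_le (show ν.1 ≤ μ from ν.2) with h' | h'
      · obtain ⟨ν, hν⟩ := ν
        change ν = μ at h'
        subst h'
        exact congrArg (fun p => (p.2 : (X.obj (op ν)).affineOpens)) h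
      · exact congrArg (fun p : (Σ g : (∀ ρ : Set.Iio μ, Fam X hΛ s ρ.1),
          s μ (toCover X hΛ μ fun ρ => (g ρ).top)) => (p.1 ⟨ν.1, h'⟩).top) h
  exact hwf _ μ rfl

include hsle in
lemma top_le {ν μ : Λ} (h : ν ≤ μ) (f : Fam X hΛ s μ) :
    f.top.1 ≤ (tr X h) ⁻¹ᵁ (f.res h).top.1 := by
  intro x hx
  rcases eq_or_lt_of_le h with rfl | h'
  · change (tr X (le_refl ν)).base x ∈ f.top.1
    rw [tr_refl]
    exact hx
  · exact Set.mem_iInter.1 (hsle _ _ _ (f.2 ⟨μ, le_refl _⟩) hx) ⟨ν, h'⟩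

variable (hscov : ∀ (ν : Λ) (g : ∀ ρ : Set.Iio ν, (X.obj (op ρ.1)).affineOpens) x,
  x ∈ toCover X hΛ ν g → ∃ U ∈ s ν (toCover X hΛ ν g), x ∈ U.1)

include hscov in
lemma exists_fam {μ : Λ} (x : X.obj (op μ)) : ∃ f : Fam X hΛ s μ, x ∈ f.top.1 := by
  haveI : Finite (Set.Iic μ) := (hΛ μ).to_subtype
  have hwf : WellFounded ((· < ·) : Set.Iic μ → Set.Iic μ → Prop) := Finite.to_wellFoundedLT.wf
  let step : ∀ ν : Set.Iic μ, (∀ ρ : Set.Iic μ, ρ < ν →
      {U : (X.obj (op ρ.1)).affineOpens // (tr X ρ.2).base x ∈ U.1}) →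
      {U : (X.obj (op ν.1)).affineOpens // (tr X ν.2).base x ∈ U.1} := fun ν ih =>
    have h : (tr X ν.2).base x ∈ toCover X hΛ ν.1
        (fun ρ => (ih ⟨ρ.1, ρ.2.le.trans ν.2⟩ ρ.2).1) := Set.mem_iInter.2 fun ρ => by
      have h1 := (ih ⟨ρ.1, ρ.2.le.trans ν.2⟩ ρ.2).2
      have h2 : (tr X (ρ.2.le.trans ν.2)).base x = (tr X ρ.2.le).base ((tr X ν.2).base x) :=
        (congrArg (fun q : X.obj (op μ) ⟶ X.obj (op ρ.1) => q.base x) (tr_comp X ρ.2.le ν.2)).symm
      exact Eq.mp (congrArg (· ∈ ((ih ⟨ρ.1, ρ.2.le.trans ν.2⟩ ρ.2).1.1 : Set _)) h2) h1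
    ⟨(hscov _ _ _ h).choose, (hscov _ _ _ h).choose_spec.2⟩
  refine ⟨⟨fun ν => (hwf.fix step ν).1, fun ν => ?_⟩, ?_⟩
  · change (hwf.fix step ν).1 ∈ _
    rw [hwf.fix_eq step ν]
    dsimp only [step]
    exact (Exists.choose_spec (_ : ∃ U, U ∈ s ν.1 _ ∧ _)).1
  · have h1 := (hwf.fix step ⟨μ, le_refl μ⟩).2
    have h2 : (tr X (le_refl μ)).base x = x :=
      congrArg (fun q : X.obj (op μ) ⟶ X.obj (op μ) => q.base x) (tr_refl X μ)
    exact Eq.mp (congrArg (· ∈ ((hwf.fix step ⟨μ, le_refl μ⟩).1.1 : Set _)) h2) h1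

end Cofin

/-- Let Λ be a cofinite partially ordered set (every element has finitely many elements below it; Λ need
not be directed) and X : Λᵒᵖ ⥤ Scheme an inverse system of quasi-compact quasi-separated schemes.
Then there exist an inverse system Y : Λᵒᵖ ⥤ Scheme of affine schemes and a morphism of inverse
systems π : Y ⟶ X such that each π_λ : Y_λ → X_λ is a Zariski covering: it is surjective and Y_λ is
covered by pairwise disjoint open subschemes each of which maps to X_λ by an open immersion. (The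
published statement is for schemes over a fixed perfect field; the base field plays no role, and the
version for schemes over a base follows by composing with the structure morphisms.) -/
theorem result {Λ : Type v} [PartialOrder Λ]
    (hΛ : ∀ l : Λ, (Set.Iic l).Finite) (X : Λᵒᵖ ⥤ Scheme.{u})
    (hqc : ∀ l : Λ, CompactSpace ↥(X.obj (Opposite.op l)))
    (hqs : ∀ l : Λ, QuasiSeparatedSpace ↥(X.obj (Opposite.op l))) :
    ∃ (Y : Λᵒᵖ ⥤ Scheme.{u}) (π : Y ⟶ X), ∀ l : Λ,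
      IsAffine (Y.obj (Opposite.op l)) ∧ Surjective (π.app (Opposite.op l)) ∧
        ∃ (ι : Type u) (U : ι → (Y.obj (Opposite.op l)).Opens),
          Pairwise (fun i j => Disjoint (U i) (U j)) ∧ iSup U = ⊤ ∧
            ∀ i, IsOpenImmersion ((U i).ι ≫ π.app (Opposite.op l)) := by
  open Cofin Opposite in
  have hqcopen : ∀ (ν : Λ) (g : ∀ ρ : Set.Iio ν, (X.obj (op ρ.1)).affineOpens),
      IsCompact (toCover X hΛ ν g : Set (X.obj (op ν))) := by
    intro ν g
    haveI := hqc ν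
    haveI := hqs ν
    haveI : Finite (Set.Iio ν) := ((hΛ ν).subset Set.Iio_subset_Iic_self).to_subtype
    change IsCompact (⋂ ρ : Set.Iio ν, (tr X ρ.2.le).base ⁻¹' ((g ρ).1 : Set _))
    rw [← Set.sInter_range]
    refine QuasiSeparatedSpace.isCompact_sInter (Set.finite_range _)
      (Set.forall_mem_range.2 fun ρ => Or.inl ((g ρ).1.2.preimage (tr X ρ.2.le).base.hom.continuous))
      (Set.forall_mem_range.2 fun ρ => ?_)
    haveI := hqs ρ.1
    exact (tr X ρ.2.le).isCompact_preimage (g ρ).2.isCompact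
  open Cofin Opposite in
  obtain ⟨s, hsfin, hsle, hscov⟩ : ∃ s : ∀ ν, (X.obj (op ν)).Opens → Set (X.obj (op ν)).affineOpens,
      (∀ ν W, (s ν W).Finite) ∧ (∀ ν W U, U ∈ s ν W → U.1 ≤ W) ∧
      ∀ (ν : Λ) (g : ∀ ρ : Set.Iio ν, (X.obj (op ρ.1)).affineOpens) x,
        x ∈ toCover X hΛ ν g → ∃ U ∈ s ν (toCover X hΛ ν g), x ∈ U.1 := by
    have h : ∀ ν (W : (X.obj (op ν)).Opens), ∃ t : Set (X.obj (op ν)).affineOpens, t.Finite ∧
        (∀ U ∈ t, U.1 ≤ W) ∧ (IsCompact (W : Set (X.obj (op ν))) → ∀ x ∈ W, ∃ U ∈ t, x ∈ U.1) := by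
      intro ν W
      by_cases hW : IsCompact (W : Set (X.obj (op ν)))
      · obtain ⟨t, ht, hsup⟩ := (isCompact_and_isOpen_iff_finite_and_eq_biUnion_affineOpens (U := (W : Set (X.obj (op ν))))).mp ⟨hW, W.2⟩
        refine ⟨t, ht, fun U hU x hx => ?_, fun _ x hx => ?_⟩
        · show x ∈ (W : Set _)
          rw [hsup]
          exact Set.mem_biUnion hU hx
        · have hx' : x ∈ (W : Set _) := hx
          rw [hsup] at hx'
          simp only [Set.mem_iUnion, exists_prop] at hx'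
          exact hx'
      · exact ⟨∅, Set.finite_empty, fun U hU => absurd hU (by simp), fun h => absurd h hW⟩
    choose s h1 h2 h3 using h
    exact ⟨s, h1, h2, fun ν g x hx => h3 ν _ (hqcopen ν g) x hx⟩
  haveI := fun μ => Cofin.finite_fam (X := X) (hΛ := hΛ) hsfin μ
  let V : ∀ μ, Cofin.Fam X hΛ s μ → Scheme.{u} := fun μ f => (f.top.1 : Scheme.{u})
  haveI : ∀ μ f, IsAffine (V μ f) := fun μ f => f.top.2
  let yhom : ∀ {ν μ : Λ}, ν ≤ μ → ((∐ V μ) ⟶ ∐ V ν) := fun {ν μ} h =>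
    Limits.Sigma.desc fun f => (Cofin.tr X h).resLE (f.res h).top.1 f.top.1 (Cofin.top_le hsle h f) ≫
      Limits.Sigma.ι (V ν) (f.res h)
  let Y : Λᵒᵖ ⥤ Scheme.{u} :=
    { obj := fun μ => ∐ V μ.unop
      map := fun {μ ν} φ => yhom (leOfHom φ.unop)
      map_id := fun μ => by
        refine Limits.Sigma.hom_ext _ _ fun f => ?_
        rw [Category.comp_id, Limits.Sigma.ι_desc]
        have e : (Cofin.tr X (le_refl μ.unop)).resLE f.top.1 f.top.1
            (Cofin.top_le hsle (le_refl _) f) = 𝟙 _ := by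
          rw [← cancel_mono f.top.1.ι, Scheme.Hom.resLE_comp_ι, Cofin.tr_refl]
          simp
        exact (congrArg (· ≫ Limits.Sigma.ι (V μ.unop) f) e).trans (Category.id_comp _)
      map_comp := fun {μ ν ρ} φ ψ => by
        refine Limits.Sigma.hom_ext _ _ fun f => ?_
        rw [Limits.Sigma.ι_desc, Limits.Sigma.ι_desc_assoc, Category.assoc, Limits.Sigma.ι_desc,
          ← Category.assoc, Scheme.Hom.resLE_comp_resLE]
        simp only [Cofin.tr_comp]
        rfl }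
  let π : Y ⟶ X :=
    { app := fun μ => Limits.Sigma.desc fun f => f.top.1.ι
      naturality := fun μ ν φ => by
        refine Limits.Sigma.hom_ext _ _ fun f => ?_
        rw [Limits.Sigma.ι_desc_assoc, Category.assoc, Limits.Sigma.ι_desc, Limits.Sigma.ι_desc_assoc,
          Scheme.Hom.resLE_comp_ι]
        rfl }
  refine ⟨Y, π, fun l => ⟨inferInstanceAs (IsAffine (∐ V l)), ⟨fun x => ?_⟩, ?_⟩⟩
  · obtain ⟨f, hf⟩ := Cofin.exists_fam hscov x
    refine ⟨(Limits.Sigma.ι (V l) f).base ⟨x, hf⟩, ?_⟩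
    have := congrArg (fun q => q.base ⟨x, hf⟩) (Limits.Sigma.ι_desc (f := V l) (fun f => f.top.1.ι) f)
    exact this
  · let e := Finite.equivFin (Cofin.Fam X hΛ s l)
    refine ⟨ULift.{u} (Fin (Nat.card (Cofin.Fam X hΛ s l))),
      fun i => (Limits.Sigma.ι (V l) (e.symm i.down)).opensRange, fun i j hij => ?_, ?_, fun i => ?_⟩
    · exact disjoint_opensRange_sigmaι _ _ _ fun h => hij (ULift.ext _ _ (e.symm.injective h))
    · refine top_le_iff.1 fun y _ => TopologicalSpace.Opens.mem_iSup.2 ?_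
      obtain ⟨k, z, hz⟩ := (sigmaOpenCover (V l)).exists_eq y
      exact ⟨⟨e k⟩, by rw [e.symm_apply_apply]; exact ⟨z, hz⟩⟩
    · let q := Limits.Sigma.ι (V l) (e.symm i.down)
      have e1 : q.isoOpensRange.hom ≫ q.opensRange.ι = q := Scheme.Hom.isoOpensRange_hom_ι q
      have : q.opensRange.ι ≫ π.app (Opposite.op l) = q.isoOpensRange.inv ≫ (e.symm i.down).top.1.ι := by
        rw [Iso.eq_inv_comp, ← Category.assoc, e1]
        exact Limits.Sigma.ι_desc _ _
      show IsOpenImmersion (q.opensRange.ι ≫ π.app (Opposite.op l))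
      rw [this]
      infer_instance

end Groth.Agent.S15558
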