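import Groth.Statements.S15559
import Groth.Agent.Frob53.PerfFactor

set_option autoImplicit false
set_option linter.unusedVariables false
universe u
open CategoryTheory AlgebraicGeometry
open FrobSch

namespace Groth.Agent.S15559

/-- Call a morphism V → U of quasi-compact quasi-separated perfect schemes of characteristic p flat of
finite presentation in the perfect sense when it factors as V → V₀ → U with V → V₀ a perfection map
(V perfect and universal for morphisms from perfect schemes of characteristic p into V₀) and V₀ → U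
flat, locally of finite presentation, quasi-compact and quasi-separated; faithfully flat of finite
presentation when moreover V₀ → U is surjective. If Z → Y and Y → X are flat of finite presentation
in the perfect sense, so is the composite Z → X, and it is faithfully flat of finite presentation
when both are. Here the data are given as Y₀ → X with perfection map Y → Y₀ and Z₀ → Y with
perfection map Z → Z₀, and the conclusion produces W₀ → X with a perfection map Z → W₀ over X. (The
published proposition is stated for pro-objects of perfections of schemes of finite type over a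
perfect field and also for morphisms flat of profinite presentation; this row is its case of
schemes, which its proof treats first, with the base field replaced by characteristic p.) -/
theorem result (p : ℕ) [Fact p.Prime]
    {X Y Z Y₀ Z₀ : Scheme.{u}} [FrobSch.IsCharP X p] [FrobSch.IsCharP Y p] [FrobSch.IsCharP Z p]
    [FrobSch.IsCharP Y₀ p] [FrobSch.IsCharP Z₀ p]
    [CompactSpace ↥X] [QuasiSeparatedSpace ↥X] [CompactSpace ↥Y] [QuasiSeparatedSpace ↥Y]
    [CompactSpace ↥Z] [QuasiSeparatedSpace ↥Z] (hX : FrobSch.IsPerfect X p)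
    (g₀ : Y₀ ⟶ X) [Flat g₀] [LocallyOfFinitePresentation g₀] [QuasiCompact g₀] [QuasiSeparated g₀]
    (πY : Y ⟶ Y₀) (hY : FrobSch.IsPerfection πY p)
    (f₀ : Z₀ ⟶ Y) [Flat f₀] [LocallyOfFinitePresentation f₀] [QuasiCompact f₀] [QuasiSeparated f₀]
    (πZ : Z ⟶ Z₀) (hZ : FrobSch.IsPerfection πZ p) :
    ∃ (W₀ : Scheme.{u}) (h₀ : W₀ ⟶ X) (ϖ : Z ⟶ W₀),
      Flat h₀ ∧ LocallyOfFinitePresentation h₀ ∧ QuasiCompact h₀ ∧ QuasiSeparated h₀ ∧
        FrobSch.IsPerfection ϖ p ∧ ϖ ≫ h₀ = πZ ≫ f₀ ≫ πY ≫ g₀ ∧
          (Surjective g₀ → Surjective f₀ → Surjective h₀) := by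
  have : IsIso (FrobSch.frob Y p) := hY.1
  have : CompactSpace Y₀ := QuasiCompact.compactSpace_of_compactSpace g₀
  have : QuasiSeparatedSpace Y₀ := quasiSeparatedSpace_of_quasiSeparated g₀
  obtain ⟨n, W₀, h, g, _, _, _, _, hsq⟩ := Frob53.exists_flat_stage p πY hY f₀
  have := Frob53.isIso_frobIter p X hX n
  refine ⟨W₀, h ≫ g₀ ≫ FrobSch.frobIter X p n, πZ ≫ g, inferInstance, inferInstance, inferInstance,
    inferInstance, Frob53.isPerfection_stage p πY hY πZ hZ _ hsq, ?_, fun hg hf => ?_⟩
  · have hw : g ≫ h = f₀ ≫ (Frob53.towerCone (p := p) πY).π.app (Opposite.op ⟨n⟩) := hsq.w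
    rw [Category.assoc, reassoc_of% hw, ← Frob53.frobIter_naturality p X g₀ n]
    exact congrArg (fun z => πZ ≫ f₀ ≫ z)
      ((Category.assoc _ _ _).symm.trans (congrArg (· ≫ g₀) (Frob53.iterate_comp p πY n)))
  · have hπ : Surjective πY := by
      have hu := (Perf96.isPerfn_of hY).isUnivHomeo
      exact ⟨(Perf96.isHomeomorph_of_isUnivHomeo hu).surjective⟩
    have hfrob : ∀ y : Y₀, FrobSch.frobIter Y₀ p n y = y := fun y => by
      clear hsq this
      induction n with
      | zero => rfl
      | succ n ih => rw [FrobSch.frobIter_succ, Scheme.Hom.comp_apply, FrobSch.frob_apply, ih]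
    have hS : Surjective h := ⟨fun y => by
      obtain ⟨y', hy'⟩ := hπ.surj y
      obtain ⟨z, hz⟩ := hf.surj y'
      refine ⟨g z, ?_⟩
      obtain ⟨q, hq, hw⟩ : ∃ q : Y ⟶ Y₀, q ≫ FrobSch.frobIter Y₀ p n = πY ∧ g ≫ h = f₀ ≫ q :=
        ⟨(Frob53.towerCone (p := p) πY).π.app (Opposite.op ⟨n⟩), Frob53.iterate_comp p πY n, hsq.w⟩
      rw [← Scheme.Hom.comp_apply, hw, Scheme.Hom.comp_apply, hz, ← hfrob (q y'),
        ← Scheme.Hom.comp_apply, hq, hy']⟩
    infer_instance
end Groth.Agent.S15559
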