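import Groth.Statements.S1556
import Groth.Agent.VarGal.SmoothGeomReg

set_option autoImplicit false
universe u
open CategoryTheory CategoryTheory.Limits AlgebraicGeometry
attribute [local instance] Curv2.resAlgebra
open Variety

namespace Groth.Agent.S1556

/-- Let X be a curve over k (integral, separated, of finite type, of dimension one) and x a closed point
whose residue field is separable over k. Then the local ring at x is a discrete valuation ring if
and only if x lies in the smooth locus of X → Spec k. -/
theorem result (k : Type u) [Field k] (X : Scheme.{u}) [X.Over (Spec (CommRingCat.of k))] [IsIntegral X]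
    [IsSeparated (X ↘ (Spec (CommRingCat.of k)))] [LocallyOfFinitePresentation (X ↘ (Spec (CommRingCat.of k)))] [QuasiCompact (X ↘ (Spec (CommRingCat.of k)))]
    (hdim : topologicalKrullDim X = 1) (x : X) (hx : IsClosed ({x} : Set X))
    [Algebra.IsSeparable k (X.residueField x)] :
    IsDiscreteValuationRing (X.presheaf.stalk x) ↔ x ∈ (X ↘ (Spec (CommRingCat.of k))).smoothLocus := by
  set f := X ↘ Spec (CommRingCat.of k)
  haveI : IsLocallyNoetherian X := LocallyOfFiniteType.isLocallyNoetherian f
  have hdimx : ringKrullDim (X.presheaf.stalk x) = 1 := by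
    have h := VarGal.localDim_eq_tdegN_add f x
    rw [VarGal.tdegN_eq_zero_of_isClosed f hx, Nat.cast_zero, zero_add] at h
    rw [← h, ← hdim]
    refine le_antisymm (le_trans (iInf_le _ (⟨⊤, trivial⟩ : {U : TopologicalSpace.Opens X // x ∈ U}))
      (topologicalKrullDim_subspace_le X _)) (le_iInf fun U => ?_)
    exact (VarGal.topologicalKrullDim_open_eq f U.1 ⟨x, U.2⟩).ge
  constructor
  · intro h
    haveI : IsRegularLocalRing (X.presheaf.stalk x) := by
      rw [IsRegularLocalRing.iff_finrank_cotangentSpace, IsLocalRing.finrank_CotangentSpace_eq_one, hdimx]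
      rfl
    haveI : Algebra.FormallyEtale k (X.residueField x) := .of_isSeparable _ _
    exact VarGal.mem_smoothLocus_of_regular x
  · intro h
    haveI := VarGal.regular_of_mem_smoothLocus x h
    have h1 := (IsRegularLocalRing.iff_finrank_cotangentSpace (X.presheaf.stalk x)).1 ‹IsRegularLocalRing (X.presheaf.stalk x)›
    rw [hdimx] at h1
    exact IsLocalRing.finrank_CotangentSpace_eq_one_iff.1 (by exact_mod_cast h1)

end Groth.Agent.S1556
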