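import Groth.Statements.S15562
import Groth.Agent.KronH.Basic

set_option autoImplicit false
universe u v w
open KronMod

namespace Groth.Agent.S15562

open Groth.Agent.KronH Module

/-- Over a field K, for V of dimension d₋₁ > 0 and W of dimension n·d₋₁, semistable Kronecker modules
with n arrows from V to W exist, and any two of them are isomorphic as Kronecker modules; in other
words the moduli space K(n; d₋₁, n·d₋₁) of semistable Kronecker modules is a single point. (The
published statement assumes K algebraically closed of characteristic zero and n ≥ 2; this row allows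
any field K and any number n of arrows.) -/
theorem result (K : Type u) [Field K] (V : Type v) (W : Type w)
    [AddCommGroup V] [Module K V] [FiniteDimensional K V]
    [AddCommGroup W] [Module K W] [FiniteDimensional K W]
    (n : ℕ) (hV : 0 < Module.finrank K V) (hW : Module.finrank K W = n * Module.finrank K V) :
    (∃ f : Fin n → (V →ₗ[K] W), KronMod.IsSemistable f) ∧
    ∀ f f' : Fin n → (V →ₗ[K] W), KronMod.IsSemistable f → KronMod.IsSemistable f' →
      KronMod.AreIso f f' := by
  let e : (Fin n → V) ≃ₗ[K] W := LinearEquiv.ofFinrankEq _ _
    (by rw [hW, Module.finrank_pi_fintype]; simp)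
  refine ⟨⟨fun j => e.toLinearMap.comp (LinearMap.single K (fun _ => V) j), ?_⟩, fun f f' hf hf' => ?_⟩
  · refine isSemistable_of_sumMap_injective (fun a b hab => e.injective ?_) hV hW
    simpa [sumMap_apply, ← map_sum, Finset.univ_sum_single] using hab
  · let S := LinearEquiv.ofBijective _ (bijective_sumMap_of_isSemistable hf hV hW)
    let S' := LinearEquiv.ofBijective _ (bijective_sumMap_of_isSemistable hf' hV hW)
    refine ⟨LinearEquiv.refl K V, S.symm.trans S', fun j => LinearMap.ext fun x => ?_⟩
    have h1 : S.symm (f j x) = Pi.single j x := by
      rw [LinearEquiv.symm_apply_eq]; exact (sumMap_single f j x).symm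
    simp only [LinearMap.comp_apply, LinearEquiv.coe_coe, LinearEquiv.trans_apply, h1]
    exact sumMap_single f' j x

end Groth.Agent.S15562
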