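import Groth.Statements.S15564
import Groth.Agent.KronH.Basic

set_option autoImplicit false
universe u v w
open KronMod

namespace Groth.Agent.S15564

open Groth.Agent.KronH Module

/-- For a Kronecker module f with n arrows over a field K between one-dimensional spaces V and W,
semistability, stability and f ≠ 0 are equivalent: the semistable locus and the stable locus of
dimension vector (1, 1) are both the complement of the zero module. (The published statement assumes
K algebraically closed of characteristic zero and n ≥ 2; this row allows any field K and any n.) -/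
theorem result (K : Type u) [Field K] (V : Type v) (W : Type w)
    [AddCommGroup V] [Module K V] [FiniteDimensional K V]
    [AddCommGroup W] [Module K W] [FiniteDimensional K W]
    (n : ℕ) (f : Fin n → (V →ₗ[K] W))
    (hV : Module.finrank K V = 1) (hW : Module.finrank K W = 1) :
    (KronMod.IsSemistable f ↔ f ≠ 0) ∧ (KronMod.IsStable f ↔ f ≠ 0) := by
  have hne : f ≠ 0 → KronMod.IsStable f := by
    intro hf
    refine ⟨by omega, fun V' W' h hnb hnt => ?_⟩
    rw [hV, hW, one_mul, one_mul]
    have hVle := Submodule.finrank_le V'
    have hWle := Submodule.finrank_le W'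
    rw [hV] at hVle
    rw [hW] at hWle
    by_contra hlt
    by_cases hv0 : finrank K V' = 0
    · exact hnb ⟨Submodule.finrank_eq_zero.mp hv0, Submodule.finrank_eq_zero.mp (by omega)⟩
    have hVt : V' = ⊤ := Submodule.eq_top_of_finrank_eq (by omega)
    obtain ⟨j, hj⟩ := Function.ne_iff.mp hf
    obtain ⟨x, hx⟩ := DFunLike.ne_iff.mp hj
    have hy : f j x ∈ W' := h j ⟨x, by rw [hVt]; trivial, rfl⟩
    have hw0 : W' ≠ ⊥ := fun hh => hx (by simpa [hh] using hy)
    have hwp : finrank K W' ≠ 0 := fun hh => hw0 (Submodule.finrank_eq_zero.mp hh)
    exact hnt ⟨hVt, Submodule.eq_top_of_finrank_eq (by omega)⟩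
  have hss : KronMod.IsSemistable f → f ≠ 0 := by
    rintro hf rfl
    have hi := piMap_injective_of_isSemistable hf (by omega)
    have : Nontrivial V := Module.finrank_pos_iff.mp (by omega : 0 < finrank K V)
    obtain ⟨x, hx⟩ := exists_ne (0 : V)
    exact hx (hi (by ext j; simp [piMap]))
  exact ⟨⟨hss, fun h => isSemistable_of_isStable (hne h)⟩,
    ⟨fun h => hss (isSemistable_of_isStable h), hne⟩⟩

end Groth.Agent.S15564
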