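import Groth.Statements.S15565
import Groth.Agent.KronH.Pencil

set_option autoImplicit false
universe u v w
open KronMod

namespace Groth.Agent.S15565

open Groth.Agent.KronH Module

/-- Over an algebraically closed field K, a Kronecker module with two arrows between spaces V and W of
the same dimension k ≥ 2 is never stable: the stable locus of dimension vector (k, k) for the
Kronecker quiver with two arrows is empty. (The published statement also assumes characteristic
zero; this row does not.) -/
theorem result (K : Type u) [Field K] [IsAlgClosed K] (V : Type v) (W : Type w)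
    [AddCommGroup V] [Module K V] [FiniteDimensional K V]
    [AddCommGroup W] [Module K W] [FiniteDimensional K W]
    (f : Fin 2 → (V →ₗ[K] W)) (k : ℕ) (hk : 2 ≤ k)
    (hV : Module.finrank K V = k) (hW : Module.finrank K W = k) :
    ¬ KronMod.IsStable f := by
  intro hf
  obtain ⟨z, hz⟩ := exists_injective_combination f hV hW (isSemistable_of_isStable hf)
  have : Nontrivial V := Module.finrank_pos_iff.mp (by omega : 0 < finrank K V)
  obtain ⟨x0, hx0⟩ := exists_ne (0 : V)
  have hz0 : ∃ i, z i ≠ 0 := by
    by_contra h
    push Not at h
    exact hx0 (hz.1 (by simp [h]))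
  obtain ⟨i, hi⟩ := hz0
  let L := LinearEquiv.ofBijective _ hz
  let T : Module.End K V := L.symm.toLinearMap ∘ₗ f (Fin.rev i)
  obtain ⟨c, hc⟩ := Module.End.exists_eigenvalue T
  obtain ⟨x, hx⟩ := hc.exists_hasEigenvector
  have hTx : T x = c • x := hx.apply_eq_smul
  have hLx : f (Fin.rev i) x = c • L x := by
    have := congrArg L hTx
    simpa [T] using this
  have hmem : ∀ j, f j x ∈ K ∙ L x := by
    intro j
    have hj : f (Fin.rev i) x ∈ K ∙ L x := by
      rw [hLx]; exact Submodule.smul_mem _ _ (Submodule.mem_span_singleton_self _)
    have hsum : z i • f i x + z (Fin.rev i) • f (Fin.rev i) x = L x := by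
      change _ = (∑ j, z j • f j) x
      fin_cases i <;> simp [Fin.sum_univ_two, add_comm]
    have hi' : f i x ∈ K ∙ L x := by
      have h1 : z i • f i x ∈ K ∙ L x := by
        rw [eq_sub_of_add_eq hsum]
        exact sub_mem (Submodule.mem_span_singleton_self _) (Submodule.smul_mem _ _ hj)
      exact (Submodule.smul_mem_iff _ hi).mp h1
    have hor : j = i ∨ j = Fin.rev i := by
      fin_cases i <;> fin_cases j <;> simp
    rcases hor with rfl | rfl
    exacts [hi', hj]
  have hsub : KronMod.IsSubrep f (K ∙ x) (K ∙ L x) := by
    intro j
    rw [Submodule.map_span, Set.image_singleton, Submodule.span_singleton_le_iff_mem]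
    exact hmem j
  have hLx0 : L x ≠ 0 := fun h => hx.2 (L.map_eq_zero_iff.mp h)
  have h1 := finrank_span_singleton (K := K) hx.2
  have h2 := finrank_span_singleton (K := K) hLx0
  have hlt := hf.2 _ _ hsub (fun hh => hx.2 (by simpa using hh.1))
    (fun hh => by rw [hh.1, finrank_top] at h1; omega)
  rw [h1, h2, hV, hW] at hlt
  omega

end Groth.Agent.S15565
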