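import Groth.Statements.S15566
import Groth.Agent.KronH.Basic

set_option autoImplicit false
universe u v w
open KronMod

namespace Groth.Agent.S15566

open Groth.Agent.KronH Module

/-- Case of dimension vector (2, 2). Over an algebraically closed field K, if a Kronecker module f with
n arrows between two-dimensional spaces V and W is semistable, then some linear combination Σ_j z_j
f_j of its arrows is a linear isomorphism V → W (equivalently, the determinant of the generic
combination is not identically zero): the semistable locus of dimension vector (2, 2) lies in the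
open set of modules whose generic combination is invertible. (The published statement, over an
algebraically closed field of characteristic zero, covers dimension vectors (1, 1) and (2, 2) for
every n ≥ 2 and (k, k) for two arrows; this row states the (2, 2) case, for any n and without the
characteristic assumption.) -/
theorem result (K : Type u) [Field K] [IsAlgClosed K] (V : Type v) (W : Type w)
    [AddCommGroup V] [Module K V] [FiniteDimensional K V]
    [AddCommGroup W] [Module K W] [FiniteDimensional K W]
    (n : ℕ) (f : Fin n → (V →ₗ[K] W))
    (hV : Module.finrank K V = 2) (hW : Module.finrank K W = 2)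
    (hf : KronMod.IsSemistable f) :
    ∃ z : Fin n → K, Function.Bijective ((∑ j, z j • f j : V →ₗ[K] W) : V → W) := by
  by_contra hcon
  push Not at hcon
  have key : ∀ i j, f i ≠ 0 → ¬ LinearMap.range (f j) ≤ LinearMap.range (f i) →
      LinearMap.ker (f i) ≤ LinearMap.ker (f j) := by
    intro i j hi hr x hx
    by_contra hBx
    have hs : ∀ g : V →ₗ[K] W, (∃ z : Fin n → K, (∑ j, z j • f j) = g) →
        finrank K (LinearMap.range g) < 2 := by
      rintro g ⟨z, rfl⟩
      by_contra hg
      have ht : LinearMap.range (∑ j, z j • f j) = ⊤ :=
        Submodule.eq_top_of_finrank_eq (by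
          have := Submodule.finrank_le (LinearMap.range (∑ j, z j • f j)); omega)
      have hsur := LinearMap.range_eq_top.mp ht
      exact hcon z ⟨(LinearMap.injective_iff_surjective_of_finrank_eq_finrank
        (hV.trans hW.symm)).mpr hsur, hsur⟩
    have hsingle : ∀ m, ∃ z : Fin n → K, (∑ l, z l • f l) = f m := fun m =>
      ⟨Pi.single m 1, by rw [Finset.sum_eq_single m] <;> simp +contextual⟩
    have hij : ∃ z : Fin n → K, (∑ l, z l • f l) = f i + f j := by
      obtain ⟨a, ha⟩ := hsingle i
      obtain ⟨b, hb⟩ := hsingle j
      exact ⟨a + b, by simp [add_smul, Finset.sum_add_distrib, ha, hb]⟩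
    have hri := hs _ (hsingle i)
    have hrj := hs _ (hsingle j)
    have hrs := hs _ hij
    have hspan : LinearMap.range (f j) = K ∙ f j x := by
      refine (Submodule.eq_of_le_of_finrank_le ?_ ?_).symm
      · rw [Submodule.span_singleton_le_iff_mem]; exact LinearMap.mem_range_self _ _
      · rw [finrank_span_singleton (fun h => hBx (LinearMap.mem_ker.mpr h))]; omega
    have hxi : f j x ∉ LinearMap.range (f i) := by
      intro h
      exact hr (by rw [hspan, Submodule.span_singleton_le_iff_mem]; exact h)
    obtain ⟨y, hy⟩ := DFunLike.ne_iff.mp hi
    have hjx : f j x ∈ LinearMap.range (f i + f j) := ⟨x, by simp [LinearMap.mem_ker.mp hx]⟩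
    have hiy : f i y ∈ LinearMap.range (f i + f j) := by
      have hjy : f j y ∈ LinearMap.range (f i + f j) := by
        have : f j y ∈ K ∙ f j x := hspan ▸ LinearMap.mem_range_self _ y
        obtain ⟨c, hc⟩ := Submodule.mem_span_singleton.mp this
        rw [← hc]; exact Submodule.smul_mem _ _ hjx
      have : f i y = (f i + f j) y - f j y := by simp
      rw [this]; exact sub_mem (LinearMap.mem_range_self _ _) hjy
    have hind : LinearIndependent K ![f i y, f j x] := by
      rw [LinearIndependent.pair_iff' hy]
      exact fun c hc => hxi ⟨c • y, by rw [map_smul]; exact hc⟩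
    have h2 : Submodule.span K (Set.range ![f i y, f j x]) ≤ LinearMap.range (f i + f j) := by
      rw [Submodule.span_le, Set.range_subset_iff]
      intro m; fin_cases m
      exacts [hiy, hjx]
    have h3 := Submodule.finrank_mono h2
    rw [finrank_span_eq_card hind, Fintype.card_fin] at h3
    omega
  have hsur := sumMap_surjective_of_isSemistable hf (by omega)
  have hinj := piMap_injective_of_isSemistable hf (by omega)
  obtain ⟨i, hi⟩ : ∃ i, f i ≠ 0 := by
    by_contra h
    push Not at h
    have : Nontrivial V := Module.finrank_pos_iff.mp (by omega : 0 < finrank K V)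
    obtain ⟨x, hx⟩ := exists_ne (0 : V)
    exact hx (hinj (by ext j; simp [piMap, h j]))
  have hbad : ¬ Function.Bijective (f i) := by
    intro hb
    refine hcon (Pi.single i 1) ?_
    rwa [Finset.sum_eq_single i (by simp +contextual) (by simp), Pi.single_eq_same, one_smul]
  have hnsur : ¬ Function.Surjective (f i) := fun h => hbad
    ⟨(LinearMap.injective_iff_surjective_of_finrank_eq_finrank (hV.trans hW.symm)).mpr h, h⟩
  obtain ⟨j, hj⟩ : ∃ j, ¬ LinearMap.range (f j) ≤ LinearMap.range (f i) := by
    by_contra h
    push Not at h
    refine hnsur fun w => ?_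
    obtain ⟨v, rfl⟩ := hsur w
    rw [sumMap_apply]
    exact Submodule.sum_mem _ (fun j _ => h j (LinearMap.mem_range_self _ _))
  obtain ⟨k, hk⟩ : ∃ k, ¬ LinearMap.ker (f i) ≤ LinearMap.ker (f k) := by
    by_contra h
    push Not at h
    refine hbad ⟨?_, ?_⟩
    · rw [← LinearMap.ker_eq_bot, Submodule.eq_bot_iff]
      intro x hx
      exact hinj (funext fun l => by simpa [piMap] using h l hx)
    · refine (LinearMap.injective_iff_surjective_of_finrank_eq_finrank (hV.trans hW.symm)).mp ?_
      rw [← LinearMap.ker_eq_bot, Submodule.eq_bot_iff]
      intro x hx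
      exact hinj (funext fun l => by simpa [piMap] using h l hx)
  have hkj := key i j hi hj
  have hki : LinearMap.range (f k) ≤ LinearMap.range (f i) := by
    by_contra h
    exact hk (key i k hi h)
  have hj0 : f j ≠ 0 := fun h => hj (by simp [h])
  have hk0 : f k ≠ 0 := fun h => hk (by simp [h])
  by_cases hr : LinearMap.range (f j) ≤ LinearMap.range (f k)
  · exact hj (hr.trans hki)
  · have h1 := key k j hk0 hr
    by_cases hr2 : LinearMap.range (f k) ≤ LinearMap.range (f j)
    · have e1 : LinearMap.range (f k) = LinearMap.range (f i) := by
        refine Submodule.eq_of_le_of_finrank_le hki ?_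
        have a : finrank K (LinearMap.range (f k)) ≠ 0 := fun h =>
          hk0 (LinearMap.range_eq_bot.mp (Submodule.finrank_eq_zero.mp h))
        have b := Submodule.finrank_lt (fun h => hnsur (LinearMap.range_eq_top.mp h))
        omega
      have e2 : LinearMap.range (f k) = LinearMap.range (f j) := by
        refine Submodule.eq_of_le_of_finrank_le hr2 ?_
        have a : finrank K (LinearMap.range (f k)) ≠ 0 := fun h =>
          hk0 (LinearMap.range_eq_bot.mp (Submodule.finrank_eq_zero.mp h))
        have b : LinearMap.range (f j) ≠ ⊤ := fun h => by
          have hs := LinearMap.range_eq_top.mp h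
          refine hcon (Pi.single j 1) ?_
          rw [Finset.sum_eq_single j (by simp +contextual) (by simp), Pi.single_eq_same, one_smul]
          exact ⟨(LinearMap.injective_iff_surjective_of_finrank_eq_finrank
            (hV.trans hW.symm)).mpr hs, hs⟩
        have := Submodule.finrank_lt b
        omega
      exact hj (e2.symm.trans e1).le
    · exact hk (le_trans (by
        have a := LinearMap.finrank_range_add_finrank_ker (f i)
        have b := LinearMap.finrank_range_add_finrank_ker (f j)
        have c : finrank K (LinearMap.range (f i)) ≠ 0 := fun h =>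
          hi (LinearMap.range_eq_bot.mp (Submodule.finrank_eq_zero.mp h))
        have d : finrank K (LinearMap.range (f j)) ≠ 0 := fun h =>
          hj0 (LinearMap.range_eq_bot.mp (Submodule.finrank_eq_zero.mp h))
        have e := Submodule.finrank_lt (fun h => hnsur (LinearMap.range_eq_top.mp h))
        exact (Submodule.eq_of_le_of_finrank_le hkj (by omega)).le) (key j k hj0 hr2))

end Groth.Agent.S15566
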