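import Groth.Statements.S15568
import Mathlib
-- import your own Groth.Agent.* helpers here

set_option autoImplicit false
universe u
open QuiverStab

namespace Groth.Agent.S15568

/-- Walls and chambers for stability weights of a quiver. Let I be the finite vertex set, d ∈ ℕ^I a
dimension vector, and call two weights θ₁, θ₂ ∈ ℝ^I orthogonal to d numerically equivalent when, for
every d′ ≤ d in ℕ^I, the numbers θ₁·d′ and θ₂·d′ are both positive, both negative or both zero. The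
walls are the hyperplanes W(d′) = {θ ⊥ d : θ·d′ = 0} of d^⊥ for d′ ≤ d such that d is not a multiple
of d′. Then θ₁ and θ₂ are numerically equivalent if and only if there is a set J₁ of such d′ for
which θ₁ and θ₂ lie in the same connected component of the locally closed subset of d^⊥ consisting
of the weights lying on W(d₁) for every d₁ ∈ J₁ and off W(d₂) for every other wall W(d₂). (Only the
quiver's vertex set enters; multiples are taken with natural-number factors.) -/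
theorem result
    (I : Type u) [Fintype I] (d : I → ℕ) (θ₁ θ₂ : I → ℝ)
    (h₁ : ∑ i, θ₁ i * (d i : ℝ) = 0) (h₂ : ∑ i, θ₂ i * (d i : ℝ) = 0) :
    (∀ d' : I → ℕ, d' ≤ d →
        SignType.sign (∑ i, θ₁ i * (d' i : ℝ)) = SignType.sign (∑ i, θ₂ i * (d' i : ℝ))) ↔
    ∃ J₁ : Set (I → ℕ), J₁ ⊆ {d' | d' ≤ d ∧ ¬ ∃ m : ℕ, d = m • d'} ∧
      θ₂ ∈ connectedComponentIn
        {θ : I → ℝ | ∑ i, θ i * (d i : ℝ) = 0 ∧ (∀ d₁ ∈ J₁, ∑ i, θ i * (d₁ i : ℝ) = 0) ∧
          ∀ d₂ : I → ℕ, d₂ ≤ d → (¬ ∃ m : ℕ, d = m • d₂) → d₂ ∉ J₁ →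
            ∑ i, θ i * (d₂ i : ℝ) ≠ 0} θ₁ := by
  classical
  have hcont : ∀ e : I → ℕ, Continuous fun θ : I → ℝ => ∑ i, θ i * (e i : ℝ) := fun e => by fun_prop
  constructor
  · intro h
    let ev : (I → ℕ) → (I → ℝ) → ℝ := fun e θ => ∑ i, θ i * (e i : ℝ)
    refine ⟨{d' | (d' ≤ d ∧ ¬ ∃ m : ℕ, d = m • d') ∧ ev d' θ₁ = 0}, fun d' hd' => hd'.1, ?_⟩
    have hlin : ∀ e (a b : ℝ), ev e (a • θ₁ + b • θ₂) = a * ev e θ₁ + b * ev e θ₂ := fun e a b => by
      simp only [ev, Pi.add_apply, Pi.smul_apply, smul_eq_mul, add_mul, mul_assoc, Finset.sum_add_distrib,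
        Finset.mul_sum]
    refine (convex_segment θ₁ θ₂).isPreconnected.subset_connectedComponentIn (left_mem_segment ℝ _ _) ?_
      (right_mem_segment ℝ _ _)
    rintro _ ⟨a, b, ha, hb, hab, rfl⟩
    refine ⟨?_, fun e he => ?_, fun e hed hne hJ => ?_⟩
    · show ev d _ = 0
      rw [hlin, show ev d θ₁ = 0 from h₁, show ev d θ₂ = 0 from h₂, mul_zero, mul_zero, add_zero]
    · show ev e _ = 0
      have h2 : SignType.sign (ev e θ₁) = SignType.sign (ev e θ₂) := h e he.1.1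
      rw [he.2, sign_zero, eq_comm, sign_eq_zero_iff] at h2
      rw [hlin, he.2, h2, mul_zero, mul_zero, add_zero]
    · show ev e _ ≠ 0
      have h2 : SignType.sign (ev e θ₁) = SignType.sign (ev e θ₂) := h e hed
      have hne1 : ev e θ₁ ≠ 0 := fun h0 => hJ ⟨⟨hed, hne⟩, h0⟩
      rw [hlin]
      rcases lt_or_gt_of_ne hne1 with hlt | hgt
      · rw [sign_neg hlt, eq_comm, sign_eq_neg_one_iff] at h2
        rcases eq_or_lt_of_le ha with rfl | ha'
        · rw [show b = 1 by linarith]; linarith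
        · nlinarith [mul_neg_of_pos_of_neg ha' hlt, mul_nonpos_of_nonneg_of_nonpos hb h2.le]
      · rw [sign_pos hgt, eq_comm, sign_eq_one_iff] at h2
        rcases eq_or_lt_of_le ha with rfl | ha'
        · rw [show b = 1 by linarith]; linarith
        · nlinarith [mul_pos ha' hgt, mul_nonneg hb h2.le]
  · rintro ⟨J, -, hJ⟩ e hed
    set S := {θ : I → ℝ | ∑ i, θ i * (d i : ℝ) = 0 ∧ (∀ d₁ ∈ J, ∑ i, θ i * (d₁ i : ℝ) = 0) ∧
          ∀ d₂ : I → ℕ, d₂ ≤ d → (¬ ∃ m : ℕ, d = m • d₂) → d₂ ∉ J →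
            ∑ i, θ i * (d₂ i : ℝ) ≠ 0}
    have hsub := connectedComponentIn_subset S θ₁
    have hne : (connectedComponentIn S θ₁).Nonempty := ⟨_, hJ⟩
    have h1 : θ₁ ∈ connectedComponentIn S θ₁ :=
      mem_connectedComponentIn (connectedComponentIn_nonempty_iff.1 hne)
    by_cases hm : ∃ m : ℕ, d = m • e
    · obtain ⟨m, hm⟩ := hm
      rcases Nat.eq_zero_or_pos m with rfl | hmpos
      · have he : e = 0 := by
          funext i
          have := hed i
          rw [hm] at this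
          simpa using this
        simp [he]
      · have key : ∀ θ : I → ℝ, ∑ i, θ i * (d i : ℝ) = 0 → ∑ i, θ i * (e i : ℝ) = 0 := fun θ hθ => by
          rw [hm] at hθ
          simp only [Pi.smul_apply, smul_eq_mul, Nat.cast_mul, mul_left_comm _ (m : ℝ), ← Finset.mul_sum] at hθ
          exact (mul_eq_zero.1 hθ).resolve_left (by positivity)
        rw [key θ₁ h₁, key θ₂ h₂]
    by_cases heJ : e ∈ J
    · rw [(hsub h1).2.1 e heJ, (hsub hJ).2.1 e heJ]
    have hnz : ∀ θ ∈ connectedComponentIn S θ₁, ∑ i, θ i * (e i : ℝ) ≠ 0 := fun θ hθ =>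
      (hsub hθ).2.2 e hed hm heJ
    have himg := (isPreconnected_connectedComponentIn (F := S) (x := θ₁)).image _ (hcont e).continuousOn
    rcases lt_or_gt_of_ne (hnz θ₁ h1) with hlt | hgt <;> rcases lt_or_gt_of_ne (hnz θ₂ hJ) with hlt' | hgt'
    · rw [sign_neg hlt, sign_neg hlt']
    · obtain ⟨θ, hθ, h0⟩ := himg.Icc_subset ⟨θ₁, h1, rfl⟩ ⟨θ₂, hJ, rfl⟩ ⟨hlt.le, hgt'.le⟩
      exact absurd h0 (hnz θ hθ)
    · obtain ⟨θ, hθ, h0⟩ := himg.Icc_subset ⟨θ₂, hJ, rfl⟩ ⟨θ₁, h1, rfl⟩ ⟨hlt'.le, hgt.le⟩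
      exact absurd h0 (hnz θ hθ)
    · rw [sign_pos hgt, sign_pos hgt']

end Groth.Agent.S15568
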