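import Groth.Statements.S1557
import Groth.Agent.VarMods75.Additive

set_option autoImplicit false
set_option backward.isDefEq.respectTransparency.types false
universe u
open CategoryTheory CategoryTheory.Limits AlgebraicGeometry
open Variety

namespace Groth.Agent.S1557

/-- On a proper curve X over k with generic point ξ, for E finite locally free of rank n and F coherent
of generic rank r (the dimension of the stalk F_ξ over the field O_{X,ξ}), one has χ(X, E ⊗ F) = r ·
deg(E) + n · χ(X, F). -/
theorem result (k : Type u) [Field k] (X : Scheme.{u}) [X.Over (Spec (CommRingCat.of k))]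
    [IsIntegral X] [IsProper (X ↘ (Spec (CommRingCat.of k)))] (hdim : topologicalKrullDim X = 1)
    (n : ℕ) (E : X.Modules) (hE : FlatMod.IsFinLocFreeOfRank n E) (F : X.Modules) (hF : Coh.IsCoh F) :
    Curv2.euler k X (CohB1.tensorMod E F) =
      (Module.finrank (X.presheaf.stalk (genericPoint X)) (F.presheaf.stalk (genericPoint X)) : ℤ) * Curv2.deg k X E n +
        n * Curv2.euler k X F := by
  classical
  obtain ⟨T, c, hT, hf⟩ := VarMods75.exists_euler_tensor_formula k hdim.le hE
  haveI := Crv77.isNoetherian_of_proper k X
  have hgen : topologicalKrullDim (closure ({genericPoint X} : Set X)) = ((1 : ℕ) : WithBot ℕ∞) := by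
    rw [(genericPoint_spec X).def]
    refine ((Homeomorph.Set.univ X).isHomeomorph.topologicalKrullDim_eq _).trans ?_
    simpa using hdim
  have hTeq : T = {genericPoint X} := Finset.eq_singleton_iff_unique_mem.2
    ⟨(hT _).2 (by simpa using hgen), fun η hη => (Snapper75.eq_of_dim_eq (d := 1) (by simpa using (hT η).1 hη)
      hgen.le (genericPoint_specializes η)).symm⟩
  have hlen : ∀ M : X.Modules, Coh.IsCoh M → Snapper75.len M (genericPoint X) =
      (Module.finrank (X.presheaf.stalk (genericPoint X)) (M.presheaf.stalk (genericPoint X)) : ℚ) := by
    intro M hM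
    haveI := hM.1
    haveI := hM.2
    haveI : Module.Finite (X.presheaf.stalk (genericPoint X)) (M.presheaf.stalk (genericPoint X)) :=
      QC70.finite_stalk M (genericPoint X)
    have : Module.length X.functionField (M.presheaf.stalk (genericPoint X)) =
        Module.finrank X.functionField (M.presheaf.stalk (genericPoint X)) :=
      Module.length_eq_finrank X.functionField (M.presheaf.stalk (genericPoint X))
    show ((Module.length X.functionField (M.presheaf.stalk (genericPoint X))).toNat : ℚ) = _
    rw [this, ENat.toNat_coe]
  have hO : Coh.IsCoh (Coh.structureModule X) := Crv77.isCoh_structureModule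
  have hc : (Curv2.deg k X E n : ℚ) = c (genericPoint X) := by
    have h := hf _ hO
    rw [hTeq, Finset.sum_singleton, Crv77.euler_congr (k := k) (EGA73.tensUnitLeft E)] at h
    have h1 : Snapper75.len (Coh.structureModule X) (genericPoint X) = 1 := by
      have e := (QC70.unitStalkEquiv (genericPoint X)).symm.length_eq.trans
        (Module.length_eq_one (R := X.functionField) (M := X.functionField))
      simp [Snapper75.len, e]
    rw [h1, one_mul] at h
    rw [← h, Curv2.deg]
    push_cast
    ring
  have h := hf F hF
  rw [hTeq, Finset.sum_singleton, hlen F hF, ← hc] at h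
  refine Int.cast_injective (α := ℚ) ?_
  rw [Crv77.euler_congr (k := k) (EGA73.tensComm E F)]
  push_cast
  linarith

end Groth.Agent.S1557
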