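import Groth.Agent.Hopf35.RInvBasic
import Groth.Statements.S15573

set_option autoImplicit false
universe u v
open RInv

namespace Groth.Agent.S15573

theorem result (S : Type u) (R : Type v) [CommRing S] [CommRing R]
    [Algebra S R] (lam : R ≃+* R) (hlam : Function.Involutive lam) (hS : RInv.IsFixedRing S R lam)
    (h : ∃ r : R, IsUnit (r - lam r)) : RInv.IsQuadEtale S R := by
  obtain ⟨r, hr⟩ := h
  exact AzInv26.quadEtale_of_unit hlam hS r hr

end Groth.Agent.S15573
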