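import Groth.Agent.Hopf35.RInvBasic
import Groth.Statements.S15574

set_option autoImplicit false
universe u v
open RInv

namespace Groth.Agent.S15574

theorem result (S : Type u) (R : Type v) [CommRing S] [CommRing R]
    [Algebra S R] (lam : R ≃+* R) (hlam : Function.Involutive lam) (hS : RInv.IsFixedRing S R lam)
    [IsLocalRing S] (hq : RInv.IsQuadEtale S R) : ∃ r : R, IsUnit (r - lam r) := by
  exact Hopf35.RI.exists_sub_isUnit hlam hS hq

end Groth.Agent.S15574
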