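import Groth.Agent.Hopf35.RInvBasic
import Groth.Statements.S15576

set_option autoImplicit false
universe u v
open RInv

namespace Groth.Agent.S15576

theorem result (S : Type u) (R : Type v) [CommRing S] [CommRing R]
    [Algebra S R] (lam : R ≃+* R) (hlam : Function.Involutive lam) (hS : RInv.IsFixedRing S R lam)
    [IsLocalRing S] (h : ∃ r : R, lam r - r ∉ Ring.jacobson R) : RInv.IsQuadEtale S R := by
  exact Hopf35.RI.quad_of_exists_notMem hlam hS h

end Groth.Agent.S15576
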