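import Groth.Agent.Hopf35.RInvBasic
import Groth.Statements.S15580

set_option autoImplicit false
universe u v
open RInv

namespace Groth.Agent.S15580

theorem result (S : Type u) (R : Type v) [CommRing S] [CommRing R]
    [Algebra S R] (lam : R ≃+* R) (hlam : Function.Involutive lam) (hS : RInv.IsFixedRing S R lam)
    [IsLocalRing S] (hq : RInv.IsQuadEtale S R) (r : Rˣ) (hr : lam r * r = 1) :
    ∃ a : Rˣ, (r : R) = (a⁻¹ : Rˣ) * lam a := by
  exact Hopf35.RI.hilbert90 hlam hS hq r hr

end Groth.Agent.S15580
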