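import Groth.Agent.Hopf35.RInvBasic
import Groth.Statements.S15581

set_option autoImplicit false
universe u v
open RInv

namespace Groth.Agent.S15581

theorem result (B : Type u) (A : Type v) [CommRing B]
    [CommRing A] [Algebra B A] (lam : A ≃+* A) (hlam : Function.Involutive lam)
    (hB : RInv.IsFixedRing B A lam) [IsLocalRing B] (h2 : IsUnit (2 : B)) :
    (Ring.jacobson A) ^ 2 ≤ (IsLocalRing.maximalIdeal B).map (algebraMap B A) := by
  exact Hopf35.RI.jacobson_sq_le hlam hB h2

end Groth.Agent.S15581
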