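import Groth.Statements.S15582
import Mathlib
import Groth.Agent.TopCoh49.Inst

set_option autoImplicit false
universe u
open CategoryTheory TopologicalSpace
open CohTop

namespace Groth.Agent.S15582

/-- Let `π : X → Y` be a continuous map such that every open set containing a fibre `π⁻¹(y)` contains
the preimage of an open neighbourhood of `y`, and such that every fibre is finite with its points
separated by pairwise disjoint open sets of `X`. Then the direct image of sheaves of sets along `π`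
preserves epimorphisms. -/
theorem result
    {X Y : TopCat.{u}} (π : X ⟶ Y)
    (h1 : ∀ (y : Y) (U : Set X), IsOpen U → π ⁻¹' {y} ⊆ U →
      ∃ V : Set Y, IsOpen V ∧ y ∈ V ∧ π ⁻¹' V ⊆ U)
    (h2 : ∀ y : Y, (π ⁻¹' {y}).Finite ∧ ∃ U : X → Set X,
      (∀ x ∈ π ⁻¹' {y}, IsOpen (U x) ∧ x ∈ U x) ∧ (π ⁻¹' {y}).PairwiseDisjoint U) :
    (TopCat.Sheaf.pushforward (Type u) π).PreservesEpimorphisms := by
  constructor
  intro F G g hg
  haveI := hg
  have hloc : TopCat.Presheaf.IsLocallySurjective g.hom :=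
    (Sheaf.isLocallySurjective_iff_epi g).2 hg
  refine (Sheaf.isLocallySurjective_iff_epi _).1 ((TopCat.Presheaf.isLocallySurjective_iff _).2
    fun U s y hy => ?_)
  obtain ⟨hfin, D, hD, hdis⟩ := h2 y
  have key : ∀ x : ↥(π ⁻¹' {y}), ∃ (W : Opens X) (hW : W ≤ (Opens.map π).obj U), (x : X) ∈ W ∧
      (W : Set X) ⊆ D x ∧ ∃ t : F.1.obj (Opposite.op W),
        g.hom.app (Opposite.op W) t = G.1.map (homOfLE hW).op s := by
    rintro ⟨x, hx⟩
    have hxU : x ∈ (Opens.map π).obj U := show π x ∈ U by rw [show π x = y from hx]; exact hy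
    obtain ⟨V, iV, ⟨t, ht⟩, hxV⟩ := (TopCat.Presheaf.isLocallySurjective_iff g.hom).1 hloc
      ((Opens.map π).obj U) s x hxU
    refine ⟨V ⊓ ⟨D x, (hD x hx).1⟩, inf_le_left.trans iV, ⟨hxV, (hD x hx).2⟩, fun z hz => hz.2,
      F.1.map (homOfLE inf_le_left).op t, ?_⟩
    rw [← ConcreteCategory.comp_apply, g.hom.naturality, ConcreteCategory.comp_apply]
    erw [ht]
    exact (ConcreteCategory.congr_hom (G.1.map_comp _ _) s).symm
  choose W hW hxW hWD t ht using key
  let Q : Opens X := ⨆ x, W x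
  obtain ⟨V₀, hV₀, hyV₀, hsub⟩ := h1 y (Q : Set X) Q.2 fun x hx =>
    Opens.mem_iSup.2 ⟨⟨x, hx⟩, hxW ⟨x, hx⟩⟩
  let V : Opens Y := U ⊓ ⟨V₀, hV₀⟩
  let P : ↥(π ⁻¹' {y}) → Opens X := fun x => W x ⊓ (Opens.map π).obj V
  have hP : ∀ x, P x ≤ (Opens.map π).obj V := fun x => inf_le_right
  obtain ⟨a, ha, -⟩ := TopCat.Sheaf.existsUnique_gluing' F P ((Opens.map π).obj V)
    (fun x => homOfLE (hP x)) (fun z hz => by
      obtain ⟨x, hx⟩ := Opens.mem_iSup.1 (hsub hz.2)
      exact Opens.mem_iSup.2 ⟨x, hx, hz⟩)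
    (fun x => F.1.map (homOfLE inf_le_left).op (t x))
    (fun x x' => by
      rcases eq_or_ne x x' with rfl | hne
      · rfl
      · have hb : P x ⊓ P x' = ⊥ := eq_bot_iff.2 fun z hz =>
          ((hdis x.2 x'.2 (fun e => hne (Subtype.ext e))).le_bot ⟨hWD x hz.1.1, hWD x' hz.2.1⟩).elim
        have hT := TopCat.Sheaf.isTerminalOfEmpty F
        rw [← hb] at hT
        exact ((CategoryTheory.Limits.Types.isTerminalEquivUnique _) hT).instSubsingleton.elim _ _)
  refine ⟨V, inf_le_left, ⟨a, ?_⟩, hy, hyV₀⟩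
  refine TopCat.Sheaf.eq_of_locally_eq' G P ((Opens.map π).obj V) (fun x => homOfLE (hP x))
    (fun z hz => by
      obtain ⟨x, hx⟩ := Opens.mem_iSup.1 (hsub hz.2)
      exact Opens.mem_iSup.2 ⟨x, hx, hz⟩) _ _ fun x => ?_
  show G.1.map _ (g.hom.app (Opposite.op ((Opens.map π).obj V)) a) = _
  rw [← ConcreteCategory.comp_apply, ← g.hom.naturality, ConcreteCategory.comp_apply]
  erw [ha x]
  rw [← ConcreteCategory.comp_apply, g.hom.naturality, ConcreteCategory.comp_apply, ht x]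
  show G.1.map _ (G.1.map _ s) = G.1.map _ (G.1.map _ s)
  rw [← ConcreteCategory.comp_apply, ← G.1.map_comp]
  erw [← ConcreteCategory.comp_apply, ← G.1.map_comp]
  congr 2

end Groth.Agent.S15582
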