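import Groth.Agent.Hopf35.RInvHerm
import Groth.Statements.S15583

set_option autoImplicit false
universe u v
open RInv

namespace Groth.Agent.S15583

theorem result (B : Type u) (A : Type v) [CommRing B] [CommRing A]
    [Algebra B A] (lam : A ≃+* A) (hlam : Function.Involutive lam) (hB : RInv.IsFixedRing B A lam)
    [IsLocalRing B] (n : ℕ) (ε : A) (hε : ε = 1 ∨ ε = -1) (h : Matrix (Fin n) (Fin n) A)
    (hh : IsUnit h) (herm : ε • (h.map lam).transpose = h)
    (hcase : (∃ a : A, lam a - a ∉ Ring.jacobson A) ∨ ε + 1 ∉ Ring.jacobson A ∨ Odd n) :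
    ∃ v : Matrix (Fin n) (Fin n) A, IsUnit v ∧
      ∃ d : Fin n → A, (v.map lam).transpose * h * v = Matrix.diagonal d := by
  have hε2 : ε * ε = 1 := by rcases hε with rfl | rfl <;> simp
  have hlε : lam ε = ε := by rcases hε with rfl | rfl <;> simp
  have hw : Hopf35.RI.Herm ε lam h := fun i j => by
    have e := congrFun (congrFun herm j) i
    simp only [Matrix.smul_apply, Matrix.transpose_apply, Matrix.map_apply, smul_eq_mul] at e
    linear_combination ε * e - lam (h i j) * hε2
  obtain ⟨d, g, hg⟩ := Hopf35.RI.diagonalize hlam hB hε2 hlε h hw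
    ((Matrix.isUnit_iff_isUnit_det h).1 hh) hcase
  refine ⟨AzInv26.ct lam (g : Matrix (Fin n) (Fin n) A), ?_, d, ?_⟩
  · exact (Matrix.isUnit_iff_isUnit_det _).2 (by
      rw [AzInv26.ct, Matrix.det_transpose, ← RingEquiv.mapMatrix_apply, ← RingEquiv.map_det]
      exact ((Matrix.isUnit_iff_isUnit_det _).1 g.isUnit).map lam)
  · rw [show ((AzInv26.ct lam (g : Matrix (Fin n) (Fin n) A)).map lam).transpose = g from AzInv26.ct_ct hlam _]
    exact hg

end Groth.Agent.S15583
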