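import Groth.Agent.Hopf35.RInvSkew
import Groth.Statements.S15584

set_option autoImplicit false
universe u v
open RInv

namespace Groth.Agent.S15584

theorem result (B : Type u) (A : Type v) [CommRing B] [CommRing A]
    [Algebra B A] (lam : A ≃+* A) (hlam : Function.Involutive lam) (hB : RInv.IsFixedRing B A lam)
    [IsLocalRing B] (n : ℕ) (hid : ∀ a : A, lam a - a ∈ Ring.jacobson A) (h2 : IsUnit (2 : A))
    (h : Matrix (Fin n) (Fin n) A) (hh : IsUnit h) (herm : -(h.map lam).transpose = h) :
    Even n ∧ ∃ v : Matrix (Fin n) (Fin n) A, IsUnit v ∧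
      ∀ i j : Fin n,
        (i.val / 2 ≠ j.val / 2 → ((v.map lam).transpose * h * v) i j = 0) ∧
        (i.val / 2 = j.val / 2 → (Even i.val ↔ Even j.val) →
          ((v.map lam).transpose * h * v) i j ∈ Ring.jacobson A) ∧
        (i.val / 2 = j.val / 2 → Even i.val → ¬ Even j.val →
          ((v.map lam).transpose * h * v) i j - 1 ∈ Ring.jacobson A) ∧
        (i.val / 2 = j.val / 2 → ¬ Even i.val → Even j.val →
          ((v.map lam).transpose * h * v) i j + 1 ∈ Ring.jacobson A) := by
  haveI : IsLocalRing A := (Hopf35.RI.isLocalRing_and_not_quad hlam hB hid).1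
  have hj : Ring.jacobson A = IsLocalRing.maximalIdeal A := IsLocalRing.ringJacobson_eq_maximalIdeal A
  have hw : Hopf35.RI.Herm (-1) lam h := fun i j => by
    have e := congrFun (congrFun herm j) i
    simp only [Matrix.neg_apply, Matrix.transpose_apply, Matrix.map_apply] at e
    linear_combination -e
  obtain ⟨hn, w', ⟨g, hg⟩, hb⟩ := Hopf35.RI.blocks_of_skew hlam (hj ▸ hid) h2 n h hw
    ((Matrix.isUnit_iff_isUnit_det h).1 hh)
  refine ⟨hn, AzInv26.ct lam (g : Matrix (Fin n) (Fin n) A), ?_, ?_⟩
  · exact (Matrix.isUnit_iff_isUnit_det _).2 (by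
      rw [AzInv26.ct, Matrix.det_transpose, ← RingEquiv.mapMatrix_apply, ← RingEquiv.map_det]
      exact ((Matrix.isUnit_iff_isUnit_det _).1 g.isUnit).map lam)
  · intro i j
    rw [show ((AzInv26.ct lam (g : Matrix (Fin n) (Fin n) A)).map lam).transpose = g from AzInv26.ct_ct hlam _,
      hg, hj]
    exact hb i j

end Groth.Agent.S15584
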