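import Groth.Statements.S15590
import Mathlib

set_option autoImplicit false
universe u v
open CAlg

namespace Groth.Agent.S15590

/-- Let A → B be an injective homomorphism of commutative rings which makes B a finite flat A-module,
and suppose B is a Dedekind domain (Noetherian, integrally closed, of Krull dimension at most one; a
field is allowed). Then A is a Dedekind domain. -/
theorem result (A : Type u) (B : Type v)
    [CommRing A] [CommRing B] [Algebra A B] [IsDedekindDomain B]
    (hinj : Function.Injective (algebraMap A B)) [Module.Finite A B] [Module.Flat A B] :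
    IsDedekindDomain A := by
  have : IsDomain A := hinj.isDomain _
  have : FaithfulSMul A B := (faithfulSMul_iff_algebraMap_injective A B).mpr hinj
  have : Algebra.IsIntegral A B := Algebra.IsIntegral.of_finite A B
  have hsurj := Algebra.IsIntegral.comap_surjective A B
  have : Module.FaithfullyFlat A B := Module.FaithfullyFlat.of_comap_surjective hsurj
  have hcm : ∀ I : Ideal A, (I.map (algebraMap A B)).comap (algebraMap A B) = I :=
    fun I => Ideal.comap_map_eq_self_of_faithfullyFlat I
  have hnoeth : IsNoetherianRing A := by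
    refine isNoetherian_iff'.mpr ?_
    exact StrictMono.wellFoundedGT (f := fun I : Ideal A => I.map (algebraMap A B)) (fun I J h => lt_of_le_of_ne (Ideal.map_mono h.le) fun e => h.ne (by rw [← hcm I, ← hcm J]; exact congrArg _ e))
  have hdim : Ring.DimensionLEOne A := ⟨fun {p} hp0 hp => by
    obtain ⟨⟨q, hq⟩, hqp'⟩ := hsurj ⟨p, hp⟩
    have hqp : q.comap (algebraMap A B) = p := congrArg PrimeSpectrum.asIdeal hqp'
    have hq0 : q ≠ ⊥ := fun h => hp0 (by rw [← hqp, h, Ideal.comap_bot_of_injective _ hinj])
    have := hq.isMaximal hq0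
    exact hqp ▸ Ideal.isMaximal_comap_of_isIntegral_of_isMaximal q⟩
  let K := FractionRing A
  let L := FractionRing B
  refine (isDedekindDomain_iff A K).mpr ⟨inferInstance, hnoeth, hdim, fun {x} hx => ?_⟩
  obtain ⟨a, b, hb, rfl⟩ := IsFractionRing.div_surjective A x
  have hAL : Function.Injective (Algebra.ofId A L) :=
    (IsScalarTower.algebraMap_eq A B L ▸ (IsFractionRing.injective B L).comp hinj : Function.Injective (algebraMap A L))
  let φ : K →ₐ[A] L := IsFractionRing.liftAlgHom hAL
  have hy : IsIntegral B (φ (algebraMap A K a / algebraMap A K b)) := (hx.map φ).tower_top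
  obtain ⟨c, hc⟩ := IsIntegrallyClosed.isIntegral_iff.mp hy
  have hb0 : algebraMap A L b ≠ 0 := fun h => nonZeroDivisors.ne_zero hb (hAL (by rw [map_zero]; exact h))
  rw [map_div₀, AlgHom.commutes, AlgHom.commutes, eq_div_iff hb0, IsScalarTower.algebraMap_apply A B L a,
    IsScalarTower.algebraMap_apply A B L b, ← map_mul] at hc
  have hmem : a ∈ ((Ideal.span {b}).map (algebraMap A B)).comap (algebraMap A B) := by
    rw [Ideal.mem_comap, ← IsFractionRing.injective B L hc]
    exact Ideal.mul_mem_left _ _ (Ideal.mem_map_of_mem _ (Ideal.mem_span_singleton_self b))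
  rw [hcm, Ideal.mem_span_singleton] at hmem
  obtain ⟨t, rfl⟩ := hmem
  refine ⟨t, ?_⟩
  rw [map_mul, mul_div_cancel_left₀]
  exact IsFractionRing.to_map_ne_zero_of_mem_nonZeroDivisors hb

end Groth.Agent.S15590
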