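import Groth.Statements.S15594
import Groth.Agent.Alg80.PointsTensor
import Mathlib.RingTheory.TensorProduct.Basic

set_option autoImplicit false
universe u
open TensorProduct
open AGF

namespace Groth.Agent.S15594

/-- Affine form. Let k ⊆ K be a field extension, A a commutative k-algebra and S a set of k-algebra
homomorphisms A → k (rational points of Spec A). The ideal ⋂_{σ ∈ S} ker σ cuts out the Zariski
closure of S with its reduced structure, and its extension to K ⊗_k A equals ⋂_{σ ∈ S} ker σ_K,
where σ_K : K ⊗_k A → K is the K-algebra map induced by σ. In words: the closure of a set of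
rational points is formed compatibly with extension of the ground field. (The published statement is
for schemes locally of finite type; this affine row assumes no finiteness, which the argument does
not use.) -/
theorem result (k K A : Type u) [Field k] [Field K] [Algebra k K]
    [CommRing A] [Algebra k A] (S : Set (A →ₐ[k] k)) :
    Ideal.map (Algebra.TensorProduct.includeRight : A →ₐ[k] K ⊗[k] A) (⨅ σ ∈ S, RingHom.ker σ) =
      ⨅ σ ∈ S, RingHom.ker ((Algebra.TensorProduct.rid k K K).toAlgHom.comp
        (Algebra.TensorProduct.map (AlgHom.id K K) σ)) := by
  refine le_antisymm (Ideal.map_le_iff_le_comap.mpr fun a ha => ?_) fun x hx => ?_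
  · simp only [Ideal.mem_iInf, RingHom.mem_ker, Ideal.mem_comap] at ha ⊢
    intro σ hσ
    simp [ha σ hσ]
  · simp only [Ideal.mem_iInf, RingHom.mem_ker] at hx
    refine Alg80.mem_map_right_of_forall_point S x fun σ hσ => ?_
    apply (Algebra.TensorProduct.rid k K K).injective
    rw [map_zero]
    exact hx σ hσ

end Groth.Agent.S15594
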