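import Groth.Statements.S15595
import Groth.Agent.Cohen12.RegularFlat
-- import your own Groth.Agent.* helpers here

set_option autoImplicit false
universe u
open TensorProduct
attribute [local instance] RingHom.ker_isPrime
open CAlg

namespace Groth.Agent.S15595

/-- Let k ⊆ K be a field extension and A a Noetherian local k-algebra with residue field k, recorded by
a k-algebra map π : A → k whose kernel is the maximal ideal. Let π_K : K ⊗_k A → K be the induced
K-algebra map, m' its kernel, and A' the localization of K ⊗_k A at m'. Assume A' is Noetherian.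
Then A is a regular local ring if and only if A' is a regular local ring. -/
theorem result (k K A : Type u) [Field k] [Field K]
    [Algebra k K] [CommRing A] [Algebra k A] [IsLocalRing A] [IsNoetherianRing A]
    (π : A →ₐ[k] k) (hπ : RingHom.ker π = IsLocalRing.maximalIdeal A)
    [IsNoetherianRing (Localization.AtPrime (RingHom.ker
      ((Algebra.TensorProduct.rid k K K).toAlgHom.comp (Algebra.TensorProduct.map (AlgHom.id K K) π))))] :
    IsRegularLocalRing A ↔ IsRegularLocalRing (Localization.AtPrime (RingHom.ker
      ((Algebra.TensorProduct.rid k K K).toAlgHom.comp (Algebra.TensorProduct.map (AlgHom.id K K) π)))) := by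
  letI : Algebra A (K ⊗[k] A) := Algebra.TensorProduct.rightAlgebra
  set πK := (Algebra.TensorProduct.rid k K K).toAlgHom.comp (Algebra.TensorProduct.map (AlgHom.id K K) π) with hπK
  set B := Localization.AtPrime (RingHom.ker πK) with hB
  haveI hflatT : Module.Flat A (K ⊗[k] A) :=
    Module.Flat.of_linearEquiv (Algebra.TensorProduct.commRight k A K).symm.toLinearEquiv
  haveI : IsScalarTower A (K ⊗[k] A) B := IsScalarTower.of_algebraMap_eq fun _ => rfl
  haveI : Module.Flat (K ⊗[k] A) B := IsLocalization.flat B (RingHom.ker πK).primeCompl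
  haveI : Module.Flat A B := Module.Flat.trans A (K ⊗[k] A) B
  have hπc : ∀ (c : K) (a : A), πK (c ⊗ₜ[k] a) = algebraMap k K (π a) * c := fun c a => by
    simp [hπK, Algebra.smul_def]
  have hker : RingHom.ker πK = (IsLocalRing.maximalIdeal A).map (algebraMap A (K ⊗[k] A)) := by
    refine le_antisymm (fun z hz => ?_) (Ideal.map_le_iff_le_comap.2 fun a ha => ?_)
    · set J := (IsLocalRing.maximalIdeal A).map (algebraMap A (K ⊗[k] A))
      have key : ∀ w : K ⊗[k] A, w - (πK w) ⊗ₜ[k] (1 : A) ∈ J := by
        intro w
        induction w using TensorProduct.induction_on with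
        | zero => simp
        | tmul c a =>
          have e : c ⊗ₜ[k] a - (πK (c ⊗ₜ[k] a)) ⊗ₜ[k] (1 : A) =
              (c ⊗ₜ[k] (1 : A)) * algebraMap A (K ⊗[k] A) (a - algebraMap k A (π a)) := by
            rw [hπc, ← Algebra.smul_def, TensorProduct.smul_tmul, ← Algebra.algebraMap_eq_smul_one,
              ← TensorProduct.tmul_sub, Algebra.TensorProduct.right_algebraMap_apply,
              Algebra.TensorProduct.tmul_mul_tmul, mul_one, one_mul]
          rw [e]
          refine Ideal.mul_mem_left _ _ (Ideal.mem_map_of_mem _ ?_)
          rw [← hπ, RingHom.mem_ker, map_sub, AlgHom.commutes, Algebra.algebraMap_self, RingHom.id_apply, sub_self]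
        | add u v hu hv =>
          rw [map_add, TensorProduct.add_tmul, add_sub_add_comm]
          exact add_mem hu hv
      have := key z
      rwa [RingHom.mem_ker.1 hz, TensorProduct.zero_tmul, sub_zero] at this
    · rw [← hπ, RingHom.mem_ker] at ha
      rw [Ideal.mem_comap, RingHom.mem_ker, Algebra.TensorProduct.right_algebraMap_apply, hπc, ha, map_zero, zero_mul]
  have hmax : (IsLocalRing.maximalIdeal A).map (algebraMap A B) = IsLocalRing.maximalIdeal B := by
    rw [IsScalarTower.algebraMap_eq A (K ⊗[k] A) B, ← Ideal.map_map, ← hker]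
    exact Localization.AtPrime.map_eq_maximalIdeal
  haveI : IsLocalHom (algebraMap A B) := ⟨fun a ha => by
    by_contra h
    exact (IsLocalRing.mem_maximalIdeal _).1
      (hmax ▸ Ideal.mem_map_of_mem (algebraMap A B) ((IsLocalRing.mem_maximalIdeal a).2 h)) ha⟩
  haveI : ((IsLocalRing.maximalIdeal A).map (algebraMap A B)).IsMaximal := hmax ▸ IsLocalRing.maximalIdeal.isMaximal B
  letI : Field (B ⧸ (IsLocalRing.maximalIdeal A).map (algebraMap A B)) := Ideal.Quotient.field _
  have t := Groth.Agent.Cohen12.regular_flat_tfae (A := A) (B := B)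
  have h23 := t.out 1 2
  constructor
  · intro h
    exact (h23.2 ⟨h, inferInstance, inferInstance⟩).1
  · intro h
    exact (h23.1 ⟨h, inferInstance, inferInstance⟩).1

end Groth.Agent.S15595
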