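import Groth.Statements.S15596
import Groth.Agent.AlgGrp79.Act
import Groth.Agent.AlgGrp79.Pullback
import Groth.Agent.AlgGrp79.Cover
import Groth.Agent.AlgGrp79.SepDense
import Groth.Agent.AlgGrp79.ProdDense
import Groth.Agent.AlgGrp79.PtsLemmas

set_option autoImplicit false
universe u
open CategoryTheory MonoidalCategory CartesianMonoidalCategory MonObj GrpObj AlgebraicGeometry
open AlgGrp

namespace Groth.Agent.S15596
open Groth.Agent.AlgGrp79 CategoryTheory.Limits
open scoped commutatorElement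

/-- Let k be an algebraically closed field, H a smooth k-group scheme of finite type, and U a dense open
subset of H. Then every k-rational point h of H is of the form u₂ · u₁⁻¹ for k-rational points u₁,
u₂ of H whose underlying points lie in U. -/
theorem result (k : Type u) [Field k] [IsAlgClosed k]
    (H : Over (Spec (CommRingCat.of k))) [GrpObj H] [Smooth H.hom] [QuasiCompact H.hom]
    (U : H.left.Opens) (hU : Dense (U : Set ↥H.left)) (h : 𝟙_ (Over (Spec (CommRingCat.of k))) ⟶ H) :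
    ∃ u₁ u₂ : 𝟙_ (Over (Spec (CommRingCat.of k))) ⟶ H,
      u₁.left.base (IsLocalRing.closedPoint k) ∈ U ∧ u₂.left.base (IsLocalRing.closedPoint k) ∈ U ∧
        h = u₂ * u₁⁻¹ := by
  let L : H ⟶ H := (toUnit H ≫ h) * 𝟙 H
  let L' : H ⟶ H := (toUnit H ≫ h⁻¹) * 𝟙 H
  have h1 : L ≫ L' = 𝟙 H := by simp [L, L', MonObj.comp_mul, GrpObj.comp_inv]
  have h2 : L' ≫ L = 𝟙 H := by simp [L, L', MonObj.comp_mul, GrpObj.comp_inv]
  let e : H.left ≅ H.left := ⟨L.left, L'.left, by rw [← Over.comp_left, h1]; rfl, by rw [← Over.comp_left, h2]; rfl⟩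
  have hne : ((U : Set ↥H.left) ∩ L.left.base ⁻¹' U).Nonempty := by
    obtain ⟨p, hp⟩ : (L.left.base ⁻¹' (U : Set ↥H.left)).Nonempty := by
      obtain ⟨q, hq⟩ := hU.nonempty (h := ⟨η[H].left (IsLocalRing.closedPoint k)⟩)
      refine ⟨e.inv q, ?_⟩
      show L.left (e.inv q) ∈ (U : Set ↥H.left)
      rw [← Scheme.Hom.comp_apply, show e.inv ≫ L.left = 𝟙 _ from e.inv_hom_id]
      exact hq
    obtain ⟨p', hp', hp''⟩ := hU.inter_open_nonempty _ (U.2.preimage L.left.continuous) ⟨p, hp⟩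
    exact ⟨p', hp'', hp'⟩
  obtain ⟨p, ⟨hpU, hpL⟩, s, hs, rfl⟩ :=
    (dense_secPts_of_smooth (K := k) H.hom).inter_open_nonempty _ (U.2.inter (U.2.preimage L.left.continuous)) hne
  let u₁ : 𝟙_ (Over (Spec (CommRingCat.of k))) ⟶ H := Over.homMk s hs
  refine ⟨u₁, u₁ ≫ L, hpU, ?_, ?_⟩
  · show (u₁ ≫ L).left _ ∈ U
    rw [Over.comp_left, Scheme.Hom.comp_apply]
    exact hpL
  · simp [L, MonObj.comp_mul, toUnit_unique (u₁ ≫ toUnit H) (𝟙 _), reassoc_of% (toUnit_unique (u₁ ≫ toUnit H) (𝟙 _))]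
end Groth.Agent.S15596
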