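import Groth.Statements.S15598
import Groth.Agent.AlgGrp79.Act
import Groth.Agent.AlgGrp79.Image
import Groth.Agent.AlgGrp79.Orbit

set_option autoImplicit false
universe u
open CategoryTheory MonoidalCategory CartesianMonoidalCategory MonObj GrpObj AlgebraicGeometry
open AlgGrp

namespace Groth.Agent.S15598
open Groth.Agent.AlgGrp79 CategoryTheory.Limits
open scoped commutatorElement

/-- Let k be an algebraically closed field, G a k-group scheme of finite type, and X a smooth connected
k-scheme with an action of G. Suppose that for some k-point x₀ of X the orbit map g ↦ g · x₀ from G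
to X is surjective, and that the stabilizer of x₀, a subgroup scheme H ⟶ G whose points are exactly
the points g of G with g · x₀ = x₀, is connected. Then G is connected. (Stated over an algebraically
closed field, to which the general case reduces since a k-group scheme of finite type is connected
exactly when it is geometrically connected.) -/
theorem result (k : Type u) [Field k] [IsAlgClosed k]
    (G X : Over (Spec (CommRingCat.of k))) [GrpObj G] [LocallyOfFiniteType G.hom] [QuasiCompact G.hom]
    [Smooth X.hom] [ConnectedSpace ↥X.left] (a : AlgGrp.Action G X) (x₀ : 𝟙_ (Over (Spec (CommRingCat.of k))) ⟶ X)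
    (hsurj : Surjective (a.orbitMap x₀).left)
    (H : Over (Spec (CommRingCat.of k))) [GrpObj H] (i : H ⟶ G) [IsMonHom i] [Mono i]
    (hH : ∀ (T : Over (Spec (CommRingCat.of k))) (g : T ⟶ G), (∃ h : T ⟶ H, h ≫ i = g) ↔ g ≫ a.orbitMap x₀ = toUnit T ≫ x₀)
    [ConnectedSpace ↥H.left] : ConnectedSpace ↥G.left := by
  open Var76.ActTrans in
  have : IsLocallyNoetherian G.left := LocallyOfFiniteType.isLocallyNoetherian G.hom
  have : IsLocallyNoetherian X.left := LocallyOfFiniteType.isLocallyNoetherian X.hom
  have : CompactSpace G.left := QuasiCompact.compactSpace_of_compactSpace G.hom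
  have : IsNoetherian G.left := { }
  have : TopologicalSpace.NoetherianSpace G.left := inferInstance
  have : JacobsonSpace G.left := LocallyOfFiniteType.jacobsonSpace G.hom
  have : IsIntegral X.left := SchBasics.isIntegral_iff_connectedSpace_and_isDomain.2
    ⟨inferInstance, fun p => (Curves2.isIntegrallyClosed_stalk_of_smooth X.hom p).1⟩
  have : CompactSpace X.left := ⟨by
    rw [← hsurj.1.range_eq]; exact isCompact_range (a.orbitMap x₀).left.continuous⟩
  have : IsNoetherian X.left := { }
  have : JacobsonSpace X.left := LocallyOfFiniteType.jacobsonSpace X.hom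
  set f := (a.orbitMap x₀).left with hf
  have hw : f ≫ X.hom = G.hom := Over.w _
  have : LocallyOfFiniteType f := by
    have : LocallyOfFiniteType (f ≫ X.hom) := by rw [hw]; infer_instance
    exact locallyOfFiniteType_of_comp f X.hom
  have : QuasiSeparated X.hom := (HasAffineProperty.iff_of_isAffine (P := @QuasiSeparated)).2 inferInstance
  have : QuasiCompact f := by
    have : QuasiCompact (f ≫ X.hom) := by rw [hw]; infer_instance
    exact .of_comp f X.hom
  have : LocallyOfFinitePresentation f := by
    refine HasRingHomProperty.iff_appLE.2 fun U V e => ?_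
    have : IsNoetherianRing Γ(X.left, U.1) := IsLocallyNoetherian.component_noetherian U
    exact RingHom.FinitePresentation.of_finiteType.1
      (HasRingHomProperty.appLE (P := @LocallyOfFiniteType) f inferInstance U V e)
  have hopen : ∀ g : G.left, IsOpen (connectedComponent g) := SchBasics.isOpen_connectedComponent_of_noetherianSpace
  obtain ⟨g0, hg0⟩ := hsurj.1 (genericPoint X.left)
  obtain ⟨b0, hb0, hb0c⟩ := nonempty_inter_closedPoints (Z := connectedComponent g0) ⟨g0, mem_connectedComponent⟩
    isClosed_connectedComponent.isLocallyClosed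
  have hdense : ∀ g, IsClosed {g} → Dense (f '' connectedComponent g) := by
    intro g hg
    obtain ⟨σ, hσ⟩ := exists_lTrans_eq b0 g hb0c hg
    let L : G.left ≃ₜ G.left := ((Over.forget _).mapIso (lTrans σ)).hom.homeomorph
    let T : X.left ≃ₜ X.left := ((Over.forget _).mapIso (xTrans a σ)).hom.homeomorph
    have hc : (T ∘ f : G.left → X.left) = f ∘ L :=
      funext fun g => (congr(($(lTrans_comp_equivariant a _ (orbitMap_equivariant a x₀) σ)).left g)).symm
    have h1 : L '' connectedComponent g0 = connectedComponent g := by
      rw [connectedComponent_eq hb0]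
      refine subset_antisymm (L.continuous.image_connectedComponent_subset b0 |>.trans (by
        show connectedComponent ((lTrans σ).hom.left b0) ⊆ _; rw [hσ])) ?_
      intro y hy
      refine ⟨L.symm y, ?_, L.apply_symm_apply y⟩
      have h2 : L.symm g = b0 := by rw [L.symm_apply_eq]; exact hσ.symm
      rw [← h2]
      exact L.symm.continuous.image_connectedComponent_subset g ⟨y, hy, rfl⟩
    rw [← h1, ← Set.image_comp, ← hc, Set.image_comp]
    refine T.surjective.denseRange.dense_image T.continuous (dense_iff_closure_eq.2 (top_le_iff.1 ?_))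
    rw [Set.top_eq_univ, ← genericPoint_closure]
    exact closure_mono (Set.singleton_subset_iff.2 ⟨g0, mem_connectedComponent, hg0⟩)
  have hcons : ∀ g, Topology.IsLocallyConstructible (f '' connectedComponent g) := fun g => by
    refine f.isLocallyConstructible_image (Topology.IsConstructible.isLocallyConstructible ?_)
    exact IsCompact.isConstructible (TopologicalSpace.NoetherianSpace.isCompact (connectedComponent g)) (hopen g)
  have key : ∀ g1 g2 : G.left, IsClosed {g1} → IsClosed {g2} → connectedComponent g1 = connectedComponent g2 := by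
    intro g1 g2 hg1 hg2
    have h1 := dense_interior_of_constructible (hcons g1) (hdense g1 hg1)
    have h2 := dense_interior_of_constructible (hcons g2) (hdense g2 hg2)
    have hne := h2.inter_open_nonempty _ isOpen_interior (h1.nonempty)
    obtain ⟨y, hy, hyc⟩ := nonempty_inter_closedPoints hne (isOpen_interior.inter isOpen_interior).isLocallyClosed
    have hy1 : ∃ b, b ∈ connectedComponent g1 ∧ IsClosed {b} ∧ f b = y := by
      obtain ⟨b, hb, hby⟩ := interior_subset hy.1
      obtain ⟨b', ⟨hb', hby'⟩, hbc⟩ := nonempty_inter_closedPoints (Z := connectedComponent g1 ∩ f ⁻¹' {y}) ⟨b, hb, hby⟩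
        (isClosed_connectedComponent.inter (hyc.preimage f.continuous)).isLocallyClosed
      exact ⟨b', hb', hbc, hby'⟩
    have hy2 : ∃ b, b ∈ connectedComponent g2 ∧ IsClosed {b} ∧ f b = y := by
      obtain ⟨b, hb, hby⟩ := interior_subset hy.2
      obtain ⟨b', ⟨hb', hby'⟩, hbc⟩ := nonempty_inter_closedPoints (Z := connectedComponent g2 ∩ f ⁻¹' {y}) ⟨b, hb, hby⟩
        (isClosed_connectedComponent.inter (hyc.preimage f.continuous)).isLocallyClosed
      exact ⟨b', hb', hbc, hby'⟩
    obtain ⟨b1, hb1, hb1c, hb1y⟩ := hy1
    obtain ⟨b2, hb2, hb2c, hb2y⟩ := hy2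
    rw [connectedComponent_eq hb1, connectedComponent_eq hb2]
    let s1 := sec G b1 hb1c
    let s2 := sec G b2 hb2c
    have hss : s1 ≫ a.orbitMap x₀ = s2 ≫ a.orbitMap x₀ := by
      apply Over.OverMorphism.ext
      refine ext_of_apply_closedPoint_eq X.hom (Over.w _) (Over.w _) ?_
      rw [Over.comp_left, Over.comp_left, Scheme.Hom.comp_apply, Scheme.Hom.comp_apply, sec_apply, sec_apply]
      exact hb1y.trans hb2y.symm
    obtain ⟨h, hh⟩ := (hH _ (s2⁻¹ * s1)).2 (by
      rw [comp_orbit, toUnit_unique (toUnit _) (𝟙 _), Category.id_comp, mul_act',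
        show lift s1 x₀ ≫ a.act = lift s2 x₀ ≫ a.act from by
          simpa [comp_orbit, toUnit_unique (toUnit _) (𝟙 _)] using hss,
        ← mul_act', inv_mul_cancel, one_act'])
    let L : G.left ≃ₜ G.left := ((Over.forget _).mapIso (lTrans s2)).hom.homeomorph
    have hL : ∀ s : 𝟙_ (Over (Spec (CommRingCat.of k))) ⟶ G,
        L (s.left (IsLocalRing.closedPoint k)) = (s2 * s).left (IsLocalRing.closedPoint k) := fun s => by
      have : s ≫ (lTrans s2).hom = s2 * s := by rw [comp_lTrans, toUnit_unique (toUnit _) (𝟙 _), Category.id_comp]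
      exact congr(($this).left (IsLocalRing.closedPoint k))
    have hconn : _root_.IsPreconnected (L '' Set.range i.left) :=
      (isPreconnected_range i.left.continuous).image _ L.continuous.continuousOn
    have m1 : b1 ∈ L '' Set.range i.left := by
      refine ⟨(h ≫ i).left (IsLocalRing.closedPoint k), ⟨h.left (IsLocalRing.closedPoint k), rfl⟩, ?_⟩
      rw [hL, hh, mul_inv_cancel_left]
      exact sec_apply G b1 hb1c _
    have m2 : b2 ∈ L '' Set.range i.left := by
      refine ⟨((1 : 𝟙_ _ ⟶ H) ≫ i).left (IsLocalRing.closedPoint k), ⟨(1 : 𝟙_ _ ⟶ H).left (IsLocalRing.closedPoint k), rfl⟩, ?_⟩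
      rw [hL, MonObj.one_comp, _root_.mul_one]
      exact sec_apply G b2 hb2c _
    exact (connectedComponent_eq (hconn.subset_connectedComponent m2 m1)).symm
  have huniv : connectedComponent b0 = Set.univ := by
    refine Set.eq_univ_of_forall fun g => ?_
    obtain ⟨g', hg', hg'c⟩ := nonempty_inter_closedPoints (Z := connectedComponent g) ⟨g, mem_connectedComponent⟩
      isClosed_connectedComponent.isLocallyClosed
    rw [key b0 g' hb0c hg'c, ← connectedComponent_eq hg']
    exact mem_connectedComponent
  exact connectedSpace_iff_connectedComponent.2 ⟨b0, huniv⟩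
end Groth.Agent.S15598
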