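import Groth.Statements.S15602
import Groth.Agent.AlgGrp79.Chart
import Groth.Agent.AlgGrp79.GmGaLaws

set_option autoImplicit false
universe u
open CategoryTheory MonoidalCategory CartesianMonoidalCategory MonObj GrpObj AlgebraicGeometry
open AlgGrp

namespace Groth.Agent.S15602
open Groth.Agent.AlgGrp79 CategoryTheory.Limits
open scoped commutatorElement

/-- Additive case. Let k be a field and consider the affine line over k, taken here as the underlying
k-scheme of the additive group. Any two structures of k-group scheme on it with the same unit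
section have the same multiplication; in particular a group law on the affine line whose identity is
the origin is the usual addition. -/
theorem result (k : Type u) [Field k]
    (h₁ h₂ : GrpObj (Red.Ga (Spec (CommRingCat.of k)))) (e : h₁.one = h₂.one) : h₁.mul = h₂.mul := by
  have : IsAffine (Red.Ga (Spec (CommRingCat.of k))).left :=
    @isAffine_bc_terminal k _ Red.GaZ (inferInstanceAs (IsAffine (Spec (CommRingCat.of _))))
  have : IsAffine (Red.Ga (Spec (CommRingCat.of k)) ⊗ Red.Ga (Spec (CommRingCat.of k))).left :=
    inferInstanceAs (IsAffine (pullback _ _))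
  let c : k := gaC (toUnit (specO k k) ≫ h₁.one)
  have main : ∀ h : GrpObj (Red.Ga (Spec (CommRingCat.of k))), h.one = h₁.one →
      ∀ (A : Type u) [CommRing A] [Algebra k A] (a b : A),
        gaC (lift (gaP (k := k) a) (gaP b) ≫ h.mul) = a + b - algebraMap k A c := by
    intro h hone A _ _ a b
    have hc : ∀ (A : Type u) [CommRing A] [Algebra k A], gaC (toUnit (specO k A) ≫ h.one) = algebraMap k A c := by
      intro A _ _
      rw [hone, kOne_natural, gaC_specPt]; rfl
    exact line_law_eq (fun A _ _ a b => gaC (lift (gaP (k := k) a) (gaP b) ≫ h.mul))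
      (fun A B _ _ _ _ φ a b => gaLaw_natural φ a b h.mul)
      (fun A _ _ a b d => by simp only [gaP_gaC]; rw [law_assoc h])
      c (fun A _ _ a => by
        constructor
        · rw [← hc, gaP_gaC, (mul_one' h _).1, gaC_gaP]
        · rw [← hc, gaP_gaC, (mul_one' h _).2, gaC_gaP])
      (fun A _ _ a => by
        obtain ⟨y, hy⟩ := law_inv h (gaP (k := k) a)
        exact ⟨gaC y, by rw [gaP_gaC, hy, hc]⟩) A a b
  refine ext_of_affine_pts _ _ fun A _ _ x => ?_
  have hx : x = lift (gaP (gaC (x ≫ fst _ _))) (gaP (gaC (x ≫ snd _ _))) := by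
    rw [gaP_gaC, gaP_gaC]; ext : 1 <;> simp
  rw [hx, ← gaP_gaC (_ ≫ h₁.mul), ← gaP_gaC (_ ≫ h₂.mul), main h₁ rfl, main h₂ e.symm]
end Groth.Agent.S15602
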