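import Groth.Statements.S15603
import Groth.Agent.AlgGrp79.Chart
import Groth.Agent.AlgGrp79.GmGaLaws

set_option autoImplicit false
universe u
open CategoryTheory MonoidalCategory CartesianMonoidalCategory MonObj GrpObj AlgebraicGeometry
open AlgGrp

namespace Groth.Agent.S15603
open Groth.Agent.AlgGrp79 CategoryTheory.Limits
open scoped commutatorElement

/-- Multiplicative case. Let k be a field and consider the affine line minus the origin over k, taken
here as the underlying k-scheme of the multiplicative group. Any two structures of k-group scheme on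
it with the same unit section have the same multiplication; in particular a group law on the
punctured line whose identity is the point 1 is the usual multiplication. -/
theorem result (k : Type u) [Field k]
    (h₁ h₂ : GrpObj (Red.Gm (Spec (CommRingCat.of k)))) (e : h₁.one = h₂.one) : h₁.mul = h₂.mul := by
  have : IsAffine (Red.Gm (Spec (CommRingCat.of k))).left :=
    @isAffine_bc_terminal k _ (Red.diag (ULift.{u} ℤ) ℤ) (inferInstanceAs (IsAffine (Spec (CommRingCat.of _))))
  have : IsAffine (Red.Gm (Spec (CommRingCat.of k)) ⊗ Red.Gm (Spec (CommRingCat.of k))).left :=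
    inferInstanceAs (IsAffine (pullback _ _))
  let c : kˣ := gmC (toUnit (specO k k) ≫ h₁.one)
  have main : ∀ h : GrpObj (Red.Gm (Spec (CommRingCat.of k))), h.one = h₁.one →
      ∀ (A : Type u) [CommRing A] [Algebra k A] (a b : Aˣ),
        gmC (lift (gmP (k := k) a) (gmP b) ≫ h.mul) = a * b * (Units.map (algebraMap k A : k →* A) c)⁻¹ := by
    intro h hone A _ _ a b
    have hc : ∀ (A : Type u) [CommRing A] [Algebra k A], gmC (toUnit (specO k A) ≫ h.one) = Units.map (algebraMap k A : k →* A) c := by
      intro A _ _
      rw [hone, kOne_natural, gmC_specPt]; rfl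
    exact punctured_law_eq (fun A _ _ a b => gmC (lift (gmP (k := k) a) (gmP b) ≫ h.mul))
      (fun A B _ _ _ _ φ a b => gmLaw_natural φ a b h.mul)
      c (fun A _ _ a => by
        constructor
        · rw [← hc, gmP_gmC, (mul_one' h _).1, gmC_gmP]
        · rw [← hc, gmP_gmC, (mul_one' h _).2, gmC_gmP]) A a b
  refine ext_of_affine_pts _ _ fun A _ _ x => ?_
  have hx : x = lift (gmP (gmC (x ≫ fst _ _))) (gmP (gmC (x ≫ snd _ _))) := by
    rw [gmP_gmC, gmP_gmC]; ext : 1 <;> simp
  rw [hx, ← gmP_gmC (_ ≫ h₁.mul), ← gmP_gmC (_ ≫ h₂.mul), main h₁ rfl, main h₂ e.symm]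
end Groth.Agent.S15603
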