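import Groth.Statements.S15604
import Groth.Agent.AlgGrp79.Act
import Groth.Agent.AlgGrp79.Pullback
import Groth.Agent.AlgGrp79.Cover
import Groth.Agent.AlgGrp79.SepDense
import Groth.Agent.AlgGrp79.RigidityGlobal
import Groth.Agent.AlgGrp79.Image

set_option autoImplicit false
universe u
open CategoryTheory MonoidalCategory CartesianMonoidalCategory MonObj GrpObj AlgebraicGeometry
open AlgGrp

namespace Groth.Agent.S15604
open Groth.Agent.AlgGrp79 CategoryTheory.Limits
open scoped commutatorElement

/-- Let k be a field and f : G ⟶ G' a homomorphism of k-group schemes of finite type, with G smooth over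
k. The image of f is closed (not asserted here); with its reduced induced structure it is smooth
over k: every reduced closed subscheme H of G' whose underlying set is the set-theoretic image of f
is smooth over k. -/
theorem result (k : Type u) [Field k]
    (G G' : Over (Spec (CommRingCat.of k))) [GrpObj G] [GrpObj G'] [Smooth G.hom] [QuasiCompact G.hom]
    [LocallyOfFiniteType G'.hom] [QuasiCompact G'.hom] (f : G ⟶ G') [IsMonHom f]
    (H : Scheme.{u}) (i : H ⟶ G'.left) [IsClosedImmersion i] [IsReduced H]
    (hH : Set.range i.base = Set.range f.left.base) : Smooth (i ≫ G'.hom) := by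
  have := isSeparated_grp G'
  have : QuasiCompact (f.left ≫ G'.hom) := by rw [Over.w]; infer_instance
  have : QuasiCompact f.left := QuasiCompact.of_comp f.left G'.hom
  have : AlgebraicGeometry.IsReduced G.left := isReduced_of_smooth G.hom
  have hker : i.ker ≤ f.left.ker := by
    rw [Scheme.IdealSheafData.le_def]
    intro U x hx
    rw [Scheme.Hom.ker_apply, RingHom.mem_ker] at hx ⊢
    refine (basicOpen_eq_bot_iff _).1 ?_
    ext1
    rw [TopologicalSpace.Opens.coe_bot]
    by_contra hne
    obtain ⟨p, hp⟩ := Set.nonempty_iff_ne_empty.2 hne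
    have hpx : f.left p ∈ G'.left.basicOpen x := by
      rw [← Scheme.preimage_basicOpen] at hp
      exact hp
    obtain ⟨q, hq⟩ := hH.ge ⟨p, rfl⟩
    have : q ∈ i ⁻¹ᵁ G'.left.basicOpen x := show i q ∈ _ from hq ▸ hpx
    rw [Scheme.preimage_basicOpen, hx, Scheme.basicOpen_zero] at this
    exact this.elim
  let K : Over (Spec (CommRingCat.of k)) := Over.mk (i ≫ G'.hom)
  let j : K ⟶ G' := Over.homMk i rfl
  let g : G ⟶ K := Over.homMk (IsClosedImmersion.lift i f.left hker) (by
    show IsClosedImmersion.lift i f.left hker ≫ i ≫ G'.hom = G.hom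
    rw [IsClosedImmersion.lift_fac_assoc, Over.w])
  have hgj : g ≫ j = f := by ext : 1; exact IsClosedImmersion.lift_fac _ _ _
  have : IsClosedImmersion j.left := ‹IsClosedImmersion i›
  have : AlgebraicGeometry.IsReduced K.left := ‹IsReduced H›
  have : QuasiCompact g.left := by
    have : QuasiCompact (g.left ≫ j.left) := by rw [← Over.comp_left, hgj]; infer_instance
    exact QuasiCompact.of_comp g.left j.left
  have : Surjective g.left := ⟨fun q => by
    obtain ⟨p, hp⟩ := hH.le ⟨q, rfl⟩
    refine ⟨p, i.isClosedEmbedding.injective ?_⟩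
    rw [← Scheme.Hom.comp_apply]
    exact (congrArg (fun t : G.left ⟶ G'.left => t p) (IsClosedImmersion.lift_fac i f.left hker)).trans hp⟩
  have : IsSchemeTheoreticallyDominant g.left := .of_isDominant _
  have hK := closed_of_dominant f j g hgj
  have := Over.mono_of_mono_left j
  obtain ⟨hgrp, _⟩ := exists_grpObj_closed j hK.1 hK.2
  let : GrpObj (Over.mk (i ≫ G'.hom)) := hgrp
  have : LocallyOfFiniteType (i ≫ G'.hom) := inferInstance
  have : GeometricallyReduced (i ≫ G'.hom) := by
    let σ := Spec.map (CommRingCat.ofHom (algebraMap k (AlgebraicClosure k)))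
    let m : pullback G.hom σ ⟶ pullback (i ≫ G'.hom) σ := pullback.map _ _ _ _ g.left (𝟙 _) (𝟙 _)
      (by rw [Category.comp_id]; exact (Over.w g).symm) (by simp)
    have sq : IsPullback m (pullback.fst G.hom σ) (pullback.fst (i ≫ G'.hom) σ) g.left := by
      refine IsPullback.of_right (h₁₂ := pullback.snd (i ≫ G'.hom) σ) (v₁₃ := σ) ?_ (by simp [m, pullback.lift_fst])
        (IsPullback.of_hasPullback (i ≫ G'.hom) σ).flip
      rw [show m ≫ pullback.snd (i ≫ G'.hom) σ = pullback.snd G.hom σ from (pullback.lift_snd _ _ _).trans (Category.comp_id _),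
        show g.left ≫ i ≫ G'.hom = G.hom from Over.w g]
      exact (IsPullback.of_hasPullback G.hom σ).flip
    have : Flat (pullback.fst (i ≫ G'.hom) σ) := MorphismProperty.pullback_fst _ _ inferInstance
    have : IsSchemeTheoreticallyDominant m := IsSchemeTheoreticallyDominant.of_isPullback sq.flip
    have : QuasiCompact m := MorphismProperty.of_isPullback (P := @QuasiCompact) sq.flip ‹_›
    have : AlgebraicGeometry.IsReduced (pullback G.hom σ) := by
      have : Smooth (pullback.snd G.hom σ) := MorphismProperty.pullback_snd _ _ ‹_›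
      exact isReduced_of_smooth (pullback.snd G.hom σ)
    have hr : AlgebraicGeometry.IsReduced (pullback (i ≫ G'.hom) σ) := IsSchemeTheoreticallyDominant.isReduced m
    have : AlgebraicGeometry.IsReduced (FBase.bc (i ≫ G'.hom) (AlgebraicClosure k)) := hr
    exact FBase64.geometricallyReduced_of_isReduced_perfect _ (AlgebraicClosure k)
  exact smooth_of_grpObj _
end Groth.Agent.S15604
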