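import Groth.Statements.S15605
import Groth.Agent.Alg80.PointsTensor

set_option autoImplicit false
universe u
open TensorProduct
open AGF

namespace Groth.Agent.S15605

/-- Affine form. Let k be a field, A and A' finitely generated commutative k-algebras and S, S' sets of
k-algebra homomorphisms A → k, A' → k. The closure of a set of rational points of Spec A is cut out
by the intersection of their kernels. Compatibility of these closures with products: in A ⊗_k A',
the intersection over (σ, σ') ∈ S × S' of the kernels of σ ⊗ σ' : A ⊗_k A' → k equals the ideal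
generated by the images of ⋂_{σ} ker σ and of ⋂_{σ'} ker σ'. -/
theorem result (k A A' : Type u) [Field k] [CommRing A] [Algebra k A]
    [Algebra.FiniteType k A] [CommRing A'] [Algebra k A'] [Algebra.FiniteType k A']
    (S : Set (A →ₐ[k] k)) (S' : Set (A' →ₐ[k] k)) :
    (⨅ σ ∈ S, ⨅ σ' ∈ S', RingHom.ker ((Algebra.TensorProduct.lmul' (S := k) k).comp
        (Algebra.TensorProduct.map σ σ'))) =
      Ideal.map (Algebra.TensorProduct.includeLeft : A →ₐ[k] A ⊗[k] A') (⨅ σ ∈ S, RingHom.ker σ) ⊔
        Ideal.map (Algebra.TensorProduct.includeRight : A' →ₐ[k] A ⊗[k] A') (⨅ σ' ∈ S', RingHom.ker σ') := by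
  refine le_antisymm (fun x hx => ?_) (sup_le ?_ ?_)
  · simp only [Ideal.mem_iInf, RingHom.mem_ker] at hx
    set I' : Ideal A' := ⨅ σ' ∈ S', RingHom.ker σ' with hI'
    set q := Algebra.TensorProduct.map (AlgHom.id k A) (Ideal.Quotient.mkₐ k I')
    have hz := Alg80.mem_map_of_forall_point S (q x) fun σ hσ => by
      have h0 : Algebra.TensorProduct.map σ (AlgHom.id k (A' ⧸ I')) (q x) =
          Algebra.TensorProduct.map (AlgHom.id k k) (Ideal.Quotient.mkₐ k I')
            (Algebra.TensorProduct.map σ (AlgHom.id k A') x) := by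
        rw [← AlgHom.comp_apply, ← AlgHom.comp_apply, ← Algebra.TensorProduct.map_comp,
          ← Algebra.TensorProduct.map_comp]
        rfl
      rw [h0]
      apply (Algebra.TensorProduct.lid k (A' ⧸ I')).injective
      rw [map_zero]
      have h1 : (Algebra.TensorProduct.lid k (A' ⧸ I')).toAlgHom.comp
          (Algebra.TensorProduct.map (AlgHom.id k k) (Ideal.Quotient.mkₐ k I')) =
          (Ideal.Quotient.mkₐ k I').comp (Algebra.TensorProduct.lid k A').toAlgHom := by ext <;> simp
      refine (DFunLike.congr_fun h1 _).trans ?_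
      refine Ideal.Quotient.eq_zero_iff_mem.mpr ?_
      simp only [I', Ideal.mem_iInf, RingHom.mem_ker]
      intro σ' hσ'
      have h2 : (σ'.comp (Algebra.TensorProduct.lid k A').toAlgHom).comp
          (Algebra.TensorProduct.map σ (AlgHom.id k A')) =
          (Algebra.TensorProduct.lmul' (S := k) k).comp (Algebra.TensorProduct.map σ σ') := by
        ext <;> simp [Algebra.TensorProduct.lmul'_apply_tmul, mul_comm]
      exact (DFunLike.congr_fun h2 x).trans (hx σ hσ σ' hσ')
    set I : Ideal A := ⨅ σ ∈ S, RingHom.ker σ with hI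
    have hsurj : Function.Surjective (Ideal.Quotient.mkₐ k I') := Ideal.Quotient.mk_surjective
    rw [show (Algebra.TensorProduct.includeLeft : A →ₐ[k] A ⊗[k] (A' ⧸ I')) =
      q.comp Algebra.TensorProduct.includeLeft by ext; simp [q], ← Ideal.map_mapₐ,
      ← Ideal.mem_comap, Ideal.comap_map_of_surjective q
        (by exact TensorProduct.map_surjective Function.surjective_id hsurj)] at hz
    have hk : Ideal.comap q ⊥ = Ideal.map (Algebra.TensorProduct.includeRight : A' →ₐ[k] A ⊗[k] A') I' := by
      have := Algebra.TensorProduct.lTensor_ker (A := A) (Ideal.Quotient.mkₐ k I') hsurj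
      have hker : RingHom.ker (Ideal.Quotient.mkₐ k I') = I' := Ideal.mk_ker
      rw [hker] at this
      exact this
    rwa [hk] at hz
  · refine Ideal.map_le_iff_le_comap.mpr fun a ha => ?_
    simp only [Ideal.mem_iInf, RingHom.mem_ker, Ideal.mem_comap] at ha ⊢
    intro σ hσ σ' hσ'
    simp [ha σ hσ]
  · refine Ideal.map_le_iff_le_comap.mpr fun a ha => ?_
    simp only [Ideal.mem_iInf, RingHom.mem_ker, Ideal.mem_comap] at ha ⊢
    intro σ hσ σ' hσ'
    simp [ha σ' hσ']

end Groth.Agent.S15605
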