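import Groth.Statements.S15606
import Groth.Agent.AlgGrp33.Coord
import Groth.Agent.AlgGrp33.SubGa
-- import your own Groth.Agent.* helpers here

set_option autoImplicit false
universe u
open CategoryTheory MonoidalCategory CartesianMonoidalCategory MonObj GrpObj AlgebraicGeometry
open AlgGrp

namespace Groth.Agent.S15606

open Groth.Agent in
theorem pull_injective {k : Type u} [Field k] {A A' : Type u} [CommRing A] [HopfAlgebra k A] [CommRing A']
    [HopfAlgebra k A'] {G H : Over (Spec (CommRingCat.of k))} [GrpObj G] [GrpObj H]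
    (ψ : GMod80.sp k A ≅ G) [IsMonHom ψ.hom] (ψ' : GMod80.sp k A' ≅ H) [IsMonHom ψ'.hom]
    [Smooth G.hom] (f : H ⟶ G) [Surjective f.left] : Function.Injective (GMod80.pull ψ ψ' f) := by
  haveI : AlgebraicGeometry.IsReduced G.left := AlgGrp79.isReduced_of_smooth G.hom
  refine (injective_iff_map_eq_zero _).2 fun a ha => ?_
  refine (map_eq_zero_iff _ (GMod80.fn ψ).injective).1 ((basicOpen_eq_bot_iff _).1 ?_)
  have h := GMod80.appTop_i_fn ψ ψ' f a
  rw [ha, map_zero] at h
  have h2 := Scheme.preimage_basicOpen_top f.left (GMod80.fn ψ a)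
  rw [show f.left.appTop (GMod80.fn ψ a) = 0 from h, Scheme.basicOpen_zero] at h2
  refine eq_bot_iff.2 fun x hx => ?_
  obtain ⟨y, rfl⟩ := f.left.surjective x
  exact h2.le (show y ∈ f.left ⁻¹ᵁ G.left.basicOpen (GMod80.fn ψ a) from hx)

/-- Additive case. Let k be a field, H an affine smooth connected k-group scheme, and f a homomorphism
from the additive group over k to H which is finite and surjective (an isogeny onto H). Then H is
isomorphic, as a k-group scheme, to the additive group. In particular every quotient of the additive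
group by a finite k-subgroup scheme is isomorphic to the additive group over k itself, for any field
k. -/
theorem result (k : Type u) [Field k]
    (H : Over (Spec (CommRingCat.of k))) [GrpObj H] [IsAffine H.left] [Smooth H.hom] [ConnectedSpace ↥H.left]
    (f : Red.Ga (Spec (CommRingCat.of k)) ⟶ H) [IsMonHom f] [IsFinite f.left] [Surjective f.left] :
    Nonempty (Grp.mk H ≅ Grp.mk (Red.Ga (Spec (CommRingCat.of k)))) := by
  haveI := Groth.Agent.AlgGrp33.isAffine_Ga (k := k)
  obtain ⟨A, _, _, ψ, _⟩ := Groth.Agent.GMod80.exists_coord (k := k) H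
  obtain ⟨ψ', _⟩ := Groth.Agent.AlgGrp33.exists_coord_Ga (k := k)
  have hinj := pull_injective ψ ψ' f
  let φ := Groth.Agent.GMod80.pullBialg ψ ψ' f
  have hfin : (φ : A →ₐ[k] SymmetricAlgebra k k).toRingHom.Finite := by
    have h : ((Groth.Agent.GMod80.fn ψ').symm.toRingHom.comp
        (f.left.appTop.hom.comp (Groth.Agent.GMod80.fn ψ).toRingHom)).Finite :=
      (RingHom.Finite.of_surjective _ (Groth.Agent.GMod80.fn ψ').symm.surjective).comp
        ((IsFinite.finite_app (f := f.left) ⊤ (isAffineOpen_top _)).comp
          (RingHom.Finite.of_surjective _ (Groth.Agent.GMod80.fn ψ).surjective))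
    convert h using 1
    refine RingHom.ext fun a => ?_
    exact ((congrArg (Groth.Agent.GMod80.fn ψ').symm (Groth.Agent.GMod80.appTop_i_fn ψ ψ' f a)).trans
      ((Groth.Agent.GMod80.fn ψ').symm_apply_apply _)).symm
  have hne : ∃ a, ∀ c : k, φ a ≠ algebraMap k _ c := by
    by_contra! hcon
    have h : (φ : A →ₐ[k] SymmetricAlgebra k k).toRingHom =
        (algebraMap k (SymmetricAlgebra k k)).comp (Bialgebra.counitAlgHom k A).toRingHom := by
      refine RingHom.ext fun a => ?_
      obtain ⟨c, hc⟩ := hcon a
      have : c = Coalgebra.counit (R := k) a := by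
        rw [← CoalgHomClass.counit_comp_apply φ a, hc, Bialgebra.counit_algebraMap]
      subst this
      exact hc
    rw [h] at hfin
    haveI : Module.Finite k (SymmetricAlgebra k k) :=
      RingHom.finite_algebraMap.1 (RingHom.Finite.of_comp_finite hfin)
    exact Polynomial.not_finite (R := k) (Module.Finite.equiv
      (AlgEquiv.ofBijective _ (Groth.Agent.AlgGrp33.SubGa.bijective_aeval (k := k))).symm.toLinearEquiv)
  obtain ⟨E⟩ := Groth.Agent.AlgGrp33.SubGa.nonempty_equiv φ hinj hne
  exact Groth.Agent.AlgGrp33.nonempty_grpIso ψ' ψ E.symm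

end Groth.Agent.S15606
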