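import Groth.Statements.S15608
import Groth.Agent.AlgGrp79.Batch
import Groth.Agent.AlgGrp79.Image
import Groth.Agent.AlgGrp79.RatDense

set_option autoImplicit false
universe u
open CategoryTheory MonoidalCategory CartesianMonoidalCategory MonObj GrpObj AlgebraicGeometry
open AlgGrp

namespace Groth.Agent.S15608
open Groth.Agent.AlgGrp79 CategoryTheory.Limits
open scoped commutatorElement

/-- Let k be a field, G a smooth k-group scheme of finite type and Σ a subgroup of the abstract group
G(k) of k-rational points. Then the Zariski closure of Σ in G, with its reduced structure, is a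
smooth closed k-subgroup: there are a smooth k-group scheme H and a homomorphism H ⟶ G which is a
closed immersion whose image is the closure of the set of points of G underlying the elements of Σ.
(The published statement also asserts that forming this closure commutes with extension of the
ground field; that clause is not stated here, its affine form being stated separately.) -/
theorem result (k : Type u) [Field k]
    (G : Over (Spec (CommRingCat.of k))) [GrpObj G] [Smooth G.hom] [QuasiCompact G.hom]
    (S : Subgroup (𝟙_ (Over (Spec (CommRingCat.of k))) ⟶ G)) :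
    ∃ (H : Over (Spec (CommRingCat.of k))) (_ : GrpObj H) (i : H ⟶ G), IsMonHom i ∧ IsClosedImmersion i.left ∧ Smooth H.hom ∧
      Set.range i.left.base =
        closure ((fun s : (𝟙_ (Over (Spec (CommRingCat.of k))) ⟶ G) => s.left.base (IsLocalRing.closedPoint k)) '' (S : Set _)) := by
  let I := Scheme.IdealSheafData.vanishingIdeal
    (⟨closure (ratPt '' (S : Set (𝟙_ (Over (Spec (CommRingCat.of k))) ⟶ G))), isClosed_closure⟩ : TopologicalSpace.Closeds G.left)
  let H : Over (Spec (CommRingCat.of k)) := Over.mk (I.subschemeι ≫ G.hom)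
  let i : H ⟶ G := Over.homMk I.subschemeι rfl
  have : IsClosedImmersion i.left := inferInstanceAs (IsClosedImmersion I.subschemeι)
  have hrange : Set.range i.left = closure (ratPt '' (S : Set _)) := SchBasics.range_vanishingIdeal_subschemeι _
  have : IsReduced H.left := SchBasics.isReduced_vanishingIdeal_subscheme _
  have : IsReduced (𝟙_ (Over (Spec (CommRingCat.of k)))).left := inferInstanceAs (IsReduced (Spec (CommRingCat.of k)))
  have hpt : ∀ s ∈ S, ∃ s' : 𝟙_ (Over (Spec (CommRingCat.of k))) ⟶ H, s' ≫ i = s := fun s hs => by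
    refine exists_lift_of_range_subset i s ?_
    rintro _ ⟨c, rfl⟩
    rw [hrange, Subsingleton.elim (α := PrimeSpectrum k) c (IsLocalRing.closedPoint k)]
    exact subset_closure ⟨s, hs, rfl⟩
  let S' : Set (𝟙_ (Over (Spec (CommRingCat.of k))) ⟶ H) := {s' | s' ≫ i ∈ S}
  have hd : Dense (ratPt '' S') := by
    rw [i.left.isClosedEmbedding.isInducing.dense_iff]
    intro x
    have hsub : ratPt '' (S : Set _) ⊆ i.left '' (ratPt '' S') := by
      rintro _ ⟨s, hs, rfl⟩
      obtain ⟨s', rfl⟩ := hpt s hs
      exact ⟨ratPt s', ⟨s', hs, rfl⟩, rfl⟩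
    exact closure_mono hsub (hrange.le ⟨x, rfl⟩)
  have : GeometricallyReduced H.hom := geometricallyReduced_of_dense_rat S' hd
  have : IsReduced (H ⊗ H).left := FBase64.isReduced_pullback_of_geometricallyReduced H.hom H.hom
  have hd2 := dense_rat_prod S' hd S' hd
  obtain ⟨m, hm⟩ := exists_lift_of_range_subset i (((fst H H ≫ i)⁻¹ * (snd H H ≫ i))) (by
    rw [← Set.image_univ, ← hd2.closure_eq]
    refine (image_closure_subset_closure_image ((((fst H H ≫ i)⁻¹ * (snd H H ≫ i))).left.continuous)).trans ?_
    refine closure_minimal ?_ i.left.isClosedEmbedding.isClosed_range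
    rintro _ ⟨_, ⟨_, ⟨⟨s, t⟩, ⟨hs, ht⟩, rfl⟩, rfl⟩, rfl⟩
    rw [hrange]
    refine subset_closure ⟨(s ≫ i)⁻¹ * (t ≫ i), S.mul_mem (S.inv_mem hs) ht, ?_⟩
    show _ = ((fst H H ≫ i)⁻¹ * (snd H H ≫ i)).left ((lift s t).left _)
    rw [← Scheme.Hom.comp_apply, ← Over.comp_left, MonObj.comp_mul, GrpObj.comp_inv, lift_fst_assoc, lift_snd_assoc])
  have := Over.mono_of_mono_left i
  obtain ⟨e, he⟩ := hpt 1 S.one_mem
  obtain ⟨hgrp, hmon⟩ := exists_grpObj_closed i ⟨e, by rw [he, one_def', toUnit_unique (toUnit _) (𝟙 _), Category.id_comp]⟩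
    fun T k₁ k₂ => ⟨lift k₁ k₂ ≫ m, by rw [Category.assoc, hm, MonObj.comp_mul, GrpObj.comp_inv, lift_fst_assoc, lift_snd_assoc]⟩
  let : GrpObj (Over.mk H.hom) := hgrp
  have : LocallyOfFiniteType H.hom := inferInstanceAs (LocallyOfFiniteType (I.subschemeι ≫ G.hom))
  exact ⟨H, hgrp, i, hmon, ‹_›, smooth_of_grpObj H.hom, hrange⟩
end Groth.Agent.S15608
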