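import Groth.Statements.S15635
import Groth.Agent.HilbZeta12.Series

set_option autoImplicit false
set_option backward.isDefEq.respectTransparency false
set_option backward.isDefEq.respectTransparency.types false
universe u
open CategoryTheory CategoryTheory.Limits AlgebraicGeometry
open HilbZeta

namespace Groth.Agent.S15635

/-- Let k be a field and X a separated k-scheme of finite type; for every d let H_d be a k-scheme of
finite type carrying a universal family Z_d ⊆ X ×_k H_d of closed subschemes that are finite locally
free of degree d over H_d (so H_d is the Hilbert scheme of d points of X), and write [–] for classes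
in the Grothendieck ring of k-schemes of finite type. Let Y ⊆ X be a closed subset with open
complement U. For each d let HU_d ⊆ H_d be the open subscheme on the points h such that every point
of Z_d lying over h projects into U, and HY_d ⊆ H_d a closed subscheme whose points are exactly
those h such that every point of Z_d lying over h projects into Y (these are the Hilbert scheme of d
points of U and the Hilbert scheme of d points of X supported in Y; the class of the latter does not
depend on the chosen subscheme structure). Then Σ_d [H_d] t^d = (Σ_d [HU_d] t^d) · (Σ_d [HY_d] t^d)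
as power series. (The published statement is made for reduced curves, the base field being
algebraically closed; this row allows any separated scheme of finite type and any base field.) -/
theorem result (k : Type u) [Field k] (X : Scheme.{u})
    (f : X ⟶ Spec (CommRingCat.of k)) [LocallyOfFiniteType f] [QuasiCompact f] [IsSeparated f]
    (Y : Set X) (hY : IsClosed Y)
    (H : ℕ → Over (Spec (CommRingCat.of k)))
    (Z : ∀ d, HilbD.Obj f d (H d)) (hZ : ∀ d, HilbD.IsUniversal f d (H d) (Z d))
    [∀ d, LocallyOfFiniteType (H d).hom] [∀ d, QuasiCompact (H d).hom]
    (HU HY : ℕ → Scheme.{u}) (jU : ∀ d, HU d ⟶ (H d).left) (iY : ∀ d, HY d ⟶ (H d).left)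
    [∀ d, IsOpenImmersion (jU d)] [∀ d, QuasiCompact (jU d)] [∀ d, IsClosedImmersion (iY d)]
    (hjU : ∀ d, Set.range (jU d) = {h | ∀ z : (Z d).1.subscheme,
      ((Z d).1.subschemeι ≫ pullback.snd f (H d).hom) z = h →
        ((Z d).1.subschemeι ≫ pullback.fst f (H d).hom) z ∈ Yᶜ})
    (hiY : ∀ d, Set.range (iY d) = {h | ∀ z : (Z d).1.subscheme,
      ((Z d).1.subschemeι ≫ pullback.snd f (H d).hom) z = h →
        ((Z d).1.subschemeι ≫ pullback.fst f (H d).hom) z ∈ Y}) :
    PowerSeries.mk (fun d => K0Var.cl (H d).hom) =
      PowerSeries.mk (fun d => K0Var.cl (jU d ≫ (H d).hom)) *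
        PowerSeries.mk (fun d => K0Var.cl (iY d ≫ (H d).hom)) := by
  have h := Groth.Agent.HilbZeta12.series_eq H Z hZ Set.univ Y hY (fun d => (H d).left) HU HY
    (fun d => 𝟙 _) jU iY (fun d => by simp [Groth.Agent.HilbZeta12.InFibre])
    (fun d => by rw [hjU d, Set.univ_inter]; rfl) (fun d => by rw [hiY d, Set.univ_inter]; rfl)
  rw [← h]
  simp


end Groth.Agent.S15635
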