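import Groth.Statements.S15638
import Groth.Agent.HilbZeta12.PlanarClass

set_option autoImplicit false
set_option backward.isDefEq.respectTransparency false
set_option backward.isDefEq.respectTransparency.types false
set_option maxHeartbeats 1600000
universe u
open CategoryTheory CategoryTheory.Limits AlgebraicGeometry
open HilbZeta
open scoped TensorProduct

namespace Groth.Agent.S15638

/-- Let k be an algebraically closed field, n ≥ 1 and C_n = Spec k[x, y]/(y^n) the n-fold thickened
affine line in the plane, with origin x₀ (where x and y vanish). For every d let H_d be a k-scheme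
of finite type carrying a universal family Z_d ⊆ C_n ×_k H_d of closed subschemes that are finite
locally free of degree d over H_d (so H_d is the Hilbert scheme of d points of C_n), and write [–]
for classes in the Grothendieck ring of k-schemes of finite type and L for the class of the affine
line; for each d let HP_d ⊆ H_d be a closed subscheme whose points are exactly those h such that
every point of Z_d lying over h projects to x₀ in C_n (the punctual Hilbert scheme of d points of
C_n at x₀; its class does not depend on the chosen subscheme structure). Then (Σ_d [HP_d] t^d) ·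
∏_{m=1}^{n} (1 − L^(m−1) t^m) = 1: the punctual Hilbert zeta function of C_n at the origin is the
inverse of ∏_{m=1}^{n} (1 − L^(m−1) t^m). -/
theorem result (k : Type u) [Field k] [IsAlgClosed k] (n : ℕ) (hn : 0 < n)
    (J : Ideal (MvPolynomial (Fin 2) k)) (hJ : J = Ideal.span {MvPolynomial.X 1 ^ n})
    (H : ℕ → Over (Spec (CommRingCat.of k)))
    (Z : ∀ d, HilbD.Obj (Spec.map (CommRingCat.ofHom (algebraMap k (MvPolynomial (Fin 2) k ⧸ J)))) d (H d)) (hZ : ∀ d, HilbD.IsUniversal (Spec.map (CommRingCat.ofHom (algebraMap k (MvPolynomial (Fin 2) k ⧸ J)))) d (H d) (Z d))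
    [∀ d, LocallyOfFiniteType (H d).hom] [∀ d, QuasiCompact (H d).hom]
    (x₀ : Spec (CommRingCat.of (MvPolynomial (Fin 2) k ⧸ J)))
    (hx₀ : x₀.asIdeal = Ideal.map (Ideal.Quotient.mk J) (Ideal.span (Set.range MvPolynomial.X)))
    (HP : ℕ → Scheme.{u}) (ι : ∀ d, HP d ⟶ (H d).left) [∀ d, IsClosedImmersion (ι d)]
    (hι : ∀ d, Set.range (ι d) = {h | ∀ z : (Z d).1.subscheme,
      ((Z d).1.subschemeι ≫ pullback.snd (Spec.map (CommRingCat.ofHom (algebraMap k (MvPolynomial (Fin 2) k ⧸ J)))) (H d).hom) z = h →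
        ((Z d).1.subschemeι ≫ pullback.fst (Spec.map (CommRingCat.ofHom (algebraMap k (MvPolynomial (Fin 2) k ⧸ J)))) (H d).hom) z = x₀}) :
    PowerSeries.mk (fun d => K0Var.cl (ι d ≫ (H d).hom)) *
      (∏ m ∈ Finset.range n, (1 - PowerSeries.C (K0Var.L (Spec (CommRingCat.of k)) ^ m) * PowerSeries.X ^ (m + 1))) = 1 := by
  let R := MvPolynomial (Fin 2) k ⧸ J
  let x : R := Ideal.Quotient.mk J (MvPolynomial.X 0)
  let y : R := Ideal.Quotient.mk J (MvPolynomial.X 1)
  have hmk : MvPolynomial.aeval (R := k) ![x, y] = Ideal.Quotient.mkₐ k J :=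
    MvPolynomial.algHom_ext fun i => by fin_cases i <;> simp [x, y] <;> rfl
  have hgen : Function.Surjective (MvPolynomial.aeval (R := k) ![x, y]) := by
    rw [hmk]; exact Ideal.Quotient.mk_surjective
  have hyJ : y ^ n = 0 := by
    show Ideal.Quotient.mk J (MvPolynomial.X 1) ^ n = 0
    rw [← map_pow, Ideal.Quotient.eq_zero_iff_mem, hJ]
    exact Ideal.subset_span rfl
  have hG : x₀.asIdeal = Ideal.span {x, y} := by
    rw [hx₀, Ideal.map_span]
    congr 1
    ext r
    constructor
    · rintro ⟨_, ⟨i, rfl⟩, rfl⟩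
      fin_cases i
      · exact Or.inl rfl
      · exact Or.inr rfl
    · rintro (rfl | rfl)
      · exact ⟨_, ⟨0, rfl⟩, rfl⟩
      · exact ⟨_, ⟨1, rfl⟩, rfl⟩
  have hmax := HilbZeta12.isMaximal_of_gen hgen x₀.asIdeal x₀.isPrime.ne_top
    (hG ▸ Ideal.subset_span (Or.inl rfl)) (hG ▸ Ideal.subset_span (Or.inr rfl))
  have hker : ∀ (B : Type u) [CommRing B] [Algebra k B], RingHom.ker (HilbZeta12.planeEval (k := k) x y B) ≤
      Ideal.span {(Polynomial.X : Polynomial (Polynomial B)) ^ n} := by
    intro B _ _
    let S := Ideal.span {(Polynomial.X : Polynomial (Polynomial B)) ^ n}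
    let φ : MvPolynomial (Fin 2) k →ₐ[k] Polynomial (Polynomial B) ⧸ S :=
      MvPolynomial.aeval ![Ideal.Quotient.mk S (Polynomial.C Polynomial.X), Ideal.Quotient.mk S Polynomial.X]
    have hφ : ∀ r ∈ J, φ r = 0 := by
      intro r hr
      rw [hJ] at hr
      refine (Ideal.span_le.2 ?_ hr : r ∈ RingHom.ker φ.toRingHom)
      rintro _ rfl
      show φ (MvPolynomial.X 1 ^ n) = 0
      rw [map_pow, show φ (MvPolynomial.X 1) = Ideal.Quotient.mk S Polynomial.X from MvPolynomial.aeval_X _ 1,
        ← map_pow]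
      exact Ideal.Quotient.eq_zero_iff_mem.2 (Ideal.subset_span (Set.mem_singleton _))
    refine HilbZeta12.ker_planeEval_quot S (Ideal.Quotient.liftₐ J φ hφ) x y ?_ ?_
    · exact MvPolynomial.aeval_X _ 0
    · exact MvPolynomial.aeval_X _ 1
  have hser : PowerSeries.mk (fun d => K0Var.cl (ι d ≫ (H d).hom)) = PowerSeries.mk (fun d =>
      ∑ μ ∈ Finset.range (d + 1), HilbZeta12.Planar.cellCount (K0Var.L (Spec (CommRingCat.of k))) n d μ) := by
    congr 1
    funext d
    exact HilbZeta12.cl_punctual_planar (R := R) n d hgen hker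
      (fun K _ _ J' _ _ _ => by
        rw [Algebra.TensorProduct.tmul_pow, hyJ, TensorProduct.tmul_zero]
        exact zero_mem _)
      (H d) (Z d) (hZ d) x₀ hG hmax (ι d) (hι d)
  rw [hser]
  exact HilbZeta12.Planar.series_prod _ n

end Groth.Agent.S15638
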