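import Groth.Statements.S15639
import Groth.Agent.HilbZeta12.PlanarClass

set_option autoImplicit false
set_option backward.isDefEq.respectTransparency false
set_option backward.isDefEq.respectTransparency.types false
set_option maxHeartbeats 1600000
universe u
open CategoryTheory CategoryTheory.Limits AlgebraicGeometry
open HilbZeta
open scoped TensorProduct

namespace Groth.Agent.S15639

/-- Let k be an algebraically closed field and A² = Spec k[x, y] the affine plane, with origin x₀. For
every d let H_d be a k-scheme of finite type carrying a universal family Z_d ⊆ A² ×_k H_d of closed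
subschemes that are finite locally free of degree d over H_d (so H_d is the Hilbert scheme of d
points of A²), and write [–] for classes in the Grothendieck ring of k-schemes of finite type and L
for the class of the affine line; for each d let HP_d ⊆ H_d be a closed subscheme whose points are
exactly those h such that every point of Z_d lying over h projects to x₀ in A² (the punctual Hilbert
scheme of d points of A² at x₀; its class does not depend on the chosen subscheme structure). Then
for every D the product (Σ_d [HP_d] t^d) · ∏_{m=1}^{D} (1 − L^(m−1) t^m) is congruent to 1 modulo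
t^(D+1); that is, the punctual Hilbert zeta function of the plane at the origin is the inverse of
the infinite product ∏_{m ≥ 1} (1 − L^(m−1) t^m). -/
theorem result (k : Type u) [Field k] [IsAlgClosed k]
    (H : ℕ → Over (Spec (CommRingCat.of k)))
    (Z : ∀ d, HilbD.Obj (Spec.map (CommRingCat.ofHom (algebraMap k (MvPolynomial (Fin 2) k)))) d (H d)) (hZ : ∀ d, HilbD.IsUniversal (Spec.map (CommRingCat.ofHom (algebraMap k (MvPolynomial (Fin 2) k)))) d (H d) (Z d))
    [∀ d, LocallyOfFiniteType (H d).hom] [∀ d, QuasiCompact (H d).hom]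
    (x₀ : Spec (CommRingCat.of (MvPolynomial (Fin 2) k)))
    (hx₀ : x₀.asIdeal = Ideal.span (Set.range MvPolynomial.X))
    (HP : ℕ → Scheme.{u}) (ι : ∀ d, HP d ⟶ (H d).left) [∀ d, IsClosedImmersion (ι d)]
    (hι : ∀ d, Set.range (ι d) = {h | ∀ z : (Z d).1.subscheme,
      ((Z d).1.subschemeι ≫ pullback.snd (Spec.map (CommRingCat.ofHom (algebraMap k (MvPolynomial (Fin 2) k)))) (H d).hom) z = h →
        ((Z d).1.subschemeι ≫ pullback.fst (Spec.map (CommRingCat.ofHom (algebraMap k (MvPolynomial (Fin 2) k)))) (H d).hom) z = x₀}) (D : ℕ) :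
    PowerSeries.trunc (D + 1) (PowerSeries.mk (fun d => K0Var.cl (ι d ≫ (H d).hom)) *
      (∏ m ∈ Finset.range D, (1 - PowerSeries.C (K0Var.L (Spec (CommRingCat.of k)) ^ m) * PowerSeries.X ^ (m + 1)))) = 1 := by
  let R := MvPolynomial (Fin 2) k
  let x : R := MvPolynomial.X 0
  let y : R := MvPolynomial.X 1
  have hmk : MvPolynomial.aeval (R := k) ![x, y] = AlgHom.id k R :=
    MvPolynomial.algHom_ext fun i => by fin_cases i <;> simp [x, y] <;> rfl
  have hgen : Function.Surjective (MvPolynomial.aeval (R := k) ![x, y]) := by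
    rw [hmk]; exact fun r => ⟨r, rfl⟩
  have hG : x₀.asIdeal = Ideal.span {x, y} := by
    rw [hx₀]
    congr 1
    ext r
    constructor
    · rintro ⟨i, rfl⟩
      fin_cases i
      · exact Or.inl rfl
      · exact Or.inr rfl
    · rintro (rfl | rfl)
      · exact ⟨0, rfl⟩
      · exact ⟨1, rfl⟩
  have hmax := HilbZeta12.isMaximal_of_gen hgen x₀.asIdeal x₀.isPrime.ne_top
    (hG ▸ Ideal.subset_span (Or.inl rfl)) (hG ▸ Ideal.subset_span (Or.inr rfl))
  have hker : ∀ (B : Type u) [CommRing B] [Algebra k B], RingHom.ker (HilbZeta12.planeEval (k := k) x y B) ≤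
      Ideal.span {(Polynomial.X : Polynomial (Polynomial B)) ^ D} := by
    intro B _ _
    refine (HilbZeta12.ker_planeEval (RingHom.id _) (fun _ => rfl)
      (MvPolynomial.aeval ![(Polynomial.C Polynomial.X : Polynomial (Polynomial B)), Polynomial.X]) x y
      ?_ ?_).trans fun f (hf : f = 0) => hf ▸ zero_mem _
    · exact MvPolynomial.aeval_X _ 0
    · exact MvPolynomial.aeval_X _ 1
  have hcoef : ∀ d ≤ D, K0Var.cl (ι d ≫ (H d).hom) =
      ∑ μ ∈ Finset.range (d + 1), HilbZeta12.Planar.cellCount (K0Var.L (Spec (CommRingCat.of k))) D d μ := by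
    intro d hd
    exact HilbZeta12.cl_punctual_planar (R := R) D d hgen hker
      (fun K _ _ J' hfin hrk hsupp => HilbZeta12.pow_mem_of_nilpotent_mod J' hfin
        (hsupp y (Or.inr rfl)) (by rw [hrk]; exact hd))
      (H d) (Z d) (hZ d) x₀ hG hmax (ι d) (hι d)
  exact HilbZeta12.trunc_eq_one (HilbZeta12.Planar.series_prod _ D) fun d hd => by
    rw [PowerSeries.coeff_mk, PowerSeries.coeff_mk]; exact hcoef d hd

end Groth.Agent.S15639
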