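import Groth.Statements.S1565
import Groth.Agent.Crv77.SepPoint

set_option autoImplicit false
universe u
open CategoryTheory CategoryTheory.Limits AlgebraicGeometry
attribute [local instance] Curv2.resAlgebra
open Curves

namespace Groth.Agent.S1565

/-- Let X be a smooth proper curve over a field k whose global functions are k, of genus g ≥ 2. Then X
has a closed point whose residue field is a separable extension of k of degree at most 2g - 2. -/
theorem result (k : Type u) [Field k] (X : Scheme.{u}) [X.Over (Spec (CommRingCat.of k))]
    (hX : Curve.IsSmoothProperCurve k X (X ↘ (Spec (CommRingCat.of k)))) (h0 : Module.finrank k (Coh.HH X (Coh.structureModule X) 0) = 1) (hg : 2 ≤ Curv2.genus k X) :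
    ∃ x : X, IsClosed ({x} : Set X) ∧ Algebra.IsSeparable k (X.residueField x) ∧
      Module.finrank k (X.residueField x) ≤ 2 * Curv2.genus k X - 2 ∧ FiniteDimensional k (X.residueField x) := by
  obtain ⟨hp, hs, hi, hd⟩ := hX
  have := hp
  have := hs
  have := hi
  let := CrvPic30.ffAlg k X
  have h := Crv77.setup_of_h0 (k := k) (X := X) hd (Crv77.valuationRing_stalks_of_smooth (k := k) hd) h0
  obtain ⟨z, hz, hsep, hdeg⟩ := Crv77.exists_sep_fun h hg
  obtain ⟨x, hx, hxs, hxd, hxf⟩ := Crv77.exists_sep_point h hz
  exact ⟨x, hx, hxs, by omega, hxf⟩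

end Groth.Agent.S1565
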