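import Groth.Statements.S1569
import Groth.Agent.Div89.Codim

set_option autoImplicit false
universe u
open CategoryTheory CategoryTheory.Limits AlgebraicGeometry
open Divisors

namespace Groth.Agent.S1569

/-- On a Noetherian scheme, an effective Cartier divisor which is integral as a closed subscheme has a
discrete valuation ring as the local ring of the ambient scheme at its generic point. -/
theorem result (X : Scheme.{u}) [IsNoetherian X]
    (D : X.IdealSheafData) (hD : BlowUp.IsEffCartierIdeal D) [IsIntegral D.subscheme]
    (ξ : X) (hξ : IsGenericPoint ξ (D.support : Set X)) :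
    ∃ _ : IsDomain (X.presheaf.stalk ξ), IsDiscreteValuationRing (X.presheaf.stalk ξ) := by
  obtain ⟨g, hg, hgI⟩ := Div89.exists_stalk_generator hD ξ
  exact Div89.isDiscreteValuationRing_of_principal_nzd _ hg
    ((Div89.stalkIdeal_eq_maximalIdeal_of_genericPoint D hξ).symm.trans hgI)

end Groth.Agent.S1569
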