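import Groth.Statements.S15702
import Groth.Agent.FinGrp34.SemiInvFrac

set_option autoImplicit false
universe u
open GLin

namespace Groth.Agent.S15702

open Groth.Agent.FinGrp34
/-- Let k be algebraically closed of characteristic zero, let G be a connected linear algebraic group
over k without non-trivial characters acting on an integral affine k-variety Spec B of finite type
with B a unique factorisation domain; then the field of G-invariant rational functions is the
fraction field of the ring of invariants B^G. In coordinate-ring form: A is a commutative Hopf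
algebra of finite type over k, a domain, whose only group-like element is 1; B is a k-algebra of
finite type, a domain and a unique factorisation monoid, with a coaction of A that is an algebra
map; k-points φ : A →ₐ[k] k act on B through the coaction. If f, g ∈ B, g ≠ 0, satisfy (φ·f) g = f
(φ·g) for all φ, then f g' = f' g for some f', g' ∈ B fixed by all φ with g' ≠ 0. (The published
lemma allows G disconnected with character-free identity component; this row is the connected case
treated first in its proof.) -/
theorem result (k : Type u) [Field k] [IsAlgClosed k] [CharZero k]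
    (A : Type u) [CommRing A] [HopfAlgebra k A] [Algebra.FiniteType k A] [IsDomain A]
    (hchar : ∀ a : A, IsGroupLikeElem k a → a = 1)
    (B : Type u) [CommRing B] [Algebra k B] [Algebra.FiniteType k B] [IsDomain B] [UniqueFactorizationMonoid B]
    [HopfRep.Comod k A B] [GLin.IsCoactAlg k A B]
    (f g : B) (hg : g ≠ 0)
    (hinv : ∀ φ : A →ₐ[k] k, HopfRep.Comod.act k A B φ f * g = f * HopfRep.Comod.act k A B φ g) :
    ∃ f' g' : B, (∀ φ : A →ₐ[k] k, HopfRep.Comod.act k A B φ f' = f') ∧
      (∀ φ : A →ₐ[k] k, HopfRep.Comod.act k A B φ g' = g') ∧ g' ≠ 0 ∧ f * g' = f' * g := by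
  classical
  have hone : ∀ φ : A →ₐ[k] k, HopfRep.Comod.act k A B φ (1 : B) = 1 := fun φ => SemiInvFrac.act_map_one φ
  rcases eq_or_ne f 0 with rfl | hf
  · exact ⟨0, 1, fun φ => map_zero _, hone, one_ne_zero, by simp⟩
  obtain ⟨a, b, c, hab, rfl, rfl⟩ := UniqueFactorizationMonoid.exists_reduced_factors f hf g
  have hc : c ≠ 0 := left_ne_zero_of_mul hf
  have ha : a ≠ 0 := right_ne_zero_of_mul hf
  have hb : b ≠ 0 := right_ne_zero_of_mul hg
  have hinv' : ∀ φ : A →ₐ[k] k, HopfRep.Comod.act k A B φ a * b = a * HopfRep.Comod.act k A B φ b := fun φ => by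
    have h := hinv φ
    rw [SemiInvFrac.act_map_mul, SemiInvFrac.act_map_mul] at h
    have hc' : HopfRep.Comod.act k A B φ c ≠ 0 := fun h0 =>
      hc (SemiInvFrac.act_injective φ (h0.trans (map_zero _).symm))
    exact mul_left_cancel₀ (mul_ne_zero hc hc') (by linear_combination h)
  have key := SemiInvFrac.exists_scalar ha hab hinv'
  obtain ⟨χ, hχ, -, hact⟩ := SemiInvFrac.exists_char ha fun φ => ⟨_, (key φ).choose_spec.1⟩
  refine ⟨a, b, fun φ => ?_, fun φ => ?_, hb, by ring⟩
  · rw [hact, hchar χ hχ, map_one, one_smul]
  · obtain ⟨s, hsa, hsb⟩ := key φ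
    rw [hact, hchar χ hχ, map_one] at hsa
    have hs : (1 : k) = s := smul_left_injective k ha hsa
    rw [hsb, ← hs, one_smul]

end Groth.Agent.S15702
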