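import Groth.Statements.S15705
import Groth.Agent.FinGrp34.SemiInvFrac

set_option autoImplicit false
universe u
open GLin

namespace Groth.Agent.S15705

open Groth.Agent.FinGrp34 TensorProduct
/-- Let k be algebraically closed of characteristic zero, G a linear algebraic group and X a factorial
affine G-variety with k[X]* = k*; then there is a G-invariant affine open U of X such that the field
of G-invariant rational functions is the fraction field of k[U]^G. In coordinate-ring form: A is a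
commutative Hopf algebra of finite type over k coacting by an algebra map on B, a finitely generated
k-algebra which is a domain and a unique factorisation monoid all of whose units are scalars;
k-points φ : A →ₐ[k] k of G act on B through the coaction. Conclusion: there is h ≠ 0 in B with D(h)
stable under every φ (φ·h divides a power of h) such that whenever a, b ∈ B, b ≠ 0, satisfy (φ·a) b
= a (φ·b) for all φ (the fraction a/b is invariant), there are c, d ∈ B and exponents r, t with d ≠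
0, with c/h^r and d/h^t invariant in B[1/h] — that is (φ·c) h^r = c (φ·h)^r and (φ·d) h^t = d
(φ·h)^t for all φ — and a d h^r = b c h^t (so a/b = (c/h^r)/(d/h^t)). -/
theorem result (k : Type u) [Field k] [IsAlgClosed k] [CharZero k]
    (A : Type u) [CommRing A] [HopfAlgebra k A] [Algebra.FiniteType k A]
    (B : Type u) [CommRing B] [Algebra k B] [Algebra.FiniteType k B] [IsDomain B] [UniqueFactorizationMonoid B]
    (hunits : ∀ u : Bˣ, ∃ c : k, algebraMap k B c = u)
    [HopfRep.Comod k A B] [GLin.IsCoactAlg k A B] :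
    ∃ h : B, h ≠ 0 ∧ (∀ φ : A →ₐ[k] k, ∃ (N : ℕ) (u : B), HopfRep.Comod.act k A B φ h * u = h ^ N) ∧
      ∀ a b : B, b ≠ 0 → (∀ φ : A →ₐ[k] k, HopfRep.Comod.act k A B φ a * b = a * HopfRep.Comod.act k A B φ b) →
        ∃ (c d : B) (r t : ℕ), d ≠ 0 ∧
          (∀ φ : A →ₐ[k] k, HopfRep.Comod.act k A B φ c * h ^ r = c * (HopfRep.Comod.act k A B φ h) ^ r) ∧
          (∀ φ : A →ₐ[k] k, HopfRep.Comod.act k A B φ d * h ^ t = d * (HopfRep.Comod.act k A B φ h) ^ t) ∧
          a * d * h ^ r = b * c * h ^ t := by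
  classical
  haveI : IsReduced A := Groth.Agent.Comod33.Aug.isReduced_of_charZero (k := k)
  let H := Groth.Agent.Zeta24.grpLikeUnits (Bialgebra.comulAlgHom k A)
  haveI : Group.FG H := SemiInvFrac.fg_chars k A
  let M : Submonoid H :=
    { carrier := {χ | ∃ a : B, a ≠ 0 ∧ HopfRep.Comod.coact (k := k) (A := A) a = a ⊗ₜ[k] ((χ : Aˣ) : A)}
      mul_mem' := by
        rintro χ ψ ⟨a, ha, ha'⟩ ⟨b, hb, hb'⟩
        exact ⟨a * b, mul_ne_zero ha hb, by
          rw [GLin.IsCoactAlg.coact_mul, ha', hb', Algebra.TensorProduct.tmul_mul_tmul]; rfl⟩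
      one_mem' := ⟨1, one_ne_zero, by
        rw [GLin.IsCoactAlg.coact_one (k := k) (A := A) (R := B), Algebra.TensorProduct.one_def]; rfl⟩ }
  obtain ⟨η, ⟨h, h0, hh⟩, hcof⟩ := SemiInvFrac.exists_cofinal M
  refine ⟨h, h0, fun φ => ?_, fun f g hg hinv => ?_⟩
  · have hu : IsUnit (φ ((η : Aˣ) : A)) := (Units.isUnit _).map φ
    refine ⟨1, algebraMap k B (↑hu.unit⁻¹), ?_⟩
    rw [SemiInvFrac.act_of_coact hh, pow_one, Algebra.smul_def, mul_right_comm, ← map_mul, IsUnit.mul_val_inv,
      map_one, one_mul]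
  rcases eq_or_ne f 0 with rfl | hf
  · exact ⟨0, 1, 0, 0, one_ne_zero, fun φ => by simp, fun φ => by simp [SemiInvFrac.act_map_one], by simp⟩
  obtain ⟨a, b, c, hab, rfl, rfl⟩ := UniqueFactorizationMonoid.exists_reduced_factors f hf g
  have hc : c ≠ 0 := left_ne_zero_of_mul hf
  have ha : a ≠ 0 := right_ne_zero_of_mul hf
  have hb : b ≠ 0 := right_ne_zero_of_mul hg
  have hinv' : ∀ φ : A →ₐ[k] k, HopfRep.Comod.act k A B φ a * b = a * HopfRep.Comod.act k A B φ b := fun φ => by
    have h := hinv φ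
    rw [SemiInvFrac.act_map_mul, SemiInvFrac.act_map_mul] at h
    have hc' : HopfRep.Comod.act k A B φ c ≠ 0 := fun h0 =>
      hc (SemiInvFrac.act_injective φ (h0.trans (map_zero _).symm))
    exact mul_left_cancel₀ (mul_ne_zero hc hc') (by linear_combination h)
  have key : ∀ φ : A →ₐ[k] k, ∃ s : k, HopfRep.Comod.act k A B φ a = s • a ∧ HopfRep.Comod.act k A B φ b = s • b := by
    intro φ
    obtain ⟨u, hua, hub⟩ := SemiInvFrac.exists_unit ha hab hinv' φ
    obtain ⟨s, hs⟩ := hunits u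
    exact ⟨s, by rw [hua, ← hs, Algebra.smul_def], by rw [hub, ← hs, Algebra.smul_def]⟩
  obtain ⟨χ, hχ, hca, hact⟩ := SemiInvFrac.exists_char ha fun φ => ⟨_, (key φ).choose_spec.1⟩
  obtain ⟨ψ, -, hcb, hactb⟩ := SemiInvFrac.exists_char hb fun φ => ⟨_, (key φ).choose_spec.2⟩
  have hb' : ∀ φ : A →ₐ[k] k, HopfRep.Comod.act k A B φ b = φ χ • b := fun φ => by
    obtain ⟨s, hsa, hsb⟩ := key φ
    rw [hact] at hsa
    rw [hsb, smul_left_injective k ha hsa]
  let χu : Aˣ := Units.mkOfMulEqOne _ _ ((mul_comm χ _).trans (Groth.Agent.Comod33.Diag.grouplike_mul_inv hχ))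
  have hχu : χu ∈ H := hχ.comul_eq_tmul_self
  obtain ⟨t, e, he, hce⟩ := hcof ⟨χu, hχu⟩ ⟨a, ha, hca⟩
  have hval : ∀ φ : A →ₐ[k] k, φ χ * φ ((((η ^ t * (⟨χu, hχu⟩ : H)⁻¹ : H)) : Aˣ) : A) = φ ((η : Aˣ) : A) ^ t := by
    intro φ
    rw [← map_mul, ← map_pow, ← Units.val_pow_eq_pow_val]
    refine congrArg φ ?_
    show (χu : A) * (((η : Aˣ) ^ t * χu⁻¹ : Aˣ) : A) = _
    rw [← Units.val_mul, mul_comm, inv_mul_cancel_right]
  refine ⟨a * e, b * e, t, t, mul_ne_zero hb he, fun φ => ?_, fun φ => ?_, by ring⟩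
  · rw [SemiInvFrac.act_map_mul, hact, SemiInvFrac.act_of_coact hce, SemiInvFrac.act_of_coact hh, smul_mul_smul_comm,
      hval, smul_pow, smul_mul_assoc, mul_smul_comm]
  · rw [SemiInvFrac.act_map_mul, hb', SemiInvFrac.act_of_coact hce, SemiInvFrac.act_of_coact hh, smul_mul_smul_comm,
      hval, smul_pow, smul_mul_assoc, mul_smul_comm]

end Groth.Agent.S15705
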