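import Groth.Statements.S15706
import Mathlib

set_option autoImplicit false
universe u
open CAlg

namespace Groth.Agent.S15706

theorem zero_divisor_of_minimal {A : Type u} [CommRing A] {I p : Ideal A} (hp : p ∈ I.minimalPrimes) (b : A)
    (hb : Ideal.Quotient.mk I b ∈ nonZeroDivisors (A ⧸ I)) (hbp : b ∈ p) : False := by
  rw [Ideal.minimalPrimes_eq_comap] at hp
  obtain ⟨q, hq, rfl⟩ := hp
  exact Set.disjoint_left.mp (Ideal.disjoint_nonZeroDivisors_of_mem_minimalPrimes hq) (Ideal.mem_comap.mp hbp) hb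


/-- Let A be a Noetherian ring with Serre's property (S_1), stated here in the equivalent form that
every associated prime of A is a minimal prime of A. Let I be an ideal of A and b an element of A/I
which is regular (a non-zero-divisor) in A/I. Then b is the image of a regular element of A. -/
theorem result (A : Type u) [CommRing A]
    [IsNoetherianRing A] (hS1 : ∀ p ∈ associatedPrimes A A, p ∈ minimalPrimes A) (I : Ideal A)
    (b : A ⧸ I) (hb : b ∈ nonZeroDivisors (A ⧸ I)) :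
    ∃ a : A, a ∈ nonZeroDivisors A ∧ Ideal.Quotient.mk I a = b := by
  classical
  obtain ⟨b₀, rfl⟩ := Ideal.Quotient.mk_surjective b
  have hfin := associatedPrimes.finite A A
  set B := hfin.toFinset.filter (fun p => b₀ ∈ p) with hB
  set G := hfin.toFinset.filter (fun p => b₀ ∉ p) with hG
  let K : Ideal A := I ⊓ G.inf id
  have hK : ¬ ∀ x ∈ K, ∃ p ∈ B, x ∈ p := by
    intro h
    have hsub : (K : Set A) ⊆ ⋃ p ∈ (B : Set (Ideal A)), (id p : Ideal A) := fun x hx => by
      obtain ⟨p, hp, hxp⟩ := h x hx; exact Set.mem_biUnion hp hxp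
    rw [Ideal.subset_union_prime ⊥ ⊥ (fun p hp _ _ => by
      have := (hfin.mem_toFinset.mp (Finset.mem_filter.mp hp).1); exact this.isPrime)] at hsub
    obtain ⟨p, hp, hKp⟩ := hsub
    obtain ⟨hpa, hbp⟩ := Finset.mem_filter.mp hp
    rw [hfin.mem_toFinset] at hpa
    have hmin := hS1 p hpa
    rcases (hpa.isPrime.inf_le).mp hKp with hIp | hGp
    · exact zero_divisor_of_minimal (⟨⟨hpa.isPrime, hIp⟩, fun q hq hqp => hmin.2 ⟨hq.1, bot_le⟩ hqp⟩ : p ∈ I.minimalPrimes) b₀ hb hbp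
    · obtain ⟨q, hq, hqp⟩ := (Ideal.IsPrime.inf_le' hpa.isPrime).mp hGp
      obtain ⟨hqa, hbq⟩ := Finset.mem_filter.mp hq
      rw [hfin.mem_toFinset] at hqa
      exact hbq ((hmin.2 ⟨hqa.isPrime, bot_le⟩ hqp) hbp)
  push_neg at hK
  obtain ⟨x, hxK, hx⟩ := hK
  refine ⟨b₀ + x, ?_, by rw [map_add, Ideal.Quotient.eq_zero_iff_mem.mpr hxK.1, add_zero]⟩
  by_contra hnz
  have : b₀ + x ∈ ⋃ p ∈ associatedPrimes A A, (p : Set A) := by
    rw [biUnion_associatedPrimes_eq_zero_divisors]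
    simp only [Set.mem_setOf_eq, mem_nonZeroDivisors_iff, not_and_or, not_forall] at *
    rcases hnz with ⟨y, hy, hy0⟩ | ⟨y, hy, hy0⟩
    · exact ⟨y, hy0, by rw [smul_eq_mul]; exact hy⟩
    · exact ⟨y, hy0, by rw [smul_eq_mul, mul_comm]; exact hy⟩
  obtain ⟨p, hp, hbxp⟩ := Set.mem_iUnion₂.mp this
  by_cases hb0 : b₀ ∈ p
  · exact hx p (Finset.mem_filter.mpr ⟨hfin.mem_toFinset.mpr hp, hb0⟩) (by simpa using sub_mem hbxp hb0)
  · have : x ∈ p := (Finset.inf_le (f := id) (Finset.mem_filter.mpr ⟨hfin.mem_toFinset.mpr hp, hb0⟩)) hxK.2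
    exact hb0 (by simpa using sub_mem hbxp this)

end Groth.Agent.S15706
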