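import Groth.Statements.S15707
import Mathlib

set_option autoImplicit false
universe u
open CAlg

namespace Groth.Agent.S15707

theorem zero_divisor_of_minimal {A : Type u} [CommRing A] {I p : Ideal A} (hp : p ∈ I.minimalPrimes) (b : A)
    (hb : Ideal.Quotient.mk I b ∈ nonZeroDivisors (A ⧸ I)) (hbp : b ∈ p) : False := by
  rw [Ideal.minimalPrimes_eq_comap] at hp
  obtain ⟨q, hq, rfl⟩ := hp
  exact Set.disjoint_left.mp (Ideal.disjoint_nonZeroDivisors_of_mem_minimalPrimes hq) (Ideal.mem_comap.mp hbp) hb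


/-- Let A be a Noetherian ring with Serre's property (S_1), stated here as: every associated prime of A
is a minimal prime. Let I be an ideal and B = A/I. Then the B-module Hom_A(B, A), with B acting
through the source, is torsion-free: an A-linear map φ : B → A which is killed by a regular element
b of B, in the sense that φ(b x) = 0 for all x, is zero. -/
theorem result (A : Type u) [CommRing A]
    [IsNoetherianRing A] (hS1 : ∀ p ∈ associatedPrimes A A, p ∈ minimalPrimes A) (I : Ideal A)
    (φ : (A ⧸ I) →ₗ[A] A) (b : A ⧸ I) (hb : b ∈ nonZeroDivisors (A ⧸ I))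
    (h : ∀ x : A ⧸ I, φ (b * x) = 0) : φ = 0 := by
  obtain ⟨b₀, rfl⟩ := Ideal.Quotient.mk_surjective b
  suffices φ 1 = 0 by
    refine LinearMap.ext fun x => ?_
    obtain ⟨x, rfl⟩ := Ideal.Quotient.mk_surjective x
    have : Ideal.Quotient.mk I x = x • (1 : A ⧸ I) := by simp [Algebra.smul_def]
    rw [this, map_smul, ‹φ 1 = 0›, smul_zero, LinearMap.zero_apply]
  by_contra h0
  obtain ⟨p, hp, hle⟩ := exists_le_isAssociatedPrime_of_isNoetherianRing A (φ 1) h0
  have hkill : ∀ a : A, φ (Ideal.Quotient.mk I a) = 0 → a ∈ p := by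
    intro a ha
    refine hle ?_
    rw [Submodule.mem_colon_singleton, Submodule.mem_bot, ← map_smul]
    rw [← ha]; simp [Algebra.smul_def]
  have hI : I ≤ p := fun a ha => hkill a (by rw [Ideal.Quotient.eq_zero_iff_mem.mpr ha, map_zero])
  have hb' : b₀ ∈ p := hkill b₀ (by simpa using h 1)
  have hmin := hS1 p hp
  exact zero_divisor_of_minimal (⟨⟨hp.isPrime, hI⟩, fun q hq hqp => hmin.2 ⟨hq.1, bot_le⟩ hqp⟩ : p ∈ I.minimalPrimes) b₀ hb hb'

end Groth.Agent.S15707
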