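import Groth.Statements.S15708
import Mathlib

set_option autoImplicit false
universe u v
open CAlg

namespace Groth.Agent.S15708

/-- Let A be a Noetherian commutative ring graded by the natural numbers, J a homogeneous ideal, and
p_1, ..., p_r finitely many prime ideals such that no p_i contains the irrelevant ideal A_+ and no
p_i contains J. Then there is a homogeneous element z of positive degree with z in J and z in no
p_i. -/
theorem result {R : Type u} {A : Type v} [CommRing R] [CommRing A]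
    [Algebra R A] [IsNoetherianRing A] (𝒜 : ℕ → Submodule R A) [GradedRing 𝒜]
    (J : Ideal A) (hJ : J.IsHomogeneous 𝒜) (P : Finset (Ideal A))
    (hP : ∀ p ∈ P, p.IsPrime ∧ ¬ (HomogeneousIdeal.irrelevant 𝒜).toIdeal ≤ p ∧ ¬ J ≤ p) :
    ∃ (z : A) (n : ℕ), 0 < n ∧ z ∈ 𝒜 n ∧ z ∈ J ∧ ∀ p ∈ P, z ∉ p := by
  classical
  let P₁ : Finset (Ideal A) := P.image fun p => (p.homogeneousCore 𝒜).toIdeal
  have hex : ∀ (I : Ideal A), I.IsHomogeneous 𝒜 → ∀ q : Ideal A, ¬ I ≤ q → ∃ d x, x ∈ 𝒜 d ∧ x ∈ I ∧ x ∉ q := by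
    intro I hI q h
    obtain ⟨x, hxI, hxq⟩ := SetLike.not_le_iff_exists.mp h
    obtain ⟨d, hd⟩ : ∃ d, (DirectSum.decompose 𝒜 x d : A) ∉ q := by
      by_contra hh
      push Not at hh
      rw [← DirectSum.sum_support_decompose 𝒜 x] at hxq
      exact hxq (sum_mem fun d _ => hh d)
    exact ⟨d, _, SetLike.coe_mem _, hI d hxI, hd⟩
  let Q : Finset (Ideal A) := P₁.filter fun q => ∀ r ∈ P₁, q ≤ r → r ≤ q
  have hQ : ∀ q ∈ P₁, ∃ r ∈ Q, q ≤ r := by
    intro q hq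
    obtain ⟨r, hqr, hr⟩ := P₁.exists_le_maximal hq
    exact ⟨r, Finset.mem_filter.mpr ⟨hr.1, fun s hs hrs => hr.2 hs hrs⟩, hqr⟩
  have hprime : ∀ q ∈ P₁, q.IsPrime ∧ q.IsHomogeneous 𝒜 ∧ ¬ (HomogeneousIdeal.irrelevant 𝒜).toIdeal ≤ q ∧ ¬ J ≤ q := by
    intro q hq
    obtain ⟨p, hp, rfl⟩ := Finset.mem_image.mp hq
    have hle := p.toIdeal_homogeneousCore_le 𝒜
    exact ⟨(hP p hp).1.homogeneousCore, HomogeneousIdeal.isHomogeneous _,
      fun h => (hP p hp).2.1 (h.trans hle), fun h => (hP p hp).2.2 (h.trans hle)⟩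
  have hirr : ∀ q ∈ P₁, ∃ d x, 0 < d ∧ x ∈ 𝒜 d ∧ x ∉ q := by
    intro q hq
    obtain ⟨d, x, hx, hxi, hxq⟩ := hex _ (HomogeneousIdeal.isHomogeneous _) q (hprime q hq).2.2.1
    rcases Nat.eq_zero_or_pos d with rfl | hd
    · refine absurd ?_ hxq
      have h0 : x = 0 := by
        rw [HomogeneousIdeal.toIdeal_irrelevant, RingHom.mem_ker, GradedRing.projZeroRingHom_apply,
          DirectSum.decompose_of_mem_same 𝒜 hx] at hxi
        exact hxi
      rw [h0]; exact q.zero_mem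
    · exact ⟨d, x, hd, hx, hxq⟩
  have hgood : ∀ q ∈ Q, ∃ d x, 0 < d ∧ x ∈ 𝒜 d ∧ x ∈ J ∧ x ∉ q ∧ ∀ r ∈ Q, r ≠ q → x ∈ r := by
    intro q hq
    obtain ⟨hq1, hmax⟩ := Finset.mem_filter.mp hq
    obtain ⟨hqp, -, -, hqJ⟩ := hprime q hq1
    obtain ⟨d₀, x₀, hd₀, hx₀, hx₀q⟩ := hirr q hq1
    obtain ⟨d₁, x₁, hx₁, hx₁J, hx₁q⟩ := hex J hJ q hqJ
    have : ∀ S : Finset (Ideal A), (∀ r ∈ S, r ∈ Q ∧ r ≠ q) → ∃ d x, 0 < d ∧ x ∈ 𝒜 d ∧ x ∈ J ∧ x ∉ q ∧ ∀ r ∈ S, x ∈ r := by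
      intro S
      induction S using Finset.induction with
      | empty =>
        intro _
        exact ⟨d₀ + d₁, x₀ * x₁, by omega, SetLike.mul_mem_graded hx₀ hx₁, J.mul_mem_left _ hx₁J,
          fun h => (hqp.mem_or_mem h).elim hx₀q hx₁q, by simp⟩
      | insert r S hrS ih =>
        intro hS
        obtain ⟨d, x, hd, hx, hxJ, hxq, hxS⟩ := ih fun s hs => hS s (Finset.mem_insert_of_mem hs)
        obtain ⟨hrQ, hrq⟩ := hS r (Finset.mem_insert_self r S)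
        obtain ⟨hr1, hrmax⟩ := Finset.mem_filter.mp hrQ
        have hnle : ¬ r ≤ q := fun h => hrq (le_antisymm h (hrmax q hq1 h))
        obtain ⟨e, y, hy, hyr, hyq⟩ := hex r (hprime r hr1).2.1 q hnle
        refine ⟨d + e, x * y, by omega, SetLike.mul_mem_graded hx hy, J.mul_mem_right _ hxJ,
          fun h => (hqp.mem_or_mem h).elim hxq hyq, fun s hs => ?_⟩
        rcases Finset.mem_insert.mp hs with rfl | hs
        · exact s.mul_mem_left _ hyr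
        · exact s.mul_mem_right _ (hxS s hs)
    obtain ⟨d, x, hd, hx, hxJ, hxq, hxS⟩ := this (Q.erase q) fun r hr => ⟨(Finset.mem_erase.mp hr).2, (Finset.mem_erase.mp hr).1⟩
    exact ⟨d, x, hd, hx, hxJ, hxq, fun r hr hne => hxS r (Finset.mem_erase.mpr ⟨hne, hr⟩)⟩
  choose! d x hd hx hxJ hxq hxr using hgood
  let D := ∏ q ∈ Q, d q
  have hDpos : 0 < D := Finset.prod_pos hd
  have hdvd : ∀ q ∈ Q, d q ∣ D := fun q hq => Finset.dvd_prod_of_mem _ hq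
  have hw : ∀ q ∈ Q, x q ^ (D / d q) ∈ 𝒜 D := by
    intro q hq
    have := SetLike.pow_mem_graded (D / d q) (hx q hq)
    rwa [smul_eq_mul, Nat.div_mul_cancel (hdvd q hq)] at this
  have hk : ∀ q ∈ Q, 0 < D / d q := fun q hq => Nat.div_pos (Nat.le_of_dvd hDpos (hdvd q hq)) (hd q hq)
  set z := ∑ q ∈ Q, x q ^ (D / d q)
  have hz : z ∈ 𝒜 D := sum_mem hw
  refine ⟨z, D, hDpos, hz, sum_mem fun q hq => Ideal.pow_mem_of_mem _ (hxJ q hq) _ (hk q hq), fun p hp hzp => ?_⟩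
  have hzc : z ∈ (p.homogeneousCore 𝒜).toIdeal := Ideal.mem_homogeneousCore_of_homogeneous_of_mem ⟨D, hz⟩ hzp
  obtain ⟨q, hq, hle⟩ := hQ _ (Finset.mem_image_of_mem _ hp)
  have hzq := hle hzc
  have hqp := (hprime q (Finset.mem_filter.mp hq).1).1
  refine hxq q hq (hqp.mem_of_pow_mem (D / d q) ?_)
  rw [show z = x q ^ (D / d q) + ∑ r ∈ Q.erase q, x r ^ (D / d r) from (Finset.add_sum_erase _ _ hq).symm] at hzq
  refine (Ideal.add_mem_iff_left q (sum_mem fun r hr => ?_)).mp hzq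
  obtain ⟨hne, hrQ⟩ := Finset.mem_erase.mp hr
  exact Ideal.pow_mem_of_mem _ (hxr r hrQ q hq hne.symm) _ (hk r hrQ)

end Groth.Agent.S15708
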