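import Groth.Statements.S1571
import Groth.Agent.Div89.Cartier
import Mathlib.AlgebraicGeometry.Morphisms.SchemeTheoreticallyDominant

set_option autoImplicit false
universe u
open CategoryTheory CategoryTheory.Limits AlgebraicGeometry
open Divisors

namespace Groth.Agent.S1571

/-- The open complement of an effective Cartier divisor is an affine open immersion and is
scheme-theoretically dense. -/
theorem result (S : Scheme.{u}) (D : S.IdealSheafData) (hD : BlowUp.IsEffCartierIdeal D) :
    IsAffineHom (Scheme.Opens.ι (X := S) D.support.compl) ∧ IsSchemeTheoreticallyDominant (Scheme.Opens.ι (X := S) D.support.compl) := by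
  have hloc : ∀ x, ∃ U : S.affineOpens, x ∈ U.1 ∧ ∃ f : Γ(S, U.1), D.ideal U = Ideal.span {f} :=
    fun x => by obtain ⟨U, hx, f, -, hf⟩ := hD x; exact ⟨U, hx, f, hf⟩
  have := Div89.isAffineHom_compl_support hloc
  refine ⟨this, ⟨le_bot_iff.1 fun W s hs => ?_⟩⟩
  rw [Scheme.Hom.ker_apply, RingHom.mem_ker, Scheme.Opens.ι_app] at hs
  refine Ideal.mem_bot.2 (Div89.res_injective_compl_support hD W.1 ?_)
  rw [map_zero]
  have e : Scheme.Opens.ι (X := S) D.support.compl ''ᵁ
      Scheme.Opens.ι (X := S) D.support.compl ⁻¹ᵁ W.1 = W.1 ⊓ D.support.compl := by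
    rw [Scheme.Hom.image_preimage_eq_opensRange_inf, Scheme.Opens.opensRange_ι, inf_comm]
  rw [← homOfLE_comp e.ge (e.trans_le inf_le_left), op_comp, S.presheaf.map_comp]
  exact (congrArg (S.presheaf.map (homOfLE e.ge).op).hom hs).trans
    (map_zero (S.presheaf.map (homOfLE e.ge).op).hom)

end Groth.Agent.S1571
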