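import Groth.Statements.S15712
import Groth.Agent.An92.Rat.SchDenseOps

set_option autoImplicit false
universe u
open CategoryTheory AlgebraicGeometry TopologicalSpace
open RatSing

namespace Groth.Agent.S15712

/-- Let X be a locally Noetherian scheme with Serre's property (S_1), i.e. every local ring O_{X,x} has
depth at least min(1, dim O_{X,x}) (for instance X Cohen–Macaulay), and let U ⊆ X be open. Then
scheme-theoretic density of U in X is equivalent to U being dense as a subset. (The published
statement assumes every scheme excellent, in particular locally Noetherian.) -/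
theorem result (X : Scheme.{u}) [IsLocallyNoetherian X]
    (hS1 : ∀ x : X, min (1 : WithBot ℕ∞) (ringKrullDim (X.presheaf.stalk x)) ≤
      ((LocCoh.depth (X.presheaf.stalk x) (X.presheaf.stalk x) : ℕ∞) : WithBot ℕ∞))
    (U : X.Opens) : CInt.IsSchematicallyDense U ↔ Dense (U : Set X) := by
  refine ⟨fun h => Groth.Agent.An92.Rat.dense_of_schDense h, fun hd => ?_⟩
  rw [Groth.Agent.An92.Rat.schDense_iff_depth]
  intro x hxU
  have hdim : (1 : WithBot ℕ∞) ≤ ringKrullDim (X.presheaf.stalk x) := by
    by_contra h1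
    have h0 : ringKrullDim (X.presheaf.stalk x) ≤ 0 := by
      rcases hd0 : ringKrullDim (X.presheaf.stalk x) with _ | d
      · exact bot_le
      · rw [hd0] at h1
        refine WithBot.coe_le_coe.2 ?_
        rcases eq_or_ne d 0 with rfl | hne
        · exact le_rfl
        · exact absurd (WithBot.coe_le_coe.2 (Order.one_le_iff_pos.2 (pos_iff_ne_zero.2 hne))) h1
    have : Ring.KrullDimLE 0 (X.presheaf.stalk x) := by
      rw [Ring.KrullDimLE, Order.krullDimLE_iff]; exact h0
    have hmax : Groth.Agent.LimTop61.IsMaxPt x := by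
      intro z hz
      obtain ⟨p, rfl⟩ := (Set.ext_iff.1 (X.range_fromSpecStalk (x := x)) z).2 hz
      have hp : p = IsLocalRing.closedPoint (X.presheaf.stalk x) :=
        PrimeSpectrum.ext (IsLocalRing.eq_maximalIdeal (Ideal.IsPrime.isMaximal' p.isPrime))
      rw [hp]
      exact Scheme.fromSpecStalk_closedPoint
    obtain ⟨W, hW, hxW, -⟩ := exists_isAffineOpen_mem_and_subset (x := x) (U := ⊤) trivial
    refine hxU (Groth.Agent.An92.Rat.mem_of_dense_of_isMaxPt hd hmax hxW ?_)
    have : IsNoetherianRing Γ(X, W) := IsLocallyNoetherian.component_noetherian ⟨W, hW⟩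
    have : TopologicalSpace.NoetherianSpace (W : Set X) := noetherianSpace_of_isAffineOpen W hW
    have hfin : (irreducibleComponents (W : Set X)).Finite :=
      TopologicalSpace.NoetherianSpace.finite_irreducibleComponents
    refine Set.Finite.of_finite_image (f := fun Z : Set X => (Subtype.val ⁻¹' Z : Set (W : Set X))) ?_ ?_
    · refine hfin.subset ?_
      rintro _ ⟨Z, ⟨hZ, hne⟩, rfl⟩
      exact preimage_mem_irreducibleComponents hZ W.isOpen.isOpenEmbedding_subtypeVal (by simpa using hne)
    · rintro Z ⟨hZ, hne⟩ Z' ⟨hZ', hne'⟩ (h : Subtype.val ⁻¹' Z = Subtype.val ⁻¹' Z')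
      rw [← closure_image_preimage_of_isPreirreducible (Subtype.val : ↥(W : Set X) → X) W.isOpen.isOpenMap_subtype_val Z
        (by obtain ⟨a, ha, ha'⟩ := hne; exact ⟨⟨a, ha'⟩, ha⟩) hZ.1.2 (isClosed_of_mem_irreducibleComponents Z hZ),
        h, closure_image_preimage_of_isPreirreducible (Subtype.val : ↥(W : Set X) → X) W.isOpen.isOpenMap_subtype_val Z'
        (by obtain ⟨a, ha, ha'⟩ := hne'; exact ⟨⟨a, ha'⟩, ha⟩) hZ'.1.2 (isClosed_of_mem_irreducibleComponents Z' hZ')]
  have h1 := hS1 x
  rw [min_eq_left hdim] at h1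
  exact WithBot.coe_le_coe.1 h1


end Groth.Agent.S15712
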