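import Groth.Statements.S15715
import Groth.Agent.Div89.WeakAss
import Mathlib.RingTheory.Ideal.AssociatedPrime.Finiteness

set_option autoImplicit false
universe u
open CategoryTheory AlgebraicGeometry TopologicalSpace
open RatSing

namespace Groth.Agent.S15715

set_option backward.isDefEq.respectTransparency.types false in
/-- Let X be a locally Noetherian scheme, φ : F → G a homomorphism of O_X-modules with F quasi-coherent
and torsion-free (over every affine open V, no nonzero section of F is killed by a regular element
of O_X(V)), and U a scheme-theoretically dense open subset of X such that the restriction of φ to U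
is injective. Then φ is injective. (The published statement allows an arbitrary O_X-module F; for
the skyscraper sheaf on the affine line over a field, placed at a closed point with value the local
ring at that point, which is torsion-free in this sense, the zero map to the zero module is
injective over the dense open complement of the point but not injective. This row takes F
quasi-coherent.) -/
theorem result (X : Scheme.{u})
    [IsLocallyNoetherian X] (F G : X.Modules) (hF : Coh.IsQCoh F)
    (htf : ∀ V : X.affineOpens, Submodule.torsion Γ(X, V.1) (F.val.obj (Opposite.op V.1)) = ⊥)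
    (φ : F ⟶ G) (U : X.Opens) (hU : CInt.IsSchematicallyDense U)
    (hφU : ∀ V : X.Opens, V ≤ U → Function.Injective ⇑(ConcreteCategory.hom (φ.val.app (Opposite.op V)))) (V : X.Opens) :
    Function.Injective ⇑(ConcreteCategory.hom (φ.val.app (Opposite.op V))) := by
  classical
  have hmono : Mono φ := by
    refine Div89.mono_of_germ_injective φ hF fun x => ?_
    by_cases hx : Curv2.IsWeakAssPoint F x
    · left
      have hxU : x ∈ U := by
        obtain ⟨W, hxW⟩ := Div89.exists_affine_mem x
        have : IsNoetherianRing Γ(X, W.1) := IsLocallyNoetherian.component_noetherian W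
        set p := Div89.primeAt W x hxW with hp
        obtain ⟨m, h1, h2⟩ := CAlg5.mem_weakAss_iff.1 ((Div89.isWeakAssPoint_iff F hF W x hxW).1 hx)
        have hsub : (p : Set Γ(X, W.1)) ⊆ ⋃ q ∈ associatedPrimes Γ(X, W.1) Γ(X, W.1), (q : Set Γ(X, W.1)) := by
          rw [biUnion_associatedPrimes_eq_compl_nonZeroDivisors]
          intro r hr hnz
          obtain ⟨s, hs, n, hn⟩ := h2 r hr
          have hz : r ^ n • (s • m) = 0 :=
            (mul_smul (r ^ n) s m).symm.trans ((congrArg (fun c => c • m) (mul_comm (r ^ n) s)).trans hn)
          have hmem : ∀ y : (F.val.obj (Opposite.op W.1) : Type u), ∀ c : nonZeroDivisors Γ(X, W.1),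
              (c : Γ(X, W.1)) • y = 0 → y = 0 := fun y c hc =>
            (Submodule.eq_bot_iff _).1 (htf W) y ((Submodule.mem_torsion_iff _).2 ⟨c, hc⟩)
          exact hs (h1 s (hmem (s • m : Γ(F, W.1)) ⟨r ^ n, pow_mem hnz n⟩ hz))
        have hfin : (associatedPrimes Γ(X, W.1) Γ(X, W.1)).Finite := associatedPrimes.finite Γ(X, W.1) Γ(X, W.1)
        obtain ⟨q, hq, hpq⟩ := (Ideal.subset_union_prime_finite (f := fun q : Ideal Γ(X, W.1) => q) hfin ⊥ ⊥
          (fun q hq _ _ => hq.isPrime)).1 hsub
        have := hq.isPrime
        obtain ⟨z, hzW, rfl⟩ := Div89.exists_point W q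
        have hz : Curv2.IsWeakAssPoint (Coh.structureModule X) z := by
          refine (Div89.isWeakAssPoint_structureModule_iff W z hzW).2 ?_
          obtain ⟨_, a, ha⟩ := (isAssociatedPrime_iff).1 hq
          refine ⟨a, ?_⟩
          rw [ha]
          refine ⟨⟨ha ▸ this, ?_⟩, fun J hJ _ => ?_⟩
          · intro r hr
            exact Submodule.mem_colon_singleton.2 ((Submodule.mem_bot _).2 (CAlg5.mem_ann.1 hr))
          · intro r hr
            exact hJ.2 (CAlg5.mem_ann.2 ((Submodule.mem_bot _).1 (Submodule.mem_colon_singleton.1 hr)))
        exact ((Div89.specializes_iff_primeAt_le W hzW hxW).2 hpq).mem_open U.isOpen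
          (Div89.mem_of_isSchematicallyDense hU z hz)
      intro a b hab
      obtain ⟨A, hxA, a, rfl⟩ := F.presheaf.exists_germ_eq a
      obtain ⟨B, hxB, b, rfl⟩ := F.presheaf.exists_germ_eq b
      rw [TopCat.Presheaf.stalkFunctor_map_germ_apply, TopCat.Presheaf.stalkFunctor_map_germ_apply] at hab
      obtain ⟨C, hxC, iA, iB, he⟩ := TopCat.Presheaf.germ_eq G.presheaf x hxA hxB _ _ hab
      have hle : C ⊓ U ≤ U := inf_le_right
      let jA : C ⊓ U ⟶ A := homOfLE (inf_le_left.trans iA.le)
      let jB : C ⊓ U ⟶ B := homOfLE (inf_le_left.trans iB.le)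
      have h1 : F.presheaf.map jA.op a = F.presheaf.map jB.op b := by
        apply hφU (C ⊓ U) hle
        refine (PresheafOfModules.naturality_apply φ.val jA.op a).trans (Eq.trans ?_
          (PresheafOfModules.naturality_apply φ.val jB.op b).symm)
        have h2 := congrArg (G.presheaf.map (homOfLE (inf_le_left : C ⊓ U ≤ C)).op) he
        simp only [← ConcreteCategory.comp_apply, ← Functor.map_comp, Category.assoc] at h2 ⊢
        exact h2
      have ea := TopCat.Presheaf.germ_res_apply F.presheaf jA x ⟨hxC, hxU⟩ a
      have eb := TopCat.Presheaf.germ_res_apply F.presheaf jB x ⟨hxC, hxU⟩ b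
      rw [← ea, ← eb, h1]
    · right; exact hx
  exact QC70.app_injective_of_mono φ V

end Groth.Agent.S15715
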