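import Groth.Statements.S15717
import Groth.Agent.LC16.CanonLocal
import Groth.Agent.EGA4Alg4.CMLoc
import Groth.Agent.S14424

set_option autoImplicit false
universe u
open CAlg

namespace Groth.Agent.S15717

/-- Let R be a Cohen–Macaulay local ring and I an ideal of R with R/I equidimensional (all minimal
primes p over I have the same dim R/p). Then there is a regular sequence r_1, ..., r_n in I such
that the closed subscheme V(r_1, ..., r_n) of Spec R, a local complete intersection, contains V(I),
has the same dimension as V(I), and has the irreducible components of V(I) among its irreducible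
components: dim R/(r_1, ..., r_n) = dim R/I and every minimal prime over I is a minimal prime over
(r_1, ..., r_n). The sequence is asked to be weakly regular (each r_i a non-zero-divisor modulo the
previous ones), which for I proper is the same as regular and which also covers I = R with the
sequence (1). -/
theorem result (R : Type u) [CommRing R]
    [LocCoh.IsCohenMacaulayLocalRing R] (I : Ideal R)
    (hI : ∀ p ∈ I.minimalPrimes, ringKrullDim (R ⧸ p) = ringKrullDim (R ⧸ I)) :
    ∃ rs : List R, RingTheory.Sequence.IsWeaklyRegular R rs ∧ Ideal.ofList rs ≤ I ∧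
      ringKrullDim (R ⧸ Ideal.ofList rs) = ringKrullDim (R ⧸ I) ∧
      I.minimalPrimes ⊆ (Ideal.ofList rs).minimalPrimes := by
  classical
  obtain ⟨n, hn⟩ := EGA4Alg4.exists_supportDim_eq (A := R) (M := R)
  have hcm : LocCoh.IsCohenMacaulayModule R R := LocCoh.IsCohenMacaulayLocalRing.supportDim_eq_depth
  rw [Module.supportDim_self_eq_ringKrullDim] at hn
  rcases eq_or_ne I ⊤ with rfl | hIne
  · refine ⟨[1], ?_, le_top, ?_, by simp⟩
    · rw [RingTheory.Sequence.isWeaklyRegular_cons_iff]
      exact ⟨IsSMulRegular.one R, RingTheory.Sequence.IsWeaklyRegular.nil R _⟩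
    · rw [show Ideal.ofList [(1 : R)] = ⊤ by simp]
  haveI : Nontrivial (R ⧸ I) := Ideal.Quotient.nontrivial_iff.2 hIne
  obtain ⟨a, ha⟩ := EGA4Alg4.exists_supportDim_eq (A := R) (M := R ⧸ I)
  rw [Module.supportDim_quotient_eq_ringKrullDim] at ha
  have key : ∀ (q : Ideal R) [q.IsPrime],
      ∃ aq hq : ℕ, ringKrullDim (R ⧸ q) = aq ∧ q.height = hq ∧ hq + aq = n := by
    intro q _
    haveI : Nontrivial (R ⧸ q) := Ideal.Quotient.nontrivial_iff.2 (Ideal.IsPrime.ne_top ‹_›)
    obtain ⟨aq, haq⟩ := EGA4Alg4.exists_supportDim_eq (A := R) (M := R ⧸ q)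
    rw [Module.supportDim_quotient_eq_ringKrullDim] at haq
    obtain ⟨hq, hhq⟩ := ENat.ne_top_iff_exists.mp (Ideal.height_ne_top_of_isPrime (I := q))
    refine ⟨aq, hq, haq, hhq.symm, LC16.CanonLocal.height_add_dim_quotient q hn ?_ haq⟩
    rw [IsLocalization.AtPrime.ringKrullDim_eq_height q, ← hhq]
    rfl
  have hanm : a ≤ n := by
    have := ringKrullDim_quotient_le I
    rw [hn, ha] at this
    exact_mod_cast this
  have hIh : I.height = ((n - a : ℕ) : ℕ∞) := by
    have hmin : ∀ p ∈ I.minimalPrimes, p.height = ((n - a : ℕ) : ℕ∞) := fun p hp => by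
      haveI := hp.1.1
      obtain ⟨ap, hq, hap, hhq, hsum⟩ := key p
      have : (ap : WithBot ℕ∞) = a := hap.symm.trans ((hI p hp).trans ha)
      have : ap = a := by exact_mod_cast this
      rw [hhq, show n - a = hq by omega]
    obtain ⟨p, hp⟩ := Ideal.nonempty_minimalPrimes hIne
    rw [Ideal.height_eq_inf_minimalPrimes]
    exact le_antisymm ((iInf₂_le p hp).trans (hmin p hp).le) (le_iInf₂ fun q hq => (hmin q hq).ge)
  haveI : LocCoh.IsCohenMacaulayRing R := ⟨fun p _ => by
    refine ⟨?_⟩
    have hsupp : (⟨p, ‹_›⟩ : PrimeSpectrum R) ∈ Module.support R R := by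
      rw [Module.support_eq_zeroLocus]
      intro x hx
      rw [SetLike.mem_coe, Module.mem_annihilator] at hx
      have h1 := hx 1
      rw [smul_eq_mul, mul_one] at h1
      exact h1 ▸ p.zero_mem
    exact (EGA4Alg4.localization_cm_and_dim hcm ⟨p, ‹_›⟩ hsupp).1⟩
  have hdep := (S14424.result R).1 inferInstance I hIne
  rw [hIh, LocCoh.idealDepth, if_neg (by rwa [Ideal.smul_eq_mul, Ideal.mul_top])] at hdep
  obtain ⟨rs, hrs, hlen⟩ : ∃ rs : List R, (RingTheory.Sequence.IsWeaklyRegular R rs ∧ ∀ r ∈ rs, r ∈ I) ∧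
      n - a ≤ rs.length := by
    by_contra hcon
    push Not at hcon
    rcases Nat.eq_zero_or_pos (n - a) with h0 | h0
    · exact absurd (hcon [] ⟨RingTheory.Sequence.IsWeaklyRegular.nil R R, by simp⟩) (by simp [h0])
    · have : ((n - a : ℕ) : ℕ∞) ≤ ((n - a - 1 : ℕ) : ℕ∞) := hdep ▸ iSup₂_le fun rs hrs => by
        have := hcon rs hrs
        exact_mod_cast (show rs.length ≤ n - a - 1 by omega)
      have : n - a ≤ n - a - 1 := by exact_mod_cast this
      omega
  obtain ⟨hreg, hmem⟩ := hrs
  let xs := rs.take (n - a)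
  have hxreg : RingTheory.Sequence.IsWeaklyRegular R xs := by
    have h1 : rs = xs ++ rs.drop (n - a) := (List.take_append_drop (n - a) rs).symm
    rw [h1, RingTheory.Sequence.isWeaklyRegular_append_iff] at hreg
    exact hreg.1
  have hxmem : ∀ r ∈ xs, r ∈ I := fun r hr => hmem r (List.mem_of_mem_take hr)
  have hle : Ideal.ofList xs ≤ I := Ideal.span_le.2 hxmem
  have hxlen : xs.length = n - a := by simp [xs, hlen]
  have hdim : ringKrullDim (R ⧸ Ideal.ofList xs) = a := by
    have h := EGA4Alg4.isRegular_of_isWeaklyRegular (M := R) hxreg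
      (fun r hr => IsLocalRing.le_maximalIdeal hIne (hxmem r hr))
    have h1 := Module.supportDim_add_length_eq_supportDim_of_isRegular xs h
    rw [Ideal.smul_eq_mul, Ideal.mul_top, Module.supportDim_quotient_eq_ringKrullDim,
      Module.supportDim_self_eq_ringKrullDim, hn, hxlen] at h1
    haveI : Nontrivial (R ⧸ Ideal.ofList xs) :=
      Ideal.Quotient.nontrivial_iff.2 fun hh => hIne (eq_top_iff.2 (hh ▸ hle))
    obtain ⟨b, hb⟩ := EGA4Alg4.exists_supportDim_eq (A := R) (M := R ⧸ Ideal.ofList xs)
    rw [Module.supportDim_quotient_eq_ringKrullDim] at hb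
    rw [hb] at h1 ⊢
    have : b + (n - a) = n := by exact_mod_cast h1
    rw [show b = a by omega]
  refine ⟨xs, hxreg, hle, hdim.trans ha.symm, fun p hp => ?_⟩
  haveI := hp.1.1
  obtain ⟨q, hq, hqp⟩ := Ideal.exists_minimalPrimes_le (hle.trans hp.1.2)
  haveI := hq.1.1
  rcases eq_or_lt_of_le hqp with rfl | hlt
  · exact hq
  exfalso
  obtain ⟨ap, hp', hap, hhp, hps⟩ := key p
  obtain ⟨aq, hq', haq, hhq, hqs⟩ := key q
  have h1 : aq ≤ a := by
    have hh : ringKrullDim (R ⧸ q) ≤ ringKrullDim (R ⧸ Ideal.ofList xs) :=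
      ringKrullDim_le_of_surjective (Ideal.Quotient.factor hq.1.2) (Ideal.Quotient.factor_surjective hq.1.2)
    rw [haq, hdim] at hh
    exact_mod_cast hh
  have h2 : ap = a := by
    have h2 : (ap : WithBot ℕ∞) = a := hap.symm.trans ((hI p hp).trans ha)
    exact_mod_cast h2
  have h3 : hq' < hp' := by
    have h3 := Ideal.height_strict_mono_of_isPrime_of_isPrime hlt
    rw [hhp, hhq] at h3
    exact_mod_cast h3
  omega

end Groth.Agent.S15717
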