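import Groth.Statements.S15724
import Groth.Agent.Hilb2Inv37.Pieces

set_option autoImplicit false
universe u
open W4c2invhilbsl2

namespace Groth.Agent.S15724

open MvPolynomial Groth.Agent.Hilb2Inv37

/-- Grade the polynomial ring k[X₀,…,X₄] over a field k by ℤ × ℤ/m, giving X₀ weight (1,0), X₁ and X₂
weight (−p,−1), and X₃ and X₄ weight (q,1), where 0 < p < q are coprime integers and m ≥ 1, and let
P be the principal ideal generated by the weight-zero element X₀^(q−p) − X₁X₄ + X₂X₃ (the equation
of an affine hypersurface). Then every polynomial homogeneous of the weight of X₁ is congruent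
modulo P to some a·X₁ + b·X₂ with a and b homogeneous of weight zero, and every polynomial
homogeneous of the weight of X₃ is congruent modulo P to some a·X₃ + b·X₄ with a and b homogeneous
of weight zero. Equivalently, in the coordinate ring of the hypersurface the weight pieces of the
weights of X₁ and of X₃ are generated over the weight-zero subring (the ring of invariants of the
diagonal action of a one-dimensional torus times the group of m-th roots of unity with these
weights) by X₁, X₂ and by X₃, X₄ respectively. (For the weight of X₁ the congruence is already an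
equality in the polynomial ring; for the weight of X₃ the hypersurface equation is needed, e.g.
X₀^(q+p)X₁ has that weight when m divides 2.) -/
theorem result (k : Type u) [Field k] (p q m : ℕ) (hp : 0 < p) (hpq : p < q) (hcop : Nat.Coprime p q) (hm : 0 < m) (f : MvPolynomial (Fin 5) k) :
    (f ∈ MvPolynomial.weightedHomogeneousSubmodule k (W4c2invhilbsl2.wt5 p q m) (W4c2invhilbsl2.wt5 p q m 1) →
      ∃ a b : MvPolynomial (Fin 5) k, a ∈ MvPolynomial.weightedHomogeneousSubmodule k (W4c2invhilbsl2.wt5 p q m) 0 ∧ b ∈ MvPolynomial.weightedHomogeneousSubmodule k (W4c2invhilbsl2.wt5 p q m) 0 ∧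
        f - (a * MvPolynomial.X (1 : Fin 5) + b * MvPolynomial.X (2 : Fin 5)) ∈ Ideal.span {MvPolynomial.X (0 : Fin 5) ^ (q - p) - MvPolynomial.X 1 * MvPolynomial.X 4 + MvPolynomial.X 2 * MvPolynomial.X 3}) ∧
    (f ∈ MvPolynomial.weightedHomogeneousSubmodule k (W4c2invhilbsl2.wt5 p q m) (W4c2invhilbsl2.wt5 p q m 3) →
      ∃ a b : MvPolynomial (Fin 5) k, a ∈ MvPolynomial.weightedHomogeneousSubmodule k (W4c2invhilbsl2.wt5 p q m) 0 ∧ b ∈ MvPolynomial.weightedHomogeneousSubmodule k (W4c2invhilbsl2.wt5 p q m) 0 ∧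
        f - (a * MvPolynomial.X (3 : Fin 5) + b * MvPolynomial.X (4 : Fin 5)) ∈ Ideal.span {MvPolynomial.X (0 : Fin 5) ^ (q - p) - MvPolynomial.X 1 * MvPolynomial.X 4 + MvPolynomial.X 2 * MvPolynomial.X 3}) := by
  have hN := natCast_sub_eq (p := p) (q := q) hpq
  set P : Ideal (MvPolynomial (Fin 5) k) := Ideal.span {X (0 : Fin 5) ^ (q - p) - X 1 * X 4 + X 2 * X 3}
  have hw : ∀ j, Finsupp.weight (wt5 p q m) (Finsupp.single j 1) = wt5 p q m j := fun j => by
    rw [Finsupp.weight_single, one_smul]
  have hX : ∀ j, (monomial (Finsupp.single j 1) (1 : k) : MvPolynomial (Fin 5) k) = X j := fun j => rfl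
  have hdvd : ∀ (d : Fin 5 →₀ ℕ) j, 0 < d j → Finsupp.single j 1 ≤ d := fun d j h =>
    Finsupp.single_le_iff.mpr h
  constructor
  · intro hf
    set G : Submodule k (MvPolynomial (Fin 5) k) :=
      gen (wt5 p q m) (X 1) ⊔ gen (wt5 p q m) (X 2) ⊔ P.restrictScalars k
    have hle : weightedHomogeneousSubmodule k (wt5 p q m) (wt5 p q m 1) ≤ G := by
      refine whs_le fun d hd => ?_
      have h := congrArg Prod.fst hd
      rw [wt5_weight] at h
      simp [wt5] at h
      rcases Nat.eq_zero_or_pos (d 1) with a | a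
      · rcases Nat.eq_zero_or_pos (d 2) with b | b
        · exfalso
          rw [a, b] at h
          have : (0 : ℤ) ≤ (q : ℤ) * ((d 3 : ℤ) + d 4) := by positivity
          push_cast at h
          linarith [show (0 : ℤ) < p by exact_mod_cast hp, Int.natCast_nonneg (d 0)]
        · exact Submodule.mem_sup_left (Submodule.mem_sup_right (hX 2 ▸ monomial_mem_gen hd ((hw 2).trans rfl) (hdvd d 2 b)))
      · exact Submodule.mem_sup_left (Submodule.mem_sup_left (hX 1 ▸ monomial_mem_gen hd (hw 1) (hdvd d 1 a)))
    obtain ⟨_, h12, r, hr, rfl⟩ := Submodule.mem_sup.mp (hle hf)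
    obtain ⟨_, h1, _, h2, rfl⟩ := Submodule.mem_sup.mp h12
    obtain ⟨a1, ha1, rfl⟩ := mem_gen.mp h1
    obtain ⟨a2, ha2, rfl⟩ := mem_gen.mp h2
    exact ⟨a1, a2, ha1, ha2, by rw [add_sub_cancel_left]; exact hr⟩
  · intro hf
    set G : Submodule k (MvPolynomial (Fin 5) k) :=
      gen (wt5 p q m) (X 3) ⊔ gen (wt5 p q m) (X 4) ⊔ P.restrictScalars k
    have hle : weightedHomogeneousSubmodule k (wt5 p q m) (wt5 p q m 3) ≤ G := by
      refine whs_le fun d hd => ?_
      rcases Nat.eq_zero_or_pos (d 3) with a | a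
      · rcases Nat.eq_zero_or_pos (d 4) with b | b
        · have h := congrArg Prod.fst hd
          rw [wt5_weight] at h
          simp [wt5, a, b] at h
          have h0 : q - p ≤ d 0 := by
            have : (0 : ℤ) ≤ (p : ℤ) * ((d 1 : ℤ) + d 2) := by positivity
            omega
          set u := v5 (q - p) 0 0 0 0
          have hle : u ≤ d := fin5_le (by simpa [u] using h0) (by simp [u]) (by simp [u]) (by simp [u]) (by simp [u])
          set a0 := monomial (d - u) (1 : k)
          have hwa : ∀ j : Fin 5, wt5 p q m 3 - Finsupp.weight (wt5 p q m) u + wt5 p q m j = 0 →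
              a0 * X j ∈ weightedHomogeneousSubmodule k (wt5 p q m) 0 := by
            intro j hj
            rw [← hj, ← hX]
            exact mul_mem_whs (monomial_mem_whs (weight_tsub hd hle)) (monomial_mem_whs (hw j))
          have e1 : a0 * X 1 ∈ weightedHomogeneousSubmodule k (wt5 p q m) 0 :=
            hwa 1 (by rw [wt5_weight]; simp [wt5, u, hN])
          have e2 : a0 * X 2 ∈ weightedHomogeneousSubmodule k (wt5 p q m) 0 :=
            hwa 2 (by rw [wt5_weight]; simp [wt5, u, hN])
          have h14 : a0 * X 1 * X 4 ∈ G := Submodule.mem_sup_left (Submodule.mem_sup_right (mem_gen.mpr ⟨_, e1, rfl⟩))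
          have h23 : a0 * X 2 * X 3 ∈ G := Submodule.mem_sup_left (Submodule.mem_sup_left (mem_gen.mpr ⟨_, e2, rfl⟩))
          have hP : a0 * (X (0 : Fin 5) ^ (q - p) - X 1 * X 4 + X 2 * X 3) ∈ G :=
            Submodule.mem_sup_right (Ideal.mul_mem_left _ _ (Ideal.subset_span rfl))
          have h1 : monomial d (1 : k) = a0 * X 0 ^ (q - p) := by
            rw [show (X 0 : MvPolynomial (Fin 5) k) ^ (q - p) = monomial u 1 by simp [u, monomial5],
              monomial_mul, mul_one, tsub_add_cancel_of_le hle]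
          rw [h1]
          convert G.add_mem hP (G.sub_mem h14 h23) using 1
          ring
        · exact Submodule.mem_sup_left (Submodule.mem_sup_right (hX 4 ▸ monomial_mem_gen hd ((hw 4).trans rfl) (hdvd d 4 b)))
      · exact Submodule.mem_sup_left (Submodule.mem_sup_left (hX 3 ▸ monomial_mem_gen hd (hw 3) (hdvd d 3 a)))
    obtain ⟨_, h12, r, hr, rfl⟩ := Submodule.mem_sup.mp (hle hf)
    obtain ⟨_, h1, _, h2, rfl⟩ := Submodule.mem_sup.mp h12
    obtain ⟨a1, ha1, rfl⟩ := mem_gen.mp h1
    obtain ⟨a2, ha2, rfl⟩ := mem_gen.mp h2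
    exact ⟨a1, a2, ha1, ha2, by rw [add_sub_cancel_left]; exact hr⟩

end Groth.Agent.S15724
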