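import Groth.Statements.S15725
import Groth.Agent.Hilb2Inv37.Pieces

set_option autoImplicit false
universe u
open W4c2invhilbsl2

namespace Groth.Agent.S15725

open MvPolynomial Groth.Agent.Hilb2Inv37

/-- Grade the polynomial ring k[X₀,X₁,X₂] over a field k by ℤ × ℤ/m, giving X₀ weight (1,0), X₁ weight
(−p,−1) and X₂ weight (q,1), where 0 < p < q are coprime integers and m ≥ 1 (this three-variable
ring stands for the subring k[X₀,X₁,Xⱼ], j = 3 or 4, of the five-variable ring with the same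
weights). Then every polynomial homogeneous of weight (q−p, 0) can be written a·X₀^(q−p) + b·X₁X₂
with a and b homogeneous of weight zero; in other words the weight-(q−p, 0) piece is generated by
X₀^(q−p) and X₁X₂ as a module over the weight-zero subring. -/
theorem result (k : Type u) [Field k] (p q m : ℕ) (hp : 0 < p) (hpq : p < q) (hcop : Nat.Coprime p q) (hm : 0 < m) (f : MvPolynomial (Fin 3) k)
    (hf : f ∈ MvPolynomial.weightedHomogeneousSubmodule k (W4c2invhilbsl2.wt3 p q m) ((q : ℤ) - (p : ℤ), (0 : ZMod m))) :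
    ∃ a b : MvPolynomial (Fin 3) k, a ∈ MvPolynomial.weightedHomogeneousSubmodule k (W4c2invhilbsl2.wt3 p q m) 0 ∧ b ∈ MvPolynomial.weightedHomogeneousSubmodule k (W4c2invhilbsl2.wt3 p q m) 0 ∧
      f = a * MvPolynomial.X (0 : Fin 3) ^ (q - p) + b * (MvPolynomial.X (1 : Fin 3) * MvPolynomial.X (2 : Fin 3)) := by
  have hN := natCast_sub_eq (p := p) (q := q) hpq
  set g1 := v3 (q - p) 0 0
  set g2 := v3 0 1 1
  have hw1 : Finsupp.weight (wt3 p q m) g1 = ((q : ℤ) - p, (0 : ZMod m)) := by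
    rw [wt3_weight]; simp [g1, hN]
  have hw2 : Finsupp.weight (wt3 p q m) g2 = ((q : ℤ) - p, (0 : ZMod m)) := by
    rw [wt3_weight]; simp [g2]; ring
  have hle : weightedHomogeneousSubmodule k (wt3 p q m) ((q : ℤ) - p, (0 : ZMod m)) ≤
      gen (wt3 p q m) (monomial g1 (1 : k)) ⊔ gen (wt3 p q m) (monomial g2 (1 : k)) := by
    refine whs_le fun d hd => ?_
    have h := congrArg Prod.fst hd
    rw [wt3_weight] at h
    rcases qp_cases hp hpq h with ⟨h1, h2⟩ | h0
    · exact Submodule.mem_sup_right (monomial_mem_gen hd hw2 (fin3_le (by simp [g2]) (show 1 ≤ d 1 from h1) (show 1 ≤ d 2 from h2)))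
    · exact Submodule.mem_sup_left (monomial_mem_gen hd hw1 (fin3_le (by simpa [g1] using h0) (by simp [g1]) (by simp [g1])))
  obtain ⟨_, hu, _, hv, rfl⟩ := Submodule.mem_sup.mp (hle hf)
  obtain ⟨a, ha, rfl⟩ := mem_gen.mp hu
  obtain ⟨b, hb, rfl⟩ := mem_gen.mp hv
  exact ⟨a, b, ha, hb, by simp [g1, g2, monomial3]⟩

end Groth.Agent.S15725
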