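import Groth.Statements.S15726
import Groth.Agent.Hilb2Inv37.Pieces

set_option autoImplicit false
universe u
open W4c2invhilbsl2

namespace Groth.Agent.S15726

open MvPolynomial Groth.Agent.Hilb2Inv37

/-- Grade the polynomial ring k[X₀,…,X₄] over a field k by ℤ × ℤ/m, giving X₀ weight (1,0), X₁ and X₂
weight (−p,−1), and X₃ and X₄ weight (q,1), where 0 < p < q are coprime integers and m ≥ 1. Then
modulo the principal ideal generated by the weight-zero element X₀^(q−p) − X₁X₄ + X₂X₃ (the equation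
of an affine hypersurface), every polynomial homogeneous of weight (q−p, 0) is congruent to a
combination a₁₃X₁X₃ + a₁₄X₁X₄ + a₂₃X₂X₃ + a₂₄X₂X₄ whose four coefficients are homogeneous of weight
zero. Equivalently, in the coordinate ring of the hypersurface the weight-(q−p, 0) piece is
generated over the weight-zero subring (the invariant ring of the diagonal action with these
weights) by the span of the four products XₐX_b with a ∈ {1,2} and b ∈ {3,4}. (The published
statement is over the complex numbers; this row takes any field.) -/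
theorem result (k : Type u) [Field k] (p q m : ℕ) (hp : 0 < p) (hpq : p < q) (hcop : Nat.Coprime p q) (hm : 0 < m) (f : MvPolynomial (Fin 5) k)
    (hf : f ∈ MvPolynomial.weightedHomogeneousSubmodule k (W4c2invhilbsl2.wt5 p q m) ((q : ℤ) - (p : ℤ), (0 : ZMod m))) :
    ∃ a₁₃ a₁₄ a₂₃ a₂₄ : MvPolynomial (Fin 5) k,
      a₁₃ ∈ MvPolynomial.weightedHomogeneousSubmodule k (W4c2invhilbsl2.wt5 p q m) 0 ∧ a₁₄ ∈ MvPolynomial.weightedHomogeneousSubmodule k (W4c2invhilbsl2.wt5 p q m) 0 ∧ a₂₃ ∈ MvPolynomial.weightedHomogeneousSubmodule k (W4c2invhilbsl2.wt5 p q m) 0 ∧ a₂₄ ∈ MvPolynomial.weightedHomogeneousSubmodule k (W4c2invhilbsl2.wt5 p q m) 0 ∧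
      f - (a₁₃ * (MvPolynomial.X (1 : Fin 5) * MvPolynomial.X 3) + a₁₄ * (MvPolynomial.X (1 : Fin 5) * MvPolynomial.X 4) +
          a₂₃ * (MvPolynomial.X (2 : Fin 5) * MvPolynomial.X 3) + a₂₄ * (MvPolynomial.X (2 : Fin 5) * MvPolynomial.X 4)) ∈
        Ideal.span {MvPolynomial.X (0 : Fin 5) ^ (q - p) - MvPolynomial.X 1 * MvPolynomial.X 4 + MvPolynomial.X 2 * MvPolynomial.X 3} := by
  have hN := natCast_sub_eq (p := p) (q := q) hpq
  set P : Ideal (MvPolynomial (Fin 5) k) := Ideal.span {X (0 : Fin 5) ^ (q - p) - X 1 * X 4 + X 2 * X 3}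
  set G : Submodule k (MvPolynomial (Fin 5) k) :=
    gen (wt5 p q m) (monomial (v5 0 1 0 1 0) (1 : k)) ⊔ gen (wt5 p q m) (monomial (v5 0 1 0 0 1) (1 : k)) ⊔
      gen (wt5 p q m) (monomial (v5 0 0 1 1 0) (1 : k)) ⊔ gen (wt5 p q m) (monomial (v5 0 0 1 0 1) (1 : k)) ⊔
      P.restrictScalars k with hG
  have hle : weightedHomogeneousSubmodule k (wt5 p q m) ((q : ℤ) - p, (0 : ZMod m)) ≤ G := by
    refine whs_le fun d hd => ?_
    have hw : ∀ a b c e, a + b = 1 → c + e = 1 → Finsupp.weight (wt5 p q m) (v5 0 a b c e) = ((q : ℤ) - p, (0 : ZMod m)) := by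
      intro a b c e hab hce
      rw [wt5_weight]
      simp only [v5_0, v5_1, v5_2, v5_3, v5_4, ← Nat.cast_add, hab, hce]
      simp; ring
    have h := congrArg Prod.fst hd
    rw [wt5_weight] at h
    rcases qp_cases hp hpq (D1 := d 1 + d 2) (D2 := d 3 + d 4) (by push_cast; exact h) with ⟨h1, h2⟩ | h0
    · rcases Nat.eq_zero_or_pos (d 1) with a | a <;> rcases Nat.eq_zero_or_pos (d 3) with b | b
      · exact Submodule.mem_sup_left (Submodule.mem_sup_right (monomial_mem_gen hd (hw 0 1 0 1 rfl rfl) (fin5_le (by simp) (by simp) (by simp; omega) (by simp) (by simp; omega))))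
      · exact Submodule.mem_sup_left (Submodule.mem_sup_left (Submodule.mem_sup_right (monomial_mem_gen hd (hw 0 1 1 0 rfl rfl) (fin5_le (by simp) (by simp) (by simp; omega) (by simp; omega) (by simp)))))
      · exact Submodule.mem_sup_left (Submodule.mem_sup_left (Submodule.mem_sup_left (Submodule.mem_sup_right (monomial_mem_gen hd (hw 1 0 0 1 rfl rfl) (fin5_le (by simp) (by simp; omega) (by simp) (by simp) (by simp; omega))))))
      · exact Submodule.mem_sup_left (Submodule.mem_sup_left (Submodule.mem_sup_left (Submodule.mem_sup_left (monomial_mem_gen hd (hw 1 0 1 0 rfl rfl) (fin5_le (by simp) (by simp; omega) (by simp) (by simp; omega) (by simp))))))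
    · set u := v5 (q - p) 0 0 0 0
      have hwu : Finsupp.weight (wt5 p q m) u = ((q : ℤ) - p, (0 : ZMod m)) := by
        rw [wt5_weight]; simp [u, hN]
      obtain ⟨a, ha, hau⟩ := mem_gen.mp (monomial_mem_gen (k := k) hd hwu (fin5_le (by simpa [u] using h0) (by simp [u]) (by simp [u]) (by simp [u]) (by simp [u])))
      have h14 : a * monomial (v5 0 1 0 0 1) (1 : k) ∈ G :=
        Submodule.mem_sup_left (Submodule.mem_sup_left (Submodule.mem_sup_left (Submodule.mem_sup_right (mem_gen.mpr ⟨a, ha, rfl⟩))))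
      have h23 : a * monomial (v5 0 0 1 1 0) (1 : k) ∈ G :=
        Submodule.mem_sup_left (Submodule.mem_sup_left (Submodule.mem_sup_right (mem_gen.mpr ⟨a, ha, rfl⟩)))
      have hP : a * (X (0 : Fin 5) ^ (q - p) - X 1 * X 4 + X 2 * X 3) ∈ G :=
        Submodule.mem_sup_right (Ideal.mul_mem_left _ _ (Ideal.subset_span rfl))
      have := G.add_mem hP (G.sub_mem h14 h23)
      convert this using 1
      rw [← hau]
      simp [u, monomial5]
      ring
  obtain ⟨_, h1234, r, hr, rfl⟩ := Submodule.mem_sup.mp (hle hf)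
  obtain ⟨_, h123, _, h4, rfl⟩ := Submodule.mem_sup.mp h1234
  obtain ⟨_, h12, _, h3, rfl⟩ := Submodule.mem_sup.mp h123
  obtain ⟨_, h1, _, h2, rfl⟩ := Submodule.mem_sup.mp h12
  obtain ⟨a1, ha1, rfl⟩ := mem_gen.mp h1
  obtain ⟨a2, ha2, rfl⟩ := mem_gen.mp h2
  obtain ⟨a3, ha3, rfl⟩ := mem_gen.mp h3
  obtain ⟨a4, ha4, rfl⟩ := mem_gen.mp h4
  refine ⟨a1, a2, a3, a4, ha1, ha2, ha3, ha4, ?_⟩
  convert hr using 1
  simp [monomial5]

end Groth.Agent.S15726
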