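import Groth.Statements.S15727
import Groth.Agent.Hilb2Inv37.Pieces

set_option autoImplicit false
universe u
open W4c2invhilbsl2

namespace Groth.Agent.S15727

open MvPolynomial Groth.Agent.Hilb2Inv37

/-- Let k be an algebraically closed field, 0 < p < q coprime integers and m ≥ 1, and grade k[X₀,…,X₄]
by ℤ × ℤ/m, giving X₀ weight (1,0), X₁ and X₂ weight (−p,−1), and X₃ and X₄ weight (q,1). For s ∈ k
let I_s be the ideal (X₀^(q−p) − X₁X₄, X₂, X₃, s − X₀^(mp)X₁^m), whose generators are homogeneous
(the last one of weight zero). Then for every weight ν the image in k[X₀,…,X₄]/I_s of the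
homogeneous polynomials of weight ν is a k-vector space of dimension at most 1. (The published
statement asserts that this dimension equals 1 for every ν and every s, namely that the quotient has
the Hilbert function of the regular representation of the grading group; this row states the upper
bound, the half obtained from the monomial analysis of the weight pieces, while the lower bound
there is drawn from the moduli interpretation of these ideals. The published statement is over the
complex numbers; this row takes any algebraically closed field, which is what the reduction to s =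
0, 1 by rescaling the variables uses.) -/
theorem result (k : Type u) [Field k] [IsAlgClosed k] (p q m : ℕ) (hp : 0 < p) (hpq : p < q) (hcop : Nat.Coprime p q) (hm : 0 < m) (s : k) (ν : ℤ × ZMod m) :
    Module.rank k (W4c2invhilbsl2.piece k (W4c2invhilbsl2.wt5 p q m) (W4c2invhilbsl2.idealI k p q m s) ν) ≤ 1 := by
  classical
  set I := idealI k p q m s
  rcases Set.eq_empty_or_nonempty {d : Fin 5 →₀ ℕ | Finsupp.weight (wt5 p q m) d = ν ∧ d 2 = 0 ∧ d 3 = 0} with hS | hS
  · refine piece_rank_le_one 0 fun d hd => ?_
    suffices h : monomial d (1 : k) ∈ I by rw [Ideal.Quotient.eq_zero_iff_mem.mpr h]; exact zero_mem _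
    by_cases h2 : d 2 = 0
    · by_cases h3 : d 3 = 0
      · exact absurd ⟨hd, h2, h3⟩ ((Set.eq_empty_iff_forall_notMem.mp hS) d)
      · rw [monomial5, ← Nat.sub_add_cancel (Nat.pos_of_ne_zero h3), pow_succ]
        exact Ideal.mul_mem_right _ _ (Ideal.mul_mem_left _ _ (Ideal.mul_mem_left _ _ (Ideal.subset_span (by simp))))
    · rw [monomial5, ← Nat.sub_add_cancel (Nat.pos_of_ne_zero h2), pow_succ]
      exact Ideal.mul_mem_right _ _ (Ideal.mul_mem_right _ _ (Ideal.mul_mem_left _ _ (Ideal.mul_mem_left _ _ (Ideal.subset_span (by simp)))))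
  obtain ⟨e, ⟨he, he2, he3⟩, hmin⟩ := exists_min_c hpq hp _ hS (fun d => d 0) (fun d => d 1) (fun d => d 4) ν.1
    (by
      rintro d ⟨hd, h2, h3⟩
      have h := congrArg Prod.fst hd
      rw [wt5_weight] at h
      simpa [h2, h3] using h)
  refine piece_rank_le_one (Ideal.Quotient.mk I (monomial e (1 : k))) fun d hd => ?_
  set x := Ideal.Quotient.mk I (X 0)
  set y := Ideal.Quotient.mk I (X 1)
  set z := Ideal.Quotient.mk I (X 4)
  have h2z : Ideal.Quotient.mk I (X 2) = 0 := Ideal.Quotient.eq_zero_iff_mem.mpr (Ideal.subset_span (by simp))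
  have h3z : Ideal.Quotient.mk I (X 3) = 0 := Ideal.Quotient.eq_zero_iff_mem.mpr (Ideal.subset_span (by simp))
  have hr : x ^ (q - p) = y * z := by
    rw [← map_pow, ← map_mul, Ideal.Quotient.eq]; exact Ideal.subset_span (by simp)
  have hw : x ^ (m * p) * y ^ m = algebraMap k _ s := by
    rw [← map_pow, ← map_pow, ← map_mul, ← Ideal.Quotient.mk_algebraMap, MvPolynomial.algebraMap_eq]
    refine (Ideal.Quotient.eq.mpr ?_).symm
    exact Ideal.subset_span (by simp)
  by_cases h2 : d 2 = 0
  swap
  · rw [monomial5 d]; simp [h2z, zero_pow h2]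
  by_cases h3 : d 3 = 0
  swap
  · rw [monomial5 d]; simp [h3z, zero_pow h3]
  have hh := hd.trans he.symm
  rw [wt5_weight, wt5_weight, Prod.ext_iff] at hh
  simp only [h2, h3, he2, he3, Nat.cast_zero, add_zero, zero_add] at hh
  obtain ⟨hn, hcc⟩ := hh
  obtain ⟨j, hj⟩ := (ZMod.intCast_eq_intCast_iff_dvd_sub _ _ _).mp hcc
  have hj0 : 0 ≤ j := by
    have := hmin d ⟨hd, h2, h3⟩
    by_contra hcon
    push Not at hcon
    have := mul_neg_of_pos_of_neg (show (0 : ℤ) < m by omega) hcon
    omega
  rw [monomial5 d, monomial5 e]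
  simp only [map_mul, map_pow, h2, h3, he2, he3, pow_zero, mul_one]
  rw [mono_shift hpq hr m j.toNat hn.symm (by rw [Int.toNat_of_nonneg hj0]; linarith), hw,
    ← map_pow (algebraMap k (MvPolynomial (Fin 5) k ⧸ I)), mul_comm _ (algebraMap k (MvPolynomial (Fin 5) k ⧸ I) _),
    ← Algebra.smul_def]
  exact Submodule.smul_mem _ _ (Submodule.mem_span_singleton_self _)

end Groth.Agent.S15727
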