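import Groth.Statements.S15728
import Groth.Agent.Hilb2Inv37.Pieces

set_option autoImplicit false
universe u
open W4c2invhilbsl2

namespace Groth.Agent.S15728

open MvPolynomial Groth.Agent.Hilb2Inv37

/-- Let k be an algebraically closed field, 0 < p < q coprime integers and m ≥ 1; put g = gcd(m, q−p)
and a = m/g, and grade k[X₀,…,X₄] by ℤ × ℤ/m, giving X₀ weight (1,0), X₁ and X₂ weight (−p,−1), and
X₃ and X₄ weight (q,1). For s ∈ k let J_s be the ideal (X₀^g, X₂, X₄, s − X₁^(aq)X₃^(ap)), whose
generators are homogeneous (the last one of weight zero). Then for every weight ν the image in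
k[X₀,…,X₄]/J_s of the homogeneous polynomials of weight ν is a k-vector space of dimension at most
1. (The published statement asserts that this dimension equals 1 for every ν and every s; this row
states the upper bound, the half obtained from the monomial analysis of the weight pieces, while the
lower bound there is drawn from the moduli interpretation of these ideals. The published statement
is over the complex numbers; this row takes any algebraically closed field, which is what the
reduction to s = 0, 1 by rescaling the variables uses.) -/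
theorem result (k : Type u) [Field k] [IsAlgClosed k] (p q m : ℕ) (hp : 0 < p) (hpq : p < q) (hcop : Nat.Coprime p q) (hm : 0 < m) (s : k) (ν : ℤ × ZMod m) :
    Module.rank k (W4c2invhilbsl2.piece k (W4c2invhilbsl2.wt5 p q m) (W4c2invhilbsl2.idealJ k p q m s) ν) ≤ 1 := by
  classical
  set I := idealJ k p q m s
  set g := Nat.gcd m (q - p) with hgdef
  have hg : 0 < g := Nat.gcd_pos_of_pos_left _ hm
  rcases Set.eq_empty_or_nonempty {d : Fin 5 →₀ ℕ | Finsupp.weight (wt5 p q m) d = ν ∧ d 2 = 0 ∧ d 4 = 0 ∧ d 0 < g} with hS | hS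
  · refine piece_rank_le_one 0 fun d hd => ?_
    suffices h : monomial d (1 : k) ∈ I by rw [Ideal.Quotient.eq_zero_iff_mem.mpr h]; exact zero_mem _
    by_cases h2 : d 2 = 0
    · by_cases h4 : d 4 = 0
      · have h0 : g ≤ d 0 := by
          by_contra h0
          exact (Set.eq_empty_iff_forall_notMem.mp hS) d ⟨hd, h2, h4, by omega⟩
        rw [monomial5, ← Nat.sub_add_cancel h0, pow_add]
        exact Ideal.mul_mem_right _ _ (Ideal.mul_mem_right _ _ (Ideal.mul_mem_right _ _ (Ideal.mul_mem_right _ _ (Ideal.mul_mem_left _ _ (Ideal.subset_span (by simp [hgdef]))))))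
      · rw [monomial5, ← Nat.sub_add_cancel (Nat.pos_of_ne_zero h4), pow_succ]
        exact Ideal.mul_mem_left _ _ (Ideal.mul_mem_left _ _ (Ideal.subset_span (by simp)))
    · rw [monomial5, ← Nat.sub_add_cancel (Nat.pos_of_ne_zero h2), pow_succ]
      exact Ideal.mul_mem_right _ _ (Ideal.mul_mem_right _ _ (Ideal.mul_mem_left _ _ (Ideal.mul_mem_left _ _ (Ideal.subset_span (by simp)))))
  obtain ⟨e, ⟨he, he2, he4, he0⟩, hmin⟩ := exists_min_c hpq hp _ hS (fun d => d 0) (fun d => d 1) (fun d => d 3) ν.1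
    (by
      rintro d ⟨hd, h2, h4, -⟩
      have h := congrArg Prod.fst hd
      rw [wt5_weight] at h
      simpa [h2, h4] using h)
  refine piece_rank_le_one (Ideal.Quotient.mk I (monomial e (1 : k))) fun d hd => ?_
  have h2z : Ideal.Quotient.mk I (X 2) = 0 := Ideal.Quotient.eq_zero_iff_mem.mpr (Ideal.subset_span (by simp))
  have h4z : Ideal.Quotient.mk I (X 4) = 0 := Ideal.Quotient.eq_zero_iff_mem.mpr (Ideal.subset_span (by simp))
  have h0z : Ideal.Quotient.mk I (X 0) ^ g = 0 := by
    rw [← map_pow]; exact Ideal.Quotient.eq_zero_iff_mem.mpr (Ideal.subset_span (by simp [hgdef]))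
  have hw : Ideal.Quotient.mk I (X 1) ^ (m / g * q) * Ideal.Quotient.mk I (X 3) ^ (m / g * p) = algebraMap k _ s := by
    rw [← map_pow, ← map_pow, ← map_mul, ← Ideal.Quotient.mk_algebraMap, MvPolynomial.algebraMap_eq]
    refine (Ideal.Quotient.eq.mpr ?_).symm
    exact Ideal.subset_span (by simp [hgdef])
  by_cases h2 : d 2 = 0
  swap
  · rw [monomial5 d]; simp [h2z, zero_pow h2]
  by_cases h4 : d 4 = 0
  swap
  · rw [monomial5 d]; simp [h4z, zero_pow h4]
  by_cases h0 : d 0 < g
  swap
  · rw [monomial5 d, ← Nat.sub_add_cancel (not_lt.mp h0)]; simp [pow_add, h0z]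
  have hh := hd.trans he.symm
  rw [wt5_weight, wt5_weight, Prod.ext_iff] at hh
  simp only [h2, h4, he2, he4, Nat.cast_zero, add_zero, zero_add] at hh
  obtain ⟨hn, hcc⟩ := hh
  obtain ⟨j, hj⟩ := (ZMod.intCast_eq_intCast_iff_dvd_sub _ _ _).mp hcc
  obtain ⟨h00, i, hi, h1, h3⟩ := small_d0 hpq hcop hg (Nat.mul_div_cancel' (Nat.gcd_dvd_left _ _)).symm
    (Nat.mul_div_cancel' (Nat.gcd_dvd_right _ _)).symm (Nat.coprime_div_gcd_div_gcd hg) h0 he0 hn.symm
    ⟨j, by rw [← hj]; ring⟩
  have hi0 : 0 ≤ i := by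
    have hmn : (e 1 : ℤ) - e 3 ≤ (d 1 : ℤ) - d 3 := hmin d ⟨hd, h2, h4, h0⟩
    have hb : 0 < (q - p) / g := Nat.div_pos (Nat.le_of_dvd (by omega) (Nat.gcd_dvd_right _ _)) hg
    by_contra hcon
    push Not at hcon
    have := mul_neg_of_pos_of_neg (show (0 : ℤ) < (m : ℤ) * (((q - p) / g : ℕ) : ℤ) by positivity) hcon
    linarith
  rw [monomial5 d, monomial5 e]
  simp only [map_mul, map_pow, h2, h4, he2, he4, pow_zero, mul_one]
  rw [small_pow h00 hi0 h1 h3, hw, ← map_pow (algebraMap k (MvPolynomial (Fin 5) k ⧸ I)),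
    mul_comm _ (algebraMap k (MvPolynomial (Fin 5) k ⧸ I) _), ← Algebra.smul_def]
  exact Submodule.smul_mem _ _ (Submodule.mem_span_singleton_self _)

end Groth.Agent.S15728
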