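import Groth.Statements.S15729
import Groth.Agent.Hilb2Inv37.Pieces

set_option autoImplicit false
universe u
open W4c2invhilbsl2

namespace Groth.Agent.S15729

open MvPolynomial Groth.Agent.Hilb2Inv37

/-- Let 0 < p < q be coprime integers and m ≥ 1 such that q − p does not divide m; put g = gcd(m, q−p),
b = (q−p)/g, α = ⌊mp/(q−p)⌋, β = the remainder of mp modulo q−p and t = (q−p−β)/g, so that 1 ≤ t <
b, and let b/t = c₁ − 1/(c₂ − 1/(⋯ − 1/c_r)) be the negative-regular (Hirzebruch–Jung) continued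
fraction expansion with every cᵢ ≥ 2; set P₀ = 0, P₁ = 1, Q₀ = −1, Q₁ = 0, Pᵢ = cᵢ₋₁Pᵢ₋₁ − Pᵢ₋₂, Qᵢ
= cᵢ₋₁Qᵢ₋₁ − Qᵢ₋₂ for 2 ≤ i ≤ r+1, and eᵢ = (α+1+m)Pᵢ − Qᵢ, lᵢ = (α+1)Pᵢ − Qᵢ, nᵢ = q·lᵢ − p·eᵢ,
which are non-negative integers for 0 ≤ i ≤ r+1. Grade the polynomial ring k[X₀,X₁,X₂] over a field
k by ℤ × ℤ/m with weights (1,0), (−p,−1), (q,1) (it stands for k[X₀,X₁,Xⱼ], j = 3 or 4, inside the
five-variable ring). Then for every 1 ≤ i ≤ r, every polynomial homogeneous of weight (nᵢ, 0) can be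
written a·X₀^(nᵢ) + b·X₁^(eᵢ)X₂^(lᵢ) with a and b homogeneous of weight zero; that is, the
weight-(nᵢ,0) piece is generated over the weight-zero subring by X₀^(nᵢ) and X₁^(eᵢ)X₂^(lᵢ). -/
theorem result (k : Type u) [Field k] (p q m : ℕ) (hp : 0 < p) (hpq : p < q) (hcop : Nat.Coprime p q) (hm : 0 < m) (hnt : ¬ (q - p ∣ m)) (c : List ℤ) (hc : W4c2invhilbsl2.IsHJDigits p q m c) (i : ℕ) (hi : 1 ≤ i) (hir : i ≤ c.length)
    (f : MvPolynomial (Fin 3) k) (hf : f ∈ MvPolynomial.weightedHomogeneousSubmodule k (W4c2invhilbsl2.wt3 p q m) (W4c2invhilbsl2.nN p q m c i, (0 : ZMod m))) :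
    ∃ a b : MvPolynomial (Fin 3) k, a ∈ MvPolynomial.weightedHomogeneousSubmodule k (W4c2invhilbsl2.wt3 p q m) 0 ∧ b ∈ MvPolynomial.weightedHomogeneousSubmodule k (W4c2invhilbsl2.wt3 p q m) 0 ∧
      f = a * MvPolynomial.X (0 : Fin 3) ^ (W4c2invhilbsl2.nN p q m c i).toNat +
        b * (MvPolynomial.X (1 : Fin 3) ^ (W4c2invhilbsl2.eE p q m c i).toNat * MvPolynomial.X (2 : Fin 3) ^ (W4c2invhilbsl2.lL p q m c i).toNat) := by
  have he0 := eE_nonneg hpq hcop hm hc hir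
  have hl0 := lL_nonneg hpq hcop hm hc hir
  have hn0 := (nN_pos hpq hcop hm hc hir).le
  set g1 := v3 (nN p q m c i).toNat 0 0
  set g2 := v3 0 (eE p q m c i).toNat (lL p q m c i).toNat
  have hw1 : Finsupp.weight (wt3 p q m) g1 = (nN p q m c i, (0 : ZMod m)) := by
    rw [wt3_weight]; simp [g1, Int.toNat_of_nonneg hn0]
  have hw2 : Finsupp.weight (wt3 p q m) g2 = (nN p q m c i, (0 : ZMod m)) := by
    rw [wt3_weight]
    simp only [g2, v3_0, v3_1, v3_2, Int.toNat_of_nonneg he0, Int.toNat_of_nonneg hl0]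
    refine Prod.ext ?_ ?_
    · simp only [nN]; ring
    · simp only
      rw [ZMod.intCast_zmod_eq_zero_iff_dvd]
      exact ⟨-hjP c i, by rw [eE_eq]; ring⟩
  have hle : weightedHomogeneousSubmodule k (wt3 p q m) (nN p q m c i, (0 : ZMod m)) ≤
      gen (wt3 p q m) (monomial g1 (1 : k)) ⊔ gen (wt3 p q m) (monomial g2 (1 : k)) := by
    refine whs_le fun d hd => ?_
    have h := hd
    rw [wt3_weight, Prod.ext_iff] at h
    obtain ⟨hn, hcm⟩ := h
    have hcm' := (ZMod.intCast_zmod_eq_zero_iff_dvd _ _).mp hcm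
    rcases ni_cases hpq hcop hm hc hi hir hn (by rw [← Int.dvd_neg, neg_sub]; exact hcm') with h0 | ⟨h1, h2⟩
    · exact Submodule.mem_sup_left (monomial_mem_gen hd hw1 (fin3_le (by simpa [g1] using h0) (by simp [g1]) (by simp [g1])))
    · exact Submodule.mem_sup_right (monomial_mem_gen hd hw2 (fin3_le (by simp [g2]) h1 h2))
  obtain ⟨_, hu, _, hv, rfl⟩ := Submodule.mem_sup.mp (hle hf)
  obtain ⟨a, ha, rfl⟩ := mem_gen.mp hu
  obtain ⟨b, hb, rfl⟩ := mem_gen.mp hv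
  exact ⟨a, b, ha, hb, by simp [g1, g2, monomial3]⟩

end Groth.Agent.S15729
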