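import Groth.Statements.S15732
import Groth.Agent.Hilb2Inv37.Pieces

set_option autoImplicit false
universe u
open W4c2invhilbsl2

namespace Groth.Agent.S15732

open MvPolynomial Groth.Agent.Hilb2Inv37

/-- Let 0 < p < q be coprime integers and m ≥ 1 such that q − p does not divide m; put g = gcd(m, q−p),
b = (q−p)/g, α = ⌊mp/(q−p)⌋, β = the remainder of mp modulo q−p and t = (q−p−β)/g, so that 1 ≤ t <
b, and let b/t = c₁ − 1/(c₂ − 1/(⋯ − 1/c_r)) be the negative-regular (Hirzebruch–Jung) continued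
fraction expansion with every cᵢ ≥ 2; set P₀ = 0, P₁ = 1, Q₀ = −1, Q₁ = 0, Pᵢ = cᵢ₋₁Pᵢ₋₁ − Pᵢ₋₂, Qᵢ
= cᵢ₋₁Qᵢ₋₁ − Qᵢ₋₂ for 2 ≤ i ≤ r+1, and eᵢ = (α+1+m)Pᵢ − Qᵢ, lᵢ = (α+1)Pᵢ − Qᵢ, nᵢ = q·lᵢ − p·eᵢ,
which are non-negative integers for 0 ≤ i ≤ r+1. Grade the polynomial ring k[X₀,…,X₄] over a field k
by ℤ × ℤ/m, giving X₀ weight (1,0), X₁ and X₂ weight (−p,−1), and X₃ and X₄ weight (q,1). Then for
every 1 ≤ i ≤ r, modulo the principal ideal generated by the weight-zero element X₀^(q−p) − X₁X₄ +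
X₂X₃, every polynomial homogeneous of weight (nᵢ, 0) is congruent to a combination a₀·X₀^(nᵢ) + Σ
a_{e,l}·X₁^(eᵢ−e)X₂^e X₃^(lᵢ−l)X₄^l (sum over 0 ≤ e ≤ eᵢ, 0 ≤ l ≤ lᵢ) whose coefficients a₀, a_{e,l}
are homogeneous of weight zero. Equivalently, in the coordinate ring of the hypersurface the
weight-(nᵢ,0) piece is generated over the weight-zero subring (the invariant ring) by X₀^(nᵢ)
together with the products of a degree-eᵢ monomial in X₁, X₂ and a degree-lᵢ monomial in X₃, X₄.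
(The published statement is over the complex numbers; this row takes any field.) -/
theorem result (k : Type u) [Field k] (p q m : ℕ) (hp : 0 < p) (hpq : p < q) (hcop : Nat.Coprime p q) (hm : 0 < m) (hnt : ¬ (q - p ∣ m)) (c : List ℤ) (hc : W4c2invhilbsl2.IsHJDigits p q m c) (i : ℕ) (hi : 1 ≤ i) (hir : i ≤ c.length)
    (f : MvPolynomial (Fin 5) k) (hf : f ∈ MvPolynomial.weightedHomogeneousSubmodule k (W4c2invhilbsl2.wt5 p q m) (W4c2invhilbsl2.nN p q m c i, (0 : ZMod m))) :
    ∃ (a₀ : MvPolynomial (Fin 5) k) (a : ℕ → ℕ → MvPolynomial (Fin 5) k),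
      a₀ ∈ MvPolynomial.weightedHomogeneousSubmodule k (W4c2invhilbsl2.wt5 p q m) 0 ∧ (∀ e l : ℕ, a e l ∈ MvPolynomial.weightedHomogeneousSubmodule k (W4c2invhilbsl2.wt5 p q m) 0) ∧
      f - (a₀ * MvPolynomial.X (0 : Fin 5) ^ (W4c2invhilbsl2.nN p q m c i).toNat +
          ∑ e ∈ Finset.range ((W4c2invhilbsl2.eE p q m c i).toNat + 1), ∑ l ∈ Finset.range ((W4c2invhilbsl2.lL p q m c i).toNat + 1),
            a e l * (MvPolynomial.X (1 : Fin 5) ^ ((W4c2invhilbsl2.eE p q m c i).toNat - e) * MvPolynomial.X (2 : Fin 5) ^ e *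
              MvPolynomial.X (3 : Fin 5) ^ ((W4c2invhilbsl2.lL p q m c i).toNat - l) * MvPolynomial.X (4 : Fin 5) ^ l)) ∈
        Ideal.span {MvPolynomial.X (0 : Fin 5) ^ (q - p) - MvPolynomial.X 1 * MvPolynomial.X 4 + MvPolynomial.X 2 * MvPolynomial.X 3} := by
  classical
  set E := (eE p q m c i).toNat with hE
  set L := (lL p q m c i).toNat with hL
  set N := (nN p q m c i).toNat with hN
  have he0 := eE_nonneg hpq hcop hm hc hir
  have hl0 := lL_nonneg hpq hcop hm hc hir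
  have hn0 := (nN_pos hpq hcop hm hc hir).le
  set W := weightedHomogeneousSubmodule k (wt5 p q m) 0
  set M : ℕ → ℕ → MvPolynomial (Fin 5) k := fun e l => X 1 ^ (E - e) * X 2 ^ e * X 3 ^ (L - l) * X 4 ^ l
  let S : Submodule k (MvPolynomial (Fin 5) k) :=
    { carrier := {f | ∃ (a₀ : MvPolynomial (Fin 5) k) (a : ℕ → ℕ → MvPolynomial (Fin 5) k),
        a₀ ∈ W ∧ (∀ e l, a e l ∈ W) ∧
        f = a₀ * X 0 ^ N + ∑ e ∈ Finset.range (E + 1), ∑ l ∈ Finset.range (L + 1), a e l * M e l}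
      zero_mem' := ⟨0, 0, zero_mem _, fun _ _ => zero_mem _, by simp⟩
      add_mem' := by
        rintro _ _ ⟨a0, a, h0, h, rfl⟩ ⟨b0, b, g0, g, rfl⟩
        refine ⟨a0 + b0, a + b, add_mem h0 g0, fun e l => add_mem (h e l) (g e l), ?_⟩
        simp only [Pi.add_apply, add_mul, Finset.sum_add_distrib]; ring
      smul_mem' := by
        rintro r _ ⟨a0, a, h0, h, rfl⟩
        refine ⟨r • a0, r • a, W.smul_mem r h0, fun e l => W.smul_mem r (h e l), ?_⟩
        simp only [Pi.smul_apply, smul_mul_assoc, smul_add, Finset.smul_sum] }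
  have hle : weightedHomogeneousSubmodule k (wt5 p q m) (nN p q m c i, (0 : ZMod m)) ≤ S := by
    refine whs_le fun d hd => ?_
    have h := hd
    rw [wt5_weight, Prod.ext_iff] at h
    obtain ⟨hn, hcm⟩ := h
    have hcm' := (ZMod.intCast_zmod_eq_zero_iff_dvd _ _).mp hcm
    rcases ni_cases hpq hcop hm hc hi hir (d0 := d 0) (D1 := d 1 + d 2) (D2 := d 3 + d 4)
      (by push_cast; exact hn) (by rw [← Int.dvd_neg, neg_sub]; push_cast; exact hcm') with h0 | ⟨h1, h2⟩
    · have hw1 : Finsupp.weight (wt5 p q m) (v5 N 0 0 0 0) = (nN p q m c i, (0 : ZMod m)) := by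
        rw [wt5_weight]; simp [hN, Int.toNat_of_nonneg hn0]
      obtain ⟨a, ha, hau⟩ := mem_gen.mp (monomial_mem_gen (k := k) hd hw1 (fin5_le (show N ≤ d 0 from h0) (by simp) (by simp) (by simp) (by simp)))
      refine ⟨a, 0, ha, fun _ _ => zero_mem _, ?_⟩
      rw [← hau]; simp [monomial5]
    · set e' := min E (d 2)
      set l' := min L (d 4)
      have hw2 : Finsupp.weight (wt5 p q m) (v5 0 (E - e') e' (L - l') l') = (nN p q m c i, (0 : ZMod m)) := by
        rw [wt5_weight]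
        simp only [v5_0, v5_1, v5_2, v5_3, v5_4]
        rw [← Nat.cast_add (L - l'), ← Nat.cast_add (E - e'), Nat.sub_add_cancel (min_le_left _ _),
          Nat.sub_add_cancel (min_le_left _ _), hE, hL, Int.toNat_of_nonneg he0, Int.toNat_of_nonneg hl0]
        refine Prod.ext ?_ ?_
        · simp only [nN]; ring
        · simp only
          rw [ZMod.intCast_zmod_eq_zero_iff_dvd]
          exact ⟨-hjP c i, by rw [eE_eq]; ring⟩
      obtain ⟨a, ha, hau⟩ := mem_gen.mp (monomial_mem_gen (k := k) hd hw2 (fin5_le (by simp) (by simp [e']; omega) (by simp [e']) (by simp [l']; omega) (by simp [l'])))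
      refine ⟨0, fun e l => if e = e' ∧ l = l' then a else 0, zero_mem _, fun e l => ?_, ?_⟩
      · dsimp only; split_ifs
        · exact ha
        · exact zero_mem _
      · rw [← hau, zero_mul, zero_add, Finset.sum_eq_single e', Finset.sum_eq_single l']
        · simp [M, monomial5]
        · intro l _ hl; simp [hl]
        · intro h; exact absurd (Finset.mem_range.mpr (by omega)) h
        · intro e _ he; simp [he]
        · intro h; exact absurd (Finset.mem_range.mpr (by omega)) h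
  obtain ⟨a₀, a, h0, ha, heq⟩ := hle hf
  exact ⟨a₀, a, h0, ha, by rw [sub_eq_zero.mpr heq]; exact zero_mem _⟩

end Groth.Agent.S15732
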