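import Groth.Statements.S15736
import Groth.Agent.Hilb2Inv37.Basic

set_option autoImplicit false
open W4c2invhilbsl2

namespace Groth.Agent.S15736

open Groth.Agent.Hilb2Inv37

/-- For a monomial X₀^d₀X₁^d₁X₂^d₂ of the polynomial ring in X₀, X₁, X₂ (X₂ standing for Xⱼ, j = 3 or 4,
of the five-variable ring) put n = d₀ − p·d₁ + q·d₂ (its weight for the torus diag(t, t^(−p), t^q)),
c = d₁ − d₂ and ω = p·d₁ − q·d₂, so that d₀ = n + ω; here 0 < p < q are coprime integers. Then among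
all monomials X₀^d₀'X₁^d₁'X₂^d₂' with the same pair (n, c) as a given one, the maximum of ω equals
q·c when c < 0 and p·c when c ≥ 0: every such monomial has ω at most this value, and some such
monomial attains it. -/
theorem result (p q : ℕ) (hp : 0 < p) (hpq : p < q) (hcop : Nat.Coprime p q) (d0 d1 d2 : ℕ) :
    (∀ e0 e1 e2 : ℕ, (e0 : ℤ) - (p : ℤ) * e1 + (q : ℤ) * e2 = (d0 : ℤ) - (p : ℤ) * d1 + (q : ℤ) * d2 → (e1 : ℤ) - e2 = (d1 : ℤ) - d2 →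
      (p : ℤ) * e1 - (q : ℤ) * e2 ≤ (if (d1 : ℤ) - d2 < 0 then (q : ℤ) * ((d1 : ℤ) - d2) else (p : ℤ) * ((d1 : ℤ) - d2))) ∧
    (∃ e0 e1 e2 : ℕ, (e0 : ℤ) - (p : ℤ) * e1 + (q : ℤ) * e2 = (d0 : ℤ) - (p : ℤ) * d1 + (q : ℤ) * d2 ∧ (e1 : ℤ) - e2 = (d1 : ℤ) - d2 ∧
      (p : ℤ) * e1 - (q : ℤ) * e2 = (if (d1 : ℤ) - d2 < 0 then (q : ℤ) * ((d1 : ℤ) - d2) else (p : ℤ) * ((d1 : ℤ) - d2))) := by
  have hsub : ∀ e1 e2 : ℕ, (p : ℤ) * e1 - (q : ℤ) * e2 =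
      (p : ℤ) * ((e1 : ℤ) - e2) - ((q : ℤ) - p) * e2 := fun _ _ => by ring
  have key : ∀ e1 e2 : ℕ, (p : ℤ) * e1 - (q : ℤ) * e2 ≤
      (if (e1 : ℤ) - e2 < 0 then (q : ℤ) * ((e1 : ℤ) - e2) else (p : ℤ) * ((e1 : ℤ) - e2)) := by
    intro e1 e2
    split_ifs with h
    · have : 0 ≤ ((q : ℤ) - p) * e1 := mul_nonneg (by omega) (by omega)
      linarith
    · have : 0 ≤ ((q : ℤ) - p) * e2 := mul_nonneg (by omega) (by omega)
      linarith
  refine ⟨fun e0 e1 e2 _ hc => hc ▸ key e1 e2, ?_⟩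
  have hk := key d1 d2
  split_ifs at hk ⊢ with h
  · refine ⟨(((d0 : ℤ) - p * d1 + q * d2) + q * ((d1 : ℤ) - d2)).toNat, 0, ((d2 : ℤ) - d1).toNat, ?_, ?_, ?_⟩
    · rw [Int.toNat_of_nonneg (by linarith), Int.toNat_of_nonneg (by omega)]; push_cast; ring
    · rw [Int.toNat_of_nonneg (by omega)]; push_cast; ring
    · rw [Int.toNat_of_nonneg (by omega)]; push_cast; ring
  · refine ⟨(((d0 : ℤ) - p * d1 + q * d2) + p * ((d1 : ℤ) - d2)).toNat, ((d1 : ℤ) - d2).toNat, 0, ?_, ?_, ?_⟩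
    · rw [Int.toNat_of_nonneg (by linarith), Int.toNat_of_nonneg (by omega)]; push_cast; ring
    · rw [Int.toNat_of_nonneg (by omega)]; push_cast; ring
    · rw [Int.toNat_of_nonneg (by omega)]; push_cast; ring

end Groth.Agent.S15736
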