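import Groth.Statements.S15738
import Groth.Agent.Hilb2Inv37.Basic

set_option autoImplicit false
universe u
open W4c2invhilbsl2

namespace Groth.Agent.S15738

open MvPolynomial Groth.Agent.Hilb2Inv37

/-- Let k be a field and m ≥ 1; for a monomial X₀^d₀X₁^d₁X₂^d₂ of the polynomial ring in X₀, X₁, X₂ (X₂
standing for Xⱼ, j = 3 or 4, of the five-variable ring) put n = d₀ − p·d₁ + q·d₂ (its weight for the
torus diag(t, t^(−p), t^q)), c = d₁ − d₂ and ω = p·d₁ − q·d₂, so that d₀ = n + ω; here 0 < p < q are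
coprime integers. Take two monomials X₀^d₀X₁^d₁X₂^d₂ and X₀^e₀X₁^e₁X₂^e₂ with the same n and with
values c, c' of c congruent modulo m (so both lie in the same ℤ × ℤ/m-weight piece for the weights
(1,0), (−p,−1), (q,1)). Then: (i) if c = c', the difference of the two monomials lies in the
principal ideal (X₀^(q−p) − X₁X₂); (ii) if c' < c, the monomial X₀^d₀X₁^d₁X₂^d₂ lies in the ideal
(X₀^(q−p) − X₁X₂, X₀^(mp)X₁^m); (iii) in all cases the difference lies in the ideal (X₀^(q−p) −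
X₁X₂, 1 − X₀^(mp)X₁^m). -/
theorem result (k : Type u) [Field k] (p q m : ℕ) (hp : 0 < p) (hpq : p < q) (hcop : Nat.Coprime p q) (hm : 0 < m)
    (d0 d1 d2 e0 e1 e2 : ℕ) (hn : (e0 : ℤ) - (p : ℤ) * e1 + (q : ℤ) * e2 = (d0 : ℤ) - (p : ℤ) * d1 + (q : ℤ) * d2)
    (hc : (m : ℤ) ∣ ((d1 : ℤ) - d2) - ((e1 : ℤ) - e2)) :
    ((d1 : ℤ) - d2 = (e1 : ℤ) - e2 →
      (MvPolynomial.X (0 : Fin 3) ^ d0 * MvPolynomial.X (1 : Fin 3) ^ d1 * MvPolynomial.X (2 : Fin 3) ^ d2 - MvPolynomial.X (0 : Fin 3) ^ e0 * MvPolynomial.X (1 : Fin 3) ^ e1 * MvPolynomial.X (2 : Fin 3) ^ e2 : MvPolynomial (Fin 3) k) ∈ Ideal.span {MvPolynomial.X (0 : Fin 3) ^ (q - p) - MvPolynomial.X (1 : Fin 3) * MvPolynomial.X (2 : Fin 3)}) ∧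
    ((e1 : ℤ) - e2 < (d1 : ℤ) - d2 →
      (MvPolynomial.X (0 : Fin 3) ^ d0 * MvPolynomial.X (1 : Fin 3) ^ d1 * MvPolynomial.X (2 : Fin 3) ^ d2 : MvPolynomial (Fin 3) k) ∈ Ideal.span {MvPolynomial.X (0 : Fin 3) ^ (q - p) - MvPolynomial.X (1 : Fin 3) * MvPolynomial.X (2 : Fin 3), MvPolynomial.X (0 : Fin 3) ^ (m * p) * MvPolynomial.X (1 : Fin 3) ^ m}) ∧
    ((MvPolynomial.X (0 : Fin 3) ^ d0 * MvPolynomial.X (1 : Fin 3) ^ d1 * MvPolynomial.X (2 : Fin 3) ^ d2 - MvPolynomial.X (0 : Fin 3) ^ e0 * MvPolynomial.X (1 : Fin 3) ^ e1 * MvPolynomial.X (2 : Fin 3) ^ e2 : MvPolynomial (Fin 3) k) ∈ Ideal.span {MvPolynomial.X (0 : Fin 3) ^ (q - p) - MvPolynomial.X (1 : Fin 3) * MvPolynomial.X (2 : Fin 3), 1 - MvPolynomial.X (0 : Fin 3) ^ (m * p) * MvPolynomial.X (1 : Fin 3) ^ m}) := by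
  have hw : ∀ {A : Type u} [CommRing A] {x y z : A}, x ^ (q - p) = y * z →
      ((d1 : ℤ) - d2 = (e1 : ℤ) - e2 → x ^ d0 * y ^ d1 * z ^ d2 = x ^ e0 * y ^ e1 * z ^ e2) ∧
      ((e1 : ℤ) - e2 < (d1 : ℤ) - d2 → x ^ (m * p) * y ^ m = 0 → x ^ d0 * y ^ d1 * z ^ d2 = 0) ∧
      (x ^ (m * p) * y ^ m = 1 → x ^ d0 * y ^ d1 * z ^ d2 = x ^ e0 * y ^ e1 * z ^ e2) := by
    intro A _ x y z hr
    obtain ⟨j, hj⟩ := hc
    refine ⟨fun h => mono_congr hpq hr hn h.symm, fun hlt h0 => ?_, fun h1 => ?_⟩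
    · have hjpos : 0 < j := by
        by_contra hcon
        push Not at hcon
        have := mul_nonpos_of_nonneg_of_nonpos (show (0 : ℤ) ≤ m by omega) hcon
        omega
      rw [mono_shift hpq hr m j.toNat hn (by rw [Int.toNat_of_nonneg hjpos.le]; linarith), h0,
        zero_pow (by omega), mul_zero]
    · rcases le_total 0 j with h | h
      · rw [mono_shift hpq hr m j.toNat hn (by rw [Int.toNat_of_nonneg h]; linarith), h1, one_pow, mul_one]
      · rw [mono_shift hpq hr m (-j).toNat (d0 := e0) (d1 := e1) (d2 := e2) (e0 := d0) (e1 := d1)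
          (e2 := d2) hn.symm (by rw [Int.toNat_of_nonneg (by omega)]; linarith), h1, one_pow, mul_one]
  have hrel : ∀ (S : Set (MvPolynomial (Fin 3) k)), X 0 ^ (q - p) - X 1 * X 2 ∈ S →
      Ideal.Quotient.mk (Ideal.span S) (X 0) ^ (q - p) =
        Ideal.Quotient.mk (Ideal.span S) (X 1) * Ideal.Quotient.mk (Ideal.span S) (X 2) := by
    intro S hS
    rw [← map_pow, ← map_mul, Ideal.Quotient.eq]
    exact Ideal.subset_span hS
  refine ⟨fun h => ?_, fun h => ?_, ?_⟩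
  · rw [← Ideal.Quotient.eq]
    simpa only [map_mul, map_pow] using (hw (hrel {X 0 ^ (q - p) - X 1 * X 2} rfl)).1 h
  · rw [← Ideal.Quotient.eq_zero_iff_mem]
    simp only [map_mul, map_pow]
    refine (hw (hrel _ (Set.mem_insert _ _))).2.1 h ?_
    rw [← map_pow, ← map_pow, ← map_mul, Ideal.Quotient.eq_zero_iff_mem]
    exact Ideal.subset_span (Set.mem_insert_of_mem _ rfl)
  · rw [← Ideal.Quotient.eq]
    simp only [map_mul, map_pow]
    refine (hw (hrel _ (Set.mem_insert _ _))).2.2 ?_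
    rw [← map_pow, ← map_pow, ← map_mul, ← map_one (Ideal.Quotient.mk _)]
    refine (Ideal.Quotient.eq.mpr ?_).symm
    exact Ideal.subset_span (Set.mem_insert_of_mem _ rfl)

end Groth.Agent.S15738
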