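import Groth.Statements.S15739
import Groth.Agent.Hilb2Inv37.Basic

set_option autoImplicit false
universe u
open W4c2invhilbsl2

namespace Groth.Agent.S15739

open MvPolynomial Groth.Agent.Hilb2Inv37

/-- Let k be a field and m ≥ 1, put g = gcd(m, q−p), a = m/g and b = (q−p)/g; for a monomial
X₀^d₀X₁^d₁X₂^d₂ of the polynomial ring in X₀, X₁, X₂ (X₂ standing for Xⱼ, j = 3 or 4, of the
five-variable ring) put n = d₀ − p·d₁ + q·d₂ (its weight for the torus diag(t, t^(−p), t^q)), c = d₁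
− d₂ and ω = p·d₁ − q·d₂, so that d₀ = n + ω; here 0 < p < q are coprime integers. Take two
monomials X₀^d₀X₁^d₁X₂^d₂ and X₀^e₀X₁^e₁X₂^e₂ with the same n, where 0 ≤ n < q − p, whose values c
and c' of c are both divisible by m, and with d₀ < g and e₀ < g (so each has the least ω for its
pair (n, c), as g ≤ q − p). Then: (i) d₀ = e₀, i.e. the two values of ω agree, and m·b divides c −
c'; (ii) if c < c', then X₀^e₀X₁^e₁X₂^e₂ is a multiple of X₀^d₀X₁^d₁X₂^d₂ · X₁^(aq)X₂^(ap); (iii)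
the difference of the two monomials lies in the principal ideal (1 − X₁^(aq)X₂^(ap)). -/
theorem result (k : Type u) [Field k] (p q m : ℕ) (hp : 0 < p) (hpq : p < q) (hcop : Nat.Coprime p q) (hm : 0 < m)
    (d0 d1 d2 e0 e1 e2 : ℕ) (hn : (e0 : ℤ) - (p : ℤ) * e1 + (q : ℤ) * e2 = (d0 : ℤ) - (p : ℤ) * d1 + (q : ℤ) * d2)
    (hn0 : 0 ≤ (d0 : ℤ) - (p : ℤ) * d1 + (q : ℤ) * d2) (hnq : (d0 : ℤ) - (p : ℤ) * d1 + (q : ℤ) * d2 < (q : ℤ) - p)
    (hcd : (m : ℤ) ∣ (d1 : ℤ) - d2) (hce : (m : ℤ) ∣ (e1 : ℤ) - e2)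
    (hd0 : d0 < Nat.gcd m (q - p)) (he0 : e0 < Nat.gcd m (q - p)) :
    (d0 = e0 ∧ ((m : ℤ) * ((q - p) / Nat.gcd m (q - p) : ℕ)) ∣ ((d1 : ℤ) - d2) - ((e1 : ℤ) - e2)) ∧
    ((d1 : ℤ) - d2 < (e1 : ℤ) - e2 →
      (MvPolynomial.X (0 : Fin 3) ^ d0 * MvPolynomial.X (1 : Fin 3) ^ d1 * MvPolynomial.X (2 : Fin 3) ^ d2 * (MvPolynomial.X (1 : Fin 3) ^ (m / Nat.gcd m (q - p) * q) * MvPolynomial.X (2 : Fin 3) ^ (m / Nat.gcd m (q - p) * p)) : MvPolynomial (Fin 3) k) ∣ MvPolynomial.X (0 : Fin 3) ^ e0 * MvPolynomial.X (1 : Fin 3) ^ e1 * MvPolynomial.X (2 : Fin 3) ^ e2) ∧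
    ((MvPolynomial.X (0 : Fin 3) ^ e0 * MvPolynomial.X (1 : Fin 3) ^ e1 * MvPolynomial.X (2 : Fin 3) ^ e2 - MvPolynomial.X (0 : Fin 3) ^ d0 * MvPolynomial.X (1 : Fin 3) ^ d1 * MvPolynomial.X (2 : Fin 3) ^ d2 : MvPolynomial (Fin 3) k) ∈
      Ideal.span {(1 : MvPolynomial (Fin 3) k) - MvPolynomial.X (1 : Fin 3) ^ (m / Nat.gcd m (q - p) * q) * MvPolynomial.X (2 : Fin 3) ^ (m / Nat.gcd m (q - p) * p)}) := by
  set g := Nat.gcd m (q - p) with hgdef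
  have hg : 0 < g := Nat.gcd_pos_of_pos_left _ hm
  have hmg : m = g * (m / g) := (Nat.mul_div_cancel' (Nat.gcd_dvd_left _ _)).symm
  have hbg : q - p = g * ((q - p) / g) := (Nat.mul_div_cancel' (Nat.gcd_dvd_right _ _)).symm
  obtain ⟨h0, i, hi, h1, h2⟩ := small_d0 hpq hcop hg hmg hbg
    (Nat.coprime_div_gcd_div_gcd hg) hd0 he0 hn (Int.dvd_sub hcd hce)
  refine ⟨⟨h0, ⟨i, by rw [hi]⟩⟩, fun hlt => ?_, ?_⟩
  · have hi0 : i < 0 := by
      by_contra hcon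
      push Not at hcon
      have : 0 ≤ (m : ℤ) * (((q - p) / g : ℕ) : ℤ) * i := by positivity
      omega
    have := small_pow (x := (X 0 : MvPolynomial (Fin 3) k)) (y := X 1) (z := X 2) (d0 := e0) (e0 := d0)
      (d1 := e1) (e1 := d1) (d2 := e2) (e2 := d2) (i := -i) h0.symm (by omega)
      (show (e1 : ℤ) = d1 + -i * ((m / g * q : ℕ) : ℤ) by rw [h1]; ring)
      (show (e2 : ℤ) = d2 + -i * ((m / g * p : ℕ) : ℤ) by rw [h2]; ring)
    rw [this]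
    exact mul_dvd_mul_left _ (dvd_pow_self _ (by omega))
  · rw [← Ideal.Quotient.eq]
    simp only [map_mul, map_pow]
    set I := Ideal.span {(1 : MvPolynomial (Fin 3) k) - X 1 ^ (m / g * q) * X 2 ^ (m / g * p)}
    have hw : Ideal.Quotient.mk I (X 1) ^ (m / g * q) * Ideal.Quotient.mk I (X 2) ^ (m / g * p) = 1 := by
      rw [← map_pow, ← map_pow, ← map_mul, ← map_one (Ideal.Quotient.mk I)]
      refine (Ideal.Quotient.eq.mpr ?_).symm
      exact Ideal.subset_span rfl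
    rcases le_total 0 i with h | h
    · rw [small_pow h0 h h1 h2, hw, one_pow, mul_one]
    · rw [small_pow (d0 := e0) (e0 := d0) (d1 := e1) (e1 := d1) (d2 := e2) (e2 := d2) (i := -i)
        (u := m / g * q) (v := m / g * p) h0.symm (by omega) (by rw [h1]; ring) (by rw [h2]; ring),
        hw, one_pow, mul_one]

end Groth.Agent.S15739
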