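import Groth.Statements.S1574
import Groth.Agent.Div89.AffineCompl

set_option autoImplicit false
universe u
open CategoryTheory CategoryTheory.Limits AlgebraicGeometry
open Divisors

namespace Groth.Agent.S1574

/-- For a Noetherian local ring A, the punctured spectrum (Spec A minus the closed point, as an open
subscheme) is affine if and only if dim A ≤ 1. -/
theorem result (A : Type u) [CommRing A] [IsLocalRing A] [IsNoetherianRing A] :
    IsAffine (FEt.puncturedSpec A : Scheme.{u}) ↔ ringKrullDim A ≤ 1 := by
  have hmem : ∀ x : Spec (CommRingCat.of A),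
      x ∈ FEt.puncturedSpec A ↔ x ≠ IsLocalRing.closedPoint A := fun x => Iff.rfl
  exact ⟨fun h => Div89.ringKrullDim_le_one_of_isAffineOpen_punctured (CommRingCat.of A) _ h hmem,
    fun h => Div89.isAffineOpen_punctured_of_dim_le_one (CommRingCat.of A) _ hmem h⟩

end Groth.Agent.S1574
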