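import Groth.Statements.S15740
import Groth.Agent.Hilb2Inv37.Basic

set_option autoImplicit false
open W4c2invhilbsl2

namespace Groth.Agent.S15740

open Groth.Agent.Hilb2Inv37

/-- For a monomial X₀^d₀X₁^d₁X₂^d₂ of the polynomial ring in X₀, X₁, X₂ (X₂ standing for Xⱼ, j = 3 or 4,
of the five-variable ring) put n = d₀ − p·d₁ + q·d₂ (its weight for the torus diag(t, t^(−p), t^q)),
c = d₁ − d₂ and ω = p·d₁ − q·d₂, so that d₀ = n + ω; here 0 < p < q are coprime integers. Suppose n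
≥ 0, c > 0 and d₀ < q − p (the last condition says that ω is the least value of ω for the pair (n,
c)). Then ω ≥ 0 if and only if the remainder of p·c on division by q − p, plus n, is less than q −
p. -/
theorem result (p q : ℕ) (hp : 0 < p) (hpq : p < q) (hcop : Nat.Coprime p q) (d0 d1 d2 : ℕ)
    (hn : 0 ≤ (d0 : ℤ) - (p : ℤ) * d1 + (q : ℤ) * d2) (hc : (d2 : ℤ) < d1) (hd0 : d0 < q - p) :
    0 ≤ (p : ℤ) * d1 - (q : ℤ) * d2 ↔
      Int.emod ((p : ℤ) * ((d1 : ℤ) - d2)) ((q : ℤ) - p) + ((d0 : ℤ) - (p : ℤ) * d1 + (q : ℤ) * d2) < (q : ℤ) - p := by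
  set r : ℤ := ((p : ℤ) * ((d1 : ℤ) - d2)) % ((q : ℤ) - p) with hr
  have hD : (0 : ℤ) < (q : ℤ) - p := by omega
  have e : (p : ℤ) * d1 - (q : ℤ) * d2 = (p : ℤ) * ((d1 : ℤ) - d2) - ((q : ℤ) - p) * d2 := by ring
  have hr0 : 0 ≤ r := Int.emod_nonneg _ hD.ne'
  have hmod : ((p : ℤ) * d1 - (q : ℤ) * d2) % ((q : ℤ) - p) = r := by
    rw [e, Int.sub_mul_emod_self_left]
  show _ ↔ r + _ < _
  constructor
  · intro h
    rw [Int.emod_eq_of_lt h (by omega)] at hmod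
    omega
  · intro h
    have h2 : ((d0 : ℤ)) % ((q : ℤ) - p) = r + ((d0 : ℤ) - p * d1 + q * d2) := by
      conv_lhs => rw [show (d0 : ℤ) = ((p : ℤ) * d1 - (q : ℤ) * d2) + ((d0 : ℤ) - p * d1 + q * d2) by ring]
      rw [← Int.emod_add_emod, hmod, Int.emod_eq_of_lt (by omega) h]
    rw [Int.emod_eq_of_lt (by omega) (by omega)] at h2
    omega

end Groth.Agent.S15740
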