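import Groth.Statements.S15749
import Groth.Agent.CAlg8.Laurent
import Mathlib

set_option autoImplicit false
universe u
open CAlg

namespace Groth.Agent.S15749

open Groth.Agent.CAlg8.Laurent

/-- For an arbitrary commutative ring R, every idempotent of the ring of formal Laurent series R((t)) is
the constant series attached to a unique idempotent of R. Equivalently, the structure map R → R((t))
induces a bijection on idempotents, so that the spectrum of R((t)) is connected if and only if the
spectrum of R is. No reducedness is assumed. -/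
theorem result (R : Type u) [CommRing R]
    (e : LaurentSeries R) (he : IsIdempotentElem e) :
    ∃! r : R, IsIdempotentElem r ∧ HahnSeries.C r = e := by
  classical
  -- negative coefficients and the idempotent defect of the constant one are nilpotent
  have hprime : ∀ p : Ideal R, p.IsPrime → (∀ i, i ≠ 0 → e.coeff i ∈ p) ∧ e.coeff 0 * e.coeff 0 - e.coeff 0 ∈ p := by
    intro p hp
    by_cases hall : ∀ i, e.coeff i ∈ p
    · exact ⟨fun i _ => hall i, sub_mem (p.mul_mem_left _ (hall 0)) (hall 0)⟩
    -- the image is one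
    let π := Ideal.Quotient.mk p
    let F : LaurentSeries R →+* LaurentSeries (R ⧸ p) :=
      { toFun := fun x => x.map π
        map_zero' := by ext; simp
        map_one' := by ext i; by_cases h : i = 0 <;> simp [HahnSeries.coeff_one, h]
        map_add' := fun a b => by ext; simp
        map_mul' := fun a b => HahnSeries.map_mul π.toNonUnitalRingHom }
    have := (IsIdempotentElem.iff_eq_zero_or_one (p := F e)).mp (he.map F)
    rcases this with h | h
    · exact absurd (fun i => Ideal.Quotient.eq_zero_iff_mem.mp (by have := congrArg (fun s => s.coeff i) h; change π (e.coeff i) = _ at this; simpa using this)) hall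
    · refine ⟨fun i hi => Ideal.Quotient.eq_zero_iff_mem.mp (by have := congrArg (fun s => s.coeff i) h; change π (e.coeff i) = _ at this; simpa [HahnSeries.coeff_one, hi] using this), ?_⟩
      apply Ideal.Quotient.eq_zero_iff_mem.mp
      have h0 : π (e.coeff 0) = 1 := by
        have := congrArg (fun s => s.coeff 0) h; change π (e.coeff 0) = _ at this; simpa [HahnSeries.coeff_one] using this
      simp [π] at h0 ⊢
      rw [h0]; simp
  have hnil : ∀ a : R, (∀ p : Ideal R, p.IsPrime → a ∈ p) → IsNilpotent a := fun a h =>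
    nilpotent_iff_mem_prime.mpr h
  obtain ⟨r, hr, hrd⟩ := exists_isIdempotentElem_eq_of_ker_isNilpotent (Ideal.Quotient.mk (nilradical R))
    (fun x hx => by rw [RingHom.mem_ker, Ideal.Quotient.eq_zero_iff_mem] at hx; exact hx)
    (Ideal.Quotient.mk (nilradical R) (e.coeff 0)) ⟨_, rfl⟩ (by
      rw [IsIdempotentElem, ← map_mul, Ideal.Quotient.eq]
      exact hnil _ fun p hp => (hprime p hp).2)
  rw [Ideal.Quotient.eq] at hrd
  set d := e - HahnSeries.C r with hd
  have hdc : ∀ i, IsNilpotent (d.coeff i) := by
    intro i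
    by_cases hi : i = 0
    · subst hi
      simpa [d, HahnSeries.C_apply, isNilpotent_neg_iff] using (mem_nilradical.mp (neg_mem hrd))
    · simpa [d, HahnSeries.C_apply, hi] using hnil _ fun p hp => (hprime p hp).1 i hi
  have hd3 : d * d * d = d := by
    have h1 : HahnSeries.C r * HahnSeries.C r = (HahnSeries.C r : LaurentSeries R) := by rw [← map_mul, hr]
    have h2 : e * e = e := he
    simp only [d]
    linear_combination (e + 1 - 3 * HahnSeries.C r) * h2 + (3 * e - HahnSeries.C r - 1) * h1
  -- principal part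
  obtain ⟨N, hN⟩ := coeff_eq_zero_of_lt d
  let T : Finset ℤ := Finset.Ico N 0
  let J : Ideal R := Ideal.span (T.image d.coeff : Finset R)
  have hJ : IsNilpotent J := by
    refine (Ideal.FG.isNilpotent_iff_le_nilradical ⟨_, rfl⟩).mpr (Ideal.span_le.mpr fun a ha => ?_)
    simp only [Finset.coe_image, Set.mem_image] at ha
    obtain ⟨i, -, rfl⟩ := ha
    exact hdc i
  have hneg : ∀ i < 0, d.coeff i ∈ J := by
    intro i hi
    by_cases h : N ≤ i
    · exact Ideal.subset_span (Finset.mem_image_of_mem _ (Finset.mem_Ico.mpr ⟨h, hi⟩))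
    · rw [hN i (by omega)]; exact J.zero_mem
  let q : PowerSeries R := PowerSeries.mk fun n => d.coeff n
  set Q : LaurentSeries R := HahnSeries.ofPowerSeries ℤ R q with hQ
  have hdiff : ∀ i, (d - Q).coeff i ∈ J := by
    intro i
    rcases lt_or_ge i 0 with h | h
    · rw [HahnSeries.coeff_sub, hQ, PowerSeries.coeff_coe, if_pos h, sub_zero]; exact hneg i h
    · obtain ⟨k, rfl⟩ := Int.eq_ofNat_of_zero_le h
      rw [HahnSeries.coeff_sub, hQ, PowerSeries.coeff_coe, if_neg (by omega)]
      simp [q]
  have hu : IsUnit (1 - q * q) := by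
    rw [PowerSeries.isUnit_iff_constantCoeff, map_sub, map_one, map_mul]
    refine IsNilpotent.isUnit_one_sub (Commute.isNilpotent_mul_right (Commute.all _ _) ?_)
    simpa [q] using hdc 0
  obtain ⟨U, hU⟩ := hu.exists_right_inv
  have hQJ : ∀ i, Q.coeff i ∈ J := by
    have h1 : Q = (1 - Q * Q - Q * d - d * d) * (Q - d) * HahnSeries.ofPowerSeries ℤ R U := by
      have h2 : Q * (1 - Q * Q) = (1 - Q * Q - Q * d - d * d) * (Q - d) := by linear_combination -hd3
      rw [← h2, mul_assoc, hQ, ← map_mul, ← map_one (HahnSeries.ofPowerSeries ℤ R), ← map_sub, ← map_mul, ← map_mul, hU, mul_one]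
    intro i
    rw [h1]
    have h3 : ∀ i, (Q - d).coeff i ∈ J := fun i => by
      rw [← neg_sub d Q, HahnSeries.coeff_neg]; exact neg_mem (hdiff i)
    have h4 : ∀ i, ((1 - Q * Q - Q * d - d * d) * (Q - d)).coeff i ∈ J := fun i =>
      (Ideal.mul_le_right : (⊤ : Ideal R) * J ≤ J) (coeff_mul_mem (I := ⊤) (fun _ => Submodule.mem_top) h3 i)
    exact (Ideal.mul_le_left : J * (⊤ : Ideal R) ≤ J) (coeff_mul_mem (J := ⊤) h4 (fun _ => Submodule.mem_top) i)
  have hdJ : ∀ k, ∀ i, d.coeff i ∈ J ^ k := by
    intro k
    induction k with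
    | zero => simp
    | succ k ih =>
      intro i
      rw [← hd3, pow_succ]
      have h1 : ∀ i, d.coeff i ∈ J := fun i => by
        have := add_mem (hdiff i) (hQJ i); simpa using this
      have h5 : ∀ i, (d * d).coeff i ∈ J ^ k := fun i =>
        (Ideal.mul_le_left : J ^ k * (⊤ : Ideal R) ≤ J ^ k) (coeff_mul_mem (I := J ^ k) (J := ⊤) ih (fun _ => Submodule.mem_top) i)
      exact coeff_mul_mem (I := J ^ k) (J := J) h5 h1 i
  obtain ⟨k, hk⟩ := hJ
  have hd0 : d = 0 := by
    ext i; simpa [hk] using hdJ k i
  refine ⟨r, ⟨hr, (sub_eq_zero.mp hd0).symm⟩, fun s hs => HahnSeries.C_injective (hs.2.trans (sub_eq_zero.mp hd0))⟩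

end Groth.Agent.S15749
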