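import Groth.Statements.S15750
import Groth.Agent.CAlg8.Laurent
import Mathlib

set_option autoImplicit false
universe u
open CAlg

namespace Groth.Agent.S15750

open Groth.Agent.CAlg8.Laurent

/-- Let R be a nonzero reduced commutative ring with no idempotents other than 0 and 1. Then every unit
of the Laurent series ring R((t)) is t^n · u for a unique integer n and a unique unit u of the power
series ring R[[t]]. (The published statement is for an arbitrary torus T over a reduced ring R, with
n replaced by a locally constant integer-valued function on Spec R, i.e. a point of the cocharacter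
lattice; this row is the case where T is the multiplicative group and Spec R is connected, to which
the published proof reduces.) -/
theorem result (R : Type u) [CommRing R]
    [IsReduced R] [Nontrivial R] (hconn : ∀ e : R, IsIdempotentElem e → e = 0 ∨ e = 1)
    (f : (LaurentSeries R)ˣ) :
    ∃! p : ℤ × (PowerSeries R)ˣ,
      (f : LaurentSeries R) = HahnSeries.single p.1 (1 : R) * HahnSeries.ofPowerSeries ℤ R (p.2 : PowerSeries R) := by
  set g : LaurentSeries R := ↑f⁻¹
  have hfg : (f : LaurentSeries R) * g = 1 := f.mul_inv
  have hord := fun (p : Ideal R) (hp : p.IsPrime) => exists_order_mod_prime p (hp := hp) hfg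
  have hidem : ∀ n, IsIdempotentElem ((f : LaurentSeries R).coeff n * g.coeff (-n)) := by
    intro n
    rw [IsIdempotentElem, ← sub_eq_zero]
    refine (nilpotent_iff_mem_prime.mpr fun p hp => ?_ : IsNilpotent _).eq_zero
    obtain ⟨m, hm, hfm, hgm, hg', h1⟩ := hord p hp
    set a := (f : LaurentSeries R).coeff n
    set b := g.coeff (-n)
    rcases lt_trichotomy n m with h | rfl | h
    · exact sub_mem (p.mul_mem_left _ (p.mul_mem_right _ (hfm n h))) (p.mul_mem_right _ (hfm n h))
    · have : a * b * (a * b) - a * b = a * b * (a * b - 1) := by ring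
      rw [this]; exact p.mul_mem_left _ h1
    · exact sub_mem (p.mul_mem_left _ (p.mul_mem_left _ (hg' _ (by omega)))) (p.mul_mem_left _ (hg' _ (by omega)))
  obtain ⟨M, hM⟩ := Ideal.exists_maximal R
  obtain ⟨n, hn, hfn, hgn, -, h1⟩ := hord M hM.isPrime
  have he1 : (f : LaurentSeries R).coeff n * g.coeff (-n) = 1 := by
    refine (hconn _ (hidem n)).resolve_left fun h0 => ?_
    exact (hM.isPrime.mem_or_mem (h0 ▸ M.zero_mem)).elim hn hgn
  have hlow : ∀ i < n, (f : LaurentSeries R).coeff i = 0 := by
    intro i hi
    refine (nilpotent_iff_mem_prime.mpr fun p hp => ?_ : IsNilpotent _).eq_zero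
    obtain ⟨m, hm, hfm, hgm, hg', -⟩ := hord p hp
    rcases lt_trichotomy n m with h | h | h
    · exact hfm i (hi.trans h)
    · exact hfm i (h ▸ hi)
    · exfalso
      exact hp.ne_top ((Ideal.eq_top_iff_one p).mpr (he1 ▸ p.mul_mem_left _ (hg' _ (by omega))))
  let u : PowerSeries R := PowerSeries.mk fun k => (f : LaurentSeries R).coeff (n + k)
  have hu : IsUnit u := by
    rw [PowerSeries.isUnit_iff_constantCoeff]
    simpa [u] using IsUnit.of_mul_eq_one _ he1
  have hfu : (f : LaurentSeries R) = HahnSeries.single n (1 : R) * HahnSeries.ofPowerSeries ℤ R u := by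
    ext i
    rw [← sub_add_cancel i n, add_comm, add_comm n (i - n), HahnSeries.coeff_single_mul_add, one_mul, PowerSeries.coeff_coe]
    split_ifs with h
    · exact hlow _ (by linarith)
    · simp [u]
      congr 1; rw [abs_of_nonneg (by linarith)]; ring
  refine ⟨(n, hu.unit), by simpa using hfu, ?_⟩
  rintro ⟨n', u'⟩ h
  have hn' : n' = n := by
    have hc : IsUnit (PowerSeries.constantCoeff (u' : PowerSeries R)) := PowerSeries.isUnit_iff_constantCoeff.mp u'.isUnit
    have e1 : (f : LaurentSeries R).coeff n' = PowerSeries.constantCoeff (u' : PowerSeries R) := by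
      have := HahnSeries.coeff_single_mul_add (r := (1 : R)) (x := HahnSeries.ofPowerSeries ℤ R (u' : PowerSeries R)) (a := (0 : ℤ)) (b := n')
      rw [zero_add, one_mul, PowerSeries.coeff_coe] at this
      rw [h, this]; simp
    have e2 : ∀ i < n', (f : LaurentSeries R).coeff i = 0 := by
      intro i hi
      rw [h, show i = (i - n') + n' by ring, HahnSeries.coeff_single_mul_add, one_mul, PowerSeries.coeff_coe, if_pos (by omega)]
    rcases lt_trichotomy n' n with hh | hh | hh
    · exact absurd (e1.symm.trans (hlow _ hh)) hc.ne_zero
    · exact hh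
    · exact absurd (e2 n hh) (fun hz => by simp [hz] at he1)
  subst hn'
  rw [hfu] at h
  have hsingle : IsUnit (HahnSeries.single n' (1 : R) : LaurentSeries R) :=
    IsUnit.of_mul_eq_one (HahnSeries.single (-n') (1 : R)) (by simp [HahnSeries.single_mul_single])
  refine Prod.ext rfl (Units.ext ?_)
  exact (HahnSeries.ofPowerSeries_injective (hsingle.mul_left_cancel h)).symm

end Groth.Agent.S15750
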