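import Groth.Statements.S15755
import Groth.Agent.CAlg1.Pop.Field
import Groth.Agent.CAlg1.Andre.GRingCompletion
import Groth.Agent.Hensel20.SmoothLift
import Groth.Agent.Ind91.Criterion
-- import your own Groth.Agent.* helpers here

set_option autoImplicit false
universe u
open CategoryTheory CategoryTheory.Limits
open CAlg

namespace Groth.Agent.S15755

section Diagram

open Ind91

variable (A : Type u) [CommRing A] (B : Type u) [CommRing B] [Algebra A B]

/-- Finite presentation, as a property of algebras. -/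
abbrev FP (W : Type u) [CommRing W] [Algebra A W] : Prop := Algebra.FinitePresentation A W

/-- The diagram of finitely presented algebras over `B`. -/
noncomputable def diag : Idx (FP A) B ⥤ CommAlgCat.{u} A where
  obj a := CommAlgCat.of A a.W
  map φ := CommAlgCat.ofHom φ.1
  map_id _ := rfl
  map_comp _ _ := rfl

/-- Its cocone with vertex `B`. -/
noncomputable def cone : Cocone (diag A B) where
  pt := CommAlgCat.of A B
  ι := { app := fun a => CommAlgCat.ofHom a.g
         naturality := fun _ _ φ => CommAlgCat.hom_ext φ.2 }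

theorem factors_fp : Factors A (FP A) B := fun C _ _ hC g =>
  ⟨C, inferInstance, inferInstance, hC, AlgHom.id A C, g, g.comp_id⟩

theorem isFiltered : IsFiltered (Idx (FP A) B) :=
  isFiltered_idx (fun _ _ _ h => h) (fun _ _ _ _ _ _ e h => by have := h; exact Algebra.FinitePresentation.equiv e)
    (factors_fp A B)

theorem nonempty_isColimit : Nonempty (IsColimit (cone A B)) := by
  have := isFiltered A B
  let G := (commAlgCatEquivUnder (CommRingCat.of A)).functor
  refine ⟨isColimitOfReflects G (isColimit_of_elements (G.mapCocone (cone A B)) ?_ ?_).some⟩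
  · intro (x : B)
    obtain ⟨k, u, hu⟩ := exists_idx (fun _ _ _ h => h)
      (fun _ _ _ _ _ _ e h => by have := h; exact Algebra.FinitePresentation.equiv e)
      (factors_fp A B) (MvPolynomial (Fin 1) A) (MvPolynomial.aeval fun _ => x)
    refine ⟨k, u (MvPolynomial.X 0), ?_⟩
    show k.g (u (MvPolynomial.X 0)) = x
    rw [← AlgHom.comp_apply, hu, MvPolynomial.aeval_X]
  · intro a (x : a.W) (y : a.W) (h : a.g x = a.g y)
    have : Algebra.FinitePresentation A (a.W ⧸ Ideal.span {x - y}) :=
      Algebra.FinitePresentation.quotient (Submodule.fg_span (Set.finite_singleton _))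
    obtain ⟨k, u, hu⟩ := exists_idx (fun _ _ _ h => h)
      (fun _ _ _ _ _ _ e h => by have := h; exact Algebra.FinitePresentation.equiv e)
      (factors_fp A B) (a.W ⧸ Ideal.span {x - y}) (Ideal.Quotient.liftₐ (Ideal.span {x - y}) a.g
        fun z hz => (Ideal.span_le (I := RingHom.ker a.g)).2 (by rintro _ rfl; simp [h]) hz)
    refine ⟨k, ⟨u.comp (Ideal.Quotient.mkₐ A _), ?_⟩, ?_⟩
    · rw [← AlgHom.comp_assoc, hu]; exact Ideal.Quotient.liftₐ_comp _ _ _
    · exact congrArg u (Ideal.Quotient.eq.2 (Ideal.subset_span rfl))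

end Diagram

/-- Let (A, I) be a Henselian pair with A Noetherian whose map to the I-adic completion Â is a regular
ring homomorphism, and let F be a set-valued functor on commutative A-algebras preserving filtered
colimits. Then F(A) → F(Â) is injective, and an element of F(A/I) is in the image of F(A) if and
only if it is in the image of F(Â) under the canonical A-algebra map Â → A/I. -/
theorem result (A : Type u) [CommRing A]
    [IsNoetherianRing A] (I : Ideal A) [HenselianRing A I]
    (hreg : CAlg.IsRegularHom A (AdicCompletion I A))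
    (F : CommAlgCat.{u} A ⥤ Type u) [PreservesFilteredColimitsOfSize.{u, u} F] :
    Function.Injective (F.map (CommAlgCat.ofHom (Algebra.ofId A (AdicCompletion I A)))) ∧
    ∀ xbar : F.obj (CommAlgCat.of A (A ⧸ I)),
      (∃ x : F.obj (CommAlgCat.of A A), F.map (CommAlgCat.ofHom (Ideal.Quotient.mkₐ A I)) x = xbar) ↔
      (∃ y : F.obj (CommAlgCat.of A (AdicCompletion I A)),
        F.map (CommAlgCat.ofHom (AdicCompletion.evalOneₐ I)) y = xbar) := by
  set Â := AdicCompletion I A
  have := CAlg1.isNoetherianRing_adicCompletion I (IsNoetherian.noetherian I)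
  have hind : Smoothing.IndSmooth A Â := CAlg1.Pop.popescu A _ hreg
  have := isFiltered A Â
  obtain ⟨hc⟩ := nonempty_isColimit A Â
  have hF : IsColimit (F.mapCocone (cone A Â)) := isColimitOfPreserves F hc
  -- retractions compatible with the map to `A/I`
  have key : ∀ a : Ind91.Idx (FP A) Â, ∃ ρ : a.W →ₐ[A] A,
      (Ideal.Quotient.mkₐ A I).comp ρ = (AdicCompletion.evalOneₐ I).comp a.g := by
    intro a
    obtain ⟨W, _, _, hW, g, h, hgh⟩ := hind a.W inferInstance a.g
    obtain ⟨τ, hτ⟩ := Hensel20.exists_algHom_lift_of_smooth W I ((AdicCompletion.evalOneₐ I).comp h)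
    exact ⟨τ.comp g, by rw [← AlgHom.comp_assoc, hτ, AlgHom.comp_assoc, hgh]⟩
  refine ⟨fun x y hxy => ?_, fun xbar => ⟨?_, ?_⟩⟩
  · let j : Ind91.Idx (FP A) Â := (IsFiltered.nonempty (C := Ind91.Idx (FP A) Â)).some
    let ν : CommAlgCat.of A A ⟶ (diag A Â).obj j := CommAlgCat.ofHom (Algebra.ofId A j.W)
    have hν : ν ≫ (cone A Â).ι.app j = CommAlgCat.ofHom (Algebra.ofId A Â) :=
      CommAlgCat.hom_ext (Subsingleton.elim _ _)
    have h1 : F.map ((cone A Â).ι.app j) (F.map ν x) = F.map ((cone A Â).ι.app j) (F.map ν y) := by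
      rw [← hν] at hxy
      erw [F.map_comp] at hxy
      exact hxy
    obtain ⟨k, φ, hk⟩ := (Types.FilteredColimit.isColimit_eq_iff' hF _ _).1 h1
    obtain ⟨ρ, -⟩ := key k
    have h2 := congrArg (F.map (CommAlgCat.ofHom ρ : (diag A Â).obj k ⟶ CommAlgCat.of A A)) hk
    have hid : ν ≫ (diag A Â).map φ ≫ (CommAlgCat.ofHom ρ : (diag A Â).obj k ⟶ CommAlgCat.of A A) = 𝟙 _ :=
      CommAlgCat.hom_ext (Subsingleton.elim _ _)
    have h3 : ∀ z, F.map (CommAlgCat.ofHom ρ : (diag A Â).obj k ⟶ CommAlgCat.of A A)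
        ((diag A Â ⋙ F).map φ (F.map ν z)) = z := fun z => by
      have h4 := congrArg (fun m => F.map m z) hid
      simp only at h4
      erw [F.map_comp, F.map_comp, F.map_id] at h4
      exact h4
    rwa [h3, h3] at h2
  · rintro ⟨x, rfl⟩
    refine ⟨F.map (CommAlgCat.ofHom (Algebra.ofId A Â)) x, ?_⟩
    have h : CommAlgCat.ofHom (Algebra.ofId A Â) ≫ CommAlgCat.ofHom (AdicCompletion.evalOneₐ I) =
        CommAlgCat.ofHom (Ideal.Quotient.mkₐ A I) := CommAlgCat.hom_ext (Subsingleton.elim _ _)
    rw [← h]; simp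
  · rintro ⟨y, rfl⟩
    obtain ⟨j, z, rfl⟩ := Types.jointly_surjective_of_isColimit hF y
    obtain ⟨ρ, hρ⟩ := key j
    refine ⟨F.map (CommAlgCat.ofHom ρ : (diag A Â).obj j ⟶ CommAlgCat.of A A) z, ?_⟩
    have h : (CommAlgCat.ofHom ρ : (diag A Â).obj j ⟶ CommAlgCat.of A A) ≫
        CommAlgCat.ofHom (Ideal.Quotient.mkₐ A I) =
        (cone A Â).ι.app j ≫ CommAlgCat.ofHom (AdicCompletion.evalOneₐ I) := CommAlgCat.hom_ext hρ
    have h4 := congrArg (fun m => F.map m z) h
    simp only at h4
    erw [F.map_comp, F.map_comp] at h4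
    exact h4

end Groth.Agent.S15755
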