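import Groth.Statements.S15758
import Groth.Agent.Tors37.HensLaurentCompletion
import Groth.Agent.Tors37.PuncturedApprox
import Groth.Agent.Sga84.TorsorDesc
import Groth.Agent.Unr55.DescProps
import Mathlib.AlgebraicGeometry.Morphisms.LocalFlatDescent

set_option autoImplicit false
universe u
open CategoryTheory MonoidalCategory CartesianMonoidalCategory MonObj GrpObj AlgebraicGeometry Polynomial
open NonAbH1

namespace Groth.Agent.S15758

/-- The Laurent-series instance, kernel form, for an affine smooth group: let R be a ring, B = R{t} a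
henselization of R[t] along (t), ψ : B → R[[t]] the canonical R[t]-algebra map, and χ : B[1/t] →
R((t)) the induced map. For an affine smooth B[1/t]-group scheme G, an fppf G-torsor over Spec
B[1/t] which acquires a section over Spec R((t)) has a section. (The published statement is a
bijection H¹(R{t}[1/t], G) ≅ H¹(R((t)), G) for quasi-affine smooth G and an injection for smooth
quasi-separated G; this row is the triviality of the kernel for affine smooth G.) -/
theorem result (R : Type u) [CommRing R]
    (B : Type u) [CommRing B] [Algebra R[X] B] (hB : Hens2.IsPairHenselization R[X] (Ideal.span {(X : R[X])}) B)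
    (ψ : B →ₐ[R[X]] PowerSeries R)
    (χ : Localization.Away (algebraMap R[X] B X) →+* LaurentSeries R)
    (hχ : χ.comp (algebraMap B (Localization.Away (algebraMap R[X] B X))) =
      (HahnSeries.ofPowerSeries ℤ R).comp ψ.toRingHom)
    (G : Over (Spec (CommRingCat.of (Localization.Away (algebraMap R[X] B X))))) [GrpObj G]
    [IsAffine G.left] [Smooth G.hom]
    (P : Over (Spec (CommRingCat.of (Localization.Away (algebraMap R[X] B X))))) (a : AlgGrp.Action G P)
    (hP : NonAbH1.IsTorsorFor Scheme.fppfPrecoverage a)
    (hsec : NonAbH1.HasSectionOver P (Spec.map (CommRingCat.ofHom χ))) :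
    NonAbH1.HasSectionOver P (𝟙 (Spec (CommRingCat.of (Localization.Away (algebraMap R[X] B X))))) := by
  classical
  have hP' : NonAbH1.IsTorsorFor Scheme.fpqcPrecoverage a := by
    obtain ⟨hps, R', hR, hsec'⟩ := hP
    exact ⟨hps, R', Scheme.fppfPrecoverage_le_fpqcPrecoverage _ hR, hsec'⟩
  have := Groth.Agent.Unr55.isAffineHom.{u}
  have : MorphismProperty.DescendsAlong @Smooth Groth.Agent.Unr55.fpqc.{u} := by infer_instance
  have hG : IsAffineHom G.hom := inferInstance
  have : IsAffineHom P.hom := Groth.Agent.Sga84.hom_of_isTorsorFor @IsAffineHom hG hP'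
  have : Smooth P.hom := Groth.Agent.Sga84.hom_of_isTorsorFor @Smooth ‹_› hP'
  have : IsAffine P.left := isAffine_of_isAffineHom P.hom
  -- notation
  let t : B := algebraMap R[X] B Polynomial.X
  let At := Localization.Away t
  have hI : HenselianRing B (Ideal.span {t}) := by
    have := hB.1
    rwa [Ideal.map_span, Set.image_singleton] at this
  have hreg : IsSMulRegular B t := by
    have := Groth.Agent.Hens22.pairHens_flat hB
    exact IsSMulRegular.of_flat ((Polynomial.monic_X (R := R)).isRegular.left.isSMulRegular)
  have hbd : ∃ N : ℕ, ∀ x : B, (∃ m : ℕ, t ^ m * x = 0) → t ^ N * x = 0 :=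
    ⟨0, fun x ⟨m, hm⟩ => by rw [pow_zero, _root_.one_mul]; exact hreg.pow m (hm.trans (smul_zero _).symm)⟩
  -- compare the Laurent series with the punctured completion
  obtain ⟨κ, hκ⟩ := Groth.Agent.Tors37.exists_powerSeries_toCompletion R B hB ψ
  let S := AdicCompletion (Ideal.span {t}) B
  let St := Localization.Away (algebraMap B S t)
  let f : PowerSeries R →+* St := (algebraMap S St).comp κ
  have hψt : ψ t = PowerSeries.X := by
    show ψ (algebraMap R[X] B Polynomial.X) = _
    rw [ψ.commutes]; simp [PowerSeries.algebraMap_apply']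
  have hfX : IsUnit (f PowerSeries.X) := by
    have h1 : κ PowerSeries.X = algebraMap B S t := by rw [← hψt]; exact RingHom.congr_fun hκ t
    show IsUnit (algebraMap S St (κ PowerSeries.X))
    rw [h1]
    exact IsLocalization.Away.algebraMap_isUnit (S := St) _
  let _ := LaurentSeries.of_powerSeries_localization (R := R)
  let L : LaurentSeries R →+* St := IsLocalization.Away.lift (PowerSeries.X : PowerSeries R) hfX
  have hLχ : L.comp χ = Localization.awayMap (algebraMap B S) t := by
    refine IsLocalization.ringHom_ext (Submonoid.powers t) (RingHom.ext fun b => ?_)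
    have h1 := RingHom.congr_fun hχ b
    simp only [RingHom.comp_apply] at h1 ⊢
    rw [h1]
    show L (algebraMap (PowerSeries R) (LaurentSeries R) (ψ b)) = _
    rw [IsLocalization.Away.lift_eq]
    simp only [Localization.awayMap, IsLocalization.Away.map, IsLocalization.map_eq]
    exact congrArg (algebraMap S St) (RingHom.congr_fun hκ b)
  -- the algebra of P
  obtain ⟨q, hq⟩ := Spec.map_surjective (P.left.isoSpec.inv ≫ P.hom)
  have hsm : q.hom.Smooth := by
    rw [← HasRingHomProperty.Spec_iff (P := @Smooth), hq]
    infer_instance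
  let _ : Algebra At Γ(P.left, ⊤) := q.hom.toAlgebra
  have : Algebra.Smooth At Γ(P.left, ⊤) := hsm.toAlgebra
  obtain ⟨s, hs⟩ := hsec
  obtain ⟨σ, hσ⟩ := Spec.map_surjective (s ≫ P.left.isoSpec.hom)
  have hσ' : σ.hom.comp q.hom = χ := by
    rw [← CommRingCat.hom_comp]
    refine congrArg CommRingCat.Hom.hom (Spec.map_injective ?_ : _ = CommRingCat.ofHom χ)
    rw [Spec.map_comp, hσ, hq, Category.assoc, Iso.hom_inv_id_assoc, hs]
  obtain ⟨τ⟩ := Groth.Agent.Tors37.exists_point_of_completion B t hbd _ (L.comp σ.hom)
    (by show (L.comp σ.hom).comp q.hom = _; rw [RingHom.comp_assoc, hσ', hLχ])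
  refine ⟨Spec.map (CommRingCat.ofHom τ.toRingHom) ≫ P.left.isoSpec.inv, ?_⟩
  rw [Category.assoc, ← hq, ← Spec.map_comp, ← Spec.map_id]
  congr 1
  ext x
  exact τ.commutes x

end Groth.Agent.S15758
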