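import Groth.Statements.S15759
import Groth.Agent.CAlg9.Approx.Laurent

set_option autoImplicit false
universe u
open Polynomial TensorProduct
open CAlg

namespace Groth.Agent.S15759

/-- Let R be a ring, L = R(t) the localisation of R[t] at the monoid generated by t and the polynomials
with constant term 1 (that is, (R[t]_{1+tR[t]})[1/t]), and L' an L-algebra identified with R((t))
compatibly with R[t] → R((t)). Then (b) finitely generated projective L-modules that become
isomorphic over L' are isomorphic, and (c) every stably free L'-module is the base change of a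
stably free L-module. -/
theorem result (R : Type u) [CommRing R]
    (L : Type u) [CommRing L] [Algebra R[X] L]
    [IsLocalization (Submonoid.closure ({f : R[X] | f.coeff 0 = 1} ∪ {X})) L]
    (L' : Type u) [CommRing L'] [Algebra L L'] (e : L' ≃+* LaurentSeries R)
    (he : ∀ p : R[X], e (algebraMap L L' (algebraMap R[X] L p)) =
      HahnSeries.ofPowerSeries ℤ R (Polynomial.coeToPowerSeries.ringHom p)) :
    (∀ (M N : Type u) [AddCommGroup M] [Module L M] [Module.Finite L M] [Module.Projective L M]
        [AddCommGroup N] [Module L N] [Module.Finite L N] [Module.Projective L N],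
        Nonempty (L' ⊗[L] M ≃ₗ[L'] L' ⊗[L] N) → Nonempty (M ≃ₗ[L] N)) ∧
    (∀ (M' : Type u) [AddCommGroup M'] [Module L' M'] [Module.Finite L' M'],
        (∃ n m : ℕ, Nonempty ((M' × (Fin n → L')) ≃ₗ[L'] (Fin m → L'))) →
        ∃ (M : Type u) (_ : AddCommGroup M) (_ : Module L M), Module.Finite L M ∧
          (∃ n m : ℕ, Nonempty ((M × (Fin n → L)) ≃ₗ[L] (Fin m → L))) ∧
          Nonempty (L' ⊗[L] M ≃ₗ[L'] M')) := by
  classical
  let _ : Algebra (CAlg9.Approx.ZB R) (PowerSeries R) := (CAlg9.Approx.toPS R).toAlgebra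
  have hu : ∀ s : CAlg9.Approx.oneSub R, IsUnit (algebraMap R[X] L (s : R[X])) := fun s =>
    IsLocalization.map_units L (⟨(s : R[X]), Submonoid.subset_closure (Or.inl s.2)⟩ :
      Submonoid.closure ({f : R[X] | f.coeff 0 = 1} ∪ {X}))
  let φ : CAlg9.Approx.ZB R →+* L := IsLocalization.lift hu
  let _ : Algebra (CAlg9.Approx.ZB R) L := φ.toAlgebra
  have : IsScalarTower R[X] (CAlg9.Approx.ZB R) L :=
    IsScalarTower.of_algebraMap_eq (R := R[X]) (S := CAlg9.Approx.ZB R) (A := L) fun p => (IsLocalization.lift_eq hu p).symm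
  have := CAlg9.Approx.isLocalizationAway_ZB R L
  let f : PowerSeries R →+* L' := e.symm.toRingHom.comp (HahnSeries.ofPowerSeries ℤ R)
  let _ : Algebra (PowerSeries R) L' := f.toAlgebra
  let _ : Algebra (CAlg9.Approx.ZB R) L' := ((algebraMap L L').comp φ).toAlgebra
  have : IsScalarTower (CAlg9.Approx.ZB R) L L' := IsScalarTower.of_algebraMap_eq fun _ => rfl
  have hcomp : (algebraMap L L').comp φ = f.comp (CAlg9.Approx.toPS R) := by
    refine IsLocalization.ringHom_ext (CAlg9.Approx.oneSub R) (RingHom.ext fun p => ?_)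
    simp only [RingHom.comp_apply]
    rw [show φ (algebraMap R[X] _ p) = algebraMap R[X] L p from IsLocalization.lift_eq hu p,
      CAlg9.Approx.toPS_algebraMap]
    show _ = e.symm _
    rw [RingEquiv.eq_symm_apply]
    exact he p
  have : IsScalarTower (CAlg9.Approx.ZB R) (PowerSeries R) L' := IsScalarTower.of_algebraMap_eq fun b =>
    RingHom.congr_fun hcomp b
  have happ := CAlg9.Approx.isApprox_ZB R
  have : IsLocalization.Away (algebraMap (CAlg9.Approx.ZB R) (PowerSeries R) (algebraMap R[X] (CAlg9.Approx.ZB R) X)) L' := by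
    rw [show algebraMap (CAlg9.Approx.ZB R) (PowerSeries R) (algebraMap R[X] (CAlg9.Approx.ZB R) X) = PowerSeries.X from
      (CAlg9.Approx.toPS_algebraMap R X).trans Polynomial.coe_X]
    exact IsLocalization.isLocalization_of_algEquiv (Submonoid.powers (PowerSeries.X : PowerSeries R))
      ({ e.symm with commutes' := fun _ => rfl } : LaurentSeries R ≃ₐ[PowerSeries R] L')
  refine ⟨fun M N _ _ _ _ _ _ _ _ hθ => ?_, fun M' _ _ _ hst => ?_⟩
  · obtain ⟨θ⟩ := hθ
    exact CAlg9.Approx.nonempty_equiv_of_baseChange (CAlg9.Approx.X_mem_jacobson R) happ M N θ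
  · obtain ⟨n, m, ⟨θ⟩⟩ := hst
    obtain ⟨M, i1, i2, hfin, hM, hiso⟩ :=
      CAlg9.Approx.exists_stablyFree (L := L) (CAlg9.Approx.X_mem_jacobson R) happ M' n m θ
    exact ⟨M, i1, i2, hfin, ⟨n, m, hM⟩, hiso⟩

end Groth.Agent.S15759
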