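import Groth.Statements.S15765
import Mathlib.AlgebraicGeometry.QuasiAffine
-- import your own Groth.Agent.* helpers here

set_option autoImplicit false
universe u
open CategoryTheory AlgebraicGeometry
open CAlg

namespace Groth.Agent.S15765

/-- Let B be a topological ring in which the units form an open subset, B₀ → B a ring map with dense
image and X a quasi-affine scheme over B₀. Then the image of any B-point Spec B → X over B₀ is
contained in an affine open of X. (The published statement allows X ind-quasi-affine, i.e. with all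
quasi-compact opens quasi-affine; since a B-point lands in a quasi-compact open, this row's
quasi-affine case carries the content.) -/
theorem result (B : Type u) [CommRing B] [TopologicalSpace B]
    [IsTopologicalRing B] (hB : IsOpen {b : B | IsUnit b})
    (B₀ : Type u) [CommRing B₀] (φ : B₀ →+* B) (hφ : DenseRange φ)
    (X : Scheme.{u}) [X.IsQuasiAffine] (p : X ⟶ Spec (CommRingCat.of B₀))
    (f : Spec (CommRingCat.of B) ⟶ X) (hf : f ≫ p = Spec.map (CommRingCat.ofHom φ)) :
    ∃ U : X.Opens, IsAffineOpen U ∧ Set.range f.base ⊆ (U : Set X) := by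
  classical
  let A := Γ(X, ⊤)
  let j := X.toSpecΓ
  let g : CommRingCat.of A ⟶ CommRingCat.of B := Spec.preimage (f ≫ j)
  let ι : CommRingCat.of B₀ ⟶ CommRingCat.of A := Spec.preimage (Spec.map p.appTop ≫ Spec.map (Scheme.ΓSpecIso (CommRingCat.of B₀)).inv)
  have hg : Spec.map g = f ≫ j := Spec.map_preimage _
  have hιg : ι ≫ g = CommRingCat.ofHom φ := by
    refine Spec.map_injective ?_
    rw [Spec.map_comp, Spec.map_preimage, ← hf, Category.assoc]
    congr 1
    rw [Spec.map_preimage, ← Category.assoc, ← Scheme.toSpecΓ_naturality, Category.assoc, ← SpecMap_ΓSpecIso_hom,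
      ← Spec.map_comp]
    simp
  obtain ⟨I, hI⟩ : ∃ I : Ideal A, PrimeSpectrum.zeroLocus (I : Set A) = (j.opensRange : Set (Spec A))ᶜ :=
    ⟨_, PrimeSpectrum.zeroLocus_vanishingIdeal_eq_closure _ |>.trans j.opensRange.isOpen.isClosed_compl.closure_eq⟩
  have htop : Ideal.map g.hom I = ⊤ := by
    by_contra h
    obtain ⟨m, hm, hle⟩ := Ideal.exists_le_maximal _ h
    let q : Spec (CommRingCat.of B) := ⟨m, hm.isPrime⟩
    have h1 : (Spec.map g).base q ∈ PrimeSpectrum.zeroLocus (I : Set A) := fun a ha => hle (Ideal.mem_map_of_mem _ ha)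
    rw [hI, hg] at h1
    exact h1 ⟨f.base q, rfl⟩
  obtain ⟨s, hs, hsum⟩ : ∃ (s : Finset A) (c : A → B), (↑s ⊆ (I : Set A)) ∧ ∑ a ∈ s, c a * g.hom a = 1 := by
    have h1 : (1 : B) ∈ Ideal.span (g.hom '' (I : Set A)) := by rw [← Ideal.map]; rw [htop]; trivial
    obtain ⟨c, t, ht, hc⟩ := (Submodule.mem_span_image_iff_exists_fun B).1 h1
    exact ⟨c, fun a => if h : a ∈ c then ht ⟨a, h⟩ else 0, t, by
      rw [← Finset.sum_coe_sort]; simpa using hc⟩
  obtain ⟨hsI, hsum⟩ := hsum
  have hcont : Continuous fun b : A → B => ∑ a ∈ s, b a * g.hom a :=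
    continuous_finsetSum _ fun a _ => (continuous_apply a).mul continuous_const
  have hmem : hs ∈ (fun b : A → B => ∑ a ∈ s, b a * g.hom a) ⁻¹' {b : B | IsUnit b} := by
    show IsUnit (∑ a ∈ s, hs a * g.hom a)
    rw [hsum]; exact isUnit_one
  have hdense : DenseRange (fun c : A → B₀ => fun a => φ (c a)) := DenseRange.piMap fun _ => hφ
  obtain ⟨c, hc⟩ := hdense.exists_mem_open (hcont.isOpen_preimage _ hB) ⟨_, hmem⟩
  let a : A := ∑ x ∈ s, ι.hom (c x) * x
  have haI : a ∈ I := Submodule.sum_mem _ fun x hx => I.mul_mem_left _ (hsI hx)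
  have hau : IsUnit (g.hom a) := by
    have : g.hom a = ∑ x ∈ s, φ (c x) * g.hom x := by
      simp only [a, map_sum, map_mul]
      refine Finset.sum_congr rfl fun x _ => ?_
      congr 1
      exact congrArg (fun t => t.hom (c x)) hιg
    rw [this]; exact hc
  have hD : ∀ q : Spec A, q ∈ PrimeSpectrum.basicOpen a → q ∈ j.opensRange := by
    intro q hq
    by_contra h
    have : q ∈ PrimeSpectrum.zeroLocus (I : Set A) := by rw [hI]; exact h
    exact hq (this haI)
  refine ⟨j ⁻¹ᵁ (Spec A).basicOpen ((Scheme.ΓSpecIso A).inv a), ?_, ?_⟩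
  · refine IsAffineOpen.preimage_of_isOpenImmersion ((isAffineOpen_top _).basicOpen _) _ ?_
    rw [basicOpen_eq_of_affine]
    exact fun q hq => hD q hq
  · rintro _ ⟨q, rfl⟩
    show j.base (f.base q) ∈ (Spec A).basicOpen _
    rw [basicOpen_eq_of_affine]
    have h1 : j.base (f.base q) = (Spec.map g).base q := by rw [hg]; rfl
    rw [h1]
    show g.hom a ∉ q.asIdeal
    exact fun h => q.2.ne_top (Ideal.eq_top_of_isUnit_mem _ h hau)

end Groth.Agent.S15765
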