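import Groth.Statements.S15768
import Groth.Agent.CAlg9.Approx.HensLaurent

set_option autoImplicit false
universe u
open Polynomial
open CAlg

namespace Groth.Agent.S15768

/-- For any ring R and a henselization B of R[t] along (t), every idempotent of B[1/t] comes from a
unique idempotent of R under R → R[t] → B → B[1/t]. -/
theorem result (R : Type u) [CommRing R]
    (B : Type u) [CommRing B] [Algebra R[X] B] (hB : Hens2.IsPairHenselization R[X] (Ideal.span {(X : R[X])}) B)
    (e : Localization.Away (algebraMap R[X] B X)) (he : IsIdempotentElem e) :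
    ∃! r : R, IsIdempotentElem r ∧
      algebraMap B (Localization.Away (algebraMap R[X] B X)) (algebraMap R[X] B (Polynomial.C r)) = e := by
  classical
  obtain ⟨ψ, hψ⟩ := CAlg9.Approx.exists_toPowerSeries R B hB
  let _ : Algebra B (PowerSeries R) := ψ.toAlgebra
  have happ := CAlg9.Approx.isApprox_pairHens R B hB hψ
  have hX : algebraMap B (PowerSeries R) (algebraMap R[X] B X) = PowerSeries.X :=
    (hψ X).trans Polynomial.coe_X
  have : IsLocalization.Away (algebraMap B (PowerSeries R) (algebraMap R[X] B X)) (LaurentSeries R) := by
    rw [hX]; exact LaurentSeries.of_powerSeries_localization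
  let _ : Algebra B (LaurentSeries R) := ((algebraMap (PowerSeries R) (LaurentSeries R)).comp ψ).toAlgebra
  have : IsScalarTower B (PowerSeries R) (LaurentSeries R) := IsScalarTower.of_algebraMap_eq fun _ => rfl
  have hu : IsUnit (algebraMap B (LaurentSeries R) (algebraMap R[X] B X)) := by
    rw [IsScalarTower.algebraMap_apply B (PowerSeries R) (LaurentSeries R)]
    exact IsLocalization.Away.algebraMap_isUnit _
  let _ : Algebra (Localization.Away (algebraMap R[X] B X)) (LaurentSeries R) :=
    (IsLocalization.Away.lift (algebraMap R[X] B X) hu).toAlgebra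
  have : IsScalarTower B (Localization.Away (algebraMap R[X] B X)) (LaurentSeries R) :=
    IsScalarTower.of_algebraMap_eq fun b => (IsLocalization.Away.lift_eq _ hu b).symm
  have hI : HenselianRing B (Ideal.span {algebraMap R[X] B X}) := by
    have := hB.1
    rwa [Ideal.map_span, Set.image_singleton] at this
  have hjac := hI.jac (Ideal.mem_span_singleton_self (algebraMap R[X] B X))
  let κ : R →+* Localization.Away (algebraMap R[X] B X) :=
    ((algebraMap B _).comp (algebraMap R[X] B)).comp Polynomial.C
  have hκ : ∀ r, algebraMap (Localization.Away (algebraMap R[X] B X)) (LaurentSeries R) (κ r) = HahnSeries.C r := by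
    intro r
    show algebraMap _ _ (algebraMap B _ (algebraMap R[X] B (Polynomial.C r))) = _
    rw [← IsScalarTower.algebraMap_apply, IsScalarTower.algebraMap_apply B (PowerSeries R) (LaurentSeries R),
      show algebraMap B (PowerSeries R) (algebraMap R[X] B (Polynomial.C r)) = _ from hψ _,
      Polynomial.coe_C]
    exact HahnSeries.ofPowerSeries_C r
  obtain ⟨r, hr, hre⟩ := CAlg9.Approx.exists_idempotent_laurentSeries R
    (he.map (algebraMap (Localization.Away (algebraMap R[X] B X)) (LaurentSeries R)))
  refine ⟨r, ⟨hr, ?_⟩, fun r' hr' => ?_⟩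
  · exact CAlg9.Approx.idempotent_eq (L' := LaurentSeries R) hjac happ (hr.map κ) he ((hκ r).trans hre.symm)
  · have h : κ r' = e := hr'.2
    exact HahnSeries.C_injective (show (HahnSeries.C r' : LaurentSeries R) = HahnSeries.C r by
      rw [← hκ, h, hre])

end Groth.Agent.S15768
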