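import Groth.Statements.S15769
import Mathlib
import Groth.Agent.CAlg8.TorsionGlue

set_option autoImplicit false
universe u
open CategoryTheory AlgebraicGeometry
open CAlg
open Groth.Agent.CAlg8

namespace Groth.Agent.S15769

/-- Case of a quasi-affine X over U = Spec A: let φ : A → A' and t ∈ A be such that A/t^m → A'/t^m is
bijective for every m and φ restricts to a bijection between the t-power-torsion submodules; let X
be a quasi-affine scheme over Spec A. Then sections of X over Spec A correspond bijectively to pairs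
of an A'-point and an A[1/t]-point of X over A that agree over A'[1/t]. (The published statement
allows a flat A-scheme U as base and X either ind-quasi-affine or subprojective over U; this row is
U = Spec A with X quasi-affine.) -/
theorem result (A A' : Type u) [CommRing A] [CommRing A']
    (φ : A →+* A') (t : A)
    (hq : ∀ m : ℕ, Function.Bijective (Ideal.quotientMap (Ideal.map φ (Ideal.span {t} ^ m)) φ Ideal.le_comap_map))
    (htor : ∀ a' : A', (∃ m : ℕ, φ t ^ m * a' = 0) → ∃! a : A, (∃ m : ℕ, t ^ m * a = 0) ∧ φ a = a')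
    (X : Scheme.{u}) [X.IsQuasiAffine] (p : X ⟶ Spec (CommRingCat.of A)) :
    (∀ s₁ s₂ : Spec (CommRingCat.of A) ⟶ X, s₁ ≫ p = 𝟙 _ → s₂ ≫ p = 𝟙 _ →
        Spec.map (CommRingCat.ofHom φ) ≫ s₁ = Spec.map (CommRingCat.ofHom φ) ≫ s₂ →
        Spec.map (CommRingCat.ofHom (algebraMap A (Localization.Away t))) ≫ s₁ =
          Spec.map (CommRingCat.ofHom (algebraMap A (Localization.Away t))) ≫ s₂ →
        s₁ = s₂) ∧
    (∀ (x' : Spec (CommRingCat.of A') ⟶ X) (xt : Spec (CommRingCat.of (Localization.Away t)) ⟶ X),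
        x' ≫ p = Spec.map (CommRingCat.ofHom φ) →
        xt ≫ p = Spec.map (CommRingCat.ofHom (algebraMap A (Localization.Away t))) →
        Spec.map (CommRingCat.ofHom (algebraMap A' (Localization.Away (φ t)))) ≫ x' =
          Spec.map (CommRingCat.ofHom (Localization.awayMap φ t)) ≫ xt →
        ∃ s : Spec (CommRingCat.of A) ⟶ X, s ≫ p = 𝟙 _ ∧
          Spec.map (CommRingCat.ofHom φ) ≫ s = x' ∧
          Spec.map (CommRingCat.ofHom (algebraMap A (Localization.Away t))) ≫ s = xt) := by
  let str : CommRingCat.of A ⟶ Γ(X, ⊤) := (Scheme.ΓSpecIso (CommRingCat.of A)).inv ≫ p.appTop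
  have hp : p = X.toSpecΓ ≫ Spec.map str := by
    rw [Spec.map_comp, ← Scheme.toSpecΓ_naturality_assoc]
    simp
  refine ⟨fun s₁ s₂ _ _ h1 h2 => ?_, fun x' xt hx' hxt hagree => ?_⟩
  · rw [← cancel_mono X.toSpecΓ, ← Spec.map_preimage (s₁ ≫ X.toSpecΓ), ← Spec.map_preimage (s₂ ≫ X.toSpecΓ)]
    congr 1
    ext c
    refine TorsionGlue.ext htor ?_ ?_
    · have := congrArg (fun f => Spec.preimage (f ≫ X.toSpecΓ)) h1
      simp only [Category.assoc] at this
      rw [← Spec.map_preimage (s₁ ≫ X.toSpecΓ), ← Spec.map_preimage (s₂ ≫ X.toSpecΓ), ← Spec.map_comp,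
        ← Spec.map_comp, Spec.preimage_map, Spec.preimage_map] at this
      exact congrArg (fun f => f.hom c) this
    · have := congrArg (fun f => Spec.preimage (f ≫ X.toSpecΓ)) h2
      simp only [Category.assoc] at this
      rw [← Spec.map_preimage (s₁ ≫ X.toSpecΓ), ← Spec.map_preimage (s₂ ≫ X.toSpecΓ), ← Spec.map_comp,
        ← Spec.map_comp, Spec.preimage_map, Spec.preimage_map] at this
      exact congrArg (fun f => f.hom c) this
  · have hag : Spec.map (CommRingCat.ofHom (algebraMap A' (Localization.Away (φ t)))) ≫ Spec.map (Spec.preimage (x' ≫ X.toSpecΓ)) =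
        Spec.map (CommRingCat.ofHom (Localization.awayMap φ t)) ≫ Spec.map (Spec.preimage (xt ≫ X.toSpecΓ)) := by
      rw [Spec.map_preimage, Spec.map_preimage, reassoc_of% hagree]
    rw [← Spec.map_comp, ← Spec.map_comp] at hag
    obtain ⟨γ, hγ₁, hγ₂⟩ := TorsionGlue.exists_ringHom hq htor (Spec.preimage (x' ≫ X.toSpecΓ)).hom
      (Spec.preimage (xt ≫ X.toSpecΓ)).hom (congrArg CommRingCat.Hom.hom (Spec.map_injective hag))
    let g : Spec (CommRingCat.of A) ⟶ Spec Γ(X, ⊤) := Spec.map (CommRingCat.ofHom γ)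
    have hg₁ : Spec.map (CommRingCat.ofHom φ) ≫ g = x' ≫ X.toSpecΓ := by
      rw [← Spec.map_preimage (x' ≫ X.toSpecΓ), ← Spec.map_comp]
      exact congrArg Spec.map (CommRingCat.hom_ext hγ₁)
    have hg₂ : Spec.map (CommRingCat.ofHom (algebraMap A (Localization.Away t))) ≫ g = xt ≫ X.toSpecΓ := by
      rw [← Spec.map_preimage (xt ≫ X.toSpecΓ), ← Spec.map_comp]
      exact congrArg Spec.map (CommRingCat.hom_ext hγ₂)
    have hrange : Set.range g ⊆ Set.range X.toSpecΓ := by
      rintro _ ⟨P, rfl⟩
      by_cases ht : t ∈ P.asIdeal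
      · have : P.asIdeal.IsPrime := P.2
        obtain ⟨P', hP', hcomap⟩ := TorsionGlue.exists_preimage hq P.asIdeal ht
        refine ⟨x' ⟨P', hP'⟩, ?_⟩
        have h := congrArg (fun f : Spec (CommRingCat.of A') ⟶ _ => f ⟨P', hP'⟩) hg₁
        simp only [Scheme.Hom.comp_apply] at h
        exact h.symm.trans (congrArg g (PrimeSpectrum.ext hcomap))
      · obtain ⟨P', hP'⟩ : P ∈ Set.range (PrimeSpectrum.comap (algebraMap A (Localization.Away t))) := by
          rw [PrimeSpectrum.localization_away_comap_range (Localization.Away t) t]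
          exact ht
        refine ⟨xt P', ?_⟩
        have h := congrArg (fun f : Spec (CommRingCat.of (Localization.Away t)) ⟶ _ => f P') hg₂
        simp only [Scheme.Hom.comp_apply] at h
        exact h.symm.trans (congrArg g hP')
    refine ⟨IsOpenImmersion.lift X.toSpecΓ g hrange, ?_, ?_, ?_⟩
    · rw [hp, IsOpenImmersion.lift_fac_assoc]
      change Spec.map _ ≫ Spec.map str = _
      rw [← Spec.map_comp, ← Spec.map_id]
      congr 1
      ext a
      refine TorsionGlue.ext htor ?_ ?_
      · have h := congrArg Spec.preimage hx'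
        rw [hp, ← Category.assoc, ← Spec.map_preimage (x' ≫ X.toSpecΓ), ← Spec.map_comp, Spec.preimage_map,
          Spec.preimage_map] at h
        exact (RingHom.congr_fun hγ₁ _).trans (congrArg (fun f => f.hom a) h)
      · have h := congrArg Spec.preimage hxt
        rw [hp, ← Category.assoc, ← Spec.map_preimage (xt ≫ X.toSpecΓ), ← Spec.map_comp, Spec.preimage_map,
          Spec.preimage_map] at h
        exact (RingHom.congr_fun hγ₂ _).trans (congrArg (fun f => f.hom a) h)
    · rw [← cancel_mono X.toSpecΓ, Category.assoc, IsOpenImmersion.lift_fac, hg₁]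
    · rw [← cancel_mono X.toSpecΓ, Category.assoc, IsOpenImmersion.lift_fac, hg₂]

end Groth.Agent.S15769
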