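import Groth.Statements.S15770
import Mathlib

set_option autoImplicit false
universe u
open CAlg

namespace Groth.Agent.S15770

/-- Let B be a topological ring with Bˣ ⊂ B open and M, M' finitely generated projective B-modules, and
endow Hom_B(M, M') with the module topology (the canonical topology of a finite module). Then the
set of surjective B-linear maps M → M' is open. -/
theorem result (B : Type u) [CommRing B] [TopologicalSpace B]
    [IsTopologicalRing B] (hB : IsOpen {b : B | IsUnit b})
    (M M' : Type u) [AddCommGroup M] [Module B M] [Module.Finite B M] [Module.Projective B M]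
    [AddCommGroup M'] [Module B M'] [Module.Finite B M'] [Module.Projective B M']
    [TopologicalSpace (M →ₗ[B] M')] [IsModuleTopology B (M →ₗ[B] M')] :
    IsOpen {f : M →ₗ[B] M' | Function.Surjective f} := by
  rw [isOpen_iff_forall_mem_open]
  intro f₀ hf₀
  obtain ⟨n, p, hp⟩ := Module.Finite.exists_fin' B M'
  obtain ⟨i, hi⟩ := Module.projective_lifting_property p LinearMap.id hp
  obtain ⟨s, hs⟩ := Module.projective_lifting_property f₀ LinearMap.id hf₀
  let L : (M →ₗ[B] M') →ₗ[B] Matrix (Fin n) (Fin n) B :=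
    LinearMap.toMatrix'.toLinearMap ∘ₗ (LinearMap.compRight B i) ∘ₗ (LinearMap.lcomp B M' (s ∘ₗ p))
  let c : Matrix (Fin n) (Fin n) B := LinearMap.toMatrix' (LinearMap.id - i ∘ₗ p)
  have hc : Continuous fun f => (L f + c).det :=
    ((IsModuleTopology.continuous_of_linearMap L).add continuous_const).matrix_det
  refine ⟨{f | IsUnit (L f + c).det}, fun f hf => ?_, hB.preimage hc, ?_⟩
  · have hLf : L f + c = LinearMap.toMatrix' (i ∘ₗ f ∘ₗ s ∘ₗ p + (LinearMap.id - i ∘ₗ p)) := by
      rw [map_add]; rfl
    rw [Set.mem_setOf_eq, hLf] at hf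
    have hu := ((Matrix.isUnit_iff_isUnit_det _).mpr hf).map (Matrix.toLinAlgEquiv' : Matrix (Fin n) (Fin n) B ≃ₐ[B] _)
    have hsurj : Function.Surjective (i ∘ₗ f ∘ₗ s ∘ₗ p + (LinearMap.id - i ∘ₗ p) : (Fin n → B) →ₗ[B] (Fin n → B)) := by
      have h2 := ((Module.End.isUnit_iff _).mp hu).2
      change Function.Surjective (Matrix.toLin' (LinearMap.toMatrix' _)) at h2
      rwa [Matrix.toLin'_toMatrix'] at h2
    intro y
    obtain ⟨x, hx⟩ := hsurj (i y)
    refine ⟨s (p x), ?_⟩
    have := congrArg p hx
    have hpi : ∀ z, p (i z) = z := LinearMap.congr_fun hi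
    simpa [hpi] using this
  · have : L f₀ + c = 1 := by
      have hLf : L f₀ + c = LinearMap.toMatrix' (i ∘ₗ (f₀ ∘ₗ s) ∘ₗ p + (LinearMap.id - i ∘ₗ p)) := by
        rw [map_add]; rfl
      rw [hLf, hs, LinearMap.id_comp, add_sub_cancel, LinearMap.toMatrix'_id]
    simp [this]

end Groth.Agent.S15770
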