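import Groth.Statements.S15774
import Groth.Agent.CAlg9.Approx.Idem

set_option autoImplicit false
universe u
open CAlg

namespace Groth.Agent.S15774

/-- The instance A[1/t] → Â[1/t]: if (A, tA) is a Henselian pair and the t-power torsion of A is
bounded, then every idempotent of Â[1/t] (Â the t-adic completion) comes from a unique idempotent of
A[1/t]. -/
theorem result (A : Type u) [CommRing A] (t : A) [HenselianRing A (Ideal.span {t})]
    (hbd : ∃ N : ℕ, ∀ a : A, (∃ m : ℕ, t ^ m * a = 0) → t ^ N * a = 0)
    (e : Localization.Away (algebraMap A (AdicCompletion (Ideal.span {t}) A) t)) (he : IsIdempotentElem e) :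
    ∃! e₀ : Localization.Away t, IsIdempotentElem e₀ ∧ Localization.awayMap (algebraMap A (AdicCompletion (Ideal.span {t}) A)) t e₀ = e := by
  have happ := CAlg9.Approx.isApprox_adicCompletion A t
  have hjac : t ∈ Ideal.jacobson (⊥ : Ideal A) :=
    (inferInstance : HenselianRing A (Ideal.span {t})).jac (Ideal.mem_span_singleton_self t)
  let _ : Algebra (Localization.Away t) (Localization.Away (algebraMap A (AdicCompletion (Ideal.span {t}) A) t)) :=
    (Localization.awayMap (algebraMap A (AdicCompletion (Ideal.span {t}) A)) t).toAlgebra
  have : IsScalarTower A (Localization.Away t) (Localization.Away (algebraMap A (AdicCompletion (Ideal.span {t}) A) t)) :=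
    IsScalarTower.of_algebraMap_eq fun x => by
      rw [RingHom.algebraMap_toAlgebra, Localization.awayMap, IsLocalization.Away.map, IsLocalization.map_eq,
        ← IsScalarTower.algebraMap_apply]
  obtain ⟨e₀, he₀, heq⟩ := CAlg9.Approx.exists_idempotent (L := Localization.Away t) happ he
  exact ⟨e₀, ⟨he₀, heq⟩, fun e' he' => CAlg9.Approx.idempotent_eq hjac happ he'.1 he₀ (he'.2.trans heq.symm)⟩

end Groth.Agent.S15774
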