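import Groth.Statements.S15777
import Groth.Agent.Tors37.PuncturedApprox
import Groth.Agent.Sga84.TorsorDesc
import Groth.Agent.Unr55.DescProps
import Mathlib.AlgebraicGeometry.Morphisms.LocalFlatDescent

set_option autoImplicit false
universe u
open CategoryTheory MonoidalCategory CartesianMonoidalCategory MonObj GrpObj AlgebraicGeometry
open NonAbH1

namespace Groth.Agent.S15777

/-- The instance A[1/t] → Â[1/t], kernel form, for an affine smooth group: if (A, tA) is a Henselian
pair with bounded t-power torsion and Â is the t-adic completion, then an fppf torsor under an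
affine smooth A[1/t]-group scheme which becomes trivial over Â[1/t] is trivial. (The published
statement is a bijection H¹(A[1/t], G) ≅ H¹(Â[1/t], G) for quasi-affine smooth G; this row is the
triviality of the kernel for affine smooth G.) -/
theorem result (A : Type u) [CommRing A] (t : A) [HenselianRing A (Ideal.span {t})]
    (hbd : ∃ N : ℕ, ∀ a : A, (∃ m : ℕ, t ^ m * a = 0) → t ^ N * a = 0)
    (G : Over (Spec (CommRingCat.of (Localization.Away t)))) [GrpObj G] [IsAffine G.left] [Smooth G.hom]
    (P : Over (Spec (CommRingCat.of (Localization.Away t)))) (a : AlgGrp.Action G P)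
    (hP : NonAbH1.IsTorsorFor Scheme.fppfPrecoverage a)
    (hsec : NonAbH1.HasSectionOver P (Spec.map (CommRingCat.ofHom (Localization.awayMap (algebraMap A (AdicCompletion (Ideal.span {t}) A)) t)))) :
    NonAbH1.HasSectionOver P (𝟙 (Spec (CommRingCat.of (Localization.Away t)))) := by
  have hP' : NonAbH1.IsTorsorFor Scheme.fpqcPrecoverage a := by
    obtain ⟨hps, R, hR, hsec'⟩ := hP
    exact ⟨hps, R, Scheme.fppfPrecoverage_le_fpqcPrecoverage _ hR, hsec'⟩
  have := Groth.Agent.Unr55.isAffineHom.{u}
  have : MorphismProperty.DescendsAlong @Smooth Groth.Agent.Unr55.fpqc.{u} := by infer_instance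
  have hG : IsAffineHom G.hom := inferInstance
  have : IsAffineHom P.hom := Groth.Agent.Sga84.hom_of_isTorsorFor @IsAffineHom hG hP'
  have : Smooth P.hom := Groth.Agent.Sga84.hom_of_isTorsorFor @Smooth ‹_› hP'
  have : IsAffine P.left := isAffine_of_isAffineHom P.hom
  obtain ⟨q, hq⟩ := Spec.map_surjective (P.left.isoSpec.inv ≫ P.hom)
  have hsm : q.hom.Smooth := by
    rw [← HasRingHomProperty.Spec_iff (P := @Smooth), hq]
    infer_instance
  let _ : Algebra (Localization.Away t) Γ(P.left, ⊤) := q.hom.toAlgebra
  have : Algebra.Smooth (Localization.Away t) Γ(P.left, ⊤) := hsm.toAlgebra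
  obtain ⟨s, hs⟩ := hsec
  obtain ⟨σ, hσ⟩ := Spec.map_surjective (s ≫ P.left.isoSpec.hom)
  have hσ' : σ.hom.comp q.hom =
      Localization.awayMap (algebraMap A (AdicCompletion (Ideal.span {t}) A)) t := by
    rw [← CommRingCat.hom_comp]
    refine congrArg CommRingCat.Hom.hom (Spec.map_injective ?_)
    rw [Spec.map_comp, hσ, hq, Category.assoc, Iso.hom_inv_id_assoc, hs]
    rfl
  obtain ⟨τ⟩ := Groth.Agent.Tors37.exists_point_of_completion A t hbd _ σ.hom hσ'
  refine ⟨Spec.map (CommRingCat.ofHom τ.toRingHom) ≫ P.left.isoSpec.inv, ?_⟩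
  rw [Category.assoc, ← hq, ← Spec.map_comp, ← Spec.map_id]
  congr 1
  ext x
  exact τ.commutes x

end Groth.Agent.S15777
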