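import Groth.Statements.S9586
import Groth.Agent.CAlg5.WeakAss

set_option autoImplicit false
universe u
open CAlg

namespace Groth.Agent.S9586

/-- For a ring R, an R-module M and a finitely generated prime ideal p of R, p is associated to M (equal
to the annihilator of an element) if and only if p is weakly associated to M (minimal over the
annihilator of an element). -/
theorem result {R : Type u} [CommRing R] (M : Type u) [AddCommGroup M] [Module R M] (p : Ideal R) [p.IsPrime] (hp : p.FG) :
    p ∈ FlatCA.ass R M ↔ p ∈ FlatCA.weakAss R M := by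
  constructor
  · rintro ⟨hpp, m, rfl⟩
    exact ⟨m, by rw [Ideal.minimalPrimes_eq_subsingleton_self]; exact rfl⟩
  · intro h
    obtain ⟨m, h1, h2⟩ := CAlg5.mem_weakAss_iff.mp h
    obtain ⟨T, hT⟩ := hp
    classical
    have key : ∀ T' : Finset R, (∀ r ∈ T', r ∈ p) → ∃ m' : M, (∀ s : R, s • m' = 0 → s ∈ p) ∧
        (∀ r ∈ p, ∃ s ∉ p, ∃ n : ℕ, (s * r ^ n) • m' = 0) ∧
        ∀ r ∈ T', ∃ s ∉ p, (s * r) • m' = 0 := by
      intro T'
      induction T' using Finset.induction with
      | empty => exact fun _ => ⟨m, h1, h2, by simp⟩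
      | insert a T' ha ih =>
        intro hmem
        obtain ⟨m', g1, g2, g3⟩ := ih fun r hr => hmem r (Finset.mem_insert_of_mem hr)
        have hex : ∃ n : ℕ, ∃ s ∉ p, (s * a ^ n) • m' = 0 := by
          obtain ⟨s, hs, n, hn⟩ := g2 a (hmem a (Finset.mem_insert_self a T'))
          exact ⟨n, s, hs, hn⟩
        obtain ⟨s, hs, hn⟩ := Nat.find_spec hex
        obtain ⟨j, hj⟩ : ∃ j, Nat.find hex = j + 1 := by
          refine Nat.exists_eq_succ_of_ne_zero fun h0 => ?_
          rw [h0, pow_zero, mul_one] at hn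
          exact hs (g1 s hn)
        rw [hj] at hn
        have hmin : ∀ s' ∉ p, (s' * a ^ j) • m' ≠ 0 := fun s' hs' h' =>
          Nat.find_min hex (by omega : j < Nat.find hex) ⟨s', hs', h'⟩
        refine ⟨a ^ j • m', fun s' hs' => ?_, fun r hr => ?_, fun r hr => ?_⟩
        · by_contra hsp
          exact hmin s' hsp (by rw [mul_smul]; exact hs')
        · obtain ⟨t, ht, n, htn⟩ := g2 r hr
          exact ⟨t, ht, n, by rw [smul_comm, htn, smul_zero]⟩
        · rcases Finset.mem_insert.mp hr with rfl | hr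
          · exact ⟨s, hs, by rw [smul_smul, mul_assoc, ← pow_succ', hn]⟩
          · obtain ⟨t, ht, htn⟩ := g3 r hr
            exact ⟨t, ht, by rw [smul_comm, htn, smul_zero]⟩
    obtain ⟨m', g1, -, g3⟩ := key T fun r hr => hT ▸ Ideal.subset_span hr
    choose s hs hs0 using g3
    refine ⟨inferInstance, (∏ r : T, s r.1 r.2) • m', le_antisymm ?_ fun r hr => ?_⟩
    · rw [← hT, Ideal.span_le]
      intro r hr
      rw [SetLike.mem_coe, CAlg5.mem_ann]
      obtain ⟨c, hc⟩ := Finset.dvd_prod_of_mem (fun x : T => s x.1 x.2) (Finset.mem_univ (⟨r, hr⟩ : T))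
      rw [hc, smul_smul, mul_comm, mul_assoc, mul_comm c r, ← mul_assoc, mul_comm, mul_smul,
        hs0 r hr, smul_zero]
    · rw [CAlg5.mem_ann, smul_smul] at hr
      refine (‹p.IsPrime›.mem_or_mem (g1 _ hr)).resolve_right fun hprod => ?_
      obtain ⟨x, -, hx⟩ := Ideal.IsPrime.prod_mem_iff.mp hprod
      exact hs x.1 x.2 hx


end Groth.Agent.S9586
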