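import Groth.Statements.S1578
import Groth.Agent.Div89.TildeAss
import Groth.Agent.S9586

set_option autoImplicit false
universe u
open CategoryTheory CategoryTheory.Limits AlgebraicGeometry
open Divisors

namespace Groth.Agent.S1578

/-- Let M be a module over a ring A, F the associated quasi-coherent module on Spec A, and p a prime of
A. If p is an associated prime of M then p is an associated point of F; the converse holds when p is
finitely generated. -/
theorem result (A : CommRingCat.{u}) (M : ModuleCat.{u} A)
    (p : Spec A) :
    (p.asIdeal ∈ associatedPrimes A M → Curv2.IsAssPoint (tilde M) p) ∧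
    (p.asIdeal.FG → Curv2.IsAssPoint (tilde M) p → p.asIdeal ∈ associatedPrimes A M) := by
  rw [Div89.isAssPoint_iff_isWeakAssPoint, Div89.isWeakAssPoint_tilde]
  have key : ∀ m : M, (⊥ : Submodule A M).colon {m} = (Submodule.span A {m}).annihilator := by
    intro m
    ext r
    rw [CAlg5.mem_ann, Submodule.mem_colon_singleton, Submodule.mem_bot]
  constructor
  · rintro ⟨-, m, hm⟩
    rw [key] at hm
    exact ⟨m, ⟨p.isPrime, Ideal.le_radical.trans hm.ge⟩,
      fun q hq _ => hm.le.trans (hq.1.radical_le_iff.2 hq.2)⟩
  · intro hfg hw
    obtain ⟨-, m, hm⟩ := ((S9586.result M p.asIdeal hfg).2 hw)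
    exact ⟨p.isPrime, m, by rw [key, ← hm, p.isPrime.radical]⟩

end Groth.Agent.S1578
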