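import Groth.Statements.S15784
import Mathlib.RingTheory.DiscreteValuationRing.Basic
-- import your own Groth.Agent.* helpers here

set_option autoImplicit false
universe u
open Neron

namespace Groth.Agent.S15784

/-- Let O be a discrete valuation ring with fraction field L and uniformizer ϖ', let ϖ be an element of
the maximal ideal of O, let q = u·ϖ'^n with u a unit of O and n ≥ 1, and let m ≥ 1 be a divisor of
n. Then the following are equivalent: (i) there is a nonzero element z = w·ϖ'^a of L, with w a unit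
of O and a an integer congruent to n/m modulo n, and an integer j such that z^m·q^j lies in 1 + ϖO;
(ii) ϖ'^n/q is an m-th power in the group of units of O/ϖO, that is, u·(y^m + ϖ·r) = 1 for some y, r
∈ O. (The published statement phrases (i) geometrically, as the existence of a point of order m in
the special fibre of the Néron model of the Weil restriction of the Tate curve with parameter q from
L down to a subfield over which L is totally ramified with ϖ a uniformizer of the subfield, whose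
image in the component group also has order m; this row states the equivalence between (i) and (ii)
that the printed argument establishes.) -/
theorem result
    (O : Type u) [CommRing O] [IsDomain O] [IsDiscreteValuationRing O]
    (L : Type u) [Field L] [Algebra O L] [IsFractionRing O L]
    (ϖ' : O) (hϖ' : Irreducible ϖ') (ϖ : O) (hϖ : ϖ ∈ IsLocalRing.maximalIdeal O)
    (n : ℕ) (hn : 1 ≤ n) (u : Oˣ) (q : O) (hq : q = u * ϖ' ^ n)
    (m : ℕ) (hm : 1 ≤ m) (hmn : m ∣ n) :
    (∃ (w : Oˣ) (a j t : ℤ) (r : O), a = (n / m : ℕ) + t * n ∧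
        (algebraMap O L w * algebraMap O L ϖ' ^ a) ^ m * algebraMap O L q ^ j = algebraMap O L (1 + ϖ * r)) ↔
      ∃ y r : O, (u : O) * (y ^ m + ϖ * r) = 1 := by
  let φ : O →+* L := algebraMap O L
  have hinj : Function.Injective φ := IsFractionRing.injective O L
  have hK : φ ϖ' ≠ 0 := (map_ne_zero_iff φ hinj).2 hϖ'.ne_zero
  have hU : ∀ v : Oˣ, φ (v : O) ≠ 0 := fun v => (map_ne_zero_iff φ hinj).2 v.ne_zero
  have hpowN : ∀ (v v' : Oˣ) (k : ℕ), φ (v : O) * φ ϖ' ^ k = φ (v' : O) → k = 0 := by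
    intro v v' k h
    rw [← map_pow, ← map_mul] at h
    by_contra hk
    have : IsUnit (ϖ' ^ k) := by
      have h1 : IsUnit ((v : O) * ϖ' ^ k) := (hinj h).symm ▸ v'.isUnit
      exact isUnit_of_mul_isUnit_right h1
    exact hϖ'.not_isUnit ((isUnit_pow_iff hk).1 this)
  have hpowZ : ∀ (v v' : Oˣ) (k : ℤ), φ (v : O) * φ ϖ' ^ k = φ (v' : O) → k = 0 := by
    intro v v' k h
    rcases Int.eq_nat_or_neg k with ⟨i, rfl | rfl⟩
    · rw [zpow_natCast] at h
      rw [hpowN v v' i h]; rfl
    · rw [zpow_neg, zpow_natCast, ← div_eq_mul_inv, div_eq_iff (pow_ne_zero _ hK)] at h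
      rw [hpowN v' v i h.symm]; rfl
  have hzp : ∀ (v : Oˣ) (j : ℤ), φ ((v ^ j : Oˣ) : O) = φ (v : O) ^ j := by
    intro v j
    have := map_zpow (Units.map (φ : O →* L)) v j
    have h2 := congrArg Units.val this
    rw [Units.val_zpow_eq_zpow_val] at h2
    exact h2
  have hexp : ∀ (w : Oˣ) (a j : ℤ), (φ (w : O) * φ ϖ' ^ a) ^ m * φ q ^ j =
      φ ((w ^ m * u ^ j : Oˣ) : O) * φ ϖ' ^ (a * m + (n : ℤ) * j) := by
    intro w a j
    rw [hq, Units.val_mul, map_mul, map_mul, map_pow, mul_pow, mul_zpow, ← zpow_natCast (φ ϖ' ^ a) m, ← zpow_mul,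
      ← zpow_natCast (φ ϖ') n, ← zpow_mul, zpow_add₀ hK, hzp, Units.val_pow_eq_pow_val, map_pow]
    ring
  obtain ⟨d, hd⟩ := hmn
  have hnm : n / m = d := by rw [hd, Nat.mul_div_cancel_left _ (by omega)]
  have hsmall : ∀ r : O, IsUnit (1 + ϖ * r) := by
    intro r
    by_contra hc
    have h1 : 1 + ϖ * r ∈ IsLocalRing.maximalIdeal O := (IsLocalRing.mem_maximalIdeal _).2 hc
    have h2 : (1 : O) ∈ IsLocalRing.maximalIdeal O := by
      have := Ideal.sub_mem _ h1 (Ideal.mul_mem_right r _ hϖ)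
      rwa [add_sub_cancel_right] at this
    exact (IsLocalRing.maximalIdeal.isMaximal O).ne_top ((Ideal.eq_top_iff_one _).2 h2)
  constructor
  · rintro ⟨w, a, j, t, r, ha, h⟩
    change (φ (w : O) * φ ϖ' ^ a) ^ m * φ q ^ j = φ (1 + ϖ * r) at h
    rw [hexp] at h
    obtain ⟨e, he⟩ := hsmall r
    have hk := hpowZ _ e _ (he ▸ h)
    rw [hk, zpow_zero, mul_one] at h
    have hunit : ((w ^ m * u ^ j : Oˣ) : O) = 1 + ϖ * r := hinj h
    have hj : j = -1 - t * m := by
      rw [ha, hnm, hd] at hk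
      push_cast at hk
      have hm0 : (m : ℤ) * (d : ℤ) ≠ 0 := by
        have : 0 < m * d := hd ▸ hn
        exact_mod_cast this.ne'
      have : (m : ℤ) * d * (j - (-1 - t * m)) = 0 := by linear_combination hk
      rcases mul_eq_zero.1 this with h0 | h0
      · exact absurd h0 hm0
      · linarith
    let y : Oˣ := w⁻¹ * u ^ t
    have hy : w ^ m * u ^ j * (u * y ^ m) = 1 := by
      have h0 : u ^ j * (u * (u ^ t) ^ m) = 1 := by
        rw [← zpow_natCast (u ^ t) m, ← zpow_mul, ← zpow_one_add, ← zpow_add, hj]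
        convert zpow_zero u using 2
        ring
      calc w ^ m * u ^ j * (u * (w⁻¹ * u ^ t) ^ m) = (w * w⁻¹) ^ m * (u ^ j * (u * (u ^ t) ^ m)) := by
            rw [mul_pow, mul_pow]
            generalize w⁻¹ ^ m = A, w ^ m = B, (u ^ t) ^ m = C
            simp only [mul_assoc, mul_comm, mul_left_comm]
        _ = 1 := by rw [h0, mul_inv_cancel, one_pow, one_mul]
    refine ⟨(y : O), r * (y : O) ^ m, ?_⟩
    have h2 := congrArg Units.val hy
    simp only [Units.val_mul, Units.val_one, Units.val_pow_eq_pow_val] at h2 hunit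
    rw [hunit] at h2
    linear_combination h2
  · rintro ⟨y, r, h⟩
    have hy : IsUnit (y ^ m) := by
      have h1 : IsUnit ((u : O) * y ^ m) := by
        have := hsmall (-(u : O) * r)
        convert this using 1
        linear_combination h
      exact isUnit_of_mul_isUnit_right h1
    obtain ⟨e, he⟩ := (isUnit_pow_iff (by omega)).1 hy
    refine ⟨e⁻¹, (n / m : ℕ), -1, 0, r * ((e⁻¹ : Oˣ) : O) ^ m, by simp, ?_⟩
    change (φ ((e⁻¹ : Oˣ) : O) * φ ϖ' ^ (((n / m : ℕ)) : ℤ)) ^ m * φ q ^ (-1 : ℤ) = φ _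
    rw [hexp, hnm, show (d : ℤ) * m + (n : ℤ) * -1 = 0 by rw [hd]; push_cast; ring, zpow_zero, mul_one]
    congr 1
    have h1 : ((e⁻¹ : Oˣ) : O) * (e : O) = 1 := by simp
    have h2 : ((e⁻¹ : Oˣ) : O) ^ m * y ^ m = 1 := by rw [← mul_pow, ← he, h1, one_pow]
    have h3 : ((u ^ (-1 : ℤ) : Oˣ) : O) * (u : O) = 1 := by simp
    rw [Units.val_mul, Units.val_pow_eq_pow_val]
    linear_combination (-((e⁻¹ : Oˣ) : O) ^ m * ((u ^ (-1 : ℤ) : Oˣ) : O)) * h + h2 + (((e⁻¹ : Oˣ) : O) ^ m * y ^ m + ((e⁻¹ : Oˣ) : O) ^ m * ϖ * r) * h3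

end Groth.Agent.S15784
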