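import Groth.Statements.S15796
import Groth.Agent.WildQuot51.Admissible
-- import your own Groth.Agent.* helpers here

set_option autoImplicit false
universe u v
open WildQuot

namespace Groth.Agent.S15796

/-- Let `A` be a Noetherian local ring of Krull dimension `n` whose maximal ideal `m` is generated by
`u_1, …, u_n`, and let a finite group `G` act on `A` by ring automorphisms. If some `σ ∈ G` maps
some `u_i` into the ideal generated by the `u_j` with `j ≠ i`, then the system `u` is not weakly
admissible: for some choice `σ_1, …, σ_n ∈ G` the radical of `(σ_1 u_1, …, σ_n u_n)` does not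
contain `m`. (The published statement is for a linear action on `k[[u_1, …, u_n]]` whose matrix has
a zero diagonal entry; this row assumes instead that some `σ u_i` lies in the ideal generated by the
other `u_j`.) -/
theorem result
    (A : Type u) [CommRing A] [IsLocalRing A] [IsNoetherianRing A]
    (G : Type v) [Group G] [Finite G] [MulSemiringAction G A]
    (n : ℕ) (hn : ringKrullDim A = n) (u : Fin n → A)
    (hu : Ideal.span (Set.range u) = IsLocalRing.maximalIdeal A)
    (σ : G) (i : Fin n) (hσ : σ • u i ∈ Ideal.span (u '' {j | j ≠ i})) :
    ∃ τ : Fin n → G,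
      ¬ IsLocalRing.maximalIdeal A ≤ (Ideal.span (Set.range fun j => τ j • u j)).radical := by
  classical
  refine ⟨fun j => if j = i then σ else 1, fun h => ?_⟩
  refine WildQuot51.not_le_radical_erase hn u (fun j => hu.le (Ideal.subset_span ⟨j, rfl⟩)) i
    (h.trans (Ideal.radical_mono (Ideal.span_le.2 ?_)))
  rintro _ ⟨j, rfl⟩
  by_cases hj : j = i
  · subst hj
    simpa using hσ
  · simp only [if_neg hj, one_smul]
    exact Ideal.subset_span ⟨j, hj, rfl⟩

end Groth.Agent.S15796
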