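import Groth.Statements.S15803
import Groth.Agent.WildQuot51.Generated

set_option autoImplicit false
universe u v w
open WildQuot

namespace Groth.Agent.S15803

/-- Let `R` be a regular local ring and `A` a normal local domain, finite over `R` (with `R → A`
injective) and with the same residue field; let a finite group `H` act faithfully on `A` by
`R`-algebra automorphisms with ring of invariants exactly `R` (so `Frac(A)/Frac(R)` is Galois with
group `H`); let `p` be a prime and suppose that every nontrivial inertia subgroup of a height-one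
prime of `A` has order `p` and is normal in `H`. Then `H` is commutative and every element satisfies
`h ^ p = 1`: `H` is an elementary abelian `p`-group (of order the degree of `Frac(A)` over
`Frac(R)`). (The published statement is for `A` a complete regular local ring with an action
ramified precisely at the origin, `R = k[[x_1, …, x_n]]` a norm subring and `H` the Galois group of
`Frac(A)/Frac(R)`, when that extension is Galois; this row assumes only the hypotheses listed
above.) -/
theorem result
    (p : ℕ) [Fact p.Prime] (R : Type u) [CommRing R] [IsRegularLocalRing R]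
    (A : Type v) [CommRing A] [IsDomain A] [IsIntegrallyClosed A] [IsLocalRing A]
    [Algebra R A] [Module.Finite R A] (hinj : Function.Injective (algebraMap R A))
    (hres : Function.Surjective (IsLocalRing.residue A ∘ algebraMap R A))
    (H : Type w) [Group H] [Finite H] [MulSemiringAction H A] [SMulCommClass H R A] [FaithfulSMul H A]
    (hfix : ∀ a : A, (∀ h : H, h • a = a) → a ∈ Set.range (algebraMap R A))
    (hMR2 : ∀ P : Ideal A, P.IsPrime → P.height = 1 → P.inertia H ≠ ⊥ →
      Nat.card (P.inertia H) = p ∧ (P.inertia H).Normal) :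
    (∀ g h : H, g * h = h * g) ∧ ∀ h : H, h ^ p = 1 := by
  have hgen := Groth.Agent.WildQuot51.iSup_inertia_eq_top hinj hres hfix
  let ι := {P : Ideal A // P.IsPrime ∧ P.height = 1}
  have hcomm₀ : ∀ P Q : ι, ∀ g ∈ P.1.inertia H, ∀ h ∈ Q.1.inertia H, g * h = h * g := by
    intro P Q g hg h hh
    by_cases hP : P.1.inertia H = ⊥
    · rw [hP, Subgroup.mem_bot] at hg
      simp [hg]
    by_cases hQ : Q.1.inertia H = ⊥
    · rw [hQ, Subgroup.mem_bot] at hh
      simp [hh]
    obtain ⟨hPc, hPn⟩ := hMR2 P.1 P.2.1 P.2.2 hP
    obtain ⟨hQc, hQn⟩ := hMR2 Q.1 Q.2.1 Q.2.2 hQ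
    set I := P.1.inertia H
    set J := Q.1.inertia H
    have hdvd : Nat.card ↥(I ⊓ J) ∣ p := hPc ▸ Subgroup.card_dvd_of_le inf_le_left
    rcases (Fact.out : p.Prime).eq_one_or_self_of_dvd _ hdvd with h1 | h1
    · exact Subgroup.commute_of_normal_of_disjoint I J hPn hQn
        (disjoint_iff.2 (Subgroup.card_eq_one.1 h1)) g h hg hh
    · have e1 : I ⊓ J = I := Subgroup.eq_of_le_of_card_ge inf_le_left (le_of_eq (hPc.trans h1.symm))
      have e2 : I ⊓ J = J := Subgroup.eq_of_le_of_card_ge inf_le_right (le_of_eq (hQc.trans h1.symm))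
      haveI : IsCyclic I := isCyclic_of_prime_card hPc
      letI := IsCyclic.commGroup (α := I)
      exact congrArg Subtype.val
        (mul_comm (⟨g, hg⟩ : I) ⟨h, e1 ▸ e2.symm ▸ hh⟩)
  have hcen : ∀ g : H, g ∈ Subgroup.center H := by
    have h1 : ∀ Q : ι, Q.1.inertia H ≤ Subgroup.center H := fun Q h hh => by
      refine Subgroup.mem_center_iff.2 fun g => ?_
      refine Subgroup.iSup_induction _ (C := fun g => g * h = h * g) (hgen.ge (Subgroup.mem_top g))
        (fun P g hg => hcomm₀ P Q g hg h hh) (by simp)
        fun a b ha hb => ?_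
      rw [mul_assoc, hb, ← mul_assoc, ha, mul_assoc]
    exact fun g => (iSup_le h1) (hgen.ge (Subgroup.mem_top g))
  have hcomm : ∀ g h : H, g * h = h * g := fun g h => Subgroup.mem_center_iff.1 (hcen h) g
  refine ⟨hcomm, fun h => ?_⟩
  refine Subgroup.iSup_induction _ (C := fun h => h ^ p = 1) (hgen.ge (Subgroup.mem_top h))
    (fun P h hh => ?_) (one_pow p) fun a b ha hb => by
      rw [Commute.mul_pow (hcomm a b), ha, hb, mul_one]
  by_cases hP : P.1.inertia H = ⊥
  · rw [hP, Subgroup.mem_bot] at hh
    simp [hh]
  · have := pow_card_eq_one' (G := P.1.inertia H) (x := ⟨h, hh⟩)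
    rw [(hMR2 P.1 P.2.1 P.2.2 hP).1] at this
    exact congrArg Subtype.val this

end Groth.Agent.S15803
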