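import Groth.Statements.S15804
import Groth.Agent.WildQuot51.Dim2
-- import your own Groth.Agent.* helpers here

set_option autoImplicit false
universe u v w
open WildQuot

namespace Groth.Agent.S15804

/-- Let `R` be a regular local ring and `A` a normal local domain, finite over `R` (with `R → A`
injective) and with the same residue field; let a finite group `H` act faithfully on `A` by
`R`-algebra automorphisms with ring of invariants exactly `R` (so `Frac(A)/Frac(R)` is Galois with
group `H`); assume `A` has Krull dimension `2`, `H` has order `p ^ 2` for a prime `p`, and `Γ ≤ H`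
is a subgroup of order `p` whose intersection with the inertia subgroup of every non-maximal prime
of `A` is trivial (the action of `Γ` is ramified precisely at the origin). Then every nontrivial
inertia subgroup of a height-one prime of `A` has order `p`, and `H` is commutative with every
element satisfying `h ^ p = 1`, i.e. elementary abelian of order `p ^ 2`. (The published statement
is for `A` a complete regular local ring with an action ramified precisely at the origin, `R =
k[[x_1, …, x_n]]` a norm subring and `H` the Galois group of `Frac(A)/Frac(R)`, when that extension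
is Galois; this row assumes only the hypotheses listed above.) -/
theorem result
    (p : ℕ) [Fact p.Prime] (R : Type u) [CommRing R] [IsRegularLocalRing R]
    (A : Type v) [CommRing A] [IsDomain A] [IsIntegrallyClosed A] [IsLocalRing A]
    [Algebra R A] [Module.Finite R A] (hinj : Function.Injective (algebraMap R A))
    (hres : Function.Surjective (IsLocalRing.residue A ∘ algebraMap R A))
    (H : Type w) [Group H] [Finite H] [MulSemiringAction H A] [SMulCommClass H R A] [FaithfulSMul H A]
    (hfix : ∀ a : A, (∀ h : H, h • a = a) → a ∈ Set.range (algebraMap R A))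
    (hdim : ringKrullDim A = 2) (hcard : Nat.card H = p ^ 2)
    (Γ : Subgroup H) (hΓ : Nat.card Γ = p)
    (hram : ∀ P : Ideal A, P.IsPrime → P ≠ IsLocalRing.maximalIdeal A → P.inertia H ⊓ Γ = ⊥) :
    (∀ P : Ideal A, P.IsPrime → P.height = 1 → P.inertia H ≠ ⊥ → Nat.card (P.inertia H) = p) ∧
      (∀ g h : H, g * h = h * g) ∧ ∀ h : H, h ^ p = 1 := by
  classical
  have hp : p.Prime := Fact.out
  have := Fintype.ofFinite H
  have hne : ∀ P : Ideal A, P.height = 1 → P ≠ IsLocalRing.maximalIdeal A := fun P h e => by
    have := IsLocalRing.maximalIdeal_height_eq_ringKrullDim (R := A)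
    rw [← e, h, hdim] at this
    exact absurd this (by decide)
  have hsub : ∀ S : Subgroup H, S ≠ ⊥ → S ⊓ Γ = ⊥ → Nat.card S = p := by
    intro S hS hSΓ
    obtain ⟨i, hi, hci⟩ := (Nat.dvd_prime_pow hp).1 (hcard ▸ S.card_subgroup_dvd_card)
    rcases i with _ | _ | _ | i
    · exact absurd (Subgroup.eq_bot_of_card_eq S (by simpa using hci)) hS
    · simpa using hci
    · have hStop : S = ⊤ := Subgroup.eq_top_of_card_eq S (by rw [hci, hcard])
      rw [hStop, top_inf_eq] at hSΓ
      rw [hSΓ, Subgroup.card_bot] at hΓ
      exact absurd hΓ hp.ne_one.symm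
    · omega
  refine ⟨fun P hP h1 hI => hsub _ hI (hram P hP (hne P h1)), ?_⟩
  have hcomm : ∀ g h : H, g * h = h * g := fun g h =>
    (IsPGroup.isMulCommutative_of_card_eq_prime_sq hcard).is_comm.comm g h
  refine ⟨hcomm, fun h => ?_⟩
  have hdvd : orderOf h ∣ p ^ 2 := hcard ▸ orderOf_dvd_natCard h
  obtain ⟨i, hi, hoi⟩ := (Nat.dvd_prime_pow hp).1 hdvd
  rcases i with _ | _ | _ | i
  · rw [pow_zero, orderOf_eq_one_iff] at hoi; rw [hoi, one_pow]
  · rw [pow_one] at hoi; exact hoi ▸ pow_orderOf_eq_one h
  · exfalso
    haveI : IsCyclic H := isCyclic_of_orderOf_eq_card h (by rw [hoi, hcard])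
    haveI : IsNoetherianRing A := isNoetherian_of_tower R inferInstance
    haveI := WildQuot51.free_of_normal_two R A hinj hdim
    haveI := CAlg1.isDomain_regular R
    obtain ⟨P, hP, hP1, hPI⟩ := WildQuot51.exists_inertia_ne_bot R A hinj H hfix (fun g a => by
        obtain ⟨r, hr⟩ := hres (IsLocalRing.residue A a)
        have hm : a - algebraMap R A r ∈ IsLocalRing.maximalIdeal A := by
          rw [← IsLocalRing.residue_eq_zero_iff, map_sub, sub_eq_zero]; exact hr.symm
        rw [show g • a - a = g • (a - algebraMap R A r) - (a - algebraMap R A r) by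
          rw [smul_sub, smul_algebraMap]; ring]
        exact sub_mem (WildQuot51.smul_mem_maximalIdeal g hm) hm)
      (by rw [hcard]; calc 2 ≤ p := hp.two_le
          _ ≤ p ^ 2 := Nat.le_self_pow two_ne_zero p) hdim.ge
    have hint := hram P hP (hne P hP1)
    have hc : Nat.card (P.inertia H) = p := hsub _ hPI hint
    have hinj2 : Function.Injective (fun x : P.inertia H × Γ => (x.1 : H) * x.2) :=
      Subgroup.mul_injective_of_disjoint (disjoint_iff.2 hint)
    let F := Finset.univ.filter fun x : H => x ^ p = 1
    have hF : F.card ≤ p := IsCyclic.card_pow_eq_one_le hp.pos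
    have himg : (Finset.univ.image fun x : P.inertia H × Γ => (x.1 : H) * x.2) ⊆ F := by
      intro y hy
      obtain ⟨x, -, rfl⟩ := Finset.mem_image.1 hy
      refine Finset.mem_filter.2 ⟨Finset.mem_univ _, ?_⟩
      rw [Commute.mul_pow (hcomm _ _)]
      have h1 : x.1 ^ p = 1 := hc ▸ pow_card_eq_one'
      have h2 : x.2 ^ p = 1 := hΓ ▸ pow_card_eq_one'
      rw [← Subgroup.coe_pow, ← Subgroup.coe_pow, h1, h2]
      simp
    have := (Finset.card_le_card himg).trans hF
    rw [Finset.card_image_of_injective _ hinj2, Finset.card_univ, Fintype.card_prod,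
      ← Nat.card_eq_fintype_card, ← Nat.card_eq_fintype_card, hc, hΓ] at this
    exact absurd this (by have := hp.two_le; nlinarith)
  · omega

end Groth.Agent.S15804
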