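import Groth.Statements.S15807
import Groth.Agent.WildQuot51.Minor
import Groth.Agent.CAlg6.CompleteSurj
import Groth.Agent.CAlg6.RegularNormal
-- import your own Groth.Agent.* helpers here

set_option autoImplicit false
universe u
open WildQuot

namespace Groth.Agent.S15807

open MvPolynomial in
/-- Let `k` be a field of characteristic `p > 0`, `n ≥ 3`, `R = k[[x_1, …, x_n]]`, `a_1, …, a_n ∈ R`
with zero constant term and pairwise coprime, `μ ∈ R` nonzero and coprime to each `a_i`, and `A =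
R[u_1, …, u_n] / (u_i ^ p - (μ a_i) ^ (p-1) u_i - x_i : i = 1..n)`. Fix an index `i₀`. Then the
`R`-algebra map `R[Z_j : j ≠ i₀] → A` sending `Z_j` to the minor element `z_j = a_{i₀} u_j - a_j
u_{i₀}` has kernel generated by the polynomials `Z_j ^ p - (μ a_{i₀} a_j) ^ (p-1) Z_j - (a_{i₀} ^ p
x_j - a_j ^ p x_{i₀})`; i.e. the complete intersection `R[Z_j] /` (these relations) maps
isomorphically onto the subring of `A` generated over `R` by the minor elements through `u_{i₀}`.
(The published statement uses the first index for `i₀` and allows `n ≥ 2`; this row allows any index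
`i₀` and takes `n ≥ 3`.) -/
theorem result
    (p : ℕ) [Fact p.Prime] (k : Type u) [Field k] [CharP k p] (n : ℕ) (hn : 3 ≤ n)
    (a : Fin n → MvPowerSeries (Fin n) k) (μ : MvPowerSeries (Fin n) k)
    (ham : ∀ i, MvPowerSeries.constantCoeff (a i) = 0) (hcop : ∀ i j, i ≠ j → IsRelPrime (a i) (a j))
    (hμ : μ ≠ 0) (hμa : ∀ i, IsRelPrime μ (a i)) (i₀ : Fin n) :
    let R := MvPowerSeries (Fin n) k
    let I : Ideal (MvPolynomial (Fin n) R) :=
      Ideal.span (Set.range fun i : Fin n =>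
        X i ^ p - C ((μ * a i) ^ (p - 1)) * X i - C (MvPowerSeries.X i))
    let A := MvPolynomial (Fin n) R ⧸ I
    let u : Fin n → A := fun i => Ideal.Quotient.mk I (X i)
    let z : {j : Fin n // j ≠ i₀} → A := fun j =>
      algebraMap R A (a i₀) * u j.1 - algebraMap R A (a j.1) * u i₀
    let r : {j : Fin n // j ≠ i₀} → MvPolynomial {j : Fin n // j ≠ i₀} R := fun j =>
      X j ^ p - C ((μ * a i₀ * a j.1) ^ (p - 1)) * X j
        - C (a i₀ ^ p * MvPowerSeries.X j.1 - a j.1 ^ p * MvPowerSeries.X i₀)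
    RingHom.ker (MvPolynomial.aeval z : MvPolynomial {j : Fin n // j ≠ i₀} R →ₐ[R] A) =
      Ideal.span (Set.range r) := by
  intro R I A u z r
  obtain ⟨m, rfl⟩ : ∃ m, n = m + 1 := ⟨n - 1, by omega⟩
  haveI : IsRegularLocalRing R := CAlg6.isRegularLocalRing_mvPowerSeries
  haveI : IsDomain R := CAlg1.isDomain_regular R
  haveI : CharP R p := charP_of_injective_ringHom (MvPowerSeries.C_injective (σ := Fin (m + 1))) p
  have ha : a i₀ ≠ 0 := by
    intro h0
    haveI : Nontrivial (Fin (m + 1)) := Fin.nontrivial_iff_two_le.2 (by omega)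
    obtain ⟨j, hj⟩ := exists_ne i₀
    exact (IsLocalRing.mem_maximalIdeal (a j)).1 (CAlg6.mem_maximalIdeal_iff.2 (ham j))
      (hcop i₀ j (Ne.symm hj) (h0 ▸ dvd_zero (a j)) dvd_rfl)
  obtain ⟨Φ, hΦ, -, hinj, -, -⟩ := WildQuot51.exists_minor_structure p a μ MvPowerSeries.X i₀ ha
  let e := finSuccAboveEquiv i₀
  let ρ := MvPolynomial.renameEquiv R e
  have hcomp : ∀ f, MvPolynomial.aeval z (ρ f) = Φ (Ideal.Quotient.mk _ f) := by
    intro f
    refine AlgHom.congr_fun (φ₁ := (MvPolynomial.aeval z).comp ρ.toAlgHom)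
      (φ₂ := Φ.comp (Ideal.Quotient.mkₐ R _)) (MvPolynomial.algHom_ext fun l => ?_) f
    show MvPolynomial.aeval z (ρ (X l)) = Φ (WildQuot51.famU p _ _ l)
    rw [hΦ]
    simp only [ρ, renameEquiv_apply, rename_X, aeval_X]
    rfl
  rw [← WildQuot51.map_rename_famIdeal p a μ MvPowerSeries.X i₀ e (fun l => rfl)]
  refine le_antisymm (fun f hf => ?_) (Ideal.map_le_iff_le_comap.2 fun f hf => ?_)
  · obtain ⟨g, rfl⟩ := ρ.surjective f
    rw [RingHom.mem_ker, hcomp, map_eq_zero_iff _ hinj, Ideal.Quotient.eq_zero_iff_mem] at hf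
    exact Ideal.mem_map_of_mem _ hf
  · rw [Ideal.mem_comap, RingHom.mem_ker]
    exact (hcomp f).trans (by rw [Ideal.Quotient.eq_zero_iff_mem.2 hf, map_zero])

end Groth.Agent.S15807
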