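import Groth.Statements.S15808
import Groth.Agent.WildQuot51.Minor
import Groth.Agent.CAlg6.CompleteSurj
import Groth.Agent.CAlg6.RegularNormal
-- import your own Groth.Agent.* helpers here

set_option autoImplicit false
universe u
open WildQuot

namespace Groth.Agent.S15808

open MvPolynomial in
/-- Let `k` be a field of characteristic `p > 0`, `n ≥ 2`, `R = k[[x_1, …, x_n]]`, `a_1, …, a_n ∈ R`
with zero constant term and pairwise coprime, `μ ∈ R` nonzero and coprime to each `a_i`; fix an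
index `i₀` and let `B = R[Z_j : j ≠ i₀] / (Z_j ^ p - (μ a_{i₀} a_j) ^ (p-1) Z_j - (a_{i₀} ^ p x_j -
a_j ^ p x_{i₀}) : j ≠ i₀)`, the complete-intersection ring of the minor elements through `u_{i₀}`.
Then `B` is a free `R`-module of rank `p ^ (n-1)`, `B` is an integral domain, and the localisation
`B[1/(μ a_{i₀})]` is integrally closed. (The published statement uses the first index for `i₀`; this
row allows any index.) -/
theorem result
    (p : ℕ) [Fact p.Prime] (k : Type u) [Field k] [CharP k p] (n : ℕ) (hn : 2 ≤ n)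
    (a : Fin n → MvPowerSeries (Fin n) k) (μ : MvPowerSeries (Fin n) k)
    (ham : ∀ i, MvPowerSeries.constantCoeff (a i) = 0) (hcop : ∀ i j, i ≠ j → IsRelPrime (a i) (a j))
    (hμ : μ ≠ 0) (hμa : ∀ i, IsRelPrime μ (a i)) (i₀ : Fin n) :
    let R := MvPowerSeries (Fin n) k
    let r : {j : Fin n // j ≠ i₀} → MvPolynomial {j : Fin n // j ≠ i₀} R := fun j =>
      X j ^ p - C ((μ * a i₀ * a j.1) ^ (p - 1)) * X j
        - C (a i₀ ^ p * MvPowerSeries.X j.1 - a j.1 ^ p * MvPowerSeries.X i₀)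
    let B := MvPolynomial {j : Fin n // j ≠ i₀} R ⧸ Ideal.span (Set.range r)
    Module.Free R B ∧ Module.finrank R B = p ^ (n - 1) ∧ IsDomain B ∧
      IsIntegrallyClosed (Localization.Away (algebraMap R B (μ * a i₀))) := by
  intro R r B
  obtain ⟨m, rfl⟩ : ∃ m, n = m + 1 := ⟨n - 1, by omega⟩
  haveI : IsRegularLocalRing R := CAlg6.isRegularLocalRing_mvPowerSeries
  haveI : IsDomain R := CAlg1.isDomain_regular R
  haveI : CharP R p := charP_of_injective_ringHom (MvPowerSeries.C_injective (σ := Fin (m + 1))) p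
  have ha : a i₀ ≠ 0 := by
    intro h0
    haveI : Nontrivial (Fin (m + 1)) := Fin.nontrivial_iff_two_le.2 (by omega)
    obtain ⟨j, hj⟩ := exists_ne i₀
    exact (IsLocalRing.mem_maximalIdeal (a j)).1 (CAlg6.mem_maximalIdeal_iff.2 (ham j))
      (hcop i₀ j (Ne.symm hj) (h0 ▸ dvd_zero (a j)) dvd_rfl)
  have hc : Ideal.span (Set.range (MvPowerSeries.X : Fin (m + 1) → MvPowerSeries (Fin (m + 1)) k)) =
      IsLocalRing.maximalIdeal _ := CAlg6.maximalIdeal_eq_span_X.symm
  have hp : 2 ≤ p := (Fact.out : p.Prime).two_le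
  have hβ : ∀ i, (μ * a i) ^ (p - 1) ∈ IsLocalRing.maximalIdeal (MvPowerSeries (Fin (m + 1)) k) := fun i =>
    Ideal.pow_mem_of_mem _ (Ideal.mul_mem_left _ _ (CAlg6.mem_maximalIdeal_iff.2 (ham i))) _ (by omega)
  obtain ⟨hreg, -, -⟩ := WildQuot51.fam_regular p (WildQuot51.bigBeta p a μ) MvPowerSeries.X hp
    CAlg6.ringKrullDim_mvPowerSeries hc hβ
  haveI := hreg
  haveI : IsDomain (WildQuot51.Fam p (WildQuot51.bigBeta p a μ)
    (MvPowerSeries.X : Fin (m + 1) → MvPowerSeries (Fin (m + 1)) k)) := CAlg1.isDomain_regular _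
  haveI := CAlg6.isIntegrallyClosed_of_regular (WildQuot51.Fam p (WildQuot51.bigBeta p a μ)
    (MvPowerSeries.X : Fin (m + 1) → MvPowerSeries (Fin (m + 1)) k))
  obtain ⟨hdom, hnorm⟩ := WildQuot51.minor_normal p a μ MvPowerSeries.X i₀ ha hμ
  obtain ⟨hfree, -, hrk⟩ := WildQuot51.fam_finite_free p (WildQuot51.minorBeta p a μ i₀)
    (WildQuot51.minorC p a MvPowerSeries.X i₀) hp
  let e := finSuccAboveEquiv i₀
  let E : WildQuot51.Fam p (WildQuot51.minorBeta p a μ i₀) (WildQuot51.minorC p a MvPowerSeries.X i₀) ≃ₐ[R] B :=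
    Ideal.quotientEquivAlg _ _ (MvPolynomial.renameEquiv R e)
      (WildQuot51.map_rename_famIdeal p a μ MvPowerSeries.X i₀ e (fun l => rfl)).symm
  refine ⟨Module.Free.of_equiv E.toLinearEquiv, ?_, E.toMulEquiv.symm.isDomain _, ?_⟩
  · rw [← E.toLinearEquiv.finrank_eq, hrk]
    simp
  · haveI := hnorm
    exact IsIntegrallyClosed.of_equiv (IsLocalization.ringEquivOfRingEquiv
      (Localization.Away (algebraMap R (WildQuot51.Fam p (WildQuot51.minorBeta p a μ i₀)
        (WildQuot51.minorC p a MvPowerSeries.X i₀)) (μ * a i₀)))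
      (Localization.Away (algebraMap R B (μ * a i₀))) E.toRingEquiv
      (T := Submonoid.powers (algebraMap R B (μ * a i₀)))
      (by rw [Submonoid.map_powers]; exact congrArg Submonoid.powers (E.commutes _)))

end Groth.Agent.S15808
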