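import Groth.Statements.S15809
import Groth.Agent.WildQuot51.CodimOneIso
import Groth.Agent.FibCrit57.Isogeny
-- import your own Groth.Agent.* helpers here

set_option autoImplicit false
universe u
open CategoryTheory MonoidalCategory CartesianMonoidalCategory AlgebraicGeometry Limits
open WildQuot

namespace Groth.Agent.S15809

/-- Let `S` be a Noetherian scheme, `G` a finite flat `S`-group scheme and `Y` a finite flat `S`-scheme
with an action of `G`; let `Ψ : G ×_S Y → Y ×_S Y` be `(g, y) ↦ (g y, y)`. Suppose that for every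
point `s ∈ S` of codimension at most `1` (local ring of dimension `≤ 1`) the fibre `Y_s` is a torsor
under `G_s`: it is nonempty and the base change of `Ψ` to `Spec κ(s)` is an isomorphism. Then `Y` is
a `G`-torsor: `Ψ` is an isomorphism and `Y → S` is surjective (so the finite flat cover `Y → S`
itself trivialises `Y`). -/
theorem result
    (S : Scheme.{u}) [AlgebraicGeometry.IsNoetherian S]
    (G Y : Over S) [GrpObj G]
    [AlgebraicGeometry.IsFinite G.hom] [AlgebraicGeometry.Flat G.hom]
    [AlgebraicGeometry.IsFinite Y.hom] [AlgebraicGeometry.Flat Y.hom]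
    (a : AlgGrp.Action G Y)
    (hfib : ∀ s : S, ringKrullDim (S.presheaf.stalk s) ≤ 1 →
      s ∈ Set.range Y.hom.base ∧
      IsIso (pullback.map (G ⊗ Y).hom (S.fromSpecResidueField s) (Y ⊗ Y).hom (S.fromSpecResidueField s)
        (CartesianMonoidalCategory.lift a.act (CartesianMonoidalCategory.snd G Y)).left
        (𝟙 _) (𝟙 S)
        ((Category.comp_id _).trans
          (Over.w (CartesianMonoidalCategory.lift a.act (CartesianMonoidalCategory.snd G Y))).symm)
        ((Category.comp_id _).trans (Category.id_comp _).symm))) :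
    IsIso (CartesianMonoidalCategory.lift a.act (CartesianMonoidalCategory.snd G Y)).left ∧
      Function.Surjective Y.hom.base := by
  have hsurj : Function.Surjective Y.hom.base := by
    intro s
    obtain ⟨V, hV, hsV, -⟩ := exists_isAffineOpen_mem_and_subset (X := S) (x := s) (U := ⊤) trivial
    obtain ⟨q, hq, hqle⟩ := Ideal.exists_minimalPrimes_le (bot_le : ⊥ ≤ (hV.primeIdealOf ⟨s, hsV⟩).asIdeal)
    let Q : PrimeSpectrum Γ(S, V) := ⟨q, hq.1.1⟩
    let η : S := hV.fromSpec Q
    have hηV : η ∈ V := hV.range_fromSpec.le ⟨_, rfl⟩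
    have hpr : hV.primeIdealOf ⟨η, hηV⟩ = Q :=
      hV.fromSpec.isOpenEmbedding.injective (hV.fromSpec_primeIdealOf _)
    have hη : η ⤳ s := by
      have h1 : Q ⤳ hV.primeIdealOf ⟨s, hsV⟩ := (PrimeSpectrum.le_iff_specializes _ _).1 hqle
      have h2 := h1.map hV.fromSpec.continuous
      rwa [hV.fromSpec_primeIdealOf] at h2
    haveI := hV.isLocalization_stalk ⟨η, hηV⟩
    have hdim : ringKrullDim (S.presheaf.stalk η) ≤ 1 := by
      letI : Algebra Γ(S, V) (S.presheaf.stalk η) := (S.presheaf.germ V η hηV).hom.toAlgebra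
      rw [IsLocalization.AtPrime.ringKrullDim_eq_height (hV.primeIdealOf ⟨η, hηV⟩).asIdeal
        (S.presheaf.stalk η)]
      haveI := hq.1.1
      rw [show (hV.primeIdealOf ⟨η, hηV⟩).asIdeal = q from congrArg PrimeSpectrum.asIdeal hpr,
        Ideal.height_eq_zero_iff.2 hq]
      exact zero_le_one
    exact hη.mem_closed Y.hom.isClosedMap.isClosed_range (hfib η hdim).1
  refine ⟨?_, hsurj⟩
  set m : G ⊗ Y ⟶ Y ⊗ Y := CartesianMonoidalCategory.lift a.act (CartesianMonoidalCategory.snd G Y) with hm
  haveI : AlgebraicGeometry.IsFinite (Y ⊗ Y).hom :=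
    inferInstanceAs (AlgebraicGeometry.IsFinite (pullback.fst Y.hom Y.hom ≫ Y.hom))
  haveI : AlgebraicGeometry.Flat (Y ⊗ Y).hom :=
    inferInstanceAs (AlgebraicGeometry.Flat (pullback.fst Y.hom Y.hom ≫ Y.hom))
  haveI : AlgebraicGeometry.IsFinite (m.left ≫ (Y ⊗ Y).hom) := by
    rw [Over.w]; exact inferInstanceAs (AlgebraicGeometry.IsFinite (pullback.fst G.hom Y.hom ≫ G.hom))
  haveI : AlgebraicGeometry.Flat (m.left ≫ (Y ⊗ Y).hom) := by
    rw [Over.w]; exact inferInstanceAs (AlgebraicGeometry.Flat (pullback.fst G.hom Y.hom ≫ G.hom))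
  refine Groth.Agent.WildQuot51.isIso_of_fibres_codim_le_one m.left (Y ⊗ Y).hom fun s hs => ?_
  have hi := (hfib s hs).2
  have hP := Groth.Agent.FibCrit57.fibre_prop_iff (MorphismProperty.isomorphisms Scheme) m s
  exact hP.1 hi

end Groth.Agent.S15809
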