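import Groth.Statements.S1581
import Groth.Agent.Unr55.DescProps

set_option autoImplicit false
universe u
open CategoryTheory CategoryTheory.Limits AlgebraicGeometry
open Variety

namespace Groth.Agent.S1581

/-- Let X be a scheme over a field k and K a field extension of k. If X_K is proper over K then X is
proper over k. -/
theorem result (k : Type u) [Field k] (X : Scheme.{u}) [X.Over (Spec (CommRingCat.of k))] (K : Type u) [Field K] [Algebra k K]
    [IsProper (Curv2.bcSnd k X K)] : IsProper (X ↘ (Spec (CommRingCat.of k))) := by
  have := Groth.Agent.Unr55.isProper.{u}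
  let g := Spec.map (CommRingCat.ofHom (algebraMap k K))
  have : Flat g := by
    rw [Flat.SpecMap_iff]
    exact RingHom.flat_algebraMap_iff.mpr inferInstance
  have : Surjective g := ⟨fun y => ⟨Classical.arbitrary _, Subsingleton.elim _ _⟩⟩
  exact MorphismProperty.of_pullback_snd_of_descendsAlong (Q := @Surjective ⊓ @Flat ⊓ @QuasiCompact)
    (f := X ↘ (Spec (CommRingCat.of k))) (g := g) ⟨⟨‹_›, ‹_›⟩, inferInstance⟩ ‹IsProper (Curv2.bcSnd k X K)›

end Groth.Agent.S1581
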