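import Groth.Statements.S15810
import Groth.Agent.WildQuot51.FamilyLinear
import Groth.Agent.CAlg6.CompleteSurj
import Groth.Agent.RegUFD52.Basic
-- import your own Groth.Agent.* helpers here

set_option autoImplicit false
universe u
open WildQuot

namespace Groth.Agent.S15810

open MvPolynomial in
/-- Let `k` be a field of characteristic `p > 0`, `n ≥ 2`, `R = k[[x_1, …, x_n]]`, `a_1, …, a_n ∈ R`
with zero constant term and pairwise coprime, `μ ∈ R` nonzero and coprime to each `a_i`, `A = R[u_1,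
…, u_n] / (u_i ^ p - (μ a_i) ^ (p-1) u_i - x_i : i = 1..n)`, and `σ_1, …, σ_n` the `R`-algebra
automorphisms of `A` with `σ_i u_j = u_j + δ_{ij} μ a_i` (they generate an elementary abelian group
`H` of order `p ^ n`). For a nonzero vector `s ∈ (ℤ/p)^n` let `H_s = {ν : Σ ν_i s_i = 0}`, `α =
∏_{s_i ≠ 0} a_i`, `α_i = ∏_{j ≠ i, s_j ≠ 0} a_j`, `z_s = Σ_{s_i ≠ 0} s_i α_i u_i` and `f_s(T) = T ^
p - (μ α) ^ (p-1) T - Σ_{s_i ≠ 0} s_i α_i ^ p x_i`. Then an element of `A` is fixed by `∏_i σ_i ^
{ν_i}` for every `ν ∈ H_s` if and only if it is a polynomial over `R` in `z_s`, and the kernel of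
`R[T] → A`, `T ↦ z_s`, is generated by `f_s`: the ring of invariants of `H_s` is `R[T]/(f_s)`, in
particular free of rank `p` over `R`. -/
theorem result
    (p : ℕ) [Fact p.Prime] (k : Type u) [Field k] [CharP k p] (n : ℕ) (hn : 2 ≤ n)
    (a : Fin n → MvPowerSeries (Fin n) k) (μ : MvPowerSeries (Fin n) k)
    (ham : ∀ i, MvPowerSeries.constantCoeff (a i) = 0) (hcop : ∀ i j, i ≠ j → IsRelPrime (a i) (a j))
    (hμ : μ ≠ 0) (hμa : ∀ i, IsRelPrime μ (a i))
    (s : Fin n → ZMod p) (hs : s ≠ 0) :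
    let R := MvPowerSeries (Fin n) k
    let I : Ideal (MvPolynomial (Fin n) R) :=
      Ideal.span (Set.range fun i : Fin n =>
        X i ^ p - C ((μ * a i) ^ (p - 1)) * X i - C (MvPowerSeries.X i))
    let A := MvPolynomial (Fin n) R ⧸ I
    let u : Fin n → A := fun i => Ideal.Quotient.mk I (X i)
    let c : Fin n → R := fun i => algebraMap k R (ZMod.castHom (dvd_refl p) k (s i))
    let α : R := ∏ i ∈ Finset.univ.filter (fun i => s i ≠ 0), a i
    let αi : Fin n → R := fun i => ∏ j ∈ (Finset.univ.filter (fun j => s j ≠ 0)).erase i, a j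
    let z : A := ∑ i ∈ Finset.univ.filter (fun i => s i ≠ 0), algebraMap R A (c i * αi i) * u i
    let f : Polynomial R := Polynomial.X ^ p - Polynomial.C ((μ * α) ^ (p - 1)) * Polynomial.X
      - Polynomial.C (∑ i ∈ Finset.univ.filter (fun i => s i ≠ 0), c i * αi i ^ p * MvPowerSeries.X i)
    ∀ σ : Fin n → (A ≃ₐ[R] A),
      (∀ i j, σ i (u j) = u j + (if i = j then algebraMap R A (μ * a i) else 0)) →
      (∀ t : A, (∀ ν : Fin n → ZMod p, ∑ i, ν i * s i = 0 →
          (List.ofFn (fun i : Fin n => σ i ^ (ν i).val)).prod t = t) ↔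
        t ∈ (Polynomial.aeval z : Polynomial R →ₐ[R] A).range) ∧
      RingHom.ker (Polynomial.aeval z : Polynomial R →ₐ[R] A) = Ideal.span {f} := by
  intro R I A u c α αi z f σ hσ
  classical
  have hp : 2 ≤ p := (Fact.out : p.Prime).two_le
  haveI : IsRegularLocalRing (MvPowerSeries (Fin n) k) := CAlg6.isRegularLocalRing_mvPowerSeries
  haveI := CAlg1.isDomain_regular (MvPowerSeries (Fin n) k)
  haveI := RegUFD52.ufm_of_regular (MvPowerSeries (Fin n) k)
  haveI : CharP (MvPowerSeries (Fin n) k) p :=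
    charP_of_injective_ringHom (MvPowerSeries.C_injective (σ := Fin n)) p
  have hc : Ideal.span (Set.range (MvPowerSeries.X : Fin n → MvPowerSeries (Fin n) k)) =
      IsLocalRing.maximalIdeal _ := CAlg6.maximalIdeal_eq_span_X.symm
  let b : Fin n → R := fun i => μ * a i
  have hβ : ∀ i, b i ^ (p - 1) ∈ IsLocalRing.maximalIdeal R := fun i =>
    Ideal.pow_mem_of_mem _ (CAlg6.mem_maximalIdeal_iff.2 (by simp [b, ham i])) _ (by omega)
  haveI : IsDomain (WildQuot51.Fam p (fun i => b i ^ (p - 1)) (MvPowerSeries.X : Fin n → R)) :=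
    @CAlg1.isDomain_regular _ _ (WildQuot51.fam_regular p (fun i => b i ^ (p - 1)) MvPowerSeries.X hp
      CAlg6.ringKrullDim_mvPowerSeries hc hβ).1
  haveI : IsDomain A := ‹IsDomain (WildQuot51.Fam p (fun i => b i ^ (p - 1)) MvPowerSeries.X)›
  have hu : ∀ i, u i ^ p = algebraMap R A (b i ^ (p - 1)) * u i + algebraMap R A (MvPowerSeries.X i) :=
    fun i => WildQuot51.famU_pow p (fun i => b i ^ (p - 1)) MvPowerSeries.X i
  have hinj : Function.Injective (algebraMap R A) := by
    have := (WildQuot51.fam_finite_free p (fun i => b i ^ (p - 1)) (MvPowerSeries.X : Fin n → R) hp).1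
    exact (faithfulSMul_iff_algebraMap_injective R
      (WildQuot51.Fam p (fun i => b i ^ (p - 1)) (MvPowerSeries.X : Fin n → R))).1 inferInstance
  haveI : CharP A p := charP_of_injective_algebraMap hinj p
  have hane : ∀ i, a i ≠ 0 := by
    intro i h0
    haveI := Fin.nontrivial_iff_two_le.2 hn
    obtain ⟨j, hj⟩ := exists_ne i
    have h := (hcop i j (Ne.symm hj))
    rw [h0, isRelPrime_zero_left, MvPowerSeries.isUnit_iff_constantCoeff, ham j] at h
    exact not_isUnit_zero h
  have hb : ∀ i, b i ≠ 0 := fun i => mul_ne_zero hμ (hane i)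
  set S := Finset.univ.filter (fun i => s i ≠ 0) with hS
  let w : Fin n → R := fun i => if s i ≠ 0 then c i * αi i else 0
  have hz : WildQuot51.famLin p (fun i => b i ^ (p - 1)) MvPowerSeries.X w = z := by
    show ∑ l, algebraMap R A (w l) * u l = ∑ i ∈ S, algebraMap R A (c i * αi i) * u i
    rw [hS, Finset.sum_filter]
    refine Finset.sum_congr rfl fun l _ => ?_
    by_cases hl : s l ≠ 0
    · simp only [w, if_pos hl]
    · simp only [w, if_neg hl, map_zero, zero_mul]
  have hα : ∀ i ∈ S, a i * αi i = α := fun i hi => Finset.mul_prod_erase S a hi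
  let cast : ZMod p →+* R := (algebraMap k R).comp (ZMod.castHom (dvd_refl p) k)
  have hcast : ∀ x, cast x = ZMod.castHom (dvd_refl p) R x :=
    RingHom.congr_fun (RingHom.ext_zmod _ _)
  have hcpow : ∀ i, c i ^ p = c i := fun i => by
    show cast (s i) ^ p = cast (s i)
    rw [← map_pow, ZMod.pow_card]
  let δ : R := (μ * α) ^ (p - 1)
  let γ : R := ∑ i ∈ S, c i * αi i ^ p * MvPowerSeries.X i
  have hzp : z ^ p = algebraMap R A δ * z + algebraMap R A γ := by
    show (∑ i ∈ S, _) ^ p = _ * (∑ i ∈ S, _) + algebraMap R A (∑ i ∈ S, _)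
    refine (sum_pow_char (R := A) p S (fun i => algebraMap R A (c i * αi i) * u i)).trans ?_
    rw [map_sum, Finset.mul_sum, ← Finset.sum_add_distrib]
    refine Finset.sum_congr rfl fun i hi => ?_
    have e : αi i ^ p * (μ * a i) ^ (p - 1) = (μ * α) ^ (p - 1) * αi i := by
      rw [← hα i hi]
      conv_lhs => rw [show p = p - 1 + 1 from (Nat.sub_add_cancel (by omega)).symm, pow_succ,
        Nat.add_sub_cancel]
      ring
    refine (mul_pow (M := A) (algebraMap R A (c i * αi i)) (u i) p).trans ?_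
    rw [hu, ← map_pow]
    have h2 : (c i * αi i) ^ p * b i ^ (p - 1) = δ * (c i * αi i) := by
      rw [mul_pow, hcpow, mul_assoc]
      show c i * (αi i ^ p * (μ * a i) ^ (p - 1)) = _
      rw [e]
      ring
    have h3 : (c i * αi i) ^ p * MvPowerSeries.X i = c i * αi i ^ p * MvPowerSeries.X i := by
      rw [mul_pow, hcpow]
    refine (mul_add _ _ _).trans (congrArg₂ _ ?_ ?_)
    · refine (mul_assoc _ _ _).symm.trans (Eq.trans ?_ (mul_assoc _ _ _))
      exact congrArg (· * u i) (((map_mul _ _ _).symm.trans (congrArg _ h2)).trans (map_mul _ _ _))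
    · exact (map_mul _ _ _).symm.trans (congrArg _ h3)
  have hwS : ∀ q, Prime q → ∃ i ∈ S, ¬ q ∣ w i := by
    intro q hq
    have hcu : ∀ i ∈ S, IsUnit (c i) := fun i hi => by
      exact (IsUnit.mk0 _ (Finset.mem_filter.1 hi).2).map cast
    by_contra hall
    push Not at hall
    have hall' : ∀ i ∈ S, ∃ j ∈ S, j ≠ i ∧ q ∣ a j := fun i hi => by
      have h := hall i hi
      have hsi : s i ≠ 0 := (Finset.mem_filter.1 hi).2
      simp only [w, if_pos hsi, (hcu i hi).dvd_mul_left] at h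
      obtain ⟨j, hj, hqj⟩ := hq.exists_mem_finset_dvd h
      exact ⟨j, Finset.mem_of_mem_erase hj, Finset.ne_of_mem_erase hj, hqj⟩
    obtain ⟨i, hi⟩ : S.Nonempty := by
      obtain ⟨i, hi⟩ := Function.ne_iff.1 hs
      exact ⟨i, Finset.mem_filter.2 ⟨Finset.mem_univ _, hi⟩⟩
    obtain ⟨j, hj, -, hqj⟩ := hall' i hi
    obtain ⟨l, -, hlj, hql⟩ := hall' j hj
    exact hq.not_unit (hcop j l (Ne.symm hlj) hqj hql)
  obtain ⟨i₀, hi₀⟩ := Function.ne_iff.1 hs
  have hi₀S : i₀ ∈ S := Finset.mem_filter.2 ⟨Finset.mem_univ _, hi₀⟩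
  have hw₀ : w i₀ ≠ 0 := by
    rw [show w i₀ = c i₀ * αi i₀ from if_pos hi₀]
    exact mul_ne_zero ((IsUnit.mk0 _ hi₀).map cast).ne_zero
      (Finset.prod_ne_zero_iff.2 fun j _ => hane j)
  -- the action
  let Tr : (A ≃ₐ[R] A) → (Fin n → R) → Prop := fun φ v => ∀ j, φ (u j) = u j + algebraMap R A (v j)
  have hmul : ∀ φ ψ v v', Tr φ v → Tr ψ v' → Tr (φ * ψ) (v + v') := fun φ ψ v v' h h' j => by
    show φ (ψ (u j)) = _
    rw [h' j, map_add, h j, AlgEquiv.commutes, add_assoc, ← map_add]; rfl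
  have hone : Tr 1 0 := fun j => by simp
  have hpow : ∀ φ v, Tr φ v → ∀ m : ℕ, Tr (φ ^ m) (m • v) := fun φ v h m => by
    induction m with
    | zero => rw [pow_zero, zero_nsmul]; exact hone
    | succ m ih => rw [pow_succ, succ_nsmul]; exact hmul _ _ _ _ ih h
  have hlist : ∀ (m : ℕ) (g : Fin m → (A ≃ₐ[R] A)) (v : Fin m → Fin n → R), (∀ i, Tr (g i) (v i)) →
      Tr (List.ofFn g).prod (∑ i, v i) := by
    intro m
    induction m with
    | zero => intro g v _; simpa using hone
    | succ m ih =>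
      intro g v h
      rw [List.ofFn_succ, List.prod_cons, Fin.sum_univ_succ]
      exact hmul _ _ _ _ (h 0) (ih _ _ fun i => h i.succ)
  have hσν : ∀ ν : Fin n → ZMod p,
      Tr (List.ofFn (fun i : Fin n => σ i ^ (ν i).val)).prod (fun j => cast (ν j) * b j) := by
    intro ν
    have h1 : ∀ i, Tr (σ i) (fun j => if i = j then b i else 0) := fun i j => by
      rw [hσ i j]; split <;> simp_all [b]
    have h2 := hlist n _ _ fun i => hpow _ _ (h1 i) (ν i).val
    convert h2 using 1
    funext j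
    rw [Finset.sum_apply, Finset.sum_eq_single j (fun i _ hij => by simp [hij]) (by simp)]
    rw [Pi.smul_apply, if_pos rfl, nsmul_eq_mul, hcast, ZMod.castHom_apply, ZMod.natCast_val]
  have hTz : ∀ (φ : A ≃ₐ[R] A) (ν : Fin n → ZMod p), Tr φ (fun j => cast (ν j) * b j) →
      φ z = z + algebraMap R A (cast (∑ i, ν i * s i) * (μ * α)) := by
    intro φ ν h
    show φ (∑ i ∈ S, _) = (∑ i ∈ S, _) + _
    rw [← Finset.sum_filter_of_ne (s := Finset.univ) (p := fun i => s i ≠ 0)
      (f := fun i => ν i * s i) (fun i _ hi h0 => hi (by rw [h0, mul_zero])), map_sum cast,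
      Finset.sum_mul, map_sum (algebraMap R A), map_sum φ, ← Finset.sum_add_distrib]
    refine Finset.sum_congr rfl fun i hi => ?_
    rw [map_mul φ, AlgEquiv.commutes, h i, mul_add, ← map_mul (algebraMap R A), map_mul cast,
      ← hα i hi]
    congr 2
    show cast (s i) * αi i * (cast (ν i) * (μ * a i)) = _
    ring
  have hμα : μ * α ≠ 0 := mul_ne_zero hμ (Finset.prod_ne_zero_iff.2 fun j _ => hane j)
  have hfix : ∀ ν : Fin n → ZMod p, ∑ i, ν i * s i = 0 →
      (List.ofFn (fun i : Fin n => σ i ^ (ν i).val)).prod z = z := fun ν hν => by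
    rw [hTz _ ν (hσν ν), hν, map_zero cast, zero_mul, map_zero, add_zero]
  have hf' : WildQuot51.famLin p (fun i => b i ^ (p - 1)) MvPowerSeries.X w ^ p =
      algebraMap R _ δ * WildQuot51.famLin p (fun i => b i ^ (p - 1)) MvPowerSeries.X w +
        algebraMap R _ γ := by rw [hz]; exact hzp
  refine ⟨fun t => ⟨fun ht => ?_, ?_⟩, ?_⟩
  · rw [← hz]
    refine WildQuot51.mem_range_of_fixed p b MvPowerSeries.X hb w δ γ S hwS hf' t fun φ hφ => ?_
    obtain ⟨e, he⟩ := WildQuot51.famAut_equiv p b (MvPowerSeries.X : Fin n → R) hb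
    obtain ⟨ν, rfl⟩ := e.surjective φ
    have hTr : Tr (e ν) (fun j => cast (ν j) * b j) := fun j => (he ν j).trans (by simp only [← hcast]; rfl)
    have hν : ∑ i, ν i * s i = 0 := by
      rw [hz] at hφ
      have h := (hTz _ ν hTr).symm.trans hφ
      rw [add_eq_left, map_eq_zero_iff _ hinj, mul_eq_zero, or_iff_left hμα,
        map_eq_zero_iff _ cast.injective] at h
      exact h
    have heq : (e ν : A ≃ₐ[R] A) = (List.ofFn (fun i : Fin n => σ i ^ (ν i).val)).prod :=
      AlgEquiv.coe_algHom_injective (WildQuot51.famHom_ext p _ _ fun j =>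
        (hTr j).trans (hσν ν j).symm)
    exact (DFunLike.congr_fun heq t).trans (ht ν hν)
  · rintro ⟨g, rfl⟩ ν hν
    show (List.ofFn (fun i : Fin n => σ i ^ (ν i).val)).prod.toAlgHom (Polynomial.aeval z g) = _
    rw [← Polynomial.aeval_algHom_apply]
    exact congrArg (fun y => Polynomial.aeval y g) (hfix ν hν)
  · rw [← hz]
    exact WildQuot51.ker_aeval_lin p b MvPowerSeries.X w δ γ i₀ hw₀ hf'

end Groth.Agent.S15810
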