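import Groth.Statements.S15811
import Mathlib
-- import your own Groth.Agent.* helpers here

set_option autoImplicit false
universe u
open WildQuot

namespace Groth.Agent.S15811

/-- Let `R` be an integrally closed domain of prime characteristic `p` with fraction field `K`, and `α ∈
R`. Then `α ≠ 0` and the polynomial `T ^ p - α T` splits into linear factors over `K` — which says
that the finite flat group scheme `Spec R[T]/(T ^ p - α T)` of order `p` has constant generic fibre
(its `p` roots are then distinct) — if and only if `α = a ^ (p-1)` for some nonzero `a ∈ R`. (The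
published statement is that the generic fibre of the finite flat group scheme of order `p` with
parameters `α, β` satisfying `α β = 0`, whose underlying scheme is `Spec R[T]/(T ^ p - α T)`, is
constant if and only if `β = 0` and `α` is the `(p-1)`-th power of a nonzero element of `R`; this
row states the polynomial condition, in which `α ≠ 0` already forces `β = 0` over a domain.) -/
theorem result
    (p : ℕ) [Fact p.Prime] (R : Type u) [CommRing R] [IsDomain R] [IsIntegrallyClosed R]
    [CharP R p] (α : R) :
    (α ≠ 0 ∧ (Polynomial.map (algebraMap R (FractionRing R))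
        (Polynomial.X ^ p - Polynomial.C α * Polynomial.X)).Splits) ↔
      ∃ a : R, a ≠ 0 ∧ α = a ^ (p - 1) := by
  classical
  have hp := (Fact.out : p.Prime)
  let K := FractionRing R
  let μ := algebraMap R K
  have hμ : Function.Injective μ := IsFractionRing.injective R K
  haveI : CharP K p := charP_of_injective_algebraMap hμ p
  have hmap : Polynomial.map μ (Polynomial.X ^ p - Polynomial.C α * Polynomial.X) =
      Polynomial.X ^ p - Polynomial.C (μ α) * Polynomial.X := by simp
  have h1 : p = p - 1 + 1 := (Nat.sub_add_cancel hp.pos).symm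
  constructor
  · rintro ⟨hα, hs⟩
    rw [hmap] at hs
    set P : Polynomial K := Polynomial.X ^ p - Polynomial.C (μ α) * Polynomial.X with hP
    have hdeg : P.natDegree = p := by
      rw [hP, Polynomial.natDegree_sub_eq_left_of_natDegree_lt (by
        rw [Polynomial.natDegree_X_pow, Polynomial.natDegree_C_mul_X _ ((map_ne_zero_iff μ hμ).2 hα)]
        exact hp.one_lt), Polynomial.natDegree_X_pow]
    have hsep : P.Separable := by
      have h : Polynomial.derivative P = -Polynomial.C (μ α) := by
        simp [hP, Polynomial.derivative_X_pow, CharP.cast_eq_zero K p]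
      rw [Polynomial.separable_def, h]
      obtain ⟨e, he⟩ := ((Polynomial.isUnit_C.2
        (isUnit_iff_ne_zero.2 ((map_ne_zero_iff μ hμ).2 hα))).neg : IsUnit (-Polynomial.C (μ α)))
      exact ⟨0, ↑e⁻¹, by rw [← he, Units.inv_mul, zero_mul, zero_add]⟩
    have hcard : P.roots.card = p := by rw [← hs.natDegree_eq_card_roots, hdeg]
    have hnd := Polynomial.nodup_roots hsep
    obtain ⟨y, hy, hy0⟩ : ∃ y ∈ P.roots, y ≠ 0 := by
      by_contra hc
      push Not at hc
      have h2 : P.roots.toFinset ⊆ {0} := fun y hy => Finset.mem_singleton.2 (hc y (Multiset.mem_toFinset.1 hy))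
      have := Finset.card_le_card h2
      rw [Multiset.toFinset_card_of_nodup hnd, hcard, Finset.card_singleton] at this
      exact absurd this (not_le.2 hp.one_lt)
    have hy' : y ^ (p - 1) = μ α := by
      have h := Polynomial.isRoot_of_mem_roots hy
      simp only [hP, Polynomial.IsRoot, Polynomial.eval_sub, Polynomial.eval_pow, Polynomial.eval_X,
        Polynomial.eval_mul, Polynomial.eval_C, sub_eq_zero] at h
      rw [h1, pow_succ] at h
      exact mul_right_cancel₀ hy0 h
    have hint : IsIntegral R y := IsIntegral.of_pow (by have := hp.one_lt; omega) (hy' ▸ isIntegral_algebraMap)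
    obtain ⟨a, rfl⟩ := IsIntegrallyClosed.isIntegral_iff.1 hint
    exact ⟨a, fun h => hy0 (by rw [h, map_zero]), hμ (by rw [map_pow]; exact hy'.symm)⟩
  · rintro ⟨a, ha, rfl⟩
    refine ⟨pow_ne_zero _ ha, ?_⟩
    rw [hmap]
    set P : Polynomial K := Polynomial.X ^ p - Polynomial.C (μ (a ^ (p - 1))) * Polynomial.X with hP
    have hdeg : P.natDegree = p := by
      rw [hP, Polynomial.natDegree_sub_eq_left_of_natDegree_lt (by
        rw [Polynomial.natDegree_X_pow,
          Polynomial.natDegree_C_mul_X _ ((map_ne_zero_iff μ hμ).2 (pow_ne_zero _ ha))]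
        exact hp.one_lt), Polynomial.natDegree_X_pow]
    refine Polynomial.splits_iff_card_roots.2 (le_antisymm (Polynomial.card_roots' P) ?_)
    have hP0 : P ≠ 0 := fun h => by rw [h, Polynomial.natDegree_zero] at hdeg; exact hp.ne_zero hdeg.symm
    let s : Finset K := Finset.univ.image fun j : ZMod p => ZMod.castHom dvd_rfl K j * μ a
    have hinj : Function.Injective fun j : ZMod p => ZMod.castHom dvd_rfl K j * μ a := fun i j h =>
      ZMod.castHom_injective K (mul_right_cancel₀ ((map_ne_zero_iff μ hμ).2 ha) h)
    have hsub : s.val ⊆ P.roots := fun z hz => by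
      rw [Polynomial.mem_roots hP0]
      obtain ⟨j, -, rfl⟩ := Finset.mem_image.1 hz
      simp only [hP, Polynomial.IsRoot, Polynomial.eval_sub, Polynomial.eval_pow, Polynomial.eval_X,
        Polynomial.eval_mul, Polynomial.eval_C, sub_eq_zero, mul_pow, map_pow]
      rw [← map_pow (ZMod.castHom (dvd_refl p) K), ZMod.pow_card]
      rw [show μ a ^ p = μ a ^ (p - 1) * μ a by rw [← pow_succ, Nat.sub_add_cancel hp.pos]]
      ring
    calc P.natDegree = s.card := by
          rw [hdeg, Finset.card_image_of_injective _ hinj, Finset.card_univ, ZMod.card]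
      _ ≤ P.roots.card := Multiset.card_le_card ((Multiset.le_iff_subset s.nodup).2 hsub)

end Groth.Agent.S15811
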