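import Groth.Statements.S15817
import Mathlib

set_option autoImplicit false
universe u v
open CategoryTheory
open CAlg

namespace Groth.Agent.S15817

/-- Let A be a commutative ring, M an A-module and P, Q submodules of M. Then the commuting square of
quotient projections with corners M/(P ∩ Q), M/P, M/Q and M/(P + Q) is cartesian in the category of
A-modules: M/(P ∩ Q) is the fibre product of M/P and M/Q over M/(P + Q). -/
theorem result (A : Type u) [CommRing A] (M : Type v) [AddCommGroup M] [Module A M]
    (P Q : Submodule A M) :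
    IsPullback (ModuleCat.ofHom (Submodule.factor (inf_le_left : P ⊓ Q ≤ P)))
      (ModuleCat.ofHom (Submodule.factor (inf_le_right : P ⊓ Q ≤ Q)))
      (ModuleCat.ofHom (Submodule.factor (le_sup_left : P ≤ P ⊔ Q)))
      (ModuleCat.ofHom (Submodule.factor (le_sup_right : Q ≤ P ⊔ Q))) := by
  refine IsPullback.of_map (forget (ModuleCat.{v} A)) ?_ ?_
  · ext x
    rfl
  · rw [Limits.Types.isPullback_iff]
    refine ⟨?_, fun a b h => ?_, fun a b h => ?_⟩
    · ext x
      obtain ⟨x, rfl⟩ := Submodule.Quotient.mk_surjective _ x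
      rfl
    · obtain ⟨a, rfl⟩ := Submodule.Quotient.mk_surjective _ a
      obtain ⟨b, rfl⟩ := Submodule.Quotient.mk_surjective _ b
      exact (Submodule.Quotient.eq _).mpr
        ⟨(Submodule.Quotient.eq _).mp h.1, (Submodule.Quotient.eq _).mp h.2⟩
    · obtain ⟨a, rfl⟩ := Submodule.Quotient.mk_surjective _ a
      obtain ⟨b, rfl⟩ := Submodule.Quotient.mk_surjective _ b
      obtain ⟨x, hx, y, hy, (hxy : x + y = a - b)⟩ := Submodule.mem_sup.mp ((Submodule.Quotient.eq _).mp h)
      refine ⟨Submodule.Quotient.mk (a - x), (Submodule.Quotient.eq _).mpr ?_, (Submodule.Quotient.eq _).mpr ?_⟩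
      · show a - x - a ∈ P
        simpa using hx
      · show a - x - b ∈ Q
        rwa [sub_right_comm, ← hxy, add_sub_cancel_left]

end Groth.Agent.S15817
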