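import Groth.Statements.S15824
import Groth.Agent.RegImm99.Stalk
import Groth.Agent.EGA4Alg4.CMMod
import Mathlib

set_option autoImplicit false
open CategoryTheory AlgebraicGeometry
open RegImm
universe u

namespace Groth.Agent.S15824

open RingTheory.Sequence Module IsLocalRing in
theorem key {R S : Type u} [CommRing R] [CommRing S] [IsLocalRing S] [LocCoh.IsCohenMacaulayLocalRing R]
    (f : R →+* S) (hf : Function.Surjective f) (rs : List R) (hreg : RingTheory.Sequence.IsRegular R rs)
    (hk : RingHom.ker f = Ideal.ofList rs) (hz : IsAssociatedPrime (IsLocalRing.maximalIdeal S) S) :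
    ringKrullDim S = 0 := by
  have hJ : Ideal.ofList rs ≤ maximalIdeal R := by
    rw [← hk]; exact le_maximalIdeal (RingHom.ker_ne_top f)
  let J : Ideal R := Ideal.ofList rs
  let e : (R ⧸ J) ≃+* S := (Ideal.quotEquivOfEq hk.symm).trans (RingHom.quotientKerEquivOfSurjective hf)
  have hM := EGA4Alg4.isCohenMacaulayModule_quotient (A := R) (M := R)
    LocCoh.IsCohenMacaulayLocalRing.supportDim_eq_depth hreg.toIsWeaklyRegular fun x hx => hJ (Ideal.subset_span hx)
  have hJeq : (Ideal.ofList rs • (⊤ : Submodule R R)) = J := by rw [smul_eq_mul, Ideal.mul_top]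
  let eM : (R ⧸ (Ideal.ofList rs • (⊤ : Submodule R R))) ≃ₗ[R] (R ⧸ J) := Submodule.quotEquivOfEq _ _ hJeq
  have hass : maximalIdeal R ∈ associatedPrimes R (R ⧸ (Ideal.ofList rs • (⊤ : Submodule R R))) := by
    have : IsNoetherianRing S := isNoetherianRing_of_surjective R S f hf
    obtain ⟨hp, s, hs⟩ := (isAssociatedPrime_iff_exists_injective_linearMap _ _).1 hz
    refine (isAssociatedPrime_iff_exists_injective_linearMap _ _).2 ?_
    refine ⟨inferInstance, ?_⟩
    let : Algebra R S := f.toAlgebra
    let eA : (R ⧸ J) ≃ₗ[R] S := AlgEquiv.toLinearEquiv (AlgEquiv.ofRingEquiv (f := e) fun r => rfl)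
    let g : R →ₗ[R] S ⧸ maximalIdeal S := Algebra.linearMap R (S ⧸ maximalIdeal S)
    have hg : LinearMap.ker g = maximalIdeal R := by
      have hc : (maximalIdeal S).comap f = maximalIdeal R := by
        have := (Ideal.comap_isMaximal_of_surjective f hf (K := maximalIdeal S))
        exact IsLocalRing.eq_maximalIdeal this
      refine Eq.trans ?_ hc
      ext r
      exact Ideal.Quotient.eq_zero_iff_mem
    let g' : (R ⧸ maximalIdeal R) →ₗ[R] S ⧸ maximalIdeal S := (maximalIdeal R).liftQ g hg.ge
    have hg' : Function.Injective g' := LinearMap.ker_eq_bot.1 (Submodule.ker_liftQ_eq_bot _ _ _ hg.le)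
    exact ⟨eM.symm.toLinearMap.comp (eA.symm.toLinearMap.comp ((s.restrictScalars R).comp g')),
      eM.symm.injective.comp (eA.symm.injective.comp (hs.comp hg'))⟩
  have h0 := EGA4Alg4.ringKrullDim_quotient_assoc hM hass
  rw [ringKrullDim_eq_zero_of_isField ((Ideal.Quotient.maximal_ideal_iff_isField_quotient _).1 inferInstance),
    supportDim_eq_of_equiv eM, supportDim_quotient_eq_ringKrullDim, ringKrullDim_eq_of_ringEquiv e] at h0
  exact h0.symm

/-- Let X be a locally Noetherian scheme all of whose local rings are Cohen–Macaulay, and i : Z → X a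
closed immersion which is regular (around every point, on some affine open of X the ideal of Z is
generated by a regular sequence). Then Z has no embedded points (each associated point of Z is
generic in an irreducible component): for every point z of Z, if the maximal ideal of O_{Z,z} is an
associated prime of O_{Z,z} (as a module over itself), then O_{Z,z} has Krull dimension 0. (The
published statement takes X Noetherian and Z a local complete intersection subscheme; the assertion
is local on X and uses only that the ideal of Z is locally generated by a regular sequence.) -/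
theorem result {X Z : Scheme.{u}}
    [IsLocallyNoetherian X] (hCM : ∀ x : X, LocCoh.IsCohenMacaulayLocalRing (X.presheaf.stalk x))
    (i : Z ⟶ X) [IsClosedImmersion i] (hi : RegImm.IsRegularImmersion RegImm.Kind.regular i) (z : Z)
    (hz : IsAssociatedPrime (IsLocalRing.maximalIdeal (Z.presheaf.stalk z)) (Z.presheaf.stalk z)) :
    ringKrullDim (Z.presheaf.stalk z) = 0 := by
  have := hCM (i z)
  obtain ⟨rs, hreg, hk⟩ := RegImm99.exists_isRegular i hi z
  exact key (i.stalkMap z).hom (i.stalkMap_surjective z) rs hreg hk hz

end Groth.Agent.S15824
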