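import Groth.Statements.S15832
import Mathlib
-- import your own Groth.Agent.* helpers here

set_option autoImplicit false
universe u
open TopGrp

namespace Groth.Agent.S15832

/-- For a group T with a topology, let B be the family of two-sided translates x Γ y, where Γ runs over
the subgroups of T open in the given topology and x, y over T; the topology generated by B makes T a
topological group in which every neighbourhood of the identity contains a subgroup open for that
topology. (The published statement is for the free topological product of two Noohi groups whose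
open subgroups form a basis of neighbourhoods of the identity; the argument uses only the group
structure and the chosen family of subgroups, so the row is stated for an arbitrary group with a
topology. The published conventions include Hausdorffness in the word topological group; this row
does not assert it, and the published argument does not prove it.) -/
theorem result (T : Type u) [Group T]
    [TopologicalSpace T] :
    @NonarchimedeanGroup T _ (TopologicalSpace.generateFrom
      {S : Set T | ∃ (Γ : OpenSubgroup T) (x y : T), S = (fun g : T => x * g * y) '' (Γ : Set T)}) := by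
  classical
  let B : Set (Set T) := {S : Set T | ∃ (Γ : OpenSubgroup T) (x y : T), S = (fun g : T => x * g * y) '' (Γ : Set T)}
  have hB : ∀ (Γ : OpenSubgroup T) (x y : T), ((fun g : T => x * g * y) '' (Γ : Set T)) ∈ B :=
    fun Γ x y => ⟨Γ, x, y, rfl⟩
  have hmem : ∀ (Γ : OpenSubgroup T) (x y z : T), z ∈ ((fun g : T => x * g * y) '' (Γ : Set T)) ↔ x⁻¹ * z * y⁻¹ ∈ Γ := by
    intro Γ x y z
    constructor
    · rintro ⟨g, hg, rfl⟩
      simpa [mul_assoc] using hg
    · exact fun h => ⟨_, h, by simp [mul_assoc]⟩
  have hopen : ∀ s ∈ B, @IsOpen T (TopologicalSpace.generateFrom B) s := fun s hs => TopologicalSpace.isOpen_generateFrom_of_mem hs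
  have hgrp : @IsTopologicalGroup T (TopologicalSpace.generateFrom B) _ := by
    refine @IsTopologicalGroup.mk T (TopologicalSpace.generateFrom B) _ (@ContinuousMul.mk T (TopologicalSpace.generateFrom B) _ ?_) (@ContinuousInv.mk T (TopologicalSpace.generateFrom B) _ ?_)
    · refine continuous_generateFrom_iff.2 ?_
      rintro _ ⟨Γ, x, y, rfl⟩
      refine @isOpen_iff_forall_mem_open (T × T) (@instTopologicalSpaceProd T T (TopologicalSpace.generateFrom B) (TopologicalSpace.generateFrom B)) _ |>.2 ?_
      rintro ⟨g, h⟩ hgh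
      rw [Set.mem_preimage, hmem] at hgh
      refine ⟨((fun l : T => x * l * (x⁻¹ * g)) '' (Γ : Set T)) ×ˢ ((fun l : T => (g⁻¹ * x) * l * (x⁻¹ * g * h)) '' (Γ : Set T)),
        ?_, (@IsOpen.prod T T (TopologicalSpace.generateFrom B) (TopologicalSpace.generateFrom B) _ _ (hopen _ (hB Γ _ _)) (hopen _ (hB Γ _ _))), ?_, ?_⟩
      · rintro ⟨a, b⟩ ⟨ha, hb⟩
        rw [hmem] at ha hb
        rw [Set.mem_preimage, hmem]
        have := Γ.mul_mem (Γ.mul_mem ha hb) hgh
        convert this using 1
        · group
          exact Iff.rfl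
      · rw [hmem, show x⁻¹ * g * (x⁻¹ * g)⁻¹ = 1 by group]; exact one_mem _
      · rw [hmem, show (g⁻¹ * x)⁻¹ * h * (x⁻¹ * g * h)⁻¹ = 1 by group]; exact one_mem _
    · refine continuous_generateFrom_iff.2 ?_
      rintro _ ⟨Γ, x, y, rfl⟩
      convert hopen _ (hB Γ y⁻¹ x⁻¹) using 1
      ext z
      rw [Set.mem_preimage, hmem, hmem, ← inv_mem_iff (x := x⁻¹ * z⁻¹ * y⁻¹)]
      simp [mul_assoc]
  refine @NonarchimedeanGroup.mk T _ (TopologicalSpace.generateFrom B) hgrp fun U hU => ?_
  obtain ⟨V, hVU, hVo, hV1⟩ := (@mem_nhds_iff T (TopologicalSpace.generateFrom B) _ _).1 hU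
  suffices h : ∀ V : Set T, TopologicalSpace.GenerateOpen B V → (1 : T) ∈ V →
      ∃ K : Subgroup T, @IsOpen T (TopologicalSpace.generateFrom B) (K : Set T) ∧ (K : Set T) ⊆ V by
    obtain ⟨K, hK, hKV⟩ := h V hVo hV1
    exact ⟨@OpenSubgroup.mk T _ (TopologicalSpace.generateFrom B) K hK, hKV.trans hVU⟩
  intro V hV
  induction hV with
  | basic s hs =>
    obtain ⟨Γ, x, y, rfl⟩ := hs
    intro h1
    rw [hmem, mul_one] at h1
    refine ⟨Γ.toSubgroup.map (MulAut.conj x).toMonoidHom, ?_, ?_⟩
    · exact hopen _ ⟨Γ, x, x⁻¹, rfl⟩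
    · rintro _ ⟨g, hg, rfl⟩
      rw [hmem]
      have := Γ.mul_mem hg h1
      simpa [mul_assoc] using this
  | univ => exact fun _ => ⟨⊤, @isOpen_univ T (TopologicalSpace.generateFrom B), Set.subset_univ _⟩
  | inter s t _ _ ihs iht =>
    intro h1
    obtain ⟨K, hK, hKs⟩ := ihs h1.1
    obtain ⟨L, hL, hLt⟩ := iht h1.2
    exact ⟨K ⊓ L, @IsOpen.inter T (TopologicalSpace.generateFrom B) _ _ hK hL, Set.inter_subset_inter hKs hLt⟩
  | sUnion S _ ih =>
    rintro ⟨s, hs, h1⟩
    obtain ⟨K, hK, hKs⟩ := ih s hs h1
    exact ⟨K, hK, hKs.trans (Set.subset_sUnion_of_mem hs)⟩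

end Groth.Agent.S15832
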