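import Groth.Statements.S15833

set_option autoImplicit false
set_option backward.isDefEq.respectTransparency.types false
universe u
open EtBase

namespace Groth.Agent.S15833

open CategoryTheory CategoryTheory.Limits AlgebraicGeometry in
/-- Let i : X₀ ⟶ X be a surjective closed immersion of schemes and f : Y ⟶ X a morphism. Then f
satisfies the valuative criterion (existence and uniqueness of a lift in every valuative square,
over arbitrary valuation rings) if and only if its base change Y ×_X X₀ ⟶ X₀ does. (The published
statement takes X locally Noetherian and connected, X₀ the reduced closed subscheme with the same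
underlying space and f étale, and combines this step with the equivalence between étale schemes over
X and over X₀ to identify the geometric coverings, i.e. the étale morphisms satisfying the valuative
criterion, of X and of X₀; the argument for this step uses only that X₀ ⟶ X is a surjective closed
immersion and that valuation rings are reduced.) -/
theorem result {X X₀ Y : Scheme.{u}} (i : X₀ ⟶ X)
    [IsClosedImmersion i] [Surjective i] (f : Y ⟶ X) :
    ValuativeCriterion f ↔ ValuativeCriterion (pullback.snd f i) := by
  have factor : ∀ (S : ValuativeCommSq f), ∃ j : Spec (CommRingCat.of S.R) ⟶ X₀, j ≫ i = S.i₂ := by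
    intro S
    have : IsIso (pullback.fst S.i₂ i) := isIso_of_isClosedImmersion_of_surjective _
    exact ⟨inv (pullback.fst S.i₂ i) ≫ pullback.snd S.i₂ i,
      by rw [Category.assoc, ← pullback.condition, IsIso.inv_hom_id_assoc]⟩
  constructor
  · intro h S
    obtain ⟨R, K, a, b, w⟩ := S
    let S' : ValuativeCommSq f :=
      { R := R, K := K, i₁ := a ≫ pullback.fst f i, i₂ := b ≫ i,
        commSq := ⟨by rw [Category.assoc, pullback.condition, reassoc_of% w.w]⟩ }
    obtain ⟨u⟩ := h S'
    refine ⟨⟨⟨pullback.lift u.default.l b u.default.fac_right, ?_, pullback.lift_snd _ _ _⟩⟩, fun l => ?_⟩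
    · refine pullback.hom_ext ?_ ?_
      · exact (Category.assoc _ _ _).trans ((congrArg (_ ≫ ·) (pullback.lift_fst _ _ _)).trans u.default.fac_left)
      · exact (Category.assoc _ _ _).trans ((congrArg (_ ≫ ·) (pullback.lift_snd _ _ _)).trans w.w.symm)
    · refine CommSq.LiftStruct.ext (pullback.hom_ext ?_ ?_)
      · have hl := u.uniq ⟨l.l ≫ pullback.fst f i,
            (Category.assoc _ _ _).symm.trans (congrArg (· ≫ pullback.fst f i) l.fac_left),
            (Category.assoc _ _ _).trans ((congrArg (l.l ≫ ·) pullback.condition).trans
              ((Category.assoc _ _ _).symm.trans (congrArg (· ≫ i) l.fac_right)))⟩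
        exact (congrArg CommSq.LiftStruct.l hl).trans (pullback.lift_fst _ _ _).symm
      · exact l.fac_right.trans (pullback.lift_snd _ _ _).symm
  · intro h S
    obtain ⟨j, hj⟩ := factor S
    let S' : ValuativeCommSq (pullback.snd f i) :=
      { R := S.R, K := S.K, i₁ := pullback.lift S.i₁ (Spec.map (CommRingCat.ofHom (algebraMap S.R S.K)) ≫ j)
          (by rw [Category.assoc, hj, S.commSq.w]),
        i₂ := j, commSq := ⟨pullback.lift_snd _ _ _⟩ }
    obtain ⟨u⟩ := h S'
    refine ⟨⟨⟨u.default.l ≫ pullback.fst f i, ?_, ?_⟩⟩, fun l => ?_⟩
    · exact (Category.assoc _ _ _).symm.trans ((congrArg (· ≫ pullback.fst f i) u.default.fac_left).trans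
        (pullback.lift_fst _ _ _))
    · rw [Category.assoc, pullback.condition, ← hj]
      exact (Category.assoc _ _ _).symm.trans (congrArg (· ≫ i) u.default.fac_right)
    · have hl := u.uniq ⟨pullback.lift l.l j (by rw [l.fac_right, hj]), pullback.hom_ext
          (by rw [Category.assoc, pullback.lift_fst, l.fac_left, pullback.lift_fst])
          (by rw [Category.assoc, pullback.lift_snd, pullback.lift_snd]), pullback.lift_snd _ _ _⟩
      refine CommSq.LiftStruct.ext ?_
      show l.l = u.default.l ≫ pullback.fst f i
      rw [← hl, pullback.lift_fst]

end Groth.Agent.S15833
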