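import Groth.Statements.S15835
import Mathlib.Algebra.CharP.Invertible

set_option autoImplicit false
universe u
open SprIso

namespace Groth.Agent.S15835

/-- Over a commutative ring R of prime characteristic p, let n ≥ 1 and let p^m be the largest power of p
dividing n. The locus of n × n matrices with characteristic polynomial t^n is stable under adding a
scalar matrix a·1 with n·a = 0 exactly when a^(p^m) = 0: for X with characteristic polynomial t^n
and such an a, the matrix X + a·1 has characteristic polynomial t^n if and only if a^(p^m) = 0.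
(Stated on points with values in an arbitrary ring of characteristic p; the scheme-theoretic
assertion about the nilpotent scheme of SL_n is this statement for all such rings.) -/
theorem result (p : ℕ) [Fact p.Prime] (R : Type u) [CommRing R]
    [CharP R p] (n : ℕ) (hn : 0 < n) (X : Matrix (Fin n) (Fin n) R) (hX : X.charpoly = Polynomial.X ^ n)
    (a : R) (ha : (n : R) * a = 0) :
    (X + Matrix.scalar (Fin n) a).charpoly = Polynomial.X ^ n ↔ a ^ (p ^ padicValNat p n) = 0 := by
  haveI hp : p.Prime := Fact.out
  set e := padicValNat p n with he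
  obtain ⟨n', hn'⟩ : p ^ e ∣ n := by rw [he]; exact pow_padicValNat_dvd
  have hn'p : ¬ p ∣ n' := by
    rintro ⟨c, rfl⟩
    exact pow_succ_padicValNat_not_dvd (p := p) hn.ne' (by rw [← he]; exact ⟨c, by rw [hn']; ring⟩)
  have hn'0 : n' ≠ 0 := fun h => hn'p (h ▸ dvd_zero p)
  haveI : CharP (Polynomial R) p := inferInstance
  have h1 : (X + Matrix.scalar (Fin n) a).charpoly
      = (Polynomial.X ^ (p ^ e) - Polynomial.C (a ^ (p ^ e))) ^ n' := by
    have := Matrix.charpoly_sub_scalar X (-a)
    rw [map_neg, sub_neg_eq_add, hX, Polynomial.pow_comp, Polynomial.X_comp, map_neg,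
      ← sub_eq_add_neg] at this
    rw [this, map_pow, ← sub_pow_char_pow, ← pow_mul, ← hn']
  rw [h1]
  constructor
  · intro h
    have hu : IsUnit (n' : R) :=
      (CharP.isUnit_natCast_iff hp).mpr hn'p
    obtain ⟨m, rfl⟩ := Nat.exists_eq_succ_of_ne_zero hn'0
    have h2 := congrArg (fun q : Polynomial R => q.coeff (p ^ e * m)) h
    have hlt : p ^ e * m < n := by
      rw [hn']; exact Nat.mul_lt_mul_of_pos_left (Nat.lt_succ_self m) (pow_pos hp.pos e)
    simp only [Polynomial.coeff_X_pow, if_neg (Nat.ne_of_lt hlt)] at h2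
    have h3 : (Polynomial.X ^ (p ^ e) - Polynomial.C (a ^ (p ^ e))) ^ (m + 1)
        = Polynomial.expand R (p ^ e) ((Polynomial.X + Polynomial.C (-(a ^ (p ^ e)))) ^ (m + 1)) := by
      simp [sub_eq_add_neg]
    rw [h3, Polynomial.coeff_expand_mul' (pow_pos hp.pos e), Polynomial.coeff_X_add_C_pow] at h2
    have h4 : (a ^ (p ^ e)) * ((m + 1 : ℕ) : R) = 0 := by
      have : m + 1 - m = 1 := by omega
      rw [this, pow_one, Nat.choose_succ_self_right] at h2
      simpa using h2
    exact hu.mul_left_eq_zero.mp h4
  · intro h
    rw [h, map_zero, sub_zero, ← pow_mul, ← hn']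

end Groth.Agent.S15835
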