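import Groth.Statements.S15837
import Groth.Agent.RedPts82.FinTransporter
import Groth.Agent.SchBasics.FPCancel

set_option autoImplicit false
universe u
open CategoryTheory MonoidalCategory CartesianMonoidalCategory MonObj GrpObj AlgebraicGeometry
open SprIso

namespace Groth.Agent.S15837

/-- Let S be a scheme, G an S-group scheme of finite presentation acting on an S-scheme X which is
affine and of finite presentation over S, and Y a closed subscheme of X which is finite, flat and of
finite presentation over S. Then the functorial stabilizer of Y in G — whose points with values in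
an S-scheme T are the points g of G such that g acts as the identity on every point of Y with values
in a scheme over T — is represented by a closed subscheme of G whose inclusion is of finite
presentation. -/
theorem result (S : Scheme.{u}) (G X Y : Over S) [GrpObj G]
    [LocallyOfFinitePresentation G.hom] [QuasiCompact G.hom] [QuasiSeparated G.hom]
    [IsAffineHom X.hom] [LocallyOfFinitePresentation X.hom] (a : AlgGrp.Action G X)
    (i : Y ⟶ X) [IsClosedImmersion i.left] [IsFinite Y.hom] [Flat Y.hom] [LocallyOfFinitePresentation Y.hom] :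
    ∃ (Z : Over S) (j : Z ⟶ G), IsClosedImmersion j.left ∧ LocallyOfFinitePresentation j.left ∧
      ∀ (T : Over S) (g : T ⟶ G), (∃ z : T ⟶ Z, z ≫ j = g) ↔
        ∀ (T' : Over S) (t : T' ⟶ T) (y : T' ⟶ Y), lift (t ≫ g) (y ≫ i) ≫ a.act = y ≫ i := by
  haveI : IsSeparated X.hom := inferInstance
  haveI := Groth.Agent.SGA3a.isClosedImmersion_diag X
  obtain ⟨Z, j, hj, hZ, hfp⟩ := Groth.Agent.RedPts82.exists_transporter_fp
    (Groth.Agent.RedPts82.isEssentiallyFree_of_finite_flat Y.hom)
    (lift ((G ◁ i) ≫ a.act) (snd G Y ≫ i)) (lift (𝟙 X) (𝟙 X))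
  have hd : LocallyOfFinitePresentation (lift (𝟙 X) (𝟙 X)).left := by
    rw [Over.lift_left]
    exact SchBasics.locallyOfFinitePresentation_diagonal X.hom
  refine ⟨Z, j, hj, hfp inferInstance hd, fun T g => (hZ T g).trans
    (forall_congr' fun T' => forall_congr' fun t => forall_congr' fun y => ?_)⟩
  have e : lift (t ≫ g) y ≫ (G ◁ i) ≫ a.act = lift (t ≫ g) (y ≫ i) ≫ a.act := by
    rw [← Category.assoc, CartesianMonoidalCategory.lift_whiskerLeft]
  simp only [comp_lift, Category.comp_id, lift_snd_assoc, e]
  refine ⟨fun ⟨x', hx'⟩ => ?_, fun h => ⟨y ≫ i, by rw [h]⟩⟩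
  have e1 := congrArg (· ≫ fst X X) hx'
  have e2 := congrArg (· ≫ snd X X) hx'
  simp only [lift_fst, lift_snd] at e1 e2
  exact e1.trans e2.symm

end Groth.Agent.S15837
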