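import Groth.Statements.S15838
import Mathlib.LinearAlgebra.JordanChevalley

set_option autoImplicit false
universe u
open scoped TensorProduct
open SprIso

namespace Groth.Agent.S15838

/-- General linear group case: this is the case G = GL(V), to which the general case reduces along a
closed embedding. Let k be a perfect field and V a finite-dimensional k-vector space. If an
invertible endomorphism g of V has multiplicative Jordan decomposition g = t u (t semisimple, u
unipotent, t and u commuting), then the scheme-theoretic centralizer of g in GL(V) is the
centralizer of u inside the centralizer of t: for every commutative k-algebra R, an R-linear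
endomorphism h of R ⊗ V commutes with g_R if and only if it commutes with both t_R and u_R.
Likewise, if an endomorphism X of V has additive Jordan decomposition X = Y + N (Y semisimple, N
nilpotent, commuting), then h commutes with X_R if and only if it commutes with both Y_R and N_R. -/
theorem result (k : Type u) [Field k] [PerfectField k]
    (V : Type u) [AddCommGroup V] [Module k V] [FiniteDimensional k V]
    (R : Type u) [CommRing R] [Algebra k R] (h : Module.End R (R ⊗[k] V)) :
    (∀ (g t u : Module.End k V), IsUnit g → t.IsSemisimple → IsNilpotent (u - 1) → Commute t u → g = t * u →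
      (Commute h (g.baseChange R) ↔ Commute h (t.baseChange R) ∧ Commute h (u.baseChange R))) ∧
    (∀ (X Y N : Module.End k V), Y.IsSemisimple → IsNilpotent N → Commute Y N → X = Y + N →
      (Commute h (X.baseChange R) ↔ Commute h (Y.baseChange R) ∧ Commute h (N.baseChange R))) := by
  have key : ∀ (X Y N : Module.End k V), Y.IsSemisimple → IsNilpotent N → Commute Y N → X = Y + N →
      (Commute h (X.baseChange R) ↔ Commute h (Y.baseChange R) ∧ Commute h (N.baseChange R)) := by
    intro X Y N hY hN hc hX
    constructor
    · intro hh
      obtain ⟨n, hn, s, hs, hnn, hss, he⟩ := X.exists_isNilpotent_isSemisimple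
      have hcc : Commute n s := Algebra.commute_of_mem_adjoin_singleton_of_commute hs
        (Algebra.commute_of_mem_adjoin_singleton_of_commute hn (Commute.refl X)).symm
      obtain ⟨e1, e2⟩ := Module.End.isNilpotent_isSemisimple_unique hnn hss hN hY hcc hc.symm
        (by rw [← he, hX, add_comm])
      subst e1 e2
      have h2 : ∀ z ∈ Algebra.adjoin k {X}, Commute h (z.baseChange R) := by
        intro z hz
        induction hz using Algebra.adjoin_induction with
        | mem z hz => simp only [Set.mem_singleton_iff] at hz; exact hz ▸ hh
        | algebraMap r =>
          have hz : (algebraMap k (Module.End k V) r).baseChange R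
              = algebraMap R (Module.End R (R ⊗[k] V)) (algebraMap k R r) :=
            (Module.End.baseChangeHom k R V).commutes r |>.trans
              (IsScalarTower.algebraMap_apply k R _ r)
          rw [hz]
          exact (Algebra.commutes _ h).symm
        | add x y _ _ hx hy => rw [LinearMap.baseChange_add]; exact hx.add_right hy
        | mul x y _ _ hx hy => rw [LinearMap.baseChange_mul]; exact hx.mul_right hy
      exact ⟨h2 _ hs, h2 _ hn⟩
    · rintro ⟨h1, h2⟩
      rw [hX, LinearMap.baseChange_add]; exact h1.add_right h2
  refine ⟨?_, key⟩
  intro g t u hg ht hu hc hgtu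
  constructor
  · intro hh
    have hnil : IsNilpotent (t * (u - 1)) :=
      (hc.sub_right (Commute.one_right t)).isNilpotent_mul_left hu
    have := (key g t (t * (u - 1)) ht hnil
      ((Commute.refl t).mul_right (hc.sub_right (Commute.one_right t)))
      (by rw [hgtu, mul_sub, mul_one, add_sub_cancel])).mp hh
    refine ⟨this.1, ?_⟩
    have hut : IsUnit t := by
      have h' : IsUnit (t * u) := hgtu ▸ hg
      exact ((hc.isUnit_mul_iff).mp h').1
    have hutR : IsUnit (t.baseChange R) := hut.map (Module.End.baseChangeHom k R V)
    obtain ⟨w, hw⟩ := hutR
    have e : u.baseChange R = (↑(w⁻¹) : Module.End R (R ⊗[k] V)) * g.baseChange R := by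
      rw [hgtu, LinearMap.baseChange_mul, ← hw, ← mul_assoc, Units.inv_mul, one_mul]
    rw [e]
    exact (Commute.units_inv_right (hw ▸ this.1)).mul_right hh
  · rintro ⟨h1, h2⟩
    rw [hgtu, LinearMap.baseChange_mul]; exact h1.mul_right h2

end Groth.Agent.S15838
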