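import Groth.Statements.S15839
import Groth.Agent.SchBasics.FPCancel
import Mathlib.AlgebraicGeometry.Morphisms.Separated

set_option autoImplicit false
universe u
open CategoryTheory MonoidalCategory CartesianMonoidalCategory MonObj GrpObj AlgebraicGeometry
open SprIso

namespace Groth.Agent.S15839

/-- Let S be a scheme, G an S-group scheme which is affine and of finite presentation over S, and g a
section of G over S. Then the centralizer of g — the subfunctor of G whose points with values in an
S-scheme T are the points x of G with x g_T = g_T x — is represented by a closed subscheme of G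
whose inclusion is of finite presentation. -/
theorem result (S : Scheme.{u}) (G : Over S) [GrpObj G]
    [IsAffineHom G.hom] [LocallyOfFinitePresentation G.hom] (g : 𝟙_ (Over S) ⟶ G) :
    ∃ (Z : Over S) (j : Z ⟶ G), IsClosedImmersion j.left ∧ LocallyOfFinitePresentation j.left ∧
      ∀ (T : Over S) (x : T ⟶ G), (∃ z : T ⟶ Z, z ≫ j = x) ↔
        x * (toUnit T ≫ g) = (toUnit T ≫ g) * x := by
  let c : G ⟶ G := toUnit G ≫ g
  let a : G ⟶ G := 𝟙 G * c
  let b : G ⟶ G := c * 𝟙 G
  refine ⟨Limits.equalizer a b, Limits.equalizer.ι a b, inferInstance, ?_, fun T x => ?_⟩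
  · have h : LocallyOfFinitePresentation (Limits.pullback.diagonal G.hom) :=
      SchBasics.locallyOfFinitePresentation_diagonal G.hom
    refine MorphismProperty.of_isPullback (P := @LocallyOfFinitePresentation)
      ((Limits.isPullback_equalizer_prod a b).map (Over.forget _)).flip ?_
    change LocallyOfFinitePresentation (Limits.prod.lift (𝟙 G) (𝟙 G)).left
    rw [← MorphismProperty.cancel_right_of_respectsIso @LocallyOfFinitePresentation _
      (Over.prodLeftIsoPullback G G).hom]
    convert h
    ext1 <;> simp [← Over.comp_left] <;>
      first | (erw [Limits.prod.lift_fst]; rfl) | (erw [Limits.prod.lift_snd]; rfl)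
  · have hc : x ≫ c = toUnit T ≫ g := by
      simp only [c, ← Category.assoc, toUnit_unique (x ≫ toUnit G) (toUnit T)]
    have key : x ≫ a = x * (toUnit T ≫ g) ∧ x ≫ b = (toUnit T ≫ g) * x := by
      simp only [a, b, MonObj.comp_mul, Category.comp_id, hc, and_self]
    rw [← key.1, ← key.2]
    constructor
    · rintro ⟨z, rfl⟩
      rw [Category.assoc, Category.assoc, Limits.equalizer.condition]
    · intro h
      exact ⟨Limits.equalizer.lift x h, Limits.equalizer.lift_ι x h⟩

end Groth.Agent.S15839
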