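import Groth.Statements.S15840

set_option autoImplicit false
universe u
open SprIso

namespace Groth.Agent.S15840

/-- For G = SL_n (n = r + 1) over a field of characteristic p > 0, write n = m p^e with m prime to p, so
that the identity component of the centre of G is μ_{p^e} embedded diagonally. The character of the
i-th exterior power of the standard representation takes the value C(n, i) α^i at a point α of
μ_{p^e}, and this is constant: for every commutative ring R of characteristic p and every α in R
with α^(p^e) = 1 one has C(n, i) α^i = C(n, i) in R, for all i. -/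
theorem result (p : ℕ) [Fact p.Prime] (R : Type u) [CommRing R]
    [CharP R p] (n : ℕ) (hn : 0 < n) (α : R) (hα : α ^ (p ^ padicValNat p n) = 1) (i : ℕ) :
    (n.choose i : R) * α ^ i = (n.choose i : R) := by
  haveI hp : p.Prime := Fact.out
  set e := padicValNat p n with he
  by_cases hdvd : p ∣ n.choose i
  · have : (n.choose i : R) = 0 := (CharP.cast_eq_zero_iff R p _).mpr hdvd
    rw [this, zero_mul]
  · have hi : p ^ e ∣ i := by
      rcases Nat.eq_zero_or_pos i with rfl | hi
      · exact dvd_zero _
      obtain ⟨j, rfl⟩ := Nat.exists_eq_succ_of_ne_zero hi.ne'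
      obtain ⟨m, rfl⟩ := Nat.exists_eq_succ_of_ne_zero hn.ne'
      have h1 : p ^ e ∣ (m + 1).choose (j + 1) * (j + 1) := by
        rw [← Nat.add_one_mul_choose_eq]
        exact Dvd.dvd.mul_right (by rw [he]; exact pow_padicValNat_dvd) _
      exact (Nat.Coprime.pow_left e (hp.coprime_iff_not_dvd.mpr hdvd)).dvd_of_dvd_mul_left h1
    obtain ⟨c, rfl⟩ := hi
    rw [pow_mul, hα, one_pow, mul_one]

end Groth.Agent.S15840
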