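import Groth.Statements.S15841

set_option autoImplicit false
universe u
open scoped TensorProduct
open SprIso

namespace Groth.Agent.S15841

/-- For a connected reductive group G with maximal torus T whose derived group is simply connected, and
a Coxeter element w (the product of the simple reflections, each once, in any order), an element of
Lie T = k ⊗ X_*(T) fixed by Ad(w) is killed by the differential of every simple root, i.e. lies in
the centre of Lie G. In root-datum form: let P be a root pairing over ℤ with character lattice M and
cocharacter lattice N, b a base, and suppose each simple coroot has a dual character ω_i in M with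
⟨ω_i, α_i^∨⟩ = 1 and ⟨ω_i, α_j^∨⟩ = 0 for every other simple j (the simply connected derived group
hypothesis). If l lists the simple roots without repetition, w^∨ is the composite of the
coreflections along l acting on N, k is a field and H in k ⊗ N satisfies w^∨_k H = H, then (α_i)_k H
= 0 for every simple root α_i, where (α_i)_k is the base change to k of the functional ⟨α_i, −⟩ on
N. (Stated for an arbitrary field k; the published setting is an algebraically closed field, and the
argument does not depend on k.) -/
theorem result {ι M N : Type u} [AddCommGroup M] [AddCommGroup N]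
    (P : RootPairing ι ℤ M N) (b : P.Base)
    (hsc : ∀ i ∈ b.support, ∃ ω : M, P.coroot' i ω = 1 ∧ ∀ j ∈ b.support, j ≠ i → P.coroot' j ω = 0)
    (l : List ι) (hl : l.Nodup) (hlb : ∀ i : ι, i ∈ l ↔ i ∈ b.support)
    (k : Type u) [Field k] (H : k ⊗[ℤ] N)
    (hH : ((l.map (fun i => ((P.coreflection i : N ≃ₗ[ℤ] N) : N →ₗ[ℤ] N))).prod).baseChange k H = H) :
    ∀ i ∈ b.support, (P.root' i).baseChange k H = 0 := by
  classical
  let r : ι → (k ⊗[ℤ] N →ₗ[k] k ⊗[ℤ] ℤ) := fun i => (P.root' i).baseChange k
  let v : ι → k ⊗[ℤ] N := fun i => (1 : k) ⊗ₜ[ℤ] P.coroot i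
  let s : ι → Module.End k (k ⊗[ℤ] N) := fun i =>
    ((P.coreflection i : N ≃ₗ[ℤ] N) : N →ₗ[ℤ] N).baseChange k
  let e : k ⊗[ℤ] ℤ ≃ₗ[k] k := TensorProduct.AlgebraTensorModule.rid ℤ k k
  have hs : ∀ i x, s i x = x - e (r i x) • v i := by
    intro i x
    induction x using TensorProduct.induction_on with
    | zero => simp
    | tmul a n =>
      simp only [s, r, v, e, LinearMap.baseChange_tmul, LinearEquiv.coe_coe,
        RootPairing.coreflection_apply, TensorProduct.tmul_sub,
        TensorProduct.AlgebraTensorModule.rid_tmul, TensorProduct.smul_tmul', smul_eq_mul, mul_one]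
      congr 1
      rw [TensorProduct.smul_tmul]
    | add x y hx hy => simp only [map_add, hx, hy, add_smul]; abel
  have hprod : ∀ m : List ι,
      ((m.map (fun i => ((P.coreflection i : N ≃ₗ[ℤ] N) : N →ₗ[ℤ] N))).prod).baseChange k =
        (m.map s).prod := by
    intro m
    induction m with
    | nil => simp [Module.End.one_eq_id]
    | cons i m ih =>
      rw [List.map_cons, List.prod_cons, List.map_cons, List.prod_cons, LinearMap.baseChange_mul, ih]
  rw [hprod] at hH
  choose ω hω1 hω0 using hsc
  -- coordinates along the coroots
  let φ : ∀ i ∈ b.support, k ⊗[ℤ] N →ₗ[k] k := fun i hi =>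
    e.toLinearMap ∘ₗ (P.toLinearMap (ω i hi)).baseChange k
  have hφ : ∀ i (hi : i ∈ b.support) j, j ∈ b.support → φ i hi (v j) = if j = i then 1 else 0 := by
    intro i hi j hj
    have : P.toLinearMap (ω i hi) (P.coroot j) = if j = i then 1 else 0 := by
      have h0 : P.toLinearMap (ω i hi) (P.coroot j) = P.coroot' j (ω i hi) := rfl
      rw [h0]
      split_ifs with h
      · subst h; exact hω1 j hi
      · exact hω0 i hi j hj h
    simp only [φ, v, e, LinearMap.comp_apply, LinearMap.baseChange_tmul, this, LinearEquiv.coe_coe,
      TensorProduct.AlgebraTensorModule.rid_tmul]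
    split_ifs <;> simp
  have main : ∀ m : List ι, m.Nodup → (∀ i ∈ m, i ∈ b.support) → ∀ x, (m.map s).prod x = x →
      ∀ i ∈ m, e (r i x) = 0 := by
    intro m
    induction m with
    | nil => simp
    | cons i m ih =>
      intro hn hsub x hx
      rw [List.nodup_cons] at hn
      have hi : i ∈ b.support := hsub i List.mem_cons_self
      have aux : ∀ (m' : List ι), (∀ j ∈ m', j ∈ b.support ∧ j ≠ i) →
          φ i hi ((m'.map s).prod x) = φ i hi x := by
        intro m'
        induction m' with
        | nil => simp
        | cons j m' ih' =>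
          intro hm'
          rw [List.map_cons, List.prod_cons, Module.End.mul_apply, hs, map_sub, map_smul,
            hφ i hi j (hm' j List.mem_cons_self).1, if_neg (hm' j List.mem_cons_self).2, smul_zero,
            sub_zero, ih' (fun l hl => hm' l (List.mem_cons_of_mem j hl))]
      rw [List.map_cons, List.prod_cons, Module.End.mul_apply, hs] at hx
      have h1 := congrArg (φ i hi) hx
      rw [map_sub, map_smul, hφ i hi i hi, if_pos rfl,
        aux m (fun j hj => ⟨hsub j (List.mem_cons_of_mem i hj), fun h => hn.1 (h ▸ hj)⟩),
        smul_eq_mul, mul_one, sub_eq_self] at h1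
      rw [h1, zero_smul, sub_zero] at hx
      rw [hx] at h1
      intro j hj
      rcases List.mem_cons.mp hj with rfl | hj
      · exact h1
      · exact ih hn.2 (fun l hl => hsub l (List.mem_cons_of_mem i hl)) x hx j hj
  intro i hi
  exact e.map_eq_zero_iff.mp (main l hl (fun j hj => (hlb j).mp hj) H hH i ((hlb i).mpr hi))

end Groth.Agent.S15841
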