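import Groth.Statements.S15843
import Groth.Agent.SchBasics.RegMatrixFlat
import Mathlib.RingTheory.Flat.Localization

set_option autoImplicit false
universe u
open SprIso

namespace Groth.Agent.S15843

/-- The flatness assertion, for a section of the group and equally for a section of its Lie algebra, in
the case G = GL_n (its derived group SL_n is simply connected and every prime is good for it, so the
hypotheses on the fundamental group and on the characteristic that the general statement needs hold
over every base, and strong regularity is regularity). Let A be a commutative ring and g an n × n
matrix over A — a section of GL_n when invertible, of its Lie algebra gl_n in general; in both cases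
the centralizer in GL_n is the scheme of invertible matrices commuting with g — which is fiberwise
regular (at every field-valued point A → K the commutant of g_K in M_n(K) has dimension n). Then the
centralizer Z_{GL_n}(g) is flat over A; concretely, with X the generic n × n matrix over A[x_ij],
the ring obtained from A[x_ij] by dividing by the entries of X g − g X and inverting det X is a flat
A-module. -/
theorem result (A : Type u) [CommRing A] (n : ℕ)
    (g : Matrix (Fin n) (Fin n) A)
    (hreg : ∀ (K : Type u) [Field K] (φ : A →+* K),
      Module.finrank K (Subalgebra.centralizer K ({g.map φ} : Set (Matrix (Fin n) (Fin n) K))) = n) :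
    Module.Flat A (Localization.Away
      (Ideal.Quotient.mk (Ideal.span (Set.range fun ij : Fin n × Fin n =>
        (Matrix.mvPolynomialX (Fin n) (Fin n) A * g.map MvPolynomial.C -
          g.map MvPolynomial.C * Matrix.mvPolynomialX (Fin n) (Fin n) A :
            Matrix (Fin n) (Fin n) (MvPolynomial (Fin n × Fin n) A)) ij.1 ij.2))
        (Matrix.mvPolynomialX (Fin n) (Fin n) A).det)) := by
  haveI := Groth.Agent.SchBasics.flat_commutant g hreg
  haveI := fun (R : Type u) [CommRing R] (r : R) => IsLocalization.flat (Localization.Away r) (Submonoid.powers r)
  exact Module.Flat.trans A (MvPolynomial (Fin n × Fin n) A ⧸ Ideal.span (Set.range fun ij : Fin n × Fin n =>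
        (Matrix.mvPolynomialX (Fin n) (Fin n) A * g.map MvPolynomial.C -
          g.map MvPolynomial.C * Matrix.mvPolynomialX (Fin n) (Fin n) A :
            Matrix (Fin n) (Fin n) (MvPolynomial (Fin n × Fin n) A)) ij.1 ij.2)) _

end Groth.Agent.S15843
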