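import Groth.Statements.S15845
import Groth.Agent.SchBasics.RegMatrix
import Mathlib.LinearAlgebra.Matrix.Block

set_option autoImplicit false
universe u
open SprIso

namespace Groth.Agent.S15845

/-- General linear group case: this is the case G = GL_n with its upper-triangular Borel subgroup B
(derived group SL_n simply connected, all primes good, so the hypotheses on the characteristic
hold), together with the companion statement for a regular nilpotent element of Lie B. Let k be a
field and u an n × n upper-triangular matrix over k whose diagonal entries are all equal and whose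
superdiagonal entries u_{i,i+1} are all non-zero — for diagonal 1 this is a regular unipotent
element of B(k), for diagonal 0 a regular nilpotent element of Lie B. Then the centralizer of u in
GL_n is contained in B and is the product of the centre with the centralizer in the unipotent
radical: for every commutative k-algebra R and every invertible x ∈ M_n(R) commuting with u_R, x is
upper triangular and its diagonal entries are all equal. (The smoothness of the centralizer in the
unipotent radical, also part of the published statement, is not stated here.) -/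
theorem result (k : Type u) [Field k] (n : ℕ)
    (u : Matrix (Fin n) (Fin n) k) (htri : ∀ i j : Fin n, j < i → u i j = 0) (hdiag : ∀ i j : Fin n, u i i = u j j)
    (hreg : ∀ (i j : Fin n), j.val = i.val + 1 → u i j ≠ 0)
    (R : Type u) [CommRing R] [Algebra k R] (x : Matrix (Fin n) (Fin n) R) (hx : IsUnit x)
    (hxu : x * u.map (algebraMap k R) = u.map (algebraMap k R) * x) :
    (∀ i j : Fin n, j < i → x i j = 0) ∧ (∀ i j : Fin n, x i i = x j j) := by
  classical
  rcases Nat.eq_zero_or_pos n with rfl | hn
  · exact ⟨fun i => i.elim0, fun i => i.elim0⟩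
  let z : Fin n := ⟨0, hn⟩
  let N : Matrix (Fin n) (Fin n) k := u - Matrix.scalar (Fin n) (u z z)
  have hN : ∀ i j : Fin n, (j : ℕ) < i + 1 → N i j = 0 := by
    intro i j h
    rcases (Nat.le_of_lt_succ h).lt_or_eq with h' | h'
    · have hne : i ≠ j := fun e => absurd (congrArg Fin.val e) (Nat.ne_of_gt h')
      simp [N, htri i j h', Matrix.diagonal_apply_ne _ hne]
    · obtain rfl := Fin.ext h'
      simp [N, hdiag j z]
  have hNs : ∀ i j : Fin n, j.val = i.val + 1 → N i j ≠ 0 := by
    intro i j h
    have hne : i ≠ j := fun e => by rw [e] at h; omega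
    simpa [N, Matrix.diagonal_apply_ne _ hne] using hreg i j h
  have hpow : ∀ m : ℕ, (∀ i j : Fin n, (j : ℕ) < i + m → (N ^ m) i j = 0) ∧
      (∀ i j : Fin n, (j : ℕ) = i + m → (N ^ m) i j ≠ 0) := by
    intro m
    induction m with
    | zero =>
      refine ⟨fun i j h => ?_, fun i j h => ?_⟩
      · rw [pow_zero, Matrix.one_apply_ne]; exact fun e => absurd (congrArg Fin.val e) (by omega)
      · obtain rfl : j = i := Fin.ext (by omega)
        simp
    | succ m ih =>
      refine ⟨fun i j h => ?_, fun i j h => ?_⟩
      · rw [pow_succ, Matrix.mul_apply]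
        refine Finset.sum_eq_zero fun l _ => ?_
        rcases Nat.lt_or_ge (l : ℕ) (i + m) with h1 | h1
        · rw [ih.1 i l h1, zero_mul]
        · rw [hN l j (by omega), mul_zero]
      · let l₀ : Fin n := ⟨i + m, by omega⟩
        rw [pow_succ, Matrix.mul_apply, Finset.sum_eq_single l₀]
        · exact mul_ne_zero (ih.2 i l₀ rfl) (hNs l₀ j (by simp [l₀]; omega))
        · intro l _ hl
          rcases Nat.lt_or_ge (l : ℕ) (i + m) with h1 | h1
          · rw [ih.1 i l h1, zero_mul]
          · have : (l : ℕ) ≠ i + m := fun e => hl (Fin.ext e)
            rw [hN l j (by omega), mul_zero]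
        · exact fun h' => absurd (Finset.mem_univ _) h'
  let v : Fin n → k := Pi.single ⟨n - 1, by omega⟩ 1
  have hK : IsUnit (Groth.Agent.SchBasics.krylov N v).det := by
    set M := (Groth.Agent.SchBasics.krylov N v).submatrix id Fin.revPerm with hM
    have hMij : ∀ i j : Fin n, M i j = (N ^ (n - 1 - (j : ℕ))) i ⟨n - 1, by omega⟩ := by
      intro i j
      simp only [hM, Matrix.submatrix_apply, id_eq, Fin.revPerm_apply,
        Groth.Agent.SchBasics.krylov, Matrix.of_apply, v, Matrix.mulVec_single_one, Matrix.col_apply,
        Fin.val_rev]
      rw [show n - ((j : ℕ) + 1) = n - 1 - (j : ℕ) by omega]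
    have hlow : M.IsUpperTriangular := fun i j hij => by
      have hij' : (j : ℕ) < i := hij
      rw [hMij]
      exact (hpow _).1 _ _ (by have := j.isLt; simp; omega)
    have hdet : M.det ≠ 0 := by
      rw [Matrix.det_of_isUpperTriangular hlow, Finset.prod_ne_zero_iff]
      intro i _
      rw [hMij]
      exact (hpow _).2 _ _ (by have := i.isLt; simp; omega)
    rw [hM, Matrix.det_permute'] at hdet
    exact isUnit_iff_ne_zero.mpr (right_ne_zero_of_mul hdet)
  let f := algebraMap k R
  have hKR : IsUnit (Groth.Agent.SchBasics.krylov (N.map f) (f ∘ v)).det := by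
    rw [Groth.Agent.SchBasics.krylov_map, ← RingHom.mapMatrix_apply, ← RingHom.map_det]
    exact hK.map f
  have hxN : x * N.map f = N.map f * x := by
    have e : N.map f = u.map f - Matrix.scalar (Fin n) (f (u z z)) := by
      simp [N, Matrix.map_sub, Matrix.diagonal_map, Function.comp_def]
    rw [e, mul_sub, sub_mul, hxu]
    congr 1
    exact ((Matrix.scalar_commute (f (u z z)) (Commute.all _) x).eq).symm
  have hxe := Groth.Agent.SchBasics.eq_sum_of_commute (N.map f) (f ∘ v) hKR x hxN
  have hNR : ∀ m : ℕ, (N.map f) ^ m = (N ^ m).map f := fun m => (map_pow f.mapMatrix N m).symm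
  constructor
  · intro i j hij
    rw [hxe, Matrix.sum_apply]
    refine Finset.sum_eq_zero fun m _ => ?_
    rw [Matrix.smul_apply, hNR, Matrix.map_apply, (hpow m).1 i j (by
      have : (j : ℕ) < i := hij
      omega), map_zero, smul_zero]
  · intro i j
    rw [hxe, Matrix.sum_apply, Matrix.sum_apply]
    refine Finset.sum_congr rfl fun m _ => ?_
    rcases Nat.eq_zero_or_pos (m : ℕ) with hm | hm
    · simp [hm]
    · rw [Matrix.smul_apply, Matrix.smul_apply, hNR, Matrix.map_apply, Matrix.map_apply,
        (hpow m).1 i i (by omega), (hpow m).1 j j (by omega)]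

end Groth.Agent.S15845
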