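import Groth.Statements.S15846
import Mathlib

set_option autoImplicit false
open Surf

noncomputable section
namespace Groth.Agent.S15846.AuxS46
open Finset
theorem result (x : ℤ) (hx : 3 ≤ x) (b : ℤ) (a : Fin 8 → ℤ)
    (h1 : ∑ i, a i ^ 2 = x + b ^ 2) (h2 : -(∑ i, a i) = x - 2 + 3 * b) (hb : 0 < b) : b ≤ 2 := by
  by_contra h
  have hcs := sq_sum_le_card_mul_sum_sq (s := (univ : Finset (Fin 8))) (f := a)
  rw [h1, show (∑ i, a i) = -(x - 2 + 3*b) by linarith] at hcs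
  simp at hcs
  nlinarith [mul_nonneg (by linarith : (0:ℤ) ≤ x-3) (by linarith : (0:ℤ) ≤ b-3), sq_nonneg (b-3), sq_nonneg (x-3)]

theorem result47 (x b : ℤ) (a : Fin 8 → ℤ)
    (h1 : ∑ i, a i ^ 2 = x + b ^ 2) (h2 : -(∑ i, a i) = x - 2 + 3 * b) (hb : b = 1 ∨ b = 2) :
    (∀ i, a i = 0 ∨ a i = -1) ∧ ((Finset.univ.filter (fun i => a i = -1)).card : ℤ) = x + b ^ 2 := by
  have hs : ∑ i, (a i ^ 2 + a i) = 0 := by
    rw [sum_add_distrib]; rcases hb with rfl | rfl <;> linarith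
  have hnn : ∀ i ∈ (univ : Finset (Fin 8)), 0 ≤ a i ^ 2 + a i := by
    intro i _; rcases le_or_gt 0 (a i) with h | h
    · positivity
    · nlinarith
  have h0 : ∀ i, a i = 0 ∨ a i = -1 := by
    intro i
    have := (sum_eq_zero_iff_of_nonneg hnn).1 hs i (mem_univ i)
    have h' : a i * (a i + 1) = 0 := by linarith
    rcases mul_eq_zero.1 h' with h | h <;> omega
  refine ⟨h0, ?_⟩
  rw [← h1, card_filter]; push_cast
  refine sum_congr rfl fun i _ => ?_
  rcases h0 i with h | h <;> simp [h]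
end Groth.Agent.S15846.AuxS46

end

namespace Groth.Agent.S15846

/-- Let x ≥ 3 be an integer and let b, a_1, …, a_8 be integers with a_1^2 + ⋯ + a_8^2 = x + b^2 and
-(a_1 + ⋯ + a_8) = x - 2 + 3b (the system governing walls for rank-two sheaves on the projective
plane blown up in at most eight points). If b > 0, then b ≤ 2. -/
theorem result (x : ℤ) (hx : 3 ≤ x) (b : ℤ) (a : Fin 8 → ℤ)
    (h1 : ∑ i, a i ^ 2 = x + b ^ 2) (h2 : -(∑ i, a i) = x - 2 + 3 * b) (hb : 0 < b) : b ≤ 2 := by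
  exact AuxS46.result x hx b a h1 h2 hb

end Groth.Agent.S15846
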