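import Groth.Statements.S15870
import Groth.Statements.S15870
import Groth.Agent.Tors37.SmoothFinite
import Groth.Agent.Sga84.TorsorDesc
import Mathlib.AlgebraicGeometry.Morphisms.LocalFlatDescent

set_option autoImplicit false
universe u
open CategoryTheory MonoidalCategory CartesianMonoidalCategory MonObj GrpObj AlgebraicGeometry
open NonAbH1

namespace Groth.Agent.S15870

/-- Let π : S' → S be finite locally free (finite, flat, locally of finite presentation), G a smooth
S'-group scheme and E an fppf G-torsor over S'. Then E trivializes fppf locally on S: some fppf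
covering family of S consists of morphisms U → S such that E has a section over U ×_S S' → S'. (The
published statement is for a variable S-scheme T, torsors over S' ×_S T and G a group algebraic
space; this row is the case T = S with G a scheme, to which the general case reduces by base change
of π.) -/
theorem result
    {S S' : Scheme.{u}} (π : S' ⟶ S) [IsFinite π] [Flat π] [LocallyOfFinitePresentation π]
    (G : Over S') [GrpObj G] [Smooth G.hom]
    (E : NonAbH1.TorsorSch G Scheme.fppfPrecoverage) :
    ∃ R ∈ Scheme.fppfPrecoverage S, ∀ ⦃U : Scheme.{u}⦄ (g : U ⟶ S), R g →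
      NonAbH1.HasSectionOver E.X (Limits.pullback.snd g π) := by
  obtain ⟨hps, R, hR, hsec⟩ := E.isTorsor
  have h' : NonAbH1.IsTorsorFor Scheme.fpqcPrecoverage E.act :=
    ⟨hps, R, Scheme.fppfPrecoverage_le_fpqcPrecoverage _ hR, hsec⟩
  have hd : MorphismProperty.DescendsAlong @Smooth Groth.Agent.Unr55.fpqc.{u} := by infer_instance
  have : Smooth E.X.hom := Groth.Agent.Sga84.hom_of_isTorsorFor @Smooth ‹Smooth G.hom› h'
  have : Surjective E.X.hom := Groth.Agent.Sga84.surjective_of_isLocallyTrivialFor h'.2
  obtain ⟨R', hR', hs⟩ := Groth.Agent.Tors37.exists_fppf_cover_section π E.X.hom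
  exact ⟨R', hR', fun U g hg => hs g hg⟩

end Groth.Agent.S15870
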