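import Groth.Statements.S15874
import Groth.Agent.S15873
import Groth.Agent.Tors37.Class

set_option autoImplicit false
universe u
open CategoryTheory MonoidalCategory CartesianMonoidalCategory MonObj GrpObj AlgebraicGeometry
open NonAbH1

namespace Groth.Agent.S15874

/-- Let G be an étale k-group scheme and S a normal integral k-scheme with generic point η. Then an fppf
torsor over S under G whose base change to Spec κ(η) is trivial is itself trivial: the kernel of
H¹(S, G) → H¹(κ(η), G) on classes of torsors that are schemes is the base point. (The published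
statement takes S merely integral; the connected étale double cover of a nodal cubic over an
algebraically closed field is a non-trivial torsor under the constant group of order 2 that is
trivial at the generic point, so S is taken normal here, which is what the published proof uses.) -/
theorem result (k : Type u) [Field k]
    (G : Over (Spec (CommRingCat.of k))) [GrpObj G] [Etale G.hom]
    (S : Scheme.{u}) [IsIntegral S] (hS : Pi1.IsNormalScheme S) (s : S ⟶ Spec (CommRingCat.of k))
    (c : NonAbH1.H1Sch (Red.bc s G) Scheme.fppfPrecoverage)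
    (hc : NonAbH1.H1Sch.bcMap (S.fromSpecResidueField (genericPoint S)) (Red.bc s G) Scheme.fppfPrecoverage c = 1) :
    c = 1 := by
  obtain ⟨P, rfl⟩ := Quot.exists_rep c
  have hK : ∀ {T : Scheme.{u}}, ∀ R, R ∈ Scheme.fppfPrecoverage T → R ∈ Scheme.fpqcPrecoverage T :=
    fun {T} R hR => Scheme.fppfPrecoverage_le_fpqcPrecoverage _ hR
  obtain ⟨σ, hσ⟩ := (Groth.Agent.Tors37.cl_eq_one_iff (fun T => Scheme.fppfPrecoverage_le_fpqcPrecoverage T)
    (P.bc (S.fromSpecResidueField (genericPoint S)))).mp hc
  refine (Groth.Agent.Tors37.cl_eq_one_iff (fun T => Scheme.fppfPrecoverage_le_fpqcPrecoverage T) P).mpr ?_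
  have hsec : ∃ σ₁ : Spec (S.residueField (genericPoint S)) ⟶ Limits.pullback P.X.hom (S.fromSpecResidueField (genericPoint S)),
      σ₁ ≫ Limits.pullback.snd _ _ = 𝟙 _ := ⟨σ, hσ⟩
  obtain ⟨σ₁, hσ₁⟩ := hsec
  obtain ⟨τ, hτ, -⟩ := (Groth.Agent.S15873.result k G S hS s P).2
    (σ₁ ≫ Limits.pullback.fst P.X.hom _) (by
      rw [Category.assoc, Limits.pullback.condition, ← Category.assoc, hσ₁, Category.id_comp])
  exact ⟨τ, hτ⟩

end Groth.Agent.S15874
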