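import Groth.Statements.S1588
import Groth.Agent.Node12.Point

set_option autoImplicit false
set_option backward.isDefEq.respectTransparency.types false
universe u
open CategoryTheory CategoryTheory.Limits AlgebraicGeometry
open Curves

namespace Groth.Agent.S1588

/-- Let K be a field extension of k, X locally of finite type over k of dimension one, and y a point of
X_K with image x in X. Then x is a node of X (in particular closed) if and only if y is a node of
X_K. -/
theorem result (k : Type u) [Field k] (X : Scheme.{u}) [X.Over (Spec (CommRingCat.of k))] [LocallyOfFiniteType (X ↘ (Spec (CommRingCat.of k)))]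
    (hdim : topologicalKrullDim X = 1) (K : Type u) [Field K] [Algebra k K] (y : Curv2.bc k X K) :
    Curv2.IsNode k X (Curv2.bcFst k X K y) ↔ @Curv2.IsNode K _ (Curv2.bc k X K) ⟨Curv2.bcSnd k X K⟩ y := by
  let Ω := AlgebraicClosure K
  let : (Curv2.bc k X K).Over (Spec (CommRingCat.of K)) := ⟨Curv2.bcSnd k X K⟩
  have : LocallyOfFiniteType ((Curv2.bc k X K) ↘ Spec (CommRingCat.of K)) :=
    (inferInstance : LocallyOfFiniteType (pullback.snd (X ↘ Spec (CommRingCat.of k))
      (Spec.map (CommRingCat.ofHom (algebraMap k K)))))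
  let : (Curv2.bc K (Curv2.bc k X K) Ω).Over (Spec (CommRingCat.of Ω)) := ⟨Curv2.bcSnd K (Curv2.bc k X K) Ω⟩
  have hK : IsPullback (Curv2.bcFst k X K) ((Curv2.bc k X K) ↘ Spec (CommRingCat.of K))
      (X ↘ Spec (CommRingCat.of k)) (Spec.map (CommRingCat.ofHom (algebraMap k K))) :=
    IsPullback.of_hasPullback _ _
  have hΩ : IsPullback (Curv2.bcFst K (Curv2.bc k X K) Ω) ((Curv2.bc K (Curv2.bc k X K) Ω) ↘ Spec (CommRingCat.of Ω))
      ((Curv2.bc k X K) ↘ Spec (CommRingCat.of K)) (Spec.map (CommRingCat.ofHom (algebraMap K Ω))) :=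
    IsPullback.of_hasPullback _ _
  have hsq : IsPullback (Curv2.bcFst K (Curv2.bc k X K) Ω ≫ Curv2.bcFst k X K)
      ((Curv2.bc K (Curv2.bc k X K) Ω) ↘ Spec (CommRingCat.of Ω)) (X ↘ Spec (CommRingCat.of k))
      (Spec.map (CommRingCat.ofHom (algebraMap k Ω))) := by
    have h := hΩ.paste_horiz hK
    rwa [← Spec.map_comp, ← CommRingCat.ofHom_comp, ← IsScalarTower.algebraMap_eq k K Ω] at h
  constructor
  · intro h
    obtain ⟨hx, hsep, hQ⟩ := (Node12.isNode_iff _).1 h
    have hy := Node12.isClosed_singleton_of_isPullback hK y hx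
    have : Surjective (Spec.map (CommRingCat.ofHom (algebraMap K Ω))) :=
      ⟨fun s => ⟨IsLocalRing.closedPoint Ω, Subsingleton.elim _ _⟩⟩
    obtain ⟨z, rfl⟩ := (Curv2.bcFst K (Curv2.bc k X K) Ω).surjective y
    exact ⟨hy, z, rfl, @Node12.isOrdDoublePt_of _ _ _ _ _ _ _ _ _ _ _ _ hsq z hsep hQ
      (Node12.isClosed_singleton_of_isPullback hΩ z hy)⟩
  · rintro ⟨-, z, rfl, hz⟩
    obtain ⟨hx, hsep, hQ, -⟩ := Node12.of_isOrdDoublePt hsq z hz
    exact (Node12.isNode_iff _).2 ⟨hx, hsep, hQ⟩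

end Groth.Agent.S1588
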