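import Groth.Statements.S15881
import Groth.Agent.Tors37.GlueTorsor
import Groth.Agent.Torsor99.Basic

set_option autoImplicit false
universe u
open CategoryTheory MonoidalCategory CartesianMonoidalCategory MonObj GrpObj AlgebraicGeometry
open NonAbH1

namespace Groth.Agent.S15881

/-- With φ : A → A' and t as in the glueing set-up (A/t^m → A'/t^m bijective for all m, φ bijective on
t-power torsion), G a flat A-group scheme with quasi-affine underlying scheme, and P, P' fppf
G-torsors over A: an equivariant isomorphism of the base changes to A[1/t] and one of the base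
changes to A', which agree over A'[1/t] under the canonical identifications of iterated base
changes, are the base changes of a unique equivariant isomorphism P ≅ P' over A. (The hypothesis h
is the evident commutativity of the square of base rings.) -/
theorem result (A A' : Type u) [CommRing A] [CommRing A']
    (φ : A →+* A') (t : A)
    (hq : ∀ m : ℕ, Function.Bijective (Ideal.quotientMap (Ideal.map φ (Ideal.span {t} ^ m)) φ Ideal.le_comap_map))
    (htor : ∀ a' : A', (∃ m : ℕ, φ t ^ m * a' = 0) → ∃! a : A, (∃ m : ℕ, t ^ m * a = 0) ∧ φ a = a')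
    (h : Spec.map (CommRingCat.ofHom (Localization.awayMap φ t)) ≫
        Spec.map (CommRingCat.ofHom (algebraMap A (Localization.Away t))) =
      Spec.map (CommRingCat.ofHom (algebraMap A' (Localization.Away (φ t)))) ≫ Spec.map (CommRingCat.ofHom φ))
    (G : Over (Spec (CommRingCat.of A))) [GrpObj G] [Flat G.hom] [G.left.IsQuasiAffine]
    (P P' : NonAbH1.TorsorSch G Scheme.fppfPrecoverage)
    (αU : NonAbH1.EquivIso (P.act.bc (Spec.map (CommRingCat.ofHom (algebraMap A (Localization.Away t))))) (P'.act.bc (Spec.map (CommRingCat.ofHom (algebraMap A (Localization.Away t))))))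
    (α' : NonAbH1.EquivIso (P.act.bc (Spec.map (CommRingCat.ofHom φ))) (P'.act.bc (Spec.map (CommRingCat.ofHom φ))))
    (hagree : (NonAbH1.EquivIso.bc (Spec.map (CommRingCat.ofHom (Localization.awayMap φ t))) αU).iso.hom ≫ (ActBC.bcCompIso (Spec.map (CommRingCat.ofHom (Localization.awayMap φ t))) (Spec.map (CommRingCat.ofHom (algebraMap A (Localization.Away t)))) P'.X h).hom =
      (ActBC.bcCompIso (Spec.map (CommRingCat.ofHom (Localization.awayMap φ t))) (Spec.map (CommRingCat.ofHom (algebraMap A (Localization.Away t)))) P.X h).hom ≫ (ActBC.bcCompIso (Spec.map (CommRingCat.ofHom (algebraMap A' (Localization.Away (φ t))))) (Spec.map (CommRingCat.ofHom φ)) P.X rfl).inv ≫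
        (NonAbH1.EquivIso.bc (Spec.map (CommRingCat.ofHom (algebraMap A' (Localization.Away (φ t))))) α').iso.hom ≫ (ActBC.bcCompIso (Spec.map (CommRingCat.ofHom (algebraMap A' (Localization.Away (φ t))))) (Spec.map (CommRingCat.ofHom φ)) P'.X rfl).hom) :
    ∃! α : NonAbH1.EquivIso P.act P'.act,
      (NonAbH1.EquivIso.bc (Spec.map (CommRingCat.ofHom (algebraMap A (Localization.Away t)))) α).iso = αU.iso ∧ (NonAbH1.EquivIso.bc (Spec.map (CommRingCat.ofHom φ)) α).iso = α'.iso := by
  let _ : Algebra A A' := φ.toAlgebra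
  have hg : EtGlue.IsGlueingPair A A' t := Groth.Agent.Tors37.isGlueingPair_of hq htor
  obtain ⟨_, _⟩ := Groth.Agent.Tors37.flat_qa_of_isTorsorFor P.isTorsor
  obtain ⟨_, hqa⟩ := Groth.Agent.Tors37.flat_qa_of_isTorsorFor P'.isTorsor
  let b₁ := Spec.map (CommRingCat.ofHom (algebraMap A (Localization.Away t)))
  let b₂ := Spec.map (CommRingCat.ofHom φ)
  let c₁ := Spec.map (CommRingCat.ofHom (Localization.awayMap φ t))
  let c₂ := Spec.map (CommRingCat.ofHom (algebraMap A' (Localization.Away (φ t))))
  have : IsLocalization ((Submonoid.powers t).map φ) (Localization.Away (φ t)) := by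
    rw [Submonoid.map_powers]; infer_instance
  have hsq : IsPullback c₂ c₁ b₂ b₁ :=
    isPullback_SpecMap_of_isPushout _ _ _ _ (CommRingCat.isPushout_of_isLocalization φ
      (Localization.awayMap φ t) (IsLocalization.map_comp _) (Submonoid.powers t))
  obtain ⟨F, ⟨hF₁, hF₂⟩, huniq⟩ := Groth.Agent.Tors37.existsUnique_over_glue (A' := A') hg
    (Z := P'.X) αU.iso.hom α'.iso.hom (fun W p p' hp => by
      let m : W ⟶ Spec (CommRingCat.of (Localization.Away (φ t))) :=
        hsq.lift (p' ≫ Limits.pullback.snd P.X.hom b₂) (p ≫ Limits.pullback.snd P.X.hom b₁) (by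
          simp only [Category.assoc, ← Limits.pullback.condition]
          exact ((reassoc_of% hp) P.X.hom).symm)
      let w : W ⟶ (Red.bc c₁ (Red.bc b₁ P.X)).left :=
        Limits.pullback.lift p m (hsq.lift_snd _ _ _).symm
      have h1 := congrArg (fun k => w ≫ k.left ≫ Limits.pullback.fst P'.X.hom (c₂ ≫ b₂)) hagree
      let β := ActBC.bcCompIso c₂ b₂ P.X rfl
      let w' : W ⟶ (Red.bc c₂ (Red.bc b₂ P.X)).left :=
        w ≫ (ActBC.bcCompIso c₁ b₁ P.X h).hom.left ≫ β.inv.left
      have hinv : β.inv.left ≫ Limits.pullback.fst _ c₂ ≫ Limits.pullback.fst P.X.hom b₂ =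
          Limits.pullback.fst P.X.hom (c₂ ≫ b₂) := by
        rw [← ActBC.bcCompIso_hom_left_fst (f := c₂) (g := b₂) (X := P.X) rfl]
        rw [← Category.assoc, ← Over.comp_left, Iso.inv_hom_id, Over.id_left, Category.id_comp]
      have hw' : w' ≫ Limits.pullback.fst _ c₂ = p' := by
        apply Limits.pullback.hom_ext
        · simp only [w', Category.assoc, hinv]
          rw [ActBC.bcCompIso_hom_left_fst]
          simp only [w, Limits.pullback.lift_fst_assoc]
          exact hp
        · have e1 : w' ≫ Limits.pullback.snd _ c₂ = m := by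
            simp only [w', Category.assoc]
            rw [show β.inv.left ≫ Limits.pullback.snd _ c₂ = Limits.pullback.snd P.X.hom (c₂ ≫ b₂) from Over.w β.inv]
            rw [ActBC.bcCompIso_hom_left_snd]
            exact Limits.pullback.lift_snd _ _ _
          have e2 : Limits.pullback.fst (Red.bc b₂ P.X).hom c₂ ≫ Limits.pullback.snd P.X.hom b₂ =
              Limits.pullback.snd _ c₂ ≫ c₂ := Limits.pullback.condition
          rw [Category.assoc, e2, reassoc_of% e1]
          exact hsq.lift_fst _ _ _
      have e1 : ∀ {Q R : Over (Spec (CommRingCat.of (Localization.Away t)))} (f : Q ⟶ R),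
          ((Over.pullback c₁).map f).left ≫ Limits.pullback.fst R.hom c₁ = Limits.pullback.fst Q.hom c₁ ≫ f.left :=
        fun f => Limits.pullback.lift_fst _ _ _
      have e2 : ∀ {Q R : Over (Spec (CommRingCat.of A'))} (f : Q ⟶ R),
          ((Over.pullback c₂).map f).left ≫ Limits.pullback.fst R.hom c₂ = Limits.pullback.fst Q.hom c₂ ≫ f.left :=
        fun f => Limits.pullback.lift_fst _ _ _
      simp only [Over.comp_left, Category.assoc] at h1
      erw [ActBC.bcCompIso_hom_left_fst, ActBC.bcCompIso_hom_left_fst] at h1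
      erw [reassoc_of% (e1 αU.iso.hom), reassoc_of% (e2 α'.iso.hom)] at h1
      refine Eq.trans ?_ (h1.trans ?_)
      · rw [← Category.assoc w, show w ≫ Limits.pullback.fst _ c₁ = p from Limits.pullback.lift_fst _ _ _]
      · rw [← hw']
        simp only [w', β, Category.assoc]
        rfl)
  have hμ : ∀ {T : Scheme.{u}} (b : T ⟶ Spec (CommRingCat.of A)) (e : NonAbH1.EquivIso (P.act.bc b) (P'.act.bc b)),
      (Over.pullback b).map F = e.iso.hom →
        (Over.pullback b).map (P.act.act ≫ F) = (Over.pullback b).map ((G ◁ F) ≫ P'.act.act) := by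
    intro T b e he
    have hc := e.comm
    rw [← he, AlgGrp.Action.bc_act, AlgGrp.Action.bc_act, Category.assoc, ← Functor.map_comp] at hc
    rw [← cancel_epi (Functor.LaxMonoidal.μ (Over.pullback b) G P.X), hc,
      Functor.LaxMonoidal.μ_natural_right_assoc, ← Functor.map_comp]
  have : Flat (G ⊗ P.X).hom := inferInstanceAs (Flat (Limits.pullback.fst G.hom P.X.hom ≫ G.hom))
  have heq : P.act.act ≫ F = (G ◁ F) ≫ P'.act.act :=
    Groth.Agent.Tors37.over_hom_ext (A' := A') hg (hμ _ αU hF₁) (hμ _ α' hF₂)
  have hP : NonAbH1.IsTorsorFor Scheme.fpqcPrecoverage P.act := by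
    obtain ⟨hps, C, hC, hsec⟩ := P.isTorsor
    exact ⟨hps, C, Scheme.fppfPrecoverage_le_fpqcPrecoverage _ hC, hsec⟩
  have := Groth.Agent.Torsor99.isIso_of_equivariant hP P'.isTorsor.1 F heq
  refine ⟨⟨asIso F, heq⟩, ⟨Iso.ext hF₁, Iso.ext hF₂⟩, fun α hα => ?_⟩
  obtain ⟨i, hi⟩ := α
  have : i = asIso F := Iso.ext (huniq i.hom ⟨congrArg Iso.hom hα.1, congrArg Iso.hom hα.2⟩)
  subst this
  rfl

end Groth.Agent.S15881
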