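import Groth.Agent.Hopf35.DualExact
import Groth.Statements.S15892

set_option autoImplicit false
universe u
open CartDual

namespace Groth.Agent.S15892

theorem result (R : Type u) [CommRing R] [IsNoetherianRing R]
    (A' A A'' : Type u) [CommRing A'] [HopfAlgebra R A'] [Coalgebra.IsCocomm R A'] [Module.Finite R A']
    [Module.Projective R A'] [CommRing A] [HopfAlgebra R A] [Coalgebra.IsCocomm R A] [Module.Finite R A]
    [Module.Projective R A] [CommRing A''] [HopfAlgebra R A''] [Coalgebra.IsCocomm R A''] [Module.Finite R A'']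
    [Module.Projective R A''] (f : A'' →ₐc[R] A) (hf : (f : A'' →ₐ[R] A).toRingHom.FaithfullyFlat)
    (g : A →ₐc[R] A') (hg : Function.Surjective g)
    (hker : RingHom.ker (g : A →ₐ[R] A') = Ideal.map (f : A'' →ₐ[R] A) (RingHom.ker (Bialgebra.counitAlgHom R A''))) :
    (CartDual.transpose R g : CartDual.D R A' →ₐ[R] CartDual.D R A).toRingHom.FaithfullyFlat ∧
      Function.Surjective (CartDual.transpose R f) ∧
      RingHom.ker (CartDual.transpose R f : CartDual.D R A →ₐ[R] CartDual.D R A'') =
        Ideal.map (CartDual.transpose R g : CartDual.D R A' →ₐ[R] CartDual.D R A)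
          (RingHom.ker (Bialgebra.counitAlgHom R (CartDual.D R A'))) := by
  have h1 := Groth.Agent.Hopf35.DualEx.faithfullyFlat_transpose g hg
  exact ⟨h1, Groth.Agent.Hopf35.DualEx.transpose_surjective f g hker hf,
    Groth.Agent.Hopf35.DualEx.ker_transpose f g hker hf hg h1.flat⟩

end Groth.Agent.S15892
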