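import Mathlib
import Groth.Agent.Hopf35.Basic
import Groth.Statements.S15893

set_option autoImplicit false
universe u v w
open CartDual

namespace Groth.Agent.S15893

open TensorProduct Finset Groth.Agent.Hopf35

theorem result (R : Type u) [CommRing R] (A : Type v) (B : Type w)
    [CommRing A] [HopfAlgebra R A] [Coalgebra.IsCocomm R A] [Module.Finite R A] [Module.Projective R A]
    [CommRing B] [HopfAlgebra R B] [Coalgebra.IsCocomm R B] [Module.Finite R B] [Module.Projective R B] :
    Function.Bijective (fun f : A →ₐc[R] B => CartDual.transpose R f) := by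
  have hb : Function.Bijective (CartDual.eval R B) := by
    constructor
    · intro a b h
      refine eq_of_forall_dual (R := R) fun φ => ?_
      exact congrArg (fun z : CartDual.D R (CartDual.D R B) => z (WithConv.toConv φ)) h
    · intro z
      refine ⟨(Module.evalEquiv R B).symm (z.ofConv ∘ₗ (CartDual.toDual R B).symm.toLinearMap), ?_⟩
      apply WithConv.ext; apply LinearMap.ext; intro x
      show x ((Module.evalEquiv R B).symm _) = z x
      rw [show x ((Module.evalEquiv R B).symm (z.ofConv ∘ₗ (CartDual.toDual R B).symm.toLinearMap)) = x.ofConv ((Module.evalEquiv R B).symm (z.ofConv ∘ₗ (CartDual.toDual R B).symm.toLinearMap)) from rfl,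
        Module.apply_evalEquiv_symm_apply]
      rfl
  let E := BialgEquiv.ofBijective (R := R) (A := B) (B := CartDual.D R (CartDual.D R B)) (CartDual.eval R B) hb
  constructor
  · intro f g h
    ext a
    refine eq_of_forall_dual (R := R) fun φ => ?_
    exact congrArg (fun z : CartDual.D R A => z a) (DFunLike.congr_fun h (WithConv.toConv φ))
  · intro φ
    refine ⟨(E.symm.toBialgHom.comp ((CartDual.transpose R φ).comp (CartDual.eval R A))), ?_⟩
    ext x a
    show x (E.symm (CartDual.transpose R φ (CartDual.eval R A a))) = φ x a
    have := congrArg (fun z : CartDual.D R (CartDual.D R B) => z x) (E.apply_symm_apply (CartDual.transpose R φ (CartDual.eval R A a)))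
    exact this

end Groth.Agent.S15893
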