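import Groth.Statements.S15895
import Groth.Agent.Versch53.Basic

set_option autoImplicit false
set_option linter.unusedVariables false
universe u
open scoped TensorProduct
open Versch

namespace Groth.Agent.S15895

/-- Let p be a prime, R a commutative ring of characteristic p and B = Hom_R(R[ℤ/p], R) the dual Hopf
algebra of the group algebra of the cyclic group of order p: the Hopf algebra of the constant group
scheme ℤ/p over Spec R (the Cartier dual of μ_p). Let v : B → B ⊗_R R^(Frob) be the comorphism of
the Verschiebung V : (ℤ/p)^(p) → ℤ/p (the ring map whose transpose under the canonical pairing is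
the relative Frobenius of the dual Hopf algebra of B). Then V is the trivial homomorphism: v is the
composite of the counit ε : B → R, the identity of underlying rings R → R^(Frob) and the inclusion
of the twisted factor R^(Frob) → B ⊗_R R^(Frob), i.e. v(b) = 1 ⊗ ε(b). -/
theorem result (p : ℕ) [Fact p.Prime] (R : Type u) [CommRing R]
    [CharP R p] (v : CartDual.D R (MonoidAlgebra R (Multiplicative (ZMod p))) →+* FrobAlg.BaseChange p R (CartDual.D R (MonoidAlgebra R (Multiplicative (ZMod p)))))
    (hv : Versch.IsVerschiebung p R (CartDual.D R (MonoidAlgebra R (Multiplicative (ZMod p)))) v) :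
    v = ((Algebra.TensorProduct.includeRight (R := R) (A := CartDual.D R (MonoidAlgebra R (Multiplicative (ZMod p))))
            (B := FrobAlg.Twist p R)).toRingHom.comp (FrobAlg.toTwist p R).toRingHom).comp
          (Bialgebra.counitAlgHom R (CartDual.D R (MonoidAlgebra R (Multiplicative (ZMod p))))).toRingHom := by
  apply RingHom.ext
  intro b
  rw [Versch.isVerschiebung_iff] at hv
  refine Versch.evTw_injective p R (CartDual.D R (MonoidAlgebra R (Multiplicative (ZMod p)))) fun x => ?_
  obtain ⟨a, rfl⟩ := (Groth.Agent.Versch53.eval_bijective R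
    (MonoidAlgebra R (Multiplicative (ZMod p)))).2 x
  have hp0 : (p : MonoidAlgebra R (Multiplicative (ZMod p))) = 0 :=
    Groth.Agent.Versch53.natCast_conv_eq_zero (R := R) (CharP.cast_eq_zero R p)
  have ha : a ^ p = (Coalgebra.counit (R := R) a) ^ p • (1 : MonoidAlgebra R (Multiplicative (ZMod p))) := by
    induction a using MonoidAlgebra.induction_linear with
    | zero => simp [zero_pow (Fact.out : p.Prime).ne_zero]
    | add f g hf hg =>
      obtain ⟨r, hr⟩ := exists_add_pow_prime_eq (Fact.out : p.Prime) f g
      rw [hr, hp0, zero_mul, zero_mul, zero_mul, add_zero, hf, hg, map_add, add_pow_char, add_smul]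
    | single g c =>
      have hg : g ^ p = 1 := by
        rw [← ofAdd_toAdd g, ← ofAdd_nsmul, nsmul_eq_mul, ZMod.natCast_self, zero_mul]
        rfl
      rw [MonoidAlgebra.single_pow, hg, MonoidAlgebra.one_def, MonoidAlgebra.smul_single,
        MonoidAlgebra.counit_single, smul_eq_mul, mul_one]
      rfl
  rw [hv, ← map_pow]
  simp only [RingHom.comp_apply, AlgHom.toRingHom_eq_coe, RingHom.coe_coe,
    RingEquiv.toRingHom_eq_coe, Algebra.TensorProduct.includeRight_apply,
    Bialgebra.counitAlgHom_apply]
  erw [Versch.evTw_tmul']
  simp only [CartDual.eval_apply, ha, CartDual.coalgebra_counit_apply]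
  rw [← map_mul]
  congr 1
  simp only [CartDual.coe_apply, map_smul, smul_eq_mul]
  simp [LinearMap.convOne_def]
end Groth.Agent.S15895
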