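import Groth.Statements.S15896
import Groth.Agent.FinHopf34.MultPart
import Groth.Agent.FinHopf34.Sep

set_option autoImplicit false
universe u
open scoped TensorProduct
open Hopf

namespace Groth.Agent.S15896

/-- Let R be a henselian Noetherian local ring and A a commutative and cocommutative Hopf algebra over R
which is finitely generated and projective as an R-module (a finite flat commutative R-group G =
Spec A). Let e ∈ A be an idempotent with ε(e) = 1 such that the ideal (1 − e) is a Hopf ideal and A⁰
= A/(1 − e) is a local ring, projective over R, with cocommutative quotient structure (G⁰ = Spec A⁰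
is the connected component of the unit section). Let B = Hom_R(A⁰, R) be the dual Hopf algebra (the
Cartier dual (G⁰)^D) and e' ∈ B an idempotent with ε(e') = 1 and B/(1 − e') local (the unit
component of (G⁰)^D). Say that x ∈ B is invariant when (id ⊗ (multiplication by e'))(Δ x) = x ⊗ e',
i.e. x is invariant under translation by the unit component of (G⁰)^D, so that the invariant
elements form the Hopf algebra of the maximal étale quotient of (G⁰)^D; the ideal in A⁰ of the
closed subgroup G_μ ⊆ G⁰ ⊆ G consists of the elements annihilated by every invariant x (G_μ is the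
Cartier dual of the étale quotient of (G⁰)^D, a connected multiplicative subgroup of G). Then G_μ is
the largest connected multiplicative closed subgroup of G: for every Hopf ideal J of A such that A/J
is a local ring, projective over R, cocommutative, and has étale dual Hopf algebra Hom_R(A/J, R) (H
= Spec A/J a connected closed subgroup with étale Cartier dual), every a ∈ A whose image in A⁰ is
annihilated by all invariant x lies in J, i.e. H ⊆ G_μ. -/
theorem result (R : Type u) [CommRing R]
    [HenselianLocalRing R] [IsNoetherianRing R] (A : Type u) [CommRing A] [HopfAlgebra R A] [Coalgebra.IsCocomm R A]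
    [Module.Finite R A] [Module.Projective R A] (e : A) (he : IsIdempotentElem e)
    (hε : Bialgebra.counitAlgHom R A e = 1) [(Ideal.span ({1 - e} : Set A)).IsHopfIdeal R] [IsLocalRing (A ⧸ Ideal.span ({1 - e} : Set A))]
    [Module.Projective R (A ⧸ Ideal.span ({1 - e} : Set A))] [Coalgebra.IsCocomm R (A ⧸ Ideal.span ({1 - e} : Set A))]
    (e' : CartDual.D R (A ⧸ Ideal.span ({1 - e} : Set A))) (he' : IsIdempotentElem e')
    (hε' : Bialgebra.counitAlgHom R (CartDual.D R (A ⧸ Ideal.span ({1 - e} : Set A))) e' = 1)
    [IsLocalRing (CartDual.D R (A ⧸ Ideal.span ({1 - e} : Set A)) ⧸ Ideal.span ({1 - e'} : Set (CartDual.D R (A ⧸ Ideal.span ({1 - e} : Set A)))))]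
    (J : Ideal A) [J.IsHopfIdeal R] [IsLocalRing (A ⧸ J)] [Module.Projective R (A ⧸ J)]
    [Coalgebra.IsCocomm R (A ⧸ J)] [Algebra.Etale R (CartDual.D R (A ⧸ J))]
    (a : A) (ha : ∀ x : CartDual.D R (A ⧸ Ideal.span ({1 - e} : Set A)), LinearMap.lTensor (CartDual.D R (A ⧸ Ideal.span ({1 - e} : Set A))) (LinearMap.mulLeft R e') (Coalgebra.comul (R := R) x) = x ⊗ₜ[R] e' → x (Ideal.Quotient.mk (Ideal.span ({1 - e} : Set A)) a) = 0) :
    a ∈ J := by
  have hkill : ∀ c ∈ Ideal.span ({1 - e} : Set A), (BialgHom.id R A) c ∈ J := by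
    intro c hc
    obtain ⟨d, rfl⟩ := Ideal.mem_span_singleton'.1 hc
    show d * (1 - e) ∈ J
    refine Ideal.mul_mem_left _ _ ?_
    have hy := he.map (Ideal.Quotient.mk J)
    rcases IsLocalRing.isUnit_or_isUnit_of_add_one (add_sub_cancel (Ideal.Quotient.mk J e) 1) with h | h
    · rw [← Ideal.Quotient.eq_zero_iff_mem, map_sub, map_one, (IsIdempotentElem.iff_eq_one_of_isUnit h).1 hy, sub_self]
    · exfalso
      have he0 : e ∈ J := Ideal.Quotient.eq_zero_iff_mem.1 (sub_eq_self.1 ((IsIdempotentElem.iff_eq_one_of_isUnit h).1 hy.one_sub))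
      have h0 : Bialgebra.counitAlgHom R A e = 0 := Submodule.IsCoideal.counit_eq_zero (I := J.restrictScalars R) he0
      exact one_ne_zero (hε.symm.trans h0)
  obtain ⟨g, hg⟩ := FinHopf34.MultPart.exists_desc (BialgHom.id R A) (Ideal.span ({1 - e} : Set A)) J hkill
  let t := CartDual.transpose R g
  obtain ⟨u, hu, huε, hu0⟩ := FinHopf34.exists_aug_idem (R := R) (A := CartDual.D R (A ⧸ J))
    (FinHopf34.aug_sq_of_formallyUnramified (R := R) (A := CartDual.D R (A ⧸ J)))
  have huz : ∀ z : CartDual.D R (A ⧸ J), u * z = Coalgebra.counit (R := R) z • u := fun z => by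
    have h := hu0 _ (FinHopf34.sub_counit_mem_ker (R := R) z)
    rw [sub_mul, sub_eq_zero, ← Algebra.smul_def] at h
    rw [mul_comm]
    exact h
  have hinv : ∀ y : CartDual.D R (A ⧸ J),
      LinearMap.lTensor (CartDual.D R (A ⧸ J)) (LinearMap.mulLeft R u) (Coalgebra.comul (R := R) y) = y ⊗ₜ[R] u := by
    intro y
    have e1 : ∀ w : CartDual.D R (A ⧸ J) ⊗[R] CartDual.D R (A ⧸ J),
        LinearMap.lTensor (CartDual.D R (A ⧸ J)) (LinearMap.mulLeft R u) w =
          TensorProduct.map LinearMap.id ((LinearMap.id (R := R) (M := R)).smulRight u)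
            (LinearMap.lTensor (CartDual.D R (A ⧸ J)) (Coalgebra.counit (R := R)) w) := by
      intro w
      induction w with
      | zero => simp
      | add p q hp hq => simp only [map_add, hp, hq]
      | tmul p q =>
        simp only [LinearMap.lTensor_tmul, TensorProduct.map_tmul, LinearMap.mulLeft_apply, LinearMap.id_apply]
        rw [huz]
        rfl
    rw [e1, Coalgebra.lTensor_counit_comul]
    simp
  have hff : e' * t u = e' := FinHopf34.MultPart.mul_eq_of_idem
    (Bialgebra.counitAlgHom R (CartDual.D R (A ⧸ Ideal.span ({1 - e} : Set A)))) he' hε' (hu.map t)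
    ((CoalgHomClass.counit_comp_apply t u).trans huε)
  rw [← Ideal.Quotient.eq_zero_iff_mem, ← Module.forall_dual_apply_eq_zero_iff R]
  intro φ
  have h := ha (t (WithConv.toConv φ)) (FinHopf34.MultPart.invariant_map t u e' hff _ (hinv _))
  rw [CartDual.transpose_apply, hg] at h
  exact h

end Groth.Agent.S15896
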