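import Groth.Statements.S1590
import Groth.Agent.Node12.Closed

set_option autoImplicit false
set_option backward.isDefEq.respectTransparency.types false
universe u
open CategoryTheory CategoryTheory.Limits AlgebraicGeometry
open Curves

namespace Groth.Agent.S1590

/-- Let X be locally of finite type over k, with all irreducible components of dimension one and
at-worst-nodal singularities. A reduced closed subscheme Y of X all of whose irreducible components
have dimension one again has at-worst-nodal singularities. -/
theorem result (k : Type u) [Field k] (X : Scheme.{u}) [X.Over (Spec (CommRingCat.of k))] [LocallyOfFiniteType (X ↘ (Spec (CommRingCat.of k)))]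
    (hequi : ∀ Z ∈ irreducibleComponents (X : Type u), topologicalKrullDim Z = 1) (hX : Curv2.AtWorstNodal k X)
    (I : X.IdealSheafData) [IsReduced I.subscheme]
    (hY : ∀ Z ∈ irreducibleComponents (I.subscheme : Type u), topologicalKrullDim Z = 1) :
    @Curv2.AtWorstNodal k _ I.subscheme ⟨I.subschemeι ≫ (X ↘ (Spec (CommRingCat.of k)))⟩ := by
  let iY : I.subscheme.Over (Spec (CommRingCat.of k)) := ⟨I.subschemeι ≫ (X ↘ (Spec (CommRingCat.of k)))⟩
  have : JacobsonSpace X := LocallyOfFiniteType.jacobsonSpace (X ↘ Spec (CommRingCat.of k))
  have : JacobsonSpace I.subscheme :=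
    LocallyOfFiniteType.jacobsonSpace (I.subschemeι ≫ (X ↘ Spec (CommRingCat.of k)))
  intro y hy
  have hx : IsClosed ({I.subschemeι y} : Set X) := I.subschemeι.closePoints_subset_preimage_closedPoints hy
  exact Groth.Agent.Node12.smooth_or_node_of_closed I.subschemeι rfl y hy
    ((Groth.Agent.Node12.equidim_one_iff X).1 hequi _ hx)
    ((Groth.Agent.Node12.equidim_one_iff I.subscheme).1 hY y hy) (hX _ hx)

end Groth.Agent.S1590
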