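import Groth.Statements.S15902
import Groth.Agent.LC15.KoszExact
import Groth.Agent.RegImm10.InterCM
import Groth.Agent.IntMult12.DiagLocal
import Groth.Agent.Div89.RegStalk
import Groth.Agent.QC70.ExtCoh

set_option autoImplicit false
universe u
open CategoryTheory AlgebraicGeometry Opposite
open KoszSh

namespace Groth.Agent.S15902

/-- Let X be a locally Noetherian scheme all of whose local rings are Cohen–Macaulay, i : Y → X a closed
immersion and c a natural number such that Y is a local complete intersection of codimension c in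
the following sense: around every point of Y there is an affine open of X on which c sections
generate the ideal sheaf of Y, and for every point y of Y the ideal of Y in the local ring O_{X,y}
(the kernel of O_{X,y} → O_{Y,y}) has height at least c. Then around every point of Y there is an
affine open U of X and sections f_1, …, f_c ∈ Γ(X, U) which generate the ideal of Y on U and form a
weakly regular sequence in Γ(X, U); consequently, on the open subscheme U, for every cosection s :
O_U^c → O_U sending the k-th standard basis section to f_k and every Koszul complex K(O_U^c, s) of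
s, the homology sheaves of K(O_U^c, s) vanish in every degree q ≥ 1, so that K(O_U^c, s) is a finite
free resolution of the restriction of i_*O_Y to U. (The published statement takes Y a local complete
intersection in a smooth variety X over a field, the ideal being generated near each closed point by
codim(Y, X) elements, and asserts the existence of such a neighbourhood with a free Koszul
resolution; the hypotheses here are what that gives at every point of Y over a Cohen–Macaulay base,
the existence of the Koszul complex is not asserted, and the resolution property is stated for every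
Koszul complex of the local free pair.) -/
theorem result {X Y : Scheme.{u}}
    [IsLocallyNoetherian X] (hCM : ∀ x : X, LocCoh.IsCohenMacaulayLocalRing (X.presheaf.stalk x))
    (i : Y ⟶ X) [IsClosedImmersion i] (c : ℕ)
    (hgen : ∀ y : Y, ∃ U : X.affineOpens, i.base y ∈ U.1 ∧ ∃ g : Fin c → Γ(X, U.1), i.ker.ideal U = Ideal.span (Set.range g))
    (hht : ∀ y : Y, (c : ℕ∞) ≤ (RingHom.ker (i.stalkMap y).hom).height) :
    ∀ y : Y, ∃ U : X.affineOpens, i.base y ∈ U.1 ∧ ∃ f : Fin c → Γ(X, U.1),
      i.ker.ideal U = Ideal.span (Set.range f) ∧ RingTheory.Sequence.IsWeaklyRegular Γ(X, U.1) (List.ofFn f) ∧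
      ∀ (s : FlatMod.freeMod (↑U.1) c ⟶ Coh.structureModule (↑U.1)),
        (∀ k : Fin c, KoszSh.secForm s ⊤ ((Limits.Sigma.ι (fun _ : Fin c => Coh.structureModule (↑U.1)) k).app ⊤
            (OmegaSh.strSect (↑U.1) ⊤ 1)) = U.1.topIso.inv (f k)) →
        ∀ (C : KoszSh.Cx (FlatMod.freeMod (↑U.1) c) s) (q : ℕ), 1 ≤ q → Limits.IsZero (C.K.homology q) := by
  intro y
  haveI := hCM
  obtain ⟨U, hyU, g, hg⟩ := hgen y
  set x := i.base y with hx
  haveI : IsNoetherianRing Γ(X, U.1) := IsLocallyNoetherian.component_noetherian U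
  letI : Algebra Γ(X, U.1) (X.presheaf.stalk x) := X.presheaf.algebra_section_stalk ⟨x, hyU⟩
  set p : Ideal Γ(X, U.1) := (U.2.primeIdealOf ⟨x, hyU⟩).asIdeal with hp
  haveI hloc : IsLocalization.AtPrime (X.presheaf.stalk x) p := U.2.isLocalization_stalk ⟨x, hyU⟩
  have hker : RingHom.ker (i.stalkMap y).hom =
      (i.ker.ideal U).map (algebraMap Γ(X, U.1) (X.presheaf.stalk x)) := by
    haveI : IsClosedImmersion (i ∣_ U.1) := IsZariskiLocalAtTarget.restrict ‹_› U.1
    rw [Groth.Agent.Div89.RegStalk.ker_stalkMap_chart i U.2 hyU, Scheme.Hom.ker_apply]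
    rfl
  have hle : RingHom.ker (i.stalkMap y).hom ≤ IsLocalRing.maximalIdeal (X.presheaf.stalk x) :=
    IsLocalRing.le_maximalIdeal (RingHom.ker_ne_top _)
  have hgI : ∀ k, g k ∈ i.ker.ideal U := fun k => hg ▸ Ideal.subset_span ⟨k, rfl⟩
  have hgm : ∀ r ∈ (List.ofFn g).map (algebraMap Γ(X, U.1) (X.presheaf.stalk x)),
      r ∈ IsLocalRing.maximalIdeal (X.presheaf.stalk x) := fun r hr => by
    obtain ⟨a, ha, rfl⟩ := List.mem_map.1 hr
    obtain ⟨k, rfl⟩ := List.mem_ofFn.1 ha
    exact hle (hker ▸ Ideal.mem_map_of_mem _ (hgI k))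
  have hlist : Ideal.ofList (List.ofFn g) = i.ker.ideal U := by
    rw [hg, Ideal.ofList]; congr 1; ext a; simp
  have hw : RingTheory.Sequence.IsWeaklyRegular (X.presheaf.stalk x)
      ((List.ofFn g).map (algebraMap Γ(X, U.1) (X.presheaf.stalk x))) := by
    have hH := Groth.Agent.RegImm10.InterCM.weaklyRegular_append (R := X.presheaf.stalk x) []
      ((List.ofFn g).map (algebraMap Γ(X, U.1) (X.presheaf.stalk x))) (fun r hr => hgm r (by simpa using hr))
      (fun q hq => by
        have h1 : RingHom.ker (i.stalkMap y).hom ≤ q.asIdeal := by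
          rw [hker, ← hlist, Ideal.map_ofList]
          simpa using hq
        have h2 := (hht y).trans (Ideal.height_mono h1)
        refine le_trans (le_of_eq ?_) (WithBot.coe_le_coe.2 h2)
        simp)
    simpa using hH
  have hIp : i.ker.ideal U ≤ p := fun a ha => by
    rw [← IsLocalization.AtPrime.to_map_mem_maximal_iff (X.presheaf.stalk x) p]
    exact hle (hker ▸ Ideal.mem_map_of_mem _ ha)
  obtain ⟨g₀, hg₀, hspec⟩ := Groth.Agent.IntMult12.exists_away_regular p (List.ofFn g) (i.ker.ideal U) hIp
    hlist.le (X.presheaf.stalk x) (by rw [hlist]) hw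
  letI : Algebra Γ(X, U.1) Γ(X, X.basicOpen g₀) :=
    (X.presheaf.map (homOfLE (X.basicOpen_le g₀)).op).hom.toAlgebra
  obtain ⟨hreg, hgenV⟩ := hspec Γ(X, X.basicOpen g₀) (U.2.isLocalization_basicOpen g₀)
  have hxV : x ∈ X.basicOpen g₀ := by
    rw [X.mem_basicOpen _ x hyU]
    by_contra h
    exact hg₀ ((IsLocalization.AtPrime.to_map_mem_maximal_iff (X.presheaf.stalk x) p g₀).1 h)
  refine ⟨X.affineBasicOpen g₀, hxV, fun k => algebraMap Γ(X, U.1) Γ(X, X.basicOpen g₀) (g k), ?_, ?_, ?_⟩
  · rw [← i.ker.map_ideal_basicOpen U g₀]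
    refine hgenV.trans ?_
    rw [List.map_ofFn, Ideal.ofList]
    congr 1; ext a; simp; rfl
  · have h := hreg.toIsWeaklyRegular
    rw [List.map_ofFn] at h
    exact h
  set V := (X.affineBasicOpen g₀).1
  intro s hs C q hq
  obtain ⟨m, rfl⟩ : ∃ m, q = m + 1 := ⟨q - 1, by omega⟩
  haveI : IsAffine (↑V : Scheme.{u}) := (X.affineBasicOpen g₀).2
  haveI : (FlatMod.freeMod (↑V : Scheme.{u}) c).IsQuasicoherent :=
    Groth.Agent.Props58.LocFree.isQuasicoherent_of_isFinLocFree (Groth.Agent.QC70.isFinLocFree_freeMod _ c)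
  refine HomologicalComplex.ExactAt.isZero_homology (Groth.Agent.LC15.KoszExact.exactAt C (n := c) (fun z => ?_) m)
  have hbij : Function.Bijective (Fintype.linearCombination Γ((↑V : Scheme.{u}), ⊤)
      (Groth.Agent.Props58.LocFree.unitVec (↑V : Scheme.{u}) c)) := by
    refine ⟨fun a b e => Groth.Agent.Props58.LocFree.free_eq_of_comb (W := ⊤) ?_, fun w => ?_⟩
    · simpa [Fintype.linearCombination_apply, Groth.Agent.QC70.res_self] using e
    · obtain ⟨a, ha⟩ := Groth.Agent.Props58.LocFree.free_exists_comb (W := ⊤) w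
      exact ⟨a, by simpa [Fintype.linearCombination_apply, Groth.Agent.QC70.res_self] using ha⟩
  refine ⟨⟨⊤, isAffineOpen_top _⟩, trivial,
    Module.Basis.ofEquivFun (LinearEquiv.ofBijective _ hbij).symm, ?_⟩
  have hb : ∀ k, KoszSh.secForm s ⊤ (Module.Basis.ofEquivFun (LinearEquiv.ofBijective _ hbij).symm k) =
      V.topIso.inv (algebraMap Γ(X, U.1) Γ(X, X.basicOpen g₀) (g k)) := fun k => by
    classical
    rw [Module.Basis.coe_ofEquivFun, LinearEquiv.symm_symm]
    refine Eq.trans (congrArg _ ?_) (hs k)
    show Fintype.linearCombination _ _ (Pi.single k 1) = _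
    rw [Fintype.linearCombination_apply_single, one_smul]
    rfl
  have h := hreg.toIsWeaklyRegular
  rw [List.map_ofFn] at h
  simp only [hb]
  let e : Γ(X, X.basicOpen g₀) ≃+* Γ((↑V : Scheme.{u}), ⊤) :=
    (asIso V.topIso.inv).commRingCatIsoToRingEquiv
  have h' := (e.toAddEquiv.isWeaklyRegular_congr
    (as := List.ofFn fun k => algebraMap Γ(X, U.1) Γ(X, X.basicOpen g₀) (g k))
    (bs := (List.ofFn fun k => algebraMap Γ(X, U.1) Γ(X, X.basicOpen g₀) (g k)).map e)
    (List.forall₂_map_right_iff.mpr <| List.forall₂_same.mpr fun r _ x => by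
      simp only [smul_eq_mul]
      exact map_mul e r x)).1 h
  rw [List.map_ofFn] at h'
  exact h'


end Groth.Agent.S15902
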