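import Groth.Statements.S15906
import Groth.Agent.DP97.Basic

set_option autoImplicit false
open Surf

namespace Groth.Agent.S15906

open W4c3severiratdp in
/-- Work in the lattice of vectors (a; b_1, …, b_δ), standing for divisor classes a ℓ − Σ b_i e_i on the
blow-up of the projective plane at δ points written in a standard basis, with intersection form a a'
− Σ b_i b_i' and canonical class K = (−3; −1, …, −1); a conic class is a class Q with Q·Q = 0 and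
K·Q = −2, an exceptional class (the class of a (−1)-curve) is a class E with E·E = −1 and K·E = −1,
and the Weyl group W_δ is the group of additive automorphisms of the lattice preserving the form and
fixing K. For δ = 8, a class (a; b_1, …, b_8) is a conic class if and only if, up to a permutation
of b_1, …, b_8, it is one of the fifteen vectors (1; 1, 0, 0, 0, 0, 0, 0, 0), (2; 1, 1, 1, 1, 0, 0,
0, 0), (3; 2, 1, 1, 1, 1, 1, 0, 0), (4; 2, 2, 2, 1, 1, 1, 1, 0), (4; 3, 1, 1, 1, 1, 1, 1, 1), (5; 2,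
2, 2, 2, 2, 2, 1, 0), (5; 3, 2, 2, 2, 1, 1, 1, 1), (6; 3, 3, 2, 2, 2, 2, 1, 1), (7; 3, 3, 3, 3, 2,
2, 2, 1), (7; 4, 3, 2, 2, 2, 2, 2, 2), (8; 4, 3, 3, 3, 3, 2, 2, 2), (8; 3, 3, 3, 3, 3, 3, 3, 1), (9;
4, 4, 3, 3, 3, 3, 3, 2), (10; 4, 4, 4, 4, 3, 3, 3, 3), (11; 4, 4, 4, 4, 4, 4, 4, 3). (One line of
the published table is illegible in the available copy; the fifteen vectors here are the complete
solution set of the two defining equations a² = Σ b_i², 3a − Σ b_i = 2.) -/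
theorem result (v : DP 8) :
    IsConic v ↔
      ∃ t ∈ ({![1, 1, 0, 0, 0, 0, 0, 0, 0],
        ![2, 1, 1, 1, 1, 0, 0, 0, 0],
        ![3, 2, 1, 1, 1, 1, 1, 0, 0],
        ![4, 2, 2, 2, 1, 1, 1, 1, 0],
        ![4, 3, 1, 1, 1, 1, 1, 1, 1],
        ![5, 2, 2, 2, 2, 2, 2, 1, 0],
        ![5, 3, 2, 2, 2, 1, 1, 1, 1],
        ![6, 3, 3, 2, 2, 2, 2, 1, 1],
        ![7, 3, 3, 3, 3, 2, 2, 2, 1],
        ![7, 4, 3, 2, 2, 2, 2, 2, 2],
        ![8, 4, 3, 3, 3, 3, 2, 2, 2],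
        ![8, 3, 3, 3, 3, 3, 3, 3, 1],
        ![9, 4, 4, 3, 3, 3, 3, 3, 2],
        ![10, 4, 4, 4, 4, 3, 3, 3, 3],
        ![11, 4, 4, 4, 4, 4, 4, 4, 3]} : Set (DP 8)),
        ∃ σ : Equiv.Perm (Fin 8), v 0 = t 0 ∧ ∀ i : Fin 8, v (σ i).succ = t i.succ := by
  constructor
  · intro hv
    set σ : Equiv.Perm (Fin 8) := Tuple.sort (fun i : Fin 8 => - v i.succ) with hσ
    have hmono := Tuple.monotone_sort (fun i : Fin 8 => - v i.succ)
    rw [← hσ] at hmono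
    let w : DP 8 := Fin.cases (v 0) (fun i => v (σ i).succ)
    have hw : w ∈ DP97.enumDP 8 0 (-2) := by
      refine (DP97.mem_enumDP (le_refl 8) (Or.inl ⟨rfl, rfl⟩) w).mpr ⟨?_, ?_⟩
      · rw [DP97.form_self]
        simp only [w, Fin.cases_zero, Fin.cases_succ]
        rw [Equiv.sum_comp σ (fun i => v i.succ ^ 2), ← DP97.form_self]
        exact hv.1
      · rw [DP97.form_canon]
        simp only [w, Fin.cases_zero, Fin.cases_succ]
        rw [Equiv.sum_comp σ (fun i => v i.succ), ← DP97.form_canon]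
        exact hv.2
    have hsorted : ∀ i : Fin 7, w i.succ.succ ≤ w i.castSucc.succ := by
      intro i
      have := hmono (Fin.castSucc_le_succ i)
      simp only [Function.comp_apply, neg_le_neg_iff] at this
      simpa [w] using this
    have key : ∀ u ∈ DP97.enumDP 8 0 (-2), (∀ i : Fin 7, u i.succ.succ ≤ u i.castSucc.succ) →
        u ∈ ([![1, 1, 0, 0, 0, 0, 0, 0, 0], ![2, 1, 1, 1, 1, 0, 0, 0, 0], ![3, 2, 1, 1, 1, 1, 1, 0, 0], ![4, 2, 2, 2, 1, 1, 1, 1, 0], ![4, 3, 1, 1, 1, 1, 1, 1, 1], ![5, 2, 2, 2, 2, 2, 2, 1, 0], ![5, 3, 2, 2, 2, 1, 1, 1, 1], ![6, 3, 3, 2, 2, 2, 2, 1, 1], ![7, 3, 3, 3, 3, 2, 2, 2, 1], ![7, 4, 3, 2, 2, 2, 2, 2, 2], ![8, 4, 3, 3, 3, 3, 2, 2, 2], ![8, 3, 3, 3, 3, 3, 3, 3, 1], ![9, 4, 4, 3, 3, 3, 3, 3, 2], ![10, 4, 4, 4, 4, 3, 3, 3, 3], ![11, 4, 4, 4, 4, 4, 4, 4, 3]] : List (DP 8)) := by decide +kernel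
    refine ⟨w, ?_, σ, rfl, fun i => rfl⟩
    have := key w hw hsorted
    simpa [List.mem_cons] using this
  · rintro ⟨t, ht, σ, h0, hi⟩
    have hspec : ∀ u ∈ ([![1, 1, 0, 0, 0, 0, 0, 0, 0], ![2, 1, 1, 1, 1, 0, 0, 0, 0], ![3, 2, 1, 1, 1, 1, 1, 0, 0], ![4, 2, 2, 2, 1, 1, 1, 1, 0], ![4, 3, 1, 1, 1, 1, 1, 1, 1], ![5, 2, 2, 2, 2, 2, 2, 1, 0], ![5, 3, 2, 2, 2, 1, 1, 1, 1], ![6, 3, 3, 2, 2, 2, 2, 1, 1], ![7, 3, 3, 3, 3, 2, 2, 2, 1], ![7, 4, 3, 2, 2, 2, 2, 2, 2], ![8, 4, 3, 3, 3, 3, 2, 2, 2], ![8, 3, 3, 3, 3, 3, 3, 3, 1], ![9, 4, 4, 3, 3, 3, 3, 3, 2], ![10, 4, 4, 4, 4, 3, 3, 3, 3], ![11, 4, 4, 4, 4, 4, 4, 4, 3]] : List (DP 8)), form u u = 0 ∧ form (canon 8) u = -2 := by decide +kernel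
    obtain ⟨h1, h2⟩ := hspec t (by simpa [List.mem_cons] using ht)
    refine ⟨?_, ?_⟩
    · rw [DP97.form_self] at h1 ⊢
      rw [← Equiv.sum_comp σ (fun i => v i.succ ^ 2)]
      simp only [hi, h0]
      exact h1
    · rw [DP97.form_canon] at h2 ⊢
      rw [← Equiv.sum_comp σ (fun i => v i.succ)]
      simp only [hi, h0]
      exact h2

end Groth.Agent.S15906
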