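import Groth.Statements.S15908
import Groth.Agent.DP97.Orbit

set_option autoImplicit false
open Surf

namespace Groth.Agent.S15908

open W4c3severiratdp in
/-- Work in the lattice of vectors (a; b_1, …, b_δ), standing for divisor classes a ℓ − Σ b_i e_i on the
blow-up of the projective plane at δ points written in a standard basis, with intersection form a a'
− Σ b_i b_i' and canonical class K = (−3; −1, …, −1); a conic class is a class Q with Q·Q = 0 and
K·Q = −2, an exceptional class (the class of a (−1)-curve) is a class E with E·E = −1 and K·E = −1,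
and the Weyl group W_δ is the group of additive automorphisms of the lattice preserving the form and
fixing K. For δ = 8 the ordered pairs (Q_1, Q_2) of conic classes with Q_1·Q_2 = 4 form exactly two
W_8-orbits: there are two such pairs that no element of W_8 carries one to the other, and every such
pair is carried by an element of W_8 to one of these two. -/
theorem result :
    ∃ p₁ p₂ q₁ q₂ : DP 8, IsConic p₁ ∧ IsConic p₂ ∧ IsConic q₁ ∧ IsConic q₂ ∧ form p₁ p₂ = 4 ∧ form q₁ q₂ = 4 ∧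
      (¬ ∃ g : DP 8 ≃ₗ[ℤ] DP 8, IsWeyl g ∧ g p₁ = q₁ ∧ g p₂ = q₂) ∧
      ∀ v₁ v₂ : DP 8, IsConic v₁ → IsConic v₂ → form v₁ v₂ = 4 →
        ∃ g : DP 8 ≃ₗ[ℤ] DP 8, IsWeyl g ∧ ((g v₁ = p₁ ∧ g v₂ = p₂) ∨ (g v₁ = q₁ ∧ g v₂ = q₂)) := by
  have ht : DP97.Typ 0 (-2) := Or.inl ⟨rfl, rfl⟩
  have hq : form (DP97.q1 8) (DP97.q1 8) = 0 ∧ form (canon 8) (DP97.q1 8) = -2 := by decide +kernel
  refine ⟨DP97.q1 8, ![5,1,2,2,2,2,2,2,0], DP97.q1 8, ![4,0,2,2,2,1,1,1,1], hq,
    ?_, hq, ?_, by decide +kernel, by decide +kernel, ?_, ?_⟩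
  · exact ⟨by decide +kernel, by decide +kernel⟩
  · exact ⟨by decide +kernel, by decide +kernel⟩
  · rintro ⟨g, -, g1, g2⟩
    have hu : DP97.q1 8 - ![5,1,2,2,2,2,2,2,0] = (2:ℤ) • ![-2,0,-1,-1,-1,-1,-1,-1,0] := by
      decide +kernel
    have := congrFun (congrArg g hu) 1
    rw [map_sub, g1, g2, map_zsmul] at this
    simp [DP97.q1, Pi.smul_apply] at this
    omega
  · intro v₁ v₂ hv₁ hv₂ h4
    obtain ⟨g, hg, g1, g2⟩ := DP97.pair_normal (le_refl 8) DP97.conic_dom_8 v₁ v₂ hv₁ hv₂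
    have key : ∀ a ∈ DP97.conic2_8, form (DP97.q1 8) a = 4 →
        a = ![5,1,2,2,2,2,2,2,0] ∨ a = ![4,0,2,2,2,1,1,1,1] := by decide +kernel
    refine ⟨g, hg, ?_⟩
    rcases key _ (DP97.conic_dom2_8 _ g2) (by rw [← g1, hg.1, h4]) with h | h
    · exact Or.inl ⟨g1, h⟩
    · exact Or.inr ⟨g1, h⟩

end Groth.Agent.S15908
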