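import Groth.Statements.S1591
import Groth.Agent.Node12.Loc.BaseChange

set_option autoImplicit false
set_option backward.isDefEq.respectTransparency.types false
universe u
open CategoryTheory CategoryTheory.Limits AlgebraicGeometry
open Curves

namespace Groth.Agent.S1591

/-- Let f : X → S be flat and locally of finite presentation. There is a largest open subscheme U of X
on which f is at-worst-nodal of relative dimension one, and its formation commutes with base change:
for every g : S' → S the preimage of U in X ×_S S' is the largest open on which the base change of f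
is at-worst-nodal of relative dimension one. -/
theorem result {X S : Scheme.{u}} (f : X ⟶ S) [Flat f] [LocallyOfFinitePresentation f] :
    ∃ U : X.Opens, (Curv2.IsNodalFamily (U.ι ≫ f) ∧ ∀ V : X.Opens, Curv2.IsNodalFamily (V.ι ≫ f) → V ≤ U) ∧
      ∀ (S' : Scheme.{u}) (g : S' ⟶ S),
        Curv2.IsNodalFamily ((pullback.fst f g ⁻¹ᵁ U).ι ≫ pullback.snd f g) ∧
        ∀ V : (pullback f g).Opens, Curv2.IsNodalFamily (V.ι ≫ pullback.snd f g) → V ≤ pullback.fst f g ⁻¹ᵁ U := by
  let U : X.Opens := sSup {V | Curv2.IsNodalFamily (V.ι ≫ f)}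
  have hU : Curv2.IsNodalFamily (U.ι ≫ f) := by
    refine Node12.Loc.isNodalFamily_of_opens f U
      (fun V : {V : X.Opens // Curv2.IsNodalFamily (V.ι ≫ f)} => V.1) (fun V => le_sSup V.2) (fun x hx => ?_)
      (fun V => V.2)
    obtain ⟨V, hV, hxV⟩ := TopologicalSpace.Opens.mem_sSup.1 hx
    exact ⟨⟨V, hV⟩, hxV⟩
  refine ⟨U, ⟨hU, fun V hV => le_sSup hV⟩, fun S' g => ⟨?_, fun V hV => ?_⟩⟩
  · exact Node12.Loc.isNodalFamily_of_isPullback
      ((isPullback_morphismRestrict (pullback.fst f g) U).paste_vert (IsPullback.of_hasPullback f g)) hU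
  · intro v hv
    obtain ⟨W, hvW, hW⟩ :=
      Node12.Loc.exists_nodal_nhd_of_bc (IsPullback.of_hasPullback f g) V hV ⟨v, hv⟩
    exact (le_sSup hW : W ≤ U) hvW

end Groth.Agent.S1591
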