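import Groth.Statements.S15910
import Groth.Agent.DP97.Orbit

set_option autoImplicit false
open Surf

namespace Groth.Agent.S15910

open W4c3severiratdp in
/-- Work in the lattice of vectors (a; b_1, …, b_δ), standing for divisor classes a ℓ − Σ b_i e_i on the
blow-up of the projective plane at δ points written in a standard basis, with intersection form a a'
− Σ b_i b_i' and canonical class K = (−3; −1, …, −1); a conic class is a class Q with Q·Q = 0 and
K·Q = −2, an exceptional class (the class of a (−1)-curve) is a class E with E·E = −1 and K·E = −1,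
and the Weyl group W_δ is the group of additive automorphisms of the lattice preserving the form and
fixing K. Let δ = 8 and let L be an exceptional class. Let B be the set of unordered triples {λ_1,
λ_2, λ_3} of exceptional classes (repetitions allowed) with λ_1 + λ_2 + λ_3 = −2K + L. Then the
stabilizer of L in W_8 has exactly four orbits on B. Triples are written as maps Fin 3 → lattice and
compared up to reordering: there are four members of B, no two of which are identified by an element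
of the stabilizer followed by a reordering, and every member of B is so identified with one of the
four. -/
theorem result (L : DP 8) (hL : IsExc L) :
    ∃ r : Fin 4 → (Fin 3 → DP 8),
      (∀ j, (∀ i, IsExc (r j i)) ∧ r j 0 + r j 1 + r j 2 = L - 2 • canon 8) ∧
      (∀ j j', (∃ g : DP 8 ≃ₗ[ℤ] DP 8, IsWeyl g ∧ g L = L ∧ ∃ σ : Equiv.Perm (Fin 3), ∀ i, g (r j (σ i)) = r j' i) → j = j') ∧
      ∀ t : Fin 3 → DP 8, (∀ i, IsExc (t i)) → t 0 + t 1 + t 2 = L - 2 • canon 8 →
        ∃ j, ∃ g : DP 8 ≃ₗ[ℤ] DP 8, IsWeyl g ∧ g L = L ∧ ∃ σ : Equiv.Perm (Fin 3), ∀ i, g (t (σ i)) = r j i := by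
  classical
  have htyp : DP97.Typ (-1) (-1) := Or.inr ⟨rfl, rfl⟩
  obtain ⟨g, hg, gL⟩ := DP97.exc_normal L hL
  let R : List (DP 8 × DP 8) :=
    [(![0,0,0,0,0,0,0,-1,0], ![1,1,0,0,0,0,0,1,0]), (![0,0,0,0,0,0,0,0,-1], ![0,0,0,0,0,0,0,-1,0]),
     (![0,0,0,0,0,0,0,0,-1], ![0,0,0,0,0,0,0,0,-1]), (![0,0,0,0,0,0,0,0,-1], ![1,1,0,0,0,0,0,0,1])]
  let third : DP 8 → DP 8 → DP 8 := fun a b => DP97.e8 - 2 • canon 8 - a - b
  let rr : Fin 4 → Fin 3 → DP 8 := fun j =>
    ![R[j.val].1, R[j.val].2, third R[j.val].1 R[j.val].2]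
  have hrr : ∀ (j : Fin 4) (i : Fin 3),
      form (rr j i) (rr j i) = -1 ∧ form (canon 8) (rr j i) = -1 := by decide +kernel
  have hgs : IsWeyl g.symm := DP97.isWeyl_symm hg
  refine ⟨fun j i => g.symm (rr j i), fun j => ⟨fun i => DP97.isExc_map hgs (hrr j i), ?_⟩, ?_, ?_⟩
  · apply g.injective
    simp only [map_add, map_sub, map_nsmul, LinearEquiv.apply_symm_apply, gL, hg.2]
    show R[j.val].1 + R[j.val].2 + (DP97.e8 - 2 • canon 8 - R[j.val].1 - R[j.val].2) = _
    abel
  · rintro j j' ⟨h, hh, hL', σ, hσ⟩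
    have inv : ∀ a b : Fin 4, (∑ i, form (rr a i) DP97.e8 ^ 2) =
        (∑ i, form (rr b i) DP97.e8 ^ 2) → a = b := by decide +kernel
    refine inv j j' ?_
    have e : ∀ (a : Fin 4) (i : Fin 3), form (rr a i) DP97.e8 = form (g.symm (rr a i)) L := by
      intro a i
      rw [← hg.1 (g.symm (rr a i)) L, LinearEquiv.apply_symm_apply, gL]
    simp only [e]
    rw [← Equiv.sum_comp σ (fun i => form (g.symm (rr j i)) L ^ 2)]
    refine Finset.sum_congr rfl fun i _ => ?_
    show form (g.symm (rr j (σ i))) L ^ 2 = form (g.symm (rr j' i)) L ^ 2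
    rw [← hh.1 (g.symm (rr j (σ i))) L, hL', hσ i]
  · intro t ht hsum
    let σ : Equiv.Perm (Fin 3) := Tuple.sort (fun i => form (t i) L)
    have hmono : Monotone ((fun i => form (t i) L) ∘ σ) := Tuple.monotone_sort _
    have hs3 : t (σ 0) + t (σ 1) + t (σ 2) = L - 2 • canon 8 := by
      rw [← hsum]
      have := Equiv.sum_comp σ t
      simpa [Fin.sum_univ_three] using this
    obtain ⟨a, ha, fa, ma⟩ := DP97.stab_normal (g (t (σ 0))) (DP97.isExc_map hg (ht _))
    have e1 := DP97.isExc_map ha (DP97.isExc_map hg (ht (σ 1)))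
    obtain ⟨b, hb, fb, mb⟩ := DP97.exists_weyl_dominant (le_refl 8) htyp
      [DP97.e8, a (g (t (σ 0)))] (a (g (t (σ 1)))) e1.1 e1.2
    let k : DP 8 ≃ₗ[ℤ] DP 8 := (g.trans a).trans b
    have hk : IsWeyl k := DP97.isWeyl_trans (DP97.isWeyl_trans hg ha) hb
    have kL : k L = DP97.e8 := by
      simp only [k, LinearEquiv.trans_apply, gL, fa]
      exact fb _ (by simp)
    have k0 : k (t (σ 0)) = a (g (t (σ 0))) := fb _ (by simp)
    have hk2 : k (t (σ 2)) = third (k (t (σ 0))) (k (t (σ 1))) := by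
      have := congrArg k hs3
      simp only [map_add, map_sub, map_nsmul, kL, hk.2] at this
      simp only [third, ← this]
      abel
    have m1 : k (t (σ 1)) ∈ (DP97.enumDP 8 (-1) (-1)).filter
        (DP97.isDom [DP97.e8, k (t (σ 0))]) := by rw [k0]; exact mb
    have key : ∀ x ∈ DP97.exc2, ∀ y ∈ (DP97.enumDP 8 (-1) (-1)).filter (DP97.isDom [DP97.e8, x]),
        (form (third x y) (third x y) = -1 ∧ form (canon 8) (third x y) = -1) →
        (form x DP97.e8 ≤ form y DP97.e8 ∧ form y DP97.e8 ≤ form (third x y) DP97.e8) →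
        ∃ j : Fin 4, R[j.val] = (x, y) := by decide +kernel
    obtain ⟨j, hj⟩ := key _ (k0 ▸ ma) _ m1
      (hk2 ▸ DP97.isExc_map hk (ht (σ 2)))
      (by
        rw [← hk2, ← kL]
        simp only [hk.1]
        exact ⟨hmono (show (0 : Fin 3) ≤ 1 by decide), hmono (show (1 : Fin 3) ≤ 2 by decide)⟩)
    refine ⟨j, k.trans g.symm, DP97.isWeyl_trans hk hgs, ?_, σ, fun i => ?_⟩
    · rw [LinearEquiv.trans_apply, kL, LinearEquiv.symm_apply_eq, gL]
    · rw [LinearEquiv.trans_apply]
      congr 1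
      have hj1 : R[j.val].1 = k (t (σ 0)) := congrArg Prod.fst hj
      have hj2 : R[j.val].2 = k (t (σ 1)) := congrArg Prod.snd hj
      show k (t (σ i)) = ![R[j.val].1, R[j.val].2, third R[j.val].1 R[j.val].2] i
      rw [hj1, hj2, ← hk2]
      fin_cases i <;> rfl

end Groth.Agent.S15910
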