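import Groth.Statements.S15922
import Groth.Agent.Curves2.CurveToolkit
import Groth.Agent.Ega11.NodeChart
import Groth.Agent.QC70.UnitSub
import Groth.Agent.TopDim50.Basic

set_option autoImplicit false
universe u
open CategoryTheory CategoryTheory.Limits AlgebraicGeometry
open Curves

namespace Groth.Agent.S15922

/-- Let k be an algebraically closed field, X a curve over k (proper over k, reduced, connected, every
irreducible component of dimension one) and P a closed point of X, with m_P the ideal sheaf of the
reduced point P viewed as an O_X-module. Then m_P is a torsion-free sheaf of rank one and degree -1: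
regular elements of each local ring O_{X,x} act injectively on the stalk of m_P at x, the stalk at
every generic point of an irreducible component has dimension one over the local ring there, and
χ(X, m_P) - χ(X, O_X) = -1. -/
theorem result (k : Type u) [Field k] [IsAlgClosed k] (X : Scheme.{u}) [X.Over (Spec (CommRingCat.of k))] [IsProper (X ↘ (Spec (CommRingCat.of k)))] [IsReduced X] [ConnectedSpace X]
    (hequi : ∀ Z ∈ irreducibleComponents (X : Type u), topologicalKrullDim Z = 1)
    (P : X) (hP : IsClosed ({P} : Set X)) :
    TorSh.IsTorsionFree (ClSub.idealMod (Scheme.IdealSheafData.vanishingIdeal ⟨{P}, hP⟩)) ∧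
    (∀ η : X, closure ({η} : Set X) ∈ irreducibleComponents (X : Type u) →
      Module.finrank (X.presheaf.stalk η) ((ClSub.idealMod (Scheme.IdealSheafData.vanishingIdeal ⟨{P}, hP⟩)).presheaf.stalk η) = 1) ∧
    Curv2.deg k X (ClSub.idealMod (Scheme.IdealSheafData.vanishingIdeal ⟨{P}, hP⟩)) 1 = -1 := by
  haveI := Crv77.isNoetherian_of_proper k X
  let I := Crv77.ptIdeal hP
  have hι : ∀ x, Function.Injective (QC70.stalkLinear (ClSub.idealModι I) x) := fun x =>
    haveI : Mono (ClSub.idealModι I) := inferInstanceAs (Mono (kernel.ι _))
    QC70.injective_stalkMapM_of_mono _ x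
  refine ⟨fun x => ?_, fun η hη => ?_, ?_⟩
  · haveI := Ega11.NodeChart.isTorsionFree_unit (X := X) x
    exact (hι x).moduleIsTorsionFree _ (fun r m => map_smul (QC70.stalkLinear (ClSub.idealModι I) x) r m)
  · have hne : η ∉ (I.support : Set X) := by
      rw [Crv77.ptIdeal_support]
      rintro (rfl : η = P)
      have h1 := hequi _ hη
      rw [hP.closure_eq] at h1
      haveI : Subsingleton (TopologicalSpace.IrreducibleCloseds ↥({η} : Set X)) := ⟨fun a b => TopologicalSpace.IrreducibleCloseds.ext (by
        exact (Subsingleton.eq_univ_of_nonempty a.2.nonempty).trans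
          (Subsingleton.eq_univ_of_nonempty b.2.nonempty).symm)⟩
      have h0 : topologicalKrullDim ({η} : Set X) ≤ 0 := Order.krullDim_nonpos_of_subsingleton
      exact absurd h1 (h0.trans_lt zero_lt_one).ne
    haveI : Subsingleton ((Crv77.idealSeq I).X₃.presheaf.stalk η) := Crv77.suppIn_quotMod I η hne
    have hseq := Crv77.idealSeq_shortExact I
    have hb : Function.Bijective (QC70.stalkLinear (ClSub.idealModι I) η) := ⟨hι η, fun e => by
      haveI : Mono (Crv77.idealSeq I).f := hseq.mono_f
      exact QC70.stalkMapM_exact _ hseq.exact η e (Subsingleton.elim _ _)⟩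
    rw [show (Scheme.IdealSheafData.vanishingIdeal ⟨{P}, hP⟩) = I from rfl,
      ((LinearEquiv.ofBijective _ hb).trans (QC70.unitStalkEquiv η).symm).finrank_eq, Module.finrank_self]
  · have hdim : topologicalKrullDim X ≤ 1 := by
      rw [TopDim50.dim_eq_iSup_irreducibleComponents]
      exact iSup₂_le fun Z hZ => (hequi Z hZ).le
    have h1 := Curves2.deg_ptIdeal_tensor (k := k) hdim hP (EGA73.isInvertible_structureModule (X := X))
    rw [Curves2.deg_congr (k := k) (EGA73.tensUnitRight _), Curves2.deg_structureModule] at h1
    exact h1.trans (by norm_num)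

end Groth.Agent.S15922
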