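import Groth.Statements.S15923
import Groth.Agent.Curves2.IdealFrame
import Groth.Agent.Curves2.SmoothAtSep
import Groth.Agent.Curves2.CurveMaps
import Groth.Agent.EGA73.ExtendCodimOne
import Groth.Agent.VarGal.SmoothReg
import Groth.Agent.TopDim50.Basic
import Groth.Agent.Crv77.Basic
import Groth.Agent.Ega11.RegLocal
import Mathlib.AlgebraicGeometry.Morphisms.Smooth

set_option autoImplicit false
universe u
open CategoryTheory CategoryTheory.Limits AlgebraicGeometry
open Curves

namespace Groth.Agent.S15923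
open scoped nonZeroDivisors

/-- A Noetherian local ring whose maximal ideal is generated by a non-zero-divisor is a domain. -/
lemma isDomain_of_maximal_eq_span {R : Type*} [CommRing R] [IsLocalRing R] [IsNoetherianRing R] {g : R}
    (hg : g ∈ R⁰) (h : IsLocalRing.maximalIdeal R = Ideal.span {g}) : IsDomain R := by
  have hgen : ∀ x : R, x ≠ 0 → ∃ (n : ℕ) (v : R), IsUnit v ∧ x = v * g ^ n := by
    intro x hx
    classical
    have hne : ∃ n, x ∉ IsLocalRing.maximalIdeal R ^ n := by
      by_contra hc
      push Not at hc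
      have hx' : x ∈ ⨅ n, IsLocalRing.maximalIdeal R ^ n := Ideal.mem_iInf.2 hc
      rw [Ideal.iInf_pow_eq_bot_of_isLocalRing _ (IsLocalRing.maximalIdeal.isMaximal R).ne_top] at hx'
      exact hx hx'
    have hn := Nat.find_spec hne
    obtain ⟨n, hn'⟩ : ∃ n, Nat.find hne = n + 1 := by
      refine Nat.exists_eq_succ_of_ne_zero fun h0 => ?_
      rw [h0] at hn
      simp at hn
    rw [hn'] at hn
    have hxn : x ∈ IsLocalRing.maximalIdeal R ^ n := by
      by_contra hc
      exact Nat.find_min hne (by omega) hc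
    rw [h, Ideal.span_singleton_pow, Ideal.mem_span_singleton'] at hxn
    obtain ⟨v, hv⟩ := hxn
    refine ⟨n, v, ?_, hv.symm⟩
    by_contra hvu
    apply hn
    rw [h, Ideal.span_singleton_pow, Ideal.mem_span_singleton']
    obtain ⟨w, hw⟩ := Ideal.mem_span_singleton'.1 (h.le ((IsLocalRing.mem_maximalIdeal v).2 hvu))
    exact ⟨w, by rw [← hv, ← hw, pow_succ', mul_assoc]⟩
  refine @NoZeroDivisors.to_isDomain _ _ _ ⟨fun {a b} hab => ?_⟩
  by_contra hc
  push Not at hc
  obtain ⟨n, v, hv, rfl⟩ := hgen a hc.1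
  obtain ⟨m, w, hw, rfl⟩ := hgen b hc.2
  have hnz : v * g ^ n * (w * g ^ m) ∈ R⁰ := mul_mem (mul_mem hv.mem_nonZeroDivisors (pow_mem hg n))
    (mul_mem hw.mem_nonZeroDivisors (pow_mem hg m))
  rw [hab] at hnz
  exact zero_notMem_nonZeroDivisors hnz

lemma stalkIdeal_vanishing {X : Scheme.{u}} {P : X} (hP : IsClosed ({P} : Set X)) :
    Div89.stalkIdeal (Scheme.IdealSheafData.vanishingIdeal ⟨{P}, hP⟩) P =
      IsLocalRing.maximalIdeal (X.presheaf.stalk P) := by
  obtain ⟨U, hU⟩ := Div89.exists_affine_mem P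
  rw [Div89.stalkIdeal_eq _ U P hU]
  have h1 : (Scheme.IdealSheafData.vanishingIdeal (⟨{P}, hP⟩ : TopologicalSpace.Closeds X)).ideal U =
      (U.2.primeIdealOf ⟨P, hU⟩).asIdeal := by
    rw [Scheme.IdealSheafData.vanishingIdeal_ideal]
    have h2 : U.2.fromSpec ⁻¹' ({P} : Set X) = {U.2.primeIdealOf ⟨P, hU⟩} := by
      ext y
      simp only [Set.mem_singleton_iff, Set.mem_preimage]
      refine ⟨fun h => U.2.fromSpec.isOpenEmbedding.injective (h.trans (U.2.fromSpec_primeIdealOf ⟨P, hU⟩).symm),
        fun h => h ▸ U.2.fromSpec_primeIdealOf ⟨P, hU⟩⟩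
    exact (congrArg PrimeSpectrum.vanishingIdeal h2).trans (PrimeSpectrum.vanishingIdeal_singleton _)
  rw [h1]
  letI := TopCat.Presheaf.algebra_section_stalk X.presheaf (⟨P, hU⟩ : U.1)
  haveI := U.2.isLocalization_stalk ⟨P, hU⟩
  exact IsLocalization.AtPrime.map_eq_maximalIdeal _ _

lemma mem_support_vanishing {X : Scheme.{u}} {P : X} (hP : IsClosed ({P} : Set X)) (x : X)
    (hx : x ∈ (Scheme.IdealSheafData.vanishingIdeal ⟨{P}, hP⟩).support) : x = P := by
  exact hx



/-- Let k be an algebraically closed field, X a curve over k (proper over k, reduced, connected, every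
irreducible component of dimension one) and P a closed point of X, with m_P the ideal sheaf of the
reduced point P as an O_X-module. Then m_P is invertible (locally on X isomorphic to the structure
sheaf) exactly when some open neighbourhood of P is smooth over k. -/
theorem result (k : Type u) [Field k] [IsAlgClosed k] (X : Scheme.{u}) [X.Over (Spec (CommRingCat.of k))] [IsProper (X ↘ (Spec (CommRingCat.of k)))] [IsReduced X] [ConnectedSpace X]
    (hequi : ∀ Z ∈ irreducibleComponents (X : Type u), topologicalKrullDim Z = 1)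
    (P : X) (hP : IsClosed ({P} : Set X)) :
    PicF.IsInvertible (ClSub.idealMod (Scheme.IdealSheafData.vanishingIdeal ⟨{P}, hP⟩)) ↔
      ∃ U : X.Opens, P ∈ U ∧ Smooth (U.ι ≫ (X ↘ (Spec (CommRingCat.of k)))) := by
  set f := X ↘ (Spec (CommRingCat.of k))
  haveI : IsLocallyNoetherian X := LocallyOfFiniteType.isLocallyNoetherian f
  haveI : IsLocallyNoetherian (Spec (CommRingCat.of k)) := inferInstance
  haveI : LocallyOfFinitePresentation f := inferInstance
  have hdimX : topologicalKrullDim X ≤ 1 := by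
    rw [TopDim50.dim_eq_iSup_irreducibleComponents]
    exact iSup₂_le fun Z hZ => (hequi Z hZ).le
  have hdimP : ringKrullDim (X.presheaf.stalk P) ≤ 1 := (Crv77.stalk_dim_le P).trans hdimX
  have hnotfield : IsLocalRing.maximalIdeal (X.presheaf.stalk P) ≠ ⊥ := by
    intro h
    have hF : IsField (X.presheaf.stalk P) := IsLocalRing.isField_iff_maximalIdeal_eq.mpr h
    obtain ⟨Z, hZ, hPZ⟩ : ∃ Z ∈ irreducibleComponents X, P ∈ Z :=
      ⟨_, irreducibleComponent_mem_irreducibleComponents P, mem_irreducibleComponent⟩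
    obtain ⟨η, hη⟩ := QuasiSober.sober hZ.1 (isClosed_of_mem_irreducibleComponents Z hZ)
    have hηP : η = P := by
      obtain ⟨q, hq⟩ := (Scheme.range_fromSpecStalk (X := X) (x := P)).ge
        (show η ⤳ P from hη.specializes hPZ)
      have : Subsingleton (Spec (X.presheaf.stalk P)) := by
        letI := hF.toField
        exact (inferInstance : Subsingleton (PrimeSpectrum (X.presheaf.stalk P)))
      rw [← hq, Subsingleton.elim q (IsLocalRing.closedPoint _), Scheme.fromSpecStalk_closedPoint]
    have hZP : Z = {P} := by rw [← hη.def, hηP, hP.closure_eq]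
    have := hequi Z hZ
    rw [hZP] at this
    have h0 : topologicalKrullDim ({P} : Set X) ≤ 0 := by
      rw [topologicalKrullDim, Order.krullDim_nonpos_iff_forall_isMax]
      intro a b _
      have hb : ∀ c : TopologicalSpace.IrreducibleCloseds ({P} : Set X), (c : Set ({P} : Set X)) = Set.univ := fun c => by
        obtain ⟨x, hx⟩ := c.isIrreducible.nonempty
        exact Set.eq_univ_of_forall fun y => Subsingleton.elim x y ▸ hx
      exact (SetLike.coe_injective ((hb b).trans (hb a).symm)).le
    rw [this] at h0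
    norm_num at h0
  rw [Curves2.isInvertible_idealMod_iff]
  constructor
  · intro hinv
    obtain ⟨g, hg, hgI⟩ := Div89.exists_stalk_generator hinv P
    rw [stalkIdeal_vanishing] at hgI
    haveI : IsDomain (X.presheaf.stalk P) := isDomain_of_maximal_eq_span hg hgI
    haveI : IsPrincipalIdealRing (X.presheaf.stalk P) :=
      ((tfae_of_isNoetherianRing_of_isLocalRing_of_isDomain (R := X.presheaf.stalk P)).out 4 0).1 (show (IsLocalRing.maximalIdeal (X.presheaf.stalk P)).IsPrincipal from ⟨g, hgI⟩)
    obtain ⟨W, hPW, hW⟩ := EGA73.exists_irreducible_nbhd P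
    obtain ⟨V, hV, hPV, hVW⟩ := exists_isAffineOpen_mem_and_subset (show P ∈ W from hPW)
    haveI : IrreducibleSpace V := by
      refine isIrreducible_iff_irreducibleSpace.mp ?_
      set η := X.fromSpecStalk P (genericPoint (Spec (X.presheaf.stalk P)))
      refine ⟨⟨P, hPV⟩, fun u v hu hv ⟨a, haV, hau⟩ ⟨b, hbV, hbv⟩ => ?_⟩
      exact ⟨η, (hW a (hVW haV)).mem_open V.2 haV, (hW a (hVW haV)).mem_open hu hau,
        (hW b (hVW hbV)).mem_open hv hbv⟩
    haveI : IsIntegral (V : Scheme.{u}) := isIntegral_of_irreducibleSpace_of_isReduced _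
    haveI : Nonempty (V : Scheme.{u}) := ⟨⟨P, hPV⟩⟩
    haveI : Nonempty ((⊤ : (V : Scheme.{u}).Opens) : Type u) := ⟨⟨⟨P, hPV⟩, trivial⟩⟩
    haveI : IsDomain Γ(X, V) :=
      (Scheme.Opens.topIso V).commRingCatIsoToRingEquiv.toMulEquiv.isDomain_iff.1 inferInstance
    refine ⟨f.smoothLocus, ?_, ?_⟩
    · let U : (Spec (CommRingCat.of k)).Opens := ⊤
      have hU : IsAffineOpen U := isAffineOpen_top _
      rw [Scheme.Hom.mem_smoothLocus, formallySmooth_stalkMap_iff U hU V hV le_top hPV]
      let e : k ≃+* Γ(Spec (CommRingCat.of k), U) :=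
        (Scheme.ΓSpecIso (CommRingCat.of k)).symm.commRingCatIsoToRingEquiv
      let : Field Γ(Spec (CommRingCat.of k), U) :=
        (MulEquiv.isField (Field.toIsField k) e.symm.toMulEquiv).toField
      haveI : IsAlgClosed Γ(Spec (CommRingCat.of k), U) := IsAlgClosed.of_ringEquiv _ _ e
      let : Algebra Γ(Spec (CommRingCat.of k), U) Γ(X, V) := (f.appLE U V le_top).hom.toAlgebra
      haveI : Algebra.FiniteType Γ(Spec (CommRingCat.of k), U) Γ(X, V) := f.finiteType_appLE hU hV le_top
      set m := (hV.primeIdealOf ⟨P, hPV⟩).asIdeal with hm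
      haveI hmax : m.IsMaximal := Curves2.isClosed_primeIdealOf hV hPV hP
      let : Algebra Γ(X, V) (X.presheaf.stalk P) := TopCat.Presheaf.algebra_section_stalk X.presheaf ⟨P, hPV⟩
      have := hV.isLocalization_stalk ⟨P, hPV⟩
      let est : X.presheaf.stalk P ≃ₐ[Γ(X, V)] Localization.AtPrime m :=
        IsLocalization.algEquiv m.primeCompl _ _
      have hic : IsIntegrallyClosed (Localization.AtPrime m) := IsIntegrallyClosed.of_equiv est.toRingEquiv
      have hd : Ring.KrullDimLE 1 (Localization.AtPrime m) := Ring.krullDimLE_iff.mpr (by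
        rw [← ringKrullDim_eq_of_ringEquiv est.toRingEquiv]; exact hdimP)
      haveI : Algebra.FiniteType Γ(X, V) m.ResidueField :=
        Algebra.FiniteType.of_surjective (IsScalarTower.toAlgHom Γ(X, V) Γ(X, V) m.ResidueField)
          (Ideal.algebraMap_residueField_surjective m)
      haveI : Algebra.FiniteType Γ(Spec (CommRingCat.of k), U) m.ResidueField :=
        Algebra.FiniteType.trans ‹_› ‹_›
      haveI : Module.Finite Γ(Spec (CommRingCat.of k), U) m.ResidueField :=
        finite_of_finite_type_of_isJacobsonRing _ _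
      have hsep : Algebra.IsSeparable Γ(Spec (CommRingCat.of k), U) m.ResidueField := inferInstance
      exact Curves2.isSmoothAt_of_separable_residue Γ(Spec (CommRingCat.of k), U) Γ(X, V) m hic hd hsep
    · rw [← Scheme.Hom.smoothLocus_eq_top_iff, ← Scheme.Hom.preimage_smoothLocus_eq]
      exact Scheme.Opens.ι_preimage_self f.smoothLocus
  · rintro ⟨U, hPU, hsm⟩
    refine Div89.isEffCartier_of_stalk fun x hx => ?_
    obtain rfl := mem_support_vanishing hP x hx
    rw [stalkIdeal_vanishing]
    haveI : IsRegularLocalRing ((U : Scheme.{u}).presheaf.stalk ⟨x, hPU⟩) :=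
      VarGal.isRegularLocalRing_stalk_of_smooth (U.ι ≫ f) ⟨x, hPU⟩
    haveI : IsRegularLocalRing (X.presheaf.stalk x) :=
      IsRegularLocalRing.of_ringEquiv (U.stalkIso ⟨x, hPU⟩).commRingCatIsoToRingEquiv
    haveI : IsDomain (X.presheaf.stalk x) := Ega11.RegLocal.isDomain _
    have hfin : (IsLocalRing.maximalIdeal (X.presheaf.stalk x)).spanFinrank ≤ 1 := by
      have h := (isRegularLocalRing_iff (X.presheaf.stalk x)).1 inferInstance
      have h' : ((IsLocalRing.maximalIdeal (X.presheaf.stalk x)).spanFinrank : WithBot ℕ∞) ≤ 1 := by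
        rw [h]; exact hdimP
      exact_mod_cast h'
    obtain ⟨g, hgm⟩ : ∃ g, IsLocalRing.maximalIdeal (X.presheaf.stalk x) = Ideal.span {g} := by
      have h2 := Submodule.FG.generators_ncard (IsNoetherian.noetherian (IsLocalRing.maximalIdeal (X.presheaf.stalk x)))
      have h3 := Submodule.span_generators (IsLocalRing.maximalIdeal (X.presheaf.stalk x))
      rw [← h2, @Set.ncard_le_one_iff_subsingleton _ _ (Submodule.FG.finite_generators (IsNoetherian.noetherian _)).to_subtype] at hfin
      rcases hfin.eq_empty_or_singleton with h | ⟨g, h⟩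
      · rw [h, Submodule.span_empty] at h3
        exact absurd h3.symm hnotfield
      · exact ⟨g, by rw [h] at h3; exact h3.symm⟩
    refine ⟨g, mem_nonZeroDivisors_of_ne_zero fun h0 => hnotfield ?_, hgm⟩
    rw [hgm, h0, Ideal.span_singleton_eq_bot]

end Groth.Agent.S15923
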