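import Groth.Statements.S15939
import Mathlib

set_option autoImplicit false
universe u
open CAlg

namespace Groth.Agent.S15939

open Polynomial in
/-- Let κ be a field and A a commutative κ-algebra whose only κ-subalgebras are the image of κ and A
itself, these two being different. Then A is finite-dimensional over κ, and A is isomorphic as a
κ-algebra to the dual numbers over κ, or to κ × κ, or A is a field which is either separable over κ
or isomorphic to κ[X]/(X^p - a) with p the (positive) characteristic of κ and a an element of κ that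
is not a p-th power. (The published statement also records that these four cases exclude one
another; that part is not restated.) -/
theorem result (κ A : Type u) [Field κ] [CommRing A] [Algebra κ A]
    (h : IsSimpleOrder (Subalgebra κ A)) :
    FiniteDimensional κ A ∧
    (Nonempty (A ≃ₐ[κ] DualNumber κ) ∨ Nonempty (A ≃ₐ[κ] (κ × κ)) ∨
      (IsField A ∧ (Algebra.IsSeparable κ A ∨
        ∃ (p : ℕ) (a : κ), p.Prime ∧ CharP κ p ∧ (∀ b : κ, b ^ p ≠ a) ∧
          Nonempty (A ≃ₐ[κ] AdjoinRoot (X ^ p - C a))))) := by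
  classical
  haveI := h
  have hne : (⊥ : Subalgebra κ A) ≠ ⊤ := bot_ne_top
  have gen : ∀ x : A, x ∉ (⊥ : Subalgebra κ A) → Algebra.adjoin κ {x} = ⊤ := fun x hx =>
    (IsSimpleOrder.eq_bot_or_eq_top _).resolve_left fun h0 =>
      hx (h0 ▸ Algebra.subset_adjoin (Set.mem_singleton x))
  obtain ⟨x, hx⟩ : ∃ x : A, x ∉ (⊥ : Subalgebra κ A) := by
    by_contra hc
    push Not at hc
    exact hne (top_unique fun z _ => hc z)
  haveI : Nontrivial A := nontrivial_of_ne x 0 fun h0 => hx (h0 ▸ zero_mem _)
  have hint : IsIntegral κ x := by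
    by_contra hc
    have ht : Transcendental κ x := fun ha => hc ha.isIntegral
    have hinj := transcendental_iff_injective.1 ht
    have hx2 : x * x ∉ (⊥ : Subalgebra κ A) := fun hm => by
      obtain ⟨c, hc'⟩ := Algebra.mem_bot.1 hm
      have h1 : (Polynomial.X * Polynomial.X : Polynomial κ) = Polynomial.C c :=
        hinj (by simp [hc'])
      have h2 := congrArg Polynomial.natDegree h1
      rw [Polynomial.natDegree_mul Polynomial.X_ne_zero Polynomial.X_ne_zero,
        Polynomial.natDegree_X, Polynomial.natDegree_C] at h2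
      omega
    have hmem : x ∈ Algebra.adjoin κ {x * x} := gen _ hx2 ▸ Algebra.mem_top
    rw [Algebra.adjoin_singleton_eq_range_aeval] at hmem
    obtain ⟨f, hf⟩ := hmem
    have h1 : f.comp (Polynomial.X * Polynomial.X) = Polynomial.X := hinj (by
      rw [Polynomial.aeval_comp, map_mul, Polynomial.aeval_X]
      exact hf)
    have h2 := congrArg Polynomial.natDegree h1
    rw [Polynomial.natDegree_comp, Polynomial.natDegree_mul Polynomial.X_ne_zero Polynomial.X_ne_zero,
      Polynomial.natDegree_X] at h2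
    omega
  haveI hfin : FiniteDimensional κ A := ⟨by
    have := hint.fg_adjoin_singleton
    rwa [gen x hx, Algebra.top_toSubmodule] at this⟩
  refine ⟨hfin, ?_⟩
  have hrange : ∀ (B : Type u) [CommRing B] [Algebra κ B] (φ : B →ₐ[κ] A) (b : B),
      φ b ∉ (⊥ : Subalgebra κ A) → Function.Surjective φ := fun B _ _ φ b hb => by
    rw [← AlgHom.range_eq_top]
    exact (IsSimpleOrder.eq_bot_or_eq_top _).resolve_left fun h0 =>
      hb (h0 ▸ AlgHom.mem_range_self φ b)
  by_cases hred : IsReduced A
  swap
  · obtain ⟨y, hy, hy0⟩ : ∃ y : A, IsNilpotent y ∧ y ≠ 0 := by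
      by_contra hc
      push Not at hc
      exact hred ⟨hc⟩
    let N := nilpotencyClass y
    have hN : y ^ N = 0 := pow_nilpotencyClass hy
    have hN2 : 2 ≤ N := by
      by_contra hc
      have h1 : y ^ (1 : ℕ) = 0 := pow_eq_zero_of_le (by omega) hN
      rw [pow_one] at h1
      exact hy0 h1
    let e := y ^ (N - 1)
    have he0 : e ≠ 0 := pow_pred_nilpotencyClass hy
    have he2 : e * e = 0 := by
      rw [← pow_add]
      exact pow_eq_zero_of_le (by omega) hN
    have hes : e ∉ (⊥ : Subalgebra κ A) := fun hm => by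
      obtain ⟨c, hc⟩ := Algebra.mem_bot.1 hm
      rw [← hc, ← map_mul, map_eq_zero_iff _ (algebraMap κ A).injective, mul_self_eq_zero] at he2
      exact he0 (by rw [← hc, he2, map_zero])
    let φ : DualNumber κ →ₐ[κ] A := DualNumber.lift ⟨(Algebra.ofId κ A, e), he2, fun a => Commute.all _ _⟩
    have hφε : φ DualNumber.eps = e := DualNumber.lift_apply_eps _
    refine Or.inl ⟨(AlgEquiv.ofBijective φ ⟨(injective_iff_map_eq_zero φ).2 fun z hz => ?_,
      hrange _ φ DualNumber.eps (by rwa [hφε])⟩).symm⟩
    have hz' : algebraMap κ A z.fst + algebraMap κ A z.snd * e = 0 := by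
      rw [DualNumber.lift_apply_apply] at hz
      exact hz
    by_cases hs : z.snd = 0
    · rw [hs, map_zero, zero_mul, add_zero, map_eq_zero_iff _ (algebraMap κ A).injective] at hz'
      exact TrivSqZeroExt.ext hz' hs
    · refine absurd (Algebra.mem_bot.2 ⟨-(z.snd)⁻¹ * z.fst, ?_⟩) hes
      have hu : algebraMap κ A (z.snd)⁻¹ * algebraMap κ A z.snd = 1 := by
        rw [← map_mul, inv_mul_cancel₀ hs, map_one]
      rw [map_mul, map_neg]
      linear_combination -(algebraMap κ A (z.snd)⁻¹) * hz' + e * hu
  by_cases hfld : IsField A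
  swap
  · obtain ⟨y, hy0, hyu⟩ : ∃ y : A, y ≠ 0 ∧ ¬ IsUnit y := by
      by_contra hc
      push Not at hc
      exact hfld ⟨exists_pair_ne A, mul_comm, fun ha => isUnit_iff_exists_inv.1 (hc _ ha)⟩
    haveI : IsArtinianRing A := IsArtinianRing.of_finite κ A
    obtain ⟨n, w, hw⟩ := IsArtinian.exists_pow_succ_smul_dvd y (1 : A)
    rw [smul_eq_mul, smul_eq_mul, mul_one] at hw
    have hk : ∀ k, y ^ n * (y * w) ^ k = y ^ n := fun k => by
      induction k with
      | zero => rw [pow_zero, mul_one]
      | succ k ih =>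
        calc y ^ n * (y * w) ^ (k + 1) = (y ^ (n + 1) * w) * (y * w) ^ k := by ring
          _ = y ^ n := by rw [hw, ih]
    let e := (y * w) ^ n
    have hee : e * e = e := by
      calc (y * w) ^ n * (y * w) ^ n = (y ^ n * (y * w) ^ n) * w ^ n := by ring
        _ = (y * w) ^ n := by rw [hk]; ring
    have hn0 : n ≠ 0 := fun h0 => hyu (by
      subst h0
      rw [pow_zero, pow_one] at hw
      exact isUnit_iff_exists_inv.2 ⟨w, hw⟩)
    have he0 : e ≠ 0 := fun h0 => hy0 (eq_zero_of_pow_eq_zero (n := n) (by
      rw [← hk n, show (y * w) ^ n = e from rfl, h0, mul_zero]))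
    have he1 : e ≠ 1 := fun h0 => hyu (isUnit_of_mul_isUnit_left
      ((isUnit_pow_iff hn0).1 (by rw [show (y * w) ^ n = 1 from h0]; exact isUnit_one)))
    have hes : e ∉ (⊥ : Subalgebra κ A) := fun hm => by
      obtain ⟨c, hc⟩ := Algebra.mem_bot.1 hm
      have h1 : IsIdempotentElem c := (algebraMap κ A).injective (by rw [map_mul, hc, hee])
      rcases IsIdempotentElem.iff_eq_zero_or_one.1 h1 with rfl | rfl
      · exact he0 (by rw [← hc, map_zero])
      · exact he1 (by rw [← hc, map_one])
    let φ : κ × κ →ₐ[κ] A :=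
      { toFun := fun z => algebraMap κ A z.1 * e + algebraMap κ A z.2 * (1 - e)
        map_one' := by simp
        map_mul' := fun a b => by
          simp only [Prod.fst_mul, Prod.snd_mul, map_mul]
          linear_combination (-(algebraMap κ A a.1 - algebraMap κ A a.2) *
            (algebraMap κ A b.1 - algebraMap κ A b.2)) * hee
        map_zero' := by simp
        map_add' := fun a b => by simp only [Prod.fst_add, Prod.snd_add, map_add]; ring
        commutes' := fun r => by simp [mul_sub] }
    refine Or.inr (Or.inl ⟨(AlgEquiv.ofBijective φ ⟨(injective_iff_map_eq_zero φ).2 fun z hz => ?_,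
      hrange _ φ (1, 0) (by simpa [φ] using hes)⟩).symm⟩)
    have hz' : algebraMap κ A z.1 * e + algebraMap κ A z.2 * (1 - e) = 0 := hz
    have h1 : algebraMap κ A z.1 * e = 0 := by
      linear_combination e * hz' - (algebraMap κ A z.1 - algebraMap κ A z.2) * hee
    have h2 : algebraMap κ A z.2 * (1 - e) = 0 := by linear_combination hz' - h1
    refine Prod.ext (by_contra fun hne0 => he0 ?_) (by_contra fun hne0 => he1 ?_)
    · exact ((IsUnit.mk0 _ hne0).map (algebraMap κ A)).mul_right_eq_zero.1 h1
    · exact (sub_eq_zero.1 (((IsUnit.mk0 _ hne0).map (algebraMap κ A)).mul_right_eq_zero.1 h2)).symm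
  refine Or.inr (Or.inr ⟨hfld, ?_⟩)
  letI := hfld.toField
  haveI : Algebra.IsAlgebraic κ A := Algebra.IsAlgebraic.of_finite κ A
  rcases IsSimpleOrder.eq_bot_or_eq_top (separableClosure κ A).toSubalgebra with hb | ht
  swap
  · exact Or.inl ((separableClosure.eq_top_iff κ A).1
      (IntermediateField.toSubalgebra_injective (ht.trans IntermediateField.top_toSubalgebra.symm)))
  haveI hpi : IsPurelyInseparable κ A := separableClosure.eq_bot_iff.1
    (IntermediateField.toSubalgebra_injective (hb.trans IntermediateField.bot_toSubalgebra.symm))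
  let p := ringExpChar κ
  haveI : ExpChar κ p := ringExpChar.of_eq rfl
  obtain ⟨n, hn⟩ := IsPurelyInseparable.pow_mem κ p x
  have hex : ∃ n : ℕ, x ^ p ^ n ∈ (⊥ : Subalgebra κ A) := ⟨n, Algebra.mem_bot.2 hn⟩
  obtain ⟨m, hm⟩ : ∃ m, Nat.find hex = m + 1 := Nat.exists_eq_succ_of_ne_zero fun h0 => hx (by
    have := Nat.find_spec hex
    rwa [h0, pow_zero, pow_one] at this)
  let y := x ^ p ^ m
  have hy : y ∉ (⊥ : Subalgebra κ A) := Nat.find_min hex (by omega)
  obtain ⟨a, ha⟩ : ∃ a, algebraMap κ A a = y ^ p := Algebra.mem_bot.1 (by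
    have := Nat.find_spec hex
    rwa [hm, pow_succ, pow_mul] at this)
  have hp1 : p ≠ 1 := fun h1 => hy (by rw [show y = y ^ p by rw [h1, pow_one], ← ha]; exact Subalgebra.algebraMap_mem _ a)
  have hpp : p.Prime := (expChar_is_prime_or_one κ p).resolve_right hp1
  haveI : CharP κ p := (show ∀ q, ExpChar κ q → q ≠ 1 → CharP κ q from fun q hq h1 => by
    cases hq with
    | zero => exact absurd rfl h1
    | prime _ => assumption) p inferInstance hp1
  haveI : ExpChar A p := expChar_of_injective_ringHom (algebraMap κ A).injective p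
  have hna : ∀ b : κ, b ^ p ≠ a := fun b hb => hy (Algebra.mem_bot.2 ⟨b,
    frobenius_inj A p (show algebraMap κ A b ^ p = y ^ p by rw [← map_pow, hb, ha])⟩)
  refine Or.inr ⟨p, a, hpp, inferInstance, hna, ?_⟩
  haveI : Fact (Irreducible (Polynomial.X ^ p - Polynomial.C a : Polynomial κ)) :=
    ⟨X_pow_sub_C_irreducible_of_prime hpp hna⟩
  let φ : AdjoinRoot (Polynomial.X ^ p - Polynomial.C a) →ₐ[κ] A :=
    AdjoinRoot.liftAlgHom _ (Algebra.ofId κ A) y (by simp [Algebra.ofId_apply, ha])
  exact ⟨(AlgEquiv.ofBijective φ ⟨φ.toRingHom.injective,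
    hrange _ φ (AdjoinRoot.root _) (by simpa [φ] using hy)⟩).symm⟩

end Groth.Agent.S15939
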