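import Groth.Statements.S1594
import Groth.Agent.Node12.Descent
import Groth.Agent.Sga84.TorsorDesc
import Mathlib.AlgebraicGeometry.Morphisms.LocalFlatDescent

set_option autoImplicit false
set_option backward.isDefEq.respectTransparency.types false
universe u
open CategoryTheory CategoryTheory.Limits AlgebraicGeometry
open Curves

namespace Groth.Agent.S1594

/-- (2) implies (1), for a covering by one flat quasi-compact surjective morphism: let f : X → S and g :
S' → S flat, quasi-compact and surjective. If the base change X ×_S S' → S' is at-worst-nodal of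
relative dimension one then so is f. -/
theorem result {X S S' : Scheme.{u}} (f : X ⟶ S) (g : S' ⟶ S) [Flat g] [QuasiCompact g] [Surjective g]
    (h : Curv2.IsNodalFamily (pullback.snd f g)) : Curv2.IsNodalFamily f := by
  obtain ⟨hflat', hlfp', hfib⟩ := h
  have hg : Unr55.fpqc g := ⟨⟨inferInstance, inferInstance⟩, inferInstance⟩
  have hflat : Flat f := by
    have := Sga84.flat_descendsAlong.{u}
    exact MorphismProperty.of_pullback_snd_of_descendsAlong hg hflat'
  have hlfp : LocallyOfFinitePresentation f :=
    MorphismProperty.of_pullback_snd_of_descendsAlong (P := @LocallyOfFinitePresentation)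
      (Q := @Surjective ⊓ @Flat ⊓ @QuasiCompact) hg hlfp'
  refine ⟨hflat, hlfp, fun s => ?_⟩
  obtain ⟨s', rfl⟩ := g.surjective s
  obtain ⟨hequi, hnod⟩ := hfib s'
  let f' := pullback.snd f g
  let k := S.residueField (g s')
  let K := S'.residueField s'
  let _ : Algebra k K := (g.residueFieldMap s').hom.toAlgebra
  let iF : (f.fiber (g s')).Over (Spec (CommRingCat.of k)) := ⟨f.fiberToSpecResidueField (g s')⟩
  let iF' : (f'.fiber s').Over (Spec (CommRingCat.of K)) := ⟨f'.fiberToSpecResidueField s'⟩
  let B := Curv2.bc k (f.fiber (g s')) K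
  let iB : B.Over (Spec (CommRingCat.of K)) := ⟨Curv2.bcSnd k (f.fiber (g s')) K⟩
  have hF : LocallyOfFiniteType ((f.fiber (g s')) ↘ Spec (CommRingCat.of k)) :=
    (inferInstance : LocallyOfFiniteType (pullback.snd f (S.fromSpecResidueField (g s'))))
  have hF' : LocallyOfFiniteType ((f'.fiber s') ↘ Spec (CommRingCat.of K)) :=
    (inferInstance : LocallyOfFiniteType (pullback.snd f' (S'.fromSpecResidueField s')))
  have sqF : IsPullback (f'.fiberι s') (f'.fiberToSpecResidueField s') (pullback.snd f g)
      (S'.fromSpecResidueField s') := IsPullback.of_hasPullback _ _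
  have sqP := sqF.paste_horiz (IsPullback.of_hasPullback f g)
  rw [← Scheme.Hom.SpecMap_residueFieldMap_fromSpecResidueField] at sqP
  have sqU : IsPullback (f.fiberι (g s')) (f.fiberToSpecResidueField (g s')) f
      (S.fromSpecResidueField (g s')) := IsPullback.of_hasPullback _ _
  have hw : (f'.fiberι s' ≫ pullback.fst f g) ≫ f =
      (f'.fiberToSpecResidueField s' ≫ Spec.map (g.residueFieldMap s')) ≫ S.fromSpecResidueField (g s') := by
    simpa using sqP.w
  let ν : f'.fiber s' ⟶ f.fiber (g s') := sqU.lift _ _ hw
  have sqν : IsPullback ν (f'.fiberToSpecResidueField s')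
      (f.fiberToSpecResidueField (g s')) (Spec.map (g.residueFieldMap s')) := by
    refine IsPullback.of_right ?_ (sqU.lift_snd _ _ _) sqU
    rw [sqU.lift_fst]
    exact sqP
  have sqB : IsPullback (Curv2.bcFst k (f.fiber (g s')) K) (Curv2.bcSnd k (f.fiber (g s')) K)
      (f.fiberToSpecResidueField (g s')) (Spec.map (g.residueFieldMap s')) := IsPullback.of_hasPullback _ _
  let i : B ≅ f'.fiber s' := sqB.isoIsPullback _ _ sqν
  have hi : i.hom ≫ ((f'.fiber s') ↘ Spec (CommRingCat.of K)) = B ↘ Spec (CommRingCat.of K) :=
    IsPullback.isoIsPullback_hom_snd _ _ _ _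
  obtain ⟨hequiB, hnodB⟩ := Groth.Agent.Node12.atWorstNodal_of_etale K (f'.fiber s') hequi hnod i.hom hi
  exact Groth.Agent.Node12.atWorstNodal_of_bc k (f.fiber (g s')) K hequiB hnodB

end Groth.Agent.S1594
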