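import Groth.Statements.S15941
import Mathlib

set_option autoImplicit false
universe u
open HTop

noncomputable section
namespace Groth.Agent.S15941.AuxS41
theorem result (A : Type*) [CommRing A] [IsDomain A]
    [IsIntegrallyClosed A] : ∀ x y : A, x ^ 3 = y ^ 2 → ∃! a : A, x = a ^ 2 ∧ y = a ^ 3 := by
  intro x y h
  have uniq : ∀ a b : A, a^2 = b^2 → a^3 = b^3 → a = b := by
    intro a b h2 h3
    by_cases ha : a = 0
    · subst ha; exact (pow_eq_zero_iff (n:=2) two_ne_zero).1 (by simpa using h2.symm) |>.symm
    · refine mul_left_cancel₀ (pow_ne_zero 2 ha) ?_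
      calc a^2 * a = b^2*b := by rw [← pow_succ, ← pow_succ]; exact h3
        _ = a^2 * b := by rw [h2]
  by_cases hx : x = 0
  · subst hx
    have hy : y = 0 := by simpa using h.symm
    exact ⟨0, by simp [hy], fun b hb => (pow_eq_zero_iff (n:=2) two_ne_zero).1 hb.1.symm⟩
  · let K := FractionRing A
    have hxK : algebraMap A K x ≠ 0 := by simpa using hx
    have e2 : (algebraMap A K y / algebraMap A K x)^2 = algebraMap A K x := by
      rw [div_pow, div_eq_iff (pow_ne_zero _ hxK), ← map_pow, ← h, map_pow]; ring
    obtain ⟨a, ha⟩ := IsIntegrallyClosed.algebraMap_eq_of_integral (R := A) (K := K)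
      (x := algebraMap A K y / algebraMap A K x)
      (IsIntegral.of_pow two_pos (by rw [e2]; exact isIntegral_algebraMap))
    have a2 : x = a^2 := IsFractionRing.injective A K (by rw [map_pow, ha, e2])
    have a3 : y = a^3 := IsFractionRing.injective A K (by
      rw [map_pow, pow_succ, ha, e2, mul_div_cancel₀ _ hxK])
    exact ⟨a, ⟨a2, a3⟩, fun b hb => uniq _ _ (hb.1.symm.trans a2) (hb.2.symm.trans a3)⟩
end Groth.Agent.S15941.AuxS41

end

namespace Groth.Agent.S15941

/-- An integrally closed integral domain is a seminormal ring, that is, whenever x^3 = y^2 there is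
exactly one element a with x = a^2 and y = a^3. (The published statement is for a normal Noetherian
scheme and reduces at once to this affine integral case; the Noetherian hypothesis plays no role.) -/
theorem result (A : Type u) [CommRing A] [IsDomain A]
    [IsIntegrallyClosed A] : HTop.IsSeminormalRing A := by
  exact AuxS41.result A

end Groth.Agent.S15941
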