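import Groth.Statements.S15942
import Groth.Agent.NeronHD28.GenLocal
import Groth.Agent.SpFP87.Reduced
import Groth.Agent.An92.Rat.SchDenseOps
-- import your own Groth.Agent.* helpers here

set_option autoImplicit false
universe u
open Neron

namespace Groth.Agent.S15942

open CategoryTheory AlgebraicGeometry in
/-- Let S be a Dedekind scheme (integral, Noetherian, separated, of dimension one, with regular local
rings), K its function field with generic point η : Spec K → S, and G → S a smooth separated
S-scheme. Suppose that for every closed point p of S the base change G_p = G ×_S Spec O_{S,p} is a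
Néron lft-model of its generic fibre over Spec O_{S,p}: for every smooth scheme Y over Spec O_{S,p},
restricting to generic fibres is a bijection from morphisms Y → G_p over Spec O_{S,p} onto morphisms
of generic fibres over K. Then G is a Néron lft-model of its generic fibre over S: for every smooth
S-scheme Y, restriction along η is a bijection from S-morphisms Y → G onto K-morphisms Y_η → G_η.
(The published statement is for a smooth separated group scheme; the group structure plays no part
in the property or in its proof and is not assumed here.) -/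
theorem result
    {S : Scheme.{u}} [IsIntegral S] [IsNoetherian S] [S.IsSeparated]
    (hreg : ∀ s : S, IsRegularLocalRing (S.presheaf.stalk s)) (hdim : topologicalKrullDim S = 1)
    (G : Over S) [Smooth G.hom] [IsSeparated G.hom]
    (hloc : ∀ p : S, IsClosed ({p} : Set S) →
      ∀ Y : Over (Spec (S.presheaf.stalk p)), Smooth Y.hom →
        Function.Bijective (fun g : Y ⟶ (Over.pullback (S.fromSpecStalk p)).obj G =>
          (Over.pullback (Spec.map (S.presheaf.stalkSpecializes (genericPoint_specializes p)))).map g)) :
    ∀ Y : Over S, Smooth Y.hom →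
      Function.Bijective (fun g : Y ⟶ G => (Over.pullback (S.fromSpecStalk (genericPoint S))).map g) := by
  intro Y hY
  let η := S.fromSpecStalk (genericPoint S)
  let m : Limits.pullback Y.hom η ⟶ Y.left := Limits.pullback.fst Y.hom η
  haveI : IsLocallyNoetherian Y.left := LocallyOfFiniteType.isLocallyNoetherian Y.hom
  haveI : IsReduced Y.left := SpFP87.isReduced_of_smooth Y.hom
  haveI : IsLocallyNoetherian (Spec (S.presheaf.stalk (genericPoint S))) := inferInstance
  haveI : IsLocallyNoetherian (Limits.pullback Y.hom η) :=
    LocallyOfFiniteType.isLocallyNoetherian (Limits.pullback.snd Y.hom η)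
  haveI : QuasiCompact η :=
    (quasiCompact_iff η).2 fun U _ _ => TopologicalSpace.NoetherianSpace.isCompact _
  haveI : QuasiCompact m := MorphismProperty.pullback_fst (P := @QuasiCompact) Y.hom η inferInstance
  haveI : IsDominant m := ⟨by
    rw [DenseRange, Scheme.Pullback.range_fst]
    have hg : Dense (Set.range η) := by
      refine Dense.mono ?_ (dense_iff_closure_eq.2 (genericPoint_spec S))
      rintro _ rfl
      exact ⟨IsLocalRing.closedPoint _, Scheme.fromSpecStalk_closedPoint⟩
    haveI : UniversallyOpen Y.hom := inferInstance
    exact hg.preimage Y.hom.isOpenMap⟩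
  have key : ∀ w : (Over.pullback η).obj Y ⟶ (Over.pullback η).obj G,
      ∃! g : Y.left ⟶ G.left, g ≫ G.hom = Y.hom ∧ m ≫ g = w.left ≫ Limits.pullback.fst G.hom η := by
    intro w
    refine NeronHD28.existsUnique_ext_of_local G.hom Y.hom m (w.left ≫ Limits.pullback.fst G.hom η) fun y => ?_
    obtain ⟨p, hp, hpc⟩ := (isClosed_closure : IsClosed (closure ({Y.hom y} : Set S))).exists_closed_singleton
      ⟨_, subset_closure rfl⟩
    have hsp : Y.hom y ⤳ p := specializes_iff_mem_closure.2 hp
    let jp := S.fromSpecStalk p
    let j := Spec.map (S.presheaf.stalkSpecializes (genericPoint_specializes p))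
    have hj : j ≫ jp = η := Scheme.SpecMap_stalkSpecializes_fromSpecStalk _
    let Yp : Over (Spec (S.presheaf.stalk p)) := (Over.pullback jp).obj Y
    haveI : Smooth Yp.hom := MorphismProperty.pullback_snd (P := @Smooth) Y.hom jp hY
    let A : Limits.pullback Yp.hom j ⟶ Limits.pullback Y.hom η :=
      Limits.pullback.lift (Limits.pullback.fst Yp.hom j ≫ Limits.pullback.fst Y.hom jp) (Limits.pullback.snd Yp.hom j) (by
        rw [Category.assoc, Limits.pullback.condition, ← hj]
        exact Limits.pullback.condition_assoc jp)
    have hwc : (A ≫ w.left ≫ Limits.pullback.fst G.hom η) ≫ G.hom =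
        (Limits.pullback.snd Yp.hom j ≫ j) ≫ jp := by
      have h1 : w.left ≫ Limits.pullback.snd G.hom η = Limits.pullback.snd Y.hom η := Over.w w
      simp only [Category.assoc, Limits.pullback.condition, reassoc_of% h1, hj]
      simp only [A, Limits.pullback.lift_snd_assoc]
    let target : (Over.pullback j).obj Yp ⟶ (Over.pullback j).obj ((Over.pullback jp).obj G) :=
      Over.homMk (Limits.pullback.lift
        (Limits.pullback.lift (A ≫ w.left ≫ Limits.pullback.fst G.hom η) (Limits.pullback.snd Yp.hom j ≫ j) hwc)
        (Limits.pullback.snd Yp.hom j) (Limits.pullback.lift_snd _ _ _)) (Limits.pullback.lift_snd _ _ _)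
    obtain ⟨gp, hgp⟩ := (hloc p hpc Yp ‹_›).2 target
    have hgp' : Limits.pullback.fst Yp.hom j ≫ gp.left ≫ Limits.pullback.fst G.hom jp =
        A ≫ w.left ≫ Limits.pullback.fst G.hom η := by
      calc Limits.pullback.fst Yp.hom j ≫ gp.left ≫ Limits.pullback.fst G.hom jp
          = (((Over.pullback j).map gp).left ≫ Limits.pullback.fst ((Over.pullback jp).obj G).hom j) ≫
              Limits.pullback.fst G.hom jp :=
            (Category.assoc _ _ _).symm.trans (congrArg (· ≫ Limits.pullback.fst G.hom jp) (Limits.pullback.lift_fst _ _ _).symm)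
        _ = (target.left ≫ Limits.pullback.fst ((Over.pullback jp).obj G).hom j) ≫
              Limits.pullback.fst G.hom jp :=
            congrArg (fun t => (Over.Hom.left t ≫ Limits.pullback.fst ((Over.pullback jp).obj G).hom j) ≫
              Limits.pullback.fst G.hom jp) hgp
        _ = _ :=
            (congrArg (· ≫ Limits.pullback.fst G.hom jp) (Limits.pullback.lift_fst _ _ _)).trans (Limits.pullback.lift_fst _ _ _)
    let ly : Spec (Y.left.presheaf.stalk y) ⟶ Limits.pullback Y.hom jp :=
      Limits.pullback.lift (Y.left.fromSpecStalk y)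
        (Spec.map (Y.hom.stalkMap y) ≫ Spec.map (S.presheaf.stalkSpecializes hsp)) (by
          simp only [jp, Category.assoc, Scheme.SpecMap_stalkSpecializes_fromSpecStalk,
            Scheme.SpecMap_stalkMap_fromSpecStalk])
    refine ⟨ly ≫ gp.left ≫ Limits.pullback.fst G.hom jp, ?_, fun T c d hcd => ?_⟩
    · have h2 : gp.left ≫ Limits.pullback.snd G.hom jp = Limits.pullback.snd Y.hom jp := Over.w gp
      simp only [Category.assoc, Limits.pullback.condition, reassoc_of% h2]
      simp only [ly, ← Limits.pullback.condition, Limits.pullback.lift_fst_assoc]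
    · haveI : Mono jp := inferInstance
      let k : T ⟶ Limits.pullback Yp.hom j := Limits.pullback.lift (d ≫ ly) (c ≫ Limits.pullback.snd Y.hom η) (by
        rw [← cancel_mono jp]
        simp only [Category.assoc, hj]
        show d ≫ ly ≫ Limits.pullback.snd Y.hom jp ≫ jp = c ≫ Limits.pullback.snd Y.hom η ≫ η
        rw [← Limits.pullback.condition, ← Limits.pullback.condition]
        simp only [ly, Limits.pullback.lift_fst_assoc]
        rw [← Category.assoc, ← hcd, Category.assoc])
      have hkA : k ≫ A = c := by
        refine Limits.pullback.hom_ext ?_ ?_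
        · simp only [A, k, Category.assoc, Limits.pullback.lift_fst, Limits.pullback.lift_fst_assoc]
          refine Eq.trans ?_ hcd.symm
          simp only [ly, Limits.pullback.lift_fst]
        · simp only [A, k, Category.assoc, Limits.pullback.lift_snd]
      have e := congrArg (k ≫ ·) hgp'
      simp only [reassoc_of% hkA] at e
      rw [← e]
      simp only [k, Category.assoc, Limits.pullback.lift_fst_assoc]
  have hfst : ∀ g : Y ⟶ G, ((Over.pullback η).map g).left ≫ Limits.pullback.fst G.hom η = m ≫ g.left :=
    fun g => Limits.pullback.lift_fst _ _ _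
  refine ⟨fun g₁ g₂ h => ?_, fun w => ?_⟩
  · apply Over.OverMorphism.ext
    refine (key ((Over.pullback η).map g₂)).unique ⟨Over.w g₁, ?_⟩ ⟨Over.w g₂, (hfst g₂).symm⟩
    rw [← hfst g₁]
    exact congrArg (fun t => t.left ≫ Limits.pullback.fst G.hom η) h
  · obtain ⟨g, ⟨hg, hgw⟩, -⟩ := key w
    refine ⟨Over.homMk g hg, ?_⟩
    apply Over.OverMorphism.ext
    exact Limits.pullback.hom_ext ((hfst _).trans hgw) ((Over.w ((Over.pullback η).map _)).trans (Over.w w).symm)

end Groth.Agent.S15942
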