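import Groth.Statements.S15949
import Groth.Agent.AlgGrp33.ProjPoint
import Groth.Agent.AlgGrp79.RigidityGlobal
import Groth.Agent.Alb96.GeomInt
import Groth.Agent.Curves2.ProjLineProper
-- import your own Groth.Agent.* helpers here

set_option autoImplicit false
universe u
open AlgGrp

namespace Groth.Agent.S15949

open CategoryTheory CategoryTheory.Limits AlgebraicGeometry MonoidalCategory CartesianMonoidalCategory MonObj
open HomogeneousLocalization MvPolynomial
open Csa25 AlgGrp33.ProjPoint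

section Aux

variable (κ : Type u) [Field κ]

lemma X_mem (R : Type u) [CommRing R] (i : Fin 2) : (MvPolynomial.X i : MvPolynomial (Fin 2) R) ∈ CohB1.polyGrading 1 R 1 :=
  MvPolynomial.isHomogeneous_X R i

lemma geometricallyIntegral_projSpace (n : ℕ) : GeometricallyIntegral (CohB1.ProjSpace.toSpec n κ) := by
  refine ⟨fun K _ y Z a b h => ?_⟩
  letI : Algebra κ K := (Spec.preimage y).hom.toAlgebra
  have hy : Spec.map (CommRingCat.ofHom (algebraMap κ K)) = y := Spec.map_preimage y
  rw [← hy] at h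
  let e : Z ≅ CohB1.ProjSpace n K := h.isoIsPullback _ _ isPullback_linMap_one
  have : IsIntegral (CohB1.ProjSpace n K) := Curves2.ProjLine.isIntegral K n
  have : Nonempty Z := ⟨e.inv (Classical.arbitrary (CohB1.ProjSpace n K))⟩
  exact isIntegral_of_isOpenImmersion e.hom

noncomputable def shear : Matrix (Fin 2) (Fin 2) (Polynomial κ) := !![1, Polynomial.X; 0, 1]

lemma isUnit_shear : IsUnit (shear κ) := by
  refine (Matrix.isUnit_iff_isUnit_det _).mpr ?_
  simp [shear, Matrix.det_fin_two]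

lemma isOpenImmersion_pointAt :
    IsOpenImmersion (pointAt ![1, Polynomial.X] (X_mem (Polynomial κ) (0 : Fin 2)) one_pos
      (by simp) ≫ linMap (algebraMap κ (Polynomial κ)) 1 isUnit_one) := by
  let θ := algebraMap κ (Polynomial κ)
  let s : MvPolynomial (Fin 2) κ := MvPolynomial.X 0
  have hs : s ∈ CohB1.polyGrading 1 κ 1 := MvPolynomial.isHomogeneous_X κ 0
  have hs' : eval ![1, Polynomial.X] (linHom θ (1 : Matrix (Fin 2) (Fin 2) (Polynomial κ)) s) = 1 := by
    rw [linHom_X, linForm_one, eval_X]; rfl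
  rw [pointAt_eq _ _ ((linHom θ (1 : Matrix (Fin 2) (Fin 2) (Polynomial κ))).map_mem hs) one_pos one_pos _ hs']
  have e : pointAt ![1, Polynomial.X] ((linHom θ (1 : Matrix (Fin 2) (Fin 2) (Polynomial κ))).map_mem hs) one_pos hs' ≫
        linMap θ 1 isUnit_one =
      Spec.map (CommRingCat.ofHom ((evAway ![1, Polynomial.X] _ hs').comp
        (Away.map (linHom θ (1 : Matrix (Fin 2) (Fin 2) (Polynomial κ))) s))) ≫
        Proj.awayι (CohB1.polyGrading 1 κ) s hs one_pos := by
    refine (Category.assoc _ _ _).trans ((congrArg (fun f => Spec.map _ ≫ f)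
      (Proj.awayι_comp_map _ _ one_pos _ hs)).trans ((Category.assoc _ _ _).symm.trans ?_))
    rw [← Spec.map_comp, ← CommRingCat.ofHom_comp]
  rw [e]
  set gg := (evAway ![1, Polynomial.X] _ hs').comp (Away.map (linHom θ (1 : Matrix (Fin 2) (Fin 2) (Polynomial κ))) s)
  suffices hgg : Function.Bijective gg by
    have : IsIso (CommRingCat.ofHom gg) := by
      rw [ConcreteCategory.isIso_iff_bijective]; exact hgg
    have : IsOpenImmersion (Proj.awayι (CohB1.polyGrading 1 κ) s hs one_pos) :=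
      inferInstanceAs (IsOpenImmersion (_ ≫ (Proj.basicOpen (CohB1.polyGrading 1 κ) s).ι))
    exact MorphismProperty.comp_mem @IsOpenImmersion (Spec.map (CommRingCat.ofHom gg))
      (Proj.awayι (CohB1.polyGrading 1 κ) s hs one_pos) (inferInstance : IsOpenImmersion _) this
  set Φ := (MvPolynomial.eval₂Hom
          ((HomogeneousLocalization.fromZeroRingHom (CohB1.polyGrading 1 κ) (Submonoid.powers s)).comp
            (algebraMap κ (CohB1.polyGrading 1 κ 0)))
          (fun j : {j : Fin 2 // j ≠ 0} =>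
            (HomogeneousLocalization.mk ⟨1, ⟨MvPolynomial.X j.1, MvPolynomial.isHomogeneous_X κ j.1⟩,
              ⟨s, hs⟩, ⟨1, pow_one _⟩⟩ : HomogeneousLocalization.Away (CohB1.polyGrading 1 κ) s))) with hΦdef
  have hΦ : Function.Bijective Φ := (S9576.result 1 κ).2 0
  suffices hc : Function.Bijective (gg.comp Φ) by
    refine ⟨fun a b hab => ?_, fun c => ?_⟩
    · obtain ⟨a, rfl⟩ := hΦ.2 a
      obtain ⟨b, rfl⟩ := hΦ.2 b
      exact congrArg Φ (hc.1 hab)
    · obtain ⟨a, ha⟩ := hc.2 c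
      exact ⟨Φ a, ha⟩
  have hgC : ∀ r, gg (Φ (MvPolynomial.C r)) = Polynomial.C r := by
    intro r
    have hrw : Φ (MvPolynomial.C r) = Away.mk _ hs 0 (MvPolynomial.C r)
        (by simpa using MvPolynomial.isHomogeneous_C _ r) := by
      apply HomogeneousLocalization.val_injective
      rw [hΦdef, eval₂Hom_C, Away.val_mk]
      show Localization.mk (algebraMap κ (MvPolynomial (Fin 2) κ) r) 1 = _
      congr
    rw [hrw]
    show evAway _ _ hs' (Away.map _ s (Away.mk _ hs 0 (MvPolynomial.C r) _)) = _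
    rw [Away.map_mk, evAway_mk, linHom_C, eval_C]
    rfl
  have hgX : ∀ j, gg (Φ (MvPolynomial.X j)) = Polynomial.X := by
    intro j
    have hrw : Φ (MvPolynomial.X j) = Away.mk _ hs 1 (MvPolynomial.X j.1)
        (by simpa using MvPolynomial.isHomogeneous_X κ j.1) := by
      apply HomogeneousLocalization.val_injective
      rw [hΦdef, eval₂Hom_X', Away.val_mk, HomogeneousLocalization.val_mk]
      congr
      exact (pow_one s).symm
    rw [hrw]
    show evAway _ _ hs' (Away.map _ s (Away.mk _ hs 1 (MvPolynomial.X j.1) _)) = _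
    rw [Away.map_mk, evAway_mk, linHom_X, linForm_one, eval_X]
    obtain ⟨j, hj⟩ := j
    obtain rfl : j = 1 := by omega
    rfl
  let hinv : Polynomial κ →+* MvPolynomial {j : Fin 2 // j ≠ 0} κ :=
    Polynomial.eval₂RingHom MvPolynomial.C (MvPolynomial.X ⟨1, by decide⟩)
  have h1 : hinv.comp (gg.comp Φ) = RingHom.id _ := by
    refine MvPolynomial.ringHom_ext (fun r => ?_) fun j => ?_
    · simp [hinv, hgC]
    · obtain ⟨j, hj⟩ := j
      obtain rfl : j = 1 := by omega
      simp [hinv, hgX]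
  have h2 : (gg.comp Φ).comp hinv = RingHom.id _ := by
    refine Polynomial.ringHom_ext (fun r => ?_) ?_
    · simp [hinv, hgC]
    · simp [hinv, hgX]
  exact ⟨Function.LeftInverse.injective (fun a => RingHom.congr_fun h1 a),
    Function.RightInverse.surjective (fun a => RingHom.congr_fun h2 a)⟩

lemma const_of_smooth (G : Over (Spec (CommRingCat.of κ))) [GrpObj G]
    (φ : Over.mk (CohB1.ProjSpace.toSpec 1 κ) ⟶ G) :
    ∃ c : 𝟙_ (Over (Spec (CommRingCat.of κ))) ⟶ G,
      φ = toUnit (Over.mk (CohB1.ProjSpace.toSpec 1 κ)) ≫ c := by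
  let P : Over (Spec (CommRingCat.of κ)) := Over.mk (CohB1.ProjSpace.toSpec 1 κ)
  let θ : κ →+* Polynomial κ := algebraMap κ (Polynomial κ)
  let Y : Over (Spec (CommRingCat.of κ)) := Over.mk (Spec.map (CommRingCat.ofHom θ))
  have hsep : IsSeparated G.hom := AlgGrp79.isSeparated_grp G
  have hprop : IsProper P.hom := Curves2.ProjLine.isProper_toSpec κ 1
  have hgi : GeometricallyIntegral P.hom := geometricallyIntegral_projSpace κ 1
  have hX := Alb96.antiAffine_of_geometricallyIntegral P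
  have hPint : IsIntegral P.left := Curves2.ProjLine.isIntegral κ 1
  have : IsIntegral Y.left := inferInstanceAs (IsIntegral (Spec (CommRingCat.of (Polynomial κ))))
  have : IsLocallyNoetherian Y.left :=
    inferInstanceAs (IsLocallyNoetherian (Spec (CommRingCat.of (Polynomial κ))))
  have hpb : IsPullback (linMap (n := 1) θ 1 isUnit_one) (CohB1.ProjSpace.toSpec 1 (Polynomial κ))
      P.hom Y.hom := isPullback_linMap_one
  let κi : CohB1.ProjSpace 1 (Polynomial κ) ≅ (P ⊗ Y).left := hpb.isoPullback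
  have hfst : κi.hom ≫ (fst P Y).left = linMap θ 1 isUnit_one := hpb.isoPullback_hom_fst
  have hsnd : κi.hom ≫ (snd P Y).left = CohB1.ProjSpace.toSpec 1 (Polynomial κ) := hpb.isoPullback_hom_snd
  have hfst' : κi.inv ≫ linMap θ 1 isUnit_one = (fst P Y).left := by rw [← hfst, Iso.inv_hom_id_assoc]
  have hsnd' : κi.inv ≫ CohB1.ProjSpace.toSpec 1 (Polynomial κ) = (snd P Y).left := by
    rw [← hsnd, Iso.inv_hom_id_assoc]
  have htoSpec : ∀ {g} (hg : IsUnit g), linMap (n := 1) θ g hg ≫ P.hom =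
      CohB1.ProjSpace.toSpec 1 (Polynomial κ) ≫ Y.hom := fun hg => linMap_toSpec θ _ hg
  let t₁ : P ⊗ Y ⟶ P := Over.homMk (κi.inv ≫ linMap θ (shear κ) (isUnit_shear κ)) (by
    refine (Category.assoc _ _ _).trans ((congrArg (fun f => κi.inv ≫ f) (htoSpec _)).trans ?_)
    rw [← Category.assoc, hsnd']
    exact Over.w (snd P Y))
  -- rational points
  have hv : ∀ (v : Fin 2 → κ) {d : ℕ} {s : MvPolynomial (Fin 2) κ} (hs : s ∈ CohB1.polyGrading 1 κ d)
      (hd : 0 < d) (h : eval v s = 1), pointAt v hs hd h ≫ P.hom = (𝟙_ (Over (Spec (CommRingCat.of κ)))).hom :=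
    fun v _ _ hs hd h => pointAt_toSpec v hs hd h
  let x₀ : 𝟙_ (Over (Spec (CommRingCat.of κ))) ⟶ P :=
    Over.homMk (pointAt ![0, 1] (X_mem κ (1 : Fin 2)) one_pos (by simp)) (hv _ _ _ _)
  let z₀ : 𝟙_ (Over (Spec (CommRingCat.of κ))) ⟶ P :=
    Over.homMk (pointAt ![1, 0] (X_mem κ (0 : Fin 2)) one_pos (by simp)) (hv _ _ _ _)
  let y₀ : 𝟙_ (Over (Spec (CommRingCat.of κ))) ⟶ Y :=
    Over.homMk (Spec.map (CommRingCat.ofHom (Polynomial.evalRingHom (0 : κ)))) (by
      show Spec.map _ ≫ Spec.map _ = 𝟙 _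
      rw [← Spec.map_comp, ← CommRingCat.ofHom_comp]
      refine Eq.trans (congrArg Spec.map (CommRingCat.hom_ext (RingHom.ext fun r => ?_))) (Spec.map_id _)
      show Polynomial.eval 0 (Polynomial.C r) = r
      exact Polynomial.eval_C)
  -- sections over the affine line
  have hline : ∀ (v : Fin 2 → κ) {d : ℕ} {s : MvPolynomial (Fin 2) κ} (hs : s ∈ CohB1.polyGrading 1 κ d)
      (hd : 0 < d) (h : eval v s = 1) (x : 𝟙_ (Over (Spec (CommRingCat.of κ))) ⟶ P)
      (_ : x.left = pointAt v hs hd h) (v' : Fin 2 → Polynomial κ) (_ : ∀ j, v' j = θ (v j)) {d' : ℕ}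
      {s' : MvPolynomial (Fin 2) (Polynomial κ)} (hs' : s' ∈ CohB1.polyGrading 1 (Polynomial κ) d') (hd' : 0 < d')
      (h' : eval v' s' = 1), (lift (toUnit Y ≫ x) (𝟙 Y)).left = pointAt v' hs' hd' h' ≫ κi.hom := by
    intro v d s hs hd h x hx v' hv' d' s' hs' hd' h'
    rw [← Iso.comp_inv_eq]
    apply hpb.hom_ext
    · rw [Category.assoc, hfst', pointAt_linMap θ 1 isUnit_one v' v
        (fun j => by rw [linForm_one, eval_X, hv']) hs hd h, ← hx]
      show (lift (toUnit Y ≫ x) (𝟙 Y) ≫ fst P Y).left = _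
      rw [lift_fst]
      rfl
    · rw [Category.assoc, hsnd', pointAt_toSpec]
      show (lift (toUnit Y ≫ x) (𝟙 Y) ≫ snd P Y).left = _
      rw [lift_snd]
      rfl
  -- the two normalisations
  have h₀ : (P ◁ y₀) ≫ t₁ = (P ◁ y₀) ≫ fst P Y := by
    apply Over.OverMorphism.ext
    let j : CohB1.ProjSpace 1 κ ⟶ CohB1.ProjSpace 1 (Polynomial κ) :=
      linMap (n := 1) (Polynomial.evalRingHom (0 : κ)) 1 isUnit_one
    have hid : (Polynomial.evalRingHom (0 : κ)).comp θ = RingHom.id κ :=
      RingHom.ext fun r => Polynomial.eval_C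
    have hj : (P ◁ y₀).left ≫ κi.inv = (fst P (𝟙_ _)).left ≫ j := by
      apply hpb.hom_ext
      · rw [Category.assoc, hfst', Category.assoc, linMap_comp,
          linMap_congr (hg' := isUnit_one) hid (by simp), linMap_id]
        show ((P ◁ y₀) ≫ fst P Y).left = (fst P (𝟙_ _)).left ≫ 𝟙 _
        rw [whiskerLeft_fst, Category.comp_id]
      · rw [Category.assoc, hsnd', Category.assoc, linMap_toSpec]
        show ((P ◁ y₀) ≫ snd P Y).left = (fst P (𝟙_ _)).left ≫ P.hom ≫ y₀.left
        rw [whiskerLeft_snd, ← Category.assoc, Over.w (fst P (𝟙_ _)), Over.comp_left]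
        exact congrArg (fun f => f ≫ y₀.left)
          ((Category.comp_id _).symm.trans (Over.w (snd P (𝟙_ (Over (Spec (CommRingCat.of κ)))))))
    rw [whiskerLeft_fst]
    show (P ◁ y₀).left ≫ κi.inv ≫ linMap θ (shear κ) (isUnit_shear κ) = _
    rw [← Category.assoc, hj, Category.assoc, linMap_comp, linMap_congr (hg' := isUnit_one) hid ?_, linMap_id]
    · exact Category.comp_id _
    · ext i j; fin_cases i <;> fin_cases j <;> simp [shear]
  have hinf : lift (toUnit Y ≫ x₀) (𝟙 Y) ≫ t₁ = lift (toUnit Y ≫ x₀) (𝟙 Y) ≫ fst P Y := by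
    apply Over.OverMorphism.ext
    rw [Over.comp_left, Over.comp_left, hline ![0, 1] _ one_pos _ x₀ rfl ![0, 1]
      (fun j => by fin_cases j <;> simp) (X_mem (Polynomial κ) (1 : Fin 2)) one_pos
      (by simp), Category.assoc, Category.assoc, hfst]
    show _ ≫ κi.hom ≫ κi.inv ≫ linMap θ (shear κ) _ = _
    rw [Iso.hom_inv_id_assoc, pointAt_linMap θ 1 isUnit_one ![0, 1] ![0, 1]
      (fun j => by fin_cases j <;> simp [linForm_one]) (X_mem κ (1 : Fin 2)) one_pos (by simp),
      pointAt_linMap θ (shear κ) (isUnit_shear κ) ![0, 1] ![0, 1]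
      (fun j => by fin_cases j <;> simp [linForm, shear, Fin.sum_univ_two])
      (X_mem κ (1 : Fin 2)) one_pos (by simp)]
  -- rigidity
  let F : P ⊗ Y ⟶ G := (t₁ ≫ φ) * (fst P Y ≫ φ)⁻¹
  have hF0 : (P ◁ y₀) ≫ F = 1 := by
    rw [MonObj.comp_mul, GrpObj.comp_inv, ← Category.assoc, ← Category.assoc, h₀, mul_inv_cancel]
  have hFinf : lift (toUnit Y ≫ x₀) (𝟙 Y) ≫ F = 1 := by
    rw [MonObj.comp_mul, GrpObj.comp_inv, ← Category.assoc, ← Category.assoc, hinf, mul_inv_cancel]
  have hone : ∀ (W : Over (Spec (CommRingCat.of κ))) (f : W ⟶ G), f = 1 → (Set.range f.left).Subsingleton := by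
    intro W f hf
    exact AlgGrp79.range_subsingleton_of_eq (z := η[G]) (hf.trans rfl)
  obtain ⟨U, hU, hAg⟩ := AlgGrp79.agree_nhd hX x₀ y₀ F (hone _ _ hF0)
  rw [hFinf, MonObj.comp_one] at hAg
  have hF : F = 1 := AlgGrp79.eq_of_agreeOn_irreducible U ⟨_, hU⟩ hAg
  have heq : t₁ ≫ φ = fst P Y ≫ φ := mul_inv_eq_one.mp hF
  -- the big cell
  let sY : Y ⟶ P := lift (toUnit Y ≫ z₀) (𝟙 Y) ≫ t₁
  have hsY : sY ≫ φ = toUnit Y ≫ z₀ ≫ φ := by
    rw [Category.assoc, heq, lift_fst_assoc, Category.assoc]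
  have hsl : sY.left = pointAt ![1, Polynomial.X] (X_mem (Polynomial κ) (0 : Fin 2)) one_pos
      (by simp) ≫ linMap θ 1 isUnit_one := by
    have hM : linMap θ (shear κ) (isUnit_shear κ) =
        linMap (RingHom.id (Polynomial κ)) (shear κ) (isUnit_shear κ) ≫ linMap θ 1 isUnit_one := by
      rw [linMap_comp]
      exact linMap_congr (RingHom.id_comp θ).symm (by simp)
    show (lift (toUnit Y ≫ z₀) (𝟙 Y)).left ≫ κi.inv ≫ linMap θ (shear κ) (isUnit_shear κ) = _
    rw [hline ![1, 0] _ one_pos _ z₀ rfl ![1, 0] (fun j => by fin_cases j <;> simp)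
      (X_mem (Polynomial κ) (0 : Fin 2)) one_pos (by simp), Category.assoc,
      Iso.hom_inv_id_assoc, hM, ← Category.assoc,
      pointAt_linMap (RingHom.id (Polynomial κ)) (shear κ) (isUnit_shear κ) ![1, 0] ![1, Polynomial.X]
      (fun j => by fin_cases j <;> simp [linForm, shear, Fin.sum_univ_two])
      (X_mem (Polynomial κ) (0 : Fin 2)) one_pos (by simp),
      CommRingCat.ofHom_id, Spec.map_id, Category.id_comp]
  have : IsOpenImmersion sY.left := by
    rw [hsl]; exact isOpenImmersion_pointAt κ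
  have : IsDominant sY.left := ⟨by
    refine DenseRange.comp (g := id) ?_ ?_ continuous_id
    · exact Function.Surjective.denseRange Function.surjective_id
    · exact sY.left.isOpenEmbedding.isOpen_range.dense (Set.range_nonempty _)⟩
  refine ⟨z₀ ≫ φ, Over.OverMorphism.ext (ext_of_isDominant_of_isSeparated G.hom ?_ sY.left ?_)⟩
  · rw [Over.w, Over.w]
  · have e := congrArg CommaMorphism.left hsY
    have e2 : sY ≫ toUnit P = toUnit Y := toUnit_unique _ _
    rw [← e2, Category.assoc] at e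
    simpa only [Over.comp_left] using congrArg CommaMorphism.left (show sY ≫ φ = sY ≫ toUnit P ≫ z₀ ≫ φ by
      rw [hsY, ← e2, Category.assoc])

end Aux

open CategoryTheory AlgebraicGeometry in
/-- Auxiliary step: let κ be an arbitrary field, G a group scheme over κ which is smooth over κ, and φ :
P¹_κ → G a morphism over κ. Then φ is constant: there is a κ-rational point g of G such that φ is
the structure morphism P¹_κ → Spec κ followed by g. (The published proof states this step for any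
smooth group scheme over a field in the course of proving the main proposition.) -/
theorem result (κ : Type u) [Field κ]
    (G : Over (Spec (CommRingCat.of κ))) [GrpObj G] [Smooth G.hom]
    (φ : CohB1.ProjSpaceOver 1 (Spec (CommRingCat.of κ)) ⟶ G.left)
    (hφ : φ ≫ G.hom = CohB1.ProjSpaceOver.toBase 1 (Spec (CommRingCat.of κ))) :
    ∃ g : Spec (CommRingCat.of κ) ⟶ G.left, g ≫ G.hom = 𝟙 _ ∧
      φ = CohB1.ProjSpaceOver.toBase 1 (Spec (CommRingCat.of κ)) ≫ g := by
  let U := ULift.{u} ℤ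
  letI : Algebra U κ := ((Int.castRingHom κ).comp (ULift.ringEquiv (R := ℤ)).toRingHom).toAlgebra
  let e : CohB1.ProjSpaceOver 1 (Spec (CommRingCat.of κ)) ≅ CohB1.ProjSpace 1 κ :=
    (IsPullback.of_hasPullback (CohB1.ProjSpace.toSpec 1 U) (specULiftZIsTerminal.from _)).isoIsPullback _ _
      (by
        have h := isPullback_linMap_one (n := 1) (R := U) (R' := κ)
        rwa [specULiftZIsTerminal.hom_ext (Spec.map (CommRingCat.ofHom (algebraMap U κ)))
          (specULiftZIsTerminal.from _)] at h)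
  have he : e.hom ≫ CohB1.ProjSpace.toSpec 1 κ = CohB1.ProjSpaceOver.toBase 1 (Spec (CommRingCat.of κ)) :=
    IsPullback.isoIsPullback_hom_snd _ _ _ _
  have he' : e.inv ≫ CohB1.ProjSpaceOver.toBase 1 (Spec (CommRingCat.of κ)) = CohB1.ProjSpace.toSpec 1 κ := by
    rw [← he, Iso.inv_hom_id_assoc]
  obtain ⟨c, hc⟩ := const_of_smooth κ G (Over.homMk (e.inv ≫ φ) (by
    show (e.inv ≫ φ) ≫ G.hom = CohB1.ProjSpace.toSpec 1 κ
    rw [Category.assoc, hφ, he']))
  refine ⟨c.left, Over.w c, ?_⟩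
  have h2 : e.inv ≫ φ = CohB1.ProjSpace.toSpec 1 κ ≫ c.left := congrArg CommaMorphism.left hc
  rw [← he, Category.assoc, ← h2, Iso.hom_inv_id_assoc]

end Groth.Agent.S15949
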