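import Groth.Statements.S15954
import Mathlib
import Groth.Agent.Pinch2.Milnor

set_option autoImplicit false
set_option linter.style.haveILetI false
set_option linter.style.longLine false
universe u
open Pinch

namespace Groth.Agent.S15954

open CategoryTheory CategoryTheory.Limits AlgebraicGeometry

lemma app_injective {Z T : Scheme.{u}} (ξ : Z ⟶ T) [IsAffineHom ξ] [Flat ξ] [Surjective ξ] {B : T.Opens}
    (hB : IsAffineOpen B) : Function.Injective (ξ.app B) := by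
  have hW := hB.preimage ξ
  have hp : IsPullback (Spec.map (ξ.appLE B (ξ ⁻¹ᵁ B) le_rfl)) hW.fromSpec hB.fromSpec ξ :=
    IsOpenImmersion.isPullback _ _ _ _ (hB.SpecMap_appLE_fromSpec ξ hW le_rfl).symm
      (by rw [hB.opensRange_fromSpec, hW.opensRange_fromSpec])
  rw [Scheme.Hom.app_eq_appLE]
  exact ((flat_and_surjective_SpecMap_iff _).1 ⟨MorphismProperty.of_isPullback (P := @Flat) hp.flip ‹_›,
    MorphismProperty.of_isPullback (P := @Surjective) hp.flip ‹_›⟩).injective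

lemma good_of_coker {Y T Z : Scheme.{u}} (t : T ⟶ Y) (ξ : Z ⟶ T) [IsAffineHom t] [IsAffineHom ξ] [Flat ξ] [Surjective ξ]
    {U : Y.Opens} (hU : IsAffineOpen U)
    (hv : @Pinch.CokerProjective Γ(Y, U) Γ(Z, (ξ ≫ t) ⁻¹ᵁ U) Γ(T, t ⁻¹ᵁ U) _ _ _
      ((ξ ≫ t).app U).hom.toAlgebra (ξ.app (t ⁻¹ᵁ U)).hom)
    {L : CommRingCat.{u}} (ψ : Γ(Y, U) ⟶ L) (B : T.Opens) (W : Z.Opens) (hB : B = t ⁻¹ᵁ U)
    (hW : W = (ξ ≫ t) ⁻¹ᵁ U) (e : B ≤ t ⁻¹ᵁ U) (e' : W ≤ ξ ⁻¹ᵁ B) :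
    Groth.Agent.Pinch2.Good ψ (t.appLE U B e ≫ ξ.appLE B W e') (ξ.appLE B W e') := by
  subst hB hW
  refine Or.inr (Or.inr ⟨?_, ?_⟩)
  · show Function.Injective (ξ.appLE (t ⁻¹ᵁ U) (ξ ⁻¹ᵁ (t ⁻¹ᵁ U)) le_rfl)
    rw [← Scheme.Hom.app_eq_appLE]
    exact app_injective ξ (hU.preimage t)
  · have e1 : t.appLE U (t ⁻¹ᵁ U) e ≫ ξ.appLE (t ⁻¹ᵁ U) ((ξ ≫ t) ⁻¹ᵁ U) e' = (ξ ≫ t).app U := by
      rw [Scheme.Hom.appLE_comp_appLE, Scheme.Hom.app_eq_appLE]
    have e2 : ξ.appLE (t ⁻¹ᵁ U) ((ξ ≫ t) ⁻¹ᵁ U) e' = ξ.app (t ⁻¹ᵁ U) := by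
      rw [Scheme.Hom.app_eq_appLE]
      rfl
    have key : ∀ (σ : Γ(Y, U) ⟶ Γ(Z, (ξ ≫ t) ⁻¹ᵁ U)) (γ : Γ(T, t ⁻¹ᵁ U) ⟶ Γ(Z, (ξ ≫ t) ⁻¹ᵁ U)),
        σ = (ξ ≫ t).app U → γ = ξ.app (t ⁻¹ᵁ U) →
        (letI := σ.hom.toAlgebra
         Module.Flat Γ(Y, U) (Γ(Z, (ξ ≫ t) ⁻¹ᵁ U) ⧸ Submodule.span Γ(Y, U) (Set.range γ))) := by
      rintro σ γ rfl rfl
      exact @Module.Flat.of_projective _ _ _ _ _ hv
    exact key _ _ e1 e2

open CategoryTheory AlgebraicGeometry in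
/-- Let Y be a scheme, f : X → Y a morphism, t : T → Y a scheme affine over Y, ξ : Z → T a morphism with
Z affine over Y via ξ followed by t, and ι : Z → X a closed immersion over Y; assume every point of
Y has an affine open neighbourhood U together with an affine open V of X inside the preimage of U
containing the image under ι of the part of Z over U; assume moreover that Y is locally Noetherian,
f and t are of finite type and ξ is finite, and let X → P ← T be a push-out of ι and ξ in the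
category of schemes; assume finally that ξ is faithfully flat and that over every affine open U of Y
the cokernel of the map from functions on t⁻¹(U) to functions on the part of Z over U is a
projective module over the functions on U. Let p : P → Y be the induced morphism. Then the push-out
commutes with every base change: for every morphism Y' → Y the square obtained by pulling back Z →
X, Z → T, X → P and T → P along Y' → Y is a push-out square in the category of schemes. -/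
theorem result {X Y T Z : Scheme.{u}} (f : X ⟶ Y) (t : T ⟶ Y) (ξ : Z ⟶ T) (ι : Z ⟶ X)
    [IsAffineHom t] [IsAffineHom (ξ ≫ t)] [IsClosedImmersion ι] (hsq : ι ≫ f = ξ ≫ t)
    (hstd : ∀ y : Y, ∃ U : Y.Opens, IsAffineOpen U ∧ y ∈ U ∧ ∃ V : X.Opens, IsAffineOpen V ∧
      V ≤ f ⁻¹ᵁ U ∧ ∀ z : Z, (ξ ≫ t).base z ∈ U → ι.base z ∈ V)
    [IsLocallyNoetherian Y] [LocallyOfFiniteType f] [QuasiCompact f] [LocallyOfFiniteType t] [QuasiCompact t]
    [IsFinite ξ] {P : Scheme.{u}} (a : X ⟶ P) (b : T ⟶ P) (hP : IsPushout ι ξ a b)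
    [Flat ξ] [Surjective ξ]
    (hv : ∀ U : Y.affineOpens, @Pinch.CokerProjective Γ(Y, U) Γ(Z, (ξ ≫ t) ⁻¹ᵁ U) Γ(T, t ⁻¹ᵁ U) _ _ _
      ((ξ ≫ t).app U).hom.toAlgebra (ξ.app (t ⁻¹ᵁ U)).hom)
    (p : P ⟶ Y) (hap : a ≫ p = f) (hbp : b ≫ p = t) {Y' : Scheme.{u}} (g : Y' ⟶ Y) :
    IsPushout ((Over.pullback g).map (Over.homMk ι hsq : Over.mk (ξ ≫ t) ⟶ Over.mk f)).left
      ((Over.pullback g).map (Over.homMk ξ rfl : Over.mk (ξ ≫ t) ⟶ Over.mk t)).left
      ((Over.pullback g).map (Over.homMk a hap : Over.mk f ⟶ Over.mk p)).left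
      ((Over.pullback g).map (Over.homMk b hbp : Over.mk t ⟶ Over.mk p)).left := by
  have H := Groth.Agent.Pinch2.hasPairs_affine_local f t ξ ι hsq hstd
  haveI := Groth.Agent.Pinch2.isClosedImmersion_inr H hP
  haveI := Groth.Agent.Pinch2.isAffineHom_inl H hP
  refine Groth.Agent.Pinch2.isPushout_baseChange (i := ι) (j := ξ) hP.w (IsPullback.of_hasPullback p g)
    (Groth.Agent.Pinch2.isPullback_of_lift hap g _ ?_ ?_)
    (Groth.Agent.Pinch2.isPullback_of_lift hbp g _ ?_ ?_)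
    (Groth.Agent.Pinch2.isPullback_of_lift hsq g _ ?_ ?_)
    ?_ ?_ (Groth.Agent.Pinch2.jointly_surjective' H hP) fun x => ?_
  any_goals (first | exact pullback.lift_fst _ _ _ | exact (pullback.lift_snd _ _ _).trans (Category.comp_id _) | exact pullback.lift_snd _ _ _)
  · refine pullback.hom_ext ?_ ?_
    · rw [Category.assoc, Category.assoc]
      erw [pullback.lift_fst, pullback.lift_fst, pullback.lift_fst_assoc, pullback.lift_fst_assoc]
      simp [hP.w]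
    · rw [Category.assoc, Category.assoc]
      erw [pullback.lift_snd, pullback.lift_snd, pullback.lift_snd, pullback.lift_snd]
  obtain ⟨e, he₁, he₂⟩ := Groth.Agent.Pinch2.exists_iso H hP
  by_cases hx : x ∈ Set.range b
  · obtain ⟨τ, rfl⟩ := hx
    obtain ⟨U, hU, hτ, Vx, hVx, hVle, hZ⟩ := hstd (t τ)
    let π : Groth.Agent.Pinch2.Pair ι ξ := ⟨Vx, t ⁻¹ᵁ U, hVx, hU.preimage t, by
      ext z
      refine ⟨fun hz => ?_, fun hz => hZ z hz⟩
      show t (ξ z) ∈ U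
      rw [← Scheme.Hom.comp_apply, ← hsq, Scheme.Hom.comp_apply]
      exact hVle hz⟩
    let V := e.inv ⁻¹ᵁ (Groth.Agent.Pinch2.incl π).opensRange
    have hV : IsAffineOpen V := (isAffineOpen_opensRange (Groth.Agent.Pinch2.incl π)).preimage_of_isIso e.inv
    have ha : a ≫ e.inv = Groth.Agent.Pinch2.aMap H := by rw [← he₁, Category.assoc, e.hom_inv_id, Category.comp_id]
    have hb : b ≫ e.inv = Groth.Agent.Pinch2.bMap H := by rw [← he₂, Category.assoc, e.hom_inv_id, Category.comp_id]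
    have haV : a ⁻¹ᵁ V = Vx := by
      show a ⁻¹ᵁ (e.inv ⁻¹ᵁ _) = Vx
      rw [← Scheme.Hom.comp_preimage, ha, Groth.Agent.Pinch2.preimage_aMap]
    have hbV : b ⁻¹ᵁ V = t ⁻¹ᵁ U := by
      show b ⁻¹ᵁ (e.inv ⁻¹ᵁ _) = t ⁻¹ᵁ U
      rw [← Scheme.Hom.comp_preimage, hb, Groth.Agent.Pinch2.preimage_bMap]
    have eV : V ≤ p ⁻¹ᵁ U := fun y hy => by
      rcases Groth.Agent.Pinch2.jointly_surjective' H hP y with ⟨z, rfl⟩ | ⟨z, rfl⟩
      · show p (a z) ∈ U
        rw [← Scheme.Hom.comp_apply, hap]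
        exact hVle (haV.le hy)
      · show p (b z) ∈ U
        rw [← Scheme.Hom.comp_apply, hbp]
        exact hbV.le hy
    refine ⟨U, V, hU, hV, eV, hbV.ge hτ, Groth.Agent.Pinch2.fibAt_of_isPushout H hP hV, fun T₀ hT eT => ?_⟩
    rw [← Category.assoc, Scheme.Hom.app_eq_appLE, Scheme.Hom.appLE_comp_appLE]
    simp only [hbp]
    exact good_of_coker t ξ hU (hv ⟨U, hU⟩) _ _ _ hbV (by
      rw [Groth.Agent.Pinch2.preimage_le hP.w, hbV, Scheme.Hom.comp_preimage]) _ _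
  · obtain ⟨U, hU, hxU, -⟩ := exists_isAffineOpen_mem_and_subset (x := p x) (U := (⊤ : Y.Opens)) trivial
    obtain ⟨V, hV, hxV, hVle⟩ := exists_isAffineOpen_mem_and_subset (x := x)
      (U := p ⁻¹ᵁ U ⊓ ⟨(Set.range b)ᶜ, b.isClosedEmbedding.isClosed_range.isOpen_compl⟩) ⟨hxU, hx⟩
    refine ⟨U, V, hU, hV, fun y hy => (hVle hy).1, hxV, Groth.Agent.Pinch2.fibAt_of_isPushout H hP hV,
      fun T₀ hT eT => Or.inr (Or.inl ?_)⟩
    have hbot : ι ⁻¹ᵁ (a ⁻¹ᵁ V) = ⊥ := by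
      rw [Groth.Agent.Pinch2.preimage_le hP.w]
      ext z
      exact ⟨fun hz => (hVle hz).2 ⟨ξ z, rfl⟩, False.elim⟩
    have : Subsingleton Γ(Z, ι ⁻¹ᵁ (a ⁻¹ᵁ V)) := by rw [hbot]; infer_instance
    algebraize [(p.appLE U V (fun y hy => (hVle hy).1) ≫ b.app V ≫
      ξ.appLE (b ⁻¹ᵁ V) (ι ⁻¹ᵁ (a ⁻¹ᵁ V)) (Groth.Agent.Pinch2.preimage_le hP.w V).le).hom]
    exact Module.Flat.of_linearEquiv (LinearEquiv.ofSubsingleton _ PUnit.{u+1})

end Groth.Agent.S15954
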