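import Groth.Statements.S1596
import Groth.Agent.Curves2.RelVA.StructBC
import Groth.Agent.AbSch7.FieldH0
import Groth.Agent.TopDim50.Basic
import Groth.Agent.FBase64.ReducedModField
import Groth.Agent.S1589
import Groth.Agent.S16102
import Groth.Agent.S15985

set_option backward.isDefEq.respectTransparency false

set_option autoImplicit false
universe u
open CategoryTheory CategoryTheory.Limits AlgebraicGeometry
open Curves

namespace Groth.Agent.S1596

/-- Let f : X → S be a proper morphism of schemes that is at-worst-nodal of relative dimension one with
geometrically connected fibres. Then R¹f_*O_X is a finite locally free O_S-module and R^q f_*O_X = 0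
for every q ≥ 2. The published statement also includes the compatibility of these direct images with
base change, which is not asserted here. (Existence of injective resolutions in the category of
O_X-modules is carried as an instance binder.) -/
theorem result {X S : Scheme.{u}} (f : X ⟶ S) [IsProper f] (hf : Curv2.IsNodalFamily f)
    [GeometricallyConnected f] [HasInjectiveResolutions X.Modules] :
    FlatMod.IsFinLocFree ((Coh.Rpush f 1).obj (Coh.structureModule X)) ∧
      ∀ q : ℕ, 2 ≤ q → IsZero ((Coh.Rpush f q).obj (Coh.structureModule X)) := by
  have hl : LocallyOfFinitePresentation f := hf.2.1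
  have hfl : Flat f := hf.1
  have hO := PicLoc.isInvertible_structureModule X
  haveI : (Coh.structureModule X).IsQuasicoherent := Mero90.isQCoh_of_isInvertible hO
  have hd : ∀ s : S, topologicalKrullDim ↥(f.fiber s) ≤ ((1 : ℕ) : WithBot ℕ∞) := fun s => by
    rw [TopDim50.dim_eq_iSup_irreducibleComponents]
    exact iSup₂_le fun Z hZ => ((hf.2.2 s).1 Z hZ).le
  have hH : ∀ (s : S) (p : ℕ), 1 < p → Subsingleton (CohIII.fiberH f (Coh.structureModule X) s p) :=
    fun s p hp => Mum71.subsingleton_fiberH_of_dim _ s (hd s) hp
  refine ⟨S16102.result f (Coh.structureModule X) (Cube73.isFP_of_isInvertible hO)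
    (Cube73.isFlatOver_of_isInvertible f hO) (fun s => hH s 2 one_lt_two) (fun s => ?_),
    fun q hq => S15985.result f (Coh.structureModule X) (Cube73.isFP_of_isInvertible hO)
    (Cube73.isFlatOver_of_isInvertible f hO) q (fun s => hH s q (by omega))⟩
  letI : (f.fiber s).Over (Spec (CommRingCat.of (S.residueField s))) := ⟨f.fiberToSpecResidueField s⟩
  haveI : IsProper (f.fiberToSpecResidueField s) :=
    MorphismProperty.pullback_snd f _ inferInstance
  haveI : GeometricallyConnected (f.fiberToSpecResidueField s) :=
    MorphismProperty.pullback_snd f _ inferInstance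
  haveI : LocallyOfFiniteType ((f.fiber s) ↘ Spec (CommRingCat.of (S.residueField s))) :=
    inferInstanceAs (LocallyOfFiniteType (f.fiberToSpecResidueField s))
  haveI : GeometricallyReduced (f.fiberToSpecResidueField s) :=
    (S1589.result (S.residueField s) (f.fiber s) (hf.2.2 s).1 (hf.2.2 s).2).2
  exact Curves2.RelVA.epi_bc0_structure f s
    (AbSch7.appTop_bijective_of_field (f.fiberToSpecResidueField s)).2

end Groth.Agent.S1596
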