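import Groth.Statements.S1597
import Groth.Agent.Res23.BCCompl
import Groth.Agent.Props58.Stalks
import Groth.Agent.Henz21.SchemeFinitePart

set_option autoImplicit false
universe u
open CategoryTheory CategoryTheory.Limits AlgebraicGeometry
open Resolve

namespace Groth.Agent.S1597

theorem regular_of_closedFibre {R : Type u} [CommRing R] [IsLocalRing R] {X : Scheme.{u}}
    (f : X ⟶ Spec (CommRingCat.of R)) [UniversallyClosed f]
    (h : ∀ x : X, f x = IsLocalRing.closedPoint R → IsRegularLocalRing (X.presheaf.stalk x)) (x : X) :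
    IsRegularLocalRing (X.presheaf.stalk x) := by
  obtain ⟨z, hz, hz'⟩ := Groth.Agent.Henz21.exists_specializes_closedPoint f x
  have := h z hz'
  obtain ⟨p, _, ⟨e⟩⟩ := Groth.Agent.Props58.stalkSpecializes_isLocalization X hz
  have := Groth.Agent.CAlg1.regular_localization _ p
  exact IsRegularLocalRing.of_ringEquiv e


/-- Let A be a Noetherian local ring with completion A^, X a scheme proper over Spec A and Y its base
change to Spec A^. Then all local rings of X are regular if and only if all local rings of Y are
regular. -/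
theorem result (A : Type u) [CommRing A] [IsLocalRing A] [IsNoetherianRing A]
    (X : Scheme.{u}) (f : X ⟶ Spec (CommRingCat.of A)) [IsProper f] :
    (∀ x : X, IsRegularLocalRing (X.presheaf.stalk x)) ↔
      ∀ y : Curv2.bcCpl A f, IsRegularLocalRing ((Curv2.bcCpl A f).presheaf.stalk y) := by
  haveI : IsLocalHom (algebraMap A (Curv2.cpl A)) := inferInstance
  haveI : Surjective (Spec.map (CommRingCat.ofHom (algebraMap A (Curv2.cpl A)))) := by
    haveI : Module.Flat A (Curv2.cpl A) := inferInstance
    haveI : Module.FaithfullyFlat A (Curv2.cpl A) := Module.FaithfullyFlat.of_flat_of_isLocalHom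
    exact ⟨PrimeSpectrum.comap_surjective_of_faithfullyFlat⟩
  have hcomm : ∀ y : Curv2.bcCpl A f, f ((Curv2.bcCplFst A f) y) =
      Spec.map (CommRingCat.ofHom (algebraMap A (Curv2.cpl A))) ((Curv2.bcCplSnd A f) y) := fun y => by
    rw [← Scheme.Hom.comp_apply, ← Scheme.Hom.comp_apply]
    exact congrArg (fun g : Curv2.bcCpl A f ⟶ _ => g y) pullback.condition
  have hclosed : Spec.map (CommRingCat.ofHom (algebraMap A (Curv2.cpl A))) (IsLocalRing.closedPoint (Curv2.cpl A)) =
      IsLocalRing.closedPoint A := IsLocalRing.comap_closedPoint (algebraMap A (Curv2.cpl A))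
  constructor
  · intro h
    refine regular_of_closedFibre (Curv2.bcCplSnd A f) fun y hy => ?_
    exact (Groth.Agent.Res23.BCCompl.regular_iff A f y (by rw [hcomm, hy, hclosed])).2 (h _)
  · intro h
    refine regular_of_closedFibre f fun x hx => ?_
    haveI : Surjective (Curv2.bcCplFst A f) := inferInstance
    obtain ⟨y, rfl⟩ := (Curv2.bcCplFst A f).surjective x
    exact (Groth.Agent.Res23.BCCompl.regular_iff A f y hx).1 (h y)

end Groth.Agent.S1597
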