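import Groth.Statements.S1598
import Groth.Agent.Res23.BCCompl

set_option autoImplicit false
universe u
open CategoryTheory CategoryTheory.Limits AlgebraicGeometry
open Resolve

namespace Groth.Agent.S1598

/-- Let A be a Noetherian local ring with completion A^, X locally of finite type over Spec A, Y its
base change to Spec A^, and y a point of Y lying over the closed point of Spec A^ with image x in X.
Then the local ring of Y at y is regular if and only if the local ring of X at x is regular. -/
theorem result (A : Type u) [CommRing A] [IsLocalRing A] [IsNoetherianRing A]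
    (X : Scheme.{u}) (f : X ⟶ Spec (CommRingCat.of A)) [LocallyOfFiniteType f]
    (y : Curv2.bcCpl A f) (hy : (Curv2.bcCplSnd A f).base y = IsLocalRing.closedPoint (Curv2.cpl A)) :
    IsRegularLocalRing ((Curv2.bcCpl A f).presheaf.stalk y) ↔
      IsRegularLocalRing (X.presheaf.stalk ((Curv2.bcCplFst A f).base y)) := by
  refine Groth.Agent.Res23.BCCompl.regular_iff A f y ?_
  have h : f ((Curv2.bcCplFst A f) y) =
      Spec.map (CommRingCat.ofHom (algebraMap A (Curv2.cpl A))) ((Curv2.bcCplSnd A f) y) := by
    rw [← Scheme.Hom.comp_apply, ← Scheme.Hom.comp_apply]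
    exact congrArg (fun g : Curv2.bcCpl A f ⟶ _ => g y) pullback.condition
  rw [h, show (Curv2.bcCplSnd A f) y = IsLocalRing.closedPoint (Curv2.cpl A) from hy]
  haveI : IsLocalHom (algebraMap A (Curv2.cpl A)) := inferInstance
  exact IsLocalRing.comap_closedPoint (algebraMap A (Curv2.cpl A))

end Groth.Agent.S1598
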