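import Groth.Statements.S1599
import Groth.Agent.Res23.NormalSub

set_option autoImplicit false
universe u
open CategoryTheory CategoryTheory.Limits AlgebraicGeometry
open Resolve

namespace Groth.Agent.S1599

open scoped TensorProduct nonZeroDivisors


/-- Let A be a Noetherian local ring with maximal ideal m and B ⊆ C finite A-algebras. If B is a normal
ring and the m-adic completion of C is a normal ring, then the m-adic completion of B is a normal
ring. -/
theorem result (A : Type u) [CommRing A] [IsLocalRing A] [IsNoetherianRing A]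
    (B C : Type u) [CommRing B] [CommRing C] [Algebra A B] [Algebra A C] [Algebra B C] [IsScalarTower A B C]
    [Module.Finite A B] [Module.Finite A C] (hinj : Function.Injective (algebraMap B C))
    (hB : EGA4.IsNormalRing B)
    (hC : EGA4.IsNormalRing (AdicCompletion ((IsLocalRing.maximalIdeal A).map (algebraMap A C)) C)) :
    EGA4.IsNormalRing (AdicCompletion ((IsLocalRing.maximalIdeal A).map (algebraMap A B)) B) := by
  haveI : IsNoetherianRing B := isNoetherianRing_iff.2 (isNoetherian_of_tower A inferInstance)
  haveI : IsNoetherianRing C := isNoetherianRing_iff.2 (isNoetherian_of_tower A inferInstance)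
  let F := AdicCompletion (IsLocalRing.maximalIdeal A) A
  haveI : IsNoetherianRing F := Groth.Agent.CAlg1.isNoetherianRing_adicCompletion _ (IsNoetherian.noetherian _)
  haveI : IsNoetherianRing (F ⊗[A] B) := isNoetherianRing_iff.2 (isNoetherian_of_tower F inferInstance)
  obtain ⟨eB⟩ := Groth.Agent.Res23.NormalSub.exists_tensor_equiv A B
  obtain ⟨eC⟩ := Groth.Agent.Res23.NormalSub.exists_tensor_equiv A C
  have hFC : EGA4.IsNormalRing (F ⊗[A] C) := Groth.Agent.EGA4H10.isNormalRing_of_ringEquiv eC.symm hC
  haveI : Module.Flat A F := inferInstance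
  haveI : Module.FaithfullyFlat A F := Module.FaithfullyFlat.of_flat_of_isLocalHom
  have hCn : EGA4.IsNormalRing C := Groth.Agent.VarNormal.isNormalRing_of_faithfullyFlat C (C ⊗[A] F)
    (Groth.Agent.EGA4H10.isNormalRing_of_ringEquiv (Algebra.TensorProduct.comm A F C).toRingEquiv hFC)
  obtain ⟨e, he, hmem⟩ := Groth.Agent.Res23.NormalSub.exists_idempotent_torsion (B := B) hCn
  let C' := C ⧸ Ideal.span ({e} : Set C)
  haveI : Module.Finite B C := Module.Finite.of_restrictScalars_finite A B C
  haveI : Module.Finite B C' := Module.Finite.of_surjective (Ideal.Quotient.mkₐ B (Ideal.span ({e} : Set C))).toLinearMap Ideal.Quotient.mk_surjective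
  have htor : ∀ b ∈ B⁰, ∀ c : C', algebraMap B C' b * c = 0 → c = 0 := fun b hb c hc => by
    obtain ⟨c, rfl⟩ := Ideal.Quotient.mk_surjective c
    have h1 : Ideal.Quotient.mk (Ideal.span ({e} : Set C)) (algebraMap B C b * c) = 0 := hc
    obtain ⟨b', hb', hbc⟩ := (hmem _).1 (Ideal.Quotient.eq_zero_iff_mem.1 h1)
    exact Ideal.Quotient.eq_zero_iff_mem.2 ((hmem c).2 ⟨b' * b, mul_mem hb' hb, by rw [map_mul, mul_assoc]; exact hbc⟩)
  have hinj' : Function.Injective (algebraMap B C') := by
    rw [injective_iff_map_eq_zero]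
    intro b hb
    obtain ⟨b', hb', hbb⟩ := (hmem _).1 (Ideal.Quotient.eq_zero_iff_mem.1 hb)
    rw [← map_mul, ← map_zero (algebraMap B C)] at hbb
    exact (mem_nonZeroDivisors_iff_right.1 hb') b (by rw [mul_comm]; exact hinj hbb)
  let g := Ideal.Quotient.mkₐ A (Ideal.span ({e} : Set C))
  have hg : Function.Surjective g := Ideal.Quotient.mk_surjective
  have hker : RingHom.ker (Algebra.TensorProduct.map (AlgHom.id A F) g) =
      Ideal.span {(1 : F) ⊗ₜ[A] e} := by
    have h := Algebra.TensorProduct.lTensor_ker (A := F) g hg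
    rw [show RingHom.ker g = Ideal.span ({e} : Set C) from Ideal.mk_ker, Ideal.map_span, Set.image_singleton] at h
    exact h
  have hFC' : EGA4.IsNormalRing (F ⊗[A] C') := Groth.Agent.Ega11.GeomNormalField.isNormalRing_of_idempotent_quotient hFC
    (Algebra.TensorProduct.map (AlgHom.id A F) g).toRingHom (TensorProduct.map_surjective Function.surjective_id hg)
    ((1 : F) ⊗ₜ[A] e) (by rw [IsIdempotentElem, Algebra.TensorProduct.tmul_mul_tmul, one_mul, he.eq]) hker
  exact Groth.Agent.EGA4H10.isNormalRing_of_ringEquiv eB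
    (Groth.Agent.Res23.NormalSub.isNormalRing_tensor_of_injective hinj' hB htor hFC')

end Groth.Agent.S1599
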