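import Groth.Statements.S15991
import Groth.Agent.Deform85.AffineTriv
import Groth.Agent.Deform85.AffineMarked
import Mathlib.RingTheory.DualNumber
import Mathlib.RingTheory.Artinian.Module
import Mathlib.RingTheory.Ideal.Quotient.Operations

set_option autoImplicit false
universe u v
open Deform

namespace Groth.Agent.S15991

open AlgebraicGeometry CategoryTheory in
/-- Let k be a field and X an affine scheme smooth over k, with finitely many pairwise distinct
k-rational points p_j (j ∈ ι). Let X' → Spec k[ε] be flat, i : X → X' a morphism making X the fibre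
over the closed point Spec k → Spec k[ε] (cartesian square), and p'_j : Spec k[ε] → X' sections
restricting to the p_j. Then there is an isomorphism φ : X' ≅ X ×_{Spec k} Spec k[ε] over Spec k[ε]
such that i followed by φ is the inclusion of X at the closed point (its first component is the
identity of X) and each p'_j followed by φ is the constant section through p_j: every first-order
deformation of a smooth affine scheme with marked points is trivial. (The source says non-singular;
smooth over k is assumed here, and the marked points are taken pairwise distinct and finite in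
number.) -/
theorem result
    (k : Type u) [Field k] (X : Scheme.{u}) (hX : X ⟶ Spec (CommRingCat.of k)) [IsAffine X] [Smooth hX]
    {ι : Type v} [Finite ι] (p : ι → (Spec (CommRingCat.of k) ⟶ X)) (hp : ∀ j, p j ≫ hX = 𝟙 _)
    (hinj : Function.Injective p)
    (X' : Scheme.{u}) (g : X' ⟶ Spec (CommRingCat.of (DualNumber k))) [Flat g] (i : X ⟶ X')
    (hsq : IsPullback i hX g
      (Spec.map (CommRingCat.ofHom (TrivSqZeroExt.fstHom k k k).toRingHom)))
    (p' : ι → (Spec (CommRingCat.of (DualNumber k)) ⟶ X')) (hp' : ∀ j, p' j ≫ g = 𝟙 _)
    (hpp' : ∀ j, p j ≫ i = Spec.map (CommRingCat.ofHom (TrivSqZeroExt.fstHom k k k).toRingHom) ≫ p' j) :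
    ∃ φ : X' ≅ Limits.pullback hX (Spec.map (CommRingCat.ofHom (algebraMap k (DualNumber k)))),
      φ.hom ≫ Limits.pullback.snd hX (Spec.map (CommRingCat.ofHom (algebraMap k (DualNumber k)))) = g ∧
        i ≫ φ.hom ≫ Limits.pullback.fst hX (Spec.map (CommRingCat.ofHom (algebraMap k (DualNumber k)))) = 𝟙 X ∧
          ∀ j, p' j ≫ φ.hom ≫
              Limits.pullback.fst hX (Spec.map (CommRingCat.ofHom (algebraMap k (DualNumber k)))) =
            Spec.map (CommRingCat.ofHom (algebraMap k (DualNumber k))) ≫ p j := by
  classical
  let e : DualNumber k →ₐ[k] k := TrivSqZeroExt.fstHom k k k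
  haveI : Module.Finite k (DualNumber k) := inferInstanceAs (Module.Finite k (k × k))
  haveI : IsArtinianRing (DualNumber k) := IsArtinianRing.of_finite k (DualNumber k)
  haveI := Groth.Agent.Deform85.isAffine_total e hsq
  obtain ⟨s, hs1, hs2, hs3⟩ :=
    Groth.Agent.Deform85.exists_section_marked hX g i hsq p hp hinj p' hp' hpp'
  obtain ⟨q, hq0, hq1, hq⟩ := Groth.Agent.Deform85.exists_trivialisation e hsq s hs1 hs2
  refine ⟨hq.isoPullback, hq.isoPullback_hom_snd, ?_, fun j => ?_⟩
  · rw [hq.isoPullback_hom_fst]; exact hq1
  · rw [hq.isoPullback_hom_fst]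
    refine ext_of_isAffine (CommRingCat.hom_ext (RingHom.ext fun x => ?_))
    simp only [Scheme.Hom.comp_appTop, CommRingCat.comp_apply, hq0]
    exact hs3 j x

end Groth.Agent.S15991
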