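import Groth.Statements.S15993
import Groth.Agent.GrpSch58.Dense
import Mathlib.AlgebraicGeometry.Morphisms.FlatMono

set_option autoImplicit false
open CategoryTheory AlgebraicGeometry
universe u
open EtHull

namespace Groth.Agent.S15993

/-- Let f : X → S be a morphism of schemes which is faithfully flat (flat and surjective), quasi-compact
and separated, and schematically birational in the following sense: there are schematically dense
opens U of S and V of X, with the inclusion V → X quasi-compact, such that f maps V into U and the
induced morphism V → U is an isomorphism. Then f is an isomorphism. (The source states this for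
algebraic spaces and puts no quasi-compactness condition on the dense opens. Its proof base-changes
along f and uses that the inverse image of V in X ×_S X is again schematically dense, which holds
when V → X is quasi-compact, for instance when X is locally Noetherian, and fails in general: over
the Boolean ring of eventually constant sequences of elements of the field with two elements, the
spectrum of the ring of eventually two-periodic sequences is faithfully flat and affine, and it is
an isomorphism above the open set of principal points, which is schematically dense on both sides,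
yet it is not an isomorphism, the point at infinity being doubled. So V is taken retrocompact in X
here, and X, S are schemes.) -/
theorem result {X S : Scheme.{u}} (f : X ⟶ S)
    [Flat f] [Surjective f] [QuasiCompact f] [IsSeparated f]
    (U : S.Opens) (V : X.Opens) [QuasiCompact V.ι]
    (hU : CInt.IsSchematicallyDense U) (hV : CInt.IsSchematicallyDense V)
    (hle : V ≤ f ⁻¹ᵁ U) (hiso : IsIso (f.resLE U V hle)) : IsIso f := by
  haveI := GrpSch58.isSchemeTheoreticallyDominant_of_schDense V hV
  haveI := hiso
  -- f⁻¹U = V
  have hpre : f ⁻¹ᵁ U ≤ V := by
    have hcl : IsClosedImmersion (X.homOfLE hle) := by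
      have h1 : IsClosedImmersion (X.homOfLE hle ≫ (f ∣_ U)) := by
        rw [show X.homOfLE hle ≫ (f ∣_ U) = f.resLE U V hle from rfl]
        infer_instance
      haveI := h1
      exact IsClosedImmersion.of_comp (X.homOfLE hle) (f ∣_ U)
    intro x hx
    have hd : Dense (V : Set X) := by
      have := V.ι.denseRange
      rwa [DenseRange, Scheme.Opens.range_ι] at this
    have hrange := hcl.base_closed.isClosed_range
    obtain ⟨C, hC, hCeq⟩ := isClosed_induced_iff.1 hrange
    have hsub : (V : Set X) ⊆ C := by
      intro v hv
      have : (⟨v, hle hv⟩ : (f ⁻¹ᵁ U)) ∈ Set.range (X.homOfLE hle) :=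
        ⟨⟨v, hv⟩, Subtype.ext (by simp)⟩
      rw [← hCeq] at this
      exact this
    have hxC : x ∈ C := (hC.closure_subset_iff.2 hsub) (hd x)
    have : (⟨x, hx⟩ : (f ⁻¹ᵁ U)) ∈ Set.range (X.homOfLE hle) := by
      rw [← hCeq]
      exact hxC
    obtain ⟨v, hv⟩ := this
    have hv2 : V.ι v = x := by
      have := congrArg (f ⁻¹ᵁ U).ι hv
      rw [← Scheme.Hom.comp_apply, Scheme.homOfLE_ι] at this
      exact this
    rw [← hv2]
    exact (show ((V.ι v : X)) ∈ V by simpa using (Scheme.Opens.range_ι V).le ⟨v, rfl⟩)
  -- the diagonal is an isomorphism
  have hdiag : IsIso (Limits.pullback.diagonal f) := by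
    obtain ⟨j, hj⟩ : ∃ j : Limits.pullback (Limits.pullback.fst f f) V.ι ⟶ Limits.pullback f f,
        j = Limits.pullback.fst _ _ := ⟨_, rfl⟩
    haveI : IsSchemeTheoreticallyDominant j := by
      rw [hj]; infer_instance
    obtain ⟨q, hq⟩ : ∃ q : Limits.pullback (Limits.pullback.fst f f) V.ι ⟶ V,
        q ≫ V.ι = j ≫ Limits.pullback.fst f f :=
      ⟨Limits.pullback.snd _ _, by rw [hj]; exact Limits.pullback.condition.symm⟩
    have hr : Set.range (j ≫ Limits.pullback.snd f f) ⊆ Set.range V.ι := by
      rintro _ ⟨t, rfl⟩
      rw [Scheme.Opens.range_ι]
      apply hpre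
      show f ((j ≫ Limits.pullback.snd f f) t) ∈ U
      rw [← Scheme.Hom.comp_apply, Category.assoc, ← Limits.pullback.condition, ← Category.assoc,
        ← hq, Category.assoc, Scheme.Hom.comp_apply, Scheme.Hom.comp_apply]
      exact hle (q t).2
    obtain ⟨r, hr'⟩ : ∃ r : Limits.pullback (Limits.pullback.fst f f) V.ι ⟶ V,
        r ≫ V.ι = j ≫ Limits.pullback.snd f f :=
      ⟨IsOpenImmersion.lift V.ι _ hr, IsOpenImmersion.lift_fac _ _ _⟩
    have hqr : q = r := by
      rw [← cancel_mono (f.resLE U V hle), ← cancel_mono U.ι]
      simp only [Category.assoc, Scheme.Hom.resLE_comp_ι]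
      rw [reassoc_of% hq, reassoc_of% hr', Limits.pullback.condition]
    have hfac : (j ≫ Limits.pullback.fst f f) ≫ Limits.pullback.diagonal f = j := by
      apply Limits.pullback.hom_ext
      · simp
      · simp only [Category.assoc, Limits.pullback.diagonal_snd, Category.comp_id]
        rw [← hq, hqr, hr']
    have hker : (Limits.pullback.diagonal f).ker = ⊥ := by
      have h := Scheme.Hom.le_ker_comp (j ≫ Limits.pullback.fst f f) (Limits.pullback.diagonal f)
      rw [hfac, j.ker_eq_bot] at h
      exact le_bot_iff.1 h
    exact IsClosedImmersion.isIso_of_ker_eq (Limits.pullback.diagonal f) (𝟙 _) _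
      (Category.comp_id _) (by rw [hker, Scheme.Hom.ker_eq_bot])
  haveI : Mono f := (Limits.pullback.isIso_diagonal_iff f).1 hdiag
  exact Flat.isIso_of_surjective_of_mono f

end Groth.Agent.S15993
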