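import Groth.Statements.S15995

set_option autoImplicit false
open CategoryTheory AlgebraicGeometry
universe u
open FrobSch CategoryTheory.Limits

namespace Groth.Agent.S15995

/-- Coperfection commutes with base restriction. Let S and T be schemes of characteristic p and f : T →
S a relatively perfect morphism (its relative Frobenius T → T^(p/S) is an isomorphism). Let g : X →
T and let c : X → X' be a T-morphism to a relatively perfect T-scheme π : X' → T which is a
coperfection of X over T: for every relatively perfect T-scheme Y, every T-morphism X → Y factors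
uniquely through c. Then X' with structure map π ≫ f is relatively perfect over S and c is a
coperfection of X over S: every S-morphism from X to a relatively perfect S-scheme factors uniquely
through c. (The source works with algebraic spaces; schemes here.) -/
theorem result (p : ℕ) [Fact p.Prime] {X X' T S : Scheme.{u}}
    [FrobSch.IsCharP S p] [FrobSch.IsCharP T p] (f : T ⟶ S) (hf : IsIso (FrobSch.relFrob f p))
    (g : X ⟶ T) (π : X' ⟶ T) (hπ : IsIso (FrobSch.relFrob π p)) (c : X ⟶ X') (hc : c ≫ π = g)
    (huniv : ∀ (Y : Scheme.{u}) (q : Y ⟶ T), IsIso (FrobSch.relFrob q p) →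
      ∀ k : X ⟶ Y, k ≫ q = g → ∃! h : X' ⟶ Y, h ≫ q = π ∧ c ≫ h = k) :
    IsIso (FrobSch.relFrob (π ≫ f) p) ∧
      ∀ (Y : Scheme.{u}) (r : Y ⟶ S), IsIso (FrobSch.relFrob r p) →
        ∀ k : X ⟶ Y, k ≫ r = g ≫ f → ∃! h : X' ⟶ Y, h ≫ r = π ≫ f ∧ c ≫ h = k := by
  have : FrobSch.IsCharP X' p := FrobSch.IsCharP.of_hom π p
  have key : ∀ {A B : Scheme.{u}} [FrobSch.IsCharP A p] [FrobSch.IsCharP B p] (m : A ⟶ B),
      IsIso (FrobSch.relFrob m p) ↔ IsPullback (FrobSch.frob A p) m m (FrobSch.frob B p) := by
    intro A B _ _ m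
    constructor
    · intro hm
      exact IsPullback.of_iso (IsPullback.of_hasPullback m (FrobSch.frob B p)) (asIso (FrobSch.relFrob m p)).symm
        (Iso.refl _) (Iso.refl _) (Iso.refl _) (by simp) (by simp) (by simp) (by simp)
    · intro h
      have : FrobSch.relFrob m p = (h.isoPullback).hom := by
        apply pullback.hom_ext <;> simp
      rw [this]; infer_instance
  have hπ' := (key π).1 hπ
  have hf' := (key f).1 hf
  refine ⟨(key _).2 (hπ'.paste_vert hf'), fun Y r hr k hk => ?_⟩
  have : FrobSch.IsCharP Y p := FrobSch.IsCharP.of_hom r p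
  have : FrobSch.IsCharP (pullback r f) p := FrobSch.IsCharP.of_hom (pullback.snd r f) p
  have hq : IsIso (FrobSch.relFrob (pullback.snd r f) p) := by
    have P := IsPullback.of_hasPullback r f
    refine (key _).2 ?_
    have hout := P.paste_horiz ((key r).1 hr)
    rw [← FrobSch.frob_comp, ← FrobSch.frob_comp] at hout
    exact IsPullback.of_right hout (FrobSch.frob_comp p (pullback.snd r f)) P
  obtain ⟨h, ⟨h1, h2⟩, huniq⟩ := huniv (pullback r f) (pullback.snd r f) hq (pullback.lift k g hk)
    (pullback.lift_snd _ _ _)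
  refine ⟨h ≫ pullback.fst r f, ⟨?_, ?_⟩, fun h' hh' => ?_⟩
  · rw [Category.assoc, pullback.condition, reassoc_of% h1]
  · rw [reassoc_of% h2, pullback.lift_fst]
  · rw [← huniq (pullback.lift h' π hh'.1) ⟨pullback.lift_snd _ _ _, ?_⟩, pullback.lift_fst]
    apply pullback.hom_ext
    · rw [Category.assoc, pullback.lift_fst, pullback.lift_fst, hh'.2]
    · rw [Category.assoc, pullback.lift_snd, pullback.lift_snd, hc]


end Groth.Agent.S15995
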