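import Groth.Statements.S15996
import Groth.Agent.S0065
import Groth.Agent.S7885
import Groth.Agent.Div89.UFD
import Groth.Agent.RegUFD52.Basic
import Groth.Agent.CAlg6.RegularNormal
import Groth.Agent.Props58.Comp
import Groth.Agent.EGA73.Invertible
import Groth.Agent.LimTop61.ZmtFactor
import Groth.Agent.Unr55.UnrQF
-- import your own Groth.Agent.* helpers here

set_option autoImplicit false
open CategoryTheory AlgebraicGeometry
universe u
open EtHull
open TopologicalSpace

namespace Groth.Agent.S15996

/-- A scheme etale over a regular affine base has regular local rings. -/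
theorem regular_stalk {R : Type u} [CommRing R] [IsNoetherianRing R]
    (hreg : ∀ (P : Ideal R) [P.IsPrime], IsRegularLocalRing (Localization.AtPrime P))
    {X : Scheme.{u}} (g : X ⟶ Spec (CommRingCat.of R)) [Etale g] (x : X) :
    IsRegularLocalRing (X.presheaf.stalk x) := by
  refine (Groth.Agent.S0065.result g x).2 ?_
  let y : PrimeSpectrum R := g.base x
  letI : Algebra R ((Spec (CommRingCat.of R)).presheaf.stalk y) :=
    StructureSheaf.stalkAlgebra R y
  haveI : IsLocalization.AtPrime ((Spec (CommRingCat.of R)).presheaf.stalk y) y.asIdeal :=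
    StructureSheaf.IsLocalization.to_stalk R y
  haveI := hreg y.asIdeal
  exact IsRegularLocalRing.of_ringEquiv
    (IsLocalization.algEquiv y.asIdeal.primeCompl (Localization.AtPrime y.asIdeal)
      ((Spec (CommRingCat.of R)).presheaf.stalk y)).toRingEquiv

/-- An open of an affine Noetherian regular scheme has an affine neighbourhood in which its complement
has codimension at least two. -/
theorem exists_affine_nhd {X : Scheme.{u}} [IsAffine X] [IsNoetherian X]
    (hreg : ∀ x : X, IsRegularLocalRing (X.presheaf.stalk x)) (U : X.Opens) :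
    ∃ W : X.Opens, IsAffineOpen W ∧ U ≤ W ∧ ∀ x ∈ W, x ∉ U → (2 : WithBot ℕ∞) ≤ ringKrullDim (X.presheaf.stalk x) := by
  classical
  have hdom : ∀ x : X, IsDomain (X.presheaf.stalk x) := fun x =>
    haveI := hreg x; CAlg1.isDomain_regular _
  have hfinC : ∀ s : Set X, IsClosed s → ∃ S : Finset X, ∀ z ∈ s, (∀ y ∈ s, y ⤳ z → y = z) → z ∈ S := by
    intro s hs
    obtain ⟨T, hTfin, hTc, hTi, hsT⟩ := NoetherianSpace.exists_finite_set_isClosed_irreducible hs
    refine ⟨hTfin.toFinset.attach.image fun t => (hTi t.1 (hTfin.mem_toFinset.1 t.2)).genericPoint,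
      fun z hz hmax => ?_⟩
    rw [hsT] at hz
    obtain ⟨t, ht, hzt⟩ := hz
    refine Finset.mem_image.2 ⟨⟨t, hTfin.mem_toFinset.2 ht⟩, Finset.mem_attach _ _, ?_⟩
    have hg := (hTi t ht).isGenericPoint_genericPoint (hTc t ht)
    exact hmax _ (hsT ▸ Set.mem_sUnion.2 ⟨t, ht, hg.mem⟩) (hg.specializes hzt)
  have hu : ∀ x : X, ∀ Z ∈ irreducibleComponents X, ∀ Z' ∈ irreducibleComponents X,
      x ∈ Z → x ∈ Z' → Z = Z' := fun x => Props58.eq_of_isDomain_stalk x (hdom x)
  -- components meeting `U`
  have hcomp : ∀ x ∈ closure (U : Set X), ∀ η : X, IsGenericPoint η (irreducibleComponent x) →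
      η ∈ U ∧ irreducibleComponent x ⊆ closure (U : Set X) := by
    intro x hx η hη
    have hopen : IsOpen (irreducibleComponent x) := Props58.isOpen_irreducibleComponent hu
      (fun _ => ⟨⊤, trivial, @NoetherianSpace.finite_irreducibleComponents _ _ (NoetherianSpace.set _)⟩)
      (irreducibleComponent_mem_irreducibleComponents x)
    obtain ⟨w, hw, hwU⟩ := mem_closure_iff.1 hx _ hopen mem_irreducibleComponent
    have hηU : η ∈ U := (hη.specializes hw).mem_open U.2 hwU
    refine ⟨hηU, ?_⟩
    rw [← hη.def]
    exact closure_mono (Set.singleton_subset_iff.2 hηU)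
  have hopenC : IsOpen (closure (U : Set X)) := by
    refine isOpen_iff_forall_mem_open.2 fun x hx => ⟨irreducibleComponent x, ?_, ?_, mem_irreducibleComponent⟩
    · exact (hcomp x hx _ (isIrreducible_irreducibleComponent.isGenericPoint_genericPoint
        isClosed_irreducibleComponent)).2
    · exact Props58.isOpen_irreducibleComponent hu
        (fun _ => ⟨⊤, trivial, @NoetherianSpace.finite_irreducibleComponents _ _ (NoetherianSpace.set _)⟩)
        (irreducibleComponent_mem_irreducibleComponents x)
  have hmaxU : ∀ x ∈ closure (U : Set X), Order.coheight x = 0 → x ∈ U := by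
    intro x hx h0
    have hgen := isIrreducible_irreducibleComponent.isGenericPoint_genericPoint
      (isClosed_irreducibleComponent (x := x))
    have hs : (isIrreducible_irreducibleComponent (x := x)).genericPoint ⤳ x :=
      hgen.specializes mem_irreducibleComponent
    have hle : x ≤ (isIrreducible_irreducibleComponent (x := x)).genericPoint := hs
    have hge := (Order.coheight_eq_zero.1 h0) hle
    exact hge.mem_open U.2 (hcomp x hx _ hgen).1
  -- the divisorial part of the complement
  obtain ⟨S, hS⟩ := hfinC (closure (U : Set X) \ U) (isClosed_closure.sdiff U.2)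
  let G : Finset X := S.filter fun z => z ∉ U ∧ Order.coheight z = 1
  let Z1 : Closeds X := ⟨⋃ g ∈ G, closure {g}, G.finite_toSet.isClosed_biUnion fun g _ => isClosed_closure⟩
  have hZ1 : ∀ z, z ∈ Z1 ↔ ∃ g ∈ G, g ⤳ z := fun z => by
    show z ∈ ⋃ g ∈ G, closure {g} ↔ _
    simp [specializes_iff_mem_closure]
  let D := Scheme.IdealSheafData.vanishingIdeal Z1
  have hDs : (D.support : Set X) = Z1 := Scheme.IdealSheafData.coe_support_vanishingIdeal _
  have hDmem : ∀ z, z ∈ D.support ↔ z ∈ Z1 := fun z => by rw [← SetLike.mem_coe, hDs]; rfl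
  have hD : BlowUp.IsEffCartierIdeal D := by
    refine Div89.isEffCartier_of_radical_codim_one_ufd D (fun V => ?_) (fun z hz hmax => ?_) fun x _ =>
      ⟨hdom x, haveI := hreg x; haveI := hdom x; RegUFD52.ufm_of_regular _⟩
    · rw [Scheme.IdealSheafData.vanishingIdeal_ideal]
      exact PrimeSpectrum.isRadical_vanishingIdeal _
    · obtain ⟨g, hg, hgz⟩ := (hZ1 z).1 ((hDmem z).1 hz)
      have hgz' := hmax g ((hDmem g).2 ((hZ1 g).2 ⟨g, hg, specializes_rfl⟩)) hgz
      rw [ringKrullDim_stalk_eq_coheight, ← hgz', (Finset.mem_filter.1 hg).2.2]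
      rfl
  let W1 : X.Opens := D.support.compl
  haveI : IsAffineHom W1.ι := Div89.isAffineHom_compl_support fun x => by
    obtain ⟨V, hV, f, -, hf⟩ := hD x
    exact ⟨V, hV, f, hf⟩
  let X0 : X.Opens := ⟨closure (U : Set X), hopenC⟩
  haveI : IsClosedImmersion X0.ι := IsClosedImmersion.of_isPreimmersion _ (by
    rw [Scheme.Opens.range_ι]; exact isClosed_closure)
  have hX0 : IsAffineOpen X0 := by
    haveI := isAffine_of_isAffineHom X0.ι
    simpa using isAffineOpen_opensRange X0.ι
  have hW1 : IsAffineOpen W1 := by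
    haveI := isAffine_of_isAffineHom W1.ι
    simpa using isAffineOpen_opensRange W1.ι
  refine ⟨W1 ⊓ X0, hW1.inf hX0, fun x hx => ⟨fun h => ?_, subset_closure hx⟩, fun x hx hxU => ?_⟩
  · obtain ⟨g, hg, hgx⟩ := (hZ1 x).1 ((hDmem x).1 h)
    exact (Finset.mem_filter.1 hg).2.1 (hgx.mem_open U.2 hx)
  · rw [ringKrullDim_stalk_eq_coheight]
    suffices h : (2 : ℕ∞) ≤ Order.coheight x from WithBot.coe_le_coe.2 h
    by_contra h
    have h0 : Order.coheight x ≠ 0 := fun h0 => hxU (hmaxU x hx.2 h0)
    have h1 : Order.coheight x = 1 := by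
      rw [not_le] at h
      refine le_antisymm ?_ (Order.one_le_iff_pos.2 (pos_iff_ne_zero.2 h0))
      exact Order.le_of_lt_add_one (by rwa [one_add_one_eq_two])
    refine hx.1 ((hDmem x).2 ((hZ1 x).2 ⟨x, Finset.mem_filter.2 ⟨hS x ⟨hx.2, hxU⟩ ?_, hxU, h1⟩,
      specializes_rfl⟩))
    intro y hy hyx
    by_contra hne
    have hlt : x < y := lt_of_le_not_ge hyx fun h' => hne (hyx.antisymm h').eq
    have hy0 : Order.coheight y = 0 := by
      have := Order.coheight_add_one_le hlt
      rw [h1] at this
      exact le_antisymm ((WithTop.add_le_add_iff_right WithTop.one_ne_top).1 (this.trans (zero_add 1).ge)) zero_le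
    exact hy.2 (hmaxU y hy.1 hy0)

/-- An open of a normal scheme with complement of codimension two has the same global functions. -/
theorem isIso_appTop {T U : Scheme.{u}} [IsLocallyNoetherian T]
    (hT : ∀ x : T, IsRegularLocalRing (T.presheaf.stalk x)) (j : U ⟶ T) [IsOpenImmersion j]
    (hj : ∀ x : T, x ∉ j.opensRange → (2 : WithBot ℕ∞) ≤ ringKrullDim (T.presheaf.stalk x)) :
    IsIso j.appTop := by
  have h := (Groth.Agent.S7885.result T (fun x => haveI := hT x;
    ⟨CAlg1.isDomain_regular _, CAlg6.isIntegrallyClosed_of_regular _⟩) j.opensRange hj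
    (Coh.structureModule T) EGA73.isInvertible_structureModule).1
  have h' : Function.Bijective (T.presheaf.map (homOfLE (le_top (a := j.opensRange))).op).hom := h
  haveI : IsIso (T.presheaf.map (homOfLE (le_top (a := j.opensRange))).op) :=
    (ConcreteCategory.isIso_iff_bijective _).2 h'
  have htop : (⊤ : U.Opens) ≤ j ⁻¹ᵁ j.opensRange := fun x _ => ⟨x, rfl⟩
  haveI : IsIso (j.appLE j.opensRange ⊤ htop) := by
    haveI := j.isIso_app j.opensRange le_rfl
    rw [Scheme.Hom.appLE, show homOfLE htop = eqToHom (top_le_iff.1 htop).symm from Subsingleton.elim _ _]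
    infer_instance
  have : j.appTop = T.presheaf.map (homOfLE (le_top (a := j.opensRange))).op ≫ j.appLE j.opensRange ⊤ htop := by
    rw [Scheme.Hom.map_appLE]
    exact Scheme.Hom.app_eq_appLE (f := j) (U := (⊤ : T.Opens))
  rw [this]
  infer_instance

/-- Let R be a Noetherian ring whose localizations at all prime ideals are regular local rings, S = Spec
R, and q : U → S an étale, separated and quasi-compact morphism of schemes. The following are
equivalent: (1) there is an open immersion of U into a scheme E which is étale and affine over S,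
compatible with q; (2) the affine hull Spec Γ(U, O_U) → S of U over S is étale. (The source states
this for a locally Noetherian algebraic space S all of whose étale atlases are locally ℚ-factorial;
this row is the case of an affine regular Noetherian base, a regular scheme being locally
ℚ-factorial.) -/
theorem result {R : Type u} [CommRing R]
    [IsNoetherianRing R] (hreg : ∀ (P : Ideal R) [P.IsPrime], IsRegularLocalRing (Localization.AtPrime P))
    {U : Scheme.{u}} (q : U ⟶ Spec (CommRingCat.of R)) [Etale q] [IsSeparated q] [QuasiCompact q] :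
    (∃ (E : Scheme.{u}) (j : U ⟶ E) (g : E ⟶ Spec (CommRingCat.of R)),
        IsOpenImmersion j ∧ Etale g ∧ IsAffineHom g ∧ j ≫ g = q) ↔
      Etale (Spec.map q.appTop ≫ (Spec (CommRingCat.of R)).isoSpec.inv) := by
  have hnat : U.toSpecΓ ≫ (Spec.map q.appTop ≫ (Spec (CommRingCat.of R)).isoSpec.inv) = q := by
    rw [← Scheme.toSpecΓ_naturality_assoc, Scheme.toSpecΓ_isoSpec_inv, Category.comp_id]
  constructor
  · rintro ⟨E, j, g, hj, hg, hga, hjg⟩
    haveI : IsAffine E := isAffine_of_isAffineHom g
    haveI : IsLocallyNoetherian E := LocallyOfFiniteType.isLocallyNoetherian g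
    haveI : IsNoetherian E := ⟨⟩
    obtain ⟨W, hW, hle, hdim⟩ := exists_affine_nhd (fun x => regular_stalk hreg g x) j.opensRange
    let g' : (W : Scheme.{u}) ⟶ Spec (CommRingCat.of R) := W.ι ≫ g
    let j' : U ⟶ (W : Scheme.{u}) := IsOpenImmersion.lift W.ι j (by
      rw [Scheme.Opens.range_ι]; exact hle)
    have hj' : j' ≫ W.ι = j := IsOpenImmersion.lift_fac _ _ _
    haveI : IsOpenImmersion j' := by
      haveI : IsOpenImmersion (j' ≫ W.ι) := hj'.symm ▸ hj
      exact IsOpenImmersion.of_comp j' W.ι
    haveI := isIso_appTop (fun x => regular_stalk hreg g' x) j' fun x hx => by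
      rw [← ringKrullDim_eq_of_ringEquiv (asIso (W.ι.stalkMap x)).commRingCatIsoToRingEquiv]
      refine hdim _ x.2 ?_
      rintro ⟨u, hu⟩
      refine hx ⟨u, W.ι.isOpenEmbedding.injective ?_⟩
      rw [← Scheme.Hom.comp_apply, hj']
      exact hu
    have hq : q = j' ≫ g' := by rw [← hjg, ← hj', Category.assoc]
    haveI : IsAffine (W : Scheme.{u}) := hW
    rw [hq, Scheme.Hom.comp_appTop, Spec.map_comp, Category.assoc, Scheme.isoSpec_inv_naturality]
    infer_instance
  · intro h
    haveI : CompactSpace U := QuasiCompact.compactSpace_of_compactSpace q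
    haveI : LocallyQuasiFinite q := Groth.Agent.Unr55.locallyQuasiFinite_of_formallyUnramified q
    obtain ⟨T, jT, π, hjT, _, _, hπ, -⟩ := Groth.Agent.LimTop61.exists_openImmersion_finite q
    haveI : IsAffine T := isAffine_of_isAffineHom π
    haveI : U.IsQuasiAffine := Scheme.IsQuasiAffine.of_isImmersion jT
    exact ⟨Spec Γ(U, ⊤), U.toSpecΓ, Spec.map q.appTop ≫ (Spec (CommRingCat.of R)).isoSpec.inv,
      inferInstance, h, inferInstance, hnat⟩

end Groth.Agent.S15996
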