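import Groth.Statements.S1600
import Groth.Agent.LimTop61.NormalizationBirational
import Groth.Agent.LimTop61.SteinFinite
import Groth.Agent.FlatCrit65.GenFlat
import Groth.Agent.EGA4H10.Serre
import Groth.Agent.CAlg6.RegularNormal

set_option autoImplicit false
universe u
open CategoryTheory CategoryTheory.Limits AlgebraicGeometry
open Resolve

namespace Groth.Agent.S1600

/-- Let A be a Noetherian domain such that Spec A admits an alteration f : X → Spec A with X regular.
Then the integral closure of A in its fraction field is a finite A-module (A is N-1), and some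
nonempty open subset of Spec A consists of points whose local ring is regular. (The published
statement is for any Noetherian integral scheme; it is stated here for an affine one.) -/
theorem result (A : Type u) [CommRing A] [IsDomain A] [IsNoetherianRing A]
    (X : Scheme.{u}) (f : X ⟶ Spec (CommRingCat.of A)) (hf : Curv2.IsAlteration f)
    (hreg : ∀ x : X, IsRegularLocalRing (X.presheaf.stalk x)) :
    CAlg.IsN1 A ∧ ∃ U : (Spec (CommRingCat.of A)).Opens, (U : Set (Spec (CommRingCat.of A))).Nonempty ∧
      ∀ y ∈ U, IsRegularLocalRing ((Spec (CommRingCat.of A)).presheaf.stalk y) := by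
  obtain ⟨hp, hX, hY, hd, -⟩ := hf
  haveI := hp
  haveI := hX
  haveI := hY
  haveI := hd
  haveI : IsNoetherianRing (CommRingCat.of A) := ‹IsNoetherianRing A›
  refine ⟨?_, ?_⟩
  · -- finiteness of the normalization
    let R := Γ(X, ⊤)
    let φ : A →+* R := ((Scheme.ΓSpecIso (CommRingCat.of A)).inv ≫ f.appTop).hom
    have hφ : φ.Finite := Groth.Agent.LimTop61.finite_appTop_of_isProper (CommRingCat.of A) f
    letI : Algebra A R := φ.toAlgebra
    haveI : Module.Finite A R := hφ
    have hη : genericPoint X ∈ (⊤ : X.Opens) := trivial
    let γ : R →+* X.functionField := (X.presheaf.germ ⊤ (genericPoint X) hη).hom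
    have hγ : Function.Injective γ := germ_injective_of_isIntegral X (genericPoint X) hη
    have hinj : Function.Injective φ := by
      rw [injective_iff_map_eq_zero]
      intro a ha
      let s : Γ(Spec (CommRingCat.of A), ⊤) := (Scheme.ΓSpecIso (CommRingCat.of A)).inv a
      have hs : f.appTop s = 0 := ha
      have h1 : f ⁻¹ᵁ (Spec (CommRingCat.of A)).basicOpen s = ⊥ := by
        refine (Scheme.preimage_basicOpen f s).trans ?_
        change X.basicOpen (f.appTop s) = ⊥
        rw [hs]
        exact Scheme.basicOpen_zero X _
      have h2 : (Spec (CommRingCat.of A)).basicOpen s = ⊥ := by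
        by_contra h
        obtain ⟨y, hy⟩ := (TopologicalSpace.Opens.ne_bot_iff_nonempty _).1 h
        obtain ⟨x, hx⟩ := f.denseRange.exists_mem_open ((Spec (CommRingCat.of A)).basicOpen s).isOpen ⟨y, hy⟩
        have : x ∈ f ⁻¹ᵁ (Spec (CommRingCat.of A)).basicOpen s := hx
        rw [h1] at this
        exact this
      have h3 : s = 0 := (AlgebraicGeometry.basicOpen_eq_bot_iff s).1 h2
      apply (ConcreteCategory.bijective_of_isIso (Scheme.ΓSpecIso (CommRingCat.of A)).inv).1
      rw [map_zero]
      exact h3
    letI : Algebra A X.functionField := (γ.comp φ).toAlgebra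
    let ι : FractionRing A →ₐ[A] X.functionField :=
      IsFractionRing.liftAlgHom (g := Algebra.ofId A X.functionField) (hγ.comp hinj)
    let γ' : R →ₐ[A] X.functionField := AlgHom.mk γ fun _ => rfl
    have hN : ∀ x : X, IsIntegrallyClosed (X.presheaf.stalk x) := fun x =>
      haveI := hreg x
      Groth.Agent.CAlg6.isIntegrallyClosed_of_regular _
    have hmem : ∀ z : integralClosure A (FractionRing A), ι (z : FractionRing A) ∈ γ'.range := fun z => by
      have hz : IsIntegral A (ι (z : FractionRing A)) := z.2.map ι
      obtain ⟨p, hp, hpz⟩ := hz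
      obtain ⟨r, hr⟩ := Groth.Agent.LimTop61.exists_germ_eq_of_isIntegralElem_open hN ⊤ hη
        (ι (z : FractionRing A)) ⟨p.map φ, hp.map _, by rw [Polynomial.eval₂_map]; exact hpz⟩
      exact ⟨r, hr⟩
    haveI : Module.Finite A γ'.range :=
      Module.Finite.of_surjective γ'.rangeRestrict.toLinearMap γ'.rangeRestrict_surjective
    haveI : IsNoetherian A γ'.range := isNoetherian_of_isNoetherianRing_of_finite A _
    let j : integralClosure A (FractionRing A) →ₗ[A] γ'.range :=
      { toFun := fun z => ⟨ι (z : FractionRing A), hmem z⟩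
        map_add' := fun a b => Subtype.ext (map_add ι _ _)
        map_smul' := fun a b => Subtype.ext (map_smul ι a (b : FractionRing A)) }
    exact Module.Finite.of_injective j fun a b h =>
      Subtype.ext (ι.toRingHom.injective (congrArg Subtype.val h))
  · obtain ⟨V, hV, hfl, -⟩ := Groth.Agent.FlatCrit65.exists_dense_flat_lfp f
    refine ⟨V, hV.nonempty, fun y hy => ?_⟩
    haveI : Surjective f := by
      constructor
      intro y
      have h := f.denseRange.closure_range
      rw [f.isClosedMap.isClosed_range.closure_eq] at h
      exact (h.ge trivial : y ∈ Set.range f)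
    obtain ⟨x, rfl⟩ := f.surjective y
    haveI := hreg x
    haveI := hfl
    let φ := (f.stalkMap x).hom
    haveI : (RingHom.toMorphismProperty RingHom.Flat).RespectsIso :=
      RingHom.toMorphismProperty_respectsIso_iff.mp RingHom.Flat.respectsIso
    have hflat : φ.Flat := (RingHom.toMorphismProperty RingHom.Flat).arrow_mk_iso_iff
      (morphismRestrictStalkMap f V ⟨x, hy⟩) |>.1 (Flat.stalkMap (f ∣_ V) ⟨x, hy⟩)
    letI := φ.toAlgebra
    haveI : Module.Flat ((Spec (CommRingCat.of A)).presheaf.stalk (f x)) (X.presheaf.stalk x) := hflat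
    haveI : IsLocalHom (algebraMap ((Spec (CommRingCat.of A)).presheaf.stalk (f x)) (X.presheaf.stalk x)) :=
      inferInstanceAs (IsLocalHom φ)
    exact Groth.Agent.EGA4H10.regular_of_flat _ (X.presheaf.stalk x)

end Groth.Agent.S1600
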