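import Groth.Statements.S16003
import Groth.Agent.VB30.Tensor


set_option autoImplicit false
open CategoryTheory AlgebraicGeometry CategoryTheory.Limits
open VBCurve

namespace Groth.Agent.S16003
set_option backward.isDefEq.respectTransparency.types false

/-- Let X be a smooth proper integral curve over the complex numbers and L an invertible O_X-module; an
L-valued pair is a finite locally free O_X-module E of rank r ≥ 1 with a map φ : E → E ⊗ L; a
submodule j : G → E (a monomorphism) is φ-invariant when some χ : G → G ⊗ L followed by j ⊗ L equals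
j followed by φ; the pair is semistable when deg G · r ≤ deg E · n for every φ-invariant finite
locally free submodule G of rank n ≥ 1, degrees being χ − rank · χ(O_X). If (E, φ) is a semistable
pair and φ is not zero, then L has non-negative degree. (The published statement is for tuples of
finitely many commuting twisting maps; this is the assertion for the one map φ.) -/
theorem result
    (X : Scheme.{0}) [X.Over (Spec (CommRingCat.of ℂ))] [IsIntegral X]
    [IsProper (X ↘ Spec (CommRingCat.of ℂ))] [Smooth (X ↘ Spec (CommRingCat.of ℂ))]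
    (hdim : topologicalKrullDim X = 1)
    (L : X.Modules) (hL : PicF.IsInvertible L)
    (r : ℕ) (hr : 0 < r) (E : X.Modules) (hE : FlatMod.IsFinLocFreeOfRank r E)
    (φ : E ⟶ CohB1.tensorMod E L)
    (hss : (∀ (G : X.Modules) (n : ℕ) (j : G ⟶ E) (χ : G ⟶ CohB1.tensorMod G L), Mono j → 0 < n →
      FlatMod.IsFinLocFreeOfRank n G →
      χ ≫ (CohB1.sheafifyMod X).map (MonoidalCategoryStruct.whiskerRight (C := CohB1.PMod X) j.val (CohB1.toPMod L)) = j ≫ φ →
      Curv2.deg ℂ X G n * (r : ℤ) ≤ Curv2.deg ℂ X E r * (n : ℤ)))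
    (hφ : φ ≠ 0) :
    0 ≤ Curv2.deg ℂ X L 1 := by
  have hc := VB30.cur_of_smooth ℂ X hdim
  have lE := VB30.isFinLocFree_of_rank hE
  have eE := VB30.rk_eq_of_isFinLocFreeOfRank hE
  subst eE
  have hss' : ∀ (G : X.Modules) (j : G ⟶ E), Mono j → 0 < VB30.rk G → FlatMod.IsFinLocFree G → VB30.Inv φ j →
      VB30.dg ℂ G * VB30.rk E ≤ VB30.dg ℂ E * VB30.rk G := fun G j hj h0 hG ⟨χ, hχ⟩ => by
    have := hss G _ j χ hj h0 (VB30.isFinLocFreeOfRank_rk hG) hχ
    rwa [VB30.deg_eq_dg (VB30.isFinLocFreeOfRank_rk hG), VB30.deg_eq_dg hE] at this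
  rw [VB30.deg_eq_dg_of_isInvertible hL]
  exact hc.pair_deg_nonneg lE hL φ hφ hss'

end Groth.Agent.S16003
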