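import Groth.Statements.S16004
import Groth.Agent.VB30.Tensor


set_option autoImplicit false
open CategoryTheory AlgebraicGeometry CategoryTheory.Limits
open VBCurve

namespace Groth.Agent.S16004
set_option backward.isDefEq.respectTransparency.types false

/-- Let X be a smooth proper integral curve over the complex numbers and L an invertible O_X-module of
degree 0; an L-valued pair is a finite locally free O_X-module E of rank r ≥ 1 with a map φ : E → E
⊗ L; a submodule j : G → E (a monomorphism) is φ-invariant when some χ : G → G ⊗ L followed by j ⊗ L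
equals j followed by φ; the pair is semistable when deg G · r ≤ deg E · n for every φ-invariant
finite locally free submodule G of rank n ≥ 1, degrees being χ − rank · χ(O_X). If (E, φ) is a
semistable pair then E is slope-semistable as a module of rank r: deg G · r ≤ deg E · n for every
finite locally free submodule G of rank n ≥ 1, invariant or not. (The published statement deletes
one degree-zero twisting map from a tuple of finitely many commuting ones; this is the case of a
single map.) -/
theorem result
    (X : Scheme.{0}) [X.Over (Spec (CommRingCat.of ℂ))] [IsIntegral X]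
    [IsProper (X ↘ Spec (CommRingCat.of ℂ))] [Smooth (X ↘ Spec (CommRingCat.of ℂ))]
    (hdim : topologicalKrullDim X = 1)
    (L : X.Modules) (hL : PicF.IsInvertible L) (hL0 : Curv2.deg ℂ X L 1 = 0)
    (r : ℕ) (hr : 0 < r) (E : X.Modules) (hE : FlatMod.IsFinLocFreeOfRank r E)
    (φ : E ⟶ CohB1.tensorMod E L)
    (hss : (∀ (G : X.Modules) (n : ℕ) (j : G ⟶ E) (χ : G ⟶ CohB1.tensorMod G L), Mono j → 0 < n →
      FlatMod.IsFinLocFreeOfRank n G →
      χ ≫ (CohB1.sheafifyMod X).map (MonoidalCategoryStruct.whiskerRight (C := CohB1.PMod X) j.val (CohB1.toPMod L)) = j ≫ φ →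
      Curv2.deg ℂ X G n * (r : ℤ) ≤ Curv2.deg ℂ X E r * (n : ℤ))) :
    ∀ (G : X.Modules) (n : ℕ) (j : G ⟶ E), Mono j → 0 < n → FlatMod.IsFinLocFreeOfRank n G →
      Curv2.deg ℂ X G n * (r : ℤ) ≤ Curv2.deg ℂ X E r * (n : ℤ) := by
  have hc := VB30.cur_of_smooth ℂ X hdim
  have lE := VB30.isFinLocFree_of_rank hE
  have eE := VB30.rk_eq_of_isFinLocFreeOfRank hE
  subst eE
  have hss' : ∀ (G : X.Modules) (j : G ⟶ E), Mono j → 0 < VB30.rk G → FlatMod.IsFinLocFree G → VB30.Inv φ j →
      VB30.dg ℂ G * VB30.rk E ≤ VB30.dg ℂ E * VB30.rk G := fun G j hj h0 hG ⟨χ, hχ⟩ => by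
    have := hss G _ j χ hj h0 (VB30.isFinLocFreeOfRank_rk hG) hχ
    rwa [VB30.deg_eq_dg (VB30.isFinLocFreeOfRank_rk hG), VB30.deg_eq_dg hE] at this
  rw [VB30.deg_eq_dg_of_isInvertible hL] at hL0
  exact VB30.slope_of_ss hE (hc.pair_ss lE hL hL0 φ hss')

end Groth.Agent.S16004
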