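import Groth.Statements.S16006
import Groth.Agent.VB30.Canon
import Groth.Agent.VB30.Setup
import Groth.Agent.QC70.CohOps


set_option autoImplicit false
open CategoryTheory AlgebraicGeometry CategoryTheory.Limits
open VBCurve

namespace Groth.Agent.S16006
set_option backward.isDefEq.respectTransparency.types false
set_option maxHeartbeats 1000000

/-- Let X be a smooth proper integral curve of genus 1 over the complex numbers (genus = dim H¹(O_X))
and L an invertible O_X-module of degree 0 such that L ⊗ L is not isomorphic to O_X; an L-valued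
pair is a finite locally free O_X-module E of rank r ≥ 1 with a map φ : E → E ⊗ L; a submodule j : G
→ E (a monomorphism) is φ-invariant when some χ : G → G ⊗ L followed by j ⊗ L equals j followed by
φ; the pair is semistable when deg G · r ≤ deg E · n for every φ-invariant finite locally free
submodule G of rank n ≥ 1, degrees being χ − rank · χ(O_X), and it is stable when deg G · r < deg E
· n for every φ-invariant finite locally free submodule G of rank n with 1 ≤ n < r. If (E, φ) is a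
stable pair of rank 2, then E is slope-stable as a module of rank 2: deg G · 2 < deg E · n for every
finite locally free submodule G of rank n with 1 ≤ n < 2, φ-invariant or not. (The published
statement assumes only that L is not isomorphic to O_X. For L of order two and E = O_X ⊕ L, the
isomorphism φ : E → E ⊗ L = (O_X ⊗ L) ⊕ (L ⊗ L) that maps the summand O_X of E onto the summand L ⊗
L ≅ O_X and the summand L onto O_X ⊗ L ≅ L leaves no rank-one submodule of degree 0 invariant, so
(E, φ) is a stable pair while E is not stable; the published argument derives L ⊗ L ≅ O_X in the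
split case, so the row assumes L ⊗ L ≄ O_X.) -/
theorem result
    (X : Scheme.{0}) [X.Over (Spec (CommRingCat.of ℂ))] [IsIntegral X]
    [IsProper (X ↘ Spec (CommRingCat.of ℂ))] [Smooth (X ↘ Spec (CommRingCat.of ℂ))]
    (hdim : topologicalKrullDim X = 1)
    (hg : Curv2.genus ℂ X = 1)
    (L : X.Modules) (hL : PicF.IsInvertible L) (hL0 : Curv2.deg ℂ X L 1 = 0)
    (hL2 : ¬ Nonempty (CohB1.tensorMod L L ≅ Coh.structureModule X))
    (E : X.Modules) (hE : FlatMod.IsFinLocFreeOfRank 2 E)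
    (φ : E ⟶ CohB1.tensorMod E L)
    (hst : (∀ (G : X.Modules) (n : ℕ) (j : G ⟶ E) (χ : G ⟶ CohB1.tensorMod G L), Mono j → 0 < n → n < 2 →
      FlatMod.IsFinLocFreeOfRank n G →
      χ ≫ (CohB1.sheafifyMod X).map (MonoidalCategoryStruct.whiskerRight (C := CohB1.PMod X) j.val (CohB1.toPMod L)) = j ≫ φ →
      Curv2.deg ℂ X G n * (2 : ℤ) < Curv2.deg ℂ X E 2 * (n : ℤ))) :
    ∀ (G : X.Modules) (n : ℕ) (j : G ⟶ E), Mono j → 0 < n → n < 2 → FlatMod.IsFinLocFreeOfRank n G →
      Curv2.deg ℂ X G n * (2 : ℤ) < Curv2.deg ℂ X E 2 * (n : ℤ) := by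
  have hS : CrvPic30.Setup ℂ X := CrvPic30.setup_of_smooth_algClosed hdim
  have hc := VB30.cur_of_setup hS
  have := hc.isNoetherian
  have lE := VB30.isFinLocFree_of_rank hE
  have eE := VB30.rk_eq_of_isFinLocFreeOfRank hE
  have hdL : VB30.dg ℂ L = 0 := (VB30.deg_eq_dg_of_isInvertible hL).symm.trans hL0
  intro G₀ n j₀ hj₀ h0 hn hG₀
  obtain rfl : n = 1 := by omega
  rw [VB30.deg_eq_dg hG₀, VB30.deg_eq_dg hE, Nat.cast_one, mul_one]
  by_contra hge
  obtain ⟨G, i, a, hi, -, -, lG, lQ, rG, dG⟩ :=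
    hc.exists_saturation j₀ (VB30.isCoh_of_isFinLocFree (VB30.isFinLocFree_of_rank hG₀)) lE
  have hG1 : VB30.rk G = 1 := rG.trans (VB30.rk_eq_of_isFinLocFreeOfRank hG₀)
  obtain ⟨rQ, dQ⟩ := hc.rk_cokernel i (VB30.isCoh_of_isFinLocFree lG) (VB30.isCoh_of_isFinLocFree lE)
  have hGi := VB30.isInvertible_of_lf lG hG1
  have hQi := VB30.isInvertible_of_lf lQ (by omega)
  -- invariant line subbundles are not destabilising
  have hline : ∀ (M : X.Modules) (m : M ⟶ E), Mono m → PicF.IsInvertible M → VB30.Inv φ m →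
      2 * VB30.dg ℂ M < VB30.dg ℂ E := fun M m hm hM ⟨χ, hχ⟩ => by
    obtain ⟨l, r⟩ := VB30.lf_of_isInvertible hM
    have := hst M 1 m χ hm one_pos one_lt_two (r ▸ VB30.isFinLocFreeOfRank_rk l) hχ
    rw [VB30.deg_eq_dg_of_isInvertible hM, VB30.deg_eq_dg hE, Nat.cast_one, mul_one] at this
    linarith
  -- cancellation of line bundles
  have hcancel : ∀ (Q A : X.Modules), PicF.IsInvertible Q → Nonempty (CohB1.tensorMod A Q ≅ Q) →
      Nonempty (A ≅ Coh.structureModule X) := by
    rintro Q A hQ ⟨e⟩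
    obtain ⟨H, eq, heq, -⟩ := VB30.exists_twist_equiv hQ
    have : (Crv77.twist Q).IsEquivalence := heq ▸ eq.isEquivalence_functor
    let c : (Crv77.twist Q).obj A ≅ (Crv77.twist Q).obj (Coh.structureModule X) := e ≪≫ (EGA73.tensUnitLeft Q).symm
    exact ⟨(Crv77.twist Q).preimageIso c⟩
  obtain ⟨w, hT⟩ := VB30.shortExact_twMap hL (VB30.shortExact_cokernel i)
  obtain ⟨lQL, rQL, dQL⟩ := hc.tensor_invertible lQ hL
  have hf : i ≫ φ ≫ VB30.twMap (cokernel.π i) L ≠ 0 := fun z => by
    have := hline G i hi hGi ⟨hT.fIsKernel.lift (KernelFork.ofι (i ≫ φ) (by rw [Category.assoc]; exact z)),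
      hT.fIsKernel.fac _ WalkingParallelPair.zero⟩
    omega
  have : Mono (i ≫ φ ≫ VB30.twMap (cokernel.π i) L) :=
    (hc.rk_image_eq_zero_or _ lG lQL hG1).resolve_left hf
  have hdle := (hc.dg_le_of_mono (i ≫ φ ≫ VB30.twMap (cokernel.π i) L) (VB30.isCoh_of_isFinLocFree lG)
    (VB30.isCoh_of_isFinLocFree lQL) (by omega)).1
  rw [dQL, hdL, mul_zero, add_zero] at hdle
  have heq : VB30.dg ℂ G = VB30.dg ℂ (cokernel i) := by omega
  have := hc.isIso_of_rk_eq (i ≫ φ ≫ VB30.twMap (cokernel.π i) L) (VB30.isCoh_of_isFinLocFree lG)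
    (VB30.isCoh_of_isFinLocFree lQL) (by omega) (by rw [dQL, hdL, mul_zero, add_zero]; omega)
  let eG : G ≅ CohB1.tensorMod (cokernel i) L := asIso (i ≫ φ ≫ VB30.twMap (cokernel.π i) L)
  -- the extension splits
  have hz : ∀ g : G ⟶ cokernel i, g = 0 := fun g => by
    by_contra hg0
    have : Mono g := (hc.rk_image_eq_zero_or g lG lQ hG1).resolve_left hg0
    have := hc.isIso_of_rk_eq g (VB30.isCoh_of_isFinLocFree lG) (VB30.isCoh_of_isFinLocFree lQ) (by omega) (by omega)
    obtain ⟨e⟩ := hcancel (cokernel i) L hQi ⟨EGA73.tensComm L (cokernel i) ≪≫ eG.symm ≪≫ asIso g⟩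
    exact hL2 ⟨(Crv77.twist L).mapIso e ≪≫ EGA73.tensUnitLeft L ≪≫ e⟩
  have := hc.isSplitEpi_of_h1 (VB30.shortExact_cokernel i) lQ (VB30.h1_hom_subsingleton_genus_one hS hg lG lQ hz)
  let s := ShortComplex.Splitting.ofExactOfSection (ShortComplex.mk i (cokernel.π i) (cokernel.condition i))
    (VB30.shortExact_cokernel i).exact (section_ (cokernel.π i)) (IsSplitEpi.id (cokernel.π i)) hi
  have hsr : s.s ≫ s.r = 0 := s.s_r
  let s' : (ShortComplex.mk s.s s.r hsr).Splitting :=
    { r := cokernel.π i, s := i, f_r := s.s_g, s_g := s.f_r, id := (add_comm _ _).trans s.id }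
  have hSE := s'.shortExact
  obtain ⟨w', hT'⟩ := VB30.shortExact_twMap hL hSE
  have : Mono s.s := hSE.mono_f
  have hv : s.s ≫ φ ≫ VB30.twMap s.r L = 0 := by
    by_contra hne
    obtain ⟨lGL, rGL, dGL⟩ := hc.tensor_invertible lG hL
    have h1Q : VB30.rk (cokernel i) = 1 := by omega
    have : Mono (s.s ≫ φ ≫ VB30.twMap s.r L) :=
      (hc.rk_image_eq_zero_or (s.s ≫ φ ≫ VB30.twMap s.r L) lQ lGL h1Q).resolve_left hne
    have := hc.isIso_of_rk_eq (s.s ≫ φ ≫ VB30.twMap s.r L) (VB30.isCoh_of_isFinLocFree lQ)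
      (VB30.isCoh_of_isFinLocFree lGL) (show VB30.rk (cokernel i) = VB30.rk (CohB1.tensorMod G L) by omega)
      (show VB30.dg ℂ (CohB1.tensorMod G L) ≤ VB30.dg ℂ (cokernel i) by rw [dGL, hdL, mul_zero, add_zero]; omega)
    let c : cokernel i ≅ CohB1.tensorMod (cokernel i) (CohB1.tensorMod L L) :=
      asIso (s.s ≫ φ ≫ VB30.twMap s.r L) ≪≫ (Crv77.twist L).mapIso eG ≪≫ EGA73.tensAssoc' (cokernel i) L L
    exact hL2 (hcancel (cokernel i) (CohB1.tensorMod L L) hQi
      ⟨EGA73.tensComm (CohB1.tensorMod L L) (cokernel i) ≪≫ c.symm⟩)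
  have := hline (cokernel i) s.s ‹_› hQi
    ⟨hT'.fIsKernel.lift (KernelFork.ofι (s.s ≫ φ) (by rw [Category.assoc]; exact hv)),
      hT'.fIsKernel.fac _ WalkingParallelPair.zero⟩
  omega

end Groth.Agent.S16006
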