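import Groth.Statements.S16008
import Groth.Agent.VB30.Apply


set_option autoImplicit false
open CategoryTheory AlgebraicGeometry CategoryTheory.Limits
open VBCurve

namespace Groth.Agent.S16008
set_option backward.isDefEq.respectTransparency.types false

/-- Let X be a smooth proper integral curve over the complex numbers, of genus g = dim H¹(O_X), E a
finite locally free O_X-module of rank r ≥ 1 and C an integer such that every finite locally free
submodule G of E of rank n ≥ 1 satisfies deg G · r ≤ (deg E + r·C) · n, that is, μ(G) ≤ μ(E) + C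
(degrees being χ − rank · χ(O_X)). Then H¹(X, E ⊗ N) vanishes for every invertible module N with deg
E + r · deg N > r(r − 1)·C + r(2g − 2), that is, whenever μ(E) + deg N > (r − 1)C + 2g − 2. (Only
the degree of the twisting line bundle enters, so any invertible N replaces the twist O_X(m). The
published argument, written for the twists E(m) by a degree-one polarisation, prints the threshold
as m ≥ μ(E) + (r − 1)C + 2g − 1; for E = O(−1) on the projective line and m = −2 that threshold is
met while H¹(O(−3)) ≠ 0. The degree count in the argument gives the threshold −μ(E) + (r − 1)C + 2g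
− 2 < m stated here.) -/
theorem result
    (X : Scheme.{0}) [X.Over (Spec (CommRingCat.of ℂ))] [IsIntegral X]
    [IsProper (X ↘ Spec (CommRingCat.of ℂ))] [Smooth (X ↘ Spec (CommRingCat.of ℂ))]
    (hdim : topologicalKrullDim X = 1)
    (r : ℕ) (hr : 0 < r) (E : X.Modules) (hE : FlatMod.IsFinLocFreeOfRank r E) (C : ℤ)
    (hC : ∀ (G : X.Modules) (n : ℕ) (j : G ⟶ E), Mono j → 0 < n → FlatMod.IsFinLocFreeOfRank n G →
      Curv2.deg ℂ X G n * (r : ℤ) ≤ (Curv2.deg ℂ X E r + (r : ℤ) * C) * (n : ℤ))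
    (N : X.Modules) (hN : PicF.IsInvertible N)
    (hbig : (r : ℤ) * ((r : ℤ) - 1) * C + (r : ℤ) * (2 * (Curv2.genus ℂ X : ℤ) - 2) <
      Curv2.deg ℂ X E r + (r : ℤ) * Curv2.deg ℂ X N 1) :
    Subsingleton (Coh.HH X (CohB1.tensorMod E N) 1) := by
  have hS : CrvPic30.Setup ℂ X := CrvPic30.setup_of_smooth_algClosed hdim
  have hc := VB30.cur_of_setup hS
  have lE := VB30.isFinLocFree_of_rank hE
  have eE := VB30.rk_eq_of_isFinLocFreeOfRank hE
  obtain ⟨lN, rN⟩ := VB30.lf_of_isInvertible hN
  rw [VB30.deg_eq_dg hE] at hC hbig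
  rw [VB30.deg_eq_dg_of_isInvertible hN] at hbig
  obtain ⟨lT, rT, dT⟩ := hc.tensor_invertible lE hN
  by_contra hne
  obtain ⟨ω, hω, h1, hdω⟩ := VB30.exists_omega hS
  obtain ⟨φ, hφ⟩ := VB30.exists_hom_omega hS lT hω h1 hdω hne
  obtain ⟨lω, rω⟩ := VB30.lf_of_isInvertible hω
  obtain ⟨K, I, i, p, j, hi, hp, hj, -, -, lK, lI, hrk, hd, -, hz⟩ := hc.exists_ker_im φ lT lω
  have := (VB30.isCoh_of_isFinLocFree lω).2
  have hI1 : VB30.rk I = 1 := by
    have := VB30.rk_le_of_mono j
    have : VB30.rk I ≠ 0 := fun e => hφ (hz e)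
    omega
  have b := (hc.dg_le_of_mono j (VB30.isCoh_of_isFinLocFree lI) (VB30.isCoh_of_isFinLocFree lω) (by omega)).1
  obtain ⟨G', j', hj', lG', rG', dG'⟩ := hc.sub_untwist hN i hi lK
  rw [hdω] at b
  rw [rT, eE] at hrk
  have hK : (VB30.rk K : ℤ) = (r : ℤ) - 1 := by omega
  have a : VB30.dg ℂ G' * r ≤ (VB30.dg ℂ E + r * C) * VB30.rk G' := by
    rcases Nat.eq_zero_or_pos (VB30.rk G') with z | z
    · rw [hc.dg_of_rk_zero lG' z, z]; simp
    · have := hC G' _ j' hj' z (VB30.isFinLocFreeOfRank_rk lG')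
      rwa [VB30.deg_eq_dg (VB30.isFinLocFreeOfRank_rk lG')] at this
  rw [dG', rG', hK] at a
  rw [dT, eE] at hd
  have c := mul_le_mul_of_nonneg_right b (Int.natCast_nonneg r)
  rw [show VB30.dg ℂ K = VB30.dg ℂ E + (r : ℤ) * VB30.dg ℂ N - VB30.dg ℂ I by linarith] at a
  linarith

end Groth.Agent.S16008
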