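import Groth.Statements.S16015
import Mathlib

set_option autoImplicit false
universe u v w
open W4c3ghconstell

noncomputable section
namespace Groth.Agent.S16015.AuxS15
open scoped TensorProduct

theorem main {B : Type u} [CommRing B]
    {E : Type v} [AddCommGroup E] [Module B E]
    {F : Type w} [AddCommGroup F] [Module B F] [Module.Finite B F] [Module.Projective B F]
    (β : E →ₗ[B] F) :
    ∃! I : Ideal B, ∀ (C : Type u) [CommRing C] [Algebra B C],
      LinearMap.baseChange C β = 0 ↔ I ≤ RingHom.ker (algebraMap B C) := by
  let I : Ideal B := Ideal.span (Set.range fun p : Module.Dual B F × E => p.1 (β p.2))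
  have key : ∀ (C : Type u) [CommRing C] [Algebra B C],
      LinearMap.baseChange C β = 0 ↔ I ≤ RingHom.ker (algebraMap B C) := by
    intro C _ _
    constructor
    · intro h
      rw [Ideal.span_le]
      rintro _ ⟨⟨φ, e⟩, rfl⟩
      have h1 : (1 : C) ⊗ₜ[B] β e = 0 := by
        simpa using LinearMap.congr_fun h ((1 : C) ⊗ₜ[B] e)
      have h2 := congrArg ((TensorProduct.AlgebraTensorModule.rid B C C).toLinearMap ∘ₗ (LinearMap.baseChange C (φ : F →ₗ[B] B))) h1
      simpa [Algebra.smul_def] using h2
    · intro h
      obtain ⟨n, f, g, -, -, hfg⟩ := Module.Finite.exists_comp_eq_id_of_projective B F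
      apply TensorProduct.AlgebraTensorModule.ext
      intro c e
      rw [LinearMap.baseChange_tmul, LinearMap.zero_apply]
      have hx : β e = ∑ j, g (β e) j • f (Pi.single j 1) := by
        conv_lhs => rw [← LinearMap.id_apply (R := B) (β e), ← hfg, LinearMap.comp_apply, pi_eq_sum_univ' (g (β e)), map_sum]
        simp
      rw [hx, TensorProduct.tmul_sum]
      refine Finset.sum_eq_zero fun j _ => ?_
      rw [← TensorProduct.smul_tmul]
      have : algebraMap B C (g (β e) j) = 0 :=
        h (Ideal.subset_span ⟨⟨(LinearMap.proj j).comp g, e⟩, rfl⟩)
      rw [Algebra.smul_def, this, zero_mul, TensorProduct.zero_tmul]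
  refine ⟨I, key, fun J hJ => ?_⟩
  have h1 : ∀ K : Ideal B, RingHom.ker (algebraMap B (B ⧸ K)) = K := fun K => Ideal.mk_ker
  apply le_antisymm
  · have := (hJ (B ⧸ I)).1 ((key (B ⧸ I)).2 (h1 I).ge)
    rwa [h1 I] at this
  · have := (key (B ⧸ J)).1 ((hJ (B ⧸ J)).2 (h1 J).ge)
    rwa [h1 J] at this

end Groth.Agent.S16015.AuxS15

end

namespace Groth.Agent.S16015

/-- Let B be a commutative ring, E a B-module, F a finitely generated projective B-module and β : E → F
a B-linear map. Then there is a unique ideal I of B such that for every commutative B-algebra C the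
base change β_C : C ⊗ E → C ⊗ F is zero if and only if the structure map B → C kills I. (The
published statement is for a homomorphism of modules on a scheme T into a locally free module and
produces a closed subscheme T₀ through which a morphism factors exactly when the pulled-back
homomorphism vanishes; this row is the case of an affine T with affine test schemes and F of finite
rank, to which it reduces.) -/
theorem result {B : Type u} [CommRing B]
    {E : Type v} [AddCommGroup E] [Module B E]
    {F : Type w} [AddCommGroup F] [Module B F] [Module.Finite B F] [Module.Projective B F]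
    (β : E →ₗ[B] F) :
    ∃! I : Ideal B, ∀ (C : Type u) [CommRing C] [Algebra B C],
      LinearMap.baseChange C β = 0 ↔ I ≤ RingHom.ker (algebraMap B C) := by
  exact AuxS15.main β

end Groth.Agent.S16015
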