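import Groth.Statements.S16016
import Mathlib

set_option autoImplicit false
universe u
open W4c3ghconstell

noncomputable section
namespace Groth.Agent.S16016.AuxS16
open Matrix
theorem result (k : Type*) [Field k] (h2 : (2 : k) ≠ 0)
    (A : Matrix (Fin 3 ⊕ Fin 3) (Fin 3 ⊕ Fin 3) k) :
    (A.transpose * Matrix.fromBlocks (0 : Matrix (Fin 3) (Fin 3) k) 1 1 0 +
        Matrix.fromBlocks (0 : Matrix (Fin 3) (Fin 3) k) 1 1 0 * A = 0 ∧
      LinearMap.range (Matrix.mulVecLin A.transpose) ≤
        Submodule.span k {Pi.single (Sum.inl 0 : Fin 3 ⊕ Fin 3) (1 : k), Pi.single (Sum.inl 1 : Fin 3 ⊕ Fin 3) (1 : k)}) ↔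
    ∃ a : k, A = a • (Matrix.single (Sum.inr 0) (Sum.inl 1) (1 : k) - Matrix.single (Sum.inr 1) (Sum.inl 0) (1 : k)) := by
  classical
  set Q : Matrix (Fin 3 ⊕ Fin 3) (Fin 3 ⊕ Fin 3) k := Matrix.fromBlocks 0 1 1 0 with hQ
  have hQl : ∀ (B : Matrix (Fin 3 ⊕ Fin 3) (Fin 3 ⊕ Fin 3) k) r c, (Q * B) r c = B r.swap c := by
    intro B r c
    cases r <;> simp [hQ, Matrix.mul_apply, Fintype.sum_sum_type, Matrix.one_apply]
  have hQr : ∀ (B : Matrix (Fin 3 ⊕ Fin 3) (Fin 3 ⊕ Fin 3) k) r c, (B * Q) r c = B r c.swap := by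
    intro B r c
    cases c <;> simp [hQ, Matrix.mul_apply, Fintype.sum_sum_type, Matrix.one_apply]
  have hspan : LinearMap.range (Matrix.mulVecLin A.transpose) ≤
        Submodule.span k {Pi.single (Sum.inl 0 : Fin 3 ⊕ Fin 3) (1 : k), Pi.single (Sum.inl 1 : Fin 3 ⊕ Fin 3) (1 : k)} ↔
      ∀ r c, c ≠ Sum.inl 0 → c ≠ Sum.inl 1 → A r c = 0 := by
    constructor
    · intro h r c h0 h1
      obtain ⟨x, y, hxy⟩ := Submodule.mem_span_pair.1 (h ⟨Pi.single r 1, rfl⟩)
      have := congrFun hxy c
      simp [Pi.single_apply, h0, h1] at this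
      exact this.symm
    · rintro h _ ⟨v, rfl⟩
      rw [Submodule.mem_span_pair]
      refine ⟨(Aᵀ *ᵥ v) (Sum.inl 0), (Aᵀ *ᵥ v) (Sum.inl 1), funext fun c => ?_⟩
      by_cases h0 : c = Sum.inl 0
      · subst h0; simp [Matrix.mulVec_transpose]
      by_cases h1 : c = Sum.inl 1
      · subst h1; simp [Matrix.mulVec_transpose]
      simp [Pi.single_apply, h0, h1, Matrix.mulVec_transpose, Matrix.vecMul, dotProduct, h _ c h0 h1]
  rw [hspan]
  constructor
  · rintro ⟨he, hz⟩
    have e : ∀ r c, A c.swap r + A r.swap c = 0 := fun r c => by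
      have := congrFun (congrFun he r) c
      simpa [hQl, hQr] using this
    refine ⟨A (Sum.inr 0) (Sum.inl 1), ?_⟩
    have d0 : A (Sum.inr 0) (Sum.inl 0) = 0 := by
      have := e (Sum.inl 0) (Sum.inl 0); simp only [Sum.swap_inl, ← two_mul] at this
      exact (mul_eq_zero.1 this).resolve_left h2
    have d1 : A (Sum.inr 1) (Sum.inl 1) = 0 := by
      have := e (Sum.inl 1) (Sum.inl 1); simp only [Sum.swap_inl, ← two_mul] at this
      exact (mul_eq_zero.1 this).resolve_left h2
    have off : ∀ r c, (c = Sum.inl 0 ∨ c = Sum.inl 1) → r ≠ Sum.inr 0 → r ≠ Sum.inr 1 → A r c = 0 := by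
      intro r c _ h0 h1
      have := e r.swap c
      rw [Sum.swap_swap] at this
      rw [hz c.swap r.swap (fun h => h0 (by simpa using congrArg Sum.swap h)) (fun h => h1 (by simpa using congrArg Sum.swap h)), zero_add] at this
      exact this
    have e01 := e (Sum.inl 0) (Sum.inl 1)
    simp only [Sum.swap_inl] at e01
    ext r c
    rcases r with r | r <;> rcases c with c | c <;> fin_cases r <;> fin_cases c <;>
      first
        | (simp [Matrix.single, d0, d1]; done)
        | (simp [Matrix.single]; refine hz _ _ ?_ ?_ <;> simp <;> done)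
        | (simp [Matrix.single]; refine off _ _ ?_ ?_ ?_ <;> simp <;> done)
        | (simp [Matrix.single]; linear_combination e01)
  · rintro ⟨a, rfl⟩
    refine ⟨?_, fun r c h0 h1 => ?_⟩
    · ext r c
      simp only [Matrix.add_apply, hQl, hQr, Matrix.transpose_apply, Matrix.zero_apply]
      rcases r with r | r <;> rcases c with c | c <;> fin_cases r <;> fin_cases c <;> simp [Matrix.single]
    · simp [Matrix.single, Ne.symm h0, Ne.symm h1]
end Groth.Agent.S16016.AuxS16

end

namespace Groth.Agent.S16016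

/-- Let k be a field with 2 ≠ 0, index k⁶ by two copies of {0,1,2} (basis vectors p₁, p₂, p₃ in the
first copy and p₄, p₅, p₆ in the second), let Q be the symmetric matrix with blocks ((0, 1), (1,
0)), so that the form it defines pairs pᵢ with pᵢ₊₃, and let W₀ be the span of p₁ and p₂. Then a 6 ×
6 matrix A satisfies AᵀQ + QA = 0 (A lies in the orthogonal Lie algebra of Q) and has the image of
Aᵀ contained in W₀ if and only if A = a · (E₄₂ − E₅₁) for some scalar a, where Eᵢⱼ is the matrix
unit. (The lemma in the source concludes that the set of such A inside a certain nilpotent orbit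
closure of this Lie algebra is one-dimensional; this row is the computation its proof performs,
which determines all such A in the Lie algebra. Characteristic 2 is excluded: there E₁₄ᵀ also
qualifies.) -/
theorem result (k : Type u) [Field k] (h2 : (2 : k) ≠ 0)
    (A : Matrix (Fin 3 ⊕ Fin 3) (Fin 3 ⊕ Fin 3) k) :
    (A.transpose * Matrix.fromBlocks (0 : Matrix (Fin 3) (Fin 3) k) 1 1 0 +
        Matrix.fromBlocks (0 : Matrix (Fin 3) (Fin 3) k) 1 1 0 * A = 0 ∧
      LinearMap.range (Matrix.mulVecLin A.transpose) ≤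
        Submodule.span k {Pi.single (Sum.inl 0 : Fin 3 ⊕ Fin 3) (1 : k), Pi.single (Sum.inl 1 : Fin 3 ⊕ Fin 3) (1 : k)}) ↔
    ∃ a : k, A = a • (Matrix.single (Sum.inr 0) (Sum.inl 1) (1 : k) - Matrix.single (Sum.inr 1) (Sum.inl 0) (1 : k)) := by
  exact AuxS16.result k h2 A

end Groth.Agent.S16016
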