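import Groth.Statements.S16017
import Mathlib

set_option autoImplicit false
universe u
open W4c3ghconstell

noncomputable section
namespace Groth.Agent.S16017.AuxS17
open Filter Topology Finset
theorem result {ι : Type*} [DecidableEq ι] (θ : ι → ℚ) (h h' : ι → ℕ)
    (hle : ∀ i, h' i ≤ h i) (hfin : {i | θ i < 0}.Finite)
    (hsum : Summable (fun i => (θ i : ℝ) * (h i : ℝ))) :
    Filter.Tendsto
      (fun D : Finset ι =>
        (∑ i ∈ D, (θ i : ℝ) * (h' i : ℝ)) +
          ((∑' i, if i ∈ D then (0 : ℝ) else (θ i : ℝ) * (h i : ℝ)) / ((D \ hfin.toFinset).card : ℝ)) *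
            ∑ i ∈ D \ hfin.toFinset, ((h' i : ℝ) / (h i : ℝ)))
      Filter.atTop (nhds (∑' i, (θ i : ℝ) * (h' i : ℝ))) := by
  have hs' : Summable (fun i => (θ i : ℝ) * (h' i : ℝ)) := by
    refine Summable.of_norm_bounded hsum.abs fun i => ?_
    rw [Real.norm_eq_abs, abs_mul, abs_mul, Nat.abs_cast, Nat.abs_cast]
    exact mul_le_mul_of_nonneg_left (by exact_mod_cast hle i) (abs_nonneg _)
  set f : ι → ℝ := fun i => (θ i : ℝ) * (h i : ℝ)
  have hS : Tendsto (fun D : Finset ι => ∑' i, if i ∈ D then (0 : ℝ) else f i) atTop (𝓝 0) := by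
    refine (tendsto_tsum_compl_atTop_zero f).congr fun D => ?_
    rw [show (fun i => if i ∈ D then (0 : ℝ) else f i) = Set.indicator {x | x ∉ D} f by
      funext i; by_cases hi : i ∈ D <;> simp [hi]]
    exact tsum_subtype {x | x ∉ D} f
  have h2 : Tendsto (fun D : Finset ι => ((∑' i, if i ∈ D then (0 : ℝ) else f i) / ((D \ hfin.toFinset).card : ℝ)) *
            ∑ i ∈ D \ hfin.toFinset, ((h' i : ℝ) / (h i : ℝ))) atTop (𝓝 0) := by
    refine squeeze_zero_norm (fun D => ?_) (tendsto_zero_iff_norm_tendsto_zero.1 hS)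
    set E := D \ hfin.toFinset
    rw [norm_mul, norm_div, Real.norm_eq_abs (E.card : ℝ), Nat.abs_cast]
    have hb : ‖∑ i ∈ E, ((h' i : ℝ) / (h i : ℝ))‖ ≤ E.card := by
      refine (norm_sum_le _ _).trans ?_
      rw [← nsmul_one E.card]
      exact (Finset.sum_le_card_nsmul _ _ 1 fun i _ => by
        rw [Real.norm_eq_abs, abs_of_nonneg (by positivity)]
        exact div_le_one_of_le₀ (by exact_mod_cast hle i) (by positivity))
    by_cases hc : (E.card : ℝ) = 0
    · rw [hc, div_zero, zero_mul]; exact norm_nonneg _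
    · calc _ ≤ ‖∑' i, if i ∈ D then (0 : ℝ) else f i‖ / E.card * E.card := by gcongr
        _ = _ := div_mul_cancel₀ _ hc
  have := Tendsto.add hs'.hasSum h2
  rwa [add_zero] at this
end Groth.Agent.S16017.AuxS17

end

namespace Groth.Agent.S16017

/-- Let ι index the irreducible representations, θ : ι → ℚ a weight negative at only finitely many
indices (the finite set D₋), h h' : ι → ℕ with h' ≤ h pointwise (the isotypic dimensions of an
object and of a sub-object) and Σ_i θ_i h_i summable. For a finite set D of indices put S_D = Σ_{i ∉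
D} θ_i h_i, d = #(D ∖ D₋), and θ̃_D = Σ_{i ∈ D} θ_i h'_i + (S_D / d) · Σ_{i ∈ D ∖ D₋} h'_i / h_i,
the modified weight attached to the parameters chosen for D (for D ⊇ D₋ the first sum is the
negative part plus the part over D ∖ D₋). Then θ̃_D tends to Σ_i θ_i h'_i as D grows through the
finite subsets of ι. (Here D runs over all finite sets of indices and a quotient by zero is zero;
the source lets D run over the finite subsets of the locus θ ≠ 0 containing D₋, and the same tail
estimate gives both.) -/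
theorem result {ι : Type u} [DecidableEq ι] (θ : ι → ℚ) (h h' : ι → ℕ)
    (hle : ∀ i, h' i ≤ h i) (hfin : {i | θ i < 0}.Finite)
    (hsum : Summable (fun i => (θ i : ℝ) * (h i : ℝ))) :
    Filter.Tendsto
      (fun D : Finset ι =>
        (∑ i ∈ D, (θ i : ℝ) * (h' i : ℝ)) +
          ((∑' i, if i ∈ D then (0 : ℝ) else (θ i : ℝ) * (h i : ℝ)) / ((D \ hfin.toFinset).card : ℝ)) *
            ∑ i ∈ D \ hfin.toFinset, ((h' i : ℝ) / (h i : ℝ)))
      Filter.atTop (nhds (∑' i, (θ i : ℝ) * (h' i : ℝ))) := by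
  exact AuxS17.result θ h h' hle hfin hsum

end Groth.Agent.S16017
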