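import Groth.Statements.S16030
import Mathlib

set_option autoImplicit false
universe u
open CAlg

namespace Groth.Agent.S16030

/-- For a finite set F of points of the spectrum of a commutative ring A and an open subset U containing
F, some basic open D(a) contains F and is contained in U. -/
theorem result
    (A : Type u) [CommRing A] (F : Set (PrimeSpectrum A)) (hF : F.Finite)
    (U : TopologicalSpace.Opens (PrimeSpectrum A)) (hFU : F ⊆ (U : Set (PrimeSpectrum A))) :
    ∃ a : A, F ⊆ (PrimeSpectrum.basicOpen a : Set (PrimeSpectrum A)) ∧ PrimeSpectrum.basicOpen a ≤ U := by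
  classical
  obtain ⟨s, hs⟩ := (PrimeSpectrum.isClosed_iff_zeroLocus_ideal (U : Set (PrimeSpectrum A))ᶜ).mp U.isOpen.isClosed_compl
  have : ∃ a ∈ s, ∀ x ∈ F, a ∉ x.asIdeal := by
    by_contra h
    push_neg at h
    have hsub : (s : Set A) ⊆ ⋃ x ∈ (hF.toFinset : Set (PrimeSpectrum A)), (x.asIdeal : Set A) := by
      intro a ha
      obtain ⟨x, hx, hax⟩ := h a ha
      exact Set.mem_biUnion (by simpa using hx) hax
    obtain ⟨x₀, -, -⟩ := h 0 s.zero_mem
    rw [Ideal.subset_union_prime (f := fun x : PrimeSpectrum A => x.asIdeal) x₀ x₀ (fun x _ _ _ => x.isPrime)] at hsub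
    obtain ⟨x, hx, hsx⟩ := hsub
    have hxU := hFU ((Set.Finite.mem_toFinset hF).mp hx)
    have : x ∈ (U : Set (PrimeSpectrum A))ᶜ := by rw [hs]; exact hsx
    exact this hxU
  obtain ⟨a, ha, hax⟩ := this
  refine ⟨a, hax, fun x hx => ?_⟩
  by_contra hxU
  have : x ∈ PrimeSpectrum.zeroLocus (s : Set A) := hs ▸ hxU
  exact hx (this ha)

end Groth.Agent.S16030
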