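import Groth.Statements.S16031
import Mathlib
import Groth.Agent.Pinch2.Base
import Groth.Agent.VarGal.AffineUnion

set_option autoImplicit false
set_option linter.style.haveILetI false
set_option linter.style.longLine false
universe u
open CategoryTheory CategoryTheory.Limits AlgebraicGeometry
open FlatMor

namespace Groth.Agent.S16031

/-- Let θ₁ : Y ⟶ X₁ and θ₂ : Y ⟶ X₂ be closed immersions of schemes and let X, with φ₁ : X₁ ⟶ X and φ₂ :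
X₂ ⟶ X, be their pushout in the category of schemes. If a finite set E of points of X has each
preimage φᵢ⁻¹(E) contained in an affine open of Xᵢ, then E is contained in an affine open of X. -/
theorem result
    {Y X₁ X₂ X : Scheme.{u}} (θ₁ : Y ⟶ X₁) (θ₂ : Y ⟶ X₂) [IsClosedImmersion θ₁] [IsClosedImmersion θ₂]
    (φ₁ : X₁ ⟶ X) (φ₂ : X₂ ⟶ X) (hX : IsPushout θ₁ θ₂ φ₁ φ₂)
    (E : Set ↥X) (hE : E.Finite)
    (h₁ : ∃ U₁ : X₁.Opens, IsAffineOpen U₁ ∧ φ₁ ⁻¹' E ⊆ (U₁ : Set ↥X₁))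
    (h₂ : ∃ U₂ : X₂.Opens, IsAffineOpen U₂ ∧ φ₂ ⁻¹' E ⊆ (U₂ : Set ↥X₂)) :
    ∃ U : X.Opens, IsAffineOpen U ∧ E ⊆ (U : Set ↥X) := by
  haveI := Groth.Agent.Pinch2.isClosedImmersion_inr (Groth.Agent.Pinch2.hasPairs_closedImmersion (i := θ₁) (j := θ₂)) hX
  haveI := Groth.Agent.Pinch2.isClosedImmersion_inr (Groth.Agent.Pinch2.hasPairs_closedImmersion (i := θ₂) (j := θ₁)) hX.flip
  obtain ⟨U₁, hU₁, h₁⟩ := h₁
  obtain ⟨U₂, hU₂, h₂⟩ := h₂
  exact Groth.Agent.VarGal.exists_affineOpen_pair φ₁ φ₂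
    (fun x => (Groth.Agent.Pinch2.jointly_surjective' Groth.Agent.Pinch2.hasPairs_closedImmersion hX x).imp
      (fun ⟨y, hy⟩ => ⟨y, hy⟩) fun ⟨y, hy⟩ => ⟨y, hy⟩)
    hE U₁ hU₁ (fun y hy => h₁ hy) U₂ hU₂ fun y hy => h₂ hy

end Groth.Agent.S16031
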