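import Groth.Statements.S1604
import Groth.Agent.VarMods75.Additive
import Groth.Agent.Snapper75.Diff
import Groth.Agent.S13792
import Groth.Agent.Crv77.TwistSection
import Groth.Agent.VarCurve.DimZeroSupp
import Groth.Agent.S7637

set_option autoImplicit false
set_option backward.isDefEq.respectTransparency.types false
universe u
open CategoryTheory CategoryTheory.Limits AlgebraicGeometry
open Variety

namespace Groth.Agent.S1604

/-- Let X be proper of dimension at most one over k and D an effective Cartier divisor with ideal sheaf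
I. Then D is finite over k, and for E finite locally free of rank n and any invertible module L
inverse to I (so L plays the role of O_X(D)) one has deg(E ⊗ L) = n · dim_k H^0(X, O_D) + deg E. -/
theorem result (k : Type u) [Field k] (X : Scheme.{u}) [X.Over (Spec (CommRingCat.of k))] [IsProper (X ↘ (Spec (CommRingCat.of k)))] (hdim : topologicalKrullDim X ≤ 1)
    (D : X.IdealSheafData) (hD : BlowUp.IsEffCartierIdeal D)
    (L : X.Modules) (hL : PicF.IsInvertible L) (hLD : ClSub.IsInverseOf L (ClSub.idealMod D))
    (n : ℕ) (E : X.Modules) (hE : FlatMod.IsFinLocFreeOfRank n E) :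
    IsFinite (D.subschemeι ≫ (X ↘ (Spec (CommRingCat.of k)))) ∧
      Curv2.deg k X (CohB1.tensorMod E L) n = n * Module.finrank k (Coh.HH X (ClSub.quotMod D) 0) + Curv2.deg k X E n := by
  classical
  haveI := Crv77.isNoetherian_of_proper k X
  have hdim1 : topologicalKrullDim X ≤ ((0 + 1 : ℕ) : WithBot ℕ∞) := by simpa using hdim
  have hS0 : topologicalKrullDim (D.support : Set X) ≤ (0 : WithBot ℕ∞) := by
    simpa using Snapper75.dim_support_lt_of_effCartier (e := 0) (I := D) hD hdim1
  refine ⟨?_, ?_⟩
  · refine S13792.isFinite_of_krullDim_le_zero _ (le_trans ?_ hS0)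
    rw [← Scheme.IdealSheafData.range_subschemeι]
    exact (D.subschemeι.isEmbedding.toHomeomorph.isEmbedding.isInducing).topologicalKrullDim_le
  · have h := S7637.result k X hdim n 1 E L hE (Mero90.isFinLocFreeOfRank_of_isInvertible hL)
    rw [mul_one] at h
    rw [h]
    obtain ⟨hfin, hcl⟩ := VarCurve.finite_of_dim_le_zero D.support.isClosed hS0
    obtain ⟨e⟩ := hLD
    have h2 := (Crv77.curveCoh_of_proper k X hdim).euler_idealMod_tensor D hfin hcl hL (Crv77.isCoh_of_isInvertible hL)
    rw [Crv77.euler_congr (k := k) (EGA73.tensComm _ _ ≪≫ e)] at h2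
    have h3 : Curv2.deg k X L 1 = (Module.finrank k (Coh.HH X (ClSub.quotMod D) 0) : ℤ) := by
      simp only [Curv2.deg, Nat.cast_one, one_mul]
      change Curv2.euler k X L - _ = Crv77.h (k := k) 0 (ClSub.quotMod D)
      omega
    rw [h3]
    simp

end Groth.Agent.S1604
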