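import Groth.Statements.S16045
import Mathlib
import Groth.Agent.Pinch2.Milnor

set_option autoImplicit false
set_option linter.style.haveILetI false
set_option linter.style.longLine false
universe u
open CategoryTheory CategoryTheory.Limits AlgebraicGeometry
open FlatMor

namespace Groth.Agent.S16045

open CategoryTheory CategoryTheory.Limits AlgebraicGeometry

/-- Let θ₁ : Y ⟶ X₁ and θ₂ : Y ⟶ X₂ be closed immersions of schemes over S and X their pushout in
schemes over S. For a flat morphism g : S' ⟶ S, the square obtained by base change along g is a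
pushout in schemes over S': pinching along a closed subscheme commutes with flat base change. -/
theorem result
    {S S' : Scheme.{u}} (g : S' ⟶ S) [Flat g]
    {Y X₁ X₂ X : Over S} (θ₁ : Y ⟶ X₁) (θ₂ : Y ⟶ X₂) [IsClosedImmersion θ₁.left] [IsClosedImmersion θ₂.left]
    (φ₁ : X₁ ⟶ X) (φ₂ : X₂ ⟶ X) (hX : IsPushout θ₁ θ₂ φ₁ φ₂) :
    IsPushout ((Over.pullback g).map θ₁) ((Over.pullback g).map θ₂)
      ((Over.pullback g).map φ₁) ((Over.pullback g).map φ₂) := by
  have hX' : IsPushout θ₁.left θ₂.left φ₁.left φ₂.left := hX.map (Over.forget S)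
  have H : Groth.Agent.Pinch2.HasPairs θ₁.left θ₂.left := Groth.Agent.Pinch2.hasPairs_closedImmersion
  haveI := Groth.Agent.Pinch2.isClosedImmersion_inr H hX'
  haveI := Groth.Agent.Pinch2.isAffineHom_inl H hX'
  refine IsPushout.of_map (Over.forget S') (by rw [← Functor.map_comp, ← Functor.map_comp, hX.w]) ?_
  refine Groth.Agent.Pinch2.isPushout_baseChange_of_flat (pX := pullback.fst X₁.hom g) (pY := pullback.fst X₂.hom g)
    (IsPullback.of_hasPullback X.hom g) (Groth.Agent.Pinch2.isPullback_of_lift (Over.w φ₁) g _ ?_ ?_)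
    (Groth.Agent.Pinch2.isPullback_of_lift (Over.w φ₂) g _ ?_ ?_) (Groth.Agent.Pinch2.isPullback_of_lift (Over.w θ₁) g _ ?_ ?_)
    ?_ ?_ H hX' (Or.inl ‹_›)
  any_goals (first | exact pullback.lift_fst _ _ _ | exact (pullback.lift_snd _ _ _).trans (Category.comp_id _) | exact pullback.lift_snd _ _ _)
  exact congrArg (fun m => m.left) (by rw [← Functor.map_comp, ← Functor.map_comp, hX.w] :
    (Over.pullback g).map θ₁ ≫ (Over.pullback g).map φ₁ = (Over.pullback g).map θ₂ ≫ (Over.pullback g).map φ₂)

end Groth.Agent.S16045
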