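import Groth.Statements.S16046
import Groth.Agent.ValR29.Basic

set_option autoImplicit false
universe u
open TensorProduct
open ValRing

namespace Groth.Agent.S16046

/-- Surjectivity assertion: let A ⊆ A' be valuation rings with fraction fields K ⊆ K', A' dominating A
and A dense in A' for the valuation topology, and L a finite extension of K; put L' = K' ⊗_K L. Then
every element of L' modulo its nilradical which is integral over A' is a finite sum Σ a'ᵢ·lᵢ with
a'ᵢ ∈ A' and lᵢ ∈ L integral over A. (The published statement also identifies the kernel of the map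
from the tensor product with the nilradical; that part is not stated here.) -/
theorem result
    (A K L A' K' : Type u) [CommRing A] [IsDomain A] [ValuationRing A] [Field K] [Algebra A K] [IsFractionRing A K]
    [Field L] [Algebra K L] [FiniteDimensional K L] [Algebra A L] [IsScalarTower A K L]
    [CommRing A'] [IsDomain A'] [ValuationRing A'] [Field K'] [Algebra A' K'] [IsFractionRing A' K']
    [Algebra A A'] [IsLocalHom (algebraMap A A')] (hinj : Function.Injective (algebraMap A A'))
    [Algebra K K'] [Algebra A K'] [IsScalarTower A A' K'] [IsScalarTower A K K']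
    (hdense : ∀ a' b' : A', b' ≠ 0 → ∃ a : A, b' ∣ a' - algebraMap A A' a)
    (x : (K' ⊗[K] L) ⧸ nilradical (K' ⊗[K] L))
    (hx : ((Ideal.Quotient.mk (nilradical (K' ⊗[K] L))).comp
            ((Algebra.TensorProduct.includeLeft : K' →ₐ[K] K' ⊗[K] L).toRingHom.comp (algebraMap A' K'))).IsIntegralElem x) :
    ∃ (n : ℕ) (a : Fin n → A') (l : Fin n → L), (∀ i, IsIntegral A (l i)) ∧
      x = Ideal.Quotient.mk (nilradical (K' ⊗[K] L)) (∑ i, algebraMap A' K' (a i) ⊗ₜ[K] l i) := by
  classical
  obtain ⟨z, rfl⟩ := Ideal.Quotient.mk_surjective x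
  let S := (K' ⊗[K] L) ⧸ nilradical (K' ⊗[K] L)
  let mk := Ideal.Quotient.mk (nilradical (K' ⊗[K] L))
  let f : A' →+* S :=
    mk.comp ((Algebra.TensorProduct.includeLeft : K' →ₐ[K] K' ⊗[K] L).toRingHom.comp (algebraMap A' K'))
  letI : Algebra A' S := f.toAlgebra
  let g : L →+* S := mk.comp (Algebra.TensorProduct.includeRight : L →ₐ[K] K' ⊗[K] L).toRingHom
  have hfg : f.comp (algebraMap A A') = g.comp (algebraMap A L) := RingHom.ext fun a => by
    show mk ((algebraMap A' K' (algebraMap A A' a)) ⊗ₜ[K] 1) = mk ((1 : K') ⊗ₜ[K] algebraMap A L a)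
    rw [← IsScalarTower.algebraMap_apply, IsScalarTower.algebraMap_apply A K K',
      IsScalarTower.algebraMap_apply A K L, Algebra.algebraMap_eq_smul_one, Algebra.algebraMap_eq_smul_one (A := L),
      TensorProduct.smul_tmul]
  have hg : ∀ l : L, IsIntegral A l → IsIntegral A' (g l) := by
    rintro l ⟨P, hPm, hP⟩
    refine ⟨P.map (algebraMap A A'), hPm.map _, ?_⟩
    rw [Polynomial.eval₂_map, show (algebraMap A' S).comp (algebraMap A A') = _ from hfg,
      ← Polynomial.hom_eval₂, hP, map_zero]
  let e := Module.finBasis K L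
  obtain ⟨δ, hδ, hδe⟩ := exists_integral_multiples A K (Finset.univ.image e)
  have hδ' : algebraMap A A' δ ≠ 0 := fun h => hδ (hinj (h.trans (map_zero _).symm))
  let B := Algebra.TensorProduct.basis K' e
  choose c a hca using fun j => Agent.ValR29.exists_approx (K := K) hdense (B.repr z j) hδ'
  let l₀ : L := ∑ j, c j • e j
  have hz : z = (1 : K') ⊗ₜ[K] l₀ + ∑ j, algebraMap A' K' (a j) ⊗ₜ[K] (δ • e j) := by
    conv_lhs => rw [← B.sum_repr z]
    rw [TensorProduct.tmul_sum, ← Finset.sum_add_distrib]
    refine Finset.sum_congr rfl fun j _ => ?_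
    rw [← algebraMap_smul K δ (e j), TensorProduct.tmul_smul, TensorProduct.tmul_smul,
      TensorProduct.smul_tmul', TensorProduct.smul_tmul', ← TensorProduct.add_tmul,
      Algebra.TensorProduct.basis_apply, TensorProduct.smul_tmul', smul_eq_mul, mul_one,
      Algebra.smul_def, Algebra.smul_def, mul_one, ← IsScalarTower.algebraMap_apply,
      IsScalarTower.algebraMap_apply A A' K', ← map_mul, ← hca, add_sub_cancel]
  have hW : IsIntegral A' (mk (∑ j, algebraMap A' K' (a j) ⊗ₜ[K] (δ • e j))) := by
    rw [map_sum]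
    refine IsIntegral.sum _ fun j _ => ?_
    have : mk (algebraMap A' K' (a j) ⊗ₜ[K] (δ • e j)) = algebraMap A' S (a j) * g (δ • e j) := by
      show _ = mk ((algebraMap A' K' (a j)) ⊗ₜ[K] 1) * mk ((1 : K') ⊗ₜ[K] (δ • e j))
      rw [← map_mul, Algebra.TensorProduct.tmul_mul_tmul, mul_one, one_mul]
    rw [this]
    exact isIntegral_algebraMap.mul (hg _ (hδe _ (Finset.mem_image_of_mem _ (Finset.mem_univ j))))
  obtain ⟨F, hFm, hF⟩ : IsIntegral A' (g l₀) := by
    have := IsIntegral.sub (show IsIntegral A' (mk z) from hx) hW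
    rw [hz, map_add, add_sub_cancel_right] at this
    exact this
  have hl₀ : IsIntegral A l₀ := by
    refine Agent.ValR29.isIntegral_of_isIntegral_tensor (A := A) (K := K) (K' := K') (l := l₀) hFm
      (mem_nilradical.mp ((Ideal.Quotient.eq_zero_iff_mem).mp ?_))
    show mk _ = 0
    rw [← hF, Polynomial.aeval_def, Polynomial.eval₂_map, Polynomial.hom_eval₂]
    rfl
  refine ⟨_ + 1, Fin.cons 1 a, Fin.cons l₀ fun j => δ • e j,
    Fin.cases hl₀ fun j => hδe _ (Finset.mem_image_of_mem _ (Finset.mem_univ j)), congrArg _ ?_⟩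
  rw [hz, Fin.sum_univ_succ]
  simp only [Fin.cons_zero, Fin.cons_succ, map_one]

end Groth.Agent.S16046
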