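import Groth.Statements.S16047
import Groth.Agent.Grpd80.OrbitSlice
import Groth.Agent.S0386
import Groth.Agent.S5223

set_option autoImplicit false
universe u
open CategoryTheory CategoryTheory.Limits AlgebraicGeometry
open Grpd

namespace Groth.Agent.S16047

/-- Let (U, R, s, t, c) be a groupoid scheme over a scheme S with U, R locally of finite type over S, U
quasi-separated over S, and s, t flat and of finite presentation, and let x be a point of U closed
in its fibre over S. Then there are an R-saturated open V ∋ x of U and a subscheme Z of V such that: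
the groupoid R_Z induced on Z is flat and of finite presentation; Z ⟶ V/R_V presents the
ringed-space quotient V/R_V as the quotient of Z by R_Z, and every V-valued point of U is
fppf-locally R-equivalent to a point of Z (so the fppf quotient sheaves agree too); Z meets the
orbit of x in finitely many points; and when U is locally of finite presentation over S, Z is
locally of finite presentation and quasi-separated over S, and moreover quasi-compact over S if S is
quasi-separated. (The published statement says that Z may be taken of finite presentation over S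
whenever U is locally of finite presentation over S, with no condition on S; the proof produces Z
inside a closed subscheme cut out by finitely many equations in an affine open of U, which is
quasi-compact over S only when the base is quasi-separated: for the trivial groupoid on one chart of
an infinite-dimensional affine space with doubled origin, at the origin, no admissible Z is
quasi-compact over S. So quasi-compactness of Z over S is asserted only over a quasi-separated S.
Nor does the published statement ask U to be quasi-separated over S; without it the assertion fails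
— for the spectrum of an infinite product of copies of the field with two elements with a
non-isolated point doubled, and the groupoid exchanging the two copies, at one of the two points,
every admissible Z either has an induced groupoid that is not quasi-compact over Z or is not
quasi-separated over S — so U is assumed quasi-separated over S, as it is whenever S is locally
Noetherian.) -/
theorem result
    {S : Scheme.{u}} (G : Grpd.GroupoidScheme S)
    [LocallyOfFiniteType G.pU] [LocallyOfFiniteType G.pR] [QuasiSeparated G.pU]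
    [Flat G.s] [LocallyOfFinitePresentation G.s] [QuasiCompact G.s] [QuasiSeparated G.s]
    [Flat G.t] [LocallyOfFinitePresentation G.t] [QuasiCompact G.t] [QuasiSeparated G.t]
    (x : ↥G.U) (hx : closure ({x} : Set ↥G.U) ∩ G.pU ⁻¹' {G.pU x} = {x}) :
    ∃ (V : G.U.Opens) (hsat : G.s ⁻¹ᵁ V = G.t ⁻¹ᵁ V) (Z : Scheme.{u}) (ι : Z ⟶ G.U) (ιV : Z ⟶ (V : Scheme.{u})),
      x ∈ V ∧ IsImmersion ι ∧ ιV ≫ V.ι = ι ∧
      (Flat (pullback.fst (pullback.map (ι ≫ G.pU) (ι ≫ G.pU) G.pU G.pU ι ι (𝟙 S) (Category.comp_id _) (Category.comp_id _)) G.j ≫ pullback.fst (ι ≫ G.pU) (ι ≫ G.pU)) ∧ LocallyOfFinitePresentation (pullback.fst (pullback.map (ι ≫ G.pU) (ι ≫ G.pU) G.pU G.pU ι ι (𝟙 S) (Category.comp_id _) (Category.comp_id _)) G.j ≫ pullback.fst (ι ≫ G.pU) (ι ≫ G.pU)) ∧ QuasiCompact (pullback.fst (pullback.map (ι ≫ G.pU) (ι ≫ G.pU) G.pU G.pU ι ι (𝟙 S) (Category.comp_id _) (Category.comp_id _)) G.j ≫ pullback.fst (ι ≫ G.pU) (ι ≫ G.pU)) ∧ QuasiSeparated (pullback.fst (pullback.map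 (ι ≫ G.pU) (ι ≫ G.pU) G.pU G.pU ι ι (𝟙 S) (Category.comp_id _) (Category.comp_id _)) G.j ≫ pullback.fst (ι ≫ G.pU) (ι ≫ G.pU)) ∧
       Flat (pullback.fst (pullback.map (ι ≫ G.pU) (ι ≫ G.pU) G.pU G.pU ι ι (𝟙 S) (Category.comp_id _) (Category.comp_id _)) G.j ≫ pullback.snd (ι ≫ G.pU) (ι ≫ G.pU)) ∧ LocallyOfFinitePresentation (pullback.fst (pullback.map (ι ≫ G.pU) (ι ≫ G.pU) G.pU G.pU ι ι (𝟙 S) (Category.comp_id _) (Category.comp_id _)) G.j ≫ pullback.snd (ι ≫ G.pU) (ι ≫ G.pU)) ∧ QuasiCompact (pullback.fst (pullback.map (ι ≫ G.pU) (ι ≫ G.pU) G.pU G.pU ι ι (𝟙 S) (Category.comp_id _) (Category.comp_id _)) G.j ≫ pullback.snd (ι ≫ G.pU) (ι ≫ G.pU)) ∧ QuasiSeparated (pullback.fst (pullback.map (ι ≫ G.pU) (ι ≫ G.pU) G.pU G.pU ι ι (𝟙 S) (Category.comp_id _) (Category.comp_id _)) G.j ≫ pullback.snd (ι ≫ G.pU) (ι ≫ G.pU))) ∧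
      (∃ (wR : (Scheme.forgetToLocallyRingedSpace ⋙ LocallyRingedSpace.forgetToSheafedSpace).map (pullback.fst (pullback.map (ι ≫ G.pU) (ι ≫ G.pU) G.pU G.pU ι ι (𝟙 S) (Category.comp_id _) (Category.comp_id _)) G.j ≫ pullback.fst (ι ≫ G.pU) (ι ≫ G.pU)) ≫ ((Scheme.forgetToLocallyRingedSpace ⋙ LocallyRingedSpace.forgetToSheafedSpace).map ιV ≫ coequalizer.π ((Scheme.forgetToLocallyRingedSpace ⋙ LocallyRingedSpace.forgetToSheafedSpace).map (G.s ∣_ V)) ((Scheme.forgetToLocallyRingedSpace ⋙ LocallyRingedSpace.forgetToSheafedSpace).map ((G.R.isoOfEq hsat).hom ≫ (G.t ∣_ V)))) = (Scheme.forgetToLocallyRingedSpace ⋙ LocallyRingedSpace.forgetToSheafedSpace).map (pullback.fst (pullback.map (ι ≫ G.pU) (ι ≫ G.pU) G.pU G.pU ι ι (𝟙 S) (Category.comp_id _) (Category.comp_id _)) G.j ≫ pullback.snd (ι ≫ G.pU) (ι ≫ G.pU)) ≫ ((Scheme.forgetToLocallyRingedSpace ⋙ LocallyRingedSpace.forgetToSheafedSpace).map ιV ≫ coequalizer.π ((Scheme.forgetToLocallyRingedSpace ⋙ LocallyRingedSpace.forgetToSheafedSpace).map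 (G.s ∣_ V)) ((Scheme.forgetToLocallyRingedSpace ⋙ LocallyRingedSpace.forgetToSheafedSpace).map ((G.R.isoOfEq hsat).hom ≫ (G.t ∣_ V))))),
         Nonempty (IsColimit (Cofork.ofπ ((Scheme.forgetToLocallyRingedSpace ⋙ LocallyRingedSpace.forgetToSheafedSpace).map ιV ≫ coequalizer.π ((Scheme.forgetToLocallyRingedSpace ⋙ LocallyRingedSpace.forgetToSheafedSpace).map (G.s ∣_ V)) ((Scheme.forgetToLocallyRingedSpace ⋙ LocallyRingedSpace.forgetToSheafedSpace).map ((G.R.isoOfEq hsat).hom ≫ (G.t ∣_ V)))) wR))) ∧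
      (∀ (T : Scheme.{u}) (v : T ⟶ G.U), Set.range ⇑v ⊆ (V : Set ↥G.U) →
         ∃ (T' : Scheme.{u}) (c : T' ⟶ T) (r : T' ⟶ G.R) (z : T' ⟶ Z),
           Flat c ∧ LocallyOfFinitePresentation c ∧ Surjective c ∧ r ≫ G.t = c ≫ v ∧ z ≫ ι = r ≫ G.s) ∧
      {z : ↥Z | ∃ r : ↥G.R, G.s r = x ∧ G.t r = ι z}.Finite ∧
      (LocallyOfFinitePresentation G.pU → LocallyOfFinitePresentation (ι ≫ G.pU) ∧ QuasiSeparated (ι ≫ G.pU) ∧
        (QuasiSeparatedSpace ↥S → QuasiCompact (ι ≫ G.pU))) := by
  obtain ⟨S₀, hS₀, hxS₀, -⟩ := exists_isAffineOpen_mem_and_subset (U := (⊤ : S.Opens)) (x := G.pU x) trivial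
  let O : G.U.Opens := G.pU ⁻¹ᵁ S₀
  obtain ⟨W, hW, hxW, hWO⟩ := exists_isAffineOpen_mem_and_subset (U := O) (x := x) hxS₀
  obtain ⟨os, ⟨p, hp⟩, hfin, hflat⟩ := Grpd80.Slice.exists_orbit_slice G x hx hW hxW
  let mk₀ : Γ(G.U, W) ⟶ CommRingCat.of (Γ(G.U, W) ⧸ Ideal.ofList os) :=
    CommRingCat.ofHom (Ideal.Quotient.mk (Ideal.ofList os))
  have : IsClosedImmersion (Spec.map mk₀) :=
    IsClosedImmersion.spec_of_surjective _ Ideal.Quotient.mk_surjective
  have : LocallyOfFinitePresentation (Spec.map mk₀) := by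
    classical
    refine (HasRingHomProperty.Spec_iff (P := @LocallyOfFinitePresentation)).2
      (RingHom.FinitePresentation.of_surjective _ Ideal.Quotient.mk_surjective ?_)
    change (RingHom.ker (Ideal.Quotient.mk _)).FG
    rw [Ideal.mk_ker]
    exact ⟨os.toFinset, congrArg Ideal.span (Set.ext fun x => List.mem_toFinset)⟩
  let i := Spec.map mk₀ ≫ hW.fromSpec
  obtain ⟨Z₀, hZ₀⟩ := Grpd80.Slice.exists_sat G i (fun q => ((Grpd80.Slice.h G i).stalkMap q).hom.Flat)
    (Groth.Agent.S0386.result _) fun y =>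
      (Groth.Agent.S5223.result (IsPullback.of_hasPullback (Grpd80.Slice.h G i) G.t) y).symm.trans
        (Groth.Agent.S5223.result (Grpd80.Slice.isPullback_φ G i) y)
  obtain ⟨Z₁, hZ₁, hpZ, hle⟩ := exists_isAffineOpen_mem_and_subset (U := Z₀) (x := pullback.fst i G.t p)
    ((hZ₀ p).2 (hflat p hp))
  have : IsAffine Z₁.toScheme := hZ₁
  let g : Z₁.toScheme ⟶ G.U := Z₁.ι ≫ i
  let κ : pullback g G.t ⟶ pullback i G.t :=
    pullback.lift (pullback.fst _ _ ≫ Z₁.ι) (pullback.snd _ _)
      (by rw [Category.assoc]; exact pullback.condition)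
  have sq : IsPullback (pullback.fst g G.t) κ Z₁.ι (pullback.fst i G.t) :=
    IsPullback.of_bot (by rw [pullback.lift_snd]; exact IsPullback.of_hasPullback _ _)
      (pullback.lift_fst _ _ _).symm (IsPullback.of_hasPullback i G.t)
  have : IsOpenImmersion κ := MorphismProperty.of_isPullback (P := @IsOpenImmersion) sq inferInstance
  have hκ : κ ≫ Grpd80.Slice.h G i = Grpd80.Slice.h G g := by rw [← Category.assoc, pullback.lift_snd]
  have hgflat : Flat (Grpd80.Slice.h G g) := by
    rw [← hκ, Flat.iff_flat_stalkMap]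
    intro q
    refine (Unr55.stalkMap_iff_of_square RingHom.Flat.respectsIso (Grpd80.Slice.h G i)
      (κ ≫ Grpd80.Slice.h G i) κ (𝟙 _) (Category.comp_id _).symm q).1 ((hZ₀ (κ q)).1 (hle ?_))
    rw [← Scheme.Hom.comp_apply, pullback.lift_fst, Scheme.Hom.comp_apply]
    exact (pullback.fst g G.t q).2
  obtain ⟨p₁, -, hp₁⟩ := Scheme.exists_preimage_of_isPullback sq
    (⟨pullback.fst i G.t p, hpZ⟩ : Z₁.toScheme) p rfl
  let V : G.U.Opens := ⟨Set.range (Grpd80.Slice.h G g), by
    rw [← Set.image_univ]; exact (Grpd80.Slice.h G g).isOpenMap _ isOpen_univ⟩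
  have hmove : ∀ r : G.R, G.t r ∈ V → G.s r ∈ V := by
    rintro r ⟨q, hq⟩
    obtain ⟨c, hc₁, hc₂⟩ := Grpd80.exists_comp G (a := pullback.snd g G.t q) (b := r) hq
    obtain ⟨q', hq₁', hq₂'⟩ := Scheme.Pullback.exists_preimage_pullback (f := g) (g := G.t)
      (pullback.fst g G.t q) c
      (by rw [hc₂, ← Scheme.Hom.comp_apply, ← Scheme.Hom.comp_apply, pullback.condition])
    exact ⟨q', by rw [Scheme.Hom.comp_apply, hq₂', hc₁]⟩
  have hsat : G.s ⁻¹ᵁ V = G.t ⁻¹ᵁ V := by
    ext r
    refine ⟨fun hr => ?_, hmove r⟩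
    obtain ⟨c, hc₁, hc₂⟩ := Grpd80.exists_inv G r
    show G.t r ∈ V
    rw [← hc₁]
    refine hmove c ?_
    rw [hc₂]
    exact hr
  have hgV : Set.range g ⊆ Set.range V.ι := by
    rintro _ ⟨z, rfl⟩
    rw [Scheme.Opens.range_ι]
    obtain ⟨c, hc₁, hc₂⟩ := Grpd80.exists_unit G (g z)
    obtain ⟨q, -, hq⟩ := Scheme.Pullback.exists_preimage_pullback (f := g) (g := G.t) z c hc₂.symm
    exact ⟨q, by rw [Scheme.Hom.comp_apply, hq, hc₁]⟩
  let ιV := IsOpenImmersion.lift V.ι g hgV
  have hιV : ιV ≫ V.ι = g := IsOpenImmersion.lift_fac _ _ _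
  -- the slice inside the invariant open over the chart of the base
  have hgO : Set.range g ⊆ Set.range O.ι := by
    rintro _ ⟨z, rfl⟩
    rw [Scheme.Opens.range_ι]
    exact hWO (hW.range_fromSpec.le ⟨_, rfl⟩)
  let l := IsOpenImmersion.lift O.ι g hgO
  have hl : l ≫ O.ι = g := IsOpenImmersion.lift_fac _ _ _
  have : IsImmersion (l ≫ O.ι) := by rw [hl]; infer_instance
  have : IsImmersion l := IsImmersion.of_comp l O.ι
  have : IsAffine S₀.toScheme := hS₀
  have : QuasiSeparated (G.pU ∣_ S₀) :=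
    MorphismProperty.of_isPullback (P := @QuasiSeparated) (isPullback_morphismRestrict G.pU S₀).flip inferInstance
  have : QuasiCompact (l ≫ (G.pU ∣_ S₀)) := (quasiCompact_iff_compactSpace _).2 inferInstance
  have hlqc : QuasiCompact l := QuasiCompact.of_comp l (G.pU ∣_ S₀)
  have hO : G.s ⁻¹ᵁ O = G.t ⁻¹ᵁ O := by
    show G.s ⁻¹ᵁ G.pU ⁻¹ᵁ S₀ = G.t ⁻¹ᵁ G.pU ⁻¹ᵁ S₀
    rw [← Scheme.Hom.comp_preimage, ← Scheme.Hom.comp_preimage, G.s_over, G.t_over]
  have hF := Grpd80.Slice.props_RZ_of_h (P := @Flat) G g hgflat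
  have hL := Grpd80.Slice.props_RZ_of_h (P := @LocallyOfFinitePresentation) G g inferInstance
  have hC := Grpd80.Slice.props_RZ_of_l (P := @QuasiCompact) G g inferInstance hO l hl hlqc
  have hQ := Grpd80.Slice.props_RZ_of_l (P := @QuasiSeparated) G g inferInstance hO l hl inferInstance
  refine ⟨V, hsat, Z₁.toScheme, g, ιV, ⟨p₁, ?_⟩, inferInstance, hιV,
    ⟨hF.1, hL.1, hC.1, hQ.1, hF.2, hL.2, hC.2, hQ.2⟩,
    Grpd80.Slice.exists_isColimit G g V hsat ιV hιV rfl, fun T v hv => ?_, ?_,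
    fun _ => ⟨inferInstance, inferInstance, fun _ => ?_⟩⟩
  · rw [← hκ, Scheme.Hom.comp_apply, hp₁]
    exact hp
  · let q := pullback.snd v (Grpd80.Slice.h G g)
    refine ⟨pullback v (Grpd80.Slice.h G g), pullback.fst _ _, (q ≫ pullback.snd g G.t) ≫ G.i,
      q ≫ pullback.fst g G.t, MorphismProperty.pullback_fst (P := @Flat) _ _ hgflat, inferInstance,
      ⟨fun z => ?_⟩, ?_, ?_⟩
    · obtain ⟨p', hp'⟩ : v z ∈ Set.range (Grpd80.Slice.h G g) := hv ⟨z, rfl⟩
      obtain ⟨w, hw, -⟩ := Scheme.Pullback.exists_preimage_pullback z p' hp'.symm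
      exact ⟨w, hw⟩
    · rw [Category.assoc, Category.assoc, Grpd80.i_t', pullback.condition]
    · rw [Category.assoc, Category.assoc, Category.assoc, pullback.condition, Grpd80.i_s']
  · exact (hfin.preimage Z₁.ι.isOpenEmbedding.injective.injOn).subset fun z ⟨r, hr, hrt⟩ => ⟨r, hr, hrt⟩
  · have : QuasiCompact ((g ≫ G.pU) ≫ Limits.terminal.from S) :=
      (quasiCompact_iff_compactSpace _).2 inferInstance
    exact QuasiCompact.of_comp (g ≫ G.pU) (Limits.terminal.from S)

end Groth.Agent.S16047
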