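import Groth.Statements.S16051
import Mathlib

set_option autoImplicit false
universe u
open LieAlg Matrix Finset

namespace Groth.Agent.S16051

attribute [local instance 100] LieRing.ofAssociativeRing

variable {O : Type u} [CommRing O] {n : ℕ}

/-- entries indexed by naturals -/
def ent (M : Matrix (Fin (n + 1)) (Fin (n + 1)) O) (i j : ℕ) : O :=
  if h : i < n + 1 ∧ j < n + 1 then M ⟨i, h.1⟩ ⟨j, h.2⟩ else 0

theorem ent_of_lt (M : Matrix (Fin (n + 1)) (Fin (n + 1)) O) {i j : ℕ} (hi : i < n + 1)
    (hj : j < n + 1) : ent M i j = M ⟨i, hi⟩ ⟨j, hj⟩ := dif_pos ⟨hi, hj⟩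

theorem ent_fin (M : Matrix (Fin (n + 1)) (Fin (n + 1)) O) (i j : Fin (n + 1)) :
    ent M i j = M i j := dif_pos ⟨i.2, j.2⟩

/-- the invariants cutting out the image of `ad x` -/
def Phi : Matrix (Fin (n + 1)) (Fin (n + 1)) O →ₗ[O] (Fin n → O) × O × O where
  toFun M := (fun k => ∑ i ∈ range (n - k.val), ent M (i + k) i, ent M (n - 1) n, ent M n 0)
  map_add' M N := by
    have h : ∀ i j, ent (M + N) i j = ent M i j + ent N i j := fun i j => by
      unfold ent; split_ifs <;> simp
    simp [h, sum_add_distrib]; rfl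
  map_smul' c M := by
    have h : ∀ i j, ent (c • M) i j = c * ent M i j := fun i j => by
      unfold ent; split_ifs <;> simp
    ext <;> simp [h, mul_sum]

variable (X : Matrix (Fin (n + 1)) (Fin (n + 1)) O)
  (hX : ∀ i j : Fin (n + 1), X i j = if j.val = i.val + 1 ∧ j.val < n then 1 else 0)

include hX

theorem ent_bracket (Y : Matrix (Fin (n + 1)) (Fin (n + 1)) O) {i j : ℕ} (hi : i < n + 1)
    (hj : j < n + 1) :
    ent (X * Y - Y * X) i j =
      (if i + 1 < n then ent Y (i + 1) j else 0) - (if 1 ≤ j ∧ j < n then ent Y i (j - 1) else 0) := by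
  rw [ent_of_lt _ hi hj, Matrix.sub_apply, Matrix.mul_apply, Matrix.mul_apply]
  congr 1
  · split_ifs with h
    · rw [Finset.sum_eq_single (⟨i + 1, by omega⟩ : Fin (n + 1))]
      · rw [hX, if_pos ⟨rfl, h⟩, one_mul, ent_of_lt _ (by omega) hj]
      · intro b _ hb
        rw [hX, if_neg (fun h' => hb (Fin.ext h'.1)), zero_mul]
      · exact fun h' => absurd (mem_univ _) h'
    · refine Finset.sum_eq_zero fun b _ => ?_
      rw [hX, if_neg (fun h' => h (by have h1 : b.val = i + 1 := h'.1; have h2 : b.val < n := h'.2; omega)), zero_mul]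
  · split_ifs with h
    · rw [Finset.sum_eq_single (⟨j - 1, by omega⟩ : Fin (n + 1))]
      · rw [hX, if_pos ⟨by simp; omega, h.2⟩, mul_one, ent_of_lt _ hi (by omega)]
      · intro b _ hb
        rw [hX, if_neg (fun h' => hb (Fin.ext (by have := h'.1; simp at this ⊢; omega))), mul_zero]
      · exact fun h' => absurd (mem_univ _) h'
    · refine Finset.sum_eq_zero fun b _ => ?_
      rw [hX, if_neg (fun h' => h ⟨by have := h'.1; simp at this; omega, h'.2⟩), mul_zero]

theorem Phi_bracket (hn : 1 ≤ n) (Y : Matrix (Fin (n + 1)) (Fin (n + 1)) O) :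
    Phi (X * Y - Y * X) = 0 := by
  refine Prod.ext (funext fun k => ?_) (Prod.ext ?_ ?_)
  · show ∑ i ∈ range (n - k.val), ent (X * Y - Y * X) (i + k) i = 0
    rw [sum_congr rfl fun i hi => ent_bracket X hX Y (by have := mem_range.mp hi; omega)
      (by have := mem_range.mp hi; omega), sum_sub_distrib]
    obtain ⟨q, hq⟩ : ∃ q, n - k.val = q + 1 := ⟨n - k.val - 1, by omega⟩
    rw [hq, sum_range_succ, sum_range_succ' (fun i => if 1 ≤ i ∧ i < n then ent Y (i + k) (i - 1) else 0)]
    simp only [show ¬ (q + k.val + 1 < n) by omega, if_false, add_zero, Nat.lt_irrefl,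
      show ¬ (1 ≤ 0) by omega, false_and]
    rw [sub_eq_zero]
    refine sum_congr rfl fun i hi => ?_
    have := mem_range.mp hi
    rw [if_pos (by omega), if_pos ⟨by omega, by omega⟩, Nat.add_sub_cancel, add_right_comm]
  · show ent (X * Y - Y * X) (n - 1) n = 0
    rw [ent_bracket X hX Y (by omega) (by omega), if_neg (by omega), if_neg (by omega), sub_zero]
  · show ent (X * Y - Y * X) n 0 = 0
    rw [ent_bracket X hX Y (by omega) (by omega), if_neg (by omega), if_neg (by omega), sub_zero]

omit hX in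
/-- the recursion solving `[X, Y] = M` -/
def sol (M : ℕ → ℕ → O) (n : ℕ) : ℕ → ℕ → O
  | 0, _ => 0
  | i + 1, j => M i j + (if 1 ≤ j ∧ j < n then sol M n i (j - 1) else 0)

omit hX in
theorem sol_diag (M : ℕ → ℕ → O) (n k : ℕ) : ∀ j, j < n →
    sol M n (k + j + 1) j = ∑ s ∈ range (j + 1), M (s + k) s := by
  intro j
  induction j with
  | zero => intro _; simp [sol]
  | succ j ih =>
    intro hj
    rw [sum_range_succ, ← ih (by omega), show k + (j + 1) + 1 = (k + j + 1) + 1 by ring, sol,
      if_pos ⟨by omega, hj⟩, Nat.add_sub_cancel, show j + 1 + k = k + j + 1 by ring, add_comm]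

theorem exists_bracket_eq (hn : 1 ≤ n) {u : O} (hu : u * ((n : O) + 1) = 1)
    (M : Matrix (Fin (n + 1)) (Fin (n + 1)) O) (htr : M.trace = 0) (hM : Phi M = 0) :
    ∃ Y : Matrix (Fin (n + 1)) (Fin (n + 1)) O, Y.trace = 0 ∧ X * Y - Y * X = M := by
  have h0 : ∀ k : Fin n, ∑ i ∈ range (n - k.val), ent M (i + k) i = 0 :=
    fun k => congrFun (congrArg Prod.fst hM) k
  have hb : ent M (n - 1) n = 0 := congrArg (fun p => p.2.1) hM
  have hc : ent M n 0 = 0 := congrArg (fun p => p.2.2) hM
  have hd : ent M n n = 0 := by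
    have h1 : ∑ i : Fin (n + 1), ent M i i = 0 := by
      rw [← htr]; exact sum_congr rfl fun i _ => ent_fin M i i
    rw [Fin.sum_univ_eq_sum_range (fun i => ent M i i) (n + 1), sum_range_succ] at h1
    have := h0 ⟨0, hn⟩
    simp only [Nat.sub_zero, Nat.add_zero] at this
    rwa [this, zero_add] at h1
  let Y : Matrix (Fin (n + 1)) (Fin (n + 1)) O := Matrix.of fun i j =>
    if i.val < n then sol (ent M) n i j else if j.val + 1 < n then - ent M n (j + 1) else 0
  have hY : ∀ i j, i < n + 1 → j < n + 1 →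
      ent Y i j = if i < n then sol (ent M) n i j else if j + 1 < n then - ent M n (j + 1) else 0 :=
    fun i j hi hj => by rw [ent_of_lt _ hi hj]; rfl
  have hXY : X * Y - Y * X = M := by
    refine Matrix.ext fun a b => ?_
    rw [← ent_fin (X * Y - Y * X) a b, ← ent_fin M a b, ent_bracket X hX Y a.2 b.2]
    generalize ha : a.val = i
    generalize hb' : b.val = j
    have hi : i < n + 1 := ha ▸ a.2
    have hj : j < n + 1 := hb' ▸ b.2
    rcases lt_trichotomy (i + 1) n with h | h | h
    · rw [if_pos h, hY _ _ (by omega) hj, if_pos h, sol]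
      split_ifs with h'
      · rw [hY _ _ hi (by omega), if_pos (by omega), add_sub_cancel_right]
      · simp
    · rw [if_neg (by omega), zero_sub]
      rcases Nat.lt_or_ge j n with hjn | hjn
      · have hs : sol (ent M) n n j = 0 := by
          have := h0 ⟨n - 1 - j, by omega⟩
          simp only [show n - (n - 1 - j) = j + 1 by omega] at this
          have hs := sol_diag (ent M) n (n - 1 - j) j hjn
          rwa [show (n - 1 - j) + j + 1 = n by omega, this] at hs
        obtain rfl : i = n - 1 := by omega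
        replace hs : sol (ent M) n ((n - 1) + 1) j = 0 := by rw [Nat.sub_add_cancel hn]; exact hs
        rw [sol] at hs
        split_ifs with h'
        · rw [hY _ _ hi (by omega), if_pos (by omega)]
          rw [if_pos h'] at hs
          exact neg_eq_of_add_eq_zero_left hs
        · rw [if_neg h', add_zero] at hs
          rw [neg_zero, hs]
      · obtain rfl : j = n := by omega
        obtain rfl : i = j - 1 := by omega
        rw [if_neg (by omega), neg_zero, hb]
    · obtain rfl : i = n := by omega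
      rw [if_neg (by omega), zero_sub]
      split_ifs with h'
      · rw [hY _ _ hi (by omega), if_neg (by omega), if_pos (by omega), neg_neg, Nat.sub_add_cancel h'.1]
      · rcases Nat.lt_or_ge j i with hji | hji
        · obtain rfl : j = 0 := by omega
          rw [neg_zero, hc]
        · obtain rfl : j = i := by omega
          rw [neg_zero, hd]
  refine ⟨Y - (u * Y.trace) • 1, ?_, ?_⟩
  · rw [Matrix.trace_sub, Matrix.trace_smul, Matrix.trace_one, Fintype.card_fin, smul_eq_mul,
      mul_right_comm, Nat.cast_succ, hu, one_mul, sub_self]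
  · rw [← hXY, Matrix.mul_sub, Matrix.sub_mul, Matrix.mul_smul, Matrix.smul_mul, Matrix.mul_one,
      Matrix.one_mul]
    abel

omit hX in
theorem Phi_surjective (hn : 1 ≤ n) (v : (Fin n → O) × O × O) :
    ∃ M : Matrix (Fin (n + 1)) (Fin (n + 1)) O, M.trace = 0 ∧ Phi M = v := by
  obtain ⟨a, b, c⟩ := v
  let f : ℕ → ℕ → O := fun i j =>
    if h : i < n ∧ j = 0 then a ⟨i, h.1⟩
    else if i = n - 1 ∧ j = n then b
    else if i = n ∧ j = 0 then c
    else if i = n ∧ j = n then - a ⟨0, hn⟩ else 0
  let M : Matrix (Fin (n + 1)) (Fin (n + 1)) O := Matrix.of fun i j => f i j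
  have hf : ∀ i j, i < n + 1 → j < n + 1 → ent M i j = f i j :=
    fun i j hi hj => by rw [ent_of_lt _ hi hj]; rfl
  have hk : ∀ k : Fin n, ∑ i ∈ range (n - k.val), ent M (i + k) i = a k := by
    intro k
    rw [Finset.sum_eq_single 0]
    · rw [hf _ _ (by omega) (by omega)]
      simp [f]
    · intro i hi hi0
      have := mem_range.mp hi
      rw [hf _ _ (by omega) (by omega)]
      simp only [f]
      rw [dif_neg (by omega), if_neg (by omega), if_neg (by omega), if_neg (by omega)]
    · intro h; exact absurd (mem_range.mpr (by omega)) h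
  refine ⟨M, ?_, Prod.ext (funext hk) (Prod.ext ?_ ?_)⟩
  · show ∑ i : Fin (n + 1), M i i = 0
    rw [← Finset.sum_congr rfl fun i _ => ent_fin M i i,
      Fin.sum_univ_eq_sum_range (fun i => ent M i i) (n + 1), sum_range_succ]
    have := hk ⟨0, hn⟩
    simp only [Nat.sub_zero, Nat.add_zero] at this
    rw [this, hf _ _ (by omega) (by omega)]
    simp only [f]
    rw [dif_neg (by omega), if_neg (by omega), if_neg (by omega), if_pos ⟨trivial, trivial⟩, add_neg_cancel]
  · show ent M (n - 1) n = b
    rw [hf _ _ (by omega) (by omega)]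
    simp only [f]
    rw [dif_neg (by omega), if_pos ⟨trivial, trivial⟩]
  · show ent M n 0 = c
    rw [hf _ _ (by omega) (by omega)]
    simp only [f]
    rw [dif_neg (by omega), if_neg (by omega), if_pos ⟨trivial, trivial⟩]

omit hX in
theorem result (O : Type u) [CommRing O] [IsDomain O] [IsDiscreteValuationRing O]
    [CharZero O] (p : ℕ) [Fact p.Prime] [CharP (IsLocalRing.ResidueField O) p]
    (n : ℕ) (hn : 1 ≤ n) (hp : n + 1 < p)
    (x : LieAlgebra.SpecialLinear.sl (Fin (n + 1)) O)
    (hx : ∀ i j : Fin (n + 1), (x : Matrix (Fin (n + 1)) (Fin (n + 1)) O) i j =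
      if j.val = i.val + 1 ∧ j.val < n then 1 else 0) :
    Module.Free O (LieAlgebra.SpecialLinear.sl (Fin (n + 1)) O ⧸
        LinearMap.range (LieAlgebra.ad O (LieAlgebra.SpecialLinear.sl (Fin (n + 1)) O) x)) ∧
      Module.finrank O (LieAlgebra.SpecialLinear.sl (Fin (n + 1)) O ⧸
        LinearMap.range (LieAlgebra.ad O (LieAlgebra.SpecialLinear.sl (Fin (n + 1)) O) x)) = n + 2 := by
  obtain ⟨u, hu⟩ : ∃ u : O, u * ((n : O) + 1) = 1 := by
    have : IsUnit (((n + 1 : ℕ)) : O) := by
      rw [← IsLocalRing.residue_ne_zero_iff_isUnit, map_natCast, Ne, CharP.cast_eq_zero_iff _ p]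
      exact fun h => absurd (Nat.le_of_dvd (by omega) h) (by omega)
    obtain ⟨v, hv⟩ := this
    exact ⟨(v⁻¹ : Oˣ), by rw [show ((n : O) + 1) = v by rw [hv]; push_cast; ring, Units.inv_mul]⟩
  let P : LieAlgebra.SpecialLinear.sl (Fin (n + 1)) O →ₗ[O] (Fin n → O) × O × O :=
    Phi.comp (LieAlgebra.SpecialLinear.sl (Fin (n + 1)) O).toSubmodule.subtype
  have hsurj : Function.Surjective P := by
    intro v
    obtain ⟨M, htr, hM⟩ := Phi_surjective hn v
    exact ⟨⟨M, htr⟩, hM⟩
  have hker : LinearMap.ker P =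
      LinearMap.range (LieAlgebra.ad O (LieAlgebra.SpecialLinear.sl (Fin (n + 1)) O) x) := by
    ext M
    constructor
    · intro hM
      obtain ⟨Y, htr, hY⟩ := exists_bracket_eq _ hx hn hu M.1 M.2 hM
      exact ⟨⟨Y, htr⟩, Subtype.ext hY⟩
    · rintro ⟨Y, rfl⟩
      exact Phi_bracket _ hx hn Y.1
  let e := (Submodule.quotEquivOfEq _ _ hker.symm).trans (P.quotKerEquivOfSurjective hsurj)
  refine ⟨Module.Free.of_equiv e.symm, ?_⟩
  rw [e.finrank_eq]
  simp [Module.finrank_prod, Module.finrank_pi]

end Groth.Agent.S16051
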