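import Groth.Statements.S16052
import Groth.Agent.CAlg6.TameKummer

set_option autoImplicit false
universe u
open Polynomial
open CAlg Groth.Agent IsLocalRing
open scoped IntermediateField

namespace Groth.Agent.S16052

/-- Let O be a henselian discrete valuation ring of characteristic zero with algebraically closed
residue field of characteristic p, ϖ a uniformizer and K the fraction field. Let r_1, …, r_m ≥ 1 and
b_1, …, b_m ≥ 1 be integers with gcd(r_i, b_i) = 1 for each i and r_1 + ⋯ + r_m < p, and let v_1, …,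
v_m be units of O. Then the splitting field over K of the polynomial ∏_i (y^{r_i} − v_i ϖ^{b_i}) has
degree lcm(r_1, …, r_m) over K. (In the source O is complete and this polynomial is the y-part of a
deformation y ↦ x² + z² + f(y) of an A_n-singularity with n + 1 = Σ r_i; the proposition goes on to
identify the monodromy element, which is not stated here.) -/
theorem result (O : Type u) [CommRing O] [IsDomain O]
    [IsDiscreteValuationRing O] [HenselianLocalRing O] [CharZero O] [IsAlgClosed (IsLocalRing.ResidueField O)]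
    (p : ℕ) [Fact p.Prime] [CharP (IsLocalRing.ResidueField O) p]
    (ϖ : O) (hϖ : Irreducible ϖ) (m : ℕ) (r b : Fin m → ℕ) (v : Fin m → Oˣ)
    (hr : ∀ i, 1 ≤ r i) (hb : ∀ i, 1 ≤ b i) (hrb : ∀ i, Nat.Coprime (r i) (b i)) (hp : ∑ i, r i < p) :
    Module.finrank (FractionRing O)
        (∏ i, (X ^ (r i) - C (algebraMap O (FractionRing O) ((v i : O) * ϖ ^ (b i))))).SplittingField =
      Finset.univ.lcm r := by
  classical
  set K := FractionRing O
  set N := Finset.univ.lcm r
  set a : K := algebraMap O K ϖ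
  have hpp : p.Prime := Fact.out
  have hrp : ∀ i, ¬ p ∣ r i := fun i h => by
    have := Nat.le_of_dvd (hr i) h
    have := Finset.single_le_sum (f := r) (fun j _ => Nat.zero_le _) (Finset.mem_univ i)
    omega
  have hNp : ¬ p ∣ N := fun h => by
    obtain ⟨i, -, hi⟩ := (hpp.prime.dvd_finsetProd_iff _).1 (h.trans (Finset.lcm_dvd fun i hi => Finset.dvd_prod_of_mem r hi))
    exact hrp i hi
  have hN : N ≠ 0 := fun h => hNp (h ▸ dvd_zero p)
  have ha : a ≠ 0 := (map_ne_zero_iff _ (IsFractionRing.injective O K)).2 hϖ.ne_zero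
  have hw : ∀ i, ∃ w : Oˣ, w ^ r i = v i := fun i =>
    CAlg6.TameKummer.exists_pow_eq_unit (CAlg6.TameKummer.isUnit_natCast (hrp i)) (Nat.one_le_iff_ne_zero.1 (hr i)) (v i)
  choose w hw using hw
  have hwK : ∀ i, algebraMap O K ((v i : O) * ϖ ^ b i) = algebraMap O K (w i) ^ r i * a ^ b i := fun i => by
    rw [← hw i, Units.val_pow_eq_pow_val, map_mul, map_pow, map_pow]
  set P := ∏ i, (X ^ (r i) - C (algebraMap O K ((v i : O) * ϖ ^ (b i))))
  set L := P.SplittingField
  have hPne : P ≠ 0 := Finset.prod_ne_zero_iff.2 fun i _ => X_pow_sub_C_ne_zero (hr i) _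
  set aL := algebraMap K L a
  have haL : aL ≠ 0 := (_root_.map_ne_zero _).2 ha
  have hsplit := SplittingField.splits P
  have hroot : ∀ i, ∃ t : L, t ^ r i = aL := fun i => by
    obtain ⟨x, hx⟩ := Splits.exists_eval_eq_zero
      (hsplit.of_dvd (Polynomial.map_ne_zero hPne) (map_dvd (algebraMap K L) (Finset.dvd_prod_of_mem _ (Finset.mem_univ i))))
      (by rw [Polynomial.degree_map, degree_X_pow_sub_C (hr i)]; exact_mod_cast (Nat.one_le_iff_ne_zero.1 (hr i)))
    rw [Polynomial.map_sub, Polynomial.map_pow, Polynomial.map_X, Polynomial.map_C, eval_sub, eval_pow, eval_X,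
      eval_C, sub_eq_zero, hwK, map_mul, map_pow, map_pow] at hx
    set wL := algebraMap K L (algebraMap O K (w i))
    have hwL : wL ≠ 0 := ((w i).isUnit.map _ |>.map _).ne_zero
    exact CAlg6.TameKummer.exists_root_of_coprime haL (hrb i) (s := x / wL)
      (by rw [div_pow, hx, mul_div_cancel_left₀ _ (pow_ne_zero _ hwL)])
  obtain ⟨t, ht⟩ := CAlg6.TameKummer.exists_root_lcm haL Finset.univ r (fun i _ => Nat.one_le_iff_ne_zero.1 (hr i))
    fun i _ => hroot i
  have htop : K⟮t⟯ = ⊤ := by
    rw [eq_top_iff]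
    intro z _
    have hle : Algebra.adjoin K (P.rootSet L) ≤ K⟮t⟯.toSubalgebra := Algebra.adjoin_le fun x hx => by
      rw [mem_rootSet] at hx
      have h0 := hx.2
      rw [map_prod, Finset.prod_eq_zero_iff] at h0
      obtain ⟨i, -, hi⟩ := h0
      rw [map_sub, map_pow, aeval_X, aeval_C, sub_eq_zero, hwK, map_mul, map_pow, map_pow] at hi
      obtain ⟨ζ, hζ⟩ := CAlg6.TameKummer.exists_primitiveRoot_field (O := O) K (hrp i)
      refine CAlg6.TameKummer.mem_adjoin_of_pow_eq (Nat.one_le_iff_ne_zero.1 (hr i)) hζ K⟮t⟯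
        (c := algebraMap K L (algebraMap O K (w i)) * t ^ (N / r i * b i)) ?_ ?_
      · exact mul_mem (K⟮t⟯.algebraMap_mem _) (pow_mem (IntermediateField.mem_adjoin_simple_self K t) _)
      · rw [hi, mul_pow, ← pow_mul, show N / r i * b i * r i = N * b i by
          rw [mul_right_comm, Nat.div_mul_cancel (Finset.dvd_lcm (Finset.mem_univ i))], pow_mul, ht]
    rw [SplittingField.adjoin_rootSet] at hle
    exact hle Algebra.mem_top
  have hint : IsIntegral K t := IsIntegral.of_finite K t
  rw [← IntermediateField.finrank_top' (F := K) (E := L), ← htop, IntermediateField.adjoin.finrank hint,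
    ← minpoly.eq_of_irreducible_of_monic (CAlg6.TameKummer.irreducible_X_pow_sub_uniformizer hϖ hN K)
      (by rw [map_sub, map_pow, aeval_X, aeval_C, sub_eq_zero]; exact ht) (monic_X_pow_sub_C _ hN), natDegree_X_pow_sub_C]

end Groth.Agent.S16052
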