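import Groth.Statements.S16053
import Groth.Agent.CAlg6.TameKummer

set_option autoImplicit false
universe u
open Polynomial
open CAlg Groth.Agent IsLocalRing
open scoped IntermediateField

namespace Groth.Agent.S16053

/-- Let O be a henselian discrete valuation ring of characteristic zero with algebraically closed
residue field of characteristic p and fraction field K, and let f ∈ O[y] be a monic polynomial of
degree e with 1 ≤ e < p which is Eisenstein at the maximal ideal of O. Then the splitting field of f
over K has degree e over K and the Galois group of f over K is cyclic. (In the source O is complete,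
e = n + 1 and f is the y-part y^{n+1} + u_n ϖ^{a_n} y^{n−1} + ⋯ + u_1 ϖ of an A_n-degeneration
meeting the discriminant transversally; the corollary's conclusion that monodromy acts through a
Coxeter element is not stated here.) -/
theorem result (O : Type u) [CommRing O] [IsDomain O]
    [IsDiscreteValuationRing O] [HenselianLocalRing O] [CharZero O] [IsAlgClosed (IsLocalRing.ResidueField O)]
    (p : ℕ) [Fact p.Prime] [CharP (IsLocalRing.ResidueField O) p]
    (f : O[X]) (hmon : f.Monic) (e : ℕ) (hdeg : f.natDegree = e) (he : 1 ≤ e) (hep : e < p)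
    (hf : f.IsEisensteinAt (IsLocalRing.maximalIdeal O)) :
    Module.finrank (FractionRing O) (f.map (algebraMap O (FractionRing O))).SplittingField = e ∧
      IsCyclic (f.map (algebraMap O (FractionRing O))).Gal := by
  classical
  set K := FractionRing O
  have hpe : ¬ p ∣ e := fun h => by have := Nat.le_of_dvd he h; omega
  have he0 : e ≠ 0 := by omega
  obtain ⟨ϖ, hϖ⟩ := IsDiscreteValuationRing.exists_irreducible O
  have hm : maximalIdeal O = Ideal.span {ϖ} := hϖ.maximalIdeal_eq
  obtain ⟨G, hG⟩ : C ϖ ∣ f - X ^ e := by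
    rw [C_dvd_iff_dvd_coeff]
    intro i
    rw [coeff_sub, coeff_X_pow]
    rcases lt_trichotomy i e with hi | rfl | hi
    · rw [if_neg hi.ne, sub_zero, ← Ideal.mem_span_singleton, ← hm]
      exact hf.mem (hdeg.symm ▸ hi)
    · rw [if_pos rfl, ← hdeg, hmon.coeff_natDegree, sub_self]; exact dvd_zero _
    · rw [if_neg hi.ne', coeff_eq_zero_of_natDegree_lt (hdeg.symm ▸ hi), sub_zero]; exact dvd_zero _
  have hG0 : IsUnit (G.coeff 0) := by
    by_contra h
    refine hf.notMem ?_
    have h0 : f.coeff 0 = ϖ * G.coeff 0 := by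
      have := congrArg (fun q => coeff q 0) hG
      simpa [coeff_X_pow, he0.symm] using this
    rw [h0, pow_two, hm]
    exact Ideal.mul_mem_mul (Ideal.mem_span_singleton_self ϖ) (hm ▸ (mem_maximalIdeal _).2 h)
  set v : Oˣ := hG0.neg.unit
  obtain ⟨c, hc⟩ := CAlg6.TameKummer.exists_pow_eq_unit (CAlg6.TameKummer.isUnit_natCast hpe) he0 v
  have hirr : Irreducible f := hf.irreducible (maximalIdeal.isMaximal O).isPrime hmon.isPrimitive (hdeg.symm ▸ he)
  let B := AdjoinRoot f
  have : IsDomain B := AdjoinRoot.isDomain_of_prime hirr.prime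
  have : Module.Finite O B := hmon.finite_adjoinRoot
  have : IsLocalRing B := E4O.isLocalRing_of_finite_henselian (A := O)
  have : HenselianLocalRing B := Groth.Agent.S0505.result O B
  set x : B := AdjoinRoot.root f
  have hmap : ∀ r ∈ maximalIdeal O, algebraMap O B r ∈ maximalIdeal B := fun r hr => by
    have : (algebraMap O B).IsIntegral := Algebra.IsIntegral.isIntegral
    have hloc : IsLocalHom (algebraMap O B) := RingHom.IsIntegral.isLocalHom this
      (AdjoinRoot.of.injective_of_degree_ne_zero (by
        rw [degree_eq_natDegree hmon.ne_zero, hdeg]; exact_mod_cast he0))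
    exact (IsLocalRing.mem_maximalIdeal _).2 fun h => (IsLocalRing.mem_maximalIdeal r).1 hr (isUnit_of_map_unit _ r h)
  have hx : x ^ e = algebraMap O B ϖ * -(aeval x G) := by
    have h := congrArg (aeval x) hG
    rw [map_sub, map_pow, aeval_X, map_mul, aeval_C, AdjoinRoot.aeval_eq, AdjoinRoot.mk_self, zero_sub] at h
    linear_combination -h
  have hxM : x ∈ maximalIdeal B := (maximalIdeal.isMaximal B).isPrime.mem_of_pow_mem e
    (hx ▸ Ideal.mul_mem_right _ _ (hmap ϖ (hm ▸ Ideal.mem_span_singleton_self ϖ)))
  have hw : -(aeval x G) - algebraMap O B v ∈ maximalIdeal B := by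
    obtain ⟨H, hH⟩ := X_dvd_sub_C (p := G)
    have h := congrArg (aeval x) hH
    rw [map_sub, aeval_C, map_mul, aeval_X] at h
    rw [show (v : O) = -G.coeff 0 from IsUnit.unit_spec _, map_neg, ← neg_add', ← sub_eq_add_neg, h]
    exact neg_mem (Ideal.mul_mem_right _ _ hxM)
  have hwu : IsUnit (-(aeval x G)) := by
    by_contra h
    have := sub_mem ((mem_maximalIdeal _).2 h) hw
    exact (mem_maximalIdeal _).1 (by simpa using this) (v.isUnit.map (algebraMap O B))
  have heB : IsUnit (e : B) := by
    have := (CAlg6.TameKummer.isUnit_natCast (O := O) hpe).map (algebraMap O B)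
    rwa [map_natCast] at this
  obtain ⟨z, hz, -⟩ := CAlg6.TameKummer.exists_pow_eq heB he0 hwu (c := algebraMap O B c)
    (by rw [← map_pow, ← Units.val_pow_eq_pow_val, hc, ← neg_sub]; exact neg_mem hw)
  have hzu : IsUnit z := (isUnit_pow_iff he0).1 (hz ▸ hwu)
  set a : K := algebraMap O K ϖ
  have hq := CAlg6.TameKummer.irreducible_X_pow_sub_uniformizer hϖ he0 K
  have hfK : Irreducible (f.map (algebraMap O K)) := (hmon.irreducible_iff_irreducible_map_fraction_map (K := K)).1 hirr
  have hfd : (f.map (algebraMap O K)).natDegree = e := by rw [hmon.natDegree_map, hdeg]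
  set L := (f.map (algebraMap O K)).SplittingField
  obtain ⟨ζ, hζ⟩ := CAlg6.TameKummer.exists_primitiveRoot_field (O := O) K hpe
  have key : ∀ α : L, aeval α (f.map (algebraMap O K)) = 0 → ∃ π : L, π ^ e = algebraMap K L a ∧ α ∈ K⟮π⟯ := by
    intro α hα
    let φ : B →+* L := AdjoinRoot.lift ((algebraMap K L).comp (algebraMap O K)) α
      (by rwa [← eval₂_map, ← aeval_def])
    have hφz : φ z ∈ K⟮α⟯ := by
      obtain ⟨g, rfl⟩ := AdjoinRoot.mk_surjective z
      rw [AdjoinRoot.lift_mk, ← eval₂_map, ← aeval_def]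
      exact IntermediateField.algebra_adjoin_le_adjoin K {α} (aeval_mem_adjoin_singleton K α)
    refine ⟨α / φ z, ?_, ?_⟩
    · have h := congrArg φ hx
      rw [map_pow, AdjoinRoot.lift_root, map_mul, ← hz, map_pow] at h
      rw [div_pow, h, mul_div_cancel_right₀ _ (pow_ne_zero _ (hzu.map φ).ne_zero)]
      exact AdjoinRoot.lift_of _
    · have hπ : α / φ z ∈ K⟮α⟯ := div_mem (IntermediateField.mem_adjoin_simple_self K α) hφz
      have hle : K⟮α / φ z⟯ ≤ K⟮α⟯ := IntermediateField.adjoin_simple_le_iff.2 hπ
      have hpe' : (α / φ z) ^ e = algebraMap K L a := by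
        have h := congrArg φ hx
        rw [map_pow, AdjoinRoot.lift_root, map_mul, ← hz, map_pow] at h
        rw [div_pow, h, mul_div_cancel_right₀ _ (pow_ne_zero _ (hzu.map φ).ne_zero)]
        exact AdjoinRoot.lift_of _
      rw [IntermediateField.eq_of_le_of_finrank_eq hle ?_]
      · exact IntermediateField.mem_adjoin_simple_self K α
      rw [IntermediateField.adjoin.finrank (IsIntegral.of_finite K _),
        IntermediateField.adjoin.finrank (IsIntegral.of_finite K _),
        ← minpoly.eq_of_irreducible_of_monic hq (by rw [map_sub, map_pow, aeval_X, aeval_C, sub_eq_zero]; exact hpe')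
          (monic_X_pow_sub_C _ he0),
        ← minpoly.eq_of_irreducible_of_monic hfK hα (hmon.map _), natDegree_X_pow_sub_C, hfd]
  obtain ⟨α, hα⟩ := Splits.exists_eval_eq_zero (SplittingField.splits (f.map (algebraMap O K)))
    (by rw [Polynomial.degree_map, degree_eq_natDegree hfK.ne_zero, hfd]; exact_mod_cast he0)
  obtain ⟨π, hπ, -⟩ := key α (by rwa [aeval_def, ← eval_map])
  have htop : K⟮π⟯ = ⊤ := by
    rw [eq_top_iff]
    intro y _
    have hle : Algebra.adjoin K ((f.map (algebraMap O K)).rootSet L) ≤ K⟮π⟯.toSubalgebra :=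
      Algebra.adjoin_le fun y hy => by
        obtain ⟨π', hπ', hy'⟩ := key y (mem_rootSet.1 hy).2
        exact IntermediateField.adjoin_simple_le_iff.2 (CAlg6.TameKummer.mem_adjoin_of_pow_eq he0 hζ _
          (IntermediateField.mem_adjoin_simple_self K π) (hπ'.trans hπ.symm)) hy'
    rw [SplittingField.adjoin_rootSet] at hle
    exact hle Algebra.mem_top
  have hfr : Module.finrank K L = e := by
    rw [← IntermediateField.finrank_top' (F := K) (E := L), ← htop,
      IntermediateField.adjoin.finrank (IsIntegral.of_finite K _),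
      ← minpoly.eq_of_irreducible_of_monic hq (by rw [map_sub, map_pow, aeval_X, aeval_C, sub_eq_zero]; exact hπ)
        (monic_X_pow_sub_C _ he0), natDegree_X_pow_sub_C]
  have hne : (primitiveRoots (Module.finrank K L) K).Nonempty := ⟨ζ, by rw [hfr]; exact (mem_primitiveRoots he).2 hζ⟩
  have h13 : (∃ α : L, α ^ Module.finrank K L ∈ Set.range (algebraMap K L) ∧ K⟮α⟯ = ⊤) ↔
      IsGalois K L ∧ IsCyclic Gal(L/K) := (isCyclic_tfae K L hne).out 2 0
  exact ⟨hfr, (h13.1 ⟨π, by rw [hfr]; exact ⟨a, hπ.symm⟩, htop⟩).2⟩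

end Groth.Agent.S16053
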