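import Groth.Statements.S16058
import Groth.Agent.FiltBl13.Rees
import Groth.Agent.S14651

set_option autoImplicit false
universe u
open FiltBl LaurentPolynomial Groth.Agent.FiltBl13

namespace Groth.Agent.S16058

/-- Let A be a Noetherian local ring that is a quotient of a Gorenstein ring, and F a filtration of
ideals on A (F^0 = A ⊇ F^1 ⊇ ⋯, F^i F^j ⊆ F^{i+j}) with every F^n nonzero and ⋂ F^n = 0, whose Rees
algebra R = ⊕_{n ≥ 0} F^n T^n ⊆ A[T] is finitely generated over A and with F^1 of height at least 2.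
If the extended Rees algebra R' = ⊕_{n ∈ ℤ} F^n T^n ⊆ A[T, T⁻¹] (F^n = A for n < 0) satisfies
Serre's condition (S_2), then R satisfies (S_2) as well. (The converse fails. The published
statement is made under the further standing assumption that no nonzero element of R is annihilated
by a power of the ideal generated by its homogeneous elements of positive degree; under the present
hypothesis that assumption holds automatically, since (S_2) for R' forces (S_2) for A, so that F^1,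
of height at least 2, contains a nonzerodivisor of A.) -/
theorem result (A : Type u) [CommRing A] [IsNoetherianRing A] [IsLocalRing A]
    (S : Type u) [CommRing S] [LocCoh.IsGorensteinRing S] (π : S →+* A) (hπ : Function.Surjective π)
    (𝓕 : FiltBl.IdealFiltration A) (hne : ∀ n, 𝓕.F n ≠ ⊥) (hsep : ⨅ n, 𝓕.F n = ⊥)
    (hfg : Algebra.FiniteType A 𝓕.rees) (hht : 2 ≤ (𝓕.F 1).height)
    (h : LocCoh.HasSk 2 𝓕.extRees 𝓕.extRees) : LocCoh.HasSk 2 𝓕.rees 𝓕.rees := by
  have hA : LocCoh.HasSk 2 A A := ((Groth.Agent.S14651.result A S π hπ 𝓕 hne hsep hfg hht).1 h).2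
  have := isNoetherianRing_extRees 𝓕 hfg
  have : IsNoetherianRing 𝓕.rees := Algebra.FiniteType.isNoetherianRing A 𝓕.rees
  have hR' := (CAlg1.hasSk_self_iff 2).1 h
  have hAP := (CAlg1.hasSk_self_iff 2).1 (hasSk_polynomial 2 hA)
  rw [CAlg1.hasSk_self_iff]
  intro P _
  show min (2 : ℕ∞) P.height ≤ dep P
  by_cases h1 : ∃ (n : ℕ) (a : A) (ha : a ∈ 𝓕.F n), 0 < n ∧ rmono 𝓕 n a ha ∉ P
  · obtain ⟨n, a, ha, hn, hP⟩ := h1
    obtain ⟨P', _, ⟨e⟩⟩ := exists_prime_equiv (incl 𝓕).toRingHom (incl_injective 𝓕)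
      (rmono 𝓕 n a ha) (exists_pow_mul_eq_incl 𝓕 hn ha) P hP
    obtain ⟨e1, e2⟩ := invariants_congr e
    rw [e1, e2]
    exact hR' P'
  push Not at h1
  let q : Ideal A := P.comap (algebraMap A 𝓕.rees)
  by_cases h2 : 𝓕.F 1 ≤ q
  swap
  · obtain ⟨s, hs, hsq⟩ := SetLike.not_le_iff_exists.1 h2
    obtain ⟨P', _, ⟨e⟩⟩ := exists_prime_equiv 𝓕.rees.val.toRingHom Subtype.val_injective
      (algebraMap A 𝓕.rees s) (exists_pow_mul_eq_val 𝓕 hs) P hsq
    obtain ⟨e1, e2⟩ := invariants_congr e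
    rw [e1, e2]
    exact hAP P'
  refine (min_le_left _ _).trans ?_
  obtain ⟨x, hx1, hx⟩ := exists_mem_F_one_nonZeroDivisor 𝓕 hA hht
  have hxR : algebraMap A 𝓕.rees x ∈ nonZeroDivisors 𝓕.rees := by
    refine mem_nonZeroDivisors_iff_right.2 fun f hf => Subtype.ext (Polynomial.ext fun n => ?_)
    have h3 := congrArg (fun y : 𝓕.rees => (y : Polynomial A).coeff n) hf
    simp only [Subalgebra.coe_mul, Subalgebra.coe_algebraMap, Polynomial.algebraMap_apply,
      Algebra.algebraMap_self, RingHom.id_apply, Polynomial.coeff_mul_C, Subalgebra.coe_zero,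
      Polynomial.coeff_zero] at h3
    exact mem_nonZeroDivisors_iff_right.1 hx _ h3
  refine two_le_dep_of hxR P (h2 hx1) fun f hf => ?_
  obtain ⟨r, hr⟩ := Ideal.mem_span_singleton'.1 (hf _ (h2 hx1))
  have hxR' : incl 𝓕 (algebraMap A 𝓕.rees x) ∈ nonZeroDivisors 𝓕.extRees := by
    refine mem_nonZeroDivisors_iff_right.2 fun g hg => ?_
    rw [AlgHom.commutes] at hg
    apply Subtype.ext
    ext n
    have h3 := congrArg (fun y : 𝓕.extRees => (y : LaurentPolynomial A).coeff n) hg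
    simp only [Subalgebra.coe_mul, coe_algebraMap, Subalgebra.coe_zero] at h3
    rw [mul_comm, ← LaurentPolynomial.smul_eq_C_mul, AddMonoidAlgebra.coeff_smul,
      Finsupp.smul_apply, smul_eq_mul, mul_comm] at h3
    simpa using mem_nonZeroDivisors_iff_right.1 hx _ (by simpa using h3)
  have hJ : ∀ g ∈ Qc 𝓕 q, g ∈ P.map (incl 𝓕).toRingHom := by
    intro g hg
    rw [← sum_mono 𝓕 g]
    refine Submodule.sum_mem _ fun n _ => ?_
    rcases lt_trichotomy n 0 with hn | hn | hn
    · obtain ⟨k, rfl⟩ : ∃ k : ℕ, n = -(k : ℤ) := ⟨(-n).toNat, by omega⟩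
      rw [mono_neg]
      refine Ideal.mul_mem_right _ _ ?_
      rw [← (incl 𝓕).commutes]
      exact Ideal.mem_map_of_mem _ (show _ ∈ P from mem_map_laurent.1 hg _)
    · subst hn
      rw [show mono 𝓕 0 _ (g.2 0) = algebraMap A 𝓕.extRees ((g : LaurentPolynomial A).coeff 0) from
        Subtype.ext (by rw [coe_mono, coe_algebraMap, LaurentPolynomial.T_zero, mul_one])]
      rw [← (incl 𝓕).commutes]
      exact Ideal.mem_map_of_mem _ (show _ ∈ P from mem_map_laurent.1 hg _)
    · obtain ⟨k, rfl⟩ := Int.eq_ofNat_of_zero_le hn.le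
      rw [← incl_rmono]
      exact Ideal.mem_map_of_mem _ (h1 k _ (g.2 (k : ℤ)) (by omega))
  have hann : ∀ g ∈ P.map (incl 𝓕).toRingHom,
      g * incl 𝓕 f ∈ Ideal.span {incl 𝓕 (algebraMap A 𝓕.rees x)} := by
    intro g hg
    induction hg using Submodule.span_induction with
    | mem y hy =>
      obtain ⟨g0, hg0, rfl⟩ := hy
      obtain ⟨r, hr⟩ := Ideal.mem_span_singleton'.1 (hf g0 hg0)
      refine Ideal.mem_span_singleton'.2 ⟨incl 𝓕 r, ?_⟩
      show _ = incl 𝓕 g0 * incl 𝓕 f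
      rw [← map_mul, ← map_mul, hr]
    | zero => simp
    | add a b _ _ ha hb => rw [add_mul]; exact add_mem ha hb
    | smul c a _ ha => rw [smul_eq_mul, mul_assoc]; exact Ideal.mul_mem_left _ _ ha
  obtain ⟨_, -, _, ⟨e⟩⟩ := Qc_spec 𝓕 q
  obtain ⟨e1, e2⟩ := invariants_congr e
  obtain ⟨e3, e4⟩ := mapC_invariants q _ rfl
  have hQ : 2 ≤ (Qc 𝓕 q).height := by
    rw [e2, e4]
    exact hht.trans (Ideal.height_mono h2)
  have hmem := mem_span_of_annihilated hxR' (Qc 𝓕 q)
    (fun p _ hp => le_trans (le_min le_rfl (hQ.trans (Ideal.height_mono hp))) (hR' p))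
    (incl 𝓕 f) (fun g hg => hann g (hJ g hg))
  obtain ⟨g, hg⟩ := Ideal.mem_span_singleton'.1 hmem
  obtain ⟨g0, hg0⟩ := exists_incl_eq 𝓕 g (fun n hn => by
    have h3 := congrArg (fun y : 𝓕.extRees => (y : LaurentPolynomial A).coeff n) hg
    simp only [Subalgebra.coe_mul, AlgHom.commutes, coe_algebraMap, coe_incl] at h3
    rw [mul_comm, ← LaurentPolynomial.smul_eq_C_mul, AddMonoidAlgebra.coeff_smul,
      Finsupp.smul_apply, smul_eq_mul, Polynomial.toLaurent_apply, mul_comm] at h3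
    refine mem_nonZeroDivisors_iff_right.1 hx _ (h3.trans ?_)
    exact Finsupp.mapDomain_notin_range _ _ (fun ⟨k, hk⟩ => by
      have : (k : ℤ) = n := hk
      omega))
  refine Ideal.mem_span_singleton'.2 ⟨g0, incl_injective 𝓕 ?_⟩
  rw [map_mul, hg0]
  exact hg

end Groth.Agent.S16058
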