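import Mathlib
import Groth.Statements.S16071

set_option autoImplicit false
universe u
open CartDual

namespace Groth.Agent.S16071

theorem result (p : ℕ) [Fact p.Prime] (R : Type u) [CommRing R] [CharP R p] :
    ∃ e : CartDual.D R (AlphaP.A p R) ≃ₐc[R] AlphaP.A p R,
      ∀ i : ℕ, i < p → (e.symm (AlphaP.x p R)) (AlphaP.x p R ^ i) = if i = 1 then 1 else 0 := by
  open scoped TensorProduct in
  classical
  haveI : Nontrivial R := CharP.nontrivial_of_char_ne_one (Fact.out : p.Prime).ne_one
  have hp : p.Prime := Fact.out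
  let b := AlphaP.basis p R
  let δ : CartDual.D R (AlphaP.A p R) := WithConv.toConv (b.coord ⟨1, hp.one_lt⟩)
  have hx : ∀ m, p ≤ m → AlphaP.x p R ^ m = 0 := fun m hm => AlphaP.x_pow_of_le p R hm
  have hδ : ∀ m, δ (AlphaP.x p R ^ m) = if m = 1 then 1 else 0 := by
    intro m
    rcases lt_or_ge m p with hm | hm
    · show b.coord ⟨1, hp.one_lt⟩ (AlphaP.x p R ^ m) = _
      rw [show AlphaP.x p R ^ m = b ⟨m, hm⟩ from (AlphaP.basis_apply p R ⟨m, hm⟩).symm, Module.Basis.coord_apply, b.repr_self, Finsupp.single_apply]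
      simp [Fin.ext_iff]
    · rw [hx m hm, if_neg (by have := hp.one_lt; omega)]
      exact map_zero δ.ofConv
  have hε : ∀ m, Coalgebra.counit (R := R) (AlphaP.x p R ^ m) = if m = 0 then 1 else 0 := fun m => by
    rw [Bialgebra.counit_pow, AlphaP.counit_x]; cases m <;> simp
  have hpow : ∀ j m, (δ ^ j) (AlphaP.x p R ^ m) = if m = j then (j.factorial : R) else 0 := by
    intro j
    induction j with
    | zero =>
      intro m
      rw [pow_zero]
      simp [CartDual.coe_apply, LinearMap.convOne_def, hε]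
    | succ j ih =>
      intro m
      rw [pow_succ, LinearMap.convMul_apply, Bialgebra.comul_pow, AlphaP.comul_x, (Commute.all _ _).add_pow, map_sum, map_sum]
      have ht : ∀ i ∈ Finset.range (m + 1), LinearMap.mul' R R (TensorProduct.map (δ ^ j).ofConv δ.ofConv
          ((AlphaP.x p R ⊗ₜ[R] (1 : AlphaP.A p R)) ^ i * ((1 : AlphaP.A p R) ⊗ₜ[R] AlphaP.x p R) ^ (m - i) * (m.choose i : AlphaP.A p R ⊗[R] AlphaP.A p R))) =
          if i = j ∧ m - i = 1 then (m.choose i * j.factorial : R) else 0 := fun i _ => by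
        rw [Algebra.TensorProduct.tmul_pow, Algebra.TensorProduct.tmul_pow, Algebra.TensorProduct.tmul_mul_tmul,
          one_pow, one_pow, one_mul, mul_one, ← nsmul_eq_mul', map_nsmul, map_nsmul, TensorProduct.map_tmul,
          LinearMap.mul'_apply, nsmul_eq_mul]
        rw [show (δ ^ j).ofConv (AlphaP.x p R ^ i) = _ from ih i, show δ.ofConv (AlphaP.x p R ^ (m - i)) = _ from hδ _]
        rcases eq_or_ne i j with h | h <;> rcases eq_or_ne (m - i) 1 with h' | h' <;> simp [h, h'] <;> simp_all
      rw [Finset.sum_congr rfl ht]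
      by_cases hm : m = j + 1
      · subst hm
        rw [if_pos rfl, Finset.sum_eq_single j]
        · simp [Nat.choose_succ_self_right, Nat.factorial_succ]
        · intro i _ hi; rw [if_neg (fun h => hi h.1)]
        · intro h; simp at h
      · rw [if_neg hm]
        refine Finset.sum_eq_zero fun i hi => if_neg fun h => hm ?_
        have := Finset.mem_range.1 hi
        omega
  have hext : ∀ f g : CartDual.D R (AlphaP.A p R), (∀ i : Fin p, f (AlphaP.x p R ^ (i : ℕ)) = g (AlphaP.x p R ^ (i : ℕ))) → f = g := by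
    intro f g h
    apply WithConv.ext
    refine b.ext fun i => ?_
    rw [AlphaP.basis_apply]
    exact h i
  have hδp : δ ^ p = 0 := hext _ _ fun i => by
    rw [hpow, if_neg (ne_of_lt i.2)]; rfl
  let φ : AlphaP.A p R →ₐ[R] CartDual.D R (AlphaP.A p R) := AlphaP.lift p R δ hδp
  have hφx : φ (AlphaP.x p R) = δ := AlphaP.lift_x _ _
  have hu : ∀ j : Fin p, IsUnit ((j : ℕ).factorial : R) := fun j =>
    (CharP.isUnit_natCast_iff hp).2 fun h => absurd ((Nat.Prime.dvd_factorial hp).1 h) (not_le.2 j.2)
  have hbij : Function.Bijective φ := by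
    let L : AlphaP.A p R ≃ₗ[R] CartDual.D R (AlphaP.A p R) :=
      b.equiv ((b.dualBasis.unitsSMul fun j => (hu j).unit).map (CartDual.toDual R (AlphaP.A p R)).symm) (Equiv.refl _)
    have : φ.toLinearMap = L.toLinearMap := b.ext fun j => hext _ _ fun i => by
      rw [AlgHom.toLinearMap_apply, LinearEquiv.coe_coe, Module.Basis.equiv_apply, AlphaP.basis_apply, map_pow φ, hφx, hpow]
      simp only [Module.Basis.map_apply, Module.Basis.unitsSMul_apply, Equiv.refl_apply]
      show _ = ((hu j).unit • b.dualBasis j) (AlphaP.x p R ^ (i : ℕ))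
      rw [← AlphaP.basis_apply, Units.smul_def, LinearMap.smul_apply, Module.Basis.dualBasis_apply_self]
      simp [Fin.ext_iff]
    have h2 : (φ : AlphaP.A p R → CartDual.D R (AlphaP.A p R)) = L := funext fun a => LinearMap.congr_fun this a
    rw [h2]; exact L.bijective
  have hderiv : ∀ a c : AlphaP.A p R, δ (a * c) = δ a * Coalgebra.counit (R := R) c + Coalgebra.counit (R := R) a * δ c := by
    have h : (LinearMap.mul R (AlphaP.A p R)).compr₂ δ.ofConv =
        (LinearMap.mul R R).compl₁₂ δ.ofConv (Coalgebra.counit (R := R)) + (LinearMap.mul R R).compl₁₂ (Coalgebra.counit (R := R)) δ.ofConv := by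
      refine b.ext fun i => b.ext fun j => ?_
      simp only [LinearMap.compr₂_apply, LinearMap.add_apply, LinearMap.compl₁₂_apply, LinearMap.mul_apply', AlphaP.basis_apply, ← pow_add, ← CartDual.coe_apply, hδ, hε, b]
      have := hp.one_lt
      rcases Nat.lt_or_ge (i : ℕ) 2 with hi | hi <;> rcases Nat.lt_or_ge (j : ℕ) 2 with hj | hj
      · interval_cases (i : ℕ) <;> interval_cases (j : ℕ) <;> simp
      all_goals
        rw [if_neg (show (i : ℕ) + j ≠ 1 by omega)]
        split_ifs <;> first | omega | simp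
    exact fun a c => LinearMap.congr_fun (LinearMap.congr_fun h a) c
  let e := BialgEquiv.ofAlgEquiv (AlgEquiv.ofBijective φ hbij)
    (AlphaP.algHom_ext (by
      show Coalgebra.counit (R := R) (φ (AlphaP.x p R)) = Coalgebra.counit (R := R) (AlphaP.x p R)
      rw [hφx, CartDual.coalgebra_counit_apply, AlphaP.counit_x, ← pow_zero (AlphaP.x p R), hδ, if_neg (by norm_num)]))
    (AlphaP.algHom_ext (by
      show Algebra.TensorProduct.map φ φ (Coalgebra.comul (R := R) (AlphaP.x p R)) = Coalgebra.comul (R := R) (φ (AlphaP.x p R))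
      rw [AlphaP.comul_x, map_add, Algebra.TensorProduct.map_tmul, Algebra.TensorProduct.map_tmul, hφx, map_one]
      apply (CartDual.ev₂ R (AlphaP.A p R)).injective
      refine TensorProduct.ext' fun a c => ?_
      rw [map_add, LinearMap.add_apply, CartDual.ev₂_tmul, CartDual.ev₂_tmul, CartDual.ev₂_coalgebra_comul_tmul, hderiv]
      simp [CartDual.coe_apply, LinearMap.convOne_def]))
  refine ⟨e.symm, fun i _ => ?_⟩
  show φ (AlphaP.x p R) (AlphaP.x p R ^ i) = _
  rw [hφx, hδ]

end Groth.Agent.S16071
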