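import Groth.Statements.S16074
import Groth.Agent.AlphaP34.Basic

set_option autoImplicit false
universe u
open Hopf

namespace Groth.Agent.S16074

open Groth.Agent.AlphaP34
/-- Let p be a prime and R a commutative ring of characteristic p (p = 0 in R, R nonzero). Then μ_p and
α_p over Spec R are not isomorphic: there is no R-bialgebra isomorphism between the group algebra
R[ℤ/p] of the cyclic group of order p (group elements group-like) and the Hopf algebra R[X]/(X^p) of
α_p (X primitive), although the underlying R-algebras R[ℤ/p] = R[Y]/(Y^p) and R[X]/(X^p) are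
isomorphic. (Any nonzero commutative base ring of characteristic p is allowed. The published
statement allows any ring R with p·R = 0; over the zero ring both Hopf algebras are the zero ring
and hence isomorphic, so R is assumed nonzero here.) -/
theorem result (p : ℕ) [Fact p.Prime] (R : Type u) [CommRing R] [CharP R p] :
    IsEmpty (MonoidAlgebra R (Multiplicative (ZMod p)) ≃ₐc[R] AlphaP.A p R) := by
  have := nontriv p R
  refine ⟨fun φ => ?_⟩
  obtain ⟨P, hP⟩ := Ideal.exists_maximal R
  let o := MonoidAlgebra.of R (Multiplicative (ZMod p)) (gen p)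
  let y := φ o
  have ho : CoalgebraStruct.comul (R := R) o = o ⊗ₜ[R] o := by
    simp [o, MonoidAlgebra.of]
  have hoε : CoalgebraStruct.counit (R := R) o = 1 := by
    simp [o, MonoidAlgebra.of]
  have hy : CoalgebraStruct.comul (R := R) y = y ⊗ₜ[R] y := by
    rw [← CoalgHomClass.map_comp_comul_apply φ o, ho]
    rfl
  have hyε : CoalgebraStruct.counit (R := R) y = 1 := by
    rw [CoalgHomClass.counit_comp_apply φ o, hoε]
  have hd : ddx p R y = lin p R y • y := by
    show TensorProduct.rid R _ ((lin p R).lTensor _ (CoalgebraStruct.comul (R := R) y)) = _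
    rw [hy, LinearMap.lTensor_tmul, TensorProduct.rid_tmul]
  have hc1 : lin p R y ∈ P := by
    have hit : ∀ m, (ddx p R ^ m) y = lin p R y ^ m • y := by
      intro m
      induction m with
      | zero => simp
      | succ m ih => rw [pow_succ', Module.End.mul_apply, ih, map_smul, hd, smul_smul, pow_succ]
    have h := congrArg (CoalgebraStruct.counit (R := R)) (hit p)
    rw [ddx_iterate, map_zero, map_smul, hyε, smul_eq_mul, mul_one] at h
    exact hP.isPrime.mem_of_pow_mem p (h ▸ P.zero_mem)
  have hc : ∀ i, ∀ hi : i < p, 0 < i → coord p R ⟨i, hi⟩ y ∈ P := by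
    intro i
    induction i with
    | zero => intro _ h; omega
    | succ i ih =>
      intro hi _
      have h := coord_ddx p R y hi
      rw [hd, map_smul, smul_eq_mul] at h
      have hu := natCast_isUnit p R (Nat.succ_pos i) hi
      exact (Ideal.unit_mul_mem_iff_mem P hu).1 (h ▸ P.mul_mem_right _ hc1)
  have hc' : ∀ i : Fin p, coord p R i (y - 1) ∈ P := by
    intro i
    rcases Nat.eq_zero_or_pos (i : ℕ) with h | h
    · rw [show i = ⟨0, (Fact.out : p.Prime).pos⟩ from Fin.ext h, ← counit_eq_coord, map_sub, hyε,
        Bialgebra.counit_one, sub_self]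
      exact P.zero_mem
    · rw [map_sub, ← pow_zero (AlphaP.x p R), coord_pow, if_neg (by omega), sub_zero]
      exact hc i i.2 h
  have h1 := coeff_of_gen_sub_one p R
  rw [show MonoidAlgebra.of R (Multiplicative (ZMod p)) (gen p) - 1 =
      φ.toAlgEquiv.symm (∑ i : Fin p, coord p R i (y - 1) • AlphaP.x p R ^ (i : ℕ)) by
    rw [← expand, map_sub, map_one]
    exact congrArg (· - (1 : MonoidAlgebra R (Multiplicative (ZMod p)))) (φ.toAlgEquiv.symm_apply_apply o).symm,
    map_sum, map_sum] at h1
  refine hP.ne_top (P.eq_top_iff_one.2 (h1 ▸ sum_mem fun i _ => ?_))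
  rw [map_smul, map_smul, smul_eq_mul]
  exact P.mul_mem_right _ (hc' i)

end Groth.Agent.S16074
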