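import Groth.Statements.S16075
import Groth.Agent.AlphaP34.Basic

set_option autoImplicit false
universe u
open Hopf

namespace Groth.Agent.S16075

open Groth.Agent.AlphaP34
/-- Let p be a prime, T a commutative ring of characteristic p (p = 0 in T, T nonzero) and A =
T[X]/(X^p) the Hopf algebra of α_p over Spec T, with X primitive. Then the endomorphisms of the
T-group α_{p,T} are exactly the scalings: every T-bialgebra endomorphism f of A has f(X) = λ·X for a
unique λ ∈ T, and for every λ ∈ T there is a T-bialgebra endomorphism f of A with f(X) = λ·X. So the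
endomorphisms of α_{p,T} correspond bijectively to the elements of T. (Only this bijection is
stated; that it turns addition and composition of endomorphisms into addition and multiplication in
T, and its naturality in T, are not stated here. The zero ring, allowed as T in the published
statement, is excluded by the characteristic hypothesis here.) -/
theorem result (p : ℕ) [Fact p.Prime] (T : Type u) [CommRing T] [CharP T p] :
    (∀ f : AlphaP.A p T →ₐc[T] AlphaP.A p T, ∃! c : T, f (AlphaP.x p T) = c • AlphaP.x p T) ∧
      (∀ c : T, ∃ f : AlphaP.A p T →ₐc[T] AlphaP.A p T, f (AlphaP.x p T) = c • AlphaP.x p T) := by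
  have := nontriv p T
  have h1p := (Fact.out : p.Prime).one_lt
  have hx : ∀ a b : T, a • AlphaP.x p T = b • AlphaP.x p T → a = b := fun a b h => by
    have := congrArg (lin p T) h
    simpa [lin_x] using this
  refine ⟨fun f => ?_, fun c => ?_⟩
  · let y := f (AlphaP.x p T)
    have hy : CoalgebraStruct.comul (R := T) y = y ⊗ₜ[T] 1 + 1 ⊗ₜ[T] y := by
      rw [← CoalgHomClass.map_comp_comul_apply f, AlphaP.comul_x, map_add, TensorProduct.map_tmul,
        TensorProduct.map_tmul]
      simp [y]
    have hyε : CoalgebraStruct.counit (R := T) y = 0 := by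
      rw [CoalgHomClass.counit_comp_apply f, AlphaP.counit_x]
    have hd : ddx p T y = lin p T y • 1 := by
      show TensorProduct.rid T _ ((lin p T).lTensor _ (CoalgebraStruct.comul (R := T) y)) = _
      rw [hy, map_add, map_add, LinearMap.lTensor_tmul, LinearMap.lTensor_tmul, TensorProduct.rid_tmul,
        TensorProduct.rid_tmul, lin_one, zero_smul, zero_add]
    have hy' : y = lin p T y • AlphaP.x p T := by
      conv_lhs => rw [expand p T y]
      rw [Finset.sum_eq_single (⟨1, h1p⟩ : Fin p)]
      · rw [pow_one]; rfl
      · intro j _ hj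
        obtain ⟨_ | _ | i, hi⟩ := j
        · rw [← counit_eq_coord, hyε, zero_smul]
        · exact absurd rfl hj
        · have h := coord_ddx p T y hi
          rw [hd, map_smul, ← pow_zero (AlphaP.x p T), coord_pow, if_neg (by show ¬ (0 = i + 1); omega), smul_zero] at h
          rw [(natCast_isUnit p T (Nat.succ_pos _) hi).mul_right_eq_zero.1 h.symm, zero_smul]
      · intro h; exact absurd (Finset.mem_univ _) h
    exact ⟨lin p T y, hy', fun b hb => (hx _ _ (hy'.symm.trans hb)).symm⟩
  · have hpow : (c • AlphaP.x p T) ^ p = 0 := by rw [smul_pow, AlphaP.x_pow, smul_zero]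
    let g : AlphaP.A p T →ₐ[T] AlphaP.A p T :=
      AlphaP.lift p T (c • AlphaP.x p T) hpow
    refine ⟨BialgHom.ofAlgHom g ?_ ?_, AlphaP.lift_x _ hpow⟩
    · apply AlphaP.algHom_ext
      simp [g]
    · apply AlphaP.algHom_ext
      simp [g, TensorProduct.smul_tmul', TensorProduct.tmul_smul]

end Groth.Agent.S16075
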