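import Groth.Statements.S16076
import Groth.Agent.Versch53.AlphaP

set_option autoImplicit false
set_option linter.unusedVariables false
universe u
open scoped TensorProduct
open Versch

namespace Groth.Agent.S16076

/-- Let p be a prime, R a commutative ring of characteristic p and A = R[X]/(X^p) the Hopf algebra of
α_p over Spec R, with X primitive. Let v : A → A ⊗_R R^(Frob) be the comorphism of the Verschiebung
V : α_p^(p) → α_p (the ring map whose transpose under the canonical pairing is the relative
Frobenius of the dual Hopf algebra Hom_R(A, R)). Then V is the trivial homomorphism: v is the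
composite of the counit ε : A → R, the identity of underlying rings R → R^(Frob) and the inclusion
of the twisted factor R^(Frob) → A ⊗_R R^(Frob), i.e. v(a) = 1 ⊗ ε(a). (Any commutative base ring of
characteristic p is allowed.) -/
theorem result (p : ℕ) [Fact p.Prime] (R : Type u) [CommRing R] [CharP R p]
    (v : AlphaP.A p R →+* FrobAlg.BaseChange p R (AlphaP.A p R))
    (hv : Versch.IsVerschiebung p R (AlphaP.A p R) v) :
    v = ((Algebra.TensorProduct.includeRight (R := R) (A := AlphaP.A p R) (B := FrobAlg.Twist p R)).toRingHom.comp
          (FrobAlg.toTwist p R).toRingHom).comp (Bialgebra.counitAlgHom R (AlphaP.A p R)).toRingHom := by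
  apply RingHom.ext
  intro b
  rw [Versch.isVerschiebung_iff] at hv
  refine Versch.evTw_injective p R _ fun x => ?_
  rw [hv, Groth.Agent.Versch53.frob_dual]
  simp only [RingHom.comp_apply, AlgHom.toRingHom_eq_coe, RingHom.coe_coe,
    RingEquiv.toRingHom_eq_coe, Algebra.TensorProduct.includeRight_apply,
    Bialgebra.counitAlgHom_apply]
  erw [Versch.evTw_tmul']
end Groth.Agent.S16076
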