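import Groth.Statements.S16077
import Groth.Agent.CAlg6.TruncPoly

set_option autoImplicit false
universe u
open CAlg

namespace Groth.Agent.S16077

/-- Let k be a perfect field of characteristic p > 0 and let e_1, …, e_r ≥ 1 and f_1, …, f_s ≥ 1 be
natural numbers. If the k-algebras k[X_1, …, X_r]/(X_i^{p^{e_i}} : 1 ≤ i ≤ r) and k[X_1, …,
X_s]/(X_j^{p^{f_j}} : 1 ≤ j ≤ s) are isomorphic, then r = s and (f_j) is a permutation of (e_i):
there is a bijection σ between the index sets with f_{σ(i)} = e_i. Such truncated polynomial
algebras are the coordinate rings of the connected finite k-group schemes, and the row says that the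
number of variables and the exponents are invariants of the group, indeed of its algebra. (Only this
invariance is stated here; the existence of such a presentation for every connected finite k-group
is a separate statement.) -/
theorem result (p : ℕ) [Fact p.Prime] (k : Type u) [Field k]
    [CharP k p] [PerfectField k] (r s : ℕ) (e : Fin r → ℕ) (f : Fin s → ℕ) (he : ∀ i, 1 ≤ e i) (hf : ∀ j, 1 ≤ f j)
    (φ : (MvPolynomial (Fin r) k ⧸ Ideal.span (Set.range fun i : Fin r => (MvPolynomial.X i : MvPolynomial (Fin r) k) ^ p ^ e i)) ≃ₐ[k]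
      (MvPolynomial (Fin s) k ⧸ Ideal.span (Set.range fun j : Fin s => (MvPolynomial.X j : MvPolynomial (Fin s) k) ^ p ^ f j))) :
    ∃ σ : Fin r ≃ Fin s, ∀ i : Fin r, f (σ i) = e i := by
  classical
  have hp : p.Prime := Fact.out
  have hS : ∀ n, ∑ i, min (e i) n = ∑ j, min (f j) n := fun n =>
    Nat.pow_right_injective hp.two_le (by
      simp only
      rw [← Groth.Agent.CAlg6.TruncPoly.inv_eq (k := k) p e he n, ← Groth.Agent.CAlg6.TruncPoly.inv_eq (k := k) p f hf n]
      exact Groth.Agent.CAlg6.TruncPoly.inv_congr p φ n)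
  have hgt : ∀ {m : ℕ} (g : Fin m → ℕ) (n : ℕ),
      ∑ i, min (g i) (n + 1) = ∑ i, min (g i) n + Fintype.card {i // n < g i} := by
    intro m g n
    rw [Fintype.card_subtype, Finset.card_filter, ← Finset.sum_add_distrib]
    exact Finset.sum_congr rfl fun i _ => by split_ifs <;> omega
  have hc : ∀ n, Fintype.card {i // n < e i} = Fintype.card {j // n < f j} := fun n => by
    have h1 := hS (n + 1)
    rw [hgt, hgt, hS n] at h1
    omega
  have heq : ∀ {m : ℕ} (g : Fin m → ℕ) (n : ℕ),
      Fintype.card {i // n < g i} = Fintype.card {i // g i = n + 1} + Fintype.card {i // n + 1 < g i} := by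
    intro m g n
    simp only [Fintype.card_subtype, Finset.card_filter, ← Finset.sum_add_distrib]
    exact Finset.sum_congr rfl fun i _ => by split_ifs <;> omega
  have hfib : ∀ n, Fintype.card {i // e i = n} = Fintype.card {j // f j = n} := by
    rintro (_ | n)
    · rw [Fintype.card_eq_zero_iff.2 ⟨fun ⟨i, hi⟩ => by have := he i; omega⟩,
        Fintype.card_eq_zero_iff.2 ⟨fun ⟨i, hi⟩ => by have := hf i; omega⟩]
    · have h1 := hc n
      have h2 := hc (n + 1)
      have h3 := heq e n
      have h4 := heq f n
      omega
  exact ⟨Equiv.ofFiberEquiv (f := e) (g := f) fun n => Fintype.equivOfCardEq (hfib n),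
    fun i => Equiv.ofFiberEquiv_map _ i⟩

end Groth.Agent.S16077
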