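import Groth.Statements.S16078
import Groth.Agent.FinHopf34.ConnExt

set_option autoImplicit false
universe u
open scoped TensorProduct
open Hopf

namespace Groth.Agent.S16078

open Groth.Agent.FinHopf34 TensorProduct

/-- flatness over a quotient of the base -/
theorem flat_quotient {C : Type u} [CommRing C] (I : Ideal C) {M : Type u} [AddCommGroup M] [Module C M]
    [Module (C ⧸ I) M] [IsScalarTower C (C ⧸ I) M] [Module.Flat C M] : Module.Flat (C ⧸ I) M := by
  let i : M →ₗ[C ⧸ I] (C ⧸ I) ⊗[C] M :=
    { toFun := fun m => 1 ⊗ₜ[C] m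
      map_add' := fun a b => tmul_add _ _ _
      map_smul' := fun x m => by
        obtain ⟨c, rfl⟩ := Ideal.Quotient.mk_surjective x
        rw [show Ideal.Quotient.mk I c = algebraMap C (C ⧸ I) c from rfl, algebraMap_smul]
        simp only [RingHom.id_apply]
        rw [algebraMap_smul, tmul_smul] }
  let r : (C ⧸ I) ⊗[C] M →ₗ[C ⧸ I] M := (LinearMap.id : M →ₗ[C] M).liftBaseChange (C ⧸ I)
  exact Module.Flat.of_retract i r (LinearMap.ext fun m => by simp [i, r])

/-- Let R be a henselian Noetherian local ring, A and A'' commutative Hopf algebras over R which are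
finite and flat as R-modules, and A'' → A an R-algebra homomorphism compatible with
comultiplications and counits making A faithfully flat over A'' (a faithfully flat homomorphism π :
G → G'' of finite flat R-groups); let J ⊆ A be the ideal generated by the image of the augmentation
ideal of A'' (G' = Spec A/J = ker π, so that 1 → G' → G → G'' → 1 is exact). Let e ∈ A and e'' ∈ A''
be idempotents with ε(e) = 1, ε(e'') = 1 and A/(1 − e), A''/(1 − e'') local rings (the unit
components G⁰ and G''⁰), and let e' ∈ A be an element whose image in A/J is an idempotent, with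
ε(e') = 1 and A/(J + (1 − e')) local (so G'⁰ = Spec (A/J)/(1 − e') is the unit component of G').
Suppose g : A''/(1 − e'') → A/(1 − e) is the ring homomorphism induced by A'' → A (the restriction
π⁰ : G⁰ → G''⁰ of π, which exists because G⁰ is connected). Then g is faithfully flat, and e ≡ e'
modulo J, i.e. J + (1 − e) = J + (1 − e') and the kernel of π⁰, which is cut out in G⁰ by J, is
exactly G'⁰: the sequence 1 → G'⁰ → G⁰ → G''⁰ → 1 is exact. (The published statement also asserts
exactness of the maximal étale quotient G ↦ G^ét, not stated here.) -/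
theorem result (R : Type u) [CommRing R] [HenselianLocalRing R]
    [IsNoetherianRing R] (A A'' : Type u) [CommRing A] [HopfAlgebra R A] [Module.Finite R A] [Module.Flat R A]
    [CommRing A''] [HopfAlgebra R A''] [Module.Finite R A''] [Module.Flat R A'']
    [Algebra A'' A] [IsScalarTower R A'' A] [Module.FaithfullyFlat A'' A]
    (hΔ : (Bialgebra.comulAlgHom R A).comp (IsScalarTower.toAlgHom R A'' A) =
      (Algebra.TensorProduct.map (IsScalarTower.toAlgHom R A'' A) (IsScalarTower.toAlgHom R A'' A)).comp
        (Bialgebra.comulAlgHom R A''))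
    (hε : (Bialgebra.counitAlgHom R A).comp (IsScalarTower.toAlgHom R A'' A) = Bialgebra.counitAlgHom R A'')
    (e : A) (he : IsIdempotentElem e) (heε : Bialgebra.counitAlgHom R A e = 1)
    [IsLocalRing (A ⧸ Ideal.span ({1 - e} : Set A))]
    (e'' : A'') (he'' : IsIdempotentElem e'') (he''ε : Bialgebra.counitAlgHom R A'' e'' = 1)
    [IsLocalRing (A'' ⧸ Ideal.span ({1 - e''} : Set A''))]
    (e' : A) (he' : IsIdempotentElem (Ideal.Quotient.mk ((RingHom.ker (Bialgebra.counitAlgHom R A'')).map (algebraMap A'' A)) e'))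
    (he'ε : Bialgebra.counitAlgHom R A e' = 1)
    [IsLocalRing (A ⧸ (((RingHom.ker (Bialgebra.counitAlgHom R A'')).map (algebraMap A'' A)) ⊔ Ideal.span ({1 - e'} : Set A)))]
    (g : (A'' ⧸ Ideal.span ({1 - e''} : Set A'')) →+* (A ⧸ Ideal.span ({1 - e} : Set A)))
    (hg : g.comp (Ideal.Quotient.mk (Ideal.span ({1 - e''} : Set A''))) =
      (Ideal.Quotient.mk (Ideal.span ({1 - e} : Set A))).comp (algebraMap A'' A)) :
    g.FaithfullyFlat ∧
      Ideal.Quotient.mk ((RingHom.ker (Bialgebra.counitAlgHom R A'')).map (algebraMap A'' A)) e = Ideal.Quotient.mk ((RingHom.ker (Bialgebra.counitAlgHom R A'')).map (algebraMap A'' A)) e' := by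
  refine ⟨?_, ?_⟩
  · let : Algebra (A'' ⧸ unitI e'') (A ⧸ unitI e) := g.toAlgebra
    have hg' : ∀ x, g (Ideal.Quotient.mk (unitI e'') x) = algebraMap A'' (A ⧸ unitI e) x := fun x => DFunLike.congr_fun hg x
    have : IsScalarTower A'' (A'' ⧸ unitI e'') (A ⧸ unitI e) := IsScalarTower.of_algebraMap_eq fun x => (hg' x).symm
    have : Module.Finite A'' (A ⧸ unitI e) := Module.Finite.of_restrictScalars_finite R _ _
    have : Module.Finite (A'' ⧸ unitI e'') (A ⧸ unitI e) := Module.Finite.of_restrictScalars_finite A'' _ _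
    have := flat0 he A''
    have : Module.Flat (A'' ⧸ unitI e'') (A ⧸ unitI e) := flat_quotient (unitI e'')
    have : Module.Free (A'' ⧸ unitI e'') (A ⧸ unitI e) := Module.free_of_flat_of_isLocalRing
    show Module.FaithfullyFlat (A'' ⧸ unitI e'') (A ⧸ unitI e)
    infer_instance
  · set J := kerI R A A''
    have hI : ∀ {d : A}, Bialgebra.counitAlgHom R A d = 1 →
        J ⊔ unitI d ≤ RingHom.ker (Bialgebra.counitAlgHom R A) := fun {d} hd =>
      sup_le (fun y hy => RingHom.mem_ker.2 (counit_kerI hε hy))
        ((Ideal.span_singleton_le_iff_mem _).2 (by rw [RingHom.mem_ker, map_sub, map_one, hd, sub_self]))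
    have step : ∀ (d x : A), Bialgebra.counitAlgHom R A d = 1 → Bialgebra.counitAlgHom R A x = 1 →
        IsIdempotentElem (Ideal.Quotient.mk J d) → IsIdempotentElem (Ideal.Quotient.mk J x) →
        IsLocalRing (A ⧸ (J ⊔ unitI d)) →
        Ideal.Quotient.mk J x * Ideal.Quotient.mk J d = Ideal.Quotient.mk J d := by
      intro d x hd hx hdi hxi hloc
      have hx1 : Ideal.Quotient.mk (J ⊔ unitI d) x = 1 :=
        idem_eq_one_of_aug (R := R) (Ideal.Quotient.liftₐ (J ⊔ unitI d) (Bialgebra.counitAlgHom R A) (fun y hy => hI hd hy))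
          (hxi.map (Ideal.Quotient.factor (le_sup_left : J ≤ J ⊔ unitI d))) hx
      rw [← map_one (Ideal.Quotient.mk (J ⊔ unitI d)), Ideal.Quotient.mk_eq_mk_iff_sub_mem] at hx1
      obtain ⟨j, hj, i, hi, hji⟩ := Submodule.mem_sup.1 hx1
      obtain ⟨c, rfl⟩ := Ideal.mem_span_singleton'.1 hi
      have h := congrArg (Ideal.Quotient.mk J) hji
      rw [map_add, Ideal.Quotient.eq_zero_iff_mem.2 hj, zero_add, map_mul, map_sub, map_sub, map_one] at h
      have hdd : Ideal.Quotient.mk J d * Ideal.Quotient.mk J d = Ideal.Quotient.mk J d := hdi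
      linear_combination (-(Ideal.Quotient.mk J d)) * h + (-(Ideal.Quotient.mk J c)) * hdd
    have hnt : Nontrivial (A ⧸ (J ⊔ unitI e)) :=
      (Ideal.Quotient.liftₐ (J ⊔ unitI e) (Bialgebra.counitAlgHom R A) (fun y hy => hI heε hy)).toRingHom.domain_nontrivial
    have hloc : IsLocalRing (A ⧸ (J ⊔ unitI e)) := IsLocalRing.of_surjective'
      (Ideal.Quotient.factor (le_sup_right : unitI e ≤ J ⊔ unitI e)) (Ideal.Quotient.factor_surjective _)
    have h1 := step e e' heε he'ε (he.map _) he' hloc
    have h2 := step e' e he'ε heε he' (he.map _) inferInstance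
    rw [← h1, mul_comm, h2]

end Groth.Agent.S16078
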