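import Groth.Statements.S16080
import Groth.Agent.Div89.RefIso

set_option autoImplicit false
universe u
open CategoryTheory CategoryTheory.Limits AlgebraicGeometry TopologicalSpace
open SDiv

namespace Groth.Agent.S16080

/-- Let X be an integral locally Noetherian scheme, and suppose F is an O_X-module that is coherent.
Then these three conditions on F are mutually equivalent: (1) F has the reflexive property, i.e. the
canonical map F ⟶ F^** into the reflexive hull is an isomorphism; (2) for every point x the stalk
F_x is a reflexive O_{X,x}-module; (3) for every closed point x the stalk F_x is a reflexive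
O_{X,x}-module. -/
theorem result (X : Scheme.{u}) [IsIntegral X] [IsLocallyNoetherian X] (F : X.Modules)
    (hF : Coh.IsCoh F) :
    [RefHull.IsReflexive F, ∀ x : ↥X, RefHull.IsReflexiveAt F x,
      ∀ x : ↥X, IsClosed ({x} : Set ↥X) → RefHull.IsReflexiveAt F x].TFAE := by
  tfae_have 1 ↔ 2 := Div89.isReflexive_iff_forall_isReflexiveAt F hF
  tfae_have 2 → 3 := fun h x _ => h x
  tfae_have 3 → 2 := fun h y => by
    obtain ⟨x, hxy, hx⟩ := Ega11.SchemeTop.exists_isClosed_singleton X (isClosed_closure (s := ({y} : Set X)))
      ⟨y, subset_closure rfl⟩
    exact Div89.isReflexiveAt_of_specializes F hF (specializes_iff_mem_closure.2 hxy) (h x hx)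
  tfae_finish

end Groth.Agent.S16080
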