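import Groth.Statements.S16082
import Groth.Agent.Div89.RefIso

set_option autoImplicit false
universe u
open CategoryTheory CategoryTheory.Limits AlgebraicGeometry TopologicalSpace
open SDiv

namespace Groth.Agent.S16082

/-- Let X be an integral scheme and F, G quasi-coherent O_X-modules with F of finite presentation and G
torsion free (every stalk G_x is a torsion-free module over the domain O_{X,x}). Then every stalk of
the sheaf Hom 𝓗om_{O_X}(F, G) is torsion free as well. -/
theorem result (X : Scheme.{u}) [IsIntegral X] (F G : X.Modules) (hF : Coh.IsQCoh F)
    (hFp : CohB1.IsFP F) (hG : Coh.IsQCoh G) (hGt : TorSh.IsTorsionFree G) :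
    TorSh.IsTorsionFree (RefHull.homSh F G) := by
  intro x
  haveI := hGt x
  haveI : CohB1.IsFP F := hFp
  exact (Div89.evalStalk_injective F G x).moduleIsTorsionFree (RefHull.evalStalk F G x)
    (map_smul (RefHull.evalStalk F G x))

end Groth.Agent.S16082
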