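import Groth.Statements.S16083
import Groth.Agent.Div89.Ref1.Hull

set_option autoImplicit false
universe u
open CategoryTheory CategoryTheory.Limits AlgebraicGeometry TopologicalSpace
open SDiv

namespace Groth.Agent.S16083

/-- Suppose X is a normal scheme that is integral and locally Noetherian, write η for its generic point,
let F and G be coherent O_X-modules, and let T : G_η → F_η be an O_{X,η}-linear map of generic
stalks. Then T extends to a morphism G ⟶ F^** — there is a morphism ψ whose stalk map at η is T
followed by the stalk map at η of the canonical map F ⟶ F^** — if and only if for every point x with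
dim O_{X,x} = 1 the map T sends the image of G_x in G_η into the image of F_x in F_η. -/
theorem result (X : Scheme.{u}) [IsIntegral X] [IsLocallyNoetherian X]
    (hX : Pi1.IsNormalScheme X) (F G : X.Modules) (hF : Coh.IsCoh F) (hG : Coh.IsCoh G)
    (T : ↑(G.presheaf.stalk (genericPoint ↥X)) →ₗ[↑(X.presheaf.stalk (genericPoint ↥X))]
      ↑(F.presheaf.stalk (genericPoint ↥X))) :
    (∃ ψ : G ⟶ RefHull.ddual F, RefHull.stalkMapₗ ψ (genericPoint ↥X) =
        (RefHull.stalkMapₗ (RefHull.bidualMap F) (genericPoint ↥X)).comp T) ↔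
      ∀ x : ↥X, ringKrullDim ↑(X.presheaf.stalk x) = 1 →
        Set.MapsTo ⇑T
          (Set.range ⇑(G.presheaf.stalkSpecializes ((genericPoint_spec ↥X).specializes (Set.mem_univ x))).hom)
          (Set.range ⇑(F.presheaf.stalkSpecializes ((genericPoint_spec ↥X).specializes (Set.mem_univ x))).hom) := by
  haveI : F.IsQuasicoherent := hF.1
  haveI : F.IsFiniteType := hF.2
  have hrη : RefHull.IsReflexiveAt F (genericPoint X) := by
    haveI := Groth.Agent.Props58.LocFree.finite_stalk_of_isFiniteType (M := F) (genericPoint X)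
    haveI : Module.Free (X.presheaf.stalk (genericPoint X)) (F.presheaf.stalk (genericPoint X)) :=
      @Module.Free.of_divisionRing X.functionField (F.presheaf.stalk (genericPoint X)) _ _ _
    exact show Module.IsReflexive _ _ from inferInstance
  have hj := Div89.Ref1.bijective_stalk_bidual F hF (genericPoint X) hrη
  have hDc : Coh.IsCoh (RefHull.ddual F) := Div89.isCoh_dual _ (Div89.isCoh_dual F hF)
  constructor
  · rintro ⟨ψ, hψ⟩ x hx _ ⟨y, rfl⟩
    have hc : Order.coheight x = 1 := by
      rw [ringKrullDim_stalk_eq_coheight] at hx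
      exact_mod_cast hx
    obtain ⟨z, hz⟩ := Div89.Ref1.surjective_stalk_bidual hX F hF hc (RefHull.stalkMapₗ ψ x y)
    refine ⟨z, hj.1 ?_⟩
    have h1 := Div89.Ref1.stalkMapₗ_toη (RefHull.bidualMap F) x z
    have h2 := Div89.Ref1.stalkMapₗ_toη ψ x y
    rw [hψ, LinearMap.comp_apply] at h2
    exact h1.trans ((congrArg (Div89.Ref1.toη (RefHull.ddual F) x) hz).trans h2.symm)
  · intro h
    refine Div89.Ref1.exists_hom hX _ hDc (fun x => Div89.Ref1.isReflexiveAt_ddual F hF x) G _ ?_
    rintro x hc _ ⟨y, rfl⟩
    obtain ⟨z, hz⟩ := h x (by rw [ringKrullDim_stalk_eq_coheight, hc]; rfl) ⟨y, rfl⟩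
    refine ⟨RefHull.stalkMapₗ (RefHull.bidualMap F) x z, ?_⟩
    rw [← Div89.Ref1.stalkMapₗ_toη, LinearMap.comp_apply]
    exact congrArg (RefHull.stalkMapₗ (RefHull.bidualMap F) (genericPoint X)) hz

end Groth.Agent.S16083
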