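import Groth.Statements.S16084
import Groth.Agent.Div89.Ref1.Class

set_option autoImplicit false
universe u
open CategoryTheory CategoryTheory.Limits AlgebraicGeometry TopologicalSpace
open SDiv

namespace Groth.Agent.S16084

/-- Let X be an integral locally Noetherian normal scheme, F a rank one coherent reflexive O_X-module
and s a nonzero global section of F. Let Z be the set of points x at which multiplication by the
germ of s, O_{X,x} → F_x, fails to be bijective (the complement of the open where s generates F).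
Then every irreducible component of Z has codimension 1 in X: at each point z of Z to which no other
point of Z specializes, the local ring O_{X,z} has dimension 1. -/
theorem result (X : Scheme.{u}) [IsIntegral X] [IsLocallyNoetherian X]
    (hX : Pi1.IsNormalScheme X) (F : X.Modules) (hF : RefHull.IsRef1 F) (s : Γ(F, ⊤)) (hs : s ≠ 0) (z : ↥X)
    (hz : ¬ Function.Bijective fun a : ↑(X.presheaf.stalk z) => a • F.presheaf.germ ⊤ z trivial s)
    (hmax : ∀ y : ↥X, ¬ Function.Bijective (fun a : ↑(X.presheaf.stalk y) => a • F.presheaf.germ ⊤ y trivial s) →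
      y ⤳ z → y = z) :
    ringKrullDim ↑(X.presheaf.stalk z) = 1 := by
  classical
  have hr := Div89.Ref1.stalks_reflexive hF
  have htf := Div89.Ref1.torsionFree_of_reflexive F hr
  let η := genericPoint X
  let σ : ∀ x : X, F.presheaf.stalk x := fun x => F.presheaf.germ ⊤ x trivial s
  have hση : σ η ≠ 0 := fun h => hs (Div89.eq_zero_of_germ_generic F hF.1.1 htf (O := ⊤) trivial s h)
  have hσ : ∀ x, Div89.Ref1.toη F x (σ x) = σ η := fun x => Div89.Ref1.toη_germ F (W := ⊤) x trivial s
  have hbη : Function.Bijective fun a : X.presheaf.stalk η => a • σ η :=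
    Div89.Ref1.smul_bijective_of_ne_zero (Div89.Ref1.framed_of_isRef1 hX hF (Or.inl rfl)) hση
  rcases Div89.Ref1.codim_cases z with rfl | hc | hd
  · exact absurd hbη hz
  · rw [ringKrullDim_stalk_eq_coheight, hc]; rfl
  exfalso
  apply hz
  have hinj : ∀ x : X, Function.Injective fun a : X.presheaf.stalk x => a • σ x := fun x a b hab => by
    have h1 := congrArg (Div89.Ref1.toη F x) hab
    simp only [Div89.Ref1.toη_smul, hσ] at h1
    exact IsFractionRing.injective (X.presheaf.stalk x) X.functionField (hbη.1 h1)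
  -- an open where the section generates
  obtain ⟨W, hW, e, he⟩ := Div89.Ref1.framed_of_isRef1 hX hF (x := η) (Or.inl rfl)
  obtain ⟨c, hc⟩ := (he W le_rfl).2 (Var76.LineBundle.res F le_top s)
  have hgerm : ∀ (y : X) (hy : y ∈ W), σ y = X.presheaf.germ W y hy c • QC70.germM F W y hy e := by
    intro y hy
    have h1 := congrArg (QC70.germM F W y hy) hc
    dsimp only at h1
    rw [QC70.germM_smul] at h1
    refine Eq.trans ?_ (h1.symm.trans ?_)
    · exact (QC70.germM_res (le_top : W ≤ ⊤) hy s).symm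
    · exact congrArg (_ • ·) (QC70.germM_res (le_refl W) hy e)
  have hgood : ∀ y ∈ X.basicOpen c, Function.Bijective fun a : X.presheaf.stalk y => a • σ y := fun y hy => by
    have hyW : y ∈ W := X.basicOpen_le c hy
    refine ⟨hinj y, fun v => ?_⟩
    obtain ⟨a, rfl⟩ := (Div89.Ref1.isGen_germM he hyW).2 v
    obtain ⟨u, hu⟩ := (X.mem_basicOpen c y hyW).1 hy
    refine ⟨a * ↑u⁻¹, ?_⟩
    show (a * ↑u⁻¹) • σ y = a • QC70.germM F W y hyW e
    rw [hgerm y hyW, smul_smul, ← hu, mul_assoc, Units.inv_mul, mul_one]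
  have hηc : η ∈ X.basicOpen c := (X.mem_basicOpen c η hW).2 (by
    refine (isUnit_iff_ne_zero (G₀ := X.functionField)).2 fun h0 => hση ?_
    rw [hgerm η hW, show X.presheaf.germ W η hW c = (0 : X.presheaf.stalk η) from h0, zero_smul])
  refine ⟨hinj z, fun w => ?_⟩
  obtain ⟨W₀, hzW₀, m, rfl⟩ := QC70.germM_exist w
  obtain ⟨V, hzV⟩ := Div89.exists_affine_mem z
  let B := {x : X | x ∈ V.1 ∧ Order.coheight x = 1 ∧ x ∉ X.basicOpen c} ∩
    {x : X | ¬ Function.Bijective fun a : X.presheaf.stalk x => a • σ x}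
  have hB : B.Finite := (Div89.Ref1.height_one_finite_notMem V _ hηc).subset Set.inter_subset_left
  let O : X.Opens := ⟨(W₀ : Set X) ∩ V.1 ∩ (⋃ x ∈ B, closure {x})ᶜ,
    (W₀.2.inter V.1.2).inter (hB.isClosed_biUnion fun x _ => isClosed_closure).isOpen_compl⟩
  have hzO : z ∈ O := by
    refine ⟨⟨hzW₀, hzV⟩, fun hmem => ?_⟩
    obtain ⟨x, ⟨⟨-, hx1, -⟩, hxb⟩, hxz⟩ := Set.mem_iUnion₂.1 hmem
    have hxz' : x = z := hmax x hxb (specializes_iff_mem_closure.2 hxz)
    subst hxz'
    rw [ringKrullDim_stalk_eq_coheight, hx1] at hd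
    exact absurd hd (by norm_num)
  have hηO : η ∈ O := Div89.genericPoint_mem hzO
  obtain ⟨φ, hφ⟩ := hbη.2 (QC70.germM F W₀ η hηO.1.1 m)
  obtain ⟨a, ha⟩ := Div89.Ref1.exists_section hX (Coh.structureModule X) Div89.isCoh_structureModule
    (Div89.Ref1.stalks_reflexive Div89.Ref1.isRef1_structureModule) O hηO
    (QC70.unitStalkEquiv η φ) (fun x hxO hx1 => by
      have hbx : Function.Bijective fun a : X.presheaf.stalk x => a • σ x := by
        by_contra hb
        refine hxO.2 (Set.mem_iUnion₂.2 ⟨x, ⟨⟨hxO.1.2, hx1, fun hxc => hb (hgood x hxc)⟩, hb⟩, subset_closure rfl⟩)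
      obtain ⟨b, hb⟩ := hbx.2 (QC70.germM F W₀ x hxO.1.1 m)
      have h1 := congrArg (Div89.Ref1.toη F x) hb
      dsimp only at h1
      rw [Div89.Ref1.toη_smul, hσ, Div89.Ref1.toη_germ] at h1
      have h2 : algebraMap (X.presheaf.stalk x) X.functionField b = φ := hbη.1 (h1.trans hφ.symm)
      refine ⟨QC70.unitStalkEquiv x b, ?_⟩
      obtain ⟨W', hxW', b', rfl⟩ := TopCat.Presheaf.exists_germ_eq X.presheaf b
      rw [QC70.unitStalkEquiv_germ, Div89.Ref1.toη_germ, ← QC70.unitStalkEquiv_germ, ← h2]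
      exact congrArg (QC70.unitStalkEquiv η)
        (TopCat.Presheaf.germ_stalkSpecializes_apply X.presheaf hxW' _ b').symm)
  refine ⟨X.presheaf.germ O z hzO (show Γ(X, O) from a), Div89.Ref1.toη_injective F hF.1.1 htf z ?_⟩
  dsimp only
  rw [Div89.Ref1.toη_smul, hσ, Div89.Ref1.toη_germ]
  refine Eq.trans ?_ hφ
  refine congrArg (fun r : X.presheaf.stalk η => r • σ η) ?_
  refine (TopCat.Presheaf.germ_stalkSpecializes_apply X.presheaf hzO
    ((genericPoint_spec X).specializes (Set.mem_univ z)) _).trans ((QC70.unitStalkEquiv η).injective ?_)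
  erw [QC70.unitStalkEquiv_germ]
  exact ha

end Groth.Agent.S16084
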