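import Groth.Statements.S16085
import Groth.Agent.Div89.Ref1.Class
import Groth.Prelude.Def_Ref1Cl

set_option autoImplicit false
universe u
open CategoryTheory CategoryTheory.Limits AlgebraicGeometry TopologicalSpace
open SDiv

namespace Groth.Agent.S16085

/-- Let X be an integral locally Noetherian normal scheme. Sending (F, G) to the reflexive hull (F
⊗_{O_X} G)^** makes the isomorphism classes of rank one coherent reflexive O_X-modules into an
abelian group: on that set there are a commutative and associative composition law, a neutral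
element and inverses, such that the product of the classes of F and G is the class of the reflexive
hull of F ⊗_{O_X} G, the neutral element is the class of O_X, and the inverse of the class of F is
the class of its dual 𝓗om_{O_X}(F, O_X). -/
theorem result (X : Scheme.{u}) [IsIntegral X] [IsLocallyNoetherian X] (hX : Pi1.IsNormalScheme X) :
    ∃ (mul : {c : PicF.Cl X // ∃ F : X.Modules, PicF.cl F = c ∧ RefHull.IsRef1 F} →
          {c : PicF.Cl X // ∃ F : X.Modules, PicF.cl F = c ∧ RefHull.IsRef1 F} →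
            {c : PicF.Cl X // ∃ F : X.Modules, PicF.cl F = c ∧ RefHull.IsRef1 F})
      (one : {c : PicF.Cl X // ∃ F : X.Modules, PicF.cl F = c ∧ RefHull.IsRef1 F})
      (inv : {c : PicF.Cl X // ∃ F : X.Modules, PicF.cl F = c ∧ RefHull.IsRef1 F} →
          {c : PicF.Cl X // ∃ F : X.Modules, PicF.cl F = c ∧ RefHull.IsRef1 F}),
      (∀ a b, mul a b = mul b a) ∧ (∀ a b c, mul (mul a b) c = mul a (mul b c)) ∧ (∀ a, mul one a = a) ∧
        (∀ a, mul (inv a) a = one) ∧
        (∀ (F G : X.Modules) (hF : RefHull.IsRef1 F) (hG : RefHull.IsRef1 G),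
          (mul ⟨PicF.cl F, F, rfl, hF⟩ ⟨PicF.cl G, G, rfl, hG⟩).1 = PicF.cl (RefHull.ddual (CohB1.tensorMod F G))) ∧
        one.1 = PicF.cl (Coh.structureModule X) ∧
        (∀ (F : X.Modules) (hF : RefHull.IsRef1 F), (inv ⟨PicF.cl F, F, rfl, hF⟩).1 = PicF.cl (RefHull.dual F)) := by
  classical
  let S := {c : PicF.Cl X // ∃ F : X.Modules, PicF.cl F = c ∧ RefHull.IsRef1 F}
  have closed : ∀ F G : X.Modules, RefHull.IsRef1 F → RefHull.IsRef1 G →
      RefHull.IsRef1 (RefHull.ddual (CohB1.tensorMod F G)) := fun F G hF hG => by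
    obtain ⟨s, hs⟩ := Div89.Ref1.exists_ne_zero hX hF
    obtain ⟨t, ht⟩ := Div89.Ref1.exists_ne_zero hX hG
    exact (Div89.Ref1.exists_refTensor hX hF hG hs ht).1
  have closed' : ∀ F : X.Modules, RefHull.IsRef1 F → RefHull.IsRef1 (RefHull.dual F) := fun F hF => by
    obtain ⟨s, hs⟩ := Div89.Ref1.exists_ne_zero hX hF
    exact (Div89.Ref1.exists_dual_sord hX hF hs).1
  let mul : S → S → S := fun a b => ⟨RefFun.refMulCl a.1 b.1, by
    obtain ⟨F, hF, hFr⟩ := a.2
    obtain ⟨G, hG, hGr⟩ := b.2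
    exact ⟨_, by rw [← hF, ← hG]; rfl, closed F G hFr hGr⟩⟩
  let inv : S → S := fun a => ⟨PicF.cl (RefHull.dual a.2.choose),
    RefHull.dual a.2.choose, rfl, closed' _ a.2.choose_spec.2⟩
  refine ⟨mul, ⟨PicF.cl (Coh.structureModule X), _, rfl, Div89.Ref1.isRef1_structureModule⟩, inv,
    ?_, ?_, ?_, ?_, fun F G hF hG => rfl, rfl, ?_⟩
  · rintro ⟨_, F, rfl, hF⟩ ⟨_, G, rfl, hG⟩
    obtain ⟨s, hs⟩ := Div89.Ref1.exists_ne_zero hX hF
    obtain ⟨t, ht⟩ := Div89.Ref1.exists_ne_zero hX hG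
    obtain ⟨h1, u, hu, hux⟩ := Div89.Ref1.exists_refTensor hX hF hG hs ht
    obtain ⟨h2, v, hv, hvx⟩ := Div89.Ref1.exists_refTensor hX hG hF ht hs
    exact Subtype.ext (Quot.sound (Div89.Ref1.iso_of_sord hX h1 h2 hu hv
      fun x hc => by rw [hux x hc, hvx x hc, add_comm]))
  · rintro ⟨_, F, rfl, hF⟩ ⟨_, G, rfl, hG⟩ ⟨_, H, rfl, hH⟩
    obtain ⟨s, hs⟩ := Div89.Ref1.exists_ne_zero hX hF
    obtain ⟨t, ht⟩ := Div89.Ref1.exists_ne_zero hX hG
    obtain ⟨r, hr⟩ := Div89.Ref1.exists_ne_zero hX hH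
    obtain ⟨hFG, p, hp, hpx⟩ := Div89.Ref1.exists_refTensor hX hF hG hs ht
    obtain ⟨hGH, q, hq, hqx⟩ := Div89.Ref1.exists_refTensor hX hG hH ht hr
    obtain ⟨h1, u, hu, hux⟩ := Div89.Ref1.exists_refTensor hX hFG hH hp hr
    obtain ⟨h2, v, hv, hvx⟩ := Div89.Ref1.exists_refTensor hX hF hGH hs hq
    exact Subtype.ext (Quot.sound (Div89.Ref1.iso_of_sord hX h1 h2 hu hv
      fun x hc => by rw [hux x hc, hvx x hc, hpx x hc, hqx x hc, add_assoc]))
  · rintro ⟨_, F, rfl, hF⟩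
    obtain ⟨s, hs⟩ := Div89.Ref1.exists_ne_zero hX hF
    obtain ⟨o, ho, hox⟩ := Div89.Ref1.exists_unit_section (X := X)
    obtain ⟨h1, u, hu, hux⟩ := Div89.Ref1.exists_refTensor hX Div89.Ref1.isRef1_structureModule hF ho hs
    exact Subtype.ext (Quot.sound (Div89.Ref1.iso_of_sord hX h1 hF hu hs
      fun x hc => by rw [hux x hc, hox x hc, zero_add]))
  · intro a
    obtain ⟨hFc, hF⟩ := a.2.choose_spec
    obtain ⟨s, hs⟩ := Div89.Ref1.exists_ne_zero hX hF
    obtain ⟨o, ho, hox⟩ := Div89.Ref1.exists_unit_section (X := X)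
    obtain ⟨hD, θ, hθ, hθx⟩ := Div89.Ref1.exists_dual_sord hX hF hs
    obtain ⟨h1, u, hu, hux⟩ := Div89.Ref1.exists_refTensor hX hD hF hθ hs
    refine Subtype.ext ?_
    show RefFun.refMulCl (PicF.cl (RefHull.dual a.2.choose)) a.1 = _
    refine (congrArg (RefFun.refMulCl (PicF.cl (RefHull.dual a.2.choose))) hFc.symm).trans ?_
    exact Quot.sound (Div89.Ref1.iso_of_sord hX h1 Div89.Ref1.isRef1_structureModule hu ho
      fun x hc => by rw [hux x hc, hθx x hc, hox x hc, neg_add_cancel])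
  · intro F hF
    have h := Exists.choose_spec (⟨F, rfl, hF⟩ : ∃ G : X.Modules, PicF.cl G = PicF.cl F ∧ RefHull.IsRef1 G)
    obtain ⟨e⟩ := (PicGrp.cl_eq_cl_iff (Exists.choose _) F).1 h.1
    exact Quot.sound ⟨RefFun.dualIso e⟩

end Groth.Agent.S16085
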