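import Groth.Statements.S16086
import Groth.Agent.Div89.Ref1.Class

set_option autoImplicit false
universe u
open CategoryTheory CategoryTheory.Limits AlgebraicGeometry TopologicalSpace
open SDiv

namespace Groth.Agent.S16086

/-- The class map is well defined and injective: fix a scheme X that is integral, normal and locally
Noetherian, and write η for its generic point; suppose F and G are rank one coherent reflexive
O_X-modules and let s ∈ F_η and t ∈ G_η be nonzero rational sections. At a point x of codimension 1
the stalks F_x, G_x are free of rank one over the discrete valuation ring O_{X,x}, so s and t have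
orders ord_{x,F}(s), ord_{x,G}(t). Then F ≅ G if and only if the Weil divisors of s and t are
linearly equivalent: for some nonzero rational function f one has ord_{x,F}(s) = ord_{x,G}(t) +
ord_x(f) at every point x of codimension 1. -/
theorem result (X : Scheme.{u}) [IsIntegral X] [IsLocallyNoetherian X]
    (hX : Pi1.IsNormalScheme X) (F G : X.Modules) (hF : RefHull.IsRef1 F) (hG : RefHull.IsRef1 G)
    (s : Cyc.secFibre F (genericPoint ↥X)) (hs : s ≠ 0) (t : Cyc.secFibre G (genericPoint ↥X)) (ht : t ≠ 0) :
    Nonempty (F ≅ G) ↔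
      ∃ f : ↑X.functionField, f ≠ 0 ∧
        ∀ (x : ↥X), Order.coheight x = 1 →
          Cyc.secOrdAt F (genericPoint ↥X) x ((genericPoint_spec ↥X).specializes (Set.mem_univ x)) s =
            Cyc.secOrdAt G (genericPoint ↥X) x ((genericPoint_spec ↥X).specializes (Set.mem_univ x)) t +
              Scheme.ord f x := by
  obtain ⟨a, rfl⟩ := Submodule.Quotient.mk_surjective _ s
  obtain ⟨b, rfl⟩ := Submodule.Quotient.mk_surjective _ t
  have ha : a ≠ 0 := fun h => hs (by rw [h, Submodule.Quotient.mk_zero])
  have hb : b ≠ 0 := fun h => ht (by rw [h, Submodule.Quotient.mk_zero])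
  have hfF := fun (x : X) hx => Div89.Ref1.framed_of_isRef1 hX hF (x := x) hx
  have hfG := fun (x : X) hx => Div89.Ref1.framed_of_isRef1 hX hG (x := x) hx
  constructor
  · rintro ⟨e⟩
    have hbη := Div89.Ref1.bijective_stalk_iso e (genericPoint X)
    have hea : RefHull.stalkMapₗ e.hom (genericPoint X) a ≠ 0 := fun h0 =>
      ha (hbη.1 (h0.trans (map_zero _).symm))
    obtain ⟨f, hf⟩ := (Div89.Ref1.smul_bijective_of_ne_zero (hfG _ (Or.inl rfl)) hb).2
      (RefHull.stalkMapₗ e.hom (genericPoint X) a)
    refine ⟨f, fun h0 => hea ?_, fun x hc => ?_⟩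
    · rw [← hf]
      show f • b = 0
      rw [show f = (0 : X.presheaf.stalk (genericPoint X)) from h0, zero_smul]
    · have h1 := Div89.Ref1.sord_map e.hom hc (hfF x (Or.inr hc)) (Div89.Ref1.bijective_stalk_iso e x) hbη.1 ha
      refine h1.symm.trans ?_
      rw [← hf]
      refine (Div89.Ref1.sord_smul (hfG x (Or.inr hc)) hc hb f (fun h0 => hea ?_)).trans (add_comm _ _)
      rw [← hf]
      show f • b = 0
      rw [show f = (0 : X.presheaf.stalk (genericPoint X)) from h0, zero_smul]
  · rintro ⟨f, hf, h⟩
    have hfb : (f : X.presheaf.stalk (genericPoint X)) • b ≠ 0 := fun h0 => hf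
      ((Div89.Ref1.smul_bijective_of_ne_zero (hfG _ (Or.inl rfl)) hb).1 (h0.trans (zero_smul _ b).symm))
    refine Div89.Ref1.iso_of_sord hX hF hG ha hfb fun x hc => ?_
    rw [Div89.Ref1.sord_smul (hfG x (Or.inr hc)) hc hb f hf, add_comm]
    exact h x hc

end Groth.Agent.S16086
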