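import Groth.Statements.S16087
import Groth.Agent.Div89.Ref1.Constr

set_option autoImplicit false
universe u
open CategoryTheory CategoryTheory.Limits AlgebraicGeometry TopologicalSpace
open SDiv

namespace Groth.Agent.S16087

/-- The class map takes values in Weil divisor classes and is surjective: suppose X is a normal scheme
that is integral and locally Noetherian, and denote its generic point by η. For a rank one coherent
reflexive O_X-module F and a nonzero rational section s ∈ F_η write ord_{x,F}(s) for the order of s
with respect to a generator of the free rank one O_{X,x}-module F_x at a point x of codimension 1.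
Then (1) the function sending a codimension-1 point x to ord_{x,F}(s) and every other point to 0 has
locally finite support, so it is a Weil divisor; and (2) every Weil divisor D on X (an
integer-valued function with locally finite support vanishing outside the codimension-1 points)
arises this way: D(x) = ord_{x,F}(s) at all codimension-1 points x for some rank one coherent
reflexive F and nonzero s ∈ F_η. -/
theorem result (X : Scheme.{u}) [IsIntegral X] [IsLocallyNoetherian X]
    (hX : Pi1.IsNormalScheme X) :
    (∀ (F : X.Modules) (hF : RefHull.IsRef1 F) (s : Cyc.secFibre F (genericPoint ↥X)), s ≠ 0 →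
        ∃ D : AlgebraicCycle X ℤ, (∀ x : ↥X, Order.coheight x ≠ 1 → D x = 0) ∧
          ∀ (x : ↥X), Order.coheight x = 1 →
            D x = Cyc.secOrdAt F (genericPoint ↥X) x ((genericPoint_spec ↥X).specializes (Set.mem_univ x)) s) ∧
      ∀ D : AlgebraicCycle X ℤ, (∀ x : ↥X, Order.coheight x ≠ 1 → D x = 0) →
        ∃ (F : X.Modules) (_ : RefHull.IsRef1 F) (s : Cyc.secFibre F (genericPoint ↥X)), s ≠ 0 ∧
          ∀ (x : ↥X), Order.coheight x = 1 →
            D x = Cyc.secOrdAt F (genericPoint ↥X) x ((genericPoint_spec ↥X).specializes (Set.mem_univ x)) s := by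
  classical
  refine ⟨fun F hF s hs => ?_, fun D hD => ?_⟩
  · obtain ⟨v, rfl⟩ := Submodule.Quotient.mk_surjective _ s
    have hv : v ≠ 0 := fun h => hs (by rw [h, Submodule.Quotient.mk_zero])
    refine ⟨{
      toFun := fun x => if Order.coheight x = 1 then Div89.Ref1.sord F x v else 0
      supportWithinDomain' := by simp
      supportLocallyFiniteWithinDomain' := fun x _ => ?_ }, fun x hx => if_neg hx, fun x hx => if_pos hx⟩
    obtain ⟨V, hxV⟩ := Div89.exists_affine_mem x
    refine ⟨V.1, V.1.2.mem_nhds hxV, (Div89.Ref1.finite_sord_ne_zero F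
      (Div89.Ref1.framed_of_isRef1 hX hF (Or.inl rfl)) hv V).subset ?_⟩
    rintro y ⟨hyV, hy⟩
    simp only [Function.mem_support, ne_eq, ite_eq_right_iff, Classical.not_imp] at hy
    exact ⟨hyV, hy⟩
  · have hlf : ∀ x : X, ∃ N ∈ nhds x, (N ∩ Function.support (⇑D : X → ℤ)).Finite := fun x =>
      D.supportLocallyFiniteWithinDomain' x trivial
    obtain ⟨s, hs, h⟩ := Div89.Ref1.exists_section_divisor (D := (⇑D : X → ℤ)) hX hlf
    exact ⟨_, Div89.Ref1.isRef1_divMod hX hlf, Submodule.Quotient.mk s,
      fun h0 => hs ((Div89.Ref1.secFibre_mk_bijective _).1 (h0.trans (Submodule.Quotient.mk_zero _).symm)),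
      fun x hx => (h x hx).symm⟩

end Groth.Agent.S16087
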