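import Groth.Statements.S16089
import Groth.Agent.Div89.DetTwist.Modif
import Groth.Agent.CAlg6.RegularNormal

set_option autoImplicit false
universe u
open CategoryTheory CategoryTheory.Limits AlgebraicGeometry TopologicalSpace
open SDiv

namespace Groth.Agent.S16089

open Groth.Agent Groth.Agent.Div89.Ref1 Groth.Agent.Div89.DetTwist
set_option backward.isDefEq.respectTransparency.types false

/-- Suppose X is an integral regular scheme (locally Noetherian, with every local ring regular) whose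
dimension is at most 2. Consider an effective Cartier divisor D ⊆ X with ideal sheaf 𝓓, whose
associated closed subscheme is integral, and write i : D ⟶ X for the closed immersion. Take G to be
a finite locally free O_D-module of rank s, and assume F ⟶ F' ⟶ i_*G ⟶ 0 is exact, where F and F'
are coherent O_X-modules that are both locally free of rank r on some common nonempty open subset.
Then, for any r-th exterior power L of F and L' of F', the reflexive hulls L^** and L'^** are
invertible O_X-modules, and there is an integer k with 0 ≤ k ≤ min(s, r) such that L'^** ≅ L^** ⊗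
O_X(D)^{⊗ k}, where O_X(D) = 𝓗om(𝓓, O_X). Although the published version assumes X has dimension
exactly 2, the proof only needs dimension at most 2. -/
theorem result (X : Scheme.{u}) [IsIntegral X] [IsLocallyNoetherian X]
    (hreg : ∀ x : ↥X, IsRegularLocalRing ↑(X.presheaf.stalk x)) (hdim : topologicalKrullDim ↥X ≤ 2)
    (𝓓 : X.IdealSheafData) (hD : BlowUp.IsEffCartierIdeal 𝓓) (hDi : IsIntegral 𝓓.subscheme) (s : ℕ)
    (G : (𝓓.subscheme).Modules) (hG : FlatMod.IsFinLocFreeOfRank s G) (F F' : X.Modules) (hF : Coh.IsCoh F)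
    (hF' : Coh.IsCoh F') (a : F ⟶ F') (b : F' ⟶ (Scheme.Modules.pushforward 𝓓.subschemeι).obj G) (w : a ≫ b = 0)
    (hex : (ShortComplex.mk a b w).Exact) (hb : Epi b) (r : ℕ)
    (hU : ∃ U : X.Opens, (U : Set ↥X).Nonempty ∧ FlatMod.IsFinLocFreeOfRank r (F.restrict U.ι) ∧
      FlatMod.IsFinLocFreeOfRank r (F'.restrict U.ι))
    (L L' : X.Modules) (hL : ExtPow.IsExtPow r F L) (hL' : ExtPow.IsExtPow r F' L') :
    PicF.IsInvertible (RefHull.ddual L) ∧ PicF.IsInvertible (RefHull.ddual L') ∧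
      ∃ k : ℕ, k ≤ min s r ∧
        Nonempty (RefHull.ddual L' ≅
          CohB1.tensorMod (RefHull.ddual L) (CohB1.tensorPow (RefHull.dual (ClSub.idealMod 𝓓)) k)) := by
  haveI := hDi
  have hX : Pi1.IsNormalScheme X := fun x => by
    haveI := hreg x
    exact ⟨inferInstance, CAlg6.isIntegrallyClosed_of_regular _⟩
  obtain ⟨U, hne, hUF, hUF'⟩ := hU
  obtain ⟨ν⟩ := exists_coord_equiv F U hne hUF
  obtain ⟨ν₀⟩ := exists_coord_equiv F' U hne hUF'
  let i := 𝓓.subschemeι
  have hbs : ∀ x : X, Function.Surjective (RefHull.stalkMapₗ b x) := fun x z => by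
    haveI := hb
    obtain ⟨y, hy⟩ := QC70.surjective_stalkMapM_of_epi b x z
    refine ⟨y, ?_⟩
    obtain ⟨W, hx, t, rfl⟩ := QC70.germM_exist y
    rw [RefHull.stalkMapₗ_germ, ← hy, QC70.stalkMapM_germ]
  have hout : ∀ x : X, x ∉ 𝓓.support → Function.Surjective (RefHull.stalkMapₗ a x) := fun x hx z =>
    (stalk_exact a b w hex x z).1 (pushforward_stalk_eq_zero i G
      (fun h => hx (by rw [Scheme.IdealSheafData.range_subschemeι] at h; exact h)) _)
  have haη := bijective_of_surjective ν ν₀ a (hout _ (generic_notMem_support hD))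
  let ν' : Coord F' r := (LinearEquiv.ofBijective (RefHull.stalkMapₗ a (genericPoint X)) haη).symm.trans ν
  have hν : ∀ (x : X) (z : F.presheaf.stalk x), tau ν' x (RefHull.stalkMapₗ a x z) = tau ν x z := fun x z => by
    show ν' (toη F' x (RefHull.stalkMapₗ a x z)) = ν (toη F x z)
    rw [← stalkMapₗ_toη]
    show ν ((LinearEquiv.ofBijective (RefHull.stalkMapₗ a (genericPoint X)) haη).symm
      ((LinearEquiv.ofBijective (RefHull.stalkMapₗ a (genericPoint X)) haη) (toη F x z))) = _
    rw [LinearEquiv.symm_apply_apply]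
  haveI : F.IsFiniteType := hF.2
  haveI : F'.IsFiniteType := hF'.2
  obtain ⟨hA, ω, hω, hωo⟩ := exists_hull_section ν hX hF hL
  obtain ⟨hA', ω', hω', hω'o⟩ := exists_hull_section ν' hX hF' hL'
  have hAi := isInvertible_of_isRef1 hX hreg hdim hA
  have hA'i := isInvertible_of_isRef1 hX hreg hdim hA'
  refine ⟨hAi, hA'i, ?_⟩
  have hgen : ∀ (x : X), Order.coheight x = 1 → (∃ d, IsDetGen (LinearMap.range (tau ν x)) d) ∧
      ∃ d, IsDetGen (LinearMap.range (tau ν' x)) d := fun x hc => by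
    haveI := isDVR hX hc
    exact ⟨exists_isDetGen _ (fg_range_tau ν x) (span_range_tau ν hF.1 x),
      exists_isDetGen _ (fg_range_tau ν' x) (span_range_tau ν' hF'.1 x)⟩
  -- the length of the modification at the generic point of the divisor
  have hδ : Order.coheight (gen 𝓓) = 1 := coheight_gen hD hX
  haveI := isDVR hX hδ
  haveI : Ring.KrullDimLE 1 (X.presheaf.stalk (gen 𝓓)) := krullDimLE_of_coheight_le hδ.le
  obtain ⟨π, hπ⟩ := IsDiscreteValuationRing.exists_irreducible (X.presheaf.stalk (gen 𝓓))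
  obtain ⟨g, hg⟩ : ∃ g : Fin s → ((Scheme.Modules.pushforward 𝓓.subschemeι).obj G).presheaf.stalk (gen 𝓓),
      Submodule.span (X.presheaf.stalk (gen 𝓓)) (Set.range g) = ⊤ :=
    exists_generators 𝓓.subschemeι G hG (genericPoint 𝓓.subscheme)
  choose y hy using fun l => hbs (gen 𝓓) (g l)
  obtain ⟨⟨d, hd⟩, ⟨d', hd'⟩⟩ := hgen (gen 𝓓) hδ
  have hle : LinearMap.range (tau ν (gen 𝓓)) ≤ LinearMap.range (tau ν' (gen 𝓓)) := by
    rintro _ ⟨z, rfl⟩
    exact ⟨RefHull.stalkMapₗ a (gen 𝓓) z, hν _ z⟩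
  obtain ⟨k, hk, c, hc⟩ := exists_detGen_modification _ _ (fg_range_tau ν _) (fg_range_tau ν' _)
    (span_range_tau ν hF.1 _) hle π hπ
    (by
      rintro _ ⟨z, rfl⟩
      have h0 : RefHull.stalkMapₗ b (gen 𝓓) (π • z) = 0 := by
        rw [map_smul]
        exact QC70.stalk_pushforward_killed i G π hπ.not_isUnit _
      obtain ⟨p, hp⟩ := (stalk_exact a b w hex _ _).1 h0
      exact ⟨p, by rw [← hν, hp, map_smul]⟩)
    (fun l => tau ν' (gen 𝓓) (y l))
    (by
      rintro _ ⟨z, rfl⟩
      have hz : RefHull.stalkMapₗ b (gen 𝓓) z ∈ Submodule.span _ (Set.range g) := hg ▸ Submodule.mem_top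
      obtain ⟨q, hq⟩ := (Submodule.mem_span_range_iff_exists_fun _).1 hz
      have h0 : RefHull.stalkMapₗ b (gen 𝓓) (z - ∑ l, q l • y l) = 0 := by
        rw [map_sub, sub_eq_zero, map_sum, ← hq]
        exact Finset.sum_congr rfl fun l _ => by rw [map_smul, hy]
      obtain ⟨p, hp⟩ := (stalk_exact a b w hex _ _).1 h0
      refine Submodule.mem_sup.2 ⟨tau ν (gen 𝓓) p, ⟨p, rfl⟩, ∑ l, q l • tau ν' (gen 𝓓) (y l),
        (Submodule.mem_span_range_iff_exists_fun _).2 ⟨q, rfl⟩, ?_⟩
      rw [← hν, hp, map_sub, map_sum]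
      simp only [map_smul, sub_add_cancel])
    (fun l => ⟨y l, rfl⟩) hd hd'
  refine ⟨k, hk, ?_⟩
  obtain ⟨hTi, θ, hθ, hθo⟩ := exists_twist_section hD hX hreg hdim k
  obtain ⟨v, hv, hvo⟩ := exists_tensor_sord _ _ (framed_of_isInvertible hAi _) (framed_of_isInvertible hTi _) hω hθ
  have hB := EGA73.isInvertible_tensorMod hAi hTi
  have hB1 : RefHull.IsRef1 (CohB1.tensorMod (RefHull.ddual L) (CohB1.tensorPow (RefHull.dual (ClSub.idealMod 𝓓)) k)) :=
    isRef1_of_framed (Amp73.isCoh_of_isInvertible hB)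
      (fun x => isReflexiveAt_of_framed (framed_of_isInvertible hB x)) (framed_of_isInvertible hB _)
  refine iso_of_sord hX hA' hB1 hω' hv fun x hcx => ?_
  rw [(hvo x hcx (framed_of_isInvertible hAi x) (framed_of_isInvertible hTi x)).2]
  by_cases hxs : x ∈ 𝓓.support
  · obtain rfl := eq_gen_of_mem hD hcx hxs
    rw [hωo _ hcx d hd, hω'o _ hcx d' hd', (hθo _ hcx).1 hxs, hc, Algebra.smul_def]
    have hne' : algebraMap (X.presheaf.stalk (gen 𝓓)) X.functionField ((c : X.presheaf.stalk (gen 𝓓)) * π ^ k) ≠ 0 :=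
      (map_ne_zero_iff _ (IsFractionRing.injective _ _)).2 (mul_ne_zero c.ne_zero (pow_ne_zero _ hπ.ne_zero))
    have hord : Scheme.ord (algebraMap (X.presheaf.stalk (gen 𝓓)) X.functionField
        ((c : X.presheaf.stalk (gen 𝓓)) * π ^ k)) (gen 𝓓) = (k : ℤ) := by
      refine (Scheme.ord_eq_iff hcx hne').2 ?_
      rw [map_mul, map_mul, map_pow, map_pow]
      erw [Ring.ordFrac_of_isUnit c.isUnit, Ring.ordFrac_irreducible hπ]
      rw [one_mul, ← WithZero.exp_nsmul]
      simp [WithZero.exp]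
    rw [Scheme.ord_mul hne' hd'.1, hord]
    ring
  · obtain ⟨e, he⟩ := (hgen x hcx).1
    have heq : LinearMap.range (tau ν' x) = LinearMap.range (tau ν x) := by
      refine le_antisymm ?_ ?_
      · rintro _ ⟨z, rfl⟩
        obtain ⟨p, rfl⟩ := hout x hxs z
        exact ⟨p, (hν x p).symm⟩
      · rintro _ ⟨z, rfl⟩
        exact ⟨RefHull.stalkMapₗ a x z, hν x z⟩
    rw [hωo x hcx e he, hω'o x hcx e (heq ▸ he), (hθo x hcx).2 hxs, add_zero]

end Groth.Agent.S16089
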