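import Groth.Statements.S16092
import Groth.Agent.Div89.Ref1.Frame

set_option autoImplicit false
universe u
open CategoryTheory CategoryTheory.Limits AlgebraicGeometry TopologicalSpace
open SDiv

namespace Groth.Agent.S16092

/-- Let X be an integral scheme that is locally Noetherian, with generic point η, let L and N be
invertible O_X-modules and s ∈ L_η, t ∈ N_η nonzero rational sections, with orders ord_{x,L}(s),
ord_{x,N}(t) along the prime divisors, i.e. at the points x with dim O_{X,x} = 1, taken with respect
to generators of the stalks. Then L ⊗_{O_X} N has a nonzero rational section w with ord_{x,L ⊗ N}(w)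
= ord_{x,L}(s) + ord_{x,N}(t) at every such x; hence the Weil divisor class of L ⊗ N is the sum of
the classes of L and N. The published statement names w as the product s·t; here only the existence
of such a w is asserted. -/
theorem result (X : Scheme.{u}) [IsIntegral X] [IsLocallyNoetherian X] (L N : X.Modules)
    (hL : PicF.IsInvertible L) (hN : PicF.IsInvertible N) (s : Cyc.secFibre L (genericPoint ↥X)) (hs : s ≠ 0)
    (t : Cyc.secFibre N (genericPoint ↥X)) (ht : t ≠ 0) :
    ∃ w : Cyc.secFibre (CohB1.tensorMod L N) (genericPoint ↥X), w ≠ 0 ∧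
      ∀ (x : ↥X), ringKrullDim ↑(X.presheaf.stalk x) = 1 →
        Cyc.secOrdAt (CohB1.tensorMod L N) (genericPoint ↥X) x ((genericPoint_spec ↥X).specializes (Set.mem_univ x)) w =
          Cyc.secOrdAt L (genericPoint ↥X) x ((genericPoint_spec ↥X).specializes (Set.mem_univ x)) s +
            Cyc.secOrdAt N (genericPoint ↥X) x ((genericPoint_spec ↥X).specializes (Set.mem_univ x)) t := by
  obtain ⟨a, rfl⟩ := Submodule.Quotient.mk_surjective _ s
  obtain ⟨b, rfl⟩ := Submodule.Quotient.mk_surjective _ t
  have ha : a ≠ 0 := fun h => hs (by rw [h, Submodule.Quotient.mk_zero])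
  have hb : b ≠ 0 := fun h => ht (by rw [h, Submodule.Quotient.mk_zero])
  obtain ⟨w, hw, h⟩ := Div89.Ref1.exists_tensor_sord L N (Div89.Ref1.framed_of_isInvertible hL _)
    (Div89.Ref1.framed_of_isInvertible hN _) ha hb
  refine ⟨Submodule.Quotient.mk w, fun h0 => hw ((Div89.Ref1.secFibre_mk_bijective _).1
    (h0.trans (Submodule.Quotient.mk_zero _).symm)), fun x hx => ?_⟩
  rw [ringKrullDim_stalk_eq_coheight] at hx
  exact (h x (by exact_mod_cast hx) (Div89.Ref1.framed_of_isInvertible hL x)
    (Div89.Ref1.framed_of_isInvertible hN x)).2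

end Groth.Agent.S16092
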