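import Groth.Statements.S16099
import Groth.Agent.FF30.Rational

set_option autoImplicit false
universe u
open FunFld

namespace Groth.Agent.S16099

/-- For a function field `K/k` of one variable of genus `g` and any place `P`, the `k`-space `K /
(O_{\{P\}} + O_P)` is finite-dimensional of dimension `g` (the number of Weierstrass gaps when `P`
is rational), where `O_{\{P\}}` is the ring of elements of `K` integral at every place other than
`P` and `O_P` is the valuation ring of `P` (written as the elements integral at every place outside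
the complement of `\{P\}`). (The published example is for a curve over an algebraically closed field
and is stated with completions at `P`; this is the equivalent form inside `K`, over any field `k`
algebraically closed in `K`.) -/
theorem result (k K : Type u) [Field k] [Field K]
    [Algebra k K] (hK : FunFld.IsFunctionField k K) (P : FunFld.Place k K) :
    FiniteDimensional k (K ⧸ (Subalgebra.toSubmodule (AdFn.SInt ({P} : Set (FunFld.Place k K))) ⊔
        Subalgebra.toSubmodule (AdFn.SInt (({P} : Set (FunFld.Place k K))ᶜ)))) ∧
    Module.finrank k (K ⧸ (Subalgebra.toSubmodule (AdFn.SInt ({P} : Set (FunFld.Place k K))) ⊔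
        Subalgebra.toSubmodule (AdFn.SInt (({P} : Set (FunFld.Place k K))ᶜ)))) = FunFld.genus k K := by
  classical
  let δ : K →ₗ[k] ↥(FunFld.adele k K) :=
    { toFun := fun x => ⟨Function.update (0 : FunFld.Place k K → K) P x, by
        show ∀ᶠ Q : FunFld.Place k K in Filter.cofinite, Q.1 _ ≤ 1
        rw [Filter.eventually_cofinite]
        refine (Set.finite_singleton P).subset fun Q hQ => ?_
        by_contra hne
        exact hQ (by simp [Function.update_of_ne (show Q ≠ P from hne)])⟩
      map_add' := fun x y => Subtype.ext (funext fun Q => by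
        by_cases hQ : Q = P
        · subst hQ; simp
        · simp [Function.update_of_ne hQ])
      map_smul' := fun c x => Subtype.ext (funext fun Q => by
        by_cases hQ : Q = P
        · subst hQ; simp
        · simp [Function.update_of_ne hQ]) }
  let φ := (Submodule.mkQ (FunFld.ADK (0 : FunFld.Divisor k K))).comp δ
  have hmem : ∀ (a : ↥(FunFld.adele k K)), a ∈ FunFld.ADK (0 : FunFld.Divisor k K) ↔
      ∃ y : K, ∀ Q : FunFld.Place k K, Q.1 (a.1 Q - y) ≤ 1 := by
    intro a
    rw [FunFld.ADK, Submodule.mem_comap, Submodule.coe_subtype, Submodule.mem_sup]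
    constructor
    · rintro ⟨b, hb, _, ⟨y, rfl⟩, hab⟩
      refine ⟨y, fun Q => ?_⟩
      rw [show a.1 Q - y = b Q from sub_eq_of_eq_add (congrFun hab Q).symm]
      simpa using hb Q
    · rintro ⟨y, hy⟩
      exact ⟨fun Q => a.1 Q - y, fun Q => by simpa using hy Q, _, ⟨y, rfl⟩,
        funext fun Q => sub_add_cancel _ _⟩
  have hsurj : Function.Surjective φ := by
    intro q
    obtain ⟨a, rfl⟩ := Submodule.mkQ_surjective _ q
    have ha := Filter.eventually_cofinite.1 a.2
    obtain ⟨y, hy, hy'⟩ := Groth.Agent.FF30.strong_approximation' hK P (ha.toFinset.erase P)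
      (by simp) a.1 0
    refine ⟨a.1 P - y, (Submodule.Quotient.eq _).2 ?_⟩
    rw [hmem]
    refine ⟨-y, fun Q => ?_⟩
    show Q.1 ((Function.update (0 : FunFld.Place k K → K) P (a.1 P - y)) Q - a.1 Q - -y) ≤ 1
    by_cases hQ : Q = P
    · subst hQ; simp
    rw [Function.update_of_ne hQ, Pi.zero_apply, zero_sub, sub_neg_eq_add, ← sub_eq_neg_add]
    by_cases hQS : Q ∈ ha.toFinset.erase P
    · simpa using (hy Q hQS).le
    · have h1 : Q.1 (a.1 Q) ≤ 1 := by simpa [hQ] using hQS
      exact (Q.1.map_sub _ _).trans (max_le (hy' Q hQ hQS) h1)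
  have hker : LinearMap.ker φ = Subalgebra.toSubmodule (AdFn.SInt ({P} : Set (FunFld.Place k K))) ⊔
      Subalgebra.toSubmodule (AdFn.SInt (({P} : Set (FunFld.Place k K))ᶜ)) := by
    ext x
    show Submodule.Quotient.mk (δ x) = 0 ↔ _
    rw [Submodule.Quotient.mk_eq_zero, hmem, Submodule.mem_sup]
    constructor
    · rintro ⟨y, hy⟩
      refine ⟨y, fun Q hQ => ?_, x - y, fun Q hQ => ?_, add_sub_cancel _ _⟩
      · have h := hy Q
        have hne : Q ≠ P := hQ
        change Q.1 (Function.update (0 : FunFld.Place k K → K) P x Q - y) ≤ 1 at h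
        rw [Function.update_of_ne hne, Pi.zero_apply, zero_sub, Valuation.map_neg] at h
        exact h
      · have hQP : Q = P := by simpa using hQ
        subst hQP
        have h := hy Q
        change Q.1 (Function.update (0 : FunFld.Place k K → K) Q x Q - y) ≤ 1 at h
        rwa [Function.update_self] at h
    · rintro ⟨y, hy, z, hz, rfl⟩
      refine ⟨y, fun Q => ?_⟩
      show Q.1 (Function.update (0 : FunFld.Place k K → K) P (y + z) Q - y) ≤ 1
      by_cases hQ : Q = P
      · subst hQ
        rw [Function.update_self, add_sub_cancel_left]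
        exact hz Q (by simp)
      · rw [Function.update_of_ne hQ, Pi.zero_apply, zero_sub, Valuation.map_neg]
        exact hy Q hQ
  obtain ⟨hfin, hdim⟩ := Groth.Agent.FF30.adele_quotient_ADK hK (0 : FunFld.Divisor k K)
  rw [Groth.Agent.FF30.delta_zero hK, sub_zero] at hdim
  let e := (Submodule.quotEquivOfEq _ _ hker.symm).trans (φ.quotKerEquivOfSurjective hsurj)
  exact ⟨Module.Finite.equiv e.symm, by rw [e.finrank_eq]; exact_mod_cast hdim⟩

end Groth.Agent.S16099
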