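import Groth.Statements.S16100
import Groth.Agent.Ad97.Basic
import Groth.Agent.S16099

set_option autoImplicit false
universe u
open AdFn

namespace Groth.Agent.S16100

/-- For a function field `K/k` of one variable of genus `g` and any place `P` with completion `K_P` and
valuation ring `O_P ⊆ K_P`, the `k`-space `K_P / (O_{\{P\}} + O_P)`, where `O_{\{P\}} ⊆ K ⊆ K_P` is
the ring of elements of `K` integral at every place other than `P`, is finite-dimensional of
dimension `g` (the number of Weierstrass gaps when `P` is rational). (The published example is for a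
curve over an algebraically closed field; here any field `k` algebraically closed in `K` and any
place `P` are allowed.) -/
theorem result (k K : Type u) [Field k] [Field K]
    [Algebra k K] (hK : FunFld.IsFunctionField k K) (P : FunFld.Place k K) :
    FiniteDimensional k (AdFn.Kv P ⧸
        (Subalgebra.toSubmodule ((AdFn.SInt ({P} : Set (FunFld.Place k K))).map
            (IsScalarTower.toAlgHom k K (AdFn.Kv P))) ⊔
          Submodule.span k (AdFn.Ov P : Set (AdFn.Kv P)))) ∧
    Module.finrank k (AdFn.Kv P ⧸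
        (Subalgebra.toSubmodule ((AdFn.SInt ({P} : Set (FunFld.Place k K))).map
            (IsScalarTower.toAlgHom k K (AdFn.Kv P))) ⊔
          Submodule.span k (AdFn.Ov P : Set (AdFn.Kv P)))) = FunFld.genus k K := by
  obtain ⟨hfd, hrk⟩ := Groth.Agent.S16099.result k K hK P
  let S1 : Submodule k K := Subalgebra.toSubmodule (AdFn.SInt ({P} : Set (FunFld.Place k K)))
  let S2 : Submodule k K := Subalgebra.toSubmodule (AdFn.SInt (({P} : Set (FunFld.Place k K))ᶜ))
  let T : Submodule k (AdFn.Kv P) :=
    Subalgebra.toSubmodule ((AdFn.SInt ({P} : Set (FunFld.Place k K))).map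
            (IsScalarTower.toAlgHom k K (AdFn.Kv P))) ⊔
          Submodule.span k (AdFn.Ov P : Set (AdFn.Kv P))
  let ι : K →ₗ[k] AdFn.Kv P := (IsScalarTower.toAlgHom k K (AdFn.Kv P)).toLinearMap
  let φ : K →ₗ[k] (AdFn.Kv P ⧸ T) := T.mkQ.comp ι
  have hsurj : Function.Surjective φ := by
    intro q
    obtain ⟨a, rfl⟩ := Submodule.mkQ_surjective T q
    obtain ⟨x, hx⟩ := Ad97.exists_approx P a
    refine ⟨x, ?_⟩
    refine ((Submodule.Quotient.eq T).2 ?_).symm
    exact Submodule.mem_sup_right (Submodule.subset_span hx)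
  have hker : LinearMap.ker φ = S1 ⊔ S2 := by
    ext x
    show Submodule.Quotient.mk (ι x) = 0 ↔ _
    rw [Submodule.Quotient.mk_eq_zero]
    constructor
    · intro hx
      obtain ⟨_, ⟨s, hs, rfl⟩, o, ho, hso⟩ := Submodule.mem_sup.1 hx
      rw [Ad97.mem_span_Ov] at ho
      refine Submodule.mem_sup.2 ⟨s, hs, x - s, ?_, add_sub_cancel _ _⟩
      intro v hv
      rw [Set.mem_compl_iff, not_not, Set.mem_singleton_iff] at hv
      subst hv
      rw [← toKv_mem_Ov, map_sub]
      rwa [show AdFn.toKv v x - AdFn.toKv v s = o from (eq_sub_of_add_eq' hso).symm]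
    · intro hx
      obtain ⟨s, hs, o, ho, rfl⟩ := Submodule.mem_sup.1 hx
      rw [map_add]
      refine Submodule.add_mem_sup ⟨s, hs, rfl⟩ (Submodule.subset_span ?_)
      exact (toKv_mem_Ov P o).2 (ho P (by simp))
  let e : (K ⧸ (S1 ⊔ S2)) ≃ₗ[k] (AdFn.Kv P ⧸ T) :=
    (Submodule.quotEquivOfEq _ _ hker.symm).trans (LinearMap.quotKerEquivOfSurjective φ hsurj)
  have : FiniteDimensional k (K ⧸ (S1 ⊔ S2)) := hfd
  exact ⟨e.finiteDimensional, e.finrank_eq.symm.trans hrk⟩


end Groth.Agent.S16100
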