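import Groth.Statements.S16103
import Groth.Agent.Mum71.BcRows
-- import your own Groth.Agent.* helpers here

set_option autoImplicit false
set_option linter.style.haveILetI false
set_option backward.isDefEq.respectTransparency.types false
universe u
open Coherent

namespace Groth.Agent.S16103

open AlgebraicGeometry CategoryTheory Scheme.Modules in
/-- Let π : X → Y be proper of finite presentation, F a quasi-coherent O_X-module of finite
presentation, flat over Y, and q a natural number such that H^q(X_y, F|_{X_y}) = 0 and H^{q+2}(X_y,
F|_{X_y}) = 0 for every point y of Y (cohomology of the restriction of F to the scheme-theoretic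
fibre). Then R^{q+1} π_* F, the (q+1)-st right derived functor of π_* on O_X-modules applied to F,
is a finite locally free O_Y-module. (The source's statement, with p = q + 2, asks instead of the
vanishing in degree q only that the degree-q base change map to the fibre be surjective at every
point; the vanishing assumed here is the special case in which that map has zero target.) -/
theorem result
    {X Y : Scheme.{u}} (π : X ⟶ Y) [IsProper π] [LocallyOfFinitePresentation π]
    [HasInjectiveResolutions X.Modules]
    (F : X.Modules) [Coh.IsQCoh F] (hfp : CohB1.IsFP F) (hfl : FlatMod.IsFlatOver π F) (q : ℕ)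
    (hq : ∀ y : Y, Subsingleton (CohIII.fiberH π F y q))
    (hq2 : ∀ y : Y, Subsingleton (CohIII.fiberH π F y (q + 2))) :
    FlatMod.IsFinLocFree ((Coh.Rpush π (q + 1)).obj F) := by
  intro y
  obtain ⟨V, hV, hy, -⟩ := exists_isAffineOpen_mem_and_subset (X := Y) (x := y) (U := ⊤) trivial
  obtain ⟨M⟩ := Mum71.exists_cohModel π F hfp hfl hV
  obtain ⟨a, hya, ha⟩ := Mum71.exists_vanishAt hV M q hy (hq y)
  obtain ⟨b, hyb, hb⟩ := Mum71.exists_vanishAt hV M (q + 2) hy (hq2 y)
  exact Mum71.exists_free_rpush_nhd hV M (Mum71.splitsAt_d_congr M (by omega) (by omega) hb.2.1)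
    (Mum71.splitsAt_d_congr M (by omega) (by omega) ha.1) hyb hya

end Groth.Agent.S16103
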