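import Mathlib
import Groth.Statements.S16104

set_option autoImplicit false
universe u v
open LunaSt

namespace Groth.Agent.S16104

theorem result
    (A : Type u) (B : Type v) [CommRing A] [CommRing B] [IsLocalRing A] [IsLocalRing B]
    [IsNoetherianRing A] [IsNoetherianRing B] (φ : A →+* B) [IsLocalHom φ]
    (h1 : Function.Surjective ((Ideal.Quotient.mk (IsLocalRing.maximalIdeal B ^ 2)).comp φ))
    (hlen : ∀ n : ℕ, Module.length A (A ⧸ IsLocalRing.maximalIdeal A ^ (n + 1)) =
      Module.length B (B ⧸ IsLocalRing.maximalIdeal B ^ (n + 1))) (n : ℕ) :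
    Function.Surjective ((Ideal.Quotient.mk (IsLocalRing.maximalIdeal B ^ (n + 1))).comp φ) ∧
      RingHom.ker ((Ideal.Quotient.mk (IsLocalRing.maximalIdeal B ^ (n + 1))).comp φ) =
        IsLocalRing.maximalIdeal A ^ (n + 1) := by
  classical
  set mA := IsLocalRing.maximalIdeal A
  set mB := IsLocalRing.maximalIdeal B
  have hφm : ∀ a, φ a ∈ mB → a ∈ mA := fun a ha =>
    (IsLocalRing.mem_maximalIdeal a).2 fun hu => (IsLocalRing.mem_maximalIdeal _).1 ha (hu.map φ)
  have hφm' : mA.map φ ≤ mB := Ideal.map_le_iff_le_comap.2 fun a ha =>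
    (IsLocalRing.mem_maximalIdeal _).2 fun hu => (IsLocalRing.mem_maximalIdeal a).1 ha (isUnit_of_map_unit φ a hu)
  have hone : ∀ b : B, ∃ a, b - φ a ∈ mB ^ 2 := fun b => by
    obtain ⟨a, ha⟩ := h1 (Ideal.Quotient.mk _ b)
    exact ⟨a, Ideal.Quotient.eq.1 ha.symm⟩
  have hgen : ∀ j : ℕ, ∀ x ∈ mB ^ j, ∃ a ∈ mA ^ j, x - φ a ∈ mB ^ (j + 1) := by
    intro j
    induction j with
    | zero =>
      intro x _
      obtain ⟨a, ha⟩ := hone x
      exact ⟨a, by simp, Ideal.pow_le_pow_right (by norm_num) ha⟩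
    | succ j ih =>
      intro x hx
      rw [pow_succ] at hx
      induction hx using Submodule.mul_induction_on' with
      | mem_mul_mem y hy z hz =>
        obtain ⟨a, ha, hya⟩ := ih y hy
        obtain ⟨c, hc⟩ := hone z
        have hcm : c ∈ mA := hφm c (by
          rw [show φ c = z - (z - φ c) by ring]
          exact mB.sub_mem hz (Ideal.pow_le_self two_ne_zero hc))
        refine ⟨a * c, by rw [pow_succ]; exact Ideal.mul_mem_mul ha hcm, ?_⟩
        rw [show y * z - φ (a * c) = (y - φ a) * z + φ a * (z - φ c) by rw [map_mul]; ring]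
        refine add_mem (by rw [pow_succ _ (j + 1)]; exact Ideal.mul_mem_mul hya hz) ?_
        rw [show j + 1 + 1 = j + 2 from rfl, pow_add]
        exact Ideal.mul_mem_mul (Ideal.pow_right_mono hφm' j (by rw [← Ideal.map_pow]; exact Ideal.mem_map_of_mem φ ha)) hc
      | add y _ z _ hy hz =>
        obtain ⟨a, ha, ha'⟩ := hy
        obtain ⟨c, hc, hc'⟩ := hz
        exact ⟨a + c, add_mem ha hc, by rw [map_add, add_sub_add_comm]; exact add_mem ha' hc'⟩
  have hsurj : ∀ j : ℕ, ∀ b : B, ∃ a, b - φ a ∈ mB ^ j := by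
    intro j
    induction j with
    | zero => exact fun b => ⟨0, by simp⟩
    | succ j ih =>
      intro b
      obtain ⟨a, ha⟩ := ih b
      obtain ⟨c, -, hc⟩ := hgen j _ ha
      exact ⟨a + c, by rw [map_add, ← sub_sub]; exact hc⟩
  have hs : Function.Surjective ((Ideal.Quotient.mk (mB ^ (n + 1))).comp φ) := fun q => by
    obtain ⟨b, rfl⟩ := Ideal.Quotient.mk_surjective q
    obtain ⟨a, ha⟩ := hsurj (n + 1) b
    exact ⟨a, (Ideal.Quotient.eq.2 ha).symm⟩
  refine ⟨hs, ?_⟩
  have hle : mA ^ (n + 1) ≤ RingHom.ker ((Ideal.Quotient.mk (mB ^ (n + 1))).comp φ) := fun a ha => by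
    rw [RingHom.mem_ker, RingHom.comp_apply, Ideal.Quotient.eq_zero_iff_mem]
    exact Ideal.pow_right_mono hφm' (n + 1) (by rw [← Ideal.map_pow]; exact Ideal.mem_map_of_mem φ ha)
  refine le_antisymm ?_ hle
  letI : Algebra A (B ⧸ mB ^ (n + 1)) := ((Ideal.Quotient.mk (mB ^ (n + 1))).comp φ).toAlgebra
  let g : (A ⧸ mA ^ (n + 1)) →ₗ[A] (B ⧸ mB ^ (n + 1)) := (mA ^ (n + 1)).liftQ (Algebra.linearMap A (B ⧸ mB ^ (n + 1))) hle
  have hg : Function.Surjective g := fun q => by
    obtain ⟨a, ha⟩ := hs q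
    exact ⟨Submodule.Quotient.mk a, ha⟩
  have hB : Module.length A (B ⧸ mB ^ (n + 1)) = Module.length B (B ⧸ mB ^ (n + 1)) := by
    rw [Module.length_eq_of_surjective (R := B ⧸ mB ^ (n + 1)) (S := A) hs,
      Module.length_eq_of_surjective (R := B ⧸ mB ^ (n + 1)) (S := B) Ideal.Quotient.mk_surjective]
  have hfin : Module.length A (A ⧸ mA ^ (n + 1)) ≠ ⊤ := by
    haveI : Ring.KrullDimLE 0 (A ⧸ mA ^ (n + 1)) := Ring.KrullDimLE.mk₀ fun P hP => by
      have h1 : mA ≤ P.comap (Ideal.Quotient.mk (mA ^ (n + 1))) :=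
        (hP.comap _).le_of_pow_le (n := n + 1) fun x hx => by
          rw [Ideal.mem_comap, Ideal.Quotient.eq_zero_iff_mem.2 hx]; exact P.zero_mem
      have h2 : mA = P.comap (Ideal.Quotient.mk (mA ^ (n + 1))) :=
        (IsLocalRing.maximalIdeal.isMaximal A).eq_of_le (hP.comap _).ne_top h1
      rw [← Ideal.map_comap_of_surjective _ Ideal.Quotient.mk_surjective P]
      refine (Ideal.map_eq_top_or_isMaximal_of_surjective _ Ideal.Quotient.mk_surjective (h2 ▸ IsLocalRing.maximalIdeal.isMaximal A)).resolve_left ?_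
      rw [Ideal.map_comap_of_surjective _ Ideal.Quotient.mk_surjective P]
      exact hP.ne_top
    haveI : IsArtinianRing (A ⧸ mA ^ (n + 1)) := IsNoetherianRing.isArtinianRing_of_krullDimLE_zero
    rw [Module.length_eq_of_surjective (R := A ⧸ mA ^ (n + 1)) (S := A) Ideal.Quotient.mk_surjective]
    exact Module.length_ne_top
  have hinj : Function.Injective g := by
    rw [← LinearMap.ker_eq_bot, ← Submodule.subsingleton_iff_eq_bot, ← Module.length_eq_zero_iff (R := A)]
    have h := Module.length_eq_add_of_exact (LinearMap.ker g).subtype g Subtype.val_injective hg (LinearMap.exact_subtype_ker_map g)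
    rw [hB, ← hlen n] at h
    exact ((ENat.add_left_injective_of_ne_top hfin) (h.symm.trans (zero_add _).symm))
  intro a ha
  rw [← Ideal.Quotient.eq_zero_iff_mem]
  exact hinj ((show g (Submodule.Quotient.mk a) = 0 from ha).trans g.map_zero.symm)

end Groth.Agent.S16104
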