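import Groth.Statements.S16106
import Groth.Agent.S6825
import Groth.Agent.Ind91.Criterion

set_option autoImplicit false
universe u
open CategoryTheory CategoryTheory.Limits
open LunaSt

namespace Groth.Agent.S16106

/-- Local form. Let A be a local G-ring, that is a Noetherian local ring all of whose local rings have
regular completion maps (for instance an excellent local ring), with maximal ideal m and m-adic
completion Â. Let F be a functor from A-algebras (commutative rings under A) to sets preserving
filtered colimits, let ξ ∈ F(Â) and N ≥ 0. Then there exist an étale A-algebra A′, a map of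
A-algebras φ : A′ → A/m^(N+1) (an étale neighbourhood of the closed point with trivial residue field
extension) and ξ′ ∈ F(A′) such that ξ′ and ξ have the same image in F(A/m^(N+1)); here π is the
A-algebra map Â → A/m^(N+1), pinned by its underlying ring map. (The published statement is for any
point of the spectrum of a G-ring, with a functor locally of finite presentation on all schemes over
it; its proof first localizes at the point, and only the values of the functor on affine schemes
enter, so the row states this local form for a functor on A-algebras preserving filtered colimits.) -/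
theorem result (A : Type u) [CommRing A] [IsLocalRing A]
    (hG : CAlg.IsGRing A)
    (F : Under (CommRingCat.of A) ⥤ Type u)
    (hF : ∀ (J : Type u) [SmallCategory J] [IsFiltered J], PreservesColimitsOfShape J F)
    (N : ℕ)
    (π : Under.mk (CommRingCat.ofHom (algebraMap A
        (AdicCompletion (IsLocalRing.maximalIdeal A) A))) ⟶
      Under.mk (CommRingCat.ofHom (algebraMap A (A ⧸ IsLocalRing.maximalIdeal A ^ (N + 1)))))
    (hπ : π.right = CommRingCat.ofHom
      (AdicCompletion.evalₐ (IsLocalRing.maximalIdeal A) (N + 1) :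
        AdicCompletion (IsLocalRing.maximalIdeal A) A →ₐ[A]
          A ⧸ IsLocalRing.maximalIdeal A ^ (N + 1)).toRingHom)
    (ξ : F.obj (Under.mk (CommRingCat.ofHom (algebraMap A
        (AdicCompletion (IsLocalRing.maximalIdeal A) A))))) :
    ∃ (A' : Type u) (_ : CommRing A') (_ : Algebra A A') (_ : Algebra.Etale A A')
      (φ : Under.mk (CommRingCat.ofHom (algebraMap A A')) ⟶
        Under.mk (CommRingCat.ofHom (algebraMap A (A ⧸ IsLocalRing.maximalIdeal A ^ (N + 1)))))
      (ξ' : F.obj (Under.mk (CommRingCat.ofHom (algebraMap A A')))),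
      F.map φ ξ' = F.map π ξ := by
  let m := IsLocalRing.maximalIdeal A
  let P : ∀ (W : Type u) [CommRing W] [Algebra A W], Prop :=
    fun W _ _ => Algebra.FinitePresentation A W
  have hB : Groth.Agent.Ind91.Factors A P (AdicCompletion m A) :=
    fun D _ _ hD g => ⟨D, _, _, hD, AlgHom.id A D, g, AlgHom.comp_id g⟩
  obtain ⟨J, _, _, D, c, hc, hP, ⟨e⟩⟩ := Groth.Agent.Ind91.Factors.isInd (fun W _ _ h => h)
    (fun W W' _ _ _ _ f h => by
      haveI : Algebra.FinitePresentation A W := h
      exact Algebra.FinitePresentation.equiv f) hB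
  haveI := hF J
  obtain ⟨j, y, hy⟩ := Types.jointly_surjective_of_isColimit (isColimitOfPreserves F hc) (F.map e.inv ξ)
  letI := (D.obj j).hom.hom.toAlgebra
  obtain ⟨n, f, hf, hker⟩ := (hP j : Algebra.FinitePresentation A (D.obj j).right).out
  let v : D.obj j ⟶ Under.mk (CommRingCat.ofHom (algebraMap A (AdicCompletion m A))) := c.ι.app j ≫ e.hom
  let v' : (D.obj j).right →ₐ[A] AdicCompletion m A :=
    { v.right.hom with commutes' := fun a => congr($(Under.w v) a) }
  obtain ⟨s, hs⟩ := hker
  let G : Fin s.card → MvPolynomial (Fin n) A := fun i => (s.equivFin.symm i).1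
  let a : Fin n → AdicCompletion m A := fun i => v' (f (MvPolynomial.X i))
  have ha' : MvPolynomial.aeval a = v'.comp f := MvPolynomial.algHom_ext fun i => by simp [a]
  have ha : ∀ i, MvPolynomial.aeval a (G i) = 0 := fun i => by
    rw [ha', AlgHom.comp_apply, show f (G i) = 0 from (hs ▸ Ideal.subset_span (s.equivFin.symm i).2 : G i ∈ RingHom.ker f),
      map_zero]
  obtain ⟨A', _, _, hA', ψ, m', -, -, -, -, b, hb, hab⟩ := Groth.Agent.S6825.result hG G a ha (N + 1)
  have hbker : ∀ x ∈ RingHom.ker f, MvPolynomial.aeval b x = 0 := by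
    intro x hx
    have hx' : x ∈ Ideal.span (s : Set (MvPolynomial (Fin n) A)) := hs ▸ hx
    refine Submodule.span_induction ?_ (map_zero _) ?_ ?_ hx'
    · intro z hz
      have := hb (s.equivFin ⟨z, hz⟩)
      simpa [G] using this
    · intro p q _ _ hp hq; rw [map_add, hp, hq, add_zero]
    · intro r p _ hp; rw [smul_eq_mul, map_mul, hp, mul_zero]
  let ε : (MvPolynomial (Fin n) A ⧸ RingHom.ker f) ≃ₐ[A] (D.obj j).right :=
    Ideal.quotientKerAlgEquivOfSurjective hf
  let g : (D.obj j).right →ₐ[A] A' :=
    (Ideal.Quotient.liftₐ (RingHom.ker f) (MvPolynomial.aeval b) hbker).comp ε.symm.toAlgHom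
  let g' : D.obj j ⟶ Under.mk (CommRingCat.ofHom (algebraMap A A')) :=
    Under.homMk (CommRingCat.ofHom g.toRingHom) (by ext r; exact g.commutes r)
  let φa : A' →ₐ[A] A ⧸ m ^ (N + 1) := (AdicCompletion.evalₐ m (N + 1)).comp ψ
  let φ : Under.mk (CommRingCat.ofHom (algebraMap A A')) ⟶
      Under.mk (CommRingCat.ofHom (algebraMap A (A ⧸ m ^ (N + 1)))) :=
    Under.homMk (CommRingCat.ofHom φa.toRingHom) (by ext r; exact φa.commutes r)
  have key : (AdicCompletion.evalₐ m (N + 1)).comp (v'.comp f) = φa.comp (g.comp f) := by
    refine MvPolynomial.algHom_ext fun i => ?_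
    have e1 : g (f (MvPolynomial.X i)) = b i := by
      show Ideal.Quotient.liftₐ (RingHom.ker f) (MvPolynomial.aeval b) hbker (ε.symm (f (MvPolynomial.X i))) = b i
      rw [show ε.symm (f (MvPolynomial.X i)) = Ideal.Quotient.mk _ (MvPolynomial.X i) from
        ε.injective (by rw [AlgEquiv.apply_symm_apply]; rfl)]
      exact MvPolynomial.aeval_X b i
    show AdicCompletion.evalₐ m (N + 1) (a i) = φa (g (f (MvPolynomial.X i)))
    rw [e1, ← sub_eq_zero]
    show AdicCompletion.evalₐ m (N + 1) (a i) - AdicCompletion.evalₐ m (N + 1) (ψ (b i)) = 0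
    rw [← map_sub]
    have hle : (m ^ (N + 1)).map (algebraMap A (AdicCompletion m A)) ≤
        RingHom.ker (AdicCompletion.evalₐ m (N + 1)).toRingHom := by
      rw [Ideal.map_le_iff_le_comap]
      intro r hr
      show AdicCompletion.evalₐ m (N + 1) (algebraMap A _ r) = 0
      rw [AlgHom.commutes]
      exact Ideal.Quotient.eq_zero_iff_mem.2 hr
    exact hle (hab i)
  refine ⟨A', inferInstance, inferInstance, hA', φ, F.map g' y, ?_⟩
  have h : g' ≫ φ = v ≫ π := by
    apply Under.UnderMorphism.ext
    ext z
    obtain ⟨w, rfl⟩ := hf z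
    show φa (g (f w)) = π.right (v' (f w))
    rw [hπ]
    exact (AlgHom.congr_fun key w).symm
  rw [← FunctorToTypes.map_comp_apply, h, FunctorToTypes.map_comp_apply, FunctorToTypes.map_comp_apply]
  congr 1
  rw [show F.map (c.ι.app j) y = F.map e.inv ξ from hy, ← FunctorToTypes.map_comp_apply,
    e.inv_hom_id, FunctorToTypes.map_id_apply]

end Groth.Agent.S16106
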