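import Groth.Agent.Hopf35.FinTypeInv
import Groth.Statements.S16107

set_option autoImplicit false
universe u v w
open LunaSt

namespace Groth.Agent.S16107

theorem result
    (k : Type u) [Field k] (H : Type v) [CommRing H] [HopfAlgebra k H] [Algebra.FiniteType k H]
    (hG : HopfRep.IsLinearlyReductive k H)
    (A : Type w) [CommRing A] [Algebra k A] [IsNoetherianRing A]
    [HopfRep.Comod k H A] [GLin.IsCoactAlg k H A] :
    Algebra.FiniteType ↥(GLin.invariants k H A) A := by
  exact Groth.Agent.Hopf35.FinTypeInv.finiteType_over_invariants hG

end Groth.Agent.S16107
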