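import Groth.Statements.S16113
import Groth.Agent.AlgGrp79.RosUnits
import Groth.Agent.AlgGrp79.UnitsFinite

set_option autoImplicit false
universe u
open CategoryTheory MonoidalCategory CartesianMonoidalCategory MonObj GrpObj AlgebraicGeometry CategoryTheory.Limits
open AlgGrp

namespace Groth.Agent.S16113
open Groth.Agent.AlgGrp79 CategoryTheory.Limits
open scoped commutatorElement

/-- Over an algebraically closed field k, let X be an irreducible variety (an integral separated
k-scheme of finite type) and R = Γ(X, O_X). Then the quotient of the unit group R^× by the subgroup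
k^× of nonzero constants is a free abelian group of finite rank: for some n there is a surjective
group homomorphism from R^× onto ℤⁿ (written multiplicatively) whose kernel is exactly the image of
k^× under the structure map k → R. -/
theorem result (k : Type u) [Field k] [IsAlgClosed k]
    (X : Over (Spec (CommRingCat.of k))) [IsIntegral X.left] [IsSeparated X.hom] [LocallyOfFiniteType X.hom] [QuasiCompact X.hom] :
    ∃ (n : ℕ) (v : (Γ(X.left, ⊤))ˣ →* Multiplicative (Fin n → ℤ)), Function.Surjective v ∧
      v.ker = (Units.map (((Scheme.ΓSpecIso (CommRingCat.of k)).inv ≫ X.hom.appTop).hom : k →* Γ(X.left, ⊤))).range := by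
  obtain ⟨W, hW, hxW, -⟩ := exists_isAffineOpen_mem_and_subset (U := (⊤ : X.left.Opens)) (x := genericPoint X.left) trivial
  have : Nonempty W := ⟨⟨_, hxW⟩⟩
  letI := secAlg X W
  have : Algebra.FiniteType k Γ(X.left, W) := by
    have h1 : LocallyOfFiniteType (Spec.map (CommRingCat.ofHom (algebraMap k Γ(X.left, W)))) := by
      have := Over.w (chart X W hW)
      rw [show Spec.map (CommRingCat.ofHom (algebraMap k Γ(X.left, W))) = (specO k Γ(X.left, W)).hom from rfl, ← this, chart_left]
      infer_instance
    rw [HasRingHomProperty.Spec_iff (P := @LocallyOfFiniteType)] at h1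
    exact RingHom.finiteType_algebraMap.1 h1
  let res : Γ(X.left, ⊤) →+* Γ(X.left, W) := (X.left.presheaf.map (homOfLE le_top).op).hom
  have hres : Function.Injective res := map_injective_of_isIntegral _ (homOfLE le_top)
  have hresc : ∀ c : k, res (cst X c) = algebraMap k Γ(X.left, W) c := fun c => by
    rw [RingHom.algebraMap_toAlgebra]
    simp [res, cst, Scheme.Hom.appLE]
  obtain ⟨n, v₀, hv₀⟩ := exists_units_val k Γ(X.left, W)
  let v₁ : (Γ(X.left, ⊤))ˣ →* Multiplicative (Fin n → ℤ) := v₀.comp (Units.map res.toMonoidHom)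
  have hker : v₁.ker = (Units.map ((cst X : k →+* Γ(X.left, ⊤)) : k →* Γ(X.left, ⊤))).range := by
    ext a
    constructor
    · intro ha
      obtain ⟨c, hc⟩ := hv₀ _ (MonoidHom.mem_ker.1 ha)
      have hc' : cst X c = (a : Γ(X.left, ⊤)) := hres (by rw [hresc, hc]; rfl)
      have hc0 : c ≠ 0 := fun h => a.ne_zero (by rw [← hc', h, map_zero])
      exact ⟨Units.mk0 c hc0, Units.ext hc'⟩
    · rintro ⟨c, rfl⟩
      have hdiv : ∀ m : ℕ, ∀ c : kˣ, ∃ e : kˣ, e ^ (m + 1) = c := fun m c => by
        obtain ⟨e, he⟩ := IsAlgClosed.exists_pow_nat_eq (c : k) m.succ_pos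
        have he0 : e ≠ 0 := fun h => c.ne_zero (by rw [← he, h, zero_pow m.succ_ne_zero])
        exact ⟨Units.mk0 e he0, Units.ext (by simpa using he)⟩
      let w : kˣ →* Multiplicative (Fin n → ℤ) := v₁.comp (Units.map ((cst X : k →+* Γ(X.left, ⊤)) : k →* Γ(X.left, ⊤)))
      show w c = 1
      apply Multiplicative.toAdd.injective
      funext i
      have hdvd : ∀ m : ℕ, ((m + 1 : ℕ) : ℤ) ∣ Multiplicative.toAdd (w c) i := fun m => by
        obtain ⟨e, rfl⟩ := hdiv m c
        refine ⟨Multiplicative.toAdd (w e) i, ?_⟩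
        simp [map_pow, toAdd_pow]
      exact Int.eq_zero_of_abs_lt_dvd (hdvd (Multiplicative.toAdd (w c) i).natAbs) (by push_cast; linarith)
  let N : Submodule ℤ (Fin n → ℤ) := (MonoidHom.range v₁).toAddSubgroup'.toIntSubmodule
  obtain ⟨m, b⟩ := Submodule.basisOfPid (Pi.basisFun ℤ (Fin n)) N
  let v : (Γ(X.left, ⊤))ˣ →* Multiplicative (Fin m → ℤ) :=
    { toFun := fun a => Multiplicative.ofAdd (b.equivFun ⟨Multiplicative.toAdd (v₁ a), ⟨a, rfl⟩⟩)
      map_one' := by
        apply Multiplicative.toAdd.injective
        show b.equivFun ⟨Multiplicative.toAdd (v₁ 1), _⟩ = 0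
        rw [← b.equivFun.map_zero]; congr 1; exact Subtype.ext (congrArg Multiplicative.toAdd v₁.map_one)
      map_mul' := fun x y => by
        apply Multiplicative.toAdd.injective
        show b.equivFun ⟨Multiplicative.toAdd (v₁ (x * y)), _⟩ = b.equivFun _ + b.equivFun _
        rw [← b.equivFun.map_add]; congr 1; exact Subtype.ext (congrArg Multiplicative.toAdd (v₁.map_mul x y)) }
  refine ⟨m, v, fun y => ?_, ?_⟩
  · obtain ⟨⟨z, a, ha⟩, hz⟩ := b.equivFun.surjective (Multiplicative.toAdd y)
    refine ⟨a, Multiplicative.toAdd.injective ?_⟩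
    show b.equivFun _ = _
    rw [← hz]; congr 1; exact Subtype.ext (congrArg Multiplicative.toAdd ha)
  · refine Eq.trans ?_ hker
    ext a
    rw [MonoidHom.mem_ker, MonoidHom.mem_ker]
    constructor
    · intro h
      have h' : b.equivFun ⟨Multiplicative.toAdd (v₁ a), ⟨a, rfl⟩⟩ = b.equivFun 0 := by
        rw [map_zero]; exact congrArg Multiplicative.toAdd h
      exact Multiplicative.toAdd.injective (congrArg Subtype.val (b.equivFun.injective h'))
    · intro h
      apply Multiplicative.toAdd.injective
      show b.equivFun _ = 0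
      rw [← b.equivFun.map_zero]; congr 1; exact Subtype.ext (congrArg Multiplicative.toAdd h)
end Groth.Agent.S16113
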