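import Groth.Statements.S16115
import Groth.Agent.AlgGrp79.Chart
import Groth.Agent.AlgGrp79.Orbit
import Groth.Agent.AlgGrp79.ProdDense
import Groth.Agent.AlgGrp79.RigidityGlobal
import Groth.Agent.AlgGrp79.RosUnits

set_option autoImplicit false
universe u
open CategoryTheory MonoidalCategory CartesianMonoidalCategory MonObj GrpObj AlgebraicGeometry CategoryTheory.Limits
open AlgGrp

namespace Groth.Agent.S16115
open Groth.Agent.AlgGrp79 CategoryTheory.Limits
open scoped commutatorElement

/-- Over an algebraically closed field k, let G be a connected algebraic group (a smooth connected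
k-group scheme of finite type) and X an irreducible variety (an integral separated k-scheme of
finite type). Then every unit f of Γ(G × X, O) is of the form p₁^*(χ) · p₂^*(u) with χ a character
of G (a unit of Γ(G, O_G) with e^*(χ) = 1 and m^*(χ) = p₁^*(χ) · p₂^*(χ)) and u a unit of Γ(X, O_X).
(The published statement asserts that the product map from characters of G times units of X to units
of G × X is an isomorphism; injectivity is immediate by restriction to e × X and is not restated.) -/
theorem result (k : Type u) [Field k] [IsAlgClosed k]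
    (G X : Over (Spec (CommRingCat.of k))) [GrpObj G] [Smooth G.hom] [QuasiCompact G.hom] [ConnectedSpace ↥G.left]
    [IsIntegral X.left] [IsSeparated X.hom] [LocallyOfFiniteType X.hom] [QuasiCompact X.hom]
    (f : Γ((G ⊗ X).left, ⊤)) (hf : IsUnit f) :
    ∃ (χ : Γ(G.left, ⊤)) (u : Γ(X.left, ⊤)), IsUnit χ ∧ η[G].left.appTop χ = 1 ∧
      μ[G].left.appTop χ = (fst G G).left.appTop χ * (snd G G).left.appTop χ ∧ IsUnit u ∧
      f = (fst G X).left.appTop χ * (snd G X).left.appTop u := by
  have := isIntegral_grp G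
  obtain ⟨x₀⟩ := exists_kPt_of_nonempty X
  obtain ⟨e⟩ := kPt_iso (k := k)
  let c := gval (lift (1 : kPt k ⟶ G) x₀) f
  have hc : c ≠ 0 := gval_ne_zero _ hf
  have hu : ∀ {Z : Over (Spec (CommRingCat.of k))} (q : kPt k ⟶ Z), q ≫ toUnit Z ≫ e.inv = 𝟙 _ := fun q => by
    rw [← Category.assoc, toUnit_unique (q ≫ toUnit _) e.hom, Iso.hom_inv_id]
  let χ := (lift (𝟙 G) (toUnit G ≫ e.inv ≫ x₀)).left.appTop f * cst G c⁻¹
  let u := (lift (1 : X ⟶ G) (𝟙 X)).left.appTop f
  have hgu : ∀ q : kPt k ⟶ G, gval q χ = gval (lift q x₀) f * c⁻¹ := fun q => by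
    simp only [χ, gval_mul, gval_cst, ← gval_comp, comp_lift, Category.comp_id]
    rw [← Category.assoc (toUnit G), ← Category.assoc q, hu, Category.id_comp]
  have hχu : IsUnit χ := (isUnit_appTop _ hf).mul ((IsUnit.mk0 _ (inv_ne_zero hc)).map _)
  have hχ1 : η[G].left.appTop χ = 1 := eta_appTop_eq_one χ (by rw [hgu]; exact mul_inv_cancel₀ hc)
  refine ⟨χ, u, hχu, hχ1, isCharacter_of_unit χ hχu fun v => by rw [hχ1, gval_one], isUnit_appTop _ hf, ?_⟩
  have := reduced_prod G X
  have : LocallyOfFiniteType (G ⊗ X).hom := inferInstanceAs (LocallyOfFiniteType (pullback.fst G.hom X.hom ≫ G.hom))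
  refine eq_of_gval _ _ fun p => ?_
  simp only [gval_mul, ← gval_comp, hgu]
  have hx := gval_cross f hf (p ≫ fst G X) 1 (p ≫ snd G X) x₀
  have hp : lift (p ≫ fst G X) (p ≫ snd G X) = p := by ext : 1 <;> simp
  rw [hp] at hx
  simp only [u, ← gval_comp, comp_lift, Category.comp_id, MonObj.comp_one]
  field_simp
  linear_combination hx
end Groth.Agent.S16115
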