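import Groth.Statements.S16116
import Groth.Agent.AlgGrp79.Chart
import Groth.Agent.AlgGrp79.Orbit
import Groth.Agent.AlgGrp79.ProdDense
import Groth.Agent.AlgGrp79.RigidityGlobal
import Groth.Agent.AlgGrp79.RosUnits

set_option autoImplicit false
universe u
open CategoryTheory MonoidalCategory CartesianMonoidalCategory MonObj GrpObj AlgebraicGeometry CategoryTheory.Limits
open AlgGrp

namespace Groth.Agent.S16116
open Groth.Agent.AlgGrp79 CategoryTheory.Limits
open scoped commutatorElement

/-- Over an algebraically closed field k, let G be a connected algebraic group (a smooth connected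
k-group scheme of finite type) acting by σ on an irreducible variety X (an integral separated
k-scheme of finite type), and let f be a unit of Γ(X, O_X). Then f is a semi-invariant: there is a
unique character χ of G (a unit of Γ(G, O_G) with e^*(χ) = 1 and m^*(χ) = p₁^*(χ) · p₂^*(χ)) such
that σ^*(f) = p₁^*(χ) · p₂^*(f) in Γ(G × X, O). -/
theorem result (k : Type u) [Field k] [IsAlgClosed k]
    (G X : Over (Spec (CommRingCat.of k))) [GrpObj G] [Smooth G.hom] [QuasiCompact G.hom] [ConnectedSpace ↥G.left]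
    [IsIntegral X.left] [IsSeparated X.hom] [LocallyOfFiniteType X.hom] [QuasiCompact X.hom] (a : AlgGrp.Action G X)
    (f : Γ(X.left, ⊤)) (hf : IsUnit f) :
    ∃! χ : Γ(G.left, ⊤), IsUnit χ ∧ η[G].left.appTop χ = 1 ∧
      μ[G].left.appTop χ = (fst G G).left.appTop χ * (snd G G).left.appTop χ ∧
      a.act.left.appTop f = (fst G X).left.appTop χ * (snd G X).left.appTop f := by
  have := isIntegral_grp G
  obtain ⟨x₀⟩ := exists_kPt_of_nonempty X
  obtain ⟨e⟩ := kPt_iso (k := k)
  let c := gval x₀ f
  have hc : c ≠ 0 := gval_ne_zero _ hf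
  have hu : ∀ {Z : Over (Spec (CommRingCat.of k))} (q : kPt k ⟶ Z), q ≫ toUnit Z ≫ e.inv = 𝟙 _ := fun q => by
    rw [← Category.assoc, toUnit_unique (q ≫ toUnit _) e.hom, Iso.hom_inv_id]
  let χ := (lift (𝟙 G) (toUnit G ≫ e.inv ≫ x₀) ≫ a.act).left.appTop f * cst G c⁻¹
  have hgu : ∀ q : kPt k ⟶ G, gval q χ = gval (lift q x₀ ≫ a.act) f * c⁻¹ := fun q => by
    simp only [χ, gval_mul, gval_cst, ← gval_comp]
    rw [← Category.assoc q, comp_lift, Category.comp_id, ← Category.assoc (toUnit G), ← Category.assoc q, hu, Category.id_comp]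
  have hχu : IsUnit χ := (isUnit_appTop _ hf).mul ((IsUnit.mk0 _ (inv_ne_zero hc)).map _)
  have hχ1 : η[G].left.appTop χ = 1 := eta_appTop_eq_one χ (by rw [hgu, one_act']; exact mul_inv_cancel₀ hc)
  have := reduced_prod G X
  have : LocallyOfFiniteType (G ⊗ X).hom := inferInstanceAs (LocallyOfFiniteType (pullback.fst G.hom X.hom ≫ G.hom))
  refine ⟨χ, ⟨hχu, hχ1, isCharacter_of_unit χ hχu fun v => by rw [hχ1, gval_one], eq_of_gval _ _ fun p => ?_⟩, ?_⟩
  · simp only [gval_mul, ← gval_comp, hgu]
    have hx := gval_cross (a.act.left.appTop f) (isUnit_appTop _ hf) (p ≫ fst G X) 1 (p ≫ snd G X) x₀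
    have hp : lift (p ≫ fst G X) (p ≫ snd G X) = p := by ext : 1 <;> simp
    rw [hp] at hx
    simp only [← gval_comp, one_act'] at hx
    field_simp
    linear_combination hx
  · rintro χ' ⟨-, -, -, h⟩
    refine eq_of_gval _ _ fun q => ?_
    have hq := congrArg (gval (lift q x₀)) h
    simp only [gval_mul, ← gval_comp, lift_fst, lift_snd] at hq
    rw [hgu, hq]
    show gval q χ' = gval q χ' * c * c⁻¹
    rw [mul_inv_cancel_right₀ hc]
end Groth.Agent.S16116
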