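import Groth.Statements.S16117
import Groth.Agent.AlgGrp79.Chart
import Groth.Agent.AlgGrp79.Orbit
import Groth.Agent.AlgGrp79.ProdDense
import Groth.Agent.AlgGrp79.RigidityGlobal
import Groth.Agent.AlgGrp79.RosUnits

set_option autoImplicit false
universe u
open CategoryTheory MonoidalCategory CartesianMonoidalCategory MonObj GrpObj AlgebraicGeometry CategoryTheory.Limits
open AlgGrp

namespace Groth.Agent.S16117
open Groth.Agent.AlgGrp79 CategoryTheory.Limits
open scoped commutatorElement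

/-- Over an algebraically closed field k, let X and Y be irreducible varieties (integral separated
k-schemes of finite type). Then the product map on units is surjective: every unit of Γ(X × Y, O)
equals p₁^*(g) · p₂^*(h) for some units g of Γ(X, O_X) and h of Γ(Y, O_Y). -/
theorem result (k : Type u) [Field k] [IsAlgClosed k]
    (X Y : Over (Spec (CommRingCat.of k))) [IsIntegral X.left] [IsSeparated X.hom] [LocallyOfFiniteType X.hom] [QuasiCompact X.hom]
    [IsIntegral Y.left] [IsSeparated Y.hom] [LocallyOfFiniteType Y.hom] [QuasiCompact Y.hom]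
    (f : Γ((X ⊗ Y).left, ⊤)) (hf : IsUnit f) :
    ∃ (g : Γ(X.left, ⊤)) (h : Γ(Y.left, ⊤)), IsUnit g ∧ IsUnit h ∧
      f = (fst X Y).left.appTop g * (snd X Y).left.appTop h := by
  obtain ⟨x₀⟩ := exists_kPt_of_nonempty X
  obtain ⟨y₀⟩ := exists_kPt_of_nonempty Y
  obtain ⟨e⟩ := kPt_iso (k := k)
  let c := gval (lift x₀ y₀) f
  have hc : c ≠ 0 := gval_ne_zero _ hf
  let g := (lift (𝟙 X) (toUnit X ≫ e.inv ≫ y₀)).left.appTop f
  let h := (lift (toUnit Y ≫ e.inv ≫ x₀) (𝟙 Y)).left.appTop f * cst Y c⁻¹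
  refine ⟨g, h, isUnit_appTop _ hf, (isUnit_appTop _ hf).mul ((IsUnit.mk0 _ (inv_ne_zero hc)).map _), ?_⟩
  have := reduced_prod X Y
  have : LocallyOfFiniteType (X ⊗ Y).hom := inferInstanceAs (LocallyOfFiniteType (pullback.fst X.hom Y.hom ≫ X.hom))
  refine eq_of_gval _ _ fun p => ?_
  have hu : ∀ {Z : Over (Spec (CommRingCat.of k))} (q : kPt k ⟶ Z), q ≫ toUnit Z ≫ e.inv = 𝟙 _ := fun q => by
    rw [← Category.assoc, toUnit_unique (q ≫ toUnit _) e.hom, Iso.hom_inv_id]
  simp only [g, h, gval_mul, ← gval_comp, gval_cst, Category.assoc, comp_lift, Category.comp_id]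
  have hx := gval_cross f hf (p ≫ fst X Y) x₀ (p ≫ snd X Y) y₀
  have hp : lift (p ≫ fst X Y) (p ≫ snd X Y) = p := by ext : 1 <;> simp
  rw [hp] at hx
  have e1 : p ≫ fst X Y ≫ toUnit X ≫ e.inv ≫ y₀ = y₀ := by
    rw [← Category.assoc p, ← Category.assoc (toUnit X), ← Category.assoc (p ≫ fst X Y), hu, Category.id_comp]
  have e2 : p ≫ snd X Y ≫ toUnit Y ≫ e.inv ≫ x₀ = x₀ := by
    rw [← Category.assoc p, ← Category.assoc (toUnit Y), ← Category.assoc (p ≫ snd X Y), hu, Category.id_comp]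
  simp only [Category.assoc, e1, e2]
  field_simp
  linear_combination hx
end Groth.Agent.S16117
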