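import Groth.Statements.S16124
import Groth.Agent.S2324
-- import your own Groth.Agent.* helpers here

set_option autoImplicit false
universe u
open CategoryTheory MonoidalCategory CartesianMonoidalCategory MonObj GrpObj AlgebraicGeometry CategoryTheory.Limits
open AlgGrp

namespace Groth.Agent.S16124

/-- Over an algebraically closed field k, let X be a quasi-projective variety (a reduced separated
k-scheme, quasi-projective over k) with an action of a finite group Γ by k-automorphisms. Then X is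
covered by Γ-stable affine open subschemes: every point x of X lies in an affine open U with σ⁻¹(U)
= U for every σ in Γ. -/
theorem result (k : Type u) [Field k] [IsAlgClosed k]
    (X : Over (Spec (CommRingCat.of k))) [IsReduced X.left] [IsSeparated X.hom] (hX : RelProj.IsQuasiProjective X.hom)
    (Γgrp : Type u) [Group Γgrp] [Finite Γgrp] (ρ : Γgrp →* Aut X.left)
    (hρ : ∀ σ : Γgrp, (ρ σ).hom ≫ X.hom = X.hom) (x : ↥X.left) :
    ∃ U : X.left.Opens, x ∈ U ∧ IsAffineOpen U ∧ ∀ σ : Γgrp, (ρ σ).hom ⁻¹ᵁ U = U := by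
  obtain ⟨-, hqc, L, -, hamp⟩ := hX
  have htop : IsAffineOpen (⊤ : (Spec (CommRingCat.of k)).Opens) := isAffineOpen_top _
  let Y : Scheme.{u} := (X.hom ⁻¹ᵁ (⊤ : (Spec (CommRingCat.of k)).Opens)).toScheme
  let e : Y ⟶ X.left := (X.hom ⁻¹ᵁ (⊤ : (Spec (CommRingCat.of k)).Opens)).ι
  have : IsSeparated (terminal.from X.left) := by
    rw [← terminal.comp_from X.hom]; infer_instance
  haveI : X.left.IsSeparated := ⟨this⟩
  haveI : Y.IsSeparated := ⟨by rw [← terminal.comp_from e]; infer_instance⟩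
  haveI : CompactSpace Y := (hamp ⟨⊤, htop⟩).2.1
  let O : Set X.left := Set.range fun σ : Γgrp ↦ (ρ σ).hom x
  obtain ⟨n, s, hs, -, hWaff⟩ := Groth.Agent.S2324.result Y _ (hamp ⟨⊤, htop⟩) (e ⁻¹' O)
    ((Set.finite_range _).preimage (X.hom ⁻¹ᵁ _).ι.isOpenEmbedding.injective.injOn) ⊤
    (Set.subset_univ _)
  let W : X.left.Opens := e ''ᵁ CohB1.genLocus _ s
  have hW : IsAffineOpen W := hWaff.image_of_isOpenImmersion e
  have hxW : ∀ σ, (ρ σ).hom x ∈ W := fun σ ↦
    ⟨⟨(ρ σ).hom x, trivial⟩, hs ⟨σ, rfl⟩, rfl⟩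
  have : Fintype Γgrp := Fintype.ofFinite _
  refine ⟨⨅ σ, (ρ σ).hom ⁻¹ᵁ W, ?_,
    IsAffineOpen.iInf fun σ ↦ haveI := (ρ σ).isIso_hom; hW.preimage_of_isIso _, fun τ ↦ ?_⟩
  · rw [← SetLike.mem_coe, TopologicalSpace.Opens.coe_iInf]
    exact Set.mem_iInter.mpr hxW
  · apply TopologicalSpace.Opens.ext
    ext y
    simp only [TopologicalSpace.Opens.map_coe, TopologicalSpace.Opens.coe_iInf, Set.mem_preimage,
      Set.mem_iInter, SetLike.mem_coe]
    have hmul : ∀ σ, (ρ (σ * τ)).hom y = (ρ σ).hom ((ρ τ).hom y) := fun σ ↦ by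
      rw [map_mul]; rfl
    refine ⟨fun h σ ↦ ?_, fun h σ ↦ ?_⟩
    · have h1 := h (σ * τ⁻¹)
      change (ρ (σ * τ⁻¹)).hom ((ρ τ).hom y) ∈ W at h1
      change (ρ σ).hom y ∈ W
      rw [← Scheme.Hom.comp_apply] at h1
      change (ρ (σ * τ⁻¹) * ρ τ).hom y ∈ W at h1
      rwa [← map_mul, inv_mul_cancel_right] at h1
    · change (ρ σ).hom ((ρ τ).hom y) ∈ W
      rw [← hmul]
      exact h _

end Groth.Agent.S16124
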