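import Groth.Statements.S16126
import Groth.Agent.AlgGrp33.Coord
import Groth.Agent.AlgGrp33.CentralChar
-- import your own Groth.Agent.* helpers here

set_option autoImplicit false
universe u
open CategoryTheory MonoidalCategory CartesianMonoidalCategory MonObj GrpObj AlgebraicGeometry CategoryTheory.Limits
open AlgGrp

namespace Groth.Agent.S16126

open Groth.Agent in
theorem central_coords {k : Type u} [Field k] {A B : Type u} [CommRing A] [HopfAlgebra k A] [CommRing B]
    [HopfAlgebra k B] {G Z : Over (Spec (CommRingCat.of k))} [GrpObj G] [GrpObj Z]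
    (ψ : GMod80.sp k A ≅ G) [IsMonHom ψ.hom] (ψB : GMod80.sp k B ≅ Z) [IsMonHom ψB.hom]
    (i : Z ⟶ G) [IsMonHom i]
    (hcent : ∀ (T : Over (Spec (CommRingCat.of k))) (t : T ⟶ Z) (g : T ⟶ G), (t ≫ i) * g = g * (t ≫ i)) (a : A) :
    (GMod80.pull ψ ψB i).toLinearMap.lTensor A (CoalgebraStruct.comul (R := k) a) =
      TensorProduct.comm k _ A ((GMod80.pull ψ ψB i).toLinearMap.rTensor A (CoalgebraStruct.comul (R := k) a)) := by
  let l : WithConv (A →ₐ[k] TensorProduct k A B) := WithConv.toConv Algebra.TensorProduct.includeLeft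
  let t : WithConv (B →ₐ[k] TensorProduct k A B) := WithConv.toConv Algebra.TensorProduct.includeRight
  have h := hcent _ (GMod80.e ψB _ t) (GMod80.e ψ _ l)
  rw [GMod80.e_comp ψ ψB i t, ← map_mul, ← map_mul] at h
  have h1 := congrArg (fun q : WithConv (A →ₐ[k] _) => q.ofConv a) ((GMod80.e ψ _).injective h)
  simp only [AlgHom.convMul_apply] at h1
  refine Eq.trans ?_ (h1.symm.trans ?_) <;>
    · generalize CoalgebraStruct.comul (R := k) a = z
      induction z using TensorProduct.induction_on with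
      | zero => simp [MonoidAlgebra.one_def]
      | add p q hp hq => simp only [map_add, hp, hq]
      | tmul p q => simp [l, t]

open Groth.Agent in
theorem key_eq {k : Type u} [Field k] {A : Type u} [CommRing A] [HopfAlgebra k A]
    {G : Over (Spec (CommRingCat.of k))} [GrpObj G] (ψ : GMod80.sp k A ≅ G) [IsMonHom ψ.hom]
    (ψB : GMod80.sp k (MonoidAlgebra k (Multiplicative ℤ)) ≅ Red.Gm (Spec (CommRingCat.of k))) [IsMonHom ψB.hom]
    (hval : ∀ (R : Type u) [CommRing R] [Algebra k R] (f : WithConv (MonoidAlgebra k (Multiplicative ℤ) →ₐ[k] R)),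
      (Scheme.ΓSpecIso (CommRingCat.of R)).hom.hom (Red.gmFn (GMod80.e ψB R f)) =
        f.ofConv (MonoidAlgebra.single (Multiplicative.ofAdd (1 : ℤ)) 1))
    (i : Red.Gm (Spec (CommRingCat.of k)) ⟶ G) (χ : G ⟶ Red.Gm (Spec (CommRingCat.of k))) (D : A)
    (hχv : ∀ (B : Type u) [CommRing B] [Algebra k B] (g : WithConv (A →ₐ[k] B)),
      VecGrp.chiVal χ (GMod80.e ψ B g) = g.ofConv D) (r : ℕ)
    (hπD : GMod80.pull ψ ψB i D = MonoidAlgebra.single (Multiplicative.ofAdd (1 : ℤ)) 1 ^ r) :
    i ≫ χ = (𝟙 (Red.Gm (Spec (CommRingCat.of k)))) ^ r := by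
  let u := GMod80.e ψB _ (WithConv.toConv (AlgHom.id k (MonoidAlgebra k (Multiplicative ℤ))))
  have h1 : u ≫ (i ≫ χ) = u ^ r := by
    refine (Category.assoc u i χ).symm.trans ?_
    rw [Groth.Agent.GMod80.e_comp ψ ψB i]
    apply Groth.Agent.RedPts82.gmFn_injective
    apply (ConcreteCategory.bijective_of_isIso (Scheme.ΓSpecIso (CommRingCat.of (MonoidAlgebra k (Multiplicative ℤ)))).hom).1
    refine (hχv _ _).trans ?_
    refine Eq.trans ?_ ((map_pow (Groth.Agent.GMod80.e ψB _) (WithConv.toConv (AlgHom.id k _)) r) ▸ (hval _ _).symm)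
    have hpow : ∀ n : ℕ, ((WithConv.toConv (AlgHom.id k (MonoidAlgebra k (Multiplicative ℤ)))) ^ n).ofConv
        (MonoidAlgebra.single (Multiplicative.ofAdd (1 : ℤ)) 1) =
          (MonoidAlgebra.single (Multiplicative.ofAdd (1 : ℤ)) (1 : k)) ^ n := by
      intro n
      induction n with
      | zero => simp [MonoidAlgebra.one_def]
      | succ n ih =>
        rw [pow_succ, AlgHom.convMul_apply, (MonoidAlgebra.isGroupLikeElem_single_one _).comul_eq_tmul_self]
        simp [ih, pow_succ]
    exact hπD.trans (hpow r).symm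
  refine (cancel_epi ψB.hom).1 ?_
  rw [MonObj.comp_pow, Category.comp_id, ← GMod80.e_id ψB]
  exact h1

/-- Over an algebraically closed field k, let E and G be linear algebraic groups (affine smooth k-group
schemes) with G connected, i : 𝔾_m → E a homomorphism which is a closed immersion with central
image, and f : E → G a flat surjective homomorphism with kernel i (a central extension 1 → 𝔾_m → E →
G → 1). Then there exist a character χ : E → 𝔾_m and an integer n ≥ 1 such that χ ∘ i is the n-th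
power map of 𝔾_m: for every point t of 𝔾_m with values in a k-scheme T, χ(i(t)) = tⁿ in the group of
T-points of 𝔾_m. (The published lemma is stated in a setting where all groups are linear; for a
connected G that is not linear the conclusion can fail.) -/
theorem result (k : Type u) [Field k] [IsAlgClosed k]
    (E G : Over (Spec (CommRingCat.of k))) [GrpObj E] [IsAffine E.left] [Smooth E.hom]
    [GrpObj G] [IsAffine G.left] [Smooth G.hom] [ConnectedSpace ↥G.left]
    (i : Red.Gm (Spec (CommRingCat.of k)) ⟶ E) [IsMonHom i] [IsClosedImmersion i.left]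
    (hcent : ∀ (T : Over (Spec (CommRingCat.of k))) (t : T ⟶ Red.Gm (Spec (CommRingCat.of k))) (g : T ⟶ E),
      (t ≫ i) * g = g * (t ≫ i))
    (f : E ⟶ G) [IsMonHom f] [Flat f.left] [Surjective f.left] (hker : AlgGrp.IsKernel i f) :
    ∃ (χ : E ⟶ Red.Gm (Spec (CommRingCat.of k))) (n : ℕ), IsMonHom χ ∧ 1 ≤ n ∧
      ∀ (T : Over (Spec (CommRingCat.of k))) (t : T ⟶ Red.Gm (Spec (CommRingCat.of k))), (t ≫ i) ≫ χ = t ^ n := by
  classical
  haveI := Groth.Agent.AlgGrp33.isAffine_Gm (k := k)
  obtain ⟨A, _, _, ψ, _⟩ := Groth.Agent.GMod80.exists_coord (k := k) E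
  obtain ⟨ψB, _, hval⟩ := Groth.Agent.AlgGrp33.exists_coord_Gm (k := k)
  let π := Groth.Agent.GMod80.pullBialg ψ ψB i
  have hsurj : Function.Surjective π := Groth.Agent.GMod80.pull_surjective ψ ψB i
  obtain ⟨D, r, hD, hD1, hr, hπD⟩ := Groth.Agent.AlgGrp33.CentralChar.exists_groupLike_Gm
    π hsurj (central_coords ψ ψB i hcent)
  obtain ⟨χ, hχ, hχv⟩ := Groth.Agent.GMod80.exists_char ψ D hD hD1
  refine ⟨χ, r, hχ, hr, ?_⟩
  have key := key_eq ψ ψB hval i χ D hχv r hπD
  intro T t
  rw [Category.assoc, key, MonObj.comp_pow, Category.comp_id]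

end Groth.Agent.S16126
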