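import Groth.Statements.S16127
import Groth.Agent.AlgGrp79.Act
import Groth.Agent.AlgGrp79.Pullback
import Groth.Agent.AlgGrp79.Cover
import Groth.Agent.AlgGrp79.Derived

set_option autoImplicit false
universe u
open CategoryTheory MonoidalCategory CartesianMonoidalCategory MonObj GrpObj AlgebraicGeometry CategoryTheory.Limits
open AlgGrp

namespace Groth.Agent.S16127
open Groth.Agent.AlgGrp79 CategoryTheory.Limits
open scoped commutatorElement

/-- Over an algebraically closed field k, let G be an algebraic group (a smooth k-group scheme of finite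
type) acting by σ on a variety X, and let f : X → Y be a principal G-bundle over a variety Y (X, Y
reduced separated k-schemes of finite type; f flat and surjective, the square σ, p₂ : G × X → X, f,
f cartesian). Then f^* identifies Γ(Y, O_Y) with the invariants Γ(X, O_X)^G: f^* on global sections
is injective and its range is the set of global functions s on X with σ^*(s) = p₂^*(s). -/
theorem result (k : Type u) [Field k] [IsAlgClosed k]
    (G X Y : Over (Spec (CommRingCat.of k))) [GrpObj G] [Smooth G.hom] [QuasiCompact G.hom]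
    [IsReduced X.left] [IsSeparated X.hom] [LocallyOfFiniteType X.hom] [QuasiCompact X.hom]
    [IsReduced Y.left] [IsSeparated Y.hom] [LocallyOfFiniteType Y.hom] [QuasiCompact Y.hom]
    (a : AlgGrp.Action G X) (f : X ⟶ Y) [Flat f.left] [Surjective f.left]
    (hsq : IsPullback a.act.left (snd G X).left f.left f.left) :
    Function.Injective (f.left.appTop) ∧
      Set.range (f.left.appTop) = {s : Γ(X.left, ⊤) | a.act.left.appTop s = (snd G X).left.appTop s} := by
  have := lfp_left f
  let P := Spec (CommRingCat.of (MvPolynomial PUnit.{u + 1} (ULift.{u} ℤ)))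
  have hP : ∀ (Z : Scheme.{u}) (s : Γ(Z, ⊤)), ∃ φ : Z ⟶ P,
      φ.appTop ((Scheme.ΓSpecIso _).inv (MvPolynomial.X PUnit.unit)) = s := by
    intro Z s
    let ψ : MvPolynomial PUnit.{u + 1} (ULift.{u} ℤ) →+* Γ(Z, ⊤) :=
      MvPolynomial.eval₂Hom ((Int.castRingHom _).comp ULift.ringEquiv.toRingHom) fun _ => s
    refine ⟨Z.toSpecΓ ≫ Spec.map (CommRingCat.ofHom ψ), ?_⟩
    rw [Scheme.Hom.comp_appTop, ← ConcreteCategory.comp_apply, ← Category.assoc, ← Scheme.ΓSpecIso_inv_naturality]
    simp [ψ, Scheme.toSpecΓ_appTop]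
  have hP' : ∀ (Z : Scheme.{u}) (φ ψ : Z ⟶ P),
      φ.appTop ((Scheme.ΓSpecIso _).inv (MvPolynomial.X PUnit.unit)) = ψ.appTop ((Scheme.ΓSpecIso _).inv (MvPolynomial.X PUnit.unit)) → φ = ψ := by
    intro Z φ ψ h
    apply ext_to_Spec
    apply CommRingCat.hom_ext
    apply MvPolynomial.ringHom_ext
    · intro r
      obtain ⟨r⟩ := r
      exact RingHom.congr_fun (RingHom.ext_int
        (((((Scheme.ΓSpecIso _).inv ≫ φ.appTop).hom).comp MvPolynomial.C).comp ULift.ringEquiv.symm.toRingHom)
        (((((Scheme.ΓSpecIso _).inv ≫ ψ.appTop).hom).comp MvPolynomial.C).comp ULift.ringEquiv.symm.toRingHom)) r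
    · intro _
      exact h
  refine ⟨fun s t hst => ?_, Set.eq_of_subset_of_subset ?_ ?_⟩
  · obtain ⟨φ, hφ⟩ := hP _ s
    obtain ⟨ψ, hψ⟩ := hP _ t
    have : φ = ψ := by
      rw [← cancel_epi f.left]
      apply hP'
      simpa [hφ, hψ] using hst
    rw [← hφ, ← hψ, this]
  · rintro _ ⟨t, rfl⟩
    have := congrArg (fun q => q.appTop t) hsq.w
    simpa using this
  · intro s hs
    obtain ⟨φ, hφ⟩ := hP _ s
    have hc : a.act.left ≫ φ = (snd G X).left ≫ φ := hP' _ _ _ (by simpa [hφ] using hs)
    refine ⟨(EffectiveEpi.desc f.left φ fun g₁ g₂ e => ?_).appTop ((Scheme.ΓSpecIso _).inv (MvPolynomial.X PUnit.unit)), ?_⟩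
    · rw [← hsq.lift_fst g₁ g₂ e, Category.assoc, hc, ← Category.assoc, hsq.lift_snd]
    · rw [← ConcreteCategory.comp_apply, ← Scheme.Hom.comp_appTop, EffectiveEpi.fac, hφ]
end Groth.Agent.S16127
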