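import Groth.Statements.S1613
import Groth.Agent.CrvPic30.Incl


set_option autoImplicit false
universe u
open CategoryTheory CategoryTheory.Limits AlgebraicGeometry
open Curves

namespace Groth.Agent.S1613

open FunFld Groth.Agent.CrvPic30
attribute [local instance] CrvPic30.ffAlg

/-- Let X be a smooth proper connected curve over an algebraically closed field k, of genus g ≥ 2. Then
every O_X-linear map from the sheaf of differentials Ω_{X/k} to O_X is zero (X has no nonzero
k-derivations of its structure sheaf). -/
theorem result (k : Type u) [Field k] [IsAlgClosed k] (X : Scheme.{u}) [X.Over (Spec (CommRingCat.of k))]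
    (hX : Curve.IsSmoothProperCurve k X (X ↘ (Spec (CommRingCat.of k)))) (hg : 2 ≤ Curv2.genus k X)
    (θ : Omega.sheaf (X ↘ (Spec (CommRingCat.of k))) ⟶ Coh.structureModule X) : θ = 0 := by
  have := hX.1
  have := hX.2.1
  have := hX.2.2.1
  have h := setup_of_smooth_algClosed (k := k) (C := X) hX.2.2.2
  obtain ⟨W, hW, ⟨eW⟩⟩ := h.nonempty_iso_omega
  by_contra hθ
  have := h.isNoetherian
  have hle := (VarCurve.CurveCoh.deg_le_of_hom h.curveCoh h.dim.le h.isInvertible_omega
    EGA73.isInvertible_structureModule θ hθ).1
  rw [h.deg_of_iso eW, FF30.deg_canonical h.ff hW, Crv77.CurveCoh.deg_structureModule] at hle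
  rw [h.genus_eq] at hg
  omega

end Groth.Agent.S1613
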