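import Groth.Statements.S16131
import Groth.Agent.AlgGrp79.Orbit
import Groth.Agent.AlgGrp79.Image
import Groth.Agent.AlgGrp79.OrbitDim

set_option autoImplicit false
universe u
open CategoryTheory MonoidalCategory CartesianMonoidalCategory MonObj GrpObj AlgebraicGeometry CategoryTheory.Limits
open AlgGrp

namespace Groth.Agent.S16131
open Groth.Agent.AlgGrp79 CategoryTheory.Limits
open scoped commutatorElement

/-- Over an algebraically closed field k, let G be an algebraic group (a smooth k-group scheme of finite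
type, not necessarily connected) acting on a variety X (a reduced separated k-scheme of finite
type), and let x be a k-point of X with orbit G · x (the image of the orbit map). Then the boundary
cl(G · x) ∖ G · x has strictly smaller Krull dimension than G · x (both with the subspace topology
from X); so the orbit closure is the union of the orbit and of orbits of smaller dimension. -/
theorem result (k : Type u) [Field k] [IsAlgClosed k]
    (G X : Over (Spec (CommRingCat.of k))) [GrpObj G] [Smooth G.hom] [QuasiCompact G.hom]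
    [IsReduced X.left] [IsSeparated X.hom] [LocallyOfFiniteType X.hom] [QuasiCompact X.hom]
    (a : AlgGrp.Action G X) (x : 𝟙_ (Over (Spec (CommRingCat.of k))) ⟶ X) :
    topologicalKrullDim ↥(closure (Set.range (a.orbitMap x).left.base) \ Set.range (a.orbitMap x).left.base) <
      topologicalKrullDim ↥(Set.range (a.orbitMap x).left.base) := by
  let α := a.orbitMap x
  have := Var76.FibreBound.noetherianSpace G.hom
  have := Var76.FibreBound.noetherianSpace X.hom
  let O : Set X.left := Set.range α.left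
  have hO : IsLocallyClosed O := Groth.Agent.S7984.result k G X a x
  show topologicalKrullDim ↥(closure O \ O) < topologicalKrullDim ↥O
  obtain ⟨g₀⟩ : Nonempty G.left := ⟨(η[G]).left (IsLocalRing.closedPoint k)⟩
  have hne : ∀ ep ∈ O, (WC97.tdegN X.hom ep : WithBot ℕ∞) ≤ topologicalKrullDim ↥O := fun ep hep =>
    tdegN_le_dim_of_locallyClosed X.hom hO hep
  have hclosed : IsClosed (closure O \ O) := by
    obtain ⟨U, hU, hUO⟩ : ∃ U : Set X.left, IsOpen U ∧ O = U ∩ closure O := by
      obtain ⟨U, C, hU, hC, h⟩ := hO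
      exact ⟨U, hU, le_antisymm (fun z hz => ⟨(h ▸ hz : z ∈ U ∩ C).1, subset_closure hz⟩)
        (fun z hz => h ▸ ⟨hz.1, hC.closure_subset_iff.2 (h ▸ Set.inter_subset_right) hz.2⟩)⟩
    have : closure O \ O = closure O \ U := by
      ext z
      exact ⟨fun h => ⟨h.1, fun hu => h.2 (hUO ▸ ⟨hu, h.1⟩)⟩, fun h => ⟨h.1, fun ho => h.2 (hUO ▸ ho : z ∈ U ∩ closure O).1⟩⟩
    rw [this]; exact isClosed_closure.sdiff hU
  rcases Set.eq_empty_or_nonempty (closure O \ O) with he | hne'
  · have : IsEmpty (TopologicalSpace.IrreducibleCloseds ↥(∅ : Set X.left)) := ⟨fun s => s.isIrreducible.nonempty.elim fun z _ => isEmptyElim z⟩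
    rw [he, topologicalKrullDim, Order.krullDim_eq_bot]
    exact lt_of_lt_of_le (WithBot.bot_lt_coe _) (hne _ ⟨g₀, rfl⟩)
  obtain ⟨d, hd⟩ : ∃ d : ℕ, topologicalKrullDim ↥(closure O \ O) ≤ d ∧ ∃ ep ∈ O, d < WC97.tdegN X.hom ep := by
    classical
    have hbdd : BddAbove ((fun y => WC97.tdegN X.hom y) '' (closure O \ O)) := by
      obtain ⟨x₀, -, hx₀⟩ := @Var76.FibreBound.exists_tdegN_eq_dim k _ X.left X.hom _ ⟨(α.left g₀)⟩ _
      refine ⟨WC97.tdegN X.hom x₀, ?_⟩
      rintro _ ⟨y, -, rfl⟩
      have := (Var76.FibreBound.tdegN_le_dim X.hom y).trans hx₀.le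
      exact_mod_cast this
    obtain ⟨y, hy, hyd⟩ := Nat.sSup_mem (hne'.image _) hbdd
    refine ⟨WC97.tdegN X.hom y, Var76.FibreBound.dim_le_of_forall X.hom hclosed fun z hz => ?_, ?_⟩
    · simp only at hyd
      rw [hyd]
      exact Nat.cast_le.2 (le_csSup hbdd ⟨z, hz, rfl⟩)
    · obtain ⟨ep, hep, hepy⟩ := closure_range_orbit α.left hy.1
      exact ⟨ep, hep, Var76.FibreBound.tdegN_lt X.hom hepy (fun h => hy.2 (h ▸ hep))⟩
  obtain ⟨hd1, ep, hep, hlt⟩ := hd
  exact lt_of_le_of_lt hd1 (lt_of_lt_of_le (Nat.cast_lt.2 hlt) (hne ep hep))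
end Groth.Agent.S16131
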