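import Groth.Statements.S16137
import Groth.Agent.VB30.Basic


set_option autoImplicit false
universe u
open CategoryTheory CategoryTheory.Limits AlgebraicGeometry
open VBCurve

namespace Groth.Agent.S16137
set_option backward.isDefEq.respectTransparency.types false

/-- Let k be an algebraically closed field of characteristic zero and X a smooth proper geometrically
connected curve over k (topological dimension one) of genus at least 2 (the text's standing setting:
a smooth projective complex curve of genus at least 2). Let 0 → F → E → G → 0 be a short exact
sequence of O_X-modules in which E is finite locally free of rank r ≥ 1 and slope-stable (deg F' · r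
< deg E · r' for every finite locally free submodule F' of E of rank r' with 0 < r' < r). Then
Hom(G, F) = 0: every morphism from the quotient G to the submodule F is zero. (The published
statement writes the conclusion as h^0(G^* ⊗ F) = 0.) -/
theorem result (k : Type u) [Field k] [IsAlgClosed k] [CharZero k]
    (X : Scheme.{u}) [X.Over (Spec (CommRingCat.of k))]
    [IsProper (X ↘ Spec (CommRingCat.of k))] [Smooth (X ↘ Spec (CommRingCat.of k))]
    [GeometricallyConnected (X ↘ Spec (CommRingCat.of k))] (hdim : topologicalKrullDim ↥X = 1)
    (hg : 2 ≤ Curv2.genus k X)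
    (T : ShortComplex X.Modules) (hT : T.ShortExact)
    (r : ℕ) (hr : 0 < r) (hE : FlatMod.IsFinLocFreeOfRank r T.X₂)
    (hst : ModFun.IsSlopeStable k X T.X₂ r)
    (φ : T.X₃ ⟶ T.X₁) : φ = 0 := by
  have := VB30.isIntegral_of_geomConnected k X
  have hc := VB30.cur_of_smooth k X hdim
  have lE := VB30.isFinLocFree_of_rank hE
  have hs := VB30.st_of_slope hE hst
  have := hT.mono_f
  have := hT.epi_g
  have hss := hc.ss_of_st lE hs
  have h0 : T.g ≫ φ ≫ T.f = 0 := by
    by_contra hne
    have := hc.isIso_of_ne_zero lE lE hss hss rfl (Or.inl ⟨hs, hs⟩) _ hne
    have : Epi T.f := by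
      have : Epi ((T.g ≫ φ) ≫ T.f) := by rw [Category.assoc]; infer_instance
      exact epi_of_epi (T.g ≫ φ) T.f
    have hg0 : T.g = 0 := by rw [← cancel_epi T.f, T.zero, comp_zero]
    exact hne (by rw [hg0, zero_comp])
  rw [← cancel_mono T.f, ← cancel_epi T.g, h0, zero_comp, comp_zero]

end Groth.Agent.S16137
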