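import Groth.Statements.S1615

set_option autoImplicit false
universe u
open CategoryTheory CategoryTheory.Limits AlgebraicGeometry
open Constr

namespace Groth.Agent.S1615

/-- For a graded ring A, quasi-compactness of Proj A is equivalent to the existence of finitely many
homogeneous elements of positive degree generating an ideal whose radical contains the irrelevant
ideal A_+. -/
theorem result {R A : Type u} [CommRing R] [CommRing A] [Algebra R A] (𝒜 : ℕ → Submodule R A) [GradedAlgebra 𝒜] :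
    CompactSpace ↥(Proj 𝒜) ↔ ∃ s : Finset A, (∀ f ∈ s, ∃ d : ℕ, 0 < d ∧ f ∈ 𝒜 d) ∧
      (HomogeneousIdeal.irrelevant 𝒜).toIdeal ≤ (Ideal.span (s : Set A)).radical := by
  classical
  let I := {f : A // ∃ d : ℕ, 0 < d ∧ f ∈ 𝒜 d}
  have hcov : ⨆ f : I, Proj.basicOpen 𝒜 f.1 = ⊤ := by
    refine Proj.iSup_basicOpen_eq_top 𝒜 _ fun x hx => ?_
    rw [← DirectSum.sum_support_decompose 𝒜 x]
    refine Submodule.sum_mem _ fun i hi => Ideal.subset_span ⟨⟨_, i, ?_, SetLike.coe_mem _⟩, rfl⟩
    by_contra hi0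
    obtain rfl : i = 0 := by omega
    rw [DFinsupp.mem_support_iff] at hi
    exact hi (Subtype.ext (by simpa [HomogeneousIdeal.mem_irrelevant_iff, GradedRing.proj_apply] using hx))
  constructor
  · intro hc
    obtain ⟨t, ht⟩ := isCompact_univ.elim_finite_subcover (fun f : I => (Proj.basicOpen 𝒜 f.1 : Set (Proj 𝒜)))
      (fun f => (Proj.basicOpen 𝒜 f.1).2) (fun x _ => by
        obtain ⟨i, hi⟩ := TopologicalSpace.Opens.mem_iSup.mp (hcov.ge (Set.mem_univ x))
        exact Set.mem_iUnion.mpr ⟨i, hi⟩)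
    refine ⟨t.image Subtype.val, fun f hf => ?_, ?_⟩
    · obtain ⟨i, -, rfl⟩ := Finset.mem_image.mp hf
      exact i.2
    · have hI : (Ideal.span ((t.image Subtype.val : Finset A) : Set A)).IsHomogeneous 𝒜 := by
        refine Ideal.homogeneous_span 𝒜 _ fun f hf => ?_
        obtain ⟨i, -, rfl⟩ := Finset.mem_image.mp hf
        exact ⟨i.2.choose, i.2.choose_spec.2⟩
      rw [hI.radical_eq]
      refine le_sInf fun J hJ => ?_
      by_contra hirr
      obtain ⟨hJh, hJs, hJp⟩ := hJ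
      let x : Proj 𝒜 := (⟨⟨J, hJh⟩, hJp, hirr⟩ : ProjectiveSpectrum 𝒜)
      obtain ⟨i, hit, hix⟩ := Set.mem_iUnion₂.mp (ht (Set.mem_univ x))
      exact (Proj.mem_basicOpen 𝒜 i.1 x).mp hix
        (hJs (Ideal.subset_span (Finset.mem_image.mpr ⟨i, hit, rfl⟩)))
  · rintro ⟨s, hs, hle⟩
    refine ⟨?_⟩
    have hu : (Set.univ : Set (Proj 𝒜)) = ⋃ f ∈ s, (Proj.basicOpen 𝒜 f : Set (Proj 𝒜)) := by
      refine (Set.eq_univ_of_forall fun x => ?_).symm
      by_contra hx
      simp only [Set.mem_iUnion, SetLike.mem_coe, Proj.mem_basicOpen, not_exists, not_not] at hx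
      exact x.not_irrelevant_le (hle.trans ((Ideal.IsPrime.radical_le_iff x.isPrime).mpr (Ideal.span_le.mpr hx)))
    rw [hu]
    refine s.finite_toSet.isCompact_biUnion fun f hf => ?_
    obtain ⟨d, hd, hfd⟩ := hs f hf
    exact (Proj.isAffineOpen_basicOpen 𝒜 f hfd hd).isCompact

end Groth.Agent.S1615
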