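import Groth.Statements.S16153
import Mathlib

set_option autoImplicit false
universe u
open SpinRat

namespace Groth.Agent.S16153

set_option maxHeartbeats 4000000

open MvPolynomial in
/-- In the bigraded polynomial ring k[x0, x1, y0, y1] of the quadric surface (variables X 0, X 1, X 2, X
3 in this order), over a field k of characteristic zero, let iota exchange x_i with y_i, let l = x0
y1 - x1 y0 be the diagonal, h1 = x0 (y1 - y0) + y0 (x1 - x0), h2 = x1 (y0 - y1) + y1 (x0 - x1), h3 =
x0 y1 + x1 y0, h = h1 + h2 + h3, h13 = h1 - h3, h23 = h2 - h3, and let c = x0 x1 (x0 - x1) y0 y1 (y0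
- y1) be the product of the six rulings through the three diagonal points (1:0)x(1:0), (0:1)x(0:1),
(1:1)x(1:1). Let I be the space of forms of bidegree (3,3) whose restriction to the diagonal is
divisible by (x0 x1 (x0 - x1))^2, that is, the bidegree-(3,3) forms through the length-six subscheme
of the diagonal doubled at those three points. Then the iota-invariant forms in I are exactly the
span of c, l^2 h, l^2 h13, l^2 h23; the iota-anti-invariant forms in I are exactly the span of l
h^2, l h h13, l h h23, l h13^2, l h23^2, l h13 h23; and these ten forms are linearly independent.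
(The source works over the complex numbers and writes the two eigenspaces as direct sums of the
displayed pieces; the six-line form c is read as the product of the two cubic factors.) -/
theorem result
    (k : Type u) [Field k] [CharZero k]
    (l h1 h2 h3 h h13 h23 c : MvPolynomial (Fin 4) k)
    (hl : l = X 0 * X 3 - X 1 * X 2)
    (hh1 : h1 = X 0 * (X 3 - X 2) + X 2 * (X 1 - X 0))
    (hh2 : h2 = X 1 * (X 2 - X 3) + X 3 * (X 0 - X 1))
    (hh3 : h3 = X 0 * X 3 + X 1 * X 2)
    (hh : h = h1 + h2 + h3) (hh13 : h13 = h1 - h3) (hh23 : h23 = h2 - h3)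
    (hc : c = X 0 * X 1 * (X 0 - X 1) * (X 2 * X 3 * (X 2 - X 3)))
    (I : Submodule k (MvPolynomial (Fin 4) k))
    (hI : ∀ f, f ∈ I ↔
      (f.IsWeightedHomogeneous (![1, 1, 0, 0] : Fin 4 → ℕ) 3 ∧
       f.IsWeightedHomogeneous (![0, 0, 1, 1] : Fin 4 → ℕ) 3 ∧
       (X 0 * X 1 * (X 0 - X 1)) ^ 2 ∣ rename (![0, 1, 0, 1] : Fin 4 → Fin 2) f)) :
    (∀ f, (f ∈ I ∧ rename (![2, 3, 0, 1] : Fin 4 → Fin 4) f = f) ↔
        f ∈ Submodule.span k ({c, l ^ 2 * h, l ^ 2 * h13, l ^ 2 * h23} : Set (MvPolynomial (Fin 4) k))) ∧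
    (∀ f, (f ∈ I ∧ rename (![2, 3, 0, 1] : Fin 4 → Fin 4) f = -f) ↔
        f ∈ Submodule.span k ({l * h ^ 2, l * h * h13, l * h * h23, l * h13 ^ 2, l * h23 ^ 2, l * h13 * h23} :
          Set (MvPolynomial (Fin 4) k))) ∧
    LinearIndependent k
      ![c, l ^ 2 * h, l ^ 2 * h13, l ^ 2 * h23, l * h ^ 2, l * h * h13, l * h * h23, l * h13 ^ 2, l * h23 ^ 2,
        l * h13 * h23] := by
  classical
  set σ : Fin 4 → Fin 4 := ![2, 3, 0, 1] with hσ
  have hσi : Function.Injective σ := by intro i j; fin_cases i <;> fin_cases j <;> simp [σ]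
  let dd : ℕ → ℕ → (Fin 4 →₀ ℕ) := fun a b =>
    Finsupp.single 0 a + Finsupp.single 1 (3 - a) + Finsupp.single 2 b + Finsupp.single 3 (3 - b)
  have hsw : ∀ a b, Finsupp.mapDomain σ (dd a b) = dd b a := fun a b => by
    simp only [dd, Finsupp.mapDomain_add, Finsupp.mapDomain_single]
    show Finsupp.single (2 : Fin 4) a + Finsupp.single 3 (3 - a) + Finsupp.single 0 b + Finsupp.single 1 (3 - b) = _
    abel
  have hexp : ∀ f ∈ I, f = ∑ a ∈ Finset.range 4, ∑ b ∈ Finset.range 4,
      C (coeff (dd a b) f) * (X 0 ^ a * X 1 ^ (3 - a) * X 2 ^ b * X 3 ^ (3 - b)) := by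
    intro f hf
    obtain ⟨hw1, hw2, -⟩ := (hI f).1 hf
    have hm : ∀ a b, (X 0 ^ a * X 1 ^ (3 - a) * X 2 ^ b * X 3 ^ (3 - b) : MvPolynomial (Fin 4) k) =
        monomial (dd a b) 1 := fun a b => by
      simp [dd, X_pow_eq_monomial, monomial_mul]
    simp only [hm, C_mul_monomial, mul_one]
    ext d
    simp only [coeff_sum, coeff_monomial]
    by_cases hd : ∃ a b, a < 4 ∧ b < 4 ∧ dd a b = d
    · obtain ⟨a, b, ha, hb, rfl⟩ := hd
      rw [Finset.sum_eq_single a, Finset.sum_eq_single b, if_pos rfl]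
      · intro b' _ hne
        rw [if_neg]
        intro h'
        exact hne (by simpa [dd] using DFunLike.congr_fun h' 2)
      · simp [hb]
      · intro a' _ hne
        refine Finset.sum_eq_zero fun b' _ => ?_
        rw [if_neg]
        intro h'
        exact hne (by simpa [dd] using DFunLike.congr_fun h' 0)
      · simp [ha]
    · rw [Finset.sum_eq_zero fun a ha => Finset.sum_eq_zero fun b hb => if_neg fun h' =>
        hd ⟨a, b, Finset.mem_range.1 ha, Finset.mem_range.1 hb, h'⟩]
      by_contra hne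
      have e1 := hw1 hne
      have e2 := hw2 hne
      simp [Finsupp.weight_apply, Finsupp.sum_fintype, Fin.sum_univ_four] at e1 e2
      refine hd ⟨d 0, d 2, by omega, by omega, ?_⟩
      ext i
      fin_cases i <;> simp [dd] <;> omega
  -- the five linear conditions of the divisibility
  have hdiag : ∀ f ∈ I, ∀ cc : ℕ → ℕ → k, (∀ a b, cc a b = coeff (dd a b) f) →
      cc 0 0 = 0 ∧ cc 0 1 + cc 1 0 = 0 ∧ cc 2 3 + cc 3 2 = 0 ∧ cc 3 3 = 0 ∧
      cc 0 2 + cc 1 1 + cc 2 0 = cc 1 3 + cc 2 2 + cc 3 1 ∧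
      cc 0 3 + cc 1 2 + cc 2 1 + cc 3 0 = -2 * (cc 1 3 + cc 2 2 + cc 3 1) := by
    intro f hf cc hcc
    obtain ⟨q, hq⟩ := ((hI f).1 hf).2.2
    have he := hexp f hf
    simp only [← hcc] at he
    have h₁ := congrArg (aeval (![Polynomial.X, 1] : Fin 2 → Polynomial k)) hq
    have h₂ := congrArg (aeval (![1, Polynomial.X] : Fin 2 → Polynomial k)) hq
    rw [he] at h₁ h₂
    simp [Finset.sum_range_succ, rename_X] at h₁ h₂
    have t0 := congrArg (fun P => Polynomial.coeff P 0) h₁
    have t1 := congrArg (fun P => Polynomial.coeff P 1) h₁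
    have u0 := congrArg (fun P => Polynomial.coeff P 0) h₂
    have u1 := congrArg (fun P => Polynomial.coeff P 1) h₂
    have v0 := congrArg (fun P => Polynomial.eval 1 P) h₁
    have v1 := congrArg (fun P => Polynomial.eval 1 (Polynomial.derivative P)) h₁
    simp [Polynomial.mul_coeff_zero, Polynomial.coeff_one, Polynomial.coeff_X_pow, Polynomial.coeff_C,
      Polynomial.coeff_mul, Finset.Nat.antidiagonal_succ, mul_pow, ← pow_add, Polynomial.derivative_pow] at t0 t1 u0 u1 v0 v1
    refine ⟨by linear_combination t0, by linear_combination t1, by linear_combination u1,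
      by linear_combination u0, ?_, ?_⟩
    · linear_combination (3 : k) * v0 - v1 - (3 : k) * t0 - (2 : k) * t1 + (2 : k) * u1 + (3 : k) * u0
    · linear_combination -(2 : k) * v0 + v1 + (2 : k) * t0 + t1 - (3 : k) * u1 - (4 : k) * u0
  have hhom : ∀ (w : Fin 4 → ℕ), w = ![1, 1, 0, 0] ∨ w = ![0, 0, 1, 1] →
      l.IsWeightedHomogeneous w 1 ∧ h1.IsWeightedHomogeneous w 1 ∧ h2.IsWeightedHomogeneous w 1 ∧
      h3.IsWeightedHomogeneous w 1 ∧ c.IsWeightedHomogeneous w 3 := by
    intro w hw
    have x := fun i => isWeightedHomogeneous_X k w i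
    have d01 : (X 0 - X 1 : MvPolynomial (Fin 4) k).IsWeightedHomogeneous w (w 0) := by
      refine (x 0).sub ?_
      rcases hw with rfl | rfl <;> exact x 1
    have d23 : (X 2 - X 3 : MvPolynomial (Fin 4) k).IsWeightedHomogeneous w (w 2) := by
      refine (x 2).sub ?_
      rcases hw with rfl | rfl <;> exact x 3
    have d32 : (X 3 - X 2 : MvPolynomial (Fin 4) k).IsWeightedHomogeneous w (w 3) := by
      refine (x 3).sub ?_
      rcases hw with rfl | rfl <;> exact x 2
    have d10 : (X 1 - X 0 : MvPolynomial (Fin 4) k).IsWeightedHomogeneous w (w 1) := by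
      refine (x 1).sub ?_
      rcases hw with rfl | rfl <;> exact x 0
    have a := fun i j => (x i).mul (x j)
    subst hl hh1 hh2 hh3 hc
    rcases hw with rfl | rfl
    all_goals
      refine ⟨?_, ?_, ?_, ?_, ?_⟩
      · exact (a 0 3).sub (a 1 2)
      · exact ((x 0).mul d32).add ((x 2).mul d10)
      · exact ((x 1).mul d23).add ((x 3).mul d01)
      · exact (a 0 3).add (a 1 2)
      · exact (((x 0).mul (x 1)).mul d01).mul (((x 2).mul (x 3)).mul d23)
  have hmemI : ∀ f ∈ ({c, l ^ 2 * h, l ^ 2 * h13, l ^ 2 * h23, l * h ^ 2, l * h * h13, l * h * h23, l * h13 ^ 2,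
      l * h23 ^ 2, l * h13 * h23} : Set (MvPolynomial (Fin 4) k)), f ∈ I := by
    intro f hf
    refine (hI f).2 ?_
    obtain ⟨al, a1, a2, a3, ac⟩ := hhom _ (Or.inl rfl)
    obtain ⟨bl, b1, b2, b3, bc⟩ := hhom _ (Or.inr rfl)
    have aH := (a1.add a2).add a3
    have bH := (b1.add b2).add b3
    rw [← hh] at aH bH
    have a13 := a1.sub a3
    have b13 := b1.sub b3
    rw [← hh13] at a13 b13
    have a23 := a2.sub a3
    have b23 := b2.sub b3
    rw [← hh23] at a23 b23
    have rl : rename (![0, 1, 0, 1] : Fin 4 → Fin 2) l = 0 := by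
      rw [hl]; simp; ring
    have rc : rename (![0, 1, 0, 1] : Fin 4 → Fin 2) c = (X 0 * X 1 * (X 0 - X 1)) ^ 2 := by
      rw [hc]; simp; ring
    simp only [Set.mem_insert_iff, Set.mem_singleton_iff] at hf
    rcases hf with rfl | rfl | rfl | rfl | rfl | rfl | rfl | rfl | rfl | rfl
    · exact ⟨ac, bc, by rw [rc]⟩
    all_goals refine ⟨?_, ?_, by simp [rl]⟩
    all_goals try simp only [pow_two]
    · exact (al.mul al).mul aH
    · exact (bl.mul bl).mul bH
    · exact (al.mul al).mul a13
    · exact (bl.mul bl).mul b13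
    · exact (al.mul al).mul a23
    · exact (bl.mul bl).mul b23
    · exact al.mul (aH.mul aH)
    · exact bl.mul (bH.mul bH)
    · exact (al.mul aH).mul a13
    · exact (bl.mul bH).mul b13
    · exact (al.mul aH).mul a23
    · exact (bl.mul bH).mul b23
    · exact al.mul (a13.mul a13)
    · exact bl.mul (b13.mul b13)
    · exact al.mul (a23.mul a23)
    · exact bl.mul (b23.mul b23)
    · exact (al.mul a13).mul a23
    · exact (bl.mul b13).mul b23
  have sl : rename σ l = -l := by rw [hl]; simp [σ]; ring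
  have sh : rename σ h = h := by rw [hh, hh1, hh2, hh3]; simp [σ]; ring
  have s13 : rename σ h13 = h13 := by rw [hh13, hh1, hh3]; simp [σ]; ring
  have s23 : rename σ h23 = h23 := by rw [hh23, hh2, hh3]; simp [σ]; ring
  have sc : rename σ c = c := by rw [hc]; simp [σ]; ring
  have hswap : ∀ (f : MvPolynomial (Fin 4) k) (a b : ℕ), coeff (dd b a) (rename σ f) = coeff (dd a b) f := fun f a b => by
    rw [← hsw a b, coeff_rename_mapDomain σ hσi]
  have h36 : (36 : k) ≠ 0 := by norm_num
  refine ⟨fun f => ⟨?_, fun hf => ?_⟩, fun f => ⟨?_, fun hf => ?_⟩, ?_⟩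
  · rintro ⟨hfI, hfs⟩
    let cc : ℕ → ℕ → k := fun a b => coeff (dd a b) f
    have hs : ∀ a b, cc b a = cc a b := fun a b => by
      have := hswap f a b
      rwa [hfs] at this
    obtain ⟨q00, q01, q23, q33, qA, qB⟩ := hdiag f hfI cc fun _ _ => rfl
    rw [hs 0 1] at q01
    rw [hs 2 3] at q23
    rw [hs 0 2, hs 1 3] at qA
    rw [hs 0 3, hs 1 2, hs 1 3] at qB
    have r01 : cc 0 1 = 0 := by linear_combination q01 / 2
    have r23 : cc 2 3 = 0 := by linear_combination q23 / 2
    have r22 : cc 2 2 = 2 * cc 0 2 + cc 1 1 - 2 * cc 1 3 := by linear_combination -qA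
    have r12 : cc 1 2 = -cc 0 3 - 2 * cc 0 2 - cc 1 1 := by linear_combination qB / 2 + qA
    have he : f = ∑ a ∈ Finset.range 4, ∑ b ∈ Finset.range 4,
        C (cc a b) * (X 0 ^ a * X 1 ^ (3 - a) * X 2 ^ b * X 3 ^ (3 - b)) := hexp f hfI
    have key : (36 : k) • f = ((72 : k) * cc 0 2 + (36 : k) * cc 1 1) • c +
        ((12 : k) * cc 0 3) • (l ^ 2 * h) +
        ((-12 : k) * cc 0 3 + (-18 : k) * cc 1 3) • (l ^ 2 * h13) +
        ((-18 : k) * cc 0 2 + (-12 : k) * cc 0 3) • (l ^ 2 * h23) := by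
      conv_lhs => rw [he]
      subst hl hh1 hh2 hh3 hh hh13 hh23 hc
      simp only [Finset.sum_range_succ, Finset.sum_range_zero, hs 0 1, hs 0 2, hs 0 3, hs 1 2, hs 1 3, hs 2 3,
        q00, r01, r23, r22, r12, q33, smul_eq_C_mul, map_add, map_sub, map_mul, map_neg, map_zero, map_one, map_ofNat]
      ring
    have hm : (36 : k) • f ∈ Submodule.span k ({c, l ^ 2 * h, l ^ 2 * h13, l ^ 2 * h23} : Set (MvPolynomial (Fin 4) k)) := by
      rw [key]
      refine add_mem (add_mem (add_mem ?_ ?_) ?_) ?_ <;> refine Submodule.smul_mem _ _ (Submodule.subset_span ?_) <;> simp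
    exact (Submodule.smul_mem_iff _ h36).1 hm
  · refine ⟨Submodule.span_le.2 (fun x hx => hmemI x ?_) hf, ?_⟩
    · simp only [Set.mem_insert_iff, Set.mem_singleton_iff] at hx ⊢; tauto
    · induction hf using Submodule.span_induction with
      | mem x hx =>
        simp only [Set.mem_insert_iff, Set.mem_singleton_iff] at hx
        rcases hx with rfl | rfl | rfl | rfl <;> simp [sl, sh, s13, s23, sc]
      | zero => simp
      | add a b _ _ ha hb => rw [map_add, ha, hb]
      | smul r a _ ha => rw [map_smul, ha]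
  · rintro ⟨hfI, hfs⟩
    let cc : ℕ → ℕ → k := fun a b => coeff (dd a b) f
    have hs : ∀ a b, cc b a = -cc a b := fun a b => by
      have := hswap f a b
      rw [hfs, coeff_neg] at this
      linear_combination -this
    have hd : ∀ a, cc a a = 0 := fun a => by linear_combination (hs a a) / 2
    have he : f = ∑ a ∈ Finset.range 4, ∑ b ∈ Finset.range 4,
        C (cc a b) * (X 0 ^ a * X 1 ^ (3 - a) * X 2 ^ b * X 3 ^ (3 - b)) := hexp f hfI
    have key : (36 : k) • f = ((-4 : k) * cc 0 3) • (l * h ^ 2) +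
        ((8 : k) * cc 0 3 + (6 : k) * cc 1 3) • (l * h * h13) +
        ((6 : k) * cc 0 2 + (8 : k) * cc 0 3) • (l * h * h23) +
        ((-4 : k) * cc 0 3 + (-6 : k) * cc 1 3 + (-9 : k) * cc 2 3) • (l * h13 ^ 2) +
        ((-9 : k) * cc 0 1 + (-6 : k) * cc 0 2 + (-4 : k) * cc 0 3) • (l * h23 ^ 2) +
        ((-6 : k) * cc 0 2 + (1 : k) * cc 0 3 + (-9 : k) * cc 1 2 + (-6 : k) * cc 1 3) • (l * h13 * h23) := by
      conv_lhs => rw [he]
      subst hl hh1 hh2 hh3 hh hh13 hh23 hc
      simp only [Finset.sum_range_succ, Finset.sum_range_zero, hs 0 1, hs 0 2, hs 0 3, hs 1 2, hs 1 3, hs 2 3,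
        hd 0, hd 1, hd 2, hd 3, smul_eq_C_mul, map_add, map_sub, map_mul, map_neg, map_zero, map_one, map_ofNat]
      ring
    have hm : (36 : k) • f ∈ Submodule.span k ({l * h ^ 2, l * h * h13, l * h * h23, l * h13 ^ 2, l * h23 ^ 2,
        l * h13 * h23} : Set (MvPolynomial (Fin 4) k)) := by
      rw [key]
      refine add_mem (add_mem (add_mem (add_mem (add_mem ?_ ?_) ?_) ?_) ?_) ?_ <;>
        refine Submodule.smul_mem _ _ (Submodule.subset_span ?_) <;> simp
    exact (Submodule.smul_mem_iff _ h36).1 hm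
  · refine ⟨Submodule.span_le.2 (fun x hx => hmemI x ?_) hf, ?_⟩
    · simp only [Set.mem_insert_iff, Set.mem_singleton_iff] at hx ⊢; tauto
    · induction hf using Submodule.span_induction with
      | mem x hx =>
        simp only [Set.mem_insert_iff, Set.mem_singleton_iff] at hx
        rcases hx with rfl | rfl | rfl | rfl | rfl | rfl <;> simp [sl, sh, s13, s23]
      | zero => simp
      | add a b _ _ ha hb => rw [map_add, ha, hb, neg_add]
      | smul r a _ ha => rw [map_smul, ha, smul_neg]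
  · rw [Fintype.linearIndependent_iff]
    intro g hg
    have ev := fun pt : Fin 4 → k => congrArg (eval pt) hg
    subst hl hh1 hh2 hh3 hh hh13 hh23 hc
    have e0 := ev ![2, 0, -1, -1]
    have e1 := ev ![-1, -1, 0, 1]
    have e2 := ev ![0, 2, 2, 1]
    have e3 := ev ![1, 2, -1, 2]
    have e4 := ev ![2, 0, -1, 1]
    have e5 := ev ![0, -1, 2, -1]
    have e6 := ev ![1, 1, -1, 2]
    have e7 := ev ![1, -1, 1, 2]
    have e8 := ev ![-1, 2, -1, 2]
    have e9 := ev ![2, -1, -1, -1]
    simp [Fin.sum_univ_succ, smul_eq_C_mul, -mul_eq_zero] at e0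
    simp [Fin.sum_univ_succ, smul_eq_C_mul, -mul_eq_zero] at e1
    simp [Fin.sum_univ_succ, smul_eq_C_mul, -mul_eq_zero] at e2
    simp [Fin.sum_univ_succ, smul_eq_C_mul, -mul_eq_zero] at e3
    simp [Fin.sum_univ_succ, smul_eq_C_mul, -mul_eq_zero] at e4
    simp [Fin.sum_univ_succ, smul_eq_C_mul, -mul_eq_zero] at e5
    simp [Fin.sum_univ_succ, smul_eq_C_mul, -mul_eq_zero] at e6
    simp [Fin.sum_univ_succ, smul_eq_C_mul, -mul_eq_zero] at e7
    simp [Fin.sum_univ_succ, smul_eq_C_mul, -mul_eq_zero] at e8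
    simp [Fin.sum_univ_succ, smul_eq_C_mul, -mul_eq_zero] at e9
    have hD : (1741824 : k) ≠ 0 := by norm_num
    intro i
    fin_cases i
    · refine (mul_eq_zero.1 (show (1741824 : k) * g (0 : Fin 10) = 0 from ?_)).resolve_left hD
      linear_combination ((48384 : k) * e8)
    · refine (mul_eq_zero.1 (show (1741824 : k) * g (1 : Fin 10) = 0 from ?_)).resolve_left hD
      linear_combination ((-6048 : k) * e0 + (-152064 : k) * e1 + (4428 : k) * e2 + (-5184 : k) * e3 + (864 : k) * e4 + (4320 : k) * e5 + (9600 : k) * e6 + (12672 : k) * e7 + (-3136 : k) * e8 + (8448 : k) * e9)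
    · refine (mul_eq_zero.1 (show (1741824 : k) * g (2 : Fin 10) = 0 from ?_)).resolve_left hD
      linear_combination ((-57456 : k) * e0 + (732672 : k) * e1 + (-8964 : k) * e2 + (5184 : k) * e3 + (8208 : k) * e4 + (-40608 : k) * e5 + (30720 : k) * e6 + (11520 : k) * e7 + (448 : k) * e8 + (56064 : k) * e9)
    · refine (mul_eq_zero.1 (show (1741824 : k) * g (3 : Fin 10) = 0 from ?_)).resolve_left hD
      linear_combination ((-3024 : k) * e0 + (297216 : k) * e1 + (-8964 : k) * e2 + (5184 : k) * e3 + (8208 : k) * e4 + (-40608 : k) * e5 + (-17664 : k) * e6 + (11520 : k) * e7 + (448 : k) * e8 + (7680 : k) * e9)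
    · refine (mul_eq_zero.1 (show (1741824 : k) * g (4 : Fin 10) = 0 from ?_)).resolve_left hD
      linear_combination ((-2016 : k) * e0 + (-41472 : k) * e1 + (108 : k) * e2 + (-2880 : k) * e3 + (-864 : k) * e4 + (15840 : k) * e5 + (6528 : k) * e6 + (3456 : k) * e7 + (-1344 : k) * e8 + (2304 : k) * e9)
    · refine (mul_eq_zero.1 (show (1741824 : k) * g (5 : Fin 10) = 0 from ?_)).resolve_left hD
      linear_combination ((43344 : k) * e0 + (-110592 : k) * e1 + (1296 : k) * e2 + (5760 : k) * e3 + (16848 : k) * e4 + (-19584 : k) * e5 + (-26496 : k) * e6 + (-14976 : k) * e7 + (3584 : k) * e8 + (-26112 : k) * e9)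
    · refine (mul_eq_zero.1 (show (1741824 : k) * g (6 : Fin 10) = 0 from ?_)).resolve_left hD
      linear_combination ((1008 : k) * e0 + (131328 : k) * e1 + (2808 : k) * e2 + (5760 : k) * e3 + (4752 : k) * e4 + (-7488 : k) * e5 + (-15744 : k) * e6 + (1152 : k) * e7 + (1792 : k) * e8 + (768 : k) * e9)
    · refine (mul_eq_zero.1 (show (1741824 : k) * g (7 : Fin 10) = 0 from ?_)).resolve_left hD
      linear_combination ((-59472 : k) * e0 + (359424 : k) * e1 + (-4968 : k) * e2 + (7488 : k) * e3 + (12528 : k) * e4 + (-35136 : k) * e5 + (-1920 : k) * e6 + (-5760 : k) * e7 + (3136 : k) * e8 + (12288 : k) * e9)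
    · refine (mul_eq_zero.1 (show (1741824 : k) * g (8 : Fin 10) = 0 from ?_)).resolve_left hD
      linear_combination ((1008 : k) * e0 + (-172800 : k) * e1 + (-4212 : k) * e2 + (7488 : k) * e3 + (6480 : k) * e4 + (-29088 : k) * e5 + (-20736 : k) * e6 + (2304 : k) * e7 + (2240 : k) * e8 + (1536 : k) * e9)
    · refine (mul_eq_zero.1 (show (1741824 : k) * g (9 : Fin 10) = 0 from ?_)).resolve_left hD
      linear_combination ((-58464 : k) * e0 + (-217728 : k) * e1 + (-3591 : k) * e2 + (11088 : k) * e3 + (15120 : k) * e4 + (-42840 : k) * e5 + (-59808 : k) * e6 + (-6048 : k) * e7 + (4368 : k) * e8 + (36288 : k) * e9)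

end Groth.Agent.S16153
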