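import Groth.Statements.S16156
import Mathlib.Tactic

set_option autoImplicit false
universe u
open MukaiVec

namespace Groth.Agent.S16156

/-- Let N be an abelian group with a symmetric integer-valued bilinear form and H an element with H·H =
2n for some n > 0 such that every x with x·H = 0 satisfies x·x ≤ 0 (the Hodge index inequality). Fix
integers r ≥ 2, d > 0 and χ < 0 (a Mukai vector v = (r, dH, χ)) and an isotropic Mukai vector u =
(p, η, q), p ≥ 0, η ∈ N, η·η = 2pq, whose pairing ⟨v, u⟩ = d(H·η) − rq − χp has absolute value 1 or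
2. Exclude the case d = 1, χ = −1, H·η = 1, η·η = 0, and when r = 2 also the case p = 0, H·η = 0.
Then the pairings of u∨ = (p, −η, q) with w₀ = (0, rH, −2nd) and with w₁ = (2nd, −χH, 0) are both
non-negative or both negative: 2ndp − r(H·η) ≥ 0 holds if and only if χ(H·η) − 2ndq ≥ 0 holds. -/
theorem result
    (N : Type u) [AddCommGroup N] (B : LinearMap.BilinForm ℤ N) (hB : ∀ x y : N, B x y = B y x)
    (H : N) (n : ℤ) (hn : 0 < n) (hH : B H H = 2 * n) (hodge : ∀ x : N, B x H = 0 → B x x ≤ 0)
    (r d χ p q : ℤ) (η : N) (hr : 2 ≤ r) (hd : 0 < d) (hχ : χ < 0) (hp : 0 ≤ p)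
    (hiso : B η η = 2 * p * q)
    (hvu : 1 ≤ |d * B H η - r * q - χ * p| ∧ |d * B H η - r * q - χ * p| ≤ 2)
    (hexc : ¬ (d = 1 ∧ χ = -1 ∧ B H η = 1 ∧ B η η = 0))
    (hr2 : r = 2 → ¬ (p = 0 ∧ B H η = 0)) :
    (0 ≤ 2 * n * d * p - r * B H η ↔ 0 ≤ χ * B H η - 2 * n * d * q) := by
  have hx2 : 4 * n * (p * q) ≤ B H η * B H η := by
    have h0 : B (B H η • H - (2 * n) • η) H = 0 := by
      simp only [map_sub, map_zsmul, LinearMap.sub_apply, LinearMap.smul_apply, smul_eq_mul, hB η H, hH]; ring
    have hD := hodge _ h0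
    simp only [map_sub, map_zsmul, LinearMap.sub_apply, LinearMap.smul_apply, smul_eq_mul, hB η H, hH, hiso] at hD
    nlinarith
  obtain ⟨hm1, hm2⟩ := hvu
  rw [abs_le] at hm2
  set x := B H η with hxdef
  rcases eq_or_lt_of_le hp with hp0 | hp1
  · subst hp0
    rcases lt_trichotomy x 0 with hx | hx | hx
    · have hq : q ≤ 0 := by
        by_contra hq
        push Not at hq
        nlinarith [mul_pos hd (neg_pos.mpr hx), mul_le_mul hr (show (1 : ℤ) ≤ q by omega) (by norm_num) (by linarith)]
      constructor <;> intro _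
      · nlinarith [mul_pos_of_neg_of_neg hχ hx, mul_nonneg (mul_nonneg hn.le hd.le) (neg_nonneg.mpr hq)]
      · nlinarith [mul_pos (lt_of_lt_of_le two_pos hr) (neg_pos.mpr hx)]
    · exfalso
      rcases eq_or_lt_of_le hr with hr' | hr'
      · exact hr2 hr'.symm ⟨rfl, hx⟩
      · rw [hx] at hm1 hm2
        rcases lt_trichotomy q 0 with hq | hq | hq
        · nlinarith [mul_le_mul (show (3 : ℤ) ≤ r by omega) (show (1 : ℤ) ≤ -q by omega) (by norm_num) (by linarith)]
        · rw [hq] at hm1; simp at hm1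
        · nlinarith [mul_le_mul (show (3 : ℤ) ≤ r by omega) (show (1 : ℤ) ≤ q by omega) (by norm_num) (by linarith)]
    · have hq : 0 ≤ q := by
        by_contra hq
        push Not at hq
        nlinarith [mul_pos hd hx, mul_le_mul hr (show (1 : ℤ) ≤ -q by omega) (by norm_num) (by linarith)]
      constructor <;> intro h <;> exfalso
      · nlinarith [mul_pos (lt_of_lt_of_le two_pos hr) hx]
      · nlinarith [mul_neg_of_neg_of_pos hχ hx, mul_nonneg (mul_nonneg hn.le hd.le) hq]
  have hap : 1 ≤ -χ * p := by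
    have := mul_le_mul (show (1 : ℤ) ≤ -χ by omega) (show (1 : ℤ) ≤ p by omega) (by norm_num) (by omega)
    linarith
  rcases le_or_gt q 0 with hq | hq
  · rcases le_or_gt x 0 with hx | hx
    · constructor <;> intro _
      · nlinarith [mul_nonneg_of_nonpos_of_nonpos hχ.le hx, mul_nonneg (mul_nonneg hn.le hd.le) (neg_nonneg.mpr hq)]
      · nlinarith [mul_nonneg (show (0 : ℤ) ≤ r by omega) (neg_nonneg.mpr hx), mul_nonneg (mul_nonneg hn.le hd.le) hp]
    · exfalso
      have hrq : r * q ≤ 0 := mul_nonpos_of_nonneg_of_nonpos (by omega) hq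
      have hdx : 1 ≤ d * x := mul_pos hd hx
      have h1 : d * x = 1 := by linarith
      have h2 : r * q = 0 := by linarith
      have h3 : -χ * p = 1 := by linarith
      obtain ⟨hd1, hx1⟩ : d = 1 ∧ x = 1 := ⟨by nlinarith, by nlinarith⟩
      have hq0 : q = 0 := (mul_eq_zero.mp h2).resolve_left (by omega)
      have hχ1 : χ = -1 := by nlinarith
      exact hexc ⟨hd1, hχ1, hx1, by rw [hiso, hq0, mul_zero]⟩
  · have hrq : 2 ≤ r * q := by nlinarith
    have hnpq : 4 ≤ 4 * n * (p * q) := by nlinarith [mul_pos hn (mul_pos hp1 hq)]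
    rcases lt_trichotomy x 0 with hx | hx | hx
    · have hdx : d * -x ≤ -χ * p := by linarith
      have h1 : 4 * n * (p * q) * d ≤ -χ * p * -x := by
        have := mul_le_mul_of_nonneg_right hdx (neg_nonneg.mpr hx.le)
        nlinarith [mul_le_mul_of_nonneg_left hx2 hd.le]
      have h2 : 4 * n * q * d ≤ χ * x := by
        refine le_of_mul_le_mul_left ?_ hp1
        linarith
      constructor <;> intro _
      · nlinarith [mul_pos (mul_pos hn hd) hq]
      · nlinarith [mul_pos (show (0 : ℤ) < r by omega) (neg_pos.mpr hx), mul_pos (mul_pos hn hd) hp1]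
    · rw [hx] at hx2; linarith
    · constructor <;> intro h <;> exfalso
      · have h1 : r * (x * x) ≤ 2 * n * d * p * x := by nlinarith [mul_le_mul_of_nonneg_right (by linarith : r * x ≤ 2 * n * d * p) hx.le]
        have h2 : r * (4 * n * (p * q)) ≤ r * (x * x) := mul_le_mul_of_nonneg_left hx2 (by omega)
        have h3 : 4 * (r * q) ≤ 2 * (d * x) := by
          refine le_of_mul_le_mul_left ?_ (mul_pos hn hp1)
          linarith
        linarith
      · nlinarith [mul_neg_of_neg_of_pos hχ hx, mul_pos (mul_pos hn hd) hq]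

end Groth.Agent.S16156
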