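import Groth.Statements.S16158
import Mathlib

set_option autoImplicit false
universe u v w
open MadRed

noncomputable section
namespace Groth.Agent.S16158.AuxS58
theorem bound (R : Type u) [CommRing R] [IsNoetherianRing R]
    (M : Type v) [AddCommGroup M] [Module R M] [Module.Finite R M] :
    ∃ n : ℕ, ∀ (ι : Type w) (N : ι → Submodule R M), iSupIndep N →
      ∀ s : Finset ι, (∀ i ∈ s, N i ≠ ⊥) → s.card ≤ n := by
  classical
  have hfin := associatedPrimes.finite R M
  refine ⟨∑ p ∈ hfin.toFinset, Module.finrank (R ⧸ p) (Submodule.torsionBySet R M p), fun ι N hN s hs => ?_⟩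
  have hex : ∀ i : s, ∃ p ∈ hfin.toFinset, ∃ x ∈ N i.1, (⊥ : Submodule R M).colon {x} = p := by
    intro i
    haveI : Nontrivial (N i.1) := (Submodule.nontrivial_iff_ne_bot).2 (hs i.1 i.2)
    obtain ⟨p, hp⟩ := associatedPrimes.nonempty R (N i.1)
    have hpM : IsAssociatedPrime p M := IsAssociatedPrime.map_of_injective (N i.1).subtype hp (N i.1).injective_subtype
    obtain ⟨-, x, hx⟩ := isAssociatedPrime_iff.1 hp
    refine ⟨p, hfin.mem_toFinset.2 hpM, x, x.2, ?_⟩
    rw [hx]; ext r
    simp [Submodule.mem_colon_singleton, ← Subtype.val_inj]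
  choose p hp x hx hcol using hex
  calc s.card = ∑ q ∈ hfin.toFinset, (Finset.univ.filter fun i : s => p i = q).card := by
        rw [← Finset.card_eq_sum_card_fiberwise (fun i _ => hp i)]; simp
    _ ≤ _ := Finset.sum_le_sum fun q hq => by
      haveI : q.IsPrime := (hfin.mem_toFinset.1 hq).isPrime
      set T := Submodule.torsionBySet R M q
      haveI : IsScalarTower R (R ⧸ q) T := inferInstance
      haveI : Module.Finite (R ⧸ q) T := Module.Finite.of_restrictScalars_finite R _ _
      let F := Finset.univ.filter fun i : s => p i = q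
      let y : F → T := fun i => ⟨x i.1, (Submodule.mem_torsionBySet_iff _ _).2 fun a => by
        have h1 : (a : R) ∈ (⊥ : Submodule R M).colon {x i.1} := by rw [hcol, (Finset.mem_filter.1 i.2).2]; exact a.2
        simpa [Submodule.mem_colon_singleton] using h1⟩
      have hli : LinearIndependent (R ⧸ q) y := by
        rw [Fintype.linearIndependent_iff]
        intro c hc i
        obtain ⟨r, hr⟩ : ∃ r : F → R, ∀ j, Ideal.Quotient.mk q (r j) = c j :=
          ⟨fun j => (Ideal.Quotient.mk_surjective (c j)).choose, fun j => (Ideal.Quotient.mk_surjective (c j)).choose_spec⟩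
        have hsum : ∑ j, r j • x j.1 = 0 := by
          have := congrArg Subtype.val hc
          simp only [AddSubmonoidClass.coe_finset_sum, ZeroMemClass.coe_zero] at this
          rw [← this]
          refine Finset.sum_congr rfl fun j _ => ?_
          rw [← hr]; rfl
        have hind := (iSupIndep_iff_finsetSum_eq_zero_imp_eq_zero _).1
          (hN.comp (f := fun j : F => j.1.1) (Subtype.val_injective.comp Subtype.val_injective))
          Finset.univ (fun j => r j • x j.1) (fun j _ => Submodule.smul_mem _ _ (hx _))
        have := hind hsum i (Finset.mem_univ _)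
        have hm : r i ∈ (⊥ : Submodule R M).colon {x i.1} := by simpa [Submodule.mem_colon_singleton] using this
        rw [hcol, (Finset.mem_filter.1 i.2).2] at hm
        rw [← hr, Ideal.Quotient.eq_zero_iff_mem]; exact hm
      have := hli.fintype_card_le_finrank
      exact le_of_eq_of_le (Fintype.card_coe F).symm this

theorem result (R : Type u) [CommRing R] [IsNoetherianRing R]
    (M : Type v) [AddCommGroup M] [Module R M] [Module.Finite R M] :
    ∃ n : ℕ, ∀ (ι : Type w) [DecidableEq ι] (N : ι → Submodule R M), DirectSum.IsInternal N →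
      ∃ s : Finset ι, s.card ≤ n ∧ ∀ i, N i ≠ ⊥ → i ∈ s := by
  obtain ⟨n, hn⟩ := bound.{u, v, w} R M
  refine ⟨n, fun ι _ N hN => ?_⟩
  have hi := hN.submodule_iSupIndep
  have hf : {i | N i ≠ ⊥}.Finite := WellFoundedGT.finite_ne_bot_of_iSupIndep hi
  exact ⟨hf.toFinset, hn ι N hi _ (fun i h => hf.mem_toFinset.1 h), fun i h => hf.mem_toFinset.2 h⟩
end Groth.Agent.S16158.AuxS58

end

namespace Groth.Agent.S16158

/-- Let R be a commutative Noetherian ring and M a finitely generated R-module. Then there is a natural
number n such that in every decomposition of M as an internal direct sum of a family of submodules,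
at most n of the summands are nonzero (the nonzero summands are indexed by a finite set of size at
most n). -/
theorem result (R : Type u) [CommRing R] [IsNoetherianRing R]
    (M : Type v) [AddCommGroup M] [Module R M] [Module.Finite R M] :
    ∃ n : ℕ, ∀ (ι : Type w) [DecidableEq ι] (N : ι → Submodule R M), DirectSum.IsInternal N →
      ∃ s : Finset ι, s.card ≤ n ∧ ∀ i, N i ≠ ⊥ → i ∈ s := by
  exact AuxS58.result R M

end Groth.Agent.S16158
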