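import Groth.Statements.S16159
import Mathlib
import Groth.Agent.S16158

set_option autoImplicit false
universe u v w x
open MadRed

noncomputable section
namespace Groth.Agent.S16159.AuxS59
open Module
variable {k : Type*} [Field k] {R : Type*} [CommRing R] [Algebra k R]
    {V : Type*} [AddCommGroup V] [Module R V] [Module k V] [IsScalarTower k R V]

theorem main {ι : Type*} (f : ι → Module.End R V) (hcomm : ∀ i j, Commute (f i) (f j))
    (hdiag : ∀ i, ⨆ μ : k, Module.End.eigenspace ((f i).restrictScalars k) μ = ⊤) (n : ℕ) :
    ∀ U : Submodule R V, (∀ i, ∀ w ∈ U, f i w ∈ U) →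
      (∀ (q : ℕ) (N : Fin q → Submodule R V), (∀ a, N a ≤ U) → iSupIndep N → (∀ a, N a ≠ ⊥) → q ≤ n) →
      ∀ v ∈ U, v ∈ ⨆ χ : ι → k, ⨅ i, Module.End.eigenspace ((f i).restrictScalars k) (χ i) := by
  classical
  induction n with
  | zero =>
    intro U _ hb v hv
    by_contra h
    have hne : v ≠ 0 := fun h0 => h (h0 ▸ zero_mem _)
    exact absurd (hb 1 (fun _ => U) (fun _ => le_rfl) (by intro a; simp [Subsingleton.elim _ a]) (fun _ hbot => hne ((Submodule.mem_bot R).1 (hbot ▸ hv)))) (by omega)
  | succ n ih =>
    intro U hU hb v hv
    by_cases hsc : ∀ i, ∃ μ : k, ∀ w ∈ U, f i w = μ • w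
    · choose μ hμ using hsc
      refine Submodule.mem_iSup_of_mem μ (Submodule.mem_iInf _ |>.2 fun i => ?_)
      rw [Module.End.mem_eigenspace_iff]; exact hμ i v hv
    push Not at hsc
    obtain ⟨i, hi⟩ := hsc
    let e : k → Submodule R V := fun μ => LinearMap.ker (f i - algebraMap k R μ • LinearMap.id)
    have he : ∀ μ w, w ∈ e μ ↔ f i w = μ • w := fun μ w => by
      simp [e, LinearMap.mem_ker, sub_eq_zero]
    have hee : ∀ μ, ((e μ).restrictScalars k) = Module.End.eigenspace ((f i).restrictScalars k) μ := fun μ => by
      ext w; rw [Submodule.restrictScalars_mem, he, Module.End.mem_eigenspace_iff]; rfl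
    have hindep : iSupIndep (fun μ => (e μ).restrictScalars k) := by
      rw [show (fun μ => (e μ).restrictScalars k) = _ from funext hee]
      exact Module.End.eigenspaces_iSupIndep _
    -- decomposition of elements of U
    have hdec : ∀ w ∈ U, ∃ (s : Finset k) (c : k → V), (∀ μ ∈ s, c μ ∈ e μ ∧ c μ ∈ U) ∧ ∑ μ ∈ s, c μ = w := by
      intro w hw
      have : w ∈ ⨆ μ : k, (e μ).restrictScalars k := by
        rw [show (fun μ => (e μ).restrictScalars k) = _ from funext hee, hdiag i]; trivial
      obtain ⟨c, hc, hsum⟩ := (Submodule.mem_iSup_iff_exists_finsupp _ _).1 this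
      refine ⟨c.support, c, fun μ hμ => ⟨hc μ, ?_⟩, hsum⟩
      let T : Module.End k V := (f i).restrictScalars k
      have hTU : ∀ (P : Polynomial k), ∀ x ∈ U, Polynomial.aeval T P x ∈ U := by
        intro P x hx
        induction P using Polynomial.induction_on' with
        | add p q hp hq => rw [map_add, LinearMap.add_apply]; exact add_mem hp hq
        | monomial j a =>
          rw [Polynomial.aeval_monomial, Module.End.mul_apply, Module.algebraMap_end_apply]
          have : (T ^ j) x ∈ U := by
            induction j with
            | zero => simpa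
            | succ j ih => rw [pow_succ', Module.End.mul_apply]; exact hU i _ ih
          rw [← algebraMap_smul R a]; exact U.smul_mem _ this
      have hP := hTU (Lagrange.basis c.support id μ) w hw
      rw [← hsum, Finsupp.sum, map_sum] at hP
      rw [Finset.sum_congr rfl (g := fun ν => if ν = μ then c μ else 0) ?_, Finset.sum_ite_eq' c.support μ, if_pos hμ] at hP
      · exact hP
      intro ν hν
      by_cases hcν : c ν = 0
      · rw [hcν, map_zero]; split_ifs with h
        · subst h; exact hcν.symm
        · rfl
      have hev : Module.End.HasEigenvector T ν (c ν) := ⟨Module.End.mem_eigenspace_iff.2 ((he ν _).1 (hc ν)), hcν⟩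
      rw [Module.End.aeval_apply_of_hasEigenvector hev]
      split_ifs with h
      · subst h
        have := Lagrange.eval_basis_self (v := id) (Function.injective_id.injOn (s := (c.support : Set k))) hν
        simp only [id] at this
        rw [this, one_smul]
      · have := Lagrange.eval_basis_of_ne (v := id) (fun h' => h h'.symm) hν
        simp only [id] at this
        rw [this, zero_smul]
    obtain ⟨s, c, hc, hsum⟩ := hdec v hv
    rw [← hsum]
    refine Submodule.sum_mem _ fun μ hμ => ih (U ⊓ e μ) (fun j w hw => ⟨hU j w hw.1, ?_⟩) ?_ _ ⟨(hc μ hμ).2, (hc μ hμ).1⟩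
    · have := (he μ w).1 hw.2
      rw [SetLike.mem_coe, he, ← Module.End.mul_apply, (hcomm i j).eq, Module.End.mul_apply, this, LinearMap.map_smul_of_tower]
    · intro q N hN hind hne
      -- a complement
      obtain ⟨ν, hν, hνμ⟩ : ∃ ν, U ⊓ e ν ≠ ⊥ ∧ ν ≠ μ := by
        by_contra hcon; push Not at hcon
        obtain ⟨w, hw, hw'⟩ := hi μ
        obtain ⟨s', c', hc', hs'⟩ := hdec w hw
        apply hw'
        rw [← hs', map_sum, Finset.smul_sum]
        refine Finset.sum_congr rfl fun ν hν => ?_
        by_cases hνμ : ν = μ
        · subst hνμ; exact (he ν _).1 (hc' ν hν).1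
        · have : c' ν = 0 := (Submodule.mem_bot R).1 ((show U ⊓ e ν = ⊥ by by_contra hb'; exact hνμ (hcon ν hb')) ▸ ⟨(hc' ν hν).2, (hc' ν hν).1⟩)
          simp [this]
      let N' : Fin (q + 1) → Submodule R V := Fin.snoc N (U ⊓ e ν)
      have hN' : iSupIndep N' := by
        rw [iSupIndep_iff_finsetSum_eq_zero_imp_eq_zero] at hind ⊢
        intro t x hx hxs a ha
        have hd : Disjoint (e μ) (e ν) := by
          have := hindep.pairwiseDisjoint hνμ.symm
          rw [Function.onFun, disjoint_iff] at this
          rw [disjoint_iff, eq_bot_iff]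
          intro w hw
          exact (Submodule.mem_bot R).2 ((Submodule.mem_bot k).1 (this ▸ hw))
        let x' : Fin (q+1) → V := fun a => if a ∈ t then x a else 0
        have hx' : ∀ a, x' a ∈ N' a := fun a => by
          simp only [x']; split_ifs with h
          · exact hx a h
          · exact zero_mem _
        have hs' : ∑ a, x' a = 0 := by simpa [x', Finset.sum_ite_mem] using hxs
        rw [Fin.sum_univ_castSucc] at hs'
        have h1 : ∑ a : Fin q, x' a.castSucc ∈ e μ := Submodule.sum_mem _ fun a _ => (hN a (by simpa [N'] using hx' a.castSucc)).2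
        have h2 : x' (Fin.last q) ∈ e ν := ((show x' (Fin.last q) ∈ U ⊓ e ν by simpa [N'] using hx' (Fin.last q))).2
        have hlast : x' (Fin.last q) = 0 := by
          refine Submodule.disjoint_def.1 hd _ ?_ h2
          rw [eq_neg_of_add_eq_zero_right hs']; exact neg_mem h1
        rw [hlast, add_zero] at hs'
        have := hind Finset.univ _ (fun a _ => by simpa [N'] using hx' a.castSucc) hs'
        have hx0 : x' a = 0 := by
          induction a using Fin.lastCases with
          | last => exact hlast
          | cast a => exact this a (Finset.mem_univ _)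
        simpa [x', ha] using hx0
      have := hb (q+1) N' (fun a => by
        induction a using Fin.lastCases with
        | last => simp [N']
        | cast a => simpa [N'] using (hN a).trans inf_le_left) hN' (fun a => by
        induction a using Fin.lastCases with
        | last => simpa [N'] using hν
        | cast a => simpa [N'] using hne a)
      omega
end Groth.Agent.S16159.AuxS59

end

namespace Groth.Agent.S16159

/-- Let k be a field, R a commutative Noetherian k-algebra and V an R-module, viewed also as a k-vector
space through k → R. Let (f_i) be a family of pairwise commuting R-linear endomorphisms of V such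
that each f_i, as a k-linear map, is diagonalizable over k (its eigenspaces span V), and such that
every vector of V lies in a finitely generated R-submodule stable under every f_i. Then the family
is simultaneously diagonalizable over k: the common eigenspaces ⨅_i Eig(f_i, χ(i)), over all
assignments χ of eigenvalues in k, span V. The source states this for the endomorphisms given by an
abelian group acting R-linearly; the row takes any commuting family, which is what the argument
uses, and neither k algebraically closed nor of characteristic zero is needed. -/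
theorem result
    (k : Type u) [Field k] (R : Type v) [CommRing R] [Algebra k R] [IsNoetherianRing R]
    (V : Type w) [AddCommGroup V] [Module R V] [Module k V] [IsScalarTower k R V]
    (ι : Type x) (f : ι → Module.End R V)
    (hcomm : ∀ i j, Commute (f i) (f j))
    (hdiag : ∀ i, ⨆ μ : k, Module.End.eigenspace ((f i).restrictScalars k) μ = ⊤)
    (hfin : ∀ v : V, ∃ W : Submodule R V, v ∈ W ∧ W.FG ∧ ∀ i, ∀ w ∈ W, f i w ∈ W) :
    ⨆ χ : ι → k, ⨅ i, Module.End.eigenspace ((f i).restrictScalars k) (χ i) = ⊤ := by
  rw [eq_top_iff]
  intro v _
  obtain ⟨W, hvW, hfg, hst⟩ := hfin v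
  haveI : Module.Finite R W := Module.Finite.iff_fg.2 hfg
  obtain ⟨n, hn⟩ := Groth.Agent.S16158.AuxS58.bound.{v, w, 0} R W
  refine AuxS59.main f hcomm hdiag n W hst (fun q N hN hind hne => ?_) v hvW
  have := hn (Fin q) (fun a => (N a).comap W.subtype) ?_ Finset.univ (fun a _ => ?_)
  · simpa using this
  · rw [iSupIndep_iff_finsetSum_eq_zero_imp_eq_zero] at hind ⊢
    intro t x hx hxs a ha
    refine Subtype.ext (hind t (fun a => (x a : V)) hx ?_ a ha)
    have := congrArg Subtype.val hxs
    rwa [AddSubmonoidClass.coe_finsetSum] at this
  · intro h0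
    apply hne a
    rw [eq_bot_iff]
    intro z hz
    have : (⟨z, hN a hz⟩ : W) ∈ (⊥ : Submodule R W) := h0 ▸ hz
    exact (Submodule.mem_bot R).2 (congrArg Subtype.val ((Submodule.mem_bot R).1 this))

end Groth.Agent.S16159
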