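import Groth.Statements.S16160
import Mathlib
import Groth.Agent.S16159

set_option autoImplicit false
universe u v w
open scoped TensorProduct
open MadRed

noncomputable section
namespace Groth.Agent.S16160.AuxS60
open Coalgebra
variable {k : Type u} [Field k] {A : Type v} [CommRing A] [HopfAlgebra k A] {R : Type w} [CommRing R] [Algebra k R]

theorem translAux_eq (g : A →ₐ[k] R) (a : A) {ι : Type*} (r : Coalgebra.Repr k a ι) :
    translAux k A R g a = ∑ i ∈ r.index, g (r.right i) ⊗ₜ[k] r.left i := by
  simp [translAux, ← r.eq, map_sum]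

theorem ptAct_tmul (g : A →ₐ[k] R) (x : R) (a : A) :
    ptAct k A R g (x ⊗ₜ a) = x • translAux k A R g a := by
  simp [ptAct, Algebra.smul_def]

theorem ptAct_one_tmul (g : A →ₐ[k] R) (a : A) :
    ptAct k A R g ((1:R) ⊗ₜ a) = translAux k A R g a := by
  simp [ptAct_tmul]

def mulPt (g h : A →ₐ[k] R) : A →ₐ[k] R := (WithConv.toConv g * WithConv.toConv h).ofConv

theorem mulPt_apply (g h : A →ₐ[k] R) (a : A) {ι : Type*} (r : Coalgebra.Repr k a ι) :
    mulPt g h a = ∑ i ∈ r.index, g (r.left i) * h (r.right i) := by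
  show (WithConv.toConv g * WithConv.toConv h) a = _
  rw [AlgHom.convMul_apply]
  simp [← r.eq, map_sum]

theorem act_act (g h : A →ₐ[k] R) (a : A) :
    ptAct k A R g (translAux k A R h a) = translAux k A R (mulPt g h) a := by
  let r := ℛ k a
  let r₁ := fun i => ℛ k (r.left i)
  let r₂ := fun i => ℛ k (r.right i)
  let Ψ : A ⊗[k] A →ₗ[k] R := (LinearMap.mul' k R).comp (TensorProduct.map g.toLinearMap h.toLinearMap)
  let Φ : A ⊗[k] (A ⊗[k] A) →ₗ[k] R ⊗[k] A :=
    (TensorProduct.comm k A R).toLinearMap.comp (LinearMap.lTensor A Ψ)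
  have hΦ : ∀ x y z : A, Φ (x ⊗ₜ (y ⊗ₜ z)) = (g y * h z) ⊗ₜ x := fun x y z => by simp [Φ, Ψ]
  have key := congrArg Φ (Coalgebra.sum_tmul_tmul_eq r r₁ r₂)
  simp only [map_sum, hΦ] at key
  calc ptAct k A R g (translAux k A R h a)
      = ∑ i ∈ r.index, ∑ j ∈ (r₁ i).index, (g ((r₁ i).right j) * h (r.right i)) ⊗ₜ[k] (r₁ i).left j := by
        rw [translAux_eq h a r, map_sum]
        refine Finset.sum_congr rfl fun i _ => ?_
        rw [ptAct_tmul, translAux_eq g _ (r₁ i), Finset.smul_sum]
        refine Finset.sum_congr rfl fun j _ => ?_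
        rw [TensorProduct.smul_tmul', smul_eq_mul, mul_comm]
    _ = ∑ i ∈ r.index, ∑ j ∈ (r₂ i).index, (g ((r₂ i).left j) * h ((r₂ i).right j)) ⊗ₜ[k] r.left i := key
    _ = _ := by
        rw [translAux_eq _ a r]
        refine Finset.sum_congr rfl fun i _ => ?_
        rw [mulPt_apply g h _ (r₂ i), TensorProduct.sum_tmul]

theorem ptAct_mul (g h : A →ₐ[k] R) (z : R ⊗[k] A) :
    ptAct k A R g (ptAct k A R h z) = ptAct k A R (mulPt g h) z := by
  induction z with
  | zero => simp
  | add x y hx hy => simp [hx, hy]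
  | tmul x a => rw [ptAct_tmul, map_smul, act_act, ptAct_tmul]

theorem ptAct_one (z : R ⊗[k] A) : ptAct k A R ((1 : WithConv (A →ₐ[k] R)).ofConv) z = z := by
  induction z with
  | zero => simp
  | add x y hx hy => simp [hx, hy]
  | tmul x a =>
    rw [ptAct_tmul]
    let r := ℛ k a
    rw [translAux_eq _ a r]
    have h1 := congrArg (TensorProduct.map (LinearMap.id : A →ₗ[k] A) (Algebra.linearMap k R)) (Coalgebra.sum_tmul_counit_eq r)
    simp only [map_sum, TensorProduct.map_tmul, LinearMap.id_coe, id_eq, Algebra.linearMap_apply, map_one] at h1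
    have h2 := congrArg (TensorProduct.comm k A R) h1
    simp only [map_sum, TensorProduct.comm_tmul] at h2
    have : ∀ y, (1 : WithConv (A →ₐ[k] R)).ofConv y = algebraMap k R (counit (R := k) y) := fun y => AlgHom.convOne_apply y
    simp only [this, h2]
    rw [TensorProduct.smul_tmul', smul_eq_mul, mul_one]

variable [IsNoetherianRing R]

theorem hfin (H : Set (A →ₐ[k] R)) (v : R ⊗[k] A) :
    ∃ W : Submodule R (R ⊗[k] A), v ∈ W ∧ W.FG ∧
      ∀ g : H, ∀ w ∈ W, (ptAct k A R g.1).toLinearMap w ∈ W := by
  classical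
  refine ⟨Submodule.span R (Set.range fun h : A →ₐ[k] R => ptAct k A R h v),
    Submodule.subset_span ⟨_, ptAct_one v⟩, ?_, ?_⟩
  · suffices ∃ N : Submodule R (R ⊗[k] A), N.FG ∧ ∀ h, ptAct k A R h v ∈ N by
      obtain ⟨N, hN, hh⟩ := this
      have : Submodule.span R (Set.range fun h : A →ₐ[k] R => ptAct k A R h v) ≤ N :=
        Submodule.span_le.2 (by rintro _ ⟨h, rfl⟩; exact hh h)
      exact (isNoetherian_of_fg_of_noetherian _ hN) |> fun _ => Submodule.FG.of_le hN this
    induction v with
    | zero => exact ⟨⊥, Submodule.fg_bot, fun h => by simp⟩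
    | add x y hx hy =>
      obtain ⟨N, hN, hh⟩ := hx; obtain ⟨N', hN', hh'⟩ := hy
      exact ⟨N ⊔ N', hN.sup hN', fun h => by rw [map_add]; exact add_mem (Submodule.mem_sup_left (hh h)) (Submodule.mem_sup_right (hh' h))⟩
    | tmul x a =>
      let r := ℛ k a
      refine ⟨Submodule.span R ((r.index.image fun i => (1:R) ⊗ₜ[k] r.left i : Finset _) : Set (R ⊗[k] A)),
        Submodule.fg_span (Finset.finite_toSet _), fun h => ?_⟩
      rw [ptAct_tmul, translAux_eq h a r]
      refine Submodule.smul_mem _ _ (Submodule.sum_mem _ fun i hi => ?_)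
      have : h (r.right i) ⊗ₜ[k] r.left i = h (r.right i) • ((1:R) ⊗ₜ[k] r.left i) := by
        rw [TensorProduct.smul_tmul', smul_eq_mul, mul_one]
      rw [this]
      exact Submodule.smul_mem _ _ (Submodule.subset_span (Finset.mem_image_of_mem _ hi))
  · intro g w hw
    induction hw using Submodule.span_induction with
    | mem x hx =>
      obtain ⟨h, rfl⟩ := hx
      exact Submodule.subset_span ⟨mulPt g.1 h, (ptAct_mul _ _ _).symm⟩
    | zero => simp
    | add x y _ _ hx hy => rw [map_add]; exact add_mem hx hy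
    | smul c x _ hx => rw [map_smul]; exact Submodule.smul_mem _ _ hx

theorem main (H : Set (A →ₐ[k] R))
    (hcomm : ∀ g ∈ H, ∀ h ∈ H,
      WithConv.toConv g * WithConv.toConv h = WithConv.toConv h * WithConv.toConv g)
    (hdiag : ∀ g ∈ H, ⨆ μ : k,
      Module.End.eigenspace (((MadRed.ptAct k A R g).toLinearMap).restrictScalars k) μ = ⊤) :
    ⨆ χ : H → k, ⨅ g : H,
      Module.End.eigenspace (((MadRed.ptAct k A R g.1).toLinearMap).restrictScalars k) (χ g) = ⊤ := by
  refine Groth.Agent.S16159.result k R (R ⊗[k] A) H (fun g => (ptAct k A R g.1).toLinearMap) ?_ (fun g => hdiag g.1 g.2) (hfin H)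
  intro g h
  refine LinearMap.ext fun z => ?_
  show ptAct k A R g.1 (ptAct k A R h.1 z) = ptAct k A R h.1 (ptAct k A R g.1 z)
  rw [ptAct_mul, ptAct_mul]
  simp only [mulPt, hcomm g.1 g.2 h.1 h.2]

end Groth.Agent.S16160.AuxS60

end

namespace Groth.Agent.S16160

/-- Let k be a field, G = Spec A an affine k-group with A a commutative Hopf algebra over k, and R a
commutative Noetherian k-algebra, so that R ⊗ A is the coordinate ring of the base change G_R and
the k-algebra maps A → R are its R-valued points. Let H be a set of R-valued points which pairwise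
commute for the convolution product of G(R) (the case of an abelian subgroup of G(R)). If every g in
H is diagonalizable over k on R ⊗ A, meaning that the eigenspaces of right translation by g, for
eigenvalues in k, span R ⊗ A, then H is simultaneously diagonalizable over k on R ⊗ A: the common
eigenspaces of the right translations by all g in H span R ⊗ A. The standing assumptions of the
source at this point (k algebraically closed of characteristic zero, G reductive) are not used. -/
theorem result (k : Type u) [Field k]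
    (A : Type v) [CommRing A] [HopfAlgebra k A] (R : Type w) [CommRing R] [Algebra k R]
    [IsNoetherianRing R] (H : Set (A →ₐ[k] R))
    (hcomm : ∀ g ∈ H, ∀ h ∈ H,
      WithConv.toConv g * WithConv.toConv h = WithConv.toConv h * WithConv.toConv g)
    (hdiag : ∀ g ∈ H, ⨆ μ : k,
      Module.End.eigenspace (((MadRed.ptAct k A R g).toLinearMap).restrictScalars k) μ = ⊤) :
    ⨆ χ : H → k, ⨅ g : H,
      Module.End.eigenspace (((MadRed.ptAct k A R g.1).toLinearMap).restrictScalars k) (χ g) = ⊤ := by
  exact AuxS60.main H hcomm hdiag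

end Groth.Agent.S16160
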