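import Groth.Statements.S16161
import Mathlib

set_option autoImplicit false
universe u v
open MadRed

noncomputable section
namespace Groth.Agent.S16161.AuxS61
open Module
theorem result
    (k : Type*) [Field k] [IsAlgClosed k] [CharZero k]
    (R : Type*) [CommRing R] [Algebra k R]
    (n : ℕ) (g : Module.End R (Fin n → R)) (m : ℕ) (hm : 0 < m) (hg : g ^ m = 1) :
    ⨆ μ : k, Module.End.eigenspace (g.restrictScalars k) μ = ⊤ := by
  set T : Module.End k (Fin n → R) := g.restrictScalars k
  have hT : ∀ (j : ℕ) v, (T ^ j) v = (g ^ j) v := by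
    intro j; induction j with
    | zero => simp
    | succ j ih => intro v; rw [pow_succ', pow_succ', Module.End.mul_apply, Module.End.mul_apply, ih]; rfl
  haveI : NeZero m := ⟨hm.ne'⟩
  obtain ⟨ζ, hζ⟩ := HasEnoughRootsOfUnity.exists_primitiveRoot k m
  rw [eq_top_iff]
  intro v _
  let w : ℕ → (Fin n → R) := fun a => ∑ j ∈ Finset.range m, (ζ⁻¹ ^ a) ^ j • (T ^ j) v
  have hζ0 : ζ ≠ 0 := hζ.ne_zero hm.ne'
  have hw : ∀ a, w a ∈ Module.End.eigenspace T (ζ ^ a) := by
    intro a
    rw [Module.End.mem_eigenspace_iff]
    let F : ℕ → (Fin n → R) := fun j => (ζ⁻¹ ^ a) ^ j • (T ^ j) v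
    have h1 : T (w a) = ∑ j ∈ Finset.range m, ζ ^ a • F (j + 1) := by
      simp only [w, map_sum, map_smul]
      refine Finset.sum_congr rfl fun j _ => ?_
      simp only [F, smul_smul, pow_succ', Module.End.mul_apply]
      congr 1
      rw [← mul_assoc, inv_pow, mul_inv_cancel₀ (pow_ne_zero _ hζ0), one_mul]
    rw [h1, ← Finset.smul_sum]
    congr 1
    have e1 := Finset.sum_range_succ F m
    have e2 := Finset.sum_range_succ' F m
    have e3 : F m = F 0 := by
      simp only [F, pow_zero, hT, hg]
      rw [← pow_mul, mul_comm, pow_mul, inv_pow, hζ.pow_eq_one, inv_one, one_pow]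
    rw [e3] at e1
    exact add_right_cancel (e2.symm.trans e1)
  have hsum : ∑ a ∈ Finset.range m, w a = (m : k) • v := by
    simp only [w]
    rw [Finset.sum_comm, Finset.sum_eq_single 0]
    · simp [Nat.cast_smul_eq_nsmul]
    · intro j hj hj0
      rw [← Finset.sum_smul]
      have : ∑ a ∈ Finset.range m, (ζ⁻¹ ^ a) ^ j = 0 := by
        have hne : ζ⁻¹ ^ j ≠ 1 := hζ.inv.pow_ne_one_of_pos_of_lt hj0 (Finset.mem_range.1 hj)
        rw [show (fun a => (ζ⁻¹ ^ a) ^ j) = fun a => (ζ⁻¹ ^ j) ^ a from funext fun a => by rw [← pow_mul, ← pow_mul, mul_comm],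
          geom_sum_eq hne, ← pow_mul, mul_comm, pow_mul, hζ.inv.pow_eq_one, one_pow, sub_self, zero_div]
      rw [this, zero_smul]
    · simp [hm.ne']
  have hv : v = (m : k)⁻¹ • ∑ a ∈ Finset.range m, w a := by
    rw [hsum, inv_smul_smul₀ (Nat.cast_ne_zero.2 hm.ne')]
  rw [hv]
  exact Submodule.smul_mem _ _ (Submodule.sum_mem _ fun a _ => Submodule.mem_iSup_of_mem _ (hw a))
end Groth.Agent.S16161.AuxS61

end

namespace Groth.Agent.S16161

/-- Let k be an algebraically closed field of characteristic zero and R a reduced finitely generated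
commutative k-algebra whose spectrum is connected (R has no idempotents besides 0 and 1); let W =
R^n be a free R-module of finite rank and g an R-linear endomorphism of W of finite order, g^m = 1
with m > 0 (an element of finite order of GL(W)(R)). Then the action of g on W is diagonalizable
over k: viewing g as a k-linear map, its eigenspaces for eigenvalues in k span W. The source also
assumes that g is diagonalizable over k on every fibre W ⊗ k(x), x a point of Spec R; for g of
finite order this holds automatically (k is algebraically closed of characteristic zero), as the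
source itself notes, so that hypothesis is omitted. -/
theorem result
    (k : Type u) [Field k] [IsAlgClosed k] [CharZero k]
    (R : Type v) [CommRing R] [Algebra k R] [IsReduced R] [Algebra.FiniteType k R]
    (hconn : ∀ e : R, IsIdempotentElem e → e = 0 ∨ e = 1)
    (n : ℕ) (g : Module.End R (Fin n → R)) (m : ℕ) (hm : 0 < m) (hg : g ^ m = 1) :
    ⨆ μ : k, Module.End.eigenspace (g.restrictScalars k) μ = ⊤ := by
  exact AuxS61.result k R n g m hm hg

end Groth.Agent.S16161
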