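import Groth.Statements.S16162

set_option autoImplicit false
open CategoryTheory MonoidalCategory CartesianMonoidalCategory MonObj GrpObj AlgebraicGeometry
universe u
open MadRed

namespace Groth.Agent.S16162

/-- Let S be a scheme, G a group scheme over S, and X an S-scheme with an action of G making X → S a
principal G-bundle (a torsor in the representable fppf sense: X → S surjective, flat and locally of
finite presentation, and G ×_S X → X ×_S X, (g, x) ↦ (g·x, x), an isomorphism). Let P be a closed
subset of X stable under the action: the action map sends into P every point of G ×_S X whose second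
projection lies in P. Then the image of P in S is closed, and P is the full preimage of its image.
(The source works with varieties over the complex numbers and an affine algebraic group; the
assertion holds over any base. Its second assertion, that P → image is again a principal bundle for
the induced reduced structures, then comes from base change and is not part of this row.) -/
theorem result {S : Scheme.{u}}
    {G X : Over S} [GrpObj G] (a : AlgGrp.Action G X) (ha : RedSub.IsTorsor a)
    (P : Set X.left) (hP : IsClosed P)
    (hstab : ∀ w : (G ⊗ X).left, (snd G X).left.base w ∈ P → a.act.left.base w ∈ P) :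
    IsClosed (X.hom.base '' P) ∧ X.hom.base ⁻¹' (X.hom.base '' P) = P := by
  obtain ⟨hsurj, hflat, hlfp, hiso⟩ := ha
  have hsat : X.hom.base ⁻¹' (X.hom.base '' P) = P := by
    refine subset_antisymm ?_ (Set.subset_preimage_image _ _)
    rintro x' ⟨x, hxP, hxx'⟩
    obtain ⟨z, hz1, hz2⟩ := Scheme.Pullback.exists_preimage_pullback (f := X.hom) (g := X.hom) x' x hxx'.symm
    have : IsIso (lift a.act (snd G X)).left :=
      inferInstanceAs (IsIso ((Over.forget S).map (lift a.act (snd G X))))
    let w := (inv (lift a.act (snd G X)).left).base z
    have hw : ∀ {Z : Scheme.{u}} (h : (X ⊗ X).left ⟶ Z),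
        ((lift a.act (snd G X)).left ≫ h).base w = h.base z := fun h => by
      show ((inv (lift a.act (snd G X)).left) ≫ (lift a.act (snd G X)).left ≫ h).base z = _
      rw [IsIso.inv_hom_id_assoc]
    have h1 : a.act.left.base w = x' := by
      rw [← lift_fst a.act (snd G X), Over.comp_left, hw]
      exact hz1
    have h2 : (snd G X).left.base w = x := by
      conv_lhs => rw [← lift_snd a.act (snd G X)]
      rw [Over.comp_left, hw]
      exact hz2
    rw [← h1]
    exact hstab w (by rw [h2]; exact hxP)
  refine ⟨?_, hsat⟩
  rw [← isOpen_compl_iff]
  have hc : (X.hom.base '' P)ᶜ = X.hom.base '' Pᶜ := by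
    conv_rhs => rw [← hsat, ← Set.preimage_compl]
    rw [Set.image_preimage_eq _ hsurj.surj]
  rw [hc]
  exact X.hom.isOpenMap _ hP.isOpen_compl


end Groth.Agent.S16162
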