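import Groth.Statements.S16170
import Mathlib

set_option autoImplicit false
open Neron

noncomputable section
namespace Groth.Agent.S16170.AuxS70
open Matrix
variable {ι : Type} [Fintype ι] [DecidableEq ι]
lemma psd_zero (N : Matrix ι ι ℤ) (hN : N.IsSymm) (hp : ∀ v : ι → ℤ, 0 ≤ v ⬝ᵥ N *ᵥ v) (v : ι → ℤ)
    (h : v ⬝ᵥ N *ᵥ v = 0) : N *ᵥ v = 0 := by
  set w := N *ᵥ v
  have hsym : ∀ a b : ι → ℤ, a ⬝ᵥ N *ᵥ b = b ⬝ᵥ N *ᵥ a := by
    intro a b; rw [dotProduct_mulVec, ← mulVec_transpose, hN.eq, dotProduct_comm]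
  set c := w ⬝ᵥ N *ᵥ w
  have := hp ((c+1) • v - w)
  simp only [mulVec_sub, mulVec_smul, sub_dotProduct, dotProduct_sub, smul_dotProduct, dotProduct_smul, smul_eq_mul, h] at this
  rw [hsym v w] at this
  have h2 : w ⬝ᵥ N *ᵥ v = w ⬝ᵥ w := rfl
  simp only [h2, show v ⬝ᵥ N *ᵥ v = 0 from h] at this
  have hc : 0 ≤ c := hp w
  have hw : 0 ≤ w ⬝ᵥ w := Finset.sum_nonneg fun i _ => mul_self_nonneg _
  have : w ⬝ᵥ w = 0 := by nlinarith
  funext i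
  simpa using (Finset.sum_eq_zero_iff_of_nonneg (fun i _ => mul_self_nonneg (w i))).1 this i (Finset.mem_univ i)

theorem result
    (M N χ₁ χ₂ : Matrix ι ι ℤ) (hM : M.IsSymm) (hN : N.IsSymm)
    (hMpos : ∀ v : ι → ℤ, 0 ≤ v ⬝ᵥ M.mulVec v) (hNpos : ∀ v : ι → ℤ, 0 ≤ v ⬝ᵥ N.mulVec v)
    (hpos : ∀ v : ι → ℤ, v ≠ 0 → 0 < v ⬝ᵥ (M + N).mulVec v)
    (hsum : χ₁ + χ₂ = 1) (hrel : M * χ₂ = N * χ₁) :
    χ₁ * χ₁ = χ₁ ∧ χ₂ * χ₂ = χ₂ := by
  set P := M + N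
  have hχ2 : χ₂ = 1 - χ₁ := eq_sub_of_add_eq' hsum
  have hPM : M = P * χ₁ := by
    rw [hχ2, mul_sub, mul_one, sub_eq_iff_eq_add] at hrel
    rw [add_mul, add_comm]; exact hrel
  have hPN : N = P * (1 - χ₁) := by rw [mul_sub, mul_one, ← hPM]; simp [P]
  have hPsym : P.IsSymm := hM.add hN
  have sa : ∀ a b, a ⬝ᵥ P *ᵥ (χ₁ *ᵥ b) = (χ₁ *ᵥ a) ⬝ᵥ P *ᵥ b := by
    intro a b
    rw [mulVec_mulVec, ← hPM, dotProduct_mulVec, ← mulVec_transpose, hM.eq]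
    conv_lhs => rw [hPM, ← mulVec_mulVec]
    conv_rhs => rw [dotProduct_mulVec, ← mulVec_transpose, hPsym.eq]
  have inj : ∀ u, P *ᵥ u = 0 → u = 0 := by
    intro u hu; by_contra h; exact (hpos u h).ne' (by rw [hu, dotProduct_zero])
  have down : ∀ u, χ₁ *ᵥ (χ₁ *ᵥ u) = 0 → χ₁ *ᵥ u = 0 := by
    intro u hu; by_contra h
    have := hpos _ h
    rw [sa, hu, zero_dotProduct] at this; omega
  have key : ∀ v, χ₁ *ᵥ ((1 - χ₁) *ᵥ v) = 0 := by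
    intro v
    let w : ℕ → (ι → ℤ) := fun j => (fun x => χ₁ *ᵥ x)^[j] v
    have hws : ∀ j, w (j+1) = χ₁ *ᵥ w j := fun j => Function.iterate_succ_apply' _ _ _
    let B : ℕ → ℤ := fun j => w j ⬝ᵥ P *ᵥ w j
    have hstep : ∀ j, w j ⬝ᵥ N *ᵥ w j + w (j+1) ⬝ᵥ N *ᵥ w j ≤ B j - B (j+1) := by
      intro j
      have e1 : B j = w j ⬝ᵥ N *ᵥ w j + w j ⬝ᵥ M *ᵥ w j := by simp [B, P, add_mulVec, dotProduct_add, add_comm]
      have e2 : w j ⬝ᵥ M *ᵥ w j = w (j+1) ⬝ᵥ P *ᵥ w j := by rw [hPM, ← mulVec_mulVec, sa, hws]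
      have e3 : w (j+1) ⬝ᵥ N *ᵥ w j = w (j+1) ⬝ᵥ P *ᵥ w j - w (j+1) ⬝ᵥ P *ᵥ w (j+1) := by
        rw [hPN, mul_sub, mul_one, sub_mulVec, ← mulVec_mulVec, ← hws, dotProduct_sub]
      have e4 : B (j+1) = w (j+1) ⬝ᵥ P *ᵥ w (j+1) := rfl
      omega
    have hcross : ∀ j, 0 ≤ w (j+1) ⬝ᵥ N *ᵥ w j := by
      intro j
      set a := w j
      have e1 : (χ₁ *ᵥ a) ⬝ᵥ N *ᵥ a = a ⬝ᵥ P *ᵥ (χ₁ *ᵥ ((1-χ₁) *ᵥ a)) := by rw [sa, hPN, ← mulVec_mulVec]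
      have e2 : a ⬝ᵥ P *ᵥ (χ₁ *ᵥ ((1-χ₁) *ᵥ a)) =
          ((1-χ₁) *ᵥ a) ⬝ᵥ M *ᵥ ((1-χ₁) *ᵥ a) + (χ₁ *ᵥ a) ⬝ᵥ N *ᵥ (χ₁ *ᵥ a) := by
        have h' : ∀ c, P *ᵥ (χ₁ *ᵥ c) = M *ᵥ c := fun c => by rw [mulVec_mulVec, ← hPM]
        have hsplit : a = (1-χ₁) *ᵥ a + χ₁ *ᵥ a := by rw [← add_mulVec]; simp
        conv_lhs => arg 1; rw [hsplit]
        rw [add_dotProduct, h']
        congr 1
        rw [hPN, ← mulVec_mulVec]
        rw [show (1-χ₁) *ᵥ (χ₁ *ᵥ a) = χ₁ *ᵥ ((1-χ₁) *ᵥ a) by rw [mulVec_mulVec, mulVec_mulVec]; congr 1; noncomm_ring]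
        rw [h']
      rw [hws, e1, e2]; exact add_nonneg (hMpos _) (hNpos _)
    obtain ⟨j, hj⟩ : ∃ j, w j ⬝ᵥ N *ᵥ w j = 0 := by
      by_contra hne; push Not at hne
      have hd : ∀ j : ℕ, B j ≤ B 0 - j := by
        intro j; induction j with
        | zero => simp
        | succ j ih =>
          have := hstep j; have := hcross j; have := (hNpos (w j)).lt_of_ne (hne j).symm
          push_cast; omega
      have h0 : ∀ j, 0 ≤ B j := fun j => by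
        simp only [B, P, add_mulVec, dotProduct_add]; exact add_nonneg (hMpos _) (hNpos _)
      have := hd (B 0).toNat.succ; have := h0 (B 0).toNat.succ
      push_cast at *; omega
    have h0 : (1 - χ₁) *ᵥ w j = 0 := inj _ (by rw [mulVec_mulVec, ← hPN]; exact psd_zero N hN hNpos _ hj)
    have : ∀ j u, (1 - χ₁) *ᵥ ((fun x => χ₁ *ᵥ x)^[j] u) = (fun x => χ₁ *ᵥ x)^[j] ((1-χ₁) *ᵥ u) := by
      intro j; induction j with
      | zero => simp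
      | succ j ih =>
        intro u; rw [Function.iterate_succ_apply, Function.iterate_succ_apply, ih]
        congr 1; rw [mulVec_mulVec, mulVec_mulVec]; congr 1; noncomm_ring
    rw [this] at h0
    clear hj this
    induction j with
    | zero => simp only [Function.iterate_zero, id] at h0; rw [h0, mulVec_zero]
    | succ j ih =>
      rcases j with _ | j
      · simpa using h0
      · apply ih; rw [Function.iterate_succ_apply', Function.iterate_succ_apply'] at h0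
        rw [Function.iterate_succ_apply']; exact down _ h0
  have h11 : χ₁ * χ₁ = χ₁ := by
    apply Matrix.ext_of_mulVec_single; intro i
    have := key (Pi.single i 1)
    rw [mulVec_mulVec, mul_sub, mul_one, sub_mulVec, sub_eq_zero] at this
    exact this.symm
  refine ⟨h11, ?_⟩
  rw [hχ2]; simp [mul_sub, sub_mul, h11]
end Groth.Agent.S16170.AuxS70

end

namespace Groth.Agent.S16170

/-- Let M and N be symmetric positive-semidefinite integer matrices on the same finite index set whose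
sum M + N is positive definite, and let χ₁, χ₂ be integer matrices with χ₁ + χ₂ = 1 and M χ₂ = N χ₁.
Then χ₁ and χ₂ are idempotent. (In the intended application M = Pᵀ Ψ₁ P and N = Qᵀ Ψ₂ Q for
surjective integer matrices P, Q and positive-definite Ψ₁, Ψ₂.) -/
theorem result
    {ι : Type} [Fintype ι] [DecidableEq ι]
    (M N χ₁ χ₂ : Matrix ι ι ℤ) (hM : M.IsSymm) (hN : N.IsSymm)
    (hMpos : ∀ v : ι → ℤ, 0 ≤ v ⬝ᵥ M.mulVec v) (hNpos : ∀ v : ι → ℤ, 0 ≤ v ⬝ᵥ N.mulVec v)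
    (hpos : ∀ v : ι → ℤ, v ≠ 0 → 0 < v ⬝ᵥ (M + N).mulVec v)
    (hsum : χ₁ + χ₂ = 1) (hrel : M * χ₂ = N * χ₁) :
    χ₁ * χ₁ = χ₁ ∧ χ₂ * χ₂ = χ₂ := by
  exact AuxS70.result M N χ₁ χ₂ hM hN hMpos hNpos hpos hsum hrel

end Groth.Agent.S16170
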