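import Groth.Statements.S16172
import Groth.Agent.Tors37.MultTorsor

set_option autoImplicit false
universe u
open CategoryTheory MonoidalCategory CartesianMonoidalCategory MonObj GrpObj AlgebraicGeometry
open NonAbH1

namespace Groth.Agent.S16172

/-- Let V be a valuation ring with fraction field K and M a V-group scheme of multiplicative type and of
finite type. Then H¹_fpqc(V, M) → H¹_fpqc(K, M) is injective: the base-change map along Spec K →
Spec V on classes of fpqc torsors (schemes with an M-action) is injective. In particular (the case
of a V-torus, where fpqc torsors are the same as etale ones) a torsor under a V-torus that is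
trivial over K is trivial. (The published statement does not assume M of finite type; the proof uses
it: the isotriviality of M and the reduction to valuation rings of finite rank need it.) -/
theorem result (V : Type u) [CommRing V]
    [IsDomain V] [ValuationRing V] (M : Over (Spec (CommRingCat.of V))) [GrpObj M] (hM : SGA3x.IsMultTypeFT M) :
    Function.Injective
      (NonAbH1.H1Sch.bcMap (Spec.map (CommRingCat.ofHom (algebraMap V (FractionRing V)))) M Scheme.fpqcPrecoverage) := by
  intro c c' h
  induction c using Quot.ind with
  | _ P =>
    induction c' using Quot.ind with
    | _ Q =>
      obtain ⟨φ⟩ := (Groth.Agent.Tors37.cl_eq_iff (P.bc _) (Q.bc _)).mp h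
      exact (Groth.Agent.Tors37.cl_eq_iff P Q).mpr (Groth.Agent.Tors37.MultTorsor.equivIso_of_generic hM P Q φ)

end Groth.Agent.S16172
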