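import Groth.Statements.S16184
import Groth.Agent.AGF80.Luna.Perfect

set_option autoImplicit false
universe u
open CategoryTheory MonoidalCategory CartesianMonoidalCategory MonObj GrpObj AlgebraicGeometry
open AGF

namespace Groth.Agent.S16184

/-- Let G be a semisimple group over an algebraically closed field k and T ⊆ G a maximal torus. A
character χ : T → 𝔾_m which is Weyl-invariant — χ ∘ φ = χ whenever φ : T → T is induced by
conjugation by a k-point of G carrying T into itself — is the trivial character. (In the source this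
is the vanishing of the Weyl-invariants of the character lattice of the maximal torus of the derived
subgroup.) -/
theorem result (k : Type u) [Field k] [IsAlgClosed k]
    (G : Over (Spec (CommRingCat.of k))) [GrpObj G] (hG : Red.IsSemisimple G)
    (T : Over (Spec (CommRingCat.of k))) [GrpObj T] (iT : T ⟶ G) (hT : Red.IsMaximalTorus iT)
    (χ : T ⟶ Red.Gm (Spec (CommRingCat.of k))) [IsMonHom χ]
    (hχ : ∀ (n : 𝟙_ (Over (Spec (CommRingCat.of k))) ⟶ G) (φ : T ⟶ T), φ ≫ iT = AGF.conjBy n iT → φ ≫ χ = χ) :
    χ = 1 := by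
  have hG' := AGF80.Luna.isSemisimpleOver_of hG
  have hT' := AGF80.Luna.isMaxTorus_of hT
  obtain ⟨hTm, -, hTt, -⟩ := id hT'
  obtain ⟨hTs, _, _, _, _⟩ := AlgGrp33.IsogSub.torus_props hTt
  haveI := hTs
  haveI : IsReduced T.left := AlgGrp79.isReduced_of_smooth T.hom
  haveI := AlgGrp79.isSeparated_grp (Red.Gm (Spec (CommRingCat.of k)))
  haveI : IsCommMonObj (Red.Gm (Spec (CommRingCat.of k))) := inferInstance
  letI : CommGroup (𝟙_ (Over (Spec (CommRingCat.of k))) ⟶ Red.Gm (Spec (CommRingCat.of k))) :=
    { (inferInstance : Group (𝟙_ (Over (Spec (CommRingCat.of k))) ⟶ Red.Gm (Spec (CommRingCat.of k)))) with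
      mul_comm := fun a b => mul_comm a b }
  refine AlgGrp79.BorelFixed.hom_ext_pts χ 1 fun p => ?_
  have h := DFunLike.congr_fun (AGF80.Luna.invariant_hom_eq_one hG' hT'
    (MonoidHom.mk' (fun q => q ≫ χ) fun a b => MonObj.mul_comp a b χ)
    fun n σ hσ q => by
      show (q ≫ σ) ≫ χ = q ≫ χ
      rw [Category.assoc, hχ n σ hσ]) p
  rw [MonObj.comp_one]
  exact h

end Groth.Agent.S16184
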