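import Groth.Statements.S16185
import Groth.Agent.An92.Gor.FibreStalk

set_option autoImplicit false
universe u
open CategoryTheory CategoryTheory.Limits AlgebraicGeometry
open Dual3

namespace Groth.Agent.S16185

/-- Let A be an Artinian local ring with maximal ideal m and let f : P → Spec A be a flat morphism of
schemes whose closed fibre X = P ×_{Spec A} Spec (A/m) is a Gorenstein scheme (locally Noetherian,
all local rings Gorenstein). Then f is a Gorenstein morphism: flat at every point with Gorenstein
local rings on its fibres. (The source takes A to be a local Artinian algebra over a field k with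
residue field k and X a k-scheme deformed flatly over A; the k-algebra structure plays no role, so
the residue field of A is used directly.) -/
theorem result
    {A : Type u} [CommRing A] [IsArtinianRing A] [IsLocalRing A]
    {P X : Scheme.{u}} (f : P ⟶ Spec (CommRingCat.of A)) [Flat f]
    (i : X ⟶ P) (q : X ⟶ Spec (CommRingCat.of (IsLocalRing.ResidueField A)))
    (hsq : IsPullback i q f (Spec.map (CommRingCat.ofHom (IsLocalRing.residue A))))
    (hX : Dual3.IsGorenstein X) : Dual3.IsGorensteinMor f := by
  intro x
  refine ⟨Flat.stalkMap f x, ?_⟩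
  obtain ⟨r, hr⟩ : ∃ r, r = Spec.map (CommRingCat.ofHom (IsLocalRing.residue A)) := ⟨_, rfl⟩
  rw [← hr] at hsq
  have hrc : IsClosedImmersion r := by
    rw [hr]
    exact IsClosedImmersion.spec_of_surjective _ IsLocalRing.residue_surjective
  obtain ⟨s, hs⟩ : ∃ s, s = r (IsLocalRing.closedPoint (IsLocalRing.ResidueField A)) := ⟨_, rfl⟩
  haveI : Subsingleton (PrimeSpectrum A) := ⟨fun P Q => PrimeSpectrum.ext
    ((IsLocalRing.eq_maximalIdeal (Ideal.IsPrime.isMaximal' P.2)).trans (IsLocalRing.eq_maximalIdeal (Ideal.IsPrime.isMaximal' Q.2)).symm)⟩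
  have hfx : f x = s := Subsingleton.elim (α := PrimeSpectrum A) _ _
  obtain ⟨e, he, hei⟩ : ∃ e : Spec (CommRingCat.of (IsLocalRing.ResidueField A)) ⟶
      Spec ((Spec (CommRingCat.of A)).residueField s),
        e ≫ (Spec (CommRingCat.of A)).fromSpecResidueField s = r ∧ IsIso e := by
    subst hs
    refine ⟨_, Scheme.descResidueField_stalkClosedPointTo_fromSpecResidueField _ _ r, ?_⟩
    obtain ⟨e, he⟩ : ∃ e, e = Spec.map ((Spec (CommRingCat.of A)).descResidueField
        (Scheme.stalkClosedPointTo r)) := ⟨_, rfl⟩
    rw [← he]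
    haveI : IsClosedImmersion (e ≫ (Spec (CommRingCat.of A)).fromSpecResidueField _) := by
      rw [he, Scheme.descResidueField_stalkClosedPointTo_fromSpecResidueField]
      exact hrc
    haveI : IsClosedImmersion e := IsClosedImmersion.of_comp e ((Spec (CommRingCat.of A)).fromSpecResidueField _)
    haveI : Surjective e := ⟨fun y => ⟨IsLocalRing.closedPoint _, Subsingleton.elim _ _⟩⟩
    exact isIso_of_isClosedImmersion_of_surjective e
  have hpb : IsPullback i (q ≫ e) f ((Spec (CommRingCat.of A)).fromSpecResidueField s) :=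
    hsq.of_iso (Iso.refl _) (Iso.refl _) (asIso e) (Iso.refl _) (by simp) (by simp) (by simp)
      (by simp [he])
  obtain ⟨E⟩ : Nonempty (X ≅ f.fiber (f x)) := hfx ▸ ⟨hpb.isoPullback⟩
  exact (Groth.Agent.Gor18.gor_congr (asIso (E.inv.stalkMap (f.asFiber x))).commRingCatIsoToRingEquiv).1
    (hX.2 _)

end Groth.Agent.S16185
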