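import Groth.Statements.S16186
import Groth.Agent.Deform85.CurveSelect
import Groth.Agent.Deform85.PowerSmoothing
import Groth.Agent.Approx60.Segre
import Mathlib.RingTheory.PowerSeries.Inverse
import Mathlib.AlgebraicGeometry.Noetherian
import Mathlib.AlgebraicGeometry.ResidueField

set_option autoImplicit false
set_option linter.style.haveILetI false
set_option backward.isDefEq.respectTransparency false
universe u
open CategoryTheory CategoryTheory.Limits AlgebraicGeometry
open Deform Groth.Agent.Deform85

namespace Groth.Agent.S16186

/-- Let k be an algebraically closed field and let p : P → Spec k[[t]] be flat and projective, i.e. P is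
a closed subscheme of a projective space over k[[t]] compatibly with p; let X be its closed fibre
over k and suppose the generic fibre P ⊗ Frac k[[t]] is smooth. Then X is geometrically smoothable:
there exist an affine integral curve C, smooth of dimension one over k, a k-rational point c of C
and a flat proper morphism Y → C whose fibre over c is isomorphic to X over k and whose fibre over
the generic point of C is smooth. (The source's statement is the equivalence, for X reduced
projective and equidimensional over an algebraically closed field of characteristic zero with H^2(X,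
O_X) = 0 or with X Gorenstein and its dualizing sheaf or the dual of it ample, between the existence
of a formal smoothing and of a geometric smoothing; its proof first turns a formal smoothing into a
smoothing over Spec k[[t]] and then runs the argument stated here, which uses neither characteristic
zero nor the hypotheses on X.) -/
theorem result
    (k : Type u) [Field k] [IsAlgClosed k]
    (X : Scheme.{u}) (pX : X ⟶ Spec (CommRingCat.of k))
    (P : Scheme.{u}) (p : P ⟶ Spec (CommRingCat.of (PowerSeries k))) [Flat p]
    (hproj : ∃ (d : ℕ) (ι : P ⟶ CohB1.ProjSpace d (PowerSeries k)), IsClosedImmersion ι ∧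
      ι ≫ CohB1.ProjSpace.toSpec d (PowerSeries k) = p)
    (i : X ⟶ P)
    (hX : IsPullback i pX p (Spec.map (CommRingCat.ofHom (PowerSeries.constantCoeff (R := k)))))
    (hgen : Smooth (pullback.snd p
      (Spec.map (CommRingCat.ofHom (algebraMap (PowerSeries k) (FractionRing (PowerSeries k)))))))
    : ∃ (C : Scheme.{u}) (qC : C ⟶ Spec (CommRingCat.of k)) (c : Spec (CommRingCat.of k) ⟶ C)
      (_ : c ≫ qC = 𝟙 (Spec (CommRingCat.of k))) (_ : IsIntegral C) (_ : IsAffine C) (_ : Smooth qC)
      (_ : topologicalKrullDim C = 1)
      (Y : Scheme.{u}) (π : Y ⟶ C) (_ : Flat π) (_ : IsProper π) (j : X ⟶ Y)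
      (η : C) (_ : closure ({η} : Set C) = Set.univ),
      IsPullback j pX π c ∧ Smooth (π.fiberToSpecResidueField η) := by
  classical
  obtain ⟨d, ι, hι, hιp⟩ := hproj
  haveI := hι
  haveI : IsProper (CohB1.ProjSpace.toSpec d (PowerSeries k)) := Approx60.Segre.isProper_toSpec _ d
  haveI : IsProper p := by rw [← hιp]; infer_instance
  haveI : IsNoetherianRing (CommRingCat.of (PowerSeries k)) := inferInstanceAs (IsNoetherianRing (PowerSeries k))
  haveI : LocallyOfFinitePresentation p := inferInstance
  haveI : IsLocalization.Away (PowerSeries.X : PowerSeries k) (FractionRing (PowerSeries k)) :=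
    IsLocalization.isLocalization_of_algEquiv (Submonoid.powers (PowerSeries.X : PowerSeries k))
      (FractionRing.algEquiv (PowerSeries k) (LaurentSeries k)).symm
  obtain ⟨R, hR, hXR, Q, q, _, _, g, hg, hsm⟩ := PowerSmoothing.exists_model
    (A := CommRingCat.of k) (B := CommRingCat.of (PowerSeries k)) (PowerSeries.X : PowerSeries k)
    (FractionRing (PowerSeries k)) p hgen
  let R' : Subalgebra k (PowerSeries k) := R
  haveI : Algebra.FiniteType k R' := (Subalgebra.fg_iff_finiteType R').1 hR
  let c₀ : R' →ₐ[k] k := AlgHom.mk' ((PowerSeries.constantCoeff (R := k)).comp R'.val.toRingHom)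
    fun a x => by simp
  obtain ⟨S, _, _, _, _, φ, c', hdim, hc, ht⟩ := CurveSelect.exists_curve c₀ ⟨PowerSeries.X, hXR⟩
    (fun h => PowerSeries.X_ne_zero (congrArg Subtype.val h)) PowerSeries.constantCoeff_X
  let SpecS := Spec (CommRingCat.of S)
  let Φ : CommRingCat.of R ⟶ CommRingCat.of S := CommRingCat.ofHom φ.toRingHom
  let c : Spec (CommRingCat.of k) ⟶ SpecS := Spec.map (CommRingCat.ofHom c'.toRingHom)
  let qC : SpecS ⟶ Spec (CommRingCat.of k) := Spec.map (CommRingCat.ofHom (algebraMap k S))
  have hqC : Smooth qC := by
    rw [HasRingHomProperty.Spec_iff (P := @Smooth), CommRingCat.hom_ofHom, RingHom.smooth_algebraMap]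
    infer_instance
  have hcq : c ≫ qC = 𝟙 _ := by
    rw [← Spec.map_comp, ← Spec.map_id]
    congr 1
    ext a
    exact c'.commutes a
  let η : SpecS := (⊥ : PrimeSpectrum S)
  have hη : closure ({η} : Set SpecS) = Set.univ := by
    refine Set.eq_univ_of_forall fun x => specializes_iff_mem_closure.1 ?_
    exact (PrimeSpectrum.le_iff_specializes η x).1 bot_le
  have hpb : IsPullback (i ≫ g) pX q (c ≫ Spec.map Φ) := by
    have h := hX.paste_horiz hg
    rw [← Spec.map_comp] at h ⊢
    convert h using 2
    ext r
    exact DFunLike.congr_fun hc r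
  obtain ⟨j, -, hj⟩ := ConsProp93.exists_isPullback_of_fac hpb
    (IsPullback.of_hasPullback q (Spec.map Φ)) c rfl
  refine ⟨SpecS, qC, c, hcq, inferInstance, inferInstance, hqC, ?_, pullback q (Spec.map Φ),
    pullback.snd q (Spec.map Φ), inferInstance, inferInstance, j, η, hη, hj, ?_⟩
  · exact (PrimeSpectrum.topologicalKrullDim_eq_ringKrullDim S).trans hdim
  · let ψ : CommRingCat.of R ⟶ SpecS.residueField η :=
      Spec.preimage (SpecS.fromSpecResidueField η ≫ Spec.map Φ)
    have hψ : Spec.map ψ = SpecS.fromSpecResidueField η ≫ Spec.map Φ := Spec.map_preimage _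
    have hu : IsUnit (ψ.hom ⟨PowerSeries.X, hXR⟩) := by
      refine isUnit_iff_ne_zero.2 fun h0 => ht ?_
      let z : Spec (SpecS.residueField η) := IsLocalRing.closedPoint (SpecS.residueField η)
      have h1 : (Spec.map ψ) z = (Spec.map Φ) η := by
        rw [hψ, Scheme.Hom.comp_apply, Scheme.fromSpecResidueField_apply]
      have h2 : (⟨PowerSeries.X, hXR⟩ : R) ∈ (PrimeSpectrum.comap ψ.hom z).asIdeal := by
        show ψ.hom ⟨PowerSeries.X, hXR⟩ ∈ z.asIdeal
        rw [h0]
        exact zero_mem _
      rw [show PrimeSpectrum.comap ψ.hom z = PrimeSpectrum.comap Φ.hom η from h1] at h2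
      exact h2
    have hs := hsm _ ψ hu
    have h3 := (IsPullback.of_hasPullback (pullback.snd q (Spec.map Φ))
      (SpecS.fromSpecResidueField η)).paste_horiz (IsPullback.of_hasPullback q (Spec.map Φ))
    rw [← hψ] at h3
    exact (LimDesc62.prop_iff_of_isPullback (P := @Smooth) h3).2 hs

end Groth.Agent.S16186
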