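import Groth.Statements.S16188
import Groth.Agent.SchBasics.Reduced

set_option autoImplicit false
universe u
open CategoryTheory AlgebraicGeometry TopologicalSpace
open SchMor

namespace Groth.Agent.S16188

/-- Let f : X → Y be a morphism of schemes with X reduced and irreducible. Then f factors through an
irreducible component of Y carrying its reduced closed-subscheme structure: there are an irreducible
component Z of Y and a morphism g from X to the closed subscheme of Y cut out by the vanishing ideal
sheaf of Z with g followed by the inclusion equal to f; that closed subscheme is integral. -/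
theorem result
    {X Y : Scheme.{u}} (f : X ⟶ Y) [IsReduced X] [IrreducibleSpace X] :
    ∃ (Z : Closeds Y) (_ : (Z : Set Y) ∈ irreducibleComponents Y)
      (_ : IsIntegral (Scheme.IdealSheafData.vanishingIdeal Z).subscheme)
      (g : X ⟶ (Scheme.IdealSheafData.vanishingIdeal Z).subscheme),
      g ≫ (Scheme.IdealSheafData.vanishingIdeal Z).subschemeι = f := by
  obtain ⟨T, hT, hfT⟩ := exists_mem_irreducibleComponents_subset_of_isIrreducible _
    ((IrreducibleSpace.isIrreducible_univ (X := X)).image f f.continuous.continuousOn)
  let C : Closeds Y := ⟨T, isClosed_of_mem_irreducibleComponents T hT⟩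
  let I := Scheme.IdealSheafData.vanishingIdeal C
  have hred : IsReduced I.subscheme := SchBasics.isReduced_vanishingIdeal_subscheme C
  have hrange : Set.range I.subschemeι = T := SchBasics.range_vanishingIdeal_subschemeι C
  have hle := SchBasics.ker_le_ker_of_range_subset f I.subschemeι (by
    rw [hrange, ← Set.image_univ]; exact hfT)
  have : IrreducibleSpace I.subscheme := by
    have hh := I.subschemeι.isClosedEmbedding.isEmbedding.toHomeomorph
    rw [hh.irreducibleSpace_iff, hrange]
    exact Subtype.irreducibleSpace hT.1
  exact ⟨C, hT, isIntegral_of_irreducibleSpace_of_isReduced _,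
    IsClosedImmersion.lift I.subschemeι f hle, IsClosedImmersion.lift_fac _ _ _⟩

end Groth.Agent.S16188
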