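import Groth.Statements.S16190
import Groth.Agent.Deform85.AffineMarked
import Groth.Agent.Deform85.Arc
import Mathlib.AlgebraicGeometry.Fiber
import Mathlib.AlgebraicGeometry.FunctionField
import Mathlib.AlgebraicGeometry.ResidueField
import Mathlib.AlgebraicGeometry.Morphisms.FiniteType
import Mathlib.AlgebraicGeometry.Morphisms.Proper
import Mathlib.Topology.KrullDimension
import Mathlib.RingTheory.KrullDimension.Basic
import Mathlib.RingTheory.FiniteType

set_option autoImplicit false
universe u
open CategoryTheory CategoryTheory.Limits AlgebraicGeometry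
open Deform

namespace Groth.Agent.S16190

/-- Let k be an algebraically closed field and let X have a geometric smoothing, i.e. there are an
integral k-scheme C smooth of dimension one over k, a k-rational point c of C and a flat proper
morphism π : Y → C whose fibre over c is X (as a k-scheme) and whose fibre over the generic point of
C is smooth. Then X has a smoothing over Spec k[[t]]: a flat proper morphism P → Spec k[[t]] with
closed fibre X over k and smooth generic fibre P ⊗ Frac k[[t]]. (The published lemma concludes that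
X, assumed projective and equidimensional, is formally smoothable; its proof builds exactly this
family over the completed local ring of C at c, identified with k[[t]], and then appeals to a
criterion equating smoothings over a discrete valuation ring with formal smoothings, which is not
restated; the hypotheses on X are not used in the step stated.) -/
theorem result
    (k : Type u) [Field k] [IsAlgClosed k]
    (X : Scheme.{u}) (pX : X ⟶ Spec (CommRingCat.of k))
    (C : Scheme.{u}) (qC : C ⟶ Spec (CommRingCat.of k)) (c : Spec (CommRingCat.of k) ⟶ C)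
    (hc : c ≫ qC = 𝟙 (Spec (CommRingCat.of k))) [IsIntegral C] [Smooth qC]
    (hC : topologicalKrullDim C = 1)
    (Y : Scheme.{u}) (π : Y ⟶ C) [Flat π] [IsProper π] (j : X ⟶ Y) (hsq : IsPullback j pX π c)
    (hgen : Smooth (π.fiberToSpecResidueField (genericPoint C))) :
    ∃ (P : Scheme.{u}) (p : P ⟶ Spec (CommRingCat.of (PowerSeries k))) (_ : Flat p) (_ : IsProper p)
      (i : X ⟶ P),
      IsPullback i pX p (Spec.map (CommRingCat.ofHom (PowerSeries.constantCoeff (R := k)))) ∧
      Smooth (pullback.snd p
        (Spec.map (CommRingCat.ofHom (algebraMap (PowerSeries k) (FractionRing (PowerSeries k)))))) := by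
  obtain ⟨U, hU, hxU, -⟩ := exists_isAffineOpen_mem_and_subset (U := (⊤ : C.Opens))
    (x := c (default : PrimeSpectrum k)) trivial
  haveI : IsAffine U.toScheme := hU
  haveI : Nonempty U.toScheme := ⟨⟨_, hxU⟩⟩
  haveI : IsIntegral U.toScheme := isIntegral_of_isOpenImmersion U.ι
  have hrange : Set.range c ⊆ Set.range U.ι := by
    rintro _ ⟨x, rfl⟩
    rw [Scheme.Opens.range_ι]
    have hx : x = (default : PrimeSpectrum k) := Subsingleton.elim (α := PrimeSpectrum k) _ _
    rw [hx]
    exact hxU
  let c' := IsOpenImmersion.lift U.ι c hrange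
  have hc' : c' ≫ U.ι = c := IsOpenImmersion.lift_fac _ _ _
  have hc'q : c' ≫ U.ι ≫ qC = 𝟙 _ := by rw [← Category.assoc, hc', hc]
  haveI : Smooth (U.ι ≫ qC) := inferInstance
  letI : Algebra k Γ(U.toScheme, ⊤) := (Groth.Agent.Deform85.baseMap (U.ι ≫ qC)).toAlgebra
  haveI : Algebra.FormallySmooth k Γ(U.toScheme, ⊤) :=
    Groth.Agent.Deform85.formallySmooth_baseMap (U.ι ≫ qC)
  haveI : Algebra.FiniteType k Γ(U.toScheme, ⊤) :=
    RingHom.FiniteType.comp (g := (U.ι ≫ qC).appTop.hom)
      (HasRingHomProperty.appTop (P := @LocallyOfFiniteType) (U.ι ≫ qC) inferInstance)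
      (RingHom.FiniteType.of_surjective _ (ConcreteCategory.bijective_of_isIso
        (Scheme.ΓSpecIso (CommRingCat.of k)).inv).2)
  haveI : IsNoetherianRing Γ(U.toScheme, ⊤) := Algebra.FiniteType.isNoetherianRing k _
  have hdimU : ringKrullDim Γ(U.toScheme, ⊤) ≤ 1 := by
    rw [← PrimeSpectrum.topologicalKrullDim_eq_ringKrullDim, ← hC]
    exact (U.toScheme.isoSpec.inv ≫ U.ι).isOpenEmbedding.isInducing.topologicalKrullDim_le
  haveI : Ring.KrullDimLE 1 Γ(U.toScheme, ⊤) := Ring.krullDimLE_iff.2 hdimU
  have hdim : Ring.DimensionLEOne Γ(U.toScheme, ⊤) :=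
    ⟨fun hp h => Ideal.IsPrime.isMaximal_of_ne_bot h hp⟩
  let σ : Γ(U.toScheme, ⊤) →ₐ[k] k := { Groth.Agent.Deform85.pointMap c' with
    commutes' := fun a => Groth.Agent.Deform85.pointMap_baseMap_of_section c' _ hc'q a }
  have hM : RingHom.ker σ.toRingHom ≠ ⊥ := fun h => by
    have hbij : Function.Bijective σ.toRingHom :=
      ⟨(RingHom.injective_iff_ker_eq_bot _).2 h, fun a => ⟨algebraMap k _ a, σ.commutes a⟩⟩
    haveI hSub : Subsingleton U.toScheme := by
      haveI : Subsingleton (Spec Γ(U.toScheme, ⊤)) :=
        (@Equiv.subsingleton _ _ (PrimeSpectrum.comapEquiv (RingEquiv.ofBijective _ hbij)).toEquiv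
          (inferInstance : Subsingleton (PrimeSpectrum k)) : Subsingleton (PrimeSpectrum Γ(U.toScheme, ⊤)))
      exact (Scheme.homeoOfIso U.toScheme.isoSpec).toEquiv.subsingleton
    haveI : JacobsonSpace C := LocallyOfFiniteType.jacobsonSpace qC
    have hη : genericPoint C = U.ι (genericPoint U.toScheme) :=
      (genericPoint_eq_of_isOpenImmersion U.ι).symm
    have hU1 : (U : Set C) = {genericPoint C} := by
      refine Set.eq_singleton_iff_unique_mem.2 ⟨hη ▸ (genericPoint U.toScheme).2, fun y hy => ?_⟩
      rw [hη, Subsingleton.elim (genericPoint U.toScheme) ⟨y, hy⟩]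
      rfl
    have hcl : IsClosed {genericPoint C} :=
      isClosed_singleton_of_isLocallyClosed_singleton (hU1 ▸ U.2.isLocallyClosed)
    haveI : Subsingleton C := ⟨fun a b => by
      have h1 : ∀ z : C, z = genericPoint C := fun z => by
        have := (genericPoint_spec C).def
        rw [hcl.closure_eq] at this
        exact Set.mem_singleton_iff.1 (this ▸ Set.mem_univ z)
      rw [h1 a, h1 b]⟩
    haveI : DiscreteTopology C := inferInstance
    have := topologicalKrullDim_zero_of_discreteTopology C
    rw [hC] at this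
    exact absurd this (by decide)
  obtain ⟨φ, hφinj, hφσ⟩ := Groth.Agent.Deform85.Arc.exists_arc hdim σ hM
  let ψ : Spec (CommRingCat.of (PowerSeries k)) ⟶ C :=
    Spec.map (CommRingCat.ofHom φ.toRingHom) ≫ U.toScheme.isoSpec.inv ≫ U.ι
  have hψc : Spec.map (CommRingCat.ofHom (PowerSeries.constantCoeff (R := k))) ≫ ψ = c := by
    simp only [ψ, ← Spec.map_comp_assoc, ← CommRingCat.ofHom_comp]
    rw [show (PowerSeries.constantCoeff (R := k)).comp φ.toRingHom =
      Groth.Agent.Deform85.pointMap c' from RingHom.ext hφσ, CommRingCat.ofHom_hom, Spec.map_comp_assoc,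
      Scheme.isoSpec_inv_naturality_assoc, Scheme.isoSpec_Spec_inv, ← Spec.map_comp_assoc, Iso.inv_hom_id,
      Spec.map_id, Category.id_comp, hc']
  let P := pullback π ψ
  let i : X ⟶ P := pullback.lift j (pX ≫ Spec.map (CommRingCat.ofHom (PowerSeries.constantCoeff (R := k))))
    (by rw [Category.assoc, hψc, hsq.w])
  refine ⟨P, pullback.snd π ψ, inferInstance, inferInstance, i,
    IsPullback.of_right ?_ (pullback.lift_snd _ _ _) (IsPullback.of_hasPullback π ψ), ?_⟩
  · rw [pullback.lift_fst, hψc]
    exact hsq
  let K := FractionRing (PowerSeries k)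
  let γ : Spec (CommRingCat.of K) ⟶ C :=
    Spec.map (CommRingCat.ofHom (algebraMap (PowerSeries k) K)) ≫ ψ
  have hγ : γ (IsLocalRing.closedPoint K) = genericPoint C := by
    rw [← genericPoint_eq_of_isOpenImmersion (U.toScheme.isoSpec.inv ≫ U.ι), genericPoint_eq_bot_of_affine]
    have hbot : PrimeSpectrum.comap φ.toRingHom
        (PrimeSpectrum.comap (algebraMap (PowerSeries k) K) (IsLocalRing.closedPoint K)) = ⊥ := by
      apply PrimeSpectrum.ext
      change Ideal.comap φ.toRingHom (Ideal.comap (algebraMap (PowerSeries k) K)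
        (IsLocalRing.maximalIdeal K)) = ⊥
      rw [IsLocalRing.maximalIdeal_eq_bot, ← RingHom.ker_eq_comap_bot,
        (RingHom.injective_iff_ker_eq_bot _).1 (IsFractionRing.injective (PowerSeries k) K),
        ← RingHom.ker_eq_comap_bot]
      exact (RingHom.injective_iff_ker_eq_bot φ.toRingHom).1 hφinj
    rw [← hbot]
    rfl
  obtain ⟨δ, hδ⟩ : ∃ δ, δ ≫ C.fromSpecResidueField (genericPoint C) = γ := by
    rw [← hγ]
    exact ⟨_, Scheme.descResidueField_stalkClosedPointTo_fromSpecResidueField K C γ⟩
  have h1 := (IsPullback.of_hasPullback (pullback.snd π ψ)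
    (Spec.map (CommRingCat.ofHom (algebraMap (PowerSeries k) K)))).paste_horiz (IsPullback.of_hasPullback π ψ)
  have h2 : IsPullback (pullback.lift (pullback.fst _ _ ≫ pullback.fst π ψ) (pullback.snd _ _ ≫ δ) (by
      rw [Category.assoc, Category.assoc, hδ]; exact h1.w))
      (pullback.snd (pullback.snd π ψ) (Spec.map (CommRingCat.ofHom (algebraMap (PowerSeries k) K))))
      (π.fiberToSpecResidueField (genericPoint C)) δ :=
    IsPullback.of_right (by rw [pullback.lift_fst, hδ]; exact h1) (pullback.lift_snd _ _ _)
      (IsPullback.of_hasPullback π (C.fromSpecResidueField (genericPoint C)))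
  exact MorphismProperty.of_isPullback h2 hgen

end Groth.Agent.S16190
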