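import Groth.Statements.S16193
import Groth.Agent.CI14.Formal

set_option autoImplicit false
universe u
open CategoryTheory
open Fitt

namespace Groth.Agent.S16193

/-- (2) ⇔ (5): let k be an algebraically closed field, R = k[[t]], and B a quotient of the t-adic
completion Ã of R[T_1, …, T_r] by (a_1, …, a_c) with B Noetherian, t-adically complete and flat over
R, the images of a_1, …, a_c in Ã/t^{n+1}Ã a regular sequence for every n, and B/tB reduced; let Ω̂
be the t-adic completion of Ω_{B/R} and T^1 = Ext^1_B(Ω̂, B). Then some power of t lies in the (r -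
c)-th Fitting ideal of Ω̂ if and only if some power of t annihilates T^1. (For a flat local complete
intersection formal family 𝔛 → Spf k[[t]] with reduced, proper closed fibre, the first condition for
every chart says that 𝔛 is a formal smoothing of its closed fibre.) -/
theorem result
    (k : Type u) [Field k] [IsAlgClosed k] (r c : ℕ)
    (a : Fin c → AdicCompletion (Ideal.span {MvPolynomial.C (σ := Fin r) (PowerSeries.X (R := k))}) (MvPolynomial (Fin r) (PowerSeries k)))
    (B : Type u) [CommRing B] [Algebra (PowerSeries k) B] [IsNoetherianRing B]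
    [IsAdicComplete (Ideal.span {algebraMap (PowerSeries k) B PowerSeries.X}) B]
    [Module.Flat (PowerSeries k) B]
    (ψ : AdicCompletion (Ideal.span {MvPolynomial.C (σ := Fin r) (PowerSeries.X (R := k))}) (MvPolynomial (Fin r) (PowerSeries k)) →ₐ[PowerSeries k] B)
    (hψ : Function.Surjective ψ) (hker : RingHom.ker ψ.toRingHom = Ideal.span (Set.range a))
    (hreg : ∀ n : ℕ, RingTheory.Sequence.IsRegular
      (AdicCompletion (Ideal.span {MvPolynomial.C (σ := Fin r) (PowerSeries.X (R := k))}) (MvPolynomial (Fin r) (PowerSeries k)) ⧸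
        Ideal.span {algebraMap (PowerSeries k) (AdicCompletion (Ideal.span {MvPolynomial.C (σ := Fin r) (PowerSeries.X (R := k))}) (MvPolynomial (Fin r) (PowerSeries k))) PowerSeries.X ^ (n + 1)})
      ((List.ofFn a).map (Ideal.Quotient.mk (Ideal.span {algebraMap (PowerSeries k)
        (AdicCompletion (Ideal.span {MvPolynomial.C (σ := Fin r) (PowerSeries.X (R := k))}) (MvPolynomial (Fin r) (PowerSeries k))) PowerSeries.X ^ (n + 1)}))))
    [IsReduced (B ⧸ Ideal.span {algebraMap (PowerSeries k) B PowerSeries.X})] :
    (∃ κ : ℕ, algebraMap (PowerSeries k) B PowerSeries.X ^ κ ∈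
        Fitt.ideal B (AdicCompletion (Ideal.span {algebraMap (PowerSeries k) B PowerSeries.X})
          (KaehlerDifferential (PowerSeries k) B)) (r - c)) ↔
      (∃ m : ℕ, ∀ x : Abelian.Ext.{u} (ModuleCat.of B (AdicCompletion
          (Ideal.span {algebraMap (PowerSeries k) B PowerSeries.X}) (KaehlerDifferential (PowerSeries k) B)))
          (ModuleCat.of B B) 1,
        (algebraMap (PowerSeries k) B PowerSeries.X ^ m) • x = 0) := by
  have := IsAlgClosed.perfectField (k := k)
  obtain ⟨e⟩ := CI14.ext_one (CI14.Formal.jac k r c a B ψ) (CI14.Formal.presHat k r B ψ)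
    (CI14.Formal.presHat_surjective k r c a B ψ hker hψ) (CI14.Formal.ker_presHat k r c a B ψ hker hψ)
    (CI14.Formal.jac_injective_limit k r c a B ψ hker (hreg 0) hψ)
  rw [CI14.fitting_eq (CI14.Formal.jac k r c a B ψ) (CI14.Formal.presHat k r B ψ)
    (CI14.Formal.presHat_surjective k r c a B ψ hker hψ) (CI14.Formal.ker_presHat k r c a B ψ hker hψ)
    (CI14.Formal.jac_injective_limit k r c a B ψ hker (hreg 0) hψ)]
  constructor
  · rintro ⟨κ, hκ⟩
    refine ⟨κ, fun x => e.injective ?_⟩
    rw [map_smul, map_zero]
    exact Module.mem_annihilator.1 (Fit14.ideal_zero_le_annihilator hκ) (e x)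
  · rintro ⟨m, hm⟩
    refine ⟨m * c, ?_⟩
    have hann : ∀ y : CI14.Coker (CI14.Formal.jac k r c a B ψ),
        algebraMap (PowerSeries k) B PowerSeries.X ^ m • y = 0 := fun y => by
      obtain ⟨x, rfl⟩ := e.surjective y
      rw [← map_smul, hm, map_zero]
    refine Ideal.subset_span ⟨c, fun j => Submodule.Quotient.mk (Pi.single j 1),
      algebraMap (PowerSeries k) B PowerSeries.X ^ m • (1 : Matrix (Fin c) (Fin c) B), ?_, ?_, ?_⟩
    · rw [eq_top_iff]
      rintro y -
      obtain ⟨v, rfl⟩ := Submodule.mkQ_surjective _ y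
      rw [pi_eq_sum_univ' v, map_sum]
      exact Submodule.sum_mem _ fun j _ => by
        rw [map_smul]; exact Submodule.smul_mem _ _ (Submodule.subset_span ⟨j, rfl⟩)
    · intro i _
      simp [Matrix.smul_apply, Matrix.one_apply, ite_smul, hann]
    · rw [Matrix.det_smul, Matrix.det_one, mul_one, Fintype.card_fin, pow_mul]

end Groth.Agent.S16193
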