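import Groth.Statements.S16194
import Mathlib.RingTheory.Jacobson.Ideal

set_option autoImplicit false
universe u
open DivAlg

namespace Groth.Agent.S16194

/-- In an associative unital ring R, not necessarily commutative, every element r of the Jacobson
radical (the set of elements lying in every maximal left ideal) is quasiregular, i.e. 1 - r is a
two-sided unit. -/
theorem result {R : Type u} [Ring R] (r : R)
    (hr : r ∈ Ring.jacobson R) : IsUnit (1 - r) := by
  rw [← Ideal.jacobson_bot] at hr
  have key : ∀ y : R, ∃ z, z * (1 + y * r) = 1 := fun y => by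
    obtain ⟨z, hz⟩ := Ideal.mem_jacobson_iff.1 hr y
    refine ⟨z, ?_⟩
    rw [Ideal.mem_bot, sub_eq_zero] at hz
    rw [mul_add, mul_one, ← mul_assoc, add_comm]
    exact hz
  obtain ⟨z, hz⟩ := key (-1)
  rw [neg_one_mul, ← sub_eq_add_neg] at hz
  obtain ⟨w, hw⟩ := key (-1 + (-1) * 0 + (z * 0))
  obtain ⟨w', hw'⟩ := key z
  have hz' : 1 + z * r = z := by
    have : z - z * r = 1 := by rw [← hz, mul_sub, mul_one]
    rw [← this]; abel
  rw [hz'] at hw'
  have : w' = 1 - r := by
    calc w' = w' * (z * (1 - r)) := by rw [hz, mul_one]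
      _ = 1 - r := by rw [← mul_assoc, hw', one_mul]
  exact ⟨⟨1 - r, z, this ▸ hw', hz⟩, rfl⟩

end Groth.Agent.S16194
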