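import Groth.Statements.S16196
import Mathlib.Algebra.Module.LinearMap.End
import Mathlib.LinearAlgebra.Pi
import Mathlib.Algebra.Module.BigOperators

set_option autoImplicit false
universe u v
open DivAlg

namespace Groth.Agent.S16196

/-- Let R be a ring (associative, unital, not necessarily commutative) and M a left R-module which is a
generator, in the form: for some n there is an R-linear surjection from M^n onto R. Then the natural
ring homomorphism from R to the double endomorphism ring BiEnd_R(M) = End_{End_R(M)}(M)
(endomorphisms of M commuting with every R-linear endomorphism), r ↦ multiplication by r, is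
bijective. (The printed form takes R an algebra over a commutative ring k, embeds R in E = End_k(M)
and asserts R = C_E(C_E(R)); the double centralizer there is BiEnd_R(M).) -/
theorem result {R : Type u} [Ring R] (M : Type v)
    [AddCommGroup M] [Module R M]
    (hgen : ∃ (n : ℕ) (f : (Fin n → M) →ₗ[R] R), Function.Surjective f) :
    Function.Bijective (Module.toModuleEnd (Module.End R M) (S := R) M) := by
  obtain ⟨n, f, hf⟩ := hgen
  obtain ⟨x, hx⟩ := hf 1
  let fi : Fin n → (M →ₗ[R] R) := fun i => f.comp (LinearMap.single R (fun _ => M) i)
  have h1 : ∑ i, fi i (x i) = 1 := by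
    rw [← hx]
    simp only [fi, LinearMap.comp_apply, LinearMap.coe_single, ← map_sum, Finset.univ_sum_single]
  refine ⟨fun r s h => ?_, fun T => ⟨∑ i, fi i (T (x i)), ?_⟩⟩
  · have hm : ∀ m : M, r • m = s • m := fun m => DFunLike.congr_fun h m
    calc r = ∑ i, r * fi i (x i) := by rw [← Finset.mul_sum, h1, mul_one]
      _ = ∑ i, s * fi i (x i) := by simp only [← smul_eq_mul, ← map_smul, hm]
      _ = s := by rw [← Finset.mul_sum, h1, mul_one]
  · apply LinearMap.ext
    intro m
    have hc : ∀ i z, T (fi i z • m) = fi i (T z) • m := fun i z =>
      T.map_smul ((fi i).smulRight m) z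
    calc (Module.toModuleEnd (Module.End R M) (S := R) M (∑ i, fi i (T (x i)))) m
        = (∑ i, fi i (T (x i))) • m := rfl
      _ = T ((∑ i, fi i (x i)) • m) := by simp only [Finset.sum_smul, map_sum, hc]
      _ = T m := by rw [h1, one_smul]

end Groth.Agent.S16196
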