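import Groth.Statements.S16197
import Mathlib.LinearAlgebra.Pi
import Mathlib.LinearAlgebra.Finsupp.LSum
import Mathlib.LinearAlgebra.Projection
import Mathlib.Data.Fintype.EquivFin

set_option autoImplicit false
universe u v w
open DivAlg

namespace Groth.Agent.S16197

/-- Let R be a ring (associative, unital, not necessarily commutative) and M a left R-module which is a
generator, used here only through the existence of an R-linear surjection from a direct sum of
copies of M, indexed by an arbitrary type, onto R. Then some finite power M^n decomposes as R × Q
for a submodule Q of M^n. (The published statement is an equivalence; this row states only the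
implication from the existence of such a surjection to the splitting.) -/
theorem result {R : Type u} [Ring R] (M : Type v)
    [AddCommGroup M] [Module R M]
    (hgen : ∃ (ι : Type w) (f : (ι →₀ M) →ₗ[R] R), Function.Surjective f) :
    ∃ (n : ℕ) (Q : Submodule R (Fin n → M)), Nonempty ((Fin n → M) ≃ₗ[R] (R × Q)) := by
  classical
  obtain ⟨ι, f, hf⟩ := hgen
  obtain ⟨x, hx⟩ := hf 1
  let e := x.support.equivFin
  let g : (Fin x.support.card → M) →ₗ[R] R :=
    ∑ j, (f.comp (Finsupp.lsingle (e.symm j : ι))).comp (LinearMap.proj j)
  let v : Fin x.support.card → M := fun j => x (e.symm j)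
  have hv : g v = 1 := by
    rw [← hx]
    conv_rhs => rw [← Finsupp.sum_single x]
    simp only [g, v, LinearMap.sum_apply, LinearMap.comp_apply, LinearMap.proj_apply,
      Finsupp.lsingle_apply, Finsupp.sum, map_sum]
    rw [e.symm.sum_comp (fun i => f (Finsupp.single (i : ι) (x i))),
      Finset.sum_coe_sort x.support (fun i => f (Finsupp.single i (x i)))]
  let s : R →ₗ[R] (Fin x.support.card → M) := LinearMap.toSpanSingleton R _ v
  have hs : ∀ r, g (s r) = r := fun r => by simp [s, hv]
  refine ⟨x.support.card, LinearMap.ker g, ⟨{
    toFun := fun y => (g y, ⟨y - s (g y), by simp [hs]⟩)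
    map_add' := fun a b => by ext <;> simp [add_sub_add_comm]
    map_smul' := fun r a => by ext <;> simp [smul_sub, s, mul_smul]
    invFun := fun p => s p.1 + p.2.1
    left_inv := fun y => by simp
    right_inv := fun p => ?_ }⟩⟩
  have h0 : g p.2.1 = 0 := p.2.2
  ext <;> simp [hs, h0]

end Groth.Agent.S16197
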