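import Groth.Statements.S16201
import Groth.Agent.Var76.IrredFibres

set_option autoImplicit false
open CategoryTheory AlgebraicGeometry
open Variety

namespace Groth.Agent.S16201


open Groth.Agent.Var76 TopologicalSpace

/-- Let f : Y → Z be a morphism of schemes of finite type over ℂ, with Z irreducible. Suppose that the
general fibre of f is irreducible, in the sense that there is a nonempty open subset V of Z such
that the fibre of f over every closed point of V is an irreducible topological space, and that each
irreducible component of Y has dense image in Z. Then Y is irreducible. (The published statement is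
for a morphism of projective varieties; only finiteness of type over the field is used, and the row
is stated in that generality.) -/
theorem result
    (Y Z : Scheme.{0}) (g : Z ⟶ Spec (CommRingCat.of ℂ)) (f : Y ⟶ Z)
    [LocallyOfFiniteType g] [QuasiCompact g] [LocallyOfFiniteType f] [QuasiCompact f]
    [IrreducibleSpace Z]
    (hgen : ∃ V : Z.Opens, (V : Set Z).Nonempty ∧
      ∀ z ∈ V, IsClosed ({z} : Set Z) → IsIrreducible (f.base ⁻¹' {z}))
    (hdom : ∀ W ∈ irreducibleComponents Y, Dense (f.base '' W)) :
    IrreducibleSpace Y := by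
  obtain ⟨V, hV, hirr⟩ := hgen
  have hf : f ≫ g = f ≫ g := rfl
  have hpt : ∀ W ∈ irreducibleComponents Y, ∃ ζ, W = closure {ζ} ∧ (∀ w, w ⤳ ζ → w = ζ) ∧ f ζ = genericPoint Z := by
    intro W hW
    obtain ⟨ζ, rfl, hζ⟩ := E4O.exists_eq_closure_of_mem_irreducibleComponents hW
    refine ⟨ζ, rfl, hζ, ?_⟩
    have := (isGenericPoint_closure (x := ζ)).image f.continuous
    rw [(hdom _ hW).closure_eq] at this
    exact this.eq (genericPoint_spec Z)
  have : JacobsonSpace Z := LocallyOfFiniteType.jacobsonSpace g
  obtain ⟨z, hzV, hz⟩ := nonempty_inter_closedPoints (Z := (V : Set Z)) hV V.2.isLocallyClosed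
  obtain ⟨y, hy⟩ := (hirr z hzV hz).1
  obtain ⟨W₀, hW₀, hyW₀⟩ := exists_mem_irreducibleComponents_subset_of_isIrreducible _
    (isIrreducible_singleton (x := y))
  obtain ⟨ζ₀, rfl, hζ₀, hf₀⟩ := hpt W₀ hW₀
  have huniv : closure {ζ₀} = Set.univ := Set.eq_univ_of_forall fun x => by
    obtain ⟨W, hW, hxW⟩ := exists_mem_irreducibleComponents_subset_of_isIrreducible _
      (isIrreducible_singleton (x := x))
    obtain ⟨ζ, rfl, hζ, hfζ⟩ := hpt W hW
    rw [← IrredFibres.dominant_unique (qX := f ≫ g) (qY := g) f rfl hV hirr hζ hζ₀ hfζ hf₀]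
    exact hxW rfl
  exact (irreducibleSpace_def Y).2 (show IsIrreducible (Set.univ : Set Y) from huniv ▸ hW₀.1)

end Groth.Agent.S16201
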