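import Groth.Statements.S16202
import Groth.Agent.Hopf35.AffCompl.Connected
import Groth.Agent.GenAff57.Ample
import Groth.Agent.An92.Ample.Family
import Groth.Agent.Curves2.ProjLineProper

set_option autoImplicit false
open CategoryTheory CategoryTheory.Limits AlgebraicGeometry
open Variety

namespace Groth.Agent.S16202

/-- Let X be an integral projective scheme over ℂ of dimension at least 2 and D an effective ample
divisor on X. Then the support of D is connected. Here D is given by an ample invertible module L
together with a nonzero global section s (a monomorphism O_X → L), and its support is the zero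
scheme Z(s), which is asserted to be a connected (in particular nonempty) topological space. -/
theorem result
    (X : Scheme.{0}) (f : X ⟶ Spec (CommRingCat.of ℂ)) [IsIntegral X]
    (hproj : (∃ (n : ℕ) (ι : X ⟶ CohB1.ProjSpace n ℂ), IsClosedImmersion ι ∧ ι ≫ CohB1.ProjSpace.toSpec n ℂ = f))
    (hdim : (2 : WithBot ℕ∞) ≤ topologicalKrullDim X)
    (L : X.Modules) (hL : CohB1.IsAmple L) (s : Coh.structureModule X ⟶ L) (hs : Mono s) :
    ConnectedSpace ↥(PicF2.zeroScheme L s).subscheme := by
  obtain ⟨n, ι, hι, hιf⟩ := hproj
  haveI : IsProper (CohB1.ProjSpace.toSpec n ℂ) := Curves2.ProjLine.isProper_toSpec ℂ n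
  haveI : IsProper f := hιf ▸ MorphismProperty.comp_mem _ _ _ inferInstance inferInstance
  have hU := GenAff57.isAffineOpen_genLocus f hL s
  have hc := Hopf35.AffCompl.isConnected_compl_affine ℂ f hdim _ hU
  have hset : ((CohB1.genLocus L s : Set X)ᶜ) = Set.range (PicF2.zeroScheme L s).subschemeι := by
    rw [Scheme.IdealSheafData.range_subschemeι]
    ext y
    rw [Set.mem_compl_iff, SetLike.mem_coe, An92.AmpleFam.mem_genLocus_iff_notMem_support hL.1, not_not, SetLike.mem_coe]
  rw [hset] at hc
  rw [connectedSpace_iff_univ]
  refine ⟨?_, (PicF2.zeroScheme L s).subschemeι.isClosedEmbedding.isInducing.isPreconnected_image.1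
    (by rw [Set.image_univ]; exact hc.isPreconnected)⟩
  obtain ⟨_, x, -⟩ := hc.nonempty
  exact ⟨x, trivial⟩

end Groth.Agent.S16202
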