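import Groth.Statements.S16205
import Groth.Agent.Rat1.NotExtend

set_option autoImplicit false
set_option backward.isDefEq.respectTransparency false
open CategoryTheory MonoidalCategory CartesianMonoidalCategory AlgebraicGeometry
open RatCurv

namespace Groth.Agent.S16205

/-- Let X be a projective variety over ℂ and let C and B be smooth integral curves over ℂ (separated, of
finite type, not necessarily complete). If a rational map from the surface C × B to X, that is a
ℂ-morphism φ defined on a nonempty open subset U of C × B, does not extend to a morphism defined on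
all of C × B, then X contains a rational curve: there is a nonconstant ℂ-morphism from the
projective line to X. The product is taken in the cartesian monoidal category of ℂ-schemes. (The
published statement allows C and B singular, C even reducible, and X any variety; for C an elliptic
curve with two points glued to a node, B a curve and X that elliptic curve, the rational map induced
by the normalisation coordinate does not extend although X has no rational curve, and for smooth C,
B the open immersion of the punctured affine plane into itself does not extend to the product of two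
projective lines although the punctured plane has no complete or affine rational curves; so C and B
are taken smooth and X projective, the case the argument treats.) -/
theorem result
    (X C B : Over (Spec (CommRingCat.of ℂ))) [IsIntegral X.left]
    (hX : (∃ (n : ℕ) (ι : X.left ⟶ CohB1.ProjSpace n ℂ), IsClosedImmersion ι ∧ ι ≫ CohB1.ProjSpace.toSpec n ℂ = X.hom))
    [IsIntegral C.left] [Smooth C.hom] [IsSeparated C.hom] [QuasiCompact C.hom]
    (hC : topologicalKrullDim C.left = 1)
    [IsIntegral B.left] [Smooth B.hom] [IsSeparated B.hom] [QuasiCompact B.hom]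
    (hB : topologicalKrullDim B.left = 1)
    (U : (C ⊗ B).left.Opens) (hU : (U : Set (C ⊗ B).left).Nonempty)
    (φ : (U : Scheme.{0}) ⟶ X.left) (hφ : φ ≫ X.hom = U.ι ≫ (C ⊗ B).hom)
    (hne : ¬ ∃ ψ : (C ⊗ B).left ⟶ X.left, U.ι ≫ ψ = φ) :
    ∃ g : Over.mk (CohB1.ProjSpace.toSpec 1 ℂ) ⟶ X, ¬ ∃ x : X.left, Set.range g.left.base ⊆ {x} := by
  haveI := Rat1.NotExtend.isProper_of_projective X.hom hX
  haveI := Rat1.GraphClosure.isSeparated_scheme X.hom
  haveI : IsIntegral (C ⊗ B).left := Groth.Agent.S1582.result ℂ C.left B.left C.hom B.hom
  haveI : Nonempty U := hU.to_subtype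
  have hUd : Dense (U : Set (C ⊗ B).left) := U.2.dense hU
  have hP : IsPullback (fst C B).left (snd C B).left C.hom B.hom := IsPullback.of_hasPullback C.hom B.hom
  have hfst : (fst C B).left ≫ C.hom = (C ⊗ B).hom := Over.w (fst C B)
  obtain ⟨z₀, hz₀⟩ : ∃ z : (C ⊗ B).left,
      z ∉ (Scheme.PartialMap.toRationalMap (⟨U, hUd, φ⟩ : (C ⊗ B).left.PartialMap X.left)).domain := by
    by_contra hall
    push Not at hall
    exact hne (Rat1.NotExtend.exists_extension U hUd φ hall)
  haveI : LocallyOfFiniteType (fst C B).left :=
    MorphismProperty.of_isPullback hP.flip (inferInstance : LocallyOfFiniteType B.hom)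
  haveI : LocallyOfFiniteType (C ⊗ B).hom := hfst ▸ inferInstance
  haveI : JacobsonSpace (C ⊗ B).left := LocallyOfFiniteType.jacobsonSpace (C ⊗ B).hom
  obtain ⟨z, hz, hzc⟩ := nonempty_inter_closedPoints (X := (C ⊗ B).left) ⟨z₀, hz₀⟩
    (Scheme.PartialMap.toRationalMap (⟨U, hUd, φ⟩ : (C ⊗ B).left.PartialMap X.left)).domain.2.isClosed_compl.isLocallyClosed
  obtain ⟨g, hg, hnc⟩ := Rat1.NotExtend.exists_curve C.hom B.hom (fst C B).left (snd C B).left hP X.hom
    hC.le hB.le U hUd φ (by rw [hfst]; exact hφ) z hzc hz
  exact ⟨Over.homMk g hg, hnc⟩

end Groth.Agent.S16205
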