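import Groth.Statements.S16211
import Mathlib.RingTheory.Smooth.Basic

set_option autoImplicit false
universe u v
open InvTh

namespace Groth.Agent.S16211

/-- Let R be a commutative ring, O a formally smooth R-algebra and G a finite group whose order is
invertible in R, acting on O by R-algebra automorphisms. Then the largest quotient algebra of O on
which G acts trivially, namely the quotient of O by the ideal generated by all g • f - f (the
coordinate ring of the subscheme of G-fixed points of Spec O), is again formally smooth over R:
invariant homomorphisms lift along square-zero extensions. The published statement is about a scheme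
X smooth and of finite presentation over the base and concludes that its fixed-point scheme is
smooth; this row, the affine step of its proof, assumes only that O is formally smooth over R and
concludes only formal smoothness. -/
theorem result (R : Type u) [CommRing R]
    (O : Type u) [CommRing O] [Algebra R O] [Algebra.FormallySmooth R O]
    (G : Type v) [Group G] [Finite G] [MulSemiringAction G O] [SMulCommClass G R O]
    (hG : IsUnit (Nat.card G : R)) :
    Algebra.FormallySmooth R (O ⧸ Ideal.span {x : O | ∃ (g : G) (f : O), x = g • f - f}) := by
  have : Fintype G := Fintype.ofFinite G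
  refine Algebra.FormallySmooth.of_comp_surjective fun B _ _ I hI f => ?_
  let N : Ideal O := Ideal.span {x : O | ∃ (g : G) (f : O), x = g • f - f}
  let q : O →ₐ[R] O ⧸ N := Ideal.Quotient.mkₐ R N
  obtain ⟨F, hF⟩ := Algebra.FormallySmooth.comp_surjective R O I hI (f.comp q)
  obtain ⟨v, hv⟩ := hG.exists_left_inv
  have hq : ∀ (g : G) (x : O), q (g • x) = q x := fun g x =>
    Ideal.Quotient.eq.2 (Ideal.subset_span ⟨g, x, rfl⟩)
  have hFq : ∀ x, Ideal.Quotient.mk I (F x) = f (q x) := fun x => DFunLike.congr_fun hF x
  let d : G → O → B := fun g x => F (g • x) - F x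
  have hd : ∀ g x, d g x ∈ I := fun g x => by
    rw [← Ideal.Quotient.eq_zero_iff_mem, map_sub, hFq, hFq, hq, sub_self]
  have hII : ∀ {a b : B}, a ∈ I → b ∈ I → a * b = 0 := fun {a b} ha hb => by
    have h2 : a * b ∈ I ^ 2 := by rw [sq]; exact Ideal.mul_mem_mul ha hb
    rw [hI] at h2; simpa using h2
  have hdmul : ∀ g x y, d g (x * y) = F x * d g y + F y * d g x := by
    intro g x y
    have h0 := hII (hd g x) (hd g y)
    simp only [d, smul_mul', map_mul] at h0 ⊢
    linear_combination h0
  let D : O → B := fun x => v • ∑ g : G, d g x
  have hDI : ∀ x, D x ∈ I := fun x => by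
    show v • ∑ g : G, d g x ∈ I
    rw [Algebra.smul_def]
    exact I.mul_mem_left _ (I.sum_mem fun g _ => hd g x)
  have hDmul : ∀ x y, D (x * y) = F x * D y + F y * D x := by
    intro x y
    simp only [D, hdmul, Finset.sum_add_distrib, smul_add, mul_smul_comm, Finset.mul_sum]
  have hD1 : D 1 = 0 := by simp [D, d]
  have hDadd : ∀ x y, D (x + y) = D x + D y := by
    intro x y
    simp only [D, d, ← smul_add, ← Finset.sum_add_distrib, map_add]
    congr 1
    exact Finset.sum_congr rfl fun g _ => by rw [smul_add, map_add]; abel
  have hDc : ∀ r : R, D (algebraMap R O r) = 0 := by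
    intro r; simp [D, d, smul_algebraMap]
  let F' : O →ₐ[R] B :=
    { toFun := fun x => F x + D x
      map_one' := by simp [hD1]
      map_zero' := by
        have h0 := hDadd 0 0
        simp only [add_zero] at h0
        simp [left_eq_add.1 h0]
      map_mul' := fun x y => by
        have h0 := hII (hDI x) (hDI y)
        simp only [map_mul, hDmul]
        linear_combination -h0
      map_add' := fun x y => by simp only [map_add, hDadd]; abel
      commutes' := fun r => by simp [hDc] }
  have hF' : ∀ x, F' x = v • ∑ g : G, F (g • x) := by
    intro x
    show F x + D x = _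
    simp only [D, d, Finset.sum_sub_distrib, smul_sub, Finset.sum_const, Finset.card_univ]
    rw [← Nat.cast_smul_eq_nsmul R, smul_smul, ← Nat.card_eq_fintype_card, hv, one_smul]
    abel
  have hF'N : N ≤ RingHom.ker F' := by
    refine Ideal.span_le.2 ?_
    rintro _ ⟨h, x, rfl⟩
    show F' (h • x - x) = 0
    rw [map_sub, sub_eq_zero, hF', hF']
    congr 1
    exact Fintype.sum_equiv (Equiv.mulRight h) _ _ (fun g => by simp [mul_smul])
  refine ⟨Ideal.Quotient.liftₐ N F' hF'N, ?_⟩
  refine Ideal.Quotient.algHom_ext R (AlgHom.ext fun x => ?_)
  show Ideal.Quotient.mk I (F x + D x) = f (q x)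
  rw [map_add, hFq, Ideal.Quotient.eq_zero_iff_mem.2 (hDI x), add_zero]

end Groth.Agent.S16211
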