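import Groth.Statements.S16212
import Groth.Agent.AlgGrp33.FixedFinite
-- import your own Groth.Agent.* helpers here

set_option autoImplicit false
universe u v
open CategoryTheory AlgebraicGeometry
open AlgGrp

namespace Groth.Agent.S16212

open AlgebraicGeometry CategoryTheory.Limits in
theorem exists_fix_closed {S : Scheme.{u}} {X : Over S} [IsSeparated X.hom] {G : Type v}
    (ρ : G → (X ⟶ X)) (s : Finset G) :
    ∃ (W : Over S) (w : W ⟶ X), IsClosedImmersion w.left ∧ (∀ g ∈ s, w ≫ ρ g = w) ∧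
      ∀ (T : Over S) (t : T ⟶ X), (∀ g ∈ s, t ≫ ρ g = t) → ∃ t', t' ≫ w = t := by
  classical
  induction s using Finset.induction_on with
  | empty =>
    refine ⟨X, 𝟙 X, ?_, by simp, fun T t _ ↦ ⟨t, Category.comp_id t⟩⟩
    rw [Over.id_left]; infer_instance
  | insert g s _ ih =>
    obtain ⟨W, w, hw, hfix, huniv⟩ := ih
    refine ⟨equalizer w (w ≫ ρ g), equalizer.ι w (w ≫ ρ g) ≫ w, ?_, ?_, ?_⟩
    · rw [Over.comp_left]; infer_instance
    · intro h hh
      rcases Finset.mem_insert.mp hh with rfl | hh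
      · rw [Category.assoc]; exact (equalizer.condition _ _).symm
      · rw [Category.assoc, hfix h hh]
    · intro T t ht
      obtain ⟨t', ht'⟩ := huniv T t fun h hh ↦ ht h (Finset.mem_insert_of_mem hh)
      refine ⟨equalizer.lift t' ?_, by rw [← Category.assoc, equalizer.lift_ι, ht']⟩
      rw [← Category.assoc, ht', ht g (Finset.mem_insert_self g s)]

open Groth.Agent.AlgGrp33.FixedFinite in
theorem smooth_fix {S : Scheme.{u}} {X Z : Over S} [Smooth X.hom] [IsSeparated X.hom] {G : Type v}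
    [Group G] [Finite G] (ρ : G →* Aut X) (hG : IsUnit (Nat.card G : Γ(S, ⊤))) (ι : Z ⟶ X)
    [IsClosedImmersion ι.left] (hι : ∀ g : G, ι ≫ (ρ g).hom = ι)
    (hZ : ∀ (T : Over S) (t : T ⟶ X), (∀ g : G, t ≫ (ρ g).hom = t) → ∃ t' : T ⟶ Z, t' ≫ ι = t) :
    Smooth Z.hom := by
  rw [HasRingHomProperty.iff_exists_appLE (P := @Smooth)
    (RingHom.Smooth.stableUnderComposition.stableUnderCompositionWithLocalizationAway RingHom.Smooth.holdsForLocalizationAway).left]
  intro z
  obtain ⟨V, hV, hzV, -⟩ := exists_isAffineOpen_mem_and_subset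
    (show X.hom (ι.left z) ∈ (⊤ : S.Opens) from trivial)
  obtain ⟨U, hU, hzU, hUV⟩ := exists_isAffineOpen_mem_and_subset
    (show ι.left z ∈ X.hom ⁻¹ᵁ V from hzV)
  have hρw : ∀ g, (ρ g).hom.left ≫ X.hom = X.hom := fun g ↦ Over.w (ρ g).hom
  have hiso : ∀ g, IsIso (ρ g).hom.left := fun g ↦
    ((Over.forget S).mapIso (ρ g)).isIso_hom
  have hρmul : ∀ g h, (ρ (g * h)).hom.left = (ρ h).hom.left ≫ (ρ g).hom.left := fun g h ↦ by
    rw [map_mul]; rfl
  have hfix : ∀ g, (ρ g).hom.left (ι.left z) = ι.left z := fun g ↦ by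
    rw [← Scheme.Hom.comp_apply, ← Over.comp_left, hι g]
  let U' : X.left.Opens := ⨅ g, (ρ g).hom.left ⁻¹ᵁ U
  have hU' : IsAffineOpen U' ∧ U' ≤ X.hom ⁻¹ᵁ V :=
    InfClosed.iInf_mem_of_nonempty
      (s := {W : X.left.Opens | IsAffineOpen W ∧ W ≤ X.hom ⁻¹ᵁ V})
      (fun W₁ h₁ W₂ h₂ ↦ ⟨isAffineHom_diagonal_iff.mp inferInstance V hV W₁ h₁.2 W₂ h₂.2 h₁.1 h₂.1,
        inf_le_left.trans h₁.2⟩)
      fun g ↦ ⟨haveI := hiso g; hU.preimage_of_isIso _, fun y hy ↦ by
        have := hUV hy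
        change X.hom ((ρ g).hom.left y) ∈ V at this
        rw [← Scheme.Hom.comp_apply, hρw g] at this
        exact this⟩
  obtain ⟨hU', hU'V⟩ := hU'
  have hzU' : ι.left z ∈ U' := by
    rw [← SetLike.mem_coe, TopologicalSpace.Opens.coe_iInf]
    exact Set.mem_iInter.mpr fun g ↦ show (ρ g).hom.left (ι.left z) ∈ U by rw [hfix g]; exact hzU
  have hinv : ∀ g, U' ≤ (ρ g).hom.left ⁻¹ᵁ U' := fun g y hy ↦ by
    change (ρ g).hom.left y ∈ U'
    rw [← SetLike.mem_coe, TopologicalSpace.Opens.coe_iInf, Set.mem_iInter] at hy ⊢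
    intro h
    have h1 := hy (h * g)
    change (ρ h).hom.left ((ρ g).hom.left y) ∈ U
    change (ρ (h * g)).hom.left y ∈ U at h1
    rw [hρmul, Scheme.Hom.comp_apply] at h1
    exact h1
  have hW : IsAffineOpen (ι.left ⁻¹ᵁ U') := hU'.preimage ι.left
  refine ⟨⟨V, hV⟩, ⟨_, hW⟩, hzU', (Scheme.Hom.preimage_mono ι.left hU'V).trans_eq
    (by rw [← Scheme.Hom.comp_preimage, Over.w ι]), ?_⟩
  algebraize [(X.hom.appLE V U' hU'V).hom]
  haveI : Algebra.Smooth Γ(S, V) Γ(X.left, U') := Scheme.Hom.smooth_appLE X.hom hV hU' hU'V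
  let σ : G → Γ(X.left, U') →ₐ[Γ(S, V)] Γ(X.left, U') := fun g ↦
    { __ := ((ρ g).hom.left.appLE U' U' (hinv g)).hom
      commutes' := fun r ↦ by
        change (X.hom.appLE V U' hU'V ≫ (ρ g).hom.left.appLE U' U' (hinv g)).hom r =
          (X.hom.appLE V U' hU'V).hom r
        rw [Scheme.Hom.appLE_comp_appLE]
        simp_rw [hρw g] }
  have hmul : ∀ g h, (σ h).comp (σ g) = σ (g * h) := fun g h ↦ by
    ext a
    change ((ρ g).hom.left.appLE U' U' (hinv g) ≫ (ρ h).hom.left.appLE U' U' (hinv h)).hom a =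
      ((ρ (g * h)).hom.left.appLE U' U' (hinv (g * h))).hom a
    rw [Scheme.Hom.appLE_comp_appLE]
    simp_rw [hρmul]
  have hn : IsUnit ((Nat.card G : ℕ) : Γ(S, V)) := by
    have := hG.map (S.presheaf.map (homOfLE (le_top : V ≤ ⊤)).op).hom
    rwa [map_natCast] at this
  haveI := smooth_quot_fix σ hmul hn
  let φ : Γ(X.left, U') ⟶ Γ(Z.left, ι.left ⁻¹ᵁ U') := ι.left.app U'
  have hsurj : Function.Surjective φ.hom := ι.left.app_surjective U' hU'
  have hker : RingHom.ker φ.hom = fixIdeal σ := by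
    refine le_antisymm (fun a ha ↦ ?_) (Ideal.span_le.mpr ?_)
    · let mk : Γ(X.left, U') ⟶ CommRingCat.of (Γ(X.left, U') ⧸ fixIdeal σ) :=
        CommRingCat.ofHom (Ideal.Quotient.mk (fixIdeal σ))
      let T : Over S := Over.mk ((Spec.map mk ≫ hU'.fromSpec) ≫ X.hom)
      let t : T ⟶ X := Over.homMk (Spec.map mk ≫ hU'.fromSpec) rfl
      obtain ⟨t', ht'⟩ := hZ T t fun g ↦ by
        refine Over.OverMorphism.ext ?_
        change (Spec.map mk ≫ hU'.fromSpec) ≫ (ρ g).hom.left = Spec.map mk ≫ hU'.fromSpec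
        rw [Category.assoc, ← hU'.SpecMap_appLE_fromSpec _ hU' (hinv g), ← Spec.map_comp_assoc]
        congr 2
        ext b
        exact mk_apply σ g b
      have ht'' : t'.left ≫ ι.left = Spec.map mk ≫ hU'.fromSpec := by
        rw [← Over.comp_left, ht']; rfl
      have hr : Set.range t'.left ⊆ Set.range hW.fromSpec := by
        rintro _ ⟨p, rfl⟩
        rw [hW.range_fromSpec]
        change (t'.left ≫ ι.left) p ∈ U'
        rw [ht'', Scheme.Hom.comp_apply, ← SetLike.mem_coe, ← hU'.range_fromSpec]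
        exact Set.mem_range_self _
      obtain ⟨ψ, hψ⟩ : ∃ ψ, Spec.map ψ = IsOpenImmersion.lift hW.fromSpec t'.left hr :=
        ⟨_, Spec.map_preimage _⟩
      have hcomp : φ ≫ ψ = mk := by
        refine Spec.map_injective ((cancel_mono hU'.fromSpec).mp ?_)
        rw [← ht'', ← IsOpenImmersion.lift_fac hW.fromSpec t'.left hr, ← hψ, Spec.map_comp,
          Category.assoc, Category.assoc]
        congr 1
        simpa [φ, Scheme.Hom.app_eq_appLE] using hU'.SpecMap_appLE_fromSpec ι.left hW le_rfl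
      have h1 := congr($hcomp a)
      change ψ.hom (φ.hom a) = mk.hom a at h1
      rw [RingHom.mem_ker] at ha
      rw [ha, map_zero] at h1
      exact Ideal.Quotient.eq_zero_iff_mem.mp h1.symm
    · rintro _ ⟨g, a, rfl⟩
      rw [SetLike.mem_coe, RingHom.mem_ker, map_sub, sub_eq_zero]
      change ((ρ g).hom.left.appLE U' U' (hinv g) ≫ φ).hom a = φ.hom a
      simp only [φ, Scheme.Hom.app_eq_appLE, Scheme.Hom.appLE_comp_appLE]
      simp_rw [← Over.comp_left, hι g]
  algebraize [φ.hom.comp (X.hom.appLE V U' hU'V).hom]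
  let q : Γ(X.left, U') →ₐ[Γ(S, V)] Γ(Z.left, ι.left ⁻¹ᵁ U') :=
    { __ := φ.hom, commutes' := fun r ↦ rfl }
  haveI : Algebra.Smooth Γ(S, V) Γ(Z.left, ι.left ⁻¹ᵁ U') :=
    .of_equiv ((Ideal.quotientEquivAlgOfEq _ hker.symm).trans
      (Ideal.quotientKerAlgEquivOfSurjective (f := q) hsurj))
  have h2 : (φ.hom.comp (X.hom.appLE V U' hU'V).hom).Smooth :=
    (RingHom.smooth_algebraMap (R := Γ(S, V)) (S := Γ(Z.left, ι.left ⁻¹ᵁ U'))).mpr ‹_›
  convert h2 using 1
  rw [← CommRingCat.hom_comp]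
  simp only [φ, Scheme.Hom.app_eq_appLE, Scheme.Hom.appLE_comp_appLE]
  simp_rw [Over.w ι]

/-- Let S be a scheme, X an S-scheme that is smooth, separated and of finite presentation over S, and G
a finite group whose order is invertible on S (a unit among the global functions of S) acting on X
by S-automorphisms. Then the scheme of G-fixed points of X, namely any S-scheme Z with an S-morphism
ι to X that is itself fixed by every element of G (ι followed by the automorphism of each g equals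
ι) and such that an S-morphism T → X is fixed by every element of G exactly when it factors through
ι, and then uniquely, is a closed subscheme of X (ι is a closed immersion) which is smooth and of
finite presentation over S (smooth, quasi-compact and quasi-separated). The published statement
assumes X only smooth and of finite presentation over S; this row also assumes X separated over S. -/
theorem result (S : Scheme.{u})
    (X : Over S) [Smooth X.hom] [QuasiCompact X.hom] [IsSeparated X.hom]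
    (G : Type v) [Group G] [Finite G] (ρ : G →* Aut X)
    (hG : IsUnit (Nat.card G : Γ(S, ⊤)))
    (Z : Over S) (ι : Z ⟶ X) (hι : ∀ g : G, ι ≫ (ρ g).hom = ι)
    (hZ : ∀ (T : Over S) (t : T ⟶ X), (∀ g : G, t ≫ (ρ g).hom = t) ↔ ∃! t' : T ⟶ Z, t' ≫ ι = t) :
    IsClosedImmersion ι.left ∧ Smooth Z.hom ∧ QuasiCompact Z.hom ∧ QuasiSeparated Z.hom := by
  have : Fintype G := Fintype.ofFinite G
  obtain ⟨W, w, hw, hfix, huniv⟩ := exists_fix_closed (fun g : G ↦ (ρ g).hom) Finset.univ
  obtain ⟨a, ha⟩ := huniv Z ι fun g _ ↦ hι g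
  obtain ⟨b, hb, -⟩ := (hZ W w).mp fun g ↦ hfix g (Finset.mem_univ g)
  have hba : b ≫ a = 𝟙 W := by
    haveI : Mono w := by
      haveI : Mono ((Over.forget S).map w) := inferInstanceAs (Mono w.left)
      exact (Over.forget S).mono_of_mono_map inferInstance
    rw [← cancel_mono w, Category.assoc, ha, hb, Category.id_comp]
  have hab : a ≫ b = 𝟙 Z := by
    obtain ⟨c, -, hc⟩ := (hZ Z ι).mp hι
    rw [hc (a ≫ b) (show (a ≫ b) ≫ ι = ι by rw [Category.assoc, hb, ha]), hc (𝟙 Z) (Category.id_comp ι)]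
  haveI : IsIso a := ⟨b, hab, hba⟩
  haveI : IsIso a.left := inferInstanceAs (IsIso ((Over.forget S).map a))
  haveI hci : IsClosedImmersion ι.left := by rw [← ha, Over.comp_left]; infer_instance
  refine ⟨hci, smooth_fix ρ hG ι hι (fun T t ht ↦ ((hZ T t).mp ht).exists), ?_, ?_⟩
  · rw [← Over.w ι]; infer_instance
  · rw [← Over.w ι]; infer_instance

end Groth.Agent.S16212
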