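import Groth.Statements.S16213
import Groth.Agent.AlgSt88.StackRep
import Groth.Agent.AlgSt88.DiagDescent
import Groth.Agent.SpFP87.FpqcMono

set_option autoImplicit false
open CategoryTheory AlgebraicGeometry
universe u
open AlgSt

namespace Groth.Agent.S16213

/-- Let S be a scheme, let 𝒳 and 𝒴 be stacks in groupoids over (Sch/S) for the fppf topology with 𝒴 an
algebraic stack, and let f : 𝒳 ⟶ 𝒴 be a functor over (Sch/S). Suppose there are an algebraic space Z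
over S and a functor z : Z ⟶ 𝒴 over (Sch/S) which is representable by algebraic spaces, smooth and
surjective, such that the 2-fibre product Z ×_𝒴 𝒳 is an algebraic stack. Then 𝒳 is an algebraic
stack over S. -/
theorem result {S : Scheme.{u}} {𝒳 𝒴 : AlgSt.Cat S}
    (h𝒳 : Stk.IsStack (QuotSh.J Scheme.fppfPrecoverage S) 𝒳)
    (h𝒴 : AlgSt.IsAlgStack Scheme.fppfPrecoverage 𝒴) (f : 𝒳 ⥤ᵇ 𝒴)
    (Z : AlgSp.Space S) (z : AlgSt.ofSp Z.obj ⥤ᵇ 𝒴)
    (hsm : AlgSt.RepByAlgSpWith (AlgSp.LocP @Smooth) z)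
    (hsurj : AlgSt.RepByAlgSpWith AlgSp.IsSurjectiveMor z)
    (hfp : AlgSt.IsAlgStack Scheme.fppfPrecoverage (FibCat.fp z f)) :
    AlgSt.IsAlgStack Scheme.fppfPrecoverage 𝒳 := by
  obtain ⟨U, u, hu, hu'⟩ := hfp.atlas
  have hC := hfp.isStack.1
  have h1 : AlgSt.RepByAlgSpWith (AlgSp.LocP @Smooth) (FibCat.fpSnd z f) := Groth.Agent.AlgSt88.repByAlgSpWith_of_iso
    (f := BasedFunctor.comp (Groth.Agent.AlgSt88.fpSwap z f) (FibCat.fpFst f z)) (Iso.refl _)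
    ((Groth.Agent.AlgSt88.repByAlgSpWith_precomp_equiv Groth.Agent.AlgSt88.isEquivOver_fpSwap).2 (Groth.Agent.AlgSt88.repByAlgSpWith_fpFst f hsm))
  have h2 : AlgSt.RepByAlgSpWith AlgSp.IsSurjectiveMor (FibCat.fpSnd z f) := Groth.Agent.AlgSt88.repByAlgSpWith_of_iso
    (f := BasedFunctor.comp (Groth.Agent.AlgSt88.fpSwap z f) (FibCat.fpFst f z)) (Iso.refl _)
    ((Groth.Agent.AlgSt88.repByAlgSpWith_precomp_equiv Groth.Agent.AlgSt88.isEquivOver_fpSwap).2 (Groth.Agent.AlgSt88.repByAlgSpWith_fpFst f hsurj))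
  exact Groth.Agent.AlgSt88.isAlgStack_of_chart h𝒳 ⟨_, AlgSp.IsAlgSpace.yon_obj U⟩
    (BasedFunctor.comp (AlgSt.toOverCat U) (BasedFunctor.comp u (FibCat.fpSnd z f)))
    ((Groth.Agent.AlgSt88.repByAlgSpWith_precomp_equiv (Groth.Agent.AlgSt88.isEquivOver_toOverCat U)).2
      (Groth.Agent.AlgSt88.sm_comp (Groth.Agent.AlgSt88.isFibGrpd_overCat U) hC hu h1))
    ((Groth.Agent.AlgSt88.repByAlgSpWith_precomp_equiv (Groth.Agent.AlgSt88.isEquivOver_toOverCat U)).2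
      (Groth.Agent.AlgSt88.repByAlgSpWith_surj_comp (Groth.Agent.AlgSt88.isFibGrpd_overCat U) hC hu' h2))

end Groth.Agent.S16213
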