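import Groth.Statements.S16219
import Groth.Agent.LimTop61.GlueStage
import Groth.Agent.LimTop61.FpCrit
import Mathlib.AlgebraicGeometry.Morphisms.FiniteType

set_option autoImplicit false
set_option backward.isDefEq.respectTransparency false
set_option backward.defeqAttrib.useBackward true
universe u
open Lim

namespace Groth.Agent.LimTop61

open CategoryTheory CategoryTheory.Limits AlgebraicGeometry Opposite TopologicalSpace

theorem exists_hom_subalgebra_of_directed
    {ι : Type u} (A C : Type u) [CommRing A] [CommRing C] [Algebra A C] [IsDomain C]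
    (S : ι → Subalgebra A C) (hdir : Directed (· ≤ ·) S) (hcov : ∀ c : C, ∃ i, c ∈ S i)
    (X : Scheme.{u}) (f : X ⟶ Spec (CommRingCat.of A))
    [LocallyOfFiniteType f] [QuasiCompact f]
    (g : Spec (CommRingCat.of C) ⟶ X)
    (hg : g ≫ f = Spec.map (CommRingCat.ofHom (algebraMap A C))) :
    ∃ (i : ι) (g' : Spec (CommRingCat.of (S i)) ⟶ X),
      g' ≫ f = Spec.map (CommRingCat.ofHom (algebraMap A (S i))) ∧
      Spec.map (CommRingCat.ofHom (S i).val.toRingHom) ≫ g' = g := by
  classical
  let T := {T : Subalgebra A C // ∃ i, S i = T}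
  have : IsDirectedOrder T := ⟨fun ⟨_, i, hi⟩ ⟨_, j, hj⟩ => by
    subst hi hj
    obtain ⟨k, hik, hjk⟩ := hdir i j
    exact ⟨⟨S k, k, rfl⟩, hik, hjk⟩⟩
  have : Nonempty T := ⟨⟨S (hcov 0).choose, _, rfl⟩⟩
  have : IsFiltered T := isFiltered_of_directed_le_nonempty _
  have : IsConnected T := IsFiltered.isConnected _
  let F : T ⥤ Under (CommRingCat.of A) :=
    { obj := fun T => Under.mk (CommRingCat.ofHom (algebraMap A T.1))
      map := fun {T T'} h => Under.homMk (CommRingCat.ofHom (Subalgebra.inclusion h.le).toRingHom)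
        (by ext; rfl) }
  let cc : Cocone F :=
    { pt := Under.mk (CommRingCat.ofHom (algebraMap A C))
      ι := { app := fun T => Under.homMk (CommRingCat.ofHom T.1.val.toRingHom) } }
  have hcc : IsColimit cc := isColimitOfElements F cc
    (fun x => ⟨⟨_, _, rfl⟩, ⟨x, (hcov x).choose_spec⟩, rfl⟩)
    (fun T y z h => ⟨T, 𝟙 T, by rw [show y = z from Subtype.ext h]⟩)
  let D : Tᵒᵖ ⥤ Scheme.{u} := (F ⋙ Under.forget _).op ⋙ Scheme.Spec
  let c : Cone D := Scheme.Spec.mapCone ((Under.forget _).mapCocone cc).op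
  let hc : IsLimit c := isLimitOfPreserves Scheme.Spec (isColimitOfPreserves (Under.forget _) hcc).op
  have (j : Tᵒᵖ) : IsAffine (D.obj j) := inferInstanceAs (IsAffine (Spec _))
  have (i j : Tᵒᵖ) (h : i ⟶ j) : IsAffineHom (D.map h) := isAffineHom_of_isAffine _
  have (j : Tᵒᵖ) : AlgebraicGeometry.IsReduced (D.obj j) :=
    inferInstanceAs (AlgebraicGeometry.IsReduced (Spec (CommRingCat.of j.unop.1)))
  have : CompactSpace c.pt := inferInstanceAs (CompactSpace (PrimeSpectrum C))
  have hd : ∀ j, DenseRange (c.π.app j) := fun j => by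
    show DenseRange (PrimeSpectrum.comap j.unop.1.val.toRingHom)
    rw [PrimeSpectrum.denseRange_comap_iff_ker_le_nilRadical,
      (RingHom.injective_iff_ker_eq_bot _).mp (Subtype.val_injective)]
    exact bot_le
  obtain ⟨j, g', hg'⟩ := exists_hom_stage_of_local D c hc hd g (fun x => by
    obtain ⟨_, ⟨(U : X.Opens), (hU : IsAffineOpen U), rfl⟩, (hxU : g x ∈ U), -⟩ :=
      X.isBasis_affineOpens.exists_subset_of_mem_open (Set.mem_univ (g x)) isOpen_univ
    obtain ⟨_, ⟨c₀, rfl⟩, hxc, hcU⟩ :=
      (PrimeSpectrum.isTopologicalBasis_basic_opens (R := C)).exists_subset_of_mem_open (a := (x : PrimeSpectrum C))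
        (u := g ⁻¹' (U : Set X)) hxU (U.2.preimage g.continuous)
    let Cc := Localization.Away c₀
    let jC : Spec (CommRingCat.of Cc) ⟶ Spec (CommRingCat.of C) :=
      Spec.map (CommRingCat.ofHom (algebraMap C Cc))
    have hjC : Set.range jC = (PrimeSpectrum.basicOpen c₀ : Set (PrimeSpectrum C)) :=
      PrimeSpectrum.localization_away_comap_range Cc c₀
    let ψ : Γ(X, U) ⟶ CommRingCat.of Cc := Spec.preimage (IsOpenImmersion.lift hU.fromSpec (jC ≫ g) (by
      rw [hU.range_fromSpec]
      rintro _ ⟨z, rfl⟩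
      exact hcU (hjC.le ⟨z, rfl⟩)))
    have hψ : Spec.map ψ ≫ hU.fromSpec = jC ≫ g := by
      rw [Spec.map_preimage, IsOpenImmersion.lift_fac]
    let φA : CommRingCat.of A ⟶ Γ(X, U) := Spec.preimage (hU.fromSpec ≫ f)
    have hφA : φA.hom.FiniteType := by
      rw [← HasRingHomProperty.Spec_iff (P := @LocallyOfFiniteType), Spec.map_preimage]
      infer_instance
    have hψA : ∀ a, ψ (φA a) = algebraMap A Cc a := by
      intro a
      have : φA ≫ ψ = CommRingCat.ofHom (algebraMap A C) ≫ CommRingCat.ofHom (algebraMap C Cc) := by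
        rw [← Spec.map_inj, Spec.map_comp, Spec.map_comp, show Spec.map φA = hU.fromSpec ≫ f from Spec.map_preimage _]
        exact ((Category.assoc _ _ _).symm.trans (congrArg (· ≫ f) hψ)).trans ((Category.assoc _ _ _).trans (congrArg (jC ≫ ·) hg))
      rw [IsScalarTower.algebraMap_apply A C Cc]
      exact congrArg (fun m : CommRingCat.of A ⟶ CommRingCat.of Cc => m.hom a) this
    algebraize [φA.hom]
    obtain ⟨s, hs⟩ := (inferInstance : Algebra.FiniteType A Γ(X, U)).out
    have hb : ∀ b : Γ(X, U), ∃ (y : C) (n : ℕ), ψ b * algebraMap C Cc c₀ ^ n = algebraMap C Cc y := by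
      intro b
      obtain ⟨⟨y, ⟨_, n, rfl⟩⟩, hy⟩ := IsLocalization.surj (Submonoid.powers c₀) (ψ b)
      exact ⟨y, n, by rw [← map_pow]; exact hy⟩
    choose y n hy using hb
    choose i hi using hcov
    obtain ⟨T₁, hT₁⟩ := Finset.exists_le ((insert c₀ (s.image y)).image fun c => (⟨S (i c), _, rfl⟩ : T))
    have hmem : ∀ z ∈ insert c₀ (s.image y), z ∈ T₁.1 := fun z hz =>
      hT₁ _ (Finset.mem_image_of_mem _ hz) (hi z)
    let c₁ : T₁.1 := ⟨c₀, hmem c₀ (Finset.mem_insert_self _ _)⟩
    let Rc := Localization.Away c₁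
    let μ : Rc →+* Cc := IsLocalization.map Cc T₁.1.val.toRingHom
      (show Submonoid.powers c₁ ≤ (Submonoid.powers c₀).comap T₁.1.val.toRingHom by
        rintro _ ⟨m, rfl⟩; exact ⟨m, rfl⟩)
    have hμi : Function.Injective μ := by
      refine IsLocalization.map_injective_of_injective' (M := Submonoid.powers c₁) (N := Submonoid.powers c₀)
        (f := T₁.1.val.toRingHom) C Cc _ ?_ Subtype.val_injective
      rintro ⟨m, hm⟩
      have h0 : c₀ = 0 := eq_zero_of_pow_eq_zero hm
      rw [h0] at hxc
      simp at hxc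
    have hμ : ∀ z : T₁.1, μ (algebraMap T₁.1 Rc z) = algebraMap C Cc z.1 := fun z =>
      IsLocalization.map_eq _ z
    have hrange : ∀ b, ψ b ∈ μ.range := by
      intro b
      have : b ∈ Algebra.adjoin A (s : Set Γ(X, U)) := hs ▸ Algebra.mem_top
      induction this using Algebra.adjoin_induction with
      | mem b hb =>
        obtain ⟨w, hw⟩ := (IsLocalization.Away.algebraMap_isUnit (S := Rc) c₁).exists_right_inv
        refine ⟨algebraMap T₁.1 Rc ⟨y b, hmem _ (Finset.mem_insert_of_mem (Finset.mem_image_of_mem y hb))⟩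
          * w ^ n b, ?_⟩
        have hw' : algebraMap C Cc c₀ * μ w = 1 := by
          have := congrArg μ hw
          rwa [map_mul, map_one, hμ] at this
        rw [map_mul, map_pow, hμ, ← hy b, mul_assoc, ← mul_pow, hw', one_pow, mul_one]
      | algebraMap a =>
        refine ⟨algebraMap T₁.1 Rc (algebraMap A T₁.1 a), ?_⟩
        rw [hμ]
        exact ((IsScalarTower.algebraMap_apply A C Cc a).symm.trans (hψA a).symm)
      | add a b _ _ ha hb => rw [map_add]; exact μ.range.add_mem ha hb
      | mul a b _ _ ha hb => rw [map_mul]; exact μ.range.mul_mem ha hb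
    let e := RingEquiv.ofBijective μ.rangeRestrict
      ⟨fun a b h => hμi (congrArg Subtype.val h), μ.rangeRestrict_surjective⟩
    let ψ' : Γ(X, U) ⟶ CommRingCat.of Rc :=
      CommRingCat.ofHom (e.symm.toRingHom.comp (ψ.hom.codRestrict μ.range hrange))
    have hψ' : ψ' ≫ CommRingCat.ofHom μ = ψ := by
      ext b
      exact congrArg Subtype.val (e.apply_symm_apply ⟨ψ b, hrange b⟩)
    let k : Spec (CommRingCat.of Rc) ⟶ D.obj (op T₁) :=
      Spec.map (CommRingCat.ofHom (algebraMap T₁.1 Rc))
    have hk : Set.range k = (PrimeSpectrum.basicOpen c₁ : Set (PrimeSpectrum T₁.1)) :=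
      PrimeSpectrum.localization_away_comap_range Rc c₁
    have : IsOpenImmersion k := IsOpenImmersion.of_isLocalization c₁
    have : IsOpenImmersion jC := IsOpenImmersion.of_isLocalization c₀
    have hsq : Spec.map (CommRingCat.ofHom μ) ≫ k = jC ≫ c.π.app (op T₁) := by
      erw [← Spec.map_comp, ← Spec.map_comp]
      congr 1
      ext z
      exact hμ z
    refine ⟨op T₁, ⟨k.opensRange, ?_, k.isoOpensRange.inv ≫ Spec.map ψ' ≫ hU.fromSpec, ?_⟩, ?_⟩
    · exact isCompact_range k.continuous
    · let eC := IsOpenImmersion.isoOfRangeEq jC (c.π.app (op T₁) ⁻¹ᵁ k.opensRange).ι (by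
        rw [Scheme.Opens.range_ι]
        show Set.range jC = PrimeSpectrum.comap T₁.1.val.toRingHom ⁻¹' Set.range k
        rw [hjC, hk]
        rfl)
      have heC : eC.hom ≫ (c.π.app (op T₁) ⁻¹ᵁ k.opensRange).ι = jC := IsOpenImmersion.isoOfRangeEq_hom_fac _ _ _
      have h1 : eC.hom ≫ (c.π.app (op T₁) ∣_ k.opensRange) = Spec.map (CommRingCat.ofHom μ) ≫ k.isoOpensRange.hom := by
        rw [← cancel_mono k.opensRange.ι, Category.assoc, Category.assoc, morphismRestrict_ι,
          reassoc_of% heC, Scheme.Hom.isoOpensRange_hom_ι, hsq]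
      rw [← cancel_epi eC.hom, reassoc_of% h1, Iso.hom_inv_id_assoc, ← Spec.map_comp_assoc, hψ', hψ,
        reassoc_of% heC]
    · show PrimeSpectrum.comap T₁.1.val.toRingHom x ∈ Set.range k
      rw [hk]
      exact hxc)
  obtain ⟨T', i, hi⟩ := j
  subst hi
  refine ⟨i, g', ?_, hg'⟩
  have : IsDominant (c.π.app (op ⟨S i, i, rfl⟩)) := ⟨hd _⟩
  refine ext_of_isDominant (c.π.app (op ⟨S i, i, rfl⟩)) ?_
  rw [reassoc_of% hg', hg]
  erw [← Spec.map_comp]
  rfl

end Groth.Agent.LimTop61

namespace Groth.Agent.S16219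

open AlgebraicGeometry CategoryTheory in
/-- Let A be a commutative ring, X a scheme of finite type over Spec A (quasi-compact and locally of
finite type), C an A-algebra that is an integral domain and the union of a directed family of
A-subalgebras C_i, and g : Spec C → X an A-morphism. Then for some index i there is an A-morphism
Spec C_i → X whose composite with the morphism Spec C → Spec C_i induced by the inclusion is g. The
published statement asserts that the map from the colimit of the sets of A-morphisms Spec C_i → X to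
the set of A-morphisms Spec C → X is bijective; this row states only that it is surjective
(injectivity holds for every filtered colimit of A-algebras). -/
theorem result
    {ι : Type u} (A C : Type u) [CommRing A] [CommRing C] [Algebra A C] [IsDomain C]
    (S : ι → Subalgebra A C) (hdir : Directed (· ≤ ·) S) (hcov : ∀ c : C, ∃ i, c ∈ S i)
    (X : Scheme.{u}) (f : X ⟶ Spec (CommRingCat.of A))
    [LocallyOfFiniteType f] [QuasiCompact f]
    (g : Spec (CommRingCat.of C) ⟶ X)
    (hg : g ≫ f = Spec.map (CommRingCat.ofHom (algebraMap A C))) :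
    ∃ (i : ι) (g' : Spec (CommRingCat.of (S i)) ⟶ X),
      g' ≫ f = Spec.map (CommRingCat.ofHom (algebraMap A (S i))) ∧
      Spec.map (CommRingCat.ofHom (S i).val.toRingHom) ≫ g' = g := by
  exact Groth.Agent.LimTop61.exists_hom_subalgebra_of_directed A C S hdir hcov X f g hg

end Groth.Agent.S16219
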