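import Groth.Statements.S16223
import Mathlib
import Groth.Agent.CAlg8.ExtPF
import Groth.Agent.CAlg8.ExtDesc
import Groth.Agent.CAlg8.WittEqualizer

set_option autoImplicit false
open CategoryTheory Opposite
universe u
open CAlg
open Groth.Agent.CAlg8 Groth.Agent.CAlg8.ExtPF

namespace Groth.Agent.S16223

/-- Let p be a prime, n a natural number, and R → R' a faithfully flat homomorphism of commutative rings
in which p is nilpotent; write W_n for truncated Witt vectors of length n. A descent datum of
W_n(R')-modules relative to R → R' is a W_n(R')-module M' with, for every ring T and every pair of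
maps R' ⇉ T agreeing on R, an isomorphism between the two base changes of M' to W_n(T), natural in T
and satisfying the cocycle condition (equivalently an isomorphism over W_n(R' ⊗_R R') with the
cocycle condition over W_n(R' ⊗_R R' ⊗_R R')); base change W_n(R') ⊗_{W_n(R)} M of a W_n(R)-module M
carries the canonical such datum. Then for finitely generated projective W_n(R)-modules M and N, the
map sending a W_n(R)-linear map M → N to the induced morphism of canonical descent data is bijective
(the functor to descent data is fully faithful on such modules). -/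
theorem result (p : ℕ) [Fact p.Prime] (n : ℕ)
    (R R' : Type u) [CommRing R] [CommRing R'] [Algebra R R'] [Module.FaithfullyFlat R R']
    (hp : IsNilpotent (p : R))
    (M N : ModuleCat.{u} (TruncatedWittVector p n R))
    [Module.Finite (TruncatedWittVector p n R) M] [Module.Projective (TruncatedWittVector p n R) M]
    [Module.Finite (TruncatedWittVector p n R) N] [Module.Projective (TruncatedWittVector p n R) N] :
    Function.Bijective (fun φ : M ⟶ N =>
      ((W4c3truncdispsmooth.wittModPF.{u} p n).toDescentData (fun _ : PUnit.{u + 1} => (CommRingCat.ofHom (algebraMap R R')).op)).map φ) := by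
  let K : (CommRingCat.{u}ᵒᵖ)ᵒᵖ ⥤ CommRingCat.{u} := unopUnop CommRingCat.{u} ⋙ W4c3truncdispsmooth.wittTrunc.{u} p n
  let f : op (CommRingCat.of R') ⟶ op (CommRingCat.of R) := (CommRingCat.ofHom (algebraMap R R')).op
  let g₁ : op (CommRingCat.of (TensorProduct R R' R')) ⟶ op (CommRingCat.of R') :=
    (CommRingCat.ofHom (Algebra.TensorProduct.includeLeftRingHom : R' →+* TensorProduct R R' R')).op
  let g₂ : op (CommRingCat.of (TensorProduct R R' R')) ⟶ op (CommRingCat.of R') :=
    (CommRingCat.ofHom ((Algebra.TensorProduct.includeRight : R' →ₐ[R] TensorProduct R R' R') : R' →+* TensorProduct R R' R')).op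
  let q : op (CommRingCat.of (TensorProduct R R' R')) ⟶ op (CommRingCat.of R) :=
    (CommRingCat.ofHom (algebraMap R (TensorProduct R R' R'))).op
  have w₁ : g₁ ≫ f = q := Quiver.Hom.unop_inj (CommRingCat.hom_ext rfl)
  have w₂ : g₂ ≫ f = q := Quiver.Hom.unop_inj (CommRingCat.hom_ext
    (RingHom.ext fun r => (Algebra.TensorProduct.includeRight : R' →ₐ[R] TensorProduct R R' R').commutes r))
  have hinj : Function.Injective (WittGrp.truncMap p n (algebraMap R R')) :=
    truncMap_injective (FaithfulSMul.algebraMap_injective R R')
  exact toDescentData_bijective_transport (P K) (W4c3truncdispsmooth.wittModPF.{u} p n) rfl f M N M N HEq.rfl HEq.rfl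
    (toDescentData_map_bijective_of_flat K f g₁ g₂ q w₁ w₂ hinj
      (fun b hb => truncMap_exists_of_eq (R := R) (R' := R') b hb) M N
      (show Module.Flat (TruncatedWittVector p n R) N from inferInstance))

end Groth.Agent.S16223
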