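import Groth.Statements.S16225
import Mathlib
import Groth.Agent.CAlg8.WittEqualizer

set_option autoImplicit false
open scoped TensorProduct
universe u v
open CAlg
open Groth.Agent.CAlg8

namespace Groth.Agent.S16225

/-- Let p be a prime, n a natural number and R → R' a faithfully flat homomorphism of commutative rings
in which p is nilpotent. Regard W_n(R') and W_n(R' ⊗_R R') as W_n(R)-algebras through the
componentwise maps induced by R → R' and R → R' ⊗_R R', and let ψ₁, ψ₂ : W_n(R') → W_n(R' ⊗_R R') be
the componentwise maps induced by the two inclusions of R' (these are W_n(R)-algebra maps). Then for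
every flat W_n(R)-module M the sequence 0 → M → M ⊗_{W_n(R)} W_n(R') ⇉ M ⊗_{W_n(R)} W_n(R' ⊗_R R')
is exact: m ↦ m ⊗ 1 is injective and its image is the equalizer of id ⊗ ψ₁ and id ⊗ ψ₂. (This is the
beginning, in degrees 0 and 1, of a complex continued by the higher tensor powers of R', which the
published proof asserts to be exact throughout; W_n(R) → W_n(R') is not flat in general, so this is
not faithfully flat descent.) -/
theorem result (p : ℕ) [Fact p.Prime] (n : ℕ)
    (R R' : Type u) [CommRing R] [CommRing R'] [Algebra R R'] [Module.FaithfullyFlat R R']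
    (hp : IsNilpotent (p : R))
    [Algebra (TruncatedWittVector p n R) (TruncatedWittVector p n R')]
    (h₁ : algebraMap (TruncatedWittVector p n R) (TruncatedWittVector p n R') = WittGrp.truncMap p n (algebraMap R R'))
    [Algebra (TruncatedWittVector p n R) (TruncatedWittVector p n (TensorProduct R R' R'))]
    (h₂ : algebraMap (TruncatedWittVector p n R) (TruncatedWittVector p n (TensorProduct R R' R')) =
      WittGrp.truncMap p n (algebraMap R (TensorProduct R R' R')))
    (ψ₁ ψ₂ : TruncatedWittVector p n R' →ₐ[TruncatedWittVector p n R] TruncatedWittVector p n (TensorProduct R R' R'))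
    (hψ₁ : (ψ₁ : TruncatedWittVector p n R' →+* TruncatedWittVector p n (TensorProduct R R' R')) =
      WittGrp.truncMap p n (Algebra.TensorProduct.includeLeftRingHom : R' →+* TensorProduct R R' R'))
    (hψ₂ : (ψ₂ : TruncatedWittVector p n R' →+* TruncatedWittVector p n (TensorProduct R R' R')) =
      WittGrp.truncMap p n ((Algebra.TensorProduct.includeRight : R' →ₐ[R] TensorProduct R R' R') : R' →+* TensorProduct R R' R'))
    (M : Type v) [AddCommGroup M] [Module (TruncatedWittVector p n R) M] [Module.Flat (TruncatedWittVector p n R) M] :
    Function.Injective (fun m : M => m ⊗ₜ[TruncatedWittVector p n R] (1 : TruncatedWittVector p n R')) ∧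
      ∀ x : M ⊗[TruncatedWittVector p n R] TruncatedWittVector p n R',
        LinearMap.lTensor M ψ₁.toLinearMap x = LinearMap.lTensor M ψ₂.toLinearMap x →
          x ∈ Set.range (fun m : M => m ⊗ₜ[TruncatedWittVector p n R] (1 : TruncatedWittVector p n R')) := by
  have hinj : Function.Injective (Algebra.linearMap (TruncatedWittVector p n R) (TruncatedWittVector p n R')) := by
    intro a b hab
    simp only [Algebra.linearMap_apply, h₁] at hab
    exact truncMap_injective (FaithfulSMul.algebraMap_injective R R') hab
  obtain ⟨i1, i2⟩ := flat_lTensor_equalizer M (Algebra.linearMap (TruncatedWittVector p n R) (TruncatedWittVector p n R'))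
    ψ₁.toLinearMap ψ₂.toLinearMap hinj
    (fun q hq => by
      have hq' : (ψ₁ : TruncatedWittVector p n R' →+* TruncatedWittVector p n (TensorProduct R R' R')) q = (ψ₂ : TruncatedWittVector p n R' →+* TruncatedWittVector p n (TensorProduct R R' R')) q := hq
      rw [hψ₁, hψ₂] at hq'
      obtain ⟨y, hy⟩ := truncMap_exists_of_eq q hq'
      exact ⟨y, by rw [Algebra.linearMap_apply, h₁, hy]⟩)
    (fun a => by simp)
  have hι : ∀ m : M, m ⊗ₜ[(TruncatedWittVector p n R)] (1 : TruncatedWittVector p n R') =
      (Algebra.linearMap (TruncatedWittVector p n R) (TruncatedWittVector p n R')).lTensor M ((TensorProduct.rid (TruncatedWittVector p n R) M).symm m) := fun m => by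
    simp
  refine ⟨fun a b hab => ?_, fun x hx => ?_⟩
  · simp only at hab
    rw [hι, hι] at hab
    exact (TensorProduct.rid (TruncatedWittVector p n R) M).symm.injective (i1 hab)
  · obtain ⟨t, rfl⟩ := (i2 x).mp hx
    exact ⟨TensorProduct.rid (TruncatedWittVector p n R) M t, (hι _).trans (by rw [LinearEquiv.symm_apply_apply])⟩

end Groth.Agent.S16225
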