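import Groth.Statements.S16229
import Groth.Agent.VB30.Triv


set_option autoImplicit false
universe u
open VBCurve

namespace Groth.Agent.S16229

open CategoryTheory CategoryTheory.Limits AlgebraicGeometry TopologicalSpace in
/-- Let k be an algebraically closed field, X a smooth proper integral curve over k, x₀ a closed point
of X with open complement X* = X − x₀, U an affine k-scheme, X_U = X ×_k U with projections to X and
to U, and E a finite locally free O_{X_U}-module of rank r with trivial determinant, in the sense
that some r-th exterior power of E is isomorphic to O_{X_U}. Then Zariski-locally on U the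
restriction of E to X* ×_k U is trivial: every point u of U has an open neighbourhood V such that E
restricted to the open subscheme X* ×_k V of X_U (the intersection of the inverse images of X* and
of V) is isomorphic to the free module of rank r. -/
theorem result
    (k : Type u) [Field k] [IsAlgClosed k]
    (X : Scheme.{u}) (f : X ⟶ Spec (CommRingCat.of k)) (hX : Curve.IsSmoothProperCurve k X f)
    (x₀ : X) (hx₀ : IsClosed ({x₀} : Set X))
    (U : Scheme.{u}) [IsAffine U] (g : U ⟶ Spec (CommRingCat.of k))
    (E : (pullback f g).Modules) (r : ℕ) (hE : FlatMod.IsFinLocFreeOfRank r E)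
    (hdet : ∃ D : (pullback f g).Modules, ExtPow.IsExtPow r E D ∧ Nonempty (D ≅ Coh.structureModule (pullback f g)))
    (u : U) :
    ∃ V : U.Opens, u ∈ V ∧
      Nonempty (E.restrict ((pullback.fst f g) ⁻¹ᵁ (⟨({x₀} : Set X)ᶜ, hx₀.isOpen_compl⟩ : X.Opens) ⊓ (pullback.snd f g) ⁻¹ᵁ V).ι ≅
        FlatMod.freeMod (↑((pullback.fst f g) ⁻¹ᵁ (⟨({x₀} : Set X)ᶜ, hx₀.isOpen_compl⟩ : X.Opens) ⊓ (pullback.snd f g) ⁻¹ᵁ V)) r) := by
  exact Groth.Agent.VB30.Triv.locally_trivial X f hX x₀ hx₀ U g E r hE hdet u

end Groth.Agent.S16229
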