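import Groth.Statements.S1623
import Groth.Agent.Res23.BlowPoint
import Groth.Agent.Res23.BlowProper
import Groth.Agent.Div89.BlowRees
import Groth.Agent.Coh69.QcInd

set_option autoImplicit false
universe u
open CategoryTheory CategoryTheory.Limits AlgebraicGeometry
open Resolve

namespace Groth.Agent.S1623

/-- Let A be a regular local ring of dimension two and b : X → Spec A a blowing up in the maximal ideal.
For every quasi-coherent O_X-module F and every p ≥ 2, H^p(X, F) = 0. -/
theorem result (A : Type u) [CommRing A] [IsRegularLocalRing A] (hA : ringKrullDim A = 2)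
    (X : Scheme.{u}) (b : X ⟶ Spec (CommRingCat.of A)) (hb : BlowUp.IsBlowUp b (Curv2.idealSheaf A (IsLocalRing.maximalIdeal A)))
    (F : X.Modules) (hF : Coh.IsQCoh F) (p : ℕ) (hp : 2 ≤ p) : Subsingleton (Coh.HH X F p) := by
  rw [show Curv2.idealSheaf A (IsLocalRing.maximalIdeal A) = FSch.idealSpec A (IsLocalRing.maximalIdeal A) from
    (Div89.idealSpec_eq_ofIdealTop A _).symm] at hb
  haveI : IsProper b := Res23.isProper_of_isBlowUp hb
  haveI : X.IsSeparated := ⟨by
    rw [← terminal.comp_from b]
    infer_instance⟩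
  obtain ⟨a, c, h⟩ := Res23.BlowPoint.exists_pair hA
  haveI : F.IsQuasicoherent := hF
  let U : Fin 2 → X.Opens := fun i => FBlow13.chartOpen b (IsLocalRing.maximalIdeal A) (![a, c] i)
  have hU : ∀ i, IsAffineOpen (U i) := fun i => FBlow13.isAffineOpen_chartOpen b hb
    (h ▸ Ideal.subset_span (by fin_cases i <;> simp))
  have htop : (⨆ i, U i) = ⊤ := top_unique fun x _ => by
    obtain ⟨a₁, ha₁, hx⟩ := FBlow13.exists_mem_chartOpen_of_span b hb.1 h x
    rcases ha₁ with rfl | rfl
    · exact TopologicalSpace.Opens.mem_iSup.2 ⟨0, hx⟩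
    · exact TopologicalSpace.Opens.mem_iSup.2 ⟨1, hx⟩
  haveI := Coh69.subsingleton_HE_biSup (fun V W hV hW => hV.inf hW) F 2 U hU p hp
  rw [htop] at this
  exact (Coh69.hhEquiv F p).toEquiv.subsingleton

end Groth.Agent.S1623
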