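import Groth.Prelude.Def_QuadSing
import Mathlib.RingTheory.MvPowerSeries.Substitution
import Mathlib.Data.Finsupp.Weight
import Groth.Agent.An92.MorseQuad

set_option autoImplicit false
universe u
namespace VanCyc
end VanCyc
open VanCyc
open Groth.Agent.An92 Groth.Agent

namespace Groth.Agent.S16230

/-- Let A be a local ring, n and m natural numbers with 2 ≤ m, q an n × n coefficient table over A whose
quadratic form Q(x) = Σ_{i≤j} q_ij x_i x_j is non-degenerate (the polar bilinear form has unit Gram
determinant, i.e. is a perfect pairing — the reading of non-degeneracy over the local ring A used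
here), a an element of A, and F a formal power series in x_1, …, x_n over A all of whose
coefficients in total degree at most m agree with those of Q + a. Then there are power series h_1,
…, h_n with no terms of total degree less than m such that substituting x_i + h_i for x_i in F gives
exactly Q + a; consequently A[[x]]/(F) and A[[x]]/(Q + a) are isomorphic as A-algebras. -/
theorem result
    (A : Type u) [CommRing A] [IsLocalRing A] (n m : ℕ) (hm : 2 ≤ m)
    (q : Fin n → Fin n → A) (hq : VanCyc.QuadNondeg q) (a : A)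
    (F : MvPowerSeries (Fin n) A)
    (hF : ∀ e : Fin n →₀ ℕ, e.degree ≤ m →
      MvPowerSeries.coeff e F = MvPowerSeries.coeff e ((VanCyc.quadPoly q + MvPolynomial.C a : MvPolynomial (Fin n) A) : MvPowerSeries (Fin n) A)) :
    ∃ h : Fin n → MvPowerSeries (Fin n) A,
      (∀ (i : Fin n) (e : Fin n →₀ ℕ), e.degree < m → MvPowerSeries.coeff e (h i) = 0) ∧
      MvPowerSeries.HasSubst (fun i => MvPowerSeries.X i + h i) ∧
      MvPowerSeries.subst (fun i => MvPowerSeries.X i + h i) F = ((VanCyc.quadPoly q + MvPolynomial.C a : MvPolynomial (Fin n) A) : MvPowerSeries (Fin n) A) ∧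
      Nonempty ((MvPowerSeries (Fin n) A ⧸ Ideal.span {F}) ≃ₐ[A]
        (MvPowerSeries (Fin n) A ⧸ Ideal.span {((VanCyc.quadPoly q + MvPolynomial.C a : MvPolynomial (Fin n) A) : MvPowerSeries (Fin n) A)})) := by
  obtain ⟨B, hB⟩ := MorsePS.exists_dual q hq
  have hQ : ((VanCyc.quadPoly q + MvPolynomial.C a : MvPolynomial (Fin n) A) : MvPowerSeries (Fin n) A) =
      MorsePS.qf (MorsePS.tri q) MvPowerSeries.X + MvPowerSeries.C a := by
    rw [MvPolynomial.coe_add, MvPolynomial.coe_C, MorsePS.coe_quadPoly]
  rw [hQ] at hF ⊢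
  obtain ⟨ε, hε, hεq⟩ := MorsePS.exists_subst (MorsePS.tri q) B hB hm
    (F - (MorsePS.qf (MorsePS.tri q) MvPowerSeries.X + MvPowerSeries.C a))
    (MvInv51.mem_J.2 fun e he => by rw [map_sub, hF e (by omega), sub_self])
  obtain ⟨h, hh, hs, hinv, θ, hθ⟩ := MorsePS.exists_inverse hm ε hε
  have hsε : MvPowerSeries.HasSubst (fun i : Fin n => MvPowerSeries.X i + ε i) :=
    MvPowerSeries.hasSubst_of_constantCoeff_zero fun i => by
      simp [MvInv51.mem_J_one.1 (MvInv51.J_antitone (by omega) (hε i))]
  have hF' : F = MvPowerSeries.subst (fun i => MvPowerSeries.X i + ε i)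
      (MorsePS.qf (MorsePS.tri q) MvPowerSeries.X + MvPowerSeries.C a) := by
    rw [MvPowerSeries.subst_add hsε, MorsePS.qf_subst hsε, hεq, MvPowerSeries.subst_C]
    ring
  refine ⟨h, fun i e he => MvInv51.mem_J.1 (hh i) e he, hs, by rw [hF', hinv],
    ⟨Ideal.quotientEquivAlg _ _ θ ?_⟩⟩
  rw [Ideal.map_span, Set.image_singleton]
  congr 2
  exact ((hθ F).trans (by rw [hF', hinv])).symm

end Groth.Agent.S16230
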