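import Groth.Statements.S16231
import Groth.Agent.QS97.Translate
import Groth.Agent.QS97.Degree2

set_option autoImplicit false
universe u
open VanCyc

namespace Groth.Agent.S16231

/-- Let A be a local ring with maximal ideal m that is separated and complete for the m-adic topology (A
is not assumed Noetherian), n a natural number, q an n × n coefficient table over A whose quadratic
form Q(x) = Σ_{i≤j} q_ij x_i x_j is non-degenerate (unit Gram determinant of the polar bilinear
form), a and ℓ_1, …, ℓ_n elements of m, and F a formal power series in x_1, …, x_n over A whose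
coefficients in total degree at most 2 agree with those of a + Σ ℓ_i x_i + Q(x). Then there are an
element a' of m and a non-degenerate coefficient table q' such that A[[x]]/(F) and A[[x]]/(Q'(x) +
a') are isomorphic as A-algebras, Q' the quadratic form of q'. -/
theorem result
    (A : Type u) [CommRing A] [IsLocalRing A]
    [IsAdicComplete (IsLocalRing.maximalIdeal A) A] (n : ℕ)
    (q : Fin n → Fin n → A) (hq : VanCyc.QuadNondeg q)
    (a : A) (ha : a ∈ IsLocalRing.maximalIdeal A)
    (ℓ : Fin n → A) (hℓ : ∀ i, ℓ i ∈ IsLocalRing.maximalIdeal A)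
    (F : MvPowerSeries (Fin n) A)
    (hF : ∀ e : Fin n →₀ ℕ, e.degree ≤ 2 →
      MvPowerSeries.coeff e F = MvPowerSeries.coeff e ((VanCyc.quadPoly q + ∑ i, MvPolynomial.C (ℓ i) * MvPolynomial.X i + MvPolynomial.C a : MvPolynomial (Fin n) A) : MvPowerSeries (Fin n) A)) :
    ∃ (a' : A) (q' : Fin n → Fin n → A), a' ∈ IsLocalRing.maximalIdeal A ∧ VanCyc.QuadNondeg q' ∧
      Nonempty ((MvPowerSeries (Fin n) A ⧸ Ideal.span {F}) ≃ₐ[A]
        (MvPowerSeries (Fin n) A ⧸ Ideal.span {((VanCyc.quadPoly q' + MvPolynomial.C a' : MvPolynomial (Fin n) A) : MvPowerSeries (Fin n) A)})) := by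
  classical
  open MvPowerSeries QS97 in
  let : WithIdeal A := ⟨IsLocalRing.maximalIdeal A⟩
  have hcompl : IsAdicComplete (WithIdeal.i (R := A)) A :=
    inferInstanceAs (IsAdicComplete (IsLocalRing.maximalIdeal A) A)
  have hF' : ∀ e : Fin n →₀ ℕ, e.degree ≤ 2 → MvPowerSeries.coeff e F = MvPowerSeries.coeff e
      (VanCyc.quadEval (fun i j => MvPowerSeries.C (q i j)) MvPowerSeries.X +
        ∑ i, MvPowerSeries.C (ℓ i) * MvPowerSeries.X i + MvPowerSeries.C a) := by
    intro e he
    rw [hF e he, ← QS97.coe_quadPoly]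
    congr 1
    have hs := map_sum (MvPolynomial.coeToMvPowerSeries.ringHom (σ := Fin n) (R := A))
      (fun i => MvPolynomial.C (ℓ i) * MvPolynomial.X i) Finset.univ
    simp only [MvPolynomial.coeToMvPowerSeries.ringHom_apply, MvPolynomial.coe_mul,
      MvPolynomial.coe_C, MvPolynomial.coe_X] at hs
    rw [MvPolynomial.coe_add, MvPolynomial.coe_add, MvPolynomial.coe_C, hs]
  have hl2 : ∀ i j : Fin n, i ≤ j → MvPowerSeries.coeff (QS97.pairExp i j) F = q i j := by
    intro i j hij
    rw [hF' _ (by simp [QS97.pairExp, map_add]), map_add, map_add, map_sum,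
      QS97.coeff_quadEval_pairExp q hij, MvPowerSeries.coeff_C]
    rw [Finset.sum_eq_zero fun k _ => ?_, if_neg ?_, add_zero, add_zero]
    · intro h
      have := congrArg Finsupp.degree h
      simp [QS97.pairExp, map_add] at this
    · rw [MvPowerSeries.coeff_C_mul, MvPowerSeries.coeff_X, if_neg, mul_zero]
      intro h
      have := congrArg Finsupp.degree h
      simp [QS97.pairExp, map_add] at this
  have hhess : QS97.hess F = VanCyc.polarMatrix q := by
    ext j i
    rw [QS97.hess, QS97.coeff_single_pderiv, QS97.polarMatrix_quadPart_eq F q hl2]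
  have hlin : ∀ j, QS97.lin F j ∈ (WithIdeal.i : Ideal A) := by
    intro j
    rw [QS97.lin, hF' _ (by simp), map_add, map_add, map_sum,
      QS97.coeff_quadEval_of_ne_two q (by simp), zero_add, MvPowerSeries.coeff_C,
      if_neg (by simp), add_zero]
    refine Ideal.sum_mem _ fun k _ => ?_
    rw [MvPowerSeries.coeff_C_mul]
    exact Ideal.mul_mem_right _ _ (hℓ k)
  obtain ⟨τ, hτlin, hτ⟩ := QS97.exists_translate_critical le_rfl F hlin (by rw [hhess]; exact hq)
  have hq' : VanCyc.QuadNondeg (VanCyc.quadPart (τ F)) := by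
    have h1 : (VanCyc.polarMatrix (VanCyc.quadPart (τ F))).map (IsLocalRing.residue A) =
        (VanCyc.polarMatrix q).map (IsLocalRing.residue A) := by
      ext j i
      rw [← hhess, Matrix.map_apply, Matrix.map_apply, ← QS97.coeff_single_pderiv (τ F) i j]
      refine Ideal.Quotient.eq.mpr ?_
      rw [QS97.hess, MvPowerSeries.coeff_pderiv, MvPowerSeries.coeff_pderiv, ← sub_mul]
      exact Ideal.mul_mem_right _ _ (hτ _)
    have h2 := hq.map (IsLocalRing.residue A)
    rw [RingHom.map_det, RingHom.mapMatrix_apply, ← h1, ← RingHom.mapMatrix_apply,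
      ← RingHom.map_det] at h2
    exact (IsLocalRing.residue_ne_zero_iff_isUnit _).mp h2.ne_zero
  refine ⟨MvPowerSeries.constantCoeff (τ F), VanCyc.quadPart (τ F), ?_, hq', ?_⟩
  · have h0 := hF' 0 (by simp)
    rw [map_add, map_add, map_sum, QS97.coeff_quadEval_of_ne_two q (by simp), zero_add] at h0
    simp [MvPowerSeries.coeff_C] at h0
    have h := Ideal.add_mem _ (hτ 0) (show MvPowerSeries.coeff 0 F ∈ (WithIdeal.i : Ideal A) by
      rw [MvPowerSeries.coeff_zero_eq_constantCoeff, h0]; exact ha)
    rw [sub_add_cancel, MvPowerSeries.coeff_zero_eq_constantCoeff_apply] at h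
    exact h
  · obtain ⟨h, ψ, -, -, -, hψ⟩ := QS97.exists_normalize (VanCyc.quadPart (τ F)) hq'
      (MvPowerSeries.constantCoeff (τ F)) (le_refl 2) (τ F) (fun e he => by
        rw [map_sub, map_add, MvPowerSeries.coeff_C]
        rcases (by omega : e.degree = 0 ∨ e.degree = 1 ∨ e.degree = 2) with h0 | h1 | h2
        · obtain rfl := (Finsupp.degree_eq_zero_iff e).mp h0
          simp [QS97.coeff_quadEval_of_ne_two]
        · rw [QS97.coeff_quadEval_of_ne_two _ (by omega), if_neg (by rintro rfl; simp at h1)]
          obtain ⟨j, rfl⟩ := QS97.exists_single h1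
          simp only [zero_add, sub_zero]
          exact hτlin j
        · obtain ⟨i, j, hij, rfl⟩ := QS97.exists_pairExp h2
          rw [QS97.coeff_quadEval_pairExp _ hij, if_neg (by intro h; rw [h] at h2; simp at h2),
            QS97.quadPart_eq _ hij, add_zero, sub_self])
    refine ⟨Ideal.quotientEquivAlg _ _ (τ.trans ψ) ?_⟩
    rw [Ideal.map_span, Set.image_singleton, MvPolynomial.coe_add, MvPolynomial.coe_C,
      QS97.coe_quadPoly]
    exact congrArg (fun z => Ideal.span {z}) hψ.symm

end Groth.Agent.S16231
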