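import Groth.Statements.S16235
import Mathlib

set_option autoImplicit false
universe u
open CAlg

namespace Groth.Agent.S16235

/-- Let A be a Noetherian commutative ring and x_1, …, x_r a regular sequence on A (each x_i a
non-zero-divisor on A/(x_1, …, x_{i-1})) generating an ideal I ≠ A. Then the height of I, the
infimum of the heights of the minimal primes over I, equals r. -/
theorem result (A : Type u) [CommRing A] [IsNoetherianRing A]
    (r : ℕ) (x : Fin r → A) (hx : RingTheory.Sequence.IsWeaklyRegular A (List.ofFn x))
    (hI : Ideal.span (Set.range x) ≠ ⊤) :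
    (Ideal.span (Set.range x)).height = r := by
  have hof : Ideal.ofList (List.ofFn x) = Ideal.span (Set.range x) := by
    simp [Ideal.ofList, List.mem_ofFn', Set.range]
  refine le_antisymm ((Ideal.height_le_spanFinrank _ hI).trans ?_) ?_
  · have := (Submodule.spanFinrank_span_le_ncard_of_finite (R := A) (Set.finite_range x)).trans (Nat.card_coe_set_eq (Set.range x) ▸ Finite.card_range_le x)
    simpa using this
  have key : ∀ j ≤ r, ∀ p : Ideal A, p.IsPrime → Ideal.ofList ((List.ofFn x).take j) ≤ p → (j : ℕ∞) ≤ p.height := by
    intro j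
    induction j with
    | zero => simp
    | succ j ih =>
      intro hj p hp hle
      have hjl : j < (List.ofFn x).length := by simp; omega
      have hsub : Ideal.ofList ((List.ofFn x).take j) ≤ p := le_trans (by
        rw [← List.take_concat_get' _ _ hjl, Ideal.ofList_append]; exact le_sup_left) hle
      obtain ⟨q, hq, hqp⟩ := Ideal.exists_minimalPrimes_le hsub
      have hxj : (List.ofFn x)[j] ∉ q := by
        intro hmem
        have hreg := hx.regular_mod_prev j hjl
        rw [Ideal.smul_eq_mul, Ideal.mul_top] at hreg
        rw [Ideal.minimalPrimes_eq_comap] at hq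
        obtain ⟨Q, hQ, rfl⟩ := hq
        refine Set.disjoint_left.mp (Ideal.disjoint_nonZeroDivisors_of_mem_minimalPrimes hQ) (Ideal.mem_comap.mp hmem) ?_
        rw [SetLike.mem_coe, mem_nonZeroDivisors_iff]
        have : ∀ y, y * Ideal.Quotient.mk _ (List.ofFn x)[j] = 0 → y = 0 := fun y hy => hreg.right_eq_zero_of_smul (by
          rw [Algebra.smul_def, Ideal.Quotient.algebraMap_eq, mul_comm]; exact hy)
        exact ⟨fun y hy => this y (by rw [mul_comm]; exact hy), this⟩
      have hne : q ≠ p := fun e => hxj (e ▸ hle (Ideal.subset_span (List.mem_take_iff_getElem.mpr ⟨j, by omega, rfl⟩)))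
      have := hq.1.1
      calc ((j + 1 : ℕ) : ℕ∞) ≤ q.height + 1 := by push_cast; exact add_le_add (ih (by omega) q hq.1.1 hq.1.2) le_rfl
        _ ≤ p.height := by
          exact Ideal.height_add_one_le_of_lt_of_isPrime (lt_of_le_of_ne hqp hne)
  rw [Ideal.height_eq_inf_minimalPrimes]
  exact le_iInf₂ fun p hp => by
    have := hp.1.1
    exact key r le_rfl p hp.1.1 (by rw [List.take_of_length_le (by simp), hof]; exact hp.1.2)

end Groth.Agent.S16235
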