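import Groth.Statements.S16238
import Groth.Agent.CAlg26.TorRegular

set_option autoImplicit false
universe u
open CategoryTheory
open CAlg

namespace Groth.Agent.S16238

/-- Let A be a Noetherian local ring, x_1, …, x_n a regular sequence on A (each x_i a non-zero-divisor
on A/(x_1, …, x_{i-1})) generating the ideal I, and J an ideal with I + J ≠ A. Then the images of
x_1, …, x_n form a regular sequence on A/J if and only if Tor_i^A(A/I, A/J) = 0 for all i ≥ 1 (in
degree 0 the Tor is A/(I + J) in any case). (The published statement does not ask the x_i to form a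
regular sequence on A itself; without this the equivalence fails, for instance for A = k[e]/(e²), n
= 1, x_1 = e and J = 0, where every higher Tor of A/(e) against the free module A vanishes although
e is a zero-divisor.) -/
theorem result (A : Type u) [CommRing A] [IsNoetherianRing A] [IsLocalRing A]
    (n : ℕ) (x : Fin n → A) (hx : RingTheory.Sequence.IsWeaklyRegular A (List.ofFn x))
    (J : Ideal A) (hIJ : Ideal.span (Set.range x) ⊔ J ≠ ⊤) :
    RingTheory.Sequence.IsWeaklyRegular (A ⧸ J) (List.ofFn (fun i : Fin n => Ideal.Quotient.mk J (x i))) ↔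
      ∀ i : ℕ, 1 ≤ i → Limits.IsZero (((Tor (ModuleCat.{u} A) i).obj
        (ModuleCat.of A (A ⧸ Ideal.span (Set.range x)))).obj (ModuleCat.of A (A ⧸ J))) := by
  classical
  have hm : ∀ r ∈ List.ofFn x, r ∈ IsLocalRing.maximalIdeal A := fun r hr => by
    obtain ⟨i, rfl⟩ := List.mem_ofFn.1 hr
    exact IsLocalRing.le_maximalIdeal hIJ (Submodule.mem_sup_left (Ideal.subset_span ⟨i, rfl⟩))
  have hspan : Ideal.ofList (List.ofFn x) = Ideal.span (Set.range x) := by
    rw [Ideal.ofList]; congr 1; ext r; simp [List.mem_ofFn]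
  have h := CAlg26.isWeaklyRegular_iff_tor (A ⧸ J) (List.ofFn x) hm hx
  have hmap : List.ofFn (fun i : Fin n => Ideal.Quotient.mk J (x i)) =
      (List.ofFn x).map (algebraMap A (A ⧸ J)) := by
    rw [List.map_ofFn]; rfl
  rw [hmap, RingTheory.Sequence.isWeaklyRegular_map_algebraMap_iff, h]
  let e : (A ⧸ Ideal.ofList (List.ofFn x)) ≃ₗ[A] A ⧸ Ideal.span (Set.range x) :=
    Submodule.quotEquivOfEq _ _ hspan
  constructor
  · intro hz i hi
    obtain ⟨k, rfl⟩ := Nat.exists_eq_add_of_le' hi
    exact CAlg26.isZero_congr e _ _ ((TorBal94.isZero_tor_iff _ _ _).2 (hz k))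
  · intro hz k
    exact (TorBal94.isZero_tor_iff _ _ _).1
      (CAlg26.isZero_congr e.symm _ _ (hz (k + 1) (by omega)))

end Groth.Agent.S16238
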