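import Groth.Statements.S16240
import Groth.Agent.Syz72.Abstract
import Groth.Agent.Div89.FreeStalks
import Groth.Agent.S0563
import Groth.Agent.QC70.CohOps
import Groth.Agent.Props58.LocFree.Criteria
import Mathlib.Algebra.Category.ModuleCat.Projective

set_option autoImplicit false
universe u
open CategoryTheory CategoryTheory.Limits AlgebraicGeometry
open Coh

namespace Groth.Agent.S16240

open AlgebraicGeometry Limits in
/-- Stalks at a point, as modules over the local ring. -/
noncomputable def stalkMod {X : Scheme.{u}} (x : X) :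
    X.Modules ⥤ ModuleCat.{u} (X.presheaf.stalk x) where
  obj M := ModuleCat.of (X.presheaf.stalk x) (M.presheaf.stalk x)
  map φ := ModuleCat.ofHom (QC70.stalkLinear φ x)
  map_id M := by ext e; exact QC70.stalkMapM_id x e
  map_comp φ ψ := by ext e; exact QC70.stalkMapM_comp φ ψ x e


/-- Let X be a Noetherian scheme all of whose local rings are regular, of (topological Krull) dimension
at most m, and let S be an exact sequence of O_X-modules G ⟶ E_m ⟶ ⋯ ⟶ E_1 ⟶ F with m + 2 terms (G
in position 0, F in position m + 1), injective at the first map and surjective at the last, in which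
F is coherent and E_1, …, E_m are finite locally free. Then G is finite locally free. (The source
asks for p + 1 vector bundles with p ≥ dim X − 1, i.e. at least dim X of them, and finite dimension;
here m bounds the dimension.) -/
theorem result (X : Scheme.{u}) [IsNoetherian X]
    (hreg : ∀ x : X, IsRegularLocalRing (X.presheaf.stalk x)) (m : ℕ)
    (hdim : topologicalKrullDim ↥X ≤ (m : WithBot ℕ∞))
    (S : ComposableArrows X.Modules (m + 1)) (hS : S.Exact)
    (hmono : Mono (S.map' 0 1 (Nat.zero_le 1) (Nat.le_add_left 1 m)))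
    (hepi : Epi (S.map' m (m + 1) (Nat.le_succ m) (le_refl (m + 1))))
    (hE : ∀ i : Fin m, FlatMod.IsFinLocFree (S.obj ⟨i.1 + 1, Nat.succ_lt_succ (Nat.lt_succ_of_lt i.2)⟩))
    (hF : Coh.IsCoh (S.obj (Fin.last (m + 1)))) :
    FlatMod.IsFinLocFree (S.obj 0) := by
  open Limits in
  have hcohE : ∀ (i : ℕ) (_ : 1 ≤ i) (hi : i ≤ m), Coh.IsCoh (S.obj' i) ∧
      FlatMod.IsFinLocFree (S.obj' i) := by
    intro i h1 hi
    obtain ⟨i, rfl⟩ : ∃ k, i = k + 1 := ⟨i - 1, by omega⟩
    have h := hE ⟨i, by omega⟩
    exact ⟨⟨Props58.LocFree.isQuasicoherent_of_isFinLocFree h,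
      Props58.LocFree.isFiniteType_of_isFinLocFree h⟩, h⟩
  have hS0 : Coh.IsCoh (S.obj' 0) := by
    obtain rfl | hm := Nat.eq_zero_or_pos m
    · haveI : IsIso (S.map' 0 1 zero_le_one le_rfl) := isIso_of_mono_of_epi _
      exact QC70.isCoh_of_iso (asIso (S.map' 0 1 zero_le_one le_rfl)).symm hF
    · have h2 : Coh.IsCoh (S.obj' 2) := by
        obtain h | h := Nat.lt_or_ge m 2
        · obtain rfl : m = 1 := by omega
          exact hF
        · exact (hcohE 2 (by omega) h).1
      have hex := hS.exact' 0 1 2 rfl rfl (by omega)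
      haveI : Mono (hS.sc' 0 1 2 rfl rfl (by omega)).f := hmono
      exact QC70.isCoh_of_iso ((kernelIsKernel _).conePointUniqueUpToIso hex.fIsKernel)
        (QC70.isCoh_kernel _ (hcohE 1 le_rfl (by omega)).1 h2.1)
  refine (Div89.isFinLocFree_iff_free_stalks hS0).mpr fun x => ?_
  haveI := hreg x
  haveI := hS0.1
  haveI : (stalkMod x).Additive := ⟨fun {M N φ ψ} => by
    ext e; exact QC70.stalkMapM_add φ ψ x e⟩
  haveI : Projective ((stalkMod x).obj (S.obj' 0)) := by
    refine Syz72.projective_first (S ⋙ stalkMod x) ?_ ?_ ?_ (fun i h1 hi => ?_) ?_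
    · refine { zero := fun i hi => ?_, exact := fun i hi => ?_ }
      · exact ((stalkMod x).map_comp _ _).symm.trans
          ((congrArg (stalkMod x).map (hS.zero i hi)).trans ((stalkMod x).map_zero _ _))
      · have hex := hS.exact i hi
        let T := hS.sc i hi
        change (T.map (stalkMod x)).Exact
        refine (ShortComplex.moduleCat_exact_iff _).mpr fun e he => ?_
        let K : ShortComplex X.Modules := ShortComplex.mk (kernel.ι T.g) T.g (kernel.condition _)
        haveI : Mono K.f := (inferInstance : Mono (kernel.ι T.g))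
        obtain ⟨d, rfl⟩ := QC70.stalkMapM_exact K
          (ShortComplex.exact_of_f_is_kernel _ (kernelIsKernel _)) x e he
        haveI : Epi (kernel.lift T.g T.f T.zero) := hex.epi_kernelLift
        obtain ⟨c, rfl⟩ := QC70.surjective_stalkMapM_of_epi (kernel.lift T.g T.f T.zero) x d
        refine ⟨c, ?_⟩
        change QC70.stalkMapM T.f x c = QC70.stalkMapM (kernel.ι T.g) x _
        rw [← QC70.stalkMapM_comp, kernel.lift_ι]
    · exact (ModuleCat.mono_iff_injective _).mpr
        (QC70.injective_stalkMapM_of_mono (S.map' 0 1 zero_le_one (Nat.le_add_left 1 m)) x)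
    · exact (ModuleCat.epi_iff_surjective _).mpr
        (QC70.surjective_stalkMapM_of_epi (S.map' m (m + 1) (Nat.le_succ m) le_rfl) x)
    · haveI : Module.Free (X.presheaf.stalk x) ((S.obj' i (hi.trans (Nat.le_succ m))).presheaf.stalk x) :=
        Props58.LocFree.free_stalk_of_isFinLocFree (hcohE i h1 hi).2 x
      exact (IsProjective.iff_projective _).mp (inferInstance : Module.Projective (X.presheaf.stalk x) ((S.obj' i (hi.trans (Nat.le_succ m))).presheaf.stalk x))
    · obtain ⟨d, hd⟩ : ∃ d : ℕ, ringKrullDim (X.presheaf.stalk x) = d :=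
        ⟨_, (IsRegularLocalRing.spanFinrank_maximalIdeal (R := X.presheaf.stalk x)).symm⟩
      have hle : d ≤ m := by
        have h := (Props58.ringKrullDim_stalk_le X x).trans hdim
        rw [hd] at h
        exact_mod_cast h
      have h := Groth.Agent.S0563.result _ d hd ((S.obj' (m + 1)).presheaf.stalk x)
      exact @hasProjectiveDimensionLT_of_ge _ _ _ _ (d + 1) (m + 1) (by omega) h
  haveI : Module.Projective (X.presheaf.stalk x) ((S.obj' 0).presheaf.stalk x) :=
    (IsProjective.iff_projective _).mpr ‹Projective ((stalkMod x).obj (S.obj' 0))›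
  haveI : Module.Finite (X.presheaf.stalk x) ((S.obj' 0).presheaf.stalk x) :=
    haveI := hS0.2
    Props58.LocFree.finite_stalk_of_isFiniteType (M := S.obj' 0 (Nat.zero_le _)) x
  exact Module.free_of_flat_of_isLocalRing

end Groth.Agent.S16240
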