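import Groth.Statements.S16243
import Groth.Agent.CAlg6.NodeRes
-- import your own Groth.Agent.* helpers here

set_option autoImplicit false
universe u
open CategoryTheory
open CAlg

namespace Groth.Agent.S16243

/-- Let k be a field, A = k[x, y]/(xy) (x = X_0, y = X_1) and κ = A/(x, y) the residue field at the
origin, viewed as an A-module. Then for every i ≥ 1 the A-module Tor_i^A(κ, κ) has length 2 (it is a
two-dimensional κ-vector space; Tor_0 is κ), and κ admits no finite projective resolution over A: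
for no n is its projective dimension less than n. -/
theorem result (k : Type u) [Field k] :
    (∀ i : ℕ, 1 ≤ i →
      Module.length (MvPolynomial (Fin 2) k ⧸ Ideal.span {(MvPolynomial.X 0 * MvPolynomial.X 1 : MvPolynomial (Fin 2) k)}) ((((Tor (ModuleCat.{u} (MvPolynomial (Fin 2) k ⧸ Ideal.span {(MvPolynomial.X 0 * MvPolynomial.X 1 : MvPolynomial (Fin 2) k)})) i).obj (ModuleCat.of (MvPolynomial (Fin 2) k ⧸ Ideal.span {(MvPolynomial.X 0 * MvPolynomial.X 1 : MvPolynomial (Fin 2) k)}) ((MvPolynomial (Fin 2) k ⧸ Ideal.span {(MvPolynomial.X 0 * MvPolynomial.X 1 : MvPolynomial (Fin 2) k)}) ⧸ Ideal.span {Ideal.Quotient.mk (Ideal.span {(MvPolynomial.X 0 * MvPolynomial.X 1 : MvPolynomial (Fin 2) k)}) (MvPolynomial.X 0), Ideal.Quotient.mk (Ideal.span {(MvPolynomial.X 0 * MvPolynomial.X 1 : MvPolynomial (Fin 2) k)}) (MvPolynomial.X 1)}))).obj (ModuleCat.of (MvPolynomial (Fin 2) k ⧸ Ideal.span {(MvPolynomial.X 0 * MvPolynomial.X 1 : MvPolynomial (Fin 2) k)}) ((MvPolynomial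 (Fin 2) k ⧸ Ideal.span {(MvPolynomial.X 0 * MvPolynomial.X 1 : MvPolynomial (Fin 2) k)}) ⧸ Ideal.span {Ideal.Quotient.mk (Ideal.span {(MvPolynomial.X 0 * MvPolynomial.X 1 : MvPolynomial (Fin 2) k)}) (MvPolynomial.X 0), Ideal.Quotient.mk (Ideal.span {(MvPolynomial.X 0 * MvPolynomial.X 1 : MvPolynomial (Fin 2) k)}) (MvPolynomial.X 1)}))) : Type u) = 2) ∧
    ∀ n : ℕ, ¬ HasProjectiveDimensionLT (ModuleCat.of (MvPolynomial (Fin 2) k ⧸ Ideal.span {(MvPolynomial.X 0 * MvPolynomial.X 1 : MvPolynomial (Fin 2) k)}) ((MvPolynomial (Fin 2) k ⧸ Ideal.span {(MvPolynomial.X 0 * MvPolynomial.X 1 : MvPolynomial (Fin 2) k)}) ⧸ Ideal.span {Ideal.Quotient.mk (Ideal.span {(MvPolynomial.X 0 * MvPolynomial.X 1 : MvPolynomial (Fin 2) k)}) (MvPolynomial.X 0), Ideal.Quotient.mk (Ideal.span {(MvPolynomial.X 0 * MvPolynomial.X 1 : MvPolynomial (Fin 2) k)}) (MvPolynomial.X 1)})) n := by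
  set P := MvPolynomial (Fin 2) k
  set X : P := MvPolynomial.X 0 with hX
  set Y : P := MvPolynomial.X 1 with hY
  set q := Ideal.Quotient.mk (Ideal.span {X * Y})
  have hYX : ¬ Y ∣ X := fun h => by
    have := map_dvd (MvPolynomial.eval (![1, 0] : Fin 2 → k)) h
    simp [X, Y] at this
  have hXY : ¬ X ∣ Y := fun h => by
    have := map_dvd (MvPolynomial.eval (![0, 1] : Fin 2 → k)) h
    simp [X, Y] at this
  have hXp : Prime X := MvPolynomial.X_prime
  have hYp : Prime Y := MvPolynomial.X_prime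
  have hz : ∀ p : P, q p = 0 ↔ X * Y ∣ p := fun p => by
    rw [Ideal.Quotient.eq_zero_iff_mem, Ideal.mem_span_singleton]
  have hxy : ∀ a b, q X * a + q Y * b = 0 → q Y ∣ a ∧ q X ∣ b := by
    intro a b h
    obtain ⟨a, rfl⟩ := Ideal.Quotient.mk_surjective a
    obtain ⟨b, rfl⟩ := Ideal.Quotient.mk_surjective b
    rw [← map_mul, ← map_mul, ← map_add, hz] at h
    refine ⟨map_dvd q ((hYp.dvd_or_dvd ?_).resolve_left hYX), map_dvd q ((hXp.dvd_or_dvd ?_).resolve_left hXY)⟩
    · exact (dvd_add_left (dvd_mul_right Y b)).1 ((dvd_mul_left Y X).trans h)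
    · exact (dvd_add_right (dvd_mul_right X a)).1 ((dvd_mul_right X Y).trans h)
  have h0 : q X * q Y = 0 := by rw [← map_mul, hz]
  have hx : ∀ a, q X * a = 0 ↔ q Y ∣ a := fun a =>
    ⟨fun h => (hxy a 0 (by rw [h, mul_zero, add_zero])).1,
      fun ⟨c, hc⟩ => by rw [hc, ← mul_assoc, h0, zero_mul]⟩
  have hy : ∀ a, q Y * a = 0 ↔ q X ∣ a := fun a =>
    ⟨fun h => (hxy 0 a (by rw [h, mul_zero, add_zero])).2,
      fun ⟨c, hc⟩ => by rw [hc, ← mul_assoc, mul_comm (q Y), h0, zero_mul]⟩
  haveI : (Ideal.span {q X, q Y}).IsMaximal := by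
    have h1 : Ideal.span ({X, Y} : Set P) =
        RingHom.ker (MvPolynomial.constantCoeff (σ := Fin 2) (R := k)) := by
      have h2 : ({X, Y} : Set P) = MvPolynomial.X '' (Set.univ : Set (Fin 2)) := by
        ext p
        simp [X, Y, Fin.exists_fin_two, eq_comm]
      rw [h2]
      ext p
      rw [MvPolynomial.mem_ideal_span_X_image, RingHom.mem_ker, MvPolynomial.constantCoeff_eq]
      constructor
      · intro h
        by_contra hne
        obtain ⟨i, -, hi⟩ := h 0 (MvPolynomial.mem_support_iff.2 hne)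
        exact hi rfl
      · intro h m hm
        obtain ⟨i, hi⟩ : ∃ i, m i ≠ 0 := by
          by_contra hne
          push Not at hne
          rw [show m = 0 from Finsupp.ext hne] at hm
          exact MvPolynomial.mem_support_iff.1 hm h
        exact ⟨i, trivial, hi⟩
    have h3 : (Ideal.span ({X, Y} : Set P)).IsMaximal := by
      rw [h1]
      exact RingHom.ker_isMaximal_of_surjective _ fun c =>
        ⟨MvPolynomial.C c, MvPolynomial.constantCoeff_C _ c⟩
    have h4 : Ideal.span {q X, q Y} = (Ideal.span ({X, Y} : Set P)).map q := by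
      rw [Ideal.map_span, Set.image_insert_eq, Set.image_singleton]
    rw [h4]
    refine (Ideal.map_eq_top_or_isMaximal_of_surjective q Ideal.Quotient.mk_surjective h3).resolve_left fun h5 => ?_
    have h6 := congrArg (Ideal.comap q) h5
    rw [Ideal.comap_map_of_surjective q Ideal.Quotient.mk_surjective, Ideal.comap_top, sup_eq_left.2] at h6
    · exact h3.ne_top h6
    · intro p hp
      rw [Ideal.mem_comap, Ideal.mem_bot, hz] at hp
      obtain ⟨c, rfl⟩ := hp
      exact Ideal.mul_mem_right _ _ (Ideal.mul_mem_right _ _ (Ideal.subset_span (by simp)))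
  exact ⟨fun i hi => CAlg6.NodeRes.length_tor hx hy hxy i hi,
    fun n => CAlg6.NodeRes.not_hasPD hx hy hxy n⟩

end Groth.Agent.S16243
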