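import Groth.Statements.S16244
import Mathlib.Tactic
import Mathlib.RingTheory.RootsOfUnity.AlgebraicallyClosed

set_option autoImplicit false
universe u
open Curves

namespace Groth.Agent.S16244

/-- Let k be an algebraically closed field in which 2 and 3 are nonzero, and W a short Weierstrass
equation y² = x³ + a₄x + a₆ over k with nonzero discriminant. The admissible changes of variables
(u, r, s, t) that fix W form a cyclic group, of order 6 when a₄ = 0, of order 4 when a₆ = 0, and of
order 2 when a₄ and a₆ are both nonzero. (The published statement says the automorphism group of the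
elliptic curve is cyclic of order 2, 4 or 6; the automorphisms are rendered here as the changes of
variables preserving the equation, and the case distinction is the one the computation gives.) -/
theorem result
    (k : Type u) [Field k] [IsAlgClosed k] (h2 : (2 : k) ≠ 0) (h3 : (3 : k) ≠ 0)
    (W : WeierstrassCurve k) [W.IsShortNF] (hΔ : W.Δ ≠ 0) :
    IsCyclic ↥(MulAction.stabilizer (WeierstrassCurve.VariableChange k) W) ∧
      (W.a₄ = 0 → Nat.card ↥(MulAction.stabilizer (WeierstrassCurve.VariableChange k) W) = 6) ∧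
      (W.a₆ = 0 → Nat.card ↥(MulAction.stabilizer (WeierstrassCurve.VariableChange k) W) = 4) ∧
      (W.a₄ ≠ 0 → W.a₆ ≠ 0 → Nat.card ↥(MulAction.stabilizer (WeierstrassCurve.VariableChange k) W) = 2) := by
  classical
  let n : ℕ := if W.a₄ = 0 then 6 else if W.a₆ = 0 then 4 else 2
  have hn0 : n ≠ 0 := by unfold n; split_ifs <;> norm_num
  haveI : NeZero n := ⟨hn0⟩
  have hn : (n : k) ≠ 0 := by
    have h6 : (6 : k) ≠ 0 := by rw [show (6:k) = 2 * 3 by norm_num]; exact mul_ne_zero h2 h3
    have h4 : (4 : k) ≠ 0 := by rw [show (4:k) = 2 * 2 by norm_num]; exact mul_ne_zero h2 h2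
    unfold n; split_ifs <;> simpa
  haveI : NeZero (n : k) := ⟨hn⟩
  have hnot : W.a₄ = 0 → W.a₆ ≠ 0 := by
    intro h4 h6; apply hΔ; simp [h4, h6]
  have hn' : ∀ u : kˣ, u ^ n = 1 ↔ ((u:k) ^ 4 * W.a₄ = W.a₄ ∧ (u:k) ^ 6 * W.a₆ = W.a₆) := by
    intro u
    rw [← Units.val_eq_one, Units.val_pow_eq_pow_val]
    unfold n
    split_ifs with a b
    · simp [a, hnot a]
    · simp [b, a]
    · constructor
      · intro h
        have q4 : (u:k) ^ 4 = 1 := by linear_combination ((u:k)^2 + 1) * h
        have q6 : (u:k) ^ 6 = 1 := by linear_combination ((u:k)^4 + (u:k)^2 + 1) * h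
        simp [q4, q6]
      · rintro ⟨p4, p6⟩
        have q4 : (u:k) ^ 4 = 1 := mul_right_cancel₀ a (by simpa using p4)
        have q6 : (u:k) ^ 6 = 1 := mul_right_cancel₀ b (by simpa using p6)
        linear_combination q6 - (u:k)^2 * q4
  have hinv : ∀ (u : kˣ) (x : k) (i : ℕ), ((u⁻¹ : kˣ) : k) ^ i * x = x ↔ (u:k) ^ i * x = x := by
    intro u x i
    constructor <;> intro h
    · nth_rewrite 1 [← h]; rw [← mul_assoc, ← mul_pow]; simp
    · nth_rewrite 1 [← h]; rw [← mul_assoc, ← mul_pow]; simp
  have mem : ∀ C : WeierstrassCurve.VariableChange k,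
      C ∈ MulAction.stabilizer (WeierstrassCurve.VariableChange k) W ↔
        C.r = 0 ∧ C.s = 0 ∧ C.t = 0 ∧ C.u ^ n = 1 := by
    intro C
    rw [MulAction.mem_stabilizer_iff, WeierstrassCurve.ext_iff]
    simp only [WeierstrassCurve.variableChange_a₁, WeierstrassCurve.variableChange_a₂,
      WeierstrassCurve.variableChange_a₃, WeierstrassCurve.variableChange_a₄,
      WeierstrassCurve.variableChange_a₆, WeierstrassCurve.a₁_of_isShortNF,
      WeierstrassCurve.a₂_of_isShortNF, WeierstrassCurve.a₃_of_isShortNF]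
    constructor
    · rintro ⟨q1, q2, q3, q4, q6⟩
      have hs : C.s = 0 := by simpa [h2] using q1
      have hr : C.r = 0 := by simpa [hs, h3] using q2
      have ht : C.t = 0 := by simpa [hr, h2] using q3
      refine ⟨hr, hs, ht, (hn' _).mpr ⟨(hinv _ _ _).mp ?_, (hinv _ _ _).mp ?_⟩⟩
      · simpa [hr, hs, ht] using q4
      · simpa [hr, hs, ht] using q6
    · rintro ⟨hr, hs, ht, hu⟩
      have hu' := (hn' _).mp hu
      refine ⟨?_, ?_, ?_, ?_, ?_⟩ <;> simp [hr, hs, ht]
      · simpa using (hinv _ _ _).mpr hu'.1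
      · simpa using (hinv _ _ _).mpr hu'.2
  let e : ↥(MulAction.stabilizer (WeierstrassCurve.VariableChange k) W) ≃* ↥(rootsOfUnity n k) :=
    { toFun := fun C => ⟨C.1.u, ((mem C.1).mp C.2).2.2.2⟩
      invFun := fun u => ⟨⟨u.1, 0, 0, 0⟩, (mem _).mpr ⟨rfl, rfl, rfl, u.2⟩⟩
      left_inv := fun C => by
        obtain ⟨hr, hs, ht, -⟩ := (mem C.1).mp C.2
        apply Subtype.ext
        apply WeierstrassCurve.VariableChange.ext <;> simp [hr, hs, ht]
      right_inv := fun u => rfl
      map_mul' := fun C D => rfl }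
  have hcard : Nat.card ↥(MulAction.stabilizer (WeierstrassCurve.VariableChange k) W) = n := by
    rw [Nat.card_congr e.toEquiv]
    exact HasEnoughRootsOfUnity.natCard_rootsOfUnity k n
  refine ⟨isCyclic_of_surjective e.symm e.symm.surjective, ?_, ?_, ?_⟩
  · intro a; rw [hcard]; simp [n, a]
  · intro b
    have : W.a₄ ≠ 0 := fun a => hnot a b
    rw [hcard]; simp [n, this, b]
  · intro a b; rw [hcard]; simp [n, a, b]

end Groth.Agent.S16244
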