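import Groth.Statements.S16245
import Groth.Agent.SGA3a.WeilRes
import Groth.Agent.RedPts82.FinTransporter

set_option autoImplicit false
universe u
open CategoryTheory CategoryTheory.Limits AlgebraicGeometry
open SDiv

namespace Groth.Agent.S16245


/-- A morphism lifts through a closed immersion iff the inverse image of its ideal vanishes. -/
theorem exists_lift_iff {X Z W : Scheme.{u}} (i : Z ⟶ X) [IsClosedImmersion i] (a : W ⟶ X) :
    (∃ l : W ⟶ Z, l ≫ i = a) ↔ i.ker.comap a = ⊥ := by
  rw [← le_bot_iff, ← Scheme.IdealSheafData.le_map_iff_comap_le, Scheme.IdealSheafData.map_bot]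
  refine ⟨?_, fun h => ⟨IsClosedImmersion.lift i a h, IsClosedImmersion.lift_fac i a h⟩⟩
  rintro ⟨l, rfl⟩
  exact Scheme.Hom.le_ker_comp l i

/-- Let f : X → S be a morphism of schemes, D ⊆ X an effective Cartier divisor with ideal sheaf 𝓘, and
D' ⊆ X a closed subscheme with ideal sheaf 𝓘' such that D' → S is finite, flat and locally of finite
presentation (finite locally free). Then there is a closed subscheme Z ⊆ S such that a morphism g :
T → S factors through Z exactly when, on X ×_S T, the inverse image ideal of 𝓘 is contained in the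
inverse image ideal of 𝓘', that is, the pull-back of D' is a closed subscheme of the pull-back of D.
This universal property determines Z, and compatibility of Z with base change follows from it. (In
the source X is a family of elliptic curves and D, D' are relative effective Cartier divisors, D'
then being finite locally free over S; the argument uses only the hypotheses stated here.) -/
theorem result
    {X S : Scheme.{u}} (f : X ⟶ S) (𝓘 𝓘' : X.IdealSheafData) (hD : BlowUp.IsEffCartierIdeal 𝓘)
    [IsFinite (𝓘'.subschemeι ≫ f)] [Flat (𝓘'.subschemeι ≫ f)]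
    [LocallyOfFinitePresentation (𝓘'.subschemeι ≫ f)] :
    ∃ 𝓩 : S.IdealSheafData, ∀ (T : Scheme.{u}) (g : T ⟶ S),
      (∃ t : T ⟶ 𝓩.subscheme, t ≫ 𝓩.subschemeι = g) ↔
        𝓘.comap (pullback.fst f g) ≤ 𝓘'.comap (pullback.fst f g) := by
  let ι' := 𝓘'.subschemeι
  let J := 𝓘.comap ι'
  obtain ⟨Z, t, ht, hZ, -⟩ := Groth.Agent.SGA3a.exists_closed_weilRestriction (f := ι' ≫ f) (j := J.subschemeι)
    (Groth.Agent.RedPts82.isEssentiallyFree_of_finite_flat (ι' ≫ f))
  refine ⟨t.ker, fun T g => ?_⟩
  have h1 : (∃ s : T ⟶ t.ker.subscheme, s ≫ t.ker.subschemeι = g) ↔ ∃ s : T ⟶ Z, s ≫ t = g := by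
    rw [exists_lift_iff, exists_lift_iff, Scheme.IdealSheafData.ker_subschemeι]
  rw [h1, hZ T g]
  refine ⟨fun h => ?_, fun h W a b w => ?_⟩
  · let p := pullback.fst f g
    let W := (𝓘'.comap p)
    obtain ⟨a, ha⟩ := (exists_lift_iff ι' (W.subschemeι ≫ p)).mpr (by
      rw [Scheme.IdealSheafData.ker_subschemeι, Scheme.IdealSheafData.comap_comp,
        ← le_bot_iff, ← Scheme.IdealSheafData.le_map_iff_comap_le, Scheme.IdealSheafData.map_bot,
        Scheme.IdealSheafData.ker_subschemeι])
    have h2 := (exists_lift_iff J.subschemeι a).mp (h _ a (W.subschemeι ≫ pullback.snd f g) (by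
      rw [← Category.assoc, ha, Category.assoc, Category.assoc, pullback.condition]))
    rw [Scheme.IdealSheafData.ker_subschemeι, ← Scheme.IdealSheafData.comap_comp, ha,
      Scheme.IdealSheafData.comap_comp, ← le_bot_iff, ← Scheme.IdealSheafData.le_map_iff_comap_le,
      Scheme.IdealSheafData.map_bot, Scheme.IdealSheafData.ker_subschemeι] at h2
    exact h2
  · refine (exists_lift_iff J.subschemeι a).mpr ?_
    let l := pullback.lift (a ≫ ι') b (by rw [Category.assoc, w])
    have hl : l ≫ pullback.fst f g = a ≫ ι' := pullback.lift_fst _ _ _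
    have h3 : 𝓘'.comap (a ≫ ι') = ⊥ := by
      have := (exists_lift_iff ι' (a ≫ ι')).mp ⟨a, rfl⟩
      rwa [Scheme.IdealSheafData.ker_subschemeι] at this
    rw [Scheme.IdealSheafData.ker_subschemeι, ← Scheme.IdealSheafData.comap_comp, ← le_bot_iff, ← hl,
      Scheme.IdealSheafData.comap_comp]
    calc (𝓘.comap (pullback.fst f g)).comap l ≤ (𝓘'.comap (pullback.fst f g)).comap l :=
          Scheme.IdealSheafData.comap_mono l h
      _ = ⊥ := by rw [← Scheme.IdealSheafData.comap_comp, hl, h3]

end Groth.Agent.S16245
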