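import Groth.Statements.S1625
import Groth.Agent.Curves2.Completion

set_option autoImplicit false
universe u
open CategoryTheory CategoryTheory.Limits AlgebraicGeometry
open Variety

namespace Groth.Agent.S1625

/-- Let X be separated of finite type over k with dim X ≤ 1. Then there are a closed subscheme Y of some
projective space P^d_k and an open immersion j : X → Y over k whose image is dense and
scheme-theoretically dense and whose complement is a finite set of closed points. -/
theorem result (k : Type u) [Field k] (X : Scheme.{u}) [X.Over (Spec (CommRingCat.of k))] [IsSeparated (X ↘ (Spec (CommRingCat.of k)))] [LocallyOfFiniteType (X ↘ (Spec (CommRingCat.of k)))] [QuasiCompact (X ↘ (Spec (CommRingCat.of k)))] (hdim : topologicalKrullDim X ≤ 1) :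
    ∃ (d : ℕ) (Y : Scheme.{u}) (c : Y ⟶ CohB1.ProjSpace d k) (j : X ⟶ Y), IsClosedImmersion c ∧ IsOpenImmersion j ∧
      j ≫ c ≫ CohB1.ProjSpace.toSpec d k = X ↘ (Spec (CommRingCat.of k)) ∧ Dense (Set.range j.base) ∧ IsSchemeTheoreticallyDominant j ∧
      (Set.range j.base)ᶜ.Finite ∧ ∀ y ∈ (Set.range j.base)ᶜ, IsClosed ({y} : Set Y) := by
  have : IsLocallyNoetherian X := LocallyOfFiniteType.isLocallyNoetherian (X ↘ Spec (CommRingCat.of k))
  have : CompactSpace X := QuasiCompact.compactSpace_of_compactSpace (X ↘ Spec (CommRingCat.of k))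
  have : IsNoetherian X := {}
  obtain ⟨d, φ, hφ, hφk⟩ := Groth.Agent.Curves2.exists_immersion_projSpace k X hdim
  have : IsProper (CohB1.ProjSpace.toSpec d k) := Groth.Agent.Curves2.ProjLine.isProper_toSpec k d
  have : IsLocallyNoetherian (CohB1.ProjSpace d k) :=
    LocallyOfFiniteType.isLocallyNoetherian (CohB1.ProjSpace.toSpec d k)
  have : CompactSpace (CohB1.ProjSpace d k) :=
    QuasiCompact.compactSpace_of_compactSpace (CohB1.ProjSpace.toSpec d k)
  have : QuasiCompact φ := quasiCompact_of_noetherianSpace_source φ
  have : IsLocallyNoetherian φ.image := LocallyOfFiniteType.isLocallyNoetherian φ.imageι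
  have : CompactSpace φ.image := QuasiCompact.compactSpace_of_compactSpace φ.imageι
  have : AlgebraicGeometry.IsNoetherian φ.image := {}
  have hd : Dense (Set.range φ.toImage.base) := (inferInstance : IsDominant φ.toImage).denseRange
  obtain ⟨hfin, hcl⟩ := Groth.Agent.Curves2.finite_compl_of_dense k
    (φ.imageι ≫ CohB1.ProjSpace.toSpec d k) φ.toImage hd hdim
  exact ⟨d, φ.image, φ.imageι, φ.toImage, inferInstanceAs (IsClosedImmersion φ.imageι), inferInstance,
    by rw [Scheme.Hom.toImage_imageι_assoc, hφk], hd,
    Groth.Agent.Curves2.isSchemeTheoreticallyDominant_toImage φ, hfin, hcl⟩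

end Groth.Agent.S1625
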