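import Groth.Statements.S16254
import Mathlib

set_option autoImplicit false
universe u
open scoped BigOperators
open LefPen

noncomputable section
namespace Groth.Agent.S16254.AuxS54
open MvPolynomial
theorem result (A : Type*) [CommRing A] (N s : ℕ) (m : Fin s → (Fin (N + 1) → A))
    (hli : LinearIndependent A m)
    (hproj : Module.Projective A ((Fin (N + 1) → A) ⧸ Submodule.span A (Set.range m))) :
    RingHom.ker (MvPolynomial.aeval (R := A) (S₁ := MvPolynomial (Fin s) A)
        (fun j : Fin (N + 1) => ∑ i : Fin s, MvPolynomial.C (m i j) * MvPolynomial.X i)) =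
      Ideal.span (Set.range fun c : Fin (s + 1) → Fin (N + 1) =>
        (Matrix.of fun (i : Fin (s + 1)) (j : Fin (s + 1)) =>
          (Fin.snoc (α := fun _ => MvPolynomial (Fin (N + 1)) A)
            (fun i' : Fin s => MvPolynomial.C (m i' (c j))) (MvPolynomial.X (c j)) i)).det) := by
  classical
  set ψ := MvPolynomial.aeval (R := A) (S₁ := MvPolynomial (Fin s) A)
        (fun j : Fin (N + 1) => ∑ i : Fin s, MvPolynomial.C (m i j) * MvPolynomial.X i)
  let minor : (Fin (s + 1) → Fin (N + 1)) → MvPolynomial (Fin (N + 1)) A := fun c =>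
    (Matrix.of fun (i : Fin (s + 1)) (j : Fin (s + 1)) =>
          (Fin.snoc (α := fun _ => MvPolynomial (Fin (N + 1)) A)
            (fun i' : Fin s => MvPolynomial.C (m i' (c j))) (MvPolynomial.X (c j)) i)).det
  -- left inverse of m
  let M := Submodule.span A (Set.range m)
  obtain ⟨sec, hsec⟩ := Module.projective_lifting_property M.mkQ LinearMap.id M.mkQ_surjective
  let π : (Fin (N + 1) → A) →ₗ[A] M := LinearMap.codRestrict M (LinearMap.id - sec ∘ₗ M.mkQ) (fun x => by
    have := LinearMap.congr_fun hsec (M.mkQ x)
    rw [← Submodule.Quotient.mk_eq_zero]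
    simp only [LinearMap.comp_apply, LinearMap.id_apply] at this
    simp only [LinearMap.sub_apply, LinearMap.id_apply, LinearMap.comp_apply, Submodule.Quotient.mk_sub]
    rw [show Submodule.Quotient.mk (sec (M.mkQ x)) = M.mkQ x from this]; simp)
  let b := Module.Basis.span hli
  let L : Fin s → Fin (N + 1) → A := fun i j => b.repr (π (Pi.single j 1)) i
  have hL : ∀ i i' : Fin s, ∑ j, m i' j * L i j = if i' = i then 1 else 0 := by
    intro i i'
    have h1 : π (m i') = b i' := by
      apply Subtype.ext
      show m i' - sec (M.mkQ (m i')) = _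
      rw [show M.mkQ (m i') = 0 from (Submodule.Quotient.mk_eq_zero _).2 (Submodule.subset_span ⟨i', rfl⟩), map_zero, sub_zero]
      exact congrArg Subtype.val (Module.Basis.span_apply hli i').symm
    have h2 : ∑ j, m i' j * L i j = b.repr (π (m i')) i := by
      conv_rhs => rw [pi_eq_sum_univ' (m i')]
      simp [L, map_sum, map_smul, Finsupp.finsetSum_apply]
    rw [h2, h1, b.repr_self, Finsupp.single_apply]
  let B : Fin (N + 1) → MvPolynomial (Fin (N + 1)) A :=
    fun j => X j - ∑ i, C (m i j) * ∑ k, C (L i k) * X k
  have hB : ∀ j, B j ∈ Ideal.span (Set.range minor) := by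
    intro j
    let W : Fin (s + 1) → Fin (N + 1) → MvPolynomial (Fin (N + 1)) A :=
      fun q => Fin.snoc (α := fun _ => Fin (N + 1) → MvPolynomial (Fin (N + 1)) A) (fun i k => C (L i k)) (Pi.single j 1) q
    let row : Fin (s + 1) → Fin (N + 1) → MvPolynomial (Fin (N + 1)) A := fun i k =>
      Fin.snoc (α := fun _ => MvPolynomial (Fin (N + 1)) A) (fun i' : Fin s => C (m i' k)) (X k) i
    have hexp : (Matrix.of fun (i q : Fin (s + 1)) => ∑ k, W q k * row i k).det =
        ∑ c : Fin (s + 1) → Fin (N + 1), (∏ q, W q (c q)) * minor c := by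
      have e : ∀ c : Fin (s + 1) → Fin (N + 1), minor c = Matrix.detRowAlternating (fun q i => row i (c q)) := fun c => by
        show _ = Matrix.det (Matrix.of fun q i => row i (c q))
        rw [← Matrix.det_transpose]; rfl
      rw [← Matrix.det_transpose]
      show Matrix.detRowAlternating (fun q i => ∑ k, W q k * row i k) = _
      have : (fun q i => ∑ k, W q k * row i k) = fun q => ∑ k, W q k • (fun i => row i k) := by
        funext q i; simp [Finset.sum_apply]
      rw [this, ← AlternatingMap.coe_multilinearMap, MultilinearMap.map_sum]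
      refine Finset.sum_congr rfl fun c _ => ?_
      rw [MultilinearMap.map_smul_univ, e c, smul_eq_mul]; rfl
    have hval : (Matrix.of fun (i q : Fin (s + 1)) => ∑ k, W q k * row i k).det = B j := by
      rw [← Matrix.det_submatrix_equiv_self finSumFinEquiv]
      rw [show (Matrix.of fun (i q : Fin (s + 1)) => ∑ k, W q k * row i k).submatrix finSumFinEquiv finSumFinEquiv =
          Matrix.fromBlocks 1 (Matrix.of fun i (_ : Fin 1) => C (m i j)) (Matrix.of fun (_ : Fin 1) i => ∑ k, C (L i k) * X k)
            (Matrix.of fun (_ _ : Fin 1) => X j) from ?_]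
      · rw [Matrix.det_fromBlocks_one₁₁, Matrix.det_fin_one]
        simp [B, Matrix.mul_apply, mul_comm]
      · have ecast : ∀ i : Fin s, (Fin.castAdd 1 i : Fin (s + 1)) = i.castSucc := fun i => rfl
        have elast : ∀ q : Fin 1, (Fin.natAdd s q : Fin (s + 1)) = Fin.last s := fun q => by ext; simp
        ext (i | i) (q | q)
        · simp only [Matrix.submatrix_apply, finSumFinEquiv_apply_left, Matrix.of_apply, Matrix.fromBlocks_apply₁₁, ecast, W, row, Fin.snoc_castSucc]
          rw [show (∑ k, C (L q k) * C (m i k)) = C (∑ k, m i k * L q k) by rw [map_sum]; simp [mul_comm]]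
          rw [hL q i, Matrix.one_apply]; split_ifs <;> simp
        · simp only [Matrix.submatrix_apply, finSumFinEquiv_apply_left, finSumFinEquiv_apply_right, Matrix.of_apply, Matrix.fromBlocks_apply₁₂, ecast, elast, W, row, Fin.snoc_castSucc, Fin.snoc_last]
          simp [Pi.single_apply]
        · simp only [Matrix.submatrix_apply, finSumFinEquiv_apply_left, finSumFinEquiv_apply_right, Matrix.of_apply, Matrix.fromBlocks_apply₂₁, ecast, elast, W, row, Fin.snoc_castSucc, Fin.snoc_last]
        · simp only [Matrix.submatrix_apply, finSumFinEquiv_apply_right, Matrix.of_apply, Matrix.fromBlocks_apply₂₂, elast, W, row, Fin.snoc_last]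
          simp [Pi.single_apply]
    rw [← hval, hexp]
    exact Ideal.sum_mem _ fun c _ => Ideal.mul_mem_left _ _ (Ideal.subset_span ⟨c, rfl⟩)
  apply le_antisymm
  · intro P hP
    let θ : MvPolynomial (Fin s) A →ₐ[A] MvPolynomial (Fin (N + 1)) A := aeval fun i => ∑ k, C (L i k) * X k
    let J := Ideal.span (Set.range minor)
    have hcomp : (Ideal.Quotient.mkₐ A J).comp (θ.comp ψ) = Ideal.Quotient.mkₐ A J := by
      apply MvPolynomial.algHom_ext
      intro j
      simp only [AlgHom.comp_apply, Ideal.Quotient.mkₐ_eq_mk, ψ, aeval_X, map_sum, map_mul, θ, aeval_C]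
      rw [Ideal.Quotient.eq.2 (show X j - _ ∈ J from hB j)]
      simp [map_sum]
    have := DFunLike.congr_fun hcomp P
    simp only [AlgHom.comp_apply, show ψ P = 0 from hP, map_zero] at this
    exact Ideal.Quotient.eq_zero_iff_mem.1 this.symm
  · rw [Ideal.span_le]
    rintro _ ⟨c, rfl⟩
    show ψ _ = 0
    rw [AlgHom.map_det]
    let M' := ψ.mapMatrix (Matrix.of fun (i : Fin (s + 1)) (j : Fin (s + 1)) =>
          (Fin.snoc (α := fun _ => MvPolynomial (Fin (N + 1)) A)
            (fun i' : Fin s => MvPolynomial.C (m i' (c j))) (MvPolynomial.X (c j)) i))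
    show M'.det = 0
    let w : Fin (s + 1) → MvPolynomial (Fin s) A := Fin.snoc (fun i => X i) 0
    have hrow : M' (Fin.last s) = ∑ k, w k • M' k := by
      funext q
      simp [M', ψ, Fin.sum_univ_castSucc, w, mul_comm]
    have := M'.det_updateRow_sum (Fin.last s) w
    rw [← hrow, Matrix.updateRow_eq_self] at this
    rw [this]; simp [w]
end Groth.Agent.S16254.AuxS54

end

namespace Groth.Agent.S16254

/-- Let A be a commutative ring and m_1, …, m_s ∈ A^(N+1) linearly independent vectors whose span M has
projective (that is, locally free) quotient A^(N+1)/M. Write a_0, …, a_N for the coordinate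
functions, so that restricting linear forms to M and expressing them in the basis dual to the m_i
gives the A-algebra map A[a_0, …, a_N] ⟶ A[y_1, …, y_s], a_j ↦ Σ_i (m_i)_j y_i (the map
Sym((A^(N+1))^∨) ⟶ Sym(M^∨)). Its kernel is the ideal generated by the (s+1) × (s+1) minors of the
(s+1) × (N+1) matrix whose first s rows are the coordinate rows of m_1, …, m_s and whose last row is
(a_0, …, a_N). The minors are indexed here by all maps c from Fin (s+1) to Fin (N+1) choosing the
columns (non-injective choices give zero). -/
theorem result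
    (A : Type u) [CommRing A] (N s : ℕ) (m : Fin s → (Fin (N + 1) → A))
    (hli : LinearIndependent A m)
    (hproj : Module.Projective A ((Fin (N + 1) → A) ⧸ Submodule.span A (Set.range m))) :
    RingHom.ker (MvPolynomial.aeval (R := A) (S₁ := MvPolynomial (Fin s) A)
        (fun j : Fin (N + 1) => ∑ i : Fin s, MvPolynomial.C (m i j) * MvPolynomial.X i)) =
      Ideal.span (Set.range fun c : Fin (s + 1) → Fin (N + 1) =>
        (Matrix.of fun (i : Fin (s + 1)) (j : Fin (s + 1)) =>
          (Fin.snoc (α := fun _ => MvPolynomial (Fin (N + 1)) A)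
            (fun i' : Fin s => MvPolynomial.C (m i' (c j))) (MvPolynomial.X (c j)) i)).det) := by
  exact AuxS54.result A N s m hli hproj

end Groth.Agent.S16254
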