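import Groth.Statements.S16259
import Groth.Agent.Wronsk52.Basic

set_option autoImplicit false
open W4c3wronskmg

namespace Groth.Agent.S16259

open Polynomial in
/-- Over a field of characteristic zero, for positive integers `i, j` and a natural number `n`, the
polynomial `h(W) = ∑_{l=0}^{n} (i choose l) (j choose (n-l)) W^(n-l)`, the coefficient of
`X^(i+j-n)` in `(X+1)^i (X+W)^j`, has no multiple root other than possibly `0` and `1`: every `c ≠
0, 1` has root multiplicity at most one. -/
theorem result
    (k : Type*) [Field k] [CharZero k] (i j n : ℕ) (hi : 0 < i) (hj : 0 < j) (c : k) (hc0 : c ≠ 0) (hc1 : c ≠ 1) :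
    Polynomial.rootMultiplicity c
      (∑ l ∈ Finset.range (n + 1),
        Polynomial.C (((i.choose l) * (j.choose (n - l)) : ℕ) : k) * Polynomial.X ^ (n - l)) ≤ 1 := by
  set q : ℕ → k := fun s => if s ≤ n then (((i.choose (n - s)) * (j.choose s) : ℕ) : k) else 0 with hqdef
  set Q := ∑ l ∈ Finset.range (n + 1),
        Polynomial.C (((i.choose l) * (j.choose (n - l)) : ℕ) : k) * Polynomial.X ^ (n - l) with hQdef
  have hco : ∀ s, Q.coeff s = q s := by
    intro s
    rw [hQdef, Polynomial.finsetSum_coeff]
    simp only [Polynomial.coeff_C_mul_X_pow, hqdef]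
    by_cases hs : s ≤ n
    · rw [if_pos hs, Finset.sum_eq_single (n - s)]
      · rw [if_pos (by omega), show n - (n - s) = s by omega]
      · intro l hl hne
        rw [if_neg]
        rw [Finset.mem_range] at hl
        omega
      · intro h; exact absurd (Finset.mem_range.mpr (by omega)) h
    · rw [if_neg hs]
      exact Finset.sum_eq_zero fun l _ => if_neg (by omega)
  have hrec : ∀ s, q (s + 1) * ((s : k) + 1) * ((i : k) - n + s + 1) = q s * ((n : k) - s) * ((j : k) - s) := by
    intro s
    simp only [hqdef]
    rcases lt_trichotomy s n with h | h | h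
    · rw [if_pos (by omega), if_pos h.le]
      obtain ⟨t, rfl⟩ : ∃ t, n = s + 1 + t := ⟨n - (s + 1), by omega⟩
      rw [show s + 1 + t - (s + 1) = t by omega, show s + 1 + t - s = t + 1 by omega]
      have e1 : (j.choose (s + 1) : k) * ((s : k) + 1) = (j.choose s : k) * ((j : k) - s) := by
        rcases le_or_gt s j with h' | h'
        · have e := congrArg (fun x : ℕ => (x : k)) (Nat.choose_succ_right_eq j s)
          push_cast [Nat.cast_sub h'] at e
          exact e
        · rw [Nat.choose_eq_zero_of_lt h', Nat.choose_eq_zero_of_lt (by omega : j < s + 1)]; simp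
      have e2 : (i.choose (t + 1) : k) * ((t : k) + 1) = (i.choose t : k) * ((i : k) - t) := by
        rcases le_or_gt t i with h' | h'
        · have e := congrArg (fun x : ℕ => (x : k)) (Nat.choose_succ_right_eq i t)
          push_cast [Nat.cast_sub h'] at e
          exact e
        · rw [Nat.choose_eq_zero_of_lt h', Nat.choose_eq_zero_of_lt (by omega : i < t + 1)]; simp
      push_cast
      linear_combination (i.choose t : k) * ((i : k) - t) * e1 - (j.choose s : k) * ((j : k) - s) * e2
    · subst h
      rw [if_neg (by omega)]
      ring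
    · rw [if_neg (by omega), if_neg (by omega)]
      ring
  have hode : X * (1 - X) * derivative (derivative Q) +
      (C ((i : k) - n + 1) - C ((1 : k) - n - j) * X) * derivative Q - C ((n : k) * j) * Q = 0 := by
    have e : X * (1 - X) * derivative (derivative Q) +
        (C ((i : k) - n + 1) - C ((1 : k) - n - j) * X) * derivative Q - C ((n : k) * j) * Q =
        X * derivative (derivative Q) - X * (X * derivative (derivative Q)) +
        C ((i : k) - n + 1) * derivative Q - C ((1 : k) - n - j) * (X * derivative Q) - C ((n : k) * j) * Q := by ring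
    rw [e]
    ext s
    simp only [coeff_add, coeff_sub, coeff_C_mul, coeff_zero]
    rcases s with _ | _ | s
    · simp only [coeff_X_mul_zero, coeff_derivative, hco]
      have := hrec 0
      push_cast at this ⊢
      linear_combination this
    · simp only [coeff_X_mul, coeff_X_mul_zero, coeff_derivative, hco]
      have := hrec 1
      push_cast at this ⊢
      linear_combination this
    · simp only [coeff_X_mul, coeff_derivative, hco]
      have := hrec (s + 2)
      push_cast at this ⊢
      linear_combination this
  by_contra hlt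
  push Not at hlt
  rcases eq_or_ne Q 0 with h0 | h0
  · rw [h0, rootMultiplicity_zero] at hlt; omega
  obtain ⟨H, hH, hnd⟩ := exists_eq_pow_rootMultiplicity_mul_and_not_dvd Q h0 c
  obtain ⟨m, hm⟩ : ∃ m, rootMultiplicity c Q = m + 2 := ⟨rootMultiplicity c Q - 2, by omega⟩
  rw [hm] at hH
  have hHc : H.eval c ≠ 0 := fun h => hnd (dvd_iff_isRoot.mpr h)
  rw [hH] at hode
  have key : (X - C c) ^ m * (X * (1 - X) * (C (((m + 2 : ℕ) : k) * ((m + 1 : ℕ) : k)) * H) + (X - C c) *
      (X * (1 - X) * (2 * C ((m + 2 : ℕ) : k) * derivative H + (X - C c) * derivative (derivative H)) +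
        (C ((i : k) - n + 1) - C ((1 : k) - n - j) * X) * (C ((m + 2 : ℕ) : k) * H + (X - C c) * derivative H) -
        C ((n : k) * j) * ((X - C c) * H))) = 0 := by
    simp only [derivative_mul, derivative_pow, derivative_X_sub_C, mul_one, derivative_add, derivative_C, zero_mul,
      zero_add, show m + 2 - 1 = m + 1 from rfl, Nat.add_sub_cancel, C_mul] at hode ⊢
    linear_combination hode
  have h1 := congrArg (eval c) ((mul_eq_zero.mp key).resolve_left (pow_ne_zero _ (X_sub_C_ne_zero c)))
  simp only [eval_add, eval_sub, eval_mul, eval_X, eval_C, eval_one, eval_zero, sub_self, zero_mul, add_zero] at h1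
  refine mul_ne_zero (mul_ne_zero hc0 (sub_ne_zero.mpr (Ne.symm hc1))) (mul_ne_zero (mul_ne_zero ?_ ?_) hHc) h1
  · exact Nat.cast_ne_zero.mpr (by omega)
  · exact Nat.cast_ne_zero.mpr (by omega)

end Groth.Agent.S16259
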