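import Groth.Statements.S16262
import Groth.Agent.Wronsk52.Basic

set_option autoImplicit false
open W4c3wronskmg

namespace Groth.Agent.S16262

open Polynomial in
/-- Let `k` be a field of characteristic zero and `a, b, i` positive integers with `i < a + b`. On the
projective line with `A = 0`, `B = ∞`, `P = -1`, the system `V_{a,b} = H⁰(ω((1+a)A)) ⊕ H⁰(ω((1+b)B))
⊆ H⁰(O(a+b))` is the space of polynomials of degree at most `a+b` with vanishing coefficient of
`X^a`, and `V = V_{a,b}(-iP)` (divided by `(X+1)^i`) is the space of `G` of degree at most `a+b-i`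
such that the coefficient of `X^a` in `(X+1)^i G` vanishes; it is a linear system of dimension and
degree `a+b-i`. Then no point of the projective line other than `A` and `B` is a special
ramification point of `V` (a point of weight at least two); for such a system a point `q` of the
affine line is special exactly when two independent members are divisible by `(X-q)^(a+b-i-1)`, so
the statement is that this fails for every `q ≠ 0`. (The published statement does not except `A` and
`B`, but `A` has weight `max(b-i, 0)` in `V`, which is `2` for `a = 1, b = 3, i = 1`: there `X^3`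
and `X^2` both lie in `V`. It is stated over the complex numbers.) -/
theorem result
    (k : Type*) [Field k] [CharZero k] (a b i : ℕ) (ha : 0 < a) (hb : 0 < b) (hi : 0 < i) (hiab : i < a + b)
    (V : Submodule k (Polynomial k))
    (hV : V = Polynomial.degreeLE k ↑(a + b - i) ⊓
      LinearMap.ker ((Polynomial.lcoeff k a).comp (LinearMap.mulLeft k (((X : Polynomial k) + 1) ^ i))))
    (q : k) (hq : q ≠ 0) :
    Module.finrank k ↥(V ⊓ (Ideal.span {(X - C q) ^ (a + b - i - 1)}).restrictScalars k) ≤ 1 := by
  obtain ⟨e, he⟩ : ∃ e, a + b - i = e + 1 := ⟨a + b - i - 1, by omega⟩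
  rw [he] at hV
  rw [he, Nat.add_sub_cancel]
  set M := (X - C q) ^ e with hM
  have hMd : M.natDegree = e := by rw [hM, natDegree_pow, natDegree_X_sub_C, mul_one]
  refine Groth.Agent.Wronsk52.finrank_le_one (u := M) (v := X * M) (Groth.Agent.Wronsk52.le_span_pair (pow_ne_zero _ (X_sub_C_ne_zero q)) ?_) ?_
  · intro P hP
    refine ⟨Groth.Agent.Wronsk52.mem_mult.mp hP.2, ?_⟩
    have := hP.1
    rw [hV] at this
    rw [hMd, natDegree_le_iff_degree_le]
    exact mem_degreeLE.mp this.1
  rintro ⟨hu, hv⟩
  have hu' := hu.1
  have hv' := hv.1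
  rw [hV] at hu' hv'
  obtain ⟨a, rfl⟩ : ∃ a', a = a' + 1 := ⟨a - 1, by omega⟩
  set R := (X + 1) ^ i * M with hR
  have r1 : R.coeff (a + 1) = 0 := hu'.2
  have r0 : R.coeff a = 0 := by
    have : ((X + 1) ^ i * (X * M)).coeff (a + 1) = 0 := hv'.2
    rwa [mul_left_comm, ← hR, coeff_X_mul] at this
  have hode : X * (X * derivative R) + C (1 - q) * (X * derivative R) - C q * derivative R =
      C ((i : k) + e) * (X * R) + C ((e : k) - i * q) * R := by
    have h1 : (X + 1) * derivative (((X : Polynomial k) + 1) ^ i) = C (i : k) * (X + 1) ^ i := by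
      cases i with
      | zero => simp
      | succ t => rw [derivative_pow, derivative_add, derivative_X, derivative_one, add_zero, mul_one, Nat.add_sub_cancel, pow_succ]; ring
    have h2 : (X - C q) * derivative M = C (e : k) * M := by
      rw [hM]
      cases e with
      | zero => simp
      | succ t => rw [derivative_pow, derivative_X_sub_C, mul_one, Nat.add_sub_cancel, pow_succ]; ring
    rw [hR, derivative_mul, C_sub, C_add, C_sub, C_1, C_mul]
    linear_combination ((X - C q) * M) * h1 + ((X + 1) * (X + 1) ^ i) * h2
  have hall : ∀ t, R.coeff (a + t) = 0 ∧ R.coeff (a + t + 1) = 0 := by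
    intro t
    induction t with
    | zero => exact ⟨r0, r1⟩
    | succ t ih =>
      refine ⟨ih.2, ?_⟩
      have h := congrArg (fun P : Polynomial k => P.coeff (a + t + 1)) hode
      simp only [coeff_add, coeff_sub, coeff_C_mul, coeff_X_mul, coeff_derivative, ih.1, ih.2,
        Groth.Agent.Wronsk52.coeff_X_mul_derivative] at h
      have hne : (q * (((a + t + 1 : ℕ) : k) + 1)) ≠ 0 := mul_ne_zero hq (Nat.cast_add_one_ne_zero _)
      refine (mul_eq_zero.mp (?_ : (q * (((a + t + 1 : ℕ) : k) + 1)) * R.coeff (a + (t + 1) + 1) = 0)).resolve_left hne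
      push_cast at h ⊢
      rw [show a + (t + 1) + 1 = a + t + 1 + 1 by ring]
      linear_combination -h
  have hRm : R.Monic := ((show ((X : Polynomial k) + 1).Monic by simpa using monic_X_add_C (1 : k)).pow i).mul ((monic_X_sub_C q).pow e)
  have hRd : R.natDegree = i + e := by
    rw [hR, natDegree_mul (pow_ne_zero _ (by simpa using X_add_C_ne_zero (1 : k))) (pow_ne_zero _ (X_sub_C_ne_zero q)),
      natDegree_pow, show ((X : Polynomial k) + 1).natDegree = 1 by simpa using natDegree_X_add_C (1 : k), hMd, mul_one]
  have := (hall (i + e - a)).1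
  rw [show a + (i + e - a) = R.natDegree by rw [hRd]; omega, hRm.coeff_natDegree] at this
  exact one_ne_zero this

end Groth.Agent.S16262
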