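import Groth.Statements.S16263
import Groth.Agent.Wronsk52.Basic

set_option autoImplicit false
open W4c3wronskmg

namespace Groth.Agent.S16263

open Polynomial in
/-- Let `k` be a field of characteristic zero and `a` a positive integer. On the projective line with `A
= 0`, `B = -1`, `C = ∞`, the `(a+1)`-dimensional system `V = H⁰(ω((1+a)C)) ⊕ H⁰(ω(A+B)) ⊆
H⁰(ω((1+a)C + A + B)) ≅ H⁰(O(a+1))` is, in the affine coordinate, the space of polynomials `c + X
(X+1) F` with `c` a constant and `deg F ≤ a - 1`. Then `V` has no special ramification point (no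
point of weight at least two): since the members have degree at most `a + 1`, this says that for
every point `p` of the affine line at most a one-dimensional subspace of `V` is divisible by
`(X-p)^a`, and at `C` that at most a one-dimensional subspace has degree at most one (degree less
than two). (The published statement carries two further positive integers `i, j` with `i + j = a -
1`, used only in its second assertion, and is over the complex numbers.) -/
theorem result
    (k : Type*) [Field k] [CharZero k] (a : ℕ) (ha : 0 < a)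
    (V : Submodule k (Polynomial k))
    (hV : V = Submodule.span k {(1 : Polynomial k)} ⊔
      ((Ideal.span {(X : Polynomial k) * (X + 1)}).restrictScalars k ⊓ Polynomial.degreeLE k ↑(a + 1))) :
    (∀ p : k, Module.finrank k ↥(V ⊓ (Ideal.span {(X - C p) ^ a}).restrictScalars k) ≤ 1) ∧
      Module.finrank k ↥(V ⊓ Polynomial.degreeLT k 2) ≤ 1 := by
  have hmem : ∀ P : Polynomial k, P ∈ V ↔ P.natDegree ≤ a + 1 ∧ P.eval 0 = P.eval (-1) := by
    intro P
    rw [hV]
    constructor
    · intro hP
      obtain ⟨P1, h1, P2, h2, rfl⟩ := Submodule.mem_sup.mp hP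
      obtain ⟨c, rfl⟩ := Submodule.mem_span_singleton.mp h1
      obtain ⟨H, rfl⟩ := Groth.Agent.Wronsk52.mem_mult.mp h2.1
      refine ⟨(natDegree_add_le _ _).trans (max_le (by rw [smul_eq_C_mul, mul_one, natDegree_C]; omega)
        (natDegree_le_iff_degree_le.mpr (mem_degreeLE.mp h2.2))), by simp⟩
    · rintro ⟨hd, he⟩
      rw [show P = P.eval 0 • 1 + (P - P.eval 0 • 1) by abel]
      refine Submodule.add_mem_sup (Submodule.smul_mem _ _ (Submodule.mem_span_singleton_self 1)) ⟨?_, ?_⟩
      · refine Groth.Agent.Wronsk52.mem_mult.mpr (IsCoprime.mul_dvd ⟨-1, 1, by ring⟩ ?_ ?_)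
        · rw [show (X : Polynomial k) = X - C 0 by simp, dvd_iff_isRoot]; simp
        · rw [show (X : Polynomial k) + 1 = X - C (-1) by simp, dvd_iff_isRoot]; simp [he]
      · rw [SetLike.mem_coe, mem_degreeLE, ← natDegree_le_iff_degree_le]
        refine (natDegree_sub_le _ _).trans (max_le hd ?_)
        rw [smul_eq_C_mul, mul_one, natDegree_C]; omega
  refine ⟨fun p => ?_, ?_⟩
  · set M := (X - C p) ^ a with hM
    have hMd : M.natDegree = a := by rw [hM, natDegree_pow, natDegree_X_sub_C, mul_one]
    refine Groth.Agent.Wronsk52.finrank_le_one (u := M) (v := X * M) (Groth.Agent.Wronsk52.le_span_pair (pow_ne_zero _ (X_sub_C_ne_zero p))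
      fun P hP => ⟨Groth.Agent.Wronsk52.mem_mult.mp hP.2, hMd.symm ▸ ((hmem P).mp hP.1).1⟩) ?_
    rintro ⟨hu, hv⟩
    have e1 := ((hmem _).mp hu.1).2
    have e2 := ((hmem _).mp hv.1).2
    simp only [hM, eval_mul, eval_pow, eval_sub, eval_X, eval_C, zero_mul] at e1 e2
    have e3 : (-1 - p) ^ a = 0 := by linear_combination e2
    have e4 : (-1 : k) - p = 0 := (pow_eq_zero_iff ha.ne').mp e3
    rw [show p = -1 by linear_combination -e4] at e1
    simp [ha.ne'] at e1
  · refine Groth.Agent.Wronsk52.finrank_le_one (u := 1) (v := X * 1) (Groth.Agent.Wronsk52.le_span_pair one_ne_zero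
      fun P hP => ⟨one_dvd _, ?_⟩) ?_
    · rcases eq_or_ne P 0 with rfl | h0
      · simp
      have := (natDegree_lt_iff_degree_lt h0).mpr (mem_degreeLT.mp hP.2)
      rw [natDegree_one]; omega
    · rintro ⟨-, hv⟩
      have e2 := ((hmem _).mp hv.1).2
      simp at e2

end Groth.Agent.S16263
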