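import Groth.Statements.S16264
import Groth.Agent.Wronsk52.Basic

set_option autoImplicit false
open W4c3wronskmg

namespace Groth.Agent.S16264

open Polynomial in
/-- Let `k` be a field of characteristic zero and `a, i, j` positive integers with `i + j = a - 1`. With
`A = 0`, `B = -1`, `C = ∞` on the projective line and `V` the `(a+1)`-dimensional system of
polynomials `c + X (X+1) F`, `deg F ≤ a - 1` (that is, `H⁰(ω((1+a)C)) ⊕ H⁰(ω(A+B)) ⊆ H⁰(O(a+1))`),
the pairs of points `(P, Q) = (p, q)` of the affine line with `dim V(-iP-jQ) ≥ 3`, i.e. with at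
least a three-dimensional subspace of `V` divisible by `(X-p)^i (X-q)^j`, are exactly `(A, B)` and
`(B, A)`. (Here `P, Q` range over the points other than `C`; when one of them is `C` the dimension
is at most two for degree reasons. The published statement is over the complex numbers.) -/
theorem result
    (k : Type*) [Field k] [CharZero k] (a i j : ℕ) (hi : 0 < i) (hj : 0 < j) (hij : i + j + 1 = a)
    (V : Submodule k (Polynomial k))
    (hV : V = Submodule.span k {(1 : Polynomial k)} ⊔
      ((Ideal.span {(X : Polynomial k) * (X + 1)}).restrictScalars k ⊓ Polynomial.degreeLE k ↑(a + 1)))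
    (p q : k) :
    3 ≤ Module.finrank k ↥(V ⊓ (Ideal.span {(X - C p) ^ i * (X - C q) ^ j}).restrictScalars k) ↔
      (p = 0 ∧ q = -1) ∨ (p = -1 ∧ q = 0) := by
  classical
  have hmem : ∀ P : Polynomial k, P ∈ V ↔ P.natDegree ≤ a + 1 ∧ P.eval 0 = P.eval (-1) := by
    intro P
    rw [hV]
    constructor
    · intro hP
      obtain ⟨P1, h1, P2, h2, rfl⟩ := Submodule.mem_sup.mp hP
      obtain ⟨c, rfl⟩ := Submodule.mem_span_singleton.mp h1
      obtain ⟨H, rfl⟩ := Groth.Agent.Wronsk52.mem_mult.mp h2.1
      refine ⟨(natDegree_add_le _ _).trans (max_le (by rw [smul_eq_C_mul, mul_one, natDegree_C]; omega)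
        (natDegree_le_iff_degree_le.mpr (mem_degreeLE.mp h2.2))), by simp⟩
    · rintro ⟨hd, he⟩
      rw [show P = P.eval 0 • 1 + (P - P.eval 0 • 1) by abel]
      refine Submodule.add_mem_sup (Submodule.smul_mem _ _ (Submodule.mem_span_singleton_self 1)) ⟨?_, ?_⟩
      · refine Groth.Agent.Wronsk52.mem_mult.mpr (IsCoprime.mul_dvd ⟨-1, 1, by ring⟩ ?_ ?_)
        · rw [show (X : Polynomial k) = X - C 0 by simp, dvd_iff_isRoot]; simp
        · rw [show (X : Polynomial k) + 1 = X - C (-1) by simp, dvd_iff_isRoot]; simp [he]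
      · rw [SetLike.mem_coe, mem_degreeLE, ← natDegree_le_iff_degree_le]
        refine (natDegree_sub_le _ _).trans (max_le hd ?_)
        rw [smul_eq_C_mul, mul_one, natDegree_C]; omega
  set M := (X - C p) ^ i * (X - C q) ^ j with hM
  have hM0 : M ≠ 0 := (Groth.Agent.Wronsk52.monicG p q i j).ne_zero
  have hMd : M.natDegree = i + j := Groth.Agent.Wronsk52.natDegree_M p q i j
  let L : Polynomial k →ₗ[k] Polynomial k := LinearMap.mulLeft k M
  have hinj : Function.Injective L := fun x y h => mul_left_cancel₀ hM0 h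
  set T := (degreeLT k 3).map L with hT
  have hTfin : Module.finrank k T = 3 := by
    rw [hT, ← (Submodule.equivMapOfInjective L hinj _).finrank_eq, (degreeLTEquiv k 3).finrank_eq, Module.finrank_fin_fun]
  haveI : FiniteDimensional k T := Module.finite_of_finrank_pos (by omega)
  have hST : V ⊓ (Ideal.span {M}).restrictScalars k ≤ T := by
    intro P hP
    obtain ⟨H, rfl⟩ := Groth.Agent.Wronsk52.mem_mult.mp hP.2
    refine ⟨H, ?_, rfl⟩
    rw [SetLike.mem_coe, mem_degreeLT]
    rcases eq_or_ne H 0 with rfl | h0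
    · rw [degree_zero]; exact WithBot.bot_lt_coe _
    rw [← natDegree_lt_iff_degree_lt h0]
    have := ((hmem _).mp hP.1).1
    rw [natDegree_mul hM0 h0, hMd] at this
    omega
  constructor
  · intro h
    have heq := Submodule.eq_of_le_of_finrank_le hST (by omega)
    have hE : ∀ t : ℕ, t < 3 → M.eval 0 * (0 : k) ^ t = M.eval (-1) * (-1 : k) ^ t := by
      intro t ht
      have hm : M * X ^ t ∈ V ⊓ (Ideal.span {M}).restrictScalars k := by
        rw [heq]
        exact ⟨X ^ t, by rw [SetLike.mem_coe, mem_degreeLT, degree_X_pow]; exact_mod_cast ht, rfl⟩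
      simpa using ((hmem _).mp hm.1).2
    have e0 := hE 0 (by norm_num)
    have e1 := hE 1 (by norm_num)
    simp at e0 e1
    rw [e1] at e0
    simp only [hM, eval_mul, eval_pow, eval_sub, eval_X, eval_C, mul_eq_zero, pow_eq_zero_iff hi.ne',
      pow_eq_zero_iff hj.ne', sub_eq_zero] at e0 e1
    rcases e0 with h | h <;> rcases e1 with h' | h' <;> subst h
    · exact absurd h' (by norm_num)
    · exact Or.inl ⟨rfl, h'.symm⟩
    · exact Or.inr ⟨h'.symm, rfl⟩
    · exact absurd h' (by norm_num)
  · intro h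
    have hle : T ≤ V ⊓ (Ideal.span {M}).restrictScalars k := by
      rintro _ ⟨H, hH, rfl⟩
      refine ⟨(hmem _).mpr ⟨?_, ?_⟩, Groth.Agent.Wronsk52.mem_mult.mpr (dvd_mul_right _ _)⟩
      · refine natDegree_mul_le.trans ?_
        have := Groth.Agent.Wronsk52.natDegree_le_of_mem hH
        rw [hMd]; omega
      · rcases h with ⟨rfl, rfl⟩ | ⟨rfl, rfl⟩ <;>
          simp [L, hM, zero_pow hi.ne', zero_pow hj.ne']
    rw [le_antisymm hST hle, hTfin]

end Groth.Agent.S16264
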