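import Groth.Statements.S16266
import Groth.Agent.LLS31.TwoPoint

set_option autoImplicit false
open FunFld

namespace Groth.Agent.S16266

/-- Let `K/k` be a function field of one variable over an algebraically closed field `k` of
characteristic zero, `D` a divisor, `V ⊆ L(D)` a linear system of dimension `r + 1` with `r ≥ 1`,
and `P` a place with `V' = V(-P) = V ∩ L(D - P) ≠ V`, an `r`-dimensional system in `L(D - P)`.
Assume that neither `V` nor `V'` has a special ramification point (a place of weight at least two):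
for every place `R`, `dim V ∩ L(D - rR) ≤ 1`, `V ∩ L(D - (r+2)R) = 0`, `dim V' ∩ L(D - P - (r-1)R) ≤
1` and `V' ∩ L(D - P - (r+1)R) = 0`. Then no place `Q ≠ P` is a ramification point of both `V` and
`V'`: for no such `Q` are both `V ∩ L(D - (r+1)Q)` and `V' ∩ L(D - P - rQ)` nonzero. (The published
statement is for a smooth curve over the complex numbers.) -/
theorem result
    (k K : Type*) [Field k] [IsAlgClosed k] [CharZero k] [Field K] [Algebra k K]
    (hK : FunFld.IsFunctionField k K) (D : FunFld.Divisor k K)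
    (V : Submodule k K) (hVD : V ≤ FunFld.L D) (r : ℕ) (hr : Module.finrank k ↥V = r + 1) (hr1 : 1 ≤ r)
    (P : FunFld.Place k K) (hP : V ⊓ FunFld.L (D - Finsupp.single P 1) ≠ V)
    (hns : ∀ R : FunFld.Place k K,
      Module.finrank k ↥(V ⊓ FunFld.L (D - Finsupp.single R (r : ℤ))) ≤ 1 ∧
        V ⊓ FunFld.L (D - Finsupp.single R ((r : ℤ) + 2)) = ⊥)
    (hns' : ∀ R : FunFld.Place k K,
      Module.finrank k ↥(V ⊓ FunFld.L (D - Finsupp.single P 1 - Finsupp.single R ((r : ℤ) - 1))) ≤ 1 ∧
        V ⊓ FunFld.L (D - Finsupp.single P 1 - Finsupp.single R ((r : ℤ) + 1)) = ⊥)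
    (Q : FunFld.Place k K) (hQP : Q ≠ P) :
    ¬ (V ⊓ FunFld.L (D - Finsupp.single Q ((r : ℤ) + 1)) ≠ ⊥ ∧
       V ⊓ FunFld.L (D - Finsupp.single P 1 - Finsupp.single Q (r : ℤ)) ≠ ⊥) := by
  classical
  rintro ⟨hx, hy⟩
  obtain ⟨x, hx, hx0⟩ := Submodule.exists_mem_ne_zero_of_ne_bot hx
  obtain ⟨y, hy, hy0⟩ := Submodule.exists_mem_ne_zero_of_ne_bot hy
  have : FiniteDimensional k V := Module.finite_of_finrank_pos (by omega)
  have := Submodule.finiteDimensional_of_le
    (inf_le_left : V ⊓ L (D - Finsupp.single Q (r : ℤ)) ≤ V)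
  have hxr : x ∈ V ⊓ L (D - Finsupp.single Q (r : ℤ)) :=
    ⟨hx.1, Groth.Agent.LLS31.L_mono (fun R => by
      simp only [Finsupp.sub_apply, Finsupp.single_apply]; split_ifs <;> omega) hx.2⟩
  have hyr : y ∈ V ⊓ L (D - Finsupp.single Q (r : ℤ)) :=
    ⟨hy.1, Groth.Agent.LLS31.L_mono (fun R => by
      simp only [Finsupp.sub_apply, Finsupp.single_apply]; split_ifs <;> omega) hy.2⟩
  have heq : Submodule.span k {x} = V ⊓ L (D - Finsupp.single Q (r : ℤ)) :=
    Submodule.eq_of_le_of_finrank_le ((Submodule.span_singleton_le_iff_mem _ _).2 hxr)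
      (by rw [finrank_span_singleton hx0]; exact (hns Q).1)
  obtain ⟨c, rfl⟩ := Submodule.mem_span_singleton.1 (heq ▸ hyr : y ∈ Submodule.span k {x})
  have hcx : c • x ∈ V ⊓ L (D - Finsupp.single P 1 - Finsupp.single Q ((r : ℤ) + 1)) := by
    refine ⟨hy.1, fun R => ?_⟩
    rcases eq_or_ne R Q with rfl | hR
    · have := Submodule.smul_mem _ c hx.2 R
      simpa [Finsupp.single_eq_of_ne hQP] using this
    · have := hy.2 R
      simpa [Finsupp.single_eq_of_ne hR] using this
  rw [(hns' Q).2, Submodule.mem_bot] at hcx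
  exact hy0 hcx

end Groth.Agent.S16266
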