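import Groth.Statements.S16288
import Groth.Agent.FCx40.Semicont

set_option autoImplicit false
universe u
open CategoryTheory
open FlatCx

namespace Groth.Agent.S16288

/-- Let A be a Noetherian ring and P a chain complex of finitely generated flat A-modules, and for p and
a point x of Spec A let d_p(x) = dim_{k(x)} H_p(P ⊗_A k(x)). Fix p and a point z. If d_{p-1} and
d_{p+1} are constant on some neighbourhood of z, then d_p is constant on some neighbourhood of z.
(The published assertion concerns the function y ↦ dim H^p(X_y, F_y) for a coherent sheaf F flat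
over a projective morphism of Noetherian schemes X → Y: if it is not constant near a point, then the
functions for p - 1 and p + 1 are not both constant near that point. Stated here is the
corresponding property for any chain complex of finitely generated flat modules over a Noetherian
ring, from which the published form follows by applying it to a finite complex of such modules
computing the cohomology of the fibres.) -/
theorem result {A : Type u} [CommRing A] [IsNoetherianRing A]
    (P : ChainComplex (ModuleCat.{u} A) ℤ) (hP : ∀ i, Module.Finite A (P.X i) ∧ Module.Flat A (P.X i))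
    (p : ℤ) (z : PrimeSpectrum A)
    (hlo : ∀ᶠ x in nhds z, CohIII.dRank P (p - 1) x = CohIII.dRank P (p - 1) z)
    (hhi : ∀ᶠ x in nhds z, CohIII.dRank P (p + 1) x = CohIII.dRank P (p + 1) z) :
    ∀ᶠ x in nhds z, CohIII.dRank P p x = CohIII.dRank P p z := by
  have hfp : ∀ i, Module.FinitePresentation A (P.X i) := fun i =>
    haveI := (hP i).1; Module.finitePresentation_of_finite A _
  have hn : ∀ i, ∀ᶠ x in nhds z, FCx40.fib (P.X i) x = FCx40.fib (P.X i) z := fun i =>
    haveI := hfp i
    haveI := (hP i).2
    (FCx40.isLocallyConstant_fib (P.X i)).eventually_eq z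
  have hfin : ∀ i, Module.Finite A (P.X i) := fun i => (hP i).1
  let c : ℤ → PrimeSpectrum A → ℕ := fun i => FCx40.fib (P.X i ⧸ LinearMap.range (P.d (i + 1) i).hom)
  have hc : ∀ i, UpperSemicontinuous (c i) := fun i =>
    haveI := hfin i; FCx40.upperSemicontinuous_fib _
  have e₀ : ∀ x, CohIII.dRank P p x + FCx40.fib (P.X (p - 1)) x = c p x + c (p - 1) x := fun x => by
    show _ = c p x + FCx40.fib (P.X (p - 1) ⧸ LinearMap.range (P.d (p - 1 + 1) (p - 1)).hom) x
    rw [sub_add_cancel p 1]
    exact FCx40.dRank_add hfin (sub_add_cancel p 1) rfl x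
  have e₁ : ∀ x, CohIII.dRank P (p + 1) x + FCx40.fib (P.X p) x = c (p + 1) x + c p x := fun x =>
    FCx40.dRank_add hfin rfl rfl x
  have e₂ : ∀ x, CohIII.dRank P (p - 1) x + FCx40.fib (P.X (p - 1 - 1)) x = c (p - 1) x + c (p - 1 - 1) x :=
    fun x => by
      show _ = c (p - 1) x +
        FCx40.fib (P.X (p - 1 - 1) ⧸ LinearMap.range (P.d (p - 1 - 1 + 1) (p - 1 - 1)).hom) x
      rw [sub_add_cancel (p - 1) 1]
      exact FCx40.dRank_add hfin (sub_add_cancel (p - 1) 1) rfl x
  have a := FCx40.eventually_eq_of_usc_of_add_eq (hc (p + 1)) (hc p) (z := z) (by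
    filter_upwards [hhi, hn p] with x hx hx'
    rw [← e₁, ← e₁, hx, hx'])
  have b := FCx40.eventually_eq_of_usc_of_add_eq (hc (p - 1)) (hc (p - 1 - 1)) (z := z) (by
    filter_upwards [hlo, hn (p - 1 - 1)] with x hx hx'
    rw [← e₂, ← e₂, hx, hx'])
  filter_upwards [a.2, b.1, hn (p - 1)] with x h1 h2 h3
  have := e₀ x
  have := e₀ z
  omega

end Groth.Agent.S16288
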