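import Groth.Statements.S16298
import Groth.Agent.Crv77.Birat
import Groth.Agent.S1585
import Groth.Agent.Coh69.AffinePush

set_option autoImplicit false
universe u
open CategoryTheory CategoryTheory.Limits AlgebraicGeometry
open Curves

namespace Groth.Agent.S16298

/-- Let k be a field and X a genus-zero curve over k, that is, an integral scheme proper over k of
dimension one with H^1(X, O_X) = 0. Then the normalization Y of X again satisfies H^1(Y, O_Y) = 0,
so Y is again a genus-zero curve. (The two instance binders on the morphism from the generic point
always hold; they are only needed to form the normalization.) -/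
theorem result (k : Type u) [Field k] (X : Scheme.{u}) [X.Over (Spec (CommRingCat.of k))]
    [IsIntegral X] [IsProper (X ↘ (Spec (CommRingCat.of k)))] (hdim : topologicalKrullDim X = 1)
    (h1 : Subsingleton (Coh.HH X (Coh.structureModule X) 1))
    [QuasiCompact (X.fromSpecStalk (genericPoint X))] [QuasiSeparated (X.fromSpecStalk (genericPoint X))] :
    Subsingleton (Coh.HH (Curv2.normalization X) (Coh.structureModule (Curv2.normalization X)) 1) := by
  obtain ⟨hfin, -, ⟨V, hV, hiso⟩, -, -⟩ := S1585.result k X
  haveI := hfin
  letI : (Curv2.normalization X).Over (Spec (CommRingCat.of k)) :=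
    ⟨Curv2.normalizationι X ≫ (X ↘ Spec (CommRingCat.of k))⟩
  haveI := hiso
  have hs := Crv77.surjective_h1_unitToPush k hdim.le (Curv2.normalizationι X) rfl V (V.2.dense hV)
    inferInstance
  haveI : Subsingleton (Coh.HH X ((Coh.push (Curv2.normalizationι X)).obj
      (Coh.structureModule (Curv2.normalization X))) 1) := hs.subsingleton
  haveI : (Coh.structureModule (Curv2.normalization X)).IsQuasicoherent :=
    (Crv77.isCoh_structureModule (X := Curv2.normalization X)).1
  obtain ⟨e⟩ := Coh69.nonempty_hh_push (f := Curv2.normalizationι X)
    (Coh.structureModule (Curv2.normalization X)) 1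
  exact e.injective.subsingleton

end Groth.Agent.S16298
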