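import Groth.Statements.S16299
import Groth.Agent.Curves2.GenusOne.H0
import Groth.Agent.Curves2.RatPoint
import Groth.Agent.Curves2.PointTwists
import Groth.Agent.CAlg6.RegularNormal

set_option autoImplicit false
universe u
open CategoryTheory CategoryTheory.Limits AlgebraicGeometry
open Curves

namespace Groth.Agent.S16299
attribute [local instance] Curv2.resAlgebra

/-- Let k be a field and X a Gorenstein genus-one curve over k: an integral scheme, proper over k, of
dimension one, all of whose local rings are Gorenstein, with dim_k H^1(X, O_X) = 1. Let L be an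
invertible O_X-module of degree at least 2 over k. Then the base locus of L is contained in the
non-regular locus of X: for every point x of X whose local ring is regular there is a global section
s : O_X → L with x in the open X_s where s generates L. -/
theorem result (k : Type u) [Field k] (X : Scheme.{u}) [X.Over (Spec (CommRingCat.of k))]
    [IsIntegral X] [IsProper (X ↘ (Spec (CommRingCat.of k)))] (hdim : topologicalKrullDim X = 1)
    (hgor : ∀ x : X, LocCoh.IsGorensteinLocalRing (X.presheaf.stalk x)) (hg : Curv2.genus k X = 1)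
    (L : X.Modules) (hL : PicF.IsInvertible L) (hdeg : 2 ≤ Curv2.deg k X L 1)
    (x : X) (hx : IsRegularLocalRing (X.presheaf.stalk x)) :
    ∃ s : Coh.structureModule X ⟶ L, x ∈ CohB1.genLocus L s := by
  haveI := Crv77.isNoetherian_of_proper k X
  have hX := Crv77.curveCoh_of_proper k X hdim.le
  have hO := Curves2.GenusOne.finrank_h0_eq_one k hdim.le hg
  have hd := hX.riemann hO (Crv77.isCoh_of_isInvertible hL)
  simp only [Crv77.h] at hd
  suffices ∃ t : Γ(L, ⊤), x ∈ CohB1.genLocus L (Var76.Frames.ofSection L t) from
    let ⟨t, ht⟩ := this; ⟨_, ht⟩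
  by_cases hxη : x = genericPoint X
  · subst hxη
    haveI : Nontrivial (Coh.HH X L 0) := Module.nontrivial_of_finrank_pos (R := k) (by rw [hg] at hd; omega)
    obtain ⟨v, hv⟩ := exists_ne (0 : Coh.HH X L 0)
    exact ⟨Crv77.sec L v, Curves2.genericPoint_mem_genLocus hL fun h => hv ((Crv77.sec L).injective (h.trans (map_zero _).symm))⟩
  have hxc := Crv77.isClosed_singleton hdim.le hxη
  haveI := CAlg6.isIntegrallyClosed_of_regular (X.presheaf.stalk x)
  have hI : PicF.IsInvertible (ClSub.idealMod (Crv77.ptIdeal hxc)) :=
    Curves2.isInvertible_ptIdeal hdim.le hxc ⟨genericPoint X, fun h => hxη h.symm⟩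
  refine (hX.exists_gen_iff_h0_lt hxc hL).2 ?_
  set M := CohB1.tensorMod (ClSub.idealMod (Crv77.ptIdeal hxc)) L
  have hM : PicF.IsInvertible M := EGA73.isInvertible_tensorMod hI hL
  have hdM : Curv2.deg k X M 1 = Curv2.deg k X L 1 - Module.finrank k (X.residueField x) :=
    Curves2.deg_ptIdeal_tensor' (k := k) hdim.le hxc hL
  have h1 := Curves2.one_le_finrank_residueField (k := k) hxc
  have hrM := hX.riemann hO (Crv77.isCoh_of_isInvertible hM)
  simp only [Crv77.h, hg] at hrM hd
  rcases subsingleton_or_nontrivial (Coh.HH X M 0) with hs | hn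
  · rw [Module.finrank_zero_of_subsingleton (M := Coh.HH X M 0)]
    omega
  · have hle := hX.h0_le_deg_add_one hdim.le hO hM hn
    simp only [Crv77.h] at hle
    rcases le_or_gt (Curv2.deg k X M 1) 0 with hle0 | hgt
    · omega
    · haveI := hX.h1_eq_zero_of_deg_gt hdim hO hM (by rw [hg]; push_cast; omega)
      rw [Module.finrank_zero_of_subsingleton (M := Coh.HH X M 1)] at hrM
      omega

end Groth.Agent.S16299
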