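import Groth.Statements.S1630
import Groth.Agent.FBase64.Geometric

set_option autoImplicit false
universe u
open CategoryTheory CategoryTheory.Limits AlgebraicGeometry
open Variety

namespace Groth.Agent.S1630

/-- Let X be a scheme over k. If X has a cover by a nonempty family of open subschemes, each
geometrically irreducible over k and any two of which meet, then X is geometrically irreducible over
k. -/
theorem result (k : Type u) [Field k] (X : Scheme.{u}) [X.Over (Spec (CommRingCat.of k))]
    (ι : Type u) (U : ι → X.Opens) (hne : Nonempty ι) (hcov : (⨆ i, U i) = ⊤)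
    (hmeet : ∀ i j, ((U i : Set X) ∩ (U j : Set X)).Nonempty)
    (hU : ∀ i, GeometricallyIrreducible ((U i).ι ≫ (X ↘ (Spec (CommRingCat.of k))))) : GeometricallyIrreducible (X ↘ (Spec (CommRingCat.of k))) := by
  let f := X ↘ (Spec (CommRingCat.of k))
  let t := Spec.map (CommRingCat.ofHom (algebraMap k (AlgebraicClosure k)))
  let q := pullback.fst f t
  have hirr : ∀ i, IsIrreducible (q ⁻¹' (U i : Set X)) := by
    intro i
    have : IrreducibleSpace ↥(pullback ((U i).ι ≫ f) t) :=
      pullback_of_geometrically (hU i).geometrically_irreducibleSpace _ t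
    let h : pullback ((U i).ι ≫ f) t ⟶ pullback f t :=
      pullback.map ((U i).ι ≫ f) t f t (U i).ι (𝟙 _) (𝟙 _) (by simp) (by simp)
    have hr : Set.range h = q ⁻¹' (U i : Set X) := by
      rw [Scheme.Pullback.range_map]
      simp [q]
    rw [← hr, ← Set.image_univ]
    exact (IrreducibleSpace.isIrreducible_univ _).image _ h.continuous.continuousOn
  have : Surjective (Spec.map (CommRingCat.ofHom (algebraMap k (AlgebraicClosure k)))) :=
    ⟨fun y => ⟨Classical.arbitrary _, Subsingleton.elim _ _⟩⟩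
  have hsurj : Function.Surjective q := q.surjective
  have : IrreducibleSpace ↥(pullback f t) := by
    obtain ⟨i0⟩ := hne
    rw [irreducibleSpace_def]
    refine ⟨?_, ?_⟩
    · obtain ⟨a, ha⟩ := (hirr i0).1; exact ⟨a, trivial⟩
    rintro A B hA hB ⟨a, -, ha⟩ ⟨b, -, hb⟩
    have hc : ∀ z, ∃ i, q z ∈ U i := fun z => by
      have : q z ∈ (⨆ i, U i) := hcov ▸ trivial
      simpa using this
    obtain ⟨i, hi⟩ := hc a
    obtain ⟨j, hj⟩ := hc b
    have hio : ∀ l, IsOpen (q ⁻¹' (U l : Set X)) := fun l => (U l).2.preimage q.continuous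
    obtain ⟨c0, hc0i, hc0j⟩ := hmeet i j
    obtain ⟨c, rfl⟩ := hsurj c0
    -- A meets `U_i ∩ U_j` inside the irreducible `U_i`, hence inside `U_j`
    obtain ⟨d, hdi, hdA, hdj⟩ := (hirr i).2 A _ hA (hio j) ⟨a, hi, ha⟩ ⟨c, hc0i, hc0j⟩
    obtain ⟨e, -, heA, heB⟩ := (hirr j).2 A B hA hB ⟨d, hdj, hdA⟩ ⟨b, hj, hb⟩
    exact ⟨e, trivial, heA, heB⟩
  exact Groth.Agent.FBase64.geometricallyIrreducible_of_sepClosed f (algebraMap k (AlgebraicClosure k))

end Groth.Agent.S1630
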