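import Groth.Statements.S16304
import Groth.Agent.CohFF96.Basic
import Groth.Agent.LimTop61.CounitGen
import Groth.Agent.Curves2.IdealFrame
import Groth.Agent.MP99.Basic

set_option autoImplicit false
universe u
open CategoryTheory CategoryTheory.Limits AlgebraicGeometry
open Resolve

namespace Groth.Agent.S16304

set_option backward.isDefEq.respectTransparency false in
open Groth.Agent.Var76.LineBundle in
/-- The key local step: a relatively generated ideal whose zeros meet the fibre lies in the pulled back point ideal. -/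
theorem le_comap_of_isGenAt {X Y : Scheme.{u}} (f : Y ⟶ X) (happ : ∀ U : X.Opens, IsIso (f.app U))
    {P : X} (hPc : IsClosed ({P} : Set X)) (V : Y.IdealSheafData) {v : Y}
    (hv : v ∈ (V.support : Set Y)) (hfv : f v = P)
    (hgen : ∀ y, LimTop61.IsGenAt f (ClSub.idealMod V) y) :
    V ≤ (Scheme.IdealSheafData.vanishingIdeal ⟨{P}, hPc⟩).comap f := by
  let m := Scheme.IdealSheafData.vanishingIdeal (X := X) ⟨{P}, hPc⟩
  have hm : ((m.comap f).support : Set Y) = f ⁻¹' {P} := by
    simp [m]
  have key : ∀ y : Y, ∃ W : Y.affineOpens, y ∈ W.1 ∧ V.ideal W ≤ (m.comap f).ideal W := by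
    intro y
    by_cases hy : f y = P
    swap
    · obtain ⟨W, hW, hyW, hle⟩ := exists_isAffineOpen_mem_and_subset
        (U := f ⁻¹ᵁ ⟨({P} : Set X)ᶜ, hPc.isOpen_compl⟩) (show y ∈ f ⁻¹ᵁ ⟨({P} : Set X)ᶜ, hPc.isOpen_compl⟩ from hy)
      refine ⟨⟨W, hW⟩, hyW, le_of_le_of_eq le_top ?_⟩
      by_contra hne
      obtain ⟨q, hq, hle'⟩ := Ideal.exists_le_maximal _ (Ne.symm hne)
      let z : Y := hW.fromSpec ⟨q, hq.isPrime⟩
      have hz : z ∈ W := by
        rw [← SetLike.mem_coe, ← hW.range_fromSpec]; exact ⟨_, rfl⟩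
      have hzs : z ∈ ((m.comap f).support : Set Y) ∩ W := by
        rw [Scheme.IdealSheafData.coe_support_inter _ ⟨W, hW⟩, ← hW.fromSpec_image_zeroLocus]
        exact ⟨_, hle', rfl⟩
      rw [hm] at hzs
      exact hle hz hzs.1
    obtain ⟨V0, t, W, hW, hyW, hfr⟩ := hgen y
    haveI := happ V0
    obtain ⟨g, hg⟩ := (ConcreteCategory.bijective_of_isIso (f.app V0)).2
      (OmegaSh.idealSect V (f ⁻¹ᵁ V0) t)
    have hPV0 : P ∈ V0 := hy ▸ hW hyW
    -- `g` vanishes at `P`
    have hgP : P ∉ X.basicOpen g := by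
      intro hmem
      rw [Scheme.mem_basicOpen _ _ _ hPV0] at hmem
      have hvV : v ∈ f ⁻¹ᵁ V0 := show f v ∈ V0 from hfv ▸ hPV0
      obtain ⟨A, hA, hvA, hAle⟩ := exists_isAffineOpen_mem_and_subset hvV
      have h1 : Y.presheaf.map (homOfLE hAle).op (f.app V0 g) ∈ V.ideal ⟨A, hA⟩ := by
        rw [hg]
        exact (Curves2.idealSect_res V hAle t) ▸ Curves2.idealSect_mem_ideal V ⟨A, hA⟩ _
      have h2 : v ∉ Y.basicOpen (Y.presheaf.map (homOfLE hAle).op (f.app V0 g)) := by
        have h3 := (Scheme.IdealSheafData.mem_support_iff_of_mem (U := ⟨A, hA⟩) hvA).1 hv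
        exact (Scheme.mem_zeroLocus_iff _ _ _).1 h3 _ h1
      refine h2 ?_
      rw [Scheme.basicOpen_res, ← Scheme.preimage_basicOpen]
      refine ⟨hvA, show f v ∈ X.basicOpen g from ?_⟩
      rw [hfv, Scheme.mem_basicOpen _ _ _ hPV0]
      exact hmem
    obtain ⟨B, hB, hPB, hBle⟩ := exists_isAffineOpen_mem_and_subset hPV0
    obtain ⟨W', hW', hyW', hW'le⟩ := exists_isAffineOpen_mem_and_subset (U := W ⊓ f ⁻¹ᵁ B)
      (show y ∈ W ⊓ f ⁻¹ᵁ B from ⟨hyW, show f y ∈ B from hy ▸ hPB⟩)
    refine ⟨⟨W', hW'⟩, hyW', fun r hr => ?_⟩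
    have hgm : X.presheaf.map (homOfLE hBle).op g ∈ m.ideal ⟨B, hB⟩ := by
      refine (PrimeSpectrum.mem_vanishingIdeal _ _).2 fun p hp => ?_
      by_contra hnp
      have h4 : p ∈ hB.fromSpec ⁻¹' (X.basicOpen (X.presheaf.map (homOfLE hBle).op g) : Set X) := by
        show p ∈ hB.fromSpec ⁻¹ᵁ X.basicOpen (X.presheaf.map (homOfLE hBle).op g)
        rw [hB.fromSpec_preimage_basicOpen]
        exact hnp
      replace h4 : hB.fromSpec p ∈ X.basicOpen (X.presheaf.map (homOfLE hBle).op g) := h4
      rw [show hB.fromSpec p = P from hp, Scheme.basicOpen_res] at h4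
      exact hgP h4.2
    have hW'B : W' ≤ f ⁻¹ᵁ B := hW'le.trans inf_le_right
    have hW'V : W' ≤ f ⁻¹ᵁ V0 := (hW'le.trans inf_le_left).trans hW
    rw [MP99.ideal_comap m f ⟨B, hB⟩ ⟨W', hW'⟩ hW'B]
    obtain ⟨n, rfl⟩ := Curves2.exists_idealSect_of_mem V ⟨W', hW'⟩ hr
    obtain ⟨a, ha⟩ := (hfr W' (hW'le.trans inf_le_left)).2 n
    dsimp only at ha
    rw [← ha, Omega57.idealSect_smul, res_res, Curves2.idealSect_res V hW'V, ← hg]
    refine Ideal.mul_mem_left _ a ?_
    have h5 := Ideal.mem_map_of_mem (f.appLE B W' hW'B).hom hgm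
    convert h5 using 1
    change Y.presheaf.map (homOfLE hW'V).op (f.app V0 g) =
      f.appLE B W' hW'B (X.presheaf.map (homOfLE hBle).op g)
    rw [← ConcreteCategory.comp_apply, ← ConcreteCategory.comp_apply, Scheme.Hom.map_appLE,
      ← Scheme.Hom.appLE]
  choose W hW hle using key
  exact Scheme.IdealSheafData.le_of_iSup_eq_top W
    (top_unique fun y _ => TopologicalSpace.Opens.mem_iSup.2 ⟨y, hW y⟩) hle

/-- Let k be a field and X a normal surface over k (an integral normal scheme, separated and of finite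
type over k, of dimension two) whose only non-regular point is the closed point P, and f : Y → X a
resolution: a proper morphism from an integral scheme Y of dimension two with all local rings
regular, restricting to an isomorphism over the complement of P. Let V be an effective Cartier
divisor on Y, given by a quasi-coherent ideal sheaf O_Y(-V) that is an invertible module, such that
P lies in f(Supp V) and O_Y(-V) is f-free, that is, the counit f^* f_* O_Y(-V) → O_Y(-V) is an
epimorphism. Then O_Y(-V) is contained in m_P O_Y, the inverse image ideal sheaf of the ideal of the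
reduced point P. -/
theorem result (k : Type u) [Field k] (X : Scheme.{u}) [X.Over (Spec (CommRingCat.of k))]
    [IsIntegral X] [IsSeparated (X ↘ (Spec (CommRingCat.of k)))] [LocallyOfFiniteType (X ↘ (Spec (CommRingCat.of k)))]
    [CompactSpace X] (hdim : topologicalKrullDim X = 2) (hnorm : Pi1.IsNormalScheme X)
    (P : X) (hPc : IsClosed ({P} : Set X)) (hP : ¬ IsRegularLocalRing (X.presheaf.stalk P))
    (hreg : ∀ x : X, x ≠ P → IsRegularLocalRing (X.presheaf.stalk x))
    (Y : Scheme.{u}) (f : Y ⟶ X) [IsIntegral Y] (hdimY : topologicalKrullDim Y = 2)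
    (hregY : ∀ y : Y, IsRegularLocalRing (Y.presheaf.stalk y)) [IsProper f]
    (hiso : IsIso (f ∣_ ⟨({P} : Set X)ᶜ, hPc.isOpen_compl⟩))
    (V : Y.IdealSheafData) (hV : PicF.IsInvertible (ClSub.idealMod V)) (hPV : P ∈ f.base '' (V.support : Set Y))
    (hfree : Epi ((Scheme.Modules.pullbackPushforwardAdjunction f).counit.app (ClSub.idealMod V))) :
    V ≤ (Scheme.IdealSheafData.vanishingIdeal ⟨{P}, hPc⟩).comap f := by
  -- the generic points
  let U₀ : X.Opens := ⟨({P} : Set X)ᶜ, hPc.isOpen_compl⟩
  have hgenP : genericPoint X ≠ P := fun hgp => by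
    haveI : Subsingleton X := ⟨fun a b => by
      have hall : ∀ z : X, z = P := fun z => by
        have := ((genericPoint_spec X).specializes (y := z) trivial).mem_closed hPc (by simp [hgp])
        simpa using this
      rw [hall a, hall b]⟩
    haveI : Subsingleton (TopologicalSpace.IrreducibleCloseds X) := ⟨fun A B => by
      refine TopologicalSpace.IrreducibleCloseds.ext ?_
      exact (Subsingleton.eq_univ_of_nonempty A.2.nonempty).trans (Subsingleton.eq_univ_of_nonempty B.2.nonempty).symm⟩
    have h0 : topologicalKrullDim X ≤ 0 := Order.krullDim_nonpos_of_subsingleton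
    rw [hdim] at h0
    exact absurd h0 (by decide)
  haveI := hiso
  obtain ⟨⟨z, hzU⟩, hz⟩ := (f ∣_ U₀).homeomorph.surjective ⟨genericPoint X, hgenP⟩
  have hfz : f z = genericPoint X := by
    have h' : (f ∣_ U₀).base ⟨z, hzU⟩ = ⟨genericPoint X, hgenP⟩ := hz
    have h'''' := congrArg Subtype.val h'
    rw [morphismRestrict_base] at h''''
    exact h''''
  have h : f.base (genericPoint Y) ⤳ genericPoint X :=
    hfz ▸ ((genericPoint_spec Y).specializes trivial).map f.continuous
  haveI : Surjective f := ⟨fun x => by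
    have hcl : IsClosed (Set.range f) := f.isClosedMap.isClosed_range
    exact ((genericPoint_spec X).specializes (y := x) trivial).mem_closed hcl ⟨z, hfz⟩⟩
  have hgU : genericPoint Y ∈ f ⁻¹ᵁ U₀ :=
    ((genericPoint_spec Y).specializes (y := z) trivial).mem_open (f ⁻¹ᵁ U₀).2 hzU
  have hiso₁ : IsIso (f.stalkMap (genericPoint Y)) := by
    have hst := morphismRestrictStalkMap f U₀ ⟨genericPoint Y, hgU⟩
    haveI : IsOpenImmersion (f ∣_ U₀) := inferInstance
    let u : (f ⁻¹ᵁ U₀).toScheme := ⟨genericPoint Y, hgU⟩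
    have h2 : IsIso ((f ∣_ U₀).stalkMap u) := inferInstance
    exact (MorphismProperty.arrow_mk_iso_iff (MorphismProperty.isomorphisms _) hst).1 h2
  have heq : f.base (genericPoint Y) = genericPoint X :=
    (h.antisymm ((genericPoint_spec X).specializes trivial)).eq
  haveI : IsIso (X.presheaf.stalkSpecializes h) := by
    refine ⟨X.presheaf.stalkSpecializes (specializes_of_eq heq.symm), ?_, ?_⟩ <;>
      rw [TopCat.Presheaf.stalkSpecializes_comp, TopCat.Presheaf.stalkSpecializes_refl]
  have hsurj : Function.Surjective (CohFF96.φ f h) := by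
    show Function.Surjective ((f.stalkMap (genericPoint Y)).hom.comp (X.presheaf.stalkSpecializes h).hom)
    rw [RingHom.coe_comp]
    exact (ConcreteCategory.bijective_of_isIso (f.stalkMap (genericPoint Y))).2.comp
      (ConcreteCategory.bijective_of_isIso (X.presheaf.stalkSpecializes h)).2
  have happ : ∀ U : X.Opens, IsIso (f.app U) := fun U =>
    CohFF96.isIso_app_of_closed f h hnorm (fun x _ => hsurj x) U
  obtain ⟨v, hv, hfv⟩ := hPV
  exact le_comap_of_isGenAt f happ hPc V hv hfv ((LimTop61.epi_counit_iff_forall_isGenAt f hV).1 hfree)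

end Groth.Agent.S16304
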