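import Groth.Statements.S16305
import Groth.Agent.EGAProj74.TwoSurj

set_option autoImplicit false
universe u
open CategoryTheory CategoryTheory.Limits AlgebraicGeometry
open ProjSp

namespace Groth.Agent.S16305

/-- Let k be a field and Z a zero-dimensional closed subscheme of projective N-space P^N_k, with closed
immersion i : Z → P^N_k. For an integer n write ρ_n : H^0(P^N_k, O(n)) → H^0(P^N_k, i_* i^* O(n)) =
H^0(Z, O(n)|_Z) for the map induced on global sections by the unit O(n) → i_* i^* O(n) (restriction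
of sections to Z). If the image of ρ_1 has codimension at most one in H^0(Z, O(1)|_Z), in the sense
that for some v every element is of the form ρ_1(s) + c v with c in k, then ρ_2 is surjective. -/
theorem result (k : Type u) [Field k] (N : ℕ)
    (Z : (CohB1.ProjSpace N k).IdealSheafData)
    (hZ : topologicalKrullDim (Z.support : Set (CohB1.ProjSpace N k)) ≤ 0) :
    letI : (CohB1.ProjSpace N k).Over (Spec (CommRingCat.of k)) := ⟨CohB1.ProjSpace.toSpec N k⟩
    (∃ v : (Coh.HH (CohB1.ProjSpace N k) ((Scheme.Modules.pushforward Z.subschemeι).obj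
        ((Scheme.Modules.pullback Z.subschemeι).obj (Twist.twistProjSpace N k 1))) 0),
      ∀ t : (Coh.HH (CohB1.ProjSpace N k) ((Scheme.Modules.pushforward Z.subschemeι).obj
        ((Scheme.Modules.pullback Z.subschemeι).obj (Twist.twistProjSpace N k 1))) 0),
        ∃ (s : Coh.HH (CohB1.ProjSpace N k) (Twist.twistProjSpace N k 1) 0) (c : k),
        t = @id (Coh.HH (CohB1.ProjSpace N k) ((Scheme.Modules.pushforward Z.subschemeι).obj
        ((Scheme.Modules.pullback Z.subschemeι).obj (Twist.twistProjSpace N k 1))) 0)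
          (Sheaf.H.map ((SheafOfModules.toSheaf (CohB1.ProjSpace N k).ringCatSheaf).map
            ((Scheme.Modules.pullbackPushforwardAdjunction Z.subschemeι).unit.app (Twist.twistProjSpace N k 1))) 0 s) + c • v) →
    Function.Surjective (fun s : Coh.HH (CohB1.ProjSpace N k) (Twist.twistProjSpace N k 2) 0 =>
      @id (Coh.HH (CohB1.ProjSpace N k) ((Scheme.Modules.pushforward Z.subschemeι).obj
        ((Scheme.Modules.pullback Z.subschemeι).obj (Twist.twistProjSpace N k 2))) 0)
          (Sheaf.H.map ((SheafOfModules.toSheaf (CohB1.ProjSpace N k).ringCatSheaf).map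
            ((Scheme.Modules.pullbackPushforwardAdjunction Z.subschemeι).unit.app (Twist.twistProjSpace N k 2))) 0 s)) := by
  letI : (CohB1.ProjSpace N k).Over (Spec (CommRingCat.of k)) := ⟨CohB1.ProjSpace.toSpec N k⟩
  rintro ⟨v, hv⟩ t
  let X := CohB1.ProjSpace N k
  let T := isTerminalTop (α := X.Opens)
  let i0 : Z.subscheme ⟶ Proj (CohB1.polyGrading N k) := Z.subschemeι
  have : IsClosedImmersion i0 := inferInstanceAs (IsClosedImmersion Z.subschemeι)
  have hdim : topologicalKrullDim Z.subscheme ≤ 0 := by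
    have hemb := Z.subschemeι.isClosedEmbedding.isEmbedding.toHomeomorph.isHomeomorph.topologicalKrullDim_eq
    refine hemb.le.trans ?_
    rw [Scheme.IdealSheafData.range_subschemeι]
    exact hZ
  let M1 := (Scheme.Modules.pushforward Z.subschemeι).obj
      ((Scheme.Modules.pullback Z.subschemeι).obj (Twist.twistProjSpace N k 1))
  let M2 := (Scheme.Modules.pushforward Z.subschemeι).obj
      ((Scheme.Modules.pullback Z.subschemeι).obj (Twist.twistProjSpace N k 2))
  let E1 : Coh.HH X (Twist.twistProjSpace N k 1) 0 ≃+ _ := Sheaf.H.equiv₀ (Coh.toAb (Twist.twistProjSpace N k 1)) T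
  let E2 : Coh.HH X (Twist.twistProjSpace N k 2) 0 ≃+ _ := Sheaf.H.equiv₀ (Coh.toAb (Twist.twistProjSpace N k 2)) T
  let F1 : Coh.HH X M1 0 ≃+ _ := Sheaf.H.equiv₀ (Coh.toAb M1) T
  let F2 : Coh.HH X M2 0 ≃+ _ := Sheaf.H.equiv₀ (Coh.toAb M2) T
  have hsmul : ∀ (c : k) (w : Coh.HH X M1 0),
      F1 (c • w) = @HSMul.hSMul Γ(Z.subscheme, Z.subschemeι ⁻¹ᵁ ⊤)
        Γ((Scheme.Modules.pullback Z.subschemeι).obj (Twist.twistProjSpace N k 1), Z.subschemeι ⁻¹ᵁ ⊤) _ _
        (Groth.Agent.EGAProj74.TwoSurj.kappa i0 c) (F1 w) := fun c w => by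
    refine (Sheaf.H.equiv₀_naturality T (Coh.smulAb M1 (Coh.toGlobal (X ↘ Spec (CommRingCat.of k)) c)) w).symm.trans ?_
    rfl
  obtain ⟨s, hs⟩ := Groth.Agent.EGAProj74.TwoSurj.surjective_two i0 hdim
    ⟨F1 v, fun t' => by
      obtain ⟨s, c, h⟩ := hv (F1.symm t')
      refine ⟨E1 s, c, ?_⟩
      have h' := congrArg F1 h
      refine ((F1.apply_symm_apply t').symm.trans h').trans ?_
      refine (map_add F1 _ _).trans ?_
      refine congrArg₂ (· + ·) ?_ (hsmul c v)
      exact (Sheaf.H.equiv₀_naturality T _ s).symm⟩ (F2 t)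
  refine ⟨E2.symm s, F2.injective ?_⟩
  refine ((Sheaf.H.equiv₀_naturality T _ (E2.symm s)).symm.trans ?_)
  rw [show Sheaf.H.equiv₀ _ T (E2.symm s) = s from E2.apply_symm_apply s]
  exact hs

end Groth.Agent.S16305
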