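import Groth.Statements.S16307
import Groth.Agent.Curves2.GenusOne.Normal
import Groth.Agent.Curves2.H1Zero.Castelnuovo
import Groth.Agent.Curves2.H1Zero.Field
import Groth.Agent.Curves2.H1Zero.GenVA
import Groth.Agent.Curves2.VeryAmple.Embed
import Groth.Agent.VarCurve.AmpleDeg
import Groth.Agent.Crv77.InvMod

set_option autoImplicit false
universe u
open CategoryTheory CategoryTheory.Limits AlgebraicGeometry
open Curves

namespace Groth.Agent.S16307

open Groth.Agent Groth.Agent.Crv77



/-- In the case of a separably closed base field and a curve that is not geometrically integral (the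
case proved in the text), let k be a separably closed field and X a Gorenstein genus-one curve over
k: an integral scheme, proper over k, of dimension one, all of whose local rings are Gorenstein,
with dim_k H^1(X, O_X) = 1 (so H^0(X, O_X) = k). Assume that X is not geometrically integral over k.
Let L be an invertible O_X-module of degree at least 3 over k. Then the section ring ⊕_{m ≥ 0}
H^0(X, L^{⊗ m}) is generated in degree one: for every m, the global sections of L^{⊗ m} ⊗ L = L^{⊗
(m+1)} are spanned over H^0(X, O_X) by the sections a ⊗ b with a a global section of L^{⊗ m} and b a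
global section of L; and L is very ample: for some n there is a closed immersion i : X → P^n_k over
k with i^*O(1) isomorphic to L (existence of an isomorphism only). (The published statement is for
an arbitrary base field and any Gorenstein genus-one curve; the text reduces to a separably closed
field, cites the literature for the geometrically integral case, and proves the remaining case,
which is the one stated here.) -/
theorem result (k : Type u) [Field k] (X : Scheme.{u}) [X.Over (Spec (CommRingCat.of k))] [IsSepClosed k]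
    [IsIntegral X] [IsProper (X ↘ (Spec (CommRingCat.of k)))] (hdim : topologicalKrullDim X = 1)
    (hgor : ∀ x : X, LocCoh.IsGorensteinLocalRing (X.presheaf.stalk x)) (hg : Curv2.genus k X = 1)
    (hngi : ¬ GeometricallyIntegral (X ↘ (Spec (CommRingCat.of k))))
    (L : X.Modules) (hL : PicF.IsInvertible L) (hdeg : 3 ≤ Curv2.deg k X L 1) :
    (∀ m : ℕ, Submodule.span (X.ringCatSheaf.obj.obj (Opposite.op ⊤))
        (Set.range (fun p : (CohB1.tensorPow L m).val.obj (Opposite.op ⊤) × L.val.obj (Opposite.op ⊤) =>
          SecTwist.tmul (CohB1.tensorPow L m) L ⊤ p.1 p.2)) = ⊤) ∧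
    ∃ (n : ℕ) (i : X ⟶ CohB1.ProjSpace n k), IsClosedImmersion i ∧
      i ≫ CohB1.ProjSpace.toSpec n k = X ↘ (Spec (CommRingCat.of k)) ∧
      Nonempty ((Scheme.Modules.pullback i).obj (Twist.twistProjSpace n k 1) ≅ L) := by
  haveI := Crv77.isNoetherian_of_proper k X
  haveI : Infinite k := by
    by_contra hfin
    rw [not_infinite_iff_finite] at hfin
    haveI := hfin
    haveI : IsAlgClosed k := IsSepClosed.isAlgClosed_of_perfectField k
    exact not_finite k
  have hC := Crv77.curveCoh_of_proper k X hdim.le
  have hO := Curves2.GenusOne.finrank_h0_eq_one k hdim.le hg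
  have hgg := hC.isGloballyGenerated_of_deg hdim hO hL (by rw [hg]; push_cast; omega)
  haveI := hC.h1_eq_zero_of_deg_gt hdim hO hL (by rw [hg]; push_cast; omega)
  have h1 : Subsingleton (Coh.HH X (CohB1.tensorPow L 1) 1) :=
    (Crv77.hEquiv k (EGA73.tensUnitLeft L) 1).injective.subsingleton
  have hhigh : ∀ m : ℕ, 2 ≤ m → AddSubgroup.closure {t | ∃ (u : Γ(CohB1.tensorPow L m, ⊤)) (s : Γ(L, ⊤)),
      t = Amp73.tm (CohB1.tensorPow L m) L u s} = ⊤ := fun m hm =>
    Curves2.H1Zero.closure_products_eq_top k (Curves2.H1Zero.h2Zero_of_proper k hdim.le) hL hgg h1 hm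
  have hone : AddSubgroup.closure {t | ∃ (u : Γ(CohB1.tensorPow L 1, ⊤)) (s : Γ(L, ⊤)),
      t = Amp73.tm (CohB1.tensorPow L 1) L u s} = ⊤ := by
    obtain ⟨M, hM, ⟨eM⟩⟩ := Crv77.exists_inverse hL
    let e₀ : CohB1.tensorMod M L ≅ Coh.structureModule X := EGA73.tensComm M L ≪≫ eM
    let ψ : CohB1.tensorMod (CohB1.tensorMod M L) L ≅ CohB1.tensorPow L 1 := EGA73.tensIso e₀ (Iso.refl L)
    let χ := Crv77.twistMap ψ.hom L
    haveI : IsIso χ := inferInstanceAs (IsIso ((Crv77.twist L).map ψ.hom))
    have htop := Curves2.GenusOne.span_mul_eq_top k hdim hg hL hdeg hM e₀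
    refine eq_top_iff.2 fun z hzt => ?_
    clear hzt
    obtain ⟨z', rfl⟩ : ∃ z', χ.app ⊤ (Crv77.sec _ z') = z := by
      refine ⟨(Crv77.sec _).symm ((inv χ).app ⊤ z), ?_⟩
      rw [AddEquiv.apply_symm_apply, ← ConcreteCategory.comp_apply, ← Scheme.Modules.Hom.comp_app, IsIso.inv_hom_id]
      rfl
    have hz' := htop.ge (Submodule.mem_top (x := z'))
    induction hz' using Submodule.span_induction with
    | mem w hw =>
      obtain ⟨a, v, rfl⟩ := hw
      refine AddSubgroup.subset_closure ⟨ψ.hom.app ⊤ (Crv77.sec _ v), Crv77.sec L a, ?_⟩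
      rw [show Curves2.Pencil.mulH k L _ 0 a v = Crv77.hmap k (Curves2.H1Zero.tmRight (Crv77.sec L a) _) 0 v from rfl,
        Crv77.sec_hmap, Curves2.H1Zero.tmRight_app, Amp73.res_self, Crv77.twist_map_tm]
    | zero => rw [map_zero, map_zero]; exact zero_mem _
    | add p q _ _ hp hq => rw [map_add, map_add]; exact add_mem hp hq
    | smul c p _ hp =>
      rw [Crv77.sec_smul, Scheme.Modules.Hom.app_smul]
      revert hp
      generalize χ.app ⊤ (Crv77.sec _ p) = y
      intro hp
      induction hp using AddSubgroup.closure_induction with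
      | mem y hy =>
        obtain ⟨u, s, rfl⟩ := hy
        refine AddSubgroup.subset_closure ⟨(show Γ(X, ⊤) from Coh.toGlobal (X ↘ Spec (CommRingCat.of k)) c) • u, s, ?_⟩
        rw [Amp73.tm_smul_left]
      | zero => rw [smul_zero]; exact zero_mem _
      | add p q _ _ hp hq => rw [smul_add]; exact add_mem hp hq
      | neg p _ hp => rw [smul_neg]; exact neg_mem hp
  have hgen : Curves2.H1Zero.DegOneGen L := fun m hm => by
    rcases Nat.lt_or_ge m 2 with h | h
    · obtain rfl : m = 1 := by omega
      exact hone
    · exact hhigh m h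
  refine ⟨fun m => eq_top_iff.2 fun z hzt => ?_, ?_⟩
  · clear hzt
    rcases Nat.eq_zero_or_pos m with rfl | hm
    · haveI := Crv77.isIso_unitTm hL
      refine Submodule.subset_span ⟨((1 : Γ(X, ⊤)), (inv (Crv77.unitTm L)).app ⊤ z), ?_⟩
      refine (Crv77.unitTm_app L ⊤ _).symm.trans ?_
      rw [← ConcreteCategory.comp_apply, ← Scheme.Modules.Hom.comp_app, IsIso.inv_hom_id]
      rfl
    · have hz : z ∈ AddSubgroup.closure {t | ∃ (u : Γ(CohB1.tensorPow L m, ⊤)) (s : Γ(L, ⊤)),
          t = Amp73.tm (CohB1.tensorPow L m) L u s} := by rw [hgen m hm]; trivial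
      induction hz using AddSubgroup.closure_induction with
      | mem y hy =>
        obtain ⟨u, s, rfl⟩ := hy
        exact Submodule.subset_span ⟨(u, s), rfl⟩
      | zero => exact zero_mem _
      | add p q _ _ hp hq => exact add_mem hp hq
      | neg p _ hp => exact neg_mem hp
  · exact Curves2.VeryAmple.exists_closedImmersion_projSpace k (X ↘ Spec (CommRingCat.of k)) L
      (Curves2.H1Zero.isRelVeryAmplePn_of_degOne k (X ↘ Spec (CommRingCat.of k))
        (VarCurve.isAmple_of_deg_pos (k := k) hdim hL (by omega)) hgen)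

end Groth.Agent.S16307
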