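import Groth.Statements.S16309
import Groth.Agent.Curves2.H1Zero.Castelnuovo

set_option autoImplicit false
universe u
open CategoryTheory CategoryTheory.Limits AlgebraicGeometry
open Curves

namespace Groth.Agent.S16309

/-- Let k be a field and X a proper scheme over k of dimension one (not assumed reduced or irreducible)
with H^1(X, O_X) = 0 and H^0(X, O_X) = k, and let L be an ample invertible O_X-module. Then the
section ring ⊕_{n ≥ 0} H^0(X, L^{⊗ n}) is generated by H^0(X, L) as a k-algebra: for every n, the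
global sections of L^{⊗ n} ⊗ L = L^{⊗ (n+1)} are spanned over H^0(X, O_X) = k by the sections a ⊗ b
with a a global section of L^{⊗ n} and b a global section of L. -/
theorem result (k : Type u) [Field k] (X : Scheme.{u}) [X.Over (Spec (CommRingCat.of k))]
    [IsProper (X ↘ (Spec (CommRingCat.of k)))] (hdim : topologicalKrullDim X = 1)
    (h1 : Subsingleton (Coh.HH X (Coh.structureModule X) 1))
    (h0 : Module.finrank k (Coh.HH X (Coh.structureModule X) 0) = 1)
    (L : X.Modules) (hA : CohB1.IsAmple L) (n : ℕ) :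
    Submodule.span (X.ringCatSheaf.obj.obj (Opposite.op ⊤))
        (Set.range (fun p : (CohB1.tensorPow L n).val.obj (Opposite.op ⊤) × L.val.obj (Opposite.op ⊤) =>
          SecTwist.tmul (CohB1.tensorPow L n) L ⊤ p.1 p.2)) = ⊤ := by
  haveI := Crv77.isNoetherian_of_proper k X
  have h2 := Curves2.H1Zero.h2Zero_of_proper k hdim.le
  have hgg := Curves2.H1Zero.isGloballyGenerated_of_nef k X hdim.le h1 hA.1
    (Curves2.H1Zero.nef_of_isAmple hA)
  refine eq_top_iff.2 fun v _ => ?_
  rcases Nat.eq_zero_or_pos n with rfl | hn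
  · haveI := Crv77.isIso_unitTm hA.1
    obtain ⟨y, rfl⟩ := ((ConcreteCategory.isIso_iff_bijective ((Crv77.unitTm L).app ⊤)).1 inferInstance).2 v
    exact Submodule.subset_span ⟨((1 : Γ(X, ⊤)), y), (Crv77.unitTm_app L ⊤ y).symm⟩
  have h := (Curves2.H1Zero.closure_products_eq_top k h2 hA.1 hgg (m := 0) h1 hn).ge
    (show v ∈ (⊤ : AddSubgroup _) from trivial)
  refine (AddSubgroup.closure_le (K := (Submodule.span _ _).toAddSubgroup)).2 ?_ h
  rintro _ ⟨u, s, rfl⟩
  exact Submodule.subset_span ⟨(u, s), rfl⟩

end Groth.Agent.S16309
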