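import Groth.Statements.S16311
import Groth.Agent.Cvg52.Basic

set_option autoImplicit false
universe u
open W4c3irrattreebun

namespace Groth.Agent.S16311

/-- For a field extension K/k with field of constants k' (the relative algebraic closure of k in K), the
separable covering gonality of K over k equals that of K over k'. (The published statement takes K
to be an algebraic function field over k; this row allows any field extension K/k.) -/
theorem result (k K : Type u) [Field k] [Field K] [Algebra k K] :
    W4c3irrattreebun.scvg k K = W4c3irrattreebun.scvg (algebraicClosure k K) K := by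
  refine Groth.Agent.Cvg52.sInf_eq ?_ ?_
  · rintro e ⟨D, hD⟩
    obtain ⟨D', h⟩ := Groth.Agent.Cvg52.exists_restrict k K D
    exact ⟨D', h hD⟩
  · rintro e ⟨D, hD⟩
    obtain ⟨e', he, D', h⟩ := Groth.Agent.Cvg52.exists_extend k K D
    exact ⟨e', ⟨D', h hD⟩, he⟩

end Groth.Agent.S16311
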