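import Groth.Statements.S16312
import Mathlib.Tactic
import Mathlib.Topology.MetricSpace.Bounded
import Mathlib.Analysis.InnerProductSpace.PiL2

set_option autoImplicit false
universe u
open W4c3irrattreebun

namespace Groth.Agent.S16312

/-- Let N be a closed cone in real n-space, f a function continuous on N, positive at the nonzero points
of N and homogeneous of degree one under scaling by nonnegative reals, and Λ a discrete additive
subgroup. Then for every real c the set of points H of Λ lying in N with f(H) ≤ c is finite. (The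
published statement takes Λ to be a lattice; this row allows any discrete additive subgroup.) -/
theorem result (n : ℕ)
    (N : Set (EuclideanSpace ℝ (Fin n))) (hN : IsClosed N)
    (hcone : ∀ x ∈ N, ∀ r : ℝ, 0 ≤ r → r • x ∈ N)
    (f : EuclideanSpace ℝ (Fin n) → ℝ) (hf : ContinuousOn f N)
    (hpos : ∀ x ∈ N, x ≠ 0 → 0 < f x)
    (hhom : ∀ x ∈ N, ∀ r : ℝ, 0 ≤ r → f (r • x) = r * f x)
    (Λ : Submodule ℤ (EuclideanSpace ℝ (Fin n))) [DiscreteTopology Λ] (c : ℝ) :
    ({x : EuclideanSpace ℝ (Fin n) | x ∈ N ∧ f x ≤ c} ∩ (Λ : Set (EuclideanSpace ℝ (Fin n)))).Finite := by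
  classical
  by_cases hne : (N ∩ Metric.sphere (0 : EuclideanSpace ℝ (Fin n)) 1).Nonempty
  · obtain ⟨x₀, hx₀, hmin⟩ := ((isCompact_sphere (0 : EuclideanSpace ℝ (Fin n)) 1).inter_left hN).exists_isMinOn hne
      (hf.mono Set.inter_subset_left)
    have hδ : 0 < f x₀ := hpos x₀ hx₀.1 fun h => by
      have := hx₀.2
      simp [h] at this
    haveI : DiscreteTopology Λ.toAddSubgroup := inferInstanceAs (DiscreteTopology Λ)
    refine (Metric.finite_isBounded_inter_isClosed (K := Metric.closedBall 0 (max c 0 / f x₀)) (s := (Λ.toAddSubgroup : Set (EuclideanSpace ℝ (Fin n)))) DiscreteTopology.isDiscrete Metric.isBounded_closedBall inferInstance).subset ?_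
    rintro x ⟨⟨hxN, hxc⟩, hxL⟩
    refine ⟨?_, hxL⟩
    rw [mem_closedBall_zero_iff, le_div_iff₀ hδ]
    rcases eq_or_ne x 0 with rfl | hx0
    · simp
    have hnx : 0 < ‖x‖ := norm_pos_iff.mpr hx0
    have hy : ‖x‖⁻¹ • x ∈ N ∩ Metric.sphere (0 : EuclideanSpace ℝ (Fin n)) 1 :=
      ⟨hcone x hxN _ (inv_nonneg.mpr hnx.le), by simp [norm_smul, hnx.ne']⟩
    have h := hmin hy
    have h' : f x₀ ≤ f (‖x‖⁻¹ • x) := h
    rw [hhom x hxN _ (inv_nonneg.mpr hnx.le), le_inv_mul_iff₀ hnx] at h'
    exact h'.trans (hxc.trans (le_max_left _ _))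
  · refine (Set.finite_singleton (0 : EuclideanSpace ℝ (Fin n))).subset ?_
    rintro x ⟨⟨hxN, -⟩, -⟩
    by_contra hx0
    have hnx : 0 < ‖x‖ := norm_pos_iff.mpr hx0
    exact hne ⟨‖x‖⁻¹ • x, hcone x hxN _ (inv_nonneg.mpr hnx.le), by simp [norm_smul, hnx.ne']⟩

end Groth.Agent.S16312
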