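import Groth.Statements.S16314
import Groth.Agent.Cvg52.Ext
import Mathlib.RingTheory.TensorProduct.Basic

set_option autoImplicit false
universe u
open scoped TensorProduct
open W4c3irrattreebun

namespace Groth.Agent.S16314

theorem sInf_eq' {S T : Set ℕ} (h1 : ∀ e ∈ T, ∃ e' ∈ S, e' ≤ e) (h2 : ∀ e ∈ S, ∃ e' ∈ T, e' ≤ e) :
    sInf S = sInf T := by
  rcases S.eq_empty_or_nonempty with rfl | hS
  · rcases T.eq_empty_or_nonempty with rfl | ⟨e, he⟩
    · rfl
    · obtain ⟨e', he', -⟩ := h1 e he
      exact he'.elim
  · obtain ⟨e', he', hle⟩ := h2 _ (Nat.sInf_mem hS)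
    obtain ⟨e'', he'', hle'⟩ := h1 _ (Nat.sInf_mem ⟨e', he'⟩)
    exact le_antisymm ((Nat.sInf_le he'').trans hle') ((Nat.sInf_le he').trans hle)

/-- Let K/k be a finitely generated field extension whose field of constants is k, let L/k be an
algebraic separable extension, and let K' be a field which is the fraction field of K ⊗_k L, the
L-algebra structure of K' being the one through the tensor product. Then the separable covering
gonality of K' over L equals that of K over k. (The published statement allows any separable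
extension L/k, algebraic or not; this row assumes L/k algebraic and separable.) -/
theorem result (k K L K' : Type u) [Field k] [Field K] [Field L]
    [Field K'] [Algebra k K] [Algebra k L] [Algebra.IsSeparable k L]
    (hfg : (⊤ : IntermediateField k K).FG) (hconst : algebraicClosure k K = ⊥)
    [Algebra (K ⊗[k] L) K'] [IsFractionRing (K ⊗[k] L) K'] [Algebra L K']
    (hL : ∀ x : L, algebraMap L K' x = algebraMap (K ⊗[k] L) K' ((1 : K) ⊗ₜ[k] x)) :
    W4c3irrattreebun.scvg L K' = W4c3irrattreebun.scvg k K := by
  letI : Algebra K K' := ((algebraMap (K ⊗[k] L) K').comp Algebra.TensorProduct.includeLeftRingHom).toAlgebra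
  letI : Algebra k K' := ((algebraMap K K').comp (algebraMap k K)).toAlgebra
  haveI : IsScalarTower k K K' := IsScalarTower.of_algebraMap_eq fun _ => rfl
  haveI : IsScalarTower k L K' := IsScalarTower.of_algebraMap_eq fun x => by
    rw [hL]
    show algebraMap (K ⊗[k] L) K' (algebraMap k K x ⊗ₜ[k] (1 : L)) = _
    congr 1
    rw [Algebra.algebraMap_eq_smul_one, Algebra.algebraMap_eq_smul_one, TensorProduct.smul_tmul]
  have hgen : IntermediateField.adjoin K (Set.range (algebraMap L K')) = ⊤ := by
    set A := IntermediateField.adjoin K (Set.range (algebraMap L K'))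
    have hA : ∀ a : K ⊗[k] L, algebraMap (K ⊗[k] L) K' a ∈ A := fun a => by
      induction a using TensorProduct.induction_on with
      | zero => rw [map_zero]; exact zero_mem A
      | tmul x y =>
        rw [show x ⊗ₜ[k] y = (x ⊗ₜ[k] (1 : L)) * ((1 : K) ⊗ₜ[k] y) by
          rw [Algebra.TensorProduct.tmul_mul_tmul, mul_one, one_mul], map_mul]
        exact mul_mem (A.algebraMap_mem x) (by rw [← hL]; exact IntermediateField.subset_adjoin _ _ ⟨y, rfl⟩)
      | add a b ha hb => rw [map_add]; exact add_mem ha hb
    rw [eq_top_iff]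
    intro z _
    obtain ⟨a, b, rfl⟩ := IsLocalization.exists_mk'_eq (nonZeroDivisors (K ⊗[k] L)) z
    have h : IsLocalization.mk' K' a b = algebraMap _ K' a / algebraMap _ K' (b : K ⊗[k] L) := by
      rw [eq_div_iff (IsLocalization.map_units K' b).ne_zero, IsLocalization.mk'_spec]
    rw [h]
    exact div_mem (hA a) (hA b)
  refine sInf_eq' ?_ ?_
  · rintro e ⟨D, hD⟩
    obtain ⟨e', hle, D', hD'⟩ := Groth.Agent.Cvg52.exists_up k K L K' hgen D hD
    exact ⟨e', ⟨D', hD'⟩, hle⟩
  · rintro e ⟨D, hD⟩
    obtain ⟨e', hle, D', hD'⟩ := Groth.Agent.Cvg52.exists_down k K L K' hfg hgen D hD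
    exact ⟨e', ⟨D', hD'⟩, hle⟩

end Groth.Agent.S16314
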