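import Groth.Statements.S16319
import Groth.Agent.Curves2.Pencil.BpfTrick
import Groth.Agent.Curves2.CurveToolkit
import Groth.Agent.Crv77.InvMod
import Groth.Agent.Crv77.DegreeInt

set_option autoImplicit false
open CategoryTheory CategoryTheory.Limits AlgebraicGeometry
universe u
open Curves

namespace Groth.Agent.S16319

/-- Let k be an algebraically closed field of characteristic zero and X a smooth proper integral curve
over k (integral, proper and smooth over k, of dimension one) of genus 9 whose Clifford index is 3: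
some invertible module M with h^0(M) ≥ 2 and h^1(M) ≥ 2 has deg M − 2(h^0(M) − 1) = 3, and every
invertible module M with h^0(M) ≥ 2 and h^1(M) ≥ 2 has deg M − 2(h^0(M) − 1) ≥ 3 (degrees are χ(M) −
χ(O_X); in particular X is not hyperelliptic); let H be an invertible module of degree 7 with h^0(H)
= 3 (a g^2_7) and D a globally generated invertible module of degree 5 with h^0(D) = 2 (a
base-point-free complete g^1_5). Then every module N with D ⊗ N ≅ H has h^0(N) = 1: the difference
of the two series is the class of an effective divisor of degree 2 with a one-dimensional space of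
sections, so the pencil is cut out by the lines through a double point of the plane model of degree
7. -/
theorem result
    (k : Type u) [Field k] [IsAlgClosed k] [CharZero k]
    (X : Scheme.{u}) [X.Over (Spec (CommRingCat.of k))] [IsIntegral X]
    [IsProper (X ↘ Spec (CommRingCat.of k))] [Smooth (X ↘ Spec (CommRingCat.of k))]
    (hdim : topologicalKrullDim X = 1) (hg : Curv2.genus k X = 9)
    (hex : ∃ M : X.Modules, PicF.IsInvertible M ∧ 2 ≤ Module.finrank k (Coh.HH X M 0) ∧
      2 ≤ Module.finrank k (Coh.HH X M 1) ∧ Curv2.deg k X M 1 = 2 * (Module.finrank k (Coh.HH X M 0) : ℤ) + 1)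
    (hmin : ∀ M : X.Modules, PicF.IsInvertible M → 2 ≤ Module.finrank k (Coh.HH X M 0) →
      2 ≤ Module.finrank k (Coh.HH X M 1) → 2 * (Module.finrank k (Coh.HH X M 0) : ℤ) + 1 ≤ Curv2.deg k X M 1)
    (H : X.Modules) (hH : PicF.IsInvertible H) (hdH : Curv2.deg k X H 1 = 7)
    (h0H : Module.finrank k (Coh.HH X H 0) = 3)
    (D : X.Modules) (hD : PicF.IsInvertible D) (hgD : Curv2.IsGloballyGenerated D)
    (hdD : Curv2.deg k X D 1 = 5) (h0D : Module.finrank k (Coh.HH X D 0) = 2)
    (N : X.Modules) (e : CohB1.tensorMod D N ≅ H) :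
    Module.finrank k (Coh.HH X N 0) = 1 := by
  haveI := Crv77.isNoetherian_of_proper k X
  have hC := Crv77.curveCoh_of_proper k X hdim.le
  have hO := Curves2.finrank_h0_structureModule (k := k) (X := X)
  obtain ⟨M, hM, ⟨eM⟩⟩ := Crv77.exists_inverse hD
  let Q := CohB1.tensorMod H M
  have hQ : PicF.IsInvertible Q := EGA73.isInvertible_tensorMod hH hM
  let eN : N ≅ Q := (EGA73.tensUnitLeft N).symm ≪≫ EGA73.tensIso (eM.symm ≪≫ EGA73.tensComm D M) (Iso.refl N) ≪≫
    EGA73.tensAssoc' M D N ≪≫ EGA73.tensIso (Iso.refl M) e ≪≫ EGA73.tensComm M H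
  let eQ : CohB1.tensorMod Q D ≅ H := EGA73.tensAssoc' H M D ≪≫
    EGA73.tensIso (Iso.refl H) (EGA73.tensComm M D ≪≫ eM) ≪≫ EGA73.tensUnitRight H
  have hdQ : Curv2.deg k X Q 1 = 2 := by
    have h1 := hC.deg_tensorMod hdim.le hQ hD
    rw [Curves2.deg_congr (k := k) eQ, hdH, hdD] at h1
    omega
  have htr := Curves2.Pencil.two_mul_h0_le k hdim.le hD hgD h0D hQ
  rw [Curves2.finrank_congr (k := k) eQ 0, Curves2.finrank_congr (k := k) (EGA73.tensIso eQ (Iso.refl D)) 0, h0H] at htr
  have hHD := EGA73.isInvertible_tensorMod hH hD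
  have hdHD : Curv2.deg k X (CohB1.tensorMod H D) 1 = 12 := by
    rw [hC.deg_tensorMod hdim.le hH hD, hdH, hdD]; norm_num
  have hr1 := hC.riemann hO (Crv77.isCoh_of_isInvertible hHD)
  have hr2 := hC.riemann hO (Crv77.isCoh_of_isInvertible hQ)
  simp only [Crv77.h, hdHD, hdQ, hg] at hr1 hr2
  rw [Curves2.finrank_congr (k := k) eN 0]
  have hm1 := hmin _ hHD
  have hm2 := hmin _ hQ
  rw [hdHD] at hm1
  rw [hdQ] at hm2
  push_cast at *
  rcases Nat.lt_or_ge (Module.finrank k (Coh.HH X (CohB1.tensorMod H D) 0)) 6 with h | h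
  · rcases Nat.lt_or_ge (Module.finrank k (Coh.HH X Q 0)) 2 with h' | h'
    · omega
    · have := hm2 h' (by omega)
      omega
  · have := hm1 (by omega) (by omega)
    omega

end Groth.Agent.S16319
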