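import Groth.Statements.S1632
import Groth.Agent.Res23.NormalSections
import Groth.Agent.Res23.NormalSub
import Groth.Agent.LimTop61.NormalizationBirational
import Groth.Agent.LimTop61.SteinFinite
import Groth.Agent.CAlg6.RegularNormal
import Groth.Agent.Ega11.UnibranchApp
import Groth.Agent.S1600
import Groth.Agent.S1599
import Groth.Agent.S1597

set_option autoImplicit false
universe u
open CategoryTheory CategoryTheory.Limits AlgebraicGeometry
open Resolve

namespace Groth.Agent.S1632

open scoped TensorProduct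

open CategoryTheory.Limits in
theorem isNormalRing_tensor_sections (A : Type u) [CommRing A] [IsLocalRing A] [IsNoetherianRing A]
    (X : Scheme.{u}) (f : X ⟶ Spec (CommRingCat.of A)) [IsProper f]
    (hreg : ∀ x : X, IsRegularLocalRing (X.presheaf.stalk x))
    (C : Type u) [CommRing C] [Algebra A C] [Module.Finite A C] (e : C ≃+* Γ(X, ⊤))
    (he : ∀ a, e (algebraMap A C a) = f.appTop ((Scheme.ΓSpecIso (CommRingCat.of A)).inv a)) :
    EGA4.IsNormalRing (Curv2.cpl A ⊗[A] C) := by
  let ρ : A →+* Curv2.cpl A := algebraMap A (Curv2.cpl A)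
  let g := Spec.map (CommRingCat.ofHom ρ)
  haveI : Flat g := by
    rw [HasRingHomProperty.Spec_iff (P := @Flat)]
    exact RingHom.flat_algebraMap_iff.2 inferInstance
  haveI : IsNoetherianRing (Curv2.cpl A) :=
    Groth.Agent.CAlg1.isNoetherianRing_adicCompletion _ (IsNoetherian.noetherian _)
  haveI : IsNoetherianRing (CommRingCat.of (Curv2.cpl A)) := ‹IsNoetherianRing (Curv2.cpl A)›
  haveI : IsNoetherianRing (CommRingCat.of A) := ‹IsNoetherianRing A›
  let g' := Curv2.bcCplFst A f
  let f' := Curv2.bcCplSnd A f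
  have hc : IsPullback g' f' f g := IsPullback.of_hasPullback f g
  haveI : IsLocallyNoetherian X := LocallyOfFiniteType.isLocallyNoetherian f
  haveI : CompactSpace X := QuasiCompact.compactSpace_of_compactSpace f
  haveI : IsLocallyNoetherian (Curv2.bcCpl A f) := LocallyOfFiniteType.isLocallyNoetherian f'
  haveI : CompactSpace ↥(Curv2.bcCpl A f) := QuasiCompact.compactSpace_of_compactSpace f'
  haveI : AlgebraicGeometry.IsNoetherian (Curv2.bcCpl A f) := {}
  haveI : QuasiSeparatedSpace X := inferInstance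
  have eU : (⊤ : X.Opens) ≤ f ⁻¹ᵁ ⊤ := le_top
  have eW : (⊤ : (Spec (CommRingCat.of (Curv2.cpl A))).Opens) ≤ g ⁻¹ᵁ ⊤ := le_top
  have hP : (⊤ : (Curv2.bcCpl A f).Opens) = g' ⁻¹ᵁ ⊤ ⊓ f' ⁻¹ᵁ ⊤ := by simp
  have hpush := (isIso_pushoutSection_iff hc eW eU (UY := ⊤) hP).mp
    (isIso_pushoutSection_of_isQuasiSeparated_of_flat_right hc eW eU hP (isAffineOpen_top _) (isAffineOpen_top _)
      CompactSpace.isCompact_univ (isQuasiSeparated_univ))
  let β : C →+* Γ(Curv2.bcCpl A f, ⊤) := (g'.appTop).hom.comp e.toRingHom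
  let δ : Curv2.cpl A →+* Γ(Curv2.bcCpl A f, ⊤) :=
    ((Scheme.ΓSpecIso (CommRingCat.of (Curv2.cpl A))).inv ≫ f'.appTop).hom
  have hnat : CommRingCat.ofHom ρ ≫ (Scheme.ΓSpecIso (CommRingCat.of (Curv2.cpl A))).inv =
      (Scheme.ΓSpecIso (CommRingCat.of A)).inv ≫ g.appTop := Scheme.ΓSpecIso_inv_naturality _
  have hfe : CommRingCat.ofHom (algebraMap A C) ≫ e.toCommRingCatIso.hom =
      (Scheme.ΓSpecIso (CommRingCat.of A)).inv ≫ f.appTop := by
    ext a; exact he a
  have hsq : IsPushout (CommRingCat.ofHom (algebraMap A C)) (CommRingCat.ofHom ρ) (CommRingCat.ofHom β) (CommRingCat.ofHom δ) := by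
    have aux : ∀ {P Q : Scheme.{u}} (h : P ⟶ Q) (hh : (⊤ : P.Opens) ≤ h ⁻¹ᵁ ⊤), h.appLE ⊤ ⊤ hh = h.appTop :=
      fun h hh => (Scheme.Hom.app_eq_appLE h (U := ⊤)).symm
    refine IsPushout.of_iso hpush (Scheme.ΓSpecIso (CommRingCat.of A)) e.toCommRingCatIso.symm
      (Scheme.ΓSpecIso (CommRingCat.of (Curv2.cpl A))) (Iso.refl _) ?_ ?_ ?_ ?_
    · rw [Iso.symm_hom, Iso.comp_inv_eq, Category.assoc, hfe, Iso.hom_inv_id_assoc, aux]
    · rw [← Iso.eq_comp_inv, Category.assoc, hnat, Iso.hom_inv_id_assoc, aux]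
    · rw [aux]; ext c; simp [β]
    · rw [aux]; ext c; simp [δ]
  let e' : Curv2.cpl A ⊗[A] C ≃+* Γ(Curv2.bcCpl A f, ⊤) :=
    ((CommRingCat.isPushout_tensorProduct A (Curv2.cpl A) C).flip.isoIsPushout _ _ hsq).commRingCatIsoToRingEquiv
  haveI : IsNoetherianRing (Curv2.cpl A ⊗[A] C) :=
    isNoetherianRing_iff.2 (isNoetherian_of_tower (Curv2.cpl A) inferInstance)
  haveI : IsNoetherianRing Γ(Curv2.bcCpl A f, ⊤) := isNoetherianRing_of_ringEquiv _ e'
  have hY : Pi1.IsNormalScheme (Curv2.bcCpl A f) := fun y => by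
    haveI := (Groth.Agent.S1597.result A X f).1 hreg y
    exact ⟨Groth.Agent.CAlg1.isDomain_regular _, Groth.Agent.CAlg6.isIntegrallyClosed_of_regular _⟩
  exact Groth.Agent.EGA4H10.isNormalRing_of_ringEquiv e'.symm
    (Groth.Agent.Res23.NormalSections.isNormalRing_appTop hY)


/-- Let (A, m) be a Noetherian local domain such that Spec A admits an alteration X → Spec A with X
regular, and let B be the integral closure of A in its fraction field. Then the m-adic completion of
B is a normal ring. -/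
theorem result (A : Type u) [CommRing A] [IsDomain A] [IsLocalRing A] [IsNoetherianRing A]
    (X : Scheme.{u}) (f : X ⟶ Spec (CommRingCat.of A)) (hf : Curv2.IsAlteration f)
    (hreg : ∀ x : X, IsRegularLocalRing (X.presheaf.stalk x)) :
    EGA4.IsNormalRing (AdicCompletion ((IsLocalRing.maximalIdeal A).map
      (algebraMap A (integralClosure A (FractionRing A)))) (integralClosure A (FractionRing A))) := by
  obtain ⟨hB, -⟩ := Groth.Agent.S1600.result A X f hf hreg
  obtain ⟨hp, hX, hY, hd, -⟩ := hf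
  haveI := hp
  haveI := hX
  haveI := hd
  haveI : IsNoetherianRing (CommRingCat.of A) := ‹IsNoetherianRing A›
  let K := FractionRing A
  let B := integralClosure A K
  haveI : Module.Finite A B := hB
  let φ : A →+* Γ(X, ⊤) := ((Scheme.ΓSpecIso (CommRingCat.of A)).inv ≫ f.appTop).hom
  letI : Algebra A Γ(X, ⊤) := φ.toAlgebra
  haveI : Module.Finite A Γ(X, ⊤) := Groth.Agent.LimTop61.finite_appTop_of_isProper (CommRingCat.of A) f
  have hη : genericPoint X ∈ (⊤ : X.Opens) := trivial
  let γ : Γ(X, ⊤) →+* X.functionField := (X.presheaf.germ ⊤ (genericPoint X) hη).hom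
  have hγ : Function.Injective γ := germ_injective_of_isIntegral X (genericPoint X) hη
  have hinj : Function.Injective φ := by
    rw [injective_iff_map_eq_zero]
    intro a ha
    let s : Γ(Spec (CommRingCat.of A), ⊤) := (Scheme.ΓSpecIso (CommRingCat.of A)).inv a
    have hs : f.appTop s = 0 := ha
    have h1 : f ⁻¹ᵁ (Spec (CommRingCat.of A)).basicOpen s = ⊥ := by
      refine (Scheme.preimage_basicOpen f s).trans ?_
      change X.basicOpen (f.appTop s) = ⊥
      rw [hs]
      exact Scheme.basicOpen_zero X _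
    have h2 : (Spec (CommRingCat.of A)).basicOpen s = ⊥ := by
      by_contra h
      obtain ⟨y, hy⟩ := (TopologicalSpace.Opens.ne_bot_iff_nonempty _).1 h
      obtain ⟨x, hx⟩ := f.denseRange.exists_mem_open ((Spec (CommRingCat.of A)).basicOpen s).isOpen ⟨y, hy⟩
      have : x ∈ f ⁻¹ᵁ (Spec (CommRingCat.of A)).basicOpen s := hx
      rw [h1] at this
      exact this
    haveI := hY
    have h3 : s = 0 := (AlgebraicGeometry.basicOpen_eq_bot_iff s).1 h2
    apply (ConcreteCategory.bijective_of_isIso (Scheme.ΓSpecIso (CommRingCat.of A)).inv).1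
    rw [map_zero]
    exact h3
  letI : Algebra A X.functionField := (γ.comp φ).toAlgebra
  let ι : K →ₐ[A] X.functionField :=
    IsFractionRing.liftAlgHom (g := Algebra.ofId A X.functionField) (hγ.comp hinj)
  let γ' : Γ(X, ⊤) →ₐ[A] X.functionField := AlgHom.mk γ fun _ => rfl
  have hN : ∀ x : X, IsIntegrallyClosed (X.presheaf.stalk x) := fun x =>
    haveI := hreg x
    Groth.Agent.CAlg6.isIntegrallyClosed_of_regular _
  have hmem : ∀ z : B, ι (z : K) ∈ γ'.range := fun z => by
    obtain ⟨p, hp, hpz⟩ := z.2.map ι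
    obtain ⟨r, hr⟩ := Groth.Agent.LimTop61.exists_germ_eq_of_isIntegralElem_open hN ⊤ hη
      (ι (z : K)) ⟨p.map φ, hp.map _, by rw [Polynomial.eval₂_map]; exact hpz⟩
    exact ⟨r, hr⟩
  let j : B →ₐ[A] Γ(X, ⊤) :=
    (AlgEquiv.ofInjective γ' hγ).symm.toAlgHom.comp ((ι.comp B.val).codRestrict γ'.range hmem)
  have hj : Function.Injective j := fun a b h => by
    have h' := congrArg Subtype.val ((AlgEquiv.ofInjective γ' hγ).symm.injective h)
    exact Subtype.ext (ι.toRingHom.injective h')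
  letI : Algebra B Γ(X, ⊤) := j.toRingHom.toAlgebra
  haveI : IsScalarTower A B Γ(X, ⊤) := .of_algebraMap_eq fun a => (j.commutes a).symm
  haveI : Algebra.IsAlgebraic A K := IsLocalization.isAlgebraic _ (nonZeroDivisors A)
  haveI : IsFractionRing B K := integralClosure.isFractionRing_of_algebraic fun x hx => IsFractionRing.to_map_eq_zero_iff.1 hx
  haveI : IsIntegrallyClosed B := (isIntegrallyClosed_iff K).2 fun {x} hx => ⟨⟨x, isIntegral_trans x hx⟩, rfl⟩
  obtain ⟨eC⟩ := Groth.Agent.Res23.NormalSub.exists_tensor_equiv A Γ(X, ⊤)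
  refine Groth.Agent.S1599.result A B Γ(X, ⊤) hj (Groth.Agent.Ega11.UnibranchApp.isNormalRing_of_isIntegrallyClosed B) ?_
  exact Groth.Agent.EGA4H10.isNormalRing_of_ringEquiv eC
    (isNormalRing_tensor_sections A X f hreg Γ(X, ⊤) (RingEquiv.refl _) fun a => rfl)

end Groth.Agent.S1632
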