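import Groth.Statements.S16320
import Groth.Agent.Curves2.Pencil.BpfTrick
import Groth.Agent.Curves2.CurveToolkit
import Groth.Agent.Crv77.InvMod
import Groth.Agent.Crv77.DegreeInt

set_option autoImplicit false
open CategoryTheory CategoryTheory.Limits AlgebraicGeometry
universe u
open Curves

namespace Groth.Agent.S16320

/-- Let k be an algebraically closed field of characteristic zero and X a smooth proper integral curve
over k (integral, proper and smooth over k, of dimension one) of genus 9 whose Clifford index is 3: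
some invertible module M with h^0(M) ≥ 2 and h^1(M) ≥ 2 has deg M − 2(h^0(M) − 1) = 3, and every
invertible module M with h^0(M) ≥ 2 and h^1(M) ≥ 2 has deg M − 2(h^0(M) − 1) ≥ 3 (degrees are χ(M) −
χ(O_X); in particular X is not hyperelliptic), and let D be a globally generated invertible module
of degree 5 with h^0(D) = 2 (a base-point-free complete g^1_5). Then h^0(D^{⊗2}) is 3 or 4,
h^0(D^{⊗3}) is 7 or 8, and h^0(D^{⊗3}) = 7 whenever h^0(D^{⊗2}) = 3. (The published statement says,
equivalently by Riemann–Roch applied to the numbers h^0(K − iD) − h^0(K − (i+1)D) for a canonical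
module K, that the rational normal fourfold scroll formed by the linear spans of the pencil's
divisors in the canonical embedding has type S(2,1,1,1), S(2,2,1,0) or S(3,1,1,0); the scroll itself
is not restated here.) -/
theorem result
    (k : Type u) [Field k] [IsAlgClosed k] [CharZero k]
    (X : Scheme.{u}) [X.Over (Spec (CommRingCat.of k))] [IsIntegral X]
    [IsProper (X ↘ Spec (CommRingCat.of k))] [Smooth (X ↘ Spec (CommRingCat.of k))]
    (hdim : topologicalKrullDim X = 1) (hg : Curv2.genus k X = 9)
    (hex : ∃ M : X.Modules, PicF.IsInvertible M ∧ 2 ≤ Module.finrank k (Coh.HH X M 0) ∧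
      2 ≤ Module.finrank k (Coh.HH X M 1) ∧ Curv2.deg k X M 1 = 2 * (Module.finrank k (Coh.HH X M 0) : ℤ) + 1)
    (hmin : ∀ M : X.Modules, PicF.IsInvertible M → 2 ≤ Module.finrank k (Coh.HH X M 0) →
      2 ≤ Module.finrank k (Coh.HH X M 1) → 2 * (Module.finrank k (Coh.HH X M 0) : ℤ) + 1 ≤ Curv2.deg k X M 1)
    (D : X.Modules) (hD : PicF.IsInvertible D) (hgD : Curv2.IsGloballyGenerated D)
    (hdD : Curv2.deg k X D 1 = 5) (h0D : Module.finrank k (Coh.HH X D 0) = 2) :
    (Module.finrank k (Coh.HH X (CohB1.tensorPow D 2) 0) = 3 ∨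
        Module.finrank k (Coh.HH X (CohB1.tensorPow D 2) 0) = 4) ∧
      (Module.finrank k (Coh.HH X (CohB1.tensorPow D 3) 0) = 7 ∨
        Module.finrank k (Coh.HH X (CohB1.tensorPow D 3) 0) = 8) ∧
      (Module.finrank k (Coh.HH X (CohB1.tensorPow D 2) 0) = 3 →
        Module.finrank k (Coh.HH X (CohB1.tensorPow D 3) 0) = 7) := by
  haveI := Crv77.isNoetherian_of_proper k X
  have hC := Crv77.curveCoh_of_proper k X hdim.le
  have hO := Curves2.finrank_h0_structureModule (k := k) (X := X)
  have hi : ∀ n, PicF.IsInvertible (CohB1.tensorPow D n) := fun n => EGA73.isInvertible_tensorPow hD n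
  have hd : ∀ n : ℕ, Curv2.deg k X (CohB1.tensorPow D n) 1 = 5 * (n : ℤ) := by
    intro n
    induction n with
    | zero =>
      show Curv2.deg k X (Coh.structureModule X) 1 = _
      rw [Curves2.deg_structureModule (k := k)]; simp
    | succ n ih =>
      show Curv2.deg k X (CohB1.tensorMod (CohB1.tensorPow D n) D) 1 = _
      rw [hC.deg_tensorMod hdim.le (hi n) hD, ih, hdD]; push_cast; ring
  have hr : ∀ n : ℕ, _ := fun n => hC.riemann hO (Crv77.isCoh_of_isInvertible (hi n))
  have t2 := Curves2.Pencil.two_mul_h0_le k hdim.le hD hgD h0D (hi 0)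
  have t4 := Curves2.Pencil.two_mul_h0_le k hdim.le hD hgD h0D (hi 2)
  change 2 * Module.finrank k (Coh.HH X (CohB1.tensorPow D 1) 0) ≤ Module.finrank k (Coh.HH X (CohB1.tensorPow D 2) 0) +
    Module.finrank k (Coh.HH X (CohB1.tensorPow D 0) 0) at t2
  change 2 * Module.finrank k (Coh.HH X (CohB1.tensorPow D 3) 0) ≤ Module.finrank k (Coh.HH X (CohB1.tensorPow D 4) 0) +
    Module.finrank k (Coh.HH X (CohB1.tensorPow D 2) 0) at t4
  have e1 : Module.finrank k (Coh.HH X (CohB1.tensorPow D 1) 0) = 2 :=
    (Curves2.finrank_congr (k := k) (EGA73.tensUnitLeft D) 0).trans h0D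
  have e0 : Module.finrank k (Coh.HH X (CohB1.tensorPow D 0) 0) = 1 := hO
  haveI := hC.h1_eq_zero_of_deg_gt hdim hO (hi 4) (by rw [hd, hg]; norm_num)
  have z4 : Module.finrank k (Coh.HH X (CohB1.tensorPow D 4) 1) = 0 := Module.finrank_zero_of_subsingleton
  have r2 := hr 2
  have r3 := hr 3
  have r4 := hr 4
  simp only [Crv77.h, hd, hg, z4] at r2 r3 r4
  have m2 := hmin _ (hi 2)
  have m3 := hmin _ (hi 3)
  rw [hd] at m2 m3
  push_cast at *
  have u2 : Module.finrank k (Coh.HH X (CohB1.tensorPow D 2) 0) ≤ 4 := by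
    by_contra hcon
    have := m2 (by omega) (by omega)
    omega
  have u3 : Module.finrank k (Coh.HH X (CohB1.tensorPow D 3) 0) ≤ 8 := by
    by_contra hcon
    have := m3 (by omega) (by omega)
    omega
  omega

end Groth.Agent.S16320
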