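import Groth.Statements.S16322
import Groth.Agent.Curves2.Pencil.BpfTrick
import Groth.Agent.Curves2.CurveToolkit
import Groth.Agent.Crv77.InvMod
import Groth.Agent.Crv77.DegreeInt

set_option autoImplicit false
open CategoryTheory CategoryTheory.Limits AlgebraicGeometry
universe u
open Curves

namespace Groth.Agent.S16322

/-- Let k be a characteristic-zero algebraically closed field and X a smooth proper integral curve over
k (integral, proper and smooth over k, of dimension one) of genus 9 whose Clifford index is 3: some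
invertible module M with h^0(M) ≥ 2 and h^1(M) ≥ 2 has deg M − 2(h^0(M) − 1) = 3, and every
invertible module M with h^0(M) ≥ 2 and h^1(M) ≥ 2 has deg M − 2(h^0(M) − 1) ≥ 3 (degrees are χ(M) −
χ(O_X); in particular X is not hyperelliptic), and let D₁, D₂ be two non-isomorphic globally
generated invertible modules of degree 5 with h^0(D₁) = h^0(D₂) = 2 (two different base-point-free
complete pencils of degree 5). Then h^0(D₁ ⊗ D₂) = 4. (In the published statement the two pencils
are the ones cut out by the two rulings on a model of the curve in a blow-up of P^1 × P^1; the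
printed argument for this equality uses only that they are different base-point-free pencils of
degree 5 on a genus-9 curve of Clifford index 3, which is what is stated here; the further printed
assertion on a third pencil is not restated.) -/
theorem result
    (k : Type u) [Field k] [IsAlgClosed k] [CharZero k]
    (X : Scheme.{u}) [X.Over (Spec (CommRingCat.of k))] [IsIntegral X]
    [IsProper (X ↘ Spec (CommRingCat.of k))] [Smooth (X ↘ Spec (CommRingCat.of k))]
    (hdim : topologicalKrullDim X = 1) (hg : Curv2.genus k X = 9)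
    (hex : ∃ M : X.Modules, PicF.IsInvertible M ∧ 2 ≤ Module.finrank k (Coh.HH X M 0) ∧
      2 ≤ Module.finrank k (Coh.HH X M 1) ∧ Curv2.deg k X M 1 = 2 * (Module.finrank k (Coh.HH X M 0) : ℤ) + 1)
    (hmin : ∀ M : X.Modules, PicF.IsInvertible M → 2 ≤ Module.finrank k (Coh.HH X M 0) →
      2 ≤ Module.finrank k (Coh.HH X M 1) → 2 * (Module.finrank k (Coh.HH X M 0) : ℤ) + 1 ≤ Curv2.deg k X M 1)
    (D₁ D₂ : X.Modules) (h₁ : PicF.IsInvertible D₁) (h₂ : PicF.IsInvertible D₂)
    (hg₁ : Curv2.IsGloballyGenerated D₁) (hg₂ : Curv2.IsGloballyGenerated D₂)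
    (hd₁ : Curv2.deg k X D₁ 1 = 5) (hd₂ : Curv2.deg k X D₂ 1 = 5)
    (h0₁ : Module.finrank k (Coh.HH X D₁ 0) = 2) (h0₂ : Module.finrank k (Coh.HH X D₂ 0) = 2)
    (hne : IsEmpty (D₁ ≅ D₂)) :
    Module.finrank k (Coh.HH X (CohB1.tensorMod D₁ D₂) 0) = 4 := by
  haveI := Crv77.isNoetherian_of_proper k X
  have hC := Crv77.curveCoh_of_proper k X hdim.le
  have hO := Curves2.finrank_h0_structureModule (k := k) (X := X)
  obtain ⟨M, hM, ⟨eM⟩⟩ := Crv77.exists_inverse h₁
  let Q := CohB1.tensorMod D₂ M
  have hQ : PicF.IsInvertible Q := EGA73.isInvertible_tensorMod h₂ hM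
  let eQ : CohB1.tensorMod Q D₁ ≅ D₂ := EGA73.tensAssoc' D₂ M D₁ ≪≫
    EGA73.tensIso (Iso.refl D₂) (EGA73.tensComm M D₁ ≪≫ eM) ≪≫ EGA73.tensUnitRight D₂
  have hdQ : Curv2.deg k X Q 1 = 0 := by
    have h1 := hC.deg_tensorMod hdim.le hQ h₁
    rw [Curves2.deg_congr (k := k) eQ, hd₂, hd₁] at h1
    omega
  have hQ0 : Module.finrank k (Coh.HH X Q 0) = 0 := by
    haveI : Subsingleton (Coh.HH X Q 0) := by
      refine not_nontrivial_iff_subsingleton.1 fun hn => ?_
      obtain ⟨ι⟩ := Curves2.nonempty_iso_structureModule_of_deg_zero (k := k) hdim.le hQ hn hdQ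
      exact hne.elim (eQ.symm ≪≫ EGA73.tensIso ι (Iso.refl D₁) ≪≫ EGA73.tensUnitLeft D₁).symm
    exact Module.finrank_zero_of_subsingleton
  have htr := Curves2.Pencil.two_mul_h0_le k hdim.le h₁ hg₁ h0₁ hQ
  rw [Curves2.finrank_congr (k := k) eQ 0, hQ0, h0₂,
    Curves2.finrank_congr (k := k) (EGA73.tensIso eQ (Iso.refl D₁) ≪≫ EGA73.tensComm D₂ D₁) 0] at htr
  have hDD := EGA73.isInvertible_tensorMod h₁ h₂
  have hdD : Curv2.deg k X (CohB1.tensorMod D₁ D₂) 1 = 10 := by
    rw [hC.deg_tensorMod hdim.le h₁ h₂, hd₁, hd₂]; norm_num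
  have hr := hC.riemann hO (Crv77.isCoh_of_isInvertible hDD)
  simp only [Crv77.h, hdD, hg] at hr
  have hm := hmin _ hDD
  rw [hdD] at hm
  push_cast at *
  rcases Nat.lt_or_ge (Module.finrank k (Coh.HH X (CohB1.tensorMod D₁ D₂) 0)) 5 with h | h
  · omega
  · have := hm (by omega) (by omega)
    omega

end Groth.Agent.S16322
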