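import Groth.Statements.S16324
import Groth.Agent.GrSyz54.Sharp

set_option autoImplicit false
universe u
open GrSyz

namespace Groth.Agent.S16324

/-- Let k be an algebraically closed field of characteristic zero, S = k[x_0, …, x_n] graded by degree,
𝔪 = (x_0, …, x_n), and M a finitely generated ℤ-graded S-module which is Cohen–Macaulay: the Krull
dimension of its support equals its 𝔪-depth. Let F be a minimal graded free resolution of M of
length exactly ℓ (F_ℓ ≠ 0, F_i = 0 for i > ℓ; so ℓ = pd M) and let ρ be its regularity: every basis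
vector of F_i has degree at most ρ + i, with equality for some i and some basis vector (so ρ = reg
M). Let P be the Hilbert polynomial of M, i.e. a polynomial over ℚ with dim_k M_d = P(d) for all
sufficiently large d. Then dim_k M_d ≠ P(d) for d = ρ + ℓ − n − 1: the bound d ≥ reg M + pd M − n
beyond which the Hilbert function agrees with the Hilbert polynomial is sharp for Cohen–Macaulay
modules. (Part (1) of the published statement, the agreement for d ≥ reg M + pd M − n, follows from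
the agreement for d at least the largest generator degree minus n and is not restated.) -/
theorem result (k : Type u) [Field k] [IsAlgClosed k] [CharZero k] (n : ℕ)
    (M : Type u) [AddCommGroup M] [Module k M] [Module (MvPolynomial (Fin (n + 1)) k) M]
    [IsScalarTower k (MvPolynomial (Fin (n + 1)) k) M] [Module.Finite (MvPolynomial (Fin (n + 1)) k) M]
    (ℳ : ℤ → Submodule k M) [DirectSum.Decomposition ℳ] [SetLike.GradedSMul (GrSyz.stdGr k (Fin (n + 1))) ℳ]
    (hCM : Module.supportDim (MvPolynomial (Fin (n + 1)) k) M = ((LocCoh.idealDepth (GrSyz.irrel (GrSyz.stdGr k (Fin (n + 1)))).toIdeal M : ℕ∞) : WithBot ℕ∞))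
    (F : GrSyz.FreeRes (GrSyz.stdGr k (Fin (n + 1))) ℳ) (hF : F.IsMinimal (GrSyz.irrel (GrSyz.stdGr k (Fin (n + 1)))).toIdeal)
    (ℓ : ℕ) (hℓ : F.HasLengthLE ℓ) (hℓ' : F.rk ℓ ≠ 0)
    (ρ : ℤ) (hρ : F.IsGenLE ρ) (hρ' : ∃ (i : ℕ) (b : Fin (F.rk i)), F.deg i b = ρ + i)
    (P : Polynomial ℚ) (hP : ∃ d₁ : ℤ, ∀ d : ℤ, d₁ ≤ d → ((Module.finrank k ↥(ℳ d) : ℤ) : ℚ) = P.eval (d : ℚ)) :
    ((Module.finrank k ↥(ℳ (ρ + ℓ - n - 1)) : ℤ) : ℚ) ≠ P.eval ((ρ + ℓ - n - 1 : ℤ) : ℚ) := by
  classical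
  obtain ⟨b₀, hb₀⟩ := Groth.Agent.GrSyz54.exists_deg_last_eq hCM F hF ℓ hℓ hℓ' ρ hρ hρ'
  obtain ⟨d₁, hd₁⟩ := hP
  let q : ℤ → Polynomial ℚ := fun j => Polynomial.C ((n.factorial : ℚ)⁻¹) *
    (descPochhammer ℚ n).comp (Polynomial.X + Polynomial.C ((n : ℚ) - (j : ℚ)))
  have hq : ∀ d j : ℤ, (q j).eval (d : ℚ) =
      (n.factorial : ℚ)⁻¹ * (descPochhammer ℚ n).eval ((d - j + n : ℤ) : ℚ) := fun d j => by
    simp only [q, Polynomial.eval_mul, Polynomial.eval_C, Polynomial.eval_comp, Polynomial.eval_add,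
      Polynomial.eval_X]
    push_cast
    ring_nf
  have hbq : ∀ d j : ℤ, j - (n : ℤ) ≤ d →
      ((Groth.Agent.GrSyz54.binom n d j : ℤ) : ℚ) = (q j).eval (d : ℚ) := fun d j h => by
    obtain ⟨N, hN⟩ := Int.eq_ofNat_of_zero_le (a := d - j + n) (by omega)
    rw [hq, hN, Int.cast_natCast, inv_mul_eq_div, ← Nat.cast_choose_eq_descPochhammer_div,
      Groth.Agent.GrSyz54.binom]
    split_ifs with h1
    · rw [show n + (d - j).toNat = N by omega, Int.cast_natCast]
    · rw [Nat.choose_eq_zero_of_lt (by omega : N < n)]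
      simp
  obtain ⟨Q, hQ⟩ : ∃ Q : Polynomial ℚ, ∀ d : ℚ, Q.eval d =
      ∑ i ∈ Finset.range (ℓ + 1), (-1 : ℚ) ^ i * ∑ b, (q (F.deg i b)).eval d :=
    ⟨∑ i ∈ Finset.range (ℓ + 1), Polynomial.C ((-1 : ℚ) ^ i) * ∑ b, q (F.deg i b), fun d => by
      simp only [Polynomial.eval_finset_sum, Polynomial.eval_mul, Polynomial.eval_C]⟩
  have hH : ∀ d : ℤ, ((Module.finrank k ↥(ℳ d) : ℤ) : ℚ) =
      ∑ i ∈ Finset.range (ℓ + 1), (-1 : ℚ) ^ i *
        ∑ b, ((Groth.Agent.GrSyz54.binom n d (F.deg i b) : ℤ) : ℚ) := fun d => by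
    rw [Groth.Agent.GrSyz54.finrank_piece_eq_binom F ℓ hℓ d]
    push_cast
    rfl
  have hPQ : P = Q := by
    refine Polynomial.eq_of_infinite_eval_eq P Q ?_
    refine ((Set.Ici_infinite (max d₁ (ρ + ℓ))).image
      (f := fun d : ℤ => (d : ℚ)) Int.cast_injective.injOn).mono ?_
    rintro _ ⟨d, hd, rfl⟩
    change P.eval (d : ℚ) = Q.eval (d : ℚ)
    have hd' : d₁ ≤ d ∧ ρ + ℓ ≤ d := max_le_iff.1 hd
    rw [← hd₁ d hd'.1, hH, hQ]
    refine Finset.sum_congr rfl fun i hi => congrArg _ (Finset.sum_congr rfl fun b _ => hbq _ _ ?_)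
    have := hρ i b
    have := Finset.mem_range.1 hi
    omega
  set d := ρ + (ℓ : ℤ) - n - 1 with hd
  have hlow : ∀ i ∈ Finset.range (ℓ + 1), ∀ b, F.deg i b ≠ ρ + ℓ →
      ((Groth.Agent.GrSyz54.binom n d (F.deg i b) : ℤ) : ℚ) = (q (F.deg i b)).eval (d : ℚ) :=
    fun i hi b hb => hbq _ _ (by have := hρ i b; have := Finset.mem_range.1 hi; omega)
  let c : ℚ := (n.factorial : ℚ)⁻¹ * (descPochhammer ℚ n).eval ((-1 : ℤ) : ℚ)
  have hc : c ≠ 0 := by
    refine mul_ne_zero (inv_ne_zero (Nat.cast_ne_zero.2 n.factorial_ne_zero)) ?_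
    rw [descPochhammer_eval_eq_prod_range, Finset.prod_ne_zero_iff]
    intro j _ h
    push_cast at h
    linarith [(Nat.cast_nonneg j : (0 : ℚ) ≤ j)]
  have hdiff : ((Module.finrank k ↥(ℳ d) : ℤ) : ℚ) - P.eval (d : ℚ) =
      (-1 : ℚ) ^ ℓ * ((Finset.univ.filter fun b => F.deg ℓ b = ρ + ℓ).card * -c) := by
    rw [hPQ, hH, hQ, ← Finset.sum_sub_distrib, Finset.sum_eq_single_of_mem ℓ (Finset.self_mem_range_succ ℓ)]
    · rw [← mul_sub, ← Finset.sum_sub_distrib]
      congr 1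
      rw [← Finset.sum_filter_add_sum_filter_not Finset.univ (fun b => F.deg ℓ b = ρ + ℓ)]
      rw [Finset.sum_congr rfl (g := fun _ => -c) (fun b hb => ?_), Finset.sum_const, nsmul_eq_mul,
        Finset.sum_eq_zero (fun b hb => sub_eq_zero.2
          (hlow ℓ (Finset.self_mem_range_succ ℓ) b (Finset.mem_filter.1 hb).2)), add_zero]
      rw [(Finset.mem_filter.1 hb).2, hq, show d - (ρ + ℓ) + n = -1 by omega,
        Groth.Agent.GrSyz54.binom, if_neg (by omega)]
      simp [c]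
    · intro i hi hne
      rw [← mul_sub, ← Finset.sum_sub_distrib, Finset.sum_eq_zero, mul_zero]
      intro b _
      refine sub_eq_zero.2 (hlow i hi b ?_)
      have := hρ i b
      have := Finset.mem_range.1 hi
      omega
  intro heq
  rw [heq, sub_self] at hdiff
  rcases mul_eq_zero.1 hdiff.symm with h | h
  · exact pow_ne_zero _ (by norm_num) h
  rcases mul_eq_zero.1 h with h | h
  · rw [Nat.cast_eq_zero, Finset.card_eq_zero, Finset.filter_eq_empty_iff] at h
    exact h (Finset.mem_univ b₀) hb₀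
  · exact hc (neg_eq_zero.1 h)

end Groth.Agent.S16324
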