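import Groth.Statements.S16325
import Groth.Agent.Biext52.Elem

set_option autoImplicit false
universe u v
open CategoryTheory
open W4c3biextchow

namespace Groth.Agent.S16325

/-- Let f : C ⟶ D be a chain map of ℕ-indexed chain complexes of modules over a ring R, and consider the
functor it induces between the groupoids attached to C and D (objects: degree-0 elements; morphisms
a ⟶ b: degree-1 elements with boundary b - a, modulo boundaries of degree-2 elements). This functor
is faithful if and only if f is injective on homology in degree 1. (The published statement is for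
complexes of abelian groups; this row allows modules over any ring R.) -/
theorem result
    (R : Type u) [Ring R] (C D : ChainComplex (ModuleCat.{v} R) ℕ) (f : C ⟶ D) :
    (W4c3biextchow.cxFunctor f).Faithful ↔ Mono (HomologicalComplex.homologyMap f 1) := by
  rw [Groth.Agent.Biext52.mono_homologyMap_one_iff]
  constructor
  · intro h x y hx hxy
    let a : Obj C := ⟨0⟩
    let φ : a ⟶ a := (⟨Submodule.Quotient.mk x, by simp [a, hx]⟩ : Hom C a a)
    have hφ : φ = 𝟙 a := h.map_injective (Hom.ext (by
      show q1Map f (Submodule.Quotient.mk x) = q1Map f 0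
      rw [q1Map_mk, map_zero, Submodule.Quotient.mk_eq_zero]
      exact ⟨y, hxy.symm⟩))
    have := congrArg (fun ψ : a ⟶ a => (ψ : Hom C a a).cl) hφ
    simp only [id_cl, φ, Submodule.Quotient.mk_eq_zero] at this
    obtain ⟨x₁, hx₁⟩ := this
    exact ⟨x₁, hx₁.symm⟩
  · intro h
    refine ⟨fun {a b} φ ψ hψ => Hom.ext ?_⟩
    have e : q1Map f (φ : Hom C a b).cl = q1Map f (ψ : Hom C a b).cl :=
      congrArg (fun χ : (cxFunctor f).obj a ⟶ (cxFunctor f).obj b => (χ : Hom D _ _).cl) hψ
    have d0 : delta C ((φ : Hom C a b).cl - (ψ : Hom C a b).cl) = 0 := by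
      rw [map_sub, (φ : Hom C a b).delta_cl, (ψ : Hom C a b).delta_cl, sub_self]
    have e0 : q1Map f ((φ : Hom C a b).cl - (ψ : Hom C a b).cl) = 0 := by
      rw [map_sub, e, sub_self]
    obtain ⟨x, hx⟩ := Submodule.Quotient.mk_surjective _ ((φ : Hom C a b).cl - (ψ : Hom C a b).cl)
    rw [← hx, delta_mk] at d0
    rw [← hx, q1Map_mk, Submodule.Quotient.mk_eq_zero] at e0
    obtain ⟨y, hy⟩ := e0
    obtain ⟨x₁, hx₁⟩ := h x y d0 hy.symm
    rw [← sub_eq_zero, ← hx, Submodule.Quotient.mk_eq_zero]
    exact ⟨x₁, hx₁.symm⟩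

end Groth.Agent.S16325
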