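import Groth.Statements.S16326
import Groth.Agent.Biext52.Elem

set_option autoImplicit false
universe u v
open CategoryTheory
open W4c3biextchow

namespace Groth.Agent.S16326

/-- Let f : C ⟶ D be a chain map of ℕ-indexed chain complexes of modules over a ring R, and consider the
functor it induces between the groupoids attached to C and D (objects: degree-0 elements; morphisms
a ⟶ b: degree-1 elements with boundary b - a, modulo boundaries of degree-2 elements). This functor
is full if and only if f is surjective on homology in degree 1 and injective on homology in degree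
0. (The published statement is for complexes of abelian groups; this row allows modules over any
ring R.) -/
theorem result
    (R : Type u) [Ring R] (C D : ChainComplex (ModuleCat.{v} R) ℕ) (f : C ⟶ D) :
    (W4c3biextchow.cxFunctor f).Full ↔
      Epi (HomologicalComplex.homologyMap f 1) ∧ Mono (HomologicalComplex.homologyMap f 0) := by
  rw [Groth.Agent.Biext52.epi_homologyMap_one_iff, Groth.Agent.Biext52.mono_homologyMap_zero_iff]
  constructor
  · intro h
    refine ⟨fun y hy => ?_, fun x y hxy => ?_⟩
    · let a : Obj C := ⟨0⟩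
      obtain ⟨φ, hφ⟩ := h.map_surjective (X := a) (Y := a)
        (⟨Submodule.Quotient.mk y, by simp [a, hy]⟩ : Hom D _ _)
      have e : q1Map f (φ : Hom C a a).cl = Submodule.Quotient.mk y :=
        congrArg (fun χ : (cxFunctor f).obj a ⟶ (cxFunctor f).obj a => (χ : Hom D _ _).cl) hφ
      have d0 := (φ : Hom C a a).delta_cl
      obtain ⟨x, hx⟩ := Submodule.Quotient.mk_surjective _ (φ : Hom C a a).cl
      rw [← hx, q1Map_mk, eq_comm, Submodule.Quotient.eq] at e
      obtain ⟨y₁, hy₁⟩ := e
      rw [← hx, delta_mk, sub_self] at d0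
      exact ⟨x, y₁, d0, by rw [hy₁]; abel⟩
    · let a : Obj C := ⟨0⟩
      let b : Obj C := ⟨x⟩
      obtain ⟨φ, _⟩ := h.map_surjective (X := a) (Y := b)
        (⟨Submodule.Quotient.mk y, by simp [a, b, hxy]⟩ : Hom D _ _)
      obtain ⟨x₁, hx₁⟩ := Submodule.Quotient.mk_surjective _ (φ : Hom C a b).cl
      refine ⟨x₁, ?_⟩
      have d0 := (φ : Hom C a b).delta_cl
      rw [← hx₁, delta_mk] at d0
      simpa [a, b] using d0.symm
  · rintro ⟨hE, hM⟩
    refine ⟨fun {a b} χ => ?_⟩
    obtain ⟨y, hy⟩ := Submodule.Quotient.mk_surjective _ (χ : Hom D _ _).cl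
    have d0 : (D.d 1 0).hom y = (f.f 0).hom b.pt - (f.f 0).hom a.pt := by
      have := (χ : Hom D _ _).delta_cl
      rw [← hy, delta_mk] at this
      exact this
    obtain ⟨x, hx⟩ := hM (b.pt - a.pt) y (by rw [map_sub, d0])
    obtain ⟨z, y₁, hz, he⟩ := hE (y - (f.f 1).hom x) (by
      rw [map_sub, Groth.Agent.Biext52.comm_apply, ← hx, d0, map_sub, sub_self])
    refine ⟨(⟨Submodule.Quotient.mk (x + z), by rw [delta_mk, map_add, hz, add_zero, hx]⟩ : Hom C a b), Hom.ext ?_⟩
    rw [cxFunctor_map_cl, q1Map_mk, ← hy, Submodule.Quotient.eq]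
    refine ⟨-y₁, ?_⟩
    rw [map_neg, map_add, sub_eq_iff_eq_add.mp he]
    abel

end Groth.Agent.S16326
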