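import Groth.Statements.S16327
import Groth.Agent.Biext52.Elem

set_option autoImplicit false
universe u v
open CategoryTheory
open W4c3biextchow

namespace Groth.Agent.S16327

/-- Let f : C ⟶ D be a chain map of ℕ-indexed chain complexes of modules over a ring R, and consider the
functor it induces between the groupoids attached to C and D (objects: degree-0 elements; morphisms
a ⟶ b: degree-1 elements with boundary b - a, modulo boundaries of degree-2 elements). This functor
is essentially surjective if and only if f is surjective on homology in degree 0. (The published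
statement is for complexes of abelian groups; this row allows modules over any ring R.) -/
theorem result
    (R : Type u) [Ring R] (C D : ChainComplex (ModuleCat.{v} R) ℕ) (f : C ⟶ D) :
    (W4c3biextchow.cxFunctor f).EssSurj ↔ Epi (HomologicalComplex.homologyMap f 0) := by
  rw [Groth.Agent.Biext52.epi_homologyMap_zero_iff]
  constructor
  · intro h y
    obtain ⟨a, ⟨e⟩⟩ := h.mem_essImage (⟨y⟩ : Obj D)
    obtain ⟨y₁, hy₁⟩ := Submodule.Quotient.mk_surjective _ (e.hom : Hom D _ _).cl
    refine ⟨a.pt, y₁, ?_⟩
    have d0 := (e.hom : Hom D _ _).delta_cl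
    rw [← hy₁, delta_mk] at d0
    show (⟨y⟩ : Obj D).pt = _
    rw [d0]
    simp
  · intro h
    refine ⟨fun b => ?_⟩
    obtain ⟨x, y₁, he⟩ := h b.pt
    refine ⟨⟨x⟩, ⟨?_⟩⟩
    exact
      { hom := (⟨Submodule.Quotient.mk y₁, by rw [delta_mk, he]; simp⟩ : Hom D _ _)
        inv := (⟨-Submodule.Quotient.mk y₁, by rw [map_neg, delta_mk, he]; simp⟩ : Hom D _ _)
        hom_inv_id := Hom.ext (by simp)
        inv_hom_id := Hom.ext (by simp) }

end Groth.Agent.S16327
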