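import Groth.Statements.S16329
import Groth.Agent.Biext52.Contract

set_option autoImplicit false
universe v
open CategoryTheory
open W4c3biextchow

namespace Groth.Agent.S16329

/-- Let f : A' ⟶ A be a chain map of ℕ-indexed chain complexes of free abelian groups which is injective
in every degree, whose degreewise quotients A_q / f(A'_q) are free abelian groups, and which is a
quasi-isomorphism. Then there is a chain map g : A ⟶ A' with f ≫ g the identity of A' (a chain-level
inverse of f that restricts to the identity on the subcomplex A'). (The source allows complexes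
indexed by all integers; stated here for complexes in non-negative degrees.) -/
theorem result
    (A' A : ChainComplex (ModuleCat.{v} ℤ) ℕ) (f : A' ⟶ A)
    [∀ q, Module.Free ℤ (A'.X q)] [∀ q, Module.Free ℤ (A.X q)]
    (hf : ∀ q, Function.Injective (f.f q).hom)
    (hq : ∀ q, Module.Free ℤ ((A.X q) ⧸ LinearMap.range (f.f q).hom)) [QuasiIso f] :
    ∃ g : A ⟶ A', f ≫ g = 𝟙 A' := by
  haveI : ∀ q, Module.Projective ℤ ((Groth.Agent.Biext52.quot f).X q) := fun q => by
    haveI := hq q
    let e : ((A.X q) ⧸ LinearMap.range (f.f q).hom) ≃ₗ[ℤ] (Groth.Agent.Biext52.quot f).X q :=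
      AddEquiv.toIntLinearEquiv
        (AddEquiv.refl ((A.X q) ⧸ LinearMap.range (f.f q).hom) : _ ≃+ (Groth.Agent.Biext52.quot f).X q)
    exact Module.Projective.of_equiv e
  obtain ⟨h, hh⟩ := Groth.Agent.Biext52.exists_section f (Groth.Agent.Biext52.quotπ f) hf
    (Groth.Agent.Biext52.quotπ_surjective f) (Groth.Agent.Biext52.quotπ_exact f)
  let φ : A ⟶ A := 𝟙 A - Groth.Agent.Biext52.quotπ f ≫ h
  have hmem : ∀ q x, (φ.f q).hom x ∈ LinearMap.range (f.f q).hom := by
    intro q x
    have e := congrArg (fun ψ => (ψ.f q).hom (((Groth.Agent.Biext52.quotπ f).f q).hom x)) hh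
    refine (Groth.Agent.Biext52.quotπ_exact f q _).mp ?_
    simp [φ] at e ⊢
    exact sub_eq_zero.mpr e.symm
  choose g0 hg0 using hmem
  let g : ∀ q, A.X q →ₗ[ℤ] A'.X q := fun q =>
    { toFun := g0 q
      map_add' := fun x y => hf q (by rw [map_add, hg0, hg0, hg0, map_add])
      map_smul' := fun c x => by
        have := map_intCast_smul (AddMonoidHom.mk' (g0 q) (fun x y => hf q (by rw [map_add, hg0, hg0, hg0, map_add])))
          ℤ ℤ c x
        simpa using this }
  have hg : ∀ q x, (f.f q).hom (g q x) = (φ.f q).hom x := hg0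
  refine ⟨⟨fun q => ModuleCat.ofHom (g q), fun i j hij => ?_⟩, ?_⟩
  · ext x
    show (A'.d i j).hom (g i x) = g j ((A.d i j).hom x)
    apply hf j
    rw [← Groth.Agent.Biext52.comm_apply, hg, hg, Groth.Agent.Biext52.comm_apply]
  · apply HomologicalComplex.hom_ext
    intro q
    ext x
    show g q ((f.f q).hom x) = x
    apply hf q
    rw [hg]
    simp [φ, (Groth.Agent.Biext52.quotπ_exact f q).apply_apply_eq_zero]

end Groth.Agent.S16329
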