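import Groth.Statements.S1633
import Groth.Agent.Res23.UnramNorm
import Groth.Agent.VarNorm.Sections

set_option autoImplicit false
universe u
open CategoryTheory CategoryTheory.Limits AlgebraicGeometry
open Resolve

namespace Groth.Agent.S1633

/-- Let (A, m) be a Noetherian local ring whose m-adic completion is reduced, and X an integral scheme
locally of finite type over Spec A such that some open neighbourhood of the generic point of X is
étale over Spec A. Then the normalization morphism of X is finite. -/
theorem result (A : Type u) [CommRing A] [IsLocalRing A] [IsNoetherianRing A]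
    [IsReduced (AdicCompletion (IsLocalRing.maximalIdeal A) A)]
    (X : Scheme.{u}) [IsIntegral X] (f : X ⟶ Spec (CommRingCat.of A)) [LocallyOfFiniteType f]
    (U : X.Opens) (hU : genericPoint X ∈ U) [Etale (U.ι ≫ f)]
    [QuasiCompact (X.fromSpecStalk (genericPoint X))] [QuasiSeparated (X.fromSpecStalk (genericPoint X))] :
    IsFinite (Curv2.normalizationι X) := by
  haveI : IsNoetherianRing (CommRingCat.of A) := ‹IsNoetherianRing A›
  let F := AdicCompletion (IsLocalRing.maximalIdeal A) A
  let φ : ∀ V : X.Opens, A →+* Γ(X, V) := fun V =>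
    ((Scheme.ΓSpecIso (CommRingCat.of A)).inv ≫ f.appLE ⊤ V le_top).hom
  have hη : genericPoint X ∈ (⊤ : X.Opens) := trivial
  letI : Algebra A X.functionField := ((X.presheaf.germ ⊤ (genericPoint X) hη).hom.comp (φ ⊤)).toAlgebra
  have hgerm : ∀ (V : X.Opens) (hV : genericPoint X ∈ V) (a : A),
      X.presheaf.germ V (genericPoint X) hV (φ V a) = algebraMap A X.functionField a := fun V hV a => by
    show _ = X.presheaf.germ ⊤ (genericPoint X) hη (f.appLE ⊤ ⊤ le_top ((Scheme.ΓSpecIso (CommRingCat.of A)).inv a))
    show X.presheaf.germ V (genericPoint X) hV (f.appLE ⊤ V le_top ((Scheme.ΓSpecIso (CommRingCat.of A)).inv a)) = _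
    rw [← Scheme.Hom.appLE_map f (U := ⊤) (V := ⊤) (V' := V) le_top (homOfLE le_top).op, CommRingCat.comp_apply, TopCat.Presheaf.germ_res_apply]
  obtain ⟨W, hW, hηW, hWU⟩ := exists_isAffineOpen_mem_and_subset (x := genericPoint X) (U := U) hU
  have hWU : W ≤ U := hWU
  haveI : Nonempty W := ⟨⟨_, hηW⟩⟩
  haveI : IsAffine W.toScheme := hW
  haveI : Etale (W.ι ≫ f) := by
    rw [← X.homOfLE_ι hWU, Category.assoc]
    haveI : IsOpenImmersion (X.homOfLE hWU) := inferInstance
    haveI : Etale (X.homOfLE hWU) := Etale.instOfIsOpenImmersion _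
    exact Etale.etale_comp (X.homOfLE hWU) (U.ι ≫ f)
  have h1 : (W.ι ≫ f).appTop.hom.Etale := HasRingHomProperty.appTop (P := @Etale) (W.ι ≫ f) inferInstance
  have h2 : (φ W).Etale := by
    have e : W.ι.appTop ≫ W.topIso.hom = X.presheaf.map (homOfLE le_top).op := by
      simp only [Scheme.Opens.topIso, Scheme.Hom.appTop, Scheme.Opens.ι_app, Functor.mapIso_hom]
      exact (X.presheaf.map_comp _ _).symm.trans (congrArg X.presheaf.map (Subsingleton.elim _ _))
    have e2 : (Scheme.ΓSpecIso (CommRingCat.of A)).inv ≫ f.appLE ⊤ W le_top =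
        (Scheme.ΓSpecIso (CommRingCat.of A)).inv ≫ (W.ι ≫ f).appTop ≫ W.topIso.hom := by
      rw [Scheme.Hom.comp_appTop, Category.assoc, e]
      rfl
    show ((Scheme.ΓSpecIso (CommRingCat.of A)).inv ≫ f.appLE ⊤ W le_top).hom.Etale
    rw [e2, CommRingCat.hom_comp, CommRingCat.hom_comp]
    exact RingHom.Etale.respectsIso.2 _ (Scheme.ΓSpecIso (CommRingCat.of A)).commRingCatIsoToRingEquiv.symm
      (RingHom.Etale.respectsIso.1 _ W.topIso.commRingCatIsoToRingEquiv h1)
  letI : Algebra A Γ(X, W) := (φ W).toAlgebra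
  haveI : Algebra.Etale A Γ(X, W) := RingHom.etale_algebraMap.1 h2
  haveI : IsFractionRing Γ(X, W) X.functionField := functionField_isFractionRing_of_isAffineOpen X W hW
  haveI : IsScalarTower A Γ(X, W) X.functionField := .of_algebraMap_eq fun a => (hgerm W _ a).symm
  have hred : IsReduced (TensorProduct A F X.functionField) :=
    Groth.Agent.Res23.UnramNorm.isReduced_tensor_of_etale A F Γ(X, W) X.functionField
  refine Groth.Agent.VarNorm.isFinite_normalizationι X fun V hV hne => ?_
  letI : Algebra A Γ(X, V) := (φ V).toAlgebra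
  haveI : Algebra.FiniteType A Γ(X, V) := by
    refine RingHom.finiteType_algebraMap.1 ?_
    show ((Scheme.ΓSpecIso (CommRingCat.of A)).inv ≫ f.appLE ⊤ V le_top).hom.FiniteType
    rw [CommRingCat.hom_comp]
    exact RingHom.finiteType_respectsIso.2 _ (Scheme.ΓSpecIso (CommRingCat.of A)).commRingCatIsoToRingEquiv.symm
      (f.finiteType_appLE (isAffineOpen_top _) hV le_top)
  haveI : IsFractionRing Γ(X, V) X.functionField := functionField_isFractionRing_of_isAffineOpen X V hV
  haveI : IsScalarTower A Γ(X, V) X.functionField := .of_algebraMap_eq fun a => (hgerm V _ a).symm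
  exact Groth.Agent.Res23.UnramNorm.finite_integralClosure A Γ(X, V) X.functionField hred

end Groth.Agent.S1633
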