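import Groth.Statements.S16331
import Groth.Agent.Biext52.Contract

set_option autoImplicit false
universe v
open CategoryTheory
open W4c3biextchow

namespace Groth.Agent.S16331

/-- Let f : A' ⟶ A be a chain map of ℕ-indexed chain complexes of free abelian groups which is injective
in every degree, with free degreewise quotients A_q / f(A'_q), and a quasi-isomorphism; let h' : A'
⟶ B be a chain map to another complex of free abelian groups and g₁, g₂ : A ⟶ A' two chain maps with
f ≫ g₁ = f ≫ g₂ = 𝟙. Consider the functors induced by g₁ ≫ h' and g₂ ≫ h' between the groupoids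
attached to A and B (objects: degree-0 elements; morphisms a ⟶ b: degree-1 elements with boundary b
- a, modulo boundaries of degree-2 elements). Then there is a natural isomorphism between these two
functors whose component at every object of the form f(a'), a' a degree-0 element of A', is the zero
class, i.e. the identity morphism of h'(a'). -/
theorem result
    (A' A B : ChainComplex (ModuleCat.{v} ℤ) ℕ) (f : A' ⟶ A) (h' : A' ⟶ B)
    [∀ q, Module.Free ℤ (A'.X q)] [∀ q, Module.Free ℤ (A.X q)] [∀ q, Module.Free ℤ (B.X q)]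
    (hf : ∀ q, Function.Injective (f.f q).hom)
    (hq : ∀ q, Module.Free ℤ ((A.X q) ⧸ LinearMap.range (f.f q).hom)) [QuasiIso f]
    (g₁ g₂ : A ⟶ A') (h₁ : f ≫ g₁ = 𝟙 A') (h₂ : f ≫ g₂ = 𝟙 A') :
    ∃ N : W4c3biextchow.cxFunctor (g₁ ≫ h') ≅ W4c3biextchow.cxFunctor (g₂ ≫ h'),
      ∀ a : W4c3biextchow.Obj A',
        (N.hom.app ((W4c3biextchow.cxFunctor f).obj a) : W4c3biextchow.Hom B _ _).cl = 0 := by
  haveI : ∀ q, Module.Projective ℤ ((Groth.Agent.Biext52.quot f).X q) := fun q => by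
    haveI := hq q
    let e : ((A.X q) ⧸ LinearMap.range (f.f q).hom) ≃ₗ[ℤ] (Groth.Agent.Biext52.quot f).X q :=
      AddEquiv.toIntLinearEquiv
        (AddEquiv.refl ((A.X q) ⧸ LinearMap.range (f.f q).hom) : _ ≃+ (Groth.Agent.Biext52.quot f).X q)
    exact Module.Projective.of_equiv e
  obtain ⟨H, hH⟩ := Groth.Agent.Biext52.exists_homotopy f (Groth.Agent.Biext52.quotπ f) hf
    (Groth.Agent.Biext52.quotπ_surjective f) (Groth.Agent.Biext52.quotπ_exact f)
    (g₁ ≫ h') (g₂ ≫ h') (by rw [← Category.assoc, h₁, ← Category.assoc, h₂])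
  have hc0 : ∀ a : A.X 0, ((g₁ ≫ h').f 0).hom a = (B.d 1 0).hom ((H.hom 0 1).hom a) + ((g₂ ≫ h').f 0).hom a := by
    intro a
    have := congrArg (fun φ => φ.hom a) (H.comm 0)
    rw [dNext_eq_zero _ 0 (by simp), prevD_eq _ (show (ComplexShape.down ℕ).Rel 1 0 from rfl)] at this
    simpa using this
  have hc1 : ∀ w : A.X 1, ((g₁ ≫ h').f 1).hom w =
      (H.hom 0 1).hom ((A.d 1 0).hom w) + (B.d 2 1).hom ((H.hom 1 2).hom w) + ((g₂ ≫ h').f 1).hom w := by
    intro w
    have := congrArg (fun φ => φ.hom w) (H.comm 1)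
    rw [dNext_eq _ (show (ComplexShape.down ℕ).Rel 1 0 from rfl),
      prevD_eq _ (show (ComplexShape.down ℕ).Rel 2 1 from rfl)] at this
    simpa using this
  let F₁ := W4c3biextchow.cxFunctor (g₁ ≫ h')
  let F₂ := W4c3biextchow.cxFunctor (g₂ ≫ h')
  let app : ∀ a : W4c3biextchow.Obj A, F₁.obj a ≅ F₂.obj a := fun a =>
    { hom := (⟨-Submodule.Quotient.mk ((H.hom 0 1).hom a.pt), by
        show _ = ((g₂ ≫ h').f 0).hom a.pt - ((g₁ ≫ h').f 0).hom a.pt
        rw [map_neg, delta_mk, hc0]; abel⟩ : W4c3biextchow.Hom B _ _)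
      inv := (⟨Submodule.Quotient.mk ((H.hom 0 1).hom a.pt), by
        show _ = ((g₁ ≫ h').f 0).hom a.pt - ((g₂ ≫ h').f 0).hom a.pt
        rw [delta_mk, hc0]; abel⟩ : W4c3biextchow.Hom B _ _)
      hom_inv_id := Hom.ext (by simp)
      inv_hom_id := Hom.ext (by simp) }
  refine ⟨NatIso.ofComponents app (fun {a b} φ => Hom.ext ?_), fun a => ?_⟩
  · show q1Map (g₁ ≫ h') (φ : Hom A a b).cl + -Submodule.Quotient.mk ((H.hom 0 1).hom b.pt) =
      -Submodule.Quotient.mk ((H.hom 0 1).hom a.pt) + q1Map (g₂ ≫ h') (φ : Hom A a b).cl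
    obtain ⟨w, hw⟩ := Submodule.Quotient.mk_surjective _ (φ : Hom A a b).cl
    have hd : (A.d 1 0).hom w = b.pt - a.pt := by
      have := (φ : Hom A a b).delta_cl
      rwa [← hw, delta_mk] at this
    rw [← hw, q1Map_mk, q1Map_mk, hc1, hd, map_sub, Submodule.Quotient.mk_add, Submodule.Quotient.mk_add,
      Submodule.Quotient.mk_sub, (Submodule.Quotient.mk_eq_zero _).mpr (LinearMap.mem_range_self (B.d 2 1).hom _)]
    abel
  · show -(Submodule.Quotient.mk ((H.hom 0 1).hom ((f.f 0).hom a.pt)) : W4c3biextchow.Q1 B) = 0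
    have : (H.hom 0 1).hom ((f.f 0).hom a.pt) = 0 := congrArg (fun φ => φ.hom a.pt) (hH 0 1)
    rw [this, Submodule.Quotient.mk_zero, neg_zero]

end Groth.Agent.S16331
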