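import Groth.Statements.S16332
import Groth.Agent.Biext52.Elem
import Mathlib

set_option autoImplicit false
universe v
open CategoryTheory MonoidalCategory
open W4c3biextchow

namespace Groth.Agent.S16332

section
open CategoryTheory MonoidalCategory HomologicalComplex

variable {R : Type v} [CommRing R] (C P : ChainComplex (ModuleCat.{v} R) ℕ)

noncomputable abbrev inc (i j n : ℕ) (h : i + j = n) : C.X i ⊗ P.X j ⟶ (C ⊗ P : ChainComplex (ModuleCat.{v} R) ℕ).X n :=
  ιTensorObj C P i j n h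

theorem tensor_hom_ext {n : ℕ} {Y : ModuleCat.{v} R} {f g : (C ⊗ P : ChainComplex (ModuleCat.{v} R) ℕ).X n ⟶ Y}
    (h : ∀ i j (h : i + j = n), inc C P i j n h ≫ f = inc C P i j n h ≫ g) : f = g :=
  mapBifunctor.hom_ext h

theorem inc_10_d : inc C P 1 0 1 rfl ≫ (C ⊗ P : ChainComplex (ModuleCat.{v} R) ℕ).d 1 0 =
    (C.d 1 0 ▷ P.X 0) ≫ inc C P 0 0 0 rfl := by
  show ιMapBifunctor C P (curriedTensor _) _ 1 0 1 rfl ≫ (mapBifunctor C P (curriedTensor _) _).d 1 0 = _
  rw [mapBifunctor.d_eq, Preadditive.comp_add, mapBifunctor.ι_D₁, mapBifunctor.ι_D₂,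
    mapBifunctor.d₂_eq_zero _ _ _ _ _ _ _ (by simp), add_zero,
    mapBifunctor.d₁_eq C P (curriedTensor _) (ComplexShape.down ℕ) (i₁ := 1) (i₁' := 0) (by simp) 0 0 rfl]
  simp [ComplexShape.ε₁]

theorem inc_01_d : inc C P 0 1 1 rfl ≫ (C ⊗ P : ChainComplex (ModuleCat.{v} R) ℕ).d 1 0 =
    (C.X 0 ◁ P.d 1 0) ≫ inc C P 0 0 0 rfl := by
  show ιMapBifunctor C P (curriedTensor _) _ 0 1 1 rfl ≫ (mapBifunctor C P (curriedTensor _) _).d 1 0 = _
  rw [mapBifunctor.d_eq, Preadditive.comp_add, mapBifunctor.ι_D₁, mapBifunctor.ι_D₂,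
    mapBifunctor.d₁_eq_zero _ _ _ _ _ _ _ (by simp), zero_add,
    mapBifunctor.d₂_eq C P (curriedTensor _) (ComplexShape.down ℕ) 0 (i₂ := 1) (i₂' := 0) (by simp) 0 rfl]
  simp [ComplexShape.ε₂]

theorem inc_20_d : inc C P 2 0 2 rfl ≫ (C ⊗ P : ChainComplex (ModuleCat.{v} R) ℕ).d 2 1 =
    (C.d 2 1 ▷ P.X 0) ≫ inc C P 1 0 1 rfl := by
  show ιMapBifunctor C P (curriedTensor _) _ 2 0 2 rfl ≫ (mapBifunctor C P (curriedTensor _) _).d 2 1 = _
  rw [mapBifunctor.d_eq, Preadditive.comp_add, mapBifunctor.ι_D₁, mapBifunctor.ι_D₂,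
    mapBifunctor.d₂_eq_zero _ _ _ _ _ _ _ (by simp), add_zero,
    mapBifunctor.d₁_eq C P (curriedTensor _) (ComplexShape.down ℕ) (i₁ := 2) (i₁' := 1) (by simp) 0 1 rfl]
  simp [ComplexShape.ε₁]

theorem inc_11_d : inc C P 1 1 2 rfl ≫ (C ⊗ P : ChainComplex (ModuleCat.{v} R) ℕ).d 2 1 =
    (C.d 1 0 ▷ P.X 1) ≫ inc C P 0 1 1 rfl - (C.X 1 ◁ P.d 1 0) ≫ inc C P 1 0 1 rfl := by
  show ιMapBifunctor C P (curriedTensor _) _ 1 1 2 rfl ≫ (mapBifunctor C P (curriedTensor _) _).d 2 1 = _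
  rw [mapBifunctor.d_eq, Preadditive.comp_add, mapBifunctor.ι_D₁, mapBifunctor.ι_D₂,
    mapBifunctor.d₁_eq C P (curriedTensor _) (ComplexShape.down ℕ) (i₁ := 1) (i₁' := 0) (by simp) 1 1 rfl,
    mapBifunctor.d₂_eq C P (curriedTensor _) (ComplexShape.down ℕ) 1 (i₂ := 1) (i₂' := 0) (by simp) 1 rfl]
  simp [ComplexShape.ε₁, ComplexShape.ε₂, sub_eq_add_neg]

theorem inc_02_d : inc C P 0 2 2 rfl ≫ (C ⊗ P : ChainComplex (ModuleCat.{v} R) ℕ).d 2 1 =
    (C.X 0 ◁ P.d 2 1) ≫ inc C P 0 1 1 rfl := by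
  show ιMapBifunctor C P (curriedTensor _) _ 0 2 2 rfl ≫ (mapBifunctor C P (curriedTensor _) _).d 2 1 = _
  rw [mapBifunctor.d_eq, Preadditive.comp_add, mapBifunctor.ι_D₁, mapBifunctor.ι_D₂,
    mapBifunctor.d₁_eq_zero _ _ _ _ _ _ _ (by simp), zero_add,
    mapBifunctor.d₂_eq C P (curriedTensor _) (ComplexShape.down ℕ) 0 (i₂ := 2) (i₂' := 1) (by simp) 1 rfl]
  simp [ComplexShape.ε₂]

noncomputable def pr00 : (C ⊗ P : ChainComplex (ModuleCat.{v} R) ℕ).X 0 ⟶ C.X 0 ⊗ P.X 0 :=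
  mapBifunctorDesc (fun i j _ => match i, j with
    | 0, 0 => 𝟙 _
    | _, _ => 0)

noncomputable def pr10 : (C ⊗ P : ChainComplex (ModuleCat.{v} R) ℕ).X 1 ⟶ C.X 1 ⊗ P.X 0 :=
  mapBifunctorDesc (fun i j _ => match i, j with
    | 1, 0 => 𝟙 _
    | _, _ => 0)

noncomputable def pr01 : (C ⊗ P : ChainComplex (ModuleCat.{v} R) ℕ).X 1 ⟶ C.X 0 ⊗ P.X 1 :=
  mapBifunctorDesc (fun i j _ => match i, j with
    | 0, 1 => 𝟙 _
    | _, _ => 0)

theorem pr00_inc : inc C P 0 0 0 rfl ≫ pr00 C P = 𝟙 _ := ι_mapBifunctorDesc _ _ _ _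
theorem pr10_inc : inc C P 1 0 1 rfl ≫ pr10 C P = 𝟙 _ := ι_mapBifunctorDesc _ _ _ _
theorem pr10_inc' : inc C P 0 1 1 rfl ≫ pr10 C P = 0 := ι_mapBifunctorDesc _ _ _ _
theorem pr01_inc : inc C P 0 1 1 rfl ≫ pr01 C P = 𝟙 _ := ι_mapBifunctorDesc _ _ _ _
theorem pr01_inc' : inc C P 1 0 1 rfl ≫ pr01 C P = 0 := ι_mapBifunctorDesc _ _ _ _

theorem decomp_one : pr10 C P ≫ inc C P 1 0 1 rfl + pr01 C P ≫ inc C P 0 1 1 rfl = 𝟙 _ := by
  refine tensor_hom_ext C P fun i j h => ?_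
  obtain ⟨rfl, rfl⟩ | ⟨rfl, rfl⟩ : (i = 1 ∧ j = 0) ∨ (i = 0 ∧ j = 1) := by omega
  · rw [Preadditive.comp_add, ← Category.assoc, ← Category.assoc, pr10_inc, pr01_inc']; simp
  · rw [Preadditive.comp_add, ← Category.assoc, ← Category.assoc, pr10_inc', pr01_inc]; simp

theorem decomp_single (G : ModuleCat.{v} R) (n : ℕ) :
    (mapBifunctorDesc (fun i j _ => if h : i = n ∧ j = 0 then
        ((C.XIsoOfEq h.1).hom ⊗ₘ (((ChainComplex.single₀ _).obj G).XIsoOfEq h.2).hom) else 0) :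
      (C ⊗ (ChainComplex.single₀ _).obj G : ChainComplex (ModuleCat.{v} R) ℕ).X n ⟶
        C.X n ⊗ ((ChainComplex.single₀ _).obj G).X 0) ≫ inc C _ n 0 n (add_zero n) = 𝟙 _ := by
  refine tensor_hom_ext C _ fun i j h => ?_
  by_cases hj : j = 0
  · subst hj
    obtain rfl : i = n := by omega
    rw [← Category.assoc, show inc C _ i 0 i h ≫ _ = _ from ι_mapBifunctorDesc _ _ _ _, dif_pos ⟨rfl, rfl⟩]
    simp only [HomologicalComplex.XIsoOfEq, eqToIso_refl, Iso.refl_hom, MonoidalCategory.tensorHom_id, MonoidalCategory.id_whiskerRight]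
    erw [Category.comp_id, Category.id_comp]
  · have h1 : Limits.IsZero (((ChainComplex.single₀ (ModuleCat.{v} R)).obj G).X j) :=
      HomologicalComplex.isZero_single_obj_X _ _ _ _ hj
    have h0 : Limits.IsZero (C.X i ⊗ ((ChainComplex.single₀ (ModuleCat.{v} R)).obj G).X j) :=
      Functor.map_isZero (tensorLeft (C.X i)) h1
    exact h0.eq_of_src _ _

end


/-- Let R be a commutative ring, C an ℕ-indexed chain complex of R-modules whose degree-0 term C_0 is a
free R-module, G an R-module, and π : P ⟶ G[0] a quasi-isomorphism from an ℕ-indexed chain complex P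
of free R-modules onto G placed in degree 0 (a free resolution of G), so that the tensor product of
complexes C ⊗ P represents the derived tensor product of C and G. Then the map induced by π on first
homology, H_1(C ⊗ P) → H_1(C ⊗ G[0]), is an isomorphism: in degree 1 the derived and the plain
tensor product with G have the same homology. (The published statement is over the integers, for
complexes vanishing in negative degrees with C_0 free abelian; this row allows any commutative ring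
R and R-modules in the same universe as R.) -/
theorem result
    (R : Type v) [CommRing R] (C P : ChainComplex (ModuleCat.{v} R) ℕ) (G : ModuleCat.{v} R)
    [Module.Free R (C.X 0)] [∀ q, Module.Free R (P.X q)]
    (π : P ⟶ (ChainComplex.single₀ (ModuleCat.{v} R)).obj G) [QuasiIso π] :
    IsIso (HomologicalComplex.homologyMap (C ◁ π) 1) := by
  let S := (ChainComplex.single₀ (ModuleCat.{v} R)).obj G
  let F := C ◁ π
  haveI hm0 : Mono (HomologicalComplex.homologyMap π 0) := inferInstance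
  haveI he0 : Epi (HomologicalComplex.homologyMap π 0) := inferInstance
  haveI hm1 : Mono (HomologicalComplex.homologyMap π 1) := inferInstance
  rw [Biext52.mono_homologyMap_zero_iff] at hm0
  rw [Biext52.epi_homologyMap_zero_iff] at he0
  rw [Biext52.mono_homologyMap_one_iff] at hm1
  have hS10 : ∀ y, (S.d 1 0).hom y = 0 := fun y => by simp [S]; rfl
  have hzero : Function.Exact (P.d 1 0).hom (π.f 0).hom := fun p => by
    constructor
    · intro hp
      obtain ⟨e, he⟩ := hm0 p 0 (hp.trans (map_zero (S.d 1 0).hom).symm)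
      exact ⟨e, he.symm⟩
    · rintro ⟨e, rfl⟩
      rw [← Biext52.comm_apply π 1 0 e]
      exact hS10 _
  have hone : Function.Exact (P.d 2 1).hom (P.d 1 0).hom := fun p => by
    constructor
    · intro hp
      have hz : (π.f 1).hom p = 0 := @Subsingleton.elim _ (ModuleCat.subsingleton_of_isZero
        (HomologicalComplex.isZero_single_obj_X _ _ _ _ one_ne_zero)) _ _
      obtain ⟨e, he⟩ := hm1 p 0 hp (hz.trans (map_zero _).symm)
      exact ⟨e, he.symm⟩
    · rintro ⟨e, rfl⟩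
      exact Biext52.d_d P 2 1 0 e
  have hsurj : Function.Surjective (π.f 0).hom := fun g => by
    obtain ⟨x, y, hxy⟩ := he0 g
    exact ⟨x, by rw [hxy]; erw [hS10]; rw [add_zero]⟩
  have tsurj : ∀ i, Function.Surjective (C.X i ◁ π.f 0).hom := fun i => LinearMap.lTensor_surjective _ hsurj
  have tex : ∀ i, Function.Exact (C.X i ◁ P.d 1 0).hom (C.X i ◁ π.f 0).hom := fun i => lTensor_exact _ hzero hsurj
  have tex0 : Function.Exact (C.X 0 ◁ P.d 2 1).hom (C.X 0 ◁ P.d 1 0).hom := Module.Flat.lTensor_exact _ hone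
  have app : ∀ {A B : ModuleCat.{v} R} {φ ψ : A ⟶ B}, φ = ψ → ∀ x, φ.hom x = ψ.hom x := fun h x => by rw [h]
  have F10 : inc C P 1 0 1 rfl ≫ F.f 1 = (C.X 1 ◁ π.f 0) ≫ inc C S 1 0 1 rfl := by
    refine (HomologicalComplex.ι_mapBifunctorMap (𝟙 C) π (curriedTensor _) (ComplexShape.down ℕ) 1 0 1 rfl).trans ?_
    simp [S]
    try rfl
  have F01 : inc C P 0 1 1 rfl ≫ F.f 1 = (C.X 0 ◁ π.f 1) ≫ inc C S 0 1 1 rfl := by
    refine (HomologicalComplex.ι_mapBifunctorMap (𝟙 C) π (curriedTensor _) (ComplexShape.down ℕ) 0 1 1 rfl).trans ?_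
    simp [S]
  have F01' : inc C P 0 1 1 rfl ≫ F.f 1 = 0 := by
    rw [F01, (Functor.map_isZero (tensorLeft (C.X 0)) (HomologicalComplex.isZero_single_obj_X (ComplexShape.down ℕ) 0 G 1 one_ne_zero) :
      Limits.IsZero (C.X 0 ⊗ S.X 1)).eq_of_tgt (C.X 0 ◁ π.f 1) 0, Limits.zero_comp]
  suffices h : Mono (HomologicalComplex.homologyMap F 1) ∧ Epi (HomologicalComplex.homologyMap F 1) by
    haveI := h.1; haveI := h.2
    exact isIso_of_mono_of_epi _
  constructor
  · rw [Biext52.mono_homologyMap_one_iff]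
    intro x y hx hxy
    set a := (pr10 C P).hom x
    set b := (pr01 C P).hom x
    have hxd : (inc C P 1 0 1 rfl).hom a + (inc C P 0 1 1 rfl).hom b = x := app (decomp_one C P) x
    have h1 : (C.d 1 0 ▷ P.X 0).hom a + (C.X 0 ◁ P.d 1 0).hom b = 0 := by
      have e1 := app (congrArg (· ≫ pr00 C P) (inc_10_d C P)) a
      have e2 := app (congrArg (· ≫ pr00 C P) (inc_01_d C P)) b
      simp only [Category.assoc, pr00_inc, Category.comp_id, ModuleCat.hom_comp, ModuleCat.hom_id, LinearMap.id_apply, LinearMap.comp_apply] at e1 e2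
      rw [← e1, ← e2, ← map_add, ← map_add, hxd]
      show (pr00 C P).hom (((C ⊗ P : ChainComplex (ModuleCat.{v} R) ℕ).d 1 0).hom x) = 0
      rw [hx, map_zero]
    obtain ⟨c, hc⟩ : ∃ c, (inc C S 2 0 2 rfl).hom c = y := ⟨_, app (decomp_single C G 2) y⟩
    have h2 : (C.X 1 ◁ π.f 0).hom a = (C.d 2 1 ▷ S.X 0).hom c := by
      have e1 := app (congrArg (· ≫ pr10 C S) F10) a
      have e2 := app (congrArg (· ≫ pr10 C S) (inc_20_d C S)) c
      have e3 := app (congrArg (· ≫ pr10 C S) F01') b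
      simp only [Category.assoc, pr10_inc, Category.comp_id, Limits.zero_comp, ModuleCat.hom_comp, ModuleCat.hom_id, LinearMap.id_apply, LinearMap.comp_apply] at e1 e2 e3
      replace e1 : (pr10 C S).hom ((F.f 1).hom ((inc C P 1 0 1 rfl).hom a)) = (C.X 1 ◁ π.f 0).hom a := e1
      replace e2 : (pr10 C S).hom (((C ⊗ S : ChainComplex (ModuleCat.{v} R) ℕ).d 2 1).hom ((inc C S 2 0 2 rfl).hom c)) = (C.d 2 1 ▷ S.X 0).hom c := e2
      rw [← e1, ← e2, hc, ← hxy, ← hxd, map_add, map_add]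
      exact ((congrArg (_ + ·) e3).trans (add_zero _)).symm
    obtain ⟨c', rfl⟩ := tsurj 2 c
    have h3 : (C.X 1 ◁ π.f 0).hom (a - (C.d 2 1 ▷ P.X 0).hom c') = 0 := by
      rw [map_sub, h2, sub_eq_zero]
      exact app (whisker_exchange (C.d 2 1) (π.f 0)) c'
    obtain ⟨e, he⟩ := (tex 1 _).1 h3
    have h4 : (C.X 0 ◁ P.d 1 0).hom (b + (C.d 1 0 ▷ P.X 1).hom e) = 0 := by
      have e1 := app (whisker_exchange (C.d 1 0) (P.d 1 0)) e
      have e2 := app (show (C.d 2 1 ▷ P.X 0) ≫ (C.d 1 0 ▷ P.X 0) = 0 by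
        rw [← comp_whiskerRight, C.d_comp_d]; simp) c'
      simp only [ModuleCat.hom_comp, LinearMap.comp_apply] at e1 e2
      rw [map_add, ← e1, he, map_sub, e2]
      simpa [add_comm] using h1
    obtain ⟨f, hf⟩ := (tex0 _).1 h4
    refine ⟨(inc C P 2 0 2 rfl).hom c' - (inc C P 1 1 2 rfl).hom e + (inc C P 0 2 2 rfl).hom f, ?_⟩
    have e1 := app (inc_20_d C P) c'
    have e2 := app (inc_11_d C P) e
    have e3 := app (inc_02_d C P) f
    simp only [ModuleCat.hom_comp, ModuleCat.hom_sub, LinearMap.sub_apply, LinearMap.comp_apply] at e1 e2 e3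
    rw [map_add, map_sub]
    erw [e1, e2, e3]
    rw [hf, he, ← hxd, map_sub, map_add]
    abel
  · rw [Biext52.epi_homologyMap_one_iff]
    intro y hy
    obtain ⟨z, rfl⟩ : ∃ z, (inc C S 1 0 1 rfl).hom z = y := ⟨_, app (decomp_single C G 1) y⟩
    obtain ⟨a, rfl⟩ := tsurj 1 z
    have h1 : (C.X 0 ◁ π.f 0).hom ((C.d 1 0 ▷ P.X 0).hom a) = 0 := by
      have e1 := app (congrArg (· ≫ pr00 C S) (inc_10_d C S)) ((C.X 1 ◁ π.f 0).hom a)
      have e2 := app (whisker_exchange (C.d 1 0) (π.f 0)) a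
      simp only [Category.assoc, pr00_inc, Category.comp_id, ModuleCat.hom_comp, ModuleCat.hom_id, LinearMap.id_apply, LinearMap.comp_apply] at e1 e2
      rw [← e2, ← e1]
      show (pr00 C S).hom (((C ⊗ S : ChainComplex (ModuleCat.{v} R) ℕ).d 1 0).hom _) = 0
      rw [hy, map_zero]
    obtain ⟨b, hb⟩ := (tex 0 _).1 h1
    refine ⟨(inc C P 1 0 1 rfl).hom a - (inc C P 0 1 1 rfl).hom b, 0, ?_, ?_⟩
    · have e1 := app (inc_10_d C P) a
      have e2 := app (inc_01_d C P) b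
      simp only [ModuleCat.hom_comp, LinearMap.comp_apply] at e1 e2
      rw [map_sub]
      erw [e1, e2]
      rw [hb, sub_self]
    · have e1 := app F10 a
      have e2 := app F01' b
      simp only [ModuleCat.hom_comp, LinearMap.comp_apply, ModuleCat.hom_zero, LinearMap.zero_apply] at e1 e2
      erw [map_sub, map_zero]
      refine Eq.trans ?_ (congrArg₂ (· + ·) (congrArg₂ (· - ·) e1 e2).symm rfl)
      exact ((add_zero _).trans (sub_zero _)).symm

end Groth.Agent.S16332
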