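import Groth.Statements.S16335
-- helpers

set_option autoImplicit false
universe u v w w'
open TensorProduct
open InvTh

namespace Groth.Agent.S16335

/-- Let `R` be a commutative ring with an action of a finite group `Γ` by ring automorphisms such that
the order of `Γ` is invertible in `R`, and let `A → R` be injective with image exactly the
invariants `R^Γ`, the action being `A`-linear. Then for every commutative `A`-algebra `S`, with `Γ`
acting on `S ⊗_A R` through the factor `R`, the map `S → S ⊗_A R`, `s ↦ s ⊗ 1`, is injective and its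
image is exactly the set of `Γ`-fixed elements: `S ≅ (S ⊗_A R)^Γ`. No flatness of `S` over `A` is
assumed; the invertibility of the order of `Γ` replaces it. This is the affine statement that for a
tame quotient the coarse space commutes with arbitrary base change. (The published lemma is the
statement that the coarse moduli space of a tame Deligne–Mumford stack commutes with arbitrary base
change, whose proof reduces to this ring statement. The published lemma also asserts the analogous
statement for the reduced fibre product when the base-change scheme is reduced; that clause is not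
part of this row.) -/
theorem result
    (A : Type u) [CommRing A] (R : Type v) [CommRing R] [Algebra A R]
    (Γ : Type w) [Group Γ] [Finite Γ] [MulSemiringAction Γ R] [SMulCommClass Γ A R]
    [Algebra.IsInvariant A R Γ] (hinj : Function.Injective (algebraMap A R))
    (hΓ : IsUnit (Nat.card Γ : R))
    (S : Type w') [CommRing S] [Algebra A S] :
    Function.Injective (fun s : S => s ⊗ₜ[A] (1 : R)) ∧
      ∀ x : S ⊗[A] R,
        (∀ γ : Γ, Algebra.TensorProduct.map (AlgHom.id A S) (MulSemiringAction.toAlgHom A R γ) x = x) →
          x ∈ Set.range (fun s : S => s ⊗ₜ[A] (1 : R)) := by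
  have : Fintype Γ := Fintype.ofFinite Γ
  obtain ⟨u, hu⟩ := hΓ.exists_left_inv
  have hufix : ∀ γ : Γ, γ • u = u := fun γ => by
    refine hΓ.mul_right_cancel ?_
    have h2 : γ • ((Nat.card Γ : R)) = (Nat.card Γ : R) := map_natCast (MulSemiringAction.toRingHom Γ R γ) _
    rw [hu]
    calc γ • u * (Nat.card Γ : R) = γ • (u * (Nat.card Γ : R)) := by rw [smul_mul', h2]
      _ = 1 := by rw [hu, smul_one]
  obtain ⟨a, ha⟩ := Algebra.IsInvariant.isInvariant (A := A) (G := Γ) u hufix
  let σ : R →ₗ[A] R := ∑ γ : Γ, (MulSemiringAction.toAlgHom A R γ).toLinearMap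
  have hσ : ∀ r, σ r = ∑ γ : Γ, γ • r := fun r => by simp [σ, LinearMap.sum_apply]
  let ρ : R →ₗ[A] R := a • σ
  have hρ : ∀ r, ρ r ∈ LinearMap.range (Algebra.linearMap A R) := by
    intro r
    refine Algebra.IsInvariant.isInvariant (A := A) (G := Γ) _ fun δ => ?_
    show δ • (a • σ r) = a • σ r
    rw [smul_comm, hσ, Finset.smul_sum]
    congr 1
    exact Fintype.sum_equiv (Equiv.mulLeft δ) _ _ (fun γ => by simp [mul_smul])
  let π : R →ₗ[A] A :=
    (LinearEquiv.ofInjective (Algebra.linearMap A R) hinj).symm.toLinearMap ∘ₗ ρ.codRestrict _ hρ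
  have hπ : ∀ r, algebraMap A R (π r) = ρ r := by
    intro r
    have h := congrArg Subtype.val
      ((LinearEquiv.ofInjective (Algebra.linearMap A R) hinj).apply_symm_apply (ρ.codRestrict _ hρ r))
    simp only [LinearEquiv.ofInjective_apply, LinearMap.codRestrict_apply] at h
    exact h
  have hπ1 : π 1 = 1 := by
    apply hinj
    rw [hπ, RingHom.map_one]
    show a • σ 1 = 1
    rw [hσ, Algebra.smul_def, ha]
    simp [← Nat.card_eq_fintype_card, hu]
  let Q : S ⊗[A] R →ₗ[A] S := (TensorProduct.rid A S).toLinearMap ∘ₗ π.lTensor S
  have hQ : ∀ s r, Q (s ⊗ₜ[A] r) = π r • s := by simp [Q]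
  refine ⟨fun s t hst => ?_, fun x hx => ⟨Q x, ?_⟩⟩
  · simpa [hQ, hπ1] using congrArg Q hst
  · have key : ∀ y : S ⊗[A] R, Q y ⊗ₜ[A] (1 : R) =
        a • ∑ γ : Γ, Algebra.TensorProduct.map (AlgHom.id A S) (MulSemiringAction.toAlgHom A R γ) y := by
      intro y
      induction y using TensorProduct.induction_on with
      | zero => simp
      | add y z hy hz => simp only [map_add, TensorProduct.add_tmul, hy, hz, Finset.sum_add_distrib, smul_add]
      | tmul s r =>
        rw [hQ, TensorProduct.smul_tmul, ← Algebra.algebraMap_eq_smul_one, hπ]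
        show s ⊗ₜ[A] (a • σ r) = _
        rw [hσ, TensorProduct.tmul_smul, TensorProduct.tmul_sum]
        simp
    show Q x ⊗ₜ[A] (1 : R) = x
    rw [key x]
    simp only [hx, Finset.sum_const, Finset.card_univ]
    rw [← Nat.cast_smul_eq_nsmul A, smul_smul]
    have h1 : a * (Fintype.card Γ : A) = 1 := hinj (by
      rw [map_mul, map_natCast, ha, ← Nat.card_eq_fintype_card, hu, map_one])
    rw [h1, one_smul]

end Groth.Agent.S16335
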