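import Groth.Statements.S16337
-- helpers

set_option autoImplicit false
universe u v w
open InvTh

namespace Groth.Agent.S16337

/-- Let `A` be a commutative ring, `Γ` a finite group whose order is invertible in `A`, `M` an
`A`-module with an `A`-linear action of `Γ`, and `I` an ideal of `A`. Then reduction modulo `I`
induces a bijection `M^Γ / I·M^Γ ≅ (M / IM)^Γ`: (a) an element of `M` fixed by `Γ` modulo `IM` is
congruent modulo `IM` to a `Γ`-fixed element, and (b) a `Γ`-fixed element lying in `IM` lies in
`I·M^Γ`, where `M^Γ` is the submodule of `Γ`-fixed elements. (The published lemma says that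
push-forward to the coarse space of a tame stack over a complete local base commutes with reduction
modulo powers of the maximal ideal; this row is the module statement its proof establishes, for an
arbitrary ideal.) -/
theorem result
    (A : Type u) [CommRing A] (Γ : Type v) [Group Γ] [Finite Γ] (hΓ : IsUnit (Nat.card Γ : A))
    (M : Type w) [AddCommGroup M] [Module A M] [DistribMulAction Γ M] [SMulCommClass Γ A M]
    (I : Ideal A) :
    (∀ x : M, (∀ γ : Γ, γ • x - x ∈ I • (⊤ : Submodule A M)) →
        ∃ y : M, (∀ γ : Γ, γ • y = y) ∧ x - y ∈ I • (⊤ : Submodule A M)) ∧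
      ∀ y : M, (∀ γ : Γ, γ • y = y) → y ∈ I • (⊤ : Submodule A M) →
        y ∈ I • Submodule.span A {m : M | ∀ γ : Γ, γ • m = m} := by
  have : Fintype Γ := Fintype.ofFinite Γ
  obtain ⟨u, hu⟩ := hΓ.exists_left_inv
  let ρ : M →ₗ[A] M := u • ∑ γ : Γ, DistribSMul.toLinearMap A M γ
  have hρ : ∀ m, ρ m = u • ∑ γ : Γ, γ • m := fun m => by
    simp [ρ, LinearMap.sum_apply]
  have hfix : ∀ m (δ : Γ), δ • ρ m = ρ m := by
    intro m δ
    rw [hρ, smul_comm δ u, Finset.smul_sum]
    congr 1
    exact Fintype.sum_equiv (Equiv.mulLeft δ) _ _ (fun γ => by simp [mul_smul])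
  have hsub : ∀ m, m - ρ m = u • ∑ γ : Γ, (m - γ • m) := by
    intro m
    rw [hρ, Finset.sum_sub_distrib, smul_sub, Finset.sum_const, Finset.card_univ,
      ← Nat.cast_smul_eq_nsmul A, smul_smul, ← Nat.card_eq_fintype_card, hu, one_smul]
  refine ⟨fun x hx => ⟨ρ x, hfix x, ?_⟩, fun y hy hyI => ?_⟩
  · rw [hsub]
    refine Submodule.smul_mem _ _ (Submodule.sum_mem _ fun γ _ => ?_)
    rw [← neg_sub]
    exact Submodule.neg_mem _ (hx γ)
  · have hy' : ρ y = y := by
      have h0 := hsub y
      simp only [hy, sub_self, Finset.sum_const_zero, smul_zero] at h0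
      exact (sub_eq_zero.1 h0).symm
    rw [← hy']
    have hmem : ρ y ∈ Submodule.map ρ (I • ⊤) := Submodule.mem_map_of_mem hyI
    rw [Submodule.map_smul''] at hmem
    refine Submodule.smul_mono le_rfl ?_ hmem
    rintro _ ⟨m, -, rfl⟩
    exact Submodule.subset_span (fun γ => hfix m γ)

end Groth.Agent.S16337
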