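import Groth.Statements.S16339
import Groth.Agent.AlgSt88.KerTrivial

set_option autoImplicit false
universe u
open CategoryTheory
open AlgSt

namespace Groth.Agent.S16339

/-- Let `S` be a scheme and `g : 𝒢 → ℱ` a functor over `(Sch/S)` between Deligne–Mumford stacks (fppf
topology). Suppose that for every algebraically closed field `k` and every object `ξ` of `𝒢` lying
over `Spec k → S`, the homomorphism `Aut(ξ) → Aut(g(ξ))` of automorphism groups over the identity is
injective, stated here as: every endomorphism `a` of `ξ` over the identity of `Spec k` with `g(a) =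
𝟙` is `𝟙` (such `a` are automorphisms, the fibres being groupoids). Then `g` is representable by
algebraic spaces. (The published statement is the equivalence of the two conditions. The converse
implication — a functor representable by algebraic spaces is injective on automorphism groups over
identities — holds for every morphism of algebraic stacks and every object, and is not part of this
row. The published statement works under the convention that Deligne–Mumford stacks have isomorphism
spaces of finite type and separated over a Noetherian base; this row assumes only that both stacks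
are Deligne–Mumford.) -/
theorem result
    (S : AlgebraicGeometry.Scheme.{u}) (𝒢 ℱ : AlgSt.Cat S)
    (h𝒢 : AlgSt.IsDM AlgebraicGeometry.Scheme.fppfPrecoverage 𝒢)
    (hℱ : AlgSt.IsDM AlgebraicGeometry.Scheme.fppfPrecoverage ℱ)
    (g : 𝒢 ⥤ᵇ ℱ)
    (hinj : ∀ (k : Type u) [Field k] [IsAlgClosed k] (s : AlgebraicGeometry.Spec (CommRingCat.of k) ⟶ S)
        (ξ : 𝒢.obj) (hξ : 𝒢.p.obj ξ = Over.mk s) (a : ξ ⟶ ξ),
        𝒢.p.IsHomLift (𝟙 (𝒢.p.obj ξ)) a → g.map a = 𝟙 (g.obj ξ) → a = 𝟙 ξ) :
    AlgSt.RepByAlgSp1 g := by
  refine (Groth.Agent.AlgSt88.trivKer_iff_repByAlgSp1 h𝒢.1 hℱ.1).2 ?_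
  exact Groth.Agent.AlgSt88.trivKer_of_geomPt h𝒢.1.isStack.1
    (Groth.Agent.AlgSt88.isDMMor_of_isDMOver (Groth.Agent.AlgSt88.isDMOver_of_isDM h𝒢) hℱ.1.diag g) hinj

end Groth.Agent.S16339
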