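import Groth.Statements.S16343
import Mathlib

set_option autoImplicit false
open KatoHom

noncomputable section
namespace Groth.Agent.S16343.AuxS43
theorem result
    {A T : Type*} [AddCommGroup A] [AddCommGroup T] (P : Set ℕ) (hP : ∀ p ∈ P, p.Prime)
    (π : A →+ T) (hπ : Function.Surjective π) (hT : ∀ t : T, ∃ n : ℕ, 0 < n ∧ n • t = 0)
    (hD : ∀ ℓ ∈ P, ∀ x ∈ π.ker, ∃ y ∈ π.ker, ℓ • y = x)
    (TP T' : AddSubgroup T)
    (hTP : ∀ t, t ∈ TP ↔ ∃ n : ℕ, 0 < n ∧ (∀ p : ℕ, p.Prime → p ∣ n → p ∈ P) ∧ n • t = 0)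
    (hT' : ∀ t, t ∈ T' ↔ ∃ n : ℕ, 0 < n ∧ (∀ p : ℕ, p.Prime → p ∣ n → p ∉ P) ∧ n • t = 0) :
    (∀ ℓ ∈ P, ∀ x ∈ T'.comap π, ∃ y ∈ T'.comap π, ℓ • y = x) ∧
    ∃ s : TP →+ A, (∀ t : TP, π (s t) = (t : T)) ∧
      Function.Bijective (fun q : (T'.comap π) × TP => (q.1 : A) + s q.2) := by
  classical
  have cop : ∀ {n m : ℕ}, (∀ p : ℕ, p.Prime → p ∣ n → p ∈ P) → (∀ p : ℕ, p.Prime → p ∣ m → p ∉ P) → Nat.Coprime n m :=
    fun hn hm => Nat.coprime_of_dvd fun p hp h1 h2 => hm p hp h2 (hn p hp h1)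
  have bez : ∀ (n m : ℕ), Nat.Coprime n m → ∀ t : T, n • t = 0 → m • t = 0 → t = 0 := by
    intro n m h t hn hm
    have := Nat.isCoprime_iff_coprime.2 h
    obtain ⟨a, b, hab⟩ := this
    rw [← one_zsmul t, ← hab, add_zsmul, mul_zsmul', mul_zsmul', natCast_zsmul, natCast_zsmul]
    simp [smul_comm, hn, hm]
  have hdisj : ∀ t, t ∈ TP → t ∈ T' → t = 0 := by
    intro t h1 h2
    obtain ⟨n, hn0, hn, hnt⟩ := (hTP t).1 h1
    obtain ⟨m, hm0, hm, hmt⟩ := (hT' t).1 h2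
    exact bez n m (cop hn hm) t hnt hmt
  have hsplit : ∀ t, ∃ a ∈ TP, ∃ b ∈ T', a + b = t := by
    intro t
    obtain ⟨n, hn0, hnt⟩ := hT t
    revert t
    induction n using Nat.recOnPrimeCoprime with
    | zero => omega
    | prime_pow p k hp =>
      intro t ht
      by_cases hpP : p ∈ P
      · exact ⟨t, (hTP t).2 ⟨_, hn0, fun q hq hd => (Nat.prime_dvd_prime_iff_eq hq hp).1 (hq.dvd_of_dvd_pow hd) ▸ hpP, ht⟩, 0, zero_mem _, add_zero _⟩
      · exact ⟨0, zero_mem _, t, (hT' t).2 ⟨_, hn0, fun q hq hd => (Nat.prime_dvd_prime_iff_eq hq hp).1 (hq.dvd_of_dvd_pow hd) ▸ hpP, ht⟩, zero_add _⟩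
    | coprime a b ha hb hab iha ihb =>
      intro t ht
      obtain ⟨u, v, huv⟩ := Nat.isCoprime_iff_coprime.2 hab
      obtain ⟨a1, h1, b1, k1, e1⟩ := iha (by omega) ((v * b) • t) (by
        rw [← natCast_zsmul, ← mul_zsmul', show v * ↑b * ↑a = v * ((a * b : ℕ) : ℤ) by push_cast; ring, mul_zsmul, natCast_zsmul, ht, smul_zero])
      obtain ⟨a2, h2, b2, k2, e2⟩ := ihb (by omega) ((u * a) • t) (by
        rw [← natCast_zsmul, ← mul_zsmul', show u * ↑a * ↑b = u * ((a * b : ℕ) : ℤ) by push_cast; ring, mul_zsmul, natCast_zsmul, ht, smul_zero])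
      refine ⟨a1 + a2, add_mem h1 h2, b1 + b2, add_mem k1 k2, ?_⟩
      rw [add_add_add_comm, e1, e2, ← add_zsmul, show v * ↑b + u * ↑a = (1:ℤ) by linarith, one_zsmul]
  refine ⟨?_, ?_⟩
  · intro ℓ hℓ x hx
    obtain ⟨m, hm0, hm, hmt⟩ := (hT' _).1 hx
    have hc : Nat.Coprime ℓ m := cop (fun p hp hd => (Nat.prime_dvd_prime_iff_eq hp (hP ℓ hℓ)).1 hd ▸ hℓ) hm
    obtain ⟨u, v, huv⟩ := Nat.isCoprime_iff_coprime.2 hc
    have hk : x - ℓ • (u • x) ∈ π.ker := by
      rw [AddMonoidHom.mem_ker, map_sub, map_nsmul, map_zsmul, ← natCast_zsmul, ← mul_zsmul,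
        show (ℓ : ℤ) * u = 1 - v * m by linarith, sub_zsmul, mul_zsmul, natCast_zsmul, hmt]
      simp
    obtain ⟨y, hy, hly⟩ := hD ℓ hℓ _ hk
    refine ⟨u • x + y, add_mem (AddSubgroup.zsmul_mem _ hx _) ?_, by rw [nsmul_add, hly]; abel⟩
    show π y ∈ T'
    rw [AddMonoidHom.mem_ker.1 hy]; exact zero_mem _
  · let B := TP.comap π
    obtain ⟨S, hS⟩ : ∃ S, Maximal (fun S : AddSubgroup A => S ≤ B ∧ Disjoint S π.ker) S := by
      obtain ⟨m, -, hm⟩ := zorn_le_nonempty₀ {S : AddSubgroup A | S ≤ B ∧ Disjoint S π.ker} (fun c hc hchain y hy => by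
        refine ⟨sSup c, ⟨sSup_le fun S h => (hc h).1, ?_⟩, fun z hz => le_sSup hz⟩
        rw [disjoint_iff, eq_bot_iff]
        intro a ha
        obtain ⟨h1, h2⟩ := AddSubgroup.mem_inf.1 ha
        obtain ⟨S, hSc, haS⟩ := (AddSubgroup.mem_sSup_of_directedOn ⟨y, hy⟩ hchain.directedOn).1 h1
        exact (hc hSc).2.le_bot (AddSubgroup.mem_inf.2 ⟨haS, h2⟩)) ⊥ ⟨bot_le, disjoint_bot_left⟩
      exact ⟨m, hm⟩
    have step : ∀ ℓ ∈ P, ∀ x ∈ B, ℓ • x ∈ S ⊔ π.ker → x ∈ S ⊔ π.ker := by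
      intro ℓ hℓ x hxB hx
      obtain ⟨s, hs, k, hk, hsk⟩ := AddSubgroup.mem_sup.1 hx
      obtain ⟨k', hk', hlk⟩ := hD ℓ hℓ k hk
      by_contra hne
      set x' := x - k'
      have hx'B : x' ∈ B := sub_mem hxB (by show π k' ∈ TP; rw [AddMonoidHom.mem_ker.1 hk']; exact zero_mem _)
      have hlx : ℓ • x' ∈ S := by rw [nsmul_sub, hlk, ← hsk]; simpa using hs
      have hx'ne : x' ∉ S ⊔ π.ker := fun h => hne (by
        simpa [x'] using add_mem h (AddSubgroup.mem_sup_right (S := S) hk'))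
      have hle : S ⊔ AddSubgroup.zmultiples x' ≤ S := by
        refine hS.2 ⟨sup_le hS.1.1 (by simpa using hx'B), ?_⟩ le_sup_left
        rw [disjoint_iff, eq_bot_iff]
        intro a ha
        obtain ⟨h1, h2⟩ := AddSubgroup.mem_inf.1 ha
        obtain ⟨s', hs', z, hz, rfl⟩ := AddSubgroup.mem_sup.1 h1
        obtain ⟨m, rfl⟩ := AddSubgroup.mem_zmultiples_iff.1 hz
        by_cases hd : (ℓ : ℤ) ∣ m
        · obtain ⟨q, rfl⟩ := hd
          refine hS.1.2.le_bot (AddSubgroup.mem_inf.2 ⟨add_mem hs' ?_, h2⟩)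
          rw [mul_zsmul', natCast_zsmul]
          exact AddSubgroup.zsmul_mem _ hlx _
        · exfalso; apply hx'ne
          obtain ⟨u, v, huv⟩ := ((Nat.prime_iff_prime_int.1 (hP ℓ hℓ)).coprime_iff_not_dvd).2 hd
          rw [← one_zsmul x', ← huv, add_zsmul, mul_zsmul, mul_zsmul, natCast_zsmul]
          refine add_mem (AddSubgroup.zsmul_mem _ (AddSubgroup.mem_sup_left hlx) _) (AddSubgroup.zsmul_mem _ ?_ _)
          have : m • x' = (s' + m • x') - s' := by abel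
          rw [this]
          exact sub_mem (AddSubgroup.mem_sup_right h2) (AddSubgroup.mem_sup_left hs')
      exact hx'ne (AddSubgroup.mem_sup_left (hle (AddSubgroup.mem_sup_right (AddSubgroup.mem_zmultiples x'))))
    have full : ∀ x ∈ B, x ∈ S ⊔ π.ker := by
      intro x hx
      obtain ⟨n, hn0, hn, hnx⟩ := (hTP _).1 hx
      have h0 : n • x ∈ S ⊔ π.ker := AddSubgroup.mem_sup_right (by rw [AddMonoidHom.mem_ker, map_nsmul, hnx])
      clear hnx
      induction n using Nat.recOnMul generalizing x with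
      | zero => omega
      | one => simpa using h0
      | prime p hp => exact step p (hn p hp dvd_rfl) x hx h0
      | mul a b iha ihb =>
        rw [mul_nsmul'] at h0
        exact ihb x hx (Nat.pos_of_mul_pos_left hn0) (fun p hp hd => hn p hp (hd.mul_left a))
          (iha _ (AddSubgroup.nsmul_mem _ hx _) (Nat.pos_of_mul_pos_right hn0) (fun p hp hd => hn p hp (hd.mul_right b)) h0)
    let ρ : S →+ TP := (π.comp S.subtype).codRestrict TP (fun s => hS.1.1 s.2)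
    have hρ : Function.Bijective ρ := by
      constructor
      · rw [injective_iff_map_eq_zero]; intro s hs
        have : π s.1 = 0 := congrArg Subtype.val hs
        exact Subtype.ext (AddSubgroup.mem_bot.1 (hS.1.2.le_bot (AddSubgroup.mem_inf.2 ⟨s.2, this⟩)))
      · intro t
        obtain ⟨a, ha⟩ := hπ t.1
        obtain ⟨s, hs, k, hk, rfl⟩ := AddSubgroup.mem_sup.1 (full a (by show π a ∈ TP; rw [ha]; exact t.2))
        exact ⟨⟨s, hs⟩, Subtype.ext (by rw [← ha, map_add, AddMonoidHom.mem_ker.1 hk, add_zero]; rfl)⟩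
    let e := AddEquiv.ofBijective ρ hρ
    have hsec : ∀ t : TP, π (e.symm t).1 = t.1 := fun t => congrArg Subtype.val (e.apply_symm_apply t)
    refine ⟨S.subtype.comp e.symm.toAddMonoidHom, hsec, ?_, ?_⟩
    · rintro ⟨a, t⟩ ⟨a', t'⟩ h
      simp only at h
      have h' : π a.1 + t.1 = π a'.1 + t'.1 := by
        have := congrArg π h; rw [map_add, map_add] at this
        simpa [hsec] using this
      have h0 : (t : T) - t' = 0 := hdisj _ (sub_mem t.2 t'.2) (by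
        rw [show (t:T) - t' = π a'.1 - π a.1 by rw [sub_eq_sub_iff_add_eq_add, add_comm, h', add_comm]]
        exact sub_mem a'.2 a.2)
      obtain rfl : t = t' := Subtype.ext (sub_eq_zero.1 h0)
      exact Prod.ext (Subtype.ext (add_right_cancel h)) rfl
    · intro a
      obtain ⟨t, ht, b, hb, htb⟩ := hsplit (π a)
      refine ⟨(⟨a - (e.symm ⟨t, ht⟩).1, ?_⟩, ⟨t, ht⟩), by simp⟩
      show π _ ∈ T'
      rw [map_sub, hsec, ← htb]; simpa using hb
end Groth.Agent.S16343.AuxS43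

end

namespace Groth.Agent.S16343

/-- Let P be a set of primes and π : A → T a surjection of abelian groups whose kernel is ℓ-divisible
for every ℓ ∈ P, with T a torsion group; let T(P) be the subgroup of elements of T killed by a
positive integer all of whose prime factors lie in P, and T' the subgroup of elements killed by a
positive integer none of whose prime factors lies in P. Then the preimage π⁻¹(T') is ℓ-divisible for
every ℓ ∈ P, and π has a section s over T(P) for which (d, t) ↦ d + s(t) is a bijection from π⁻¹(T')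
× T(P) onto A, so that A is the direct sum of π⁻¹(T') and a copy of T(P). (The decomposition is
expressed through a section of π over T(P).) -/
theorem result
    {A T : Type*} [AddCommGroup A] [AddCommGroup T] (P : Set ℕ) (hP : ∀ p ∈ P, p.Prime)
    (π : A →+ T) (hπ : Function.Surjective π) (hT : ∀ t : T, ∃ n : ℕ, 0 < n ∧ n • t = 0)
    (hD : ∀ ℓ ∈ P, ∀ x ∈ π.ker, ∃ y ∈ π.ker, ℓ • y = x)
    (TP T' : AddSubgroup T)
    (hTP : ∀ t, t ∈ TP ↔ ∃ n : ℕ, 0 < n ∧ (∀ p : ℕ, p.Prime → p ∣ n → p ∈ P) ∧ n • t = 0)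
    (hT' : ∀ t, t ∈ T' ↔ ∃ n : ℕ, 0 < n ∧ (∀ p : ℕ, p.Prime → p ∣ n → p ∉ P) ∧ n • t = 0) :
    (∀ ℓ ∈ P, ∀ x ∈ T'.comap π, ∃ y ∈ T'.comap π, ℓ • y = x) ∧
    ∃ s : TP →+ A, (∀ t : TP, π (s t) = (t : T)) ∧
      Function.Bijective (fun q : (T'.comap π) × TP => (q.1 : A) + s q.2) := by
  exact AuxS43.result P hP π hπ hT hD TP T' hTP hT'

end Groth.Agent.S16343
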