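import Groth.Statements.S16344
import Mathlib.Tactic

set_option autoImplicit false
universe u v
open IdeleMod

namespace Groth.Agent.S16344

theorem nonempty_limit {ι : Type*} [Preorder ι] [IsDirected ι (· ≤ ·)]
    (G : ι → Type*) [∀ i, TopologicalSpace (G i)] [∀ i, CompactSpace (G i)] [∀ i, T2Space (G i)]
    (f : ∀ ⦃i j : ι⦄, i ≤ j → G j → G i) (hf : ∀ i j (h : i ≤ j), Continuous (f h))
    (hcomp : ∀ i j k (hij : i ≤ j) (hjk : j ≤ k) (x : G k), f hij (f hjk x) = f (hij.trans hjk) x)
    (S : ∀ i, Set (G i)) (hS : ∀ i, IsClosed (S i)) (hne : ∀ i, (S i).Nonempty)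
    (hmap : ∀ i j (h : i ≤ j), ∀ x ∈ S j, f h x ∈ S i) :
    ∃ z : ∀ i, G i, (∀ i, z i ∈ S i) ∧ ∀ i j (h : i ≤ j), f h (z j) = z i := by
  classical
  choose z₀ hz₀ using hne
  have hK : IsCompact (Set.univ.pi S) := (isClosed_set_pi fun i _ => hS i).isCompact
  obtain ⟨z, hz, hz'⟩ := hK.inter_iInter_nonempty
    (fun P : {P : ι × ι // P.1 ≤ P.2} => {z : ∀ i, G i | f P.2 (z P.1.2) = z P.1.1})
    (fun P => isClosed_eq ((hf _ _ P.2).comp (continuous_apply _)) (continuous_apply _)) (fun u => by
    by_cases hι : Nonempty ι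
    · obtain ⟨k, hk⟩ := (u.image fun P => P.1.2).exists_le
      refine ⟨fun i => if h : i ≤ k then f h (z₀ k) else z₀ i, fun i _ => ?_,
        Set.mem_iInter₂.mpr fun P hP => ?_⟩
      · dsimp only
        split_ifs with h
        · exact hmap _ _ h _ (hz₀ k)
        · exact hz₀ i
      · have h2 := hk _ (Finset.mem_image_of_mem _ hP)
        simp only [Set.mem_setOf_eq, dif_pos h2, dif_pos (P.2.trans h2)]
        exact hcomp _ _ _ _ _ _
    · exact ⟨z₀, fun i _ => hz₀ i, Set.mem_iInter₂.mpr fun P _ => absurd ⟨P.1.1⟩ hι⟩)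
  exact ⟨z, fun i => hz i trivial, fun i j h => Set.mem_iInter.mp hz' ⟨(i, j), h⟩⟩


/-- Let (G_i) be an inverse system, indexed by a directed preorder, of compact Hausdorff topological
abelian groups with continuous surjective transition maps, let G be its limit (the group of
compatible families) and let m be a natural number. Then the canonical map G/mG → lim G_i/mG_i is
bijective: a compatible family that lies in mG_i at every index is m times a compatible family
(injectivity), and every family that is compatible modulo m agrees modulo m, index by index, with a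
compatible family (surjectivity). -/
theorem result
    {ι : Type u} [Preorder ι] [IsDirected ι (· ≤ ·)]
    (G : ι → Type v) [∀ i, AddCommGroup (G i)] [∀ i, TopologicalSpace (G i)]
    [∀ i, IsTopologicalAddGroup (G i)] [∀ i, CompactSpace (G i)] [∀ i, T2Space (G i)]
    (f : ∀ ⦃i j : ι⦄, i ≤ j → (G j →+ G i)) (hf : ∀ i j (h : i ≤ j), Continuous (f h))
    (hid : ∀ i (x : G i), f (le_refl i) x = x)
    (hcomp : ∀ i j k (hij : i ≤ j) (hjk : j ≤ k) (x : G k), f hij (f hjk x) = f (hij.trans hjk) x)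
    (hsurj : ∀ i j (h : i ≤ j), Function.Surjective (f h)) (m : ℕ) :
    (∀ x : ∀ i, G i, (∀ i j (h : i ≤ j), f h (x j) = x i) → (∀ i, ∃ y : G i, m • y = x i) →
        ∃ z : ∀ i, G i, (∀ i j (h : i ≤ j), f h (z j) = z i) ∧ ∀ i, m • z i = x i) ∧
    (∀ y : ∀ i, G i, (∀ i j (h : i ≤ j), ∃ w : G i, f h (y j) - y i = m • w) →
        ∃ x : ∀ i, G i, (∀ i j (h : i ≤ j), f h (x j) = x i) ∧ ∀ i, ∃ w : G i, x i - y i = m • w) := by
  have hcm : ∀ i, Continuous fun z : G i => m • z := fun i => continuous_nsmul m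
  refine ⟨fun x hx hdiv => ?_, fun y hy => ?_⟩
  · obtain ⟨z, hz, hz'⟩ := nonempty_limit G (fun i j h => ⇑(f h)) hf hcomp (fun i => {z | m • z = x i})
      (fun i => isClosed_eq (hcm i) continuous_const) hdiv
      (fun i j h z (hz : m • z = x j) => by
        show m • f h z = x i
        rw [← map_nsmul, hz, hx i j h])
    exact ⟨z, hz', hz⟩
  · obtain ⟨x, hx, hx'⟩ := nonempty_limit G (fun i j h => ⇑(f h)) hf hcomp
      (fun i => (fun z => z - y i) ⁻¹' Set.range fun w : G i => m • w)
      (fun i => (isCompact_range (hcm i)).isClosed.preimage (continuous_id.sub continuous_const))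
      (fun i => ⟨y i, 0, by simp⟩)
      (fun i j h z ⟨w, (hw : m • w = z - y j)⟩ => by
        obtain ⟨w', hw'⟩ := hy i j h
        refine ⟨f h w + w', ?_⟩
        show m • (f h w + w') = f h z - y i
        rw [smul_add, ← hw', ← map_nsmul, hw, map_sub]
        abel)
    exact ⟨x, hx', fun i => by obtain ⟨w, hw⟩ := hx i; exact ⟨w, hw.symm⟩⟩

end Groth.Agent.S16344
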