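import Groth.Statements.S16345
import Groth.Agent.Hopf35.AffCompl.AnyField
import Groth.Agent.SGA3a.SmoothWeil
import Groth.Agent.Var76.SmoothFibre

set_option autoImplicit false
universe u
open KatoHom

namespace Groth.Agent.S16345

open AlgebraicGeometry CategoryTheory in
/-- Let X be a connected scheme, proper and smooth of relative dimension d ≥ 2 over a field L, and let D
⊆ X be a closed subscheme, smooth of relative dimension d − 1 over L (a smooth divisor), whose
complement in X is an affine open subset. Then D is connected (in particular non-empty). -/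
theorem result
    {L : Type u} [Field L] {X D : Scheme.{u}} (f : X ⟶ Spec (CommRingCat.of L)) (i : D ⟶ X)
    [IsProper f] (d : ℕ) (hd : 1 < d) [SmoothOfRelativeDimension d f]
    [IsClosedImmersion i] [SmoothOfRelativeDimension (d - 1) (i ≫ f)]
    [ConnectedSpace X] (U : X.Opens) (hU : IsAffineOpen U)
    (hDU : Set.range i.base = (U : Set X)ᶜ) : ConnectedSpace D := by
  haveI : Smooth f := SmoothOfRelativeDimension.smooth d f
  haveI : IrreducibleSpace X := SGA3a.irreducibleSpace_of_smooth_connected f
  have hdim : (2 : WithBot ℕ∞) ≤ topologicalKrullDim X := by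
    have hmem : (Set.univ : Set X) ∈ irreducibleComponents X :=
      ⟨IrreducibleSpace.isIrreducible_univ X, fun _ _ _ => Set.subset_univ _⟩
    have h := Var76.SmoothFibre.dim_component f d Set.univ hmem
    rw [(Homeomorph.Set.univ X).isHomeomorph.topologicalKrullDim_eq] at h
    rw [h]
    exact_mod_cast hd
  have hc := Hopf35.AffCompl.isConnected_compl_affine_of_irreducible L f hdim U hU
  rw [← hDU] at hc
  rw [connectedSpace_iff_univ]
  refine ⟨?_, i.isClosedEmbedding.isInducing.isPreconnected_image.1 (by rw [Set.image_univ]; exact hc.isPreconnected)⟩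
  obtain ⟨_, x, -⟩ := hc.nonempty
  exact ⟨x, trivial⟩

end Groth.Agent.S16345
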