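import Groth.Statements.S16346
import Mathlib

set_option autoImplicit false
universe u v
open KatoHom

noncomputable section
namespace Groth.Agent.S16346.AuxS46b
theorem result
    {A : Type*} [AddCommGroup A] (P : Set ℕ) (hP : ∀ p ∈ P, p.Prime)
    (IP : Set ℕ) (hIP : ∀ n, n ∈ IP ↔ 0 < n ∧ ∀ p : ℕ, p.Prime → p ∣ n → p ∈ P)
    (B : IP → Type*) [∀ n, AddCommGroup (B n)]
    (g : ∀ ⦃m n : IP⦄, (m : ℕ) ∣ (n : ℕ) → (B n →+ B m))
    (φ : ∀ n : IP, A →+ B n)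
    (hφg : ∀ (m n : IP) (h : (m : ℕ) ∣ (n : ℕ)) (a : A), g h (φ n a) = φ m a)
    (N : ℕ) (hN : N ∈ IP)
    (htor : ∀ b : ∀ n : IP, B n, (∀ (m n : IP) (h : (m : ℕ) ∣ (n : ℕ)), g h (b n) = b m) →
      (∃ k : ℕ, 0 < k ∧ ∀ n, k • b n = 0) → ∀ n, N • b n = 0)
    (hker : ∀ a : IP → A, (∀ m n : IP, (m : ℕ) ∣ (n : ℕ) → ∃ c : A, a n - a m = (m : ℕ) • c) →
      (∀ n, φ n (a n) = 0) → ∀ n : IP, ∃ c : A, N • a n = (n : ℕ) • c) :
    (∀ ℓ ∈ P, ∀ x : A, (∀ n ∈ IP, ∃ y : A, x = n • y) →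
        ∃ y : A, (∀ n ∈ IP, ∃ z : A, y = n • z) ∧ ℓ • y = x) ∧
    (∀ H : AddSubgroup A, (∀ ℓ ∈ P, ∀ x ∈ H, ∃ y ∈ H, ℓ • y = x) →
        ∀ x ∈ H, ∀ n ∈ IP, ∃ y : A, x = n • y) := by
  have hmul : ∀ {a b : ℕ}, a ∈ IP → b ∈ IP → a * b ∈ IP := by
    intro a b ha hb
    rw [hIP] at ha hb ⊢
    exact ⟨Nat.mul_pos ha.1 hb.1, fun p hp hd => (hp.dvd_mul.1 hd).elim (ha.2 p hp) (hb.2 p hp)⟩
  refine ⟨?_, ?_⟩
  · intro ℓ hℓ x hx
    have hℓI : ℓ ∈ IP := (hIP ℓ).2 ⟨(hP ℓ hℓ).pos, fun p hp hd => (Nat.prime_dvd_prime_iff_eq hp (hP ℓ hℓ)).1 hd ▸ hℓ⟩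
    have key : ∀ d : A, (∃ k : ℕ, 0 < k ∧ k • d = 0) → ∀ n ∈ IP, ∃ c, N • (N • d) = n • c := by
      intro d ⟨k, hk, hkd⟩ n hn
      have h1 := htor (fun m => φ m d) (fun m n h => hφg m n h d) ⟨k, hk, fun m => by rw [← map_nsmul, hkd, map_zero]⟩
      exact hker (fun _ => N • d) (fun m n _ => ⟨0, by simp⟩) (fun m => by rw [map_nsmul]; exact h1 m) ⟨n, hn⟩
    obtain ⟨w, hw⟩ := hx (ℓ * (N * N)) (hmul hℓI (hmul hN hN))
    refine ⟨(N * N) • w, fun n hn => ?_, by rw [hw, ← mul_nsmul']⟩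
    obtain ⟨wn, hwn⟩ := hx (ℓ * (N * N) * n) (hmul (hmul hℓI (hmul hN hN)) hn)
    obtain ⟨c, hc⟩ := key (n • wn - w) ⟨ℓ * (N * N), Nat.mul_pos (hP ℓ hℓ).pos (Nat.mul_pos ((hIP N).1 hN).1 ((hIP N).1 hN).1), by
      rw [nsmul_sub, ← mul_nsmul', ← hwn, ← hw, sub_self]⟩ n hn
    refine ⟨(N * N) • wn - c, ?_⟩
    rw [nsmul_sub, ← hc, nsmul_sub, nsmul_sub, ← mul_nsmul' _ N N, ← mul_nsmul' _ N N, smul_comm n (N*N) wn]
    abel
  · intro H hH x hx n hn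
    suffices ∀ n, n ∈ IP → ∀ x ∈ H, ∃ y ∈ H, x = n • y by
      obtain ⟨y, -, h⟩ := this n hn x hx; exact ⟨y, h⟩
    intro n
    induction n using Nat.recOnMul with
    | zero => intro h; exact absurd ((hIP 0).1 h).1 (by omega)
    | one => intro _ x hx; exact ⟨x, hx, by simp⟩
    | prime p hp => intro h x hx; obtain ⟨y, hy, e⟩ := hH p (((hIP p).1 h).2 p hp dvd_rfl) x hx; exact ⟨y, hy, e.symm⟩
    | mul a b iha ihb =>
      intro h x hx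
      obtain ⟨h0, hp⟩ := (hIP _).1 h
      obtain ⟨y, hy, rfl⟩ := iha ((hIP a).2 ⟨Nat.pos_of_mul_pos_right h0, fun p q d => hp p q (d.mul_right b)⟩) x hx
      obtain ⟨z, hz, rfl⟩ := ihb ((hIP b).2 ⟨Nat.pos_of_mul_pos_left h0, fun p q d => hp p q (d.mul_left a)⟩) y hy
      exact ⟨z, hz, (mul_nsmul' z a b).symm⟩
end Groth.Agent.S16346.AuxS46b

end

namespace Groth.Agent.S16346

/-- Let P be a set of primes and I_P the set of positive integers all of whose prime factors lie in P.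
Let A be an abelian group, (B_n)_{n ∈ I_P} an inverse system of abelian groups with transition maps
B_n → B_m for m ∣ n, and φ_n : A → B_n homomorphisms vanishing on nA and compatible with the
transition maps, so that they induce φ̂ : Â → B̂ on the limits Â = lim A/nA and B̂ = lim B_n (limits
taken as compatible families). Suppose some N ∈ I_P kills the torsion subgroup of B̂ and kills the
kernel of φ̂ (the latter meaning: a compatible family of residues (a_n) with φ_n(a_n) = 0 for all n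
has N a_n ∈ nA for all n). Then the subgroup ⋂_{n ∈ I_P} nA is ℓ-divisible for every ℓ ∈ P, and it
contains every subgroup of A that is ℓ-divisible for all ℓ ∈ P; that is, it is the largest
P-divisible subgroup of A. -/
theorem result
    {A : Type u} [AddCommGroup A] (P : Set ℕ) (hP : ∀ p ∈ P, p.Prime)
    (IP : Set ℕ) (hIP : ∀ n, n ∈ IP ↔ 0 < n ∧ ∀ p : ℕ, p.Prime → p ∣ n → p ∈ P)
    (B : IP → Type v) [∀ n, AddCommGroup (B n)]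
    (g : ∀ ⦃m n : IP⦄, (m : ℕ) ∣ (n : ℕ) → (B n →+ B m))
    (hgid : ∀ (n : IP) (b : B n), g (dvd_refl (n : ℕ)) b = b)
    (hgcomp : ∀ (k m n : IP) (hkm : (k : ℕ) ∣ (m : ℕ)) (hmn : (m : ℕ) ∣ (n : ℕ)) (b : B n),
      g hkm (g hmn b) = g (hkm.trans hmn) b)
    (φ : ∀ n : IP, A →+ B n) (hφ : ∀ (n : IP) (a : A), φ n ((n : ℕ) • a) = 0)
    (hφg : ∀ (m n : IP) (h : (m : ℕ) ∣ (n : ℕ)) (a : A), g h (φ n a) = φ m a)
    (N : ℕ) (hN : N ∈ IP)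
    (htor : ∀ b : ∀ n : IP, B n, (∀ (m n : IP) (h : (m : ℕ) ∣ (n : ℕ)), g h (b n) = b m) →
      (∃ k : ℕ, 0 < k ∧ ∀ n, k • b n = 0) → ∀ n, N • b n = 0)
    (hker : ∀ a : IP → A, (∀ m n : IP, (m : ℕ) ∣ (n : ℕ) → ∃ c : A, a n - a m = (m : ℕ) • c) →
      (∀ n, φ n (a n) = 0) → ∀ n : IP, ∃ c : A, N • a n = (n : ℕ) • c) :
    (∀ ℓ ∈ P, ∀ x : A, (∀ n ∈ IP, ∃ y : A, x = n • y) →
        ∃ y : A, (∀ n ∈ IP, ∃ z : A, y = n • z) ∧ ℓ • y = x) ∧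
    (∀ H : AddSubgroup A, (∀ ℓ ∈ P, ∀ x ∈ H, ∃ y ∈ H, ℓ • y = x) →
        ∀ x ∈ H, ∀ n ∈ IP, ∃ y : A, x = n • y) := by
  exact AuxS46b.result P hP IP hIP B g φ hφg N hN htor hker

end Groth.Agent.S16346
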