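import Groth.Agent.Cubic51.Smooth
import Groth.Statements.S16347
-- import your own Groth.Agent.* helpers here

set_option autoImplicit false
universe u
open Cubic

namespace Groth.Agent.S16347

/-- Let K be an algebraically closed field of characteristic zero and S = V(F) ⊂ P^3_K a cubic surface,
F a homogeneous cubic in four variables which is irreducible and not a cone (there is no nonzero
vector v with Σ_i v_i ∂F/∂x_i = 0). If a is a singular point of S (a nonzero vector with F(a) = 0
and every ∂F/∂x_i(a) = 0), then at most six lines through a lie on S; here a line through a on S is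
a 2-dimensional subspace of K^4 containing a on which F vanishes identically. -/
theorem result (K : Type u) [Field K] [IsAlgClosed K] [CharZero K]
    (F : MvPolynomial (Fin 4) K) (hF : F.IsHomogeneous 3) (hirr : Irreducible F)
    (hcone : ¬ ∃ v : Fin 4 → K, v ≠ 0 ∧ ∑ i : Fin 4, v i • MvPolynomial.pderiv i F = 0)
    (a : Fin 4 → K) (ha : a ≠ 0) (hFa : MvPolynomial.eval a F = 0)
    (hsing : ∀ i : Fin 4, MvPolynomial.eval a (MvPolynomial.pderiv i F) = 0) :
    {U : Submodule K (Fin 4 → K) | a ∈ U ∧ Module.finrank K ↥U = 2 ∧ ∀ u ∈ U, MvPolynomial.eval u F = 0}.encard ≤ 6 := by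
  have hP := Cubic51.noPlane_of_irr hF hirr
  have hC := Cubic51.nonCone_of hF hcone
  have hs : (Eckardt51.ofPoly F).T a a = 0 := by
    refine (Pi.basisFun K (Fin 4)).ext fun i => ?_
    have := hsing i
    rw [← Eckardt51.ofPoly_T_single hF, mul_eq_zero] at this
    simpa using this.resolve_left (by norm_num)
  have hset : {U : Submodule K (Fin 4 → K) | a ∈ U ∧ Module.finrank K ↥U = 2 ∧
      ∀ u ∈ U, MvPolynomial.eval u F = 0} =
      {U | a ∈ U ∧ Cubic51.IsLine (Eckardt51.ofPoly F) U} := by
    ext U; simp [Cubic51.IsLine, Eckardt51.eval_eq_f hF]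
  rw [hset]
  exact Cubic51.encard_lines_through_singular _ (Module.finrank_fin_fun K) hP hC ha hs

end Groth.Agent.S16347
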