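import Mathlib.Algebra.Polynomial.Roots
import Mathlib.Algebra.CharZero.Infinite
import Mathlib.LinearAlgebra.Dimension.Finite
import Groth.Statements.S16351
-- import your own Groth.Agent.* helpers here

set_option autoImplicit false
universe u
open Cubic

namespace Groth.Agent.S16351

/-- Let K be a field of characteristic zero and S = V(F) ⊂ P^3_K a cone over a plane cubic curve C,
normalised so that the vertex is [1 : 0 : 0 : 0], i.e. F is a homogeneous cubic in K[x_0, …, x_3]
not involving x_0 and C = V(F) in the plane P^2 of the coordinates x_1, x_2, x_3. If C has five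
K-rational points no three of which are collinear, then S has five K-rational points in general
position (no four coplanar: any four representing vectors linearly independent). -/
theorem result (K : Type u) [Field K] [CharZero K]
    (G : MvPolynomial (Fin 3) K) (hG : G.IsHomogeneous 3) (F : MvPolynomial (Fin 4) K)
    (hF : F = MvPolynomial.rename Fin.succ G)
    (b : Fin 5 → (Fin 3 → K)) (hb : ∀ j : Fin 5, MvPolynomial.eval (b j) G = 0)
    (h3 : ∀ i j l : Fin 5, i ≠ j → j ≠ l → i ≠ l → LinearIndependent K ![b i, b j, b l]) :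
    ∃ p : Fin 5 → (Fin 4 → K), (∀ j : Fin 5, MvPolynomial.eval (p j) F = 0) ∧
      ∀ j : Fin 5, LinearIndependent K (fun i : Fin 4 => p (j.succAbove i)) := by
  classical
  have hface : ∀ j : Fin 5, ∃ μ : Fin 4 → K, (∀ i, μ i ≠ 0) ∧
      ∀ g : Fin 4 → K, ∑ i, g i • b (j.succAbove i) = 0 → ∃ s : K, ∀ i, g i = s * μ i := by
    intro j
    have hne : ¬ LinearIndependent K (fun i => b (j.succAbove i)) := fun h => by
      simpa using h.fintype_card_le_finrank
    obtain ⟨μ, hμ, i₀, hi₀⟩ := Fintype.not_linearIndependent_iff.1 hne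
    have key : ∀ g : Fin 4 → K, ∑ i, g i • b (j.succAbove i) = 0 → ∀ i, g i = 0 → g = 0 := by
      intro g hg i hi
      rw [Fin.sum_univ_succAbove _ i, hi, zero_smul, zero_add] at hg
      have hinj : Function.Injective (fun l : Fin 3 => j.succAbove (i.succAbove l)) :=
        Fin.succAbove_right_injective.comp Fin.succAbove_right_injective
      have hli := h3 _ _ _ (fun h => absurd (hinj h) (by decide : (0 : Fin 3) ≠ 1))
        (fun h => absurd (hinj h) (by decide : (1 : Fin 3) ≠ 2))
        (fun h => absurd (hinj h) (by decide : (0 : Fin 3) ≠ 2))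
      have := Fintype.linearIndependent_iff.1 hli (fun l => g (i.succAbove l))
        (by simpa [Fin.sum_univ_three] using hg)
      funext l
      rcases Fin.eq_self_or_eq_succAbove i l with rfl | ⟨t, rfl⟩
      · exact hi
      · exact this t
    refine ⟨μ, fun i hi => hi₀ (congrFun (key μ hμ i hi) i₀), fun g hg => ⟨g i₀ / μ i₀, fun i => ?_⟩⟩
    have := congrFun (key (fun i => g i - g i₀ / μ i₀ * μ i) (by
      simp only [sub_smul, mul_smul, Finset.sum_sub_distrib, ← Finset.smul_sum, hg, hμ, smul_zero,
        sub_zero]) i₀ (by rw [div_mul_cancel₀ _ hi₀, sub_self])) i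
    exact sub_eq_zero.1 this
  choose μ hμ0 hμ using hface
  let P : Fin 5 → Polynomial K := fun j =>
    ∑ i, Polynomial.C (μ j i) * Polynomial.X ^ (j.succAbove i : ℕ)
  have hP : ∀ j, P j ≠ 0 := by
    intro j h
    have := congrArg (fun q => q.coeff (j.succAbove 0 : ℕ)) h
    simp [P, Polynomial.coeff_X_pow, ← Fin.ext_iff, Fin.succAbove_right_inj,
      Finset.sum_ite_eq] at this
    exact hμ0 j 0 this
  obtain ⟨t, ht⟩ := Infinite.exists_notMem_finset
    (Finset.univ.biUnion fun j => (P j).roots.toFinset)
  refine ⟨fun j => Fin.cons (t ^ (j : ℕ)) (b j), fun j => ?_, fun j => ?_⟩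
  · rw [hF, MvPolynomial.eval_rename]
    exact hb j
  · refine Fintype.linearIndependent_iff.2 fun g hg => ?_
    have h0 : ∑ i, g i * t ^ (j.succAbove i : ℕ) = 0 := by
      simpa [Finset.sum_apply] using congrFun hg 0
    obtain ⟨s, hs⟩ := hμ j g (funext fun l => by
      simpa [Finset.sum_apply] using congrFun hg l.succ)
    have hs0 : s = 0 := by
      simp only [hs, mul_assoc, ← Finset.mul_sum] at h0
      refine (mul_eq_zero.1 h0).resolve_right fun h => ht ?_
      simp only [Finset.mem_biUnion, Finset.mem_univ, true_and, Multiset.mem_toFinset]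
      refine ⟨j, (Polynomial.mem_roots (hP j)).2 ?_⟩
      simpa [P, Polynomial.eval_finsetSum] using h
    intro i
    rw [hs, hs0, zero_mul]

end Groth.Agent.S16351
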