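import Groth.Statements.S16353
import Mathlib.Tactic

set_option autoImplicit false
universe u
open DegLoci

namespace Groth.Agent.S16353

theorem coeff_contract {k : Type*} [CommSemiring k] {m : ℕ} (D G : MvPolynomial (Fin m) k) (γ : Fin m →₀ ℕ) :
    (W4c3degenlocivb.contract D G).coeff γ =
      ∑ a ∈ D.support, D.coeff a * G.coeff (a + γ) * ((∏ i, ((a + γ) i).descFactorial (a i) : ℕ) : k) := by
  classical
  simp only [W4c3degenlocivb.contract, MvPolynomial.coeff_sum, apply_ite (MvPolynomial.coeff γ),
    MvPolynomial.coeff_monomial, MvPolynomial.coeff_zero]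
  refine Finset.sum_congr rfl fun a _ => ?_
  rw [Finset.sum_eq_single (a + γ)]
  · rw [if_pos (le_self_add), add_tsub_cancel_left, if_pos rfl]
    congr 2
    refine Finset.prod_subset (Finset.subset_univ _) fun i _ hi => ?_
    rw [Finsupp.notMem_support_iff] at hi
    rw [hi, show a i = 0 by simp at hi; omega, Nat.descFactorial_zero]
  · intro b _ hb
    split_ifs with h1 h2
    · exact absurd (by rw [← h2, add_tsub_cancel_of_le h1]) hb
    · rfl
    · rfl
  · intro h
    rw [MvPolynomial.notMem_support_iff.mp h]
    simp

theorem contract_comm {k : Type*} [CommSemiring k] {m : ℕ} (A B G : MvPolynomial (Fin m) k) :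
    W4c3degenlocivb.contract A (W4c3degenlocivb.contract B G) = W4c3degenlocivb.contract B (W4c3degenlocivb.contract A G) := by
  ext γ
  simp only [coeff_contract, Finset.mul_sum, Finset.sum_mul]
  rw [Finset.sum_comm]
  refine Finset.sum_congr rfl fun b _ => Finset.sum_congr rfl fun a _ => ?_
  have h : ∀ a b : Fin m →₀ ℕ, (∏ i, ((a + γ) i).descFactorial (a i)) * (∏ i, ((b + (a + γ)) i).descFactorial (b i)) =
      ∏ i, ((b + (a + γ)) i).descFactorial (a i + b i) := by
    intro a b
    rw [← Finset.prod_mul_distrib]
    refine Finset.prod_congr rfl fun i _ => ?_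
    have := Nat.descFactorial_mul_descFactorial (n := (b + (a + γ)) i) (k := b i) (m := a i + b i) (by omega)
    simp only [Finsupp.add_apply, add_tsub_cancel_left, Nat.add_sub_cancel] at this ⊢
    rw [← this]
  have h1 := congrArg (fun t : ℕ => (t : k)) (h a b)
  have h2 := congrArg (fun t : ℕ => (t : k)) (h b a)
  simp only [add_left_comm a b γ, Nat.cast_mul] at h1 h2 ⊢
  rw [show ∀ x y z u w : k, x * (y * z * u) * w = x * y * z * (w * u) from fun x y z u w => by ring,
    show ∀ x y z u w : k, x * (y * z * u) * w = x * y * z * (w * u) from fun x y z u w => by ring]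
  rw [h1, h2]
  simp only [add_comm (a _) (b _)]
  ring


/-- Let k be a field of characteristic zero, R = k[y_0, …, y_{m−1}] acting on S = k[∂_0, …, ∂_{m−1}] by
apolarity (y_i acts as the derivative with respect to ∂_i), F ∈ S homogeneous of degree e and d ≤ e.
Then the degree-d part of the apolar ideal of F is the orthogonal complement of the partial
derivatives of F of order e − d: a homogeneous D ∈ R_d satisfies D(F) = 0 if and only if D(y^α(F)) =
0 for every multi-index α with |α| = e − d (each D(y^α(F)) being a constant, the value of the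
apolarity pairing of D with y^α(F)). -/
theorem result (k : Type u) [Field k] [CharZero k] (m : ℕ)
    (F : MvPolynomial (Fin m) k) (e : ℕ) (hF : F.IsHomogeneous e) (d : ℕ) (hd : d ≤ e)
    (D : MvPolynomial (Fin m) k) (hD : D.IsHomogeneous d) :
    W4c3degenlocivb.contract D F = 0 ↔
      ∀ α : Fin m →₀ ℕ, α.degree = e - d → W4c3degenlocivb.contract D (W4c3degenlocivb.contract (MvPolynomial.monomial α 1) F) = 0 := by
  classical
  constructor
  · intro h α _
    rw [contract_comm, h]
    simp [W4c3degenlocivb.contract]
  · intro h
    ext γ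
    rw [MvPolynomial.coeff_zero]
    by_cases hγ : γ.degree = e - d
    · have h0 := congrArg (MvPolynomial.coeff 0) (h γ hγ)
      rw [contract_comm, coeff_contract, MvPolynomial.coeff_zero, MvPolynomial.support_monomial, if_neg one_ne_zero,
        Finset.sum_singleton, MvPolynomial.coeff_monomial, if_pos rfl, one_mul, add_zero] at h0
      refine (mul_eq_zero.mp h0).resolve_right ?_
      exact Nat.cast_ne_zero.mpr (Finset.prod_ne_zero_iff.mpr fun i _ => (Nat.descFactorial_pos.mpr le_rfl).ne')
    · rw [coeff_contract]
      refine Finset.sum_eq_zero fun a ha => ?_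
      have had : a.degree = d := by
        rw [Finsupp.degree_eq_weight_one]; exact hD (MvPolynomial.mem_support_iff.mp ha)
      rw [show F.coeff (a + γ) = 0 from hF.coeff_eq_zero ?_, mul_zero, zero_mul]
      intro hdeg
      apply hγ
      rw [map_add, had] at hdeg
      omega

end Groth.Agent.S16353
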