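import Groth.Statements.S16356
import Mathlib.Tactic
import Mathlib.RingTheory.WittVector.DiscreteValuationRing
import Mathlib.RingTheory.WittVector.Domain
import Mathlib.RingTheory.WittVector.Identities
import Mathlib.NumberTheory.Multiplicity

set_option autoImplicit false
universe u
open OrdAV

namespace Groth.Agent.S16356

/-- For an odd prime p and a perfect field k of characteristic p, a root of unity in the ring of Witt
vectors W(k) whose residue in k is 1 is itself 1: if x ^ n = 1 with n ≥ 1 and the zeroth Witt
component of x is 1, then x = 1. (For p = 2 this fails: -1 in W(F_2).) -/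
theorem result (p : ℕ) [Fact p.Prime] (hp : p ≠ 2)
    (k : Type u) [Field k] [CharP k p] [PerfectRing k p]
    (x : WittVector p k) (n : ℕ) (hn : 0 < n) (hx : x ^ n = 1) (h0 : x.coeff 0 = 1) : x = 1 := by
  have key : ∀ (q : ℕ), q.Prime → ∀ y : WittVector p k, y ^ q = 1 → y.coeff 0 = 1 → y = 1 := by
    intro q hq y hy hy0
    by_contra hne
    have hgs : ∑ i ∈ Finset.range q, y ^ i = 0 := by
      have h := geom_sum_mul y q
      rw [hy, sub_self] at h
      exact (mul_eq_zero.mp h).resolve_right (sub_ne_zero.mpr hne)
    have hqp : p = q := by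
      have h := congrArg (WittVector.constantCoeff (p := p) (R := k)) hgs
      rw [map_sum, map_zero] at h
      simp only [map_pow, WittVector.constantCoeff_apply, hy0, one_pow, Finset.sum_const, Finset.card_range,
        nsmul_eq_mul, mul_one] at h
      exact (Nat.prime_dvd_prime_iff_eq Fact.out hq).mp ((CharP.cast_eq_zero_iff k p q).mp h)
    subst hqp
    obtain ⟨j, b, hb, hjb⟩ := WittVector.exists_eq_pow_p_mul (y - 1) (sub_ne_zero.mpr hne)
    have hj : 1 ≤ j := by
      rcases Nat.eq_zero_or_pos j with rfl | h
      · rw [pow_zero, one_mul] at hjb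
        refine absurd ?_ hb
        rw [← hjb, ← WittVector.constantCoeff_apply, map_sub, WittVector.constantCoeff_apply, hy0]
        simp
      · exact h
    have hy' : y = 1 + (p : WittVector p k) * ((p : WittVector p k) ^ (j - 1) * b) := by
      rw [← mul_assoc, ← pow_succ', Nat.sub_add_cancel hj, ← hjb]; ring
    have h2 := odd_sq_dvd_geom_sum₂_sub (R := WittVector p k)
      (1 : WittVector p k) ((p : WittVector p k) ^ (j - 1) * b) (hq.odd_of_ne_two hp)
    rw [← hy'] at h2
    simp only [one_pow, mul_one, hgs, zero_sub, dvd_neg] at h2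
    have h3 : (p : WittVector p k) ∣ 1 := by
      rw [pow_two] at h2
      exact (mul_dvd_mul_iff_left (WittVector.p_nonzero p k)).mp (by simpa using h2)
    exact (WittVector.irreducible p).not_isUnit (isUnit_of_dvd_one h3)
  by_contra hne
  have hfin : IsOfFinOrder x := isOfFinOrder_iff_pow_eq_one.mpr ⟨n, hn, hx⟩
  obtain ⟨q, hq, hqd⟩ := Nat.exists_prime_and_dvd (orderOf_eq_one_iff.not.mpr hne)
  obtain ⟨e, he⟩ := hqd
  have he0 : e ≠ 0 := by rintro rfl; exact hfin.orderOf_pos.ne' (by rw [he, mul_zero])
  have h1 : x ^ e = 1 := key q hq (x ^ e) (by rw [← pow_mul, mul_comm, ← he, pow_orderOf_eq_one]) (by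
    rw [← WittVector.constantCoeff_apply, map_pow, WittVector.constantCoeff_apply, h0, one_pow])
  have hle := Nat.le_of_dvd (Nat.pos_of_ne_zero he0) (orderOf_dvd_of_pow_eq_one h1)
  rw [he] at hle
  nlinarith [hq.two_le, Nat.pos_of_ne_zero he0]

end Groth.Agent.S16356
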