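import Groth.Statements.S16357
import Mathlib.Tactic

set_option autoImplicit false
universe u
open OrdAV

namespace Groth.Agent.S16357

/-- Over a field L of characteristic zero, a monic polynomial h whose square has rational coefficients
has rational coefficients itself. -/
theorem result (L : Type u) [Field L] [CharZero L]
    (h : Polynomial L) (hm : h.Monic) (f : Polynomial ℚ)
    (hf : h ^ 2 = Polynomial.map (algebraMap ℚ L) f) :
    ∃ g : Polynomial ℚ, Polynomial.map (algebraMap ℚ L) g = h := by
  classical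
  let R := (algebraMap ℚ L).range
  suffices h1 : ∀ i, h.coeff i ∈ R from
    (Polynomial.mem_lifts h).mp ((Polynomial.lifts_iff_coeff_lifts h).mpr fun i => h1 i)
  by_contra hcon
  push Not at hcon
  obtain ⟨i₁, hi₁⟩ := hcon
  set N := h.natDegree with hN
  have hle : ∀ i, h.coeff i ∉ R → i < N := by
    intro i hi
    by_contra hc
    push Not at hc
    rcases eq_or_lt_of_le hc with h' | h'
    · exact hi (by rw [← h', hN, Polynomial.Monic.coeff_natDegree hm]; exact one_mem R)
    · exact hi (by rw [Polynomial.coeff_eq_zero_of_natDegree_lt h']; exact zero_mem R)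
  let T := (Finset.range N).filter fun i => h.coeff i ∉ R
  have hT : T.Nonempty := ⟨i₁, Finset.mem_filter.mpr ⟨Finset.mem_range.mpr (hle _ hi₁), hi₁⟩⟩
  obtain ⟨hiN, hi⟩ := Finset.mem_filter.mp (T.max'_mem hT)
  rw [Finset.mem_range] at hiN
  set i := T.max' hT with hidef
  have hgt : ∀ j, i < j → h.coeff j ∈ R := by
    intro j hj
    by_contra hc
    exact absurd (T.le_max' j (Finset.mem_filter.mpr ⟨Finset.mem_range.mpr (hle _ hc), hc⟩)) (not_le.mpr hj)
  have hsum : (h ^ 2).coeff (N + i) ∈ R := by rw [hf, Polynomial.coeff_map]; exact ⟨_, rfl⟩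
  rw [pow_two, Polynomial.coeff_mul] at hsum
  have hne : ((N, i) : ℕ × ℕ) ≠ (i, N) := by simp only [ne_eq, Prod.mk.injEq]; omega
  have hsub : ({(N, i), (i, N)} : Finset (ℕ × ℕ)) ⊆ Finset.HasAntidiagonal.antidiagonal (N + i) := by
    intro x hx
    simp only [Finset.mem_insert, Finset.mem_singleton] at hx
    rcases hx with rfl | rfl <;> simp [add_comm]
  rw [← Finset.sum_sdiff hsub, Finset.sum_pair hne] at hsum
  have hrest : ∑ x ∈ Finset.HasAntidiagonal.antidiagonal (N + i) \ {(N, i), (i, N)}, h.coeff x.1 * h.coeff x.2 ∈ R := by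
    refine sum_mem fun x hx => ?_
    simp only [Finset.mem_sdiff, Finset.mem_antidiagonal, Finset.mem_insert, Finset.mem_singleton, not_or,
      Prod.ext_iff] at hx
    obtain ⟨a, b⟩ := x
    dsimp only at hx ⊢
    by_cases ha : N < a
    · rw [Polynomial.coeff_eq_zero_of_natDegree_lt (show h.natDegree < a by omega), zero_mul]; exact zero_mem R
    by_cases hb : N < b
    · rw [Polynomial.coeff_eq_zero_of_natDegree_lt (show h.natDegree < b by omega), mul_zero]; exact zero_mem R
    exact mul_mem (hgt a (by omega)) (hgt b (by omega))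
  have h2 := sub_mem hsum hrest
  rw [add_sub_cancel_left, hN, Polynomial.Monic.coeff_natDegree hm, one_mul, mul_one] at h2
  obtain ⟨r, hr⟩ := h2
  exact hi ⟨r / 2, by rw [map_div₀, hr, map_ofNat]; ring⟩

end Groth.Agent.S16357
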