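import Groth.Statements.S16358
import Mathlib.Tactic
import Mathlib.RingTheory.WittVector.DiscreteValuationRing
import Mathlib.RingTheory.WittVector.Domain
import Mathlib.RingTheory.WittVector.Identities
import Mathlib.NumberTheory.Multiplicity
import Mathlib.LinearAlgebra.TensorProduct.Quotient

set_option autoImplicit false
universe u v w
open OrdAV

namespace Groth.Agent.S16358

/-- Let k be a perfect field of characteristic p > 0 and W = W(k); let M be a finitely generated free
W-module on which a finite group G acts W-linearly, with invariant submodule M^G. Then the map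
(W/pW) ⊗ M^G → (W/pW) ⊗ M induced by the inclusion is injective. Since M^G is free, this implies
rank_W M^G ≤ dim_k (M/pM)^G; the published statement is that inequality, and this row states the
stronger injectivity. -/
theorem result (p : ℕ) [Fact p.Prime]
    (k : Type u) [Field k] [CharP k p] [PerfectRing k p]
    (M : Type v) [AddCommGroup M] [Module (WittVector p k) M]
    [Module.Free (WittVector p k) M] [Module.Finite (WittVector p k) M]
    (G : Type w) [Group G] [Finite G] (ρ : Representation (WittVector p k) G M) :
    Function.Injective
      (LinearMap.lTensor (WittVector p k ⧸ Ideal.span {(p : WittVector p k)}) ρ.invariants.subtype) := by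
  set W := WittVector p k
  set I : Ideal W := Ideal.span {(p : W)} with hI
  rw [injective_iff_map_eq_zero]
  intro t ht
  have hp0 : (p : W) ≠ 0 := WittVector.p_nonzero p k
  have hgen : ∀ z : TensorProduct W (W ⧸ I) ρ.invariants, ∃ v : ρ.invariants,
      TensorProduct.tmul W (1 : W ⧸ I) v = z := by
    intro z
    induction z using TensorProduct.induction_on with
    | zero => exact ⟨0, TensorProduct.tmul_zero _ _⟩
    | tmul a v =>
      obtain ⟨a, rfl⟩ := Ideal.Quotient.mk_surjective a
      refine ⟨a • v, ?_⟩
      rw [← TensorProduct.smul_tmul]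
      congr 1
      rw [Algebra.smul_def, mul_one]
      rfl
    | add _ _ ha hb =>
      obtain ⟨a, rfl⟩ := ha
      obtain ⟨b, rfl⟩ := hb
      exact ⟨a + b, TensorProduct.tmul_add _ _ _⟩
  obtain ⟨v, rfl⟩ := hgen t
  rw [LinearMap.lTensor_tmul] at ht
  have hmem := congrArg (TensorProduct.quotTensorEquivQuotSMul M I) ht
  rw [map_zero] at hmem
  have hv : (v : M) ∈ I • (⊤ : Submodule W M) := by
    rw [← Submodule.Quotient.mk_eq_zero]
    exact (TensorProduct.quotTensorEquivQuotSMul_mk_one_tmul I _).symm.trans hmem
  rw [hI, Submodule.ideal_span_singleton_smul, Submodule.mem_smul_pointwise_iff_exists] at hv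
  obtain ⟨w, -, hw⟩ := hv
  have hwi : w ∈ ρ.invariants := by
    rw [Representation.mem_invariants]
    intro g
    refine smul_right_injective M hp0 ?_
    show (p : W) • ρ g w = (p : W) • w
    rw [← map_smul, hw]
    exact v.2 g
  have hv' : v = (p : W) • ⟨w, hwi⟩ := Subtype.ext hw.symm
  rw [hv', ← TensorProduct.smul_tmul]
  have : (p : W) • (1 : W ⧸ I) = 0 := by
    rw [Algebra.smul_def, mul_one]
    exact Ideal.Quotient.eq_zero_iff_mem.mpr (Ideal.subset_span rfl)
  rw [this, TensorProduct.zero_tmul]

end Groth.Agent.S16358
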