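import Groth.Statements.S16361
import Groth.Agent.Fib44.Comp
-- import your own Groth.Agent.* helpers here

set_option autoImplicit false
universe v u
open CategoryTheory CategoryTheory.Limits
open FibCat

set_option backward.isDefEq.respectTransparency false
set_option backward.isDefEq.respectTransparency.types false

namespace Groth.Agent.S16361

/-- Let S be a category, π_X : X ⥤ S and π_Y : Y ⥤ S be fibred in groupoids, and F : Y ⥤ X a functor
with F ⋙ π_X = π_Y. Consider the category of triples (y, x, φ) with φ : F y ≅ x an arbitrary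
isomorphism of X and morphisms the compatible pairs of morphisms (the categorical pullback of F and
the identity of X; the isomorphism φ is not required to lie over an identity of S). Its projection
to X is fibred in groupoids over X, and the composite of that projection with π_X is fibred in
groupoids over S. (The published statement also asserts that y ↦ (y, F y, id) and (y, x, φ) ↦ y form
an equivalence over S; that is not asserted here.) -/
theorem result {S : Type u} [Category.{v} S] {X : Type u} [Category.{v} X]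
    {Y : Type u} [Category.{v} Y] (πX : X ⥤ S) (πY : Y ⥤ S) (hX : FibCat.IsFibGrpd πX) (hY : FibCat.IsFibGrpd πY)
    (F : Y ⥤ X) (hF : F ⋙ πX = πY) :
    FibCat.IsFibGrpd (CategoricalPullback.π₂ F (𝟭 X)) ∧
      FibCat.IsFibGrpd (CategoricalPullback.π₂ F (𝟭 X) ⋙ πX) := by
  subst hF
  have key : FibCat.IsFibGrpd (CategoricalPullback.π₂ F (𝟭 X)) :=
    { exists_lift := fun {z x'} k => by
        obtain ⟨y', b, hb⟩ := hY.exists_lift (x := z.fst) (πX.map (k ≫ z.iso.inv))
        have h1 : πX.IsHomLift (πX.map (k ≫ z.iso.inv)) (F.map b) :=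
          IsHomLift.of_fac' _ _ _ (IsHomLift.domain_eq (F ⋙ πX) (πX.map (k ≫ z.iso.inv)) b :) rfl
            (IsHomLift.fac' (F ⋙ πX) (πX.map (k ≫ z.iso.inv)) b :)
        have := Fib44.isSC_of_fibGrpd πX hX (πX.map (k ≫ z.iso.inv)) (F.map b)
        have := Fib44.isSC_of_fibGrpd πX hX (πX.map (k ≫ z.iso.inv)) (k ≫ z.iso.inv)
        let e := Functor.IsCartesian.domainUniqueUpToIso πX (πX.map (k ≫ z.iso.inv))
          (k ≫ z.iso.inv) (F.map b)
        let z' : CategoricalPullback F (𝟭 X) := ⟨y', x', e⟩
        let φ : z' ⟶ z := ⟨b, k, by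
          have : e.hom ≫ (k ≫ z.iso.inv) = F.map b :=
            Functor.IsCartesian.fac πX (πX.map (k ≫ z.iso.inv)) (k ≫ z.iso.inv) (F.map b)
          rw [← this]
          change (e.hom ≫ (k : x' ⟶ z.snd) ≫ z.iso.inv) ≫ z.iso.hom = e.hom ≫ (k : x' ⟶ z.snd)
          rw [Category.assoc, Category.assoc]
          erw [Iso.inv_hom_id, Category.comp_id]⟩
        exact ⟨z', φ, IsHomLift.map (CategoricalPullback.π₂ F (𝟭 X)) φ⟩
      isStronglyCartesian := fun {z' z} φ => by
        rw [Fib44.isSC_iff]
        intro w g ψ hψ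
        have hψ' : ψ.snd = g ≫ φ.snd := hψ
        let h : w.fst ⟶ w.fst := 𝟙 _
        have hw : F.map ψ.fst = (w.iso.hom ≫ g ≫ z'.iso.inv) ≫ F.map φ.fst := by
          rw [← cancel_mono z.iso.hom]
          simp only [Category.assoc, φ.w, Iso.inv_hom_id_assoc, ψ.w]
          simp [hψ']
        obtain ⟨χ, ⟨hχ, hχ'⟩, hu⟩ := (Fib44.isSC_iff (F ⋙ πX) φ.fst).mp (hY.isStronglyCartesian φ.fst)
          (πX.map (w.iso.hom ≫ g ≫ z'.iso.inv)) ψ.fst (by simp [hw])
        have hχF : F.map χ = w.iso.hom ≫ g ≫ z'.iso.inv :=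
          Fib44.sc_hom_ext πX (F.map φ.fst) (hX.isStronglyCartesian _) hχ
            (by rw [← Functor.map_comp, hχ', hw])
        refine ⟨⟨χ, g, by simp [hχF]⟩, ⟨rfl, ?_⟩, ?_⟩
        · ext
          · exact hχ'
          · exact hψ'.symm
        · rintro ⟨τ, g', hτw⟩ ⟨hτ1, hτ2⟩
          obtain rfl : g' = g := hτ1
          obtain rfl : τ = χ := by
            refine hu τ ⟨?_, congrArg (fun k => k.fst) hτ2⟩
            have : F.map τ = w.iso.hom ≫ g' ≫ z'.iso.inv := by
              rw [← cancel_mono z'.iso.hom]; simpa using hτw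
            simp [this]
          rfl }
  exact ⟨key, Fib44.isFibGrpd_comp _ πX key hX⟩

end Groth.Agent.S16361
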