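import Groth.Statements.S16362
import Mathlib.RingTheory.IntegralClosure.IsIntegral.Basic
import Mathlib.RingTheory.Localization.FractionRing
import Mathlib.RingTheory.IntegralClosure.IntegrallyClosed

set_option autoImplicit false
universe u
open MovLem

namespace Groth.Agent.S16362

/-- Let A be a commutative ring, p a prime ideal of A, and ζ, u elements of A with u not in p. Then the
quotient of the classes of ζ and u in the fraction field of the domain A ⧸ p is integral over A ⧸ p
if and only if there exist a natural number N and elements a_1, …, a_N of A such that ζ^N + a_1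
ζ^(N-1) u + ⋯ + a_N u^N lies in p; equivalently, some binary form of degree N with coefficients in
A, monic in the first variable, evaluated at (ζ, u), lies in p. -/
theorem result
    {A : Type u} [CommRing A] (p : Ideal A) [p.IsPrime] (ζ u : A) (hu : u ∉ p) :
    IsIntegral (A ⧸ p)
        (algebraMap (A ⧸ p) (FractionRing (A ⧸ p)) (Ideal.Quotient.mk p ζ) /
          algebraMap (A ⧸ p) (FractionRing (A ⧸ p)) (Ideal.Quotient.mk p u)) ↔
      ∃ (N : ℕ) (a : ℕ → A),
        ζ ^ N + ∑ i ∈ Finset.Icc 1 N, a i * ζ ^ (N - i) * u ^ i ∈ p := by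
  classical
  set φ := (algebraMap (A ⧸ p) (FractionRing (A ⧸ p))).comp (Ideal.Quotient.mk p)
  have hu0 : φ u ≠ 0 := fun h => hu <| Ideal.Quotient.eq_zero_iff_mem.1
    (IsFractionRing.injective (A ⧸ p) (FractionRing (A ⧸ p)) (by simpa [φ] using h))
  set z := φ ζ / φ u
  have hz : φ ζ = z * φ u := (div_mul_cancel₀ _ hu0).symm
  change IsIntegral _ z ↔ _
  have hmem : ∀ x, x ∈ p ↔ φ x = 0 := fun x =>
    ⟨fun h => by simp [φ, Ideal.Quotient.eq_zero_iff_mem.2 h], fun h => Ideal.Quotient.eq_zero_iff_mem.1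
      (IsFractionRing.injective (A ⧸ p) (FractionRing (A ⧸ p)) (by simpa [φ] using h))⟩
  have key : ∀ (N : ℕ) (a : ℕ → A),
      φ (ζ ^ N + ∑ i ∈ Finset.Icc 1 N, a i * ζ ^ (N - i) * u ^ i) =
        φ u ^ N * (z ^ N + ∑ i ∈ Finset.Icc 1 N, φ (a i) * z ^ (N - i)) := by
    intro N a
    rw [map_add, map_pow, map_sum, hz, mul_add, Finset.mul_sum, mul_pow, mul_comm (z ^ N)]
    congr 1
    refine Finset.sum_congr rfl fun i hi => ?_
    have hN : N - i + i = N := Nat.sub_add_cancel (Finset.mem_Icc.1 hi).2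
    conv_rhs => rw [← hN, pow_add, hN]
    rw [map_mul, map_mul, map_pow, map_pow, hz]
    ring
  constructor
  · rintro ⟨P, hP, hPz⟩
    obtain ⟨a, ha⟩ : ∃ a : ℕ → A, ∀ i, Ideal.Quotient.mk p (a i) = P.coeff (P.natDegree - i) :=
      ⟨fun i => (Ideal.Quotient.mk_surjective (P.coeff (P.natDegree - i))).choose,
        fun i => (Ideal.Quotient.mk_surjective (P.coeff (P.natDegree - i))).choose_spec⟩
    refine ⟨P.natDegree, a, (hmem _).2 ?_⟩
    rw [key]
    convert mul_zero (φ u ^ P.natDegree)
    rw [← hPz, Polynomial.eval₂_eq_sum_range, Finset.sum_range_succ,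
      hP.coeff_natDegree, map_one, one_mul, add_comm]
    congr 1
    refine Finset.sum_bij' (fun i _ => P.natDegree - i) (fun j _ => P.natDegree - j) ?_ ?_ ?_ ?_ ?_
    · intro i hi; simp at hi ⊢; omega
    · intro i hi; simp at hi ⊢; omega
    · intro i hi; simp at hi; omega
    · intro i hi; simp at hi; omega
    · intro i hi; simp [φ, ha]
  · rintro ⟨N, a, hNa⟩
    rw [hmem, key, mul_eq_zero, or_iff_right (pow_ne_zero _ hu0)] at hNa
    let P : Polynomial (A ⧸ p) := Polynomial.X ^ N +
      ∑ i ∈ Finset.Icc 1 N, Polynomial.C (Ideal.Quotient.mk p (a i)) * Polynomial.X ^ (N - i)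
    refine ⟨P, ?_, ?_⟩
    · refine Polynomial.monic_X_pow_add ?_
      refine lt_of_le_of_lt (Polynomial.degree_sum_le _ _) ((Finset.sup_lt_iff (WithBot.bot_lt_coe N)).2 fun i hi => ?_)
      refine lt_of_le_of_lt (Polynomial.degree_C_mul_X_pow_le _ _) ?_
      simp at hi
      exact Nat.cast_lt.2 (by omega : N - i < N)
    · simp only [P, Polynomial.eval₂_add, Polynomial.eval₂_X_pow, Polynomial.eval₂_finsetSum,
        Polynomial.eval₂_mul, Polynomial.eval₂_C]
      simpa [φ] using hNa

end Groth.Agent.S16362
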