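import Groth.Statements.S16363
import Groth.Agent.FBase64.AssSheaf3
import Mathlib.RingTheory.TensorProduct.MvPolynomial
import Mathlib.RingTheory.AlgebraicIndependent.TranscendenceBasis
import Mathlib.RingTheory.AlgebraicIndependent.Adjoin
import Mathlib.AlgebraicGeometry.Morphisms.Integral
import Mathlib.AlgebraicGeometry.Morphisms.UniversallyOpen
import Mathlib.AlgebraicGeometry.Noetherian

set_option autoImplicit false
universe u
open CategoryTheory Limits
open MovLem

namespace Groth.Agent.S16363

section
open scoped TensorProduct nonZeroDivisors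
open Algebra.TensorProduct

/-- An algebraic extension stays a field after tensoring with a purely transcendental one. -/
lemma isField_tensor (k kb : Type u) [Field k] [Field kb] [Algebra k kb] [Algebra.IsAlgebraic k kb]
    (ι : Type u) : IsField (kb ⊗[k] FractionRing (MvPolynomial ι k)) := by
  classical
  let P := MvPolynomial ι k
  let F := FractionRing P
  let Pk := MvPolynomial ι kb
  let L := FractionRing Pk
  let i : P →ₐ[k] L := (IsScalarTower.toAlgHom k Pk L).comp (MvPolynomial.mapAlgHom (Algebra.ofId k kb))
  have hi : Function.Injective i :=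
    (IsFractionRing.injective Pk L).comp (MvPolynomial.map_injective _ (algebraMap k kb).injective)
  let σ : F →ₐ[k] L := IsFractionRing.liftAlgHom hi
  let Ψ : kb ⊗[k] F →ₐ[k] L :=
    Algebra.TensorProduct.lift (IsScalarTower.toAlgHom k kb L) σ fun _ _ => Commute.all _ _
  let jn : kb ⊗[k] P →ₐ[k] kb ⊗[k] F :=
    Algebra.TensorProduct.map (AlgHom.id k kb) (IsScalarTower.toAlgHom k P F)
  let e := MvPolynomial.algebraTensorAlgEquiv (σ := ι) k kb
  have hσ : ∀ p : P, σ (algebraMap P F p) = i p := fun p => by
    simp [σ, IsFractionRing.liftAlgHom_apply]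
  have hΨ : ∀ y, Ψ (jn y) = algebraMap Pk L (e y) := by
    intro y
    induction y using TensorProduct.induction_on with
    | zero => simp
    | tmul a p =>
      simp only [Ψ, jn, e, Algebra.TensorProduct.map_tmul, Algebra.TensorProduct.lift_tmul,
        MvPolynomial.algebraTensorAlgEquiv_tmul, AlgHom.coe_id, id_eq, IsScalarTower.coe_toAlgHom', hσ]
      erw [MvPolynomial.algebraTensorAlgEquiv_tmul]
      rw [MvPolynomial.smul_eq_C_mul]
      erw [map_mul (algebraMap Pk L)]
      rfl
    | add a b ha hb => simp only [map_add, ha, hb]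
  have hfrac : ∀ t : kb ⊗[k] F, ∃ s : P, s ≠ 0 ∧ ∃ y, t * ((1 : kb) ⊗ₜ[k] algebraMap P F s) = jn y := by
    intro t
    induction t using TensorProduct.induction_on with
    | zero => exact ⟨1, one_ne_zero, 0, by simp⟩
    | tmul a f =>
      obtain ⟨p, s, hs, hf⟩ := IsFractionRing.div_surjective P f
      refine ⟨s, nonZeroDivisors.ne_zero hs, a ⊗ₜ p, ?_⟩
      have : algebraMap P F s ≠ 0 :=
        (map_ne_zero_iff _ (IsFractionRing.injective P F)).2 (nonZeroDivisors.ne_zero hs)
      rw [tmul_mul_tmul, mul_one, ← hf, div_mul_cancel₀ _ this]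
      rfl
    | add a b ha hb =>
      obtain ⟨s, hs, y, hy⟩ := ha
      obtain ⟨s', hs', y', hy'⟩ := hb
      refine ⟨s * s', mul_ne_zero hs hs', y * (1 ⊗ₜ s') + y' * (1 ⊗ₜ s), ?_⟩
      have h1 : ∀ r : P, jn ((1 : kb) ⊗ₜ r) = (1 : kb) ⊗ₜ algebraMap P F r := fun r => rfl
      rw [map_add, map_mul jn, map_mul jn, h1, h1, ← hy, ← hy', map_mul, ← one_mul (1 : kb), ← tmul_mul_tmul,
        one_mul]
      ring
  have hinj : Function.Injective Ψ := by
    rw [injective_iff_map_eq_zero]
    intro t ht
    obtain ⟨s, hs, y, hy⟩ := hfrac t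
    have : algebraMap Pk L (e y) = 0 := by rw [← hΨ, ← hy, map_mul, ht, zero_mul]
    have hy0 : y = 0 := e.injective (by
      rw [map_zero]; exact (map_eq_zero_iff _ (IsFractionRing.injective Pk L)).1 this)
    have hu : IsUnit ((1 : kb) ⊗ₜ[k] algebraMap P F s) := by
      have : IsUnit (algebraMap P F s) :=
        ((map_ne_zero_iff _ (IsFractionRing.injective P F)).2 hs).isUnit
      exact this.map (Algebra.TensorProduct.includeRight : F →ₐ[k] kb ⊗[k] F)
    rw [hy0, map_zero] at hy
    exact hu.mul_left_eq_zero.1 hy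
  haveI : IsDomain (kb ⊗[k] F) := hinj.isDomain Ψ.toRingHom
  let c := Algebra.TensorProduct.comm k kb F
  haveI : IsDomain (F ⊗[k] kb) := c.symm.injective.isDomain c.symm.toRingHom
  haveI : Algebra.IsIntegral k kb := Algebra.IsAlgebraic.isIntegral
  exact c.toMulEquiv.isField (isField_of_isIntegral_of_isField' (R := F) (S := F ⊗[k] kb) (Field.toIsField F))

end

open AlgebraicGeometry in
/-- Over an algebraic point there is only one point of the base change by a purely transcendental field. -/
lemma fibre_subsingleton (k : Type u) [Field k] (ι : Type u) (X : Scheme.{u})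
    (f : X ⟶ Spec (CommRingCat.of k)) (kb : Type u) [Field kb] [Algebra k kb] [Algebra.IsAlgebraic k kb]
    (x : Spec (CommRingCat.of kb) ⟶ X) (hx : x ≫ f = Spec.map (CommRingCat.ofHom (algebraMap k kb)))
    (z z' : ↥(pullback f (Spec.map (CommRingCat.ofHom (algebraMap k (FractionRing (MvPolynomial ι k)))))))
    (t t' : ↥(Spec (CommRingCat.of kb)))
    (hz : (pullback.fst f (Spec.map (CommRingCat.ofHom (algebraMap k (FractionRing (MvPolynomial ι k)))))).base z = x.base t)
    (hz' : (pullback.fst f (Spec.map (CommRingCat.ofHom (algebraMap k (FractionRing (MvPolynomial ι k)))))).base z' = x.base t') :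
    z = z' := by
  let F := FractionRing (MvPolynomial ι k)
  let iF := Spec.map (CommRingCat.ofHom (algebraMap k F))
  let ib := Spec.map (CommRingCat.ofHom (algebraMap k kb))
  let q : pullback ib iF ⟶ pullback f iF :=
    pullback.map ib iF f iF x (𝟙 _) (𝟙 _) (by rw [hx, Category.comp_id]) (by simp)
  have hrange : Set.range q.base = pullback.fst f iF ⁻¹' Set.range x.base ∩ pullback.snd f iF ⁻¹' Set.range (𝟙 (Spec (CommRingCat.of F)) : _ ⟶ _).base :=
    Scheme.Pullback.range_map _ _ _ _ _ _ _ _ _
  have hsub : Subsingleton ↥(pullback ib iF) := by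
    letI := (isField_tensor k kb ι).toField
    have : Subsingleton ↥(Spec (CommRingCat.of (TensorProduct k kb F))) := inferInstanceAs (Subsingleton (PrimeSpectrum _))
    exact (Scheme.homeoOfIso (pullbackSpecIso k kb F)).injective.subsingleton
  have hm : ∀ w t₀, (pullback.fst f iF).base w = x.base t₀ → w ∈ Set.range q.base := fun w t₀ hw => by
    rw [hrange]; exact ⟨⟨t₀, hw.symm⟩, ⟨_, rfl⟩⟩
  obtain ⟨a, rfl⟩ := hm z t hz
  obtain ⟨b, rfl⟩ := hm z' t' hz'
  rw [Subsingleton.elim a b]

/-- A dense open subset of a Noetherian sober space contains the generic points. -/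
lemma mem_of_dense_of_maximal {T : Type u} [TopologicalSpace T] [TopologicalSpace.NoetherianSpace T]
    [T0Space T] {U : Set T} (hU : IsOpen U) (hd : Dense U) {z : T} (hz : ∀ z', z' ⤳ z → z' = z) [QuasiSober T] :
    z ∈ U := by
  obtain ⟨C, hC, hzC⟩ := exists_mem_irreducibleComponents_subset_of_isIrreducible _ (isIrreducible_singleton (x := z))
  obtain ⟨c, hc⟩ := QuasiSober.sober hC.1 (isClosed_of_mem_irreducibleComponents C hC)
  obtain rfl : c = z := hz c (hc.specializes (hzC rfl))
  obtain ⟨O, hO, hne, hOC⟩ :=
    TopologicalSpace.NoetherianSpace.exists_isOpen_nonempty_subset_irreducibleComponent C hC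
  obtain ⟨w, hwO, hwU⟩ := hd.inter_open_nonempty O hO hne
  exact (hc.specializes (hOC hwO)).mem_open hU hwU

/-- The points without proper generalisations are dense. -/
lemma dense_maximal {T : Type u} [TopologicalSpace T] [T0Space T] [QuasiSober T] :
    Dense {z : T | ∀ z', z' ⤳ z → z' = z} := by
  intro y
  obtain ⟨C, hC, hyC⟩ := exists_mem_irreducibleComponents_subset_of_isIrreducible _ (isIrreducible_singleton (x := y))
  obtain ⟨c, hc⟩ := QuasiSober.sober hC.1 (isClosed_of_mem_irreducibleComponents C hC)
  refine closure_mono (Set.singleton_subset_iff.2 ?_) ((hc.specializes (hyC rfl)).mem_closure)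
  intro c' hc'
  have h1 : closure ({c} : Set T) ⊆ closure {c'} := specializes_iff_closure_subset.1 hc'
  have h2 : closure ({c'} : Set T) ≤ closure {c} := by
    rw [show closure ({c} : Set T) = C from hc]
    exact hC.2 isIrreducible_singleton.closure ((show closure ({c} : Set T) = C from hc) ▸ h1)
  exact (specializes_iff_closure_subset.2 h2).antisymm hc' |>.eq.symm

open AlgebraicGeometry in
/-- Let k be a field, X a k-scheme of finite type, K an extension field of k and U' ⊆ X_K = X ×_k Spec K
a dense open subset. There exists a dense open U ⊆ X with the following property: for every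
algebraic closure k̄ of k, every field Ω that is simultaneously a k̄-algebra and a K-algebra
compatibly with k, and every k-morphism x : Spec k̄ → X whose image point lies in U, every
K-morphism y : Spec Ω → X_K whose composite with the projection X_K → X is the composite Spec Ω →
Spec k̄ → X has image point in U'. (In words: the k̄-points of U, viewed as Ω-points of X_K, lie in
U'.) -/
theorem result
    {k K : Type u} [Field k] [Field K] [Algebra k K]
    (X : Scheme.{u}) (f : X ⟶ Spec (CommRingCat.of k)) [LocallyOfFiniteType f] [QuasiCompact f]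
    (U' : (pullback f (Spec.map (CommRingCat.ofHom (algebraMap k K)))).Opens)
    (hU' : Dense (U' : Set ↥(pullback f (Spec.map (CommRingCat.ofHom (algebraMap k K)))))) :
    ∃ U : X.Opens, Dense (U : Set ↥X) ∧
      ∀ (kb Ω : Type u) [Field kb] [Algebra k kb] [IsAlgClosure k kb]
        [Field Ω] [Algebra k Ω] [Algebra kb Ω] [Algebra K Ω] [IsScalarTower k kb Ω] [IsScalarTower k K Ω]
        (x : Spec (CommRingCat.of kb) ⟶ X),
        x ≫ f = Spec.map (CommRingCat.ofHom (algebraMap k kb)) →
        (∀ t : ↥(Spec (CommRingCat.of kb)), x.base t ∈ U) →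
        ∀ (y : Spec (CommRingCat.of Ω) ⟶ pullback f (Spec.map (CommRingCat.ofHom (algebraMap k K)))),
          y ≫ pullback.fst f (Spec.map (CommRingCat.ofHom (algebraMap k K))) =
              Spec.map (CommRingCat.ofHom (algebraMap kb Ω)) ≫ x →
          y ≫ pullback.snd f (Spec.map (CommRingCat.ofHom (algebraMap k K))) =
              Spec.map (CommRingCat.ofHom (algebraMap K Ω)) →
          ∀ t : ↥(Spec (CommRingCat.of Ω)), y.base t ∈ U' := by
  obtain ⟨ι, b, hb⟩ := exists_isTranscendenceBasis' k K
  let F := FractionRing (MvPolynomial ι k)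
  let e : F ≃ₐ[k] ↥(IntermediateField.adjoin k (Set.range b)) := hb.1.aevalEquivField
  let φ : F →ₐ[k] K := (IntermediateField.val _).comp e.toAlgHom
  have hφ : φ.toRingHom.IsIntegral := by
    haveI := hb.isAlgebraic_field
    haveI : Algebra.IsIntegral ↥(IntermediateField.adjoin k (Set.range b)) K := Algebra.IsAlgebraic.isIntegral
    exact RingHom.IsIntegral.trans e.toRingEquiv.toRingHom (algebraMap ↥(IntermediateField.adjoin k (Set.range b)) K)
      (RingHom.IsIntegral.of_finite (RingHom.Finite.of_surjective _ e.surjective)) Algebra.IsIntegral.isIntegral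
  let iK := Spec.map (CommRingCat.ofHom (algebraMap k K))
  let iF := Spec.map (CommRingCat.ofHom (algebraMap k F))
  let iφ := Spec.map (CommRingCat.ofHom φ.toRingHom)
  have hcomp : iφ ≫ iF = iK := by
    show Spec.map _ ≫ Spec.map _ = Spec.map _
    rw [← Spec.map_comp, ← CommRingCat.ofHom_comp]
    congr 2
    exact φ.comp_algebraMap
  let g : pullback f iK ⟶ pullback f iF :=
    pullback.lift (pullback.fst f iK) (pullback.snd f iK ≫ iφ)
      (by rw [Category.assoc, hcomp, pullback.condition])
  have hsq : IsPullback g (pullback.snd f iK) (pullback.snd f iF) iφ := by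
    refine IsPullback.of_right ?_ (pullback.lift_snd _ _ _) (IsPullback.of_hasPullback f iF)
    rw [pullback.lift_fst, hcomp]
    exact IsPullback.of_hasPullback f iK
  haveI : IsIntegralHom iφ := (IsIntegralHom.SpecMap_iff).2 hφ
  haveI : IsIntegralHom g := MorphismProperty.of_isPullback hsq.flip inferInstance
  haveI : UniversallyOpen iF := inferInstance
  have hopen : IsOpenMap (pullback.fst f iF).base := (pullback.fst f iF).isOpenMap
  let U1 : Set ↥(pullback f iF) := (g.base '' (U' : Set _)ᶜ)ᶜ
  have hU1 : IsOpen U1 := (g.isClosedMap _ U'.isOpen.isClosed_compl).isOpen_compl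
  have hU1d : Dense U1 := by
    refine dense_maximal.mono fun w hw => ?_
    rintro ⟨z, hz, rfl⟩
    haveI : IsLocallyNoetherian (pullback f iK) :=
      LocallyOfFiniteType.isLocallyNoetherian (pullback.snd f iK)
    haveI : CompactSpace ↥(pullback f iK) := QuasiCompact.compactSpace_of_compactSpace (pullback.snd f iK)
    haveI : IsNoetherian (pullback f iK) := {}
    refine hz (mem_of_dense_of_maximal U'.isOpen hU' fun z' hz' => ?_)
    exact FBase64.AssSheaf.eq_of_specializes_of_isIntegralHom g hz' (hw _ (hz'.map g.continuous))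
  refine ⟨⟨(pullback.fst f iF).base '' U1, hopen _ hU1⟩,
    (pullback.fst f iF).surjective.denseRange.dense_image (pullback.fst f iF).continuous hU1d, ?_⟩
  intro kb Ω _ _ _ _ _ _ _ _ _ x hx hxU y hy1 _ t
  haveI : Algebra.IsAlgebraic k kb := IsAlgClosure.isAlgebraic
  let t₁ := (Spec.map (CommRingCat.ofHom (algebraMap kb Ω))).base t
  obtain ⟨w, hw, hwx⟩ := hxU t₁
  have hy : (pullback.fst f iF).base (g.base (y.base t)) = x.base t₁ := by
    rw [← Scheme.Hom.comp_apply, ← Scheme.Hom.comp_apply, pullback.lift_fst, hy1]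
    rfl
  have hwy : w = g.base (y.base t) := fibre_subsingleton k ι X f kb x hx w _ t₁ t₁ hwx hy
  by_contra hcon
  exact hw ⟨_, hcon, hwy.symm⟩

end Groth.Agent.S16363
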