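import Groth.Statements.S16365
import Groth.Agent.Tors37.CritFunScheme
import Mathlib.Algebra.Polynomial.Laurent
import Mathlib.Topology.JacobsonSpace
import Mathlib.AlgebraicGeometry.Morphisms.FiniteType

set_option autoImplicit false
universe u
open CategoryTheory Limits
open MovLem

namespace Groth.Agent.S16365

open AlgebraicGeometry in
/-- A smooth morphism to the line whose coordinate is invertible lifts to a morphism to the punctured line
which is smooth where the given one is. -/
lemma exists_toGm {k : Type u} [Field k] {X : Scheme.{u}} (f : X ⟶ Spec (CommRingCat.of k))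
    [LocallyOfFiniteType f] {V₀ : X.Opens} (hV : IsAffineOpen V₀) (v : Γ(X, V₀)) (V U : X.Opens)
    (hle : V ≤ X.basicOpen v)
    (hsm : ∀ y, ∀ hy : y ∈ V₀, y ∈ V → y ∈ U →
      (⟨y, hy⟩ : (↑V₀ : Scheme.{u})) ∈ (Tors37.CritFun.toLine f hV v).smoothLocus) :
    ∃ g : (↑V : Scheme.{u}) ⟶ Spec (CommRingCat.of (LaurentPolynomial k)),
      g ≫ Spec.map (CommRingCat.ofHom (algebraMap k (LaurentPolynomial k))) = V.ι ≫ f ∧
      Smooth (X.homOfLE (inf_le_left : V ⊓ U ≤ V) ≫ g) := by
  letI : Algebra (Polynomial k) (LaurentPolynomial k) := inferInstance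
  let j := Spec.map (CommRingCat.ofHom (algebraMap (Polynomial k) (LaurentPolynomial k)))
  haveI : IsOpenImmersion j := IsOpenImmersion.of_isLocalization (Polynomial.X : Polynomial k)
  have hV0 : V ≤ V₀ := hle.trans (X.basicOpen_le v)
  let t := X.homOfLE hV0 ≫ Tors37.CritFun.toLine f hV v
  have hrange : Set.range (PrimeSpectrum.comap (algebraMap (Polynomial k) (LaurentPolynomial k))) = (PrimeSpectrum.basicOpen (Polynomial.X : Polynomial k) : Set (PrimeSpectrum (Polynomial k))) :=
    PrimeSpectrum.localization_away_comap_range (LaurentPolynomial k) (Polynomial.X : Polynomial k)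
  have hsub : Set.range t.base ⊆ Set.range j.base := by
    rintro _ ⟨⟨y, hy⟩, rfl⟩
    refine (Set.ext_iff.1 hrange _).2 ?_
    rw [SetLike.mem_coe, PrimeSpectrum.mem_basicOpen]
    have h1 : X.homOfLE hV0 ⟨y, hy⟩ = (⟨y, hV0 hy⟩ : (↑V₀ : Scheme.{u})) := by
      refine V₀.ι.isOpenEmbedding.injective ?_
      rw [← Scheme.Hom.comp_apply, Scheme.homOfLE_ι]
      rfl
    show Polynomial.X ∉ ((Tors37.CritFun.toLine f hV v) (X.homOfLE hV0 ⟨y, hy⟩)).asIdeal
    rw [h1]
    show Polynomial.eval₂ (WC97.kSec f hV) v Polynomial.X ∉ (hV.primeIdealOf ⟨y, hV0 hy⟩).asIdeal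
    rw [Polynomial.eval₂_X]
    exact (Tors37.CritFun.notMem_primeIdealOf_iff hV (hV0 hy) v).2 (hle hy)
  let g := IsOpenImmersion.lift j t hsub
  have hg : g ≫ j = t := IsOpenImmersion.lift_fac _ _ _
  refine ⟨g, ?_, ?_⟩
  · have hc : algebraMap k (LaurentPolynomial k) =
        (algebraMap (Polynomial k) (LaurentPolynomial k)).comp Polynomial.C := by
      ext r : 1
      exact (Polynomial.toLaurent_C r).symm
    rw [hc, CommRingCat.ofHom_comp, Spec.map_comp, ← Category.assoc, hg, Category.assoc,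
      Tors37.CritFun.toLine_comp, Scheme.homOfLE_ι_assoc]
  · set g₁ := X.homOfLE (inf_le_left : V ⊓ U ≤ V) ≫ g with hg₁
    have h : Smooth (g₁ ≫ j) := by
      rw [hg₁, Category.assoc, hg, Scheme.homOfLE_homOfLE_assoc]
      exact Tors37.CritFun.smooth_restrict f hV v (inf_le_left.trans hV0) fun y hy => hsm y _ hy.1 hy.2
    haveI : IsNoetherianRing (LaurentPolynomial k) :=
      IsLocalization.isNoetherianRing (Submonoid.powers (Polynomial.X : Polynomial k)) _ inferInstance
    haveI : LocallyOfFiniteType g₁ := locallyOfFiniteType_of_comp g₁ j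
    rw [← Scheme.Hom.smoothLocus_eq_top_iff, eq_top_iff]
    intro y _
    have hy : y ∈ (g₁ ≫ j).smoothLocus := by rw [Scheme.Hom.smoothLocus_eq_top]; trivial
    rw [Scheme.Hom.mem_smoothLocus, Scheme.Hom.stalkMap_comp] at hy
    erw [CommRingCat.hom_comp] at hy
    exact (RingHom.FormallySmooth.respectsIso.cancel_left_isIso (j.stalkMap (g₁ y)) (g₁.stalkMap y)).1 hy

open AlgebraicGeometry in
/-- Let k be an infinite field, X a scheme of finite type over k, U an open subscheme of X which is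
smooth over k, and x a point of X. Assume that if x lies in U then x is not an isolated point of X.
Then there exist an open neighbourhood V of x in X and a k-morphism v from V to the multiplicative
group Spec k[T, T⁻¹] whose restriction to V ∩ U is a smooth morphism. (The published statement has
no hypothesis on x; when x is an isolated point of X lying in U the conclusion fails, since a
zero-dimensional scheme admits no smooth morphism to a curve, and in every other case an isolated
point can be discarded, so that case is excluded here.) -/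
theorem result
    {k : Type u} [Field k] [Infinite k]
    (X : Scheme.{u}) (f : X ⟶ Spec (CommRingCat.of k)) [LocallyOfFiniteType f] [QuasiCompact f]
    (U : X.Opens) [Smooth (U.ι ≫ f)] (x : ↥X) (hx : x ∈ U → ¬ IsOpen ({x} : Set ↥X)) :
    ∃ (V : X.Opens) (v : (↑V : Scheme.{u}) ⟶ Spec (CommRingCat.of (LaurentPolynomial k))),
      x ∈ V ∧
      v ≫ Spec.map (CommRingCat.ofHom (algebraMap k (LaurentPolynomial k))) = V.ι ≫ f ∧
      Smooth (X.homOfLE (inf_le_left : V ⊓ U ≤ V) ≫ v) := by
  classical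
  obtain ⟨V₀, hV, hxV, -⟩ := AlgebraicGeometry.exists_isAffineOpen_mem_and_subset (U := ⊤) (show x ∈ (⊤ : X.Opens) from trivial)
  letI := (WC97.kSec f hV).toAlgebra
  haveI : Algebra.FiniteType k Γ(X, V₀) := WC97.kSec_finiteType f hV
  obtain ⟨n, a, ha⟩ := Tors37.CritFun.exists_generators f hV
  have hshift : ∀ (w : Γ(X, V₀)), ∃ r : k, x ∈ X.basicOpen (w + algebraMap k Γ(X, V₀) r) := by
    intro w
    simp only [← Tors37.CritFun.notMem_primeIdealOf_iff hV hxV]
    by_cases h : w ∈ (hV.primeIdealOf ⟨x, hxV⟩).asIdeal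
    · refine ⟨1, fun h1 => ?_⟩
      rw [map_one] at h1
      exact (hV.primeIdealOf ⟨x, hxV⟩).isPrime.ne_top
        ((Ideal.eq_top_iff_one _).2 (by simpa using Ideal.sub_mem _ h1 h))
    · exact ⟨0, by rwa [map_zero, add_zero]⟩
  by_cases hxU : x ∈ U
  · haveI := Tors37.CritFun.isSmoothAt_primeIdealOf f hV hxV hxU
    have hns : ¬ Subsingleton (Ω[Γ(X, V₀)⁄k] →ₗ[Γ(X, V₀)] (hV.primeIdealOf ⟨x, hxV⟩).asIdeal.ResidueField) := by
      intro h
      refine hx hxU ?_
      have h1 := hV.fromSpec.isOpenEmbedding.isOpenMap _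
        (Tors37.CritFun.isOpen_singleton_of_subsingleton (hV.primeIdealOf ⟨x, hxV⟩) h)
      erw [Set.image_singleton, hV.fromSpec_primeIdealOf] at h1
      exact h1
    obtain ⟨l, i, hl⟩ := Tors37.CritFun.exists_generator_ne_zero a ha _ hns
    obtain ⟨r, hr⟩ := hshift (a i)
    let v := a i + algebraMap k Γ(X, V₀) r
    let V : X.Opens := X.basicOpen v ⊓ V₀.ι ''ᵁ (Tors37.CritFun.toLine f hV v).smoothLocus
    have hxs : x ∈ V₀.ι ''ᵁ (Tors37.CritFun.toLine f hV v).smoothLocus :=
      ⟨⟨x, hxV⟩, Tors37.CritFun.mem_smoothLocus_toLine f hV (U := U) v hxV hxU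
        ⟨l, by rw [map_add, Derivation.map_algebraMap, add_zero]; exact hl⟩, rfl⟩
    obtain ⟨g, hg1, hg2⟩ := exists_toGm f hV v V U inf_le_left fun y hy hyV _ => by
      obtain ⟨z, hz, hzy⟩ := hyV.2
      obtain rfl : z = ⟨y, hy⟩ := Subtype.ext hzy
      exact hz
    exact ⟨V, g, ⟨hr, hxs⟩, hg1, hg2⟩
  · obtain ⟨c, hc⟩ := Tors37.CritFun.exists_finite_critical a ha
      {p : PrimeSpectrum Γ(X, V₀) | hV.fromSpec p ∈ U}
      (fun p hp => by
        have hy : hV.fromSpec p ∈ V₀ := hV.range_fromSpec.le ⟨p, rfl⟩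
        have he : hV.primeIdealOf ⟨_, hy⟩ = p :=
          hV.fromSpec.isOpenEmbedding.injective (hV.fromSpec_primeIdealOf _)
        exact he ▸ Tors37.CritFun.isSmoothAt_primeIdealOf f hV hy hp)
      (fun p hp q hqp => (((PrimeSpectrum.le_iff_specializes q p).1 hqp).map hV.fromSpec.continuous).mem_open U.isOpen hp)
    obtain ⟨r, hr⟩ := hshift (∑ i, c i • a i)
    let v := (∑ i, c i • a i) + algebraMap k Γ(X, V₀) r
    obtain ⟨hfin, hmax⟩ := hc _ rfl
    let S := {p : PrimeSpectrum Γ(X, V₀) | p ∈ {p : PrimeSpectrum Γ(X, V₀) | hV.fromSpec p ∈ U} ∧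
      ∀ l : Ω[Γ(X, V₀)⁄k] →ₗ[Γ(X, V₀)] p.asIdeal.ResidueField, l (KaehlerDifferential.D k Γ(X, V₀) (∑ i, c i • a i)) = 0}
    haveI : JacobsonSpace ↥X := LocallyOfFiniteType.jacobsonSpace f
    have hcl : IsClosed (hV.fromSpec '' S) := by
      rw [← Set.biUnion_of_singleton (hV.fromSpec '' S)]
      refine (hfin.image _).isClosed_biUnion ?_
      rintro _ ⟨p, hp, rfl⟩
      refine isClosed_singleton_of_isLocallyClosed_singleton ?_
      have h1 : IsClosed ({p} : Set (PrimeSpectrum Γ(X, V₀))) :=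
        (PrimeSpectrum.isClosed_singleton_iff_isMaximal p).2 (hmax p hp.1 hp.2)
      have h2 := h1.isLocallyClosed.image hV.fromSpec.isOpenEmbedding.isInducing
        (hV.fromSpec.isOpenEmbedding.isOpen_range.isLocallyClosed)
      erw [Set.image_singleton] at h2
      exact h2
    let V : X.Opens := X.basicOpen v ⊓ ⟨(hV.fromSpec '' S)ᶜ, hcl.isOpen_compl⟩
    have hxS : x ∉ hV.fromSpec '' S := by
      rintro ⟨p, hp, rfl⟩
      exact hxU hp.1
    obtain ⟨g, hg1, hg2⟩ := exists_toGm f hV v V U inf_le_left fun y hy hyV hyU => by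
      refine Tors37.CritFun.mem_smoothLocus_toLine f hV (U := U) v hy hyU ?_
      by_contra hh
      push Not at hh
      refine hyV.2 ⟨hV.primeIdealOf ⟨y, hy⟩, ⟨?_, fun l => ?_⟩, hV.fromSpec_primeIdealOf ⟨y, hy⟩⟩
      · show hV.fromSpec _ ∈ U
        rw [hV.fromSpec_primeIdealOf]; exact hyU
      · have := hh l
        rwa [map_add, Derivation.map_algebraMap, add_zero] at this
    exact ⟨V, g, ⟨hr, hxS⟩, hg1, hg2⟩

end Groth.Agent.S16365
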