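import Groth.Statements.S16366
import Groth.Agent.Tors37.CritFunScheme
import Mathlib.Topology.JacobsonSpace
import Mathlib.AlgebraicGeometry.Morphisms.FiniteType

set_option autoImplicit false
universe u
open CategoryTheory Limits Opposite
open MovLem

namespace Groth.Agent.S16366

open AlgebraicGeometry in
/-- Let k be an infinite field, X a scheme of finite type over k and u a global function on X such that
the open subscheme X_u where u is invertible is smooth over k. Let x be a point of X at which u is
not invertible, and let x'_1, …, x'_n be finitely many points of X_u, each of which specializes to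
x. Then there exist an open neighbourhood X' of x, a unit e among the functions on X', and the
k-morphism g : X' → A^1_k = Spec k[T] whose pulled-back coordinate T is e·u restricted to X', such
that g is smooth on some open neighbourhood of each x'_i. (Equivalently: after shrinking X around x,
the equation u of the principal divisor D = (u) is replaced by another equation e·u of the same
divisor that is smooth at the chosen points. The published statement takes D an effective Cartier
divisor, i.e. u a non-zero-divisor; that is not assumed here, and the argument does not need it.) -/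
theorem result
    {k : Type u} [Field k] [Infinite k]
    (X : Scheme.{u}) (f : X ⟶ Spec (CommRingCat.of k)) [LocallyOfFiniteType f] [QuasiCompact f]
    (u : Γ(X, ⊤)) [Smooth ((X.basicOpen u).ι ≫ f)]
    (x : ↥X) (hx : x ∉ X.basicOpen u)
    {ι : Type} [Finite ι] (x' : ι → ↥X) (hx' : ∀ i, x' i ∈ X.basicOpen u) (hgen : ∀ i, x' i ⤳ x) :
    ∃ (X' : X.Opens) (e : Γ(X, X')) (g : (↑X' : Scheme.{u}) ⟶ Spec (CommRingCat.of (Polynomial k))),
      x ∈ X' ∧ IsUnit e ∧
      g ≫ Spec.map (CommRingCat.ofHom (Polynomial.C : k →+* Polynomial k)) = X'.ι ≫ f ∧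
      X'.topIso.hom (g.appTop ((Scheme.ΓSpecIso (CommRingCat.of (Polynomial k))).inv Polynomial.X)) =
        e * X.presheaf.map (homOfLE le_top).op u ∧
      ∀ i, ∃ (W : X.Opens) (hW : W ≤ X'), x' i ∈ W ∧ Smooth (X.homOfLE hW ≫ g) := by
  classical
  obtain ⟨V, hV, hxV, -⟩ := AlgebraicGeometry.exists_isAffineOpen_mem_and_subset (U := ⊤) (show x ∈ (⊤ : X.Opens) from trivial)
  have hV' : ∀ i, x' i ∈ V := fun i => (hgen i).mem_open V.isOpen hxV
  letI := (WC97.kSec f hV).toAlgebra
  haveI : Algebra.FiniteType k Γ(X, V) := WC97.kSec_finiteType f hV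
  obtain ⟨n, a, ha⟩ := Tors37.CritFun.exists_generators f hV
  let uV : Γ(X, V) := X.presheaf.map (homOfLE le_top).op u
  let e : (Option (Fin n) → k) →ₗ[k] Γ(X, V) :=
    Fintype.linearCombination k fun o => Option.elim o 1 a
  have he : ∀ o, e (Pi.single o 1) = Option.elim o 1 a := fun o => by
    simp [e, Fintype.linearCombination_apply_single]
  have hu : ∀ i, uV ∉ (hV.primeIdealOf ⟨x' i, hV' i⟩).asIdeal := fun i => by
    rw [Tors37.CritFun.notMem_primeIdealOf_iff, Scheme.basicOpen_res]
    exact ⟨hV' i, hx' i⟩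
  have hl : ∀ i, ∃ l : Ω[Γ(X, V)⁄k] →ₗ[Γ(X, V)] (hV.primeIdealOf ⟨x' i, hV' i⟩).asIdeal.ResidueField,
      ∃ c, l (KaehlerDifferential.D k Γ(X, V) (e c * uV)) ≠ 0 := by
    intro i
    by_contra hh
    push Not at hh
    have hsub : Subsingleton (Ω[Γ(X, V)⁄k] →ₗ[Γ(X, V)] (hV.primeIdealOf ⟨x' i, hV' i⟩).asIdeal.ResidueField) := by
      refine subsingleton_of_forall_eq 0 fun l => LinearMap.ext_on (Tors37.CritFun.span_range_D_of_adjoin a ha) ?_
      rintro _ ⟨j, rfl⟩
      have h0 := hh l (Pi.single none 1)
      have h1 := hh l (Pi.single (some j) 1)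
      rw [he, Option.elim_none, one_mul] at h0
      rw [he, Option.elim_some, Derivation.leibniz, map_add, map_smul, map_smul, h0, smul_zero, zero_add,
        Algebra.smul_def, mul_eq_zero] at h1
      exact h1.resolve_left fun h => hu i (Ideal.algebraMap_residueField_eq_zero.1 h)
    haveI := Tors37.CritFun.finite_residueField_of_subsingleton _ hsub
    have hmax : (hV.primeIdealOf ⟨x' i, hV' i⟩).asIdeal.IsMaximal := by
      let p := (hV.primeIdealOf ⟨x' i, hV' i⟩).asIdeal
      haveI : Module.Finite k (Γ(X, V) ⧸ p) := Module.Finite.of_injective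
        (IsScalarTower.toAlgHom k (Γ(X, V) ⧸ p) p.ResidueField).toLinearMap (IsFractionRing.injective _ p.ResidueField)
      exact Ideal.Quotient.maximal_of_isField _
        (isField_of_isIntegral_of_isField' (R := k) (S := Γ(X, V) ⧸ p) (Field.toIsField k))
    haveI : JacobsonSpace ↥X := LocallyOfFiniteType.jacobsonSpace f
    have hcl : IsClosed ({x' i} : Set ↥X) := by
      refine isClosed_singleton_of_isLocallyClosed_singleton ?_
      have h1 : IsClosed ({hV.primeIdealOf ⟨x' i, hV' i⟩} : Set (PrimeSpectrum Γ(X, V))) :=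
        (PrimeSpectrum.isClosed_singleton_iff_isMaximal _).2 hmax
      have h2 := h1.isLocallyClosed.image hV.fromSpec.isOpenEmbedding.isInducing
        (hV.fromSpec.isOpenEmbedding.isOpen_range.isLocallyClosed)
      erw [Set.image_singleton, hV.fromSpec_primeIdealOf] at h2
      exact h2
    exact hx ((hgen i).mem_closed hcl rfl ▸ hx' i)
  choose l hl using hl
  obtain ⟨c, hc⟩ : ∃ c : Option (Fin n) → k,
      algebraMap Γ(X, V) (hV.primeIdealOf ⟨x, hxV⟩).asIdeal.ResidueField (e c) ≠ 0 ∧
      ∀ i, l i (KaehlerDifferential.D k Γ(X, V) (e c * uV)) ≠ 0 := by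
    obtain ⟨c, hc⟩ := Submodule.exists_forall_notMem_of_forall_ne_top
      (fun j : Option ι => match j with
        | none => LinearMap.ker (((Algebra.linearMap Γ(X, V) (hV.primeIdealOf ⟨x, hxV⟩).asIdeal.ResidueField).restrictScalars k) ∘ₗ e)
        | some i => LinearMap.ker (((l i).restrictScalars k) ∘ₗ (KaehlerDifferential.D k Γ(X, V) : Γ(X, V) →ₗ[k] _) ∘ₗ
            (LinearMap.mulRight k uV) ∘ₗ e))
      (by
        rintro (_ | i) hj
        · have : Pi.single none 1 ∈ LinearMap.ker (((Algebra.linearMap Γ(X, V) (hV.primeIdealOf ⟨x, hxV⟩).asIdeal.ResidueField).restrictScalars k) ∘ₗ e) := by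
            rw [show LinearMap.ker _ = ⊤ from hj]; trivial
          simp [he] at this
        · obtain ⟨c, hc⟩ := hl i
          exact hc ((SetLike.ext_iff.1 hj c).2 trivial))
    exact ⟨c, fun h => hc none h, fun i h => hc (some i) h⟩
  obtain ⟨hcx, hci⟩ := hc
  let X' : X.Opens := X.basicOpen (e c)
  have hX'V : X' ≤ V := X.basicOpen_le _
  have hxX' : x ∈ X' := (Tors37.CritFun.notMem_primeIdealOf_iff hV hxV _).1
    fun h => hcx (Ideal.algebraMap_residueField_eq_zero.2 h)
  let g := Tors37.CritFun.toLine f hV (e c * uV)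
  refine ⟨X', X.presheaf.map (homOfLE hX'V).op (e c), X.homOfLE hX'V ≫ g, hxX', ?_, ?_, ?_, fun i => ?_⟩
  · exact X.toRingedSpace.isUnit_res_basicOpen (e c)
  · rw [Category.assoc, Tors37.CritFun.toLine_comp, Scheme.homOfLE_ι_assoc]
  · rw [Scheme.Hom.comp_appTop, CommRingCat.comp_apply, Tors37.CritFun.topIso_homOfLE_appTop,
      Tors37.CritFun.toLine_appTop, map_mul]
    congr 1
    exact (ConcreteCategory.comp_apply _ _ _).symm.trans (by rw [← Functor.map_comp]; rfl)
  · let S : (↑V : Scheme.{u}).Opens := g.smoothLocus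
    refine ⟨X' ⊓ V.ι ''ᵁ S, inf_le_left, ⟨?_, ?_⟩, ?_⟩
    · exact (hgen i).mem_open X'.isOpen hxX'
    · exact ⟨⟨x' i, hV' i⟩,
        Tors37.CritFun.mem_smoothLocus_toLine f hV (U := X.basicOpen u) _ (hV' i) (hx' i) ⟨l i, hci i⟩, rfl⟩
    · rw [Scheme.homOfLE_homOfLE_assoc]
      refine Tors37.CritFun.smooth_restrict f hV _ (inf_le_left.trans hX'V) fun y hy => ?_
      obtain ⟨z, hz, hzy⟩ := hy.2
      obtain rfl : z = ⟨y, (inf_le_left.trans hX'V) hy⟩ := Subtype.ext hzy
      exact hz

end Groth.Agent.S16366
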