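import Groth.Statements.S16367
import Mathlib.Algebra.MvPolynomial.Rename
import Mathlib.RingTheory.Ideal.Span
import Mathlib.RingTheory.Ideal.Maps
import Mathlib.RingTheory.Ideal.Quotient.Basic
import Mathlib.RingTheory.Ideal.Quotient.Operations

set_option autoImplicit false
universe u
open MovLem

namespace Groth.Agent.S16367

/-- The chart computation of its proof: let k be a commutative ring, P = k[x_1, …, x_d, w_1, …, w_n] a
polynomial ring in two groups of variables, u a polynomial in the x-variables alone, v a vector in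
k^d, J a set of indices among the w-variables with ζ = ∏_{j ∈ J} w_j, and N ≤ s natural numbers. Let
(f_λ) be a finite family of elements of P, each of total degree at most N in the x-variables, and
assume that ζ^N + c_1 ζ^(N-1) u + ⋯ + c_N u^N lies in the ideal generated by the f_λ for some c_1,
…, c_N ∈ P. For each λ let φ_λ ∈ P[τ] be the polynomial τ^N · f_λ(x + u^s v/τ, w), written out
monomial by monomial: a monomial a·x^m·w^m' of x-degree e = |m| contributes a · τ^(N-e) · ∏_i (τ x_i
+ u^s v_i)^(m_i) · w^m'. Then there are c'_1, …, c'_N ∈ P[τ] with (τζ)^N + c'_1 (τζ)^(N-1) u + ⋯ +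
c'_N u^N in the ideal of P[τ] generated by the φ_λ. (This identity is what shows that translating a
cycle by t·u^s·v preserves the modulus condition on the chart whose coordinates are the z_i and the
1/z_j, with τ = 1/t; integrality of ζ/u, resp. τζ/u, is expressed by such monic binary forms.) -/
theorem result
    {k : Type u} [CommRing k] (d n : ℕ) (u : MvPolynomial (Fin d) k) (v : Fin d → k)
    (J : Finset (Fin n)) (N s : ℕ) (hs : N ≤ s)
    {Λ : Type u} [Fintype Λ] (f : Λ → MvPolynomial (Fin d ⊕ Fin n) k)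
    (hdeg : ∀ l, ∀ m ∈ (f l).support, ∑ i : Fin d, m (Sum.inl i) ≤ N)
    (c : ℕ → MvPolynomial (Fin d ⊕ Fin n) k)
    (hE : (∏ j ∈ J, MvPolynomial.X (Sum.inr j)) ^ N +
        ∑ i ∈ Finset.Icc 1 N, c i * (∏ j ∈ J, MvPolynomial.X (Sum.inr j)) ^ (N - i) *
          MvPolynomial.rename Sum.inl u ^ i ∈ Ideal.span (Set.range f)) :
    ∃ c' : ℕ → Polynomial (MvPolynomial (Fin d ⊕ Fin n) k),
      (Polynomial.X * Polynomial.C (∏ j ∈ J, MvPolynomial.X (Sum.inr j))) ^ N +
        ∑ i ∈ Finset.Icc 1 N, c' i *
          (Polynomial.X * Polynomial.C (∏ j ∈ J, MvPolynomial.X (Sum.inr j))) ^ (N - i) *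
            Polynomial.C (MvPolynomial.rename Sum.inl u) ^ i ∈
      Ideal.span (Set.range fun l : Λ =>
        ∑ m ∈ (f l).support,
          Polynomial.C (MvPolynomial.C (MvPolynomial.coeff m (f l))) *
            Polynomial.X ^ (N - ∑ i : Fin d, m (Sum.inl i)) *
            (∏ i : Fin d, (Polynomial.X * Polynomial.C (MvPolynomial.X (Sum.inl i)) +
                Polynomial.C (MvPolynomial.rename Sum.inl u ^ s * MvPolynomial.C (v i))) ^ m (Sum.inl i)) *
            ∏ j : Fin n, Polynomial.C (MvPolynomial.X (Sum.inr j)) ^ m (Sum.inr j)) := by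
  classical
  let φ : Λ → Polynomial (MvPolynomial (Fin d ⊕ Fin n) k) := fun l =>
    ∑ m ∈ (f l).support,
      Polynomial.C (MvPolynomial.C (MvPolynomial.coeff m (f l))) *
        Polynomial.X ^ (N - ∑ i : Fin d, m (Sum.inl i)) *
        (∏ i : Fin d, (Polynomial.X * Polynomial.C (MvPolynomial.X (Sum.inl i)) +
            Polynomial.C (MvPolynomial.rename Sum.inl u ^ s * MvPolynomial.C (v i))) ^ m (Sum.inl i)) *
        ∏ j : Fin n, Polynomial.C (MvPolynomial.X (Sum.inr j)) ^ m (Sum.inr j)
  show ∃ c' : ℕ → Polynomial (MvPolynomial (Fin d ⊕ Fin n) k), _ ∈ Ideal.span (Set.range φ)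
  set U := MvPolynomial.rename (Sum.inl : Fin d → Fin d ⊕ Fin n) u with hU
  set ζ := ∏ j ∈ J, (MvPolynomial.X (Sum.inr j) : MvPolynomial (Fin d ⊕ Fin n) k) with hζ
  set T : Polynomial (MvPolynomial (Fin d ⊕ Fin n) k) := Polynomial.X with hT
  -- modulo the power of `U`, the translated polynomial is the homogenisation
  have key : ∀ l, φ l - T ^ N * Polynomial.C (f l) ∈
      Ideal.span {Polynomial.C U ^ s} ∧ (N = 0 → φ l = Polynomial.C (f l)) := by
    intro l
    have hsum : T ^ N * Polynomial.C (f l) = ∑ m ∈ (f l).support,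
        Polynomial.C (MvPolynomial.C (MvPolynomial.coeff m (f l))) * T ^ (N - ∑ i : Fin d, m (Sum.inl i)) *
          (∏ i : Fin d, (T * Polynomial.C (MvPolynomial.X (Sum.inl i))) ^ m (Sum.inl i)) *
          ∏ j : Fin n, Polynomial.C (MvPolynomial.X (Sum.inr j)) ^ m (Sum.inr j) := by
      conv_lhs => rw [(f l).as_sum, map_sum, Finset.mul_sum]
      refine Finset.sum_congr rfl fun m hm => ?_
      rw [MvPolynomial.monomial_eq, Finsupp.prod_fintype _ _ (fun _ => pow_zero _), Fintype.prod_sum_type]
      simp only [map_mul, map_prod, map_pow, mul_pow, Finset.prod_mul_distrib, Finset.prod_pow_eq_pow_sum]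
      rw [← Nat.sub_add_cancel (hdeg l m hm), pow_add]
      simp only [Nat.add_sub_cancel]
      ring
    refine ⟨?_, fun h0 => ?_⟩
    · rw [hsum, ← Finset.sum_sub_distrib]
      refine sum_mem fun m _ => ?_
      rw [← sub_mul, ← mul_sub]
      refine Ideal.mul_mem_right _ _ (Ideal.mul_mem_left _ _ ?_)
      rw [← Ideal.Quotient.eq, map_prod, map_prod]
      refine Finset.prod_congr rfl fun i _ => ?_
      rw [map_pow, map_pow]
      congr 1
      rw [Ideal.Quotient.eq]
      refine Ideal.mem_span_singleton.2 ⟨Polynomial.C (MvPolynomial.C (v i)), ?_⟩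
      rw [map_mul, map_pow]
      ring
    · have hm0 : ∀ m ∈ (f l).support, ∀ i : Fin d, m (Sum.inl i) = 0 := fun m hm i => by
        have := hdeg l m hm
        rw [h0, Nat.le_zero, Finset.sum_eq_zero_iff] at this
        exact this i (Finset.mem_univ i)
      have hTN : T ^ N * Polynomial.C (f l) = Polynomial.C (f l) := by rw [h0, pow_zero, one_mul]
      rw [← hTN, hsum]
      refine Finset.sum_congr rfl fun m hm => ?_
      simp only [hm0 m hm, pow_zero]
      rfl
  obtain ⟨a, ha⟩ := (Ideal.mem_span_range_iff_exists_fun).1 hE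
  rcases Nat.eq_zero_or_pos N with rfl | hN
  · refine ⟨fun _ => 0, Ideal.mem_span_range_iff_exists_fun.2 ⟨fun l => Polynomial.C (a l), ?_⟩⟩
    simp only [(key _).2 rfl, ← map_mul, ← map_sum, ha]
    simp
  choose g hg using fun l => Ideal.mem_span_singleton'.1 (key l).1
  let w : Polynomial (MvPolynomial (Fin d ⊕ Fin n) k) :=
    (∑ l, Polynomial.C (a l) * g l) * Polynomial.C U ^ (s - N)
  refine ⟨fun i => T ^ i * Polynomial.C (c i) + if i = N then w else 0,
    Ideal.mem_span_range_iff_exists_fun.2 ⟨fun l => Polynomial.C (a l), ?_⟩⟩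
  have h1 : ∀ l, Polynomial.C (a l) * φ l =
      T ^ N * Polynomial.C (a l * f l) + Polynomial.C (a l) * g l * Polynomial.C U ^ s := fun l => by
    rw [map_mul, mul_assoc (Polynomial.C (a l)) (g l), hg l]
    ring
  rw [Finset.sum_congr rfl fun l _ => h1 l, Finset.sum_add_distrib, ← Finset.mul_sum, ← map_sum, ha,
    ← Finset.sum_mul]
  have hs' : Polynomial.C U ^ s = Polynomial.C U ^ (s - N) * Polynomial.C U ^ N := by
    rw [← pow_add, Nat.sub_add_cancel hs]
  have h2 : (∑ i ∈ Finset.Icc 1 N, (T ^ i * Polynomial.C (c i) + if i = N then w else 0) *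
        (T * Polynomial.C ζ) ^ (N - i) * Polynomial.C U ^ i) =
      (∑ i ∈ Finset.Icc 1 N, T ^ N * Polynomial.C (c i * ζ ^ (N - i) * U ^ i)) + w * Polynomial.C U ^ N := by
    simp only [add_mul, Finset.sum_add_distrib, ite_mul, zero_mul, Finset.sum_ite_eq',
      Finset.mem_Icc, le_refl, and_true, hN, Nat.one_le_iff_ne_zero, hN.ne', ne_eq, not_false_iff, if_true,
      Nat.sub_self, pow_zero, mul_one]
    congr 1
    refine Finset.sum_congr rfl fun i hi => ?_
    have e : T ^ N = T ^ i * T ^ (N - i) := by rw [← pow_add, Nat.add_sub_cancel' (Finset.mem_Icc.1 hi).2]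
    rw [e, map_mul, map_mul, map_pow, map_pow, mul_pow]
    ring
  rw [h2, map_add, map_pow, mul_add, map_sum, Finset.mul_sum, mul_pow]
  simp only [w, hs']
  ring

end Groth.Agent.S16367
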