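import Groth.Statements.S1637
import Groth.Agent.Node12.Loc.Scheme

set_option autoImplicit false
set_option backward.isDefEq.respectTransparency.types false
set_option maxHeartbeats 1600000
universe u
open CategoryTheory CategoryTheory.Limits AlgebraicGeometry
open Curves

namespace Groth.Agent.S1637

/-- The standard nodal family over a ring is pulled back from the universal one. -/
theorem isPushout_nodeEq {R : Type u} [CommRing R] (r : R) :
    ∃ (ρ : CommRingCat.of (MvPolynomial (Fin 3) (ULift.{u} ℤ) ⧸ Ideal.span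
        {(MvPolynomial.X 0 * MvPolynomial.X 1 - MvPolynomial.X 2 : MvPolynomial (Fin 3) (ULift.{u} ℤ))}) ⟶
          CommRingCat.of (MvPolynomial (Fin 2) R ⧸ Node12.Loc.nodeEq r))
      (η : CommRingCat.of (MvPolynomial (Fin 1) (ULift.{u} ℤ)) ⟶ CommRingCat.of R),
      IsPushout (CommRingCat.ofHom ((Ideal.Quotient.mk (Ideal.span
        {(MvPolynomial.X 0 * MvPolynomial.X 1 - MvPolynomial.X 2 : MvPolynomial (Fin 3) (ULift.{u} ℤ))})).comp
          (MvPolynomial.aeval (fun _ : Fin 1 => (MvPolynomial.X 2 : MvPolynomial (Fin 3) (ULift.{u} ℤ)))).toRingHom))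
        η ρ (CommRingCat.ofHom (algebraMap R (MvPolynomial (Fin 2) R ⧸ Node12.Loc.nodeEq r))) := by
  let Z := ULift.{u} ℤ
  let I : Ideal (MvPolynomial (Fin 3) Z) := Ideal.span
    {(MvPolynomial.X 0 * MvPolynomial.X 1 - MvPolynomial.X 2 : MvPolynomial (Fin 3) Z)}
  let W := MvPolynomial (Fin 2) R ⧸ Node12.Loc.nodeEq r
  let zR : Z →+* R := (Int.castRingHom R).comp ULift.ringEquiv.toRingHom
  let ρ₀ : MvPolynomial (Fin 3) Z →+* W := MvPolynomial.eval₂Hom ((algebraMap R W).comp zR)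
    ![Ideal.Quotient.mk _ (MvPolynomial.X 0), Ideal.Quotient.mk _ (MvPolynomial.X 1), algebraMap R W r]
  have hXr : Ideal.Quotient.mk (Node12.Loc.nodeEq r) (MvPolynomial.X 0) *
      Ideal.Quotient.mk _ (MvPolynomial.X 1) = algebraMap R W r := by
    rw [← map_mul]
    exact Ideal.Quotient.eq.2 (Ideal.mem_span_singleton_self _)
  have hρ : ∀ t ∈ I, ρ₀ t = 0 := by
    intro t ht
    obtain ⟨t, rfl⟩ := Ideal.mem_span_singleton'.1 ht
    simp [ρ₀, hXr]
  let ρ : MvPolynomial (Fin 3) Z ⧸ I →+* W := Ideal.Quotient.lift I ρ₀ hρ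
  let η : MvPolynomial (Fin 1) Z →+* R := MvPolynomial.eval₂Hom zR fun _ => r
  refine ⟨CommRingCat.ofHom (R := MvPolynomial (Fin 3) Z ⧸ I) (S := W) ρ, CommRingCat.ofHom η, ?_⟩
  have hZ : ∀ {T : Type u} [CommRing T] (a b : Z →+* T), a = b := fun a b => by
    refine RingHom.ext fun t => ?_
    have h := RingHom.ext_int (a.comp ULift.ringEquiv.symm.toRingHom) (b.comp ULift.ringEquiv.symm.toRingHom)
    exact RingHom.congr_fun h t.down
  have hw : CommRingCat.ofHom ((Ideal.Quotient.mk I).comp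
      (MvPolynomial.aeval (fun _ : Fin 1 => (MvPolynomial.X 2 : MvPolynomial (Fin 3) Z))).toRingHom) ≫
        CommRingCat.ofHom (R := MvPolynomial (Fin 3) Z ⧸ I) (S := W) ρ = CommRingCat.ofHom η ≫ CommRingCat.ofHom (algebraMap R W) := by
    refine CommRingCat.hom_ext (MvPolynomial.ringHom_ext' (hZ _ _) fun i => ?_)
    show ρ₀ (MvPolynomial.aeval _ (MvPolynomial.X i)) = algebraMap R W (η (MvPolynomial.X i))
    simp [ρ₀, η]
  refine IsPushout.of_isColimit (PushoutCocone.IsColimit.mk hw (fun s => ?_) (fun s => ?_) (fun s => ?_)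
    fun s m hl hr => ?_)
  · let a : MvPolynomial (Fin 3) Z ⧸ I →+* s.pt := s.inl.hom
    let b : R →+* s.pt := s.inr.hom
    let d : MvPolynomial (Fin 2) R →+* s.pt := MvPolynomial.eval₂Hom b
      ![a (Ideal.Quotient.mk I (MvPolynomial.X 0)), a (Ideal.Quotient.mk I (MvPolynomial.X 1))]
    refine CommRingCat.ofHom (Ideal.Quotient.lift (Node12.Loc.nodeEq r) d fun t ht => ?_)
    obtain ⟨t, rfl⟩ := Ideal.mem_span_singleton'.1 ht
    have h1 : a (Ideal.Quotient.mk I (MvPolynomial.X 2)) = b r := by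
      have := RingHom.congr_fun (congrArg CommRingCat.Hom.hom s.condition) (MvPolynomial.X 0)
      simp [η] at this
      exact this
    have h2 : a (Ideal.Quotient.mk I (MvPolynomial.X 0)) * a (Ideal.Quotient.mk I (MvPolynomial.X 1)) =
        a (Ideal.Quotient.mk I (MvPolynomial.X 2)) := by
      rw [← map_mul, ← map_mul]
      exact congrArg a (Ideal.Quotient.eq.2 (Ideal.mem_span_singleton_self _))
    simp [d, h2, h1]
  · refine CommRingCat.hom_ext (Ideal.Quotient.ringHom_ext (MvPolynomial.ringHom_ext' (hZ _ _) fun i => ?_))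
    have h1 : s.inr.hom r = s.inl.hom (Ideal.Quotient.mk I (MvPolynomial.X 2)) := by
      have := RingHom.congr_fun (congrArg CommRingCat.Hom.hom s.condition) (MvPolynomial.X 0)
      simp [η] at this
      exact this.symm
    fin_cases i
    · simp [ρ, ρ₀, I]
      exact MvPolynomial.eval₂_X _ _ _
    · simp [ρ, ρ₀, I]
      exact MvPolynomial.eval₂_X _ _ _
    · simp [ρ, ρ₀, I]
      exact (MvPolynomial.eval₂_C _ _ _).trans h1
  · refine CommRingCat.hom_ext (RingHom.ext fun t => ?_)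
    simp
    exact MvPolynomial.eval₂_C _ _ _
  · refine CommRingCat.hom_ext (Ideal.Quotient.ringHom_ext (MvPolynomial.ringHom_ext (fun t => ?_) fun i => ?_))
    · exact (RingHom.congr_fun (congrArg CommRingCat.Hom.hom hr) t).trans (MvPolynomial.eval₂_C _ _ _).symm
    · have h0 := RingHom.congr_fun (congrArg CommRingCat.Hom.hom hl) (Ideal.Quotient.mk I (MvPolynomial.X 0))
      have h1 := RingHom.congr_fun (congrArg CommRingCat.Hom.hom hl) (Ideal.Quotient.mk I (MvPolynomial.X 1))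
      simp [ρ, ρ₀] at h0 h1
      fin_cases i
      · exact h0.trans (MvPolynomial.eval₂_X s.inr.hom ![s.inl.hom (Ideal.Quotient.mk I (MvPolynomial.X 0)),
          s.inl.hom (Ideal.Quotient.mk I (MvPolynomial.X 1))] (0 : Fin 2)).symm
      · exact h1.trans (MvPolynomial.eval₂_X s.inr.hom ![s.inl.hom (Ideal.Quotient.mk I (MvPolynomial.X 0)),
          s.inl.hom (Ideal.Quotient.mk I (MvPolynomial.X 1))] (1 : Fin 2)).symm


/-- Let f : X → S be at-worst-nodal of relative dimension one and x a point of X which is a node of its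
fibre. Then there are étale morphisms U → X and V → S, a morphism U → V compatible with f, a
morphism V → Spec ℤ[a], and an étale morphism U → W over V where W → V is the base change of Spec
ℤ[u, v, a]/(uv - a) → Spec ℤ[a] along V → Spec ℤ[a], such that x is in the image of U. -/
theorem result {X S : Scheme.{u}} (f : X ⟶ S) (hf : Curv2.IsNodalFamily f)
    (x : X) (hx : @Curv2.IsNode (S.residueField (f.base x)) _ (f.fiber (f.base x)) ⟨f.fiberToSpecResidueField (f.base x)⟩ (f.asFiber x)) :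
    ∃ (U V W : Scheme.{u}) (gU : U ⟶ X) (gV : V ⟶ S) (p : U ⟶ V) (e : U ⟶ W) (q : W ⟶ V)
      (h : V ⟶ Spec (CommRingCat.of (MvPolynomial (Fin 1) (ULift.{u} ℤ)))) (r : W ⟶ Spec (CommRingCat.of (MvPolynomial (Fin 3) (ULift.{u} ℤ) ⧸ Ideal.span {(MvPolynomial.X 0 * MvPolynomial.X 1 - MvPolynomial.X 2 : MvPolynomial (Fin 3) (ULift.{u} ℤ))}))),
      Etale gU ∧ Etale gV ∧ Etale e ∧ gU ≫ f = p ≫ gV ∧ e ≫ q = p ∧
      IsPullback r q (Spec.map (CommRingCat.ofHom ((Ideal.Quotient.mk _).comp (MvPolynomial.aeval (fun _ : Fin 1 => (MvPolynomial.X 2 : MvPolynomial (Fin 3) (ULift.{u} ℤ)))).toRingHom))) h ∧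
      x ∈ Set.range gU.base := by
  obtain ⟨hflat, hlfp, -⟩ := hf
  obtain ⟨R, _, U, _, gU, gV, r, e, hgU, hgV, he, hsq, hxU⟩ :=
    Node12.Loc.exists_scheme_model f (f.base x) (f.asFiber x) hx
  obtain ⟨ρ, η, hpo⟩ := isPushout_nodeEq r
  refine ⟨Spec (CommRingCat.of U), Spec (CommRingCat.of R), Spec (CommRingCat.of (MvPolynomial (Fin 2) R ⧸
    Node12.Loc.nodeEq r)), gU, gV, Spec.map (CommRingCat.ofHom e) ≫
      Spec.map (CommRingCat.ofHom (algebraMap R (MvPolynomial (Fin 2) R ⧸ Node12.Loc.nodeEq r))),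
    Spec.map (CommRingCat.ofHom e), Spec.map (CommRingCat.ofHom (algebraMap R _)), Spec.map η, Spec.map ρ,
    hgU, hgV, (HasRingHomProperty.Spec_iff (P := @Etale)).2 he, hsq.trans (Category.assoc _ _ _).symm, rfl,
    isPullback_SpecMap_of_isPushout _ _ _ _ hpo, ?_⟩
  rw [Scheme.Hom.fiberι_asFiber] at hxU
  exact hxU

end Groth.Agent.S1637
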