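import Groth.Statements.S16371
import Mathlib.Algebra.Algebra.Subalgebra.Lattice
import Mathlib.RingTheory.Ideal.Span
import Mathlib.NumberTheory.Multiplicity

set_option autoImplicit false
universe u v w
open FrobAlg

namespace Groth.Agent.S16371

/-- Let p be a prime, A a commutative ring and B, C commutative A-algebras with p² = 0 in B. If two
A-algebra maps g₁, g₂ : C → B agree modulo p, then they agree on every element of C which is
congruent modulo p to an element of the A-subalgebra generated by the p-th powers. (The source
states this for liftings over a flat ℤ/p²-thickening of two smooth schemes and the subsheaf of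
functions whose reduction lies in the image of the relative Frobenius; the smoothness and lifting
hypotheses are not needed for the identity.) -/
theorem result
    (p : ℕ) [Fact p.Prime] (A : Type u) [CommRing A] (B : Type v) [CommRing B] [Algebra A B]
    (C : Type w) [CommRing C] [Algebra A C] (hp : (p : B) ^ 2 = 0)
    (g₁ g₂ : C →ₐ[A] B) (hg : ∀ x : C, g₁ x - g₂ x ∈ Ideal.span ({(p : B)} : Set B))
    (x y : C) (hy : y ∈ Algebra.adjoin A (Set.range fun c : C => c ^ p))
    (hxy : x - y ∈ Ideal.span ({(p : C)} : Set C)) :
    g₁ x = g₂ x := by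
  have key : ∀ a b : B, a - b ∈ Ideal.span ({(p : B)} : Set B) → a ^ p = b ^ p := fun a b h => by
    rw [Ideal.mem_span_singleton] at h
    have h2 : (p : B) ^ 2 ∣ a ^ p - b ^ p := by
      rw [← geom_sum₂_mul a b p, sq]
      exact mul_dvd_mul (dvd_geom_sum₂_self h) h
    rw [hp, zero_dvd_iff, sub_eq_zero] at h2
    exact h2
  have hle : Algebra.adjoin A (Set.range fun c : C => c ^ p) ≤ AlgHom.equalizer g₁ g₂ :=
    Algebra.adjoin_le fun z hz => by
      obtain ⟨c, rfl⟩ := hz
      change g₁ (c ^ p) = g₂ (c ^ p)
      rw [map_pow, map_pow]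
      exact key _ _ (hg c)
  obtain ⟨c, hc⟩ := Ideal.mem_span_singleton.1 hxy
  rw [sub_eq_iff_eq_add] at hc
  obtain ⟨d, hd⟩ := Ideal.mem_span_singleton.1 (hg c)
  have hy2 : g₁ y = g₂ y := hle hy
  rw [hc, map_add, map_add, map_mul, map_mul, map_natCast, map_natCast, hy2, add_left_inj,
    ← sub_eq_zero, ← mul_sub, hd, ← mul_assoc, ← sq, hp, zero_mul]

end Groth.Agent.S16371
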