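import Groth.Statements.S16390
import Mathlib

set_option autoImplicit false
open AbVar

noncomputable section
namespace Groth.Agent.S16390.AuxS90
open Polynomial
theorem result (p r : ℕ) [Fact p.Prime] (hr : 2 < r) :
    Irreducible (Polynomial.X ^ 2 - Polynomial.C (p : ℚ) * Polynomial.X + Polynomial.C ((p : ℚ) ^ r)) ∧
      (∀ π : ℂ, π ^ 2 - (p : ℂ) * π + (p : ℂ) ^ r = 0 → ‖π‖ = Real.sqrt ((p : ℝ) ^ r)) ∧
      ∃ a b : ℚ_[p], a ≠ b ∧ a ^ 2 - (p : ℚ_[p]) * a + (p : ℚ_[p]) ^ r = 0 ∧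
        b ^ 2 - (p : ℚ_[p]) * b + (p : ℚ_[p]) ^ r = 0 ∧ a.valuation = 1 ∧ b.valuation = (r : ℤ) - 1 := by
  have hp : p.Prime := Fact.out
  have hp2 : (2:ℝ) ≤ p := by exact_mod_cast hp.two_le
  have hpR : (p:ℝ) ^ 2 - 4 * (p:ℝ) ^ r < 0 := by
    have : (p:ℝ) ^ 2 ≤ (p:ℝ) ^ r := pow_le_pow_right₀ (by linarith) (by omega)
    nlinarith [show (4:ℝ) ≤ (p:ℝ)^2 by nlinarith]
  refine ⟨?_, ?_, ?_⟩
  · have hdeg : (X ^ 2 - C (p : ℚ) * X + C ((p : ℚ) ^ r)).natDegree = 2 := by compute_degree!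
    rw [Polynomial.irreducible_iff_roots_eq_zero_of_degree_le_three (by omega) (by omega)]
    rw [Multiset.eq_zero_iff_forall_notMem]
    intro x hx
    rw [mem_roots'] at hx
    have h := hx.2
    simp at h
    have h' : ((x:ℝ))^2 - (p:ℝ) * x + (p:ℝ)^r = 0 := by exact_mod_cast congrArg (fun q : ℚ => (q:ℝ)) h
    nlinarith [sq_nonneg (2*(x:ℝ) - p)]
  · intro z hz
    have hre := congrArg Complex.re hz
    have him := congrArg Complex.im hz
    have hpr : ((p : ℂ) ^ r) = (((p:ℝ) ^ r : ℝ) : ℂ) := by push_cast; ring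
    rw [hpr] at hre him
    simp [pow_two, -Complex.ofReal_pow] at hre him
    have hne : z.im ≠ 0 := by
      intro h0; rw [h0] at hre; nlinarith [sq_nonneg (2*z.re - p)]
    have hzre : 2 * z.re = p := mul_right_cancel₀ hne (by linarith)
    rw [Complex.norm_def]
    congr 1
    rw [Complex.normSq_apply]
    nlinarith
  · let F : Polynomial ℤ_[p] := X ^ 2 - X + C ((p : ℤ_[p]) ^ (r - 2))
    have hsmall : ‖((p : ℤ_[p]) ^ (r - 2))‖ < 1 := by
      rw [norm_pow]; exact pow_lt_one₀ (norm_nonneg _) (by rw [PadicInt.norm_p]; exact inv_lt_one_of_one_lt₀ (by exact_mod_cast hp.one_lt)) (by omega)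
    obtain ⟨u, hu, hu1, -, -⟩ := hensels_lemma (F := F) (a := (1 : ℤ_[p])) (by
      simp [F, derivative_X_pow, derivative_pow]
      norm_num
      simpa using hsmall)
    simp [F] at hu hu1
    have hu1' : ‖u - 1‖ < 1 := by
      refine hu1.trans_le ?_
      simp [derivative_pow]
      try norm_num
    have hnu : ‖u‖ = 1 := by
      have := PadicInt.norm_add_eq_max_of_ne (q := u - 1) (r := (1 : ℤ_[p])) (by rw [norm_one]; exact hu1'.ne)
      rw [sub_add_cancel, norm_one, max_eq_right hu1'.le] at this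
      exact this
    set v : ℤ_[p] := 1 - u
    have huv : u * v = (p : ℤ_[p]) ^ (r - 2) := by simp only [v]; linear_combination -hu
    have hP : ((p : ℚ_[p])) ≠ 0 := by exact_mod_cast hp.ne_zero
    have huQ : (u : ℚ_[p]) ≠ 0 := by
      intro h; rw [PadicInt.coe_eq_zero.1 h, norm_zero] at hnu; exact zero_ne_one hnu
    have huvQ : (u : ℚ_[p]) * (v : ℚ_[p]) = (p : ℚ_[p]) ^ (r - 2) := by exact_mod_cast congrArg (fun z : ℤ_[p] => (z : ℚ_[p])) huv
    have hvQ : (v : ℚ_[p]) ≠ 0 := by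
      intro h; rw [h, mul_zero] at huvQ; exact pow_ne_zero _ hP huvQ.symm
    have hval : (u : ℚ_[p]).valuation = 0 := by
      have h1 : ‖(u : ℚ_[p])‖ = 1 := by rw [← PadicInt.norm_def]; exact hnu
      rw [Padic.norm_eq_zpow_neg_valuation huQ] at h1
      have := (zpow_eq_one_iff_right₀ (a := (p:ℝ)) (by positivity) (by exact_mod_cast hp.one_lt.ne')).1 h1
      omega
    have hvv : (v : ℚ_[p]).valuation = (r : ℤ) - 2 := by
      have := congrArg Padic.valuation huvQ
      rw [Padic.valuation_mul huQ hvQ, hval, Padic.valuation_pow, Padic.valuation_p] at this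
      omega
    have hsum : (v : ℚ_[p]) = 1 - (u : ℚ_[p]) := by simp [v]
    have eq1 : ∀ x y : ℚ_[p], x + y = 1 → x * y = (p : ℚ_[p]) ^ (r - 2) →
        ((p : ℚ_[p]) * x) ^ 2 - (p : ℚ_[p]) * ((p : ℚ_[p]) * x) + (p : ℚ_[p]) ^ r = 0 := by
      intro x y hxy hm
      rw [show (p : ℚ_[p]) ^ r = (p : ℚ_[p]) ^ 2 * (p : ℚ_[p]) ^ (r - 2) by rw [← pow_add]; congr 1; omega, ← hm, show y = 1 - x by linear_combination hxy]
      ring
    refine ⟨(p : ℚ_[p]) * u, (p : ℚ_[p]) * v, ?_, eq1 u v (by rw [hsum]; ring) huvQ, eq1 v u (by rw [hsum]; ring) (by rw [mul_comm, huvQ]), ?_, ?_⟩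
    · intro h
      have := congrArg Padic.valuation (mul_left_cancel₀ hP h)
      omega
    · rw [Padic.valuation_mul hP huQ, Padic.valuation_p, hval]; rfl
    · rw [Padic.valuation_mul hP hvQ, Padic.valuation_p, hvv]; ring
end Groth.Agent.S16390.AuxS90

end

namespace Groth.Agent.S16390

/-- Let p be a prime number, r > 2 and q = p^r. The polynomial x² − p x + q is irreducible over ℚ, each
of its complex roots has absolute value √q (so its roots are Weil q-numbers), and it has two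
distinct roots in ℚ_p, of p-adic valuations 1 and r − 1. The published lemma also computes the index
of the endomorphism algebra of the simple abelian variety attached to a root; this row does not
state that part. -/
theorem result (p r : ℕ) [Fact p.Prime] (hr : 2 < r) :
    Irreducible (Polynomial.X ^ 2 - Polynomial.C (p : ℚ) * Polynomial.X + Polynomial.C ((p : ℚ) ^ r)) ∧
      (∀ π : ℂ, π ^ 2 - (p : ℂ) * π + (p : ℂ) ^ r = 0 → ‖π‖ = Real.sqrt ((p : ℝ) ^ r)) ∧
      ∃ a b : ℚ_[p], a ≠ b ∧ a ^ 2 - (p : ℚ_[p]) * a + (p : ℚ_[p]) ^ r = 0 ∧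
        b ^ 2 - (p : ℚ_[p]) * b + (p : ℚ_[p]) ^ r = 0 ∧ a.valuation = 1 ∧ b.valuation = (r : ℤ) - 1 := by
  exact AuxS90.result p r hr

end Groth.Agent.S16390
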