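import Groth.Statements.S16394
import Groth.Agent.S4362

set_option autoImplicit false
universe u
open CategoryTheory MonoidalCategory CartesianMonoidalCategory MonObj GrpObj AlgebraicGeometry
open AbVar

namespace Groth.Agent.S16394

/-- (b₁) ⇒ (c₁): let k be a finite field and X, A abelian varieties over k (proper, geometrically
integral commutative group schemes over k). Suppose the common kernel of all homomorphisms X → A is
trivial: every T-valued point of X over k that is sent to the unit by every homomorphism X → A is
the unit point (this is condition (b₁) for the trivial subgroup). Then there are finitely many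
homomorphisms ψ_1, …, ψ_n : X → A which are jointly monomorphic on T-valued points — two T-valued
points of X with the same image under every ψ_i are equal — so that (ψ_i) is an injective
homomorphism X → A^n. The published statement restricts X and A to abelian varieties whose Frobenius
is killed by a fixed polynomial; this row has no such restriction. -/
theorem result
    (k : Type u) [Field k] [Finite k] (X A : Over (Spec (CommRingCat.of k))) [GrpObj X] [IsCommMonObj X] [IsProper X.hom] [GeometricallyIntegral X.hom]
    [GrpObj A] [IsCommMonObj A] [IsProper A.hom] [GeometricallyIntegral A.hom]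
    (hsep : ∀ (T : Over (Spec (CommRingCat.of k))) (x : T ⟶ X), (∀ f : EndAV.Hom X A, x ≫ f.toHom = 1) → x = 1) :
    ∃ (n : ℕ) (ψ : Fin n → EndAV.Hom X A), ∀ (T : Over (Spec (CommRingCat.of k))) (x y : T ⟶ X),
      (∀ i, x ≫ (ψ i).toHom = y ≫ (ψ i).toHom) → x = y := by
  classical
  haveI : IsNoetherian X.left := by
    haveI : IsLocallyNoetherian X.left := LocallyOfFiniteType.isLocallyNoetherian X.hom
    haveI : CompactSpace X.left := QuasiCompact.compactSpace_of_compactSpace X.hom
    exact {}
  haveI := Groth.Agent.S4362.result X.left
  haveI : IsClosedImmersion η[A].left := by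
    haveI : IsSeparated A.hom := inferInstance
    haveI : IsClosedImmersion (η[A].left ≫ A.hom) := by
      rw [Over.w η[A]]
      exact inferInstanceAs (IsClosedImmersion (𝟙 (Spec (CommRingCat.of k))))
    exact IsClosedImmersion.of_comp η[A].left A.hom
  let I : EndAV.Hom X A → X.left.IdealSheafData := fun ψ => (Limits.pullback.fst ψ.toHom.left η[A].left).ker
  have key : ∀ (ψ : EndAV.Hom X A) (T : Over (Spec (CommRingCat.of k))) (x : T ⟶ X),
      x ≫ ψ.toHom = 1 ↔ I ψ ≤ x.left.ker := by
    intro ψ T x
    have h1 : (1 : T ⟶ A) = toUnit T ≫ η[A] := Hom.one_def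
    refine ⟨fun h => ?_, fun h => ?_⟩
    · have e : x.left ≫ ψ.toHom.left = (toUnit T).left ≫ η[A].left := by
        rw [← Over.comp_left, ← Over.comp_left, h, h1]
      rw [← Limits.pullback.lift_fst x.left (toUnit T).left e]
      exact Scheme.Hom.le_ker_comp _ _
    · let l := IsClosedImmersion.lift (Limits.pullback.fst ψ.toHom.left η[A].left) x.left h
      have hl : l ≫ Limits.pullback.fst ψ.toHom.left η[A].left = x.left := IsClosedImmersion.lift_fac _ _ _
      have e : x.left ≫ ψ.toHom.left = (l ≫ Limits.pullback.snd ψ.toHom.left η[A].left) ≫ η[A].left := by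
        rw [← hl, Category.assoc, Category.assoc, Limits.pullback.condition]
      have hs : l ≫ Limits.pullback.snd ψ.toHom.left η[A].left = T.hom := by
        have h2 := congrArg (· ≫ A.hom) e
        simp only [Category.assoc, Over.w] at h2
        exact (h2.trans (Category.comp_id (l ≫ Limits.pullback.snd ψ.toHom.left η[A].left))).symm
      rw [h1]
      refine Over.OverMorphism.ext ?_
      rw [Over.comp_left, Over.comp_left, e, hs]
      rfl
  obtain ⟨J, ⟨S, rfl⟩, hS⟩ := wellFounded_gt.has_min
    (Set.range fun S : Finset (EndAV.Hom X A) => S.sup I) ⟨_, ∅, rfl⟩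
  have hle : ∀ f, I f ≤ S.sup I := fun f => by
    have h : S.sup I ≤ (insert f S).sup I := Finset.sup_mono (Finset.subset_insert f S)
    rcases h.eq_or_lt with h' | h'
    · exact h' ▸ Finset.le_sup (Finset.mem_insert_self f S)
    · exact absurd h' (hS _ ⟨_, rfl⟩)
  refine ⟨S.card, fun i => (S.equivFin.symm i).1, fun T x y h => div_eq_one.1 (hsep T _ fun f => ?_)⟩
  refine (key f T _).2 ((hle f).trans (Finset.sup_le fun ψ hψ => (key ψ T _).1 ?_))
  have h3 := h (S.equivFin ⟨ψ, hψ⟩)
  simp only [Equiv.symm_apply_apply] at h3
  rw [GrpObj.div_comp, h3, div_self']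

end Groth.Agent.S16394
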