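import Groth.Statements.S16396
import Mathlib

set_option autoImplicit false
universe u
open CAlg

namespace Groth.Agent.S16396

open Polynomial in
/-- For a commutative ℚ-algebra A, a ℚ-subalgebra B of the polynomial algebra A[X] that contains X and
is closed under d/dX consists exactly of the polynomials each of whose coefficients is the value at
0 of some element of B; in other words B = ev(B)[X], with ev the evaluation at 0. -/
theorem result
    (A : Type u) [CommRing A] [Algebra ℚ A] (B : Subalgebra ℚ A[X])
    (hX : (X : A[X]) ∈ B) (hD : ∀ P ∈ B, Polynomial.derivative P ∈ B) (P : A[X]) :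
    P ∈ B ↔ ∀ i : ℕ, ∃ Q ∈ B, Polynomial.eval 0 Q = P.coeff i := by
  have key : ∀ (m : ℕ) (Q : A[X]), Q ∈ B → Q.natDegree ≤ m → ∀ i, (C (Q.coeff i) : A[X]) ∈ B := by
    intro m
    induction m with
    | zero =>
      intro Q hQ hd i
      rw [Nat.le_zero, natDegree_eq_zero] at hd
      obtain ⟨c, rfl⟩ := hd
      rcases i with _ | i
      · simpa using hQ
      · simp
    | succ m ih =>
      intro Q hQ hd
      have hpos : ∀ i, (C (Q.coeff (i + 1)) : A[X]) ∈ B := by
        intro i
        have := ih _ (hD Q hQ) (le_trans (natDegree_derivative_le Q) (by omega)) i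
        rw [coeff_derivative] at this
        have h2 := B.smul_mem this (((i : ℚ) + 1)⁻¹)
        rw [smul_C] at h2
        have : ((i : ℚ) + 1)⁻¹ • (Q.coeff (i + 1) * ((i : A) + 1)) = Q.coeff (i + 1) := by
          rw [Algebra.smul_def, mul_left_comm]
          have : algebraMap ℚ A ((i : ℚ) + 1)⁻¹ * ((i : A) + 1) = 1 := by
            have h1 : ((i : A) + 1) = algebraMap ℚ A ((i : ℚ) + 1) := by simp
            rw [h1, ← map_mul, inv_mul_cancel₀ (by positivity), map_one]
          rw [this, mul_one]
        rwa [this] at h2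
      intro i
      rcases i with _ | i
      · have h1 : C (Q.coeff 0) = Q - ∑ j ∈ Finset.range Q.natDegree, C (Q.coeff (j+1)) * X ^ (j+1) := by
          conv_rhs => arg 1; rw [Q.as_sum_range_C_mul_X_pow, Finset.sum_range_succ']
          simp
        rw [h1]
        exact sub_mem hQ (sum_mem fun j _ => mul_mem (hpos j) (pow_mem hX _))
      · exact hpos i
  constructor
  · exact fun h i => ⟨_, key _ P h le_rfl i, by simp⟩
  · intro h
    rw [P.as_sum_range_C_mul_X_pow]
    refine sum_mem fun i _ => mul_mem ?_ (pow_mem hX _)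
    obtain ⟨Q, hQ, hi⟩ := h i
    rw [← hi, ← coeff_zero_eq_eval_zero]
    exact key _ Q hQ le_rfl 0

end Groth.Agent.S16396
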