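import Groth.Statements.S16398
import Groth.Agent.Taut52.Basic

set_option autoImplicit false
open W4c3tautjacobian

namespace Groth.Agent.S16398

section
open MvPolynomial W4c3tautjacobian

theorem mono_zero (g : ℕ) (hg : 1 ≤ g) (d : Var g →₀ ℕ) (m n : ℕ) (hn : 3 * n ≤ 2 * g)
    (hd1 : (Finsupp.weight (wt g) d).1 = 2 * m) (hd2 : (Finsupp.weight (wt g) d).2 ≤ n) (hm : g + 1 ≤ m) :
    (F g)^[m] (monomial d (1 : ℚ)) = 0 := by
  classical
  obtain ⟨e, rfl⟩ : ∃ e, m = g + 1 + e := ⟨m - (g + 1), by omega⟩
  set v : Var g := some ⟨(2, 0), Taut52.valid20 g hg⟩ with hv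
  have hsum : ∀ k : Fin 2, True := fun _ => trivial
  have hb : (Finsupp.weight (wt g) d).1 ≤ 2 * d v + 3 * (Finsupp.weight (wt g) d).2 := by
    simp only [Finsupp.weight_apply, Finsupp.sum, Prod.fst_sum, Prod.snd_sum, Prod.smul_fst, Prod.smul_snd, smul_eq_mul, Finset.mul_sum]
    have : ∀ x ∈ d.support, d x * (wt g x).1 ≤ (if x = v then 2 * d v else 0) + 3 * (d x * (wt g x).2) := by
      intro x _
      rcases x with _ | ⟨⟨i, j⟩, hij⟩
      · simp [wt]
      · obtain ⟨h1, h2, h3, h4⟩ := hij
        simp only [wt] at h1 ⊢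
        by_cases hj : j = 0
        · subst hj
          obtain ⟨a, ha⟩ := h3
          have hi : i = 2 := by
            have : i ≠ 0 := fun h0 => h4 (by simp [h0])
            omega
          subst hi
          rw [if_pos (by rw [hv])]
          rw [hv]
          omega
        · calc d _ * i ≤ d _ * (3 * j) := Nat.mul_le_mul_left _ (by omega)
            _ ≤ _ := by rw [Nat.mul_left_comm]; omega
    refine (Finset.sum_le_sum this).trans ?_
    rw [Finset.sum_add_distrib, Finset.sum_ite_eq']
    split_ifs <;> omega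
  have hle : e + 1 ≤ d v := by omega
  have hsplit : (monomial d (1 : ℚ)) = (E g)^[e + 1] (monomial (d - Finsupp.single v (e + 1)) 1) := by
    have hit : ∀ k (P : RelRing g), (E g)^[k] P = X v ^ k * P := fun k P => by
      induction k with
      | zero => simp
      | succ k ih => rw [Function.iterate_succ_apply', ih, E, Taut52.xv20 g hg, pow_succ', mul_assoc]
    rw [hit, X_pow_eq_monomial, monomial_mul, one_mul, add_tsub_cancel_of_le (Finsupp.single_le_iff.2 hle)]
  rw [hsplit]
  set d' := d - Finsupp.single v (e + 1) with hd'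
  have hh : Taut52.Hom g (((Finsupp.weight (wt g) d').1 : ℤ), ((Finsupp.weight (wt g) d').2 : ℤ)) (monomial d' (1 : ℚ)) :=
    isWeightedHomogeneous_monomial _ _ _ (Taut52.weight_wz g d')
  refine Taut52.vanish g hg e _ _ _ hh ?_
  have : d = Finsupp.single v (e + 1) + d' := (add_tsub_cancel_of_le (Finsupp.single_le_iff.2 hle)).symm
  rw [this, map_add, Prod.fst_add, Finsupp.weight_single, Prod.smul_fst, show (wt g v).1 = 2 from rfl, smul_eq_mul] at hd1
  omega

end


/-- In the formal relation ring of genus g ≥ 1, an element of the relation ideal which is bihomogeneous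
of bidegree (0, n) with 3n ≤ 2g vanishes; that is, the relations impose nothing on the
first-degree-0 part in second degree at most 2g/3. -/
theorem result
    (g : ℕ) (hg : 1 ≤ g) (n : ℕ) (hn : 3 * n ≤ 2 * g) (P : W4c3tautjacobian.RelRing g)
    (hP : P ∈ W4c3tautjacobian.relIdeal g)
    (hhom : MvPolynomial.IsWeightedHomogeneous (W4c3tautjacobian.wt g) P ((0, n) : ℕ × ℕ)) :
    P = 0 := by
  classical
  have key : ∀ P ∈ W4c3tautjacobian.relIdeal g, ∀ Q : W4c3tautjacobian.RelRing g,
      MvPolynomial.weightedHomogeneousComponent (Taut52.wz g) ((0 : ℤ), (n : ℤ)) (Q * P) = 0 := by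
    intro P hP
    refine Submodule.span_induction ?_ (fun Q => by simp) ?_ ?_ hP
    · rintro _ ⟨d, m, hd, rfl⟩ Q
      induction Q using MvPolynomial.induction_on' with
      | add a b ha hb => rw [add_mul, map_add, ha, hb, add_zero]
      | monomial e a =>
        have hG := Taut52.hom_iterate_F g (MvPolynomial.isWeightedHomogeneous_monomial (Taut52.wz g) d (1 : ℚ) (Taut52.weight_wz g d)) m
        have hQG := (MvPolynomial.isWeightedHomogeneous_monomial (Taut52.wz g) e a (Taut52.weight_wz g e)).mul hG
        rw [MvPolynomial.weightedHomogeneousComponent_of_mem hQG]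
        split_ifs with heq
        · rw [Prod.mk_add_mk, Prod.ext_iff] at heq
          simp only at heq
          by_cases hlt : (Finsupp.weight (W4c3tautjacobian.wt g) d).1 < 2 * m
          · rw [Taut52.iterate_F_eq_zero_of_neg g (MvPolynomial.isWeightedHomogeneous_monomial (Taut52.wz g) d (1 : ℚ) (Taut52.weight_wz g d)) (by omega), mul_zero]
          · rw [mono_zero g hg d m n hn (by omega) (by omega) (by omega), mul_zero]
        · rfl
    · intro a b _ _ ha hb Q
      rw [mul_add, map_add, ha, hb, add_zero]
    · intro r a _ ha Q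
      rw [smul_eq_mul, ← mul_assoc, ha]
  have h := Taut52.hom_of_nat g hhom
  rw [← MvPolynomial.weightedHomogeneousComponent_of_mem h |>.trans (if_pos rfl)]
  simpa using key P hP 1

end Groth.Agent.S16398
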