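import Groth.Statements.S16399
import Groth.Agent.Taut52.Pos

set_option autoImplicit false
open W4c3tautjacobian

namespace Groth.Agent.S16399

section
open MvPolynomial W4c3tautjacobian

theorem low_decomp (g i : ℕ) (hv : Valid g (0, 2 * i)) (P : RelRing g)
    (hP : Taut52.Hom g ((0 : ℤ), ((2 * i : ℕ) : ℤ)) P) :
    P - C (coeff (Finsupp.single (some ⟨(0, 2 * i), hv⟩) 1) P) * xv g 0 (2 * (i : ℤ)) ∈
      Algebra.adjoin ℚ ({X none} ∪ {Q : RelRing g | ∃ l : ℕ, 1 ≤ l ∧ l < i ∧ Q = xv g 0 (2 * (l : ℤ))}) := by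
  classical
  set v : Var g := some ⟨(0, 2 * i), hv⟩
  have hxv : ∀ (l : ℕ) (hl : Valid g (0, 2 * l)), xv g 0 (2 * (l : ℤ)) = X (some ⟨(0, 2 * l), hl⟩) := fun l hl => by
    rw [show (2 * (l : ℤ)) = ((2 * l : ℕ) : ℤ) by push_cast; ring, show (0 : ℤ) = ((0 : ℕ) : ℤ) from rfl, Taut52.xv_nat g hl]
  rw [hxv i hv]
  set S := Algebra.adjoin ℚ ({X none} ∪ {Q : RelRing g | ∃ l : ℕ, 1 ≤ l ∧ l < i ∧ Q = xv g 0 (2 * (l : ℤ))})
  have hsum : C (coeff (Finsupp.single v 1) P) * X v = monomial (Finsupp.single v 1) (coeff (Finsupp.single v 1) P) := by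
    rw [X, C_mul_monomial, mul_one]
  rw [hsum, as_sum (P - monomial (Finsupp.single v 1) (coeff (Finsupp.single v 1) P))]
  refine sum_mem fun d hd => ?_
  rw [mem_support_iff] at hd
  have hdv : d ≠ Finsupp.single v 1 := fun h => hd (by rw [h, coeff_sub, coeff_monomial, if_pos rfl, sub_self])
  have hdP : coeff d P ≠ 0 := by
    rwa [coeff_sub, coeff_monomial, if_neg (Ne.symm hdv), sub_zero] at hd
  have hw := hP hdP
  rw [Taut52.weight_wz, Prod.ext_iff] at hw
  simp only [Nat.cast_inj, Nat.cast_eq_zero] at hw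
  rw [monomial_eq, Finsupp.prod]
  refine S.mul_mem (S.algebraMap_mem _) (prod_mem fun x hx => pow_mem ?_ _)
  rw [Finsupp.mem_support_iff] at hx
  rcases x with _ | ⟨⟨a, b⟩, hab⟩
  · exact Algebra.subset_adjoin (Or.inl rfl)
  have hsplit : d = Finsupp.single (some ⟨(a, b), hab⟩) 1 + (d - Finsupp.single (some ⟨(a, b), hab⟩) 1) :=
    (add_tsub_cancel_of_le (Finsupp.single_le_iff.2 (by omega))).symm
  rw [hsplit, map_add, Prod.fst_add, Prod.snd_add, Finsupp.weight_single, one_smul] at hw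
  obtain ⟨h1, h2, ⟨c, hc⟩, h4⟩ := hab
  simp only [wt] at hw h1 h2 hc h4
  obtain rfl : a = 0 := by omega
  obtain ⟨l, rfl⟩ : ∃ l, b = 2 * l := ⟨c, by omega⟩
  have hl1 : 1 ≤ l := by
    by_contra h
    exact h4 (Prod.ext rfl (by simp only; omega))
  refine Algebra.subset_adjoin (Or.inr ⟨l, hl1, ?_, (hxv l _).symm⟩)
  refine lt_of_le_of_ne (by omega) fun hli => ?_
  subst hli
  -- the remaining part has weight zero, so vanishes
  set r := d - Finsupp.single (some ⟨(0, 2 * l), hv⟩) 1 with hr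
  have hr0 : r = 0 := by
    by_contra hne
    obtain ⟨y, hy⟩ := Finsupp.ne_iff.1 hne
    rw [Finsupp.zero_apply] at hy
    have hs : r = Finsupp.single y 1 + (r - Finsupp.single y 1) :=
      (add_tsub_cancel_of_le (Finsupp.single_le_iff.2 (by omega))).symm
    rw [hs, map_add, Prod.fst_add, Prod.snd_add, Finsupp.weight_single, one_smul] at hw
    rcases y with _ | ⟨⟨a', b'⟩, hab'⟩
    · simp only [wt] at hw; omega
    · obtain ⟨q1, q2, q3, q4⟩ := hab'
      simp only [wt] at hw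
      exact q4 (Prod.ext (by simp only; omega) (by simp only; omega))
  exact hdv (hsplit.trans (by rw [hr0, add_zero]))

end


/-- In the formal relation ring of genus g ≥ 1, every symbol x 0 (2i) is congruent modulo the relation
ideal to a polynomial in y and the symbols x 0 (2j) with 1 ≤ j and 3j ≤ g; so these low symbols
together with y generate the first-degree-0 part modulo the relations. -/
theorem result
    (g : ℕ) (hg : 1 ≤ g) (i : ℕ) :
    ∃ q ∈ Algebra.adjoin ℚ (W4c3tautjacobian.lowGens g),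
      W4c3tautjacobian.xv g 0 (2 * (i : ℤ)) - q ∈ W4c3tautjacobian.relIdeal g := by
  classical
  suffices h : ∀ i : ℕ, Ideal.Quotient.mkₐ ℚ (W4c3tautjacobian.relIdeal g) (W4c3tautjacobian.xv g 0 (2 * (i : ℤ))) ∈
      (Algebra.adjoin ℚ (W4c3tautjacobian.lowGens g)).map (Ideal.Quotient.mkₐ ℚ (W4c3tautjacobian.relIdeal g)) by
    obtain ⟨q, hq, he⟩ := Subalgebra.mem_map.1 (h i)
    exact ⟨q, hq, Ideal.Quotient.eq.1 he.symm⟩
  intro i
  induction i using Nat.strong_induction_on with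
  | _ i ih =>
  set S := (Algebra.adjoin ℚ (W4c3tautjacobian.lowGens g)).map (Ideal.Quotient.mkₐ ℚ (W4c3tautjacobian.relIdeal g))
  by_cases hi0 : i = 0
  · subst hi0
    rw [show W4c3tautjacobian.xv g 0 (2 * ((0 : ℕ) : ℤ)) = algebraMap ℚ _ (g : ℚ) by simp [W4c3tautjacobian.xv]]
    exact ⟨_, Subalgebra.algebraMap_mem _ _, rfl⟩
  by_cases hlow : 3 * i ≤ g
  · exact ⟨_, Algebra.subset_adjoin (Or.inr ⟨i, by omega, hlow, rfl⟩), rfl⟩
  by_cases hig : i + 1 ≤ g
  swap
  · rw [show W4c3tautjacobian.xv g 0 (2 * (i : ℤ)) = 0 by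
      rw [show (2 * (i : ℤ)) = ((2 * i : ℕ) : ℤ) by push_cast; ring, show (0 : ℤ) = ((0 : ℕ) : ℤ) from rfl,
        Taut52.xv_nat_of_not g (by omega) (fun h => by have := h.2.1; simp only at this; omega)], map_zero]
    exact zero_mem _
  have hv : W4c3tautjacobian.Valid g (0, 2 * i) := Taut52.valid_of g 0 (2 * i) (by omega) (by omega) ⟨i, by omega⟩ (by omega)
  have h31 : W4c3tautjacobian.Valid g (3, 1) := Taut52.valid_of g 3 1 (by omega) (by omega) ⟨2, rfl⟩ one_ne_zero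
  set d : W4c3tautjacobian.Var g →₀ ℕ := Finsupp.single (some ⟨(3, 1), h31⟩) (2 * i)
  have hwd : Finsupp.weight (W4c3tautjacobian.wt g) d = (6 * i, 2 * i) := by
    rw [Finsupp.weight_single, W4c3tautjacobian.wt, Prod.smul_mk, smul_eq_mul, smul_eq_mul]
    exact Prod.ext (by simp only; ring) (by simp only; ring)
  set P := (W4c3tautjacobian.F g)^[3 * i] (MvPolynomial.monomial d (1 : ℚ))
  have hPI : P ∈ W4c3tautjacobian.relIdeal g :=
    Ideal.subset_span ⟨d, 3 * i, by rw [hwd]; simp only; omega, rfl⟩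
  have hP : Taut52.Hom g ((0 : ℤ), ((2 * i : ℕ) : ℤ)) P := by
    have h0 := Taut52.hom_iterate_F g (MvPolynomial.isWeightedHomogeneous_monomial (Taut52.wz g) d (1 : ℚ) (Taut52.weight_wz g d)) (3 * i)
    rw [hwd] at h0
    convert h0 using 2
    push_cast; ring
  set c := MvPolynomial.coeff (Finsupp.single (some ⟨(0, 2 * i), hv⟩) 1) P with hc
  have hc0 : c ≠ 0 := Taut52.coeff_ne_zero_main g (by omega) hig
  have hd := low_decomp g i hv P hP
  have hm : Ideal.Quotient.mkₐ ℚ (W4c3tautjacobian.relIdeal g) (P - MvPolynomial.C c * W4c3tautjacobian.xv g 0 (2 * (i : ℤ))) ∈ S := by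
    refine (show Algebra.adjoin ℚ _ ≤ S.comap (Ideal.Quotient.mkₐ ℚ (W4c3tautjacobian.relIdeal g)) from Algebra.adjoin_le ?_) hd
    rintro _ (rfl | ⟨l, _, hl, rfl⟩)
    · exact ⟨_, Algebra.subset_adjoin (Or.inl rfl), rfl⟩
    · exact ih l hl
  rw [map_sub, map_mul, show Ideal.Quotient.mkₐ ℚ (W4c3tautjacobian.relIdeal g) P = 0 from Ideal.Quotient.eq_zero_iff_mem.2 hPI,
    zero_sub, neg_mem_iff] at hm
  have := S.mul_mem (S.algebraMap_mem c⁻¹) hm
  rw [← mul_assoc, ← AlgHom.commutes (Ideal.Quotient.mkₐ ℚ (W4c3tautjacobian.relIdeal g)) c⁻¹, ← map_mul, MvPolynomial.algebraMap_eq] at this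
  rwa [← map_mul MvPolynomial.C, inv_mul_cancel₀ hc0, MvPolynomial.C_1, map_one, one_mul] at this

end Groth.Agent.S16399
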