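import Groth.Statements.S16400
import Mathlib

set_option autoImplicit false
universe u v
open CAlgX

namespace Groth.Agent.S16400

theorem exists_basis_finset {K : Type*} [Field K] {V : Type*} [AddCommGroup V] [Module K V]
    {N : Type*} [Fintype N] [DecidableEq N] (v : N → V) :
    ∃ s : Finset N, LinearIndependent K (fun i : s => v i) ∧
      Submodule.span K (Set.range fun i : s => v i) = Submodule.span K (Set.range v) := by
  classical
  obtain ⟨κ, a, ha, hspan, hli⟩ := exists_linearIndependent' K v
  have : Fintype κ := Fintype.ofInjective a ha
  refine ⟨Finset.univ.image a, ?_, ?_⟩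
  · have h1 : ∀ i : (Finset.univ.image a : Finset N), ∃ k, a k = i := fun i => by
      simpa using Finset.mem_image.1 i.2
    choose k hk using h1
    have hinj : Function.Injective k := fun i j h => Subtype.ext (by rw [← hk i, ← hk j, h])
    convert hli.comp k hinj using 1
    ext i
    simp [hk]
  · rw [← hspan]
    congr 1
    ext x
    constructor
    · rintro ⟨⟨i, hi⟩, rfl⟩
      obtain ⟨j, -, rfl⟩ := Finset.mem_image.1 hi
      exact ⟨j, rfl⟩
    · rintro ⟨j, rfl⟩
      exact ⟨⟨a j, Finset.mem_image_of_mem a (Finset.mem_univ j)⟩, rfl⟩

/-- Let K be a field, N a finite index set and A a square matrix over K indexed by N whose linear map on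
column vectors has kernel equal to its range (so A composed with A is zero and the three-term
sequence it defines is exact in the middle). Then there are subsets N₁₂, N₂₁, N₃₁ of N such that the
block of A with rows in N₃₁ and columns in N₂₁, and the block of A with rows outside N₂₁ and columns
in N₁₂, both act bijectively on column vectors. (In the original setting K is the prime field and
middle exactness is supplied by the Cartier isomorphism; here exactness is the hypothesis and K is
any field.) -/
theorem result
    {K : Type u} [Field K] {N : Type v} [Fintype N] [DecidableEq N]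
    (A : Matrix N N K)
    (hA : LinearMap.ker A.mulVecLin = LinearMap.range A.mulVecLin) :
    ∃ N₁₂ N₂₁ N₃₁ : Finset N,
      Function.Bijective (A.submatrix (Subtype.val : ↥N₃₁ → N) (Subtype.val : ↥N₂₁ → N)).mulVecLin ∧
      Function.Bijective
        (A.submatrix (Subtype.val : {x : N // x ∉ N₂₁} → N) (Subtype.val : ↥N₁₂ → N)).mulVecLin := by
  classical
  obtain ⟨s, hli, hspan⟩ := exists_basis_finset (K := K) A.col
  rw [← Matrix.range_mulVecLin] at hspan
  let W : Matrix N s K := A.submatrix id Subtype.val
  have hW : Function.Injective W.mulVecLin := Matrix.mulVec_injective_iff.2 hli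
  have hWr : LinearMap.range W.mulVecLin = LinearMap.range A.mulVecLin := by
    rw [← hspan, Matrix.range_mulVecLin]
    rfl
  have hcard : Fintype.card N = s.card + s.card := by
    have h := LinearMap.finrank_range_add_finrank_ker A.mulVecLin
    rw [hA, ← hWr, LinearMap.finrank_range_of_inj hW, Module.finrank_fintype_fun_eq_card,
      Module.finrank_fintype_fun_eq_card, Fintype.card_coe] at h
    exact h.symm
  obtain ⟨t, htli, htspan⟩ := exists_basis_finset (K := K) W.row
  refine ⟨s, s, t, ?_, ?_⟩
  · have hinj : Function.Injective (A.submatrix (Subtype.val : ↥t → N) (Subtype.val : ↥s → N)).mulVecLin := by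
      rw [injective_iff_map_eq_zero]
      intro x hx
      apply hW
      rw [map_zero]
      funext i
      let L : (↥s → K) →ₗ[K] K := (Fintype.linearCombination K x)
      have hle : Submodule.span K (Set.range W.row) ≤ LinearMap.ker L := by
        rw [← htspan, Submodule.span_le]
        rintro _ ⟨j, rfl⟩
        exact congrFun hx j
      exact hle (Submodule.subset_span ⟨i, rfl⟩)
    refine ⟨hinj, (LinearMap.injective_iff_surjective_of_finrank_eq_finrank ?_).1 hinj⟩
    have h1 := htli.fintype_card_le_finrank
    have h2 := LinearMap.finrank_le_finrank_of_injective hinj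
    simp only [Module.finrank_fintype_fun_eq_card] at h1 h2 ⊢
    omega
  · have hinj : Function.Injective
        (A.submatrix (Subtype.val : {x : N // x ∉ s} → N) (Subtype.val : ↥s → N)).mulVecLin := by
      rw [injective_iff_map_eq_zero]
      intro x hx
      apply hW
      rw [map_zero]
      have hy : W.mulVecLin x ∈ LinearMap.ker A.mulVecLin := by
        rw [hA, ← hWr]; exact ⟨x, rfl⟩
      have hzero : ∀ i, i ∉ s → W.mulVecLin x i = 0 := fun i hi => congrFun hx ⟨i, hi⟩
      have h2 : W.mulVecLin (fun i : s => W.mulVecLin x i) = 0 := by
        rw [← LinearMap.mem_ker.1 hy]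
        funext k
        simp only [Matrix.mulVecLin_apply]
        change ∑ i : s, A k i * W.mulVecLin x i = ∑ i, A k i * W.mulVecLin x i
        rw [Finset.sum_coe_sort s (fun i => A k i * W.mulVecLin x i)]
        exact Finset.sum_subset (Finset.subset_univ s) fun i _ hi => by rw [hzero i hi, mul_zero]
      have h3 := hW (h2.trans (map_zero _).symm)
      funext i
      by_cases hi : i ∈ s
      · exact congrFun h3 ⟨i, hi⟩
      · exact hzero i hi
    refine ⟨hinj, (LinearMap.injective_iff_surjective_of_finrank_eq_finrank ?_).1 hinj⟩
    simp only [Module.finrank_fintype_fun_eq_card, Fintype.card_coe, Fintype.card_subtype_compl]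
    omega

end Groth.Agent.S16400
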