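import Groth.Statements.S16401
import Mathlib

set_option autoImplicit false
universe u v
open CAlgX

namespace Groth.Agent.S16401

/-- Let R be a commutative ring and (E_a), a ∈ ι, a family of additive subgroups of R indexed by an
additive commutative group ι, with E_0 = R and E_a · E_b ⊆ E_{a+b}. Let β, γ : Fin r → ι be weight
vectors with Σ_j β_j = Σ_i γ_i, and let ϑ be an r × r matrix over R with ϑ_{ij} ∈ E_{γ_i − β_j} for
all i, j and with unit determinant. Then a column vector u satisfies u_j ∈ E_{β_j} for every j if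
and only if (ϑ u)_i ∈ E_{γ_i} for every i; since ϑ is invertible this says that ϑ maps the box Π_j
E_{β_j} bijectively onto the box Π_i E_{γ_i}. -/
theorem result
    {R : Type u} [CommRing R] {ι : Type v} [AddCommGroup ι]
    (E : ι → AddSubgroup R) (h0 : E 0 = ⊤)
    (hmul : ∀ a b : ι, ∀ x ∈ E a, ∀ y ∈ E b, x * y ∈ E (a + b))
    {r : ℕ} (wβ wγ : Fin r → ι) (hsum : ∑ j, wβ j = ∑ i, wγ i)
    (ϑ : Matrix (Fin r) (Fin r) R) (hϑ : ∀ i j, ϑ i j ∈ E (wγ i - wβ j))
    (hdet : IsUnit ϑ.det) (u : Fin r → R) :
    (∀ j, u j ∈ E (wβ j)) ↔ ∀ i, ϑ.mulVec u i ∈ E (wγ i) := by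
  classical
  constructor
  · intro hu i
    rw [Matrix.mulVec, dotProduct]
    refine sum_mem fun j _ => ?_
    simpa using hmul _ _ _ (hϑ i j) _ (hu j)
  · intro hu j
    obtain ⟨D, hD⟩ := hdet
    have hrec : u j = ((D⁻¹ : Rˣ) : R) * ∑ i, ϑ.adjugate j i * ϑ.mulVec u i := by
      have : ϑ.adjugate.mulVec (ϑ.mulVec u) = ϑ.det • u := by
        rw [Matrix.mulVec_mulVec, Matrix.adjugate_mul, Matrix.smul_mulVec, Matrix.one_mulVec]
      have h2 := congrFun this j
      rw [Matrix.mulVec] at h2
      simp only [dotProduct, Pi.smul_apply, smul_eq_mul] at h2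
      rw [h2, ← hD, ← mul_assoc, Units.inv_mul, one_mul]
    rw [hrec]
    have hprod : ∀ (T : Finset (Fin r)) (f : Fin r → R) (w : Fin r → ι), (∀ c ∈ T, f c ∈ E (w c)) →
        ∏ c ∈ T, f c ∈ E (∑ c ∈ T, w c) := by
      intro T f w
      induction T using Finset.induction_on with
      | empty => intro _; simp [h0]
      | @insert a T ha ih =>
        intro h
        rw [Finset.prod_insert ha, Finset.sum_insert ha]
        exact hmul _ _ _ (h a (Finset.mem_insert_self a T)) _ (ih fun c hc => h c (Finset.mem_insert_of_mem hc))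
    have hadj : ∀ i, ϑ.adjugate j i ∈ E (wβ j - wγ i) := by
      intro i
      rw [Matrix.adjugate_apply, Matrix.det_apply]
      refine sum_mem fun σ _ => AddSubgroup.zsmul_mem _ ?_ _
      by_cases hσ : σ j = i
      · have hf : ∀ c ∈ (Finset.univ : Finset (Fin r)), ϑ.updateRow i (Pi.single j 1) (σ c) c ∈
            E (if c = j then 0 else wγ (σ c) - wβ c) := by
          intro c _
          split
          · next hc => subst hc; simp [hσ, h0]
          · next hc =>
            have : σ c ≠ i := fun h => hc (σ.injective (h.trans hσ.symm))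
            simpa [Matrix.updateRow_ne this] using hϑ (σ c) c
        have := hprod _ _ _ hf
        have e : (∑ c, if c = j then 0 else wγ (σ c) - wβ c) = wβ j - wγ i := by
          have : ∀ c, (if c = j then 0 else wγ (σ c) - wβ c) = (wγ (σ c) - wβ c) - (if c = j then wγ (σ c) - wβ c else 0) := by
            intro c; split <;> simp
          rw [Finset.sum_congr rfl fun c _ => this c, Finset.sum_sub_distrib, Finset.sum_sub_distrib,
            Equiv.sum_comp σ wγ, hsum, sub_self, Finset.sum_ite_eq' Finset.univ j, if_pos (Finset.mem_univ j), hσ]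
          abel
        rwa [e] at this
      · rw [Finset.prod_eq_zero (Finset.mem_univ (σ.symm i))]
        · exact zero_mem _
        · have : j ≠ σ.symm i := fun h => hσ (by rw [h]; simp)
          simp [Pi.single_apply, Ne.symm this]
    have hs : ∑ i, ϑ.adjugate j i * ϑ.mulVec u i ∈ E (wβ j) := sum_mem fun i _ => by
      simpa using hmul _ _ _ (hadj i) _ (hu i)
    simpa using hmul 0 _ _ (by rw [h0]; trivial : ((D⁻¹ : Rˣ) : R) ∈ E 0) _ hs

end Groth.Agent.S16401
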