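import Mathlib
import Groth.Statements.S16405

set_option autoImplicit false
universe u v
open InvQ

namespace Groth.Agent.S16405

theorem result
    (k : Type u) [CommRing k] (r : ℕ) (L : Type v) [AddCommGroup L]
    (b : L →+ (Fin r → ℤ)) (hb : Function.Injective b) :
    Set.BijOn
      (AddMonoidAlgebra.mapDomainAlgHom k k (AddMonoidHom.snd L (Fin r → ℕ)))
      (AddMonoidAlgebra.gradeBy k
        (b.comp (AddMonoidHom.fst L (Fin r → ℕ)) +
          (AddMonoidHom.compLeft (Nat.castAddMonoidHom ℤ) (Fin r)).comp (AddMonoidHom.snd L (Fin r → ℕ))) 0 :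
        Set (AddMonoidAlgebra k (L × (Fin r → ℕ))))
      (AddMonoidAlgebra.gradeBy k
        ((QuotientAddGroup.mk' b.range).comp (AddMonoidHom.compLeft (Nat.castAddMonoidHom ℤ) (Fin r))) 0 :
        Set (AddMonoidAlgebra k (Fin r → ℕ))) := by
  classical
  have hm : ∀ (x : L × (Fin r → ℕ)),
      (b.comp (AddMonoidHom.fst L (Fin r → ℕ)) +
          (AddMonoidHom.compLeft (Nat.castAddMonoidHom ℤ) (Fin r)).comp (AddMonoidHom.snd L (Fin r → ℕ))) x =
        b x.1 + fun i => (x.2 i : ℤ) := fun x => rfl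
  refine ⟨?_, ?_, ?_⟩
  · intro a ha
    rw [SetLike.mem_coe, AddMonoidAlgebra.mem_gradeBy_iff] at ha ⊢
    intro n hn
    have h2 : n ∈ (Finsupp.mapDomain (AddMonoidHom.snd L (Fin r → ℕ)) a.coeff).support := by simpa using hn
    obtain ⟨x, hx, rfl⟩ := Finset.mem_image.1 (Finsupp.mapDomain_support h2)
    have h := ha hx
    simp only [Set.mem_preimage, Set.mem_singleton_iff, hm] at h
    simp only [Set.mem_preimage, Set.mem_singleton_iff, AddMonoidHom.comp_apply, QuotientAddGroup.mk'_apply,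
      QuotientAddGroup.eq_zero_iff]
    exact ⟨-x.1, by rw [map_neg]; exact neg_eq_of_add_eq_zero_right h⟩
  · intro a ha a' ha' h
    rw [SetLike.mem_coe, AddMonoidAlgebra.mem_gradeBy_iff] at ha ha'
    refine AddMonoidAlgebra.coeff_injective (Finsupp.mapDomain_injOn (f := Prod.snd)
      {x : L × (Fin r → ℕ) | b x.1 + (fun i => (x.2 i : ℤ)) = 0} ?_ ?_ ?_ ?_)
    · intro x hx y hy hxy
      simp only [Set.mem_setOf_eq] at hx hy
      refine Prod.ext (hb ?_) hxy
      rw [eq_neg_of_add_eq_zero_left hx, eq_neg_of_add_eq_zero_left hy, show x.2 = y.2 from hxy]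
    · intro x hx; simpa [hm] using ha hx
    · intro x hx; simpa [hm] using ha' hx
    · simpa using congrArg AddMonoidAlgebra.coeff h
  · intro y hy
    rw [SetLike.mem_coe, AddMonoidAlgebra.mem_gradeBy_iff] at hy
    have hex : ∀ n : Fin r → ℕ, ∃ w : L, (∃ w', b w' = -(fun i => (n i : ℤ))) → b w = -(fun i => (n i : ℤ)) := fun n => by
      by_cases h : ∃ w', b w' = -(fun i => (n i : ℤ))
      · obtain ⟨w, hw⟩ := h; exact ⟨w, fun _ => hw⟩
      · exact ⟨0, fun h' => absurd h' h⟩
    choose w hw using hex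
    refine ⟨AddMonoidAlgebra.ofCoeff (Finsupp.mapDomain (fun n => (w n, n)) y.coeff), ?_, ?_⟩
    · rw [SetLike.mem_coe, AddMonoidAlgebra.mem_gradeBy_iff, AddMonoidAlgebra.coeff_ofCoeff]
      intro x hx
      obtain ⟨n, hn, rfl⟩ := Finset.mem_image.1 (Finsupp.mapDomain_support hx)
      have h := hy hn
      simp only [Set.mem_preimage, Set.mem_singleton_iff, AddMonoidHom.comp_apply, QuotientAddGroup.mk'_apply,
        QuotientAddGroup.eq_zero_iff] at h
      obtain ⟨u, hu⟩ := h
      simp only [Set.mem_preimage, Set.mem_singleton_iff, hm]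
      rw [hw n ⟨-u, by rw [map_neg, hu]; rfl⟩, neg_add_cancel]
    · apply AddMonoidAlgebra.coeff_injective
      simp [← Finsupp.mapDomain_comp, Function.comp_def]
      exact Finsupp.mapDomain_id

end Groth.Agent.S16405
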