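import Groth.Statements.S16410
import Groth.Agent.MV52.Basic

set_option autoImplicit false
universe v u
open CategoryTheory CategoryTheory.Limits CategoryTheory.Pretriangulated
open W4c3perfectstacks W4c3perfectstacks.MVSq

namespace Groth.Agent.S16410

/-- Glueing along a Mayer–Vietoris square of triangulated categories (single-square form). Given N_U
over U, N' over X' and an isomorphism δ between the restriction of N' to U' and the pullback of N_U
to U', let N over X be the third vertex of a distinguished triangle N ⟶ j_* N_U ⊞ f_* N' ⟶ f_* j'_*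
g^* N_U ⟶ N⟦1⟧ whose middle map has components (unit of f at j_* N_U followed by f_* of the exchange
map f^* j_* N_U ⟶ j'_* g^* N_U) and (minus f_* of: unit of j' at N' followed by j'_* δ). Then the
maps j^* N ⟶ N_U and f^* N ⟶ N' adjoint to the two components of the first arrow are isomorphisms.
(Equivalently, the third vertex may be taken to be f_* f^* j_* N_U, identified with f_* j'_* g^* N_U
through the invertible exchange map; the four categories are taken in common universes.) -/
theorem result
    (S S' R R' : Type u) [Category.{v} S] [Category.{v} S'] [Category.{v} R] [Category.{v} R']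
    [Preadditive S] [Preadditive S'] [Preadditive R] [Preadditive R']
    [HasZeroObject S] [HasZeroObject S'] [HasZeroObject R] [HasZeroObject R']
    [HasShift S ℤ] [HasShift S' ℤ] [HasShift R ℤ] [HasShift R' ℤ]
    [∀ n : ℤ, (shiftFunctor S n).Additive] [∀ n : ℤ, (shiftFunctor S' n).Additive]
    [∀ n : ℤ, (shiftFunctor R n).Additive] [∀ n : ℤ, (shiftFunctor R' n).Additive]
    [Pretriangulated S] [Pretriangulated S'] [Pretriangulated R] [Pretriangulated R']
    [IsTriangulated S] [IsTriangulated S'] [IsTriangulated R] [IsTriangulated R']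
    (q : W4c3perfectstacks.MVSq S S' R R')
    [q.jst.CommShift ℤ] [q.fst.CommShift ℤ] [q.jpst.CommShift ℤ] [q.gst.CommShift ℤ]
    [q.jst.IsTriangulated] [q.fst.IsTriangulated] [q.jpst.IsTriangulated] [q.gst.IsTriangulated]
    (hq : q.IsMV) (NU : R) (N' : S') (δ : q.jpst.obj N' ≅ q.gst.obj NU) (N : S)
    (a : N ⟶ q.jls.obj NU ⊞ q.fls.obj N')
    (d : q.fls.obj (q.jpls.obj (q.gst.obj NU)) ⟶ N⟦(1 : ℤ)⟧)
    (hT : Triangle.mk a
      (biprod.desc (q.adjF.unit.app (q.jls.obj NU) ≫ q.fls.map (q.bc2App NU))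
        (-(q.fls.map (q.adjJp.unit.app N' ≫ q.jpls.map δ.hom)))) d ∈ distTriang S) :
    IsIso ((q.adjJ.homEquiv N NU).symm (a ≫ biprod.fst)) ∧
      IsIso ((q.adjF.homEquiv N N').symm (a ≫ biprod.snd)) := by
  haveI := hq.isIso_counitJ
  haveI := hq.isIso_bc2App NU
  have hu : IsIso (q.jpst.map (q.adjJp.unit.app N' ≫ q.jpls.map δ.hom)) := by
    haveI := MV52.isIso_jpst_unit q hq N'
    rw [CategoryTheory.Functor.map_comp]
    infer_instance
  have hju : IsIso (q.jst.map (q.fls.map (q.adjJp.unit.app N' ≫ q.jpls.map δ.hom))) :=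
    MV52.isIso_jst_fls q hq _
  haveI hJ : IsIso (q.jst.map (a ≫ biprod.fst)) := by
    haveI : IsIso (q.jst.map biprod.inr ≫ q.jst.map (biprod.desc
        (q.adjF.unit.app (q.jls.obj NU) ≫ q.fls.map (q.bc2App NU))
        (-(q.fls.map (q.adjJp.unit.app N' ≫ q.jpls.map δ.hom))))) := by
      rw [← Functor.map_comp, biprod.inr_desc, Functor.map_neg]
      refine ⟨-inv (q.jst.map (q.fls.map (q.adjJp.unit.app N' ≫ q.jpls.map δ.hom))), ?_, ?_⟩ <;> simp
    obtain ⟨d', hT'⟩ := MV52.map_mk_distinguished q.jst hT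
    haveI h : IsIso (q.jst.map a ≫ q.jst.map biprod.fst) :=
      MV52.isIso_comp_proj' hT' (q.jst.map biprod.fst) (q.jst.map biprod.inl)
        (q.jst.map biprod.inr) (q.jst.map biprod.snd)
        (by rw [← Functor.map_comp, biprod.inr_fst, Functor.map_zero])
        (by rw [← Functor.map_comp, biprod.inl_fst, CategoryTheory.Functor.map_id])
        (by rw [← Functor.map_comp, ← Functor.map_comp, ← Functor.map_add, biprod.total,
          CategoryTheory.Functor.map_id])
        ‹_›
    rw [Functor.map_comp]; exact h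
  refine ⟨by rw [Adjunction.homEquiv_counit]; infer_instance, ?_⟩
  set w := (q.adjF.homEquiv N N').symm (a ≫ biprod.snd) with hw
  have hab : (a ≫ biprod.fst) ≫ q.adjF.unit.app (q.jls.obj NU) ≫ q.fls.map (q.bc2App NU) =
      (a ≫ biprod.snd) ≫ q.fls.map (q.adjJp.unit.app N' ≫ q.jpls.map δ.hom) := by
    have h0 : a ≫ biprod.desc (q.adjF.unit.app (q.jls.obj NU) ≫ q.fls.map (q.bc2App NU))
        (-(q.fls.map (q.adjJp.unit.app N' ≫ q.jpls.map δ.hom))) = 0 :=
      comp_distTriang_mor_zero₁₂ _ hT
    rw [biprod.desc_eq, Preadditive.comp_add, Preadditive.comp_neg, Preadditive.comp_neg,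
      ← sub_eq_add_neg, sub_eq_zero] at h0
    rw [Category.assoc, Category.assoc]
    exact h0
  have hwj : q.fst.map (a ≫ biprod.fst) ≫ q.bc2App NU = w ≫ q.adjJp.unit.app N' ≫ q.jpls.map δ.hom := by
    apply (q.adjF.homEquiv _ _).injective
    rw [Adjunction.homEquiv_naturality_left, Adjunction.homEquiv_unit, Adjunction.homEquiv_naturality_right,
      hw, Equiv.apply_symm_apply, hab]
  haveI hjw : IsIso (q.jpst.map w) := by
    haveI := MV52.isIso_jpst_fst q (a ≫ biprod.fst)
    haveI : IsIso (q.jpst.map w ≫ q.jpst.map (q.adjJp.unit.app N' ≫ q.jpls.map δ.hom)) := by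
      rw [← CategoryTheory.Functor.map_comp, ← hwj, CategoryTheory.Functor.map_comp]; infer_instance
    exact IsIso.of_isIso_comp_right (q.jpst.map w) (q.jpst.map (q.adjJp.unit.app N' ≫ q.jpls.map δ.hom))
  refine MV52.isIso_of_orth (fun M => IsZero (q.jpst.obj M)) w (fun Q g h hQ => ?_) (fun M hM => ?_)
  · have h0 : IsZero (q.jpst.obj Q) :=
      (Triangle.isZero₃_iff_isIso₁ _ (q.jpst.map_distinguished _ hQ)).mpr hjw
    exact ⟨h0, MV52.shift_killed q.jpst h0 _⟩
  · haveI := hq.isIso_bcApp M
    have hC : IsZero (q.jst.obj (q.fls.obj M)) :=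
      IsZero.of_iso (MV52.right_adjoint_map_isZero q.adjG hM) (asIso (q.bcApp M))
    have h1 : Function.Bijective (fun g : q.fls.obj M ⟶ N => g ≫ a ≫ biprod.snd) :=
      MV52.comp_biprod_snd_bijective q _ hT _ _ biprod.fst biprod.inl biprod.snd biprod.inr
        biprod.inr_snd biprod.total (fun C hC t => MV52.orth_fls_jpls q hC _ t) hC
    have e : (fun g : q.fls.obj M ⟶ N => g ≫ a ≫ biprod.snd) =
        ⇑(q.adjF.homEquiv (q.fls.obj M) N') ∘ (fun h => h ≫ w) ∘
          (fun g : q.fls.obj M ⟶ N => q.fst.map g) := by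
      funext g
      simp only [Function.comp_apply]
      rw [Adjunction.homEquiv_naturality_left, hw, Equiv.apply_symm_apply]
    rw [e, Function.Bijective.of_comp_iff' (Equiv.bijective _),
      Function.Bijective.of_comp_iff _ (MV52.fst_map_bijective q hq hC N)] at h1
    haveI := hq.isIso_counitF M hM
    refine ⟨fun g g' hg => ?_, fun f => ?_⟩
    · refine (cancel_epi (q.adjF.counit.app M)).mp (h1.1 ?_)
      simp only at hg
      simp only [Category.assoc, hg]
    · obtain ⟨h, hh⟩ := h1.2 (q.adjF.counit.app M ≫ f)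
      refine ⟨inv (q.adjF.counit.app M) ≫ h, ?_⟩
      simp only at hh ⊢
      rw [Category.assoc, hh, IsIso.inv_hom_id_assoc]

end Groth.Agent.S16410
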