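import Groth.Statements.S16411
import Groth.Agent.MV52.Compact

set_option autoImplicit false
universe v u
open CategoryTheory CategoryTheory.Limits CategoryTheory.Pretriangulated
open W4c3perfectstacks W4c3perfectstacks.MVSq

namespace Groth.Agent.S16411

/-- In a Mayer–Vietoris square of triangulated categories with small coproducts (single-square form), an
object over X whose restrictions to U, to X' and to U' are compact is compact. (The four categories
are taken in common universes; coproducts are indexed by types in the morphism universe.) -/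
theorem result
    (S S' R R' : Type u) [Category.{v} S] [Category.{v} S'] [Category.{v} R] [Category.{v} R']
    [Preadditive S] [Preadditive S'] [Preadditive R] [Preadditive R']
    [HasZeroObject S] [HasZeroObject S'] [HasZeroObject R] [HasZeroObject R']
    [HasShift S ℤ] [HasShift S' ℤ] [HasShift R ℤ] [HasShift R' ℤ]
    [∀ n : ℤ, (shiftFunctor S n).Additive] [∀ n : ℤ, (shiftFunctor S' n).Additive]
    [∀ n : ℤ, (shiftFunctor R n).Additive] [∀ n : ℤ, (shiftFunctor R' n).Additive]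
    [Pretriangulated S] [Pretriangulated S'] [Pretriangulated R] [Pretriangulated R']
    [IsTriangulated S] [IsTriangulated S'] [IsTriangulated R] [IsTriangulated R']
    (q : W4c3perfectstacks.MVSq S S' R R')
    [q.jst.CommShift ℤ] [q.fst.CommShift ℤ] [q.jpst.CommShift ℤ] [q.gst.CommShift ℤ]
    [q.jst.IsTriangulated] [q.fst.IsTriangulated] [q.jpst.IsTriangulated] [q.gst.IsTriangulated]
    (hq : q.IsMV)
    [HasCoproducts.{v} S] [HasCoproducts.{v} S'] [HasCoproducts.{v} R] [HasCoproducts.{v} R']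
    (N : S) (hU : CohDer.IsCompactObject (q.jst.obj N)) (hX' : CohDer.IsCompactObject (q.fst.obj N))
    (hU' : CohDer.IsCompactObject (q.gst.obj (q.jst.obj N))) :
    CohDer.IsCompactObject N := by
  classical
  intro ι X
  refine ⟨MV52.homSum_injective X N, fun f => ?_⟩
  haveI := q.adjJ.isLeftAdjoint
  haveI := q.adjF.isLeftAdjoint
  haveI := q.adjG.isLeftAdjoint
  obtain ⟨F1, h1⟩ := MV52.exists_finset_kills q.jst X hU (q.jst.map f)
  obtain ⟨F1', h1'⟩ := MV52.exists_finset_kills q.fst X hX' (q.fst.map f)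
  let e := MV52.sigmaOff X (F1 ∪ F1')
  have he : ∀ i ∈ F1 ∪ F1', Sigma.ι X i ≫ e = 0 := fun i hi => MV52.ι_sigmaOff X hi
  obtain ⟨d, hd⟩ := MV52.exists_mv q hq (∐ X)
  have hz : (f ≫ e) ≫ MV52.mvA q (∐ X) = 0 := by
    apply biprod.hom_ext
    · rw [Category.assoc, biprod.lift_fst, zero_comp]
      apply (q.adjJ.homEquiv _ _).symm.injective
      rw [Adjunction.homEquiv_counit, Adjunction.homEquiv_counit, Functor.map_comp, Category.assoc,
        Adjunction.left_triangle_components, Functor.map_zero, zero_comp, Category.comp_id, Functor.map_comp]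
      exact h1 e fun i hi => he i (Finset.mem_union_left _ hi)
    · rw [Category.assoc, biprod.lift_snd, zero_comp]
      apply (q.adjF.homEquiv _ _).symm.injective
      rw [Adjunction.homEquiv_counit, Adjunction.homEquiv_counit, Functor.map_comp, Category.assoc,
        Adjunction.left_triangle_components, Functor.map_zero, zero_comp, Category.comp_id, Functor.map_comp]
      exact h1' e fun i hi => he i (Finset.mem_union_right _ hi)
  obtain ⟨(h : N⟦(1 : ℤ)⟧ ⟶ q.fls.obj (q.fst.obj (q.jls.obj (q.jst.obj (∐ X))))),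
    (hh : (f ≫ e)⟦(1 : ℤ)⟧' = h ≫ d)⟩ := Triangle.coyoneda_exact₁ _ hd ((f ≫ e)⟦(1 : ℤ)⟧') (by
    show (f ≫ e)⟦(1 : ℤ)⟧' ≫ (MV52.mvA q (∐ X))⟦(1 : ℤ)⟧' = 0
    rw [← Functor.map_comp, hz, Functor.map_zero])
  haveI := hq.isIso_bc2App (q.jst.obj (∐ X))
  let t : q.jpst.obj (q.fst.obj (N⟦(1 : ℤ)⟧)) ⟶ q.gst.obj (q.jst.obj (∐ X)) :=
    (q.adjJp.homEquiv _ _).symm ((q.adjF.homEquiv _ _).symm (h ≫ q.fls.map (q.bc2App _)))
  let κ : (q.gst.obj (q.jst.obj N))⟦(1 : ℤ)⟧ ≅ q.jpst.obj (q.fst.obj (N⟦(1 : ℤ)⟧)) :=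
    ((q.jst ⋙ q.gst).commShiftIso (1 : ℤ)).symm.app N ≪≫ q.e.app _
  haveI : (q.jst ⋙ q.gst).IsLeftAdjoint := (q.adjJ.comp q.adjG).isLeftAdjoint
  haveI : ((q.jst ⋙ q.gst) ⋙ shiftFunctor R' (-1 : ℤ)).IsLeftAdjoint :=
    ((q.adjJ.comp q.adjG).comp (Adjunction.ofIsLeftAdjoint (shiftFunctor R' (-1 : ℤ)))).isLeftAdjoint
  let t' : q.gst.obj (q.jst.obj N) ⟶ ((q.jst ⋙ q.gst) ⋙ shiftFunctor R' (-1 : ℤ)).obj (∐ X) :=
    (shiftShiftNeg _ (1 : ℤ)).inv ≫ (κ.hom ≫ t)⟦(-1 : ℤ)⟧'
  obtain ⟨F2, h2⟩ := MV52.exists_finset_kills ((q.jst ⋙ q.gst) ⋙ shiftFunctor R' (-1 : ℤ)) X hU' t'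
  let e2 := MV52.sigmaOff X (F1 ∪ F1' ∪ F2)
  have he2 : ∀ i ∈ F1 ∪ F1' ∪ F2, Sigma.ι X i ≫ e2 = 0 := fun i hi => MV52.ι_sigmaOff X hi
  have ht : t ≫ q.gst.map (q.jst.map e2) = 0 := by
    have := h2 e2 fun i hi => he2 i (Finset.mem_union_right _ hi)
    simp only [t', Category.assoc, Functor.comp_map, Preadditive.IsIso.comp_left_eq_zero] at this
    rw [← Functor.map_comp, Functor.map_eq_zero_iff, Category.assoc,
      Preadditive.IsIso.comp_left_eq_zero] at this
    exact this
  have hh2 : h ≫ q.fls.map (q.fst.map (q.jls.map (q.jst.map e2))) = 0 := by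
    rw [← cancel_mono (q.fls.map (q.bc2App (q.jst.obj (∐ X)))), zero_comp, Category.assoc, ← Functor.map_comp,
      MV52.bc2App_naturality, Functor.map_comp, ← Category.assoc]
    apply (q.adjF.homEquiv _ _).symm.injective
    apply (q.adjJp.homEquiv _ _).symm.injective
    rw [Adjunction.homEquiv_naturality_right_symm, Adjunction.homEquiv_naturality_right_symm]
    refine ht.trans ?_
    simp only [Adjunction.homEquiv_counit, Functor.map_zero, zero_comp]
  have hfe : f ≫ MV52.sigmaOff X (F1 ∪ F1' ∪ F2) = 0 := by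
    have h3 : f ≫ e ≫ e2 = 0 := by
      apply (shiftFunctor S (1 : ℤ)).map_injective
      rw [← Category.assoc, Functor.map_comp, hh, Functor.map_zero, Category.assoc,
        MV52.mv_natural q hq e2 d d hd hd, ← Category.assoc, hh2, zero_comp]
    rwa [MV52.sigmaOff_comp X e2 fun k hk => he2 k (Finset.mem_union_left _ hk)] at h3
  exact MV52.homSum_mem X N _ f hfe

end Groth.Agent.S16411
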