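import Groth.Statements.S16414
import Mathlib

set_option autoImplicit false
set_option linter.unusedVariables false
open Dieud

namespace Groth.Agent.S16414

/-- Let μ be a rational number with 0 < μ ≤ 1 and i an integer, and put f(i,j) = max(−i−j, −j, 0) for
integers j. Then min over all integers j of f(i,j) + jμ exists and equals max(−iμ, 0). -/
theorem result (μ : ℚ) (hμ0 : 0 < μ) (hμ1 : μ ≤ 1) (i : ℤ) :
    IsLeast (Set.range fun j : ℤ => ((max (max (-i - j) (-j)) 0 : ℤ) : ℚ) + (j : ℚ) * μ)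
      (max (-(i : ℚ) * μ) 0) := by
  refine ⟨⟨max (-i) 0, ?_⟩, ?_⟩
  · have h : max (max (-i - max (-i) 0) (-max (-i) 0)) 0 = (0 : ℤ) := by omega
    simp only [h]
    push_cast
    rcases le_total 0 (i : ℚ) with h' | h'
    · rw [max_eq_right (by linarith : -(i : ℚ) ≤ 0), max_eq_right (by nlinarith : -(i : ℚ) * μ ≤ 0)]
      ring
    · rw [max_eq_left (by linarith : (0 : ℚ) ≤ -(i : ℚ)), max_eq_left (by nlinarith : 0 ≤ -(i : ℚ) * μ)]
      ring
  · rintro _ ⟨j, rfl⟩
    simp only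
    push_cast
    have a1 : -(i : ℚ) - j ≤ max (max (-(i : ℚ) - j) (-(j : ℚ))) 0 := le_max_of_le_left (le_max_left _ _)
    have a2 : -(j : ℚ) ≤ max (max (-(i : ℚ) - j) (-(j : ℚ))) 0 := le_max_of_le_left (le_max_right _ _)
    have a3 : (0 : ℚ) ≤ max (max (-(i : ℚ) - j) (-(j : ℚ))) 0 := le_max_right _ _
    refine max_le ?_ ?_
    · nlinarith [mul_le_mul_of_nonneg_right a1 hμ0.le, mul_nonneg a3 (sub_nonneg.2 hμ1)]
    · nlinarith [mul_le_mul_of_nonneg_right a2 hμ0.le, mul_nonneg a3 (sub_nonneg.2 hμ1)]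
end Groth.Agent.S16414
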