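import Groth.Statements.S16416
import Mathlib

set_option autoImplicit false
set_option linter.unusedVariables false
universe u v w
open Dieud

namespace Groth.Agent.S16416

/-- For a prime p and a perfect field k of characteristic p, write W = W(k) for the ring of Witt vectors
and σ for its Frobenius; let M and N be free W-modules of finite rank, each with additive maps F
(σ-semilinear) and V (with V(σ(a)m) = aV(m)) satisfying FV = VF = p, and H = Hom_W(M, N). On H the
operator F acts through h ↦ F ∘ h ∘ V, and V acts partially: V·h is the W-linear map h' with h'(V m)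
= V(h(m)) for all m, when it exists. Let H₁ be the largest W-submodule of H stable under both (it
contains every submodule stable under both). Then H₁ ∩ V·H = V·H₁: if y ∈ H and V·y exists and lies
in H₁, then y ∈ H₁, so that H₁/VH₁ → H/(H ∩ VH) is injective. (The published statement is for the
Cartier modules of two p-divisible formal groups over k, every slope of the first below every slope
of the second; only the structure just listed is used, so connectedness and the slope condition are
not assumed.) -/
theorem result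
    (p : ℕ) [Fact p.Prime] (k : Type u) [Field k] [CharP k p] [PerfectRing k p]
    (M : Type v) [AddCommGroup M] [Module (WittVector p k) M]
    [Module.Free (WittVector p k) M] [Module.Finite (WittVector p k) M]
    (N : Type w) [AddCommGroup N] [Module (WittVector p k) N]
    [Module.Free (WittVector p k) N] [Module.Finite (WittVector p k) N]
    (FM VM : M →+ M) (FN VN : N →+ N)
    (hFM : ∀ (a : WittVector p k) (m : M), FM (a • m) = WittVector.frobenius a • FM m)
    (hVM : ∀ (a : WittVector p k) (m : M), VM (WittVector.frobenius a • m) = a • VM m)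
    (hFVM : ∀ m : M, FM (VM m) = (p : WittVector p k) • m)
    (hVFM : ∀ m : M, VM (FM m) = (p : WittVector p k) • m)
    (hFN : ∀ (a : WittVector p k) (n : N), FN (a • n) = WittVector.frobenius a • FN n)
    (hVN : ∀ (a : WittVector p k) (n : N), VN (WittVector.frobenius a • n) = a • VN n)
    (hFVN : ∀ n : N, FN (VN n) = (p : WittVector p k) • n)
    (hVFN : ∀ n : N, VN (FN n) = (p : WittVector p k) • n)
    (H₁ : Submodule (WittVector p k) (M →ₗ[WittVector p k] N))
    (hF : ∀ h ∈ H₁, ∃ h' ∈ H₁, ∀ m : M, h' m = FN (h (VM m)))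
    (hV : ∀ h ∈ H₁, ∃ h' ∈ H₁, ∀ m : M, h' (VM m) = VN (h m))
    (hmax : ∀ S : Submodule (WittVector p k) (M →ₗ[WittVector p k] N),
      (∀ h ∈ S, ∃ h' ∈ S, ∀ m : M, h' m = FN (h (VM m))) →
      (∀ h ∈ S, ∃ h' ∈ S, ∀ m : M, h' (VM m) = VN (h m)) → S ≤ H₁)
    (y : M →ₗ[WittVector p k] N) (x : M →ₗ[WittVector p k] N) (hx : x ∈ H₁)
    (hxy : ∀ m : M, x (VM m) = VN (y m)) :
    y ∈ H₁ := by
  have hsur := (WittVector.frobenius_bijective (p := p) k).surjective
  let Φ : (M →ₗ[WittVector p k] N) → (M →ₗ[WittVector p k] N) := fun h =>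
    { toFun := fun m => FN (h (VM m))
      map_add' := fun m m' => by rw [map_add VM, map_add h, map_add FN]
      map_smul' := fun a m => by
        obtain ⟨b, rfl⟩ := hsur a
        rw [hVM, map_smul h, hFN]; rfl }
  have hΦ : ∀ h m, Φ h m = FN (h (VM m)) := fun _ _ => rfl
  set S : Submodule (WittVector p k) (M →ₗ[WittVector p k] N) :=
    H₁ ⊔ Submodule.span (WittVector p k) (Set.range fun n : ℕ => Φ^[n] y) with hS
  have hyS : ∀ n : ℕ, Φ^[n] y ∈ S := fun n =>
    Submodule.mem_sup_right (Submodule.subset_span ⟨n, rfl⟩)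
  suffices S ≤ H₁ from this (hyS 0)
  refine hmax S ?_ ?_
  · intro h hh
    refine ⟨Φ h, ?_, fun m => rfl⟩
    obtain ⟨u, hu, w, hw, rfl⟩ := Submodule.mem_sup.1 hh
    have hadd : Φ (u + w) = Φ u + Φ w := by
      ext m; simp [hΦ]
    rw [hadd]
    refine S.add_mem ?_ ?_
    · obtain ⟨u', hu', he⟩ := hF u hu
      have : Φ u = u' := by ext m; rw [hΦ, he]
      exact this ▸ Submodule.mem_sup_left hu'
    · refine Submodule.span_induction ?_ ?_ ?_ ?_ hw
      · rintro _ ⟨n, rfl⟩
        simp only
        rw [← Function.iterate_succ_apply' Φ n y]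
        exact hyS (n + 1)
      · have : Φ 0 = 0 := by ext m; simp [hΦ]
        rw [this]; exact S.zero_mem
      · intro f g _ _ hf hg
        have : Φ (f + g) = Φ f + Φ g := by ext m; simp [hΦ]
        rw [this]; exact S.add_mem hf hg
      · intro a f _ hf
        have : Φ (a • f) = WittVector.frobenius a • Φ f := by ext m; simp [hΦ, hFN]
        rw [this]; exact S.smul_mem _ hf
  · intro h hh
    obtain ⟨u, hu, w, hw, rfl⟩ := Submodule.mem_sup.1 hh
    obtain ⟨u', hu', he⟩ := hV u hu
    suffices ∃ w' ∈ S, ∀ m, w' (VM m) = VN (w m) by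
      obtain ⟨w', hw', hew⟩ := this
      exact ⟨u' + w', S.add_mem (Submodule.mem_sup_left hu') hw', fun m => by simp [he, hew]⟩
    refine Submodule.span_induction ?_ ?_ ?_ ?_ hw
    · rintro _ ⟨n, rfl⟩
      cases n with
      | zero => exact ⟨x, Submodule.mem_sup_left hx, hxy⟩
      | succ n =>
        refine ⟨(p : WittVector p k) • Φ^[n] y, S.smul_mem _ (hyS n), fun m => ?_⟩
        simp only [Function.iterate_succ_apply' Φ n y, hΦ, hVFN, LinearMap.smul_apply]
    · exact ⟨0, S.zero_mem, fun m => by simp⟩
    · rintro f g _ _ ⟨f', hf', ef⟩ ⟨g', hg', eg⟩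
      exact ⟨f' + g', S.add_mem hf' hg', fun m => by simp [ef, eg]⟩
    · rintro a f _ ⟨f', hf', ef⟩
      obtain ⟨b, rfl⟩ := hsur a
      exact ⟨b • f', S.smul_mem _ hf', fun m => by simp [ef, hVN]⟩
end Groth.Agent.S16416
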