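import Groth.Statements.S16417
import Groth.Agent.Dieud53.HomQuot

set_option autoImplicit false
set_option linter.unusedVariables false
universe u v w
open Dieud

namespace Groth.Agent.S16417

/-- For a prime p and a perfect field k of characteristic p, write W = W(k) for the ring of Witt vectors
and σ for its Frobenius; let M and N be free W-modules of finite rank, each with additive maps F
(σ-semilinear) and V (with V(σ(a)m) = aV(m)) satisfying FV = VF = p, and H = Hom_W(M, N); write VM ⊆
M and VN ⊆ N for the images of V. (a) A W-linear h : M → N maps VM into VN if and only if h(V m) =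
V(h'(m)) for all m for some W-linear h' : M → N (so the maps with this property form H ∩ V·H). (b)
The natural map from H to the W-linear maps VM → N/VN has image exactly the maps vanishing on pM =
V(FM): every such map is induced by some h ∈ H. (c) The W-length of H/(H ∩ V·H) is r₂ s₁, where r₂
is the length of N/VN and s₁ = rank M − length(M/VM) is the length of VM/pM. (The published
statement is for the Cartier modules of two p-divisible formal groups over k, every slope of the
first below every slope of the second, and phrases (b), (c) as an isomorphism of H/(H ∩ VH) with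
Hom_k(VM/pM, N/VN); only the structure listed is used, so connectedness and the slope condition are
not assumed.) -/
theorem result
    (p : ℕ) [Fact p.Prime] (k : Type u) [Field k] [CharP k p] [PerfectRing k p]
    (M : Type v) [AddCommGroup M] [Module (WittVector p k) M]
    [Module.Free (WittVector p k) M] [Module.Finite (WittVector p k) M]
    (N : Type w) [AddCommGroup N] [Module (WittVector p k) N]
    [Module.Free (WittVector p k) N] [Module.Finite (WittVector p k) N]
    (FM VM : M →+ M) (FN VN : N →+ N)
    (hFM : ∀ (a : WittVector p k) (m : M), FM (a • m) = WittVector.frobenius a • FM m)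
    (hVM : ∀ (a : WittVector p k) (m : M), VM (WittVector.frobenius a • m) = a • VM m)
    (hFVM : ∀ m : M, FM (VM m) = (p : WittVector p k) • m)
    (hVFM : ∀ m : M, VM (FM m) = (p : WittVector p k) • m)
    (hFN : ∀ (a : WittVector p k) (n : N), FN (a • n) = WittVector.frobenius a • FN n)
    (hVN : ∀ (a : WittVector p k) (n : N), VN (WittVector.frobenius a • n) = a • VN n)
    (hFVN : ∀ n : N, FN (VN n) = (p : WittVector p k) • n)
    (hVFN : ∀ n : N, VN (FN n) = (p : WittVector p k) • n)
    (r₂ s₁ : ℕ)
    (hr₂ : Module.length (WittVector p k) (N ⧸ Submodule.span (WittVector p k) (Set.range VN)) = r₂)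
    (hs₁ : (Module.finrank (WittVector p k) M : ℕ∞) =
      Module.length (WittVector p k) (M ⧸ Submodule.span (WittVector p k) (Set.range VM)) + s₁) :
    (∀ h : M →ₗ[WittVector p k] N,
      (∀ m : M, h (VM m) ∈ Submodule.span (WittVector p k) (Set.range VN)) ↔
        ∃ h' : M →ₗ[WittVector p k] N, ∀ m : M, h (VM m) = VN (h' m)) ∧
    (∀ g : Submodule.span (WittVector p k) (Set.range VM) →ₗ[WittVector p k]
        N ⧸ Submodule.span (WittVector p k) (Set.range VN),
      (∀ m : M, g ⟨VM (FM m), Submodule.subset_span ⟨FM m, rfl⟩⟩ = 0) →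
      ∃ h : M →ₗ[WittVector p k] N, ∀ x : Submodule.span (WittVector p k) (Set.range VM),
        (Submodule.span (WittVector p k) (Set.range VN)).mkQ (h x) = g x) ∧
    Module.length (WittVector p k) ((M →ₗ[WittVector p k] N) ⧸
      ⨅ m : M, (Submodule.span (WittVector p k) (Set.range VN)).comap
        (LinearMap.applyₗ (VM m) : (M →ₗ[WittVector p k] N) →ₗ[WittVector p k] N)) = (r₂ * s₁ : ℕ) := by
  have hsur := (WittVector.frobenius_bijective (p := p) k).surjective
  set W := WittVector p k
  set I : Ideal W := Ideal.span {(p : W)} with hI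
  haveI : I.IsMaximal := by
    have e := WittVector.quotientPEquiv (p := p) (k := k)
    exact Ideal.Quotient.maximal_of_isField _ (e.toMulEquiv.isField (Field.toIsField k))
  have hNtor : ∀ a b : N, VN a = VN b → a = b := by
    intro a b hab
    have h0 : (p : W) • a = (p : W) • b := by rw [← hFVN, ← hFVN, hab]
    exact smul_right_injective N (WittVector.p_nonzero p k) h0
  set P := Submodule.span W (Set.range VM) with hP
  set RN := Submodule.span W (Set.range VN) with hRN
  set Pb : Submodule W (M ⧸ I • (⊤ : Submodule W M)) := P.map (I • ⊤ : Submodule W M).mkQ with hPb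
  have hPM : I • (⊤ : Submodule W M) ≤ P := by
    rw [hI, Submodule.ideal_span_singleton_smul]
    rintro _ ⟨m, -, rfl⟩
    exact Submodule.subset_span ⟨FM m, hVFM m⟩
  have htQ : Module.IsTorsionBySet W (N ⧸ RN) I := by
    rw [hI, Module.isTorsionBySet_span_singleton_iff]
    intro q
    induction q using Submodule.Quotient.induction_on with
    | _ n =>
      rw [← Submodule.Quotient.mk_smul, Submodule.Quotient.mk_eq_zero]
      exact Submodule.subset_span ⟨FN n, hVFN n⟩
  have hIker : ∀ h : M →ₗ[W] N ⧸ RN, I • (⊤ : Submodule W M) ≤ LinearMap.ker h := by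
    intro h
    refine Submodule.smul_le.2 fun r hr m _ => ?_
    rw [LinearMap.mem_ker, map_smul]
    exact @htQ (h m) ⟨r, hr⟩
  have htM : Module.IsTorsionBySet W (M ⧸ I • (⊤ : Submodule W M)) I :=
    Module.isTorsionBySet_quotient_ideal_smul M I
  have hPbtor : Module.IsTorsionBySet W Pb I := fun x r => Subtype.ext (@htM x.1 r)
  have hss : IsSemisimpleModule W (M ⧸ I • (⊤ : Submodule W M)) :=
    Groth.Agent.Dieud53.isSemisimpleModule_of_killed I _ htM
  have hext : ∀ gb : Pb →ₗ[W] N ⧸ RN, ∃ h : M →ₗ[W] N, ∀ x : Pb, ∀ m : M,
      (I • (⊤ : Submodule W M)).mkQ m = x.1 → RN.mkQ (h m) = gb x := by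
    intro gb
    obtain ⟨C, hC⟩ := hss.exists_isCompl Pb
    obtain ⟨h, hh⟩ := Module.projective_lifting_property RN.mkQ
      (gb ∘ₗ Pb.projectionOnto C hC ∘ₗ (I • (⊤ : Submodule W M)).mkQ) (Submodule.mkQ_surjective _)
    refine ⟨h, fun x m hm => ?_⟩
    rw [show RN.mkQ (h m) = _ from LinearMap.congr_fun hh m, LinearMap.comp_apply,
      LinearMap.comp_apply, hm, Submodule.projectionOnto_apply_left]
  refine ⟨fun h => ?_, fun g hg => ?_, ?_⟩
  · constructor
    · intro hh
      have hh2 : ∀ m, h (VM m) ∈ Set.range VN := fun m =>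
        (Groth.Agent.Dieud53.span_range_eq VN hVN).le (hh m)
      choose h' hh' using hh2
      refine ⟨{ toFun := h', map_add' := ?_, map_smul' := ?_ }, fun m => (hh' m).symm⟩
      · intro a b
        apply hNtor
        rw [hh', map_add, map_add, map_add, hh', hh']
      · intro a m
        apply hNtor
        obtain ⟨b, rfl⟩ := hsur a
        simp only [RingHom.id_apply]
        rw [hh', hVM, map_smul, hVN, hh']
    · rintro ⟨h', hh'⟩ m
      exact hh' m ▸ Submodule.subset_span ⟨h' m, rfl⟩
  · -- factor through the image modulo p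
    let π : P →ₗ[W] Pb := (I • (⊤ : Submodule W M)).mkQ.submoduleMap P
    have hπ : Function.Surjective π := LinearMap.submoduleMap_surjective _ P
    have hker : LinearMap.ker π ≤ LinearMap.ker g := by
      intro x hx
      have h1 : (x : M) ∈ I • (⊤ : Submodule W M) := by
        have := congrArg Subtype.val (LinearMap.mem_ker.1 hx)
        exact (Submodule.Quotient.mk_eq_zero _).1 this
      rw [hI, Submodule.ideal_span_singleton_smul] at h1
      obtain ⟨m, -, hm⟩ := h1
      rw [LinearMap.mem_ker, ← hg m]
      refine congrArg g (Subtype.ext ?_)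
      show (x : M) = VM (FM m)
      rw [hVFM]; exact hm.symm
    let gb : Pb →ₗ[W] N ⧸ RN := (LinearMap.ker π).liftQ g hker ∘ₗ
      (π.quotKerEquivOfSurjective hπ).symm.toLinearMap
    obtain ⟨h, hh⟩ := hext gb
    refine ⟨h, fun x => (hh (π x) (x : M) rfl).trans ?_⟩
    simp [gb, LinearMap.quotKerEquivOfSurjective_symm_apply]
  · set K := ⨅ m : M, (Submodule.span W (Set.range VN)).comap
      (LinearMap.applyₗ (VM m) : (M →ₗ[W] N) →ₗ[W] N) with hK
    let Ψ : (M →ₗ[W] N) →ₗ[W] (Pb →ₗ[W] N ⧸ RN) :=
      { toFun := fun h => (I • (⊤ : Submodule W M)).liftQ (RN.mkQ ∘ₗ h) (hIker _) ∘ₗ Pb.subtype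
        map_add' := fun f f' => by
          refine LinearMap.ext fun x => ?_
          obtain ⟨m, hm⟩ := Submodule.mkQ_surjective _ x.1
          simp [← hm]
        map_smul' := fun a f => by
          refine LinearMap.ext fun x => ?_
          obtain ⟨m, hm⟩ := Submodule.mkQ_surjective _ x.1
          simp [← hm] }
    have hΨ : Function.Surjective Ψ := by
      intro gb
      obtain ⟨h, hh⟩ := hext gb
      refine ⟨h, LinearMap.ext fun x => ?_⟩
      obtain ⟨m, hm⟩ := Submodule.mkQ_surjective _ x.1
      show (I • (⊤ : Submodule W M)).liftQ (RN.mkQ ∘ₗ h) (hIker _) x.1 = gb x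
      rw [← hm, Submodule.mkQ_apply, Submodule.liftQ_apply]
      exact hh x m hm
    have hkerΨ : LinearMap.ker Ψ = K := by
      ext h
      simp only [hK, LinearMap.mem_ker, Submodule.mem_iInf, Submodule.mem_comap]
      constructor
      · intro h0 m
        have := LinearMap.congr_fun h0 ⟨(I • (⊤ : Submodule W M)).mkQ (VM m),
          Submodule.mem_map_of_mem (Submodule.subset_span ⟨m, rfl⟩)⟩
        exact (Submodule.Quotient.mk_eq_zero _).1 this
      · intro h0
        refine LinearMap.ext fun x => ?_
        obtain ⟨m, hm, hmx⟩ := Submodule.mem_map.1 x.2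
        show (I • (⊤ : Submodule W M)).liftQ (RN.mkQ ∘ₗ h) (hIker _) x.1 = 0
        rw [← hmx, Submodule.mkQ_apply, Submodule.liftQ_apply, LinearMap.comp_apply,
          Submodule.mkQ_apply, Submodule.Quotient.mk_eq_zero]
        refine Submodule.span_induction ?_ ?_ ?_ ?_ hm
        · rintro _ ⟨n, rfl⟩; exact h0 n
        · simp
        · intro a b _ _ ha hb; rw [map_add]; exact RN.add_mem ha hb
        · intro a b _ hb; rw [map_smul]; exact RN.smul_mem a hb
    have hlenPb : Module.length W Pb = (s₁ : ℕ) := by
      have h1 := Module.length_eq_add_of_exact Pb.subtype Pb.mkQ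
        Subtype.val_injective (Submodule.mkQ_surjective _) (LinearMap.exact_subtype_mkQ Pb)
      rw [Groth.Agent.Dieud53.length_quot_smul_top I M,
        (Submodule.quotientQuotientEquivQuotient _ _ hPM).length_eq, hs₁, add_comm] at h1
      generalize hL : Module.length W (M ⧸ P) = L at h1 hs₁
      generalize Module.length W Pb = b at h1 ⊢
      induction L using ENat.recTopCoe with
      | top => simp at hs₁
      | coe L =>
        induction b using ENat.recTopCoe with
        | top => simp at h1
        | coe b =>
          norm_cast at h1 ⊢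
          omega
    rw [← hkerΨ, (Ψ.quotKerEquivOfSurjective hΨ).length_eq]
    exact Groth.Agent.Dieud53.length_hom_of_killed I Pb (N ⧸ RN) hPbtor htQ s₁ r₂ hlenPb hr₂
end Groth.Agent.S16417
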