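import Groth.Statements.S16418
import Mathlib

set_option autoImplicit false
set_option linter.unusedVariables false
universe u v
open Dieud

namespace Groth.Agent.S16418

/-- Step of the proof: for a prime p and a perfect field k of characteristic p, write W = W(k) and σ for
its Frobenius; let M be a W-module with additive maps F (σ-semilinear) and V (with V(σ(a)m) = aV(m))
such that FV = VF = p, V is injective, ⋂_n V^n M = 0 and M/VM is finitely generated over W. Put M₁ =
{x ∈ M : for every n there is m with V^m x ∈ F^n M} and M₂ = {x ∈ M : F^n x = 0 for some n}. Then M₂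
is killed by a single power of F, and F is injective on M₁. (The published text makes these
assertions inside a proof, for the V-reduced Cartier module of a connected smooth formal group of
finite dimension over k; only the listed structure is used, and V-adic completeness is not needed.) -/
theorem result
    (p : ℕ) [Fact p.Prime] (k : Type u) [Field k] [CharP k p] [PerfectRing k p]
    (M : Type v) [AddCommGroup M] [Module (WittVector p k) M]
    (F V : M →+ M)
    (hF : ∀ (a : WittVector p k) (m : M), F (a • m) = WittVector.frobenius a • F m)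
    (hV : ∀ (a : WittVector p k) (m : M), V (WittVector.frobenius a • m) = a • V m)
    (hFV : ∀ m : M, F (V m) = (p : WittVector p k) • m)
    (hVF : ∀ m : M, V (F m) = (p : WittVector p k) • m)
    (hVinj : Function.Injective V)
    (hsep : ∀ x : M, (∀ n : ℕ, ∃ y : M, x = (⇑V)^[n] y) → x = 0)
    (hfin : Module.Finite (WittVector p k) (M ⧸ Submodule.span (WittVector p k) (Set.range V))) :
    (∃ c : ℕ, ∀ x : M, (∃ n : ℕ, (⇑F)^[n] x = 0) → (⇑F)^[c] x = 0) ∧
    (∀ x : M, (∀ n : ℕ, ∃ (m : ℕ) (y : M), (⇑V)^[m] x = (⇑F)^[n] y) → F x = 0 → x = 0) := by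
  set W := WittVector p k
  have hiter : ∀ (n : ℕ) (a : W) (x : M),
      (⇑F)^[n] (a • x) = (⇑WittVector.frobenius)^[n] a • (⇑F)^[n] x := by
    intro n
    induction n with
    | zero => intros; rfl
    | succ n ih => intro a x; simp only [Function.iterate_succ_apply', ih, hF]
  have hcomm : Function.Commute (⇑F) (⇑V) := fun x => by rw [hFV, hVF]
  have hFnV : ∀ (n : ℕ) (x : M), (⇑F)^[n] (V x) = V ((⇑F)^[n] x) := fun n =>
    (hcomm.iterate_left n).eq
  let K : ℕ → Submodule W M := fun n =>
    { carrier := {x | (⇑F)^[n] x = 0}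
      add_mem' := fun {a b} ha hb => by
        simp only [Set.mem_setOf_eq] at *
        rw [iterate_map_add, ha, hb, add_zero]
      zero_mem' := iterate_map_zero F n
      smul_mem' := fun a x hx => by
        simp only [Set.mem_setOf_eq] at *
        rw [hiter, hx, smul_zero] }
  have hKmono : ∀ n, K n ≤ K (n + 1) := fun n x hx => by
    show (⇑F)^[n + 1] x = 0
    rw [Function.iterate_succ_apply', show (⇑F)^[n] x = 0 from hx, map_zero]
  let U : ℕ →o Submodule W (M ⧸ Submodule.span W (Set.range V)) :=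
    ⟨fun n => (K n).map (Submodule.span W (Set.range V)).mkQ,
      monotone_nat_of_le_succ fun n => Submodule.map_mono (hKmono n)⟩
  haveI : IsNoetherianRing W := inferInstance
  haveI := hfin
  obtain ⟨c, hc⟩ := monotone_stabilizes_iff_noetherian.2
    (inferInstance : IsNoetherian W (M ⧸ Submodule.span W (Set.range V))) U
  have hspan : ∀ x ∈ Submodule.span W (Set.range V), ∃ y, V y = x := by
    intro x hx
    refine Submodule.span_induction (fun _ h => h) ⟨0, map_zero V⟩ ?_ ?_ hx
    · rintro _ _ _ _ ⟨a, rfl⟩ ⟨b, rfl⟩; exact ⟨a + b, map_add V a b⟩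
    · rintro a _ _ ⟨b, rfl⟩; exact ⟨WittVector.frobenius a • b, hV a b⟩
  have hstep : ∀ n, c ≤ n → ∀ x ∈ K n, ∃ y ∈ K n, (⇑F)^[c] x = V ((⇑F)^[c] y) := by
    intro n hn x hx
    have h1 : (Submodule.span W (Set.range V)).mkQ x ∈ U c := by
      rw [hc n hn]; exact Submodule.mem_map_of_mem hx
    obtain ⟨z, hz, hzx⟩ := Submodule.mem_map.1 h1
    obtain ⟨y, hy⟩ := hspan (x - z) ((Submodule.Quotient.eq _).1 hzx.symm)
    have hzn : z ∈ K n := monotone_nat_of_le_succ hKmono hn hz
    refine ⟨y, ?_, ?_⟩
    · apply hVinj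
      rw [map_zero, ← hFnV, hy, iterate_map_sub, show (⇑F)^[n] x = 0 from hx,
        show (⇑F)^[n] z = 0 from hzn, sub_zero]
    · rw [← hFnV, hy, iterate_map_sub, show (⇑F)^[c] z = 0 from hz, sub_zero]
  have hmain : ∀ x : M, (∃ n : ℕ, (⇑F)^[n] x = 0) → (⇑F)^[c] x = 0 := by
    rintro x ⟨n, hn⟩
    have hx : x ∈ K (max c n) := monotone_nat_of_le_succ hKmono (le_max_right _ _) hn
    have hj : ∀ j, ∀ x ∈ K (max c n), ∃ y, (⇑F)^[c] x = (⇑V)^[j] ((⇑F)^[c] y) ∧ y ∈ K (max c n) := by
      intro j
      induction j with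
      | zero => exact fun x hx => ⟨x, rfl, hx⟩
      | succ j ih =>
        intro x hx
        obtain ⟨y, hy, hy'⟩ := hstep _ (le_max_left _ _) x hx
        obtain ⟨z, hz, hz'⟩ := ih y hy
        exact ⟨z, by rw [hy', hz, Function.iterate_succ_apply'], hz'⟩
    exact hsep _ fun j => let ⟨y, hy, _⟩ := hj j x hx; ⟨_, hy⟩
  refine ⟨⟨c, hmain⟩, fun x hx hFx => ?_⟩
  obtain ⟨m, y, hy⟩ := hx c
  have hy0 : (⇑F)^[c + 1] y = 0 := by
    rw [Function.iterate_succ_apply', ← hy, (hcomm.iterate_right m).eq, hFx, iterate_map_zero]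
  rw [hmain y ⟨c + 1, hy0⟩] at hy
  exact hVinj.iterate m (hy.trans (iterate_map_zero V m).symm)
end Groth.Agent.S16418
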