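import Groth.Statements.S16419
import Groth.Agent.CAlg26.SummandLift

set_option autoImplicit false
universe u v
open CAlg

namespace Groth.Agent.S16419

open TensorProduct in
/-- For a commutative local Artinian ring R and an exact sequence 0 → H₁ → H → H₂ → 0 of finite free
R-modules, let F₁ ⊆ H₁ and F₂ ⊆ H₂ be submodules with H₁/F₁ and H₂/F₂ free; let 𝔫 be an ideal of R
of square zero, R̄ = R/𝔫, and F̄ an R̄-submodule of H̄ = R̄ ⊗ H with free quotient such that F̄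
meets the image of R̄ ⊗ H₁ in the image of R̄ ⊗ F₁ and the image of F̄ in R̄ ⊗ H₂ is the image of R̄
⊗ F₂. Then there is a direct summand F of H with F ∩ H₁ = F₁, whose image in H̄ is F̄ and whose
image in H₂ is F₂. -/
theorem result
    (R : Type u) [CommRing R] [IsArtinianRing R] [IsLocalRing R]
    (H₁ : Type v) (H : Type v) (H₂ : Type v)
    [AddCommGroup H₁] [Module R H₁] [AddCommGroup H] [Module R H] [AddCommGroup H₂] [Module R H₂]
    [Module.Free R H₁] [Module.Finite R H₁] [Module.Free R H] [Module.Finite R H]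
    [Module.Free R H₂] [Module.Finite R H₂]
    (f : H₁ →ₗ[R] H) (g : H →ₗ[R] H₂) (hf : Function.Injective f) (hg : Function.Surjective g)
    (hfg : Function.Exact f g)
    (F₁ : Submodule R H₁) (F₂ : Submodule R H₂) [Module.Free R (H₁ ⧸ F₁)] [Module.Free R (H₂ ⧸ F₂)]
    (𝔫 : Ideal R) (hn : 𝔫 * 𝔫 = ⊥)
    (Fb : Submodule (R ⧸ 𝔫) ((R ⧸ 𝔫) ⊗[R] H))
    [Module.Free (R ⧸ 𝔫) (((R ⧸ 𝔫) ⊗[R] H) ⧸ Fb)]
    (h1 : Fb ⊓ LinearMap.range (f.baseChange (R ⧸ 𝔫)) =
      Submodule.map (f.baseChange (R ⧸ 𝔫)) (F₁.baseChange (R ⧸ 𝔫)))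
    (h2 : Submodule.map (g.baseChange (R ⧸ 𝔫)) Fb = F₂.baseChange (R ⧸ 𝔫)) :
    ∃ F : Submodule R H, (∃ C : Submodule R H, IsCompl F C) ∧
      F ⊓ LinearMap.range f = Submodule.map f F₁ ∧
      F.baseChange (R ⧸ 𝔫) = Fb ∧ Submodule.map g F = F₂ := by
  obtain ⟨l1, l2, l3⟩ := CAlg26.SummandLift.lift_facts 𝔫 hf hg hfg h1 h2
  haveI : Module.Projective R F₂ := by
    obtain ⟨π, hπ⟩ := CAlg26.SummandLift.exists_proj F₂
    exact Module.Projective.of_split _ π hπ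
  let G := CAlg26.SummandLift.lift 𝔫 Fb
  let P : Submodule R H := G ⊓ F₂.comap g
  let gP : P →ₗ[R] F₂ := (g ∘ₗ P.subtype).codRestrict F₂ fun z => z.2.2
  have hgP : Function.Surjective gP := fun y => by
    obtain ⟨x, hx, hxy⟩ := l3 y y.2
    exact ⟨⟨x, hx, show g x ∈ F₂ by rw [hxy]; exact y.2⟩, Subtype.ext hxy⟩
  obtain ⟨s, hs⟩ := Module.projective_lifting_property gP LinearMap.id hgP
  have hs' : ∀ y, g (s y).1 = y := fun y => congrArg Subtype.val (LinearMap.congr_fun hs y)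
  let F : Submodule R H := F₁.map f ⊔ LinearMap.range (P.subtype ∘ₗ s)
  have hinf : F ⊓ LinearMap.range f = F₁.map f := by
    refine le_antisymm ?_ (le_inf le_sup_left LinearMap.map_le_range)
    rintro x ⟨hx, hx'⟩
    obtain ⟨_, ha, _, ⟨y, rfl⟩, rfl⟩ := Submodule.mem_sup.1 hx
    obtain ⟨a, -, rfl⟩ := id ha
    have hy : (y : H₂) = 0 := by
      obtain ⟨c, hc⟩ := hx'
      have h := congrArg g hc
      rw [hfg.apply_apply_eq_zero, map_add, hfg.apply_apply_eq_zero, zero_add] at h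
      exact (hs' y).symm.trans h.symm
    rw [show y = 0 from Subtype.ext hy, map_zero, add_zero]
    exact ha
  have hmap : F.map g = F₂ := by
    refine le_antisymm ?_ fun y hy => ⟨(s ⟨y, hy⟩).1,
      Submodule.mem_sup_right ⟨⟨y, hy⟩, rfl⟩, hs' _⟩
    rintro _ ⟨x, hx, rfl⟩
    obtain ⟨_, ⟨a, -, rfl⟩, _, ⟨y, rfl⟩, rfl⟩ := Submodule.mem_sup.1 hx
    rw [map_add, hfg.apply_apply_eq_zero, zero_add]
    exact (s y).2.2
  refine ⟨F, CAlg26.SummandLift.exists_compl hf hg hfg F hinf hmap, hinf, ?_, hmap⟩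
  rw [CAlg26.SummandLift.baseChange_eq_iff]
  refine le_antisymm (sup_le (sup_le ?_ ?_) (CAlg26.SummandLift.smul_top_le_lift 𝔫 Fb)) fun x hx => ?_
  · rintro _ ⟨a, ha, rfl⟩
    exact (l1 a).2 (Submodule.mem_sup_left ha)
  · rintro _ ⟨y, rfl⟩
    exact (s y).2.1
  · obtain ⟨y, hy, n, hn', hyn⟩ := Submodule.mem_sup.1 (l2 x hx)
    have hle : 𝔫 • (⊤ : Submodule R H₂) ≤ (𝔫 • (⊤ : Submodule R H)).map g := by
      rw [Submodule.map_smul'', Submodule.map_top, LinearMap.range_eq_top.2 hg]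
    obtain ⟨m, hm, rfl⟩ := hle hn'
    obtain ⟨t, ht⟩ := (hfg (x - (s ⟨y, hy⟩).1 - m)).1 (by rw [map_sub, map_sub, hs', ← hyn]; abel)
    have htG : f t ∈ G := ht.symm ▸ sub_mem (sub_mem hx (s ⟨y, hy⟩).2.1)
      (CAlg26.SummandLift.smul_top_le_lift 𝔫 Fb hm)
    obtain ⟨a, ha, b, hb, rfl⟩ := Submodule.mem_sup.1 ((l1 t).1 htG)
    refine Submodule.mem_sup.2 ⟨(s ⟨y, hy⟩).1 + f a, add_mem (Submodule.mem_sup_right ⟨⟨y, hy⟩, rfl⟩)
      (Submodule.mem_sup_left (Submodule.mem_map_of_mem ha)), f b + m,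
      add_mem (CAlg26.SummandLift.map_smul_top_le 𝔫 f hb) hm, ?_⟩
    rw [map_add] at ht
    linear_combination (norm := module) ht

end Groth.Agent.S16419
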