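import Groth.Statements.S16420
import Groth.Agent.CAlg26.SummandLift

set_option autoImplicit false
universe u v
open CAlg

namespace Groth.Agent.S16420

open TensorProduct in
/-- For a commutative local Artinian ring R and an exact sequence 0 → H₁ → H → H₂ → 0 of finite free
R-modules, let F₁ ⊆ H₁ and F₂ ⊆ H₂ be submodules with free quotients, 𝔫 an ideal of R of square
zero, R̄ = R/𝔫, and F̄ ⊆ H̄ = R̄ ⊗ H an R̄-submodule with free quotient meeting the image of R̄ ⊗ H₁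
in the image of R̄ ⊗ F₁ and mapping onto the image of R̄ ⊗ F₂; let L be the set of direct summands F
of H with F ∩ H₁ = F₁, with image F̄ in H̄ and with image F₂ in H₂. Then L is a torsor under
Hom_R(F₂, 𝔫(H₁/F₁)), acting as follows: an R-linear u : H₂ → H₁ with u(H₂) ⊆ 𝔫H₁ moves F ∈ L to the
image of F under x ↦ x + f(u(g(x))). Precisely, for F ∈ L: (1) that image again lies in L; (2) it
equals F if and only if u(F₂) ⊆ 𝔫F₁; (3) every F' ∈ L is obtained from F in this way for some such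
u. (The published statement phrases the torsor under the R̄-linear maps from F̄₂ to 𝔫 ⊗ (H̄₁/F̄₁), a
group identified with the maps u as above modulo those with u(F₂) ⊆ 𝔫F₁, and describes the action
through a lift F₂ → 𝔫 ⊗ H₁ composed with F → F/F₁ ≅ F₂; restricted to F this is x ↦ f(u(g(x))).) -/
theorem result
    (R : Type u) [CommRing R] [IsArtinianRing R] [IsLocalRing R]
    (H₁ : Type v) (H : Type v) (H₂ : Type v)
    [AddCommGroup H₁] [Module R H₁] [AddCommGroup H] [Module R H] [AddCommGroup H₂] [Module R H₂]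
    [Module.Free R H₁] [Module.Finite R H₁] [Module.Free R H] [Module.Finite R H]
    [Module.Free R H₂] [Module.Finite R H₂]
    (f : H₁ →ₗ[R] H) (g : H →ₗ[R] H₂) (hf : Function.Injective f) (hg : Function.Surjective g)
    (hfg : Function.Exact f g)
    (F₁ : Submodule R H₁) (F₂ : Submodule R H₂) [Module.Free R (H₁ ⧸ F₁)] [Module.Free R (H₂ ⧸ F₂)]
    (𝔫 : Ideal R) (hn : 𝔫 * 𝔫 = ⊥)
    (Fb : Submodule (R ⧸ 𝔫) ((R ⧸ 𝔫) ⊗[R] H))
    [Module.Free (R ⧸ 𝔫) (((R ⧸ 𝔫) ⊗[R] H) ⧸ Fb)]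
    (h1 : Fb ⊓ LinearMap.range (f.baseChange (R ⧸ 𝔫)) =
      Submodule.map (f.baseChange (R ⧸ 𝔫)) (F₁.baseChange (R ⧸ 𝔫)))
    (h2 : Submodule.map (g.baseChange (R ⧸ 𝔫)) Fb = F₂.baseChange (R ⧸ 𝔫))
    (F F' : Submodule R H)
    (hF : (∃ C : Submodule R H, IsCompl (F) C) ∧
      (F) ⊓ LinearMap.range f = Submodule.map f F₁ ∧
      Submodule.baseChange (R ⧸ 𝔫) (F) = Fb ∧ Submodule.map g (F) = F₂)
    (hF' : (∃ C : Submodule R H, IsCompl (F') C) ∧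
      (F') ⊓ LinearMap.range f = Submodule.map f F₁ ∧
      Submodule.baseChange (R ⧸ 𝔫) (F') = Fb ∧ Submodule.map g (F') = F₂) :
    (∀ u : H₂ →ₗ[R] H₁, (∀ y : H₂, u y ∈ 𝔫 • (⊤ : Submodule R H₁)) →
      (∃ C : Submodule R H, IsCompl (Submodule.map (LinearMap.id + f ∘ₗ u ∘ₗ g) F) C) ∧
      (Submodule.map (LinearMap.id + f ∘ₗ u ∘ₗ g) F) ⊓ LinearMap.range f = Submodule.map f F₁ ∧
      Submodule.baseChange (R ⧸ 𝔫) (Submodule.map (LinearMap.id + f ∘ₗ u ∘ₗ g) F) = Fb ∧ Submodule.map g (Submodule.map (LinearMap.id + f ∘ₗ u ∘ₗ g) F) = F₂) ∧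
    (∀ u : H₂ →ₗ[R] H₁, (∀ y : H₂, u y ∈ 𝔫 • (⊤ : Submodule R H₁)) →
      (Submodule.map (LinearMap.id + f ∘ₗ u ∘ₗ g) F = F ↔ ∀ y ∈ F₂, u y ∈ 𝔫 • F₁)) ∧
    (∃ u : H₂ →ₗ[R] H₁, (∀ y : H₂, u y ∈ 𝔫 • (⊤ : Submodule R H₁)) ∧
      F' = Submodule.map (LinearMap.id + f ∘ₗ u ∘ₗ g) F) := by
  obtain ⟨l1, -, -⟩ := CAlg26.SummandLift.lift_facts 𝔫 hf hg hfg h1 h2
  obtain ⟨-, hFi, hFb, hFg⟩ := hF
  obtain ⟨-, hF'i, hF'b, hF'g⟩ := hF'
  have hφ : ∀ (u : H₂ →ₗ[R] H₁) (x : H),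
      (LinearMap.id + f ∘ₗ u ∘ₗ g : H →ₗ[R] H) x = x + f (u (g x)) := fun u x => rfl
  have hgφ : ∀ (u : H₂ →ₗ[R] H₁) (x : H), g ((LinearMap.id + f ∘ₗ u ∘ₗ g : H →ₗ[R] H) x) = g x := fun u x => by
    rw [hφ, map_add, hfg.apply_apply_eq_zero, add_zero]
  have htrace : ∀ u : H₂ →ₗ[R] H₁,
      (F.map (LinearMap.id + f ∘ₗ u ∘ₗ g)) ⊓ LinearMap.range f = F₁.map f := fun u => by
    ext x
    constructor
    · rintro ⟨⟨z, hz, rfl⟩, c, hc⟩
      have hgz : g z = 0 := by rw [← hgφ u z, ← hc, hfg.apply_apply_eq_zero]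
      rw [hφ, hgz, map_zero, map_zero, add_zero]
      exact hFi.le ⟨hz, (hfg z).1 hgz⟩
    · intro hx
      obtain ⟨a, -, rfl⟩ := id hx
      refine ⟨⟨f a, (hFi.ge hx).1, ?_⟩, a, rfl⟩
      rw [hφ, hfg.apply_apply_eq_zero, map_zero, map_zero, add_zero]
  have hmapg : ∀ u : H₂ →ₗ[R] H₁, (F.map (LinearMap.id + f ∘ₗ u ∘ₗ g)).map g = F₂ := fun u => by
    rw [← Submodule.map_comp, show g ∘ₗ (LinearMap.id + f ∘ₗ u ∘ₗ g) = g from LinearMap.ext (hgφ u), hFg]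
  refine ⟨fun u hu => ⟨CAlg26.SummandLift.exists_compl hf hg hfg _ (htrace u) (hmapg u), htrace u, ?_, hmapg u⟩,
    fun u hu => ⟨fun heq y hy => ?_, fun h => ?_⟩, ?_⟩
  · rw [← hFb]
    have hb : (LinearMap.id + f ∘ₗ u ∘ₗ g).baseChange (R ⧸ 𝔫) = LinearMap.id := by
      ext x
      show (1 : R ⧸ 𝔫) ⊗ₜ[R] (x + f (u (g x))) = (1 : R ⧸ 𝔫) ⊗ₜ[R] x
      rw [CAlg26.SummandLift.mk_eq_iff, add_sub_cancel_left]
      exact CAlg26.SummandLift.map_smul_top_le 𝔫 f (hu _)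
    ext b
    obtain ⟨x, rfl⟩ := CAlg26.SummandLift.mk_surj 𝔫 b
    rw [CAlg26.SummandLift.mk_mem_baseChange, CAlg26.SummandLift.mk_mem_baseChange]
    have hle : ∀ z, (LinearMap.id + f ∘ₗ u ∘ₗ g : H →ₗ[R] H) z - z ∈ 𝔫 • (⊤ : Submodule R H) := fun z => by
      rw [hφ, add_sub_cancel_left]
      exact CAlg26.SummandLift.map_smul_top_le 𝔫 f (hu _)
    constructor
    · intro hx
      obtain ⟨_, ⟨z, hz, rfl⟩, m, hm, rfl⟩ := Submodule.mem_sup.1 hx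
      exact Submodule.mem_sup.2 ⟨z, hz, _, add_mem (hle z) hm, by abel⟩
    · intro hx
      obtain ⟨z, hz, m, hm, rfl⟩ := Submodule.mem_sup.1 hx
      exact Submodule.mem_sup.2 ⟨_, Submodule.mem_map_of_mem hz, _, sub_mem hm (hle z), by abel⟩
  · obtain ⟨z, hz, rfl⟩ := hFg.ge hy
    have h' : f (u (g z)) ∈ F := by
      have h'' := sub_mem (heq.le (Submodule.mem_map_of_mem hz)) hz
      rwa [hφ, add_sub_cancel_left] at h''
    obtain ⟨a, ha, hae⟩ := hFi.le ⟨h', u (g z), rfl⟩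
    exact CAlg26.SummandLift.mem_smul_of_mem 𝔫 F₁ (hf hae ▸ ha) (hu _)
  · have hmem : ∀ z ∈ F, f (u (g z)) ∈ F := fun z hz =>
      (hFi.ge (Submodule.mem_map_of_mem (Submodule.smul_le_right (h _ (hFg.le (Submodule.mem_map_of_mem hz)))))).1
    refine le_antisymm ?_ fun z hz => ⟨z - f (u (g z)), sub_mem hz (hmem z hz), ?_⟩
    · rintro _ ⟨z, hz, rfl⟩
      exact add_mem hz (hmem z hz)
    · rw [hφ, map_sub g, hfg.apply_apply_eq_zero, sub_zero, sub_add_cancel]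
  · obtain ⟨π₂, hπ₂⟩ := CAlg26.SummandLift.exists_proj F₂
    haveI : Module.Projective R F₂ := Module.Projective.of_split _ π₂ hπ₂
    have hsec : ∀ E : Submodule R H, E.map g = F₂ → ∃ s : F₂ →ₗ[R] H, ∀ y, s y ∈ E ∧ g (s y) = y := by
      intro E hE
      let gE : E →ₗ[R] F₂ := (g ∘ₗ E.subtype).codRestrict F₂ fun z => hE.le (Submodule.mem_map_of_mem z.2)
      have hgE : Function.Surjective gE := fun y => by
        obtain ⟨z, hz, hzy⟩ := hE.ge y.2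
        exact ⟨⟨z, hz⟩, Subtype.ext hzy⟩
      obtain ⟨s, hs⟩ := Module.projective_lifting_property gE LinearMap.id hgE
      exact ⟨E.subtype ∘ₗ s, fun y => ⟨(s y).2, congrArg Subtype.val (LinearMap.congr_fun hs y)⟩⟩
    obtain ⟨s, hs⟩ := hsec F hFg
    obtain ⟨s', hs'⟩ := hsec F' hF'g
    let e := LinearEquiv.ofInjective f hf
    let δ : F₂ →ₗ[R] LinearMap.range f := (s' - s).codRestrict _ fun y =>
      (hfg _).1 (by rw [LinearMap.sub_apply, map_sub, (hs y).2, (hs' y).2, sub_self])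
    let d : F₂ →ₗ[R] H₁ := e.symm.toLinearMap ∘ₗ δ
    have hd : ∀ y, f (d y) = s' y - s y := fun y => congrArg Subtype.val (e.apply_symm_apply (δ y))
    have hdmem : ∀ y, d y ∈ F₁ ⊔ 𝔫 • ⊤ := fun y => by
      refine (l1 _).1 ?_
      rw [hd]
      exact sub_mem ((CAlg26.SummandLift.baseChange_eq_iff 𝔫 F' Fb).1 hF'b ▸ Submodule.mem_sup_left (hs' y).1)
        ((CAlg26.SummandLift.baseChange_eq_iff 𝔫 F Fb).1 hFb ▸ Submodule.mem_sup_left (hs y).1)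
    obtain ⟨π₁, hπ₁⟩ := CAlg26.SummandLift.exists_proj F₁
    let p : H₁ →ₗ[R] H₁ := LinearMap.id - F₁.subtype ∘ₗ π₁
    have hp : ∀ a ∈ F₁, p a = 0 := fun a ha => by
      show a - (π₁ a : H₁) = 0
      rw [show π₁ a = ⟨a, ha⟩ from LinearMap.congr_fun hπ₁ ⟨a, ha⟩]; exact sub_self a
    refine ⟨p ∘ₗ d ∘ₗ π₂, fun y => ?_, ?_⟩
    · obtain ⟨a, ha, m, hm, ham⟩ := Submodule.mem_sup.1 (hdmem (π₂ y))
      show p (d (π₂ y)) ∈ _
      rw [← ham, map_add, hp a ha, zero_add]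
      exact CAlg26.SummandLift.map_smul_top_le 𝔫 p hm
    let φ := LinearMap.id + f ∘ₗ (p ∘ₗ d ∘ₗ π₂) ∘ₗ g
    have hF1 : ∀ a ∈ F₁, f a ∈ F' := fun a ha => (hF'i.ge (Submodule.mem_map_of_mem ha)).1
    have hle : F.map φ ≤ F' := by
      rintro _ ⟨z, hz, rfl⟩
      let y : F₂ := ⟨g z, hFg.le (Submodule.mem_map_of_mem hz)⟩
      have hzy : z - s y ∈ F ⊓ LinearMap.range f :=
        ⟨sub_mem hz (hs y).1, (hfg _).1 (by rw [map_sub, (hs y).2, sub_self])⟩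
      obtain ⟨a, ha, hae⟩ := hFi.le hzy
      have hy : π₂ (g z) = y := LinearMap.congr_fun hπ₂ y
      show z + f (p (d (π₂ (g z)))) ∈ F'
      rw [hy, show z + f (p (d y)) = s' y + f (a - (π₁ (d y) : H₁)) by
        show z + f (d y - (π₁ (d y) : H₁)) = _
        rw [map_sub, map_sub, hd, hae]; abel]
      exact add_mem (hs' y).1 (hF1 _ (sub_mem ha (π₁ _).2))
    refine le_antisymm (fun x hx => ?_) hle
    let y : F₂ := ⟨g x, hF'g.le (Submodule.mem_map_of_mem hx)⟩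
    have hw : x - φ (s y) ∈ F' ⊓ LinearMap.range f :=
      ⟨sub_mem hx (hle (Submodule.mem_map_of_mem (hs y).1)),
        (hfg _).1 (by rw [map_sub, hgφ, (hs y).2, sub_self])⟩
    obtain ⟨a, ha, hae⟩ := hF'i.le hw
    have hfa : f a ∈ F.map φ := ((htrace _).ge (Submodule.mem_map_of_mem ha)).1
    have h' := add_mem hfa (Submodule.mem_map_of_mem (f := φ) (hs y).1)
    rwa [hae, sub_add_cancel] at h'

end Groth.Agent.S16420
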