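import Groth.Statements.S16422
import Mathlib.Tactic

set_option autoImplicit false
universe u
open GrMod

namespace Groth.Agent.S16422

/-- Let S be a commutative ring graded by ℤ with pieces 𝒜 n, and V a decreasing sequence of homogeneous
ideals for which S is graded-complete, i.e. for each degree n the map from 𝒜 n to the inverse limit
of the quotients 𝒜 n / (𝒜 n ∩ V m) is bijective (stated as: a degree-n element in every V m
vanishes, and every sequence in 𝒜 n whose consecutive differences lie in the V m has a limit in 𝒜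
n). Then every graded S-module M which is finitely generated and projective as an S-module is
graded-complete in the same sense for the submodules V m · M: for each n the map from ℳ n to the
inverse limit of ℳ n / (ℳ n ∩ V m · M) is bijective. -/
theorem result
    (S : Type u) [CommRing S] (𝒜 : ℤ → AddSubgroup S) [GradedRing 𝒜]
    (V : ℕ → HomogeneousIdeal 𝒜) (hV : ∀ m, (V (m + 1)).toIdeal ≤ (V m).toIdeal)
    (hsep : ∀ (n : ℤ) (s : S), s ∈ 𝒜 n → (∀ m, s ∈ (V m).toIdeal) → s = 0)
    (hcpl : ∀ (n : ℤ) (f : ℕ → S), (∀ m, f m ∈ 𝒜 n) →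
      (∀ m, f (m + 1) - f m ∈ (V m).toIdeal) → ∃ s ∈ 𝒜 n, ∀ m, s - f m ∈ (V m).toIdeal)
    (M : Type u) [AddCommGroup M] [Module S M] (ℳ : ℤ → AddSubgroup M)
    [DirectSum.Decomposition ℳ] [SetLike.GradedSMul 𝒜 ℳ]
    [Module.Finite S M] [Module.Projective S M] :
    (∀ (n : ℤ) (x : M), x ∈ ℳ n → (∀ m, x ∈ (V m).toIdeal • (⊤ : Submodule S M)) → x = 0) ∧
    (∀ (n : ℤ) (g : ℕ → M), (∀ m, g m ∈ ℳ n) →
      (∀ m, g (m + 1) - g m ∈ (V m).toIdeal • (⊤ : Submodule S M)) →
      ∃ x ∈ ℳ n, ∀ m, x - g m ∈ (V m).toIdeal • (⊤ : Submodule S M)) := by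
  classical
  obtain ⟨T, hT⟩ := Module.Finite.fg_top (R := S) (M := M)
  let ι := Σ t : T, (DirectSum.decompose ℳ (t : M)).support
  let d : ι → ℤ := fun i => i.2.1
  let e : ι → M := fun i => DirectSum.decompose ℳ (i.1 : M) i.2.1
  have he : ∀ i, e i ∈ ℳ (d i) := fun i => (DirectSum.decompose ℳ (i.1 : M) i.2.1).2
  let π : (ι → S) →ₗ[S] M := Fintype.linearCombination S e
  have hπ : Function.Surjective π := by
    rw [← LinearMap.range_eq_top, Fintype.range_linearCombination, eq_top_iff, ← hT, Submodule.span_le]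
    intro t ht
    rw [SetLike.mem_coe, ← DirectSum.sum_support_decompose ℳ t]
    exact sum_mem fun j hj => Submodule.subset_span ⟨⟨⟨t, ht⟩, ⟨j, hj⟩⟩, rfl⟩
  obtain ⟨s, hs⟩ := Module.projective_lifting_property π LinearMap.id hπ
  have hcomp : ∀ (a : S) (i : ι) (n : ℤ),
      (DirectSum.decompose ℳ (a • e i) n : M) = (DirectSum.decompose 𝒜 a (n - d i) : S) • e i := by
    intro a i n
    induction a using DirectSum.Decomposition.inductionOn 𝒜 with
    | zero => simp
    | add a b ha hb => simp [add_smul, ha, hb]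
    | @homogeneous j a =>
      have hm : (a : S) • e i ∈ ℳ (j + d i) := SetLike.GradedSMul.smul_mem a.2 (he i)
      by_cases h : j + d i = n
      · subst h
        rw [DirectSum.decompose_of_mem_same ℳ hm, add_sub_cancel_right,
          DirectSum.decompose_of_mem_same 𝒜 a.2]
      · rw [DirectSum.decompose_of_mem_ne ℳ hm h,
          DirectSum.decompose_of_mem_ne 𝒜 a.2 (fun h' => h (by omega)), zero_smul]
  let c : ℤ → ι → M → S := fun n i m => (DirectSum.decompose 𝒜 (s m i) (n - d i) : S)
  have hrep : ∀ (n : ℤ) (m : M), m ∈ ℳ n → ∑ i, c n i m • e i = m := by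
    intro n m hm
    have h1 : ∑ i, s m i • e i = m := LinearMap.congr_fun hs m
    calc ∑ i, c n i m • e i = ∑ i, (DirectSum.decompose ℳ (s m i • e i) n : M) := by
          simp only [c, hcomp]
      _ = (DirectSum.decompose ℳ (∑ i, s m i • e i) n : M) := by
          rw [DirectSum.decompose_sum, DirectSum.sum_apply, AddSubmonoidClass.coe_finsetSum]
      _ = m := by rw [h1, DirectSum.decompose_of_mem_same ℳ hm]
  have hcV : ∀ (n : ℤ) (i : ι) (m : M) (j : ℕ),
      m ∈ (V j).toIdeal • (⊤ : Submodule S M) → c n i m ∈ (V j).toIdeal := by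
    intro n i m j hm
    refine (V j).isHomogeneous _ ?_
    refine Submodule.smul_induction_on hm (fun a ha x _ => ?_) (fun x y hx hy => ?_)
    · rw [map_smul, Pi.smul_apply, smul_eq_mul]
      exact Ideal.mul_mem_right _ _ ha
    · rw [map_add, Pi.add_apply]
      exact add_mem hx hy
  have hsub : ∀ (n : ℤ) (i : ι) (x y : M), c n i (x - y) = c n i x - c n i y := fun n i x y => by
    simp [c]
  refine ⟨fun n x hx h => ?_, fun n g hg hcau => ?_⟩
  · rw [← hrep n x hx]
    refine Finset.sum_eq_zero fun i _ => ?_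
    rw [hsep (n - d i) (c n i x) (DirectSum.decompose 𝒜 (s x i) (n - d i)).2
      (fun j => hcV n i x j (h j)), zero_smul]
  · choose a ha ha' using fun i : ι => hcpl (n - d i) (fun j => c n i (g j))
      (fun j => (DirectSum.decompose 𝒜 (s (g j) i) (n - d i)).2)
      (fun j => by rw [← hsub]; exact hcV n i _ j (hcau j))
    refine ⟨∑ i, a i • e i, sum_mem fun i _ => ?_, fun j => ?_⟩
    · have := SetLike.GradedSMul.smul_mem (ha i) (he i)
      rwa [vadd_eq_add, sub_add_cancel] at this
    · conv => arg 2; arg 2; rw [← hrep n (g j) (hg j)]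
      rw [← Finset.sum_sub_distrib]
      refine sum_mem fun i _ => ?_
      rw [← sub_smul]
      exact Submodule.smul_mem_smul (ha' i j) trivial

end Groth.Agent.S16422
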