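import Groth.Statements.S16423
import Groth.Agent.BigOpen97.Regular

set_option autoImplicit false
universe u
open CategoryTheory CategoryTheory.Limits AlgebraicGeometry TopologicalSpace
open RhoSh

namespace Groth.Agent.S16423

/-- Let X be a smooth, proper, geometrically irreducible scheme over a field k admitting an ample
invertible sheaf, let S be a k-scheme and let x be a point of X ×_k S lying over s ∈ S. If the local
ring at x of the fibre (X ×_k S)_s has Krull dimension at least 2 (this holds at every point outside
a big open subset, i.e. one whose complement has codimension at least 2 in every fibre), then the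
local ring of X ×_k S at x has depth at least 2. -/
theorem result
    (k : Type u) [Field k] (X S : Scheme.{u})
    (a : X ⟶ Spec (CommRingCat.of k)) (b : S ⟶ Spec (CommRingCat.of k))
    [Smooth a] [IsProper a] [GeometricallyIrreducible a]
    (hproj : ∃ H : X.Modules, CohB1.IsAmple H)
    (x : ↥(pullback a b))
    (hx : (2 : WithBot ℕ∞) ≤ ringKrullDim ↑(CInt.fiberStalk (pullback.snd a b) x)) :
    (2 : ℕ∞) ≤ LocCoh.depth ↑((pullback a b).presheaf.stalk x) ↑((pullback a b).presheaf.stalk x) := by
  haveI : Smooth (pullback.snd a b) := MorphismProperty.pullback_snd a b inferInstance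
  obtain ⟨_, ⟨V, hV, rfl⟩, hxV, -⟩ :=
    S.isBasis_affineOpens.exists_subset_of_mem_open (Set.mem_univ (pullback.snd a b x)) isOpen_univ
  obtain ⟨_, ⟨U, hU, rfl⟩, hxU, hle⟩ :=
    (pullback a b).isBasis_affineOpens.exists_subset_of_mem_open (a := x)
      (u := ↑((pullback.snd a b) ⁻¹ᵁ V)) hxV ((pullback.snd a b) ⁻¹ᵁ V).2
  exact BigOpen97.two_le_depth_stalk (pullback.snd a b) hU hV hle (closure {x}) isClosed_closure
    (fun w hw hwx => ((specializes_iff_mem_closure.2 hw).antisymm hwx).eq ▸ hx) hxU (subset_closure rfl)

end Groth.Agent.S16423
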