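import Groth.Statements.S16431
import Groth.Agent.Henz21.SepClosedMain
import Groth.Agent.Henz21.NormalizationHenz
-- import your own Groth.Agent.* helpers here

set_option autoImplicit false
universe u
open Hensel

namespace Groth.Agent.S16431

/-- Let A be an excellent reduced local ring with residue field k, let A' be the integral closure of A
in its total ring of fractions, let A^h be a henselization and A^hs a strict henselization of A, and
let A^h → A^hs be the A-algebra map between them (it is the unique one). Then the residue field of
A' at every maximal ideal is purely inseparable over k — every element has some p^n-th power in the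
image of A, p the characteristic exponent — if and only if every minimal prime ideal of A^hs is
generated by its contraction to A^h. -/
theorem result
    (A Ah Ash : Type u) [CommRing A] [IsLocalRing A] [IsReduced A] (hA : EGA4.IsExcellent A)
    [CommRing Ah] [IsLocalRing Ah] [Algebra A Ah] [IsLocalHom (algebraMap A Ah)]
    [Hensel.IsHenselization A Ah]
    [CommRing Ash] [IsLocalRing Ash] [Algebra A Ash] [IsLocalHom (algebraMap A Ash)]
    [Hensel.IsStrictHenselization A Ash] [Algebra Ah Ash] [IsScalarTower A Ah Ash] :
    (∀ (M : Ideal (integralClosure A (FractionRing A))) [M.IsMaximal], ∀ x : (integralClosure A (FractionRing A)) ⧸ M, ∃ n : ℕ,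
        x ^ (ringExpChar ((integralClosure A (FractionRing A)) ⧸ M)) ^ n ∈
          ((Ideal.Quotient.mk M).comp (algebraMap A (integralClosure A (FractionRing A)))).range) ↔
      (∀ Q ∈ minimalPrimes Ash, Q = Ideal.map (algebraMap Ah Ash) (Q.comap (algebraMap Ah Ash))) := by
  classical
  have : IsNoetherianRing A := hA.1
  have : Module.FaithfullyFlat A Ah := Henz21.henselization_faithfullyFlat Ah
  obtain ⟨hloc, hsh⟩ := Henz21.isStrictHenselization_of_henselization (A := A) Ah Ash
  have : HenselianLocalRing Ah := Hensel.IsHenselization.henselian (R := A)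
  have hNoe : IsNoetherianRing Ah :=
    (Hensel20.isNoetherianRing_iff_of_equiv (Henz21.henselizationEquiv (R := A) Ah)).1 inferInstance
  have hRed : IsReduced Ah :=
    (Hensel20.isReduced_iff_of_equiv (Henz21.henselizationEquiv (R := A) Ah)).2 inferInstance
  have : Module.FaithfullyFlat Ah Ash := Henz21.strictHenselization_faithfullyFlat Ash
  have : FaithfulSMul Ah Ash :=
    (faithfulSMul_iff_algebraMap_injective _ _).2 (FaithfulSMul.algebraMap_injective Ah Ash)
  have hiff : Henz21.ResiduePurelyInsep Ah ↔
      ∀ (M : Ideal (integralClosure Ah (FractionRing Ah))) [M.IsMaximal],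
        separableClosure (Subfield.closure (Set.range ((algebraMap (integralClosure Ah (FractionRing Ah))
          M.ResidueField).comp (algebraMap Ah (integralClosure Ah (FractionRing Ah)))))) M.ResidueField = ⊥ := by
    refine forall₂_congr fun M hM => ?_
    let C := integralClosure Ah (FractionRing Ah)
    let _ := Ideal.Quotient.field M
    let θ := (algebraMap C M.ResidueField).comp (algebraMap Ah C)
    let e : (C ⧸ M) ≃+* M.ResidueField :=
      RingEquiv.ofBijective _ (Ideal.bijective_algebraMap_quotient_residueField M)
    have hkerθ : RingHom.ker θ = IsLocalRing.maximalIdeal Ah := by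
      rw [← RingHom.comap_ker, Ideal.ker_algebraMap_residueField]
      exact IsLocalRing.eq_maximalIdeal (Ideal.isMaximal_comap_of_isIntegral_of_isMaximal M)
    let k₀ := Subfield.closure (Set.range θ)
    have hk₀ : (k₀ : Set M.ResidueField) = Set.range θ := Henz21.coe_closure_range_of_isField θ hkerθ
    rw [Henz21.exists_pow_mem_range_iff e _ θ (by
      show Set.range (fun r => e (Ideal.Quotient.mk M (algebraMap Ah C r))) =
        e '' Set.range (fun r => Ideal.Quotient.mk M (algebraMap Ah C r))
      exact Set.range_comp e _)]
    have : Algebra.IsAlgebraic k₀ M.ResidueField := by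
      refine ⟨fun z => ?_⟩
      obtain ⟨c, rfl⟩ : ∃ c : C, algebraMap C M.ResidueField c = z := by
        obtain ⟨w, hw⟩ := (Ideal.bijective_algebraMap_quotient_residueField M).2 z
        obtain ⟨c, rfl⟩ := Ideal.Quotient.mk_surjective w
        exact ⟨c, hw⟩
      obtain ⟨p, hp, hpc⟩ := (Algebra.IsIntegral.isIntegral (R := Ah) c)
      refine IsIntegral.isAlgebraic ⟨p.map (θ.codRestrict k₀ fun a => Subfield.subset_closure ⟨a, rfl⟩),
        hp.map _, ?_⟩
      rw [Polynomial.eval₂_map]
      show Polynomial.eval₂ θ _ p = 0
      rw [← Polynomial.hom_eval₂, hpc, map_zero]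
    rw [separableClosure.eq_bot_iff]
    have : ExpChar k₀ (ringExpChar M.ResidueField) :=
      (RingHom.expChar_iff (algebraMap k₀ M.ResidueField) (algebraMap k₀ M.ResidueField).injective _).2 inferInstance
    rw [isPurelyInseparable_iff_pow_mem k₀ (ringExpChar M.ResidueField)]
    refine forall_congr' fun z => exists_congr fun n => ?_
    constructor
    · intro h
      exact ⟨⟨_, (hk₀.symm ▸ h : z ^ ringExpChar M.ResidueField ^ n ∈ (k₀ : Set M.ResidueField))⟩, rfl⟩
    · rintro ⟨w, hw⟩
      show _ ∈ Set.range θ
      rw [← hk₀, ← hw]
      exact w.2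
  refine (Henz21.residuePurelyInsep_henselization_iff (A := A) Ah).trans (hiff.trans ⟨fun h => ?_, fun h M hM => ?_⟩)
  · exact (Henz21.etale_of_separableClosure_eq_bot (A := Ah) (S := Ash) Ah h).2
  · exact Henz21.separableClosure_eq_bot_of_etale (A := Ah) (S := Ash) Ah h M

end Groth.Agent.S16431
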