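import Groth.Statements.S16435
import Groth.Agent.Henz21.SepFinite
-- import your own Groth.Agent.* helpers here

set_option autoImplicit false
universe u
open Hensel

namespace Groth.Agent.S16435

/-- Let A be an excellent henselian reduced local ring, S a strict henselization of A and D any
A-subalgebra of S (an intermediate ring between A and S). Write D' for the integral closure of D in
its total ring of fractions. Then D is Noetherian if and only if, for every maximal ideal M of D'
with residue field l, writing k_0 for the subfield of l generated by the image of D (it is the image
itself, a copy of the residue field of the local ring D), the separable closure of k_0 in l has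
finite degree over k_0. -/
theorem result
    (A S : Type u) [CommRing A] [HenselianLocalRing A] [IsReduced A] (hA : EGA4.IsExcellent A)
    [CommRing S] [IsLocalRing S] [Algebra A S] [IsLocalHom (algebraMap A S)]
    [Hensel.IsStrictHenselization A S] (D : Subalgebra A S) :
    IsNoetherianRing D ↔
      ∀ (M : Ideal (integralClosure D (FractionRing D))) [M.IsMaximal],
        FiniteDimensional (Subfield.closure (Set.range ((algebraMap (integralClosure D (FractionRing D)) M.ResidueField).comp (algebraMap D (integralClosure D (FractionRing D)))))) (separableClosure (Subfield.closure (Set.range ((algebraMap (integralClosure D (FractionRing D)) M.ResidueField).comp (algebraMap D (integralClosure D (FractionRing D)))))) M.ResidueField) := by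
  have : IsNoetherianRing A := hA.1
  constructor
  · intro _ M _
    exact Henz21.finiteDimensional_separableClosure (A := A) (S := S) D M
  · intro h
    exact Henz21.isNoetherianRing_of_finiteDimensional_separableClosure (A := A) (S := S) D
      (Henz21.etalePart D) (Henz21.isNoetherianRing_etalePart D)
      (fun e he => ⟨⟨e, Henz21.etalePart_le D he⟩, rfl⟩)
      (fun d => Henz21.exists_mem_etalePart_residue_eq D d.2) h

end Groth.Agent.S16435
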