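import Groth.Statements.S16437
import Groth.Agent.Henz21.SplitBranch
-- import your own Groth.Agent.* helpers here

set_option autoImplicit false
universe u
open Hensel

namespace Groth.Agent.S16437

open IsLocalRing in
/-- Let A be an excellent henselian local domain with residue field k, whose integral closure A' in its
fraction field is a local ring (as it is, A being henselian) with local inclusion A → A' and residue
field k'; let k^s be the separable closure of k in k', S a strict henselization of A, and E a local
ring which is an essentially etale local A-algebra with local structure map, together with an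
A-algebra map E → S. Then every minimal prime ideal of S is generated by its contraction to E if and
only if the number of k-algebra maps from k^s to the residue field of E equals the degree [k^s : k];
equivalently, the minimal polynomial of a primitive element of k^s over k splits into linear factors
over the residue field of E. -/
theorem result
    (A S E : Type u) [CommRing A] [HenselianLocalRing A] [IsDomain A] (hA : EGA4.IsExcellent A)
    [IsLocalRing (integralClosure A (FractionRing A))] [IsLocalHom (algebraMap A (integralClosure A (FractionRing A)))]
    [CommRing S] [IsLocalRing S] [Algebra A S] [IsLocalHom (algebraMap A S)]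
    [Hensel.IsStrictHenselization A S]
    [CommRing E] [IsLocalRing E] [Algebra A E] [IsLocalHom (algebraMap A E)]
    (hE : EGA4loc.IsEssentiallyEtale A E) [Algebra E S] [IsScalarTower A E S] :
    (∀ Q ∈ minimalPrimes S, Q = Ideal.map (algebraMap E S) (Q.comap (algebraMap E S))) ↔
      Nat.card (separableClosure (ResidueField A) (ResidueField (integralClosure A (FractionRing A))) →ₐ[ResidueField A]
          ResidueField E) =
        Module.finrank (ResidueField A)
          (separableClosure (ResidueField A) (ResidueField (integralClosure A (FractionRing A)))) := by
  classical
  have : IsNoetherianRing A := hA.1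
  have := EssEt14.formallyEtale hE
  have := EssEt14.essFiniteType hE
  have := SubSh14.flat hE
  let φ : E →ₐ[A] S := IsScalarTower.toAlgHom A E S
  have hinj : Function.Injective φ := SubSh14.injective_algHom hE φ
  have : FaithfulSMul E S := (faithfulSMul_iff_algebraMap_injective _ _).2 hinj
  obtain ⟨σ, hσ⟩ := (Algebra.essFiniteType_iff A E).1 inferInstance
  obtain ⟨E₂, hsE, hE₂loc, hE₂hom, hE₂, hE₂fin, -⟩ := SubSh14.exists_galois_stage (A := A) (σ.image φ)
  have hmem : ∀ x : E, φ x ∈ E₂ := by
    intro x
    have hle : (Algebra.adjoin A (σ : Set E)).map φ ≤ E₂ := by
      rw [AlgHom.map_adjoin, Algebra.adjoin_le_iff]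
      rwa [Finset.coe_image] at hsE
    obtain ⟨u, hu, huu, hxu⟩ := hσ x
    refine SubSh14.mem_of_isUnit hE₂ (hle ⟨u, hu, rfl⟩) (huu.map φ) ?_
    rw [mul_comm]
    show φ x * φ u ∈ E₂
    rw [← map_mul]
    exact hle ⟨_, hxu, rfl⟩
  have : Module.Finite A E :=
    Module.Finite.of_injective (φ.codRestrict E₂ hmem).toLinearMap
      fun x y h => hinj (congrArg Subtype.val h)
  have : Algebra.FinitePresentation A E := Algebra.FinitePresentation.of_finiteType.1 inferInstance
  have : Algebra.Etale A E := ⟨inferInstance, inferInstance⟩
  rw [← Henz21.separableClosure_eq_bot_iff_card E hA.2.2.1]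
  exact ⟨fun h => Henz21.separableClosure_eq_bot_of_etale (A := A) E h,
    fun h => (Henz21.etale_of_separableClosure_eq_bot (A := A) E h).2⟩

end Groth.Agent.S16437
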