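import Groth.Statements.S16443
import Groth.Agent.SubSh14.SubFrac

set_option autoImplicit false
universe u
open EGA4loc

namespace Groth.Agent.S16443

/-- Let A be a reduced local ring with finitely many minimal prime ideals, E a local ring which is an
essentially etale local A-algebra with local structure map, K_E the total ring of fractions of E,
and L an A-subalgebra of K_E containing an inverse of the image of every non-zero-divisor of A (so L
is an intermediate ring between the total rings of fractions of A and of E). Then the preimage D of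
L in E is (the underlying set of) an A-subalgebra of E which is a local ring with local inclusion
into E — its maximal ideal lies under that of E — and L is the total ring of fractions of D in the
sense that every element of L is the image of an element of D times the inverse of the image of a
non-zero-divisor of A. -/
theorem result
    (A E : Type u) [CommRing A] [IsLocalRing A] [IsReduced A] (hmin : (minimalPrimes A).Finite)
    [CommRing E] [IsLocalRing E] [Algebra A E] [IsLocalHom (algebraMap A E)]
    (hE : EGA4loc.IsEssentiallyEtale A E) (L : Subalgebra A (FractionRing E))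
    (hL : ∀ s ∈ nonZeroDivisors A, ∃ y ∈ L, algebraMap A (FractionRing E) s * y = 1) :
    ∃ D : Subalgebra A E, (D : Set E) = (algebraMap E (FractionRing E)) ⁻¹' (L : Set (FractionRing E)) ∧
      ∃ _ : IsLocalRing D, IsLocalHom (algebraMap D E) ∧
        ∀ l ∈ L, ∃ d ∈ D, ∃ s ∈ nonZeroDivisors A, ∃ y ∈ L,
          algebraMap A (FractionRing E) s * y = 1 ∧ l = algebraMap E (FractionRing E) d * y := by
  have := EssEt14.formallyEtale hE
  have := EssEt14.essFiniteType hE
  have := SubSh14.flat hE
  let φ : E →ₐ[A] FractionRing E := IsScalarTower.toAlgHom A E (FractionRing E)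
  let D : Subalgebra A E := L.comap φ
  have hD : ∀ e : E, e ∈ D ↔ algebraMap E (FractionRing E) e ∈ L := fun e => Iff.rfl
  have hunit : ∀ d : E, d ∈ D → IsUnit d → ∃ d' ∈ D, d * d' = 1 := fun d hd hu => by
    obtain ⟨d', hd'⟩ := isUnit_iff_exists_inv.1 hu
    refine ⟨d', (hD d').2 ?_, hd'⟩
    obtain ⟨w, hw, a, ha, hwa⟩ := SubSh14.exists_mul_eq hmin (s := d) fun w _ h => hu.mul_right_eq_zero.1 h
    obtain ⟨y, hy, hay⟩ := hL a ha
    have hwD : w ∈ D := Algebra.adjoin_le (Set.singleton_subset_iff.2 hd) hw
    have h : algebraMap A E a * d' = w := by rw [← hwa, mul_right_comm, hd', one_mul]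
    have h2 : algebraMap E (FractionRing E) d' = algebraMap E (FractionRing E) w * y := by
      rw [← h, map_mul, ← IsScalarTower.algebraMap_apply, mul_comm (algebraMap A _ a), mul_assoc, hay, mul_one]
    rw [h2]
    exact mul_mem ((hD w).1 hwD) hy
  have hloc : IsLocalHom (algebraMap D E) := ⟨fun d hd => by
    obtain ⟨d', hd', hdd'⟩ := hunit d d.2 hd
    exact isUnit_iff_exists_inv.2 ⟨⟨d', hd'⟩, Subtype.ext hdd'⟩⟩
  refine ⟨D, rfl, RingHom.domain_isLocalRing (algebraMap D E), hloc, fun l hl => ?_⟩
  have := SubSh14.isLocalization_fractionRing hmin E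
  obtain ⟨⟨e, ⟨_, a, ha, rfl⟩⟩, he⟩ := IsLocalization.surj (Algebra.algebraMapSubmonoid E (nonZeroDivisors A)) l
  obtain ⟨y, hy, hay⟩ := hL a ha
  rw [← IsScalarTower.algebraMap_apply] at he
  refine ⟨e, (hD e).2 ?_, a, ha, y, hy, hay, ?_⟩
  · rw [← he]
    exact mul_mem hl (L.algebraMap_mem a)
  · rw [← he, mul_assoc, hay, mul_one]

end Groth.Agent.S16443
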