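import Groth.Statements.S16444
import Groth.Agent.Henz21.FiniteEtaleLift
import Groth.Agent.Henz21.FiniteLocal
import Groth.Agent.Hensel20.LocalFinite
import Groth.Agent.Hensel20.EssEtale
-- import your own Groth.Agent.* helpers here

set_option autoImplicit false
universe u
open scoped TensorProduct
open Hensel

namespace Groth.Agent.S16444

open IsLocalRing in
/-- Let A be a complete Noetherian local ring and R → A a local homomorphism from a henselian Noetherian
local ring R inducing a bijection on residue fields. Then every local ring E which is an essentially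
etale local A-algebra with local structure map is A-isomorphic to A ⊗_R S for some local ring S
which is a finite etale R-algebra (its residue field is then that of E). (The published statement
takes R to be a coefficient ring of A, that is a field or an image of a complete p-ring with the
same residue field; its proof uses only that R is henselian with the same residue field as A, which
is the hypothesis made here.) -/
theorem result
    (R A E : Type u) [CommRing R] [HenselianLocalRing R] [IsNoetherianRing R]
    [CommRing A] [IsLocalRing A] [IsNoetherianRing A] [IsAdicComplete (maximalIdeal A) A]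
    [Algebra R A] [IsLocalHom (algebraMap R A)]
    (hres : Function.Bijective (ResidueField.map (algebraMap R A)))
    [CommRing E] [IsLocalRing E] [Algebra A E] [IsLocalHom (algebraMap A E)]
    (hE : EGA4loc.IsEssentiallyEtale A E) :
    ∃ (S : Type u) (_ : CommRing S) (_ : IsLocalRing S) (_ : Algebra R S),
      Module.Finite R S ∧ Algebra.Etale R S ∧ Nonempty (E ≃ₐ[A] A ⊗[R] S) := by
  classical
  haveI hA : HenselianLocalRing A := EtAlg23.henselianLocalRing_of_henselianRing A
  -- `E` is finite, so henselian
  have hEfin : Module.Finite A E := by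
    obtain ⟨C, _, _, q, _, hC, hq, ⟨e⟩⟩ := hE
    haveI : q.LiesOver (maximalIdeal A) := ⟨hq.symm⟩
    haveI := Hensel20.finite_localization (R := A) C q
    exact Module.Finite.equiv e.symm.toLinearEquiv
  haveI : HenselianLocalRing E := Henz21.henselianLocalRing_of_isIntegral (A := A)
  haveI := Hensel20.formallyUnramified_of_essEtale hE
  haveI := Hensel20.essFiniteType_of_essEtale hE
  -- the residue field of `E` over that of `R`
  let ρ := RingEquiv.ofBijective _ hres
  let _ : Algebra (ResidueField R) (ResidueField E) :=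
    ((algebraMap (ResidueField A) (ResidueField E)).comp ρ.toRingHom).toAlgebra
  haveI : Algebra.IsSeparable (ResidueField R) (ResidueField E) :=
    Algebra.IsSeparable.of_equiv_equiv ρ.symm (RingEquiv.refl (ResidueField E))
      (RingHom.ext fun x => congrArg (algebraMap (ResidueField A) (ResidueField E))
        (ρ.apply_symm_apply x))
  haveI : FiniteDimensional (ResidueField R) (ResidueField E) :=
    Module.Finite.of_equiv_equiv ρ.symm (RingEquiv.refl (ResidueField E))
      (RingHom.ext fun x => congrArg (algebraMap (ResidueField A) (ResidueField E))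
        (ρ.apply_symm_apply x))
  obtain ⟨S, _, _, _, _, hSf, hSe, ⟨ψ⟩⟩ :=
    Henz21.exists_finite_etale_local_lift (A := R) (ResidueField E)
  refine ⟨S, inferInstance, inferInstance, inferInstance, hSf, hSe, ?_⟩
  let _ : Algebra R (ResidueField E) :=
    ((algebraMap A (ResidueField E)).comp (algebraMap R A)).toAlgebra
  haveI : IsScalarTower R A (ResidueField E) := IsScalarTower.of_algebraMap_eq fun _ => rfl
  let σ : S →ₐ[R] ResidueField E :=
    { ψ.toRingEquiv.toRingHom.comp (residue S) with
      commutes' := fun r => ψ.commutes (residue R r) }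
  have hσs : Function.Surjective σ := ψ.surjective.comp residue_surjective
  let θ : A ⊗[R] S →ₐ[A] ResidueField E :=
    Algebra.TensorProduct.lift (Algebra.ofId A (ResidueField E)) σ fun _ _ => .all _ _
  have hθs : Function.Surjective θ := fun y => by
    obtain ⟨s, rfl⟩ := hσs y
    exact ⟨1 ⊗ₜ s, by simp [θ]⟩
  set J := (maximalIdeal A).map (algebraMap A (A ⊗[R] S))
  have hJ : ∀ x : A ⊗[R] S, ∃ s : S, x - 1 ⊗ₜ s ∈ J := fun x => by
    induction x using TensorProduct.induction_on with
    | zero => exact ⟨0, by simp⟩
    | tmul a s =>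
      obtain ⟨y, hy⟩ := hres.2 (residue A a)
      obtain ⟨r, rfl⟩ := residue_surjective y
      rw [ResidueField.map_residue, eq_comm, ← sub_eq_zero, ← map_sub, residue_eq_zero_iff] at hy
      refine ⟨r • s, ?_⟩
      have := J.mul_mem_right (1 ⊗ₜ s) (Ideal.mem_map_of_mem (algebraMap A (A ⊗[R] S)) hy)
      simpa [Algebra.TensorProduct.algebraMap_apply, TensorProduct.sub_tmul, sub_mul,
        Algebra.algebraMap_eq_smul_one, TensorProduct.smul_tmul'] using this
    | add x y hx hy =>
      obtain ⟨s, hs⟩ := hx
      obtain ⟨t, ht⟩ := hy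
      refine ⟨s + t, ?_⟩
      rw [TensorProduct.tmul_add, add_sub_add_comm]
      exact J.add_mem hs ht
  have hJθ : ∀ x ∈ J, θ x = 0 := by
    suffices J ≤ RingHom.ker θ from this
    rw [Ideal.map_le_iff_le_comap]
    intro a ha
    rw [Ideal.mem_comap, RingHom.mem_ker, AlgHom.commutes,
      IsScalarTower.algebraMap_apply A (ResidueField A) (ResidueField E),
      ResidueField.algebraMap_eq, (residue_eq_zero_iff a).mpr ha, map_zero]
  have hker : RingHom.ker θ ≤ J := fun x hx => by
    obtain ⟨s, hs⟩ := hJ x
    have h0 : σ s = 0 := by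
      have := hJθ _ hs
      rw [map_sub, hx, zero_sub, neg_eq_zero] at this
      simpa [θ] using this
    have h1 : s ∈ maximalIdeal S := (residue_eq_zero_iff s).mp ((map_eq_zero_iff _ ψ.injective).mp h0)
    rw [← Algebra.FormallyUnramified.map_maximalIdeal (R := R)] at h1
    have h2 := Ideal.mem_map_of_mem
      (Algebra.TensorProduct.includeRight : S →ₐ[R] A ⊗[R] S).toRingHom h1
    rw [Ideal.map_map, show (Algebra.TensorProduct.includeRight : S →ₐ[R] A ⊗[R] S).toRingHom.comp (algebraMap R S) = algebraMap R (A ⊗[R] S) from RingHom.ext (Algebra.TensorProduct.includeRight : S →ₐ[R] A ⊗[R] S).commutes,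
      IsScalarTower.algebraMap_eq R A (A ⊗[R] S), ← Ideal.map_map] at h2
    have h3 : (1 ⊗ₜ s : A ⊗[R] S) ∈ J :=
      Ideal.map_mono (((local_hom_TFAE (algebraMap R A)).out 0 2).mp ‹IsLocalHom (algebraMap R A)›) h2
    simpa using J.add_mem hs h3
  have hmax : (RingHom.ker θ).IsMaximal := RingHom.ker_isMaximal_of_surjective θ hθs
  haveI : IsLocalRing (A ⊗[R] S) := IsLocalRing.of_unique_max_ideal
    ⟨_, hmax, fun M hM => (hmax.eq_of_le hM.ne_top (hker.trans (Ideal.map_le_iff_le_comap.mpr
      (eq_maximalIdeal (Ideal.isMaximal_comap_of_isIntegral_of_isMaximal M)).ge))).symm⟩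
  have hmF : maximalIdeal (A ⊗[R] S) = RingHom.ker θ := (eq_maximalIdeal hmax).symm
  haveI : HenselianLocalRing (A ⊗[R] S) := Henz21.henselianLocalRing_of_isIntegral (A := A)
  have hF : EGA4loc.IsEssentiallyEtale A (A ⊗[R] S) :=
    ⟨A ⊗[R] S, inferInstance, inferInstance, maximalIdeal _, inferInstance, inferInstance,
      eq_maximalIdeal (Ideal.isMaximal_comap_of_isIntegral_of_isMaximal _),
      ⟨(IsLocalization.atUnits (A ⊗[R] S) (maximalIdeal (A ⊗[R] S)).primeCompl
        (fun x hx => IsLocalRing.notMem_maximalIdeal.mp hx)).restrictScalars A⟩⟩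
  let θb : ResidueField (A ⊗[R] S) →ₐ[A] ResidueField E :=
    Ideal.Quotient.liftₐ (maximalIdeal (A ⊗[R] S)) θ fun x hx => by rwa [hmF] at hx
  let Θ : ResidueField (A ⊗[R] S) ≃ₐ[A] ResidueField E :=
    AlgEquiv.ofBijective θb ⟨θb.toRingHom.injective, fun y => by
      obtain ⟨x, rfl⟩ := hθs y
      exact ⟨residue _ x, rfl⟩⟩
  obtain ⟨φ, hφ⟩ := Hensel20.essEtale_lift hF θ
  obtain ⟨χ, hχ⟩ := Hensel20.essEtale_lift hE
    (Θ.symm.toAlgHom.comp (IsScalarTower.toAlgHom A E (ResidueField E)))
  refine ⟨AlgEquiv.ofAlgHom χ φ (Hensel20.essEtale_hom_ext hF _ _ fun x => ?_)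
    (Hensel20.essEtale_hom_ext hE _ _ fun x => ?_)⟩
  · show residue _ (χ (φ x)) = residue _ x
    rw [hχ]
    show Θ.symm (residue E (φ x)) = _
    rw [hφ, show θ x = Θ (residue _ x) from rfl, Θ.symm_apply_apply]
  · show residue _ (φ (χ x)) = residue _ x
    rw [hφ, show θ (χ x) = Θ (residue _ (χ x)) from rfl, hχ]
    exact Θ.apply_symm_apply (residue E x)

end Groth.Agent.S16444
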