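import Groth.Statements.S16445
import Groth.Agent.Henz21.ShBranchUnram
import Groth.Agent.Henz21.ExcellentFinite
import Groth.Agent.Henz21.FiniteLocal
-- import your own Groth.Agent.* helpers here

set_option autoImplicit false
universe u
open Hensel

namespace Groth.Agent.S16445

/-- Let A be an excellent henselian reduced local ring, S a strict henselization of A and Q a minimal
prime ideal of S; let K be the fraction field of the domain S/Q and L the subfield of K generated
over the image of A by a finite subset t of K. Then the intersection of L with S/Q is (the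
underlying set of) an A-subalgebra D' of S/Q which is an excellent henselian local ring (a domain,
as a subring of S/Q) whose fraction field is L: every element of L is the quotient of the images of
two elements of D'. (The source's further description of the completion of D' is not stated here.) -/
theorem result
    (A S : Type u) [CommRing A] [HenselianLocalRing A] [IsReduced A] (hA : EGA4.IsExcellent A)
    [CommRing S] [IsLocalRing S] [Algebra A S] [IsLocalHom (algebraMap A S)]
    [Hensel.IsStrictHenselization A S] (Q : Ideal S) (hQ : Q ∈ minimalPrimes S) [Q.IsPrime]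
    (t : Finset (FractionRing (S ⧸ Q))) :
    ∃ D' : Subalgebra A (S ⧸ Q), (D' : Set (S ⧸ Q)) = (algebraMap (S ⧸ Q) (FractionRing (S ⧸ Q))) ⁻¹'
        (Subfield.closure (Set.range (algebraMap A (FractionRing (S ⧸ Q))) ∪
          (t : Set (FractionRing (S ⧸ Q)))) : Set (FractionRing (S ⧸ Q))) ∧
      EGA4.IsExcellent D' ∧ ∃ _ : HenselianLocalRing D',
        ∀ l ∈ Subfield.closure (Set.range (algebraMap A (FractionRing (S ⧸ Q))) ∪
            (t : Set (FractionRing (S ⧸ Q)))),
          ∃ a ∈ D', ∃ b ∈ D', algebraMap (S ⧸ Q) (FractionRing (S ⧸ Q)) b ≠ 0 ∧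
            l * algebraMap (S ⧸ Q) (FractionRing (S ⧸ Q)) b =
              algebraMap (S ⧸ Q) (FractionRing (S ⧸ Q)) a := by
  have : IsNoetherianRing A := hA.1
  have := Henz21.finite_branchInter Q t hA.2.2.1
  have := Henz21.isLocalRing_branchInter (A := A) Q t
  refine ⟨Henz21.branchInter Q t, rfl, Henz21.isExcellent_of_finite (A := A) hA,
    Henz21.henselianLocalRing_of_isIntegral (A := A), fun l hl => ?_⟩
  obtain ⟨a, ha, s, hs, he⟩ := Henz21.exists_mul_eq_mem_branchInter Q t hl
  have e := IsScalarTower.algebraMap_apply A (S ⧸ Q) (FractionRing (S ⧸ Q)) a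
  exact ⟨s, hs, algebraMap A (S ⧸ Q) a, Subalgebra.algebraMap_mem _ a, e ▸ ha,
    by rw [← e, mul_comm]; exact he⟩

end Groth.Agent.S16445
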