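import Groth.Statements.S16446
import Groth.Agent.Henz21.ShBranch
-- import your own Groth.Agent.* helpers here

set_option autoImplicit false
universe u
open Hensel

namespace Groth.Agent.S16446

/-- Let A be an excellent henselian reduced local ring, S a strict henselization of A and Q a minimal
prime ideal of S with contraction q to A; let K be the fraction field of S/Q and L the subfield of K
generated over the image of A by a finite subset t of K. Then there is an A-subalgebra E of S, a
local ring and an essentially etale local A-algebra, such that (i) every minimal prime ideal of S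
over the ideal qS is generated by its contraction to E, and (ii) every element of S/Q whose image in
K lies in L is the class of an element of E — so that the intersection of L with S/Q equals its
intersection with the image of E. -/
theorem result
    (A S : Type u) [CommRing A] [HenselianLocalRing A] [IsReduced A] (hA : EGA4.IsExcellent A)
    [CommRing S] [IsLocalRing S] [Algebra A S] [IsLocalHom (algebraMap A S)]
    [Hensel.IsStrictHenselization A S] (Q : Ideal S) (hQ : Q ∈ minimalPrimes S) [Q.IsPrime]
    (t : Finset (FractionRing (S ⧸ Q))) :
    ∃ E : Subalgebra A S, ∃ _ : IsLocalRing E, EGA4loc.IsEssentiallyEtale A E ∧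
      (∀ Q' ∈ ((Q.comap (algebraMap A S)).map (algebraMap A S)).minimalPrimes,
        Q' = Ideal.map (algebraMap E S) (Q'.comap (algebraMap E S))) ∧
      ∀ x : S, algebraMap (S ⧸ Q) (FractionRing (S ⧸ Q)) (Ideal.Quotient.mk Q x) ∈
          Subfield.closure (Set.range (algebraMap A (FractionRing (S ⧸ Q))) ∪
            (t : Set (FractionRing (S ⧸ Q)))) →
        ∃ e ∈ E, Ideal.Quotient.mk Q e = Ideal.Quotient.mk Q x := by
  classical
  have : IsNoetherianRing A := hA.1
  have : IsNoetherianRing S := Henz21.isNoetherianRing_strictHenselization A S
  set J := (Q.comap (algebraMap A S)).map (algebraMap A S) with hJ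
  choose W hW using fun Q' : Ideal S => (isNoetherianRing_iff_ideal_fg S).1 inferInstance Q'
  obtain ⟨E, hE, hloc, hhom, hEt, -, -, hlift⟩ :=
    Henz21.exists_stage_branchInter Q t hA.2.2.1
      ((Ideal.finite_minimalPrimes_of_isNoetherianRing S J).toFinset.biUnion W)
  refine ⟨E, hloc, hEt, fun Q' hQ' => le_antisymm ?_ Ideal.map_comap_le, fun x hx => hlift _ hx⟩
  conv_lhs => rw [← hW Q']
  refine Ideal.span_le.2 fun w hw => ?_
  have hwE : w ∈ E := hE (Finset.mem_biUnion.2 ⟨Q', (Set.Finite.mem_toFinset _).2 hQ', hw⟩)
  have hwQ : w ∈ Q' := hW Q' ▸ Ideal.subset_span hw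
  exact Ideal.mem_map_of_mem (algebraMap E S) (show (⟨w, hwE⟩ : E) ∈ Q'.comap (algebraMap E S) from hwQ)

end Groth.Agent.S16446
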