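import Groth.Statements.S16447
import Groth.Agent.SubSh14.Contract

set_option autoImplicit false
universe u
open EGA4loc

namespace Groth.Agent.S16447

/-- Let A be a Noetherian reduced local ring, E a local ring which is an essentially etale local
A-algebra with local structure map, K_E the total ring of fractions of E, E' the integral closure of
E in K_E (viewed as an A-subalgebra of K_E), and L an A-subalgebra of K_E containing an inverse of
the image of every non-zero-divisor of A. Let C be the A-subalgebra L ⊓ E' of K_E. Then C is
integrally closed in L, C has only finitely many maximal ideals, the maximal ideals of C are exactly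
the contractions of the maximal ideals of E', and every element of L is an element of C times the
inverse of the image of a non-zero-divisor of A. (The published statement assumes only that A is
reduced; its proof uses that the integral closure of E in K_E has finitely many maximal ideals,
which holds when A is Noetherian and can fail otherwise, so A is taken Noetherian here.) -/
theorem result
    (A E : Type u) [CommRing A] [IsLocalRing A] [IsReduced A] [IsNoetherianRing A]
    [CommRing E] [IsLocalRing E] [Algebra A E] [IsLocalHom (algebraMap A E)]
    (hE : EGA4loc.IsEssentiallyEtale A E) (L : Subalgebra A (FractionRing E))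
    (hL : ∀ s ∈ nonZeroDivisors A, ∃ y ∈ L, algebraMap A (FractionRing E) s * y = 1)
    (C : Subalgebra A (FractionRing E))
    (hC : C = L ⊓ (integralClosure E (FractionRing E)).restrictScalars A) :
    (∀ x ∈ L, IsIntegral C x → x ∈ C) ∧
      {N : Ideal C | N.IsMaximal}.Finite ∧
      (∀ N : Ideal C, N.IsMaximal ↔ ∃ M : Ideal ((integralClosure E (FractionRing E)).restrictScalars A),
          M.IsMaximal ∧ N = M.comap (Subalgebra.inclusion (hC.trans_le inf_le_right))) ∧
      ∀ l ∈ L, ∃ c ∈ C, ∃ s ∈ nonZeroDivisors A, ∃ y ∈ L,
        algebraMap A (FractionRing E) s * y = 1 ∧ l = c * y := by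
  subst hC
  refine ⟨fun x hxL hx => ⟨hxL, ?_⟩, ?_, SubSh14.isMaximal_iff hE L hL _ rfl, ?_⟩
  · let G := integralClosure E (FractionRing E)
    let ι : (L ⊓ G.restrictScalars A : Subalgebra A (FractionRing E)) →+* G :=
      (Subalgebra.inclusion (inf_le_right (a := L) (b := G.restrictScalars A))).toRingHom
    obtain ⟨p, hp, hpx⟩ := hx
    have hxG : IsIntegral G x := ⟨p.map ι, hp.map ι, by rw [Polynomial.eval₂_map]; exact hpx⟩
    exact isIntegral_trans (R := E) x hxG
  · refine ((SubSh14.finite_maximal (A := A) hE).image fun M => M.comap
      (Subalgebra.inclusion (inf_le_right (a := L) (b := (integralClosure E (FractionRing E)).restrictScalars A)))).subset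
      fun N hN => ?_
    obtain ⟨M, hM, rfl⟩ := (SubSh14.isMaximal_iff hE L hL _ rfl N).1 hN
    exact ⟨M, hM, rfl⟩
  · intro l hl
    obtain ⟨e, he, s, hs, y, hy, hsy, hle⟩ := SubSh14.exists_mul_inv hE L hL hl
    exact ⟨_, ⟨he, isIntegral_algebraMap⟩, s, hs, y, hy, hsy, hle⟩

end Groth.Agent.S16447
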