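import Groth.Statements.S16450
import Groth.Agent.SubSh14.Residual
import Groth.Agent.SubSh14.ResidualForward
import Groth.Agent.SubSh14.TensorJacobson

set_option autoImplicit false
universe u
open scoped TensorProduct
open EGA4loc

namespace Groth.Agent.S16450

open IsLocalRing in
/-- Let A be an excellent reduced local ring with maximal ideal m and residue field k, S a strict
henselization of A with total ring of fractions K, and D an A-subalgebra of S which is a local ring
dominated by S (local inclusion) and whose total ring of fractions is finitely generated over that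
of A. Inside K, let A' and D' be the normalizations of A and of D: the elements of K integral over A
(resp. over D) which are carried into A (resp. into D) by the image of some non-zero-divisor of A;
so A' ⊆ D', and let ι : D → D' be the inclusion. Then D is an essentially etale local A-algebra if
and only if D' has finitely many maximal ideals and the canonical map A' ⊗_A D → D'/Rad(D') is
surjective with kernel the ideal generated by Rad(A') ⊗ D and A' ⊗ m_D — in other words the residual
field products satisfy (A'/Rad A') ⊗_k (D/m_D) ≅ D'/Rad(D') via the canonical maps. -/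
theorem result
    (A S : Type u) [CommRing A] [IsLocalRing A] [IsReduced A] (hA : EGA4.IsExcellent A)
    [CommRing S] [IsLocalRing S] [Algebra A S] [IsLocalHom (algebraMap A S)]
    [Hensel.IsStrictHenselization A S] (D : Subalgebra A S) [IsLocalRing D]
    [IsLocalHom (algebraMap D S)]
    (hfg : ∃ t : Finset (FractionRing D), ∀ x : FractionRing D, ∃ a ∈ nonZeroDivisors A,
      algebraMap A (FractionRing D) a * x ∈ Algebra.adjoin A (t : Set (FractionRing D)))
    (A' D' : Subalgebra A (FractionRing S))
    (hA' : ∀ x : (FractionRing S), x ∈ A' ↔ (IsIntegral A x ∧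
      ∃ a ∈ nonZeroDivisors A, ∃ b : A, algebraMap A (FractionRing S) a * x = algebraMap A (FractionRing S) b))
    (hD' : ∀ x : (FractionRing S), x ∈ D' ↔ (IsIntegral D x ∧
      ∃ a ∈ nonZeroDivisors A, ∃ d ∈ D, algebraMap A (FractionRing S) a * x = algebraMap S (FractionRing S) d))
    (hle : A' ≤ D') (ι : D →ₐ[A] D') (hι : ∀ d : D, (ι d : (FractionRing S)) = algebraMap S (FractionRing S) d) :
    EGA4loc.IsEssentiallyEtale A D ↔
      ({N : Ideal D' | N.IsMaximal}.Finite ∧
        Function.Surjective ((Ideal.Quotient.mkₐ A (Ideal.jacobson (⊥ : Ideal D'))).comp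
          (Algebra.TensorProduct.productMap (Subalgebra.inclusion hle) ι)) ∧
        RingHom.ker ((Ideal.Quotient.mkₐ A (Ideal.jacobson (⊥ : Ideal D'))).comp
          (Algebra.TensorProduct.productMap (Subalgebra.inclusion hle) ι)) =
          (Ideal.jacobson (⊥ : Ideal A')).map
              (Algebra.TensorProduct.includeLeft : A' →ₐ[A] A' ⊗[A] D) ⊔
            (maximalIdeal D).map
              (Algebra.TensorProduct.includeRight : D →ₐ[A] A' ⊗[A] D)) := by
  classical
  have : IsNoetherianRing A := hA.1
  have hG := hA.2.2.1
  constructor
  · intro hD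
    obtain ⟨hbij, hfinD, hint, hfinA⟩ := SubSh14.bijective_productMap hG D A' D' hA' hD' hle ι hι hD
    refine ⟨hfinD, ?_, ?_⟩
    · rw [AlgHom.coe_comp]
      exact (Ideal.Quotient.mkₐ_surjective A _).comp hbij.2
    · rw [← SubSh14.jacobson_tensor_eq hD A' hfinA]
      rw [show RingHom.ker ((Ideal.Quotient.mkₐ A (Ideal.jacobson (⊥ : Ideal D'))).comp
          (Algebra.TensorProduct.productMap (Subalgebra.inclusion hle) ι)) =
        (Ideal.jacobson (⊥ : Ideal D')).comap (Algebra.TensorProduct.productMap (Subalgebra.inclusion hle) ι).toRingHom from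
          Ideal.ext fun x => Ideal.Quotient.eq_zero_iff_mem]
      let e := AlgEquiv.ofBijective _ hbij
      ext x
      change e x ∈ Ideal.jacobson (⊥ : Ideal D') ↔ _
      rw [Ideal.mem_jacobson_bot]
      refine Iff.trans ?_ (Ideal.mem_jacobson_bot (R := A' ⊗[A] D)).symm
      refine ⟨fun h y => (MulEquiv.isUnit_map e.toMulEquiv).1 ?_, fun h y => ?_⟩
      · change IsUnit (e (x * y + 1))
        rw [map_add, map_mul, map_one]
        exact h (e y)
      · obtain ⟨y, rfl⟩ := e.surjective y
        rw [← map_mul, ← map_one e, ← map_add]
        exact (h y).map e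
  · rintro ⟨hfin, hsurj, -⟩
    refine SubSh14.essEtale_of_residual hG D A' D' hA' hD' (fun x => ?_) hfg hfin
    obtain ⟨t, ht⟩ := hsurj (Ideal.Quotient.mkₐ A _ x)
    refine ⟨Algebra.TensorProduct.productMap (Subalgebra.inclusion hle) ι t, ?_, (Ideal.Quotient.eq).1 ht.symm⟩
    clear ht
    induction t using TensorProduct.induction_on with
    | zero => rw [map_zero]; exact zero_mem _
    | add a b ha hb => rw [map_add]; exact add_mem ha hb
    | tmul a d =>
      rw [Algebra.TensorProduct.productMap_apply_tmul, MulMemClass.coe_mul, hι]
      exact mul_mem (Algebra.subset_adjoin (Or.inl a.2)) (Algebra.subset_adjoin (Or.inr ⟨d, d.2, rfl⟩))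

end Groth.Agent.S16450
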