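import Groth.Statements.S16452
import Groth.Agent.AdicGr29.Basic
-- import your own Groth.Agent.* helpers here

set_option autoImplicit false
universe u
open CAlg

namespace Groth.Agent.S16452

/-- Let R → S be formally étale and J an ideal of S such that the composite R → S → S/J is surjective;
let I ⊆ R be its kernel, the preimage of J in R. Then the homomorphism of associated graded rings ⊕ₙ
Iⁿ/Iⁿ⁺¹ → ⊕ₙ Jⁿ/Jⁿ⁺¹ induced by R → S (which carries I into J) is bijective. -/
theorem result (R : Type u) [CommRing R] (S : Type u)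
    [CommRing S] [Algebra R S] [Algebra.FormallyEtale R S] (J : Ideal S)
    (hJ : Function.Surjective (algebraMap R (S ⧸ J))) :
    Function.Bijective (AssocGr.map (AssocGr.IsFiltHom.adic
      (Ideal.map_comap_le : (J.comap (algebraMap R S)).map (algebraMap R S) ≤ J))) := by
  set I := J.comap (algebraMap R S)
  set φ := algebraMap R S
  let f0 : (R ⧸ I) →ₐ[R] S ⧸ J := Ideal.Quotient.liftₐ I (Algebra.ofId R (S ⧸ J)) fun a ha =>
    Ideal.Quotient.eq_zero_iff_mem.2 ha
  have hf0 : Function.Bijective f0 := by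
    refine ⟨(injective_iff_map_eq_zero f0).2 fun x hx => ?_, fun y => ?_⟩
    · obtain ⟨a, rfl⟩ := Ideal.Quotient.mk_surjective x
      exact Ideal.Quotient.eq_zero_iff_mem.2 ((Ideal.Quotient.eq_zero_iff_mem (I := J) (a := φ a)).1 hx)
    · obtain ⟨a, rfl⟩ := hJ y
      exact ⟨Ideal.Quotient.mk I a, rfl⟩
  let e0 : S →ₐ[R] R ⧸ I := ((AlgEquiv.ofBijective f0 hf0).symm.toAlgHom).comp (Ideal.Quotient.mkₐ R J)
  have retr : ∀ n : ℕ, ∃ ψ : S →ₐ[R] R ⧸ I ^ (n + 1),
      ∀ s, Ideal.Quotient.factor (Ideal.pow_le_self n.succ_ne_zero : I ^ (n + 1) ≤ I) (ψ s) = e0 s := by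
    intro n
    let π : (R ⧸ I ^ (n + 1)) →ₐ[R] R ⧸ I := Ideal.Quotient.factorₐ R (Ideal.pow_le_self n.succ_ne_zero)
    have hπs : Function.Surjective π := Ideal.Quotient.factor_surjective (Ideal.pow_le_self n.succ_ne_zero)
    have hπn : IsNilpotent (RingHom.ker (π : (R ⧸ I ^ (n + 1)) →+* R ⧸ I)) := by
      refine ⟨n + 1, eq_bot_iff.mpr ?_⟩
      have hker : RingHom.ker (π : (R ⧸ I ^ (n + 1)) →+* R ⧸ I) ≤ I.map (Ideal.Quotient.mk _) := by
        intro z hz
        obtain ⟨a, rfl⟩ := Ideal.Quotient.mk_surjective z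
        exact Ideal.mem_map_of_mem _ (Ideal.Quotient.eq_zero_iff_mem.mp hz)
      refine (Ideal.pow_right_mono hker _).trans ?_
      rw [← Ideal.map_pow, Ideal.map_quotient_self]
    exact ⟨Algebra.FormallySmooth.liftOfSurjective e0 π hπs hπn,
      fun s => Algebra.FormallySmooth.liftOfSurjective_apply _ π hπs hπn s⟩
  have he0J : ∀ s ∈ J, e0 s = 0 := fun s hs => by
    show (AlgEquiv.ofBijective f0 hf0).symm (Ideal.Quotient.mk J s) = 0
    rw [Ideal.Quotient.eq_zero_iff_mem.2 hs, map_zero]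
  have hinj : ∀ n, ∀ a, φ a ∈ J ^ (n + 1) → a ∈ I ^ (n + 1) := by
    intro n a ha
    obtain ⟨ψ, hψ⟩ := retr n
    have hle : J.map ψ.toRingHom ≤ I.map (Ideal.Quotient.mk (I ^ (n + 1))) := by
      rw [Ideal.map_le_iff_le_comap]
      intro s hs
      obtain ⟨b, hb⟩ := Ideal.Quotient.mk_surjective (ψ s)
      show ψ s ∈ I.map (Ideal.Quotient.mk (I ^ (n + 1)))
      rw [← hb]
      refine Ideal.mem_map_of_mem _ (Ideal.Quotient.eq_zero_iff_mem.1 ?_)
      rw [← he0J s hs, ← hψ, ← hb]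
      rfl
    have h1 := Ideal.mem_map_of_mem ψ.toRingHom ha
    rw [Ideal.map_pow] at h1
    have h2 := Ideal.pow_right_mono hle (n + 1) h1
    rw [← Ideal.map_pow, Ideal.map_quotient_self, Ideal.mem_bot] at h2
    rw [← Ideal.Quotient.eq_zero_iff_mem]
    exact (ψ.commutes a).symm.trans h2
  have hgen : ∀ b ∈ J, ∃ a ∈ I, φ a - b ∈ J ^ 2 := by
    obtain ⟨ψ, hψ⟩ := retr 1
    have hle2 : I ^ 2 ≤ (J ^ 2).comap φ := Ideal.le_comap_pow φ 2
    let g : (R ⧸ I ^ 2) →ₐ[R] S ⧸ J ^ 2 := Ideal.Quotient.liftₐ _ (Algebra.ofId R (S ⧸ J ^ 2)) fun a ha =>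
      Ideal.Quotient.eq_zero_iff_mem.2 (hle2 ha)
    have hkn : IsNilpotent (RingHom.ker (Ideal.Quotient.factor (Ideal.pow_le_self two_ne_zero : J ^ 2 ≤ J))) := by
      refine ⟨2, eq_bot_iff.mpr ?_⟩
      have hker : RingHom.ker (Ideal.Quotient.factor (Ideal.pow_le_self two_ne_zero : J ^ 2 ≤ J)) ≤
          J.map (Ideal.Quotient.mk _) := by
        intro z hz
        obtain ⟨a, rfl⟩ := Ideal.Quotient.mk_surjective z
        exact Ideal.mem_map_of_mem _ (Ideal.Quotient.eq_zero_iff_mem.mp hz)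
      refine (Ideal.pow_right_mono hker _).trans ?_
      rw [← Ideal.map_pow, Ideal.map_quotient_self]
    have heq : g.comp ψ = Ideal.Quotient.mkₐ R (J ^ 2) := by
      refine Algebra.FormallyUnramified.lift_unique_of_ringHom _ hkn _ _ (RingHom.ext fun s => ?_)
      obtain ⟨a, ha⟩ := Ideal.Quotient.mk_surjective (ψ s)
      show Ideal.Quotient.factor (Ideal.pow_le_self two_ne_zero : J ^ 2 ≤ J) (g (ψ s)) = Ideal.Quotient.mk J s
      have h1 := congrArg f0 (hψ s)
      rw [show f0 (e0 s) = Ideal.Quotient.mk J s from (AlgEquiv.ofBijective f0 hf0).apply_symm_apply _,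
        ← ha] at h1
      rw [← ha]
      exact h1
    intro b hb
    obtain ⟨a, ha⟩ := Ideal.Quotient.mk_surjective (ψ b)
    have h1 : Ideal.Quotient.mk (J ^ 2) (φ a) = Ideal.Quotient.mk (J ^ 2) b :=
      (congrArg g ha).trans (AlgHom.congr_fun heq b)
    refine ⟨a, ?_, Ideal.Quotient.eq.1 h1⟩
    show φ a ∈ J
    have := add_mem (Ideal.pow_le_self two_ne_zero (Ideal.Quotient.eq.1 h1)) hb
    rwa [sub_add_cancel] at this
  have hsurj : ∀ n, ∀ b ∈ J ^ n, ∃ a ∈ I ^ n, φ a - b ∈ J ^ (n + 1) := by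
    intro n
    induction n with
    | zero =>
      intro b _
      obtain ⟨a, ha⟩ := hJ (Ideal.Quotient.mk J b)
      exact ⟨a, by simp, by rw [zero_add, pow_one]; exact Ideal.Quotient.eq.1 ha⟩
    | succ n ih =>
      intro b hb
      rw [pow_succ] at hb
      refine Submodule.mul_induction_on hb (fun u hu v hv => ?_) fun u v hu hv => ?_
      · obtain ⟨a, ha, hau⟩ := ih u hu
        obtain ⟨c, hc, hcv⟩ := hgen v hv
        refine ⟨a * c, by rw [pow_succ]; exact Ideal.mul_mem_mul ha hc, ?_⟩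
        have e : φ (a * c) - u * v = (φ a - u) * φ c + u * (φ c - v) := by rw [map_mul]; ring
        rw [e]
        refine add_mem ?_ ?_
        · rw [pow_succ]; exact Ideal.mul_mem_mul hau hc
        · rw [show n + 1 + 1 = n + 2 from rfl, pow_add]; exact Ideal.mul_mem_mul hu hcv
      · obtain ⟨a, ha, hau⟩ := hu
        obtain ⟨c, hc, hcv⟩ := hv
        exact ⟨a + c, add_mem ha hc, by rw [map_add, add_sub_add_comm]; exact add_mem hau hcv⟩
  exact ⟨Groth.Agent.AdicGr29.map_injective_of _ fun n a _ h => hinj n a h,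
    Groth.Agent.AdicGr29.map_surjective_of _ fun n b hb => hsurj n b hb⟩

end Groth.Agent.S16452
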