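import Groth.Statements.S16453
import Groth.Agent.AdicGr29.Basic

set_option autoImplicit false
universe u
open AdicGr

namespace Groth.Agent.S16453

/-- Let A be a commutative ring, I an ideal and Â the I-adic completion, filtered by the kernels Âₙ of
the projections Â → A/Iⁿ. Then the homomorphism of associated graded rings ⊕ₙ Iⁿ/Iⁿ⁺¹ → ⊕ₙ Âₙ/Âₙ₊₁
induced by the canonical map A → Â is bijective. No hypothesis on A or I is needed. (The published
statement is for an arbitrary filtered ring and also asserts the analogous isomorphism for a
compatibly filtered module; this row is the ring assertion for the filtration by the powers of one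
ideal.) -/
theorem result (A : Type u) [CommRing A] (I : Ideal A) :
    Function.Bijective (AssocGr.map (AssocGr.isFiltHom_kerFilt I)) := by
  refine ⟨Agent.AdicGr29.map_injective_of _ fun n a ha h => ?_,
    Agent.AdicGr29.map_surjective_of _ fun n b hb => ?_⟩
  · rw [AssocGr.mem_kerFilt_iff_val, AdicCompletion.algebraMap_apply, Algebra.algebraMap_self,
      RingHom.id_apply, AdicCompletion.of_apply, Submodule.mkQ_apply, Submodule.Quotient.mk_eq_zero,
      AssocGr.pow_smul_top] at h
    exact h
  · obtain ⟨a, ha⟩ := Ideal.Quotient.mk_surjective (b.val (n + 1))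
    refine ⟨a, ?_, ?_⟩
    · rw [AssocGr.mem_kerFilt_iff_val] at hb
      have h1 := AdicCompletion.transitionMap_comp_eval_apply I A (Nat.le_succ n) b
      rw [← ha, hb] at h1
      change Ideal.Quotient.mk (I ^ n • ⊤ : Ideal A) a = 0 at h1
      rw [Ideal.Quotient.eq_zero_iff_mem, AssocGr.pow_smul_top] at h1
      exact h1
    · rw [AssocGr.mem_kerFilt_iff_val, AdicCompletion.algebraMap_apply, Algebra.algebraMap_self,
        RingHom.id_apply, AdicCompletion.val_sub_apply, AdicCompletion.of_apply, Submodule.mkQ_apply,
        ← ha, sub_eq_zero]
      rfl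

end Groth.Agent.S16453
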