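import Groth.Statements.S16454
import Groth.Agent.Helper62.FlatNilCrit
import Mathlib.LinearAlgebra.TensorProduct.Quotient

set_option autoImplicit false
universe u
open TensorProduct
open EGA43

namespace Groth.Agent.S16454

/-- Let A be a commutative ring, I a nilpotent ideal of A and M an A-module, and form the associated
graded ring G = ⊕ₙ Iⁿ/Iⁿ⁺¹ and the associated graded G-module gr_I(M) = ⊕ₙ IⁿM/Iⁿ⁺¹M. Assume that
M/IM is flat over A/I and that the canonical homomorphism (M/IM) ⊗ G → gr_I(M), [x] ⊗ [a] ↦ [a·x],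
is injective: degree by degree, whenever elements a_i ∈ Iⁿ and x_i ∈ M satisfy Σ_i [a_i]·[x_i] = 0
in gr_I(M) (that is Σ a_i x_i ∈ Iⁿ⁺¹M), the element Σ_i [a_i] ⊗ [x_i] of (Iⁿ/Iⁿ⁺¹) ⊗ (M/IM) is zero.
Then M is a flat A-module. (The published lemma is stated for any finite decreasing multiplicative
filtration A = J₀ ⊇ J₁ ⊇ … ⊇ J_N₊₁ = 0 of A with M filtered by the submodules JₙM; this row is its
case Jₙ = Iⁿ.) -/
theorem result (A : Type u) [CommRing A] (I : Ideal A)
    (hI : IsNilpotent I) (M : Type u) [AddCommGroup M] [Module A M]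
    (hflat : Module.Flat (A ⧸ I) (M ⧸ (I • (⊤ : Submodule A M))))
    (hinj : ∀ (n k : ℕ) (a : Fin k → ↥((FiltBl.IdealFiltration.adic I).F n))
      (x : Fin k → ↥((Rees.powFilt I M).N 0)),
      (∑ i, (AssocGr.inDeg (FiltBl.IdealFiltration.adic I) n (a i) :
          AssocGr.GrRing (FiltBl.IdealFiltration.adic I)) •
        (AssocGr.inDegM (Rees.powFilt I M) 0 (x i) : AssocGr.GrMod (Rees.powFilt I M))) = 0 →
      (∑ i, (AssocGr.inDeg (FiltBl.IdealFiltration.adic I) n (a i)) ⊗ₜ[A]
          (Submodule.Quotient.mk (x i : M)) :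
        ↥(AssocGr.gr (FiltBl.IdealFiltration.adic I) n) ⊗[A] (M ⧸ (I • (⊤ : Submodule A M)))) = 0) :
    Module.Flat A M := by
  classical
  obtain ⟨N, hN⟩ := hI
  haveI : Module.Flat (A ⧸ I) ((A ⧸ I) ⊗[A] M) := by
    refine Module.Flat.of_linearEquiv
      (LinearEquiv.extendScalarsOfSurjective Ideal.Quotient.mk_surjective (TensorProduct.quotTensorEquivQuotSMul M I))
  refine FlatNilCrit62.flat_of_nilpotent_injective ⟨N, hN⟩ M ?_
  rw [injective_iff_map_eq_zero]
  intro t ht
  let 𝓕 := FiltBl.IdealFiltration.adic I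
  let F := Rees.powFilt I M
  have hle : ∀ n, 1 ≤ n → (I ^ n : Ideal A) ≤ I := fun n hn => Ideal.pow_le_self (by omega)
  have hmem : ∀ x : M, x ∈ F.N 0 := fun x => by
    show x ∈ I ^ 0 • (⊤ : Submodule A M)
    simp
  have step : ∀ n, (hn : 1 ≤ n) → t ∈ LinearMap.range ((Submodule.inclusion (hle n hn)).rTensor M) →
      t ∈ LinearMap.range ((Submodule.inclusion (hle (n + 1) (by omega))).rTensor M) := by
    rintro n hn ⟨s, rfl⟩
    let ι : ↥(I ^ (n + 1)) →ₗ[A] ↥(I ^ n) := Submodule.inclusion (Ideal.pow_le_pow_right (Nat.le_succ n))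
    let inD : ↥(I ^ n) →ₗ[A] ↥(AssocGr.gr 𝓕 n) := AssocGr.inDeg 𝓕 n
    have hexI : Function.Exact ι inD := fun a => by
      refine (AssocGr.inDeg_eq_zero_iff 𝓕 n a).trans ⟨fun h => ⟨⟨_, h⟩, rfl⟩, ?_⟩
      rintro ⟨b, rfl⟩
      exact b.2
    have hexM : Function.Exact (I • (⊤ : Submodule A M)).subtype (I • (⊤ : Submodule A M)).mkQ :=
      LinearMap.exact_subtype_mkQ _
    have hker := TensorProduct.map_ker hexI (AssocGr.inDeg_surjective 𝓕 n) hexM
      (Submodule.mkQ_surjective (I • (⊤ : Submodule A M)))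
    obtain ⟨k, a, x, hs⟩ : ∃ (k : ℕ) (a : Fin k → ↥(I ^ n)) (x : Fin k → M), s = ∑ i, a i ⊗ₜ[A] x i := by
      obtain ⟨S, hS⟩ := TensorProduct.exists_finset s
      refine ⟨S.card, fun i => (S.equivFin.symm i).1.1, fun i => (S.equivFin.symm i).1.2, ?_⟩
      rw [hS, Equiv.sum_comp S.equivFin.symm (fun q : ↥S => q.1.1 ⊗ₜ[A] q.1.2), Finset.sum_coe_sort S (fun q => q.1 ⊗ₜ[A] q.2)]
    have h0 : ∑ i, ((a i : A)) • x i = 0 := by
      have := congrArg (TensorProduct.lid A M) ht
      rw [← LinearMap.rTensor_comp_apply, hs, map_sum, map_sum, map_zero] at this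
      simpa using this
    have hgr : ∑ i, (AssocGr.inDeg 𝓕 n (a i) : AssocGr.GrRing 𝓕) •
        (AssocGr.inDegM F 0 ⟨x i, hmem (x i)⟩ : AssocGr.GrMod F) = 0 := by
      rw [Finset.sum_congr rfl fun i _ => AssocGr.inDeg_smul_inDegM F n 0 (a i) ⟨x i, hmem (x i)⟩]
      rw [← AddSubgroup.val_finsetSum, ← map_sum]
      refine Eq.trans (congrArg (fun z => ((AssocGr.inDegM F (n + 0) z : _) : AssocGr.GrMod F)) ?_)
        (by rw [map_zero, ZeroMemClass.coe_zero])
      apply Subtype.ext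
      rw [AddSubmonoidClass.coe_finsetSum]
      exact h0
    have hz : TensorProduct.map inD (I • (⊤ : Submodule A M)).mkQ s = 0 := by
      rw [hs, map_sum]
      exact hinj n k a (fun i => ⟨x i, hmem (x i)⟩) hgr
    have hs' : s ∈ LinearMap.range ((I • (⊤ : Submodule A M)).subtype.lTensor ↥(I ^ n)) ⊔
        LinearMap.range (ι.rTensor M) := hker ▸ hz
    obtain ⟨u, ⟨u', rfl⟩, v, ⟨v', rfl⟩, rfl⟩ := Submodule.mem_sup.mp hs'
    rw [map_add]
    refine Submodule.add_mem _ ?_ ⟨v', by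
      rw [← LinearMap.rTensor_comp_apply]; rfl⟩
    clear hz hs' hgr h0 hs ht
    induction u' using TensorProduct.induction_on with
    | zero => simp
    | add a b ha hb => rw [map_add, map_add]; exact Submodule.add_mem _ ha hb
    | tmul b y =>
      rw [LinearMap.lTensor_tmul, Submodule.subtype_apply]
      refine Submodule.smul_induction_on (p := fun y => (Submodule.inclusion (hle n hn)).rTensor M (b ⊗ₜ[A] y) ∈
        LinearMap.range ((Submodule.inclusion (hle (n + 1) (by omega))).rTensor M)) y.2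
        (fun c hc z _ => ?_) (fun z w hz hw => ?_)
      · refine ⟨⟨c * b, by rw [pow_succ']; exact Ideal.mul_mem_mul hc b.2⟩ ⊗ₜ z, ?_⟩
        rw [TensorProduct.tmul_smul, map_smul, LinearMap.rTensor_tmul, LinearMap.rTensor_tmul,
          TensorProduct.smul_tmul']
        exact congrArg (fun q => q ⊗ₜ[A] z) (Subtype.ext rfl)
      · rw [TensorProduct.tmul_add, map_add]; exact Submodule.add_mem _ hz hw
  have all : ∀ n, (hn : 1 ≤ n) → t ∈ LinearMap.range ((Submodule.inclusion (hle n hn)).rTensor M) := by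
    intro n hn
    induction n, hn using Nat.le_induction with
    | base =>
      refine LinearMap.rTensor_surjective M (g := Submodule.inclusion (hle 1 le_rfl)) ?_ t
      exact fun z => ⟨⟨z.1, by rw [pow_one]; exact z.2⟩, Subtype.ext rfl⟩
    | succ n hn ih => exact step n hn ih
  obtain ⟨s, rfl⟩ := all (N + 1) (by omega)
  have : Submodule.inclusion (hle (N + 1) (by omega)) = 0 := LinearMap.ext fun z => Subtype.ext (by
    refine (Submodule.mem_bot A).mp (show (z : A) ∈ (⊥ : Ideal A) from ?_)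
    rw [← show I ^ (N + 1) = ⊥ by rw [pow_succ, hN, zero_mul]; rfl]
    exact z.2)
  rw [this, LinearMap.rTensor_zero, LinearMap.zero_apply]

end Groth.Agent.S16454
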