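import Groth.Statements.S16455
import Mathlib.RingTheory.Flat.Basic

set_option autoImplicit false
universe u
open EGA4

namespace Groth.Agent.S16455

open DirectSum

/-- For a commutative ring A, an ideal I of A and an A-module M, the following are equivalent: every
quotient IⁿM/Iⁿ⁺¹M (n ≥ 0) is a flat A/I-module; the associated graded module gr_I(M) = ⊕ₙ
IⁿM/Iⁿ⁺¹M, as one module over A/I, is flat. Either condition says that M is normally flat along I.
(The source defines normal flatness for a coherent module on a locally Noetherian scheme through the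
second condition and notes it amounts to the first; the equivalence holds for every ring and
module.) -/
theorem result (A : Type u) [CommRing A] (I : Ideal A) (M : Type u)
    [AddCommGroup M] [Module A M] :
    EGA4.IsNormallyFlat I M ↔ Module.Flat (A ⧸ I) (AssocGr.GrMod (Rees.powFilt I M)) := by
  classical
  let F := Rees.powFilt I M
  let Q (n : ℕ) := ↥(F.N n) ⧸ (I • (⊤ : Submodule A ↥(F.N n)))
  have hN : ∀ n, F.N n = I ^ n • (⊤ : Submodule A M) := fun n => rfl
  have hQ : ∀ n (x : ↥(F.N n)),
      x ∈ I • (⊤ : Submodule A ↥(F.N n)) ↔ (x : M) ∈ F.N (n + 1) := fun n x => by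
    conv_lhs => rw [← Submodule.comap_map_eq_of_injective (f := (F.N n).subtype) Subtype.coe_injective (I • ⊤)]
    rw [Submodule.mem_comap,
      Submodule.map_smul'', Submodule.map_top, Submodule.range_subtype, Submodule.subtype_apply]
    have h : I • F.N n = F.N (n + 1) := by rw [hN (n + 1), pow_succ', ← smul_eq_mul, smul_assoc]; rfl
    rw [h]
  let mono (n : ℕ) : ↥(F.N n) →ₗ[A] AssocGr.GrMod F :=
    { toFun := fun x => AssocGr.mkGM F (AssocGr.monomM F n x)
      map_add' := fun a b => by
        rw [← map_add]; congr 1
        refine AssocGr.ReesM.ext F fun m => ?_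
        rw [AssocGr.ReesM.coeff_add, AssocGr.ReesM.coeff_monomM, AssocGr.ReesM.coeff_monomM, AssocGr.ReesM.coeff_monomM]
        rcases eq_or_ne n m with h | h
        · simp only [if_pos h]; rfl
        · simp only [if_neg h, add_zero]
      map_smul' := fun c a => by
        rw [RingHom.id_apply, ← map_smul]; congr 1
        refine AssocGr.ReesM.ext F fun m => ?_
        rw [AssocGr.ReesM.coeff_smul_base, AssocGr.ReesM.coeff_monomM, AssocGr.ReesM.coeff_monomM]
        rcases eq_or_ne n m with h | h
        · simp only [if_pos h]; rfl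
        · simp only [if_neg h, smul_zero] }
  let g (n : ℕ) : Q n →ₗ[A] AssocGr.GrMod F := Submodule.liftQ _ (mono n) (fun x hx => by
    refine (AssocGr.mkGM_eq_zero_iff F _).mpr fun m => ?_
    rw [AssocGr.ReesM.coeff_monomM]
    split_ifs with h
    · subst h; exact (hQ n x).mp hx
    · exact zero_mem _)
  let cf (m : ℕ) : AssocGr.ReesM F →ₗ[A] F.N m :=
      { toFun := fun y => (⟨AssocGr.ReesM.coeff F y m, AssocGr.ReesM.coeff_mem F y m⟩ : F.N m)
        map_add' := fun a b => Subtype.ext (AssocGr.ReesM.coeff_add F a b m)
        map_smul' := fun c a => Subtype.ext (AssocGr.ReesM.coeff_smul_base F c a m) }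
  let co (m : ℕ) : AssocGr.ReesM F →ₗ[A] Q m := (Submodule.mkQ _).comp (cf m)
  have hco : ∀ m, ∀ y, AssocGr.mkGM F y = 0 → co m y = 0 := fun m y hy =>
    (Submodule.Quotient.mk_eq_zero _).mpr ((hQ m _).mpr ((AssocGr.mkGM_eq_zero_iff F y).mp hy m))
  let G := toModule A ℕ (AssocGr.GrMod F) g
  have hinj : Function.Injective G := by
    rw [injective_iff_map_eq_zero]
    intro d hd
    obtain ⟨y, hy, hym⟩ : ∃ y, AssocGr.mkGM F y = G d ∧ ∀ m, co m y = d m := by
      clear hd
      induction d using DirectSum.induction_on with
      | zero => exact ⟨0, by simp, by simp⟩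
      | of n q =>
        induction q using Submodule.Quotient.induction_on with
        | H x =>
          refine ⟨AssocGr.monomM F n x, ?_, fun m => ?_⟩
          · rw [← DirectSum.lof_eq_of A]; simp [G, g, mono]; rfl
          · rcases eq_or_ne n m with rfl | h
            · rw [DirectSum.of_eq_same]
              refine congrArg (Submodule.mkQ _) (Subtype.ext ?_)
              show AssocGr.ReesM.coeff F _ _ = _
              rw [AssocGr.ReesM.coeff_monomM, if_pos rfl]
            · rw [DirectSum.of_eq_of_ne _ _ _ h.symm]
              show Submodule.mkQ _ _ = 0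
              rw [show (0 : Q m) = Submodule.mkQ _ 0 from (map_zero _).symm]
              refine congrArg (Submodule.mkQ _) (Subtype.ext ?_)
              show AssocGr.ReesM.coeff F _ _ = _
              rw [AssocGr.ReesM.coeff_monomM, if_neg h]; rfl
      | add a b ha hb =>
        obtain ⟨y, hy, hy'⟩ := ha
        obtain ⟨z, hz, hz'⟩ := hb
        exact ⟨y + z, by rw [map_add, map_add, hy, hz], fun m => by rw [map_add, hy', hz']; rfl⟩
    refine DirectSum.ext (β := fun n => Q n) fun m => ?_
    rw [← hym m, hco m y (hy.trans hd)]; rfl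
  have hsurj : Function.Surjective G := fun z => by
    obtain ⟨y, rfl⟩ := AssocGr.mkGM_surjective F z
    rw [← AssocGr.sum_termM F y, map_sum]
    exact ⟨∑ n ∈ ((AssocGr.toReesM F).symm y : PolynomialModule A M).coeff.support,
      lof A ℕ Q n (co n y), by
        rw [map_sum]; refine Finset.sum_congr rfl fun n _ => ?_
        rw [toModule_lof]; rfl⟩
  let e : (⨁ n, Q n) ≃ₗ[A ⧸ I] AssocGr.GrMod F :=
    { (LinearEquiv.ofBijective G ⟨hinj, hsurj⟩).toAddEquiv with
      map_smul' := fun c d => by
        obtain ⟨a, rfl⟩ := Ideal.Quotient.mk_surjective c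
        show G (Ideal.Quotient.mk I a • d) = Ideal.Quotient.mk I a • G d
        rw [← Ideal.Quotient.algebraMap_eq, algebraMap_smul, algebraMap_smul, map_smul] }
  show (∀ n, Module.Flat (A ⧸ I) (Q n)) ↔ Module.Flat (A ⧸ I) (AssocGr.GrMod F)
  rw [← Module.Flat.directSum_iff, Module.Flat.equiv_iff e]

end Groth.Agent.S16455
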