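import Groth.Statements.S16456
import Groth.Agent.AdicGr29.Basic

set_option autoImplicit false
universe u
open AdicGr

namespace Groth.Agent.S16456

/-- Let φ : A → B be a ring homomorphism, I ⊆ A and J ⊆ B ideals with φ(I)B ⊆ J, so that φ is a
homomorphism of filtered rings for the I-adic and J-adic filtrations. Assume that A is I-adically
complete in the sense that every I-adically Cauchy sequence has a limit, that B is J-adically
separated, and that the induced homomorphism of associated graded rings ⊕ₙ Iⁿ/Iⁿ⁺¹ → ⊕ₙ Jⁿ/Jⁿ⁺¹ is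
surjective. Then φ is surjective, φ is strict (Jⁿ = φ(Iⁿ)B for all n, that is J = φ(I)B), and B is
J-adically separated and complete. (The published statement is for a homomorphism of filtered
modules over a filtered ring, with arbitrary compatible filtrations; this row is its case of a ring
homomorphism with adic filtrations.) -/
theorem result (A : Type u) [CommRing A] (B : Type u)
    [CommRing B] (φ : A →+* B) (I : Ideal A) (J : Ideal B) (hIJ : I.map φ ≤ J)
    [IsPrecomplete I A] [IsHausdorff J B]
    (h : Function.Surjective (AssocGr.map (AssocGr.IsFiltHom.adic hIJ))) :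
    Function.Surjective φ ∧ I.map φ = J ∧ IsAdicComplete J B := by
  have happ := fun n (b : B) (hb : b ∈ J ^ n) =>
    Agent.AdicGr29.exists_of_map_surjective _ h n b hb
  have lift : ∀ m, ∀ b ∈ J ^ m, ∃ a ∈ I ^ m, φ a = b := by
    intro m b hb
    have step : ∀ k (c : ↥(J ^ (m + k))), ∃ a ∈ I ^ (m + k), (c : B) - φ a ∈ J ^ (m + (k + 1)) := by
      intro k c
      obtain ⟨a, ha, ha'⟩ := happ (m + k) c c.2
      refine ⟨a, ha, ?_⟩
      rw [← neg_sub]
      exact neg_mem ha'
    choose a haI haJ using step
    let z : (k : ℕ) → ↥(J ^ (m + k)) := fun k =>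
      Nat.rec ⟨b, hb⟩ (fun k z => ⟨(z : B) - φ (a k z), haJ k z⟩) k
    have hz : ∀ k, b - φ (∑ j ∈ Finset.range k, a j (z j)) = (z k).1 := by
      intro k
      induction k with
      | zero => simp [z]
      | succ k ih =>
        rw [Finset.sum_range_succ, map_add, ← sub_sub, ih]
    obtain ⟨L, hL⟩ := Agent.AdicGr29.exists_limit I (fun k => ∑ j ∈ Finset.range k, a j (z j))
      fun k => by
        rw [Finset.sum_range_succ, add_sub_cancel_left]
        exact Ideal.pow_le_pow_right (Nat.le_add_left k m) (haI k (z k))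
    refine ⟨L, ?_, ?_⟩
    · have h1 := hL m
      have h2 : ∑ j ∈ Finset.range m, a j (z j) ∈ I ^ m :=
        Ideal.sum_mem _ fun j _ => Ideal.pow_le_pow_right (Nat.le_add_right m j) (haI j (z j))
      simpa using Ideal.sub_mem _ h2 h1
    · refine (sub_eq_zero.mp (IsHausdorff.haus (I := J) (M := B) inferInstance (b - φ L)
        fun k => ?_)).symm
      rw [SModEq.zero, Agent.AdicGr29.pow_smul_top_eq]
      have e : b - φ L = (z k).1 + φ (∑ j ∈ Finset.range k, a j (z j) - L) := by
        rw [← hz k, map_sub, sub_add_sub_cancel]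
      rw [e]
      refine add_mem (Ideal.pow_le_pow_right (Nat.le_add_left k m) (z k).2) ?_
      have := Ideal.mem_map_of_mem φ (hL k)
      rw [Ideal.map_pow] at this
      exact Ideal.pow_right_mono hIJ k this
  have hsurj : Function.Surjective φ := fun b => by
    obtain ⟨a, -, ha⟩ := lift 0 b (by rw [pow_zero, Ideal.one_eq_top]; trivial)
    exact ⟨a, ha⟩
  refine ⟨hsurj, le_antisymm hIJ fun b hb => ?_, { prec' := fun {f} hf => ?_ }⟩
  · obtain ⟨a, ha, rfl⟩ := lift 1 b (by rwa [pow_one])
    rw [pow_one] at ha
    exact Ideal.mem_map_of_mem φ ha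
  · have hd : ∀ n, f (n + 1) - f n ∈ J ^ n := fun n => by
      have := (hf (Nat.le_succ n)).symm
      rwa [SModEq.sub_mem, Agent.AdicGr29.pow_smul_top_eq] at this
    choose c hc hc' using fun n => lift n _ (hd n)
    obtain ⟨a₀, ha₀⟩ := hsurj (f 0)
    obtain ⟨L, hL⟩ := Agent.AdicGr29.exists_limit I (fun k => a₀ + ∑ j ∈ Finset.range k, c j)
      fun k => by
        rw [Finset.sum_range_succ, add_sub_add_left_eq_sub, add_sub_cancel_left]
        exact hc k
    refine ⟨φ L, fun n => ?_⟩
    have e : f n = φ (a₀ + ∑ j ∈ Finset.range n, c j) := by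
      rw [map_add, map_sum, ha₀, Finset.sum_congr rfl fun j _ => hc' j, Finset.sum_range_sub,
        add_sub_cancel]
    rw [SModEq.sub_mem, Agent.AdicGr29.pow_smul_top_eq, e, ← map_sub]
    have := Ideal.mem_map_of_mem φ (hL n)
    rw [Ideal.map_pow] at this
    exact Ideal.pow_right_mono hIJ n this

end Groth.Agent.S16456
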