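import Groth.Statements.S16459
import Groth.Agent.AdicGr29.Basic

set_option autoImplicit false
universe u
open AdicGr

namespace Groth.Agent.S16459

/-- Let A be a commutative ring and I an ideal such that every I-adically Cauchy sequence in A has a
limit, and let M be an A-module with an I-filtration M = N₀ ⊇ N₁ ⊇ … (I·Nₙ ⊆ Nₙ₊₁) which is
separated, ⋂ₙ Nₙ = 0. If the associated graded module gr(M) = ⊕ₙ Nₙ/Nₙ₊₁ is a Noetherian module over
the associated graded ring ⊕ₙ Iⁿ/Iⁿ⁺¹, then M is a Noetherian A-module and every submodule M' of M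
is closed for the topology defined by the filtration, that is ⋂ₙ (M' + Nₙ) = M'. (The published
statement allows any complete filtered ring; this row takes the I-adic filtration on A.) -/
theorem result (A : Type u) [CommRing A]
    (I : Ideal A) [IsPrecomplete I A] (M : Type u) [AddCommGroup M] [Module A M] (F : I.Filtration M)
    (h0 : F.N 0 = ⊤) (hsep : ⨅ n, F.N n = ⊥)
    [IsNoetherian (AssocGr.GrRing (FiltBl.IdealFiltration.adic I)) (AssocGr.GrMod F)] :
    IsNoetherian A M ∧ ∀ M' : Submodule A M, ⨅ n, M' ⊔ F.N n = M' := by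
  have key : ∀ M' : Submodule A M, M'.FG ∧ ⨅ n, M' ⊔ F.N n = M' := by
    intro M'
    obtain ⟨t, ht, ht'⟩ := Agent.AdicGr29.exists_finset_sub F M'
      (IsNoetherian.noetherian (Agent.AdicGr29.subClasses F M'))
    let S : Submodule A M := ⨅ n, M' ⊔ F.N n
    have hM'S : M' ≤ S := le_iInf fun n => le_sup_left
    have hS : S ≤ Submodule.span A (Set.range fun i : t => (i.1.2 : M)) := by
      refine Agent.AdicGr29.le_span_of_approx F h0 hsep S (fun i : t => i.1.1) _ (fun i => i.1.2.2)
        (fun i => hM'S (ht _ i.2)) fun n y hyS hy => ?_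
      have h1 : y ∈ M' ⊔ F.N (n + 1) := (Submodule.mem_iInf _).mp hyS (n + 1)
      obtain ⟨m, hm, w, hw, rfl⟩ := Submodule.mem_sup.mp h1
      have hmn : m ∈ F.N n := by
        have := sub_mem hy (F.antitone (Nat.le_succ n) hw)
        rwa [add_sub_cancel_right] at this
      obtain ⟨a, ha, ha'⟩ := Agent.AdicGr29.approx_of_mem_span F _ (fun i : t => i.1.2) n ⟨m, hmn⟩
        (ht' (Agent.AdicGr29.inDegM_mem_subClasses F ⟨m, hmn⟩ hm))
      refine ⟨a, ha, ?_⟩
      rw [add_sub_right_comm]
      exact add_mem ha' hw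
    have hsp : Submodule.span A (Set.range fun i : t => (i.1.2 : M)) ≤ M' :=
      Submodule.span_le.mpr (Set.range_subset_iff.mpr fun i => ht _ i.2)
    refine ⟨?_, le_antisymm (hS.trans hsp) hM'S⟩
    rw [show M' = Submodule.span A (Set.range fun i : t => (i.1.2 : M)) from
      le_antisymm (hM'S.trans hS) hsp]
    exact Submodule.fg_span (Set.finite_range _)
  exact ⟨⟨fun M' => (key M').1⟩, fun M' => (key M').2⟩

end Groth.Agent.S16459
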