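import Groth.Statements.S16460
import Groth.Agent.AdicGr29.Basic

set_option autoImplicit false
universe u
open AdicGr

namespace Groth.Agent.S16460

/-- Let A be a commutative ring with a decreasing filtration by ideals A = F₀ ⊇ F₁ ⊇ F₂ ⊇ … satisfying
F_m·F_n ⊆ F_{m+n}, and assume the filtration is separated, ⋂ₙ Fₙ = 0. If the associated graded ring
⊕ₙ Fₙ/Fₙ₊₁ is an integral domain, then A is an integral domain. -/
theorem result (A : Type u) [CommRing A]
    (𝓕 : FiltBl.IdealFiltration A) (hsep : ⨅ n, 𝓕.F n = ⊥) [IsDomain (AssocGr.GrRing 𝓕)] :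
    IsDomain A := by
  have hnt : Nontrivial A := by
    by_contra hA
    rw [not_nontrivial_iff_subsingleton] at hA
    haveI : Subsingleton (AssocGr.GrRing 𝓕) := (AssocGr.mkG_surjective 𝓕).subsingleton
    exact false_of_nontrivial_of_subsingleton (AssocGr.GrRing 𝓕)
  have hdeg : ∀ a : A, a ≠ 0 → ∃ m, a ∈ 𝓕.F m ∧ a ∉ 𝓕.F (m + 1) := by
    intro a ha
    by_contra h
    push Not at h
    refine ha ?_
    have : a ∈ ⨅ n, 𝓕.F n := by
      rw [Submodule.mem_iInf]
      intro n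
      induction n with
      | zero => rw [𝓕.zero_eq]; trivial
      | succ n ih => exact h n ih
    rwa [hsep, Submodule.mem_bot] at this
  refine @NoZeroDivisors.to_isDomain A _ hnt ⟨fun {a b} hab => ?_⟩
  by_contra h
  push Not at h
  obtain ⟨m, hm, hm'⟩ := hdeg a h.1
  obtain ⟨n, hn, hn'⟩ := hdeg b h.2
  have hab' : (AssocGr.inDeg 𝓕 m ⟨a, hm⟩ : AssocGr.GrRing 𝓕) * AssocGr.inDeg 𝓕 n ⟨b, hn⟩ = 0 := by
    rw [AssocGr.coe_inDeg_mul, Submodule.coe_eq_zero, AssocGr.inDeg_eq_zero_iff]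
    simp [hab]
  rcases mul_eq_zero.mp hab' with h0 | h0
  · rw [Submodule.coe_eq_zero, AssocGr.inDeg_eq_zero_iff] at h0; exact hm' h0
  · rw [Submodule.coe_eq_zero, AssocGr.inDeg_eq_zero_iff] at h0; exact hn' h0

end Groth.Agent.S16460
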