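import Groth.Statements.S16462
import Groth.Agent.Mum71.HomologyCmp
import Groth.Agent.Mum71.HHApi
import Groth.Agent.GSS45.SchemeSS
import Groth.Agent.RD97.LES
import Groth.Agent.Coh69.RelVanish
import Groth.Agent.Coh69.Grothendieck
import Groth.Agent.S0030
-- import your own Groth.Agent.* helpers here

set_option autoImplicit false
set_option maxSynthPendingDepth 6
set_option linter.style.haveILetI false
set_option backward.isDefEq.respectTransparency.types false
universe u
open Coherent

namespace Groth.Agent.S16462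

open AlgebraicGeometry CategoryTheory Limits in
lemma isZero_of_toAb {Y : Scheme.{u}} {M : Y.Modules} (h : IsZero (Coh.toAb M)) : IsZero M := by
  have hz : IsZero ((SheafOfModules.toSheaf Y.ringCatSheaf).obj M) := h
  rw [IsZero.iff_id_eq_zero] at hz ⊢
  apply (SheafOfModules.toSheaf Y.ringCatSheaf).map_injective
  exact ((SheafOfModules.toSheaf Y.ringCatSheaf).map_id _).trans (hz.trans (Functor.map_zero _ _ _).symm)

variable {Y Z : AlgebraicGeometry.Scheme.{u}} (g : Y ⟶ Z)

open AlgebraicGeometry CategoryTheory Limits in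
/-- Modules without higher direct images along `g`. -/
def NoHigher (M : Y.Modules) : Prop := ∀ q : ℕ, IsZero ((Coh.Rpush g (q + 1)).obj M)

open AlgebraicGeometry CategoryTheory Limits in
lemma noHigher_qcoh [IsAffineHom g] (M : Y.Modules) [M.IsQuasicoherent] : NoHigher g M := fun q => by
  obtain ⟨e⟩ := Groth.Agent.GSS45.nonempty_toAb_Rpush g M (q + 1)
  exact isZero_of_toAb ((Groth.Agent.Coh69.isZero_RpushAb_of_isAffineHom g M q).of_iso e)

open AlgebraicGeometry CategoryTheory Limits in
lemma noHigher_flasque (M : Y.Modules) (hM : TopCat.Sheaf.IsFlasque (Coh.toAb M)) : NoHigher g M :=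
  fun q => by
  obtain ⟨e⟩ := Groth.Agent.GSS45.nonempty_toAb_Rpush g M (q + 1)
  refine isZero_of_toAb ((Groth.Agent.Coh69.isZero_RpushAb_of_subsingleton g _ _
    fun U y hy => ⟨U, le_rfl, hy, ?_⟩).of_iso e)
  exact @Groth.Agent.TopCoh49.subsingleton_E_of_isFlasque Y.toTopCat q _ hM (g ⁻¹ᵁ U)

open AlgebraicGeometry CategoryTheory Limits in
lemma adapted_epi (Δ : RDer.DerivedLES (Scheme.Modules.pushforward g)) {T : ShortComplex Y.Modules}
    (hT : T.ShortExact) (h : NoHigher g T.X₁) : Epi ((Scheme.Modules.pushforward g).map T.g) := by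
  let P := Scheme.Modules.pushforward g
  haveI : P.IsRightAdjoint := (Scheme.Modules.pullbackPushforwardAdjunction g).isRightAdjoint
  haveI : PreservesFiniteLimits P := inferInstance
  haveI : Epi ((P.rightDerived 0).map T.g) :=
    (Δ.exact₃ T hT 0 1 rfl).epi_f ((h 0).eq_of_tgt _ _)
  let e₂ := asIso (P.toRightDerivedZero.app T.X₂)
  let e₃ := asIso (P.toRightDerivedZero.app T.X₃)
  have h : P.map T.g = (e₂.hom ≫ (P.rightDerived 0).map T.g) ≫ e₃.inv :=
    (Iso.eq_comp_inv e₃).2 (P.toRightDerivedZero.naturality T.g)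
  rw [h]
  haveI : Epi (e₂.hom ≫ (P.rightDerived 0).map T.g) := epi_comp' (inferInstanceAs (Epi e₂.hom)) ‹_›
  exact epi_comp' this (inferInstanceAs (Epi e₃.inv))

open AlgebraicGeometry CategoryTheory Limits in
/-- The adapted class of modules without higher direct images. -/
def adapted (Δ : RDer.DerivedLES (Scheme.Modules.pushforward g)) :
    Groth.Agent.Mum71.AdaptedClass (Scheme.Modules.pushforward g) where
  P := NoHigher g
  congr e h q := (h q).of_iso ((Coh.Rpush g (q + 1)).mapIso e).symm
  epi hT h := adapted_epi g Δ hT h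
  quot {T} hT h₁ h₂ q :=
    (Δ.exact₃ T hT (q + 1) (q + 2) rfl).isZero_X₂ ((h₂ q).eq_of_src _ _) ((h₁ (q + 1)).eq_of_tgt _ _)
  ext {T} hT h₁ h₃ q :=
    (Δ.exact₂ T hT (q + 1)).isZero_X₂ ((h₁ q).eq_of_src _ _) ((h₃ q).eq_of_tgt _ _)



open CategoryTheory AlgebraicGeometry AlgebraicGeometry.Scheme.Modules in
/-- Let f : X → Y be a quasi-compact quasi-separated morphism of schemes, g : Y → Z an affine morphism
and M a quasi-coherent O_X-module. Then for every p ≥ 0 the canonical edge morphism R^p (g ∘ f)_* M
→ g_*(R^p f_* M) is an isomorphism (higher direct images as right derived functors of direct image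
on O-modules). (The published statement assumes f separated; this row assumes only f
quasi-separated.) -/
theorem result {X Y Z : Scheme.{u}} (f : X ⟶ Y) (g : Y ⟶ Z)
    [QuasiCompact f] [QuasiSeparated f] [IsAffineHom g] [HasInjectiveResolutions X.Modules]
    (M : X.Modules) [Coh.IsQCoh M] (p : ℕ) :
    IsIso (CohBC.lerayEdgeOut f g p M) := by
  obtain ⟨Δ⟩ := Groth.Agent.RD97.nonempty_derivedLES (Scheme.Modules.pushforward g)
  haveI : M.IsQuasicoherent := ‹Coh.IsQCoh M›
  let K := ((Scheme.Modules.pushforward f).mapHomologicalComplex (ComplexShape.up ℕ)).obj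
    (injectiveResolution M).cocomplex
  have hX : ∀ i, (adapted g Δ).P (K.X i) := fun i => by
    have hfl : TopCat.Sheaf.IsFlasque (Coh.toAb ((injectiveResolution M).cocomplex.X i)) :=
      @Groth.Agent.Mum71.isFlasque_of_injective _ _ ((injectiveResolution M).injective i)
    exact noHigher_flasque g _
      (@TopCat.Sheaf.IsFlasque.pushforward_isFlasque _ _ _ _ _ hfl f.base)
  have hH : ∀ i, (adapted g Δ).P (K.homology i) := fun i => by
    haveI : ((Coh.Rpush f i).obj M).IsQuasicoherent := Groth.Agent.S0030.result f M i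
    exact (adapted g Δ).congr ((injectiveResolution M).isoRightDerivedObj (Scheme.Modules.pushforward f) i)
      (noHigher_qcoh g _)
  have hK := Groth.Agent.Mum71.isIso_homologyComparison_of_adapted (adapted g Δ) hX hH p
  haveI : IsIso (RDer.edgeOut (Scheme.Modules.pushforward f) (Scheme.Modules.pushforward g) p M) := by
    unfold RDer.edgeOut
    exact IsIso.comp_isIso' inferInstance (IsIso.comp_isIso' hK
      ((Scheme.Modules.pushforward g).mapIso
        ((injectiveResolution M).isoRightDerivedObj (Scheme.Modules.pushforward f) p)).isIso_inv)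
  exact IsIso.comp_isIso' (((RDer.rightDerivedIso (Scheme.Modules.pushforwardComp f g) p).app M).isIso_inv)
    inferInstance

end Groth.Agent.S16462
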