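import Groth.Statements.S16470
import Groth.Agent.VB30.Basic


set_option autoImplicit false
universe u
open CategoryTheory CategoryTheory.Limits AlgebraicGeometry
open VBCurve

namespace Groth.Agent.S16470
set_option backward.isDefEq.respectTransparency.types false

/-- Let X be a smooth proper integral curve (integral, smooth and proper of dimension one) over an
algebraically closed field k and E a finite locally free O_X-module of rank r ≥ 1 (degree = χ −
rank·χ(O_X), slope = degree / rank). There is a finite locally free submodule E₁ ⊂ E (a monomorphism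
of O_X-modules) of some rank r₁ ≥ 1, the destabilising sub-bundle, such that: every finite locally
free submodule F ⊂ E of rank r' ≥ 1 has slope at most that of E₁ (deg F · r₁ ≤ deg E₁ · r'); and the
maximal slope drops in the quotient, i.e. every finite locally free submodule G of rank r' ≥ 1 of
the cokernel E/E₁ has deg G · r₁ < deg E₁ · r'. Moreover a submodule with these two properties is
unique: any two are the same subobject of E. (Such an E₁ is slope-semistable, every submodule of E₁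
being a submodule of E; the published statement lists semistability of E₁ as a third property, which
is therefore omitted here.) -/
theorem result (k : Type u) [Field k] [IsAlgClosed k] (X : Scheme.{u}) [X.Over (Spec (CommRingCat.of k))]
    [IsIntegral X] [IsProper (X ↘ Spec (CommRingCat.of k))] [Smooth (X ↘ Spec (CommRingCat.of k))]
    (hdim : topologicalKrullDim X = 1)
    (r : ℕ) (hr : 0 < r) (E : X.Modules) (hE : FlatMod.IsFinLocFreeOfRank r E) :
    (∃ (E₁ : X.Modules) (r₁ : ℕ) (i₁ : E₁ ⟶ E), Mono i₁ ∧ 0 < r₁ ∧ FlatMod.IsFinLocFreeOfRank r₁ E₁ ∧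
      (∀ (F : X.Modules) (r' : ℕ) (j : F ⟶ E), Mono j → 0 < r' → FlatMod.IsFinLocFreeOfRank r' F →
        Curv2.deg k X F r' * (r₁ : ℤ) ≤ Curv2.deg k X E₁ r₁ * (r' : ℤ)) ∧
      (∀ (Q : X.Modules) (s : ℕ) (j : Q ⟶ cokernel i₁), Mono j → 0 < s → FlatMod.IsFinLocFreeOfRank s Q →
        Curv2.deg k X Q s * (r₁ : ℤ) < Curv2.deg k X E₁ r₁ * (s : ℤ))) ∧
    (∀ (E₁ E₁' : X.Modules) (r₁ r₁' : ℕ) (i₁ : E₁ ⟶ E) (i₁' : E₁' ⟶ E),
      Mono i₁ → 0 < r₁ → FlatMod.IsFinLocFreeOfRank r₁ E₁ →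
      (∀ (F : X.Modules) (r' : ℕ) (j : F ⟶ E), Mono j → 0 < r' → FlatMod.IsFinLocFreeOfRank r' F →
        Curv2.deg k X F r' * (r₁ : ℤ) ≤ Curv2.deg k X E₁ r₁ * (r' : ℤ)) →
      (∀ (Q : X.Modules) (s : ℕ) (j : Q ⟶ cokernel i₁), Mono j → 0 < s → FlatMod.IsFinLocFreeOfRank s Q →
        Curv2.deg k X Q s * (r₁ : ℤ) < Curv2.deg k X E₁ r₁ * (s : ℤ)) →
      Mono i₁' → 0 < r₁' → FlatMod.IsFinLocFreeOfRank r₁' E₁' →
      (∀ (F : X.Modules) (r' : ℕ) (j : F ⟶ E), Mono j → 0 < r' → FlatMod.IsFinLocFreeOfRank r' F →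
        Curv2.deg k X F r' * (r₁' : ℤ) ≤ Curv2.deg k X E₁' r₁' * (r' : ℤ)) →
      (∀ (Q : X.Modules) (s : ℕ) (j : Q ⟶ cokernel i₁'), Mono j → 0 < s → FlatMod.IsFinLocFreeOfRank s Q →
        Curv2.deg k X Q s * (r₁' : ℤ) < Curv2.deg k X E₁' r₁' * (s : ℤ)) →
      ∃ e : E₁ ≅ E₁', e.hom ≫ i₁' = i₁) := by
  have hc := VB30.cur_of_smooth k X hdim
  have lE := VB30.isFinLocFree_of_rank hE
  constructor
  · obtain ⟨E₁, i₁, hi₁, l₁, p₁, hmax, hrk⟩ :=
      hc.exists_max lE (by rwa [VB30.rk_eq_of_isFinLocFreeOfRank hE])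
    have hE₁ := VB30.isFinLocFreeOfRank_rk l₁
    refine ⟨E₁, VB30.rk E₁, i₁, hi₁, p₁, hE₁, fun G r' j hj h0 hG => ?_, fun Q s j hj h0 hQ => ?_⟩
    · have lG := VB30.isFinLocFree_of_rank hG
      have eG := VB30.rk_eq_of_isFinLocFreeOfRank hG
      subst eG
      exact hmax G j hj h0 lG
    · have lQ := VB30.isFinLocFree_of_rank hQ
      rw [VB30.deg_eq_dg hQ, VB30.deg_eq_dg hE₁]
      have eQ := VB30.rk_eq_of_isFinLocFreeOfRank hQ
      subst eQ
      exact hc.quot_slope_lt i₁ lE l₁ p₁ hmax hrk j lQ h0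
  · intro E₁ E₁' r₁ r₁' i₁ i₁' hi h0 hE₁ ha hb hi' h0' hE₁' ha' hb'
    have l := VB30.isFinLocFree_of_rank hE₁
    have l' := VB30.isFinLocFree_of_rank hE₁'
    have e := VB30.rk_eq_of_isFinLocFreeOfRank hE₁
    have e' := VB30.rk_eq_of_isFinLocFreeOfRank hE₁'
    rw [VB30.deg_eq_dg hE₁] at ha hb
    rw [VB30.deg_eq_dg hE₁'] at ha' hb'
    subst e e'
    have hm : ∀ (G : X.Modules) (i : G ⟶ E), Mono i → 0 < VB30.rk G → FlatMod.IsFinLocFree G →
        VB30.dg k G * VB30.rk E₁ ≤ VB30.dg k E₁ * VB30.rk G := fun G i hi hG0 hG => by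
      have := ha G _ i hi hG0 (VB30.isFinLocFreeOfRank_rk hG)
      rwa [VB30.deg_eq_dg (VB30.isFinLocFreeOfRank_rk hG)] at this
    have hm' : ∀ (G : X.Modules) (i : G ⟶ E), Mono i → 0 < VB30.rk G → FlatMod.IsFinLocFree G →
        VB30.dg k G * VB30.rk E₁' ≤ VB30.dg k E₁' * VB30.rk G := fun G i hi hG0 hG => by
      have := ha' G _ i hi hG0 (VB30.isFinLocFreeOfRank_rk hG)
      rwa [VB30.deg_eq_dg (VB30.isFinLocFreeOfRank_rk hG)] at this
    obtain ⟨a, ha1⟩ := hc.fac_of_max i₁ i₁' lE l l' h0 h0' hm hm' fun Q j hj hQ0 hQ => by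
      have := hb' Q _ j hj hQ0 (VB30.isFinLocFreeOfRank_rk hQ)
      rwa [VB30.deg_eq_dg (VB30.isFinLocFreeOfRank_rk hQ)] at this
    obtain ⟨b, hb1⟩ := hc.fac_of_max i₁' i₁ lE l' l h0' h0 hm' hm fun Q j hj hQ0 hQ => by
      have := hb Q _ j hj hQ0 (VB30.isFinLocFreeOfRank_rk hQ)
      rwa [VB30.deg_eq_dg (VB30.isFinLocFreeOfRank_rk hQ)] at this
    exact VB30.mono_fac_iso a b ha1 hb1

end Groth.Agent.S16470
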