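import Groth.Statements.S16478
import Mathlib.RingTheory.TensorProduct.Basic
import Mathlib.LinearAlgebra.TensorProduct.Basis
import Mathlib.Data.Nat.Choose.Sum

set_option autoImplicit false
universe u
open GaDual
open scoped TensorProduct
open Module

namespace Groth.Agent.S16478

/-- Let A be a commutative ring of prime characteristic p and n ≥ 1, and let φ be the comorphism of the
closed immersion α_{p^n} → G_a over A: the bialgebra map from the Hopf algebra of the additive group
(generator t primitive) to A[x]/(x^(p^n)) (x primitive) sending t to x. Then the restriction map on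
characters, from those of the additive group over A to those of α_{p^n} over A, is surjective: every
group-like element of A[x]/(x^(p^n)) is the image under φ of a group-like element of the Hopf
algebra of the additive group. -/
theorem result (p : ℕ) [Fact p.Prime] (A : Type u) [CommRing A] [CharP A p]
    (n : ℕ) (hn : 1 ≤ n) (φ : SekSuwa.A A 0 →ₐc[A] AlphaPn.A p n A) (hφ : φ SekSuwa.A.t = AlphaPn.x p n A)
    (u : AlphaPn.A p n A) (hu : IsGroupLikeElem A u) :
    ∃ g : SekSuwa.A A 0, IsGroupLikeElem A g ∧ φ g = u := by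
  classical
  rcases subsingleton_or_nontrivial A with hA | hA
  · haveI : Subsingleton (AlphaPn.A p n A) := Module.subsingleton A _
    exact ⟨1, IsGroupLikeElem.one, Subsingleton.elim _ _⟩
  set q := p ^ n with hq
  have hq0 : 0 < q := pow_pos (Fact.out : p.Prime).pos n
  let bs := AlphaPn.basis p n A
  let a : ℕ → A := fun i => if h : i < q then bs.repr u ⟨i, h⟩ else 0
  have hu' : u = ∑ i ∈ Finset.range q, a i • AlphaPn.x p n A ^ i := by
    rw [Finset.sum_range]
    conv_lhs => rw [← bs.sum_repr u]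
    exact Finset.sum_congr rfl fun i _ => by simp [a, bs, hq, i.2]
  -- group-like sums
  let c : ℕ → ℕ → A := fun i j => (if i + j < q then ((i + j).choose i : A) * a (i + j) else 0) - a i * a j
  have key : ∀ {B : Type u} [CommRing B] [Algebra A B] (b : B),
      (∑ m ∈ Finset.range q, a m • (b ⊗ₜ[A] (1 : B) + (1 : B) ⊗ₜ[A] b) ^ m) -
        (∑ i ∈ Finset.range q, a i • b ^ i) ⊗ₜ[A] (∑ j ∈ Finset.range q, a j • b ^ j) =
      ∑ ij ∈ Finset.range q ×ˢ Finset.range q, c ij.1 ij.2 • ((b ^ ij.1) ⊗ₜ[A] (b ^ ij.2)) := by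
    intro B _ _ b
    have h2 : (∑ i ∈ Finset.range q, a i • b ^ i) ⊗ₜ[A] (∑ j ∈ Finset.range q, a j • b ^ j) =
        ∑ ij ∈ Finset.range q ×ˢ Finset.range q, (a ij.1 * a ij.2) • ((b ^ ij.1) ⊗ₜ[A] (b ^ ij.2)) := by
      rw [Finset.sum_product, TensorProduct.sum_tmul]
      refine Finset.sum_congr rfl fun i _ => ?_
      rw [TensorProduct.tmul_sum]
      exact Finset.sum_congr rfl fun j _ => by
        rw [← TensorProduct.smul_tmul', TensorProduct.tmul_smul, smul_smul]
    have h1 : (∑ m ∈ Finset.range q, a m • (b ⊗ₜ[A] (1 : B) + (1 : B) ⊗ₜ[A] b) ^ m) =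
        ∑ ij ∈ Finset.range q ×ˢ Finset.range q,
          (if ij.1 + ij.2 < q then ((ij.1 + ij.2).choose ij.1 : A) * a (ij.1 + ij.2) else 0) •
            ((b ^ ij.1) ⊗ₜ[A] (b ^ ij.2)) := by
      simp only [ite_smul, zero_smul]
      rw [← Finset.sum_filter]
      simp_rw [add_pow, Algebra.TensorProduct.tmul_pow, one_pow, Algebra.TensorProduct.tmul_mul_tmul,
        one_mul, mul_one, Finset.smul_sum]
      rw [Finset.sum_sigma']
      refine Finset.sum_nbij' (fun x => (x.2, x.1 - x.2)) (fun ij => ⟨ij.1 + ij.2, ij.1⟩)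
        ?_ ?_ ?_ ?_ ?_
      · intro x hx; simp at hx ⊢; omega
      · intro x hx; simp at hx ⊢; omega
      · intro x hx; simp at hx; ext <;> simp; omega
      · intro x hx; simp
      · intro x hx
        simp at hx
        have : x.2 + (x.1 - x.2) = x.1 := by omega
        simp only [this]
        rw [mul_comm ((x.1.choose x.2 : A)), mul_smul, ← nsmul_eq_mul', Nat.cast_smul_eq_nsmul]
    rw [h1, h2, ← Finset.sum_sub_distrib]
    exact Finset.sum_congr rfl fun ij _ => (sub_smul _ _ _).symm
  have hcomul : Bialgebra.comulAlgHom A (AlphaPn.A p n A) u = u ⊗ₜ[A] u := hu.comul_eq_tmul_self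
  have hcom : (∑ m ∈ Finset.range q, a m •
      (AlphaPn.x p n A ⊗ₜ[A] (1 : AlphaPn.A p n A) + 1 ⊗ₜ[A] AlphaPn.x p n A) ^ m) = u ⊗ₜ[A] u := by
    rw [← hcomul]
    conv_rhs => rw [hu', map_sum]
    refine Finset.sum_congr rfl fun m _ => ?_
    rw [map_smul, map_pow, AlphaPn.comulAlgHom_eq, AlphaPn.comulAlg_x]
  have hk := key (AlphaPn.x p n A)
  rw [hcom, ← hu', sub_self] at hk
  have hc : ∀ i j, i < q → j < q → c i j = 0 := by
    intro i j hi hj
    have h := (bs.tensorProduct bs).ext_elem_iff.mp hk.symm (⟨i, hi⟩, ⟨j, hj⟩)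
    rw [map_zero, Finsupp.zero_apply, map_sum, Finsupp.finset_sum_apply,
      Finset.sum_eq_single (i, j)] at h
    · rw [map_smul, Finsupp.smul_apply, Basis.tensorProduct_repr_tmul_apply,
        show AlphaPn.x p n A ^ i = bs ⟨i, hi⟩ from (AlphaPn.basis_apply p n A ⟨i, hi⟩).symm,
        show AlphaPn.x p n A ^ j = bs ⟨j, hj⟩ from (AlphaPn.basis_apply p n A ⟨j, hj⟩).symm] at h
      simpa using h
    · intro ij hij hne
      obtain ⟨i', j'⟩ := ij
      simp only [Finset.mem_product, Finset.mem_range] at hij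
      rw [map_smul, Finsupp.smul_apply, Basis.tensorProduct_repr_tmul_apply,
        show AlphaPn.x p n A ^ i' = bs ⟨i', hij.1⟩ from (AlphaPn.basis_apply p n A ⟨i', hij.1⟩).symm,
        show AlphaPn.x p n A ^ j' = bs ⟨j', hij.2⟩ from (AlphaPn.basis_apply p n A ⟨j', hij.2⟩).symm]
      simp only [Basis.repr_self, Finsupp.single_apply, Fin.mk.injEq]
      by_cases h1 : i' = i <;> by_cases h2 : j' = j <;> simp_all
    · intro hn'; exact absurd (by simp [hi, hj]) hn'
  refine ⟨∑ i ∈ Finset.range q, a i • (SekSuwa.A.t : SekSuwa.A A 0) ^ i, ⟨?_, ?_⟩, ?_⟩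
  · have h0 := hu.counit_eq_one
    rw [hu'] at h0
    rw [map_sum] at h0 ⊢
    refine Eq.trans ?_ h0
    refine Finset.sum_congr rfl fun i _ => ?_
    rw [map_smul, map_smul]
    congr 1
    rw [Bialgebra.counit_pow, Bialgebra.counit_pow, SekSuwa.A.counit_t, AlphaPn.counit_x]
  · rw [← sub_eq_zero, map_sum]
    refine Eq.trans ?_ ((key (SekSuwa.A.t : SekSuwa.A A 0)).trans (Finset.sum_eq_zero fun ij hij => ?_))
    · congr 1
      refine Finset.sum_congr rfl fun i _ => ?_
      rw [map_smul]
      congr 1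
      rw [Bialgebra.comul_pow, SekSuwa.A.comul_t, zero_smul, add_zero]
    · simp only [Finset.mem_product, Finset.mem_range] at hij
      rw [hc _ _ hij.1 hij.2, zero_smul]
  · rw [hu', map_sum]
    exact Finset.sum_congr rfl fun i _ => by rw [map_smul, map_pow, hφ]

end Groth.Agent.S16478
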