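import Groth.Statements.S16482

set_option autoImplicit false
open CategoryTheory CategoryTheory.Limits AlgebraicGeometry
universe u
open FrobSch

namespace Groth.Agent.S16482

/-- Let p be a prime and S a reduced scheme on which p = 0 whose absolute Frobenius is flat; let Y be a
reduced S-scheme with structure map a, Z an S-scheme with structure map b, and g₁, g₂ : Y ⟶ Z two
S-morphisms. For i = 1, 2 let h_i : Y ⟶ Z^(p) be the relative Frobenius F_{Y/S} : Y ⟶ Y^(p) followed
by the base change Y^(p) ⟶ Z^(p) of g_i along the absolute Frobenius of S. If h₁ = h₂, then g₁ = g₂.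
(The published statement works over the reduced special fibre of a flat formal scheme of finite type
over the Witt vectors of a perfect field; only reducedness of S and flatness of its absolute
Frobenius are kept here.) -/
theorem result (p : ℕ) [Fact p.Prime]
    {Y Z S : Scheme.{u}} [FrobSch.IsCharP S p] [IsReduced S] [Flat (FrobSch.frob S p)]
    [IsReduced Y] (a : Y ⟶ S) (b : Z ⟶ S) (g₁ g₂ : Y ⟶ Z) (hg₁ : g₁ ≫ b = a) (hg₂ : g₂ ≫ b = a)
    (h : FrobSch.relFrob a p ≫ pullback.map a (FrobSch.frob S p) b (FrobSch.frob S p) g₁ (𝟙 S) (𝟙 S)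
        ((Category.comp_id a).trans hg₁.symm) ((Category.comp_id _).trans (Category.id_comp _).symm) =
      FrobSch.relFrob a p ≫ pullback.map a (FrobSch.frob S p) b (FrobSch.frob S p) g₂ (𝟙 S) (𝟙 S)
        ((Category.comp_id a).trans hg₂.symm) ((Category.comp_id _).trans (Category.id_comp _).symm)) :
    g₁ = g₂ := by
  have : FrobSch.IsCharP Y p := FrobSch.IsCharP.of_hom a p
  have h' := congrArg (· ≫ pullback.fst b (FrobSch.frob S p)) h
  simp only [Category.assoc, pullback.map, pullback.lift_fst, FrobSch.relFrob_fst_assoc] at h'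
  have hb : g₁.base = g₂.base := by
    have := congrArg (fun t : Y ⟶ Z => t.base) h'
    simpa using this
  refine Scheme.Hom.ext hb fun U => ?_
  ext s
  have hb' : (FrobSch.frob Y p ≫ g₁).base = (FrobSch.frob Y p ≫ g₂).base := by rw [h']
  have h2 : ((FrobSch.frob Y p ≫ g₁).app U ≫ Y.presheaf.map
      (eqToHom congr((TopologicalSpace.Opens.map $hb'.symm).obj U)).op) =
      (FrobSch.frob Y p ≫ g₂).app U := by
    rw [← Scheme.Hom.congr_app h'.symm U]
  have h3 := ConcreteCategory.congr_hom h2 s
  simp only [Scheme.Hom.comp_app, CommRingCat.comp_apply, FrobSch.frob_app, map_pow] at h3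
  rw [← sub_eq_zero]
  refine IsReduced.eq_zero _ ⟨p, ?_⟩
  have : FrobSch.powHom p Γ(Y, g₂ ⁻¹ᵁ U) (FrobSch.natCast_eq_zero_app Y p _)
      ((g₁.app U ≫ Y.presheaf.map (eqToHom congr((TopologicalSpace.Opens.map $hb.symm).obj U)).op) s - g₂.app U s) = 0 := by
    rw [map_sub, FrobSch.powHom_apply, FrobSch.powHom_apply, sub_eq_zero, CommRingCat.comp_apply]
    exact ((map_pow _ _ _).symm.trans h3 :)
  exact this


end Groth.Agent.S16482
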