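import Groth.Statements.S16500
import Mathlib.Tactic

set_option autoImplicit false
universe u
open Curves

namespace Groth.Agent.S16500

/-- Let k be a field of odd characteristic p, g ≤ p a natural number and f ∈ k[x] of degree at most 2g +
2. Let F be f with its coefficients reversed in degrees 0, …, 2g + 2, i.e. F(X) = X^(2g+2) f(1/X)
(Mathlib's reflect (2g+2) f), and write f^((p-1)/2) = Σ_l c_l x^l and F^((p-1)/2) = Σ_l C_l X^l.
Then C_{ip-j} = c_{(g+1-i)p-(g+1-j)} for all i, j = 1, …, g; that is, the g × g Cartier–Manin matrix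
of F is that of f with the order of both rows and columns reversed (below the indices run over Fin
g, the entry at (i, j) being the coefficient of degree (i+1)p-(j+1), and reversal is Fin.rev). In
particular the two matrices have the same determinant. (The source applies this to f with f(0) = 0,
separable of degree 2g + 2 over a perfect field, so that F has odd degree 2g + 1; the identity uses
none of that.) -/
theorem result (k : Type u) [Field k] (p : ℕ) [Fact p.Prime] (hp : p ≠ 2) [CharP k p]
    (g : ℕ) (hg : g ≤ p) (f : Polynomial k) (hf : f.natDegree ≤ 2 * g + 2) :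
    (Matrix.of fun i j : Fin g =>
        ((Polynomial.reflect (2 * g + 2) f) ^ ((p - 1) / 2)).coeff (((i : ℕ) + 1) * p - ((j : ℕ) + 1))) =
      Matrix.of fun i j : Fin g =>
        (f ^ ((p - 1) / 2)).coeff (((Fin.rev i : ℕ) + 1) * p - ((Fin.rev j : ℕ) + 1)) := by
  have hodd : Odd p := (Fact.out : p.Prime).odd_of_ne_two hp
  obtain ⟨m, hm⟩ := hodd
  have hm' : (p - 1) / 2 = m := by omega
  rw [hm']
  have key : ∀ n, (Polynomial.reflect (2 * g + 2) f) ^ n = Polynomial.reflect (n * (2 * g + 2)) (f ^ n) := by
    intro n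
    induction n with
    | zero => simp
    | succ n ih =>
      rw [pow_succ, pow_succ, ih, ← Polynomial.reflect_mul _ _ ?_ hf]
      · congr 1; ring
      · calc (f ^ n).natDegree ≤ n * f.natDegree := Polynomial.natDegree_pow_le
          _ ≤ n * (2 * g + 2) := by gcongr
  ext i j
  simp only [Matrix.of_apply]
  rw [key, Polynomial.coeff_reflect]
  congr 1
  obtain ⟨i, hi⟩ := i
  obtain ⟨j, hj⟩ := j
  simp only [Fin.val_rev]
  obtain ⟨r, rfl⟩ : ∃ r, g = i + r + 1 := ⟨g - i - 1, by omega⟩
  rw [show i + r + 1 - (i + 1) + 1 = r + 1 by omega]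
  have e2 : (i + 1) * p - (j + 1) ≤ m * (2 * (i + r + 1) + 2) := by
    apply Nat.sub_le_iff_le_add.mpr
    nlinarith
  rw [Polynomial.revAt_le e2]
  obtain ⟨q, hq⟩ : ∃ q, i + r + 1 = j + q + 1 := ⟨i + r - j, by omega⟩
  rw [show i + r + 1 - (j + 1) + 1 = q + 1 by omega]
  have k1 : j + 1 ≤ (i+1) * p := by nlinarith
  have k2 : q + 1 ≤ (r + 1) * p := by nlinarith
  have key2 : m * (2 * (i + r + 1) + 2) + (j + 1) + (q + 1) = (r + 1) * p + (i + 1) * p := by
    subst hm; nlinarith
  omega

end Groth.Agent.S16500
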