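import Groth.Statements.S16501
import Groth.Agent.Henz21.KrasnerGen
-- import your own Groth.Agent.* helpers here

set_option autoImplicit false
universe u
open Hensel

namespace Groth.Agent.S16501

/-- Let A be a complete discrete valuation ring with uniformizer ϖ and fraction field K, let L be a
finite separable extension of K and B the integral closure of A in L. There is a positive integer m₀
such that for every discrete valuation ring C that is a module-finite A-algebra, B ≅ C as A-algebras
if and only if B/ϖ^m B ≅ C/ϖ^m C as A-algebras for some m > m₀. (Finiteness of L over K is implicit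
in the source, which takes a primitive element.) -/
theorem result
    (A : Type u) [CommRing A] [IsDomain A] [IsDiscreteValuationRing A]
    [IsAdicComplete (IsLocalRing.maximalIdeal A) A] (ϖ : A) (hϖ : Irreducible ϖ)
    (K : Type u) [Field K] [Algebra A K] [IsFractionRing A K]
    (L : Type u) [Field L] [Algebra K L] [Algebra A L] [IsScalarTower A K L]
    [FiniteDimensional K L] [Algebra.IsSeparable K L]
    (B : Type u) [CommRing B] [Algebra A B] [Algebra B L] [IsScalarTower A B L]
    [IsIntegralClosure B A L] :
    ∃ m₀ : ℕ, 0 < m₀ ∧ ∀ (C : Type u) [CommRing C] [IsDomain C] [IsDiscreteValuationRing C]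
      [Algebra A C] [Module.Finite A C],
      Nonempty (B ≃ₐ[A] C) ↔ ∃ m : ℕ, m₀ < m ∧
        Nonempty ((B ⧸ Ideal.span {algebraMap A B (ϖ ^ m)}) ≃ₐ[A]
          (C ⧸ Ideal.span {algebraMap A C (ϖ ^ m)})) := by
  obtain ⟨θ, e, he, b₀, hb₀⟩ := Groth.Agent.Henz21.exists_generator_conductor ϖ hϖ K L (A := A) (B := B)
  haveI : Module.Finite A B := IsIntegralClosure.finite A K L B
  haveI : IsDomain B := (IsIntegralClosure.algebraMap_injective B A L).isDomain
  haveI : Algebra.IsIntegral A B := Algebra.IsIntegral.of_finite A B
  haveI : FaithfulSMul A B := (faithfulSMul_iff_algebraMap_injective A B).mpr (by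
    have h : Function.Injective (algebraMap A L) := by
      rw [IsScalarTower.algebraMap_eq A K L]
      exact (algebraMap K L).injective.comp (IsFractionRing.injective A K)
    rw [IsScalarTower.algebraMap_eq A B L] at h
    exact fun x y hxy => h (congrArg (algebraMap B L) hxy))
  refine ⟨2 * e + 1, by omega, fun C _ _ _ _ _ => ⟨fun ⟨f⟩ => ⟨2 * e + 2, by omega, ⟨?_⟩⟩, ?_⟩⟩
  · refine Ideal.quotientEquivAlg _ _ f ?_
    rw [Ideal.map_span, Set.image_singleton]
    simp
  · rintro ⟨m, hm, ⟨φ⟩⟩
    exact Groth.Agent.Henz21.nonempty_algEquiv_of_quotient ϖ hϖ θ e he b₀ hb₀ C m (by omega) φ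

end Groth.Agent.S16501
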