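import Groth.Statements.S16515
import Groth.Agent.Curves2.BinaryForms

set_option autoImplicit false
universe u
open RatCurv

namespace Groth.Agent.S16515

/-- If C ⊂ P^n is a rational normal curve and P ⊂ P^n a linear r-plane with (r + 2) k ≥ (r + 1)(n + 1),
then P is contained in a k-secant (k − 1)-plane of C, i.e. in the span of some effective divisor of
degree k on C. Stated through the identification of the linear forms on P^n with the binary forms of
degree n on C ≅ P^1: the r-plane P is recorded by the space U of degree-n binary forms vanishing on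
it (of codimension r + 1), an effective divisor of degree k on C by a nonzero binary form g of
degree k, and P ⊂ span(div g) says that every degree-n form divisible by g lies in U. Here k ≤ n,
and the ground field is arbitrary (the source works over the complex numbers). -/
theorem result (K : Type u) [Field K] (n r k : ℕ)
    (hkn : k ≤ n) (hineq : (r + 1) * (n + 1) ≤ (r + 2) * k)
    (U : Submodule K (MvPolynomial (Fin 2) K))
    (hU : U ≤ MvPolynomial.homogeneousSubmodule (Fin 2) K n)
    (hcodim : Module.finrank K ↥U + (r + 1) = n + 1) :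
    ∃ g ∈ MvPolynomial.homogeneousSubmodule (Fin 2) K k, g ≠ 0 ∧
      ∀ h ∈ MvPolynomial.homogeneousSubmodule (Fin 2) K (n - k), g * h ∈ U := by
  let V := MvPolynomial.homogeneousSubmodule (Fin 2) K n
  let U' : Submodule K ↥V := U.comap V.subtype
  have hU' : Module.finrank K ↥U' = Module.finrank K ↥U :=
    (Submodule.comapSubtypeEquivOfLe hU).finrank_eq
  have hV : Module.finrank K ↥V = n + 1 := Curves2.finrank_forms n
  have hW : Module.finrank K (↥V ⧸ U') = r + 1 := by
    have h1 := Submodule.finrank_quotient_add_finrank U'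
    omega
  let T : ↥(MvPolynomial.homogeneousSubmodule (Fin 2) K k) →ₗ[K]
      (↥(MvPolynomial.homogeneousSubmodule (Fin 2) K (n - k)) →ₗ[K] (↥V ⧸ U')) :=
    (LinearMap.llcomp K _ ↥V (↥V ⧸ U') U'.mkQ).comp (Curves2.mulForms k (n - k) n (by omega))
  have hlt : Module.finrank K (↥(MvPolynomial.homogeneousSubmodule (Fin 2) K (n - k)) →ₗ[K] (↥V ⧸ U')) <
      Module.finrank K ↥(MvPolynomial.homogeneousSubmodule (Fin 2) K k) := by
    rw [Module.finrank_linearMap, hW, Curves2.finrank_forms, Curves2.finrank_forms]
    obtain ⟨q, rfl⟩ : ∃ q, n = k + q := ⟨n - k, by omega⟩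
    rw [Nat.add_sub_cancel_left]
    nlinarith
  obtain ⟨g, hg, hg0⟩ := (LinearMap.ker T).ne_bot_iff.mp (LinearMap.ker_ne_bot_of_finrank_lt hlt)
  refine ⟨g.1, g.2, fun h => hg0 (Subtype.ext h), fun h hh => ?_⟩
  have h1 : T g ⟨h, hh⟩ = 0 := by rw [LinearMap.mem_ker.mp hg]; rfl
  exact (Submodule.Quotient.mk_eq_zero U').mp h1

end Groth.Agent.S16515
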