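import Groth.Statements.S16516
import Groth.Agent.Curves2.BinaryForms

set_option autoImplicit false
universe u
open RatCurv

namespace Groth.Agent.S16516

/-- A smooth nondegenerate rational quintic curve C ⊂ P^4 has exactly one 3-secant line. Stated for C
given as the image of P^1 under a 5-dimensional linear series V of binary quintic forms which
separates every length-2 subscheme of P^1 (for every nonzero quadratic form e the forms of V
together with the multiples of e span all quintic forms), so that P^1 → P(V^*) = P^4 is a closed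
embedding with nondegenerate image; the linear forms on P^4 are the elements of V, a line L ⊂ P^4 is
recorded by the 3-dimensional space of linear forms vanishing on it, and L ∩ C has length at least 3
exactly when that space consists of the multiples g · K[s,t]_2 of a cubic form g. The conclusion: a
nonzero cubic g with g · K[s,t]_2 ⊆ V exists and is unique up to a scalar. (That such a line meets C
in length exactly 3, i.e. is not 4-secant, is immediate in this description and is not restated; the
ground field is algebraically closed of characteristic zero in place of the complex numbers.) -/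
theorem result (K : Type u) [Field K] [IsAlgClosed K]
    [CharZero K] (V : Submodule K (MvPolynomial (Fin 2) K))
    (hV : V ≤ MvPolynomial.homogeneousSubmodule (Fin 2) K 5) (hdim : Module.finrank K ↥V = 5)
    (hsep : ∀ e ∈ MvPolynomial.homogeneousSubmodule (Fin 2) K 2, e ≠ 0 →
      ∀ F ∈ MvPolynomial.homogeneousSubmodule (Fin 2) K 5, ∃ v ∈ V,
        ∃ h ∈ MvPolynomial.homogeneousSubmodule (Fin 2) K 3, F = v + e * h) :
    ∃ g ∈ MvPolynomial.homogeneousSubmodule (Fin 2) K 3, g ≠ 0 ∧
      (∀ h ∈ MvPolynomial.homogeneousSubmodule (Fin 2) K 2, g * h ∈ V) ∧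
      ∀ g' ∈ MvPolynomial.homogeneousSubmodule (Fin 2) K 3,
        (∀ h ∈ MvPolynomial.homogeneousSubmodule (Fin 2) K 2, g' * h ∈ V) → ∃ c : K, g' = c • g := by
  let Q5 := MvPolynomial.homogeneousSubmodule (Fin 2) K 5
  let A2 := MvPolynomial.homogeneousSubmodule (Fin 2) K 2
  let A3 := MvPolynomial.homogeneousSubmodule (Fin 2) K 3
  let V' : Submodule K ↥Q5 := V.comap Q5.subtype
  have hW : Module.finrank K (↥Q5 ⧸ V') = 1 := by
    have h1 := Submodule.finrank_quotient_add_finrank V'
    have h2 : Module.finrank K ↥Q5 = 5 + 1 := Curves2.finrank_forms 5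
    have h3 : Module.finrank K ↥V' = 5 := by rw [(Submodule.comapSubtypeEquivOfLe hV).finrank_eq, hdim]
    omega
  obtain ⟨φ⟩ : Nonempty ((↥Q5 ⧸ V') ≃ₗ[K] K) := FiniteDimensional.nonempty_linearEquiv_of_finrank_eq (by rw [hW, Module.finrank_self])
  let B : ↥A3 →ₗ[K] Module.Dual K ↥A2 :=
    (LinearMap.llcomp K ↥A2 ↥Q5 K (φ.toLinearMap.comp V'.mkQ)).comp (Curves2.mulForms 3 2 5 rfl)
  have hB : ∀ (g : ↥A3) (e : ↥A2), B g e = 0 ↔ g.1 * e.1 ∈ V := by
    intro g e
    show φ (Submodule.Quotient.mk _) = 0 ↔ _
    rw [LinearEquiv.map_eq_zero_iff, Submodule.Quotient.mk_eq_zero]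
    rfl
  have hflip : Function.Injective B.flip := by
    rw [← LinearMap.ker_eq_bot, Submodule.eq_bot_iff]
    intro e he
    by_contra he0
    have he0' : e.1 ≠ 0 := fun h => he0 (Subtype.ext h)
    have hle : Q5 ≤ V := by
      intro F hF
      obtain ⟨v, hv, h, hh, rfl⟩ := hsep e.1 e.2 he0' F hF
      refine add_mem hv ?_
      rw [mul_comm]
      refine (hB ⟨h, hh⟩ e).mp ?_
      have hz : B.flip e ⟨h, hh⟩ = 0 := by rw [LinearMap.mem_ker.mp he]; rfl
      exact hz
    have h2 : Module.finrank K ↥Q5 = 5 + 1 := Curves2.finrank_forms 5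
    have h1 : Module.finrank K ↥V = Module.finrank K ↥Q5 :=
      LinearEquiv.finrank_eq (LinearEquiv.ofEq _ _ (le_antisymm hV hle))
    omega
  have hsurj : Function.Surjective B := by
    rw [← LinearMap.dualMap_injective_iff]
    have h' : ∀ ψ, B.dualMap ψ = B.flip ((Module.evalEquiv K ↥A2).symm ψ) := by
      intro ψ
      obtain ⟨e, rfl⟩ := (Module.evalEquiv K ↥A2).surjective ψ
      rw [LinearEquiv.symm_apply_apply]
      rfl
    intro ψ₁ ψ₂ h
    rw [h', h'] at h
    exact (Module.evalEquiv K ↥A2).symm.injective (hflip h)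
  have hker : Module.finrank K ↥(LinearMap.ker B) = 1 := by
    have h1 := B.finrank_range_add_finrank_ker
    rw [LinearMap.range_eq_top.mpr hsurj, finrank_top, Subspace.dual_finrank_eq,
      Curves2.finrank_forms, Curves2.finrank_forms] at h1
    omega
  have : Module.Free K ↥(LinearMap.ker B) := Module.Free.of_divisionRing K ↥(LinearMap.ker B)
  obtain ⟨g, hg0, hg⟩ := (finrank_eq_one_iff' (K := K) (V := ↥(LinearMap.ker B))).mp hker
  refine ⟨g.1.1, g.1.2, fun h => hg0 (Subtype.ext (Subtype.ext h)), fun h hh => ?_, ?_⟩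
  · refine (hB g.1 ⟨h, hh⟩).mp ?_
    rw [LinearMap.mem_ker.mp g.2]; rfl
  · intro g' hg'3 hg'
    have hk : (⟨g', hg'3⟩ : ↥A3) ∈ LinearMap.ker B := by
      rw [LinearMap.mem_ker]
      exact LinearMap.ext fun e => (hB _ e).mpr (hg' e.1 e.2)
    obtain ⟨c, hc⟩ := hg ⟨_, hk⟩
    exact ⟨c, (congrArg (fun x => x.1.1) hc).symm⟩

end Groth.Agent.S16516
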