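import Groth.Statements.S16517
import Groth.Agent.CAlg8.Linkage
import Groth.Agent.Gor18.Regular
import Groth.Agent.An92.Alg.RegCrit
import Groth.Agent.FlatCrit65.Basic
-- import your own Groth.Agent.* helpers here

set_option autoImplicit false
universe u
open CAlg

namespace Groth.Agent.S16517

/-- Let R be a regular local ring, A a Gorenstein local ring which is a flat R-algebra through a local
homomorphism, I ⊂ A an ideal of codimension zero (the Krull dimension of A/I equals that of A) with
A/I Cohen–Macaulay, and J = (0 : I) the annihilator of I in A (the ideal of the residual subscheme).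
Then A/I and A/J are flat over R. -/
theorem result (R A : Type u)
    [CommRing R] [IsRegularLocalRing R] [CommRing A] [Algebra R A] [LocCoh.IsGorensteinLocalRing A]
    [IsLocalHom (algebraMap R A)] [Module.Flat R A] (I : Ideal A)
    (hI : ringKrullDim (A ⧸ I) = ringKrullDim A) [LocCoh.IsCohenMacaulayLocalRing (A ⧸ I)] :
    Module.Flat R (A ⧸ I) ∧ Module.Flat R (A ⧸ (Submodule.annihilator I)) := by
  obtain ⟨s, hs, hspan⟩ := Submodule.FG.exists_span_finset_card_eq_spanFinrank
    (IsNoetherian.noetherian (IsLocalRing.maximalIdeal R))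
  set rs := s.toList with hrsdef
  have hI' : Ideal.ofList rs = IsLocalRing.maximalIdeal R := by
    rw [← hspan]
    show Ideal.span {r | r ∈ rs} = Submodule.span R ↑s
    congr 1
    ext r
    simp [rs]
  have hmR : ∀ r ∈ rs, r ∈ IsLocalRing.maximalIdeal R := fun r hr => hI' ▸ Ideal.subset_span hr
  have := Gor18.regular_gor R
  have hwR : RingTheory.Sequence.IsWeaklyRegular R rs := by
    refine EGA4Alg4.isWeaklyRegular_of_supportDim (Gor18.gor_cm R).supportDim_eq_depth hmR ?_
    rw [hI', smul_eq_mul, Ideal.mul_top, Module.supportDim_quotient_eq_ringKrullDim,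
      Module.supportDim_self_eq_ringKrullDim, Finset.length_toList, hs]
    have : IsField (R ⧸ IsLocalRing.maximalIdeal R) :=
      (Ideal.Quotient.maximal_ideal_iff_isField_quotient _).1 inferInstance
    rw [ringKrullDim_eq_zero_of_isField this, zero_add]
    exact IsRegularLocalRing.spanFinrank_maximalIdeal
  set ts := rs.map (algebraMap R A)
  have hwA : RingTheory.Sequence.IsWeaklyRegular A ts := RingTheory.Sequence.IsWeaklyRegular.of_flat hwR
  have hm : ∀ r ∈ ts, r ∈ IsLocalRing.maximalIdeal A := by
    intro r hr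
    obtain ⟨a, ha, rfl⟩ := List.mem_map.1 hr
    intro hu
    exact hmR a ha (isUnit_of_map_unit (algebraMap R A) a hu)
  have hCM := CAlg8.Linkage.cm_quotient I
  have hdim := CAlg8.Linkage.supportDim_eq hI
  have key : ∀ N : Ideal A, CAlg8.Linkage.RegQ N ts → Module.Flat R (A ⧸ N) := by
    intro N hN
    have hw : RingTheory.Sequence.IsWeaklyRegular (A ⧸ N) rs :=
      (RingTheory.Sequence.isWeaklyRegular_map_algebraMap_iff A (A ⧸ N) rs).1
        ((CAlg8.Linkage.regQ_iff N ts).1 hN)
    have hflat : Module.Flat (R ⧸ Ideal.ofList rs) (TensorProduct R (R ⧸ Ideal.ofList rs) (A ⧸ N)) := by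
      have : (Ideal.ofList rs).IsMaximal := hI' ▸ inferInstance
      let _ := Ideal.Quotient.field (Ideal.ofList rs)
      exact @Module.Flat.of_free _ _ _ _ _ (Module.Free.of_divisionRing _ _)
    exact FlatCrit65.flat_of_lexQuot_of_isLocalRing (S := A)
      (hI' ▸ (IsLocalRing.maximalIdeal.isMaximal R).ne_top)
      (FlatCrit65.torTriv_of_injective (An92.lTensor_ofList_injective rs hw) hflat).lexQuot
  exact ⟨key I (CAlg8.Linkage.regQ_of_regular hCM hdim ts hm hwA),
    key _ (CAlg8.Linkage.regQ_annihilator hCM hdim ts hm hwA)⟩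

end Groth.Agent.S16517
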