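import Groth.Statements.S16519
import Mathlib.Tactic
import Mathlib.Algebra.Order.Chebyshev

set_option autoImplicit false
open CubicSurf

namespace Groth.Agent.S16519

/-- Integer lists of given length, sum and square sum, entries in `[-4,4]`. -/
def sols : ℕ → ℤ → ℤ → List (List ℤ)
  | 0, s, t => if s = 0 ∧ t = 0 then [[]] else []
  | n + 1, s, t => [-4, -3, -2, -1, 0, 1, 2, 3, 4].flatMap fun m : ℤ =>
      if m * m ≤ t ∧ (s - m) * (s - m) ≤ (n : ℤ) * (t - m * m) then (sols n (s - m) (t - m * m)).map (m :: ·) else []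

theorem mem_sols : ∀ (n : ℕ) (s t : ℤ) (l : List ℤ),
    l ∈ sols n s t ↔ l.length = n ∧ l.sum = s ∧ (l.map fun m => m * m).sum = t ∧ ∀ m ∈ l, -4 ≤ m ∧ m ≤ 4
  | 0, s, t, l => by
    rw [sols]
    constructor
    · split_ifs with h
      · intro hl
        obtain ⟨rfl, rfl⟩ := h
        obtain rfl := List.mem_singleton.mp hl
        simp
      · simp
    · rintro ⟨hl, rfl, rfl, -⟩
      obtain rfl := List.length_eq_zero_iff.mp hl
      simp
  | n + 1, s, t, l => by
    rw [sols, List.mem_flatMap]
    constructor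
    · rintro ⟨m, hm, hl⟩
      split_ifs at hl with h
      · obtain ⟨l', hl', rfl⟩ := List.mem_map.mp hl
        obtain ⟨h1, h2, h3, h4⟩ := (mem_sols n _ _ l').mp hl'
        refine ⟨by simp [h1], by rw [List.sum_cons, h2]; ring, by rw [List.map_cons, List.sum_cons, h3]; ring, ?_⟩
        intro x hx
        rcases List.mem_cons.mp hx with rfl | hx
        · simp only [List.mem_cons, List.not_mem_nil, or_false] at hm; omega
        · exact h4 x hx
      · simp at hl
    · rintro ⟨hl, hs, ht, hb⟩
      obtain _ | ⟨m, l⟩ := l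
      · simp at hl
      simp only [List.length_cons, Nat.succ.injEq] at hl
      rw [List.sum_cons] at hs
      rw [List.map_cons, List.sum_cons] at ht
      obtain ⟨h1, h2⟩ := hb m List.mem_cons_self
      refine ⟨m, by simp only [List.mem_cons, List.not_mem_nil, or_false]; omega, ?_⟩
      have hcs : ∀ l : List ℤ, l.sum * l.sum ≤ (l.length : ℤ) * (l.map fun m => m * m).sum ∧
          0 ≤ (l.map fun m => m * m).sum := by
        intro l
        induction l with
        | nil => simp
        | cons a l ih =>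
          obtain ⟨i1, i2⟩ := ih
          simp only [List.sum_cons, List.length_cons, List.map_cons, Nat.cast_succ]
          refine ⟨?_, add_nonneg (mul_self_nonneg a) i2⟩
          rcases Nat.eq_zero_or_pos l.length with h0 | h0
          · obtain rfl := List.length_eq_zero_iff.mp h0
            simp
          · have hL : (0 : ℤ) < l.length := by exact_mod_cast h0
            refine le_of_mul_le_mul_left ?_ hL
            nlinarith [mul_self_nonneg ((l.length : ℤ) * a - l.sum)]
      obtain ⟨c1, c2⟩ := hcs l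
      rw [if_pos ⟨by linarith, by rw [hl] at c1; convert c1 using 1 <;> [skip; congr 1] <;> (try rw [← hs]) <;> (try rw [← ht]) <;> ring⟩]
      exact List.mem_map.mpr ⟨l, (mem_sols n _ _ l).mpr ⟨hl, by linarith, by linarith,
        fun x hx => hb x (List.mem_cons_of_mem _ hx)⟩, rfl⟩

/-- All solutions. -/
def allSols : List (ℤ × List ℤ) :=
  [1, 2, 3, 4, 5].flatMap fun d : ℤ => (sols 6 (3 * d - 3) (d * d - 1)).map fun l => (d, l)


/-- On a smooth cubic surface there are exactly 72 divisor classes L with L² = 1 and L · K = −3. Stated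
in the lattice ℤ^{1,6} with basis l, e_1, …, e_6 (l² = 1, e_i² = −1, K = −3l + Σ e_i): the integer
vectors (a, b) ∈ ℤ × ℤ^6, standing for a·l − Σ b_i e_i, with 3a − Σ b_i = 3 and a² − Σ b_i² = 1 form
a set of exactly 72 elements. -/
theorem result :
    {p : ℤ × (Fin 6 → ℤ) | 3 * p.1 - (Finset.univ.sum fun i => p.2 i) = 3 ∧
        p.1 ^ 2 - (Finset.univ.sum fun i => p.2 i ^ 2) = 1}.ncard = 72 := by
  have hinj : Function.Injective fun p : ℤ × (Fin 6 → ℤ) => (p.1, List.ofFn p.2) :=
    fun p q h => by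
      simp only [Prod.mk.injEq, List.ofFn_inj] at h
      exact Prod.ext h.1 h.2
  rw [← Set.ncard_image_of_injective _ hinj]
  suffices h : (fun p : ℤ × (Fin 6 → ℤ) => (p.1, List.ofFn p.2)) '' _ = {x | x ∈ allSols} by
    rw [h, show {x | x ∈ allSols} = (allSols.toFinset : Set (ℤ × List ℤ)) by ext; simp, Set.ncard_coe_finset,
      List.toFinset_card_of_nodup (by decide +kernel)]
    decide +kernel
  ext ⟨d, l⟩
  simp only [Set.mem_image, Set.mem_setOf_eq, allSols, List.mem_flatMap, List.mem_map, Prod.mk.injEq, mem_sols]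
  constructor
  · rintro ⟨⟨d, v⟩, ⟨h1, h2⟩, rfl, rfl⟩
    have e1 : ∀ g : ℤ → ℤ, ((List.ofFn v).map g).sum = ∑ i, g (v i) := fun g => by
      rw [List.map_ofFn, List.sum_ofFn]; rfl
    have hs : (∑ i, v i) ^ 2 ≤ 6 * ∑ i, v i ^ 2 := by
      simpa using sq_sum_le_card_mul_sum_sq (s := Finset.univ) (f := v)
    dsimp only at h1 h2
    have hd1 : 1 ≤ d := by nlinarith
    have hd5 : d ≤ 5 := by nlinarith
    refine ⟨d, by simp only [List.mem_cons, List.not_mem_nil, or_false]; omega, _, ⟨by simp, ?_, ?_, ?_⟩, rfl, rfl⟩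
    · rw [List.sum_ofFn]; linarith
    · rw [e1]; simp only [← pow_two]; linarith
    · intro m hm
      obtain ⟨i, rfl⟩ := List.mem_ofFn.mp hm
      have : v i ^ 2 ≤ 24 := le_trans (Finset.single_le_sum (fun j _ => sq_nonneg (v j)) (Finset.mem_univ i)) (by nlinarith)
      constructor <;> nlinarith
  · rintro ⟨d, -, l, ⟨hl, hs, ht, -⟩, rfl, rfl⟩
    obtain ⟨v, rfl⟩ : ∃ v : Fin 6 → ℤ, List.ofFn v = l :=
      ⟨fun i => l.get (i.cast hl.symm), by subst_vars; exact List.ext_get (by simp [hl]) (fun n h₁ h₂ => by simp only [List.get_eq_getElem, List.getElem_ofFn, Fin.cast_mk])⟩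
    have e1 : ∀ g : ℤ → ℤ, ((List.ofFn v).map g).sum = ∑ i, g (v i) := fun g => by
      rw [List.map_ofFn, List.sum_ofFn]; rfl
    rw [List.sum_ofFn] at hs
    rw [e1] at ht
    exact ⟨(d, v), ⟨by dsimp only; linarith, by simp only [pow_two]; linarith⟩, rfl, rfl⟩

end Groth.Agent.S16519
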