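import Groth.Statements.S1653
import Groth.Agent.Var76.FibreBound
import Groth.Agent.VarGal.FibreIneq

set_option autoImplicit false
universe u
open CategoryTheory CategoryTheory.Limits AlgebraicGeometry
open Variety

namespace Groth.Agent.S1653

/-- Let f : X → Y be a k-morphism of schemes locally of finite type over a field k, with X irreducible
of dimension a, and let the closure of the image of f have dimension b. Then the local fibre
dimension of f at every point of X is at least a - b, and the set of points where it equals a - b is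
open and dense. -/
theorem result (k : Type u) [Field k] (X Y : Scheme.{u}) [X.Over (Spec (CommRingCat.of k))] [Y.Over (Spec (CommRingCat.of k))]
    [LocallyOfFiniteType (X ↘ (Spec (CommRingCat.of k)))] [LocallyOfFiniteType (Y ↘ (Spec (CommRingCat.of k)))] [IrreducibleSpace X]
    (f : X ⟶ Y) (hf : f ≫ (Y ↘ (Spec (CommRingCat.of k))) = X ↘ (Spec (CommRingCat.of k))) (a b : ℕ) (ha : topologicalKrullDim X = a)
    (hb : topologicalKrullDim (closure (Set.range f.base)) = b) :
    (∀ x : X, ((a - b : ℕ) : WithBot ℕ∞) ≤ FlatMor.fibreDimAt f x) ∧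
      IsOpen {x : X | FlatMor.fibreDimAt f x = (a - b : ℕ)} ∧ Dense {x : X | FlatMor.fibreDimAt f x = (a - b : ℕ)} := by
  have : LocallyOfFiniteType f := by
    have : LocallyOfFiniteType (f ≫ (Y ↘ (Spec (CommRingCat.of k)))) := by rw [hf]; infer_instance
    exact locallyOfFiniteType_of_comp f (Y ↘ (Spec (CommRingCat.of k)))
  have hsp : ∀ x : X, genericPoint X ⤳ x := fun x => genericPoint_specializes x
  have hcl : closure ({genericPoint X} : Set X) = Set.univ := (genericPoint_spec X).def
  have hA : Groth.Agent.WC97.tdegN (X ↘ (Spec (CommRingCat.of k))) (genericPoint X) = a := by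
    have h := Groth.Agent.WC97.topologicalKrullDim_closure (X ↘ (Spec (CommRingCat.of k))) (genericPoint X)
    rw [hcl, (IsHomeomorph.topologicalKrullDim_eq _ (Homeomorph.Set.univ X).isHomeomorph), ha] at h
    exact_mod_cast h.symm
  have hcr : closure (Set.range f.base) = closure {f (genericPoint X)} := by
    refine subset_antisymm (closure_minimal ?_ isClosed_closure) (closure_mono (by simp))
    rintro _ ⟨x, rfl⟩
    exact ((hsp x).map f.continuous).mem_closure
  have hB : Groth.Agent.WC97.tdegN (Y ↘ (Spec (CommRingCat.of k))) (f (genericPoint X)) = b := by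
    have h := Groth.Agent.WC97.topologicalKrullDim_closure (Y ↘ (Spec (CommRingCat.of k))) (f (genericPoint X))
    rw [← hcr, hb] at h
    exact_mod_cast h.symm
  have hadd := Groth.Agent.Var76.FibreBound.tdegN_eq_add f hf (genericPoint X)
  have hfd : Groth.Agent.E4O.fdeg f (genericPoint X) = a - b := by omega
  have hge : ∀ x : X, ((a - b : ℕ) : WithBot ℕ∞) ≤ FlatMor.fibreDimAt f x := fun x =>
    hfd ▸ Groth.Agent.E4O.fdeg_le_fibreDimAt_of_specializes (hsp x)
  have ho : IsOpen {x : X | FlatMor.fibreDimAt f x = (a - b : ℕ)} := by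
    refine isOpen_iff_forall_mem_open.2 fun x hx => ?_
    obtain ⟨U, hxU, hU⟩ := Groth.Agent.E4O.exists_open_forall_fibreDimAt_le f x
    exact ⟨U, fun y hy => le_antisymm ((hU y hy).trans (le_of_eq hx)) (hge y), U.isOpen, hxU⟩
  refine ⟨hge, ho, ho.dense ⟨genericPoint X, ?_⟩⟩
  show FlatMor.fibreDimAt f (genericPoint X) = _
  rw [Groth.Agent.VarGal.fibreDimAt_generic f (fun z hz => (hz.antisymm (hsp z)).eq), hfd]

end Groth.Agent.S1653
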