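import Groth.Statements.S1654
import Groth.Agent.VarGal.Residue

set_option autoImplicit false
universe u
open CategoryTheory CategoryTheory.Limits AlgebraicGeometry
open Variety

namespace Groth.Agent.S1654

/-- Let X be a k-scheme locally of finite type, having only finitely many irreducible components. There
is then a finite separable extension k' of k such that every irreducible component of X_{k'}, with
its reduced induced structure, is geometrically irreducible over k'. -/
theorem result (k : Type u) [Field k] (X : Scheme.{u}) [X.Over (Spec (CommRingCat.of k))] [LocallyOfFiniteType (X ↘ (Spec (CommRingCat.of k)))]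
    (hirr : (irreducibleComponents (X : Type u)).Finite) :
    ∃ (k' : Type u) (_ : Field k') (_ : Algebra k k'), FiniteDimensional k k' ∧ Algebra.IsSeparable k k' ∧
      ∀ (T : Set (Curv2.bc k X k')) (hT : T ∈ irreducibleComponents (Curv2.bc k X k' : Type u)),
        GeometricallyIrreducible
          ((Scheme.IdealSheafData.vanishingIdeal ⟨T, isClosed_of_mem_irreducibleComponents T hT⟩).subschemeι ≫
            Curv2.bcSnd k X k') := by
  have : Finite ↥(irreducibleComponents ↥X) := hirr.to_subtype
  obtain ⟨L, _, _, h1, h2, h3⟩ := FBase64.exists_finite_separable_irreducibleComponents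
    (X ↘ Spec (CommRingCat.of k)) fun Z hZ => VarGal.residueFieldProp_finite_separableClosure _ _
  refine ⟨L, inferInstance, inferInstance, h1, h2, fun T hT => ⟨?_⟩⟩
  let ι := (Scheme.IdealSheafData.vanishingIdeal ⟨T, isClosed_of_mem_irreducibleComponents T hT⟩).subschemeι
  refine geometrically_iff_of_commRing_of_isClosedUnderIsomorphisms.mpr fun K _ _ => ?_
  let t := Spec.map (CommRingCat.ofHom (algebraMap L K))
  let m := (pullbackRightPullbackFstIso (Curv2.bcSnd k X L) t ι).inv ≫ pullback.snd ι _
  have hr : Set.range m.base = (pullback.fst (Curv2.bcSnd k X L) t).base ⁻¹' T := by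
    rw [Scheme.Hom.comp_base, TopCat.coe_comp, Set.range_comp,
      (pullbackRightPullbackFstIso (Curv2.bcSnd k X L) t ι).inv.surjective.range_eq, Set.image_univ,
      Scheme.Pullback.range_snd, Scheme.IdealSheafData.range_subschemeι,
      Scheme.IdealSheafData.coe_support_vanishingIdeal]
    rfl
  have hirr' : IsIrreducible ((pullback.fst (Curv2.bcSnd k X L) t).base ⁻¹' T) := h3 K T hT
  rw [← hr] at hirr'
  have he : Topology.IsEmbedding m.base := m.isEmbedding
  obtain ⟨⟨_, ⟨y, rfl⟩⟩, hpre⟩ := hirr'
  rw [irreducibleSpace_def]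
  refine ⟨⟨y, trivial⟩, ?_⟩
  rintro u v hu hv ⟨a, -, ha⟩ ⟨b, -, hb⟩
  obtain ⟨u', hu', rfl⟩ := he.isInducing.isOpen_iff.1 hu
  obtain ⟨v', hv', rfl⟩ := he.isInducing.isOpen_iff.1 hv
  obtain ⟨_, ⟨c, rfl⟩, hc⟩ := hpre u' v' hu' hv' ⟨_, ⟨a, rfl⟩, ha⟩ ⟨_, ⟨b, rfl⟩, hb⟩
  exact ⟨c, trivial, hc⟩

end Groth.Agent.S1654
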