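import Groth.Statements.S16547
import Groth.Agent.CAlg6.InvPrincipal
import Groth.Agent.CAlg6.EakinNagata
import Groth.Agent.CAlg1.Regular
-- import your own Groth.Agent.* helpers here

set_option autoImplicit false
universe u
open CAlg

namespace Groth.Agent.S16547

/-- Let A be a Noetherian factorial local domain and G a finite group acting faithfully on A by ring
automorphisms; let B be a ring with an injective ring map to A whose image is exactly the ring of
invariants of G, and assume A is a finite B-module. Let q be a prime ideal of B of height one and p
a prime ideal of A lying over q such that the extension of residue fields of the local rings B_q and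
A_p is trivial (every element of A is congruent modulo p to some c⁻¹b with b, c in B, c outside q).
Then q is a principal ideal; and if moreover B/q is a regular local ring, then B is a regular local
ring. -/
theorem result
    {A B G : Type u} [CommRing A] [IsDomain A] [IsNoetherianRing A] [IsLocalRing A]
    [UniqueFactorizationMonoid A]
    [CommRing B] [Algebra B A] [FaithfulSMul B A] [Module.Finite B A]
    [Group G] [Finite G] [MulSemiringAction G A] [FaithfulSMul G A] [SMulCommClass G B A]
    [Algebra.IsInvariant B A G]
    (q : Ideal B) [q.IsPrime] (hq : q.height = 1) (p : Ideal A) [p.IsPrime] [p.LiesOver q]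
    (hres : ∀ a : A, ∃ b c : B, c ∉ q ∧ algebraMap B A c * a - algebraMap B A b ∈ p) :
    Submodule.IsPrincipal q ∧ (IsRegularLocalRing (B ⧸ q) → IsRegularLocalRing B) := by
  have hinj : Function.Injective (algebraMap B A) := FaithfulSMul.algebraMap_injective B A
  obtain ⟨N, hN0, hNq, hqN⟩ := CAlg6.InvPrincipal.isPrincipal_of_residue (G := G) hinj q hq p hres
  refine ⟨⟨⟨N, hqN⟩⟩, fun hreg => ?_⟩
  haveI : IsDomain B := hinj.isDomain (algebraMap B A)
  haveI : IsNoetherianRing B := CAlg6.EakinNagata.isNoetherianRing_of_finite_extension hinj
  have hu : ∀ b : B, IsUnit (algebraMap B A b) → IsUnit b := by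
    intro b hb
    obtain ⟨a, ha⟩ := hb.exists_right_inv
    obtain ⟨c, hc⟩ := Algebra.IsInvariant.isInvariant (A := B) (G := G) a fun g => by
      have h1 : algebraMap B A b * (g • a) = 1 := by
        rw [← smul_algebraMap g b, ← smul_mul', ha, smul_one]
      exact hb.mul_left_cancel (h1.trans ha.symm)
    exact IsUnit.of_mul_eq_one c (hinj (by rw [map_mul, hc, ha, map_one]))
  haveI : IsLocalRing B := by
    haveI : IsLocalHom (algebraMap B A) := ⟨hu⟩
    exact RingHom.domain_isLocalRing (algebraMap B A)
  have hNm : N ∈ IsLocalRing.maximalIdeal B :=
    IsLocalRing.le_maximalIdeal (Ideal.IsPrime.ne_top inferInstance) hNq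
  subst hqN
  haveI : IsRegularLocalRing (B ⧸ Ideal.span ({N} : Set B)) := hreg
  exact CAlg1.regular_of_quotient_regular hNm (mem_nonZeroDivisors_of_ne_zero hN0)

end Groth.Agent.S16547
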