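import Groth.Statements.S16548
import Groth.Agent.Curves2.TameSep
import Mathlib.AlgebraicGeometry.Morphisms.Smooth

set_option autoImplicit false
universe u
open CategoryTheory CategoryTheory.Limits AlgebraicGeometry
attribute [local instance] Curv2.resAlgebra
open Curves

namespace Groth.Agent.S16548
theorem toGlobal_comp {k : Type u} [CommRing k] {X Y : Scheme.{u}} (f : X ⟶ Y)
    (q : Y ⟶ Spec (CommRingCat.of k)) (p : X ⟶ Spec (CommRingCat.of k)) (h : f ≫ q = p) (r : k) :
    Coh.toGlobal p r = f.appTop (Coh.toGlobal q r) := by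
  subst h
  rfl



/-- Let k be a field, X and Y smooth over k of relative dimension one (not necessarily proper), f : X ->
Y a finite k-morphism and x a closed point of X, with y = f(x). Suppose f is tamely ramified at x:
m_y O_{X,x} = m_x^e for an integer e ≥ 2 prime to the characteristic of k, and κ(x) is separable
over κ(y). Then κ(x) is separable over k. (Consequently the field generated over k by the residue
fields of all such points is Galois over k.) -/
theorem result (k : Type u) [Field k]
    (X Y : Scheme.{u}) [X.Over (Spec (CommRingCat.of k))] [Y.Over (Spec (CommRingCat.of k))]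
    [SmoothOfRelativeDimension 1 (X ↘ Spec (CommRingCat.of k))]
    [SmoothOfRelativeDimension 1 (Y ↘ Spec (CommRingCat.of k))]
    (f : X ⟶ Y) [IsFinite f] (hf : f ≫ (Y ↘ Spec (CommRingCat.of k)) = X ↘ Spec (CommRingCat.of k))
    (x : X) (hx : IsClosed ({x} : Set X)) (e : ℕ)
    (he : (IsLocalRing.maximalIdeal (Y.presheaf.stalk (f.base x))).map (f.stalkMap x).hom =
      IsLocalRing.maximalIdeal (X.presheaf.stalk x) ^ e)
    (h2 : 2 ≤ e) (hp : ¬ ringChar k ∣ e)
    (hsep : @Algebra.IsSeparable (Y.residueField (f.base x)) (X.residueField x) _ _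
      (f.residueFieldMap x).hom.toAlgebra) :
    Algebra.IsSeparable k (X.residueField x) := by
  by_contra hins
  set y := f.base x with hy
  let : Algebra k (X.presheaf.stalk x) := Curv2.stalkAlgebra k X x
  let : Algebra k (Y.presheaf.stalk y) := Curv2.stalkAlgebra k Y y
  let : Algebra (Y.presheaf.stalk y) (X.presheaf.stalk x) := (f.stalkMap x).hom.toAlgebra
  have : IsScalarTower k (Y.presheaf.stalk y) (X.presheaf.stalk x) := .of_algebraMap_eq fun r => by
    show X.presheaf.germ ⊤ x trivial (Coh.toGlobal (X ↘ Spec (CommRingCat.of k)) r) =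
      f.stalkMap x (Y.presheaf.germ ⊤ y trivial (Coh.toGlobal (Y ↘ Spec (CommRingCat.of k)) r))
    rw [toGlobal_comp f _ _ hf r]
    exact (Scheme.Hom.germ_stalkMap_apply f ⊤ x trivial _).symm
  have : IsLocalHom (algebraMap (Y.presheaf.stalk y) (X.presheaf.stalk x)) :=
    inferInstanceAs (IsLocalHom (f.stalkMap x).hom)
  obtain ⟨U, hU, V, hV, hxV, hVU, hstd⟩ :=
    SmoothOfRelativeDimension.exists_isStandardSmoothOfRelativeDimension (n := 1) (f := X ↘ Spec (CommRingCat.of k)) x
  obtain rfl : U = ⊤ := by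
    refine top_le_iff.mp fun z _ => ?_
    have hz : z = (X ↘ Spec (CommRingCat.of k)) x := Subsingleton.elim _ _
    exact hz ▸ hVU hxV
  let e₀ : k ≃+* Γ(Spec (CommRingCat.of k), ⊤) :=
    (Scheme.ΓSpecIso (CommRingCat.of k)).symm.commRingCatIsoToRingEquiv
  let φ : k →+* Γ(X, V) := ((X ↘ Spec (CommRingCat.of k)).appLE ⊤ V hVU).hom.comp e₀.toRingHom
  let : Algebra k Γ(X, V) := φ.toAlgebra
  have hφ : (algebraMap k Γ(X, V)).IsStandardSmoothOfRelativeDimension 1 :=
    RingHom.isStandardSmoothOfRelativeDimension_respectsIso.2 _ e₀ hstd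
  set Q := (hV.primeIdealOf ⟨x, hxV⟩).asIdeal with hQ
  have hQmax : Q.IsMaximal := by
    rw [hQ, ← PrimeSpectrum.isClosed_singleton_iff_isMaximal]
    have h1 : IsClosed (hV.fromSpec ⁻¹' ({x} : Set X)) := hx.preimage hV.fromSpec.continuous
    suffices e : ({hV.primeIdealOf ⟨x, hxV⟩} : Set _) = hV.fromSpec ⁻¹' ({x} : Set X) by
      rw [← e] at h1; exact h1
    ext z
    simp only [Set.mem_singleton_iff, Set.mem_preimage]
    refine ⟨fun h => h ▸ hV.fromSpec_primeIdealOf ⟨x, hxV⟩, fun h => ?_⟩
    exact hV.fromSpec.isOpenEmbedding.injective (h.trans (hV.fromSpec_primeIdealOf ⟨x, hxV⟩).symm)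
  let : Algebra Γ(X, V) (X.presheaf.stalk x) := TopCat.Presheaf.algebra_section_stalk X.presheaf ⟨x, hxV⟩
  have := hV.isLocalization_stalk ⟨x, hxV⟩
  have : IsScalarTower k Γ(X, V) (X.presheaf.stalk x) := .of_algebraMap_eq fun r => by
    show X.presheaf.germ ⊤ x trivial (Coh.toGlobal (X ↘ Spec (CommRingCat.of k)) r) =
      X.presheaf.germ V x hxV (X.presheaf.map _ ((X ↘ Spec (CommRingCat.of k)).app ⊤ (e₀ r)))
    rw [TopCat.Presheaf.germ_res_apply]
    rfl
  obtain ⟨hft, hnoeth, hne, η, hη⟩ := Curves2.smoothCurve_local hφ Q (X.presheaf.stalk x)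
  have hsep' : Algebra.IsSeparable (IsLocalRing.ResidueField (Y.presheaf.stalk y))
      (IsLocalRing.ResidueField (X.presheaf.stalk x)) := by
    let := (f.residueFieldMap x).hom.toAlgebra
    have : Algebra.IsSeparable (Y.residueField y) (X.residueField x) := hsep
    refine Algebra.IsSeparable.of_equiv_equiv (A₁ := Y.residueField y) (B₁ := X.residueField x)
      (RingEquiv.refl _) (RingEquiv.refl _) (RingHom.ext fun r => ?_)
    obtain ⟨r, rfl⟩ := IsLocalRing.residue_surjective r
    show IsLocalRing.residue _ (f.stalkMap x r) = (Y.residue y ≫ f.residueFieldMap x) r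
    rw [Scheme.residue_residueFieldMap]
    rfl
  have hins' : ¬ Algebra.IsSeparable k (IsLocalRing.ResidueField (X.presheaf.stalk x)) := by
    intro h
    exact hins (Algebra.IsSeparable.of_equiv_equiv (A₁ := k) (B₁ := IsLocalRing.ResidueField (X.presheaf.stalk x))
      (RingEquiv.refl k) (RingEquiv.refl _) (RingHom.ext fun r => rfl))
  have := Curves2.formallyUnramified_of_inseparable η hη hsep' hins'
  have : Algebra.EssFiniteType (Y.presheaf.stalk y) (X.presheaf.stalk x) := .of_comp k _ _
  exact Curves2.ne_pow_of_formallyUnramified hne h2 he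

end Groth.Agent.S16548
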