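import Groth.Statements.S1655
import Groth.Agent.LimTop61.NormalPoint

set_option autoImplicit false
universe u
open CategoryTheory CategoryTheory.Limits AlgebraicGeometry
open Variety

namespace Groth.Agent.S1655

/-- Let X be a Noetherian integral scheme, Y an integral scheme, and f : Y → X a proper morphism that
restricts to an isomorphism over some nonempty open subscheme of X. If x is a point of X whose local
ring is integrally closed and f is quasi-finite at some point lying over x, then f restricts to an
isomorphism over an open neighbourhood of x. -/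
theorem result {X Y : Scheme.{u}} [IsNoetherian X] [IsIntegral X] [IsIntegral Y]
    (f : Y ⟶ X) [IsProper f] (W : X.Opens) (hW : (W : Set X).Nonempty) (hfW : IsIso (f ∣_ W))
    (x : X) (hx : IsIntegrallyClosed (X.presheaf.stalk x)) (y : Y) (hy : f.base y = x) (hq : f.QuasiFiniteAt y) :
    ∃ V : X.Opens, x ∈ V ∧ IsIso (f ∣_ V) := by
  have hηW : genericPoint X ∈ W := by
    obtain ⟨w, hw⟩ := hW
    exact ((genericPoint_spec X).specializes trivial).mem_open W.2 hw
  obtain ⟨y0, hy0⟩ := (f ∣_ W).surjective ⟨_, hηW⟩
  have hf0 : f y0.1 = genericPoint X := by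
    rw [← morphismRestrict_base_coe, hy0]
  have hspec : f (genericPoint Y) ⤳ genericPoint X :=
    hf0 ▸ ((genericPoint_spec Y).specializes (Set.mem_univ y0.1)).map f.continuous
  have hgen : f (genericPoint Y) = genericPoint X :=
    (hspec.antisymm ((genericPoint_spec X).specializes trivial)).eq
  have hbir : IsIso (f.stalkMap (genericPoint Y)) := by
    let p : (f ⁻¹ᵁ W).toScheme := ⟨genericPoint Y, show f (genericPoint Y) ∈ W from hgen ▸ hηW⟩
    exact ((MorphismProperty.isomorphisms CommRingCat).arrow_mk_iso_iff (morphismRestrictStalkMap f W p)).mp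
      (show IsIso ((f ∣_ W).stalkMap p) from inferInstance)
  subst hy
  have : IsIso (f.stalkMap y) := Groth.Agent.LimTop61.isIso_stalkMap_of_quasiFiniteAt f hgen hbir y hq hx
  exact Groth.Agent.LimTop61.exists_isIso_morphismRestrict_of_isIso_stalkMap f y

end Groth.Agent.S1655
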