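import Groth.Statements.S16572
import Mathlib

set_option autoImplicit false
universe u
open CAlg

namespace Groth.Agent.S16572

/-- Let A be a commutative ring and T the quotient of the polynomial ring over A in indeterminates X_P,
one for each monic polynomial P over A of positive degree, by the ideal generated by the elements
P(X_P). Then the map on prime spectra Spec T → Spec A is surjective, and for every prime ideal Q of
T, with p its contraction to A, the residue field of Q is algebraically closed and integral over the
residue field of p under the induced map of residue fields (so it is an algebraic closure of it). -/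
theorem result (A : Type u) [CommRing A] :
    Function.Surjective (PrimeSpectrum.comap (algebraMap A (MvPolynomial {P : Polynomial A // P.Monic ∧ 0 < P.natDegree} A ⧸
      Ideal.span (Set.range fun P : {P : Polynomial A // P.Monic ∧ 0 < P.natDegree} =>
        Polynomial.aeval (MvPolynomial.X (R := A) P) P.1)))) ∧
    ∀ (Q : Ideal (MvPolynomial {P : Polynomial A // P.Monic ∧ 0 < P.natDegree} A ⧸
      Ideal.span (Set.range fun P : {P : Polynomial A // P.Monic ∧ 0 < P.natDegree} =>
        Polynomial.aeval (MvPolynomial.X (R := A) P) P.1))) [Q.IsPrime],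
      IsAlgClosed Q.ResidueField ∧
      (Ideal.ResidueField.map (Q.comap (algebraMap A (MvPolynomial {P : Polynomial A // P.Monic ∧ 0 < P.natDegree} A ⧸
      Ideal.span (Set.range fun P : {P : Polynomial A // P.Monic ∧ 0 < P.natDegree} =>
        Polynomial.aeval (MvPolynomial.X (R := A) P) P.1)))) Q (algebraMap A (MvPolynomial {P : Polynomial A // P.Monic ∧ 0 < P.natDegree} A ⧸
      Ideal.span (Set.range fun P : {P : Polynomial A // P.Monic ∧ 0 < P.natDegree} =>
        Polynomial.aeval (MvPolynomial.X (R := A) P) P.1))) rfl).IsIntegral := by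
  classical
  set ι := {P : Polynomial A // P.Monic ∧ 0 < P.natDegree}
  set J : Ideal (MvPolynomial ι A) := Ideal.span (Set.range fun P : ι => Polynomial.aeval (MvPolynomial.X (R := A) P) P.1)
  set T := MvPolynomial ι A ⧸ J
  let t : ι → T := fun P => Ideal.Quotient.mkₐ A J (MvPolynomial.X P)
  have ht : ∀ P : ι, Polynomial.aeval (t P) P.1 = 0 := fun P => by
    simp only [t]
    rw [Polynomial.aeval_algHom_apply, Ideal.Quotient.mkₐ_eq_mk, Ideal.Quotient.eq_zero_iff_mem]
    exact Ideal.subset_span ⟨P, rfl⟩
  have hint : Algebra.IsIntegral A T := by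
    refine ⟨fun z => ?_⟩
    obtain ⟨z, rfl⟩ := Ideal.Quotient.mkₐ_surjective A J z
    induction z using MvPolynomial.induction_on with
    | C a => rw [← MvPolynomial.algebraMap_eq, AlgHom.commutes]; exact isIntegral_algebraMap
    | add a b ha hb => rw [map_add]; exact ha.add hb
    | mul_X a P ha => rw [map_mul]; exact ha.mul ⟨P.1, P.2.1, ht P⟩
  refine ⟨fun p => ?_, fun Q _ => ?_⟩
  · let K := AlgebraicClosure p.asIdeal.ResidueField
    have hroot : ∀ P : ι, ∃ x : K, Polynomial.aeval x P.1 = 0 := by
      intro P
      have hd : (P.1.map (algebraMap A K)).degree ≠ 0 := by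
        rw [P.2.1.degree_map]
        exact fun h => P.2.2.ne' (Polynomial.natDegree_eq_of_degree_eq_some h)
      obtain ⟨x, hx⟩ := IsAlgClosed.exists_root _ hd
      exact ⟨x, by rwa [Polynomial.aeval_def, ← Polynomial.eval_map]⟩
    choose x hx using hroot
    let φ : T →ₐ[A] K := Ideal.Quotient.liftₐ J (MvPolynomial.aeval x) (by
      intro a ha
      induction ha using Submodule.span_induction with
      | mem a ha => obtain ⟨P, rfl⟩ := ha; simp [← Polynomial.aeval_algHom_apply, hx]
      | zero => simp
      | add a b _ _ ha hb => simp [ha, hb]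
      | smul c a _ ha => simp [ha])
    refine ⟨⟨RingHom.ker φ.toRingHom, RingHom.ker_isPrime _⟩, PrimeSpectrum.ext ?_⟩
    show (RingHom.ker φ.toRingHom).comap (algebraMap A T) = p.asIdeal
    ext a
    rw [Ideal.mem_comap, RingHom.mem_ker]
    show φ (algebraMap A T a) = 0 ↔ _
    rw [φ.commutes, IsScalarTower.algebraMap_apply A p.asIdeal.ResidueField K, map_eq_zero, Ideal.algebraMap_residueField_eq_zero]
  · set p := Q.comap (algebraMap A T)
    set k := p.ResidueField
    set K := Q.ResidueField
    let _ : Algebra k K := (Ideal.ResidueField.map p Q (algebraMap A T) rfl).toAlgebra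
    have : IsScalarTower A k K := IsScalarTower.of_algebraMap_eq fun a => (Ideal.ResidueField.map_algebraMap p Q (algebraMap A T) rfl a).symm ▸ rfl
    have hTk : ∀ z : T, IsIntegral k (algebraMap T K z) := fun z =>
      ((hint.isIntegral z).map (IsScalarTower.toAlgHom A T K)).tower_top
    have halg : Algebra.IsIntegral k K := by
      refine ⟨fun z => ?_⟩
      obtain ⟨a, b, hb, rfl⟩ := IsFractionRing.div_surjective (T ⧸ Q) z
      obtain ⟨a, rfl⟩ := Ideal.Quotient.mk_surjective a
      obtain ⟨b, rfl⟩ := Ideal.Quotient.mk_surjective b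
      exact (hTk a).mul (hTk b).inv
    refine ⟨?_, fun z => halg.isIntegral z⟩
    have : Algebra.IsAlgebraic k K := Algebra.IsIntegral.isAlgebraic
    have hcl : IsAlgClosure k K := by
      refine IsAlgClosure.of_exists_root fun g hg hirr => ?_
      obtain ⟨⟨s, hs⟩, hsi⟩ := IsLocalization.exist_integer_multiples (nonZeroDivisors (A ⧸ p)) (Finset.range g.natDegree) g.coeff
      obtain ⟨s, rfl⟩ := Ideal.Quotient.mk_surjective s
      have hsne : algebraMap A k s ≠ 0 := fun h0 => by
        rw [Ideal.algebraMap_residueField_eq_zero] at h0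
        exact nonZeroDivisors.ne_zero hs (Ideal.Quotient.eq_zero_iff_mem.mpr h0)
      set q := g.scaleRoots (algebraMap A k s)
      have hq : q ∈ Polynomial.lifts (algebraMap A k) := by
        rw [Polynomial.lifts_iff_coeff_lifts]
        intro i
        rw [Polynomial.coeff_scaleRoots]
        rcases lt_trichotomy i g.natDegree with h | h | h
        · obtain ⟨c, hc⟩ := hsi i (Finset.mem_range.mpr h)
          obtain ⟨c, rfl⟩ := Ideal.Quotient.mk_surjective c
          refine ⟨c * s ^ (g.natDegree - i - 1), ?_⟩
          rw [map_mul, map_pow]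
          have hc' : algebraMap A k c = algebraMap A k s * g.coeff i := by
            rw [IsScalarTower.algebraMap_apply A (A ⧸ p) k, IsScalarTower.algebraMap_apply A (A ⧸ p) k, Ideal.Quotient.algebraMap_eq, hc]
            exact Algebra.smul_def _ _
          rw [hc', show g.natDegree - i = (g.natDegree - i - 1) + 1 by omega, pow_succ]
          simp only [add_tsub_cancel_right]; ring
        · exact ⟨1, by rw [h, hg.coeff_natDegree]; simp⟩
        · exact ⟨0, by rw [Polynomial.coeff_eq_zero_of_natDegree_lt h]; simp⟩
      obtain ⟨P, hPmap, hPdeg, hPmon⟩ := Polynomial.lifts_and_natDegree_eq_and_monic hq ((Polynomial.monic_scaleRoots_iff _).mpr hg)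
      have hPpos : 0 < P.natDegree := by
        rw [hPdeg, Polynomial.natDegree_scaleRoots]; exact hirr.natDegree_pos
      set r := (algebraMap k K (algebraMap A k s))⁻¹ * algebraMap T K (t ⟨P, hPmon, hPpos⟩)
      refine ⟨r, ?_⟩
      have hsK : algebraMap k K (algebraMap A k s) ≠ 0 := (_root_.map_ne_zero _).mpr hsne
      have h0 : Polynomial.aeval (algebraMap k K (algebraMap A k s) * r) q = 0 := by
        simp only [r]
        rw [mul_inv_cancel_left₀ hsK, ← hPmap, Polynomial.aeval_map_algebraMap,
          Polynomial.aeval_algebraMap_apply, ht, map_zero]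
      rw [Polynomial.aeval_def, Polynomial.scaleRoots_eval₂_mul] at h0
      exact (mul_eq_zero.mp h0).resolve_left (pow_ne_zero _ hsK)
    exact hcl.isAlgClosed

end Groth.Agent.S16572
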