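import Groth.Statements.S16574
import Groth.Agent.LimTop61.ZmtFactor

set_option autoImplicit false
universe u
open CategoryTheory AlgebraicGeometry
open AffSch

namespace Groth.Agent.S16574

open CategoryTheory.Limits in
/-- a finite morphism to a qc open extends to a finite morphism with exact preimage -/
theorem exists_ext {S : Scheme.{u}} [CompactSpace S] [QuasiSeparatedSpace S] {V : Scheme.{u}}
    (U : S.Opens) (hU : IsCompact (U : Set S)) (v : V ⟶ (U : Scheme.{u})) [IsFinite v] :
    ∃ (T : Scheme.{u}) (p : T ⟶ S) (j : V ⟶ T), IsFinite p ∧ IsPullback j v p U.ι := by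
  have : CompactSpace (U : Scheme.{u}) := isCompact_iff_compactSpace.mp hU
  have : QuasiCompact U.ι := inferInstance
  obtain ⟨T, j, p, hj, -, hdom, hp, hjp⟩ := Groth.Agent.LimTop61.exists_openImmersion_finite (v ≫ U.ι)
  have hle : j.opensRange ≤ p ⁻¹ᵁ U := by
    rintro _ ⟨x, rfl⟩
    show p (j x) ∈ U
    rw [← Scheme.Hom.comp_apply, hjp]
    exact (v x).2
  have hTU : j.opensRange = p ⁻¹ᵁ U := by
    refine le_antisymm hle fun z hz => ?_
    let j' : V ⟶ (p ⁻¹ᵁ U : Scheme.{u}) := IsOpenImmersion.lift (p ⁻¹ᵁ U).ι j (by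
      rw [Scheme.Opens.range_ι]; rintro _ ⟨x, rfl⟩; exact hle ⟨x, rfl⟩)
    have hj' : j' ≫ (p ⁻¹ᵁ U).ι = j := IsOpenImmersion.lift_fac _ _ _
    have hv : j' ≫ (p ∣_ U) = v := by
      rw [← cancel_mono U.ι, Category.assoc, morphismRestrict_ι, reassoc_of% hj', hjp]
    have : IsFinite (j' ≫ (p ∣_ U)) := hv.symm ▸ inferInstance
    have : IsFinite j' := IsFinite.of_comp j' (p ∣_ U)
    have hclo : IsClosed (Set.range j') := j'.isClosedMap.isClosed_range
    have hdense : Dense (Set.range j') := by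
      intro w
      have := mem_closure_iff.1 (j.denseRange ((p ⁻¹ᵁ U).ι w))
      refine mem_closure_iff.2 fun O hO hwO => ?_
      obtain ⟨_, ⟨o, ho, rfl⟩, x, hx⟩ := this ((p ⁻¹ᵁ U).ι '' O)
        ((p ⁻¹ᵁ U).ι.isOpenEmbedding.isOpenMap O hO) ⟨w, hwO, rfl⟩
      refine ⟨o, ho, x, (p ⁻¹ᵁ U).ι.isOpenEmbedding.injective ?_⟩
      rw [← Scheme.Hom.comp_apply, hj']
      exact hx
    have huniv : Set.range j' = Set.univ := hclo.closure_eq.symm.trans hdense.closure_eq
    obtain ⟨x, hx⟩ := huniv.ge (Set.mem_univ (⟨z, hz⟩ : (p ⁻¹ᵁ U : T.Opens)))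
    refine ⟨x, ?_⟩
    rw [← hj', Scheme.Hom.comp_apply, hx]
    rfl
  refine ⟨T, p, j, hp, (IsOpenImmersion.isPullback v j U.ι p hjp ?_).flip⟩
  rw [Scheme.Opens.opensRange_ι, hTU]


/-- Let A be a commutative ring, U a quasi-compact open subscheme of Spec A and U' → U a finite
morphism. Then there exist a finite A-algebra B and a morphism U' → Spec B such that the square
formed by U' → U, U' → Spec B, Spec B → Spec A and the inclusion of U is cartesian; in particular U'
→ Spec B is the open immersion of the preimage of U. (If U contains the complement of the closed set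
of an ideal I then this preimage contains the complement of the closed set of IB; that clause is
automatic and omitted.) -/
theorem result
    (A : Type u) [CommRing A] (U : (Spec (CommRingCat.of A)).Opens) (hU : IsCompact (U : Set (Spec (CommRingCat.of A))))
    (U' : Scheme.{u}) (g : U' ⟶ (U : Scheme.{u})) [IsFinite g] :
    ∃ (B : Type u) (_ : CommRing B) (_ : Algebra A B) (i : U' ⟶ Spec (CommRingCat.of B)),
      Module.Finite A B ∧ IsPullback i g (Spec.map (CommRingCat.ofHom (algebraMap A B))) U.ι := by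
  obtain ⟨T, p, j, hp, hpb⟩ := exists_ext U hU g
  have : IsAffine T := isAffine_of_isAffineHom p
  let φ : CommRingCat.of A ⟶ Γ(T, ⊤) := Spec.preimage (T.isoSpec.inv ≫ p)
  have hφ : Spec.map φ = T.isoSpec.inv ≫ p := Spec.map_preimage _
  letI : Algebra A Γ(T, ⊤) := φ.hom.toAlgebra
  have hφ' : CommRingCat.ofHom (algebraMap A Γ(T, ⊤)) = φ := rfl
  refine ⟨Γ(T, ⊤), inferInstance, inferInstance, j ≫ T.isoSpec.hom, ?_, ?_⟩
  · have : IsFinite (Spec.map φ) := by rw [hφ]; infer_instance
    exact (IsFinite.SpecMap_iff φ).mp this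
  · rw [hφ', hφ]
    exact hpb.of_iso (Iso.refl _) T.isoSpec (Iso.refl _) (Iso.refl _) (by simp) (by simp) (by simp) (by simp)

end Groth.Agent.S16574
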