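import Groth.Statements.S16576
import Groth.Agent.CAlg6.FlatC2
import Groth.Agent.GRing57.LocRegular
-- import your own Groth.Agent.* helpers here

set_option autoImplicit false
universe u
open CAlg

namespace Groth.Agent.S16576

/-- Let A → B be a flat local homomorphism of Noetherian local rings and let Â, B̂ be their completions
at the maximal ideals. If every irreducible component of Spec Â has dimension at least 2, then every
irreducible component of Spec B̂ has dimension at least 2. (This is the c_2 condition in its
completed form; globally: the preimage of a c_2 closed subset under a flat morphism of Noetherian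
schemes is c_2, in particular the condition is invariant under Zariski and étale localization.) -/
theorem result
    (A B : Type u) [CommRing A] [CommRing B] [IsNoetherianRing A] [IsNoetherianRing B]
    [IsLocalRing A] [IsLocalRing B] (f : A →+* B) [IsLocalHom f] (hf : f.Flat)
    (hA : ∀ q ∈ minimalPrimes (AdicCompletion (IsLocalRing.maximalIdeal A) A), (2 : WithBot ℕ∞) ≤ ringKrullDim (AdicCompletion (IsLocalRing.maximalIdeal A) A ⧸ q)) :
    ∀ q ∈ minimalPrimes (AdicCompletion (IsLocalRing.maximalIdeal B) B), (2 : WithBot ℕ∞) ≤ ringKrullDim (AdicCompletion (IsLocalRing.maximalIdeal B) B ⧸ q) := by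
  letI := f.toAlgebra
  haveI : IsLocalHom (algebraMap A B) := ‹IsLocalHom f›
  haveI : Module.Flat A B := hf
  haveI : IsNoetherianRing (AdicCompletion (IsLocalRing.maximalIdeal A) A) :=
    Cohen12.isNoetherianRing_completion A
  haveI : IsNoetherianRing (AdicCompletion (IsLocalRing.maximalIdeal B) B) :=
    Cohen12.isNoetherianRing_completion B
  haveI := GRing57.isLocalHom_algebraMap_completion B
  haveI : IsLocalHom (algebraMap A (AdicCompletion (IsLocalRing.maximalIdeal B) B)) := by
    rw [IsScalarTower.algebraMap_eq A B]
    infer_instance
  haveI : Module.Flat A (AdicCompletion (IsLocalRing.maximalIdeal B) B) := Module.Flat.trans A B _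
  haveI : IsAdicComplete (IsLocalRing.maximalIdeal (AdicCompletion (IsLocalRing.maximalIdeal B) B))
      (AdicCompletion (IsLocalRing.maximalIdeal B) B) := Cohen12.isAdicComplete_completion B
  haveI : IsAdicComplete (IsLocalRing.maximalIdeal (AdicCompletion (IsLocalRing.maximalIdeal A) A))
      (AdicCompletion (IsLocalRing.maximalIdeal A) A) := Cohen12.isAdicComplete_completion A
  obtain ⟨g, hg⟩ := Cohen12.exists_extension A
    (algebraMap A (AdicCompletion (IsLocalRing.maximalIdeal B) B))
    (((IsLocalRing.local_hom_TFAE _).out 0 2 rfl rfl).mp inferInstance)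
  letI := g.toAlgebra
  haveI : IsScalarTower A (AdicCompletion (IsLocalRing.maximalIdeal A) A)
      (AdicCompletion (IsLocalRing.maximalIdeal B) B) := .of_algebraMap_eq fun a => (hg a).symm
  haveI := GRing57.faithfullyFlat_completion_extension A (AdicCompletion (IsLocalRing.maximalIdeal B) B)
  haveI : IsLocalHom (algebraMap (AdicCompletion (IsLocalRing.maximalIdeal A) A)
      (AdicCompletion (IsLocalRing.maximalIdeal B) B)) := by
    refine ((IsLocalRing.local_hom_TFAE _).out 2 0 rfl rfl).mp ?_
    rw [AdicCompletion.maximalIdeal_eq_map, Ideal.map_map, ← IsScalarTower.algebraMap_eq]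
    exact ((IsLocalRing.local_hom_TFAE _).out 0 2 rfl rfl).mp inferInstance
  exact fun Q hQ => CAlg6.FlatC2.two_le_coheight_of_flat hA Q hQ

end Groth.Agent.S16576
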