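import Groth.Statements.S16578
import Groth.Agent.Henz21.EtaleGenerization
-- import your own Groth.Agent.* helpers here

set_option autoImplicit false
universe u
open Hensel

namespace Groth.Agent.S16578

/-- Let A be a Noetherian local ring with completion Â at its maximal ideal, S' a strict henselization
of A, T' a strict henselization of Â, and p a prime ideal of A. Say that a prime p of a Noetherian
local ring with strict henselization S is an immediate étale generization of the closed point when
some minimal prime P over pS has dim S/P = 1. Then p is an immediate étale generization of the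
closed point of A if and only if some minimal prime q over pÂ (a maximal point of the fibre over p
of Spec Â → Spec A) is an immediate étale generization of the closed point of Â. -/
theorem result
    (A : Type u) [CommRing A] [IsNoetherianRing A] [IsLocalRing A]
    (S' : Type u) [CommRing S'] [IsLocalRing S'] [Algebra A S'] [IsLocalHom (algebraMap A S')]
    [Hensel.IsStrictHenselization A S']
    (T' : Type u) [CommRing T'] [IsLocalRing T'] [Algebra (AdicCompletion (IsLocalRing.maximalIdeal A) A) T'] [IsLocalHom (algebraMap (AdicCompletion (IsLocalRing.maximalIdeal A) A) T')]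
    [Hensel.IsStrictHenselization (AdicCompletion (IsLocalRing.maximalIdeal A) A) T']
    (p : Ideal A) [p.IsPrime] :
    (∃ P ∈ (p.map (algebraMap A S')).minimalPrimes, ringKrullDim (S' ⧸ P) = 1) ↔
    (∃ q ∈ (p.map (algebraMap A (AdicCompletion (IsLocalRing.maximalIdeal A) A))).minimalPrimes,
      ∃ Q ∈ (q.map (algebraMap (AdicCompletion (IsLocalRing.maximalIdeal A) A) T')).minimalPrimes, ringKrullDim (T' ⧸ Q) = 1) := by
  let Ah := AdicCompletion (IsLocalRing.maximalIdeal A) A
  let S₀ := Henz21.StrictHenselization A
  let T₀ := Henz21.StrictHenselization Ah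
  have eS : S₀ ≃ₐ[A] S' := Henz21.strictHenselizationEquiv (R := A) S'
  have eT : T₀ ≃ₐ[Ah] T' := Henz21.strictHenselizationEquiv (R := Ah) T'
  obtain ⟨a, ha, _, _, hm, hres⟩ := Henz21.exists_approx_strict_comp (A := A)
  let := a
  have : Module.Flat Ah T₀ := inferInstance
  let : Algebra A T₀ := ((algebraMap Ah T₀).comp (algebraMap A Ah)).toAlgebra
  have : IsScalarTower A Ah T₀ := IsScalarTower.of_algebraMap_eq' rfl
  have : IsScalarTower A S₀ T₀ := IsScalarTower.of_algebraMap_eq' ha.symm
  constructor
  · intro h
    obtain ⟨Q, hQ, hQ1⟩ := (Henz21.exists_dim_one_iff_of_ff (C := T₀) hm hres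
      (p.map (algebraMap A S₀))).1 (Henz21.exists_dim_one_of_algEquiv eS.symm p h)
    rw [Ideal.map_map, ← IsScalarTower.algebraMap_eq] at hQ
    obtain ⟨q, hq, hQq⟩ := (Henz21.minimalPrimes_map_tower (B := Ah) p Q).1 hQ
    exact ⟨q, hq, Henz21.exists_dim_one_of_algEquiv eT q ⟨Q, hQq, hQ1⟩⟩
  · rintro ⟨q, hq, h⟩
    obtain ⟨Q, hQ, hQ1⟩ := Henz21.exists_dim_one_of_algEquiv eT.symm q h
    refine Henz21.exists_dim_one_of_algEquiv eS p ((Henz21.exists_dim_one_iff_of_ff (C := T₀) hm hres
      (p.map (algebraMap A S₀))).2 ⟨Q, ?_, hQ1⟩)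
    rw [Ideal.map_map, ← IsScalarTower.algebraMap_eq]
    exact (Henz21.minimalPrimes_map_tower (B := Ah) p Q).2 ⟨q, hq, hQ⟩

end Groth.Agent.S16578
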