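import Groth.Statements.S16579
import Groth.Agent.Henz21.GabberClopen.Main
-- import your own Groth.Agent.* helpers here

set_option autoImplicit false
universe u
open CategoryTheory AlgebraicGeometry
open Hensel

namespace Groth.Agent.S16579

/-- The case of the constant sheaf on a two-element set. Let (A, I) be a henselian pair with I finitely
generated (A not necessarily Noetherian), Â the I-adic completion of A, π : Spec Â → Spec A the
completion morphism, U a quasi-compact open subscheme of Spec A containing the complement of V(I),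
and Û = π⁻¹(U). Then V ↦ (π|Û)⁻¹(V) is a bijection from the clopen subsets of U onto the clopen
subsets of Û; equivalently, for every finite set F the locally constant F-valued functions on U and
on Û correspond under composition with π. -/
theorem result
    (A : Type u) [CommRing A] (I : Ideal A) (hI : I.FG) [HenselianRing A I]
    (U : (Spec (CommRingCat.of A)).Opens) (hU : IsCompact (U : Set (Spec (CommRingCat.of A))))
    (hUI : ∀ x : Spec (CommRingCat.of A), x ∉ U → I ≤ x.asIdeal) :
    Function.Bijective (fun V : {V : Set ↥U // IsClopen V} =>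
      (⟨((Spec.map (CommRingCat.ofHom (algebraMap A (AdicCompletion I A)))) ∣_ U).base.hom ⁻¹' V.1, V.2.preimage ((Spec.map (CommRingCat.ofHom (algebraMap A (AdicCompletion I A)))) ∣_ U).base.hom.continuous⟩ :
        {V' : Set ↥((Spec.map (CommRingCat.ofHom (algebraMap A (AdicCompletion I A)))) ⁻¹ᵁ U) // IsClopen V'})) := by
  let π := Spec.map (CommRingCat.ofHom (algebraMap A (AdicCompletion I A)))
  have hUI' : ∀ x : PrimeSpectrum A, x ∉ (U : Set (Spec (CommRingCat.of A))) → I ≤ x.asIdeal := hUI
  have hrest : ∀ (z : ↥(π ⁻¹ᵁ U)),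
      ((π ∣_ U).base.hom z).1 = PrimeSpectrum.comap (algebraMap A (AdicCompletion I A)) z.1 := fun z => by
    exact morphismRestrict_base_coe π U z
  have hopen : ∀ V : {V : Set ↥U // IsClopen V}, IsOpen (Subtype.val '' V.1) ∧
      IsOpen ((U : Set (Spec (CommRingCat.of A))) \ Subtype.val '' V.1) := fun V => by
    refine ⟨U.2.isOpenMap_subtype_val _ V.2.2, ?_⟩
    have : (U : Set (Spec (CommRingCat.of A))) \ Subtype.val '' V.1 = Subtype.val '' V.1ᶜ := by
      rw [Set.image_compl_eq_range_sdiff_image Subtype.val_injective]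
      exact congrArg (fun T => T \ _) Subtype.range_coe.symm
    rw [this]
    exact U.2.isOpenMap_subtype_val _ V.2.compl.2
  refine ⟨fun V V' h => ?_, fun S => ?_⟩
  · have h' := congrArg Subtype.val h
    have key := Henz21.GabberClopen.eq_of_preimage_eq I hI (U := (U : Set (Spec (CommRingCat.of A))))
      (V := Subtype.val '' V.1) (V' := Subtype.val '' V'.1) U.2 hU hUI' (Subtype.coe_image_subset _ _)
      (hopen V).1 (hopen V).2 (Subtype.coe_image_subset _ _) (hopen V').1 (hopen V').2 (fun y => by
        constructor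
        · rintro ⟨x, hx, hxy⟩
          have hy : y ∈ π ⁻¹ᵁ U := show PrimeSpectrum.comap _ y ∈ _ from hxy.subst (motive := fun q => q ∈ (U : Set (Spec (CommRingCat.of A)))) x.2
          have hxe : (π ∣_ U).base.hom ⟨y, hy⟩ = x := Subtype.ext ((hrest _).trans hxy.symm)
          have := (Set.ext_iff.1 h' ⟨y, hy⟩).1 (show (π ∣_ U).base.hom ⟨y, hy⟩ ∈ V.1 by rw [hxe]; exact hx)
          exact ⟨_, this, hrest _⟩
        · rintro ⟨x, hx, hxy⟩
          have hy : y ∈ π ⁻¹ᵁ U := show PrimeSpectrum.comap _ y ∈ _ from hxy.subst (motive := fun q => q ∈ (U : Set (Spec (CommRingCat.of A)))) x.2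
          have hxe : (π ∣_ U).base.hom ⟨y, hy⟩ = x := Subtype.ext ((hrest _).trans hxy.symm)
          have := (Set.ext_iff.1 h' ⟨y, hy⟩).2 (show (π ∣_ U).base.hom ⟨y, hy⟩ ∈ V'.1 by rw [hxe]; exact hx)
          exact ⟨_, this, hrest _⟩)
    exact Subtype.ext (Subtype.val_injective.image_injective key)
  · obtain ⟨V, hVU, hV, hVc, hVS⟩ := Henz21.GabberClopen.exists_preimage_eq I hI
      (U := (U : Set (Spec (CommRingCat.of A)))) U.2 hU hUI' (S := Subtype.val '' S.1)
      (by rintro _ ⟨z, -, rfl⟩; exact z.2)
      ((π ⁻¹ᵁ U).2.isOpenMap_subtype_val _ S.2.2) (by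
        have : ((π ⁻¹ᵁ U : _) : Set (Spec (CommRingCat.of (AdicCompletion I A)))) \ Subtype.val '' S.1 =
            Subtype.val '' S.1ᶜ := by
          rw [Set.image_compl_eq_range_sdiff_image Subtype.val_injective]
          exact congrArg (fun T => T \ _) Subtype.range_coe.symm
        exact this ▸ (π ⁻¹ᵁ U).2.isOpenMap_subtype_val _ S.2.compl.2)
    refine ⟨⟨Subtype.val ⁻¹' V, ?_, hV.preimage continuous_subtype_val⟩, Subtype.ext (Set.ext fun z => ?_)⟩
    · have h1 : IsOpen (X := ↥U) {x : ↥U | x.1 ∈ (U : Set (Spec (CommRingCat.of A))) \ V} :=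
        hVc.preimage continuous_subtype_val
      refine isOpen_compl_iff.1 ?_
      convert h1 using 1
      ext x
      exact ⟨fun hx => ⟨x.2, hx⟩, fun hx => hx.2⟩
    · show ((π ∣_ U).base.hom z).1 ∈ V ↔ z ∈ S.1
      rw [hrest]
      exact (Set.ext_iff.1 hVS z.1).trans Subtype.val_injective.mem_set_image

end Groth.Agent.S16579
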