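import Groth.Statements.S1659
import Groth.Agent.Div89.DivProd

set_option autoImplicit false
universe u
open CategoryTheory CategoryTheory.Limits AlgebraicGeometry
open Divisors

namespace Groth.Agent.S1659

/-- Let X be Noetherian, D an effective Cartier divisor and D_1, …, D_r effective Cartier divisors which
are integral as closed subschemes, with D contained set-theoretically in their union. Then D = Σ a_i
D_i for some a_i ≥ 0, i.e. the ideal sheaf of D is the product of the a_i-th powers of the ideal
sheaves of the D_i. -/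
theorem result (X : Scheme.{u}) [IsNoetherian X] (D : X.IdealSheafData) (hD : BlowUp.IsEffCartierIdeal D)
    (r : ℕ) (Ds : Fin r → X.IdealSheafData) (hDs : ∀ i, BlowUp.IsEffCartierIdeal (Ds i)) (hint : ∀ i, IsIntegral (Ds i).subscheme)
    (hsub : (D.support : Set X) ⊆ ⋃ i, ((Ds i).support : Set X)) :
    ∃ a : Fin r → ℕ, D = ∏ i, Ds i ^ a i := by
  obtain ⟨a, hle, U, hU, hcod⟩ := Div89.exists_effCartier_in_closed D
    (I := ULift.{u} (Fin r)) (fun i => Ds i.down) (fun i => hDs i.down) (fun i => hint i.down)
    ∅ isClosed_empty (by simp) (by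
      rw [Set.empty_union]
      exact hsub.trans (Set.iUnion_subset fun i => Set.subset_iUnion_of_subset (ULift.up i) subset_rfl))
  refine ⟨fun i => a ⟨i⟩, ?_⟩
  have hprod : a.prod (fun i n => Ds i.down ^ n) = ∏ i, Ds i ^ a ⟨i⟩ := by
    rw [Finsupp.prod_fintype _ _ fun i => pow_zero _]
    exact (Equiv.prod_comp Equiv.ulift.symm fun j : ULift.{u} (Fin r) => Ds j.down ^ a j).symm
  have hP : BlowUp.IsEffCartierIdeal (a.prod (fun i n => Ds i.down ^ n)) :=
    Div89.DivProd.isEffCartier_prod _ _ fun i _ => Div89.isEffCartier_pow (hDs i.down) _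
  exact (Div89.DivProd.eq_of_le_of_eq_on hD hP hle hU hcod).trans hprod

end Groth.Agent.S1659
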