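import Groth.Statements.S16599
import Groth.Agent.LG97.Points

set_option autoImplicit false
open AlgebraicGeometry
universe u
open LGRing

namespace Groth.Agent.S16599

/-- Let R be an LG-ring, n ≥ 0, and U an open quasi-compact subscheme of affine n-space Spec R[X₁, …,
Xₙ]. If U has an (R ⧸ m)-valued point over R for every maximal ideal m of R, then U has an R-valued
point: some n-tuple x over R defines a section Spec R ⟶ Spec R[X₁, …, Xₙ] with image inside U. -/
theorem result {R : Type u} [CommRing R] (hR : LGRing.IsLGRing R)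
    (n : ℕ) (U : (Spec (CommRingCat.of (MvPolynomial (Fin n) R))).Opens)
    (hU : IsCompact (U : Set ↥(Spec (CommRingCat.of (MvPolynomial (Fin n) R)))))
    (h : ∀ (m : Ideal R) [m.IsMaximal], ∃ x : Fin n → R ⧸ m,
      Set.range (Spec.map (CommRingCat.ofHom (MvPolynomial.eval₂Hom (Ideal.Quotient.mk m) x))).base ⊆
        (U : Set ↥(Spec (CommRingCat.of (MvPolynomial (Fin n) R))))) :
    ∃ x : Fin n → R, Set.range (Spec.map (CommRingCat.ofHom (MvPolynomial.eval x))).base ⊆
      (U : Set ↥(Spec (CommRingCat.of (MvPolynomial (Fin n) R)))) := by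
  obtain ⟨t, ht, hUt⟩ := LG97.exists_finite_compl U hU
  obtain ⟨x, hx⟩ := LG97.exists_point hR (AlgHom.id R (MvPolynomial (Fin n) R)) ht fun m hm => by
    obtain ⟨x, hx⟩ := h m
    rw [hUt, LG97.range_subset_iff] at hx
    refine ⟨x, ?_⟩
    by_contra hall
    push Not at hall
    have hle : Ideal.span ((MvPolynomial.eval₂Hom (Ideal.Quotient.mk m) x) '' t) ≤ ⊥ :=
      Ideal.span_le.2 (by rintro _ ⟨f, hf, rfl⟩; exact (Ideal.mem_bot).2 (hall f hf))
    rw [hx] at hle
    haveI : Nontrivial (R ⧸ m) := Ideal.Quotient.nontrivial_iff.2 (Ideal.IsMaximal.ne_top hm)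
    exact bot_ne_top (top_le_iff.1 hle)
  refine ⟨x, ?_⟩
  rw [hUt, LG97.range_subset_iff]
  convert hx using 3
  simp [MvPolynomial.aeval_eq_eval]

end Groth.Agent.S16599
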