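import Groth.Statements.S16600
import Groth.Agent.LG97.Points

set_option autoImplicit false
open AlgebraicGeometry
universe u
open LGRing

namespace Groth.Agent.S16600

/-- Let R be an LG-ring, M a finite locally free R-module, W(M) = Spec Sym(M^∨) the vector bundle of M
(its points with values in an R-algebra R' are the R-algebra maps Sym(M^∨) → R', i.e. the R-linear
maps M^∨ → R'), and U ⊆ W(M) an open quasi-compact subscheme. Then U(R) is non-empty if and only if
U(R ⧸ m) is non-empty for every maximal ideal m of R. -/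
theorem result {R : Type u} [CommRing R]
    (hR : LGRing.IsLGRing R) (M : Type u) [AddCommGroup M] [Module R M] [Module.Finite R M] [Module.Projective R M]
    (U : (Spec (CommRingCat.of (SymmetricAlgebra R (Module.Dual R M)))).Opens)
    (hU : IsCompact (U : Set ↥(Spec (CommRingCat.of (SymmetricAlgebra R (Module.Dual R M)))))) :
    (∃ φ : Module.Dual R M →ₗ[R] R,
      Set.range (Spec.map (CommRingCat.ofHom (SymmetricAlgebra.lift φ).toRingHom)).base ⊆
        (U : Set ↥(Spec (CommRingCat.of (SymmetricAlgebra R (Module.Dual R M)))))) ↔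
    ∀ (m : Ideal R) [m.IsMaximal], ∃ φ : Module.Dual R M →ₗ[R] (R ⧸ m),
      Set.range (Spec.map (CommRingCat.ofHom (SymmetricAlgebra.lift φ).toRingHom)).base ⊆
        (U : Set ↥(Spec (CommRingCat.of (SymmetricAlgebra R (Module.Dual R M))))) := by
  constructor
  · rintro ⟨φ, hφ⟩ m hm
    refine ⟨(Algebra.linearMap R (R ⧸ m)) ∘ₗ φ, ?_⟩
    have e : (SymmetricAlgebra.lift ((Algebra.linearMap R (R ⧸ m)) ∘ₗ φ)).toRingHom =
        ((Algebra.ofId R (R ⧸ m)).comp (SymmetricAlgebra.lift φ)).toRingHom := by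
      congr 1
      ext d
      simp
    rw [e, show CommRingCat.ofHom ((Algebra.ofId R (R ⧸ m)).comp (SymmetricAlgebra.lift φ)).toRingHom =
      CategoryTheory.CategoryStruct.comp (CommRingCat.ofHom (SymmetricAlgebra.lift φ).toRingHom) (CommRingCat.ofHom (Algebra.ofId R (R ⧸ m)).toRingHom) from rfl,
      Spec.map_comp]
    rintro _ ⟨z, rfl⟩
    exact hφ ⟨_, rfl⟩
  · intro h
    obtain ⟨t, ht, hUt⟩ := LG97.exists_finite_compl U hU
    obtain ⟨a, i, p, hip⟩ := LG97.exists_split (R := R) M
    refine LG97.exists_bundle_point hR hip U ht hUt fun m hm => ?_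
    obtain ⟨φ, hφ⟩ := h m
    rw [hUt, LG97.range_subset_iff, LG97.lift_eq hip φ] at hφ
    refine ⟨fun j => φ (LinearMap.proj j ∘ₗ i), ?_⟩
    by_contra hall
    push Not at hall
    have hle : (⊤ : Ideal (R ⧸ m)) ≤ ⊥ := hφ.ge.trans
      (Ideal.span_le.2 (by rintro _ ⟨f, hf, rfl⟩; exact (Ideal.mem_bot).2 (hall f hf)))
    haveI : Nontrivial (R ⧸ m) := Ideal.Quotient.nontrivial_iff.2 (Ideal.IsMaximal.ne_top hm)
    exact bot_ne_top (top_le_iff.1 hle)

end Groth.Agent.S16600
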