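import Groth.Statements.S16601
import Groth.Agent.LG97.Points

set_option autoImplicit false
open AlgebraicGeometry
universe u
open LGRing

namespace Groth.Agent.S16601

/-- Let R be an LG-ring whose residue fields at maximal ideals are all infinite (R satisfies the
primitive criterion), M a finite locally free R-module with vector bundle W(M) = Spec Sym(M^∨), and
U ⊆ W(M) an open quasi-compact subscheme which is fibrewise dense over the closed points of Spec R
(for every maximal ideal m, the trace of U on the closed fibre Spec (Sym(M^∨) ⧸ m Sym(M^∨)) is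
dense). Then U has an R-valued point. (The source asks U to be R-dense in W(M); only density of the
closed fibres is used, which is what is assumed here.) -/
theorem result {R : Type u} [CommRing R]
    (hR : LGRing.IsLGRing R) (hinf : ∀ (m : Ideal R) [m.IsMaximal], Infinite (R ⧸ m))
    (M : Type u) [AddCommGroup M] [Module R M] [Module.Finite R M] [Module.Projective R M]
    (U : (Spec (CommRingCat.of (SymmetricAlgebra R (Module.Dual R M)))).Opens)
    (hU : IsCompact (U : Set ↥(Spec (CommRingCat.of (SymmetricAlgebra R (Module.Dual R M))))))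
    (hdense : ∀ (m : Ideal R) [m.IsMaximal],
      Dense ((Spec.map (CommRingCat.ofHom (Ideal.Quotient.mk
        (Ideal.map (algebraMap R (SymmetricAlgebra R (Module.Dual R M))) m)))).base ⁻¹'
          (U : Set ↥(Spec (CommRingCat.of (SymmetricAlgebra R (Module.Dual R M))))))) :
    ∃ φ : Module.Dual R M →ₗ[R] R,
      Set.range (Spec.map (CommRingCat.ofHom (SymmetricAlgebra.lift φ).toRingHom)).base ⊆
        (U : Set ↥(Spec (CommRingCat.of (SymmetricAlgebra R (Module.Dual R M))))) := by
  classical
  obtain ⟨t, ht, hUt⟩ := LG97.exists_finite_compl U hU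
  obtain ⟨a, i, p, hip⟩ := LG97.exists_split (R := R) M
  refine LG97.exists_bundle_point hR hip U ht hUt fun m hm => ?_
  set A := SymmetricAlgebra R (Module.Dual R M)
  let mA : Ideal A := Ideal.map (algebraMap R A) m
  have hle : mA ≤ m.comap (SymmetricAlgebra.algebraMapInv (R := R) (M := Module.Dual R M)).toRingHom :=
    Ideal.map_le_iff_le_comap.2 fun r hr => by simpa using hr
  have hne : mA ≠ ⊤ := fun h => hm.ne_top (by
    have h1 : (1 : A) ∈ mA := h ▸ Submodule.mem_top
    simpa [Ideal.eq_top_iff_one] using hle h1)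
  haveI : Nontrivial (A ⧸ mA) := Ideal.Quotient.nontrivial_iff.2 hne
  obtain ⟨P, hP⟩ := (hdense m).nonempty_iff.2 ⟨(inferInstance : Nonempty (PrimeSpectrum (A ⧸ mA))).some⟩
  rw [Set.mem_preimage, hUt] at hP
  obtain ⟨f, hf, hfP⟩ := Set.not_subset.1 hP
  have hf' : f ∉ mA := fun h => hfP (by
    show Ideal.Quotient.mk mA f ∈ P.asIdeal
    rw [Ideal.Quotient.eq_zero_iff_mem.2 h]
    exact P.asIdeal.zero_mem)
  have hΘ : MvPolynomial.map (Ideal.Quotient.mk m) (LG97.θ p f) ≠ 0 := fun h0 => hf' (by
    have h1 : LG97.θ p f ∈ Ideal.map (MvPolynomial.C : R →+* MvPolynomial (Fin a) R) m := by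
      have h2 : LG97.θ p f ∈ RingHom.ker (MvPolynomial.map (σ := Fin a) (Ideal.Quotient.mk m)) := h0
      rwa [MvPolynomial.ker_map, Ideal.mk_ker] at h2
    have h3 := Ideal.mem_map_of_mem (LG97.π i).toRingHom h1
    rw [Ideal.map_map, show (LG97.π i).toRingHom.comp MvPolynomial.C = algebraMap R A from
      RingHom.ext fun r => (LG97.π i).commutes r] at h3
    rwa [show (LG97.π i).toRingHom (LG97.θ p f) = f from LG97.π_θ hip f] at h3)
  haveI := hinf m
  obtain ⟨x, hx⟩ : ∃ x, MvPolynomial.eval x (MvPolynomial.map (Ideal.Quotient.mk m) (LG97.θ p f)) ≠ 0 := by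
    by_contra hall
    push Not at hall
    exact hΘ (MvPolynomial.funext fun x => by rw [hall x, map_zero])
  refine ⟨x, f, hf, ?_⟩
  rwa [MvPolynomial.eval_map] at hx

end Groth.Agent.S16601
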