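import Groth.Statements.S16602
import Groth.Agent.Csa25.AzuLG

set_option autoImplicit false
universe u v w
open Brauer

namespace Groth.Agent.S16602

/-- Let R be an LG-ring with Spec R connected and A an Azumaya R-algebra. Then any two indecomposable
finitely generated projective left A-modules are isomorphic (a module is indecomposable when it is
non-zero and the only idempotents of its endomorphism ring are 0 and 1). (This extends the semilocal
case.) -/
theorem result {R : Type u} [CommRing R]
    (hR : LGRing.IsLGRing R) [ConnectedSpace (PrimeSpectrum R)] {A : Type v} [Ring A] [Algebra R A] [IsAzumaya R A]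
    (P Q : Type w) [AddCommGroup P] [Module A P] [Module.Finite A P] [Module.Projective A P] [Nontrivial P]
    [AddCommGroup Q] [Module A Q] [Module.Finite A Q] [Module.Projective A Q] [Nontrivial Q]
    (hP : ∀ e : Module.End A P, IsIdempotentElem e → e = 0 ∨ e = 1)
    (hQ : ∀ e : Module.End A Q, IsIdempotentElem e → e = 0 ∨ e = 1) : Nonempty (P ≃ₗ[A] Q) := by
  letI : Module R P := Module.compHom P (algebraMap R A)
  letI : Module R Q := Module.compHom Q (algebraMap R A)
  haveI : IsScalarTower R A P := IsScalarTower.of_algebraMap_smul fun _ _ => rfl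
  haveI : IsScalarTower R A Q := IsScalarTower.of_algebraMap_smul fun _ _ => rfl
  obtain ⟨_, _⟩ := Groth.Agent.Csa25.base_finite_projective (R := R) (A := A) P
  obtain ⟨_, _⟩ := Groth.Agent.Csa25.base_finite_projective (R := R) (A := A) Q
  obtain ⟨p₀⟩ : Nonempty (PrimeSpectrum R) := inferInstance
  rcases le_total (Module.rankAtStalk Q p₀) (Module.rankAtStalk P p₀) with h | h
  · exact Groth.Agent.Csa25.iso_of_indecomposable hR P Q hP fun m _ => by
      rw [Groth.Agent.Csa25.rankAtStalk_const Q _ p₀, Groth.Agent.Csa25.rankAtStalk_const P _ p₀]; exact h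
  · obtain ⟨e⟩ := Groth.Agent.Csa25.iso_of_indecomposable hR Q P hQ fun m _ => by
      rw [Groth.Agent.Csa25.rankAtStalk_const Q _ p₀, Groth.Agent.Csa25.rankAtStalk_const P _ p₀]; exact h
    exact ⟨e.symm⟩

end Groth.Agent.S16602
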