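import Groth.Statements.S16615
import Groth.Agent.RedPts82.QuotBc

set_option autoImplicit false
open CategoryTheory MonoidalCategory CartesianMonoidalCategory MonObj GrpObj AlgebraicGeometry
universe u
open SGA3x
open Groth.Agent.RedPts82

namespace Groth.Agent.S16615

/-- Over an arbitrary scheme S, the quotient Q = T/H of an S-torus T by a subgroup scheme H of (finite)
multiplicative type, when represented by an S-group Q with a homomorphism q : T ⟶ Q which is an fppf
covering identifying T ×_S H with T ×_Q T, is again a torus. -/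
theorem result {S : Scheme.{u}} {T H Q : Over S} [GrpObj T] [GrpObj H]
    [GrpObj Q] (hT : Red.IsTorus T) (i : H ⟶ T) [IsMonHom i] [Mono i] (hH : SGA3x.IsMultTypeFT H)
    (q : T ⟶ Q) [IsMonHom q] (hq : RedSub.IsQuotient i q) : Red.IsTorus Q := by
  obtain ⟨S', f, hf, hs, hqc, hloc⟩ := hT
  refine ⟨S', f, hf, hs, hqc, fun s' => ?_⟩
  obtain ⟨U, hU, r, hr⟩ := hloc s'
  obtain ⟨V, hV, r', -, h⟩ := exists_quotient_chart (U.ι ≫ f) hr i hH q hq ⟨s', hU⟩
  let e := IsOpenImmersion.lift (V.ι ≫ U.ι) (U.ι ''ᵁ V).ι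
    (by rw [Scheme.Opens.range_ι, Scheme.Hom.comp_base, TopCat.coe_comp, Set.range_comp,
      Scheme.Opens.range_ι]; exact le_rfl)
  refine ⟨U.ι ''ᵁ V, ⟨⟨s', hU⟩, hV, rfl⟩, r', ?_⟩
  rw [← IsOpenImmersion.lift_fac (V.ι ≫ U.ι) (U.ι ''ᵁ V).ι
    (by rw [Scheme.Opens.range_ι, Scheme.Hom.comp_base, TopCat.coe_comp, Set.range_comp,
      Scheme.Opens.range_ι]; exact le_rfl), Category.assoc, Category.assoc]
  exact split_bc _ e h

end Groth.Agent.S16615
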