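import Groth.Statements.S16617
import Groth.Agent.RedPts82.QuotBc

set_option autoImplicit false
open CategoryTheory MonoidalCategory CartesianMonoidalCategory MonObj GrpObj AlgebraicGeometry
universe u
open SGA3x
open Groth.Agent.RedPts82

namespace Groth.Agent.S16617

/-- Let S be a connected scheme, T ≅ D_S(ℤ^r) a split S-torus, H a subgroup scheme of T of (finite)
multiplicative type and q : T ⟶ Q a homomorphism presenting Q as the fppf quotient T/H. Then Q is a
split torus of rank at most r. -/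
theorem result {S : Scheme.{u}} [ConnectedSpace ↥S]
    {T H Q : Over S} [GrpObj T] [GrpObj H] [GrpObj Q] (r : ℕ) (hT : Red.IsSplitTorusWith (Fin r → ℤ) T)
    (i : H ⟶ T) [IsMonHom i] [Mono i] (hH : SGA3x.IsMultTypeFT H) (q : T ⟶ Q) [IsMonHom q]
    (hq : RedSub.IsQuotient i q) : ∃ r' : ℕ, r' ≤ r ∧ Red.IsSplitTorusWith (Fin r' → ℤ) Q := by
  obtain ⟨s⟩ := (inferInstance : Nonempty ↥S)
  obtain ⟨U, hs, hUc, r', hr, h⟩ := exists_quotient_split hT i hH q hq s
  have hU : U = ⊤ := TopologicalSpace.Opens.ext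
    ((isClopen_iff.mp (⟨hUc, U.2⟩ : IsClopen (U : Set S))).resolve_left
      (Set.nonempty_iff_ne_empty.mp ⟨s, hs⟩))
  subst hU
  exact ⟨r', hr, split_of_top h⟩

end Groth.Agent.S16617
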