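import Groth.Statements.S16630
import Groth.Agent.Ega11.NormStab
import Groth.Agent.Ega11.NodalFactor
-- import your own Groth.Agent.* helpers here

set_option autoImplicit false
universe u
open CategoryTheory CategoryTheory.Limits AlgebraicGeometry
open TFCurv

namespace Groth.Agent.S16630

/-- Let X be an integral proper curve (integral, proper, of dimension one) over an algebraically closed
field k, ν : X~ → X its normalisation, L an ample invertible module on X and E a finite locally free
module of rank n on X~. Then E is semistable if and only if ν_*E is semistable on X. Semistability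
is taken for pure one-dimensional sheaves with respect to reduced Hilbert polynomials, E being
polarised by ν^*L and ν_*E by L; on an integral curve this is the slope condition deg F · rk E ≤ deg
E · rk F for every nonzero torsion-free subsheaf F, degrees being defined through the Euler
characteristic, and it does not depend on the ample polarisation. -/
theorem result (k : Type u) [Field k] [IsAlgClosed k] (X : Scheme.{u}) [X.Over (Spec (CommRingCat.of k))] [IsIntegral X] [IsProper (X ↘ Spec (CommRingCat.of k))] (hdim : topologicalKrullDim X = 1) [QuasiCompact (X.fromSpecStalk (genericPoint X))] [QuasiSeparated (X.fromSpecStalk (genericPoint X))] (L : X.Modules) (hL : CohB1.IsAmple L) (n : ℕ) (E : (Curv2.normalization X).Modules) (hE : FlatMod.IsFinLocFreeOfRank n E) :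
    letI : (Curv2.normalization X).Over (Spec (CommRingCat.of k)) := ⟨Curv2.normalizationι X ≫ X ↘ Spec (CommRingCat.of k)⟩
    ShStab.IsSemistable k (Curv2.normalization X) ((Scheme.Modules.pullback (Curv2.normalizationι X)).obj L) E 1 ↔ ShStab.IsSemistable k X L ((Coh.push (Curv2.normalizationι X)).obj E) 1 := by
  classical
  set_option backward.isDefEq.respectTransparency.types false in
  have : IsLocallyNoetherian X := LocallyOfFiniteType.isLocallyNoetherian (X ↘ Spec (CommRingCat.of k))
  have : CompactSpace X := QuasiCompact.compactSpace_of_compactSpace (X ↘ Spec (CommRingCat.of k))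
  have : IsIntegral (Curv2.normalization X) :=
    inferInstanceAs (IsIntegral (X.fromSpecStalk (genericPoint X)).normalization)
  let ν := Curv2.normalizationι X
  have : IsFinite ν := Groth.Agent.Ega11.NormCurve.isFinite k X
  letI : (Curv2.normalization X).Over (Spec (CommRingCat.of k)) := ⟨ν ≫ X ↘ Spec (CommRingCat.of k)⟩
  have : IsProper (Curv2.normalization X ↘ Spec (CommRingCat.of k)) :=
    inferInstanceAs (IsProper (ν ≫ X ↘ Spec (CommRingCat.of k)))
  obtain ⟨V₀, hV, -, -⟩ := Groth.Agent.Ega11.NormCurve.exists_birOn k X hdim.le
  exact (Groth.Agent.Ega11.NormStab.semistable_stable_iff (k := k) (π := ν) rfl hV hdim hL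
    (Groth.Agent.CD47.isCoh_of_isFinLocFree (fun x => by
      obtain ⟨U, hx, hU⟩ := hE x
      exact ⟨U, n, hx, hU⟩))
    (Groth.Agent.Ega11.NodalFactor.isTorsionFree_of_finLocFree hE)).1

end Groth.Agent.S16630
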