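import Groth.Statements.S16631
import Groth.Agent.Ega11.NormStab
import Groth.Agent.Ega11.NodalFactor
-- import your own Groth.Agent.* helpers here

set_option autoImplicit false
universe u
open CategoryTheory CategoryTheory.Limits AlgebraicGeometry
open TFCurv

namespace Groth.Agent.S16631

/-- Suppose k is an algebraically closed field and X is an integral proper curve over k (integral,
proper, of dimension one), with normalisation ν : X~ → X. Given an ample invertible module L on X
and a finite locally free module E of rank n on X~, the direct image ν_*E on X is stable exactly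
when E itself is stable. Here stability means stability of pure one-dimensional sheaves measured by
reduced Hilbert polynomials, where E carries the polarisation ν^*L and ν_*E carries L; for an
integral curve this amounts to the slope inequality deg F · rk E < deg E · rk F holding for each
nonzero torsion-free subsheaf F whose rank is smaller, with degrees computed via the Euler
characteristic, and the condition is independent of which ample polarisation is chosen. -/
theorem result (k : Type u) [Field k] [IsAlgClosed k] (X : Scheme.{u}) [X.Over (Spec (CommRingCat.of k))] [IsIntegral X] [IsProper (X ↘ Spec (CommRingCat.of k))] (hdim : topologicalKrullDim X = 1) [QuasiCompact (X.fromSpecStalk (genericPoint X))] [QuasiSeparated (X.fromSpecStalk (genericPoint X))] (L : X.Modules) (hL : CohB1.IsAmple L) (n : ℕ) (E : (Curv2.normalization X).Modules) (hE : FlatMod.IsFinLocFreeOfRank n E) :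
    letI : (Curv2.normalization X).Over (Spec (CommRingCat.of k)) := ⟨Curv2.normalizationι X ≫ X ↘ Spec (CommRingCat.of k)⟩
    ShStab.IsStable k (Curv2.normalization X) ((Scheme.Modules.pullback (Curv2.normalizationι X)).obj L) E 1 ↔ ShStab.IsStable k X L ((Coh.push (Curv2.normalizationι X)).obj E) 1 := by
  classical
  set_option backward.isDefEq.respectTransparency.types false in
  have : IsLocallyNoetherian X := LocallyOfFiniteType.isLocallyNoetherian (X ↘ Spec (CommRingCat.of k))
  have : CompactSpace X := QuasiCompact.compactSpace_of_compactSpace (X ↘ Spec (CommRingCat.of k))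
  have : IsIntegral (Curv2.normalization X) :=
    inferInstanceAs (IsIntegral (X.fromSpecStalk (genericPoint X)).normalization)
  let ν := Curv2.normalizationι X
  have : IsFinite ν := Groth.Agent.Ega11.NormCurve.isFinite k X
  letI : (Curv2.normalization X).Over (Spec (CommRingCat.of k)) := ⟨ν ≫ X ↘ Spec (CommRingCat.of k)⟩
  have : IsProper (Curv2.normalization X ↘ Spec (CommRingCat.of k)) :=
    inferInstanceAs (IsProper (ν ≫ X ↘ Spec (CommRingCat.of k)))
  obtain ⟨V₀, hV, -, -⟩ := Groth.Agent.Ega11.NormCurve.exists_birOn k X hdim.le
  exact (Groth.Agent.Ega11.NormStab.semistable_stable_iff (k := k) (π := ν) rfl hV hdim hL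
    (Groth.Agent.CD47.isCoh_of_isFinLocFree (fun x => by
      obtain ⟨U, hx, hU⟩ := hE x
      exact ⟨U, n, hx, hU⟩))
    (Groth.Agent.Ega11.NodalFactor.isTorsionFree_of_finLocFree hE)).2

end Groth.Agent.S16631
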