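import Groth.Statements.S16638
import Groth.Agent.RedPts26.ClosedGrp

set_option autoImplicit false
open CategoryTheory MonoidalCategory CartesianMonoidalCategory MonObj GrpObj AlgebraicGeometry
universe u
open RedSub

namespace Groth.Agent.S16638

/-- Let G be a reductive group scheme over a scheme S with a splitting D, and let Ψ be a closed set of
roots (a, b ∈ Ψ with a + b a root forces a + b ∈ Ψ) containing no pair of opposite roots. Then the
root groups U_a, a ∈ Ψ, directly span, in any order, one and the same closed subgroup scheme U_Ψ of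
G: U_Ψ is smooth over S with connected geometric fibres containing no non-trivial subtorus, it is
normalised by the torus of the splitting, and for every enumeration of Ψ the ordered product of the
root homomorphisms is an isomorphism from a power of the additive group onto U_Ψ. -/
theorem result {S : Scheme.{u}} {G : Over S} [GrpObj G]
    (D : Red.SplitRed G) (Ψ : Set D.idx)
    (hcl : ∀ a b c : D.idx, a ∈ Ψ → b ∈ Ψ → D.P.root a + D.P.root b = D.P.root c → c ∈ Ψ)
    (hneg : ∀ a b : D.idx, a ∈ Ψ → D.P.root b = -D.P.root a → b ∉ Ψ) :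
    ∃ (U : Over S) (_ : GrpObj U) (v : U ⟶ G), IsMonHom v ∧ IsClosedImmersion v.left ∧ Smooth U.hom ∧
      (∀ s : S, ConnectedSpace (Red.geomFibre s U).left ∧
        Red.HasNoSubtorus (AlgebraicClosure (S.residueField s)) (Red.geomFibre s U)) ∧
      (∀ (X : Over S) (t : X ⟶ D.T) (x : X ⟶ U), ∃ x' : X ⟶ U, (t ≫ D.i) * (x ≫ v) * (t ≫ D.i)⁻¹ = x' ≫ v) ∧
      ∀ {m : ℕ} (e : Fin m → D.idx), RedSub.Enumerates Ψ e →
        ∃ ψ : RedSub.pow (Red.Ga S) m ≅ U, ψ.hom ≫ v = RedSub.prodMap (Red.Ga S) m (fun k => D.u (e k)) := by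
  obtain ⟨l, hl⟩ := Groth.Agent.RedPts26.exists_functional_pos_closed D.P hcl hneg
  obtain ⟨o, ho, hlt⟩ := Groth.Agent.RedPts26.exists_order l
  letI : LinearOrder D.M := o
  haveI : IsOrderedAddMonoid D.M := ho
  have hpos : ∀ a ∈ Ψ, 0 < D.P.root a := fun a ha => hlt 0 _ (by simpa using hl a ha)
  obtain ⟨N, e, H⟩ := Groth.Agent.RedPts26.exists_ordEnum D
  obtain ⟨U, hgrp, v, hhom, hmono, hci, hsm, ⟨m₀, ⟨φ⟩⟩, hU⟩ :=
    Groth.Agent.RedPts26.exists_closed_subgroup H Ψ hcl hpos
  refine ⟨U, hgrp, v, hhom, hci, hsm, fun s => ⟨?_, ?_⟩, fun X t x => ?_,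
    fun e' he' => Groth.Agent.RedPts26.exists_param H Ψ hcl hpos v hU e' he'⟩
  · have := Groth.Agent.RedPts26.connected_bc_pow (Red.geomPt s) m₀
    let eh : (Red.bc (Red.geomPt s) (RedSub.pow (Red.Ga S) m₀)).left ≃ₜ (Red.geomFibre s U).left :=
      Scheme.homeoOfIso ((Over.forget _).mapIso ((Over.pullback (Red.geomPt s)).mapIso φ))
    exact eh.surjective.connectedSpace eh.continuous
  · exact Groth.Agent.RedPts26.hasNoSubtorus_bc H v
      (fun X x => Groth.Agent.RedPts26.suppGrp_le H Ψ hcl X ((hU X _).mpr ⟨x, rfl⟩)) (Red.geomPt s)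
  · obtain ⟨x', hx'⟩ := (hU X _).mp
      (Groth.Agent.RedPts26.suppGrp_conj_torus H Ψ hcl t ((hU X _).mpr ⟨x, rfl⟩))
    exact ⟨x', hx'.symm⟩

end Groth.Agent.S16638
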