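import Groth.Statements.S16644
import Mathlib.Tactic
import Mathlib.Algebra.CharP.Two
import Mathlib.GroupTheory.Perm.Cycle.Type

set_option autoImplicit false
open QuadZ

namespace Groth.Agent.S16644

/-- For odd n, the discriminant of the universal quadratic form Σ_{i ≤ j} A_{ij} x_i x_j in n variables
(variables A_{ij} indexed by unordered pairs), i.e. the determinant of the symmetric matrix with
diagonal entries 2 A_{ii} and off-diagonal entries A_{ij}, is divisible by 2 in the integral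
polynomial ring ℤ[A_{ij}] (so the half-discriminant is an integral polynomial). -/
theorem result (n : ℕ) (hn : Odd n) :
    (2 : MvPolynomial (Sym2 (Fin n)) ℤ) ∣
      (Matrix.of fun i j : Fin n =>
        if i = j then 2 * MvPolynomial.X (R := ℤ) (σ := Sym2 (Fin n)) (Sym2.mk i j)
        else MvPolynomial.X (R := ℤ) (σ := Sym2 (Fin n)) (Sym2.mk i j)).det := by
  classical
  set φ := MvPolynomial.map (σ := Sym2 (Fin n)) (Int.castRingHom (ZMod 2)) with hφ
  suffices h : φ (Matrix.of fun i j : Fin n =>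
        if i = j then 2 * MvPolynomial.X (R := ℤ) (σ := Sym2 (Fin n)) (Sym2.mk i j)
        else MvPolynomial.X (R := ℤ) (σ := Sym2 (Fin n)) (Sym2.mk i j)).det = 0 by
    have := (MvPolynomial.C_dvd_iff_map_hom_eq_zero (Int.castRingHom (ZMod 2)) (2 : ℤ)
      (fun b => by rw [eq_intCast, ZMod.intCast_zmod_eq_zero_iff_dvd]; rfl) _).mpr h
    simpa using this
  rw [RingHom.map_det, Matrix.det_apply']
  set A := φ.mapMatrix (Matrix.of fun i j : Fin n =>
        if i = j then 2 * MvPolynomial.X (R := ℤ) (σ := Sym2 (Fin n)) (Sym2.mk i j)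
        else MvPolynomial.X (R := ℤ) (σ := Sym2 (Fin n)) (Sym2.mk i j)) with hA
  have h2 : (2 : MvPolynomial (Sym2 (Fin n)) (ZMod 2)) = 0 := CharTwo.two_eq_zero
  have hsymm : ∀ i j, A i j = A j i := by
    intro i j
    rcases eq_or_ne i j with rfl | h
    · rfl
    · simp [hA, h, h.symm, Sym2.eq_swap]
  have hdiag : ∀ i, A i i = 0 := fun i => by simp [hA, map_mul, map_ofNat, h2]
  have hsign : ∀ σ : Equiv.Perm (Fin n), ((Equiv.Perm.sign σ : ℤ) : MvPolynomial (Sym2 (Fin n)) (ZMod 2)) = 1 := by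
    intro σ
    rcases Int.units_eq_one_or (Equiv.Perm.sign σ) with h | h <;> simp [h, CharTwo.neg_eq]
  refine Finset.sum_involution (fun σ _ => σ⁻¹) (fun σ _ => ?_) (fun σ _ hne heq => hne ?_)
    (fun σ _ => Finset.mem_univ _) (fun σ _ => inv_inv σ)
  · rw [hsign, hsign, one_mul, one_mul, ← Equiv.prod_comp σ (fun i => A (σ⁻¹ i) i)]
    rw [show (∏ x, A ((σ⁻¹ : Equiv.Perm (Fin n)) (σ x)) (σ x)) = ∏ x, A (σ x) x from Finset.prod_congr rfl fun x _ => by rw [show (σ⁻¹ : Equiv.Perm (Fin n)) (σ x) = x from σ.symm_apply_apply x, hsymm]]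
    exact CharTwo.add_self_eq_zero _
  · haveI : Fact (Nat.Prime 2) := ⟨Nat.prime_two⟩
    obtain ⟨a, ha⟩ := Equiv.Perm.exists_fixed_point_of_prime (p := 2) (n := 1) (σ := σ)
      (by rw [Fintype.card_fin]; obtain ⟨m, rfl⟩ := hn; omega)
      (by rw [pow_one, pow_two]; nth_rewrite 1 [← heq]; exact inv_mul_cancel σ)
    rw [Finset.prod_eq_zero (Finset.mem_univ a) (by rw [ha]; exact hdiag a), mul_zero]

end Groth.Agent.S16644
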