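import Groth.Statements.S1665
import Groth.Agent.VarDim1.Semilocal

set_option autoImplicit false
universe u
open Variety

namespace Groth.Agent.S1665

/-- Let B be a Noetherian domain of dimension one with finitely many maximal ideals and B' its integral
closure in its fraction field. Then B' is a Dedekind domain with finitely many maximal ideals, and
for every nonzero x in the Jacobson radical of B' and every y ∈ B' some power x^n satisfies x^n y ∈
B. -/
theorem result (B : Type u) [CommRing B] [IsDomain B] [IsNoetherianRing B]
    (hdim : ringKrullDim B = 1) (hsl : Finite (MaximalSpectrum B)) :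
    IsDedekindDomain (integralClosure B (FractionRing B)) ∧ Finite (MaximalSpectrum (integralClosure B (FractionRing B))) ∧
      ∀ x : integralClosure B (FractionRing B), x ≠ 0 → x ∈ (⊥ : Ideal (integralClosure B (FractionRing B))).jacobson →
        ∀ y : integralClosure B (FractionRing B), ∃ n : ℕ, (x ^ n * y).1 ∈ (algebraMap B (FractionRing B)).range := by
  classical
  have := VarDim1.krullDimLE_one_of_eq hdim
  have hB := VarDim1.not_isField_of_eq_one hdim
  let K := FractionRing B
  let C := integralClosure B K
  have hDed : IsDedekindDomain C := VarDim1.isDedekindDomain_integralClosure K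
  have hinj : Function.Injective (algebraMap B C) := fun a b h =>
    IsFractionRing.injective B K (congrArg (fun x : C => (x : K)) h)
  obtain ⟨z, hz, hzJ⟩ := VarDim1.exists_ne_zero_mem_jacobson hB
  have hzC : Ideal.span {algebraMap B C z} ≠ ⊥ := by
    rw [Ne, Ideal.span_singleton_eq_bot, map_eq_zero_iff _ hinj]; exact hz
  have hfin := VarDim1.finite_setOf_prime_ge K C hzC
  refine ⟨hDed, ?_, ?_⟩
  · have := hfin.to_subtype
    refine Finite.of_injective (fun m : MaximalSpectrum C => (⟨m.asIdeal, m.isMaximal.isPrime, ?_⟩ :
      {P : Ideal C | P.IsPrime ∧ Ideal.span {algebraMap B C z} ≤ P})) fun a b h => MaximalSpectrum.ext (congrArg Subtype.val h)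
    rw [Ideal.span_le, Set.singleton_subset_iff]
    have := m.isMaximal
    exact VarDim1.algebraMap_mem_jacobson_iff.1 hzJ _ (Ideal.isMaximal_comap_of_isIntegral_of_isMaximal (R := B) m.asIdeal)
  · intro x hx0 hxJ y
    let C' := Algebra.adjoin B ({x.1, y.1} : Set K)
    have : Module.Finite B C' := Module.Finite.iff_fg.2 (fg_adjoin_of_finite (Set.toFinite _) (by
      rintro a (rfl | rfl)
      · exact x.2
      · exact y.2))
    have hle : C' ≤ C := Algebra.adjoin_le (by
      rintro a (rfl | rfl)
      · exact x.2
      · exact y.2)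
    obtain ⟨n, hn⟩ := VarDim1.exists_pow_mul_mem_of_finite C' ⟨x.1, Algebra.subset_adjoin (Set.mem_insert _ _)⟩
      (fun P hP => by
        let := (Subalgebra.inclusion hle).toRingHom.toAlgebra
        have : IsScalarTower B C' C := IsScalarTower.of_algebraMap_eq fun _ => rfl
        have : Algebra.IsIntegral C' C := ⟨fun c => IsIntegral.tower_top (Algebra.IsIntegral.isIntegral (R := B) c)⟩
        obtain ⟨Q, hQ, hQP⟩ := Ideal.exists_ideal_over_maximal_of_isIntegral (S := C) P (by
          exact ((RingHom.injective_iff_ker_eq_bot (algebraMap C' C)).1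
            (fun a b h => Subtype.ext (congrArg (fun c : C => (c : K)) h))).le.trans bot_le)
        rw [← hQP]
        exact VarDim1.algebraMap_mem_jacobson_iff.1 hxJ Q hQ) ⊤ top_ne_bot
    obtain ⟨b, -, hb⟩ := hn ⟨y.1, Algebra.subset_adjoin (Set.mem_insert_of_mem _ rfl)⟩
    exact ⟨n, b, hb.trans (by simp)⟩

end Groth.Agent.S1665
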