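import Groth.Statements.S16652
import Groth.Agent.RedPts26.LevelStep

set_option autoImplicit false
open CategoryTheory MonoidalCategory CartesianMonoidalCategory MonObj GrpObj AlgebraicGeometry
universe u
open RedSub

namespace Groth.Agent.S16652
open Groth.Agent.RedPts82 Groth.Agent.RedPts26

/-- With G a reductive group scheme over a scheme S with splitting D, Ψ a closed set of roots without
opposite pairs, λ ∈ M^∨ non-vanishing on the roots and positive on Ψ, and n ≥ 1, let U₁ ⊃ U₂ be the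
closed subgroups directly spanned by the root groups U_a (a ∈ Ψ) with λ(a) ≥ n, resp. λ(a) ≥ n + 1.
Then U₂ is normal in U₁, root groups U_a, U_b with λ(a) = λ(b) = n commute modulo U₂, and
multiplication (∏_{λ(a) = n} U_a) × U₂ → U₁ (product in any order) is an isomorphism of schemes;
thus U₁/U₂ is the vector group ∏_{λ(a)=n} U_a. -/
theorem result {S : Scheme.{u}} {G : Over S} [GrpObj G]
    (D : Red.SplitRed G) (Ψ : Set D.idx)
    (hcl : ∀ a b c : D.idx, a ∈ Ψ → b ∈ Ψ → D.P.root a + D.P.root b = D.P.root c → c ∈ Ψ)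
    (hneg : ∀ a b : D.idx, a ∈ Ψ → D.P.root b = -D.P.root a → b ∉ Ψ)
    (lam : Module.Dual ℤ D.M) (hlam : ∀ a : D.idx, lam (D.P.root a) ≠ 0) (hpos : ∀ a ∈ Ψ, 0 < lam (D.P.root a))
    (n : ℕ) (hn : 1 ≤ n)
    {U₁ U₂ : Over S} [GrpObj U₁] [GrpObj U₂] (v₁ : U₁ ⟶ G) (v₂ : U₂ ⟶ G) [IsMonHom v₁] [IsMonHom v₂]
    (hv₁ : IsClosedImmersion v₁.left) (hv₂ : IsClosedImmersion v₂.left)
    (hU₁ : ∀ {m : ℕ} (e : Fin m → D.idx), RedSub.Enumerates {a | a ∈ Ψ ∧ (n : ℤ) ≤ lam (D.P.root a)} e →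
      ∃ ψ : RedSub.pow (Red.Ga S) m ≅ U₁, ψ.hom ≫ v₁ = RedSub.prodMap (Red.Ga S) m (fun k => D.u (e k)))
    (hU₂ : ∀ {m : ℕ} (e : Fin m → D.idx), RedSub.Enumerates {a | a ∈ Ψ ∧ (n : ℤ) + 1 ≤ lam (D.P.root a)} e →
      ∃ ψ : RedSub.pow (Red.Ga S) m ≅ U₂, ψ.hom ≫ v₂ = RedSub.prodMap (Red.Ga S) m (fun k => D.u (e k))) :
    (∃ f : U₂ ⟶ U₁, f ≫ v₁ = v₂ ∧ IsMonHom f ∧ AlgGrp.IsNormalHom f) ∧
    (∀ (a b : D.idx), a ∈ Ψ → b ∈ Ψ → lam (D.P.root a) = n → lam (D.P.root b) = n →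
      ∀ (X : Over S) (x y : X ⟶ Red.Ga S), ∃ w : X ⟶ U₂,
        (x ≫ D.u a) * (y ≫ D.u b) * (x ≫ D.u a)⁻¹ * (y ≫ D.u b)⁻¹ = w ≫ v₂) ∧
    ∀ {m : ℕ} (e : Fin m → D.idx), RedSub.Enumerates {a | a ∈ Ψ ∧ lam (D.P.root a) = n} e →
      ∃ ψ : RedSub.pow (Red.Ga S) m ⊗ U₂ ≅ U₁,
        ψ.hom ≫ v₁ = (fst _ _ ≫ RedSub.prodMap (Red.Ga S) m (fun k => D.u (e k))) * (snd _ _ ≫ v₂) := by
  classical
  let l : D.M →+ ℤ := lam.toAddMonoidHom
  obtain ⟨o, ho, hlt⟩ := exists_order l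
  letI : LinearOrder D.M := o
  haveI : IsOrderedAddMonoid D.M := ho
  let Ψ₁ : Set D.idx := {a | a ∈ Ψ ∧ (n : ℤ) ≤ lam (D.P.root a)}
  let Ψ₂ : Set D.idx := {a | a ∈ Ψ ∧ (n : ℤ) + 1 ≤ lam (D.P.root a)}
  have hcl₁ : IsClosedSet D Ψ₁ := fun a b c ha hb h => ⟨hcl a b c ha.1 hb.1 h, by
    have := ha.2; have := hb.2; rw [← h, map_add]; omega⟩
  have hcl₂ : IsClosedSet D Ψ₂ := fun a b c ha hb h => ⟨hcl a b c ha.1 hb.1 h, by
    have := ha.2; have := hb.2; rw [← h, map_add]; omega⟩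
  have hposΨ : ∀ a ∈ Ψ, 0 < D.P.root a := fun a ha => hlt 0 _ (by rw [map_zero]; exact hpos a ha)
  have hpos₁ : ∀ a ∈ Ψ₁, 0 < D.P.root a := fun a ha => hposΨ a ha.1
  have hpos₂ : ∀ a ∈ Ψ₂, 0 < D.P.root a := fun a ha => hposΨ a ha.1
  obtain ⟨N, e, H⟩ := exists_ordEnum D
  have : Mono v₁ := Over.mono_of_mono_left _
  have : Mono v₂ := Over.mono_of_mono_left _
  have hP₁ := points_of_param H Ψ₁ hcl₁ hpos₁ v₁ hU₁
  have hP₂ := points_of_param H Ψ₂ hcl₂ hpos₂ v₂ hU₂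
  have hsub : Ψ₂ ⊆ Ψ₁ := fun a ha => ⟨ha.1, by have := ha.2; omega⟩
  have hle : ∀ {X : Over S} {g : X ⟶ G}, g ∈ suppGrp H Ψ₂ hcl₂ X → g ∈ suppGrp H Ψ₁ hcl₁ X := by
    rintro X _ ⟨x, hx, rfl⟩
    exact ⟨x, fun k hk => hx k fun h => hk (hsub h), rfl⟩
  refine ⟨?_, fun a b ha hb ha' hb' X x y => ?_, fun {m} e' he' => ?_⟩
  · obtain ⟨f, hf⟩ := (hP₁ U₂ v₂).mp (hle ((hP₂ U₂ v₂).mpr ⟨𝟙 _, Category.id_comp _⟩))
    refine ⟨f, hf, isMonHom_of_points f fun X a b => ?_, fun X g w => ?_⟩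
    · rw [← cancel_mono v₁]
      simp only [MonObj.mul_comp, Category.assoc, hf]
    · obtain ⟨w', hw'⟩ := (hP₂ X _).mp (suppGrp_level_conj H l hlt n Ψ₁ Ψ₂ hcl₁ hcl₂ hsub
        (fun a ha h => ⟨ha.1, h⟩) (fun a ha => ha.2)
        ((hP₁ X _).mpr ⟨g, rfl⟩) ((hP₂ X _).mpr ⟨w, rfl⟩))
      refine ⟨w', ?_⟩
      rw [← cancel_mono v₁]
      simp only [MonObj.mul_comp, GrpObj.inv_comp, Category.assoc, hf, hw']
  · obtain ⟨i, rfl⟩ := (H.range a).mpr (hposΨ a ha)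
    obtain ⟨j, rfl⟩ := (H.range b).mpr (hposΨ b hb)
    obtain ⟨z, hz, hzv⟩ := comm_coord_eq_zero H l hlt (n := n) (by omega) ha' hb' x y
    have hA : x ≫ D.u (e i) ∈ suppGrp H Ψ₁ hcl₁ X :=
      root_mem_supp H Ψ₁ hcl₁ ⟨ha, ha'.ge⟩ (H.pos i) x
    have hB : y ≫ D.u (e j) ∈ suppGrp H Ψ₁ hcl₁ X :=
      root_mem_supp H Ψ₁ hcl₁ ⟨hb, hb'.ge⟩ (H.pos j) y
    obtain ⟨z', hz', hze⟩ := mul_mem (mul_mem (mul_mem hA hB) (inv_mem hA)) (inv_mem hB)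
    have hzz : z' = z := H.uProd_injective (hze.trans hz.symm)
    have hmem : uProd D e z ∈ suppGrp H Ψ₂ hcl₂ X := ⟨z, fun k hk => by
      by_cases hk₁ : e k ∈ Ψ₁
      · refine hzv k ?_
        show lam (D.P.root (e k)) ≤ n
        by_contra hc
        exact hk ⟨hk₁.1, by omega⟩
      · exact hzz ▸ hz' k hk₁, rfl⟩
    obtain ⟨w, hw⟩ := (hP₂ X _).mp hmem
    exact ⟨w, by rw [hw, hz]⟩
  · obtain ⟨m₂, e₂, he₂⟩ := exists_enum (D := D) Ψ₂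
    obtain ⟨hi', hr'⟩ := he'
    have hmem' : ∀ k, e' k ∈ Ψ ∧ lam (D.P.root (e' k)) = n := fun k => by
      have : e' k ∈ Set.range e' := Set.mem_range_self k
      rw [hr'] at this
      exact this
    have happ : RedSub.Enumerates Ψ₁ (Fin.append e' e₂) := by
      refine ⟨Fin.append_injective_iff.mpr ⟨hi', he₂.1, ?_⟩, Set.ext fun a => ⟨?_, fun ha => ?_⟩⟩
      · intro i j h
        have h1 := (hmem' i).2
        have h2 : e₂ j ∈ Ψ₂ := he₂.2 ▸ Set.mem_range_self j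
        have := h2.2
        rw [h] at h1
        omega
      · rintro ⟨k, rfl⟩
        refine Fin.addCases (fun i => ?_) (fun i => ?_) k
        · rw [Fin.append_left]; exact ⟨(hmem' i).1, (hmem' i).2.ge⟩
        · rw [Fin.append_right]; exact hsub (he₂.2 ▸ Set.mem_range_self i)
      · by_cases h : lam (D.P.root a) = n
        · obtain ⟨i, rfl⟩ : a ∈ Set.range e' := hr'.symm ▸ ⟨ha.1, h⟩
          exact ⟨Fin.castAdd m₂ i, Fin.append_left _ _ _⟩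
        · obtain ⟨i, rfl⟩ : a ∈ Set.range e₂ := he₂.2.symm ▸ ⟨ha.1, by have := ha.2; omega⟩
          exact ⟨Fin.natAdd m i, Fin.append_right _ _ _⟩
    let f := (fst (RedSub.pow (Red.Ga S) m) U₂ ≫ RedSub.prodMap (Red.Ga S) m fun k => D.u (e' k)) *
      (snd (RedSub.pow (Red.Ga S) m) U₂ ≫ v₂)
    have hf : ∀ (X : Over S) (x : X ⟶ RedSub.pow (Red.Ga S) m ⊗ U₂), x ≫ f =
        uProd D e' (fun k => (x ≫ fst _ _) ≫ powProj (Red.Ga S) m k) * ((x ≫ snd _ _) ≫ v₂) := by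
      intro X x
      simp only [f, MonObj.comp_mul, ← Category.assoc]
      congr 1
      rw [← uProd_eq]
      congr 1
      exact powProj_ext fun k => by rw [powTuple_proj]
    have hbij := fun X => enum_bijective H Ψ₁ hcl₁ hpos₁ _ happ X
    have hy : ∀ (X : Over S) (w : X ⟶ U₂), ∃ y : Fin m₂ → (X ⟶ Red.Ga S),
        uProd D e₂ y = w ≫ v₂ := fun X w =>
      (enum_bijective H Ψ₂ hcl₂ hpos₂ e₂ he₂ X).2.2 _ ((hP₂ X _).mpr ⟨w, rfl⟩)
    refine exists_iso_of_points f v₁ (fun X x x' h => ?_) (fun X x => ?_) (fun X w => ?_)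
    · rw [hf, hf] at h
      obtain ⟨y, hy₁⟩ := hy X (x ≫ snd _ _)
      obtain ⟨y', hy₂⟩ := hy X (x' ≫ snd _ _)
      rw [← hy₁, ← hy₂, ← uProd_append, ← uProd_append] at h
      have h' := (hbij X).1 _ _ h
      apply CartesianMonoidalCategory.hom_ext
      · exact powProj_ext fun k => by
          simpa only [Fin.append_left] using congrFun h' (Fin.castAdd m₂ k)
      · rw [← cancel_mono v₂, ← hy₁, ← hy₂]
        congr 1
        exact funext fun k => by simpa only [Fin.append_right] using congrFun h' (Fin.natAdd m k)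
    · refine (hP₁ X _).mp ?_
      obtain ⟨y, hy₁⟩ := hy X (x ≫ snd _ _)
      rw [hf, ← hy₁, ← uProd_append]
      exact (hbij X).2.1 _
    · obtain ⟨x, hx⟩ := (hbij X).2.2 _ ((hP₁ X _).mpr ⟨w, rfl⟩)
      obtain ⟨w₂, hw₂⟩ := (hP₂ X _).mp ((enum_bijective H Ψ₂ hcl₂ hpos₂ e₂ he₂ X).2.1
        fun k => x (Fin.natAdd m k))
      refine ⟨lift (powTuple fun k => x (Fin.castAdd m₂ k)) w₂, ?_⟩
      rw [hf, lift_fst, lift_snd, hw₂]
      simp only [powTuple_proj]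
      rw [← uProd_append, Fin.append_castAdd_natAdd, hx]

end Groth.Agent.S16652
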