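import Groth.Statements.S16667
import Groth.Agent.Grass54.SerreS2

set_option autoImplicit false
universe u
open CAlg

namespace Groth.Agent.S16667

/-- Let A be a Noetherian integral domain satisfying Serre's condition (S_2), with fraction field K. An
element of K which lies in the localization A_p for every prime p of A with depth(A_p) = 1 lies in
A. -/
theorem result {A : Type u} [CommRing A] [IsDomain A]
    [IsNoetherianRing A] (hS2 : LocCoh.HasSk 2 A A) (x : FractionRing A)
    (hx : ∀ (p : Ideal A) [p.IsPrime],
      LocCoh.depth (Localization.AtPrime p) (Localization.AtPrime p) = 1 →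
        x ∈ Set.range (algebraMap (Localization.AtPrime p) (FractionRing A))) :
    x ∈ Set.range (algebraMap A (FractionRing A)) := by
  obtain ⟨b, s, hs, rfl⟩ := IsFractionRing.div_surjective (A := A) x
  have hs0 : s ≠ 0 := nonZeroDivisors.ne_zero hs
  by_cases hb : Ideal.Quotient.mk (Ideal.span {s}) b = 0
  · obtain ⟨c, rfl⟩ := Ideal.mem_span_singleton'.1 (Ideal.Quotient.eq_zero_iff_mem.1 hb)
    exact ⟨c, by rw [map_mul, mul_div_cancel_right₀ _
      ((map_ne_zero_iff _ (IsFractionRing.injective A (FractionRing A))).2 hs0)]⟩
  obtain ⟨P, hP, hle⟩ := exists_le_isAssociatedPrime_of_isNoetherianRing A _ hb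
  haveI : P.IsPrime := hP.isPrime
  have hsP : s ∈ P := hP.annihilator_le (by
    rw [Submodule.annihilator_top, Ideal.annihilator_quotient]
    exact Ideal.mem_span_singleton_self s)
  obtain ⟨y, hy⟩ := hx P ((Grass54.depth_eq_one_iff P hs0 hsP).2 hP)
  obtain ⟨c, t, rfl⟩ := IsLocalization.exists_mk'_eq P.primeCompl y
  exfalso
  refine t.2 (hle (Submodule.mem_colon_singleton.2 ((Submodule.mem_bot A).2 ?_)))
  have hcast : algebraMap A (FractionRing A) c =
      algebraMap A (FractionRing A) b / algebraMap A (FractionRing A) s *
        algebraMap A (FractionRing A) t := by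
    have := congrArg (algebraMap (Localization.AtPrime P) (FractionRing A))
      (IsLocalization.mk'_spec (Localization.AtPrime P) c t)
    rw [map_mul, hy, ← IsScalarTower.algebraMap_apply, ← IsScalarTower.algebraMap_apply] at this
    exact this.symm
  rw [Algebra.smul_def, Ideal.Quotient.algebraMap_eq, ← map_mul, Ideal.Quotient.eq_zero_iff_mem,
    Ideal.mem_span_singleton']
  refine ⟨c, IsFractionRing.injective A (FractionRing A) ?_⟩
  rw [map_mul, map_mul, hcast]
  field_simp [(map_ne_zero_iff _ (IsFractionRing.injective A (FractionRing A))).2 hs0]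

end Groth.Agent.S16667
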