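import Groth.Statements.S16673
-- import your own Groth.Agent.* helpers here

set_option autoImplicit false
universe u
open CategoryTheory CategoryTheory.Limits MonoidalCategory CartesianMonoidalCategory MonObj GrpObj AlgebraicGeometry
open AbVar

namespace Groth.Agent.S16673

open CategoryTheory CategoryTheory.Limits MonObj GrpObj AlgebraicGeometry in
theorem finite_pts_sections {K : Type u} [Field K] [IsAlgClosed K] {P : Scheme.{u}}
    (q : P ⟶ Spec (CommRingCat.of K)) [IsFinite q] :
    Finite {s : Spec (CommRingCat.of K) ⟶ P // s ≫ q = 𝟙 _} := by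
  have : Finite P := by
    have h := q.finite_preimage_singleton (IsLocalRing.closedPoint K)
    exact Set.finite_univ_iff.1 (h.subset fun x _ => Subsingleton.elim _ _)
  refine Finite.of_injective (fun s => s.1 (IsLocalRing.closedPoint K)) ?_
  intro s t hst
  exact Subtype.ext (ext_of_apply_closedPoint_eq q s.2 t.2 hst)

open AlgebraicGeometry in
theorem exists_section {K : Type u} [Field K] [IsAlgClosed K] {P : Scheme.{u}}
    (q : P ⟶ Spec (CommRingCat.of K)) [IsFinite q] [Surjective q] :
    ∃ s : Spec (CommRingCat.of K) ⟶ P, s ≫ q = CategoryTheory.CategoryStruct.id _ := by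
  obtain ⟨x, -⟩ := q.surjective (IsLocalRing.closedPoint K)
  have : CompactSpace P := QuasiCompact.compactSpace_of_compactSpace q
  obtain ⟨p, -, hp⟩ := isClosed_univ.exists_closed_singleton (S := (Set.univ : Set P)) ⟨x, trivial⟩
  exact ⟨pointOfClosedPoint q p hp, pointOfClosedPoint_comp q p hp⟩

theorem pow_le_imp {p i j c : ℕ} (hp : 1 < p) (h : ∀ m : ℕ, p ^ (i * m) ≤ p ^ (j * m + c)) : i ≤ j := by
  by_contra hlt
  have := (Nat.pow_le_pow_iff_right hp).1 (h (c + 1))
  have : (j + 1) * (c + 1) ≤ i * (c + 1) := Nat.mul_le_mul_right _ (by omega)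
  nlinarith

theorem rank_eq {G H : Type*} [CommGroup G] [CommGroup H] (φ : G →* H) (hs : Function.Surjective φ)
    [Finite φ.ker] (p : ℕ) [Fact p.Prime] (i j : ℕ)
    (hG : ∀ m : ℕ, Nat.card (powMonoidHom (p ^ m) : G →* G).ker = (p ^ m) ^ i)
    (hH : ∀ m : ℕ, Nat.card (powMonoidHom (p ^ m) : H →* H).ker = (p ^ m) ^ j) : i = j := by
  have hp := (Fact.out : p.Prime)
  have hfin : ∀ m : ℕ, Finite (powMonoidHom (p ^ m) : G →* G).ker := fun m => by
    apply Nat.finite_of_card_ne_zero
    rw [hG]
    exact pow_ne_zero _ (pow_ne_zero _ hp.ne_zero)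
  have hfin' : ∀ m : ℕ, Finite (powMonoidHom (p ^ m) : H →* H).ker := fun m => by
    apply Nat.finite_of_card_ne_zero
    rw [hH]
    exact pow_ne_zero _ (pow_ne_zero _ hp.ne_zero)
  set N := Nat.card φ.ker with hN
  have hN0 : N ≠ 0 := Nat.card_pos.ne'
  obtain ⟨a, M, hM, hNM⟩ := Nat.exists_eq_pow_mul_and_not_dvd hN0 p hp.ne_one
  refine le_antisymm (pow_le_imp (c := N) hp.one_lt fun m => ?_) (pow_le_imp (c := i * a) hp.one_lt fun m => ?_)
  · -- `G[p^m] → H[p^m]` has kernel inside `ker φ`
    haveI := hfin m; haveI := hfin' m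
    let r : (powMonoidHom (p ^ m) : G →* G).ker →* (powMonoidHom (p ^ m) : H →* H).ker :=
      (φ.comp (Subgroup.subtype _)).codRestrict _ (fun x => by
        have hx : (x : G) ^ p ^ m = 1 := x.2
        simp only [MonoidHom.mem_ker, powMonoidHom_apply, MonoidHom.coe_comp, Subgroup.coe_subtype,
          Function.comp_apply, ← map_pow, hx, map_one])
    have h1 : Nat.card r.ker ≤ N := by
      refine Nat.card_le_card_of_injective (fun x => (⟨x.1.1, ?_⟩ : φ.ker)) ?_
      · exact congrArg Subtype.val x.2
      · intro x y hxy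
        exact Subtype.ext (Subtype.ext (congrArg (fun z : φ.ker => (z : G)) hxy))
    have h2 : Nat.card r.range ≤ (p ^ m) ^ j := hH m ▸ Nat.card_le_card_of_injective _ Subtype.val_injective
    have h3 := r.ker.card_eq_card_quotient_mul_card_subgroup
    rw [Nat.card_congr (QuotientGroup.quotientKerEquivRange r).toEquiv, hG] at h3
    calc p ^ (i * m) = (p ^ m) ^ i := by rw [← pow_mul, mul_comm]
      _ ≤ (p ^ m) ^ j * p ^ N := by
          rw [h3]
          exact Nat.mul_le_mul h2 (h1.trans (Nat.lt_pow_self hp.one_lt).le)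
      _ = p ^ (j * m + N) := by rw [← pow_mul, ← pow_add, mul_comm m j]
  · haveI := hfin (m + a); haveI := hfin' m
    have hker : ∀ g : G, φ g = 1 → g ^ N = 1 := fun g hg => by
      have : (⟨g, hg⟩ : φ.ker) ^ N = 1 := pow_card_eq_one'
      exact congrArg Subtype.val this
    let r : (powMonoidHom (p ^ (m + a)) : G →* G).ker → H := fun x => φ x.1
    have hr : ∀ y : (powMonoidHom (p ^ m) : H →* H).ker, ∃ x, r x = (y : H) := fun y => by
      have hy : (y : H) ^ p ^ m = 1 := y.2
      have hco : Nat.Coprime M (p ^ m) := ((hp.coprime_iff_not_dvd.2 hM).pow_left m).symm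
      -- invert `M` on `y`
      obtain ⟨b, hb⟩ : ∃ b : ℕ, (y : H) ^ (M * b) = y := by
        rcases m.eq_zero_or_pos with rfl | hm
        · exact ⟨0, by simpa using hy.symm⟩
        · obtain ⟨b, -, hb⟩ := Nat.exists_mul_mod_eq_one_of_coprime hco (Nat.one_lt_pow hm.ne' hp.one_lt)
          refine ⟨b, ?_⟩
          conv_lhs => rw [← Nat.mod_add_div (M * b) (p ^ m), pow_add, pow_mul, hy, one_pow, _root_.mul_one, hb, pow_one]
      obtain ⟨g, hg⟩ := hs ((y : H) ^ b)
      refine ⟨⟨g ^ M, ?_⟩, ?_⟩
      · have : φ (g ^ p ^ m) = 1 := by rw [map_pow, hg, ← pow_mul, mul_comm, pow_mul, hy, one_pow]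
        have := hker _ this
        rw [← pow_mul] at this
        simp only [MonoidHom.mem_ker, powMonoidHom_apply, ← pow_mul]
        rw [show M * p ^ (m + a) = p ^ m * N by rw [hNM, pow_add]; ring]
        exact this
      · simp only [r, map_pow, hg, ← pow_mul]
        rw [mul_comm]; exact hb
    choose sec hsec using hr
    have := Nat.card_le_card_of_injective sec (fun y z hyz => Subtype.ext ((hsec y).symm.trans (by rw [hyz, hsec])))
    rw [hG, hH, ← pow_mul, ← pow_mul] at this
    calc p ^ (j * m) = p ^ (m * j) := by rw [mul_comm]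
      _ ≤ p ^ ((m + a) * i) := this
      _ = p ^ (i * m + i * a) := by congr 1; ring


/-- Let k be a field of characteristic p > 0 with an algebraic closure k̄, let X and Y be abelian
varieties over k (proper, geometrically integral, commutative k-group schemes) and let h : X → Y be
a homomorphism which is finite and surjective (an isogeny). If i and j are natural numbers such that
for every m ≥ 0 the group X[p^m](k̄) of k̄-valued points of X killed by p^m (k̄-valued points being
the k-morphisms Spec k̄ → X, a group under the group law of X) is isomorphic to (ℤ/p^m)^i and the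
group Y[p^m](k̄) is isomorphic to (ℤ/p^m)^j (groups of points written multiplicatively), then i = j:
the p-rank is an isogeny invariant. -/
theorem result (k : Type u) [Field k] (p : ℕ) [Fact p.Prime] [CharP k p]
    (X Y : Over (Spec (CommRingCat.of k)))
    [GrpObj X] [IsCommMonObj X] [IsProper X.hom] [GeometricallyIntegral X.hom]
    [GrpObj Y] [IsCommMonObj Y] [IsProper Y.hom] [GeometricallyIntegral Y.hom]
    (h : X ⟶ Y) [IsMonHom h] [IsFinite h.left] [Surjective h.left]
    (i j : ℕ)
    (hi : ∀ m : ℕ, Nonempty (AbDual.torsPts X (p ^ m)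
      (Over.mk (Spec.map (CommRingCat.ofHom (algebraMap k (AlgebraicClosure k))))) ≃*
      Multiplicative (Fin i → ZMod (p ^ m))))
    (hj : ∀ m : ℕ, Nonempty (AbDual.torsPts Y (p ^ m)
      (Over.mk (Spec.map (CommRingCat.ofHom (algebraMap k (AlgebraicClosure k))))) ≃*
      Multiplicative (Fin j → ZMod (p ^ m)))) :
    i = j := by
  set K := AlgebraicClosure k
  set T : Over (Spec (CommRingCat.of k)) := Over.mk (Spec.map (CommRingCat.ofHom (algebraMap k K))) with hT
  let φ : (T ⟶ X) →* (T ⟶ Y) :=
    { toFun := fun x => x ≫ h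
      map_one' := MonObj.one_comp h
      map_mul' := fun x y => MonObj.mul_comp x y h }
  have key : ∀ y : T ⟶ Y, Finite {x : T ⟶ X // x ≫ h = y} ∧ ∃ x : T ⟶ X, x ≫ h = y := fun y => by
    constructor
    · haveI := finite_pts_sections (pullback.snd h.left y.left)
      refine Finite.of_injective
        (fun x => (⟨pullback.lift x.1.left (𝟙 _) (by rw [← Over.comp_left, x.2, Category.id_comp]),
          pullback.lift_snd _ _ _⟩ : {s : Spec (CommRingCat.of K) ⟶ pullback h.left y.left //
            s ≫ pullback.snd h.left y.left = 𝟙 _})) ?_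
      intro x x' hxx
      refine Subtype.ext (Over.OverMorphism.ext ?_)
      have := congrArg (fun s => s.1 ≫ pullback.fst h.left y.left) hxx
      exact (pullback.lift_fst _ _ _).symm.trans (this.trans (pullback.lift_fst _ _ _))
    · obtain ⟨s, hs⟩ := exists_section (pullback.snd h.left y.left)
      have e : (s ≫ pullback.fst h.left y.left) ≫ h.left = y.left := by
        rw [Category.assoc, pullback.condition, ← Category.assoc, hs, Category.id_comp]
      exact ⟨Over.homMk (s ≫ pullback.fst h.left y.left) (by rw [← Over.w h, ← Category.assoc, e, Over.w y]),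
        Over.OverMorphism.ext e⟩
  haveI : Finite φ.ker := (key 1).1
  exact rank_eq φ (fun y => (key y).2) p i j
    (fun m => by
      obtain ⟨e⟩ := hi m
      exact (Nat.card_congr e.toEquiv).trans (by simp [Nat.card_congr Multiplicative.toAdd]))
    (fun m => by
      obtain ⟨e⟩ := hj m
      exact (Nat.card_congr e.toEquiv).trans (by simp [Nat.card_congr Multiplicative.toAdd]))

end Groth.Agent.S16673
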