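import Groth.Agent.Hopf35.EtaleDual
import Groth.Statements.S16674

set_option autoImplicit false
universe u
open CartDual

namespace Groth.Agent.S16674

theorem result (k : Type u) [Field k] (p : ℕ) [Fact p.Prime] [CharP k p]
    (A : Type u) [CommRing A] [HopfAlgebra k A] [Coalgebra.IsCocomm k A] [FiniteDimensional k A] :
    (Algebra.Etale k A ∧ Algebra.Etale k (CartDual.D k A)) ↔ ¬ p ∣ Module.finrank k A := by
  exact Hopf35.EtaleDual.etale_iff p A

end Groth.Agent.S16674
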