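import Groth.Statements.S16676
import Groth.Agent.IsogKer97.Basic

set_option autoImplicit false
universe u
open CategoryTheory CategoryTheory.Limits MonoidalCategory CartesianMonoidalCategory MonObj GrpObj AlgebraicGeometry
open AbVar

namespace Groth.Agent.S16676

/-- The equivalence of its second and third conditions. Let X and Y be abelian varieties over a field k
(proper, geometrically integral k-group schemes), f : X → Y a homomorphism which is finite, flat and
surjective (an isogeny), and i : N → X the kernel of f (the square formed by i, f, the unit section
of Y and the structure map of N is cartesian). Then f is universally injective (a purely inseparable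
morphism) if and only if the scheme N is connected. (The published item also includes the equivalent
condition that the function field of X is purely inseparable over that of Y; that clause is not part
of this statement.) -/
theorem result (k : Type u) [Field k]
    (X Y : Over (Spec (CommRingCat.of k)))
    [GrpObj X] [IsProper X.hom] [GeometricallyIntegral X.hom]
    [GrpObj Y] [IsProper Y.hom] [GeometricallyIntegral Y.hom]
    (f : X ⟶ Y) [IsMonHom f] [IsFinite f.left] [Flat f.left] [Surjective f.left]
    (N : Over (Spec (CommRingCat.of k))) (i : N ⟶ X) (hN : AlgGrp.IsKernel i f) :
    UniversallyInjective f.left ↔ ConnectedSpace ↥N.left := by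
  rw [Groth.Agent.IsogKer97.iff_kernel (P := @UniversallyInjective) f i hN]
  have : IsFinite N.hom :=
    MorphismProperty.of_isPullback (P := @IsFinite) (Groth.Agent.IsogKer97.isPullback_kernel_left f i hN) inferInstance
  have h1 : η[X] ≫ f = toUnit (𝟙_ (Over (Spec (CommRingCat.of k)))) ≫ η[Y] := by
    rw [IsMonHom.one_hom]
    exact (Category.id_comp _).symm.trans (congrArg (· ≫ η[Y]) (Subsingleton.elim _ _))
  refine Groth.Agent.IsogKer97.universallyInjective_iff_connected N.hom
    ((hN : CategoryTheory.IsPullback i (toUnit N) f η[Y]).lift η[X] (toUnit _) h1).left ?_
  exact Over.w ((hN : CategoryTheory.IsPullback i (toUnit N) f η[Y]).lift η[X] (toUnit _) h1)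


end Groth.Agent.S16676
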