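import Groth.Statements.S1844
import Groth.Agent.AbSquare57.Cube

set_option autoImplicit false
set_option backward.isDefEq.respectTransparency.types false
universe u v
open CategoryTheory MonoidalCategory CartesianMonoidalCategory MonObj GrpObj AlgebraicGeometry
open GrpSch

namespace Groth.Agent.S1844

/-- Let A be an abelian variety over a field, L an invertible O_A-module and n ≥ 1. Then [n]^*L is
isomorphic to L^{⊗ n(n+1)/2} ⊗ ([-1]^*L)^{⊗ n(n-1)/2}, where [n] is multiplication by n and [-1] the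
inversion of A. -/
theorem result (K : Type u) [Field K] (A : Over (Spec (CommRingCat.of K))) [GrpObj A] [IsProper A.hom] [GeometricallyIntegral A.hom] (L : A.left.Modules) (hL : PicF.IsInvertible L) (n : ℕ) (hn : 1 ≤ n) : Nonempty ((Scheme.Modules.pullback (𝟙 A ^ n).left).obj L ≅ CohB1.tensorMod (CohB1.tensorPow L (n * (n + 1) / 2)) (CohB1.tensorPow ((Scheme.Modules.pullback ((𝟙 A)⁻¹).left).obj L) (n * (n - 1) / 2))) := by
  have hinv := PicLoc.isInvertible_pullback ((𝟙 A)⁻¹).left hL
  let c := PicGrp.cls L hL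
  let d := AbSquare57.pb ((𝟙 A)⁻¹).left c
  let P : ℕ → AbSquare57.Pic A.left := fun m => AbSquare57.pb (𝟙 A ^ m).left c
  have hP0 : P 0 = 1 := by
    show AbSquare57.pb (𝟙 A ^ 0).left c = 1
    rw [pow_zero]
    exact AbSquare57.pb_one c
  have hP1 : P 1 = c := by
    show AbSquare57.pb (𝟙 A ^ 1).left c = c
    rw [pow_one, Over.id_left]
    exact AbSquare57.pb_id c
  have hstep : ∀ m, P (m + 1) = P m * c ^ (m + 1) * d ^ m := by
    intro m
    induction m with
    | zero => rw [hP1, hP0]; simp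
    | succ m ih =>
      have hc := AbSquare57.cube c (𝟙 A ^ (m + 1)) (𝟙 A) (𝟙 A)⁻¹
      rw [_root_.mul_inv_cancel, AbSquare57.pb_one, _root_.mul_one, mul_inv_cancel_right, ← pow_succ] at hc
      rw [show (𝟙 A ^ (m + 1)) * (𝟙 A)⁻¹ = 𝟙 A ^ m by rw [pow_succ, mul_inv_cancel_right], Over.id_left,
        AbSquare57.pb_id] at hc
      change P (m + 1) * P (m + 1) * c * d = P (m + 1 + 1) * P m at hc
      rw [ih] at hc ⊢
      have e : P (m + 1 + 1) * P m = (P m * c ^ (m + 1) * d ^ m * c ^ (m + 1 + 1) * d ^ (m + 1)) * P m := by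
        rw [← hc, pow_succ c (m + 1), pow_succ d m]
        ac_rfl
      exact mul_right_cancel e
  have hclosed : ∀ m, P m = c ^ (m * (m + 1) / 2) * d ^ (m * (m - 1) / 2) := by
    intro m
    induction m with
    | zero => simpa using hP0
    | succ m ih =>
      have e1 : (m + 1) * (m + 1 + 1) / 2 = m * (m + 1) / 2 + (m + 1) := by
        rw [show (m + 1) * (m + 1 + 1) = m * (m + 1) + 2 * (m + 1) by ring, Nat.add_mul_div_left _ _ two_pos]
      have e2 : (m + 1) * (m + 1 - 1) / 2 = m * (m - 1) / 2 + m := by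
        rcases m with _ | j
        · rfl
        · simp only [Nat.add_sub_cancel]
          rw [show (j + 1 + 1) * (j + 1) = (j + 1) * j + 2 * (j + 1) by ring, Nat.add_mul_div_left _ _ two_pos]
      rw [hstep, ih, e1, e2, pow_add c (m * (m + 1) / 2) (m + 1), pow_add d (m * (m - 1) / 2) m]
      ac_rfl
  have h0 := congrArg Subtype.val (hclosed n)
  refine (PicGrp.cl_eq_cl_iff _ _).1 ?_
  refine h0.trans ?_
  rw [PicGrp.mul_val, PicGrp.cls_pow_val hL]
  show PicGrp.mulCl _ ((PicGrp.cls _ hinv) ^ _).1 = _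
  rw [PicGrp.cls_pow_val hinv, PicGrp.mulCl_cl]

end Groth.Agent.S1844
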