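import Groth.Agent.AbTI73.DescendTI
import Groth.Agent.S1844
import Groth.Statements.S16687
-- import your own Groth.Agent.* helpers here

set_option autoImplicit false
set_option maxSynthPendingDepth 6
set_option linter.style.haveILetI false
set_option backward.isDefEq.respectTransparency.types false
universe u
open CategoryTheory CategoryTheory.Limits MonoidalCategory CartesianMonoidalCategory MonObj GrpObj AlgebraicGeometry
open AbVar
open Groth.Agent.AbSquare57 (pb pb_comp pb_cls pb_id)

namespace Groth.Agent.S16687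

/-- Let X be an abelian variety over a field k (a proper, geometrically integral k-group scheme) with
group law m : X ×_k X → X and projections p₁, p₂, let L be an invertible O_X-module, and let n ≥ 2
be an integer such that n^*L ≅ L^{⊗ n}, where n : X → X is multiplication by n (the n-th power of
the identity in the group of endomorphisms). Then the class of L lies in Pic⁰_{X/k}, i.e. the
Mumford module of L is trivial: m^*L ≅ p₁^*L ⊗ p₂^*L (existence of an isomorphism of modules on X
×_k X). (The published statement allows any integer n other than 0 and 1, negative n included; this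
row takes n a natural number with n ≥ 2. The converse implication also holds; this row is the
direction from one such n.) -/
theorem result (k : Type u) [Field k]
    (X : Over (Spec (CommRingCat.of k))) [GrpObj X] [IsProper X.hom] [GeometricallyIntegral X.hom]
    (L : X.left.Modules) (hL : PicF.IsInvertible L) (n : ℕ) (hn : 2 ≤ n)
    (h : Nonempty ((Scheme.Modules.pullback (𝟙 X ^ n).left).obj L ≅ CohB1.tensorPow L n)) :
    Nonempty ((Scheme.Modules.pullback μ[X].left).obj L ≅
      CohB1.tensorMod ((Scheme.Modules.pullback (fst X X).left).obj L)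
        ((Scheme.Modules.pullback (snd X X).left).obj L)) := by
  let K' := AlgebraicClosure k
  haveI := AbTI73.isProper_bX K' X
  haveI := AbTI73.geometricallyIntegral_bX K' X
  let B := AbTI73.bX K' X
  let F := Over.pullback (AbTI73.bsMap k K')
  let π := AbTI73.bπ K' X
  have h0 : pb (𝟙 X ^ n).left (PicGrp.cls L hL) = PicGrp.cls L hL ^ n := by
    rw [← AbTI73.cls_tensorPow hL, AbTI73.pb_eq_cls_iff]
    exact h
  let L₁ : B.left.Modules := (Scheme.Modules.pullback π).obj L
  have hL₁ : PicF.IsInvertible L₁ := PicLoc.isInvertible_pullback _ hL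
  set c := PicGrp.cls L₁ hL₁
  have hcπ : pb π (PicGrp.cls L hL) = c := pb_cls _ hL
  have hn' : pb (𝟙 B ^ n).left c = c ^ n := by
    have e := AbTI73.bX_map_pow K' (𝟙 X) n
    rw [F.map_id] at e
    rw [← e, ← hcπ, AbTI73.pb_bX_map, h0, map_pow]
  -- the differences of translates of the general formula
  set d := pb ((𝟙 B)⁻¹ : B ⟶ B).left c
  have hn1 : 1 ≤ n := by omega
  have hgen : pb (𝟙 B ^ n).left c = c ^ (n * (n + 1) / 2) * d ^ (n * (n - 1) / 2) := by
    rw [← AbTI73.cls_tensorPow hL₁, show d = PicGrp.cls _ (PicLoc.isInvertible_pullback _ hL₁) from pb_cls _ hL₁,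
      ← AbTI73.cls_tensorPow, AbTI73.cls_mul_cls', AbTI73.pb_eq_cls_iff]
    exact S1844.result K' B L₁ hL₁ n hn1
  have hsum : n * (n + 1) / 2 + n * (n - 1) / 2 = n * n := by
    obtain ⟨j, rfl⟩ : ∃ j, n = j + 1 := ⟨n - 1, by omega⟩
    obtain ⟨t, ht⟩ := Nat.even_mul_succ_self j
    rw [show (j + 1) * (j + 1 + 1) = 2 * (t + (j + 1)) by linarith,
      show (j + 1) * (j + 1 - 1) = 2 * t by simp; linarith, Nat.mul_div_cancel_left _ two_pos,
      Nat.mul_div_cancel_left _ two_pos]
    linarith
  have hphi : ∀ a, AbTI73.phi d a = AbTI73.phi c a := fun a => by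
    refine div_eq_div_iff_mul_eq_mul.2 ?_
    rw [_root_.mul_comm (pb _ c) d]
    exact AbTI73.phi_inv_pullback c a
  have hTI : AbTI73.IsTI c := by
    refine AbTI73.isTI_of_pow (fun a m hm => Tors73.divisible B m hm a) (n := n * n - n) ?_ fun a => div_eq_one.1 ?_
    · have : n * 2 ≤ n * n := Nat.mul_le_mul_left n hn
      omega
    show AbTI73.phi (c ^ (n * n - n)) a = 1
    have e1 : ∀ m, AbTI73.phi (c ^ m) a = AbTI73.phi c a ^ m := fun m => by
      simp only [AbTI73.phi, map_pow, div_pow]
    have e2 : AbTI73.phi (c ^ n) a = AbTI73.phi c a ^ (n * n) := by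
      rw [← hn', hgen, ← hsum, pow_add]
      conv_rhs => arg 2; rw [← hphi a]
      simp only [AbTI73.phi, map_mul, map_pow, div_pow, div_mul_div_comm]
    rw [e1, pow_sub _ (Nat.le_mul_of_pos_left n (by omega)), ← e2, e1, _root_.mul_inv_cancel]
  have hlam : AbTI73.lam (PicGrp.cls L hL) = 1 := AbTI73.lam_eq_one_of_isTI_bX K' _ (by rw [hcπ]; exact hTI)
  rw [AbTI73.lam, div_eq_one] at hlam
  rw [pb_cls (fst X X).left hL, pb_cls (snd X X).left hL, AbTI73.cls_mul_cls'] at hlam
  have hμ : (μ[X] : X ⊗ X ⟶ X) = AbTI73.add X := MonObj.mul_eq_mul (M := X)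
  rw [hμ]
  exact (AbTI73.pb_eq_cls_iff _ hL _).1 hlam

end Groth.Agent.S16687
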