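import Mathlib
import Groth.Agent.Hopf35.Basic
import Groth.Statements.S16688

set_option autoImplicit false
universe u v w
open ComodSub

namespace Groth.Agent.S16688

open TensorProduct Finset Groth.Agent.Hopf35

theorem result (k : Type u) [CommRing k]
    (A : Type v) [CommRing A] [HopfAlgebra k A]
    (M : Type w) [AddCommGroup M] [Module k M] (l : ComodSub.LComod k A M) :
    ∃ c : HopfRep.Comod k A M, c.coact = ComodSub.rcoactOfLeft l := by
  let F : A ⊗[k] (A ⊗[k] M) →ₗ[k] M ⊗[k] (A ⊗[k] A) :=
    (TensorProduct.comm k (A ⊗[k] A) M).toLinearMap ∘ₗ
      ((TensorProduct.comm k A A).toLinearMap ∘ₗ TensorProduct.map (HopfAlgebra.antipode k) (HopfAlgebra.antipode k)).rTensor M ∘ₗ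
      (TensorProduct.assoc k A A M).symm.toLinearMap
  have hF : ∀ a b m, F (a ⊗ₜ (b ⊗ₜ m)) = m ⊗ₜ (HopfAlgebra.antipode k b ⊗ₜ HopfAlgebra.antipode k a) := fun _ _ _ => rfl
  refine ⟨{ coact := ComodSub.rcoactOfLeft l, coassoc := ?_, counit_comp := ?_ }, rfl⟩
  · ext m
    have hc := LinearMap.congr_fun l.coassoc m
    simp only [LinearMap.coe_comp, LinearEquiv.coe_coe, Function.comp_apply] at hc ⊢
    have L : (TensorProduct.assoc k M A A) ((ComodSub.rcoactOfLeft l).rTensor A (ComodSub.rcoactOfLeft l m)) = F (l.coact.lTensor A (l.coact m)) := by
      rw [ComodSub.rcoactOfLeft_apply]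
      generalize l.coact m = t
      induction t using TensorProduct.induction_on with
      | zero => simp
      | add x y hx hy => simp only [map_add, hx, hy]
      | tmul a n =>
        simp only [LinearMap.rTensor_tmul, TensorProduct.comm_tmul, LinearMap.lTensor_tmul, ComodSub.rcoactOfLeft_apply]
        generalize l.coact n = s
        induction s using TensorProduct.induction_on with
        | zero => simp
        | add x y hx hy => simp only [map_add, add_tmul, tmul_add, hx, hy]
        | tmul b p => rfl
    rw [L, hc, ComodSub.rcoactOfLeft_apply]
    generalize l.coact m = t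
    induction t using TensorProduct.induction_on with
    | zero => simp
    | add x y hx hy => simp only [map_add, hx, hy]
    | tmul a n =>
      simp only [LinearMap.rTensor_tmul, TensorProduct.comm_tmul, LinearMap.lTensor_tmul, comul_antipode]
      generalize CoalgebraStruct.comul (R := k) a = s
      induction s using TensorProduct.induction_on with
      | zero => simp
      | add x y hx hy => simp only [map_add, add_tmul, tmul_add, hx, hy]
      | tmul b p => rfl
  · ext m
    have hc := LinearMap.congr_fun l.counit_comp m
    simp only [LinearMap.coe_comp, Function.comp_apply] at hc ⊢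
    have : ∀ t : A ⊗[k] M, (Coalgebra.counit (R := k) (A := A)).lTensor M (TensorProduct.comm k A M ((HopfAlgebra.antipode k).rTensor M t)) = TensorProduct.comm k k M ((Coalgebra.counit (R := k) (A := A)).rTensor M t) := by
      intro t
      induction t using TensorProduct.induction_on with
      | zero => simp
      | add x y hx hy => simp only [map_add, hx, hy]
      | tmul a n => simp
    rw [ComodSub.rcoactOfLeft_apply, this, hc]
    rfl

end Groth.Agent.S16688
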