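import Mathlib
import Groth.Agent.Hopf35.Basic
import Groth.Statements.S16689

set_option autoImplicit false
universe u v w
open ComodSub

namespace Groth.Agent.S16689

open TensorProduct Finset Groth.Agent.Hopf35

theorem result (k : Type u) [CommRing k]
    (A : Type v) [CommRing A] [HopfAlgebra k A]
    (M : Type w) [AddCommGroup M] [Module k M] (c : HopfRep.Comod k A M) :
    ∃ l : ComodSub.LComod k A M, l.coact = ComodSub.lcoactOfRight c := by
  let F : M ⊗[k] (A ⊗[k] A) →ₗ[k] A ⊗[k] (A ⊗[k] M) :=
    (TensorProduct.assoc k A A M).toLinearMap ∘ₗ
      ((TensorProduct.comm k A A).toLinearMap ∘ₗ TensorProduct.map (HopfAlgebra.antipode k) (HopfAlgebra.antipode k)).rTensor M ∘ₗ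
      (TensorProduct.comm k M (A ⊗[k] A)).toLinearMap
  refine ⟨{ coact := ComodSub.lcoactOfRight c, coassoc := ?_, counit_comp := ?_ }, rfl⟩
  · ext m
    have hc := LinearMap.congr_fun c.coassoc m
    simp only [LinearMap.coe_comp, LinearEquiv.coe_coe, Function.comp_apply] at hc ⊢
    have L : (ComodSub.lcoactOfRight c).lTensor A (ComodSub.lcoactOfRight c m) = F ((TensorProduct.assoc k M A A) (c.coact.rTensor A (c.coact m))) := by
      rw [ComodSub.lcoactOfRight_apply]
      generalize c.coact m = t
      induction t using TensorProduct.induction_on with
      | zero => simp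
      | add x y hx hy => simp only [map_add, hx, hy]
      | tmul n a =>
        simp only [LinearMap.rTensor_tmul, TensorProduct.comm_tmul, LinearMap.lTensor_tmul, ComodSub.lcoactOfRight_apply]
        generalize c.coact n = s
        induction s using TensorProduct.induction_on with
        | zero => simp
        | add x y hx hy => simp only [map_add, add_tmul, tmul_add, hx, hy]
        | tmul b p => rfl
    rw [L, hc, ComodSub.lcoactOfRight_apply]
    generalize c.coact m = t
    induction t using TensorProduct.induction_on with
    | zero => simp
    | add x y hx hy => simp only [map_add, hx, hy]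
    | tmul n a =>
      simp only [LinearMap.rTensor_tmul, TensorProduct.comm_tmul, LinearMap.lTensor_tmul, comul_antipode]
      generalize CoalgebraStruct.comul (R := k) a = s
      induction s using TensorProduct.induction_on with
      | zero => simp
      | add x y hx hy => simp only [map_add, add_tmul, tmul_add, hx, hy]
      | tmul b p => rfl
  · ext m
    have hc := LinearMap.congr_fun c.counit_comp m
    simp only [LinearMap.coe_comp, Function.comp_apply] at hc ⊢
    have : ∀ t : M ⊗[k] A, (Coalgebra.counit (R := k) (A := A)).rTensor M (TensorProduct.comm k M A ((HopfAlgebra.antipode k).lTensor M t)) = TensorProduct.comm k M k ((Coalgebra.counit (R := k) (A := A)).lTensor M t) := by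
      intro t
      induction t using TensorProduct.induction_on with
      | zero => simp
      | add x y hx hy => simp only [map_add, hx, hy]
      | tmul n a => simp
    rw [ComodSub.lcoactOfRight_apply, this, hc]
    rfl

end Groth.Agent.S16689
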