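import Mathlib
import Groth.Agent.Hopf35.Basic
import Groth.Statements.S16690

set_option autoImplicit false
universe u v w
open ComodSub

namespace Groth.Agent.S16690

open TensorProduct Finset Groth.Agent.Hopf35

theorem result (k : Type u) [CommRing k]
    (A : Type v) [AddCommGroup A] [Module k A] [Coalgebra k A] [Module.Flat k A]
    (M : Type w) [AddCommGroup M] [Module k M] [Module.FinitePresentation k M]
    (c : HopfRep.Comod k A M) :
    ∃ l : ComodSub.LComod k A (Module.Dual k M), ComodSub.LComod.IsLDual c l := by
  let Θ : A ⊗[k] Module.Dual k M ≃ₗ[k] (M →ₗ[k] A) :=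
    TensorProduct.comm k A (Module.Dual k M) ≪≫ₗ LinearEquiv.ofBijective _ (dualTensorHom_bijective_of_flat M A)
  let J : Module.Dual k M →ₗ[k] (M →ₗ[k] A) :=
    { toFun := fun g => ComodSub.ldualFun c g
      map_add' := fun f g => by ext m; simp [ComodSub.ldualFun_apply]
      map_smul' := fun r g => by ext m; simp [ComodSub.ldualFun_apply] }
  let L := Θ.symm.toLinearMap ∘ₗ J
  have hL : ∀ g, dualTensorHom k M A (TensorProduct.comm k A (Module.Dual k M) (L g)) = ComodSub.ldualFun c g :=
    fun g => Θ.apply_symm_apply (J g)
  refine ⟨{ coact := L, coassoc := ?_, counit_comp := ?_ }, hL⟩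
  · refine LinearMap.ext fun g => ?_
    let Θ3 : A ⊗[k] (A ⊗[k] Module.Dual k M) → (M →ₗ[k] A ⊗[k] A) := fun t =>
      dualTensorHom k M (A ⊗[k] A) (TensorProduct.comm k (A ⊗[k] A) (Module.Dual k M) ((TensorProduct.assoc k A A _).symm t))
    have hΘ3 : Function.Injective Θ3 :=
      (dualTensorHom_bijective_of_flat M (A ⊗[k] A)).1.comp ((LinearEquiv.injective _).comp (LinearEquiv.injective _))
    apply hΘ3
    simp only [LinearMap.coe_comp, LinearEquiv.coe_coe, Function.comp_apply]
    have e1 : ∀ t : A ⊗[k] Module.Dual k M, Θ3 (TensorProduct.assoc k A A _ ((CoalgebraStruct.comul (R := k) (A := A)).rTensor _ t)) =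
        CoalgebraStruct.comul (R := k) (A := A) ∘ₗ dualTensorHom k M A (TensorProduct.comm k A _ t) := by
      intro t
      induction t using TensorProduct.induction_on with
      | zero => simp [Θ3]
      | add x y hx hy => simp only [map_add, LinearMap.comp_add, ← hx, ← hy]; simp [Θ3, map_add]
      | tmul a φ => ext m; simp [Θ3]
    have e2 : ∀ t : A ⊗[k] Module.Dual k M, Θ3 (L.lTensor A t) =
        (dualTensorHom k M A (TensorProduct.comm k A _ t)).rTensor A ∘ₗ c.coact := by
      intro t
      induction t using TensorProduct.induction_on with
      | zero => simp [Θ3]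
      | add x y hx hy => simp only [map_add, LinearMap.rTensor_add, LinearMap.add_comp, ← hx, ← hy]; simp [Θ3, map_add]
      | tmul a φ =>
        ext m
        have e3 : ∀ s : A ⊗[k] Module.Dual k M, Θ3 (a ⊗ₜ s) m = a ⊗ₜ (dualTensorHom k M A (TensorProduct.comm k A _ s) m) := by
          intro s
          induction s using TensorProduct.induction_on with
          | zero => simp [Θ3]
          | add x y hx hy => simp only [map_add, LinearMap.add_apply, tmul_add, ← hx, ← hy]; simp [Θ3, map_add, tmul_add]
          | tmul b ψ => simp [Θ3, tmul_smul]
        rw [LinearMap.lTensor_tmul, e3, hL, ComodSub.ldualFun_apply, LinearMap.comp_apply]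
        generalize c.coact m = s
        induction s using TensorProduct.induction_on with
        | zero => simp
        | add x y hx hy => simp only [map_add, tmul_add, hx, hy]
        | tmul n b => simp [tmul_smul, smul_tmul']
    rw [e1, e2, hL]
    ext m
    have hc := LinearMap.congr_fun c.coassoc m
    simp only [LinearMap.coe_comp, LinearEquiv.coe_coe, Function.comp_apply] at hc ⊢
    have e4 : ∀ t : M ⊗[k] A, (ComodSub.ldualFun c g).rTensor A t =
        TensorProduct.lid k (A ⊗[k] A) (g.rTensor (A ⊗[k] A) (TensorProduct.assoc k M A A (c.coact.rTensor A t))) := by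
      intro t
      induction t using TensorProduct.induction_on with
      | zero => simp
      | add x y hx hy => simp only [map_add, hx, hy]
      | tmul n b =>
        simp only [LinearMap.rTensor_tmul, ComodSub.ldualFun_apply]
        generalize c.coact n = s
        induction s using TensorProduct.induction_on with
        | zero => simp
        | add x y hx hy => simp only [map_add, add_tmul, hx, hy]
        | tmul p q => simp [smul_tmul']
    rw [e4, hc, ComodSub.ldualFun_apply]
    generalize c.coact m = t
    induction t using TensorProduct.induction_on with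
    | zero => simp
    | add x y hx hy => simp only [map_add, hx, hy]
    | tmul n b => simp
  · refine LinearMap.ext fun g => ?_
    apply (TensorProduct.lid k (Module.Dual k M)).injective
    simp only [LinearMap.coe_comp, Function.comp_apply, TensorProduct.mk_apply, TensorProduct.lid_tmul, one_smul]
    ext m
    have e : ∀ t : A ⊗[k] Module.Dual k M, TensorProduct.lid k _ ((CoalgebraStruct.counit (R := k) (A := A)).rTensor _ t) m =
        CoalgebraStruct.counit (R := k) (dualTensorHom k M A (TensorProduct.comm k A _ t) m) := by
      intro t
      induction t using TensorProduct.induction_on with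
      | zero => simp
      | add x y hx hy => simp only [map_add, LinearMap.add_apply, hx, hy]
      | tmul a φ => simp [mul_comm]
    rw [e, hL, ComodSub.ldualFun_apply]
    have hc := congrArg (fun t => TensorProduct.lid k k (g.rTensor k t)) (LinearMap.congr_fun c.counit_comp m)
    simp only [LinearMap.coe_comp, Function.comp_apply, LinearMap.flip_apply, TensorProduct.mk_apply] at hc
    simp at hc
    rw [← hc]
    generalize c.coact m = t
    induction t using TensorProduct.induction_on with
    | zero => simp
    | add x y hx hy => simp only [map_add, hx, hy]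
    | tmul n b => simp

end Groth.Agent.S16690
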