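import Groth.Statements.S16699
import Groth.Agent.AlgSt88.Graph
import Groth.Agent.AlgSt88.CompP
import Groth.Agent.AlgSt88.RepSp

set_option autoImplicit false
universe u
open AlgSt AlgSt.IsWellNighAffine

namespace Groth.Agent.S16699

open CategoryTheory AlgebraicGeometry in
/-- An algebraic stack affine over a well-nigh affine algebraic stack is well-nigh affine. -/
theorem result (S : Scheme.{u}) (𝒳 𝒳' : AlgSt.Cat S)
    (h𝒳 : AlgSt.IsAlgStack Scheme.fppfPrecoverage 𝒳) (h𝒳' : AlgSt.IsAlgStack Scheme.fppfPrecoverage 𝒳')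
    (hw : AlgSt.IsWellNighAffine 𝒳) (f : 𝒳' ⥤ᵇ 𝒳) (hf : AlgSt.RepByAlgSpWith AlgSp.IsAffineMor f) :
    AlgSt.IsWellNighAffine 𝒳' := by
  obtain ⟨U, x, hU, hx⟩ := hw
  obtain ⟨F, e, he, ha⟩ := hf U x
  obtain ⟨W, i, fst, sq, hW⟩ := ha hU (𝟙 _)
  haveI : IsIso fst := sq.isIso_fst_of_isIso
  refine ⟨W, BasedFunctor.comp (BasedFunctor.comp (AlgSt.ofOverCat W) (BasedFunctor.comp (AlgSt.ofSpMap fst) e))
    (FibCat.fpSnd x f), hW, ?_⟩
  exact (Groth.Agent.AlgSt88.repByAlgSpWith_precomp_equiv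
    (Groth.Agent.AlgSt88.isEquivOver_comp (Groth.Agent.AlgSt88.isEquivOver_ofOverCat W)
      (Groth.Agent.AlgSt88.isEquivOver_comp (Groth.Agent.AlgSt88.isEquivOver_ofSpMap fst) he))).2
    (Groth.Agent.AlgSt88.repByAlgSpWith_of_iso
      (f := BasedFunctor.comp (Groth.Agent.AlgSt88.fpSwap x f) (FibCat.fpFst f x)) (Iso.refl _)
      ((Groth.Agent.AlgSt88.repByAlgSpWith_precomp_equiv Groth.Agent.AlgSt88.isEquivOver_fpSwap).2
        (Groth.Agent.AlgSt88.repByAlgSpWith_fpFst f hx)))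

end Groth.Agent.S16699
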