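import Groth.Statements.S1670
import Groth.Agent.VarGal.Residue

set_option autoImplicit false
universe u
open CategoryTheory CategoryTheory.Limits AlgebraicGeometry
open Variety

namespace Groth.Agent.S1670

/-- Let X be locally of finite type over k, K a separable closure of k, and T an irreducible component
of X. Then the inverse image of T in X_K is the union of the finitely many irreducible components of
X_K mapping into T, and these form a single orbit under the action of the k-automorphisms of K on
X_K. -/
theorem result (k : Type u) [Field k] (X : Scheme.{u}) [X.Over (Spec (CommRingCat.of k))] [LocallyOfFiniteType (X ↘ (Spec (CommRingCat.of k)))]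
    (T : Set X) (hT : T ∈ irreducibleComponents (X : Type u)) :
    {T' : Set (Curv2.bc k X (SeparableClosure k)) | T' ∈ irreducibleComponents (Curv2.bc k X (SeparableClosure k) : Type u) ∧
        (Curv2.bcFst k X (SeparableClosure k)).base '' T' ⊆ T}.Finite ∧
      (Curv2.bcFst k X (SeparableClosure k)).base ⁻¹' T = ⋃₀ {T' : Set (Curv2.bc k X (SeparableClosure k)) | T' ∈ irreducibleComponents (Curv2.bc k X (SeparableClosure k) : Type u) ∧
        (Curv2.bcFst k X (SeparableClosure k)).base '' T' ⊆ T} ∧
      ∀ T' T'' : Set (Curv2.bc k X (SeparableClosure k)), T' ∈ irreducibleComponents (Curv2.bc k X (SeparableClosure k) : Type u) →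
        T'' ∈ irreducibleComponents (Curv2.bc k X (SeparableClosure k) : Type u) →
        (Curv2.bcFst k X (SeparableClosure k)).base '' T' ⊆ T → (Curv2.bcFst k X (SeparableClosure k)).base '' T'' ⊆ T →
        ∃ σ : (SeparableClosure k) ≃ₐ[k] (SeparableClosure k), (Curv2.galAct k X (SeparableClosure k) σ).base '' T' = T'' := by
  have hgen : ∀ {T' : Set (Curv2.bc k X (SeparableClosure k))}
      (h : T' ∈ irreducibleComponents (Curv2.bc k X (SeparableClosure k) : Type u)),
      (Curv2.bcFst k X (SeparableClosure k)).base '' T' ⊆ T →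
        (Curv2.bcFst k X (SeparableClosure k)).base h.1.genericPoint = hT.1.genericPoint := by
    intro T' h hsub
    have hmem : (Curv2.bcFst k X (SeparableClosure k)).base h.1.genericPoint ∈ T :=
      hsub ⟨_, (VarGal.closure_genericPoint h).le (subset_closure rfl), rfl⟩
    exact (VarGal.fst_genericPoint_maximal h _
      ((hT.1.isGenericPoint_genericPoint (isClosed_of_mem_irreducibleComponents _ hT)).specializes hmem)).symm
  refine ⟨?_, ?_, fun T' T'' h' h'' s' s'' => ?_⟩
  · let φ : SeparableClosure k →ₐ[k] AlgebraicClosure k := IsAlgClosed.lift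
    refine ((((VarGal.finite_maximal_fibre_closure (k := k) hT).image (VarGal.bcMap X φ).base).image
      fun z => closure {z})).subset ?_
    rintro T' ⟨h', hsub⟩
    obtain ⟨z, hz⟩ := VarGal.surjective_bcMap (X := X) φ h'.1.genericPoint
    exact ⟨_, ⟨z, by rw [Set.mem_ofPred_eq, ← VarGal.fst_bcMap φ z, hz, hgen h' hsub], hz⟩,
      VarGal.closure_genericPoint h'⟩
  · refine Set.Subset.antisymm (fun y hy => ?_) (Set.sUnion_subset fun Z hZ => Set.image_subset_iff.1 hZ.2)
    obtain ⟨Z, hZ, hyZ, hsub⟩ := VarGal.exists_component_over hT y hy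
    exact ⟨Z, ⟨hZ, hsub⟩, hyZ⟩
  · obtain ⟨σ, hσ⟩ := VarGal.exists_galAct_apply_eq ((hgen h' s').trans (hgen h'' s'').symm)
    exact ⟨σ, by rw [VarGal.galAct_genericPoint_eq σ h', hσ, VarGal.closure_genericPoint h'']⟩

end Groth.Agent.S1670
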