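import Groth.Statements.S16708
import Groth.Agent.Comod33.AvgSplit
-- import your own Groth.Agent.* helpers here

set_option autoImplicit false
universe u
open HopfRep

namespace Groth.Agent.S16708

/-- Let G be a finite group and k a field in which the order of G is a nonzero element. Then the
constant group scheme of G over k is linearly reductive: every finite-dimensional comodule over its
coordinate Hopf algebra (the algebra of functions G → k with the Hopf structure of the constant
group) is semisimple, i.e. every subcomodule admits a complementary subcomodule. -/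
theorem result (k : Type u) [Field k] (G : Type u) [Group G]
    [Fintype G] [DecidableEq G] (hG : ((Fintype.card G : ℕ) : k) ≠ 0) :
    HopfRep.IsLinearlyReductive k (ConstGrp.F k G) := by
  intro V _ _ _ _ W hW
  let α : ConstGrp.F k G →ₗ[k] k :=
    (ConstGrp.basis k G).constr k fun _ => ((Fintype.card G : ℕ) : k)⁻¹
  have hαe : ∀ g, α (ConstGrp.e k g) = ((Fintype.card G : ℕ) : k)⁻¹ := fun g => by
    rw [← ConstGrp.basis_apply, Module.Basis.constr_basis]
  have h1 : α 1 = 1 := by
    rw [← ConstGrp.sum_e, map_sum]
    simp [hαe, hG]
  refine Comod33.Avg.exists_isCompl_of_integral α ?_ h1 V W hW (Submodule.exists_isCompl W)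
  refine ConstGrp.linearMap_ext fun g => ?_
  show α (ConstGrp.e k g) ⊗ₜ[k] (1 : ConstGrp.F k G) =
    α.rTensor _ (ConstGrp.comulLin k G (ConstGrp.e k g))
  rw [ConstGrp.comulLin_e, map_sum, hαe]
  simp only [LinearMap.rTensor_tmul, hαe]
  rw [← TensorProduct.tmul_sum]
  congr 1
  rw [← ConstGrp.sum_e]
  exact (Fintype.sum_equiv ((Equiv.inv G).trans (Equiv.mulRight g)) _ _ fun a => rfl).symm

end Groth.Agent.S16708
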