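import Groth.Statements.S16737
import Mathlib.RingTheory.Kaehler.Polynomial
import Mathlib.Algebra.MvPolynomial.Expand

set_option autoImplicit false
universe u v
open DeRham

namespace Groth.Agent.S16737

/-- The case of affine space over an affine base of characteristic p, in degree zero. Let p be a prime
and R a commutative ring with p = 0 in R. For a polynomial f over R in any set of variables t_i, the
Kähler differential df in Ω_{R[t]/R} vanishes if and only if f is a polynomial in the p-th powers of
the variables, f = g(t_i^p). Equivalently, the functions on affine space over R killed by the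
differential of the de Rham complex are exactly the functions on its Frobenius twist. (The published
computation is for finitely many variables over a noetherian base of characteristic p; the statement
here allows any commutative ring with p = 0 and any set of variables.) -/
theorem result (p : ℕ) [Fact p.Prime]
    (R : Type u) [CommRing R] [CharP R p] (σ : Type v) (f : MvPolynomial σ R) :
    KaehlerDifferential.D R (MvPolynomial σ R) f = 0 ↔
      ∃ g : MvPolynomial σ R, f = MvPolynomial.expand p g := by
  classical
  have hp : p.Prime := Fact.out
  constructor
  · intro h
    have hm : ∀ m ∈ f.support, ∀ i, p ∣ m i := by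
      intro m hm i
      rcases Nat.eq_zero_or_pos (m i) with h0 | h0
      · simp [h0]
      have h1 := KaehlerDifferential.mvPolynomialBasis_repr_apply R σ f i
      rw [h, map_zero, Finsupp.zero_apply] at h1
      have h2 := congrArg (MvPolynomial.coeff (m - Finsupp.single i 1)) h1.symm
      have hle : Finsupp.single i 1 ≤ m := Finsupp.single_le_iff.mpr h0
      rw [MvPolynomial.coeff_pderiv, MvPolynomial.coeff_zero, tsub_add_cancel_of_le hle,
        Finsupp.tsub_apply, Finsupp.single_eq_same, ← Nat.cast_add_one, Nat.sub_add_cancel h0] at h2
      by_contra hdvd
      have hu : IsUnit ((m i : ℕ) : R) := by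
        have : IsUnit ((m i : ℕ) : ZMod p) := by
          exact (ZMod.unitOfCoprime (m i) ((hp.coprime_iff_not_dvd.mpr hdvd).symm)).isUnit
        simpa only [map_natCast] using this.map (ZMod.castHom (dvd_refl p) R)
      exact MvPolynomial.mem_support_iff.mp hm (hu.mul_left_eq_zero.mp h2)
    refine ⟨∑ m ∈ f.support, MvPolynomial.monomial (m.mapRange (· / p) (Nat.zero_div p)) (f.coeff m), ?_⟩
    conv_lhs => rw [f.as_sum]
    rw [map_sum]
    refine Finset.sum_congr rfl fun m hm' => ?_
    have e : p • m.mapRange (· / p) (Nat.zero_div p) = m := by
      ext i; simp [Nat.mul_div_cancel' (hm m hm' i)]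
    rw [MvPolynomial.expand_monomial, e]
  · rintro ⟨g, rfl⟩
    induction g using MvPolynomial.induction_on with
    | C a => rw [MvPolynomial.expand_C]; exact Derivation.map_algebraMap _ a
    | add g h hg hh => rw [map_add, map_add, hg, hh, add_zero]
    | mul_X g i hg =>
      rw [map_mul, Derivation.leibniz, hg, smul_zero, add_zero, MvPolynomial.expand_X,
        Derivation.leibniz_pow, ← Nat.cast_smul_eq_nsmul (MvPolynomial σ R),
        CharP.cast_eq_zero (MvPolynomial σ R) p, zero_smul, smul_zero]

end Groth.Agent.S16737
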