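import Groth.Statements.S16742
import Groth.Agent.FlatCrit65.Basic
import Mathlib

set_option autoImplicit false
universe u
open CAlg

namespace Groth.Agent.S16742

open TensorProduct

/-- The equivalence in affine form, with flatness of the reduction in place of smoothness. Let p be a
prime, A~ a commutative ring flat over Z/p^2 and B~ an A~-algebra such that B~/pB~ is flat over
A~/pA~. Then B~ is flat over A~ if and only if every element of B~ killed by p is a multiple of p;
equivalently multiplication by p identifies B~/pB~ with pB~. (The published statement assumes the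
reduction smooth over A~/pA~ and the schemes noetherian, and phrases (b) as B~ being a lifting, that
is flat over A~; the statement here assumes only that the reduction is flat, where the equivalence
still holds by the local flatness criterion for the square-zero ideal generated by p.) -/
theorem result (p : ℕ) [Fact p.Prime]
    (Al : Type u) [CommRing Al] [Algebra (ZMod (p ^ 2)) Al] [Module.Flat (ZMod (p ^ 2)) Al]
    (Bl : Type u) [CommRing Bl] [Algebra Al Bl]
    (hB : Module.Flat (Al ⧸ Ideal.span {(p : Al)})
      (Bl ⧸ (Ideal.span {(p : Al)}).map (algebraMap Al Bl))) :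
    Module.Flat Al Bl ↔ ∀ b : Bl, (p : Bl) * b = 0 → b ∈ Ideal.span {(p : Bl)} := by
  set I := Ideal.span {(p : Al)}
  have hpp : (p : Al) * p = 0 := by
    rw [← map_natCast (algebraMap (ZMod (p ^ 2)) Al), ← map_mul, ← Nat.cast_mul, ← pow_two, ZMod.natCast_self, map_zero]
  let μ := LinearMap.mulLeft (ZMod (p ^ 2)) (p : ZMod (p ^ 2))
  have hμ : Function.Exact μ μ := by
    intro x
    simp only [μ, LinearMap.mulLeft_apply, Set.mem_range]
    constructor
    · intro hx
      obtain ⟨n, rfl⟩ := ZMod.natCast_zmod_surjective (n := p ^ 2) x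
      rw [← Nat.cast_mul, ZMod.natCast_eq_zero_iff, pow_two] at hx
      obtain ⟨c, rfl⟩ := Nat.dvd_of_mul_dvd_mul_left (Fact.out : p.Prime).pos hx
      exact ⟨c, by push_cast; rfl⟩
    · rintro ⟨c, rfl⟩
      rw [← mul_assoc, ← Nat.cast_mul, ← pow_two, ZMod.natCast_self, zero_mul]
  let ν : Al →ₗ[Al] Al := LinearMap.mulLeft Al (p : Al)
  have hν : Function.Exact ν ν := by
    have h1 := Module.Flat.rTensor_exact (R := ZMod (p ^ 2)) (M := Al) hμ
    let e := TensorProduct.lid (ZMod (p ^ 2)) Al
    have he : ∀ z, e (μ.rTensor Al z) = ν (e z) := by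
      intro z
      induction z using TensorProduct.induction_on with
      | zero => simp
      | tmul a b => simp [e, μ, ν, Algebra.smul_def, mul_assoc]
      | add a b ha hb => simp only [map_add, ha, hb]
    intro x
    obtain ⟨z, rfl⟩ := e.surjective x
    rw [← he, e.map_eq_zero_iff, h1 z]
    constructor
    · rintro ⟨w, rfl⟩; exact ⟨e w, (he w).symm⟩
    · rintro ⟨w, hw⟩
      obtain ⟨w, rfl⟩ := e.surjective w
      rw [← he] at hw
      exact ⟨w, e.injective hw⟩
  constructor
  · intro hflat b hb
    have h1 := Module.Flat.rTensor_exact (R := Al) (M := Bl) hν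
    let e := TensorProduct.lid Al Bl
    have he : ∀ z, e (ν.rTensor Bl z) = (p : Al) • e z := by
      intro z
      induction z using TensorProduct.induction_on with
      | zero => simp
      | tmul a b => simp [e, ν, mul_smul]
      | add a b ha hb => simp only [map_add, smul_add, ha, hb]
    have h2 : ν.rTensor Bl (e.symm b) = 0 := by
      apply e.injective
      rw [he, LinearEquiv.apply_symm_apply, map_zero, Algebra.smul_def, map_natCast, hb]
    obtain ⟨w, hw⟩ := (h1 _).mp h2
    have := congrArg e hw
    rw [he, LinearEquiv.apply_symm_apply, Algebra.smul_def, map_natCast] at this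
    exact Ideal.mem_span_singleton.mpr ⟨e w, this.symm⟩
  · intro h
    refine Groth.Agent.FlatCrit65.flat_of_injective_of_isNilpotent (I := I) ⟨2, ?_⟩ ?_ ?_
    · rw [Ideal.span_singleton_pow, pow_two, hpp, Ideal.zero_eq_bot, Ideal.span_singleton_eq_bot]
    · let π : Al →ₗ[Al] I := LinearMap.toSpanSingleton Al I ⟨(p : Al), Ideal.mem_span_singleton_self _⟩
      have hπ : Function.Surjective π := by
        rintro ⟨y, hy⟩
        obtain ⟨c, hc⟩ := Ideal.mem_span_singleton'.mp hy
        exact ⟨c, Subtype.ext hc⟩
      rw [injective_iff_map_eq_zero]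
      intro z hz
      obtain ⟨w, rfl⟩ := LinearMap.lTensor_surjective Bl hπ z
      obtain ⟨b, rfl⟩ := (TensorProduct.rid Al Bl).symm.surjective w
      have hb : (p : Bl) * b = 0 := by
        have := congrArg (TensorProduct.rid Al Bl) hz
        simpa [π, Algebra.smul_def] using this
      obtain ⟨c, rfl⟩ := Ideal.mem_span_singleton'.mp (h b hb)
      have e1 : c * (p : Bl) = (p : Al) • c := by rw [Algebra.smul_def, map_natCast, mul_comm]
      simp only [TensorProduct.rid_symm_apply, LinearMap.lTensor_tmul, π, LinearMap.toSpanSingleton_apply, one_smul, e1]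
      rw [TensorProduct.smul_tmul]
      have : (p : Al) • (⟨(p : Al), Ideal.mem_span_singleton_self _⟩ : I) = 0 := Subtype.ext hpp
      rw [this, TensorProduct.tmul_zero]
    · set IB := I.map (algebraMap Al Bl)
      let θ : (Al ⧸ I) ⊗[Al] Bl →ₗ[Al ⧸ I] (Bl ⧸ IB) :=
        (Ideal.Quotient.mkₐ Al IB).toLinearMap.liftBaseChange (Al ⧸ I)
      refine Module.Flat.of_linearEquiv (LinearEquiv.ofBijective θ ⟨?_, ?_⟩)
      · rw [injective_iff_map_eq_zero]
        intro z hz
        obtain ⟨b, rfl⟩ := TensorProduct.mk_surjective Al Bl (Al ⧸ I) Ideal.Quotient.mk_surjective z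
        have hb : Ideal.Quotient.mk IB b = 0 := by simpa [θ] using hz
        rw [Ideal.Quotient.eq_zero_iff_mem] at hb
        simp only [IB, I, Ideal.map_span, Set.image_singleton, map_natCast, Ideal.mem_span_singleton'] at hb
        obtain ⟨c, rfl⟩ := hb
        show (1 : Al ⧸ I) ⊗ₜ[Al] (c * (p : Bl)) = 0
        rw [show c * (p : Bl) = (p : Al) • c by rw [Algebra.smul_def, map_natCast, mul_comm],
          ← TensorProduct.smul_tmul, Algebra.smul_def, Ideal.Quotient.algebraMap_eq,
          Ideal.Quotient.eq_zero_iff_mem.mpr (Ideal.mem_span_singleton_self _), zero_mul, TensorProduct.zero_tmul]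
      · intro y
        obtain ⟨b, rfl⟩ := Ideal.Quotient.mk_surjective y
        exact ⟨1 ⊗ₜ b, by simp [θ]⟩

end Groth.Agent.S16742
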