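import Groth.Statements.S16744
import Groth.Agent.DR29.LogCartierMv

set_option autoImplicit false
universe u
open DeRham

namespace Groth.Agent.S16744

open exteriorPower in
/-- The case of affine n-space over an affine base of characteristic p with boundary divisor t_1⋯t_r =
0, all degrees. Let p be a prime, R a commutative ring with p = 0 in R, B = R[t_1, …, t_n] and r ≤
n. Let (L, ι, dl) be the module of differentials of B over R with logarithmic poles along t_1, …,
t_r, pinned by its defining properties (t_i · dl_i = ι(dt_i); ι(Ω_{B/R}) and the dl_i generate; no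
(t_1⋯t_r)-torsion; the kernel of ι is the (t_1⋯t_r)-power torsion), and let d be the logarithmic de
Rham differential on the exterior powers of L (the de Rham rule for ι ∘ d together with d(dl_i) = 0,
and d ∘ d = 0). Put w_ν = dl_ν for ν < r and w_ν = ι(t_ν^{p-1} dt_ν) for ν ≥ r (indices from 0), and
for an a-element set s of indices let e_s be the wedge of the w_ν, ν ∈ s, in increasing order. Then
an a-form with logarithmic poles is closed exactly when it is an exact form plus a combination Σ_s
g_s(t_1^p, …, t_n^p) · e_s with coefficients polynomials in the p-th powers of the variables, and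
such a combination is exact only if every g_s vanishes: the a-th cohomology of the logarithmic de
Rham complex of affine n-space is free over R[t_1^p, …, t_n^p] on the classes of the e_s. -/
theorem result (p : ℕ) [Fact p.Prime]
    (R : Type u) [CommRing R] [CharP R p] (n r a : ℕ) (hr : r ≤ n)
    (L : Type u) [AddCommGroup L] [Module (MvPolynomial (Fin n) R) L] [Module R L]
    [IsScalarTower R (MvPolynomial (Fin n) R) L]
    (ι : (Ω[MvPolynomial (Fin n) R⁄R]) →ₗ[MvPolynomial (Fin n) R] L) (dl : Fin r → L)
    (hL : LogDiff.IsLog (KaehlerDifferential.D R (MvPolynomial (Fin n) R))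
      (fun i : Fin r => (MvPolynomial.X (Fin.castLE hr i) : MvPolynomial (Fin n) R)) ι dl)
    (d : ∀ q : ℕ, ↥(⋀[MvPolynomial (Fin n) R]^q L) →ₗ[R] ↥(⋀[MvPolynomial (Fin n) R]^(q + 1) L))
    (hd : DeRham.IsDiff (ι.compDer (KaehlerDifferential.D R (MvPolynomial (Fin n) R))) d)
    (hlog : LogDiff.IsLogRule (KaehlerDifferential.D R (MvPolynomial (Fin n) R)) ι dl d)
    (w : Fin n → L) (hw : ∀ i : Fin r, w (Fin.castLE hr i) = dl i)
    (hw' : ∀ ν : Fin n, r ≤ (ν : ℕ) → w ν = ι (((MvPolynomial.X ν : MvPolynomial (Fin n) R) ^ (p - 1)) •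
      KaehlerDifferential.D R (MvPolynomial (Fin n) R) (MvPolynomial.X ν)))
    (e : Finset (Fin n) → ↥(⋀[MvPolynomial (Fin n) R]^a L))
    (he : ∀ (s : Finset (Fin n)) (hs : s.card = a),
      e s = exteriorPower.ιMulti (MvPolynomial (Fin n) R) a (fun j => w (s.orderEmbOfFin hs j))) :
    (∀ ω, ω ∈ DeRham.cocycles d a ↔
      ∃ (g : Finset (Fin n) → MvPolynomial (Fin n) R) (η : ↥(⋀[MvPolynomial (Fin n) R]^a L)),
        η ∈ DeRham.coboundaries d a ∧
          ω = η + ∑ s ∈ Finset.powersetCard a Finset.univ, MvPolynomial.expand p (g s) • e s) ∧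
    (∀ g : Finset (Fin n) → MvPolynomial (Fin n) R,
      (∑ s ∈ Finset.powersetCard a Finset.univ, MvPolynomial.expand p (g s) • e s) ∈ DeRham.coboundaries d a →
        ∀ s ∈ Finset.powersetCard a (Finset.univ : Finset (Fin n)), g s = 0) := by
  classical
  have hp := (Fact.out : p.Prime).pos
  let l := DR29.LogMv.basis hr ι dl hL
  have hd0 := DR29.LogMv.d_monomial hr ι dl hL d hlog
  have he' : ∀ (s : Finset (Fin n)) (hs : s.card = a), e s =
      MvPolynomial.monomial (DR29.LogMv.gam r p s) (1 : R) • DR29.LogCartier.E l (s.orderEmbOfFin hs) := fun s hs =>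
    (he s hs).trans (DR29.LogMv.e_eq hr ι dl hL d hlog p w hw hw' s hs)
  let T := Finset.powersetCard a (Finset.univ : Finset (Fin n))
  have hT : ∀ {s : Finset (Fin n)}, s ∈ T ↔ s.card = a := fun {s} => by simp [T, Finset.mem_powersetCard]
  have hterm : ∀ (s : Finset (Fin n)) (hs : s.card = a) (γ : Fin n →₀ ℕ),
      MvPolynomial.expand p (MvPolynomial.monomial γ (1 : R)) • e s =
        DR29.LogCartier.mf r l (DR29.LogCartier.wt r (p • γ + DR29.LogMv.gam r p s) s) (s.orderEmbOfFin hs) ∧
      DR29.LogCartier.Good R (DR29.LogCartier.wt r (p • γ + DR29.LogMv.gam r p s) s) := by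
    intro s hs γ
    refine ⟨?_, fun i => ?_⟩
    · rw [he' s hs, MvPolynomial.expand_monomial, smul_smul, DR29.LogCartier.mf, Finset.image_orderEmbOfFin_univ,
        DR29.LogCartier.ex_wt, MvPolynomial.monomial_mul, mul_one]
    · rw [DR29.LogMv.wt_pow p γ s i hp, Nat.cast_mul, CharP.cast_eq_zero R p, zero_mul]
  let Φ : (Finset (Fin n) → MvPolynomial (Fin n) R) →ₗ[R] ↥(⋀[MvPolynomial (Fin n) R]^a L) :=
    ∑ s ∈ T, (LinearMap.toSpanSingleton (MvPolynomial (Fin n) R) _ (e s)).restrictScalars R ∘ₗ
      ((MvPolynomial.expand p).toLinearMap ∘ₗ LinearMap.proj s)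
  have hΦ : ∀ g, Φ g = ∑ s ∈ T, MvPolynomial.expand p (g s) • e s := fun g => by
    simp [Φ, LinearMap.sum_apply]
  have hfix : ∀ g, d a (Φ g) = 0 ∧ DR29.LogCartier.proj r l a (Φ g) = Φ g := by
    intro g
    suffices ∀ s ∈ T, ∀ h : MvPolynomial (Fin n) R, d a (MvPolynomial.expand p h • e s) = 0 ∧
        DR29.LogCartier.proj r l a (MvPolynomial.expand p h • e s) = MvPolynomial.expand p h • e s by
      rw [hΦ, map_sum, map_sum]
      exact ⟨Finset.sum_eq_zero fun s hs => (this s hs (g s)).1, Finset.sum_congr rfl fun s hs => (this s hs (g s)).2⟩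
    intro s hs h
    induction h using MvPolynomial.induction_on' with
    | monomial γ c =>
      obtain ⟨h1, h2⟩ := hterm s (hT.1 hs) γ
      have hv : DR29.LogCartier.Valid r (DR29.LogCartier.wt r (p • γ + DR29.LogMv.gam r p s) s)
          (Finset.univ.image (s.orderEmbOfFin (hT.1 hs))) := by
        rw [Finset.image_orderEmbOfFin_univ]; exact DR29.LogCartier.valid_wt r _ s
      rw [show MvPolynomial.monomial γ c = c • MvPolynomial.monomial γ (1 : R) by
          rw [MvPolynomial.smul_monomial, smul_eq_mul, mul_one],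
        map_smul (MvPolynomial.expand p), smul_assoc, map_smul (d a), map_smul (DR29.LogCartier.proj r l a), h1, DR29.LogCartier.d_mf_good r l d hd0 _ h2,
        DR29.LogCartier.proj_mf r l _ (Finset.orderEmbOfFin s _).injective hv, if_pos h2, smul_zero]
      exact ⟨rfl, rfl⟩
    | add u v hu hv =>
      rw [map_add, add_smul, map_add, map_add, hu.1, hu.2, hv.1, hv.2, add_zero]
      exact ⟨rfl, rfl⟩
  have hrange : ∀ ω, ∃ g, Φ g = DR29.LogCartier.proj r l a ω := by
    intro ω
    rw [← LinearMap.mem_range]
    have hω : ω ∈ Submodule.span R (Set.range (DR29.LogCartier.bas l a)) := by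
      rw [(DR29.LogCartier.bas l a).span_eq]; trivial
    induction hω using Submodule.span_induction with
    | mem x hx =>
      obtain ⟨⟨α, s⟩, rfl⟩ := hx
      rw [DR29.LogCartier.proj, Module.Basis.constr_basis]
      split_ifs with hgood
      swap
      · exact zero_mem _
      obtain ⟨γ, rfl⟩ := DR29.LogMv.exists_good p α s.1 hgood
      have hs : s.1.card = a := s.2
      refine ⟨Pi.single s.1 (MvPolynomial.monomial γ (1 : R)), ?_⟩
      rw [hΦ, Finset.sum_eq_single_of_mem s.1 (hT.2 hs) (fun t _ ht => by rw [Pi.single_eq_of_ne ht, map_zero, zero_smul]),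
        Pi.single_eq_same, (hterm s.1 hs γ).1, DR29.LogCartier.bas_eq_mf r l]
      congr 1
    | zero => rw [map_zero]; exact zero_mem _
    | add u v _ _ hu hv => rw [map_add]; exact add_mem hu hv
    | smul c u _ hu => rw [map_smul]; exact Submodule.smul_mem _ c hu
  refine ⟨fun ω => ⟨fun hω => ?_, ?_⟩, fun g hg => ?_⟩
  · obtain ⟨g, hg⟩ := hrange ω
    refine ⟨g, ω - Φ g, ?_, by rw [← hΦ, sub_add_cancel]⟩
    have hω0 : d a ω = 0 := hω
    cases a with
    | zero =>
      have h := DR29.LogCartier.homotopy_zero (p := p) r l d hd0 ω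
      rw [hω0, map_zero, zero_add] at h
      rw [hg, h, sub_self]
      exact zero_mem _
    | succ q =>
      have h := DR29.LogCartier.homotopy (p := p) r l d hd0 ω
      rw [hω0, map_zero, add_zero] at h
      refine ⟨DR29.LogCartier.hom r l p q ω, ?_⟩
      rw [hg, eq_sub_iff_add_eq, h]
  · rintro ⟨g, η, hη, rfl⟩
    show d a _ = 0
    rw [← hΦ, map_add, (hfix g).1, add_zero]
    cases a with
    | zero => rw [(Submodule.mem_bot R).1 hη, map_zero]
    | succ q =>
      obtain ⟨y, rfl⟩ := hη
      exact LinearMap.congr_fun (hd.2 q) y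
  · rw [← hΦ] at hg
    have h0 : Φ g = 0 := by
      cases a with
      | zero => exact (Submodule.mem_bot R).1 hg
      | succ q =>
        obtain ⟨y, hy⟩ := hg
        rw [← (hfix g).2, ← hy, DR29.LogCartier.proj_d r l d hd0]
    intro s hs
    rw [hΦ] at h0
    let S : Set.powersetCard (Fin n) a := ⟨s, hT.1 hs⟩
    have h1 := congrArg (fun x => (l.exteriorPower a).repr x S) h0
    simp only [map_sum, map_zero, Finsupp.zero_apply, Finsupp.finsetSum_apply, map_smul, Finsupp.smul_apply] at h1
    have hrep : ∀ t ∈ T, (l.exteriorPower a).repr (e t) S =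
        if t = s then MvPolynomial.monomial (DR29.LogMv.gam r p s) (1 : R) else 0 := by
      intro t ht
      let St : Set.powersetCard (Fin n) a := ⟨t, hT.1 ht⟩
      have hE : DR29.LogCartier.E l (t.orderEmbOfFin (hT.1 ht)) = (l.exteriorPower a) St := by
        rw [exteriorPower.basis_apply, exteriorPower.ιMulti_family, DR29.LogCartier.E]
        rfl
      rw [he' t (hT.1 ht), hE, map_smul, Module.Basis.repr_self, Finsupp.smul_apply, Finsupp.single_apply, smul_eq_mul]
      by_cases hts : t = s
      · subst hts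
        rw [if_pos rfl, if_pos rfl, mul_one]
      · rw [if_neg hts, if_neg (fun h => hts (congrArg Subtype.val h)), mul_zero]
    rw [Finset.sum_congr rfl (fun t ht => by rw [hrep t ht])] at h1
    simp only [smul_eq_mul, mul_ite, mul_zero, Finset.sum_ite_eq', if_pos (show s ∈ T from hs)] at h1
    have h2 : MvPolynomial.expand p (g s) = 0 := by
      refine MvPolynomial.ext _ _ fun m => ?_
      have := congrArg (MvPolynomial.coeff (m + DR29.LogMv.gam r p s)) h1
      rwa [MvPolynomial.coeff_mul_monomial, mul_one, MvPolynomial.coeff_zero] at this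
    exact MvPolynomial.expand_injective hp (h2.trans (map_zero _).symm)

end Groth.Agent.S16744
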