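import Groth.Statements.S16752
import Groth.Agent.CohFlat58.Rows
import Groth.Agent.S0404

set_option autoImplicit false
universe u
open CurvSt

namespace Groth.Agent.S16752

open CategoryTheory CategoryTheory.Limits AlgebraicGeometry in
/-- Let f : X → S be a flat, proper morphism of schemes, locally of finite presentation, all of whose
fibres have dimension at most one (a family of curves whose total space is a scheme). Then the set
of points s of S such that the fibre X_s has dimension one and dim_{κ(s)} H^0(X_s, O_{X_s}) = 1 (the
conditions under which the genus of X_s is defined) is open in S. The source allows the total space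
to be an algebraic space and phrases the result as the existence of an open substack of the stack of
curves with this membership condition. -/
theorem result (X S : Scheme.{u}) (f : X ⟶ S)
    [Flat f] [IsProper f] [LocallyOfFinitePresentation f]
    (hdim : ∀ s : S, topologicalKrullDim ↥(f.fiber s) ≤ 1) :
    IsOpen {s : S | topologicalKrullDim ↥(f.fiber s) = 1 ∧
      Models.hRank ↥(S.residueField s) (f.fiber s) (f.fiberToSpecResidueField s)
        (Coh.structureModule (f.fiber s)) 0 = 1} := by
  rw [isOpen_iff_forall_mem_open]
  rintro s ⟨hs1, hs0⟩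
  obtain ⟨U, hsU, hU, hbc, hrk⟩ := CohFlat58.exists_gammaBC_rank_one f s
    ((CohFlat58.finrank_gamma_eq_one_iff _).1 hs0)
  haveI : IsAffine (U : Scheme.{u}) := hU
  refine ⟨(U : Set S) ∩ {t : S | (0 : WithBot ℕ∞) < topologicalKrullDim ↥(f.fiber t)}, fun t ht => ⟨?_, ?_⟩,
    U.2.inter (Groth.Agent.S0404.result f 0), hsU, ?_⟩
  · refine le_antisymm (hdim t) ?_
    have h2 := ht.2
    simp only [Set.mem_setOf_eq] at h2
    revert h2
    generalize topologicalKrullDim ↥(f.fiber t) = x
    intro h2
    match x, h2 with
    | ⊥, h2 => simp at h2
    | (y : ℕ∞), h2 =>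
      rw [← WithBot.coe_one, WithBot.coe_le_coe]
      exact Order.one_le_iff_pos.2 (WithBot.coe_lt_coe.1 h2)
  · exact (CohFlat58.finrank_gamma_eq_one_iff _).2 (CohFlat58.bijective_fibre_of_rank f hbc hrk ht.1)
  · show (0 : WithBot ℕ∞) < topologicalKrullDim ↥(f.fiber s)
    rw [hs1]
    exact zero_lt_one

end Groth.Agent.S16752
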