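import Groth.Statements.S16754
import Groth.Agent.Crv77.GeomConn
import Groth.Agent.Stein58.Zariski

set_option autoImplicit false
universe u
open CurvSt

namespace Groth.Agent.S16754

open CategoryTheory CategoryTheory.Limits AlgebraicGeometry in
/-- Let k be a field and X a scheme which is proper and smooth over k and of dimension one. Then the
following are equivalent: dim_k H^0(X, O_X) = 1 (the ground field is the ring of global functions);
X is geometrically connected over k; X is geometrically integral over k. (The remaining conditions
of the source concern membership in an open substack of the stack of curves and are not stated.) -/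
theorem result (k : Type u) [Field k]
    (X : Scheme.{u}) [X.Over (Spec (CommRingCat.of k))] [IsProper (X ↘ Spec (CommRingCat.of k))]
    [Smooth (X ↘ Spec (CommRingCat.of k))] (hdim : topologicalKrullDim ↥X = 1) :
    (Module.finrank k (Coh.HH X (Coh.structureModule X) 0) = 1 ↔ GeometricallyConnected (X ↘ Spec (CommRingCat.of k))) ∧
      (GeometricallyConnected (X ↘ Spec (CommRingCat.of k)) ↔ GeometricallyIntegral (X ↘ Spec (CommRingCat.of k))) := by
  haveI : Nonempty X := by
    by_contra h
    rw [not_nonempty_iff] at h
    rw [show topologicalKrullDim ↥X = ⊥ from Order.krullDim_eq_bot_iff.mpr ⟨fun s => h.elim s.isIrreducible.nonempty.some⟩] at hdim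
    exact absurd hdim (by decide)
  have h1 : Module.finrank k (Coh.HH X (Coh.structureModule X) 0) = 1 →
      GeometricallyConnected (X ↘ Spec (CommRingCat.of k)) := by
    intro h
    let one : Γ(Coh.structureModule X, ⊤) := (1 : Γ(X, ⊤))
    let v := (Crv77.sec (Coh.structureModule X)).symm one
    have hsec : ∀ r : k, Crv77.sec (Coh.structureModule X) (r • v) =
        (show Γ(Coh.structureModule X, ⊤) from Coh.toGlobal (X ↘ Spec (CommRingCat.of k)) r) := by
      intro r
      rw [Crv77.sec_smul k, AddEquiv.apply_symm_apply]
      exact mul_one (show Γ(X, ⊤) from Coh.toGlobal (X ↘ Spec (CommRingCat.of k)) r)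
    have hv : v ≠ 0 := fun h0 => by
      have h2 := congrArg (Crv77.sec (Coh.structureModule X)) h0
      rw [AddEquiv.apply_symm_apply, map_zero] at h2
      haveI : Nonempty (⊤ : X.Opens) := ⟨⟨Classical.arbitrary X, trivial⟩⟩
      exact one_ne_zero (α := Γ(X, ⊤)) h2
    have hb : Function.Bijective (fun r : k => Coh.toGlobal (X ↘ Spec (CommRingCat.of k)) r) := by
      refine ⟨fun a b hab => smul_left_injective k hv ((Crv77.sec (Coh.structureModule X)).injective ?_),
        fun s => ?_⟩
      · dsimp only
        rw [hsec, hsec]
        exact hab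
      · obtain ⟨r, hr⟩ := exists_smul_eq_of_finrank_eq_one h hv
          ((Crv77.sec (Coh.structureModule X)).symm (show Γ(Coh.structureModule X, ⊤) from s))
        refine ⟨r, ?_⟩
        have h2 := congrArg (Crv77.sec (Coh.structureModule X)) hr
        rw [hsec, AddEquiv.apply_symm_apply] at h2
        exact h2
    haveI : IsIso ((Scheme.ΓSpecIso (CommRingCat.of k)).inv ≫ (X ↘ Spec (CommRingCat.of k)).appTop) :=
      (ConcreteCategory.isIso_iff_bijective _).2 hb
    haveI : IsIso (X ↘ Spec (CommRingCat.of k)).appTop :=
      IsIso.of_isIso_comp_left (Scheme.ΓSpecIso (CommRingCat.of k)).inv _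
    exact Stein58.geometricallyConnected_of_isIso_appTop' _
  have h2 : GeometricallyConnected (X ↘ Spec (CommRingCat.of k)) →
      GeometricallyIntegral (X ↘ Spec (CommRingCat.of k)) := fun _ => by
    haveI := Crv77.geometricallyIrreducible_of_connected k X
    haveI := AlgGrp79.geometricallyReduced_of_smooth (X ↘ Spec (CommRingCat.of k))
    exact GeometricallyIntegral.of_geometricallyReduced_of_geometricallyIrreducible _
  have h3 : GeometricallyIntegral (X ↘ Spec (CommRingCat.of k)) →
      Module.finrank k (Coh.HH X (Coh.structureModule X) 0) = 1 := fun _ =>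
    Crv77.finrank_h0_of_geometricallyIntegral k X
  exact ⟨⟨h1, fun h => h3 (h2 h)⟩, ⟨h2, fun h => h1 (h3 h)⟩⟩

end Groth.Agent.S16754
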