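import Groth.Statements.S16758
import Groth.Agent.CohFlat58.Rank
import Mathlib.LinearAlgebra.FiniteDimensional.Basic

set_option autoImplicit false
universe u
open PicF

namespace Groth.Agent.S16758

open AlgebraicGeometry CategoryTheory CategoryTheory.Limits in
/-- (2) ⇔ (3): let f : X → Y be proper and flat with Y locally Noetherian. Then dim_{κ(y)} H⁰(X_y,
O_{X_y}) = 1 for every point y of Y if and only if for every morphism T → Y the base change f_T : X
×_Y T → T induces isomorphisms O_T(U) → O_{X ×_Y T}(f_T⁻¹ U) on all opens U of T, i.e. O_T = (f_T)_*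
O universally. (The published statement takes X and Y Noetherian; the argument is local on Y, so Y
is only assumed locally Noetherian here.) -/
theorem result {X Y : Scheme.{u}} (f : X ⟶ Y)
    [IsProper f] [Flat f] [IsLocallyNoetherian Y] :
    (∀ y : Y, Module.finrank (Y.residueField y) Γ(f.fiber y, ⊤) = 1) ↔
      ∀ (T : Scheme.{u}) (g : T ⟶ Y) (U : T.Opens), IsIso ((pullback.snd f g).app U) := by
  classical
  have key : ∀ y : Y, Module.finrank (Y.residueField y) Γ(f.fiber y, ⊤) = 1 ↔
      Function.Bijective (f.fiberToSpecResidueField y).appTop := fun y => by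
    let e := (Scheme.ΓSpecIso (Y.residueField y)).inv
    have he : Function.Bijective e := ConcreteCategory.bijective_of_isIso e
    rw [← Function.Bijective.of_comp_iff (f.fiberToSpecResidueField y).appTop he]
    refine ⟨fun h => ?_, fun h => ?_⟩
    · haveI := Module.nontrivial_of_finrank_eq_succ h
      exact ⟨(algebraMap (Y.residueField y) Γ(f.fiber y, ⊤)).injective,
        fun z => by
          obtain ⟨c, hc⟩ := exists_smul_eq_of_finrank_eq_one h (one_ne_zero (α := Γ(f.fiber y, ⊤))) z
          exact ⟨c, (Algebra.algebraMap_eq_smul_one (A := Γ(f.fiber y, ⊤)) c).trans hc⟩⟩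
    rw [← (LinearEquiv.ofBijective (Algebra.linearMap (Y.residueField y) Γ(f.fiber y, ⊤)) h).finrank_eq,
      Module.finrank_self]
  refine ⟨fun h T g U => ?_, fun h y => (key y).2 ?_⟩
  · have hloc : ∀ y : Y, ∃ U : Y.Opens, y ∈ U ∧ IsAffineOpen U ∧ CohFlat58.GammaBC (f ∣_ U) ∧
        ∀ V : Y.Opens, V ≤ U → IsIso (f.app V) := fun y => by
      have hb := (key y).1 (h y)
      obtain ⟨U₀, hy₀, hbc₀⟩ := CohFlat58.exists_gammaBC_nhd f y (CohFlat58.sepRoots_of_surjective _ hb.2)
      obtain ⟨U₁, hy₁, hiso⟩ := CohFlat58.exists_isIso_app_nhd f y hb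
      obtain ⟨U, hU, hyU, hle⟩ := exists_isAffineOpen_mem_and_subset (x := y) (U := U₀ ⊓ U₁) ⟨hy₀, hy₁⟩
      have h1 : IsPullback (f ⁻¹ᵁ U).ι (f ∣_ U) f (Y.homOfLE (fun x hx => (hle hx).1) ≫ U₀.ι) := by
        rw [Scheme.homOfLE_ι]
        exact (isPullback_morphismRestrict f U).flip
      exact ⟨U, hyU, hU, hbc₀.baseChange (IsPullback.of_right' h1 (isPullback_morphismRestrict f U₀).flip),
        fun V hV => hiso V (hV.trans fun x hx => (hle hx).2)⟩
    choose W hyW hW hbc hiso using hloc
    let B : Set T.Opens := {V | IsAffineOpen V ∧ ∃ y, V ≤ g ⁻¹ᵁ W y}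
    have hB : TopologicalSpace.Opens.IsBasis B := TopologicalSpace.Opens.isBasis_iff_nbhd.2 fun {O t} ht => by
      obtain ⟨V, hV, htV, hle⟩ := exists_isAffineOpen_mem_and_subset (x := t) (U := O ⊓ g ⁻¹ᵁ W (g t)) ⟨ht, hyW (g t)⟩
      exact ⟨V, ⟨hV, g t, fun x hx => (hle hx).2⟩, htV, fun x hx => (hle hx).1⟩
    refine Var76.FibBC.isIso_app_of_isBasis _ hB (fun V hV => ?_) U
    obtain ⟨hV, y, hle⟩ := hV
    haveI : IsAffine (V : Scheme.{u}) := hV
    haveI : IsAffine (W y : Scheme.{u}) := hW y
    have h1 : IsPullback ((pullback.snd f g ⁻¹ᵁ V).ι ≫ pullback.fst f g) (pullback.snd f g ∣_ V) f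
        ((T.homOfLE hle ≫ (g ∣_ W y)) ≫ (W y).ι) := by
      rw [Category.assoc, morphismRestrict_ι, Scheme.homOfLE_ι_assoc]
      exact (isPullback_morphismRestrict _ V).flip.paste_horiz (IsPullback.of_hasPullback f g)
    have hsq := IsPullback.of_right' h1 (isPullback_morphismRestrict f (W y)).flip
    have hrk : ∀ p, CohFlat58.rankFn (f ∣_ W y) p = 1 := CohFlat58.rankFn_of_bijective
      ((CohFlat58.bijective_appTop_congr f).2 (hiso y _ (Scheme.Opens.ι_image_top _).le))
    have hv := CohFlat58.bijective_appTop_of_rankFn ((hbc y).baseChange hsq)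
      fun p => (CohFlat58.rankFn_eq (hbc y) _ hsq p).trans (hrk _)
    have hv' := (CohFlat58.bijective_appTop_congr (pullback.snd f g)).1 hv
    rwa [Scheme.Opens.ι_image_top] at hv'
  · haveI : IsIso ((f.fiberToSpecResidueField y).app ⊤) := h _ (Y.fromSpecResidueField y) ⊤
    exact ConcreteCategory.bijective_of_isIso ((f.fiberToSpecResidueField y).app ⊤)

end Groth.Agent.S16758
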