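import Groth.Statements.S16759
import Groth.Agent.Cube7.Seesaw
import Groth.Agent.Cube73.Glue
-- import your own Groth.Agent.* helpers here

set_option autoImplicit false
universe u
open PicF

namespace Groth.Agent.S16759

open AlgebraicGeometry CategoryTheory CategoryTheory.Limits in
/-- Let f : X → Y be proper and flat with Y locally Noetherian and reduced, assume dim_{κ(y)} H⁰(X_y,
O_{X_y}) = 1 for every y, and let L be an invertible O_X-module. Then L ≅ f^*M for some invertible
O_Y-module M if and only if L|_{X_y} ≅ O_{X_y} for every point y of Y; moreover, when this holds,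
f_*L is invertible and the counit f^*f_*L → L of the pullback–pushforward adjunction is an
isomorphism (so one may take M = f_*L). (The published statement takes X and Y Noetherian; only
local Noetherianity of Y is used.) -/
theorem result {X Y : Scheme.{u}} (f : X ⟶ Y)
    [IsProper f] [Flat f] [IsLocallyNoetherian Y] [IsReduced Y]
    (h0 : ∀ y : Y, Module.finrank (Y.residueField y) Γ(f.fiber y, ⊤) = 1)
    (L : X.Modules) (hL : PicF.IsInvertible L) :
    ((∃ M : Y.Modules, PicF.IsInvertible M ∧ Nonempty ((Scheme.Modules.pullback f).obj M ≅ L)) ↔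
        ∀ y : Y, Nonempty (CohIII.fiberMod f L y ≅ Coh.structureModule (f.fiber y))) ∧
      ((∀ y : Y, Nonempty (CohIII.fiberMod f L y ≅ Coh.structureModule (f.fiber y))) →
        PicF.IsInvertible ((Scheme.Modules.pushforward f).obj L) ∧
          IsIso ((Scheme.Modules.pullbackPushforwardAdjunction f).counit.app L)) := by
  have hH0 : AbSch7.H0Fib f := by
    refine AbSch7.H0Fib.of_residueField f fun y => ?_
    have h1 : Module.finrank (Y.residueField y) Γ(f.fiber y, ⊤) = 1 := h0 y
    have : Nontrivial Γ(f.fiber y, ⊤) := Module.nontrivial_of_finrank_eq_succ h1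
    have hb : Function.Bijective (algebraMap (Y.residueField y) Γ(f.fiber y, ⊤)) := by
      refine ⟨(algebraMap (Y.residueField y) Γ(f.fiber y, ⊤)).injective, fun s => ?_⟩
      obtain ⟨c, hc⟩ := exists_smul_eq_of_finrank_eq_one h1 (one_ne_zero : (1 : Γ(f.fiber y, ⊤)) ≠ 0) s
      exact ⟨c, (Algebra.algebraMap_eq_smul_one c).trans hc⟩
    exact (Function.Bijective.of_comp_iff _
      (ConcreteCategory.bijective_of_isIso (Scheme.ΓSpecIso (Y.residueField y)).inv)).1 hb
  have hback : (∀ y : Y, Nonempty (CohIII.fiberMod f L y ≅ Coh.structureModule (f.fiber y))) →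
      PicF.IsInvertible ((Scheme.Modules.pushforward f).obj L) ∧
        IsIso ((Scheme.Modules.pullbackPushforwardAdjunction f).counit.app L) := fun htriv =>
    Cube7.invertible_and_counit_of_frames f (AbSch7.app_bijective f hH0)
      (Cube7.exists_nhd_frame f hH0 L hL htriv)
  refine ⟨⟨fun ⟨M, hM, ⟨e⟩⟩ y => ?_, fun htriv => ⟨_, (hback htriv).1, ?_⟩⟩, hback⟩
  · let g := Y.fromSpecResidueField y
    let N := (Scheme.Modules.pullback g).obj M
    have hN : PicF.IsInvertible N := Amp73.isInvertible_pullback g hM
    obtain ⟨⟨φ⟩⟩ : Nonempty (Nonempty (N ≅ Coh.structureModule (Spec (Y.residueField y)))) := by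
      obtain ⟨U, hU, s, hs⟩ := Mero90.exists_frame' hN default
      have : U = ⊤ := top_le_iff.1 fun z _ => by rwa [Subsingleton.elim z default]
      subst this
      exact ⟨Cube73.iso_of_frame hs⟩
    exact ⟨(Scheme.Modules.pullback (f.fiberι y)).mapIso e.symm ≪≫
      (Scheme.Modules.pullbackComp (f.fiberι y) f).app M ≪≫
      (Scheme.Modules.pullbackCongr (pullback.condition (f := f) (g := g))).app M ≪≫
      ((Scheme.Modules.pullbackComp (pullback.snd f g) g).app M).symm ≪≫
      (Scheme.Modules.pullback (pullback.snd f g)).mapIso φ ≪≫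
      PicLoc.pullbackStructureIso (pullback.snd f g)⟩
  · haveI := (hback htriv).2
    exact ⟨asIso ((Scheme.Modules.pullbackPushforwardAdjunction f).counit.app L)⟩

end Groth.Agent.S16759
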