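import Groth.Statements.S16761
import Groth.Agent.Mum71.BcZero
-- import your own Groth.Agent.* helpers here

set_option autoImplicit false
set_option linter.style.haveILetI false
set_option backward.isDefEq.respectTransparency.types false
universe u
open Coherent

namespace Groth.Agent.S16761

open AlgebraicGeometry CategoryTheory CategoryTheory.Limits in
/-- Let f : X → S be proper and of finite presentation, F an O_X-module of finite presentation which is
flat over S, and d a natural number with dim X_s ≤ d for all s. Then the set S' of points s with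
H^j(X_s, F_s) = 0 for all j ≥ 1 is open, and over every open U ⊆ S' the sheaves R^j f_* F (j ≥ 1)
restrict to zero, f_* F restricts to a finite locally free module, and the formation of f_* F
commutes with base change: for every cartesian square with base a morphism g : T → S whose image
lies in U, with f' : X ×_S T → T and g' : X ×_S T → X the projections, the base change map g^* f_* F
→ f'_* g'^* F is an isomorphism. (The published statement asks only that f be proper; without finite
presentation the assertions on f_* F fail — for a finite flat morphism which is not of finite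
presentation and F = O_X the direct image f_* O_X need not be finite locally free — and the argument
runs through cohomology and base change for morphisms of finite presentation, so f is taken of
finite presentation here. Higher direct images are right derived functors of f_* on O_X-modules,
with injective resolutions carried as an instance argument.) -/
theorem result {X S : Scheme.{u}} (f : X ⟶ S)
    [IsProper f] [LocallyOfFinitePresentation f] [HasInjectiveResolutions X.Modules]
    (F : X.Modules) (hF : CohB1.IsFP F) (hfl : FlatMod.IsFlatOver f F)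
    (d : ℕ) (hd : ∀ s : S, topologicalKrullDim ↥(f.fiber s) ≤ d) :
    IsOpen {s : S | ∀ j : ℕ, 1 ≤ j → Subsingleton (CohIII.fiberH f F s j)} ∧
      ∀ U : S.Opens, (U : Set S) ⊆ {s : S | ∀ j : ℕ, 1 ≤ j → Subsingleton (CohIII.fiberH f F s j)} →
        (∀ j : ℕ, 1 ≤ j → IsZero (((Coh.Rpush f j).obj F).restrict U.ι)) ∧
          FlatMod.IsFinLocFree (((Coh.push f).obj F).restrict U.ι) ∧
            ∀ (T X' : Scheme.{u}) (g : T ⟶ S) (f' : X' ⟶ T) (g' : X' ⟶ X) (hsq : IsPullback g' f' f g),
              Set.range g.base ⊆ (U : Set S) → IsIso (CohBC.bc0 f g f' g' hsq.w F) := by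
  haveI : F.IsQuasicoherent := by
    obtain ⟨σ, -⟩ := SheafOfModules.IsFinitePresentation.exists_quasicoherentData
      (R := X.ringCatSheaf) (M := F)
    exact σ.isQuasicoherent
  have key : ∀ (s : S), (∀ j : ℕ, 1 ≤ j → Subsingleton (CohIII.fiberH f F s j)) → ∀ j : ℕ, 1 ≤ j →
      ∀ {V : S.Opens} (hV : IsAffineOpen V) (M : Mum71.CohModel f F V) (_ : s ∈ V),
        ∃ a : Γ(S, V), s ∈ S.basicOpen a ∧ Mum71.VanishAt M j a :=
    fun s h j hj V hV M hs => Mum71.exists_vanishAt hV M j hs (h j hj)
  refine ⟨isOpen_iff_forall_mem_open.2 fun s hs => ?_, fun U hU => ⟨fun j hj => ?_, ?_, ?_⟩⟩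
  · obtain ⟨V, hV, hy, -⟩ := exists_isAffineOpen_mem_and_subset (X := S) (x := s) (U := ⊤) trivial
    obtain ⟨M⟩ := Mum71.exists_cohModel f F hF hfl hV
    choose a hsa ha using fun j : Fin d => key s hs (j + 1) (by omega) hV M hy
    refine ⟨(V : Set S) ∩ ⋂ j, (S.basicOpen (a j) : Set S), fun t ht j hj => ?_,
      V.isOpen.inter (isOpen_iInter_of_finite fun j => (S.basicOpen (a j)).isOpen), hy, Set.mem_iInter.2 hsa⟩
    rcases lt_or_ge d j with hdj | hdj
    · exact Mum71.subsingleton_fiberH_of_dim F t (hd t) hdj
    · have h := Mum71.subsingleton_fiberH_of_vanishAt M (ha ⟨j - 1, by omega⟩)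
        (Set.mem_iInter.1 ht.2 ⟨j - 1, by omega⟩)
      rwa [show ((⟨j - 1, by omega⟩ : Fin d) : ℕ) + 1 = j from Nat.sub_add_cancel hj] at h
  · refine Mum71.isZero_restrict_of_nhds _ _ fun t ht => ?_
    obtain ⟨V, hV, hy, -⟩ := exists_isAffineOpen_mem_and_subset (X := S) (x := t) (U := ⊤) trivial
    obtain ⟨M⟩ := Mum71.exists_cohModel f F hF hfl hV
    obtain ⟨a, hta, ha⟩ := key t (hU ht) j hj hV M hy
    exact Mum71.exists_isZero_rpush_nhd hV M ha hta
  · haveI := QCqs72.isQuasicoherent_pushforward F f
    refine Mum71.isFinLocFree_restrict_of_nhds _ _ fun t ht => ?_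
    obtain ⟨V, hV, hy, -⟩ := exists_isAffineOpen_mem_and_subset (X := S) (x := t) (U := ⊤) trivial
    obtain ⟨M⟩ := Mum71.exists_cohModel f F hF hfl hV
    obtain ⟨a, hta, ha⟩ := key t (hU ht) 1 le_rfl hV M hy
    obtain ⟨b, htb, hb⟩ := Mum71.exists_splitsAt_neg_one M hy
    exact Mum71.exists_free_push_nhd hV M (Mum71.splitsAt_d_congr M (by omega) (by omega) ha.2.1) hb hta htb
  · intro T X' g f' g' h hg
    refine Mum71.isIso_bc0_of_good f F g' f' g h fun z => ?_
    obtain ⟨V, hV, hy, -⟩ := exists_isAffineOpen_mem_and_subset (X := S) (x := g z) (U := ⊤) trivial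
    obtain ⟨M⟩ := Mum71.exists_cohModel f F hF hfl hV
    obtain ⟨a, hta, ha⟩ := key (g z) (hU (hg ⟨z, rfl⟩)) 1 le_rfl hV M hy
    exact Mum71.good_of_splitsAt hV M hta (Mum71.splitsAt_d_congr M (by omega) (by omega) ha.2.1)

end Groth.Agent.S16761
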