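import Groth.Statements.S16762

set_option autoImplicit false
universe u
open CAlgX

namespace Groth.Agent.S16762

/-- Let A → A' be faithfully flat and u : M → N a map of A-modules. Then u is universally injective (u ⊗
id_Q injective for every A-module Q) if and only if its base change A' ⊗_A M → A' ⊗_A N is
universally injective as a map of A'-modules. -/
theorem result (A A' : Type u) [CommRing A] [CommRing A']
    [Algebra A A'] [Module.FaithfullyFlat A A'] {M N : Type u} [AddCommGroup M] [Module A M]
    [AddCommGroup N] [Module A N] (u : M →ₗ[A] N) :
    CAlgX.UniversallyInjective A u ↔ CAlgX.UniversallyInjective A' (u.baseChange A') := by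
  have key : ∀ (Q' : Type u) [AddCommGroup Q'] [Module A' Q'] [Module A Q'] [IsScalarTower A A' Q'],
      Function.Injective ((u.baseChange A').lTensor Q') ↔ Function.Injective (u.lTensor Q') := by
    intro Q' _ _ _ _
    let eM := TensorProduct.AlgebraTensorModule.cancelBaseChange A A' A' Q' M
    let eN := TensorProduct.AlgebraTensorModule.cancelBaseChange A A' A' Q' N
    have hc : ∀ z, eN ((u.baseChange A').lTensor Q' z) = u.lTensor Q' (eM z) := by
      intro z
      induction z using TensorProduct.induction_on with
      | zero => simp
      | add a b ha hb => simp [ha, hb]
      | tmul q w =>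
        induction w using TensorProduct.induction_on with
        | zero => simp
        | add a b ha hb =>
          simp only [TensorProduct.tmul_add, map_add, ha, hb]
        | tmul a m => simp [eM, eN]
    constructor
    · intro h x y hxy
      obtain ⟨x, rfl⟩ := eM.surjective x
      obtain ⟨y, rfl⟩ := eM.surjective y
      rw [← hc, ← hc] at hxy
      rw [h (eN.injective hxy)]
    · intro h x y hxy
      exact eM.injective (h (by rw [← hc, ← hc, hxy]))
  constructor
  · intro h Q' _ _
    let : Module A Q' := Module.compHom Q' (algebraMap A A')
    have : IsScalarTower A A' Q' := IsScalarTower.of_compHom A A' Q'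
    rw [← LinearMap.lTensor_inj_iff_rTensor_inj, key Q', LinearMap.lTensor_inj_iff_rTensor_inj]
    exact h Q'
  · intro h Q _ _
    rw [← LinearMap.lTensor_inj_iff_rTensor_inj, ← Module.FaithfullyFlat.lTensor_injective_iff_injective A A']
    have h1 : Function.Injective (u.lTensor (TensorProduct A A' Q)) := by
      rw [← key, LinearMap.lTensor_inj_iff_rTensor_inj]
      exact h _
    intro x y hxy
    obtain ⟨x, rfl⟩ := (TensorProduct.assoc A A' Q M).surjective x
    obtain ⟨y, rfl⟩ := (TensorProduct.assoc A A' Q M).surjective y
    have hc : ∀ z, (u.lTensor Q).lTensor A' (TensorProduct.assoc A A' Q M z) =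
        TensorProduct.assoc A A' Q N (u.lTensor (TensorProduct A A' Q) z) := by
      intro z
      induction z using TensorProduct.induction_on with
      | zero => simp
      | add a b ha hb => simp [ha, hb]
      | tmul w m =>
        induction w using TensorProduct.induction_on with
        | zero => simp
        | add a b ha hb => simp only [TensorProduct.add_tmul, map_add, ha, hb]
        | tmul a q => simp
    rw [hc, hc] at hxy
    rw [h1 ((TensorProduct.assoc A A' Q N).injective hxy)]

end Groth.Agent.S16762
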