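import Groth.Statements.S16775
import Groth.Agent.RedPts82.Pairing

set_option autoImplicit false
open CategoryTheory MonoidalCategory CartesianMonoidalCategory MonObj GrpObj AlgebraicGeometry
universe u
open SGA3x
open Groth.Agent.RedPts82

namespace Groth.Agent.S16775

/-- Let G be a smooth affine group scheme with connected fibres over a scheme S, H ⊆ G a normal subgroup
scheme of multiplicative type (of finite type), G → Q = G/H the quotient, and H' ⊆ Q a central
subgroup scheme of multiplicative type (of finite type). Then the preimage of H' in G is a central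
subgroup scheme of G of multiplicative type. -/
theorem result {S : Scheme.{u}} {G H Q H' P : Over S}
    [GrpObj G] [GrpObj H] [GrpObj Q] [GrpObj H'] [GrpObj P]
    (hG : Smooth G.hom) (hGa : IsAffineHom G.hom) (hconn : ∀ s : S, _root_.IsConnected (G.hom.base ⁻¹' {s}))
    (i : H ⟶ G) [IsMonHom i] [Mono i] (hH : SGA3x.IsMultTypeFT H) (hHn : AlgGrp.IsNormalHom i)
    (q : G ⟶ Q) [IsMonHom q] (hq : RedSub.IsQuotient i q) (hker : AlgGrp.IsKernel i q)
    (j : H' ⟶ Q) [IsMonHom j] [Mono j] (hH' : SGA3x.IsMultTypeFT H')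
    (hcenH' : ∀ (X : Over S) (x : X ⟶ H') (g : X ⟶ Q), (x ≫ j) * g = g * (x ≫ j))
    (i' : P ⟶ G) [IsMonHom i'] (p : P ⟶ H') (hP : IsPullback i' p q j) :
    SGA3x.IsMultTypeFT P ∧ ∀ (X : Over S) (x : X ⟶ P) (g : X ⟶ G), (x ≫ i') * g = g * (x ≫ i') := by
  haveI := isMultTypeFT_isAffineHom hH
  haveI : QuasiCompact H.hom := inferInstance
  haveI : QuasiCompact q.left := quasiCompact_of_isQuotient hq
  have hsq := hP.map (Over.forget S)
  haveI : Surjective p.left := MorphismProperty.of_isPullback (P := @Surjective) hsq hq.1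
  haveI : Flat p.left := MorphismProperty.of_isPullback (P := @Flat) hsq hq.2.1
  haveI : QuasiCompact p.left :=
    MorphismProperty.of_isPullback (P := @QuasiCompact) hsq (inferInstance : QuasiCompact q.left)
  haveI : IsMonHom p := isMonHom_of_points p fun X x y => by
    rw [← cancel_mono j, MonObj.mul_comp _ _ j, Category.assoc, Category.assoc, Category.assoc, ← hP.w,
      ← Category.assoc, ← Category.assoc, ← Category.assoc, MonObj.mul_comp _ _ i', MonObj.mul_comp _ _ q]
  let h0 : H ⟶ P := hP.lift i 1 (by rw [MonObj.one_comp j, hker.w, Hom.one_def])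
  have hi0 : h0 ≫ i' = i := hP.lift_fst _ _ _
  have hp0 : h0 ≫ p = 1 := hP.lift_snd _ _ _
  haveI : Mono i' := ⟨fun a b e => hP.hom_ext e (by
    rw [← cancel_mono j, Category.assoc, Category.assoc, ← hP.w, reassoc_of% e])⟩
  haveI : IsMonHom h0 := isMonHom_of_points h0 fun X x y => by
    rw [← cancel_mono i', MonObj.mul_comp _ _ i', Category.assoc, Category.assoc, Category.assoc, hi0,
      MonObj.mul_comp _ _ i]
  haveI : Mono h0 := mono_of_mono_fac hi0
  have hk : AlgGrp.IsKernel h0 p := isKernel_of_lift h0 p hp0 fun X g hg => by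
    obtain ⟨n, hn⟩ := exists_lift_kernel hker (g ≫ i') (by
      rw [Category.assoc, hP.w, ← Category.assoc, hg, MonObj.one_comp j])
    exact ⟨n, by rw [← cancel_mono i', Category.assoc, hi0, hn]⟩
  obtain ⟨hqP, hpa⟩ := isQuotient_of_kernel hk hH
  haveI := hpa
  have hcenH : ∀ {X : Over S} (h : X ⟶ H) (g : X ⟶ G), (h ≫ i) * g = g * (h ≫ i) := fun h g =>
    central_of_normal i hH hHn (fun s => .inl (hconn s)) h g
  -- the commutator with the preimage
  let e : G ⊗ P ⟶ G := fst G P * (snd G P ≫ i') * (fst G P)⁻¹ * (snd G P ≫ i')⁻¹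
  obtain ⟨c, hc⟩ := exists_lift_kernel hker e (by
    simp only [e, MonObj.mul_comp _ _ q, GrpObj.inv_comp _ q, Category.assoc, hP.w]
    rw [← Category.assoc, ← hcenH' _ (snd G P ≫ p) (fst G P ≫ q), Category.assoc, mul_inv_cancel_right,
      mul_inv_cancel])
  have hcv : ∀ {W : Over S} (g : W ⟶ G) (x : W ⟶ P),
      (lift g x ≫ c) ≫ i = g * (x ≫ i') * g⁻¹ * (x ≫ i')⁻¹ := fun g x => by
    rw [Category.assoc, hc]
    simp only [e, MonObj.comp_mul, GrpObj.comp_inv, lift_fst, lift_snd_assoc]
  haveI : IsSeparated G.hom := inferInstance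
  have hpair : ∀ {W : Over S} (g : W ⟶ G) (x : W ⟶ P), lift g x ≫ c = 1 := fun g x =>
    pairing_trivial_of_quotient hqP hH hH' c
      (fun g x n => by
        rw [← cancel_mono i, hcv, hcv, MonObj.mul_comp _ _ i', Category.assoc, hi0,
          (commutator_mul_central g (x ≫ i') (n ≫ i) (fun y => hcenH n y)).2])
      (fun g x y => by
        rw [← cancel_mono i, MonObj.mul_comp _ _ i, hcv, hcv, hcv, MonObj.mul_comp _ _ i']
        refine commutator_bimul g (x ≫ i') (y ≫ i') ?_
        rw [← hcv]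
        exact hcenH _ _)
      (fun x => by rw [← cancel_mono i, hcv, MonObj.one_comp i]; simp)
      hconn g x
  have hcen : ∀ (X : Over S) (x : X ⟶ P) (g : X ⟶ G), (x ≫ i') * g = g * (x ≫ i') := fun X x g => by
    have h := hcv g x
    rw [hpair, MonObj.one_comp i] at h
    exact (mul_inv_eq_iff_eq_mul.mp (mul_inv_eq_one.mp h.symm)).symm
  refine ⟨isMultTypeFT_extension hqP hH hH' fun {X} a b => ?_, hcen⟩
  rw [← cancel_mono i', MonObj.mul_comp _ _ i', MonObj.mul_comp _ _ i', hcen]

end Groth.Agent.S16775
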