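import Groth.Statements.S16780
import Groth.Agent.RedPts82.Pairing

set_option autoImplicit false
open CategoryTheory MonoidalCategory CartesianMonoidalCategory MonObj GrpObj AlgebraicGeometry
universe u
open SGA3x

namespace Groth.Agent.S16780

/-- Let 1 → H' → H → H'' → 1 be a short exact sequence of affine, flat, finitely presented group schemes
over a scheme S with H' and H'' of multiplicative type (of finite type). If every fibre H_s is
connected or commutative, then H is of multiplicative type. -/
theorem result {S : Scheme.{u}} (H' H H'' : Over S) [GrpObj H'] [GrpObj H] [GrpObj H'']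
    (hHa : IsAffineHom H.hom) (hHfl : Flat H.hom) (hHfp : LocallyOfFinitePresentation H.hom)
    (p : H ⟶ H'') [IsMonHom p] [Surjective p.left] [Flat p.left] [QuasiCompact p.left]
    (i : H' ⟶ H) [IsMonHom i] (hker : AlgGrp.IsKernel i p)
    (hH' : SGA3x.IsMultTypeFT H') (hH'' : SGA3x.IsMultTypeFT H'')
    (hfib : ∀ s : S, _root_.IsConnected (H.hom.base ⁻¹' {s}) ∨
      ∀ (X : Over (Spec (S.residueField s))) (a b : X ⟶ Red.bc (S.fromSpecResidueField s) H), a * b = b * a) :
    SGA3x.IsMultTypeFT H := by
  obtain ⟨hq, hp⟩ := Groth.Agent.RedPts82.isQuotient_of_kernel hker hH'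
  haveI := hp
  haveI := Groth.Agent.RedPts82.mono_of_isKernel_over hker
  refine Groth.Agent.RedPts82.isMultTypeFT_extension hq hH' hH'' fun {X} a b =>
    Groth.Agent.RedPts82.comm_of_extension hq hH' hH''
      (fun Y h e => Groth.Agent.RedPts82.central_of_normal i hH'
        (Groth.Agent.RedPts82.isNormalHom_of_isKernel_over hker) hfib h e)
      (fun s => (hfib s).imp_left fun hc => ?_) a b
  have himg : p.left.base '' (H.hom.base ⁻¹' {s}) = H''.hom.base ⁻¹' {s} := by
    ext y
    constructor
    · rintro ⟨x, hx, rfl⟩
      show H''.hom (p.left x) = s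
      rw [← Scheme.Hom.comp_apply, Over.w p]
      exact hx
    · intro hy
      obtain ⟨x, rfl⟩ := p.left.surjective y
      refine ⟨x, ?_, rfl⟩
      show H.hom x = s
      rw [← Over.w p, Scheme.Hom.comp_apply]
      exact hy
  exact himg ▸ hc.image _ p.left.continuous.continuousOn

end Groth.Agent.S16780
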