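import Groth.Statements.S16798
import Groth.Agent.LC97.Coord

set_option autoImplicit false
universe v u
open LogConn

namespace Groth.Agent.S16798

open TensorProduct in
/-- Let B be a commutative algebra over a commutative ring A, λ ∈ B, and t₁, …, tₙ ∈ B elements whose
differentials dt₁, …, dtₙ form a basis of the Kähler differentials Ω of B over A; let L be a
B-module free on ω₁, …, ωₙ with a B-linear ι : Ω → L sending dtᵢ to tᵢ ωᵢ (ωᵢ playing the role of
dlog tᵢ), and E a B-module with an A-linear ∇ : E → E ⊗ L obeying the λ-twisted Leibniz rule ∇(b e)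
= b ∇e + λ e ⊗ ι(db); write ∇ᵢ for the components of ∇ in the basis ω, ∇_J for their composite over
a finite index set J in increasing order, and E_I = Σ_{J ⊆ I} (∏_{i ∈ I∖J} tᵢ) · ∇_J(E) (an
A-submodule of E) for a finite index set I. Assume ∇ flat: for the logarithmic de Rham differential
d on the exterior powers of L (pinned on generators by d(b₀ · e₁ ∧ ⋯ ∧ e_p) = ι(db₀) ∧ e₁ ∧ ⋯ ∧ e_p,
factors eⱼ of the form ι(db) or ωᵢ) and the λ-twisted extension ∇^• of ∇ (∇^p(e ⊗ η) = ∇(e) ∧ η + e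
⊗ λ dη) one has ∇¹ ∘ ∇ = 0. Let u₁, …, uₙ be units of B such that the elements t'ᵢ = uᵢ tᵢ again
have differentials forming a basis of Ω, and such that the elements ω'ᵢ = ωᵢ + uᵢ⁻¹ ι(duᵢ) again
form a basis of L (a second admissible coordinate system with the same branches, ω'ᵢ playing the
role of dlog t'ᵢ). Then for every p the layer ⊕_{|K| = p} E_K ⊗ ω_K formed with the coordinates t,
the basis ω and the components of ∇ in ω coincides with the layer formed with t', ω' and the
components of ∇ in ω'. (The published statement also allows a permutation of the indices.) -/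
theorem result {A : Type v} {B L E : Type u} [CommRing A] [CommRing B]
    [Algebra A B] [AddCommGroup L] [Module B L] [Module A L] [IsScalarTower A B L]
    [AddCommGroup E] [Module B E] [Module A E] [IsScalarTower A B E]
    (lam : B) {n : ℕ} (t : Fin n → B) (bΩ : Module.Basis (Fin n) B (KaehlerDifferential A B))
    (hbΩ : ∀ i, bΩ i = KaehlerDifferential.D A B (t i))
    (ω : Module.Basis (Fin n) B L) (ι : KaehlerDifferential A B →ₗ[B] L)
    (hι : ∀ i, ι (KaehlerDifferential.D A B (t i)) = t i • ω i)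
    (nabla : E →ₗ[A] E ⊗[B] L)
    (hc : Conn.IsLamConn (ι.compDer (KaehlerDifferential.D A B)) lam nabla)
    (d : ∀ p : ℕ, ↥(⋀[B]^p L) →ₗ[A] ↥(⋀[B]^(p + 1) L))
    (hd : LogDiff.IsLogRule (KaehlerDifferential.D A B) ι (⇑ω) d)
    (nablas : ∀ p : ℕ, E ⊗[B] ↥(⋀[B]^p L) →ₗ[A] E ⊗[B] ↥(⋀[B]^(p + 1) L))
    (hint : Conn.IsIntegrable nabla (fun p => lam • d p) nablas)
    (u : Fin n → Bˣ) (bΩ' : Module.Basis (Fin n) B (KaehlerDifferential A B))
    (hbΩ' : ∀ i, bΩ' i = KaehlerDifferential.D A B ((u i : B) * t i))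
    (ω' : Module.Basis (Fin n) B L)
    (hω' : ∀ i, ω' i = ω i + ((u i)⁻¹ : Bˣ).val • ι (KaehlerDifferential.D A B (u i : B)))
    (p : ℕ) :
    LogConn.layer nabla ω t p = LogConn.layer nabla ω' (fun i => (u i : B) * t i) p := by
  have H : Groth.Agent.LC97.Data t bΩ ω nabla lam ι := ⟨hbΩ, hι, hc⟩
  have hu : ∀ i, (u i : B) * ((u i)⁻¹ : Bˣ).val = 1 := fun i => by rw [← Units.val_mul, mul_inv_cancel, Units.val_one]
  have hι' : ∀ i, ι (KaehlerDifferential.D A B ((u i : B) * t i)) = ((u i : B) * t i) • ω' i := by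
    intro i
    rw [Derivation.leibniz, map_add, map_smul, map_smul, hι, hω', smul_add, smul_smul, smul_smul]
    congr 1
    rw [mul_comm (u i : B) (t i), mul_assoc, hu i, mul_one]
  have H' : Groth.Agent.LC97.Data (fun i => (u i : B) * t i) bΩ' ω' nabla lam ι := ⟨hbΩ', hι', hc⟩
  have hd1 : ∀ i, d 1 (exteriorPower.ιMulti B 1 ![ω' i]) = 0 := by
    intro i
    have h1 := hd 1 1 ![ω i] (fun k => Or.inr ⟨i, by fin_cases k; rfl⟩)
    have h2 := hd 1 ((u i)⁻¹ : Bˣ).val ![ι (KaehlerDifferential.D A B (u i : B))]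
      (fun k => Or.inl ⟨(u i : B), by fin_cases k; rfl⟩)
    rw [one_smul, Derivation.map_one_eq_zero, map_zero] at h1
    rw [AlternatingMap.map_coord_zero (exteriorPower.ιMulti B (1 + 1) (M := L)) (m := Fin.cons 0 ![ω i]) 0
      (Fin.cons_zero _ _)] at h1
    have h3 : exteriorPower.ιMulti B 1 ![ω' i] = exteriorPower.ιMulti B 1 ![ω i] +
        ((u i)⁻¹ : Bˣ).val • exteriorPower.ιMulti B 1 ![ι (KaehlerDifferential.D A B (u i : B))] := by
      rw [← Groth.Agent.LC97.oneEquiv_symm, ← Groth.Agent.LC97.oneEquiv_symm, ← Groth.Agent.LC97.oneEquiv_symm, hω', map_add, map_smul]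
    rw [h3, map_add, h1, zero_add, h2]
    have h4 := congrArg (KaehlerDifferential.D A B) (hu i)
    rw [Derivation.leibniz, Derivation.map_one_eq_zero, add_eq_zero_iff_eq_neg] at h4
    have h5 : ι (KaehlerDifferential.D A B ((u i)⁻¹ : Bˣ).val) =
        -(((u i)⁻¹ : Bˣ).val * ((u i)⁻¹ : Bˣ).val) • ι (KaehlerDifferential.D A B (u i : B)) := by
      have h6 := congrArg (fun z => ((u i)⁻¹ : Bˣ).val • ι z) h4
      simp only [map_neg, map_smul, smul_neg, smul_smul] at h6
      rw [mul_comm _ (u i : B), hu i, one_smul] at h6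
      rw [h6, neg_smul]
    rw [h5]
    rw [show Fin.cons (-(((u i)⁻¹ : Bˣ).val * ((u i)⁻¹ : Bˣ).val) • ι (KaehlerDifferential.D A B (u i : B)))
        ![ι (KaehlerDifferential.D A B (u i : B))] =
      Function.update ![ι (KaehlerDifferential.D A B (u i : B)), ι (KaehlerDifferential.D A B (u i : B))] 0
        (-(((u i)⁻¹ : Bˣ).val * ((u i)⁻¹ : Bˣ).val) • ι (KaehlerDifferential.D A B (u i : B))) from
      funext fun k => by fin_cases k <;> simp]
    rw [AlternatingMap.map_update_smul, AlternatingMap.map_eq_zero_of_eq _ _ (i := 0) (j := 1) (by simp) (by simp),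
      smul_zero]
  have key : ∀ i l, ω.coord i (ι (KaehlerDifferential.D A B (u l : B))) =
      bΩ.repr (KaehlerDifferential.D A B (u l : B)) i * t i :=
    fun i l => Groth.Agent.LC97.coord_iota t ω bΩ ι (fun j => by rw [hbΩ, hι]) i _
  have key' : ∀ i l, ω'.coord i (ι (KaehlerDifferential.D A B (u l : B))) =
      bΩ'.repr (KaehlerDifferential.D A B (u l : B)) i * ((u i : B) * t i) :=
    fun i l => Groth.Agent.LC97.coord_iota (fun i => (u i : B) * t i) ω' bΩ' ι (fun j => by rw [hbΩ', hι']) i _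
  have hM : ∀ i l, ∃ r, ω.coord i (ω' l) = (if l = i then 1 else 0) + t i * r := fun i l =>
    ⟨((u l)⁻¹ : Bˣ).val * bΩ.repr (KaehlerDifferential.D A B (u l : B)) i, by
      rw [hω', map_add, map_smul, key, smul_eq_mul, Module.Basis.coord_apply, Module.Basis.repr_self,
        Finsupp.single_apply]; ring⟩
  have hM' : ∀ i l, ∃ r, ω'.coord i (ω l) = (if l = i then 1 else 0) + ((u i : B) * t i) * r := fun i l =>
    ⟨-(((u l)⁻¹ : Bˣ).val * bΩ'.repr (KaehlerDifferential.D A B (u l : B)) i), by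
      rw [show ω l = ω' l - ((u l)⁻¹ : Bˣ).val • ι (KaehlerDifferential.D A B (u l : B)) by rw [hω']; abel,
        map_sub, map_smul, key', smul_eq_mul, Module.Basis.coord_apply, Module.Basis.repr_self,
        Finsupp.single_apply]; ring⟩
  have hc1 := Groth.Agent.LC97.comp_comm (lam := lam) hd hint
  have hc2 := Groth.Agent.LC97.comp_comm_of (ω := ω') hd1 hint
  refine le_antisymm (Groth.Agent.LC97.layer_le H H' hc1 hc2 (fun i => ⟨((u i)⁻¹ : Bˣ).val, ?_⟩) hM hM' p)
    (Groth.Agent.LC97.layer_le H' H hc2 hc1 (fun i => ⟨(u i : B), rfl⟩) hM' hM p)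
  rw [← mul_assoc, mul_comm _ (u i : B), hu i, one_mul]

end Groth.Agent.S16798
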