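import Groth.Statements.S16826
import Groth.Agent.AlgSt88.QuotAlg

set_option autoImplicit false
universe u
open AlgSt

namespace Groth.Agent.S16826

open CategoryTheory AlgebraicGeometry in
/-- Let S be a scheme, G a group scheme over S whose structure morphism G → S is smooth and affine, and
X a scheme over S with an action of G. Then the quotient stack [X/G] over (Sch/S), whose objects
over T are the G-torsors P → T locally trivial for the etale topology together with an equivariant
morphism P → X, is an algebraic stack for the big etale topology, and the canonical functor (Sch/X)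
→ [X/G] (sending x : T → X to the trivial torsor with the orbit map of x) is representable by
algebraic spaces, smooth, surjective and affine. The source allows X to be an algebraic space; X is
a scheme here. -/
theorem result (S : Scheme.{u}) (G : Over S) [GrpObj G]
    (hGs : Smooth G.hom) (hGa : IsAffineHom G.hom) (X : Over S) (aX : AlgGrp.Action G X) :
    AlgSt.IsAlgStack Scheme.etalePrecoverage (AlgSt.QuotSt Scheme.etalePrecoverage G aX) ∧
      AlgSt.RepByAlgSpWith (AlgSp.LocP @Smooth)
        (BasedFunctor.comp (AlgSt.ofOverCat X) (AlgSt.quotMap Scheme.etalePrecoverage G aX)) ∧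
      AlgSt.RepByAlgSpWith AlgSp.IsSurjectiveMor
        (BasedFunctor.comp (AlgSt.ofOverCat X) (AlgSt.quotMap Scheme.etalePrecoverage G aX)) ∧
      AlgSt.RepByAlgSpWith AlgSp.IsAffineMor
        (BasedFunctor.comp (AlgSt.ofOverCat X) (AlgSt.quotMap Scheme.etalePrecoverage G aX)) := by
  haveI := hGs
  haveI := hGa
  exact ⟨Groth.Agent.AlgSt88.isAlgStack_quotSt_etale aX,
    Groth.Agent.AlgSt88.repByAlgSpWith_etale_quotMap aX
      (Groth.Agent.AlgSt88.repByAlgSpWith_locP_quotMap aX @Smooth (Groth.Agent.AlgSt88.smooth_π hGs)
        fun f hf => (Groth.Agent.SpFP87.locP_yon_map_iff f).2 hf),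
    Groth.Agent.AlgSt88.repByAlgSpWith_etale_quotMap aX (Groth.Agent.AlgSt88.repByAlgSpWith_surj_quotMap aX),
    Groth.Agent.AlgSt88.repByAlgSpWith_etale_quotMap aX (Groth.Agent.AlgSt88.repByAlgSpWith_affine_quotMap aX)⟩

end Groth.Agent.S16826
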