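import Groth.Statements.S16828
import Groth.Agent.AlgSt88.KerTrivial
import Groth.Agent.AlgSt88.UnrLqf
import Groth.Agent.SpFP87.NormZMT
import Groth.Agent.AlgSt88.SepRep

set_option autoImplicit false
universe u
open AlgSt

namespace Groth.Agent.S16828

open CategoryTheory AlgebraicGeometry in
/-- Let 𝒳 be a Deligne–Mumford stack over (Sch/S) for the etale topology whose diagonal 𝒳 → 𝒳
×_{(Sch/S)} 𝒳 is separated and quasi-compact (representable by algebraic spaces with these
properties). Then the diagonal is quasi-affine: representable by algebraic spaces with every base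
change to a scheme a quasi-affine morphism. The source states this for the absolute diagonal; the
diagonal over S is used here. -/
theorem result {S : Scheme.{u}} (𝒳 : AlgSt.Cat S)
    (h𝒳 : AlgSt.IsDM Scheme.etalePrecoverage 𝒳)
    (hsep : AlgSt.RepByAlgSpWith AlgSp.IsSeparatedMor (FibCat.diag (FibCat.toSelf 𝒳)))
    (hqc : AlgSt.RepByAlgSpWith AlgSp.IsQuasiCompactMor (FibCat.diag (FibCat.toSelf 𝒳))) :
    AlgSt.RepByAlgSpWith AlgSp.IsQuasiAffineMor (FibCat.diag (FibCat.toSelf 𝒳)) := by
  haveI := Groth.Agent.AlgSt88.respectsIso_qc (S := S)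
  haveI : (AlgSp.IsSeparatedMor (S := S)).RespectsIso := inferInstanceAs
    ((MorphismProperty.diagonal (AlgSp.RepWith (S := S) @IsClosedImmersion)).RespectsIso)
  haveI := Groth.Agent.AlgSt88.respectsIso_locP (S := S) (@LocallyOfFiniteType ⊓ @FormallyUnramified)
  intro U y
  have h1 := Groth.Agent.AlgSt88.RepOver.inf (hsep U y) (hqc U y)
  haveI : (AlgSp.IsSeparatedMor (S := S) ⊓ AlgSp.IsQuasiCompactMor).RespectsIso := inferInstance
  obtain ⟨F, e, he, hu, hs, hc⟩ := Groth.Agent.AlgSt88.RepOver.inf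
    ((Groth.Agent.AlgSt88.isDMOver_of_isDM h𝒳) U y) h1
  exact ⟨F, e, he, Groth.Agent.SpFP87.isQuasiAffineMor_of_lqf_separated F.property
    (AlgSp.IsAlgSpace.yon_obj U) (Groth.Agent.SpFP87.LocP.of_le Groth.Agent.AlgSt88.unr_le_lqf hu) hc hs⟩

end Groth.Agent.S16828
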