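import Groth.Statements.S16833
import Groth.Agent.SpPts86.LqfSep
import Groth.Agent.SpPts86.PieceChart
import Groth.Agent.SpPts86.EtaleMor
import Groth.Agent.SpPts86.QCMor
import Mathlib.AlgebraicGeometry.ZariskisMainTheorem

set_option autoImplicit false
universe u
open AlgSp

namespace Groth.Agent.S16833

open CategoryTheory AlgebraicGeometry in
/-- Let p : U → X and f : X → Y be morphisms of algebraic spaces over a scheme S with p etale and
surjective and f separated. If the composite U → Y is finite, then f is finite. -/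
theorem result {S : Scheme.{u}}
    {U X Y : AlgSp.Space S} (p : U ⟶ X) (f : X ⟶ Y)
    (hp : AlgSp.IsEtaleMor p.hom) (hps : AlgSp.IsSurjectiveMor p.hom)
    (hf : AlgSp.IsSeparatedMor f.hom) (h : AlgSp.IsFiniteMor (p ≫ f).hom) :
    AlgSp.IsFiniteMor f.hom := by
  refine fun Z hZ g => ?_
  obtain ⟨W, i, fst, sqW, hW, hi⟩ := h hZ g
  let sq := IsPullback.of_hasPullback f.hom g
  have hQ := Groth.Agent.SpFP87.isAlgSpace_of_isPullback sq X.property (AlgSp.IsAlgSpace.yon_obj Z) Y.property.diag
  let q := Limits.pullback.snd f.hom g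
  let k : (AlgSp.yon S).obj W ⟶ Limits.pullback f.hom g :=
    Limits.pullback.lift (fst ≫ p.hom) ((AlgSp.yon S).map i) (by rw [Category.assoc]; exact sqW.w)
  have sqk : IsPullback fst k p.hom (Limits.pullback.fst f.hom g) :=
    IsPullback.of_bot (by rw [Limits.pullback.lift_snd]; exact sqW) (by rw [Limits.pullback.lift_fst]) sq
  have hkr : AlgSp.RepWith @Etale k := Groth.Agent.SpPts86.repWith_etale_of_isEtaleMor hQ
    (hQ.representable_from_yon k) (Groth.Agent.SpPts86.isEtaleMor_baseChange sqk U.property X.property hQ hp)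
  have hks : AlgSp.RepWith @Surjective k := (Groth.Agent.SpPts86.repWith_surjective_iff hkr.rep).2
    (Groth.Agent.SpPts86.surjective_map_fst_of_isPullback sqk.flip hps)
  have hql : AlgSp.LocP ((@LocallyQuasiFinite : MorphismProperty Scheme.{u}) ⊓ @LocallyOfFiniteType) q :=
    Groth.Agent.SpFP87.locP_of_chart hQ.diag (AlgSp.IsAlgSpace.yon_obj Z).diag hkr hks
      (AlgSp.repWith_id @Etale Z) (by rw [Category.comp_id]; exact Limits.pullback.lift_snd _ _ _)
      ⟨inferInstance, inferInstance⟩
  have hqs : AlgSp.IsSeparatedMor q := Groth.Agent.SpPts86.isSeparatedMor_of_isPullback sq hf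
  obtain ⟨Z', ⟨e⟩⟩ := Groth.Agent.SpPts86.exists_iso_of_lqf_separated hQ hqs hql
  obtain ⟨i', hi'⟩ := (AlgSp.yon S).map_surjective (e.hom ≫ q)
  have sq' : IsPullback (e.hom ≫ Limits.pullback.fst f.hom g) ((AlgSp.yon S).map i') f.hom g :=
    IsPullback.of_iso sq e.symm (Iso.refl _) (Iso.refl _) (Iso.refl _) (by simp) (by simp [hi', q])
      (by simp) (by simp)
  obtain ⟨k', hk'⟩ := (AlgSp.yon S).map_surjective (k ≫ e.inv)
  have hki : k' ≫ i' = i := (AlgSp.yon S).map_injective (by
    rw [Functor.map_comp, hk', hi', Category.assoc, Iso.inv_hom_id_assoc]; exact Limits.pullback.lift_snd _ _ _)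
  haveI : Surjective k'.left := by
    refine (AlgSp.repWith_yon_map_iff (@Surjective : MorphismProperty Scheme.{u}) k').1 ?_
    rw [hk']
    exact (MorphismProperty.cancel_right_of_respectsIso (AlgSp.RepWith (S := S) @Surjective) k e.inv).2 hks
  have hki' : k'.left ≫ i'.left = i.left := by rw [← Over.comp_left, hki]
  haveI : IsSeparated i'.left := by
    refine (AlgSp.isSeparatedMor_yon_map_iff i').1 ?_
    exact Groth.Agent.SpPts86.isSeparatedMor_of_isPullback sq' hf
  have hql' : (LocallyQuasiFinite i'.left ∧ LocallyOfFiniteType i'.left) := by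
    refine (Groth.Agent.SpFP87.locP_yon_map_iff (P := (@LocallyQuasiFinite ⊓ @LocallyOfFiniteType)) i').1 ?_
    refine Groth.Agent.SpFP87.locP_of_chart (AlgSp.IsAlgSpace.yon_obj Z').diag (AlgSp.IsAlgSpace.yon_obj Z).diag
      (a := (AlgSp.yon S).map k') ?_ ?_ (AlgSp.repWith_id @Etale Z) (h := i)
      (by rw [Category.comp_id, ← Functor.map_comp, hki]) ⟨inferInstance, inferInstance⟩
    · rw [hk']
      exact (MorphismProperty.cancel_right_of_respectsIso (AlgSp.RepWith (S := S) @Etale) k e.inv).2 hkr
    · rw [hk']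
      exact (MorphismProperty.cancel_right_of_respectsIso (AlgSp.RepWith (S := S) @Surjective) k e.inv).2 hks
  haveI := hql'.1
  haveI := hql'.2
  haveI : UniversallyClosed (k'.left ≫ i'.left) := by rw [hki']; infer_instance
  haveI : UniversallyClosed i'.left := UniversallyClosed.of_comp_surjective k'.left i'.left
  haveI : IsProper i'.left := ⟨⟩
  haveI : IsFinite i'.left := IsFinite.of_isProper_of_locallyQuasiFinite i'.left
  exact ⟨Z', i', _, sq', isAffine_of_isAffineHom i'.left, inferInstance⟩

end Groth.Agent.S16833
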