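import Groth.Statements.S16836
import Mathlib

set_option autoImplicit false
universe u v
open scoped Classical
open AbVar

noncomputable section
namespace Groth.Agent.S16836.AuxS36
open Polynomial UniqueFactorizationMonoid
open scoped Classical
variable {F : Type*} [Field F]
noncomputable def rr (f g : F[X]) : ℕ :=
  ((normalizedFactors f).map fun P => (normalizedFactors g).count P * P.natDegree).sum

lemma rr_eq (f g : F[X]) : rr f g = ∑ P ∈ (normalizedFactors f).toFinset,
    (normalizedFactors f).count P * (normalizedFactors g).count P * P.natDegree := by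
  rw [rr, Finset.sum_multiset_map_count]
  exact Finset.sum_congr rfl fun P _ => by rw [smul_eq_mul, mul_assoc]

lemma rr_mul_left (f₁ f₂ g : F[X]) (h1 : f₁ ≠ 0) (h2 : f₂ ≠ 0) : rr (f₁ * f₂) g = rr f₁ g + rr f₂ g := by
  simp [rr, normalizedFactors_mul h1 h2]

lemma rr_mul_right (f g₁ g₂ : F[X]) (h1 : g₁ ≠ 0) (h2 : g₂ ≠ 0) : rr f (g₁ * g₂) = rr f g₁ + rr f g₂ := by
  simp [rr, normalizedFactors_mul h1 h2, Multiset.count_add, add_mul, Multiset.sum_map_add]

lemma rr_left_unit (u g : F[X]) (h : IsUnit u) : rr u g = 0 := by
  simp [rr, normalizedFactors_of_isUnit h]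

lemma rr_right_unit (u g : F[X]) (h : IsUnit u) : rr g u = 0 := by
  simp [rr, normalizedFactors_of_isUnit h]

theorem key {L : Type*} [Field L] [Algebra F L] [PerfectField F] {P Q : F[X]} (hP : Irreducible P) (hQ : Irreducible Q) :
    rr (P.map (algebraMap F L)) (Q.map (algebraMap F L)) = rr P Q := by
  set φ := algebraMap F L
  have hPQ0 : P.map φ ≠ 0 := Polynomial.map_ne_zero hP.ne_zero
  by_cases h : Associated P Q
  · have hsep : (P.map φ).Separable := (PerfectField.separable_of_irreducible hP).map
    have hassoc : Associated (P.map φ) (Q.map φ) := h.map (mapRingHom φ)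
    have hQn : normalizedFactors (Q.map φ) = normalizedFactors (P.map φ) := (hassoc.normalizedFactors_eq).symm
    have e1 : rr P Q = P.natDegree := by
      rw [rr, normalizedFactors_irreducible hP, normalizedFactors_irreducible hQ, Multiset.map_singleton, Multiset.sum_singleton,
        normalize_eq_normalize h.dvd h.symm.dvd, Multiset.count_singleton_self, one_mul]
      rw [natDegree_eq_of_degree_eq (degree_normalize), natDegree_eq_of_degree_eq (degree_eq_degree_of_associated h.symm)]
    have hnd : (normalizedFactors (P.map φ)).Nodup :=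
      (UniqueFactorizationMonoid.squarefree_iff_nodup_normalizedFactors hPQ0).1 hsep.squarefree
    rw [e1, rr, hQn, Multiset.map_congr rfl (g := natDegree) (fun R hR => by rw [Multiset.count_eq_one_of_mem hnd hR, one_mul])]
    rw [← natDegree_multiset_prod _ (zero_notMem_normalizedFactors _), natDegree_eq_of_degree_eq (degree_eq_degree_of_associated (prod_normalizedFactors hPQ0))]
    exact natDegree_map φ
  · have e1 : rr P Q = 0 := by
      rw [rr, normalizedFactors_irreducible hP, normalizedFactors_irreducible hQ, Multiset.map_singleton, Multiset.sum_singleton,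
        Multiset.count_eq_zero.2, zero_mul]
      simpa using fun he => h (normalize_eq_normalize_iff_associated.1 he) |>.elim
    have hco : IsCoprime (P.map φ) (Q.map φ) := ((hP.coprime_iff_not_dvd).2 fun hd => h (hP.associated_of_dvd hQ hd)).map (mapRingHom φ)
    rw [e1, rr]
    refine Multiset.sum_eq_zero fun x hx => ?_
    obtain ⟨R, hR, rfl⟩ := Multiset.mem_map.1 hx
    rw [Multiset.count_eq_zero.2, zero_mul]
    intro hR'
    exact (irreducible_of_normalized_factor R hR).not_isUnit (hco.isUnit_of_dvd' (dvd_of_mem_normalizedFactors hR) (dvd_of_mem_normalizedFactors hR'))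

theorem result {L : Type*} [Field L] [Algebra F L] [PerfectField F] (f₁ f₂ : F[X]) (h₁ : f₁ ≠ 0) (h₂ : f₂ ≠ 0) :
    rr (f₁.map (algebraMap F L)) (f₂.map (algebraMap F L)) = rr f₁ f₂ := by
  set φ := algebraMap F L
  have nz : ∀ {f : F[X]}, f ≠ 0 → f.map φ ≠ 0 := fun hf => Polynomial.map_ne_zero hf
  have step : ∀ P : F[X], Irreducible P → ∀ g : F[X], g ≠ 0 → rr (P.map φ) (g.map φ) = rr P g := by
    intro P hP g
    induction g using UniqueFactorizationMonoid.induction_on_prime with
    | h₁ => intro h; exact absurd rfl h
    | h₂ x hx => intro _; rw [rr_right_unit _ _ hx, rr_right_unit _ _ (show IsUnit (x.map φ) from hx.map (mapRingHom φ))]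
    | h₃ a p ha hp ih =>
      intro _
      rw [Polynomial.map_mul, rr_mul_right _ _ _ (nz hp.ne_zero) (nz ha), rr_mul_right _ _ _ hp.ne_zero ha, ih ha, key hP hp.irreducible]
  revert h₁
  induction f₁ using UniqueFactorizationMonoid.induction_on_prime with
  | h₁ => intro h; exact absurd rfl h
  | h₂ x hx => intro _; rw [rr_left_unit _ _ hx, rr_left_unit _ _ (show IsUnit (x.map φ) from hx.map (mapRingHom φ))]
  | h₃ a p ha hp ih =>
    intro _
    rw [Polynomial.map_mul, rr_mul_left _ _ _ (nz hp.ne_zero) (nz ha), rr_mul_left _ _ _ hp.ne_zero ha, ih ha, step p hp.irreducible f₂ h₂]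
end Groth.Agent.S16836.AuxS36

end

namespace Groth.Agent.S16836

open Polynomial UniqueFactorizationMonoid in
/-- Let K ⊆ L be a field extension and f₁, f₂ non-zero polynomials in K[t]. For a field F and
polynomials g₁, g₂ over F put r_F(g₁, g₂) = Σ_P mult_P(g₁) · mult_P(g₂) · deg P, the sum running
over the monic irreducible polynomials P in F[t] (mult_P the multiplicity of P as an irreducible
factor). Assume K is perfect. Then r_K(f₁, f₂) = r_L(f₁, f₂): the number does not depend on the
field over which the factorisations are taken. (Perfectness of K cannot be dropped: for K = F_p(s),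
L = K(s^{1/p}) and f₁ = f₂ = t^p − s the number is p over K and p² over L, since the irreducible t^p
− s becomes a p-th power over L; the published statement has no restriction on K, and its proof
requires the relevant K[t]-modules to remain semisimple after base change, which holds when every
irreducible factor stays squarefree over L, in particular for K perfect.) -/
theorem result (K : Type u) (L : Type v) [Field K] [PerfectField K] [Field L] [Algebra K L]
    (f₁ f₂ : K[X]) (h₁ : f₁ ≠ 0) (h₂ : f₂ ≠ 0) :
    ∑ P ∈ (normalizedFactors (f₁.map (algebraMap K L))).toFinset,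
        (normalizedFactors (f₁.map (algebraMap K L))).count P *
          (normalizedFactors (f₂.map (algebraMap K L))).count P * P.natDegree =
      ∑ P ∈ (normalizedFactors f₁).toFinset,
        (normalizedFactors f₁).count P * (normalizedFactors f₂).count P * P.natDegree := by
  have := AuxS36.result (L := L) f₁ f₂ h₁ h₂
  rw [AuxS36.rr_eq, AuxS36.rr_eq] at this
  exact this

end Groth.Agent.S16836
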