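import Groth.Statements.S16837
import Mathlib

set_option autoImplicit false
universe u v w
open scoped Classical
open AbVar

noncomputable section
namespace Groth.Agent.S16837.AuxS37
open Polynomial UniqueFactorizationMonoid
open scoped Classical
variable {K : Type u} [Field K]

/-- monic irreducible factors of the charpoly divide the minimal polynomial -/
theorem dvd_minpoly {V : Type v} [AddCommGroup V] [Module K V] [FiniteDimensional K V]
    (f : Module.End K V) {Q : K[X]} (hQ : Irreducible Q) (hd : Q ∣ f.charpoly) : Q ∣ minpoly K f := by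
  let L := AlgebraicClosure K
  obtain ⟨α, hα⟩ := IsAlgClosed.exists_aeval_eq_zero L Q (by
    exact (degree_pos_of_ne_zero_of_nonunit hQ.ne_zero hQ.not_isUnit).ne')
  let fL : Module.End L (TensorProduct K L V) := f.baseChange L
  have hr : fL.charpoly.IsRoot α := by
    rw [LinearMap.charpoly_baseChange, IsRoot.def, eval_map_algebraMap]
    obtain ⟨R, hR⟩ := hd
    rw [hR, map_mul, hα, zero_mul]
  obtain ⟨x, hx⟩ := ((Module.End.hasEigenvalue_iff_isRoot_charpoly fL α).2 hr).exists_hasEigenvector
  have h0 : aeval fL ((minpoly K f).map (algebraMap K L)) = 0 := by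
    rw [aeval_map_algebraMap]
    show aeval (Module.End.baseChangeHom K L V f) (minpoly K f) = 0
    rw [aeval_algHom_apply, minpoly.aeval, map_zero]
  have h1 := Module.End.aeval_apply_of_hasEigenvector (p := (minpoly K f).map (algebraMap K L)) hx
  rw [h0, LinearMap.zero_apply, eval_map_algebraMap] at h1
  have h2 : aeval α (minpoly K f) = 0 := (smul_eq_zero.1 h1.symm).resolve_right hx.2
  have h3 : Q ∣ minpoly K α := by
    obtain ⟨R, hR⟩ := minpoly.dvd K α hα
    rcases hQ.isUnit_or_isUnit hR with h | h
    · exact absurd h (minpoly.not_isUnit K α)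
    · exact ⟨h.unit⁻¹.1, by rw [hR, mul_assoc, IsUnit.mul_val_inv, mul_one]⟩
  exact h3.trans (minpoly.dvd K α h2)

section decomp
variable {V : Type v} [AddCommGroup V] [Module K V] (f : Module.End K V)
  {p q : Submodule K V} (hp : p ∈ f.invtSubmodule) (hq : q ∈ f.invtSubmodule) (hc : IsCompl p q)

theorem conj : (p.prodEquivOfIsCompl q hc).conj ((f.restrict hp).prodMap (f.restrict hq)) = f := by
  refine LinearMap.ext fun x => ?_
  obtain ⟨z, rfl⟩ := (p.prodEquivOfIsCompl q hc).surjective x
  rw [LinearEquiv.conj_apply_apply, LinearEquiv.symm_apply_apply]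
  simp

include hc in
theorem charpoly_mul [FiniteDimensional K V] :
    f.charpoly = (f.restrict hp).charpoly * (f.restrict hq).charpoly := by
  conv_lhs => rw [← conj f hp hq hc]
  rw [LinearEquiv.charpoly_conj, LinearMap.charpoly_prodMap]
end decomp

theorem aeval_restrict {V : Type v} [AddCommGroup V] [Module K V] (f : Module.End K V)
    {p : Submodule K V} (hp : p ∈ f.invtSubmodule) (P : K[X]) (x : p) :
    ((aeval (f.restrict hp) P x : p) : V) = aeval f P (x : V) := by
  induction P using Polynomial.induction_on' with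
  | add a b ha hb => simp [ha, hb]
  | monomial n a =>
    simp only [aeval_monomial, Module.End.mul_apply, Module.algebraMap_end_apply, Submodule.coe_smul]
    congr 1
    induction n with
    | zero => simp
    | succ n ih => simp [pow_succ', ih]

theorem invt_aeval_ker {V : Type v} [AddCommGroup V] [Module K V] (f : Module.End K V) (P : K[X]) :
    LinearMap.ker (aeval f P) ∈ f.invtSubmodule := by
  intro x hx
  simp only [Submodule.mem_comap, LinearMap.mem_ker] at *
  have : aeval f P (f x) = f (aeval f P x) := by
    rw [← Module.End.mul_apply, ← Module.End.mul_apply]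
    congr 1
    rw [show f * aeval f P = aeval f (X * P) by simp, show aeval f P * f = aeval f (P * X) by simp, mul_comm X P]
  rw [this, hx, map_zero]

/-- the kernel of `P(f)` for semisimple `f` has dimension multiplicity times degree -/
theorem finrank_ker {V : Type v} [AddCommGroup V] [Module K V] [FiniteDimensional K V]
    (f : Module.End K V) (hf : f.IsSemisimple) {P : K[X]} (hP : Irreducible P) (hm : P.Monic) :
    Module.finrank K (LinearMap.ker (aeval f P)) =
      (normalizedFactors f.charpoly).count P * P.natDegree := by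
  let p := LinearMap.ker (aeval f P)
  have hp : p ∈ f.invtSubmodule := invt_aeval_ker f P
  obtain ⟨q, hq, hc⟩ := Module.End.isSemisimple_iff.1 hf p hp
  let fp : Module.End K p := f.restrict hp
  let fq : Module.End K q := f.restrict hq
  have hfac := normalizedFactors_mul (LinearMap.charpoly_monic fp).ne_zero (LinearMap.charpoly_monic fq).ne_zero
  have hA : normalizedFactors fp.charpoly =
      Multiset.replicate (Multiset.card (normalizedFactors fp.charpoly)) P := by
    refine Multiset.eq_replicate_card.2 fun Q hQ => ?_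
    have h1 := dvd_minpoly _ (irreducible_of_normalized_factor Q hQ) (dvd_of_mem_normalizedFactors hQ)
    have h2 : minpoly K fp ∣ P := minpoly.dvd _ _ (LinearMap.ext fun x => Subtype.ext (by
      show ((aeval (f.restrict (p := p) (q := p) hp) P x : p) : V) = 0; rw [aeval_restrict]; exact x.2))
    have h3 := ((irreducible_of_normalized_factor Q hQ).associated_of_dvd hP (h1.trans h2))
    refine eq_of_monic_of_associated ?_ hm h3
    rw [← normalize_normalized_factor Q hQ]
    exact monic_normalize (irreducible_of_normalized_factor Q hQ).ne_zero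
  have hB : (normalizedFactors fq.charpoly).count P = 0 := by
    rw [Multiset.count_eq_zero]
    intro hmem
    obtain ⟨R, hR⟩ := dvd_minpoly _ hP (dvd_of_mem_normalizedFactors hmem)
    have h0 : minpoly K fq ≠ 0 := minpoly.ne_zero (LinearMap.isIntegral _)
    have hR0 : aeval fq R = 0 := by
      refine LinearMap.ext fun x => Subtype.ext ?_
      have hx : aeval fq P (aeval fq R x) = 0 := by
        rw [← Module.End.mul_apply, ← map_mul, ← hR, minpoly.aeval]; rfl
      have hmp : ((aeval fq R x : q) : V) ∈ p := by
        show aeval f P _ = 0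
        rw [← aeval_restrict f hq, hx]; rfl
      have := Submodule.disjoint_def.1 hc.disjoint _ hmp (Subtype.coe_prop _)
      simpa using this
    have hd := natDegree_le_of_dvd (minpoly.dvd K _ hR0) (by rintro rfl; rw [mul_zero] at hR; exact h0 hR)
    rw [hR, natDegree_mul hP.ne_zero (by rintro rfl; rw [mul_zero] at hR; exact h0 hR)] at hd
    have := hP.natDegree_pos
    omega
  have hdeg : Module.finrank K p = Multiset.card (normalizedFactors fp.charpoly) * P.natDegree := by
    rw [← LinearMap.charpoly_natDegree fp]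
    have hass := prod_normalizedFactors (LinearMap.charpoly_monic fp).ne_zero
    rw [← natDegree_eq_of_degree_eq (degree_eq_degree_of_associated hass)]
    conv_lhs => rw [hA, Multiset.prod_replicate, natDegree_pow]
  rw [charpoly_mul f hp hq hc]
  show _ = Multiset.count P (normalizedFactors (fp.charpoly * fq.charpoly)) * _
  rw [hfac, Multiset.count_add, hB, add_zero]
  conv_rhs => rw [hA, Multiset.count_replicate_self]
  exact hdeg

variable {V₂ : Type w} [AddCommGroup V₂] [Module K V₂]

abbrev I {V : Type v} [AddCommGroup V] [Module K V] (f : Module.End K V) (g : Module.End K V₂) :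
    Submodule K (V →ₗ[K] V₂) :=
  LinearMap.ker (LinearMap.lcomp K V₂ f - LinearMap.llcomp K V V₂ V₂ g :
    (V →ₗ[K] V₂) →ₗ[K] (V →ₗ[K] V₂))

theorem mem_I {V : Type v} [AddCommGroup V] [Module K V] {f : Module.End K V} {g : Module.End K V₂}
    {h : V →ₗ[K] V₂} : h ∈ I f g ↔ ∀ x, h (f x) = g (h x) := by
  simp only [LinearMap.mem_ker, LinearMap.sub_apply, sub_eq_zero, LinearMap.ext_iff]
  rfl

theorem I_aeval {V : Type v} [AddCommGroup V] [Module K V] {f : Module.End K V} {g : Module.End K V₂}
    {h : V →ₗ[K] V₂} (hh : h ∈ I f g) (P : K[X]) (x : V) : h (aeval f P x) = aeval g P (h x) := by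
  induction P using Polynomial.induction_on' generalizing x with
  | add a b ha hb => simp [ha, hb]
  | monomial n a =>
    simp only [aeval_monomial, Module.End.mul_apply, Module.algebraMap_end_apply, map_smul]
    congr 1
    induction n generalizing x with
    | zero => simp
    | succ n ih => simp [pow_succ, ih, mem_I.1 hh]

/-- split a complement -/
def splitI {V : Type v} [AddCommGroup V] [Module K V] (f : Module.End K V) (g : Module.End K V₂)
    {p q : Submodule K V} (hp : p ∈ f.invtSubmodule) (hq : q ∈ f.invtSubmodule) (hc : IsCompl p q) :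
    I f g ≃ₗ[K] I (f.restrict hp) g × I (f.restrict hq) g where
  toFun h := (⟨h.1.comp p.subtype, mem_I.2 fun x => mem_I.1 h.2 _⟩, ⟨h.1.comp q.subtype, mem_I.2 fun x => mem_I.1 h.2 _⟩)
  map_add' _ _ := rfl
  map_smul' _ _ := rfl
  invFun ab := ⟨(ab.1.1.coprod ab.2.1).comp (p.prodEquivOfIsCompl q hc).symm.toLinearMap, mem_I.2 fun x => by
    obtain ⟨z, rfl⟩ := (p.prodEquivOfIsCompl q hc).surjective x
    have : f (p.prodEquivOfIsCompl q hc z) = p.prodEquivOfIsCompl q hc (f.restrict hp z.1, f.restrict hq z.2) := by
      simp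
    rw [this]
    simp only [LinearMap.comp_apply, LinearEquiv.coe_coe, LinearEquiv.symm_apply_apply, LinearMap.coprod_apply, map_add, mem_I.1 ab.1.2, mem_I.1 ab.2.2]⟩
  left_inv h := by
    refine Subtype.ext (LinearMap.ext fun x => ?_)
    obtain ⟨z, rfl⟩ := (p.prodEquivOfIsCompl q hc).surjective x
    simp only [LinearMap.comp_apply, LinearEquiv.coe_coe, LinearEquiv.symm_apply_apply, LinearMap.coprod_apply]
    simp
  right_inv ab := by
    refine Prod.ext (Subtype.ext (LinearMap.ext fun x => ?_)) (Subtype.ext (LinearMap.ext fun x => ?_))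
    · simp [Submodule.prodEquivOfIsCompl_symm_apply_left]
    · simp [Submodule.prodEquivOfIsCompl_symm_apply_right]

theorem main [FiniteDimensional K V₂] (g : Module.End K V₂) (hg : g.IsSemisimple) (n : ℕ) :
    ∀ (V : Type v) [AddCommGroup V] [Module K V] [FiniteDimensional K V] (f : Module.End K V),
      f.IsSemisimple → Module.finrank K V = n →
    Module.finrank K (I f g) =
      ((normalizedFactors f.charpoly).map fun P =>
        (normalizedFactors g.charpoly).count P * P.natDegree).sum := by
  induction n using Nat.strong_induction_on with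
  | _ n IH =>
  intro V _ _ _ f hf hn
  by_cases h0 : n = 0
  · subst h0
    haveI : Subsingleton V := Module.finrank_zero_iff.1 hn
    have hc : f.charpoly = 1 := eq_one_of_monic_natDegree_zero (LinearMap.charpoly_monic f) (by rw [LinearMap.charpoly_natDegree, hn])
    rw [hc, normalizedFactors_one, Multiset.map_zero, Multiset.sum_zero]
    exact Module.finrank_zero_of_subsingleton
  have hne : normalizedFactors f.charpoly ≠ 0 := by
    intro he
    have hu := (normalizedFactors_eq_zero_iff (LinearMap.charpoly_monic f).ne_zero).1 he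
    have := natDegree_eq_zero_of_isUnit hu
    rw [LinearMap.charpoly_natDegree, hn] at this
    exact h0 this
  obtain ⟨P, hP⟩ := Multiset.exists_mem_of_ne_zero hne
  have hirr := irreducible_of_normalized_factor P hP
  have hmon : P.Monic := by
    rw [← normalize_normalized_factor P hP]; exact monic_normalize hirr.ne_zero
  have hker : LinearMap.ker (aeval f P) ≠ ⊥ := by
    intro hb
    have := finrank_ker f hf hirr hmon
    rw [hb, finrank_bot] at this
    rcases Nat.mul_eq_zero.1 this.symm with h | h
    · exact Multiset.count_eq_zero.1 h hP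
    · exact hirr.natDegree_pos.ne' h
  obtain ⟨v, hv, hv0⟩ := Submodule.exists_mem_ne_zero_of_ne_bot hker
  let φ : K[X] →ₗ[K] V := (LinearMap.applyₗ v).comp (aeval f).toLinearMap
  have hφ : ∀ R, φ R = aeval f R v := fun R => rfl
  let p := LinearMap.range φ
  have hp : p ∈ f.invtSubmodule := by
    rintro _ ⟨R, rfl⟩
    exact ⟨X * R, by simp [hφ]⟩
  have hkφ : LinearMap.ker φ = (Ideal.span {P}).restrictScalars K := by
    ext R
    rw [LinearMap.mem_ker, Submodule.restrictScalars_mem, Ideal.mem_span_singleton, hφ]
    constructor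
    · intro hR
      by_contra hnd
      obtain ⟨a, b, hab⟩ := (hirr.coprime_iff_not_dvd).2 hnd
      apply hv0
      have := congrArg (fun S => aeval f S v) hab
      simpa [hR, LinearMap.mem_ker.1 hv] using this.symm
    · rintro ⟨R, rfl⟩
      rw [mul_comm, map_mul, Module.End.mul_apply, LinearMap.mem_ker.1 hv, map_zero]
  have hdimp : Module.finrank K p = P.natDegree := by
    rw [← LinearEquiv.finrank_eq φ.quotKerEquivRange, LinearEquiv.finrank_eq (Submodule.quotEquivOfEq _ _ hkφ),
      LinearEquiv.finrank_eq (Submodule.Quotient.restrictScalarsEquiv K (Ideal.span {P}))]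
    exact finrank_quotient_span_eq_natDegree
  obtain ⟨q, hq, hc⟩ := Module.End.isSemisimple_iff.1 hf p hp
  have hdimq : Module.finrank K q < n := by
    have := Submodule.finrank_add_eq_of_isCompl hc
    have := hirr.natDegree_pos
    omega
  let fp : Module.End K p := f.restrict hp
  have hcp : fp.charpoly = P := by
    have h2 : aeval fp P = 0 := LinearMap.ext fun x => Subtype.ext (by
      show ((aeval fp P x : p) : V) = 0
      rw [aeval_restrict]
      obtain ⟨R, hR⟩ := x.2
      rw [← hR, hφ, ← Module.End.mul_apply, ← map_mul, mul_comm, map_mul, Module.End.mul_apply,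
        LinearMap.mem_ker.1 hv, map_zero])
    have hne' : normalizedFactors fp.charpoly ≠ 0 := by
      intro he
      have hu := (normalizedFactors_eq_zero_iff (LinearMap.charpoly_monic _).ne_zero).1 he
      have := natDegree_eq_zero_of_isUnit hu
      rw [LinearMap.charpoly_natDegree, hdimp] at this
      exact hirr.natDegree_pos.ne' this
    obtain ⟨Q, hQ⟩ := Multiset.exists_mem_of_ne_zero hne'
    have hQd := dvd_of_mem_normalizedFactors hQ
    have h1 := dvd_minpoly _ (irreducible_of_normalized_factor Q hQ) hQd
    have h3 := (irreducible_of_normalized_factor Q hQ).associated_of_dvd hirr (h1.trans (minpoly.dvd _ _ h2))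
    exact (eq_of_monic_of_dvd_of_natDegree_le hmon (LinearMap.charpoly_monic _) (h3.dvd_iff_dvd_left.1 hQd)
      (by rw [LinearMap.charpoly_natDegree, hdimp]))
  rw [charpoly_mul f hp hq hc, normalizedFactors_mul (LinearMap.charpoly_monic _).ne_zero (LinearMap.charpoly_monic _).ne_zero,
    hcp, normalizedFactors_irreducible hirr, hmon.normalize_eq_self, Multiset.map_add, Multiset.sum_add,
    Multiset.map_singleton, Multiset.sum_singleton, ← IH _ hdimq q (f.restrict hq) (hf.restrict hq) rfl,
    ← finrank_ker g hg hirr hmon, LinearEquiv.finrank_eq (splitI f g hp hq hc), Module.finrank_prod]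
  congr 1
  -- intertwiners out of the cyclic piece
  have hvp : v ∈ p := ⟨1, by simp [hφ]⟩
  let e : I (f.restrict hp) g →ₗ[K] LinearMap.ker (aeval g P) :=
    { toFun := fun h => ⟨h.1 ⟨v, hvp⟩, by
        rw [LinearMap.mem_ker, ← I_aeval h.2]
        convert map_zero h.1
        exact Subtype.ext (by rw [aeval_restrict]; exact hv)⟩
      map_add' := fun _ _ => rfl
      map_smul' := fun _ _ => rfl }
  have einj : Function.Injective e := by
    intro h h' hh
    refine Subtype.ext (LinearMap.ext fun x => ?_)
    obtain ⟨R, hR⟩ := x.2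
    have hx : x = aeval fp R ⟨v, hvp⟩ := Subtype.ext (by rw [aeval_restrict, ← hR]; rfl)
    have hh' : h.1 ⟨v, hvp⟩ = h'.1 ⟨v, hvp⟩ := congrArg Subtype.val hh
    rw [hx, I_aeval h.2, I_aeval h'.2, hh']
  have esurj : Function.Surjective e := by
    rintro ⟨y, hy⟩
    let ψ : K[X] →ₗ[K] V₂ := (LinearMap.applyₗ y).comp (aeval g).toLinearMap
    have hle : LinearMap.ker φ ≤ LinearMap.ker ψ := by
      rw [hkφ]; intro R hR
      obtain ⟨S, rfl⟩ := Ideal.mem_span_singleton.1 hR
      show aeval g (P * S) y = 0
      rw [mul_comm, map_mul, Module.End.mul_apply, LinearMap.mem_ker.1 hy, map_zero]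
    let h : p →ₗ[K] V₂ := ((LinearMap.ker φ).liftQ ψ hle).comp φ.quotKerEquivRange.symm.toLinearMap
    have hR : ∀ R : K[X], h ⟨φ R, LinearMap.mem_range_self φ R⟩ = aeval g R y := fun R => by
      show (LinearMap.ker φ).liftQ ψ hle (φ.quotKerEquivRange.symm ⟨φ R, _⟩) = _
      rw [LinearMap.quotKerEquivRange_symm_apply_image]
      rfl
    refine ⟨⟨h, mem_I.2 fun x => ?_⟩, Subtype.ext ?_⟩
    · obtain ⟨x, R, rfl⟩ := x
      have : fp ⟨φ R, LinearMap.mem_range_self φ R⟩ = ⟨φ (X * R), LinearMap.mem_range_self φ _⟩ :=
        Subtype.ext (by simp [fp, hφ])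
      rw [this, hR, hR, map_mul, aeval_X]; rfl
    · show h ⟨v, hvp⟩ = y
      have : (⟨v, hvp⟩ : p) = ⟨φ 1, LinearMap.mem_range_self φ 1⟩ := Subtype.ext (by simp [hφ])
      rw [this, hR, map_one]; rfl
  exact (LinearEquiv.ofBijective e ⟨einj, esurj⟩).finrank_eq

theorem result {V₁ : Type v} [AddCommGroup V₁] [Module K V₁] [FiniteDimensional K V₁]
    [FiniteDimensional K V₂]
    (π₁ : Module.End K V₁) (π₂ : Module.End K V₂) (h₁ : π₁.IsSemisimple) (h₂ : π₂.IsSemisimple) :
    Module.finrank K (LinearMap.ker (LinearMap.lcomp K V₂ π₁ - LinearMap.llcomp K V₁ V₂ V₂ π₂ :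
        (V₁ →ₗ[K] V₂) →ₗ[K] (V₁ →ₗ[K] V₂))) =
      ∑ P ∈ (normalizedFactors π₁.charpoly).toFinset,
        (normalizedFactors π₁.charpoly).count P * (normalizedFactors π₂.charpoly).count P * P.natDegree := by
  refine (main π₂ h₂ _ V₁ π₁ h₁ rfl).trans ?_
  rw [Finset.sum_multiset_map_count]
  exact Finset.sum_congr rfl fun P _ => by rw [smul_eq_mul, mul_assoc]

end Groth.Agent.S16837.AuxS37

end

namespace Groth.Agent.S16837

open UniqueFactorizationMonoid in
/-- Let K be any field, V₁ and V₂ finite-dimensional K-vector spaces and π₁, π₂ semisimple endomorphisms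
of V₁, V₂ with characteristic polynomials f₁, f₂. Make V_i a K[t]-module by letting t act as π_i.
Then the space Hom_{K[t]}(V₁, V₂) of K-linear maps h with π₂ ∘ h = h ∘ π₁ has K-dimension r(f₁, f₂)
= Σ_P mult_P(f₁) · mult_P(f₂) · deg P, the sum over the monic irreducible polynomials P in K[t]. (No
restriction on the characteristic of K.) -/
theorem result (K : Type u) [Field K]
    (V₁ : Type v) (V₂ : Type w) [AddCommGroup V₁] [Module K V₁] [FiniteDimensional K V₁]
    [AddCommGroup V₂] [Module K V₂] [FiniteDimensional K V₂]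
    (π₁ : Module.End K V₁) (π₂ : Module.End K V₂) (h₁ : π₁.IsSemisimple) (h₂ : π₂.IsSemisimple) :
    Module.finrank K (LinearMap.ker (LinearMap.lcomp K V₂ π₁ - LinearMap.llcomp K V₁ V₂ V₂ π₂ :
        (V₁ →ₗ[K] V₂) →ₗ[K] (V₁ →ₗ[K] V₂))) =
      ∑ P ∈ (normalizedFactors π₁.charpoly).toFinset,
        (normalizedFactors π₁.charpoly).count P * (normalizedFactors π₂.charpoly).count P * P.natDegree := by
  exact AuxS37.result π₁ π₂ h₁ h₂

end Groth.Agent.S16837
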