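import Groth.Statements.S16854
import Groth.Agent.CAlg8.SemilinearLang
import Mathlib

set_option autoImplicit false
universe u v
open CAlg

namespace Groth.Agent.S16854

/-- Let k be an algebraically closed field of characteristic p > 0, ν ≥ 1, W = W(k) the ring of
p-typical Witt vectors with its Frobenius endomorphism σ, M a finitely generated free W-module and F
: M → M a bijective additive map that is σ^ν-semilinear, F(a·m) = σ^ν(a)·F(m). Then M admits a
W-basis consisting of F-fixed elements; in particular M is spanned over W by M₀ = {m | F(m) = m}, a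
module over the Witt vectors of F_{p^ν}. (The copy allows ν < 0 as well, reducing to F⁻¹; stated
here for ν ≥ 1.) -/
theorem result (k : Type u) [Field k] [IsAlgClosed k]
    (p : ℕ) [Fact p.Prime] [CharP k p] (ν : ℕ) (hν : 1 ≤ ν)
    (M : Type v) [AddCommGroup M] [Module (WittVector p k) M]
    [Module.Finite (WittVector p k) M] [Module.Free (WittVector p k) M]
    (F : M →+ M)
    (hF : ∀ (a : WittVector p k) (m : M), F (a • m) = ((⇑(WittVector.frobenius : WittVector p k →+* WittVector p k))^[ν] a) • F m)
    (hbij : Function.Bijective F) :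
    ∃ (ι : Type v) (b : Module.Basis ι (WittVector p k) M), ∀ i, F (b i) = b i := by
  classical
  let ι := Module.Free.ChooseBasisIndex (WittVector p k) M
  let b := Module.Free.chooseBasis (WittVector p k) M
  have : Fintype ι := Fintype.ofFinite _
  let π : (ι → WittVector p k) → (ι → k) := fun x i => (x i).coeff 0
  let T : (ι → WittVector p k) →+ (ι → WittVector p k) :=
    (b.equivFun.toAddEquiv.toAddMonoidHom.comp F).comp b.equivFun.symm.toAddEquiv.toAddMonoidHom
  have hTs : ∀ a x, T (a • x) = ((⇑(WittVector.frobenius : WittVector p k →+* WittVector p k))^[ν] a) • T x := by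
    intro a x
    show b.equivFun (F (b.equivFun.symm (a • x))) = _ • b.equivFun (F (b.equivFun.symm x))
    rw [map_smul, hF, map_smul]
  have hcoeff : ∀ a : WittVector p k, ((⇑(WittVector.frobenius : WittVector p k →+* WittVector p k))^[ν] a).coeff 0 = a.coeff 0 ^ p ^ ν := fun a => by
    rw [WittVector.iterate_frobenius_coeff]
  have hTp : ∀ (x : ι → WittVector p k), T ((p : WittVector p k) • x) = (p : WittVector p k) • T x := fun x => by
    rw [hTs]; simp [Function.iterate_fixed]
  have hker : ∀ x, π x = 0 → ∃ y, x = (p : WittVector p k) • y := by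
    intro x hx
    have : ∀ i, ∃ c, x i = (p : WittVector p k) * c := fun i =>
      Ideal.mem_span_singleton.mp ((WittVector.mem_span_p_iff_coeff_zero_eq_zero (x i)).mpr (congrFun hx i))
    choose y hy using this
    exact ⟨y, funext hy⟩
  have hπp : ∀ y, π ((p : WittVector p k) • y) = 0 := fun y => funext fun i =>
    (WittVector.mem_span_p_iff_coeff_zero_eq_zero _).mp (Ideal.mem_span_singleton.mpr ⟨y i, rfl⟩)
  have hπadd : ∀ x y, π (x + y) = π x + π y := fun x y => funext fun i => WittVector.add_coeff_zero (x i) (y i)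
  have hπsub : ∀ x y, π (x - y) = π x - π y := fun x y => funext fun i =>
    map_sub (WittVector.constantCoeff (p := p) (R := k)) (x i) (y i)
  have hπsurj : Function.Surjective π := fun y => ⟨fun i => WittVector.teichmuller p (y i), funext fun i => WittVector.teichmuller_coeff_zero _ _⟩
  have hwd : ∀ x x', π x = π x' → π (T x) = π (T x') := by
    intro x x' h
    obtain ⟨y, hy⟩ := hker (x - x') (by rw [hπsub, h, sub_self])
    rw [← sub_eq_zero, ← hπsub, ← map_sub, hy, hTp, hπp]
  let lift := Function.surjInv hπsurj
  have hlift : ∀ x, π (lift x) = x := Function.surjInv_eq hπsurj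
  let φ : (ι → k) →ₛₗ[iterateFrobenius k p ν] (ι → k) :=
    { toFun := fun x => π (T (lift x))
      map_add' := fun x y => by
        rw [← hπadd, ← map_add]; apply hwd; rw [hlift, hπadd, hlift, hlift]
      map_smul' := fun c x => by
        have : π (T (lift (c • x))) = π (T (WittVector.teichmuller p c • lift x)) := by
          apply hwd; rw [hlift]; ext i
          show _ = (WittVector.teichmuller p c * lift x i).coeff 0
          rw [WittVector.mul_coeff_zero, WittVector.teichmuller_coeff_zero]
          exact (congrArg (c * ·) (congrFun (hlift x) i)).symm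
        rw [this, hTs]
        ext i
        show (_ * T (lift x) i).coeff 0 = _
        rw [WittVector.mul_coeff_zero, hcoeff, WittVector.teichmuller_coeff_zero, iterateFrobenius_def]
        rfl }
  have hφπ : ∀ x, φ (π x) = π (T x) := fun x => hwd _ _ (hlift _)
  have hTsurj : Function.Surjective T := fun y => by
    obtain ⟨m, hm⟩ := hbij.2 (b.equivFun.symm y)
    exact ⟨b.equivFun m, by show b.equivFun (F (b.equivFun.symm (b.equivFun m))) = y; rw [LinearEquiv.symm_apply_apply, hm, LinearEquiv.apply_symm_apply]⟩
  have hφs : Function.Surjective φ := fun y => by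
    obtain ⟨Y, rfl⟩ := hπsurj y
    obtain ⟨X, rfl⟩ := hTsurj Y
    exact ⟨π X, hφπ X⟩
  have hq : 0 < p ^ ν := pow_pos (Fact.out : p.Prime).pos ν
  have hφ : Function.Bijective φ := by
    refine ⟨?_, hφs⟩
    let H : (ι → k) →ₗ[k] (ι → k) := Fintype.linearCombination k (fun j => φ (Pi.single j 1))
    have hH : ∀ x, φ x = H (fun j => x j ^ p ^ ν) := by
      intro x
      conv_lhs => rw [pi_eq_sum_univ' x]
      simp only [map_sum, φ.map_smulₛₗ, iterateFrobenius_def, H, Fintype.linearCombination_apply]
    have hHs : Function.Surjective H := fun y => by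
      obtain ⟨x, rfl⟩ := hφs y; exact ⟨_, (hH x).symm⟩
    intro x y h
    rw [hH, hH] at h
    have := congrFun (LinearMap.injective_iff_surjective.mpr hHs h)
    exact funext fun j => iterateFrobenius_inj k p ν (by simpa [iterateFrobenius_def] using this j)
  have hsolve : ∀ y, ∃ x, T x - x = y := by
    intro y
    have hs1 : ∀ z, ∃ a r, T a - a + (p : WittVector p k) • r = z := by
      intro z
      obtain ⟨a, ha⟩ := Groth.Agent.CAlg8.SemilinearLang.surjective_sub_id k p ν hν _ φ hφ (π z)
      obtain ⟨A, rfl⟩ := hπsurj a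
      obtain ⟨r, hr⟩ := hker (z - (T A - A)) (by rw [hπsub, hπsub, ← hφπ]; exact sub_eq_zero.mpr ha.symm)
      exact ⟨A, r, by rw [← hr, add_sub_cancel]⟩
    choose af rf hf using hs1
    let r : ℕ → (ι → WittVector p k) := fun n => rf^[n] y
    let s : ℕ → (ι → WittVector p k) := fun n => ∑ i ∈ Finset.range n, ((p : WittVector p k) ^ i) • af (r i)
    have hTpow : ∀ n x, T (((p : WittVector p k) ^ n) • x) = ((p : WittVector p k) ^ n) • T x := fun n x => by
      rw [hTs]; simp [Function.iterate_fixed]
    have hinv : ∀ n, T (s n) - s n + ((p : WittVector p k) ^ n) • r n = y := by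
      intro n
      induction n with
      | zero => simp [s, r]
      | succ n ih =>
        have hr : r (n + 1) = rf (r n) := Function.iterate_succ_apply' rf n y
        calc _ = T (s n) - s n + ((p : WittVector p k) ^ n) • (T (af (r n)) - af (r n) + (p : WittVector p k) • rf (r n)) := by
              simp only [s, Finset.sum_range_succ, map_add, hTpow, hr]
              rw [pow_succ, mul_smul, smul_add, smul_sub]; abel
          _ = y := by rw [hf, ih]
    have hc : ∀ {m n}, m ≤ n → ∃ z, s n - s m = ((p : WittVector p k) ^ m) • z := by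
      intro m n hmn
      refine ⟨∑ i ∈ Finset.Ico m n, ((p : WittVector p k) ^ (i - m)) • af (r i), ?_⟩
      simp only [s]
      rw [← Finset.sum_Ico_eq_sub _ hmn, Finset.smul_sum]
      refine Finset.sum_congr rfl fun i hi => ?_
      rw [smul_smul, ← pow_add, Nat.add_sub_cancel' (Finset.mem_Ico.mp hi).1]
    have hlim : ∀ i, ∃ l, ∀ n, s n i ≡ l [SMOD (Ideal.span {(p : WittVector p k)} ^ n • ⊤ : Ideal (WittVector p k))] := by
      intro i
      refine IsPrecomplete.prec' (I := Ideal.span {(p : WittVector p k)}) (fun n => s n i) fun {m n} hmn => ?_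
      obtain ⟨z, hz⟩ := hc hmn
      rw [SModEq.sub_mem, smul_eq_mul, Ideal.mul_top, Ideal.span_singleton_pow, ← neg_sub, neg_mem_iff, ← Pi.sub_apply, hz]
      exact Ideal.mem_span_singleton.mpr ⟨z i, rfl⟩
    choose l hl using hlim
    refine ⟨l, funext fun i => sub_eq_zero.mp <| IsHausdorff.haus' (I := Ideal.span {(p : WittVector p k)}) _ fun n => ?_⟩
    have : ∀ j, ∃ z, l j = s n j + (p : WittVector p k) ^ n * z := fun j => by
      have := hl j n
      rw [SModEq.sub_mem, smul_eq_mul, Ideal.mul_top, Ideal.span_singleton_pow, ← neg_sub, neg_mem_iff, Ideal.mem_span_singleton] at this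
      obtain ⟨z, hz⟩ := this
      exact ⟨z, by rw [← hz, add_sub_cancel]⟩
    choose z hz using this
    have hl' : l = s n + ((p : WittVector p k) ^ n) • z := funext hz
    rw [SModEq.zero, smul_eq_mul, Ideal.mul_top, Ideal.span_singleton_pow, Ideal.mem_span_singleton]
    refine ⟨(T z - z) i - r n i, ?_⟩
    rw [hl', map_add, hTpow, ← hinv n]
    simp; ring
  have hspan := Groth.Agent.CAlg8.SemilinearLang.span_fixed_eq_top k p ν hν _ (ι → k) φ hφ rfl
  let c₀ := Module.Basis.ofSpan hspan.ge
  let c : Module.Basis ι k (ι → k) := c₀.reindex (c₀.indexEquiv (Pi.basisFun k ι))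
  have hc : ∀ j, φ (c j) = c j := fun j => by
    rw [Module.Basis.reindex_apply]
    exact Module.Basis.ofSpan_subset (K := k) hspan.ge ⟨_, rfl⟩
  have hfix : ∀ j, ∃ X, T X = X ∧ π X = c j := by
    intro j
    obtain ⟨X, hX⟩ := hπsurj (c j)
    obtain ⟨z, hz⟩ := hker (T X - X) (by rw [hπsub, ← hφπ, hX, hc, sub_self])
    obtain ⟨w, hw⟩ := hsolve (-z)
    refine ⟨X + (p : WittVector p k) • w, ?_, by rw [hπadd, hπp, add_zero, hX]⟩
    rw [← sub_eq_zero, map_add, hTp, add_sub_add_comm, hz, ← smul_sub, hw, smul_neg, add_neg_cancel]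
  choose X hXT hXπ using hfix
  let Mx : Matrix ι ι (WittVector p k) := Matrix.of fun i j => X j i
  have hu : IsUnit Mx := by
    rw [Matrix.isUnit_iff_isUnit_det]
    apply WittVector.isUnit_of_coeff_zero_ne_zero
    show WittVector.constantCoeff Mx.det ≠ 0
    rw [RingHom.map_det, show (WittVector.constantCoeff.mapMatrix Mx) = (Pi.basisFun k ι).toMatrix c from ?_]
    · exact ((Matrix.isUnit_iff_isUnit_det _).mp (@isUnit_of_invertible _ _ _ ((Pi.basisFun k ι).invertibleToMatrix c))).ne_zero
    · ext i j
      exact congrFun (hXπ j) i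
  let e : (ι → WittVector p k) ≃ₗ[WittVector p k] (ι → WittVector p k) :=
    LinearEquiv.ofBijective Mx.mulVecLin ⟨Matrix.mulVec_injective_of_isUnit hu, Matrix.mulVec_surjective_iff_isUnit.mpr hu⟩
  refine ⟨ι, (Pi.basisFun _ ι).map (e.trans b.equivFun.symm), fun j => ?_⟩
  have he : e (Pi.basisFun _ ι j) = X j := by
    show Mx.mulVecLin (Pi.basisFun _ ι j) = X j
    rw [Pi.basisFun_apply, Matrix.mulVecLin_apply, Matrix.mulVec_single_one]; rfl
  rw [Module.Basis.map_apply, LinearEquiv.trans_apply, he]
  apply b.equivFun.injective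
  rw [LinearEquiv.apply_symm_apply]
  exact hXT j

end Groth.Agent.S16854
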