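import Groth.Statements.S16914
import Groth.Agent.AutAC44.Trivial
import Groth.Agent.AlgSt88.Setoid
import Groth.Agent.AlgSt88.RepCrit

set_option backward.isDefEq.respectTransparency false
set_option backward.isDefEq.respectTransparency.types false

set_option autoImplicit false
universe u
open CategoryTheory CategoryTheory.Limits AlgebraicGeometry
open ResProp

namespace Groth.Agent.S16914

/-- Let `𝒳` be an algebraic stack over `S` (fppf topology) whose diagonal is representable by algebraic
spaces, separated and quasi-compact. Then `𝒳` is representable by an algebraic space over `S` if and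
only if its stabilizer groups vanish at all geometric points: whenever `x` is an object of `𝒳` whose
scheme is the spectrum of an algebraically closed field, `ξ` an object with a morphism to `x` (a
pullback of `x` to some scheme) and `σ` an endomorphism of `ξ` lying over the identity, `σ` is the
identity. -/
theorem result (S : Scheme.{u}) (𝒳 : AlgSt.Cat S)
    (h𝒳 : AlgSt.IsAlgStack Scheme.fppfPrecoverage 𝒳)
    (hΔ : AlgSt.RepByAlgSpWith (AlgSp.IsSeparatedMor ⊓ AlgSp.IsQuasiCompactMor) (FibCat.diag (FibCat.toSelf 𝒳))) :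
    AlgSt.RepByAlgSp 𝒳 ↔
      ∀ (k : Type u) [Field k] [IsAlgClosed k] (x : 𝒳.obj) (e : (𝒳.p.obj x).left ≅ Spec (CommRingCat.of k))
        (ξ : 𝒳.obj) (φ : ξ ⟶ x) (σ : ξ ⟶ ξ), 𝒳.p.map σ = 𝟙 (𝒳.p.obj ξ) → σ = 𝟙 ξ := by
  constructor
  · intro h k _ _ x e ξ φ σ hσ
    exact AlgSt88.hom_ext_of_repByAlgSp h (by rw [hσ, CategoryTheory.Functor.map_id])
  · intro h
    have htriv : AutAC44.GeomAutTrivial 𝒳 := fun K _ _ sk x T a ha =>
      h K (x.obj (Over.mk (𝟙 (Over.mk sk))))
        (eqToIso (congrArg (fun Z : Over S => Z.left) (x.w_obj (Over.mk (𝟙 (Over.mk sk))))))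
        (x.obj T) (x.map (Over.homMk T.hom (by simp))) a ha
    refine AlgSt88.repByAlgSp_of_setoid_chart h𝒳.isStack (fun {x y} f g hfg => ?_) h𝒳.atlas
    obtain ⟨χ, h1, h2⟩ := AlgSt88.fg_exists_fac h𝒳.isStack.1 g f (𝟙 _) ((Category.id_comp _).trans hfg.symm)
    rw [← h2, AutAC44.aut_eq_id_of_geomPt h𝒳.isStack.1 (AlgSt88.lft_diag_toSelf h𝒳) htriv x χ h1, Category.id_comp]

end Groth.Agent.S16914
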