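import Groth.Statements.S16917
import Groth.Agent.Var76.Uncountable
import Groth.Agent.Var76.FibreBound
import Groth.Agent.SchBasics.Reduced

set_option autoImplicit false
open CategoryTheory AlgebraicGeometry
universe u
open Variety

namespace Groth.Agent.S16917


open TopologicalSpace Topology Groth.Agent.Var76
open Groth.Agent.WC97 (tdegN)

theorem exists_le_of_closedPoints_subset (k : Type u) [Field k] [Uncountable k] {X : Scheme.{u}}
    (sX : X ⟶ Spec (CommRingCat.of k)) [LocallyOfFiniteType sX] (T : Closeds X)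
    (hT : IsIrreducible (T : Set X)) (S : Set (Closeds X)) (hS : S.Countable)
    (h : ∀ x ∈ T, IsClosed ({x} : Set X) → ∃ T' ∈ S, x ∈ T') : ∃ T' ∈ S, T ≤ T' := by
  classical
  by_contra hne
  push Not at hne
  let ι := (Scheme.IdealSheafData.vanishingIdeal T).subschemeι
  have hr : Set.range ι = T := Groth.Agent.SchBasics.range_vanishingIdeal_subschemeι T
  have : IrreducibleSpace (Scheme.IdealSheafData.vanishingIdeal T).subscheme := by
    refine (irreducibleSpace_def _).2 (show IsIrreducible (Set.univ : Set (Scheme.IdealSheafData.vanishingIdeal T).subscheme) from ?_)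
    have he : IsEmbedding ι := ι.isClosedEmbedding.isEmbedding
    refine ⟨?_, fun U V hU hV hUne hVne => ?_⟩
    · obtain ⟨x, hx⟩ := hT.1
      obtain ⟨p, -⟩ : x ∈ Set.range ι := hr ▸ hx
      exact ⟨p, trivial⟩
    obtain ⟨U', hU', rfl⟩ := he.isInducing.isOpen_iff.1 hU
    obtain ⟨V', hV', rfl⟩ := he.isInducing.isOpen_iff.1 hV
    obtain ⟨a, -, ha⟩ := hUne
    obtain ⟨b, -, hb⟩ := hVne
    obtain ⟨z, hz, hz1, hz2⟩ := hT.2 U' V' hU' hV' ⟨ι a, hr ▸ ⟨a, rfl⟩, ha⟩ ⟨ι b, hr ▸ ⟨b, rfl⟩, hb⟩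
    obtain ⟨c, rfl⟩ : z ∈ Set.range ι := hr ▸ hz
    exact ⟨c, trivial, hz1, hz2⟩
  rcases S.eq_empty_or_nonempty with rfl | hSne
  · obtain ⟨x, hx, -⟩ := Uncountable.exists_closedPoint k (ι ≫ sX) (fun _ => ⊥) (fun _ h' => by
      obtain ⟨t, ht⟩ := hT.1
      obtain ⟨p, rfl⟩ : t ∈ Set.range ι := hr ▸ ht
      exact (h'.ge (Set.mem_univ p) : p ∈ (∅ : Set _)))
    have hc : IsClosed ({ι x} : Set X) := by
      simpa using ι.isClosedEmbedding.isClosedMap _ hx
    obtain ⟨T', hT', -⟩ := h (ι x) (show ι x ∈ (T : Set X) from hr ▸ ⟨x, rfl⟩) hc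
    exact hT'
  obtain ⟨g, hg⟩ := hS.exists_eq_range hSne
  obtain ⟨x, hx, hxg⟩ := Uncountable.exists_closedPoint k (ι ≫ sX)
    (fun n => (g n).preimage ι.continuous) (fun n h' => hne (g n) (hg ▸ ⟨n, rfl⟩) (fun t ht => by
      obtain ⟨p, rfl⟩ : t ∈ Set.range ι := hr ▸ ht
      exact h'.ge (Set.mem_univ p)))
  have hc : IsClosed ({ι x} : Set X) := by
    simpa using ι.isClosedEmbedding.isClosedMap _ hx
  obtain ⟨T', hT', hxT'⟩ := h (ι x) (show ι x ∈ (T : Set X) from hr ▸ ⟨x, rfl⟩) hc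
  obtain ⟨n, rfl⟩ : T' ∈ Set.range g := hg ▸ hT'
  exact hxg n hxT'

/-- Let k be an uncountable algebraically closed field, X a k-scheme of finite type and Z₀, Z₁, …
countably many closed subsets of X. Then the countable union of the Zₙ, read through closed points,
has a unique irredundant decomposition: there is exactly one countable family S of irreducible
closed subsets of X, pairwise not contained in one another, such that a closed point of X lies in
some member of S if and only if it lies in some Zₙ. (The published statement is the existence and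
uniqueness of the irredundant decomposition of a countable union of algebraic varieties into
c-components, a variety being read through its closed points; with all points of the scheme the
uniqueness would not need the uncountable field.) -/
theorem result (k : Type u) [Field k] [IsAlgClosed k]
    [Uncountable k] (X : Scheme.{u}) (sX : X ⟶ Spec (CommRingCat.of k)) [LocallyOfFiniteType sX]
    [QuasiCompact sX] (Z : ℕ → TopologicalSpace.Closeds X) :
    ∃! S : Set (TopologicalSpace.Closeds X), S.Countable ∧ (∀ T ∈ S, IsIrreducible (T : Set X)) ∧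
      IsAntichain (· ≤ ·) S ∧
      {x : X | IsClosed ({x} : Set X) ∧ ∃ T ∈ S, x ∈ T} =
        {x : X | IsClosed ({x} : Set X) ∧ ∃ n, x ∈ Z n} := by
  classical
  have : NoetherianSpace X := FibreBound.noetherianSpace sX
  choose P hPfin hPirr hPeq using fun n => NoetherianSpace.exists_finite_set_closeds_irreducible (Z n)
  let I : Set (TopologicalSpace.Closeds X) := ⋃ n, P n
  have hI : I.Countable := Set.countable_iUnion fun n => (hPfin n).countable
  have hIirr : ∀ T ∈ I, IsIrreducible (T : Set X) := fun T hT => by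
    obtain ⟨n, hn⟩ := Set.mem_iUnion.1 hT
    exact hPirr n T hn
  let S : Set (TopologicalSpace.Closeds X) := {T ∈ I | ∀ T' ∈ I, T ≤ T' → T' = T}
  have hcover : {x : X | IsClosed ({x} : Set X) ∧ ∃ T ∈ S, x ∈ T} =
      {x : X | IsClosed ({x} : Set X) ∧ ∃ n, x ∈ Z n} := by
    ext x
    constructor
    · rintro ⟨hx, T, hT, hxT⟩
      obtain ⟨n, hn⟩ := Set.mem_iUnion.1 hT.1
      exact ⟨hx, n, (show T ≤ Z n from hPeq n ▸ le_sSup hn) hxT⟩
    · rintro ⟨hx, n, hxn⟩
      obtain ⟨T, hT, hxT⟩ : ∃ T ∈ P n, x ∈ T := by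
        have h1 : x ∈ (sSup (P n) : TopologicalSpace.Closeds X) := hPeq n ▸ hxn
        rw [← SetLike.mem_coe, ← (hPfin n).coe_toFinset, ← Finset.sup_id_eq_sSup, Closeds.coe_finset_sup] at h1
        rw [Finset.sup_eq_iSup] at h1
        obtain ⟨T, hT⟩ := Set.mem_iUnion.1 h1
        obtain ⟨hTP, hxT⟩ := Set.mem_iUnion.1 hT
        exact ⟨T, (hPfin n).mem_toFinset.1 hTP, hxT⟩
      -- enlarge `T` to a maximal member
      have hgen : ∀ W ∈ I, ∃ η, IsGenericPoint η (W : Set X) := fun W hW => QuasiSober.sober (hIirr W hW) W.isClosed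
      let D : Set ℕ := {d | ∃ W ∈ I, T ≤ W ∧ ∃ η, IsGenericPoint η (W : Set X) ∧ tdegN sX η = d}
      have hD : D.Nonempty := by
        obtain ⟨η, hη⟩ := hgen T (Set.mem_iUnion.2 ⟨n, hT⟩)
        exact ⟨_, T, Set.mem_iUnion.2 ⟨n, hT⟩, le_rfl, η, hη, rfl⟩
      have hbdd : BddAbove D := by
        have : Nonempty X := ⟨x⟩
        obtain ⟨z, -, hz⟩ := FibreBound.exists_tdegN_eq_dim sX (X := X)
        refine ⟨tdegN sX z, ?_⟩
        rintro d ⟨W, -, -, η, -, rfl⟩
        exact_mod_cast (FibreBound.tdegN_le_dim sX η).trans hz.le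
      obtain ⟨W, hW, hTW, η, hη, hd⟩ := Nat.sSup_mem hD hbdd
      refine ⟨hx, W, ⟨hW, fun W' hW' hle => ?_⟩, hTW hxT⟩
      obtain ⟨η', hη'⟩ := hgen W' hW'
      have h1 : tdegN sX η' ≤ tdegN sX η := hd ▸ le_csSup hbdd ⟨W', hW', hTW.trans hle, η', hη', rfl⟩
      have h2 := FibreBound.eq_of_tdegN_le sX (hη'.specializes (hle hη.mem)) h1
      exact SetLike.coe_injective (hη'.def.symm.trans (h2 ▸ hη.def))
  refine ⟨S, ⟨hI.mono fun T hT => hT.1, fun T hT => hIirr T hT.1,
    fun T hT T' hT' hne hle => hne (hT.2 T' hT'.1 hle).symm, hcover⟩, ?_⟩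
  rintro S' ⟨hS'c, hS'i, hS'a, hS'e⟩
  rw [← hcover] at hS'e
  have key : ∀ (S₁ S₂ : Set (TopologicalSpace.Closeds X)), S₂.Countable → S₁.Countable →
      (∀ T ∈ S₁, IsIrreducible (T : Set X)) → (∀ T ∈ S₂, IsIrreducible (T : Set X)) →
      IsAntichain (· ≤ ·) S₁ →
      {x : X | IsClosed ({x} : Set X) ∧ ∃ T ∈ S₁, x ∈ T} = {x : X | IsClosed ({x} : Set X) ∧ ∃ T ∈ S₂, x ∈ T} →
      S₁ ⊆ S₂ := by
    intro S₁ S₂ h₂ h₁ hi₁ hi₂ ha₁ he T hT
    obtain ⟨T', hT', hTT'⟩ := exists_le_of_closedPoints_subset k sX T (hi₁ T hT) S₂ h₂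
      fun x hx hxc => (he.le ⟨hxc, T, hT, hx⟩).2
    obtain ⟨T'', hT'', hT'T''⟩ := exists_le_of_closedPoints_subset k sX T' (hi₂ T' hT') S₁ h₁
      fun x hx hxc => (he.ge ⟨hxc, T', hT', hx⟩).2
    have := ha₁.eq hT hT'' (hTT'.trans hT'T'')
    subst this
    exact le_antisymm hTT' hT'T'' ▸ hT'
  refine Set.Subset.antisymm (key S' S (hI.mono fun T hT => hT.1) hS'c hS'i (fun T hT => hIirr T hT.1) hS'a hS'e) ?_
  exact key S S' hS'c (hI.mono fun T hT => hT.1) (fun T hT => hIirr T hT.1) hS'i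
    (fun T hT T' hT' hne hle => hne (hT.2 T' hT'.1 hle).symm) hS'e.symm

end Groth.Agent.S16917
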