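import Groth.Statements.S16919
import Groth.Agent.CAlg6.AlgClosedIso

set_option autoImplicit false
universe u
open TensorProduct
open CAlg Cardinal

namespace Groth.Agent.S16919

/-- Let k₀ → k be an extension of fields with k algebraically closed and of infinite transcendence
degree over k₀, R₀ a finitely generated k₀-algebra whose base change R = k ⊗ R₀ is an integral
domain (so Spec R is an integral affine k-scheme of finite type with the model Spec R₀ over k₀), and
P a k-point of Spec R, i.e. a k-algebra homomorphism ev : R → k, lying over the generic point of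
Spec R₀, i.e. with ev injective on R₀. Then there is a field isomorphism e from an algebraic closure
of the fraction field of R (the function field of Spec R) onto k such that e(1 ⊗ r) = ev(1 ⊗ r) for
every r in R₀: e extends evaluation at P on R₀. (The published setting has k algebraically closed of
characteristic zero and of infinite transcendence degree over its prime field, and k₀ the subfield
generated by the coefficients of equations of Spec R, which is finitely generated over the prime
field, so that k has infinite transcendence degree over k₀; only this last property and no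
characteristic assumption enter here. The isomorphism is not canonical.) -/
theorem result (k₀ k : Type u)
    [Field k₀] [Field k] [Algebra k₀ k] [IsAlgClosed k] (hinf : ∃ x : ℕ → k, AlgebraicIndependent k₀ x)
    (R₀ : Type u) [CommRing R₀] [Algebra k₀ R₀] [Algebra.FiniteType k₀ R₀] [IsDomain (k ⊗[k₀] R₀)]
    (ev : k ⊗[k₀] R₀ →ₐ[k] k) (hP : Function.Injective fun r : R₀ => ev (1 ⊗ₜ[k₀] r)) :
    ∃ e : AlgebraicClosure (FractionRing (k ⊗[k₀] R₀)) ≃+* k,
      ∀ r : R₀, e (algebraMap (k ⊗[k₀] R₀) (AlgebraicClosure (FractionRing (k ⊗[k₀] R₀)))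
        (1 ⊗ₜ[k₀] r)) = ev (1 ⊗ₜ[k₀] r) := by
  set R := k ⊗[k₀] R₀
  set Ω := AlgebraicClosure (FractionRing R)
  set ψ : R₀ →ₐ[k₀] k := (ev.restrictScalars k₀).comp Algebra.TensorProduct.includeRight
  set ι : R₀ →ₐ[k₀] Ω := (IsScalarTower.toAlgHom k₀ R Ω).comp Algebra.TensorProduct.includeRight
  have hψ : Function.Injective ψ := hP
  have hRΩ : Function.Injective (algebraMap R Ω) := by
    rw [IsScalarTower.algebraMap_eq R (FractionRing R) Ω]
    exact (algebraMap (FractionRing R) Ω).injective.comp (IsFractionRing.injective R _)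
  have hι : Function.Injective ι := hRΩ.comp fun a b h => hψ (congrArg ev h)
  have : FaithfulSMul R Ω := (faithfulSMul_iff_algebraMap_injective R Ω).2 hRΩ
  obtain ⟨x, hx⟩ := hinf
  have hκ : ℵ₀ ≤ Algebra.trdeg k₀ k := by simpa using hx.lift_cardinalMk_le_trdeg
  have : Algebra.IsAlgebraic R (FractionRing R) := IsLocalization.isAlgebraic _ (nonZeroDivisors R)
  have : Algebra.IsAlgebraic R Ω := Algebra.IsAlgebraic.trans R (FractionRing R) Ω
  have h2 : Algebra.trdeg k₀ Ω = Algebra.trdeg k₀ k := by
    have h3 : Algebra.trdeg k Ω < ℵ₀ := by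
      rw [← trdeg_add_eq k R (A := Ω), trdeg_eq_zero (R := R) (A := Ω), add_zero]
      exact trdeg_lt_aleph0_of_finiteType
    rw [← trdeg_add_eq k₀ k (A := Ω)]
    exact Cardinal.add_eq_left hκ (h3.le.trans hκ)
  obtain ⟨e, he⟩ := Groth.Agent.CAlg6.exists_ringEquiv_of_trdeg_eq ι.toRingHom ψ.toRingHom hι hψ
    ((Groth.Agent.CAlg6.trdeg_eq_of_finiteType ι hι (h2 ▸ hκ)).trans
      (h2.trans (Groth.Agent.CAlg6.trdeg_eq_of_finiteType ψ hψ hκ).symm))
  exact ⟨e, he⟩

end Groth.Agent.S16919
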