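import Groth.Statements.S16920
import Groth.Agent.Var76.Uncountable

set_option autoImplicit false
open CategoryTheory AlgebraicGeometry
universe u
open Variety

namespace Groth.Agent.S16920


open TopologicalSpace

/-- Let k be an uncountable algebraically closed field, V an irreducible k-scheme of finite type and Z₀,
Z₁, … closed subsets of V, each different from V. Then the set of closed points of V lying in no Zₙ
is dense in V. (The published statement: a nonempty c-open subset of an irreducible quasi-projective
variety is Zariski dense, a variety being read through its closed points; nonemptiness of the c-open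
subset amounts to every Zₙ being a proper subset, while quasi-projectivity and the standing
characteristic-zero assumption play no role and are dropped.) -/
theorem result (k : Type u) [Field k] [IsAlgClosed k]
    [Uncountable k] (V : Scheme.{u}) (sV : V ⟶ Spec (CommRingCat.of k)) [IrreducibleSpace V]
    [LocallyOfFiniteType sV] [QuasiCompact sV] (Z : ℕ → TopologicalSpace.Closeds V)
    (hZ : ∀ n, (Z n : Set V) ≠ Set.univ) :
    Dense {x : V | IsClosed ({x} : Set V) ∧ ∀ n, x ∉ Z n} := by
  refine dense_iff_inter_open.2 fun O hO hOne => ?_
  let Z' : ℕ → Closeds V := fun n => match n with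
    | 0 => ⟨Oᶜ, hO.isClosed_compl⟩
    | n + 1 => Z n
  have hZ' : ∀ n, (Z' n : Set V) ≠ Set.univ := by
    intro n
    match n with
    | 0 =>
      intro h
      obtain ⟨y, hy⟩ := hOne
      exact (h.ge trivial : y ∈ Oᶜ) hy
    | n + 1 => exact hZ n
  obtain ⟨x, hx, hx'⟩ := Groth.Agent.Var76.Uncountable.exists_closedPoint k sV Z' hZ'
  exact ⟨x, not_not.1 (hx' 0), hx, fun n => hx' (n + 1)⟩

end Groth.Agent.S16920
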