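import Groth.Statements.S16948
import Groth.Agent.Mum71.PullComp
import Groth.Agent.Mum71.SectLocal

set_option autoImplicit false
set_option maxSynthPendingDepth 6
set_option linter.style.haveILetI false
set_option backward.isDefEq.respectTransparency.types false
universe u
open Coherent

namespace Groth.Agent.S16948

set_option maxRecDepth 4000 in
set_option maxHeartbeats 1000000 in
open AlgebraicGeometry CategoryTheory Scheme.Modules in
/-- Take two cartesian squares of schemes side by side, f : X → Y over φ : U → V (vertical maps ξ : X →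
U and η : Y → V, f ≫ η = ξ ≫ φ) and g : Y → Z over ψ : V → W (vertical map ζ : Z → W, g ≫ ζ = η ≫
ψ), a quasi-coherent O_Z-module L and a natural number p. Write β for the degree-p base change maps
of higher direct images (R^p the p-th right derived functor of direct image on O-modules; the maps
are the pinned ones of the structure GenBC relative to pinned comparison data for ζ, η and ξ): B₂
for the right square, B₁ for the left square, B for the outer square. Then the composite of the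
composition isomorphism φ^* ψ^* R^p ζ_* L ≅ (φ ≫ ψ)^* R^p ζ_* L with β_B(L) equals φ^* β_{B₂}(L)
followed by β_{B₁}(g^* L) followed by R^p ξ_* of the composition isomorphism f^* g^* L ≅ (f ≫ g)^*
L. The source states this for arbitrary ζ and η; its verification evaluates both sides on sections
of R^p ζ_* L and R^p η_*(g^* L) over affine opens, identified with cohomology classes over their
preimages, and that identification is the one available for ζ and η quasi-compact and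
quasi-separated, which are therefore assumed here. -/
theorem result
    {X Y Z U V W : Scheme.{u}} (f : X ⟶ Y) (g : Y ⟶ Z) (ξ : X ⟶ U) (η : Y ⟶ V) (ζ : Z ⟶ W)
    (φ : U ⟶ V) (ψ : V ⟶ W) (h₁ : IsPullback f ξ η φ) (h₂ : IsPullback g η ζ ψ)
    (hw : (f ≫ g) ≫ ζ = ξ ≫ (φ ≫ ψ))
    [QuasiCompact ζ] [QuasiSeparated ζ] [QuasiCompact η] [QuasiSeparated η]
    [HasInjectiveResolutions X.Modules] [HasInjectiveResolutions Y.Modules] [HasInjectiveResolutions Z.Modules]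
    (L : Z.Modules) [Coh.IsQCoh L] (p : ℕ)
    {Δζ : RDer.DerivedLES (pushforward ζ)} {Δη : RDer.DerivedLES (pushforward η)} {Δξ : RDer.DerivedLES (pushforward ξ)}
    (Eζ : CohCmp.SectCmp ζ Δζ) (Eη : CohCmp.SectCmp η Δη) (Eξ : CohCmp.SectCmp ξ Δξ)
    (B₂ : CohCmp.GenBC ζ ψ η g h₂.w Eζ Eη) (B₁ : CohCmp.GenBC η φ ξ f h₁.w Eη Eξ)
    (B : CohCmp.GenBC ζ (φ ≫ ψ) ξ (f ≫ g) hw Eζ Eξ) :
    (pullbackComp φ ψ).hom.app ((Coh.Rpush ζ p).obj L) ≫ B.bc p L =
      (pullback φ).map (B₂.bc p L) ≫ B₁.bc p ((pullback g).obj L) ≫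
        (Coh.Rpush ξ p).map ((pullbackComp f g).hom.app L) := by
  rw [show (pullbackComp φ ψ).hom.app ((Coh.Rpush ζ p).obj L) =
    Groth.Agent.Mum71.pbc φ ψ ((Coh.Rpush ζ p).obj L) from rfl,
    show (pullbackComp f g).hom.app L = Groth.Agent.Mum71.pbc f g L from rfl]
  refine Groth.Agent.Mum71.pullback2_comp23_ext φ ψ _ _ _ _ _ fun O t e₁ e₂ => ?_
  rw [Groth.Agent.Mum71.pbc_unitSec φ ψ _ (e := ?e3), Groth.Agent.Mum71.bc_unitSec,
    Groth.Agent.Mum71.pullback_map_unitSec, Groth.Agent.Mum71.bc_unitSec, Groth.Agent.Mum71.bc_unitSec]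
  case e3 => exact le_rfl
  simp only [Groth.Agent.QC70.res_self]
  refine Groth.Agent.QC70.section_ext _ _ _ fun z hz => ?_
  obtain ⟨W, hWO, hzW, x, hx⟩ :=
    Groth.Agent.Mum71.exists_oeps_eq_res ζ Eζ L p O t (ψ (φ z)) hz
  refine ⟨φ ⁻¹ᵁ (ψ ⁻¹ᵁ W), fun y hy => hWO hy, hzW, ?_⟩
  rw [← Groth.Agent.QC70.app_res]
  refine (Groth.Agent.QC70.res_res _ _ _).trans ?_
  refine (Groth.Agent.QC70.app_res (B.φ p L) hWO t).symm.trans ?_
  refine (congrArg ((B.φ p L).app W) hx.symm).trans ?_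
  refine (B.compat W L p x).trans ?_
  refine Eq.trans ?_ (congrArg (((Coh.Rpush ξ p).map (Groth.Agent.Mum71.pbc f g L)).app (φ ⁻¹ᵁ (ψ ⁻¹ᵁ W)))
    (Groth.Agent.QC70.app_res (B₁.φ p ((pullback g).obj L)) (show ψ ⁻¹ᵁ W ≤ ψ ⁻¹ᵁ O from fun y hy => hWO hy)
      ((B₂.φ p L).app O t)))
  refine Eq.trans ?_ (congrArg (fun y => ((Coh.Rpush ξ p).map (Groth.Agent.Mum71.pbc f g L)).app (φ ⁻¹ᵁ (ψ ⁻¹ᵁ W))
    ((B₁.φ p ((pullback g).obj L)).app (ψ ⁻¹ᵁ W) y)) ((congrArg ((B₂.φ p L).app W) hx).trans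
      (Groth.Agent.QC70.app_res (B₂.φ p L) hWO t)))
  refine Eq.trans ?_ (congrArg (fun y => ((Coh.Rpush ξ p).map (Groth.Agent.Mum71.pbc f g L)).app (φ ⁻¹ᵁ (ψ ⁻¹ᵁ W))
    ((B₁.φ p ((pullback g).obj L)).app (ψ ⁻¹ᵁ W) y)) (B₂.compat W L p x).symm)
  refine Eq.trans ?_ (congrArg (((Coh.Rpush ξ p).map (Groth.Agent.Mum71.pbc f g L)).app (φ ⁻¹ᵁ (ψ ⁻¹ᵁ W)))
    (B₁.compat (ψ ⁻¹ᵁ W) ((pullback g).obj L) p (CohPull.pullOn g (ζ ⁻¹ᵁ W) (η ⁻¹ᵁ (ψ ⁻¹ᵁ W)) (CohCmp.sqLE ζ ψ η g h₂.w W) L p x)).symm)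
  exact eq_of_heq (Groth.Agent.Mum71.eps_pullOn_comp f g ξ Eξ (V := φ ⁻¹ᵁ (ψ ⁻¹ᵁ W)) (V' := (φ ≫ ψ) ⁻¹ᵁ W) rfl _ _ _ L p x)

end Groth.Agent.S16948
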