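import Groth.Statements.S16950
import Groth.Agent.Mum71.FlatBC

set_option autoImplicit false
set_option maxSynthPendingDepth 6
set_option backward.isDefEq.respectTransparency.types false
universe u
open Coherent

namespace Groth.Agent.S16950

open AlgebraicGeometry CategoryTheory Scheme.Modules in
/-- For a single module in place of the complex, let S be a scheme, a : X → S and b : Y → S schemes over
S, f : X → Y a separated quasi-compact morphism with f ≫ b = a, and F a quasi-coherent O_X-module,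
flat over S (via a), such that every higher direct image R^n f_* F (the n-th right derived functor
of direct image on O-modules) is flat over S (via b). For any morphism g : S' → S form the cartesian
squares Y' = Y ×_S S' (projections g_Y : Y' → Y, b' : Y' → S') and X' = X ×_Y Y' (projections g_X :
X' → X, f' : X' → Y'). Then for every n the degree-n base change map g_Y^* R^n f_* F → R^n f'_*
(g_X^* F) is an isomorphism; the map is the pinned one of the structure GenBC, relative to pinned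
comparison data for f and f'. -/
theorem result
    {X Y S X' Y' S' : Scheme.{u}} (a : X ⟶ S) (b : Y ⟶ S) (f : X ⟶ Y) (hf : f ≫ b = a)
    [IsSeparated f] [QuasiCompact f]
    (g : S' ⟶ S) (gY : Y' ⟶ Y) (b' : Y' ⟶ S') (hY : IsPullback gY b' b g)
    (gX : X' ⟶ X) (f' : X' ⟶ Y') (hX : IsPullback gX f' f gY)
    [HasInjectiveResolutions X.Modules] [HasInjectiveResolutions X'.Modules]
    (F : X.Modules) [Coh.IsQCoh F] (hF : FlatMod.IsFlatOver a F)
    (hR : ∀ n : ℕ, FlatMod.IsFlatOver b ((Coh.Rpush f n).obj F))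
    {Δ : RDer.DerivedLES (pushforward f)} {Δ' : RDer.DerivedLES (pushforward f')}
    (E : CohCmp.SectCmp f Δ) (E' : CohCmp.SectCmp f' Δ') (B : CohCmp.GenBC f gY f' gX hX.w E E') (n : ℕ) :
    IsIso (B.bc n F) := by
  haveI : F.IsQuasicoherent := ‹Coh.IsQCoh F›
  haveI : IsSeparated f' := MorphismProperty.of_isPullback (P := @IsSeparated) hX ‹_›
  haveI : QuasiCompact f' := MorphismProperty.of_isPullback (P := @QuasiCompact) hX ‹_›
  haveI : ((pullback gX).obj F).IsQuasicoherent := Groth.Agent.QCPull72.isQuasicoherent_pullback gX F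
  haveI : ((Coh.Rpush f n).obj F).IsQuasicoherent := Groth.Agent.Coh69.isQuasicoherent_rpush f F n
  haveI : ((pullback gY).obj ((Coh.Rpush f n).obj F)).IsQuasicoherent :=
    Groth.Agent.QCPull72.isQuasicoherent_pullback gY _
  haveI : ((Coh.Rpush f' n).obj ((pullback gX).obj F)).IsQuasicoherent :=
    Groth.Agent.Coh69.isQuasicoherent_rpush f' _ n
  have key : ∀ y : Y', ∃ (U : S.Opens) (V : Y.Opens) (U' : S'.Opens),
      IsAffineOpen U ∧ IsAffineOpen V ∧ IsAffineOpen U' ∧ V ≤ b ⁻¹ᵁ U ∧ U' ≤ g ⁻¹ᵁ U ∧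
        IsAffineOpen (gY ⁻¹ᵁ V ⊓ b' ⁻¹ᵁ U') ∧ y ∈ gY ⁻¹ᵁ V ⊓ b' ⁻¹ᵁ U' := fun y => by
    have h : b (gY y) = g (b' y) := by
      rw [← Scheme.Hom.comp_apply, hY.w, Scheme.Hom.comp_apply]
    obtain ⟨U, hU, hyU, -⟩ :=
      exists_isAffineOpen_mem_and_subset (X := S) (x := b (gY y)) (U := ⊤) trivial
    obtain ⟨V, hV, hyV, eV⟩ :=
      exists_isAffineOpen_mem_and_subset (X := Y) (x := gY y) (U := b ⁻¹ᵁ U) hyU
    obtain ⟨U', hU', hyU', eU⟩ :=
      exists_isAffineOpen_mem_and_subset (X := S') (x := b' y) (U := g ⁻¹ᵁ U) (show g (b' y) ∈ U from h ▸ hyU)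
    refine ⟨U, V, U', hU, hV, hU', eV, eU, ?_, ⟨hyV, hyU'⟩⟩
    haveI : IsAffine _ := hU
    haveI : IsAffine _ := hU'
    haveI : IsAffine _ := hV
    exact .of_isIso (Scheme.Hom.isPullback_resLE hY eU eV rfl).isoPullback.hom
  choose U V U' hU hV hU' eV eU hV' hy using key
  exact Groth.Agent.EGA73.isIso_of_bijective_cover _ (fun y => gY ⁻¹ᵁ V y ⊓ b' ⁻¹ᵁ U' y) hV'
    (fun y => ⟨y, hy y⟩) fun y =>
    Groth.Agent.Mum71.bijective_bc_app_of_flat hf hF hR hY hX B (hU y) (hV y) (eV y) (hU' y) (eU y) n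

end Groth.Agent.S16950
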