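import Groth.Statements.S16951
import Groth.Agent.Cube7.FibreEpi
import Groth.Agent.FBase64.Geometric
import Groth.Agent.AbSch7.PushO
import Groth.Agent.Cube73.Open
-- import your own Groth.Agent.* helpers here

set_option autoImplicit false
universe u
open PicF

namespace Groth.Agent.S16951
open Groth.Agent
set_option maxSynthPendingDepth 6
set_option backward.isDefEq.respectTransparency.types false

open AlgebraicGeometry CategoryTheory Scheme.Modules in
/-- Let f : X → S be a proper flat morphism of locally Noetherian schemes whose fibres are geometrically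
integral, and let L be an invertible O_X-module with an inverse M (an isomorphism L ⊗ M ≅ O_X). Then
the following are equivalent: (a) L ≅ f^* L₀ for some invertible O_S-module L₀; (b) for N = L and
for N = M, at every point s of S the space H^0(X_s, N|_{X_s}) of sections over the scheme-theoretic
fibre is nonzero and the degree-0 base change map of the fibre square, κ(s)^* f_* N → (X_s → Spec
κ(s))_* (N|_{X_s}), is an epimorphism. When this holds, dim_{κ(s)} H^0(X_s, N|_{X_s}) = 1 for every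
s and both N, the counit f^* f_* L → L is an isomorphism, and any invertible L₀ with L ≅ f^* L₀ is
isomorphic to f_* L. -/
theorem result
    {X S : Scheme.{u}} (f : X ⟶ S) [IsProper f] [Flat f] [IsLocallyNoetherian X] [IsLocallyNoetherian S]
    [GeometricallyIntegral f] (L M : X.Modules) (hL : PicF.IsInvertible L)
    (hM : Nonempty (CohB1.tensorMod L M ≅ Coh.structureModule X)) :
    ((∃ L₀ : S.Modules, PicF.IsInvertible L₀ ∧ Nonempty (L ≅ (pullback f).obj L₀)) ↔
      ((∀ s : S, Nontrivial (CohIII.fiberH f L s 0)) ∧ (∀ s : S, Nontrivial (CohIII.fiberH f M s 0)) ∧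
        (∀ s : S, Epi (CohBC.bc0 f (S.fromSpecResidueField s) (f.fiberToSpecResidueField s) (f.fiberι s) (f.fiber_fac s) L)) ∧ (∀ s : S, Epi (CohBC.bc0 f (S.fromSpecResidueField s) (f.fiberToSpecResidueField s) (f.fiberι s) (f.fiber_fac s) M)))) ∧
    (((∀ s : S, Nontrivial (CohIII.fiberH f L s 0)) ∧ (∀ s : S, Nontrivial (CohIII.fiberH f M s 0)) ∧
        (∀ s : S, Epi (CohBC.bc0 f (S.fromSpecResidueField s) (f.fiberToSpecResidueField s) (f.fiberι s) (f.fiber_fac s) L)) ∧ (∀ s : S, Epi (CohBC.bc0 f (S.fromSpecResidueField s) (f.fiberToSpecResidueField s) (f.fiberι s) (f.fiber_fac s) M))) →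
      (∀ s : S, CohIII.fiberRank f L 0 s = 1 ∧ CohIII.fiberRank f M 0 s = 1) ∧
      IsIso ((pullbackPushforwardAdjunction f).counit.app L) ∧
      ∀ L₀ : S.Modules, PicF.IsInvertible L₀ → Nonempty (L ≅ (pullback f).obj L₀) →
        Nonempty (L₀ ≅ (pushforward f).obj L)) := by
  have : GeometricallyConnected f := FBase64.geometricallyConnected_of_geometricallyIrreducible f
  have h0 := AbSch7.H0Fib.of_geometrically f
  have hf := AbSch7.app_bijective f h0
  have hfld := fun s => Cube7.isField_Γ_fiber (f := f) h0 s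
  have hint : ∀ s : S, IsIntegral (f.fiber s) := fun s => by
    have : GeometricallyIntegral (f.fiberToSpecResidueField s) :=
      inferInstanceAs (GeometricallyIntegral (Limits.pullback.snd f _))
    exact GeometricallyIntegral.isIntegral_of_subsingleton (f.fiberToSpecResidueField s)
  have hb : ∀ s : S, Function.Bijective (f.fiberToSpecResidueField s).appTop.hom := fun s =>
    h0 (S.residueField s) (S.fromSpecResidueField s)
  obtain ⟨N, hN, ⟨eN⟩⟩ := An92.InvMod.exists_inverse hL
  obtain ⟨eM⟩ := hM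
  have hMinv : PicF.IsInvertible M :=
    EGA73.isInvertible_of_iso ((EGA73.tensUnitRight N).symm ≪≫ EGA73.tensIso (Iso.refl N) eM.symm ≪≫
      (EGA73.tensAssoc' N L M).symm ≪≫ EGA73.tensIso eN (Iso.refl M) ≪≫ EGA73.tensUnitLeft M) hN
  have eM' : CohB1.tensorMod M L ≅ Coh.structureModule X := EGA73.tensComm _ _ ≪≫ eM
  let B : Prop := (∀ s : S, Nontrivial (CohIII.fiberH f L s 0)) ∧ (∀ s : S, Nontrivial (CohIII.fiberH f M s 0)) ∧
    (∀ s : S, Epi (CohBC.bc0 f (S.fromSpecResidueField s) (f.fiberToSpecResidueField s) (f.fiberι s) (f.fiber_fac s) L)) ∧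
    (∀ s : S, Epi (CohBC.bc0 f (S.fromSpecResidueField s) (f.fiberToSpecResidueField s) (f.fiberι s) (f.fiber_fac s) M))
  have hsec : ∀ {P : X.Modules}, (∀ s : S, Nontrivial (CohIII.fiberH f P s 0)) → ∀ s, ¬ Cube73.NoSec f P s :=
    fun h s hn => not_nontrivial_iff_subsingleton.2 ((Cube73.noSec_iff f _ s).1 hn) (h s)
  have htriv : B → ∀ s, Nonempty ((Scheme.Modules.pullback (f.fiberι s)).obj L ≅ Coh.structureModule (f.fiber s)) ∧
      Nonempty ((Scheme.Modules.pullback (f.fiberι s)).obj M ≅ Coh.structureModule (f.fiber s)) := fun h s =>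
    ⟨(Cube7.trivFib_iff f hint hfld hL hMinv eM s).2 ⟨hsec h.1 s, hsec h.2.1 s⟩,
      (Cube7.trivFib_iff f hint hfld hMinv hL eM' s).2 ⟨hsec h.2.1 s, hsec h.1 s⟩⟩
  have hfr : B → PicF.IsInvertible ((pushforward f).obj L) ∧ IsIso ((pullbackPushforwardAdjunction f).counit.app L) :=
    fun h => Cube7.invertible_and_counit_of_frames f hf fun s => by
      have := h.2.2.1 s
      have := hint s
      exact Cube7.exists_frame_nhd_of_bc0 f hL s (hfld s) (htriv h s).1 (Cube7.bc0_ne_zero f s (hsec h.1 s))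
  refine ⟨⟨?_, fun h => ?_⟩, fun h => ⟨fun s => ?_, (hfr h).2, fun L₀ hL₀ ⟨e⟩ => ?_⟩⟩
  · rintro ⟨L₀, hL₀, ⟨e⟩⟩
    have hc : PicGrp.cls L hL = Cube7.PicCalc.pb f (PicGrp.cls L₀ hL₀) := by
      rw [Cube7.PicCalc.pb_cls, PicGrp.cls_eq_cls_iff]; exact ⟨e⟩
    have hLM : PicGrp.cls L hL * PicGrp.cls M hMinv = 1 := (PicGrp.cls_mul_cls_eq_one_iff hL hMinv).2 ⟨eM⟩
    have hcM : PicGrp.cls M hMinv = Cube7.PicCalc.pb f (PicGrp.cls L₀ hL₀)⁻¹ := by
      rw [map_inv, ← hc]; exact (inv_eq_of_mul_eq_one_right hLM).symm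
    have htr : ∀ {P : X.Modules} (hP : PicF.IsInvertible P) (c : PicLoc.PicSet S), PicGrp.cls P hP = Cube7.PicCalc.pb f c →
        ∀ s, Nonempty ((Scheme.Modules.pullback (f.fiberι s)).obj P ≅ Coh.structureModule (f.fiber s)) := by
      intro P hP c hc s
      rw [← PicGrp.cls_eq_one_iff (PicLoc.isInvertible_pullback _ hP), ← Cube7.PicCalc.pb_cls _ hP, hc]
      exact Cube7.pb_fiberι_pb f s c
    have hfrm : ∀ {P : X.Modules} (hP : PicF.IsInvertible P) (c : PicLoc.PicSet S), PicGrp.cls P hP = Cube7.PicCalc.pb f c →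
        ∀ s : S, Epi (CohBC.bc0 f (S.fromSpecResidueField s) (f.fiberToSpecResidueField s) (f.fiberι s) (f.fiber_fac s) P) := by
      intro P hP c hc s
      obtain ⟨P₀, hP₀, rfl⟩ := PicGrp.exists_eq_cls c
      rw [Cube7.PicCalc.pb_cls, PicGrp.cls_eq_cls_iff] at hc
      obtain ⟨i⟩ := hc
      obtain ⟨V, hsV, e₀, he₀⟩ := Mero90.exists_frame' hP₀ s
      exact Cube7.epi_bc0_of_frame f
        ((Amp73.isFrame_app_iff i.inv _).2 (Props58.PullTensor.isFrame_pullS f he₀)) hsV (hb s).2
    refine ⟨fun s => ?_, fun s => ?_, hfrm hL _ hc, hfrm hMinv _ hcM⟩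
    · have := hint s
      exact Module.nontrivial_of_finrank_eq_succ (Cube7.fiberRank_eq_one f s (hb s) (htr hL _ hc s))
    · have := hint s
      exact Module.nontrivial_of_finrank_eq_succ (Cube7.fiberRank_eq_one f s (hb s) (htr hMinv _ hcM s))
  · have := (hfr h).2
    exact ⟨_, (hfr h).1, ⟨(asIso ((pullbackPushforwardAdjunction f).counit.app L)).symm⟩⟩
  · have := hint s
    exact ⟨Cube7.fiberRank_eq_one f s (hb s) (htriv h s).1, Cube7.fiberRank_eq_one f s (hb s) (htriv h s).2⟩
  · have := Desc59.Pic.VectPush.isIso_unit f hf (M := L₀) (Cube73.isFinLocFree_of_isInvertible hL₀)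
    exact ⟨asIso ((pullbackPushforwardAdjunction f).unit.app L₀) ≪≫ (pushforward f).mapIso e.symm⟩

end Groth.Agent.S16951
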