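import Groth.Statements.S16953
import Groth.Agent.Mum71.PushEdge
import Groth.Agent.GSS45.SchemeSS
import Groth.Agent.Coh69.RelVanish
import Groth.Agent.Coh69.Grothendieck

set_option autoImplicit false
set_option maxSynthPendingDepth 6
set_option linter.style.haveILetI false
set_option backward.isDefEq.respectTransparency.types false
universe u
open Coherent

namespace Groth.Agent.S16953

open AlgebraicGeometry CategoryTheory Scheme.Modules in
/-- Let f : X → Y be an affine morphism of schemes and F a quasi-coherent O_X-module. Then the canonical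
map H^1(Y, f_* F) → H^1(X, F) (the edge map: pullback of cohomology classes along f followed by the
map induced by the counit f^* f_* F → F) is bijective. -/
theorem result
    {X Y : Scheme.{u}} (f : X ⟶ Y) [IsAffineHom f] (F : X.Modules) [Coh.IsQCoh F] :
    Function.Bijective (CohPull.pushEdge f F 1) := by
  haveI : F.IsQuasicoherent := ‹Coh.IsQCoh F›
  refine Groth.Agent.Mum71.pushEdge_bijective f 1 F fun q hq => ?_
  obtain ⟨m, rfl⟩ : ∃ m, q = m + 1 := ⟨q - 1, by omega⟩
  obtain ⟨e⟩ := Groth.Agent.GSS45.nonempty_toAb_Rpush f F (m + 1)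
  have hz : Limits.IsZero ((SheafOfModules.toSheaf Y.ringCatSheaf).obj ((Coh.Rpush f (m + 1)).obj F)) :=
    Limits.IsZero.of_iso (Groth.Agent.Coh69.isZero_RpushAb_of_isAffineHom f F m) e
  rw [Limits.IsZero.iff_id_eq_zero] at hz ⊢
  apply (SheafOfModules.toSheaf Y.ringCatSheaf).map_injective
  exact ((SheafOfModules.toSheaf Y.ringCatSheaf).map_id _).trans (hz.trans (Functor.map_zero _ _ _).symm)

end Groth.Agent.S16953
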