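import Groth.Statements.S16966
import Groth.Agent.Curves2.Clifford
import Groth.Agent.Curves2.SubInvertible

set_option autoImplicit false
universe u
open CategoryTheory CategoryTheory.Limits AlgebraicGeometry Opposite
open Curves

namespace Groth.Agent.S16966

/-- Let X be a smooth projective curve over an algebraically closed field k of characteristic 0 (an
integral scheme, proper over k, of dimension one, with all local rings regular), of genus g ≥ 1, and
L an invertible O_X-module with deg L > 2g. Then the morphism to projective space given by the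
complete linear system of L is linearly stable, stated through the criterion by invertible
subsheaves: for every invertible module M and every monomorphism ι : M ⟶ L that is not an
isomorphism, with dim_k H^0(X, M) ≥ 2, one has deg L · (h^0(M) - 1) < deg M · (h^0(L) - 1), i.e. the
reduced degree deg M / (h^0(M) - 1) of the projection exceeds the reduced degree deg L / (h^0(L) -
1). Degrees are χ(·) - χ(O_X). -/
theorem result (k : Type u) [Field k] [IsAlgClosed k] [CharZero k] (X : Scheme.{u}) [X.Over (Spec (CommRingCat.of k))]
    [IsIntegral X] [IsProper (X ↘ (Spec (CommRingCat.of k)))] (hdim : topologicalKrullDim X = 1)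
    (hreg : ∀ x : X, IsRegularLocalRing (X.presheaf.stalk x))
    (hg : 1 ≤ Curv2.genus k X) (L : X.Modules) (hL : PicF.IsInvertible L)
    (hdeg : 2 * (Curv2.genus k X : ℤ) < Curv2.deg k X L 1)
    (M : X.Modules) (hM : PicF.IsInvertible M) (ι : M ⟶ L) [Mono ι] (hι : ¬ IsIso ι)
    (h2 : 2 ≤ Module.finrank k (Coh.HH X M 0)) :
    Curv2.deg k X L 1 * ((Module.finrank k (Coh.HH X M 0) : ℤ) - 1) <
      Curv2.deg k X M 1 * ((Module.finrank k (Coh.HH X L 0) : ℤ) - 1) := by
  have : IsNoetherian X := Crv77.isNoetherian_of_proper k X
  have hC := Crv77.curveCoh_of_proper k X hdim.le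
  have hO := Groth.Agent.Curves2.finrank_h0_structureModule k (X := X)
  have := hC.finite M (Crv77.isCoh_of_isInvertible hM) 0
  have : Nontrivial (Coh.HH X M 0) := Module.nontrivial_of_finrank_pos (R := k) (by omega)
  have hlt := Groth.Agent.Curves2.deg_lt_of_mono hC hdim.le hM hL ι hι this
  have h1 : Subsingleton (Coh.HH X L 1) := hC.h1_eq_zero_of_deg_gt hdim hO hL (by omega)
  have hr := hC.riemann hO (Crv77.isCoh_of_isInvertible hL)
  simp only [Crv77.h, Module.finrank_zero_of_subsingleton] at hr
  have hL0 : (Module.finrank k (Coh.HH X L 0) : ℤ) = Curv2.deg k X L 1 + 1 - Curv2.genus k X := by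
    omega
  rw [hL0]
  rcases Groth.Agent.Curves2.h0_cases hC hdim.le hO hM (by omega) with hM0 | hM0
  · nlinarith
  · rw [hM0]; nlinarith

end Groth.Agent.S16966
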