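import Groth.Statements.S16967
import Groth.Agent.CrvPic30.Incl


set_option autoImplicit false
universe u
open CategoryTheory CategoryTheory.Limits AlgebraicGeometry Opposite
open Curves

namespace Groth.Agent.S16967

open FunFld Groth.Agent.CrvPic30
attribute [local instance] CrvPic30.ffAlg

/-- Let X be a smooth projective curve over an algebraically closed field k of characteristic 0
(integral, proper over k, of dimension one, all local rings regular) of genus g ≥ 3 that is not
hyperelliptic: there is no invertible module of degree 2 with two k-linearly independent global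
sections. Then the canonical morphism of X is linearly stable, stated through the criterion by
invertible subsheaves: for every invertible module M and every monomorphism ι : M ⟶ Ω_{X/k} which is
not an isomorphism, with dim_k H^0(X, M) ≥ 2, one has deg Ω_{X/k} · (h^0(M) - 1) < deg M ·
(h^0(Ω_{X/k}) - 1). Degrees are χ(·) - χ(O_X). -/
theorem result (k : Type u) [Field k] [IsAlgClosed k] [CharZero k] (X : Scheme.{u}) [X.Over (Spec (CommRingCat.of k))]
    [IsIntegral X] [IsProper (X ↘ (Spec (CommRingCat.of k)))] (hdim : topologicalKrullDim X = 1)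
    (hreg : ∀ x : X, IsRegularLocalRing (X.presheaf.stalk x))
    (hg : 3 ≤ Curv2.genus k X)
    (hnh : ¬ ∃ (N : X.Modules) (t : Fin 2 → LinSer.Sect X N), LinSer.IsLinSer k X N 2 1 t)
    (M : X.Modules) (hM : PicF.IsInvertible M) (ι : M ⟶ Omega.sheaf (X ↘ (Spec (CommRingCat.of k)))) [Mono ι] (hι : ¬ IsIso ι)
    (h2 : 2 ≤ Module.finrank k (Coh.HH X M 0)) :
    Curv2.deg k X (Omega.sheaf (X ↘ (Spec (CommRingCat.of k)))) 1 * ((Module.finrank k (Coh.HH X M 0) : ℤ) - 1) <
      Curv2.deg k X M 1 * ((Module.finrank k (Coh.HH X (Omega.sheaf (X ↘ (Spec (CommRingCat.of k)))) 0) : ℤ) - 1) := by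
  have h := setup_of_regular (k := k) (C := X) hdim hreg
  obtain ⟨W, hW, ⟨eW⟩⟩ := h.nonempty_iso_omega
  obtain ⟨D, ⟨eM⟩⟩ := h.exists_iso_O hM
  have hlt := h.deg_lt_of_mono eM eW ι hι
  rw [h.genus_eq] at hg
  rw [h.h0_of_iso eM] at h2 ⊢
  rw [h.h0_of_iso eW, h.deg_of_iso eW, h.deg_of_iso eM, FF30.ell_canonical h.ff hW,
    FF30.deg_canonical h.ff hW]
  rw [FF30.deg_canonical h.ff hW] at hlt
  have key : 2 * ((ell D : ℤ) - 1) < D.deg := by
    have hrr := FF30.riemann_roch' h.ff hW D
    rcases Nat.eq_zero_or_pos (ell (W - D)) with h0 | hpos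
    · omega
    · refine lt_of_le_of_ne (by have := h.clifford hW (by omega) hpos; omega) fun heq => hnh ?_
      obtain ⟨N, hNd, hN⟩ := h.exists_g12_of_clifford_eq hW (ell D - 1) D (by omega) (by omega) (by omega)
        (by omega)
      exact (h.exists_linSer_iff 2 1).2 ⟨N, by rw [hNd]; rfl, hN⟩
  nlinarith

end Groth.Agent.S16967
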