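import Groth.Statements.S16968
import Groth.Agent.CrvPic30.Incl


set_option autoImplicit false
universe u
open CategoryTheory CategoryTheory.Limits AlgebraicGeometry Opposite
open Curves

namespace Groth.Agent.S16968

open FunFld Groth.Agent.CrvPic30
attribute [local instance] CrvPic30.ffAlg

/-- Let X be a smooth projective curve over an algebraically closed field k of characteristic 0
(integral, proper over k, of dimension one, all local rings regular) of genus g ≥ 3 which is
hyperelliptic, with a g^1_2 given as an invertible module N of degree 2 and two k-linearly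
independent global sections t_0, t_1. Then the canonical morphism of X is linearly semistable but
not linearly stable, stated through the criterion by invertible subsheaves: (i) for every invertible
module M and every monomorphism ι : M ⟶ Ω_{X/k} which is not an isomorphism, with dim_k H^0(X, M) ≥
2, one has deg Ω_{X/k} · (h^0(M) - 1) ≤ deg M · (h^0(Ω_{X/k}) - 1); (ii) N admits a monomorphism
into Ω_{X/k} which is not an isomorphism and for which equality holds. Degrees are χ(·) - χ(O_X).
(The published statement gives no genus bound for the hyperelliptic case; here g ≥ 3 is assumed,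
since for g = 2 the module N is the canonical module itself and clause (ii) fails.) -/
theorem result (k : Type u) [Field k] [IsAlgClosed k] [CharZero k] (X : Scheme.{u}) [X.Over (Spec (CommRingCat.of k))]
    [IsIntegral X] [IsProper (X ↘ (Spec (CommRingCat.of k)))] (hdim : topologicalKrullDim X = 1)
    (hreg : ∀ x : X, IsRegularLocalRing (X.presheaf.stalk x))
    (hg : 3 ≤ Curv2.genus k X)
    (N : X.Modules) (t : Fin 2 → LinSer.Sect X N) (hN : LinSer.IsLinSer k X N 2 1 t) :
    (∀ (M : X.Modules) (ι : M ⟶ Omega.sheaf (X ↘ (Spec (CommRingCat.of k)))), PicF.IsInvertible M → Mono ι → ¬ IsIso ι →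
        2 ≤ Module.finrank k (Coh.HH X M 0) →
        Curv2.deg k X (Omega.sheaf (X ↘ (Spec (CommRingCat.of k)))) 1 * ((Module.finrank k (Coh.HH X M 0) : ℤ) - 1) ≤
          Curv2.deg k X M 1 * ((Module.finrank k (Coh.HH X (Omega.sheaf (X ↘ (Spec (CommRingCat.of k)))) 0) : ℤ) - 1)) ∧
      ∃ ι : N ⟶ Omega.sheaf (X ↘ (Spec (CommRingCat.of k))), Mono ι ∧ ¬ IsIso ι ∧
        Curv2.deg k X (Omega.sheaf (X ↘ (Spec (CommRingCat.of k)))) 1 * ((Module.finrank k (Coh.HH X N 0) : ℤ) - 1) =
          Curv2.deg k X N 1 * ((Module.finrank k (Coh.HH X (Omega.sheaf (X ↘ (Spec (CommRingCat.of k)))) 0) : ℤ) - 1) := by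
  have h := setup_of_regular (k := k) (C := X) hdim hreg
  obtain ⟨W, hW, ⟨eW⟩⟩ := h.nonempty_iso_omega
  obtain ⟨hNi, hNd, hNs⟩ := hN
  obtain ⟨D, ⟨eN⟩⟩ := h.exists_iso_O hNi
  rw [h.genus_eq] at hg
  rw [h.deg_of_iso eN] at hNd
  have hW' := FF30.deg_canonical h.ff hW
  have hlD := h.le_ell_of_linSer eN hNs
  refine ⟨fun M ι hM hm hι h2 => ?_, ?_⟩
  · obtain ⟨E, ⟨eM⟩⟩ := h.exists_iso_O hM
    have hlt := h.deg_lt_of_mono eM eW ι hι
    rw [h.h0_of_iso eM] at h2 ⊢
    rw [h.h0_of_iso eW, h.deg_of_iso eW, h.deg_of_iso eM, FF30.ell_canonical h.ff hW, hW']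
    rw [hW'] at hlt
    have key : 2 * ((ell E : ℤ) - 1) ≤ E.deg := by
      have hrr := FF30.riemann_roch' h.ff hW E
      rcases Nat.eq_zero_or_pos (ell (W - E)) with h0 | hpos
      · omega
      · have := h.clifford hW (by omega) hpos
        omega
    nlinarith
  · have hrr := FF30.riemann_roch' h.ff hW D
    have hpos : 0 < ell (W - D) := by omega
    have hcl := h.clifford hW (D := D) (by omega) hpos
    obtain ⟨ι, hm, hι⟩ := h.exists_mono eN eW hpos (by omega)
    refine ⟨ι, hm, hι, ?_⟩
    rw [h.h0_of_iso eW, h.deg_of_iso eW, h.h0_of_iso eN, h.deg_of_iso eN, FF30.ell_canonical h.ff hW, hW',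
      hNd, show ell D = 2 by omega]
    push_cast
    ring

end Groth.Agent.S16968
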