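import Groth.Statements.S16979
import Mathlib

set_option autoImplicit false
universe u v
open CAlg

namespace Groth.Agent.S16979

/-- Let R be an integral domain with fraction field K and φ a square matrix over R whose characteristic
polynomial becomes separable in K[T] (equivalently, K[T] modulo the characteristic polynomial is
geometrically reduced over K). Then a polynomial f over R satisfies f(φ) = 0 exactly when the
characteristic polynomial of φ divides f in R[T]: the kernel of evaluation at φ (the minimal ideal
of φ) is the principal ideal generated by the characteristic polynomial. -/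
theorem result
    {R : Type u} [CommRing R] [IsDomain R] {n : Type v} [Fintype n] [DecidableEq n]
    (φ : Matrix n n R)
    (hsep : (φ.charpoly.map (algebraMap R (FractionRing R))).Separable) :
    RingHom.ker (Polynomial.aeval (R := R) φ) = Ideal.span {φ.charpoly} := by
  refine le_antisymm (fun f hf => ?_) ?_
  · rw [RingHom.mem_ker] at hf
    rw [Ideal.mem_span_singleton]
    set K := FractionRing R
    let ι := algebraMap R K
    let L := AlgebraicClosure K
    set ψ : Matrix n n L := φ.map ((algebraMap K L).comp ι)
    apply (Polynomial.map_dvd_map ((algebraMap K L).comp ι)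
      ((algebraMap K L).injective.comp (IsFractionRing.injective R K)) φ.charpoly_monic).mp
    rw [← Matrix.charpoly_map]
    have hs : ψ.charpoly.Separable := by
      rw [Matrix.charpoly_map, ← Polynomial.map_map]; exact hsep.map
    have h0 : Polynomial.aeval ψ (f.map ((algebraMap K L).comp ι)) = 0 := by
      rw [Polynomial.aeval_def, Polynomial.eval₂_map]
      have : (algebraMap L (Matrix n n L)).comp ((algebraMap K L).comp ι) =
          (((algebraMap K L).comp ι).mapMatrix).comp (algebraMap R (Matrix n n R)) := by
        ext r i j
        by_cases h : i = j <;> simp [Matrix.algebraMap_matrix_apply, Matrix.map_apply, h]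
      rw [this]
      show Polynomial.eval₂ _ (((algebraMap K L).comp ι).mapMatrix φ) f = 0
      rw [← Polynomial.hom_eval₂, ← Polynomial.aeval_def, hf, map_zero]
    refine dvd_trans ?_ (minpoly.dvd L ψ h0)
    refine (Polynomial.Splits.dvd_iff_roots_le_roots (IsAlgClosed.splits ψ.charpoly) ψ.charpoly_monic.ne_zero (minpoly.ne_zero (Matrix.isIntegral ψ))).mpr ?_
    refine (Multiset.le_iff_subset (Polynomial.nodup_roots hs)).mpr fun μ hμ => ?_
    rw [Polynomial.mem_roots (minpoly.ne_zero (Matrix.isIntegral ψ))]
    rw [Polynomial.mem_roots ψ.charpoly_monic.ne_zero] at hμ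
    rw [← Matrix.minpoly_toLin', ← Module.End.hasEigenvalue_iff_isRoot,
      Module.End.hasEigenvalue_iff_mem_spectrum, Matrix.spectrum_toLin',
      Matrix.mem_spectrum_iff_isRoot_charpoly]
    exact hμ
  · rw [Ideal.span_le, Set.singleton_subset_iff, SetLike.mem_coe, RingHom.mem_ker]
    exact Matrix.aeval_self_charpoly φ

end Groth.Agent.S16979
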