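import Groth.Statements.S16982
import Groth.Agent.CAlg8.SqZeroComplete
import Mathlib

set_option autoImplicit false
universe u v w w'
open CAlg

namespace Groth.Agent.S16982

theorem mem_pow_of_coeff_eq_zero {R : Type u} [CommRing R] {σ : Type v} [Finite σ] :
    ∀ (n : ℕ) (G : MvPowerSeries σ R), (∀ d : σ →₀ ℕ, d.degree < n → MvPowerSeries.coeff d G = 0) →
      G ∈ Ideal.span (Set.range (MvPowerSeries.X : σ → MvPowerSeries σ R)) ^ n := by
  classical
  have := Fintype.ofFinite σ
  intro n
  induction n with
  | zero => simp
  | succ n ih =>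
    intro G hG
    let c : (σ →₀ ℕ) → Option σ := fun d => if h : d.support.Nonempty then some h.choose else none
    have hc : ∀ d i, c d = some i → 1 ≤ d i := by
      intro d i h
      simp only [c] at h
      split at h
      · rename_i hd
        cases h
        exact Nat.one_le_iff_ne_zero.mpr (Finsupp.mem_support_iff.mp hd.choose_spec)
      · exact absurd h (by simp)
    let g : σ → MvPowerSeries σ R := fun i d =>
      if c (d + Finsupp.single i 1) = some i then MvPowerSeries.coeff (d + Finsupp.single i 1) G else 0
    have hG2 : G = ∑ i, MvPowerSeries.X i * g i := by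
      ext d
      rw [map_sum]
      have hterm : ∀ i, MvPowerSeries.coeff d (MvPowerSeries.X i * g i) = if c d = some i then MvPowerSeries.coeff d G else 0 := by
        intro i
        rw [MvPowerSeries.X, MvPowerSeries.coeff_monomial_mul, one_mul]
        split_ifs with h1 h2 h2
        · show g i (d - Finsupp.single i 1) = _
          simp only [g, tsub_add_cancel_of_le h1, h2, if_true]
        · show g i (d - Finsupp.single i 1) = _
          simp only [g, tsub_add_cancel_of_le h1, h2, if_false]
        · exact absurd (Finsupp.single_le_iff.mpr (hc d i h2)) h1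
        · rfl
      simp only [hterm]
      by_cases hd : d.support.Nonempty
      · rw [show c d = some hd.choose from dif_pos hd]; simp
      · have : d = 0 := by simpa using Finset.not_nonempty_iff_eq_empty.mp hd
        subst this
        simp [c, hG 0 (by simp)]
    rw [hG2, pow_succ']
    refine sum_mem fun i _ => Ideal.mul_mem_mul (Ideal.subset_span ⟨i, rfl⟩) (ih (g i) fun d hd => ?_)
    show g i d = 0
    simp only [g]
    split_ifs
    · exact hG _ (by rw [map_add, Finsupp.degree_single]; omega)
    · rfl


/-- Let R be a commutative ring, A a complete Noetherian local R-algebra written as a quotient of a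
power series ring over R in finitely many variables by a surjective R-algebra map π, and f : E → A a
surjective R-algebra map whose kernel has square zero and is finitely generated. Then π lifts along
f to an R-algebra map λ from the power series ring to E with f ∘ λ = π. (The published statement
takes R Artinian local and asks for a lift that is continuous for the adic topologies; this row
allows any commutative R and asks for any lift.) -/
theorem result
    {R : Type u} [CommRing R] {σ : Type v} [Finite σ]
    {A : Type w} {E : Type w'} [CommRing A] [CommRing E] [Algebra R A] [Algebra R E]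
    [IsNoetherianRing A] [IsLocalRing A] [IsAdicComplete (IsLocalRing.maximalIdeal A) A]
    (π : MvPowerSeries σ R →ₐ[R] A) (hπ : Function.Surjective π)
    (f : E →ₐ[R] A) (hf : Function.Surjective f)
    (hsq : RingHom.ker f.toRingHom ^ 2 = ⊥) (hfg : (RingHom.ker f.toRingHom).FG) :
    ∃ l : MvPowerSeries σ R →ₐ[R] E, f.comp l = π := by
  classical
  set m := IsLocalRing.maximalIdeal A
  set I := m.comap f.toRingHom
  have : IsAdicComplete I E := Groth.Agent.CAlg8.SqZeroComplete.isAdicComplete f.toRingHom hf hsq hfg
  have hXm : ∀ i, π (MvPowerSeries.X i) ∈ m := by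
    intro i
    rw [IsLocalRing.mem_maximalIdeal]
    intro hu
    obtain ⟨a, ha⟩ := hu.exists_right_inv
    obtain ⟨c, rfl⟩ := hπ a
    have h1 : IsUnit (1 - MvPowerSeries.X i * c) := by
      rw [MvPowerSeries.isUnit_iff_constantCoeff]; simp
    have := h1.map π
    rw [map_sub, map_one, map_mul, ha, sub_self] at this
    exact not_isUnit_zero this
  choose e he using fun i => hf (π (MvPowerSeries.X i))
  have heI : ∀ i, e i ∈ I := fun i => by
    show f.toRingHom (e i) ∈ m
    exact (he i).symm ▸ hXm i
  let ev : MvPolynomial σ R →ₐ[R] E := MvPolynomial.aeval e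
  have hmap : ∀ n, MvPolynomial.idealOfVars σ R ^ n ≤ RingHom.ker ((Ideal.Quotient.mkₐ R (I ^ n)).comp ev) := by
    intro n x hx
    rw [RingHom.mem_ker, AlgHom.comp_apply, Ideal.Quotient.mkₐ_eq_mk, Ideal.Quotient.eq_zero_iff_mem]
    have h2 : (MvPolynomial.idealOfVars σ R).map ev ≤ I := by
      rw [MvPolynomial.idealOfVars, Ideal.map_span, Ideal.span_le]
      rintro _ ⟨_, ⟨i, rfl⟩, rfl⟩
      simpa [ev] using heI i
    exact Ideal.pow_right_mono h2 n (Ideal.map_pow ev _ n ▸ Ideal.mem_map_of_mem ev hx)
  let F : (n : ℕ) → MvPowerSeries σ R →ₐ[R] E ⧸ I ^ n := fun n =>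
    (Ideal.Quotient.liftₐ _ ((Ideal.Quotient.mkₐ R (I ^ n)).comp ev) (hmap n)).comp
      ((MvPowerSeries.truncTotalAlgHom σ R n).restrictScalars R)
  have hF : ∀ n p, F n p = Ideal.Quotient.mk (I ^ n) (ev (MvPowerSeries.truncTotal n p)) := fun n p => rfl
  have hcompat : ∀ {m n : ℕ} (hle : m ≤ n),
      (Ideal.Quotient.factorₐ R (Ideal.pow_le_pow_right hle)).comp (F n) = F m := by
    intro k n hle
    refine AlgHom.ext fun p => ?_
    rw [AlgHom.comp_apply, hF, hF]
    show Ideal.Quotient.mk (I ^ k) _ = Ideal.Quotient.mk (I ^ k) _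
    rw [Ideal.Quotient.eq, ← map_sub]
    have := hmap k (MvPowerSeries.truncTotal_sub_truncTotal_mem_pow_idealOfVars hle le_rfl p)
    rwa [RingHom.mem_ker, AlgHom.comp_apply, Ideal.Quotient.mkₐ_eq_mk, Ideal.Quotient.eq_zero_iff_mem] at this
  let l := IsAdicComplete.liftAlgHom I F hcompat
  refine ⟨l, AlgHom.ext fun p => ?_⟩
  rw [AlgHom.comp_apply, ← sub_eq_zero]
  refine IsHausdorff.haus' (I := m) _ fun n => ?_
  rw [SModEq.zero, smul_eq_mul, Ideal.mul_top]
  have h1 : l p - ev (MvPowerSeries.truncTotal n p) ∈ I ^ n := by
    rw [← Ideal.Quotient.eq, ← hF]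
    exact IsAdicComplete.mk_liftAlgHom I F hcompat n p
  have h2 : f.toRingHom (l p - ev (MvPowerSeries.truncTotal n p)) ∈ m ^ n :=
    Ideal.pow_right_mono Ideal.map_comap_le n (Ideal.map_pow f.toRingHom I n ▸ Ideal.mem_map_of_mem _ h1)
  have h3 : ∀ q : MvPolynomial σ R, f (ev q) = π (q : MvPowerSeries σ R) := by
    intro q
    have : f.comp ev = π.comp (MvPolynomial.coeToMvPowerSeries.algHom R) := by
      refine MvPolynomial.algHom_ext fun i => ?_
      simp [ev, he, MvPolynomial.coeToMvPowerSeries.algHom_apply]
    simpa [MvPolynomial.coeToMvPowerSeries.algHom_apply] using AlgHom.congr_fun this q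
  have h4 : π (p - (MvPowerSeries.truncTotal n p : MvPowerSeries σ R)) ∈ m ^ n := by
    have := Ideal.mem_map_of_mem π (mem_pow_of_coeff_eq_zero n (p - (MvPowerSeries.truncTotal n p : MvPowerSeries σ R)) fun d hd => by
      rw [map_sub, MvPolynomial.coeff_coe, MvPowerSeries.coeff_truncTotal _ hd, sub_self])
    rw [Ideal.map_pow] at this
    refine Ideal.pow_right_mono ?_ n this
    rw [Ideal.map_span, Ideal.span_le]
    rintro _ ⟨_, ⟨i, rfl⟩, rfl⟩
    exact hXm i
  have := sub_mem h2 h4
  convert this using 1
  show f (l p) - π p = f (l p - ev (MvPowerSeries.truncTotal n p)) - _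
  rw [map_sub, map_sub, h3]; ring

end Groth.Agent.S16982
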