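import Groth.Statements.S16983
import Mathlib.Tactic

set_option autoImplicit false
universe u
open DeformData

namespace Groth.Agent.S16983

/-- Let p be a prime, s ≥ 1, B a finite index set with a subset B₀ of exactly three elements, m_j ≥ 1
integers coprime to p, and σ_{i,j} (i < s, j ∈ B) rational numbers with m_j σ_{i,j} an integer, such
that Σ_j (σ_{i,j} − 1) = −2 for every i, the fractional part of σ_{i,j} equals that of p^i σ_{0,j},
no σ_{i,j} equals 1, and the minimum over i of ⌊σ_{i,j}⌋ is 0 for j ∈ B₀ and 1 for j ∉ B₀. Then for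
every i the fractional parts ⟨σ_{i,j}⟩ sum over j to 1 (purity), and ⌊σ_{i,j}⌋ is 0 on B₀ and 1 off
B₀ for every i. (The hypotheses are exactly the properties of the signature of a special deformation
datum on the projective line: each entry is an integer divided by a stabilizer order m_j in a group
of order prime to p, the degree identity coming from Riemann–Hurwitz, the Frobenius-twist relation
between fractional parts, and the speciality conditions; the statement is given here for any such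
tuple.) -/
theorem result
    {B : Type u} [Fintype B] [DecidableEq B] (B₀ : Finset B) (hB₀ : B₀.card = 3)
    (p : ℕ) (hp : p.Prime) (s : ℕ) (hs : 0 < s)
    (m : B → ℕ) (hm : ∀ j, 0 < m j) (hmp : ∀ j, Nat.Coprime (m j) p)
    (σ : Fin s → B → ℚ) (hint : ∀ i j, ∃ h : ℤ, σ i j = (h : ℚ) / (m j : ℚ))
    (hsum : ∀ i, ∑ j, (σ i j - 1) = -2)
    (hfract : ∀ i j, Int.fract (σ i j) = Int.fract ((p : ℚ) ^ (i : ℕ) * σ ⟨0, hs⟩ j))
    (hne : ∀ i j, σ i j ≠ 1)
    (hB₀min : ∀ j ∈ B₀, (∃ i, ⌊σ i j⌋ = 0) ∧ ∀ i, 0 ≤ ⌊σ i j⌋)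
    (hBmin : ∀ j ∉ B₀, (∃ i, ⌊σ i j⌋ = 1) ∧ ∀ i, 1 ≤ ⌊σ i j⌋) :
    (∀ i, ∑ j, Int.fract (σ i j) = 1) ∧ (∀ i j, ⌊σ i j⌋ = if j ∈ B₀ then 0 else 1) := by
  classical
  have hfl : ∀ i j, (if j ∈ B₀ then (0 : ℤ) else 1) ≤ ⌊σ i j⌋ := by
    intro i j
    split_ifs with h
    · exact (hB₀min j h).2 i
    · exact (hBmin j h).2 i
  have hcard : ∑ j : B, (if j ∈ B₀ then (0 : ℤ) else 1) = (Fintype.card B : ℤ) - 3 := by
    have e : ∀ j : B, (if j ∈ B₀ then (0 : ℤ) else 1) = 1 - (if j ∈ B₀ then (1 : ℤ) else 0) := fun j => by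
      split_ifs <;> simp
    simp only [e, Finset.sum_sub_distrib, Finset.sum_boole, Finset.sum_const, Finset.card_univ,
      Finset.filter_mem_eq_inter, Finset.univ_inter, hB₀, nsmul_eq_mul, mul_one, Nat.cast_ofNat]
  have hsum' : ∀ i, ∑ j, Int.fract (σ i j) = (((Fintype.card B : ℤ) - 2 - ∑ j, ⌊σ i j⌋ : ℤ) : ℚ) := by
    intro i
    have h := hsum i
    rw [Finset.sum_sub_distrib, Finset.sum_const, Finset.card_univ, nsmul_eq_mul, mul_one] at h
    have h2 : ∑ j, Int.fract (σ i j) + ((∑ j, ⌊σ i j⌋ : ℤ) : ℚ) = ∑ j, σ i j := by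
      rw [Int.cast_sum, ← Finset.sum_add_distrib]
      exact Finset.sum_congr rfl fun j _ => Int.fract_add_floor _
    push_cast at h2 ⊢
    linarith
  have hle : ∀ i, (Fintype.card B : ℤ) - 3 ≤ ∑ j, ⌊σ i j⌋ := fun i =>
    hcard ▸ Finset.sum_le_sum fun j _ => hfl i j
  have hzero : ∀ i j, Int.fract (σ i j) = 0 → Int.fract (σ ⟨0, hs⟩ j) = 0 := by
    intro i j h
    rw [hfract] at h
    obtain ⟨c, hc⟩ := Int.fract_eq_zero_iff.mp h
    obtain ⟨a, ha⟩ := hint ⟨0, hs⟩ j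
    have hmq : (m j : ℚ) ≠ 0 := Nat.cast_ne_zero.mpr (hm j).ne'
    have hdvd : (m j : ℤ) ∣ (p : ℤ) ^ (i : ℕ) * a := by
      refine ⟨c, ?_⟩
      rw [ha] at hc
      field_simp at hc
      have : (((p : ℤ) ^ (i : ℕ) * a : ℤ) : ℚ) = (((m j : ℤ) * c : ℤ) : ℚ) := by push_cast; linarith
      exact_mod_cast this
    have hco : IsCoprime (m j : ℤ) ((p : ℤ) ^ (i : ℕ)) :=
      (Int.isCoprime_iff_nat_coprime.mpr (by simpa using hmp j)).pow_right
    obtain ⟨b, hb⟩ := hco.dvd_of_dvd_mul_left hdvd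
    rw [ha, hb]
    push_cast
    rw [mul_div_cancel_left₀ _ hmq, Int.fract_intCast]
  have hF : ∀ i, ∑ j, ⌊σ i j⌋ = (Fintype.card B : ℤ) - 3 := by
    intro i
    refine le_antisymm ?_ (hle i)
    by_contra hlt
    push Not at hlt
    have hnn : 0 ≤ ∑ j, Int.fract (σ i j) := Finset.sum_nonneg fun j _ => Int.fract_nonneg _
    have hall : ∑ j, Int.fract (σ i j) = 0 := by
      rw [hsum'] at hnn ⊢
      have h0 : (0 : ℤ) ≤ (Fintype.card B : ℤ) - 2 - ∑ j, ⌊σ i j⌋ := by exact_mod_cast hnn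
      exact_mod_cast (show (Fintype.card B : ℤ) - 2 - ∑ j, ⌊σ i j⌋ = 0 by omega)
    have hint' : ∀ l j, σ l j = ⌊σ l j⌋ := by
      intro l j
      have h1 := hzero i j ((Finset.sum_eq_zero_iff_of_nonneg fun j _ => Int.fract_nonneg _).mp hall j (Finset.mem_univ j))
      obtain ⟨c, hc⟩ := Int.fract_eq_zero_iff.mp h1
      have h2 : Int.fract (σ l j) = 0 := by
        rw [hfract, ← hc, show ((p : ℚ) ^ (l : ℕ) * (c : ℚ)) = (((p : ℤ) ^ (l : ℕ) * c : ℤ) : ℚ) by push_cast; rfl,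
          Int.fract_intCast]
      have := Int.fract_add_floor (σ l j)
      linarith
    have hne' : ∀ l j, ⌊σ l j⌋ ≠ 1 := fun l j h => hne l j (by rw [hint' l j, h, Int.cast_one])
    have hB : ∀ j, j ∈ B₀ := fun j => by
      by_contra h
      obtain ⟨l, hl⟩ := (hBmin j h).1
      exact hne' l j hl
    have h3 : (Fintype.card B : ℤ) = 3 := by
      rw [← Finset.card_univ, show (Finset.univ : Finset B) = B₀ from (Finset.eq_univ_iff_forall.mpr hB).symm, hB₀]; rfl
    have hs1 : ∑ j, ⌊σ i j⌋ = 1 := by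
      rw [hsum'] at hall
      have : (Fintype.card B : ℤ) - 2 - ∑ j, ⌊σ i j⌋ = 0 := by exact_mod_cast hall
      omega
    have hnn' : ∀ j ∈ (Finset.univ : Finset B), 0 ≤ ⌊σ i j⌋ := fun j _ => (hB₀min j (hB j)).2 i
    obtain ⟨j, -, hj⟩ := Finset.exists_ne_zero_of_sum_ne_zero (by rw [hs1]; norm_num : ∑ j, ⌊σ i j⌋ ≠ 0)
    have h4 := Finset.single_le_sum hnn' (Finset.mem_univ j)
    rw [hs1] at h4
    have := hnn' j (Finset.mem_univ j)
    exact hne' i j (by omega)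
  refine ⟨fun i => by rw [hsum', hF]; push_cast; ring, fun i j => ?_⟩
  have h := ((Finset.sum_eq_sum_iff_of_le fun j _ => hfl i j).mp (by rw [hcard, hF i])) j (Finset.mem_univ j)
  exact h.symm

end Groth.Agent.S16983
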