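import Groth.Statements.S16990
import Groth.Prelude.Def_QuadGrp
import Groth.Agent.Quad37.Even

set_option autoImplicit false
universe u v
open QuadGrp

namespace Groth.Agent.S16990

/-- Comparison with SO′: over a commutative ring in which 2 is invertible, for a quadratic form Q on a
finite free module of even rank 2m ≥ 2 whose polar form is a perfect pairing, the isometries
satisfying the Dickson condition are exactly the isometries of determinant one. -/
theorem result {R : Type u} [CommRing R] [Invertible (2 : R)]
    {M : Type v} [AddCommGroup M] [Module R M] [Module.Free R M] [Module.Finite R M]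
    (m : ℕ) (hm : 1 ≤ m) (hM : Module.finrank R M = 2 * m) (Q : QuadraticForm R M) (hQ : QuadGrp.IsRegular Q) :
    QuadGrp.SOeven Q = QuadGrp.SO' Q := by
  refine le_antisymm ?_ ?_
  · rintro g ⟨hg, hD⟩
    refine ⟨hg, ?_⟩
    obtain ⟨e, -, -, hd, hiff⟩ := Groth.Agent.Quad37.exists_parity m hM hQ hg
    rw [hiff.mp hD] at hd
    exact MonoidHom.mem_ker.mpr (Units.ext (hd.trans (by norm_num)))
  · rintro g ⟨hg, hdet⟩
    obtain ⟨e, -, -, hd, hiff⟩ := Groth.Agent.Quad37.exists_parity m hM hQ hg
    refine ⟨hg, hiff.mpr ?_⟩
    rw [MonoidHom.mem_ker.mp hdet, Units.val_one] at hd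
    have h2 : (2 : R) * e = 2 * 1 := by linear_combination -hd
    exact (isUnit_of_invertible (2 : R)).mul_left_cancel h2

end Groth.Agent.S16990
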