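import Groth.Statements.S16992
import Groth.Agent.Quad37.OddSplit
import Groth.Agent.Quad37.BaseChange

set_option autoImplicit false
universe u v
open QuadGrp

namespace Groth.Agent.S16992

/-- Let Q be a quadratic form on a free module with a basis indexed by Fin (2m+1) over a commutative
ring, whose half-discriminant in that basis is a unit. If z is a central element of the Clifford
algebra C(Q) which is odd for its ℤ/2-grading, then the principal anti-involution of C(Q) (the one
extending v ↦ −v on the module) sends z to (−1)^(m+1) z. Equivalently: on the centre this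
anti-involution is the identity when the rank is 3 mod 4, and is the involution negating the odd
part when the rank is 1 mod 4. -/
theorem result {R : Type u} [CommRing R] {M : Type v} [AddCommGroup M] [Module R M]
    (m : ℕ) (b : Module.Basis (Fin (2 * m + 1)) R M) (Q : QuadraticForm R M)
    (hQ : QuadGrp.IsSemiregular b (LinearEquiv.refl R R) Q)
    (z : CliffordAlgebra Q) (hz : z ∈ Subalgebra.center R (CliffordAlgebra Q))
    (hz1 : z ∈ CliffordAlgebra.evenOdd Q 1) :
    star z = ((-1 : R) ^ (m + 1)) • z := by
  refine sub_eq_zero.mp (Groth.Agent.Quad37.eq_zero_of_cliffBC b Q fun p hp => ?_)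
  obtain ⟨D⟩ := Groth.Agent.Quad37.exists_oddSplit (Pi.basisFun (Localization.AtPrime p) (Fin (2 * m + 1)))
    (Groth.Agent.Quad37.formBC b Q (Localization.AtPrime p)) (Groth.Agent.Quad37.isSemiregular_formBC b Q _ hQ)
  have hc := Groth.Agent.Quad37.cliffBC_central b Q (Localization.AtPrime p) (z := z)
    fun v => Subalgebra.mem_center_iff.mp hz _
  have h := D.star_odd_central (Groth.Agent.Quad37.cliffBC_mem b Q _ hz1) fun v => Subalgebra.mem_center_iff.mp hc _
  rw [map_sub, Groth.Agent.Quad37.cliffBC_star, h, map_smul, sub_eq_zero]
  rw [show ((-1 : Localization.AtPrime p) ^ (m + 1)) = algebraMap R (Localization.AtPrime p) ((-1) ^ (m + 1)) by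
    rw [map_pow, map_neg, map_one], algebraMap_smul]

end Groth.Agent.S16992
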