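import Groth.Statements.S16995
import Groth.Agent.Quad37.OddConj

set_option autoImplicit false
universe u v
open QuadGrp

namespace Groth.Agent.S16995

/-- Over a local ring, let Q be a quadratic form on a finite free module M with a basis indexed by Fin
(2m+1) whose half-discriminant in that basis is a unit. Then every isometry of Q of determinant one
is conjugation by a point of the even Clifford group: an even, locally homogeneous unit u of C(Q)
normalising M with u v u⁻¹ = g v for all v in M. (The published statement is the Zariski-exact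
sequence 1 → G_m → GSpin(q) → SO(q) → 1 of group schemes; over a local base its surjectivity is the
statement given.) -/
theorem result {R : Type u} [CommRing R] [IsLocalRing R]
    {M : Type v} [AddCommGroup M] [Module R M] [Module.Free R M] [Module.Finite R M]
    (m : ℕ) (b : Module.Basis (Fin (2 * m + 1)) R M) (Q : QuadraticForm R M)
    (hQ : QuadGrp.IsSemiregular b (LinearEquiv.refl R R) Q)
    (g : M ≃ₗ[R] M) (hg : g ∈ QuadGrp.SO' Q) :
    ∃ u ∈ QuadGrp.GSpin Q, ∀ v : M,
      (u : CliffordAlgebra Q) * CliffordAlgebra.ι Q v * ↑u⁻¹ = CliffordAlgebra.ι Q (g v) := by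
  obtain ⟨D⟩ := Groth.Agent.Quad37.exists_oddSplit b Q hQ
  obtain ⟨hgO, hdet⟩ := hg
  obtain ⟨u, hu0, hu⟩ := D.exists_conj hgO
  have h1 : LinearMap.det (g : M →ₗ[R] M) = 1 := by
    rw [← LinearEquiv.coe_det, MonoidHom.mem_ker.mp hdet, Units.val_one]
  simp only [h1, one_smul] at hu
  refine ⟨u, ⟨⟨Groth.Agent.Quad37.mem_GPin'_of_conj hu, ⟨1, IsIdempotentElem.one, ?_, ?_⟩⟩, hu0⟩, hu⟩
  · rw [one_smul]; exact hu0
  · rw [sub_self, zero_smul]; exact zero_mem _

end Groth.Agent.S16995
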