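import Groth.Statements.S16996
import Groth.Agent.Quad37.OddConj

set_option autoImplicit false
universe u v
open QuadGrp

namespace Groth.Agent.S16996

/-- Points over a local ring: over a local ring, let Q be a quadratic form on a finite free module M
with a basis indexed by Fin (2m+1) whose half-discriminant in that basis is a unit. Then every unit
of the Clifford algebra C(Q) normalising M is the product of a central unit of C(Q) and a point of
the even Clifford group (an even, locally homogeneous unit normalising M). (The published statement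
is the equality GPin′(q) = Z_q^× ×^{G_m} GSpin(q) of group schemes, a Zariski-local product
decomposition; over a local base it is the factorisation given.) -/
theorem result {R : Type u} [CommRing R] [IsLocalRing R]
    {M : Type v} [AddCommGroup M] [Module R M] [Module.Free R M] [Module.Finite R M]
    (m : ℕ) (b : Module.Basis (Fin (2 * m + 1)) R M) (Q : QuadraticForm R M)
    (hQ : QuadGrp.IsSemiregular b (LinearEquiv.refl R R) Q)
    (u' : (CliffordAlgebra Q)ˣ) (hu' : u' ∈ QuadGrp.GPin' Q) :
    ∃ z : CliffordAlgebra Q, z ∈ Subalgebra.center R (CliffordAlgebra Q) ∧ IsUnit z ∧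
      ∃ u ∈ QuadGrp.GSpin Q, (u' : CliffordAlgebra Q) = z * u := by
  obtain ⟨D⟩ := Groth.Agent.Quad37.exists_oddSplit b Q hQ
  obtain ⟨g, hg, hc⟩ := Groth.Agent.Quad37.exists_conj D.bas hu'
  have h1 : LinearMap.det (g : M →ₗ[R] M) = 1 :=
    Groth.Agent.Quad37.det_conj_of_odd D.bas (odd_two_mul_add_one m) hc
  obtain ⟨u, hu0, hu⟩ := D.exists_conj hg
  simp only [h1, one_smul] at hu
  refine ⟨((u' * u⁻¹ : (CliffordAlgebra Q)ˣ) : CliffordAlgebra Q), ?_, Units.isUnit _, u,
    ⟨⟨Groth.Agent.Quad37.mem_GPin'_of_conj hu, ⟨1, IsIdempotentElem.one, ?_, ?_⟩⟩, hu0⟩, ?_⟩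
  · rw [Subalgebra.mem_center_iff]
    have hv : ∀ w, CliffordAlgebra.ι Q w * ((u' * u⁻¹ : (CliffordAlgebra Q)ˣ) : CliffordAlgebra Q) =
        ((u' * u⁻¹ : (CliffordAlgebra Q)ˣ) : CliffordAlgebra Q) * CliffordAlgebra.ι Q w := by
      intro w
      obtain ⟨v, rfl⟩ := g.surjective w
      have e1 : CliffordAlgebra.ι Q (g v) * (u' : CliffordAlgebra Q) = u' * CliffordAlgebra.ι Q v := by
        rw [← hc v, mul_assoc, Units.inv_mul, mul_one]
      rw [Units.val_mul, ← mul_assoc, e1, ← hu v]
      simp only [mul_assoc, Units.inv_mul_cancel_left]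
    intro y
    induction y using CliffordAlgebra.induction with
    | algebraMap r => exact Algebra.commutes r _
    | ι v => exact hv v
    | mul x y hx hy => rw [mul_assoc, hy, ← mul_assoc, hx, mul_assoc]
    | add x y hx hy => rw [add_mul, mul_add, hx, hy]
  · rw [one_smul]; exact hu0
  · rw [sub_self, zero_smul]; exact zero_mem _
  · rw [← Units.val_mul, inv_mul_cancel_right]

end Groth.Agent.S16996
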