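import Groth.Statements.S16997
import Groth.Agent.Quad37.Centre

set_option autoImplicit false
universe u v
open QuadGrp

namespace Groth.Agent.S16997

/-- Over a commutative ring in which 2 is invertible, let Q be a quadratic form on a finite free module
with a basis indexed by Fin (2m+1), m odd (rank congruent to 3 mod 4), whose half-discriminant in
that basis is a unit. Then every unit of the Clifford algebra normalising the module and of Clifford
norm one is locally homogeneous: the Pin group equals the naive Pin group. (The published statement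
adds the converse: for rank 1 mod 4, or when 2 is not a unit on the base, the two group schemes
differ.) -/
theorem result {R : Type u} [CommRing R] [Invertible (2 : R)]
    {M : Type v} [AddCommGroup M] [Module R M] [Module.Free R M] [Module.Finite R M]
    (m : ℕ) (hm : Odd m) (b : Module.Basis (Fin (2 * m + 1)) R M) (Q : QuadraticForm R M)
    (hQ : QuadGrp.IsSemiregular b (LinearEquiv.refl R R) Q) :
    QuadGrp.Pin Q = QuadGrp.Pin' Q := by
  refine le_antisymm (inf_le_inf_right _ inf_le_left) ?_
  rintro u ⟨hu, hn⟩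
  refine ⟨⟨hu, ?_⟩, hn⟩
  replace hn := (QuadGrp.mem_normOne Q u).mp hn
  have hn' : (u : CliffordAlgebra Q) * star (u : CliffordAlgebra Q) = 1 := by
    rw [(Units.inv_eq_of_mul_eq_one_left hn).symm, Units.mul_inv]
  obtain ⟨g, hg, hc⟩ := Groth.Agent.Quad37.exists_conj b hu
  obtain ⟨u0, h0, u1, h1, hsum⟩ := Groth.Agent.Quad37.exists_parts (u : CliffordAlgebra Q)
  have hparts : ∀ v, CliffordAlgebra.ι Q (g v) * u0 = u0 * CliffordAlgebra.ι Q v ∧
      CliffordAlgebra.ι Q (g v) * u1 = u1 * CliffordAlgebra.ι Q v := fun v => by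
    have h : CliffordAlgebra.ι Q (g v) * (u : CliffordAlgebra Q) = u * CliffordAlgebra.ι Q v := by
      rw [← hc v, mul_assoc, Units.inv_mul, mul_one]
    rw [← hsum, mul_add, add_mul] at h
    have e : (CliffordAlgebra.ι Q (g v) * u1 - u1 * CliffordAlgebra.ι Q v) +
        (CliffordAlgebra.ι Q (g v) * u0 - u0 * CliffordAlgebra.ι Q v) = 0 := by
      rw [← sub_eq_zero.mpr h]; abel
    have hv := CliffordAlgebra.ι_mem_evenOdd_one Q v
    have hgv := CliffordAlgebra.ι_mem_evenOdd_one Q (g v)
    have h2 := Groth.Agent.Quad37.parts_zero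
      (sub_mem (Groth.Agent.Quad37.mul_mem_parity hgv h1 rfl) (Groth.Agent.Quad37.mul_mem_parity h1 hv rfl))
      (sub_mem (Groth.Agent.Quad37.mul_mem_parity hgv h0 rfl) (Groth.Agent.Quad37.mul_mem_parity h0 hv rfl)) e
    exact ⟨sub_eq_zero.mp h2.2, sub_eq_zero.mp h2.1⟩
  have s0 : star u0 ∈ CliffordAlgebra.evenOdd Q 0 := Groth.Agent.Quad37.star_mem_parity h0
  have s1 : star u1 ∈ CliffordAlgebra.evenOdd Q 1 := Groth.Agent.Quad37.star_mem_parity h1
  have hs0 : ∀ v, CliffordAlgebra.ι Q v * star u0 = star u0 * CliffordAlgebra.ι Q (g v) := fun v => by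
    have h := congrArg star (hparts v).1
    rw [star_mul, star_mul, CliffordAlgebra.star_ι, CliffordAlgebra.star_ι, mul_neg, neg_mul, neg_inj] at h
    exact h.symm
  have hz : Groth.Agent.Quad37.IsOddCentral (star u0 * u1) :=
    ⟨Groth.Agent.Quad37.mul_mem_parity s0 h1 (zero_add _), fun v => by
      rw [← mul_assoc, hs0, mul_assoc, (hparts v).2, ← mul_assoc]⟩
  have hsym := Groth.Agent.Quad37.star_oddCentral b hQ hz
  rw [star_mul, star_star, (Nat.even_add_one.mpr (Nat.not_even_iff_odd.mpr hm)).neg_one_pow, one_smul] at hsym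
  have hL : star u0 * u0 + star u1 * u1 = 1 ∧ star u0 * u1 + star u1 * u0 = 0 := by
    have e : (star u0 * u0 + star u1 * u1 - 1) + (star u0 * u1 + star u1 * u0) = 0 := by
      rw [← sub_eq_zero.mpr hn, ← hsum, star_add]; noncomm_ring
    have h2 := Groth.Agent.Quad37.parts_zero
      (sub_mem (add_mem (Groth.Agent.Quad37.mul_mem_parity s0 h0 rfl) (Groth.Agent.Quad37.mul_mem_parity s1 h1 rfl))
        Groth.Agent.Quad37.mem_even_one)
      (add_mem (Groth.Agent.Quad37.mul_mem_parity s0 h1 rfl) (Groth.Agent.Quad37.mul_mem_parity s1 h0 rfl)) e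
    exact ⟨sub_eq_zero.mp h2.1, h2.2⟩
  have hR : u0 * star u0 + u1 * star u1 = 1 := by
    have e : (u0 * star u0 + u1 * star u1 - 1) + (u0 * star u1 + u1 * star u0) = 0 := by
      rw [← sub_eq_zero.mpr hn', ← hsum, star_add]; noncomm_ring
    have h2 := Groth.Agent.Quad37.parts_zero
      (sub_mem (add_mem (Groth.Agent.Quad37.mul_mem_parity h0 s0 rfl) (Groth.Agent.Quad37.mul_mem_parity h1 s1 rfl))
        Groth.Agent.Quad37.mem_even_one)
      (add_mem (Groth.Agent.Quad37.mul_mem_parity h0 s1 rfl) (Groth.Agent.Quad37.mul_mem_parity h1 s0 rfl)) e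
    exact sub_eq_zero.mp h2.1
  have h01 : star u0 * u1 = 0 := by
    have h := hL.2
    rw [hsym, ← two_smul R] at h
    simpa [smul_smul] using congrArg ((⅟(2 : R)) • ·) h
  have h10 : star u1 * u0 = 0 := hsym.trans h01
  have hE := Groth.Agent.Quad37.even_central_scalar b hQ (z := star u0 * u0)
    (Groth.Agent.Quad37.mul_mem_parity s0 h0 rfl) fun v => by
      rw [← mul_assoc, hs0, mul_assoc, (hparts v).1, ← mul_assoc]
  set e := (Groth.Agent.Quad37.cbasis Q b).repr (star u0 * u0) ∅
  have he2 : IsIdempotentElem e := by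
    apply Groth.Agent.Quad37.algebraMap_injective Q b
    rw [map_mul, ← hE]
    calc star u0 * u0 * (star u0 * u0) = star u0 * (u0 * star u0) * u0 := by simp only [mul_assoc]
      _ = star u0 * u0 := by
        rw [eq_sub_of_add_eq hR, mul_sub, mul_one, sub_mul,
          show star u0 * (u1 * star u1) * u0 = (star u0 * u1) * (star u1 * u0) by simp only [mul_assoc], h01,
          zero_mul, sub_zero]
  have e0 : e • u0 = u0 := by
    rw [← Groth.Agent.Quad37.mul_scalar_eq, ← hE, ← mul_assoc, eq_sub_of_add_eq hR, sub_mul, one_mul, mul_assoc, h10,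
      mul_zero, sub_zero]
  have e1 : (1 - e) • u1 = u1 := by
    rw [← Groth.Agent.Quad37.mul_scalar_eq, map_sub, map_one, ← hE, show (1 : CliffordAlgebra Q) - star u0 * u0 = star u1 * u1
      from (eq_sub_of_add_eq' hL.1).symm, ← mul_assoc, eq_sub_of_add_eq' hR, sub_mul, one_mul, mul_assoc, h01,
      mul_zero, sub_zero]
  have e0' : (1 - e) • u0 = 0 := by rw [sub_smul, one_smul, e0, sub_self]
  have e1' : e • u1 = 0 := by
    rw [sub_smul, one_smul, sub_eq_self] at e1; exact e1
  refine ⟨e, he2, ?_, ?_⟩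
  · rw [← hsum, smul_add, e0, e1', add_zero]; exact h0
  · rw [← hsum, smul_add, e0', e1, zero_add]; exact h1

end Groth.Agent.S16997
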