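import Groth.Statements.S16999
import Groth.Agent.Quad37.OddSplit

set_option autoImplicit false
universe u v
open QuadGrp

namespace Groth.Agent.S16999

/-- Centre over a local base: over a local ring R, let Q be a quadratic form on a free module M with a
basis indexed by Fin (2m+1) whose half-discriminant in that basis is a unit. Then the centre of the
Clifford algebra C(Q) is generated by the square root of a unit: there is a central unit z, odd for
the ℤ/2-grading, with z² a scalar, such that 1, z are linearly independent and span the centre. (The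
published statement: the centre is a ℤ/2-graded locally free module of rank 2 with degree-0 part the
structure sheaf and degree-1 part an invertible sheaf squaring to it; over a local base this is the
form stated.) -/
theorem result {R : Type u} [CommRing R] [IsLocalRing R]
    {M : Type v} [AddCommGroup M] [Module R M]
    (m : ℕ) (b : Module.Basis (Fin (2 * m + 1)) R M) (Q : QuadraticForm R M)
    (hQ : QuadGrp.IsSemiregular b (LinearEquiv.refl R R) Q) :
    ∃ z : CliffordAlgebra Q, z ∈ Subalgebra.center R (CliffordAlgebra Q) ∧ z ∈ CliffordAlgebra.evenOdd Q 1 ∧ IsUnit z ∧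
      z * z ∈ (algebraMap R (CliffordAlgebra Q)).range ∧ LinearIndependent R ![(1 : CliffordAlgebra Q), z] ∧
      Subalgebra.toSubmodule (Subalgebra.center R (CliffordAlgebra Q)) = Submodule.span R {1, z} := by
  obtain ⟨D⟩ := Groth.Agent.Quad37.exists_oddSplit b Q hQ
  have hinj := Groth.Agent.Quad37.algebraMap_injective Q b
  refine ⟨D.ζ, D.ζ_center, D.ζ_mem, ⟨D.ζUnit, rfl⟩, ⟨D.ζ2, D.ζ_sq.symm⟩, ?_, ?_⟩
  · rw [LinearIndependent.pair_iff]
    intro r s h
    obtain ⟨h0, h1⟩ := Groth.Agent.Quad37.parts_zero (Submodule.smul_mem _ r Groth.Agent.Quad37.mem_even_one)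
      (Submodule.smul_mem _ s D.ζ_mem) h
    refine ⟨Groth.Agent.Quad37.algebraMap_injective Q b (by rw [map_zero, Algebra.algebraMap_eq_smul_one, h0]), hinj ?_⟩
    have h2 : s • (D.ζ * (↑D.ζUnit⁻¹ : CliffordAlgebra Q)) = 0 := by rw [← smul_mul_assoc, h1, zero_mul]
    rw [show D.ζ * (↑D.ζUnit⁻¹ : CliffordAlgebra Q) = 1 from D.ζUnit.mul_inv] at h2
    rw [map_zero, Algebra.algebraMap_eq_smul_one, h2]
  · refine le_antisymm ?_ (Submodule.span_le.mpr ?_)
    · intro z hz
      obtain ⟨z0, h0, z1, h1, rfl⟩ := Groth.Agent.Quad37.exists_parts z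
      have hparts : ∀ v, CliffordAlgebra.ι Q v * z0 = z0 * CliffordAlgebra.ι Q v ∧
          CliffordAlgebra.ι Q v * z1 = z1 * CliffordAlgebra.ι Q v := fun v => by
        have h := (Subalgebra.mem_center_iff (R := R)).mp ((Subalgebra.mem_toSubmodule _).mp hz) (CliffordAlgebra.ι Q v)
        have hv := CliffordAlgebra.ι_mem_evenOdd_one Q v
        have e : (CliffordAlgebra.ι Q v * z1 - z1 * CliffordAlgebra.ι Q v) +
            (CliffordAlgebra.ι Q v * z0 - z0 * CliffordAlgebra.ι Q v) = 0 := by
          rw [← sub_eq_zero.mpr h]; noncomm_ring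
        have h2 := Groth.Agent.Quad37.parts_zero
          (sub_mem (Groth.Agent.Quad37.mul_mem_parity hv h1 rfl) (Groth.Agent.Quad37.mul_mem_parity h1 hv rfl))
          (sub_mem (Groth.Agent.Quad37.mul_mem_parity hv h0 rfl) (Groth.Agent.Quad37.mul_mem_parity h0 hv rfl)) e
        exact ⟨sub_eq_zero.mp h2.2, sub_eq_zero.mp h2.1⟩
      obtain ⟨s, hs⟩ := D.odd_central h1 fun v => (hparts v).2
      rw [D.even_comm_eq_scal h0 fun v => (hparts v).1, hs, Algebra.algebraMap_eq_smul_one]
      exact Submodule.add_mem _ (Submodule.smul_mem _ _ (Submodule.subset_span (Or.inl rfl)))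
        (Submodule.smul_mem _ _ (Submodule.subset_span (Or.inr rfl)))
    · rintro x (rfl | rfl)
      · exact Subalgebra.one_mem _
      · exact D.ζ_center

end Groth.Agent.S16999
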