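import Groth.Statements.S17000
import Groth.Agent.Quad37.SplitEven
import Mathlib.Data.Nat.Prime.Int

set_option autoImplicit false
open CategoryTheory AlgebraicGeometry
open QuadGrp

namespace Groth.Agent.S17000

/-- For m ≥ 1, a group scheme over Spec ℤ which is the naive special orthogonal group (kernel of the
determinant on the orthogonal group) of the standard split quadratic form in 2m variables is a
reduced scheme and is not flat over ℤ. (The published statement also identifies the complement of
the Dickson special orthogonal group inside it with the non-identity component of the orthogonal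
group in characteristic 2.) -/
theorem result (m : ℕ) (hm : 1 ≤ m)
    (G : Over (Spec (CommRingCat.of ℤ))) [GrpObj G] (D : QuadGrp.SOrth'Rep (QuadGrp.splitForm ℤ (2 * m)) G) :
    AlgebraicGeometry.IsReduced G.left ∧ ¬ AlgebraicGeometry.Flat G.hom := by
  have hQ := Quad37.isRegular_splitForm_even ℤ m
  have hn : Even (2 * m) := even_two_mul m
  haveI : (Ideal.span {(2 : ℤ)}).IsPrime :=
    (Ideal.span_singleton_prime (by norm_num)).mpr Int.prime_two
  refine ⟨Quad37.isReduced_sorth' (Pi.basisFun ℤ (Fin (2 * m))) _ D hQ hn,
    Quad37.not_flat_sorth' (by norm_num) (Pi.basisFun ℤ (Fin (2 * m))) _ D hQ hn (ZMod 2) rfl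
      (fun j => if j.val < 2 then 1 else 0) ?_⟩
  rw [Quad37.splitForm_even_apply, Finset.sum_eq_single (⟨0, hm⟩ : Fin m)]
  · simp
  · intro k _ hk
    have : k.val ≠ 0 := fun h => hk (Fin.ext h)
    simp [show ¬ 2 * k.val < 2 by omega]
  · exact fun h => absurd (Finset.mem_univ _) h

end Groth.Agent.S17000
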