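import Groth.Statements.S17006
import Groth.Agent.Quad37.Centraliser

set_option autoImplicit false
universe u
open scoped TensorProduct
open QuadGrp

namespace Groth.Agent.S17006

/-- Let Q be a quadratic form on R^{2m}, m ≥ 2, over a commutative ring R, whose polar form is a perfect
pairing. An isometry g of Q satisfying the Dickson condition commutes, after base change to every
R-algebra A, with every isometry of Q_A satisfying the Dickson condition if and only if g is
multiplication by a scalar whose square is one. (Points-level form of: for even rank at least 4 the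
functorial centre of the special orthogonal group is the central μ₂ and coincides with that of the
naive one.) -/
theorem result (R : Type u) [CommRing R] (m : ℕ) (hm : 2 ≤ m)
    (Q : QuadraticForm R (Fin (2 * m) → R)) (hQ : QuadGrp.IsRegular Q)
    (g : (Fin (2 * m) → R) ≃ₗ[R] (Fin (2 * m) → R)) (hg : g ∈ QuadGrp.SO Q) :
    (∀ (A : Type u) [CommRing A] [Algebra R A], ∀ h ∈ QuadGrp.sorth Q A,
        g.baseChange R A (Fin (2 * m) → R) (Fin (2 * m) → R) * h = h * g.baseChange R A (Fin (2 * m) → R) (Fin (2 * m) → R)) ↔
      ∃ c : R, c * c = 1 ∧ ∀ v, g v = c • v := by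
  constructor
  · intro h
    rcases subsingleton_or_nontrivial R with hR | hR
    · exact ⟨1, one_mul 1, fun v => Subsingleton.elim _ _⟩
    have hQ' : QuadGrp.IsNondeg (Pi.basisFun R (Fin (2 * m))) (LinearEquiv.refl R R) Q :=
      ⟨fun _ => hQ, fun ho => absurd (even_two_mul m) (Nat.not_even_iff_odd.mpr ho)⟩
    have hgO : g ∈ QuadGrp.O Q := by
      rw [QuadGrp.SO, if_pos (by rw [Module.finrank_fin_fun]; exact even_two_mul m)] at hg
      exact hg.1
    have hs := Groth.Agent.Quad37.star_of_commute Q (A := DualNumber R) (e := DualNumber.eps) DualNumber.eps_mul_eps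
      (TrivSqZeroExt.sndHom R R) DualNumber.snd_eps hgO fun u v => h (DualNumber R) _ (by
        have hu := (Groth.Agent.Quad37.infAut_mem_sorth' (Pi.basisFun R (Fin (2 * m))) Q
          (A := DualNumber R) (e := DualNumber.eps) DualNumber.eps_mul_eps hQ' u v).2 (even_two_mul m)
        rw [QuadGrp.sorth, QuadGrp.SO, if_pos (by
          rw [Module.finrank_eq_card_basis (Algebra.TensorProduct.basis (DualNumber R) (Pi.basisFun R (Fin (2 * m)))),
            Fintype.card_fin]
          exact even_two_mul m)]
        exact ⟨_, hu⟩)
    exact Groth.Agent.Quad37.scalar_of_star_regular (by omega) (Pi.basisFun R (Fin (2 * m))) hQ g hs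
  · rintro ⟨c, -, hv⟩ A _ _ h -
    exact Groth.Agent.Quad37.commute_of_scalar g c hv h

end Groth.Agent.S17006
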