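import Groth.Statements.S17007
import Groth.Agent.Quad37.Local
import Groth.Agent.Quad37.Even

set_option autoImplicit false
universe u v
open QuadGrp

namespace Groth.Agent.S17007

/-- Over a local ring, for a quadratic form Q on a finite free module of even rank 2m ≥ 2 whose polar
form is a perfect pairing, the isometries satisfying the Dickson condition form a subgroup of index
2 in the group of all isometries. (Points-level form, over a local base, of: the Dickson invariant
from the orthogonal group onto the constant group ℤ/2 is surjective with kernel the special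
orthogonal group.) -/
theorem result {R : Type u} [CommRing R] [IsLocalRing R]
    {M : Type v} [AddCommGroup M] [Module R M] [Module.Free R M] [Module.Finite R M]
    (m : ℕ) (hm : 1 ≤ m) (hM : Module.finrank R M = 2 * m) (Q : QuadraticForm R M) (hQ : QuadGrp.IsRegular Q) :
    ((QuadGrp.SOeven Q).subgroupOf (QuadGrp.O Q)).index = 2 := by
  have b := Module.finBasisOfFinrankEq R M hM
  have hn := even_two_mul m
  have key : ∀ (g : M ≃ₗ[R] M) (hg : g ∈ QuadGrp.O Q) (u : (CliffordAlgebra Q)ˣ) (i : ZMod 2),
      (u : CliffordAlgebra Q) ∈ Groth.Agent.Quad37.Tw Q g → (u : CliffordAlgebra Q) ∈ CliffordAlgebra.evenOdd Q i →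
      (g ∈ QuadGrp.SOeven Q ↔ i = 0) := by
    intro g hg u i hu hi
    obtain ⟨e, he⟩ := Groth.Agent.Quad37.exists_isParity b hQ hg
    have hiff := Groth.Agent.Quad37.dickson_iff b hQ hn hg he
    constructor
    · rintro ⟨_, hD⟩
      obtain rfl := hiff.mp hD
      exact he.even_of_eq_one b hu hi
    · rintro rfl
      refine ⟨hg, hiff.mpr ?_⟩
      rcases Groth.Agent.Quad37.idem_zero_or_one_of_local he.1 with h | h
      · subst h
        exact absurd (he.odd_of_eq_zero b hu hi) (by decide)
      · exact h
  obtain ⟨v, c, hc⟩ := Groth.Agent.Quad37.exists_isUnit_value b hQ ⟨0, by omega⟩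
  set a := Groth.Agent.Quad37.refl Q v c hc.symm with ha
  have haO : a ∈ QuadGrp.O Q := Groth.Agent.Quad37.refl_mem v c hc.symm
  rw [Subgroup.index_eq_two_iff]
  refine ⟨⟨a, haO⟩, fun g => ?_⟩
  obtain ⟨u, i, hu, hi⟩ := Groth.Agent.Quad37.exists_unit_Tw b hQ g.2
  have h1 := key g g.2 u i hu hi
  have h2 := key (g * a) ((QuadGrp.O Q).mul_mem g.2 haO) (u * Groth.Agent.Quad37.ιUnit v c hc.symm) (i + 1)
    (by rw [Units.val_mul]; exact Groth.Agent.Quad37.Tw_mul hu (Groth.Agent.Quad37.ι_mem_Tw_refl v c hc.symm))
    (by rw [Units.val_mul]; exact Groth.Agent.Quad37.mul_mem_parity hi (CliffordAlgebra.ι_mem_evenOdd_one Q v) rfl)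
  simp only [Subgroup.mem_subgroupOf, Subgroup.coe_mul, h1, h2]
  rcases (show ∀ a : ZMod 2, a = 0 ∨ a = 1 by decide) i with h | h <;> subst h <;> decide

end Groth.Agent.S17007
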