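import Groth.Statements.S17009
import Groth.Agent.Quad37.Parity

set_option autoImplicit false
universe u v
open QuadGrp

namespace Groth.Agent.S17009

/-- For a quadratic form Q on a finite free module M of even rank 2m ≥ 2 over a commutative ring whose
polar form is a perfect pairing, every unit of the Clifford algebra normalising M is locally
homogeneous for the ℤ/2-grading (some idempotent e of the base has e u even and (1 − e) u odd), so
the naive Clifford group is contained in, hence equal to, the Clifford group of locally homogeneous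
normalising units. (False for degenerate forms: for the zero form on a rank-two module over the
field with two elements, 1 + v normalises the module and is not locally homogeneous.) -/
theorem result {R : Type u} [CommRing R] {M : Type v} [AddCommGroup M] [Module R M] [Module.Free R M] [Module.Finite R M]
    (m : ℕ) (hm : 1 ≤ m) (hM : Module.finrank R M = 2 * m) (Q : QuadraticForm R M) (hQ : QuadGrp.IsRegular Q) :
    QuadGrp.GPin' Q ≤ QuadGrp.LH Q := by
  intro u hu
  by_cases hR : Subsingleton R
  · haveI := hR
    haveI := Module.subsingleton R (CliffordAlgebra Q)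
    refine ⟨1, IsIdempotentElem.one, ?_, ?_⟩
    all_goals rw [Subsingleton.elim (_ • (u : CliffordAlgebra Q)) 0]; exact zero_mem _
  rw [not_subsingleton_iff_nontrivial] at hR
  have b := Module.finBasisOfFinrankEq R M hM
  have hn := even_two_mul m
  obtain ⟨g, hg, hc⟩ := Groth.Agent.Quad37.exists_conj b hu
  have hcomm : ∀ v, CliffordAlgebra.ι Q (g v) * (u : CliffordAlgebra Q) = u * CliffordAlgebra.ι Q v := fun v => by
    rw [← hc v, mul_assoc, Units.inv_mul, mul_one]
  obtain ⟨u0, h0, u1, h1, hsum⟩ := Groth.Agent.Quad37.exists_parts (u : CliffordAlgebra Q)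
  have hparts : ∀ v, CliffordAlgebra.ι Q (g v) * u0 = u0 * CliffordAlgebra.ι Q v ∧
      CliffordAlgebra.ι Q (g v) * u1 = u1 * CliffordAlgebra.ι Q v := fun v => by
    have h := hcomm v
    rw [← hsum, mul_add, add_mul] at h
    have e : (CliffordAlgebra.ι Q (g v) * u1 - u1 * CliffordAlgebra.ι Q v) +
        (CliffordAlgebra.ι Q (g v) * u0 - u0 * CliffordAlgebra.ι Q v) = 0 := by
      rw [← sub_eq_zero.mpr h]; abel
    have hv := CliffordAlgebra.ι_mem_evenOdd_one Q v
    have hgv := CliffordAlgebra.ι_mem_evenOdd_one Q (g v)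
    have h2 := Groth.Agent.Quad37.parts_zero
      (sub_mem (Groth.Agent.Quad37.mul_mem_parity hgv h1 rfl) (Groth.Agent.Quad37.mul_mem_parity h1 hv rfl))
      (sub_mem (Groth.Agent.Quad37.mul_mem_parity hgv h0 rfl) (Groth.Agent.Quad37.mul_mem_parity h0 hv rfl)) e
    exact ⟨sub_eq_zero.mp h2.2, sub_eq_zero.mp h2.1⟩
  have hu0 : u0 ∈ Groth.Agent.Quad37.Tw Q g := Groth.Agent.Quad37.mem_Tw.mpr fun v => by
    rw [CliffordAlgebra.involute_eq_of_mem_even h0]; exact (hparts v).1
  have hu1 : u1 ∈ Groth.Agent.Quad37.Tw Q (Groth.Agent.Quad37.negOne R M * g) :=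
    Groth.Agent.Quad37.mem_Tw.mpr fun v => by
      rw [CliffordAlgebra.involute_eq_of_mem_odd h1, LinearEquiv.mul_apply, Groth.Agent.Quad37.negOne_apply,
        map_neg, neg_mul, (hparts v).2, neg_mul]
  obtain ⟨e, he⟩ := Groth.Agent.Quad37.exists_isParity b hQ hg
  have hneg := Groth.Agent.Quad37.isParity_negOne b hQ hn
  obtain ⟨P⟩ := Groth.Agent.Quad37.exists_pairs b hQ (Groth.Agent.Quad37.negOne_mem (Q := Q))
  have hkey : e • u1 = 0 := by
    calc e • u1 = e • ((∑ k, algebraMap R (CliffordAlgebra Q) (P.r k)) * u1) := by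
          rw [← map_sum, P.sum_r, map_one, one_mul]
      _ = 0 := by
          rw [Finset.sum_mul, Finset.smul_sum]
          refine Finset.sum_eq_zero fun k _ => ?_
          rw [← P.qp k, mul_assoc, ← mul_smul_comm]
          rcases (show ∀ a : ZMod 2, a = 0 ∨ a = 1 by decide) (P.par k) with h | h
          · have hp := h ▸ P.p_par k
            have hmem := Groth.Agent.Quad37.Tw_mul (P.p_mem k) hu1
            rw [show Groth.Agent.Quad37.negOne R M * (Groth.Agent.Quad37.negOne R M * g) = g by
              ext v; simp] at hmem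
            rw [he.odd_fix hmem (Groth.Agent.Quad37.mul_mem_parity hp h1 rfl), mul_zero]
          · have := hneg.odd_fix (P.p_mem k) (h ▸ P.p_par k)
            rw [one_smul] at this
            rw [this, zero_mul, smul_zero, mul_zero]
  have hfix := he.even_fix hu0 h0
  refine ⟨e, he.1, ?_, ?_⟩
  · rw [← hsum, smul_add, hkey, add_zero, hfix]; exact h0
  · rw [← hsum, sub_smul, one_smul, smul_add, hkey, add_zero, hfix, add_sub_cancel_left]; exact h1

end Groth.Agent.S17009
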