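import Groth.Statements.S17016
import Groth.Agent.Quad37.Planes

set_option autoImplicit false
universe u
open QuadGrp

namespace Groth.Agent.S17016

/-- For the standard split quadratic form Σ x_{2i} x_{2i+1} on R^{2m} over any commutative ring R, with
standard basis vectors e_j in the Clifford algebra, the product w of the elements 1 − 2 e_{2i}
e_{2i+1} (i < m, which pairwise commute) satisfies w² = 1 and anticommutes with every e_j. (Hence w
is central in the even Clifford algebra; over rings in which 2 is invertible (1 − w)/2 is the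
non-trivial central idempotent of the even part.) -/
theorem result (R : Type u) [CommRing R] (m : ℕ) :
    let Q := QuadGrp.splitForm R (m * 2)
    let e : Fin (m * 2) → CliffordAlgebra Q := fun j => CliffordAlgebra.ι Q (Pi.single j 1)
    let w : CliffordAlgebra Q :=
      ((List.finRange m).map fun i => 1 - 2 * (e (finProdFinEquiv (i, 0)) * e (finProdFinEquiv (i, 1)))).prod
    w * w = 1 ∧ ∀ j : Fin (m * 2), e j * w = -(w * e j) := by
  intro Q e w
  classical
  have hn : (m * 2) % 2 = 0 := by omega
  have hd : (m * 2) / 2 = m := by omega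
  have hQ : ∀ x, Q x = ∑ i : Fin m, x (finProdFinEquiv (i, 0)) * x (finProdFinEquiv (i, 1)) := fun x => by
    simp only [Q, QuadGrp.splitForm, dif_neg (show ¬ (m * 2) % 2 = 1 by omega), add_zero, sum_apply,
      QuadraticMap.linMulLin_apply, LinearMap.proj_apply]
    refine Fintype.sum_equiv (finCongr hd) _ _ fun i => ?_
    congr 2 <;> refine Fin.ext ?_ <;> simp <;> omega
  have hval : ∀ j, Q (Pi.single j 1) = 0 := fun j => by
    rw [hQ]
    refine Finset.sum_eq_zero fun i _ => ?_
    simp only [Pi.single_apply]
    split_ifs with h1 h2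
    · exact absurd (finProdFinEquiv.injective (h1.trans h2.symm)) (by simp)
    all_goals simp
  have hpol : ∀ i k : Fin m, ∀ s t : Fin 2, QuadraticMap.polar Q (Pi.single (finProdFinEquiv (i, s)) 1)
      (Pi.single (finProdFinEquiv (k, t)) 1) = if i = k ∧ s ≠ t then 1 else 0 := by
    intro i k s t
    rw [QuadraticMap.polar, hQ, hQ, hQ, ← Finset.sum_sub_distrib, ← Finset.sum_sub_distrib, Finset.sum_eq_single i]
    · fin_cases s <;> fin_cases t <;> by_cases hik : i = k <;>
        simp [hik, Pi.single_apply, (finProdFinEquiv (m := m) (n := 2)).injective.eq_iff, Ne.symm]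
    · intro l _ hl
      fin_cases s <;> fin_cases t <;> by_cases hlk : l = k <;>
        simp_all [Pi.single_apply, (finProdFinEquiv (m := m) (n := 2)).injective.eq_iff, Ne.symm hl]
    · simp
  let P : Groth.Agent.Quad37.PlaneFam Q m := ⟨fun i => Pi.single (finProdFinEquiv (i, 0)) 1,
    fun i => Pi.single (finProdFinEquiv (i, 1)) 1, fun i => by simp [hpol],
    fun i => by simp [hval], fun i k h => by simp [hpol, h]⟩
  have hw : w = P.w := by
    simp only [w, Groth.Agent.Quad37.PlaneFam.w, Groth.Agent.Quad37.wList, Groth.Agent.Quad37.wElt, e, P]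
    refine congrArg List.prod (List.map_congr_left fun i _ => ?_)
    rw [two_mul, two_smul]
  refine ⟨?_, fun j => ?_⟩
  · rw [hw, P.w_sq, show P.w2 = 1 from List.prod_eq_one fun x hx => by
      obtain ⟨i, -, rfl⟩ := List.mem_map.mp hx
      simp [P, hval], map_one]
  · rw [hw]
    refine P.w_anti (Submodule.subset_span ?_)
    obtain ⟨⟨i, s⟩, rfl⟩ := finProdFinEquiv.surjective j
    rcases (show ∀ s : Fin 2, s = 0 ∨ s = 1 by decide) s with rfl | rfl
    · exact Or.inl ⟨i, rfl⟩
    · exact Or.inr ⟨i, rfl⟩

end Groth.Agent.S17016
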