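import Groth.Statements.S17021
import Groth.Agent.Desc59.Pic.ExtDescend
import Groth.Agent.CAlg1.SerreNormal

set_option autoImplicit false
universe u
open CategoryTheory CategoryTheory.Limits AlgebraicGeometry
open PicF

namespace Groth.Agent.S17021

/-- Let X be a locally Noetherian scheme all of whose local rings satisfy Serre's condition (S₂), p a
closed point of X whose local ring has Krull dimension 2, U the open complement of p and L an
invertible O_U-module. Suppose L extends to an invertible module over an étale neighbourhood of p:
there are an étale morphism j : V → X, a point q of V with j(q) = p and an invertible O_V-module M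
whose pullback to j⁻¹(U) is isomorphic to the pullback of L along j⁻¹(U) → U. Then L extends to X:
some invertible O_X-module has pullback to U isomorphic to L. (Stated for schemes; the published
statement is for a Deligne–Mumford stack of dimension 2 satisfying (S₂) and its proof passes to a
scheme on an étale chart. Dimension 2 is imposed here on the local ring at p. The published setting
takes everything essentially of finite type over a field of characteristic zero; here X is only
assumed locally Noetherian.) -/
theorem result {X : Scheme.{u}} [IsLocallyNoetherian X]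
    (hS2 : ∀ x : X, LocCoh.HasSk 2 (X.presheaf.stalk x) (X.presheaf.stalk x))
    (p : X) (hp : IsClosed ({p} : Set X)) (hdim : ringKrullDim (X.presheaf.stalk p) = 2)
    (U : X.Opens) (hU : (U : Set X) = {p}ᶜ)
    (L : (U : Scheme.{u}).Modules) (hL : PicF.IsInvertible L)
    {V : Scheme.{u}} (j : V ⟶ X) [Etale j] (q : V) (hq : j.base q = p)
    (M : V.Modules) (hM : PicF.IsInvertible M)
    (e : (Scheme.Modules.pullback (j ⁻¹ᵁ U).ι).obj M ≅ (Scheme.Modules.pullback (j ∣_ U)).obj L) :
    ∃ N : X.Modules, PicF.IsInvertible N ∧ Nonempty ((Scheme.Modules.pullback U.ι).obj N ≅ L) := by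
  haveI : IsLocallyNoetherian V := LocallyOfFiniteType.isLocallyNoetherian j
  haveI : IsNoetherianRing (X.presheaf.stalk p) := inferInstance
  have hd : ∀ x : X, x ∉ U → 2 ≤ LocCoh.depth (X.presheaf.stalk x) (X.presheaf.stalk x) := by
    intro x hx
    obtain rfl : x = p := by
      by_contra h
      exact hx (show x ∈ (U : Set X) by rw [hU]; exact h)
    let A := X.presheaf.stalk x
    let m := IsLocalRing.maximalIdeal A
    have h := hS2 x m
    rw [Groth.Agent.CAlg1.depth_locSelf, Groth.Agent.CAlg1.supportDim_locSelf,
      IsLocalRing.maximalIdeal_height_eq_ringKrullDim, hdim] at h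
    haveI : IsNoetherianRing (Localization.AtPrime m) := IsLocalization.isNoetherianRing m.primeCompl _ inferInstance
    let e : A ≃+* Localization.AtPrime m := (IsLocalization.atUnits A m.primeCompl (S := Localization.AtPrime m)
      (fun y hy => not_not.1 fun hu => hy ((IsLocalRing.mem_maximalIdeal y).2 hu))).toRingEquiv
    rw [Groth.Agent.CAlg1.depth_eq_of_ringEquiv e]
    have h' : ((2 : ℕ∞) : WithBot ℕ∞) ≤ ((LocCoh.depth (Localization.AtPrime m) (Localization.AtPrime m) : ℕ∞) : WithBot ℕ∞) := by
      simpa using h
    exact WithBot.coe_le_coe.1 h'
  exact ⟨_, Groth.Agent.Desc59.Pic.isInvertible_push_of_pullback_ext j U hd (fun x hx => ⟨q, by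
      have : x = p := by
        by_contra h
        exact hx (show x ∈ (U : Set X) by rw [hU]; exact h)
      exact hq.trans this.symm⟩) L hL M hM e,
    ⟨((Scheme.Modules.restrictFunctorIsoPullback U.ι).app _).symm ≪≫
      asIso ((Scheme.Modules.restrictAdjunction U.ι).counit.app L)⟩⟩

end Groth.Agent.S17021
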