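import Groth.Statements.S17023
import Mathlib.RingTheory.Smooth.AdicCompletion
import Mathlib.RingTheory.Smooth.Locus
import Mathlib.RingTheory.AdicCompletion.LocalRing
import Mathlib.RingTheory.AdicCompletion.Noetherian
import Mathlib.RingTheory.DiscreteValuationRing.TFAE
import Groth.Agent.FlatMor68.CompleteDVR

set_option autoImplicit false
universe u
open FlatMor

namespace Groth.Agent.S17023

open IsLocalRing Groth.Agent.FlatMor68.CompleteDVR

/-- Let B be a discrete valuation ring, A a B-algebra of finite type and p a prime ideal of A which lies
over the maximal ideal of B (a point of the special fibre), at which A is smooth over B (the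
localization A_p is formally smooth over B), and such that B maps onto the residue field κ(p). Then
there are a discrete valuation ring B' and a ring map ψ : A → B' pulling the maximal ideal of B'
back to p, such that the composite B → A → B' is injective, the maximal ideal of B generates the
maximal ideal of B', and B maps onto the residue field of B'; in other words Spec B' → Spec A → Spec
B is surjective and unramified with trivial residue field extension. (The published statement does
not say that the closed point of Spec B' goes to p; it is required here. The published setting takes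
A essentially of finite type over a field of characteristic zero; here A is taken of finite type
over B, with no ground field.) -/
theorem result
    (B : Type u) [CommRing B] [IsDomain B] [IsDiscreteValuationRing B]
    (A : Type u) [CommRing A] [Algebra B A] [Algebra.FiniteType B A]
    (p : Ideal A) [p.IsPrime] (hp : p.comap (algebraMap B A) = IsLocalRing.maximalIdeal B)
    [Algebra.IsSmoothAt B p]
    (hres : Function.Surjective ((algebraMap A p.ResidueField).comp (algebraMap B A))) :
    ∃ (B' : Type u) (_ : CommRing B') (_ : IsDomain B') (_ : IsDiscreteValuationRing B') (ψ : A →+* B'),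
      Ideal.comap ψ (IsLocalRing.maximalIdeal B') = p ∧
      Function.Injective (ψ.comp (algebraMap B A)) ∧
      Ideal.map (ψ.comp (algebraMap B A)) (IsLocalRing.maximalIdeal B) = IsLocalRing.maximalIdeal B' ∧
      Function.Surjective ((IsLocalRing.residue B').comp (ψ.comp (algebraMap B A))) := by
  let C := AdicCompletion (maximalIdeal B) B
  have : IsHausdorff (maximalIdeal C) C := inferInstance
  have hinj : Function.Injective (algebraMap B C) := AdicCompletion.of_injective (maximalIdeal B) B
  obtain ⟨π, hπ⟩ := IsDiscreteValuationRing.exists_irreducible B
  have hmax : maximalIdeal C = Ideal.span {algebraMap B C π} := by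
    rw [AdicCompletion.maximalIdeal_eq_map]
    show Ideal.map (algebraMap B C) _ = _
    conv_lhs => arg 2; rw [hπ.maximalIdeal_eq]
    rw [Ideal.map_span, Set.image_singleton]
  obtain ⟨hdom, hdvr⟩ := isDVR_of_complete C (algebraMap B C π) hmax fun n h => by
    rw [← map_pow, map_eq_zero_iff _ hinj] at h
    exact pow_ne_zero n hπ.ne_zero h
  let f : B →+* p.ResidueField := (algebraMap A p.ResidueField).comp (algebraMap B A)
  let _ := Ideal.Quotient.field (maximalIdeal B)
  have hker : RingHom.ker f = maximalIdeal B := by
    rw [← hp, ← RingHom.comap_ker]
    congr 1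
    exact Ideal.ker_algebraMap_residueField p
  let e : p.ResidueField ≃+* B ⧸ maximalIdeal B :=
    (RingHom.quotientKerEquivOfSurjective (f := f) hres).symm.trans (Ideal.quotEquivOfEq hker)
  have he : ∀ b : B, e (f b) = Ideal.Quotient.mk _ b := by
    intro b
    have : (RingHom.quotientKerEquivOfSurjective (f := f) hres).symm (f b) = Ideal.Quotient.mk _ b := by
      rw [RingEquiv.symm_apply_eq]; rfl
    simp [e, this]
  let π' : Localization.AtPrime p →ₐ[B] B ⧸ maximalIdeal B :=
    { (e.toRingHom.comp (IsLocalRing.residue (Localization.AtPrime p))) with
      commutes' := fun b => by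
        change e (algebraMap (Localization.AtPrime p) p.ResidueField (algebraMap B _ b)) = _
        rw [IsScalarTower.algebraMap_apply B A (Localization.AtPrime p),
          ← IsScalarTower.algebraMap_apply A (Localization.AtPrime p) p.ResidueField]
        exact he b }
  obtain ⟨g, hg⟩ := Algebra.FormallySmooth.exists_adicCompletionEvalOneₐ_comp_eq π'
  let ψ : A →+* C := g.toRingHom.comp (algebraMap A (Localization.AtPrime p))
  have hψ : ψ.comp (algebraMap B A) = algebraMap B C := by
    refine RingHom.ext fun b => ?_
    change g (algebraMap A (Localization.AtPrime p) (algebraMap B A b)) = _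
    rw [← IsScalarTower.algebraMap_apply, g.commutes]
  refine ⟨C, inferInstance, hdom, hdvr, ψ, ?_, hψ.symm ▸ hinj, ?_, ?_⟩
  · ext a
    have h1 : AdicCompletion.evalOneₐ (maximalIdeal B) (ψ a) = π' (algebraMap A _ a) :=
      DFunLike.congr_fun hg _
    have hz : ψ a ∈ maximalIdeal C ↔ AdicCompletion.evalOneₐ (maximalIdeal B) (ψ a) = 0 := by
      rw [← RingHom.mem_ker]
      constructor
      · intro h
        exact (IsLocalRing.eq_maximalIdeal (RingHom.ker_isMaximal_of_surjective _
          (AdicCompletion.evalOneₐ_surjective (maximalIdeal B)))).symm ▸ h
      · exact fun h => IsLocalRing.le_maximalIdeal (RingHom.ker_ne_top _) h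
    rw [Ideal.mem_comap, hz, h1]
    change e (algebraMap (Localization.AtPrime p) p.ResidueField (algebraMap A _ a)) = 0 ↔ _
    rw [map_eq_zero_iff _ e.injective, ← IsScalarTower.algebraMap_apply,
      Ideal.algebraMap_residueField_eq_zero]
  · rw [hψ, AdicCompletion.maximalIdeal_eq_map]
  · rw [hψ]
    intro x
    obtain ⟨y, rfl⟩ := (AdicCompletion.residueField_map_bijective B).2 x
    obtain ⟨z, rfl⟩ := IsLocalRing.residue_surjective y
    exact ⟨z, rfl⟩

end Groth.Agent.S17023
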