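import Groth.Statements.S1704
import Groth.Agent.Div89.WeakAss

set_option autoImplicit false
universe u
open CategoryTheory CategoryTheory.Limits AlgebraicGeometry TopologicalSpace
open SDiv

namespace Groth.Agent.S1704

/-- Let X be a locally Noetherian scheme and F a quasi-coherent module. Then F is zero if and only if F
has no associated point. -/
theorem result (X : Scheme.{u}) [IsLocallyNoetherian X] (F : X.Modules) (hF : Coh.IsQCoh F) :
    IsZero F ↔ ∀ x : ↥X, ¬ Curv2.IsAssPoint F x := by
  simp only [Div89.isAssPoint_iff_isWeakAssPoint]
  exact ⟨fun h => Div89.not_isWeakAssPoint_of_isZero F h, Div89.isZero_of_no_weakAss F hF⟩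

end Groth.Agent.S1704
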