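import Groth.Statements.S17065
import Mathlib

set_option autoImplicit false
universe u
open CAlg

namespace Groth.Agent.S17065

/-- The local algebraic statement its proof establishes: let A be a Noetherian ring, I ≤ J radical
ideals and Â the J-adic completion of A. If J^n Â ⊆ I Â for some n, then the closed set V(J) is open
inside V(I) ⊆ Spec A. (Globally: if X₂ ⊆ X₁ are the completions of a locally Noetherian scheme along
nested closed subsets Z₂ ⊆ Z₁ and the ideal of Z₁ generates an ideal of definition of X₂, then X₂ is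
a union of connected components of X₁.) -/
theorem result (A : Type u) [CommRing A] [IsNoetherianRing A]
    (I J : Ideal A) (hIJ : I ≤ J) (hI : I.IsRadical) (hJ : J.IsRadical) (n : ℕ)
    (h : (J ^ n).map (algebraMap A (AdicCompletion J A)) ≤ I.map (algebraMap A (AdicCompletion J A))) :
    IsOpen ((fun x : PrimeSpectrum.zeroLocus (I : Set A) => (x : PrimeSpectrum A)) ⁻¹'
      PrimeSpectrum.zeroLocus (J : Set A)) := by
  classical
  have key : ∀ a ∈ J ^ n, ∃ s : A, s - 1 ∈ J ∧ s * a ∈ I := by
    intro a ha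
    have hk : ∀ k, Ideal.Quotient.mk I a ∈ J ^ k • (⊤ : Submodule A (A ⧸ I)) := by
      intro k
      have hm : AdicCompletion.evalₐ J k (algebraMap A _ a) ∈ (I.map (algebraMap A (AdicCompletion J A))).map (AdicCompletion.evalₐ J k).toRingHom :=
        Ideal.mem_map_of_mem _ (h (Ideal.mem_map_of_mem _ ha))
      rw [Ideal.map_map, AlgHom.commutes, show (AdicCompletion.evalₐ J k).toRingHom.comp (algebraMap A (AdicCompletion J A)) = Ideal.Quotient.mk (J ^ k) from (AdicCompletion.evalₐ J k).comp_algebraMap] at hm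
      obtain ⟨i, hi, hia⟩ := (Ideal.mem_map_iff_of_surjective _ Ideal.Quotient.mk_surjective).mp hm
      have : a - i ∈ J ^ k := Ideal.Quotient.eq.mp hia.symm
      have e : Ideal.Quotient.mk I a = (a - i) • (1 : A ⧸ I) := by
        rw [Algebra.smul_def, mul_one, Ideal.Quotient.algebraMap_eq, map_sub, Ideal.Quotient.eq_zero_iff_mem.mpr hi, sub_zero]
      rw [e]; exact Submodule.smul_mem_smul this Submodule.mem_top
    obtain ⟨⟨r, hr⟩, hra⟩ := (J.mem_iInf_smul_pow_eq_bot_iff _).mp (Submodule.mem_iInf _ |>.mpr hk)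
    refine ⟨1 - r, by simpa using J.neg_mem hr, Ideal.Quotient.eq_zero_iff_mem.mp ?_⟩
    rw [Algebra.smul_def, Ideal.Quotient.algebraMap_eq] at hra
    rw [map_mul, map_sub, map_one, sub_mul, one_mul, hra, sub_self]
  choose! s hs1 hs2 using key
  obtain ⟨G, hG⟩ := (IsNoetherian.noetherian (J ^ n) : (J ^ n).FG)
  let S := ∏ a ∈ G, s a
  have : (fun x : PrimeSpectrum.zeroLocus (I : Set A) => (x : PrimeSpectrum A)) ⁻¹' PrimeSpectrum.zeroLocus (J : Set A)
      = (fun x : PrimeSpectrum.zeroLocus (I : Set A) => (x : PrimeSpectrum A)) ⁻¹' (PrimeSpectrum.basicOpen S : Set (PrimeSpectrum A)) := by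
    ext ⟨x, hx⟩
    simp only [Set.mem_preimage, PrimeSpectrum.mem_zeroLocus, SetLike.coe_subset_coe, SetLike.mem_coe, PrimeSpectrum.mem_basicOpen]
    constructor
    · intro hJx hS
      obtain ⟨a, ha, hsa⟩ := (x.isPrime.prod_mem_iff).mp hS
      have := sub_mem hsa (hJx (hs1 a (hG ▸ Ideal.subset_span ha)))
      exact x.isPrime.ne_top ((Ideal.eq_top_iff_one _).mpr (by simpa using this))
    · intro hS
      refine x.isPrime.le_of_pow_le (n := n) (hG ▸ Ideal.span_le.mpr fun a ha => ?_)
      exact (x.isPrime.mem_or_mem (hx (hs2 a (hG ▸ Ideal.subset_span ha)))).resolve_left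
        fun h => hS (x.isPrime.prod_mem_iff.mpr ⟨a, ha, h⟩)
  rw [this]
  exact PrimeSpectrum.isOpen_basicOpen.preimage continuous_subtype_val

end Groth.Agent.S17065
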