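import Groth.Statements.S17077
import Groth.Agent.Curves2.BinaryForms

set_option autoImplicit false
universe u
open RatCurve

namespace Groth.Agent.S17077

/-- Let k be an algebraically closed field and F_0, …, F_{n-1} homogeneous polynomials in k[u, v] (of
possibly different degrees). Then the F_i have a common factor which is not a unit if and only if
they have a common zero (a, b) ≠ (0, 0) in k², that is, a common zero in the projective line. -/
theorem result
    {k : Type u} [Field k] [IsAlgClosed k] {n : ℕ} (F : Fin n → MvPolynomial (Fin 2) k)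
    (d : Fin n → ℕ) (hF : ∀ i, (F i).IsHomogeneous (d i)) :
    (∃ H : MvPolynomial (Fin 2) k, ¬ IsUnit H ∧ ∀ i, H ∣ F i) ↔
      ∃ a : Fin 2 → k, a ≠ 0 ∧ ∀ i, MvPolynomial.eval a (F i) = 0 := by
  constructor
  · rintro ⟨H, hH, hdvd⟩
    obtain ⟨a, ha, h0⟩ := Curves2.exists_zero_ne_zero hH
    refine ⟨a, ha, fun i => ?_⟩
    obtain ⟨w, hw⟩ := hdvd i
    simp [hw, h0]
  · rintro ⟨a, ha, h⟩
    exact Curves2.exists_common_factor F d hF ha h

end Groth.Agent.S17077
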