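import Groth.Statements.S17078
import Groth.Agent.Curves2.BinaryForms

set_option autoImplicit false
universe u
open RatCurve

namespace Groth.Agent.S17078

/-- Let k be an algebraically closed field and F_0, …, F_{n-1} homogeneous polynomials of degree d in
k[u, v]. Then the F_i have no common factor other than units if and only if there is an integer m ≥
d such that every homogeneous polynomial of degree m can be written Σ_i F_i G_i with each G_i
homogeneous of degree m − d, i.e. the k-linear map (G_i)_i ↦ Σ_i F_i G_i from n copies of k[u,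
v]_{m−d} to k[u, v]_m is surjective. -/
theorem result
    {k : Type u} [Field k] [IsAlgClosed k] {n : ℕ} (F : Fin n → MvPolynomial (Fin 2) k)
    (d : ℕ) (hF : ∀ i, (F i).IsHomogeneous d) :
    (¬ ∃ H : MvPolynomial (Fin 2) k, ¬ IsUnit H ∧ ∀ i, H ∣ F i) ↔
      ∃ m : ℕ, d ≤ m ∧ ∀ P : MvPolynomial (Fin 2) k, P.IsHomogeneous m →
        ∃ G : Fin n → MvPolynomial (Fin 2) k, (∀ i, (G i).IsHomogeneous (m - d)) ∧
          P = ∑ i, F i * G i := by
  constructor
  · intro hno
    let I : Ideal (MvPolynomial (Fin 2) k) := Ideal.span (Set.range F)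
    have hz : ∀ j : Fin 2, (MvPolynomial.X j : MvPolynomial (Fin 2) k) ∈ I.radical := by
      intro j
      rw [← MvPolynomial.vanishingIdeal_zeroLocus_eq_radical (K := k), MvPolynomial.mem_vanishingIdeal_iff]
      intro x hx
      have hx' : ∀ i, MvPolynomial.aeval x (F i) = 0 := fun i => hx _ (Ideal.subset_span ⟨i, rfl⟩)
      by_cases hx0 : x = 0
      · simp [hx0]
      · exact absurd (Curves2.exists_common_factor F (fun _ => d) hF hx0
          (fun i => by simpa [MvPolynomial.aeval_eq_eval] using hx' i)) hno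
    obtain ⟨N, hN⟩ := hz 0
    obtain ⟨M, hM⟩ := hz 1
    refine ⟨N + M + d, by omega, fun P hP => ?_⟩
    have hPI : P ∈ I := by
      rw [P.as_sum]
      refine Ideal.sum_mem _ fun m hm => ?_
      have hdeg := hP (MvPolynomial.mem_support_iff.mp hm)
      rw [Finsupp.weight_apply, Finsupp.sum_fintype _ _ (fun i => by simp), Fin.sum_univ_two] at hdeg
      simp only [Pi.one_apply, smul_eq_mul, mul_one] at hdeg
      rw [MvPolynomial.monomial_eq]
      refine Ideal.mul_mem_left _ _ ?_
      rw [Finsupp.prod_fintype _ _ (fun i => pow_zero _), Fin.prod_univ_two]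
      by_cases hm0 : N ≤ m 0
      · exact Ideal.mul_mem_right _ _ (Ideal.pow_mem_of_pow_mem I hN hm0)
      · exact Ideal.mul_mem_left _ _ (Ideal.pow_mem_of_pow_mem I hM (by omega))
    obtain ⟨c, hc⟩ := Ideal.mem_span_range_iff_exists_fun.mp hPI
    refine ⟨fun i => MvPolynomial.homogeneousComponent (N + M) (c i), fun i => ?_, ?_⟩
    · have h1 := MvPolynomial.homogeneousComponent_isHomogeneous (N + M) (c i)
      rwa [show N + M + d - d = N + M by omega]
    · have h2 := congrArg (MvPolynomial.homogeneousComponent (d + (N + M))) hc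
      rw [map_sum] at h2
      rw [show d + (N + M) = N + M + d by omega] at h2
      rw [MvPolynomial.homogeneousComponent_eq_self hP] at h2
      rw [← h2]
      refine Finset.sum_congr rfl fun i _ => ?_
      rw [mul_comm (c i), show N + M + d = d + (N + M) by omega,
        Curves2.homogeneousComponent_mul_left (hF i)]
  · rintro ⟨m, hm, h⟩ ⟨H, hH, hdvd⟩
    obtain ⟨a, ha, h0⟩ := Curves2.exists_zero_ne_zero hH
    obtain ⟨j, hj⟩ : ∃ j, a j ≠ 0 := Function.ne_iff.mp ha
    obtain ⟨G, -, hG⟩ := h (MvPolynomial.X j ^ m) (MvPolynomial.isHomogeneous_X_pow j m)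
    apply pow_ne_zero m hj
    have hev := congrArg (MvPolynomial.eval a) hG
    simp only [map_pow, MvPolynomial.eval_X, map_sum, map_mul] at hev
    rw [hev]
    refine Finset.sum_eq_zero fun i _ => ?_
    obtain ⟨w, hw⟩ := hdvd i
    simp [hw, h0]

end Groth.Agent.S17078
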