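import Groth.Statements.S17085
import Groth.Agent.Curves2.ProjLineField
import Groth.Agent.Curves2.OpenIso

set_option autoImplicit false
universe u
open CategoryTheory CategoryTheory.Limits AlgebraicGeometry
open RatCurve

namespace Groth.Agent.S17085
theorem ker_eq_vanishingIdeal {X Y : Scheme.{u}} [IsReduced X] (f : X ⟶ Y) :
    f.ker = Scheme.IdealSheafData.vanishingIdeal (TopologicalSpace.Closeds.closure (Set.range f)) := by
  rw [← Scheme.IdealSheafData.map_bot, ← Scheme.nilradical_eq_bot, ← Scheme.IdealSheafData.vanishingIdeal_top,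
    Scheme.IdealSheafData.map_vanishingIdeal]
  congr 2
  simp


/-- Let k be an algebraically closed field and C ⊆ P^n_k a closed subscheme which is an integral scheme
of dimension one (a projective curve). Then C is rational — some nonempty open subscheme of C is
isomorphic over k to an open subscheme of the projective line P^1_k — if and only if C is the
scheme-theoretic image of some k-morphism f : P^1_k → P^n_k, i.e. the ideal sheaf of C in P^n_k is
the kernel ideal sheaf of f. -/
theorem result
    {k : Type u} [Field k] [IsAlgClosed k] {n : ℕ} (C : Scheme.{u})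
    (i : C ⟶ CohB1.ProjSpace n k) [IsClosedImmersion i] [IsIntegral C]
    (hdim : topologicalKrullDim C = 1) :
    (∃ (U : C.Opens) (V : (CohB1.ProjSpace 1 k).Opens) (e : (↑U : Scheme.{u}) ≅ ↑V),
        Nonempty U ∧
          e.hom ≫ V.ι ≫ CohB1.ProjSpace.toSpec 1 k = U.ι ≫ i ≫ CohB1.ProjSpace.toSpec n k) ↔
      ∃ f : CohB1.ProjSpace 1 k ⟶ CohB1.ProjSpace n k,
        f ≫ CohB1.ProjSpace.toSpec n k = CohB1.ProjSpace.toSpec 1 k ∧ f.ker = i.ker := by
  have hP := Curves2.ProjLine.isIntegral k 1
  have := Curves2.ProjLine.isProper_toSpec k 1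
  have := Curves2.ProjLine.isProper_toSpec k n
  have := Curves2.ProjLine.isLocallyNoetherian k 1
  let : C.Over (Spec (CommRingCat.of k)) := ⟨i ≫ CohB1.ProjSpace.toSpec n k⟩
  constructor
  · rintro ⟨U, V, e, hU, he⟩
    have : Nonempty V := Nonempty.map e.hom.base hU
    obtain ⟨f, hf, hfV⟩ := Curves2.exists_extension_of_valuationRing (CohB1.ProjSpace.toSpec n k)
      (CohB1.ProjSpace.toSpec 1 k) (Curves2.ProjLine.valuationRing_stalk k) V (e.inv ≫ U.ι ≫ i) (by
        simp only [Category.assoc]
        rw [← he, Iso.inv_hom_id_assoc])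
    refine ⟨f, hf, ?_⟩
    rw [ker_eq_vanishingIdeal, ker_eq_vanishingIdeal]
    congr 1
    apply TopologicalSpace.Closeds.ext
    show closure (Set.range f) = closure (Set.range i)
    have hVd : Dense (V : Set (CohB1.ProjSpace 1 k)) := V.isOpen.dense (Set.nonempty_coe_sort.mp ‹Nonempty V›)
    have hUd : Dense (U : Set C) := U.isOpen.dense (Set.nonempty_coe_sort.mp hU)
    have him : f '' (V : Set (CohB1.ProjSpace 1 k)) = i '' (U : Set C) := by
      rw [← Scheme.Opens.range_ι V, ← Scheme.Opens.range_ι U, ← Set.range_comp, ← Set.range_comp]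
      have h1 : (f ∘ V.ι) = (i ∘ U.ι) ∘ e.inv := by
        funext v
        exact congr($hfV v)
      rw [h1]
      exact e.inv.homeomorph.surjective.range_comp _
    rw [← Set.image_univ, ← Set.image_univ, ← hVd.closure_eq, ← hUd.closure_eq,
      closure_image_closure f.continuous, closure_image_closure i.continuous, him]
  · rintro ⟨f, hf, hker⟩
    let φ := IsClosedImmersion.lift i f hker.ge
    have hφi : φ ≫ i = f := IsClosedImmersion.lift_fac _ _ _
    have : IsProper (f ≫ CohB1.ProjSpace.toSpec n k) := hf ▸ inferInstance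
    have : IsProper f := IsProper.of_comp f (CohB1.ProjSpace.toSpec n k)
    have hr : closure (Set.range f) = Set.range i := by
      have := congrArg (fun I : (CohB1.ProjSpace n k).IdealSheafData => (I.support : Set (CohB1.ProjSpace n k))) hker
      simpa [Scheme.Hom.support_ker, i.isClosedEmbedding.isClosed_range.closure_eq] using this
    have hgen : φ (genericPoint (CohB1.ProjSpace 1 k)) = genericPoint C := by
      refine ((genericPoint_spec C).eq ?_).symm
      refine Set.eq_univ_of_forall fun c => ?_
      refine closure_minimal ?_ isClosed_closure (show c ∈ closure (Set.range φ) from ?_)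
      · rintro _ ⟨p, rfl⟩
        rw [← specializes_iff_mem_closure]
        exact (genericPoint_specializes p).map φ.continuous
      · rw [i.isClosedEmbedding.isInducing.closure_eq_preimage_closure_image, Set.mem_preimage,
          ← Set.range_comp, show (i ∘ φ) = f by funext p; exact congr($hφi p), hr]
        exact Set.mem_range_self c
    have hφ : φ ≫ C ↘ Spec (CommRingCat.of k) = CohB1.ProjSpace.toSpec 1 k := by
      show φ ≫ i ≫ _ = _
      rw [reassoc_of% hφi, hf]
    have : IsSeparated (C ↘ Spec (CommRingCat.of k)) :=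
      inferInstanceAs (IsSeparated (i ≫ CohB1.ProjSpace.toSpec n k))
    have : LocallyOfFiniteType (C ↘ Spec (CommRingCat.of k)) :=
      inferInstanceAs (LocallyOfFiniteType (i ≫ CohB1.ProjSpace.toSpec n k))
    obtain ⟨σ, hσ⟩ := Curves2.ProjLine.exists_open_iso_of_dominated k hdim φ hφ hgen
    obtain ⟨V, U, e, hV, he⟩ := Curves2.exists_open_iso_of_functionField
      (CohB1.ProjSpace.toSpec 1 k) (C ↘ Spec (CommRingCat.of k)) σ hσ
    refine ⟨U, V, e.symm, Nonempty.map e.hom.base ⟨⟨_, hV⟩⟩, ?_⟩
    show e.inv ≫ _ = U.ι ≫ C ↘ Spec (CommRingCat.of k)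
    rw [← he, Iso.inv_hom_id_assoc]

end Groth.Agent.S17085
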