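import Groth.Statements.S17086
import Groth.Agent.Curves2.ProjLine
import Groth.Agent.Div89.Cartier

set_option autoImplicit false
universe u
open CategoryTheory CategoryTheory.Limits AlgebraicGeometry
open RatCurve

namespace Groth.Agent.S17086

/-- Let k be an algebraically closed field, X a closed subscheme of P^n_k, Z ⊆ X a closed subscheme and
σ : B → X a blow-up of X along Z (the inverse image ideal of Z is effective Cartier and σ is final
with this property). Then every k-morphism f : P^1_k → X whose image is not contained in Z lifts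
uniquely along σ: there is exactly one morphism g : P^1_k → B with g ≫ σ = f. Equivalently, over the
open locus of morphisms meeting X ∖ Z, the morphism Mor(P^1_k, B) → Mor(P^1_k, X) induced by σ is a
bijection on k-points. -/
theorem result
    {k : Type u} [Field k] [IsAlgClosed k] {n : ℕ} (X : Scheme.{u})
    (c : X ⟶ CohB1.ProjSpace n k) [IsClosedImmersion c]
    (Z : Scheme.{u}) (iZ : Z ⟶ X) [IsClosedImmersion iZ]
    (B : Scheme.{u}) (σ : B ⟶ X) (hσ : BlowUp.IsBlowUp σ iZ.ker)
    (f : CohB1.ProjSpace 1 k ⟶ X)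
    (hf : f ≫ c ≫ CohB1.ProjSpace.toSpec n k = CohB1.ProjSpace.toSpec 1 k)
    (hfZ : ¬ Set.range f ⊆ Set.range iZ) :
    ∃! g : CohB1.ProjSpace 1 k ⟶ B, g ≫ σ = f := by
  refine hσ.2 _ f fun x => ?_
  obtain ⟨j, hj⟩ := Var76.ProjCoord.exists_mem_U k 1 x
  let W : (CohB1.ProjSpace 1 k).affineOpens := ⟨_, Var76.ProjCoord.isAffineOpen_U k 1 j⟩
  have : IsDomain Γ(CohB1.ProjSpace 1 k, W.1) := Curves2.ProjLine.isDomain_chart k 1 j
  have := Curves2.ProjLine.isPrincipalIdealRing_chart k j
  have := Curves2.ProjLine.irreducibleSpace k 1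
  obtain ⟨g, hg⟩ := IsPrincipalIdealRing.principal ((iZ.ker.comap f).ideal W)
  refine ⟨W, hj, g, mem_nonZeroDivisors_of_ne_zero fun hg0 => hfZ ?_, hg⟩
  subst hg0
  have hWs : (W.1 : Set (CohB1.ProjSpace 1 k)) ⊆ (iZ.ker.comap f).support := fun y hy => by
    rw [SetLike.mem_coe, Div89.mem_support_iff_le _ W y hy, hg]
    simp
  have huniv : ((iZ.ker.comap f).support : Set (CohB1.ProjSpace 1 k)) = Set.univ :=
    Set.univ_subset_iff.mp ((W.1.2.dense ⟨x, hj⟩).closure_eq ▸
      closure_minimal hWs (iZ.ker.comap f).support.isClosed)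
  rintro _ ⟨y, rfl⟩
  have hy : f y ∈ (iZ.ker.support : Set X) := by
    have : y ∈ ((iZ.ker.comap f).support : Set (CohB1.ProjSpace 1 k)) := huniv ▸ trivial
    rwa [Scheme.IdealSheafData.support_comap] at this
  rwa [Scheme.Hom.support_ker,
    iZ.isClosedEmbedding.isClosed_range.closure_eq] at hy

end Groth.Agent.S17086
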