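import Groth.Statements.S17098
import Groth.Agent.AGF80.Luna.SemiCrit

set_option autoImplicit false
universe u
open CategoryTheory MonoidalCategory CartesianMonoidalCategory MonObj GrpObj AlgebraicGeometry
open AGF

namespace Groth.Agent.S17098

/-- Let k be a field and G a reductive k-group scheme (affine, smooth, with connected reductive
geometric fibre). If G is perfect, i.e. every homomorphism from G to a commutative k-group scheme is
trivial, then G is semisimple. (The published equivalence of the three conditions 'the geometric
radical is trivial', 'reductive with finite centre', 'reductive with perfect identity component' is
asserted for smooth affine groups that need not be connected; the orthogonal group O_2 in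
characteristic different from 2 has finite centre and unipotent radical 1 while its identity
component SO_2 is a non-trivial torus, so the equivalence holds only for connected G, where the
other implications are the finite-centre criterion and the perfectness of semisimple groups.) -/
theorem result (k : Type u) [Field k]
    (G : Over (Spec (CommRingCat.of k))) [GrpObj G] (hG : Red.IsReductive G)
    (hperf : ∀ (H : Over (Spec (CommRingCat.of k))) [GrpObj H] [IsCommMonObj H] (f : G ⟶ H) [IsMonHom f], f = toUnit G ≫ η[H]) :
    Red.IsSemisimple G := by
  exact AGF80.Luna.isSemisimple_of_perfect hG hperf

end Groth.Agent.S17098
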