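import Groth.Statements.S17130
import Groth.Agent.NCDLift3.LocalPair

set_option autoImplicit false
universe u
open CategoryTheory CategoryTheory.Limits AlgebraicGeometry
open Lift

namespace Groth.Agent.S17130

/-- Let p be a prime, S~ a scheme flat over Z/p² with reduction S = S~ ×_{Z/p²} F_p (i : S → S~ the
cartesian closed immersion), S noetherian, f : X → S smooth with X noetherian, and D_1, …, D_r
quasi-coherent ideal sheaves on X forming a strict normal crossing divisor relative to S. Then
locally in the Zariski topology the pair (X, D) lifts to S~: every point of X has an open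
neighbourhood U with a flat g : U~ → S~ and j : U → U~ cartesian over i, together with closed
subschemes D~_1, …, D~_r of U~ (quasi-coherent ideals), flat over S~, whose ideals pull back along j
to the restrictions of the D_m to U. -/
theorem result (p : ℕ) [Fact p.Prime]
    (Sl : Scheme.{u}) (gS : Sl ⟶ Spec (CommRingCat.of (ULift.{u} (ZMod (p ^ 2))))) [Flat gS]
    (S : Scheme.{u}) (iS : S ⟶ Sl) (fS : S ⟶ Spec (CommRingCat.of (ULift.{u} (ZMod p))))
    (hS : IsPullback iS fS gS (Spec.map (CommRingCat.ofHom
      ((ZMod.castHom (dvd_pow_self p two_ne_zero) (ULift.{u} (ZMod p))).comp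
        (ULift.ringEquiv : ULift.{u} (ZMod (p ^ 2)) ≃+* ZMod (p ^ 2)).toRingHom))))
    [IsNoetherian S]
    (X : Scheme.{u}) (f : X ⟶ S) [Smooth f] [IsNoetherian X]
    {r : ℕ} (D : Fin r → X.IdealSheafData) (hD : LogNCD.IsNCD D f) (x : X) :
    ∃ U : X.Opens, x ∈ U ∧ ∃ (Ul : Scheme.{u}) (g : Ul ⟶ Sl) (j : (U : Scheme.{u}) ⟶ Ul),
      Flat g ∧ IsPullback j (U.ι ≫ f) g iS ∧
        ∃ Dl : Fin r → Ul.IdealSheafData, ∀ m, (Dl m).comap j = (D m).comap U.ι ∧ Flat ((Dl m).subschemeι ≫ g) := by
  haveI : IsClosedImmersion iS :=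
    haveI := IsClosedImmersion.spec_of_surjective _ (NCDLift3.redHom_surjective.{u} p)
    MorphismProperty.of_isPullback hS.flip inferInstance
  exact NCDLift3.exists_local_lift_pair iS f D hD x

end Groth.Agent.S17130
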