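import Groth.Statements.S1714
import Groth.Agent.LC15.DualDegree
import Groth.Agent.S1779
import Groth.Agent.DR39.Existence

set_option autoImplicit false
universe u
open CategoryTheory
attribute [local instance] HasDerivedCategory.standard
open LocCoh
open scoped TensorProduct
open Groth.Agent Groth.Agent.LC15 Groth.Agent.LC15.DualKill Groth.Agent.LC15.DualFaltings

namespace Groth.Agent.S1714

/-- Let A be a Noetherian ring with a dualizing complex, I an ideal, M a finite A-module, A' and M' the
I-adic completions. Let p' ⊆ q' be primes of A' with I A' ⊆ q', lying over the primes p ⊆ q of A.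
Then the depth of M'_{p'} over A'_{p'} is at least the depth of M_p over A_p, and depth(M'_{p'})
plus the dimension of the interval of primes [p', q'] equals depth(M_p) plus the dimension of [p,
q]. -/
theorem result (A : Type u) [CommRing A] [IsNoetherianRing A] (hA : ∃ ω : Dual.D A, Dual.IsDualizing A ω) (I : Ideal A) (M : Type u) [AddCommGroup M] [Module A M] [Module.Finite A M] (p' q' : PrimeSpectrum (AdicCompletion I A)) (hpq : p' ≤ q') (hq : Ideal.map (algebraMap A (AdicCompletion I A)) I ≤ q'.asIdeal) : LocCoh.depth (Localization.AtPrime (p'.asIdeal.comap (algebraMap A (AdicCompletion I A)))) (LocalizedModule (p'.asIdeal.comap (algebraMap A (AdicCompletion I A))).primeCompl M) ≤ LocCoh.depth (Localization.AtPrime p'.asIdeal) (LocalizedModule p'.asIdeal.primeCompl (AdicCompletion I M)) ∧ ((LocCoh.depth (Localization.AtPrime p'.asIdeal) (LocalizedModule p'.asIdeal.primeCompl (AdicCompletion I M)) : ℕ∞) : WithBot ℕ∞) + Order.krullDim (Set.Icc p' q') = ((LocCoh.depth (Localization.AtPrime (p'.asIdeal.comap (algebraMap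 A (AdicCompletion I A)))) (LocalizedModule (p'.asIdeal.comap (algebraMap A (AdicCompletion I A))).primeCompl M) : ℕ∞) : WithBot ℕ∞) + Order.krullDim (Set.Icc ((PrimeSpectrum.comap (algebraMap A (AdicCompletion I A))) p') ((PrimeSpectrum.comap (algebraMap A (AdicCompletion I A))) q')) := by
  obtain ⟨ω, hω⟩ := hA
  haveI : Module.Flat A (AdicCompletion I A) := AdicCompletion.flat_of_isNoetherian I
  haveI := DR39.hasLBaseChange (algebraMap A (AdicCompletion I A))
  obtain ⟨e⟩ := DR39.lbcIso (AdicCompletion I A) ω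
  have hωB := DR39.isDualizing_of_iso (Groth.Agent.S1779.result A I ω hω) e
  let p : PrimeSpectrum A := PrimeSpectrum.comap (algebraMap A (AdicCompletion I A)) p'
  let q : PrimeSpectrum A := PrimeSpectrum.comap (algebraMap A (AdicCompletion I A)) q'
  have hpq₀ : p ≤ q := Ideal.comap_mono (show p'.asIdeal ≤ q'.asIdeal from hpq)
  obtain ⟨kp, hkp⟩ := exists_deg hω p.asIdeal
  obtain ⟨kq, hkq⟩ := exists_deg hω q.asIdeal
  obtain ⟨kp', hkp'⟩ := exists_deg hωB p'.asIdeal
  obtain ⟨kq', hkq'⟩ := exists_deg hωB q'.asIdeal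
  have hmap : q.asIdeal.map (algebraMap A (AdicCompletion I A)) = q'.asIdeal := by
    refine le_antisymm Ideal.map_comap_le fun x hx => ?_
    have hker := AdicCompletion.ker_evalOneₐ_eq_map I (IsNoetherian.noetherian _)
    obtain ⟨a, ha⟩ := Ideal.Quotient.mk_surjective ((AdicCompletion.evalOneₐ I).toRingHom x)
    have h1 : x - algebraMap A (AdicCompletion I A) a ∈ I.map (algebraMap A (AdicCompletion I A)) := by
      rw [← hker, RingHom.mem_ker, map_sub, sub_eq_zero]
      refine ha.symm.trans ?_
      rw [← AdicCompletion.evalOneₐ_comp_algebraMap_eq_mk]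
      rfl
    have h2 : a ∈ q.asIdeal := by
      show algebraMap A (AdicCompletion I A) a ∈ q'.asIdeal
      have := q'.asIdeal.sub_mem hx (hq h1)
      rwa [sub_sub_cancel] at this
    have hIq : I ≤ q.asIdeal := fun y hy => hq (Ideal.mem_map_of_mem _ hy)
    rw [← sub_add_cancel x (algebraMap A (AdicCompletion I A) a)]
    exact Ideal.add_mem _ (Ideal.map_mono hIq h1) (Ideal.mem_map_of_mem _ h2)
  have hqk : kq = kq' := by
    refine eq_of_mu hωB hkq' ?_
    show LC17.gAnn _ (ModuleCat.of _ (AdicCompletion I A ⧸ q'.asIdeal)) kq ≤ q'.asIdeal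
    rw [← hmap, LC17.gAnn_congr _ ((Algebra.TensorProduct.quotIdealMapEquivTensorQuot
      (AdicCompletion I A) q.asIdeal).toLinearEquiv.toModuleIso), DualDegree.gAnn_baseChange hω]
    exact Ideal.map_mono hkq.1
  obtain ⟨n, hn, hn'⟩ := DualDegree.htq_eq hω hpq₀ hkp hkq
  obtain ⟨m, hm, hm'⟩ := DualDegree.htq_eq hωB hpq hkp' hkq'
  obtain ⟨hle, hd⟩ := DualDegree.depth_baseChange hω M (hωB := hωB) p' hkp hkp'
  let eM := AdicCompletion.ofTensorProductEquivOfFiniteNoetherian I M
  have hloc : LocCoh.depth (Localization.AtPrime p'.asIdeal)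
      (LocalizedModule p'.asIdeal.primeCompl (AdicCompletion I M)) =
      LocCoh.depth (Localization.AtPrime p'.asIdeal)
        (LocalizedModule p'.asIdeal.primeCompl (AdicCompletion I A ⊗[A] M)) :=
    (EGA4Alg4.depth_eq_of_equiv (LinearEquiv.extendScalarsOfIsLocalization p'.asIdeal.primeCompl
      (Localization.AtPrime p'.asIdeal)
      (IsLocalizedModule.mapEquiv p'.asIdeal.primeCompl
        (LocalizedModule.mkLinearMap p'.asIdeal.primeCompl (AdicCompletion I A ⊗[A] M))
        (LocalizedModule.mkLinearMap p'.asIdeal.primeCompl (AdicCompletion I M))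
        (Rₛ := Localization.AtPrime p'.asIdeal) eM |>.restrictScalars _))).symm
  refine ⟨?_, ?_⟩
  · rw [hloc, hd]
    exact le_self_add
  · rw [DualFaltings.krullDim_Icc hpq, DualFaltings.krullDim_Icc (p := p) (q := q) hpq₀, hloc, hd,
      hn, hm, ← WithBot.coe_add, ← WithBot.coe_add, WithBot.coe_inj, add_assoc, ← Nat.cast_add]
    congr 2
    omega


end Groth.Agent.S1714
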