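import Groth.Statements.S1715
import Groth.Agent.LC15.DualFaltings
import Groth.Agent.LC16.CanonDim

set_option autoImplicit false
universe u
open CategoryTheory
attribute [local instance] HasDerivedCategory.standard
open LocCoh
open scoped TensorProduct
open Groth.Agent.LC15.DualKill Groth.Agent.LC15.DualFaltings

namespace Groth.Agent.S1715

/-- For an affine scheme: let A be a Noetherian ring with a dualizing complex and M a finite A-module
satisfying Serre's condition (S_k). Then there are only finitely many primes p such that M_p has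
depth exactly k while its support has dimension greater than k. (The source states this for coherent
modules on a Noetherian scheme with a dualizing complex.) -/
theorem result (A : Type u) [CommRing A] [IsNoetherianRing A] (hA : ∃ ω : Dual.D A, Dual.IsDualizing A ω) (M : Type u) [AddCommGroup M] [Module A M] [Module.Finite A M] (k : ℕ) (hM : LocCoh.HasSk k A M) : Set.Finite {p : PrimeSpectrum A | LocCoh.depth (Localization.AtPrime p.asIdeal) (LocalizedModule p.asIdeal.primeCompl M) = k ∧ (k : WithBot ℕ∞) < Module.supportDim (Localization.AtPrime p.asIdeal) (LocalizedModule p.asIdeal.primeCompl M)} := by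
  classical
  obtain ⟨ω, hω⟩ := hA
  choose deg hdeg using fun q : PrimeSpectrum A => exists_deg hω q.asIdeal
  obtain ⟨lo, hi, hb⟩ := exists_deg_bounds hω
  have hsucc : ∀ (n : ℕ) (p q : PrimeSpectrum A), p ≤ q → deg q - deg p = n →
      (n : ℕ∞) ≤ Groth.Agent.LC17.htq p.asIdeal q.asIdeal := by
    intro n
    induction n with
    | zero => intro p q _ _; exact bot_le
    | succ n ih =>
      intro p q hpq hn
      have hlt : p < q := lt_of_le_of_ne hpq fun e => by rw [e] at hn; omega
      obtain ⟨t, ⟨ht, hpt, htq⟩, hmax⟩ := set_has_maximal_iff_noetherian.mpr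
        (inferInstanceAs (IsNoetherian A A))
        {t : Ideal A | t.IsPrime ∧ p.asIdeal ≤ t ∧ t < q.asIdeal} ⟨p.asIdeal, p.2, le_rfl, hlt⟩
      let r : PrimeSpectrum A := ⟨t, ht⟩
      have hcov : r ⋖ q := ⟨htq, fun c h1 h2 => hmax c.asIdeal
        ⟨c.2, hpt.trans (le_of_lt (show t < c.asIdeal from h1)), h2⟩
        (show t < c.asIdeal from h1)⟩
      have hj : deg r + 1 = deg q :=
        eq_of_mu hω (hdeg q) (Groth.Agent.DR39.Mu.exists_succ hω (hdeg r).1 hcov)
      have h1 := ih p r hpt (by omega)
      have h2 := Groth.Agent.LC17.htq_add_one_le (a := t) (b := q.asIdeal) hpt htq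
      push_cast
      exact le_trans (add_le_add h1 le_rfl) h2
  let F : Finset ℤ := Finset.Icc (lo - k) hi
  let Z : Set (PrimeSpectrum A) := ⋃ j ∈ F,
    ⋃ η ∈ (Module.annihilator A M).minimalPrimes,
      PrimeSpectrum.asIdeal ⁻¹'
        (Groth.Agent.LC17.gAnn ω (ModuleCat.of A M) j ⊔ η).minimalPrimes
  have hZ : Z.Finite := Set.Finite.biUnion F.finite_toSet fun j _ =>
    Set.Finite.biUnion (Ideal.finite_minimalPrimes_of_isNoetherianRing A _) fun η _ =>
      (Ideal.finite_minimalPrimes_of_isNoetherianRing A _).preimage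
        fun a _ b _ e => PrimeSpectrum.ext e
  refine hZ.subset fun p hp => ?_
  obtain ⟨hdep, hdim⟩ := hp
  haveI : IsNoetherianRing (Localization.AtPrime p.asIdeal) :=
    IsLocalization.isNoetherianRing p.asIdeal.primeCompl _ inferInstance
  have hne : Module.supportDim (Localization.AtPrime p.asIdeal)
      (LocalizedModule p.asIdeal.primeCompl M) ≠ ⊥ := fun h => by
    rw [h] at hdim; exact not_lt_bot hdim
  haveI hnt := (Module.supportDim_ne_bot_iff_nontrivial _ _).1 hne
  -- a component realising the dimension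
  obtain ⟨η, hη, hηp, hηk⟩ : ∃ η : PrimeSpectrum A, η.asIdeal ∈ (Module.annihilator A M).minimalPrimes ∧
      η ≤ p ∧ (k : ℤ) < deg p - deg η := by
    rw [Groth.Agent.Ega11.SupportLoc.supportDim_localizedModule_eq] at hdim
    obtain ⟨l, hl⟩ := lt_iSup_iff.1 hdim
    obtain ⟨η, hη, hηl⟩ := Ideal.exists_minimalPrimes_le
      (Module.mem_support_iff_of_finite.1 (RelSeries.head l).2.1)
    refine ⟨⟨η, hη.1.1⟩, hη, le_trans hηl (le_trans (show (RelSeries.head l).1 ≤ (RelSeries.last l).1 from LTSeries.head_le_last l)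
      (RelSeries.last l).2.2), ?_⟩
    have h0 := deg_le hω (p := ⟨η, hη.1.1⟩) hηl (hdeg _) (hdeg (RelSeries.head l).1)
    let m : LTSeries (PrimeSpectrum A) := l.map Subtype.val (fun _ _ hab => hab)
    obtain ⟨j, hj, hj'⟩ := Groth.Agent.DR39.Mu.chain hω m
      (i := deg (RelSeries.head l).1) (hdeg _).1
    have hj'' := eq_of_mu hω (hdeg (RelSeries.last l).1) hj'
    have h1 := deg_le hω (p := (RelSeries.last l).1) (q := p) (RelSeries.last l).2.2 (hdeg _) (hdeg _)
    have h2 : k < l.length := by exact_mod_cast hl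
    have h3 : (m.length : ℤ) = l.length := rfl
    omega
  -- the degree in which the dual is supported at p
  have hG : Groth.Agent.LC17.gAnn ω (ModuleCat.of A M) (deg p - k) ≤ p.asIdeal := by
    rw [gAnn_le_iff hω p.asIdeal M (deg p), show deg p - (k : ℤ) - deg p = -(k : ℤ) by omega]
    have hd := Groth.Agent.EGA4Alg4.depth_eq_of_equiv
      (LocalizedModule.equivTensorProduct p.asIdeal.primeCompl M)
    haveI : Nontrivial (Localization.AtPrime p.asIdeal ⊗[A] M) :=
      (LocalizedModule.equivTensorProduct p.asIdeal.primeCompl M).symm.toEquiv.nontrivial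
    exact (Groth.Agent.DR39.depth_spec (isDualizing_wq hω p.asIdeal (deg p)) (hdeg p).2 k _
      (hd.symm.trans hdep)).2
  refine Set.mem_biUnion (x := deg p - k) (Finset.mem_coe.2 (Finset.mem_Icc.2 ?_))
    (Set.mem_biUnion (x := η.asIdeal) hη ?_)
  · obtain ⟨h1, h2⟩ := hb p _ (hdeg p)
    constructor <;> omega
  refine ⟨⟨p.2, sup_le hG hηp⟩, fun b hbI hbp => ?_⟩
  haveI := hbI.1
  let p' : PrimeSpectrum A := ⟨b, hbI.1⟩
  by_contra hnle
  have hlt : p' < p := lt_of_le_not_ge hbp fun h => hnle h
  obtain ⟨hjk, hd'⟩ := depth_le_of_gAnn_le hω M (p := p') (hdeg p')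
    (j := deg p - k) (le_trans le_sup_left hbI.2)
  have hlt' := deg_lt hω hlt (hdeg p') (hdeg p)
  have hηp' : η ≤ p' := le_trans (α := Ideal A) le_sup_right hbI.2
  have hle' := deg_le hω hηp' (hdeg η) (hdeg p')
  obtain ⟨n, hn⟩ : ∃ n : ℕ, (n : ℤ) = deg p' - deg η := ⟨(deg p' - deg η).toNat, by omega⟩
  have hh := hsucc n η p' hηp' hn.symm
  rw [← Groth.Agent.LC16.RelCodim.height_ici η p' hηp'] at hh
  obtain ⟨l, hl, hlen⟩ := Order.exists_series_of_le_height (⟨p', hηp'⟩ : Set.Ici η) (n := n) hh
  have hdim' := Groth.Agent.LC16.CanonDim.le_supportDim_localized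
    (M := M) (p := p') (q := η) (Module.mem_support_iff_of_finite.2 hη.1.2)
    (l.map Subtype.val (fun _ _ hab => hab)) (h := n) hlen l.head.2
    (le_of_eq (congrArg Subtype.val hl))
  have hsk : ((min k n : ℕ) : WithBot ℕ∞) ≤ ((LocCoh.depth (Localization.AtPrime b)
      (LocalizedModule b.primeCompl M) : ℕ∞) : WithBot ℕ∞) := by
    refine le_trans (le_min ?_ (le_trans ?_ hdim')) (hM b)
    · exact Nat.mono_cast (min_le_left k n)
    · exact Nat.mono_cast (min_le_right k n)
  have hfin := hsk.trans (WithBot.coe_le_coe.2 hd')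
  have hfin' : min k n ≤ (deg p' - (deg p - k)).toNat := by exact_mod_cast hfin
  omega


end Groth.Agent.S1715
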