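import Groth.Statements.S17157
import Groth.Agent.Isoc53.OrdDet

set_option autoImplicit false
set_option linter.unusedVariables false
universe u
open Isoc

namespace Groth.Agent.S17157

/-- Let k be a finite field of characteristic p, W = W(k), L its fraction field with Frobenius σ, and
let U be the σ-semilinear endomorphism of L² = (Fin 2 → L) determined by U(e₀) = e₀ and U(e₁) = e₀ +
e₁ on the standard basis. Then (L², U) is an F-isocrystal in which the sub-isocrystal L · e₀ admits
no U-stable complementary L-subspace; in particular the category of F-isocrystals over a finite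
field is not semisimple. (Over an algebraically closed field a complement exists.) -/
theorem result
    (p : ℕ) [Fact p.Prime] (k : Type u) [Field k] [CharP k p] [PerfectRing k p] [Finite k]
    (U : (Fin 2 → (FractionRing (WittVector p k))) →ₛₗ[Isoc.frob p k 1] (Fin 2 → (FractionRing (WittVector p k))))
    (hU0 : U (Pi.single 0 1) = Pi.single 0 1)
    (hU1 : U (Pi.single 1 1) = Pi.single 0 1 + Pi.single 1 1)
    (Q : Submodule (FractionRing (WittVector p k)) (Fin 2 → (FractionRing (WittVector p k)))) (hQ : ∀ x ∈ Q, U x ∈ Q) :
    ¬ IsCompl (Submodule.span (FractionRing (WittVector p k)) {(Pi.single 0 1 : Fin 2 → (FractionRing (WittVector p k)))}) Q := by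
  intro hc
  haveI := Fintype.ofFinite k
  obtain ⟨n, -, hn⟩ := FiniteField.card k p
  have hW : ∀ w : WittVector p k, (WittVector.frobeniusEquiv p k)^[(n : ℕ)] w = w := by
    intro w
    have h : ∀ (j : ℕ) (i : ℕ),
        ((WittVector.frobeniusEquiv p k)^[j] w).coeff i = w.coeff i ^ p ^ j := by
      intro j
      induction j with
      | zero => simp
      | succ j ih =>
        intro i
        rw [Function.iterate_succ_apply',
          show ∀ z : WittVector p k, (WittVector.frobeniusEquiv p k) z = WittVector.frobenius z from
            fun z => rfl,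
          WittVector.coeff_frobenius_charP, ih, ← pow_mul, ← pow_succ]
    ext i
    rw [h, ← hn, FiniteField.pow_card]
  have hK : ∀ x : FractionRing (WittVector p k), (⇑(Isoc.frob p k 1))^[(n : ℕ)] x = x := by
    have hι : ∀ (j : ℕ) (w : WittVector p k),
        (⇑(Isoc.frob p k 1))^[j] (algebraMap _ (FractionRing (WittVector p k)) w)
          = algebraMap _ _ ((WittVector.frobeniusEquiv p k)^[j] w) := by
      intro j
      induction j with
      | zero => intro w; rfl
      | succ j ih =>
        intro w
        rw [Function.iterate_succ_apply', ih, Isoc.frob_algebraMap, zpow_one,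
          Function.iterate_succ_apply']
    intro x
    obtain ⟨a, b, -, rfl⟩ := IsFractionRing.div_surjective (A := WittVector p k) x
    rw [← RingHom.coe_pow, map_div₀, RingHom.coe_pow, hι, hι, hW, hW]
  have hiter : ∀ x : FractionRing (WittVector p k), Isoc.frob p k 1 x = x - 1 → False := by
    intro x hx
    have h : ∀ j : ℕ, (⇑(Isoc.frob p k 1))^[j] x = x - j := by
      intro j
      induction j with
      | zero => simp
      | succ j ih =>
        rw [Function.iterate_succ_apply', ih, map_sub, hx, map_natCast]
        push_cast; ring
    have h0 := (h n).symm.trans (hK x)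
    rw [sub_eq_self] at h0
    have hW0 : CharZero (WittVector p k) := by
      refine charZero_of_inj_zero fun j hj => ?_
      by_contra hj0
      obtain ⟨v, j', hj', hjv⟩ := Nat.exists_eq_pow_mul_and_not_dvd hj0 p (Fact.out : p.Prime).ne_one
      rw [hjv, Nat.cast_mul, Nat.cast_pow, mul_eq_zero] at hj
      rcases hj with hj | hj
      · exact pow_ne_zero v (WittVector.irreducible p).ne_zero hj
      · refine hj' ((CharP.cast_eq_zero_iff k p j').1 ?_)
        rw [← map_natCast (WittVector.constantCoeff : WittVector p k →+* k) j', hj, map_zero]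
    haveI : CharZero (FractionRing (WittVector p k)) := charZero_of_injective_algebraMap
      (IsFractionRing.injective (WittVector p k) _)
    exact n.ne_zero (Nat.cast_eq_zero.1 h0)
  obtain ⟨y, hy, q, hq, hyq⟩ := Submodule.mem_sup.1
    (hc.sup_eq_top ▸ Submodule.mem_top : (Pi.single 1 1 : Fin 2 → FractionRing (WittVector p k)) ∈ _ ⊔ Q)
  obtain ⟨c, rfl⟩ := Submodule.mem_span_singleton.1 hy
  obtain rfl : q = (-c) • Pi.single 0 1 + Pi.single 1 1 := by rw [← hyq, neg_smul]; abel
  have h2 := sub_mem (hQ _ hq) hq
  rw [map_add, LinearMap.map_smulₛₗ, hU0, hU1] at h2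
  have h3 : (Isoc.frob p k 1 (-c) + 1 + c) • (Pi.single 0 1 : Fin 2 → FractionRing (WittVector p k)) = 0 := by
    refine Submodule.disjoint_def.1 hc.disjoint _
      (Submodule.smul_mem _ _ (Submodule.mem_span_singleton_self _)) ?_
    convert h2 using 1
    rw [add_smul, add_smul, one_smul, neg_smul]
    abel
  have h4 : Isoc.frob p k 1 (-c) + 1 + c = 0 := by simpa using congrFun h3 0
  exact hiter (-c) (by linear_combination h4)
end Groth.Agent.S17157
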