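import Groth.Statements.S17168
import Mathlib
import Groth.Agent.Rat1.UncountableUniruled

set_option autoImplicit false
universe u
open CategoryTheory CategoryTheory.Limits AlgebraicGeometry
open MorSch

namespace Groth.Agent.S17168

/-- Let k be an uncountable algebraically closed field and X a projective variety over k. If every
closed point of some nonempty open subset U of X lies on a rational curve, that is on the image of a
nonconstant k-morphism from the projective line, then X is uniruled: there is a k-variety M and a
dominant rational map from the product of the projective line with M to X, defined on a dense open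
subset, which does not contract some curve of the family. (The published remark is for X proper;
this row takes X projective. Uncountability matters: the morphism scheme has countably many
components.) -/
theorem result
    (k : Type u) [Field k] [IsAlgClosed k] [Uncountable k] (X : Scheme.{u}) (pX : X ⟶ Spec (CommRingCat.of k))
    [IsIntegral X] [IsProper pX]
    (hproj : ∃ (N : ℕ) (ι : X ⟶ CohB1.ProjSpace N k), IsClosedImmersion ι ∧ ι ≫ CohB1.ProjSpace.toSpec N k = pX)
    (U : X.Opens) (hU : (U : Set X).Nonempty)
    (h : ∀ x ∈ (U : Set X), IsClosed ({x} : Set X) →
      ∃ g : CohB1.ProjSpace 1 k ⟶ X, g ≫ pX = CohB1.ProjSpace.toSpec 1 k ∧ (¬ ∃ y : X, Set.range g.base ⊆ {y}) ∧ x ∈ Set.range g.base) :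
    MorSch.IsUniruled k pX := by
  exact Rat1.UncountableUniruled.isUniruled pX U hU h

end Groth.Agent.S17168
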