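import Groth.Statements.S1717
import Groth.Agent.LC15.Equidim
import Groth.Agent.LC16.S2Components

set_option autoImplicit false
universe u
open LocCoh

namespace Groth.Agent.S1717

/-- Let A be a catenary Noetherian local ring satisfying Serre's condition (S_2). Then Spec A is
equidimensional: for every minimal prime p of A the dimension of A/p equals the dimension of A. -/
theorem result (A : Type u) [CommRing A] [IsLocalRing A] [IsNoetherianRing A] (hc : CAlg.IsCatenary A) (hS : LocCoh.HasSk 2 A A) (p : Ideal A) (hp : p ∈ minimalPrimes A) : ringKrullDim (A ⧸ p) = ringKrullDim A := by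
  refine Groth.Agent.LC15.Equidim.ringKrullDim_quotient_eq hc (fun P hge => ?_) p hp
  have h1 := hS P.asIdeal
  rw [Groth.Agent.EGA4Alg4.depth_eq_of_equiv (Groth.Agent.LC16.S2Components.selfLoc P.asIdeal),
    Module.supportDim_eq_of_equiv (Groth.Agent.LC16.S2Components.selfLoc P.asIdeal),
    Module.supportDim_self_eq_ringKrullDim,
    IsLocalization.AtPrime.ringKrullDim_eq_height P.asIdeal] at h1
  exact WithBot.coe_le_coe.1 ((le_min le_rfl (WithBot.coe_le_coe.2 hge) :
    ((2 : ℕ∞) : WithBot ℕ∞) ≤ min (2 : WithBot ℕ∞) (P.asIdeal.height : WithBot ℕ∞)).trans h1)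

end Groth.Agent.S1717
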