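import Groth.Statements.S17171
import Mathlib

set_option autoImplicit false
open QSymFn

namespace Groth.Agent.S17171

theorem exists_restrict (e : ℕ →₀ ℕ) : ∃ (n : ℕ) (e' : Fin n →₀ ℕ), Finsupp.mapDomain Fin.val e' = e := by
  refine ⟨e.support.sup id + 1, e.comapDomain Fin.val Fin.val_injective.injOn, ?_⟩
  refine Finsupp.mapDomain_comapDomain _ Fin.val_injective e fun x hx => ?_
  exact ⟨⟨x, Nat.lt_succ_of_le (Finset.le_sup (f := id) hx)⟩, rfl⟩

theorem mapDomain_eq_sum {α β : Type*} [LinearOrder α] (e : α →₀ ℕ) (g : α → β) :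
    Finsupp.mapDomain g e = ∑ t : Fin e.support.card,
      Finsupp.single (g (e.support.orderEmbOfFin rfl t)) (e (e.support.orderEmbOfFin rfl t)) := by
  conv_lhs => rw [← Finsupp.sum_single e]
  rw [Finsupp.sum, Finsupp.mapDomain_finset_sum]
  simp_rw [Finsupp.mapDomain_single]
  rw [← Finset.sum_coe_sort e.support]
  exact (Fintype.sum_equiv (e.support.orderIsoOfFin rfl).toEquiv _ _ fun t => rfl).symm

theorem consistent {f : (n : ℕ) → MvPolynomial (Fin n) ℤ}
    (hf : ∀ (n m : ℕ) (φ : Fin n ↪o Fin m) (e : Fin n →₀ ℕ),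
        MvPolynomial.coeff e (f n) = MvPolynomial.coeff (Finsupp.mapDomain φ e) (f m))
    {n m : ℕ} (e : Fin n →₀ ℕ) (e' : Fin m →₀ ℕ)
    (h : Finsupp.mapDomain Fin.val e = Finsupp.mapDomain Fin.val e') :
    MvPolynomial.coeff e (f n) = MvPolynomial.coeff e' (f m) := by
  rw [hf n (n ⊔ m) (Fin.castLEOrderEmb le_sup_left) e, hf m (n ⊔ m) (Fin.castLEOrderEmb le_sup_right) e']
  congr 1
  apply Finsupp.mapDomain_injective Fin.val_injective
  rw [← Finsupp.mapDomain_comp, ← Finsupp.mapDomain_comp]
  exact h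


/-- The ring QSym of quasisymmetric functions over ℤ, with its restriction maps to the polynomial rings
in finitely many ordered variables, is the limit of the diagram S ↦ ℤ[α_s : s ∈ S] over finite
ordered sets S and order-preserving injections (an injection φ : S → T acting by α_t ↦ α_s when t =
φ s and α_t ↦ 0 otherwise), the limit being taken in graded rings. Stated here on degree-d
components, with the variables indexed by ℕ in place of the positive integers and the finite ordered
sets taken to be the Fin n: (a) if F is a formal power series over ℤ in variables indexed by ℕ which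
is quasisymmetric (for strictly increasing i, j : Fin ℓ → ℕ and positive exponents a, the
coefficients of ∏ x_{i t}^{a t} and ∏ x_{j t}^{a t} agree) and all of whose monomials have degree d,
then its restrictions to the initial segments Fin n ⊂ ℕ are compatible with every order embedding
Fin n ↪o Fin m; (b) every family of degree-d homogeneous polynomials f n ∈ ℤ[x_s : s ∈ Fin n],
compatible with all order embeddings Fin n ↪o Fin m in this sense, is the family of restrictions of
exactly one such quasisymmetric F of degree d. -/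
theorem result (d : ℕ) :
    (∀ F : MvPowerSeries ℕ ℤ,
      (∀ (ℓ : ℕ) (i j : Fin ℓ → ℕ) (a : Fin ℓ → ℕ), StrictMono i → StrictMono j → (∀ t, 0 < a t) →
        MvPowerSeries.coeff (∑ t : Fin ℓ, Finsupp.single (i t) (a t)) F =
          MvPowerSeries.coeff (∑ t : Fin ℓ, Finsupp.single (j t) (a t)) F) →
      (∀ e : ℕ →₀ ℕ, MvPowerSeries.coeff e F ≠ 0 → e.degree = d) →
      ∀ (n m : ℕ) (φ : Fin n ↪o Fin m) (e : Fin n →₀ ℕ),
        MvPowerSeries.coeff (Finsupp.mapDomain Fin.val e) F =
          MvPowerSeries.coeff (Finsupp.mapDomain Fin.val (Finsupp.mapDomain φ e)) F) ∧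
    (∀ f : (n : ℕ) → MvPolynomial (Fin n) ℤ,
      (∀ n, (f n).IsHomogeneous d) →
      (∀ (n m : ℕ) (φ : Fin n ↪o Fin m) (e : Fin n →₀ ℕ),
        MvPolynomial.coeff e (f n) = MvPolynomial.coeff (Finsupp.mapDomain φ e) (f m)) →
      ∃! F : MvPowerSeries ℕ ℤ,
        (∀ (ℓ : ℕ) (i j : Fin ℓ → ℕ) (a : Fin ℓ → ℕ), StrictMono i → StrictMono j → (∀ t, 0 < a t) →
          MvPowerSeries.coeff (∑ t : Fin ℓ, Finsupp.single (i t) (a t)) F =
            MvPowerSeries.coeff (∑ t : Fin ℓ, Finsupp.single (j t) (a t)) F) ∧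
        (∀ e : ℕ →₀ ℕ, MvPowerSeries.coeff e F ≠ 0 → e.degree = d) ∧
        (∀ (n : ℕ) (e : Fin n →₀ ℕ),
          MvPowerSeries.coeff (Finsupp.mapDomain Fin.val e) F = MvPolynomial.coeff e (f n))) := by
  constructor
  · intro F hF _ n m φ e
    rw [mapDomain_eq_sum e Fin.val, ← Finsupp.mapDomain_comp, mapDomain_eq_sum e (Fin.val ∘ φ)]
    exact hF _ _ _ _ (Fin.val_strictMono.comp (OrderEmbedding.strictMono _))
      (Fin.val_strictMono.comp (φ.strictMono.comp (OrderEmbedding.strictMono _)))
      fun t => Nat.pos_of_ne_zero (Finsupp.mem_support_iff.1 (Finset.orderEmbOfFin_mem _ rfl t))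
  · intro f hd hf
    choose N E hE using exists_restrict
    let F : MvPowerSeries ℕ ℤ := fun e => MvPolynomial.coeff (E e) (f (N e))
    have hcoeff : ∀ (n : ℕ) (e : Fin n →₀ ℕ),
        MvPowerSeries.coeff (Finsupp.mapDomain Fin.val e) F = MvPolynomial.coeff e (f n) := fun n e => by
      rw [MvPowerSeries.coeff_apply]
      exact consistent hf _ _ (hE _)
    refine ⟨F, ⟨?_, ?_, hcoeff⟩, ?_⟩
    · intro ℓ i j a hi hj _
      have key : ∀ k : Fin ℓ → ℕ, StrictMono k →
          MvPowerSeries.coeff (∑ t : Fin ℓ, Finsupp.single (k t) (a t)) F =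
            MvPolynomial.coeff (∑ t : Fin ℓ, Finsupp.single t (a t)) (f ℓ) := by
        intro k hk
        let k' : Fin ℓ ↪o Fin ((Finset.univ.sup k) + 1) := OrderEmbedding.ofStrictMono
          (fun t => ⟨k t, Nat.lt_succ_of_le (Finset.le_sup (Finset.mem_univ t))⟩) hk
        have he : (∑ t : Fin ℓ, Finsupp.single (k t) (a t)) =
            Finsupp.mapDomain Fin.val (Finsupp.mapDomain k' (∑ t : Fin ℓ, Finsupp.single t (a t))) := by
          simp only [Finsupp.mapDomain_finset_sum, Finsupp.mapDomain_single]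
          rfl
        rw [he, hcoeff, ← hf]
      rw [key i hi, key j hj]
    · intro e he
      rw [MvPowerSeries.coeff_apply] at he
      rw [← hE e, Finsupp.degree_mapDomain]
      by_contra hne
      exact he ((hd _).coeff_eq_zero hne)
    · intro G ⟨_, _, hG⟩
      ext e
      rw [← hE e, hG, hcoeff]

end Groth.Agent.S17171
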