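import Groth.Statements.S17176
import Mathlib.Tactic

set_option autoImplicit false
open Curves

namespace Groth.Agent.S17176

/-- Fix integers g ≥ 3 and d. For a complete subcurve Y of arithmetic genus g_Y of a nodal curve of
genus g, meeting the rest of the curve in k points, the lower extreme of the Basic Inequality for
line bundles of degree d is m = d(2g_Y - 2 + k)/(2g - 2) - k/2, which is an integer exactly when 2(g
- 1) divides d(2g_Y - 2 + k) - k(g - 1). Then gcd(d - g + 1, 2g - 2) = 1 if and only if m is not an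
integer for all integers g_Y, k with 0 < g_Y < g - 1, k ≥ 1 and k + 2g_Y - 2 < 2g - 2. (The row
makes explicit the bound 2g_Y - 2 + k < 2g - 2, which is automatic for subcurves of stable curves
and is satisfied by every subcurve to which the source applies the lemma; the source leaves the
ambient curve's class implicit.) -/
theorem result (g d : ℤ) (hg : 3 ≤ g) :
    Int.gcd (d - g + 1) (2 * g - 2) = 1 ↔
      ∀ gY k : ℤ, 0 < gY → gY < g - 1 → 1 ≤ k → k + 2 * gY - 2 < 2 * g - 2 →
        ¬ (2 * (g - 1) ∣ d * (2 * gY - 2 + k) - k * (g - 1)) := by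
  have hN : (2 * g - 2) = 2 * (g - 1) := by ring
  rw [hN]
  constructor
  · intro hgcd gY k h1 h2 h3 h4 hdvd
    have hco : IsCoprime (2 * (g - 1)) (d - g + 1) := by
      rw [Int.isCoprime_iff_gcd_eq_one, Int.gcd_comm]; exact hgcd
    have : 2 * (g - 1) ∣ (d - g + 1) * (2 * gY - 2 + k) := by
      have := dvd_sub hdvd (dvd_mul_right (2 * (g-1)) (gY - 1))
      rwa [show d * (2 * gY - 2 + k) - k * (g - 1) - 2 * (g - 1) * (gY - 1) =
        (d - g + 1) * (2 * gY - 2 + k) by ring] at this
    have := hco.dvd_of_dvd_mul_left this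
    have := Int.le_of_dvd (by omega) this
    omega
  · intro h
    by_contra hne
    obtain ⟨a, ha⟩ : (Int.gcd (d - g + 1) (2 * (g - 1)) : ℤ) ∣ 2 * (g - 1) := Int.gcd_dvd_right _ _
    obtain ⟨b, hb⟩ : (Int.gcd (d - g + 1) (2 * (g - 1)) : ℤ) ∣ d - g + 1 := Int.gcd_dvd_left _ _
    have hc0 : Int.gcd (d - g + 1) (2 * (g - 1)) ≠ 0 := by
      intro h0; rw [h0] at ha; simp at ha; omega
    have hc : (2:ℤ) ≤ Int.gcd (d - g + 1) (2 * (g - 1)) := by omega
    generalize (Int.gcd (d - g + 1) (2 * (g - 1)) : ℤ) = c at ha hb hc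
    have hapos : 0 < a := by nlinarith
    have halt : a < 2 * (g - 1) := by nlinarith
    refine h 1 a one_pos (by omega) (by omega) (by omega) ⟨b, ?_⟩
    have : d = c * b + g - 1 := by omega
    rw [this, ha]; ring

end Groth.Agent.S17176
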