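import Groth.Statements.S17178
import Groth.Agent.QC70.Ideal
import Groth.Agent.QC70.CohOps
import Groth.Agent.Crv77.Basic
import Groth.Agent.Mero90.GenEval

set_option autoImplicit false
universe u
open CategoryTheory CategoryTheory.Limits AlgebraicGeometry
open Curves

namespace Groth.Agent.S17178
open QC70 in
theorem isClosed_singleton_of_generalization {X : Scheme.{u}}
    (hequi : ∀ Z ∈ irreducibleComponents (X : Type u), topologicalKrullDim Z = 1)
    {z ζ : X} (h : ζ ⤳ z) (hne : z ≠ ζ) : IsClosed ({z} : Set X) := by
  rw [← closure_subset_iff_isClosed]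
  intro w hw
  by_contra hwz
  obtain ⟨Z, hZ, hle⟩ := exists_mem_irreducibleComponents_subset_of_isIrreducible _
    (isIrreducible_singleton (x := ζ)).closure
  have hcl : IsClosed Z := isClosed_of_mem_irreducibleComponents Z hZ
  have hζ : ζ ∈ Z := hle (subset_closure rfl)
  have hz : z ∈ Z := h.mem_closed hcl hζ
  have hw' : w ∈ Z := (specializes_iff_mem_closure.2 hw).mem_closed hcl hz
  refine Crv77.length_two_false (T := Z) (hequi Z hZ).le (a := ⟨w, hw'⟩) (b := ⟨z, hz⟩) (c := ⟨ζ, hζ⟩)
    ?_ (fun e => hwz (congrArg Subtype.val e)) ?_ (fun e => hne (congrArg Subtype.val e))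
  · exact (subtype_specializes_iff _ _).mpr (specializes_iff_mem_closure.2 hw)
  · exact (subtype_specializes_iff _ _).mpr h

theorem dim_le_zero_of_closed_points {X : Scheme.{u}} {S : Set X} (hS : IsClosed S)
    (h : ∀ z ∈ S, IsClosed ({z} : Set X)) : topologicalKrullDim S ≤ 0 := by
  have : QuasiSober S := hS.isClosedEmbedding_subtypeVal.quasiSober
  refine Order.krullDim_nonpos_iff_forall_isMax.mpr fun A B hAB => ?_
  obtain ⟨b, hb⟩ := QuasiSober.sober B.isIrreducible B.isClosed
  have hbcl : IsClosed ({b} : Set S) := by
    have : ({b} : Set S) = Subtype.val ⁻¹' {b.1} := Set.ext fun y => by simp [Subtype.ext_iff]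
    rw [this]
    exact (h b.1 b.2).preimage continuous_subtype_val
  have hB : (B : Set S) = {b} := hb.symm.trans hbcl.closure_eq
  obtain ⟨a, ha⟩ := A.isIrreducible.nonempty
  intro y hy
  have hy' : y ∈ ({b} : Set S) := hB.subset hy
  have ha' : a ∈ ({b} : Set S) := hB.subset (hAB ha)
  rw [Set.mem_singleton_iff] at hy' ha'
  rw [hy', ← ha']
  exact ha


/-- Let k be an algebraically closed field and X a nodal curve over k: proper over k, reduced,
connected, every irreducible component of dimension one, with at-worst-nodal singularities. Let J be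
a coherent O_X-module which is pure of dimension one (every nonzero coherent submodule has
one-dimensional support), for instance a pure quotient with one-dimensional support of a rank-one
torsion-free sheaf. Let U be an open subset and f a function on U vanishing at every point of U
lying in the support Y of J. Then f acts as zero on J over U: for every x ∈ U the germ of f at x
annihilates the stalk J_x. In other words the ideal sheaf of the reduced subcurve Y annihilates J,
so J is an O_Y-module; this is the first assertion in the proof that every such quotient q : I → J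
of a rank-one torsion-free I factors through the torsion-free restriction of I to Y, the remaining
assertion (that the induced map is an isomorphism) not being part of this row. -/
theorem result
    (k : Type u) [Field k] [IsAlgClosed k] (X : Scheme.{u}) [X.Over (Spec (CommRingCat.of k))]
    [IsProper (X ↘ Spec (CommRingCat.of k))] [IsReduced X] [ConnectedSpace X]
    (hequi : ∀ Z ∈ irreducibleComponents (X : Type u), topologicalKrullDim Z = 1)
    (hX : Curv2.AtWorstNodal k X)
    (J : X.Modules) (hJc : Coh.IsCoh J) (hJp : ShStab.IsPure X J 1)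
    (U : X.Opens) (f : X.presheaf.obj (Opposite.op U))
    (hf : ∀ x : X, x ∈ U → x ∈ CohB1.support J → x ∉ X.basicOpen f)
    (x : X) (hx : x ∈ U) (t : J.presheaf.stalk x) :
    (X.presheaf.germ U x hx f) • t = 0 := by
  classical
  open QC70 in
  have : IsLocallyNoetherian X := LocallyOfFiniteType.isLocallyNoetherian (X ↘ Spec (CommRingCat.of k))
  have := hJc.1
  have := hJc.2
  let Y : TopologicalSpace.Closeds X := ⟨CohB1.support J, isClosed_support J⟩
  let I := Scheme.IdealSheafData.vanishingIdeal Y
  let F := (Dual3.idealMul I).obj J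
  let ι : F ⟶ J := Dual3.idealMulι I J
  have hF : Coh.IsCoh F := isCoh_idealMul I hJc
  have := hF.2
  -- `I J` vanishes at the generic points
  have hgen : ∀ η : X, (∀ w, w ⤳ η → w = η) → η ∉ CohB1.support F := by
    intro η hη
    rw [notMem_support_iff]
    by_cases hY : η ∈ CohB1.support J
    · refine subsingleton_of_forall_eq 0 fun e => injective_stalkMapM_of_mono ι η ?_
      obtain ⟨W', hηW', c, rfl⟩ := germM_exist e
      obtain ⟨W, hW, hηW, hWle⟩ := exists_isAffineOpen_mem_and_subset hηW'
      replace hWle : W ≤ W' := hWle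
      have e0 : stalkMapM ι η 0 = 0 := by
        rw [← germM_zero (M := F) hηW, stalkMapM_germ, map_zero, germM_zero]
      rw [← germM_res (M := F) hWle hηW c, stalkMapM_germ, e0]
      have hmem : ι.app W (res F hWle c) ∈ I.ideal ⟨W, hW⟩ • (⊤ : Submodule Γ(X, W) Γ(J, W)) :=
        (range_idealMulι_app I J ⟨W, hW⟩).le ⟨_, rfl⟩
      refine Submodule.smul_induction_on hmem (fun a ha m _ => ?_) fun m m' hm hm' => ?_
      · rw [germM_smul]
        have hsupp : η ∈ I.support := by
          rw [← SetLike.mem_coe, Scheme.IdealSheafData.coe_support_vanishingIdeal]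
          exact hY
        rw [I.mem_support_iff_of_mem (U := ⟨W, hW⟩) hηW, Scheme.mem_zeroLocus_iff] at hsupp
        have hu : ¬ IsUnit (X.presheaf.germ W η hηW a) := fun h =>
          hsupp a ha ((X.mem_basicOpen a η hηW).mpr h)
        let := (Mero90.isField_stalk_of_maxPt (η := η) hη).toField
        rw [show X.presheaf.germ W η hηW a = 0 from by_contra fun h => hu (isUnit_iff_ne_zero.mpr h), zero_smul]
      · rw [germM_add, hm, hm', add_zero]
    · exact subsingleton_stalk_of_mono ι η (notMem_support_iff.mp hY)
  have hzero : IsZero F := by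
    by_contra hnz
    have h1 := hJp F ι inferInstance hF hnz
    have h0 := dim_le_zero_of_closed_points (isClosed_support F) fun z hz => by
      by_contra hzc
      exact hgen z (fun w hw => by
        by_contra hne
        exact hzc (isClosed_singleton_of_generalization hequi hw (Ne.symm hne))) hz
    rw [h1] at h0
    exact absurd h0 (by simp)
  obtain ⟨W', hxW', s, rfl⟩ := germM_exist t
  obtain ⟨W, hW, hxW, hWle⟩ := exists_isAffineOpen_mem_and_subset (show x ∈ W' ⊓ U from ⟨hxW', hx⟩)
  have hWU : W ≤ U := fun y hy => (hWle hy).2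
  have hWW' : W ≤ W' := fun y hy => (hWle hy).1
  have hfI : resO X hWU f ∈ I.ideal ⟨W, hW⟩ := by
    rw [Scheme.IdealSheafData.vanishingIdeal_ideal, PrimeSpectrum.mem_vanishingIdeal]
    intro q hq
    by_contra hnq
    have hqW : hW.fromSpec q ∈ W := hW.range_fromSpec.le ⟨q, rfl⟩
    refine hf _ (hWU hqW) hq ?_
    rw [X.mem_basicOpen f _ (hWU hqW), ← germ_resO hWU hqW, ← X.mem_basicOpen (resO X hWU f) _ hqW]
    have : q ∈ hW.fromSpec ⁻¹ᵁ X.basicOpen (resO X hWU f) := by
      rw [hW.fromSpec_preimage_basicOpen]; exact hnq
    exact this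
  obtain ⟨c, hc⟩ : resO X hWU f • res J hWW' s ∈ Set.range (ι.app W) :=
    (range_idealMulι_app I J ⟨W, hW⟩).ge (Submodule.smul_mem_smul hfI Submodule.mem_top)
  have h : germM J W x hxW (resO X hWU f • res J hWW' s) = 0 := by
    rw [← hc, show ι = 0 from hzero.eq_of_src ι 0]
    exact germM_zero hxW
  rw [germM_smul, germM_res, germ_resO] at h
  exact h

end Groth.Agent.S17178
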