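import Groth.Statements.S1718
import Groth.Agent.DR39.LocalDuality

set_option autoImplicit false
universe u
open CategoryTheory
attribute [local instance] HasDerivedCategory.standard
open Dual

namespace Groth.Agent.S1718

/-- Let A be a Noetherian local ring with maximal ideal m, residue field κ and a normalized dualizing
complex ω, and let κ → E be an injective hull. Then the degree-0 local cohomology of ω with support
in m (the direct limit of Hom(A/m^n, ω)) is isomorphic to E, and the local cohomology of ω in every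
other degree is zero. -/
theorem result (A : Type u) [CommRing A] [IsLocalRing A] [IsNoetherianRing A] (ω : Dual.D A) (hω : Dual.IsDualizing A ω) (hn : Dual.IsNormalized A ω) (E : Type u) [AddCommGroup E] [Module A E] (f : IsLocalRing.ResidueField A →ₗ[A] E) (hf : InjHull.IsInjectiveHull f) : Nonempty (Dual2.HDI A (IsLocalRing.maximalIdeal A) ω 0 ≃ₗ[A] E) ∧ ∀ i : ℤ, i ≠ 0 → Subsingleton (Dual2.HDI A (IsLocalRing.maximalIdeal A) ω i) := by
  obtain ⟨D, ⟨eD⟩⟩ := DR39.exists_dualModel hω
  haveI := D.isKInjective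
  have hn' : Dual.IsNormalized A ((DR39.QA A).obj D.I) := fun i hi => @Equiv.subsingleton _ _
    (Iso.homToEquiv ((CategoryTheory.shiftFunctor (Dual.D A) i).mapIso eD)) (hn i hi)
  obtain ⟨hz, ⟨eG⟩⟩ := DR39.gamma_dualModel D hn' E f hf
  obtain ⟨e0⟩ := DR39.HDI_equiv (IsLocalRing.maximalIdeal A) D.I eD 0
  refine ⟨⟨e0.trans (((DR39.HQIso _ 0).symm ≪≫ (DR39.HF A 0).mapIso eG ≪≫
    (DerivedCategory.singleFunctorCompHomologyFunctorIso (ModuleCat.{u} A) 0).app (ModuleCat.of A E)).toLinearEquiv)⟩,
    fun i hi => ?_⟩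
  obtain ⟨ei⟩ := DR39.HDI_equiv (IsLocalRing.maximalIdeal A) D.I eD i
  haveI := ModuleCat.subsingleton_of_isZero (hz i hi)
  exact ei.toEquiv.subsingleton

end Groth.Agent.S1718
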