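import Groth.Statements.S1719
import Groth.Agent.DR39.LocalDual3

set_option autoImplicit false
universe u
open CategoryTheory
attribute [local instance] HasDerivedCategory.standard
open Dual

namespace Groth.Agent.S1719

/-- Let A be a Noetherian local ring with a normalized dualizing complex ω and p a minimal prime of A
with dim(A/p) = e. Then the cohomology module H^i(ω) localized at p is nonzero if and only if i =
−e. -/
theorem result (A : Type u) [CommRing A] [IsLocalRing A] [IsNoetherianRing A] (ω : Dual.D A) (hω : Dual.IsDualizing A ω) (hn : Dual.IsNormalized A ω) (p : Ideal A) (hp : p ∈ minimalPrimes A) (e : ℕ) (he : ringKrullDim (A ⧸ p) = e) (i : ℤ) : Nontrivial (LocalizedModule (Ideal.primeCompl p (hp := hp.1.1)) (Dual.HD A ω i)) ↔ i = -(e : ℤ) := by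
  haveI : p.IsPrime := hp.1.1
  have he' : ringKrullDim (A ⧸ p) = (e : ℕ∞) := he
  let P : PrimeSpectrum A := ⟨p, inferInstance⟩
  refine (DR39.nontrivial_localized_HD_iff hω i P).trans ⟨fun h => ?_, ?_⟩
  · obtain ⟨q, -, hq, hqp⟩ := DR39.exists_prime_of_gAnn_le hω p i A h
    have hqe : q.asIdeal = p := le_antisymm hqp (hp.2 ⟨q.2, bot_le⟩ hqp)
    have hmu : DR39.Mu ω p i := by
      show LC17.gAnn ω (ModuleCat.of A (A ⧸ p)) i ≤ p
      rw [← hqe]
      exact hq.trans hqe.ge
    exact DR39.Mu.eq_neg_dim hω hn hmu he'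
  · rintro rfl
    refine DR39.gAnn_le_of_minimal hω hn A P ⟨?_, fun q _ hle => ?_⟩ he'
    · show P ∈ Module.support A A
      rw [Module.mem_support_iff_of_finite]
      intro a ha
      have ha0 : a = 0 := by simpa using Module.mem_annihilator.1 ha (1 : A)
      rw [ha0]
      exact zero_mem _
    · exact hp.2 ⟨q.2, bot_le⟩ hle

end Groth.Agent.S1719
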