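import Groth.Statements.S17244
import Groth.Agent.EffDiv52.Apps

set_option autoImplicit false
open W4c4effdivwronsk2

namespace Groth.Agent.S17244

open Polynomial in
/-- Let `k` be a field of characteristic zero and take, on the projective line over `k`, the point `∞`
and `m` further distinct points `r_1, …, r_m` of the affine line, with positive integers `b` (at
`∞`) and `a_1, …, a_m`; put `N = b + ∑ a_j`. The sum of the spaces of differentials with a single
pole, of order at most `b + 1` at `∞`, resp. at most `a_j + 1` at `r_j`, `V = H⁰(ω((b+1)∞)) + ∑_j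
H⁰(ω((a_j+1)r_j)) ⊆ H⁰(ω((b+1)∞ + ∑_j (a_j+1)r_j)) ≅ H⁰(O(d))`, `d = b - 1 + ∑ (a_j+1)`, becomes,
after multiplying by `dX⁻¹ ∏_j (X - r_j)^(a_j+1)`, the subspace of `k[X]_{≤ d}` spanned by
`D·k[X]_{<b}` and the `D_i·k[X]_{<a_i}`, where `D = ∏_j (X - r_j)^(a_j+1)` and `D_i` omits the
`i`-th factor; a member `h` vanishes to order `n` at a point `q` of the affine line when `(X - q)^n
∣ h`, and to order `d - deg h` at `∞`. Let `V₁ ⊆ V` be a hyperplane (`dim V₁ = N - 1`) containing
`D·k[X]_{<b-2}` and every `D_i·k[X]_{<a_i}` (that is, containing `H⁰(ω((b-1)∞)) + ∑_j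
H⁰(ω((a_j+1)r_j))`). The weight of `V₁` at a point is `∑_{n=1}^{d} dim V₁(-n·point) - (N-1 choose
2)` (the sum of the vanishing orders minus `0 + 1 + ⋯ + (N-2)`). Then the weight of `V₁` at `r_i` is
`∑_{j≠i} a_j + b - 1 + ε_i` and its weight at `∞` is `∑_j a_j + N - 2 + ε`, with `ε_i, ε ∈ {0, 1}`.
(The published statement is over the complex numbers with the distinguished marked point arbitrary;
it is placed at `∞` here.) -/
theorem result
    (k : Type*) [Field k] [CharZero k] (m : ℕ) (r : Fin m → k) (hr : Function.Injective r)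
    (a : Fin m → ℕ) (ha : ∀ j, 1 ≤ a j) (b : ℕ) (hb : 1 ≤ b) (N d : ℕ)
    (hN : N = (∑ j, a j) + b) (hd : d + 1 = (∑ j, (a j + 1)) + b)
    (V : Submodule k (Polynomial k))
    (hV : V = (Polynomial.degreeLT k b).map (LinearMap.mulLeft k (∏ j, (X - C (r j)) ^ (a j + 1))) ⊔
      ⨆ i, (Polynomial.degreeLT k (a i)).map
        (LinearMap.mulLeft k (∏ j ∈ Finset.univ.erase i, (X - C (r j)) ^ (a j + 1))))
    (V₁ : Submodule k (Polynomial k)) (hV₁ : V₁ ≤ V) (hfin : Module.finrank k ↥V₁ + 1 = N)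
    (hU : (Polynomial.degreeLT k (b - 2)).map (LinearMap.mulLeft k (∏ j, (X - C (r j)) ^ (a j + 1))) ⊔
      (⨆ i, (Polynomial.degreeLT k (a i)).map
        (LinearMap.mulLeft k (∏ j ∈ Finset.univ.erase i, (X - C (r j)) ^ (a j + 1)))) ≤ V₁) :
    (∀ i : Fin m, ∃ ε : ℕ, ε ≤ 1 ∧
      (∑ n ∈ Finset.range d, Module.finrank k ↥(V₁ ⊓ (Ideal.span {(X - C (r i)) ^ (n + 1)}).restrictScalars k)) + 1 =
        (N - 1).choose 2 + (N - a i) + ε) ∧
    (∃ ε : ℕ, ε ≤ 1 ∧
      (∑ n ∈ Finset.range d, Module.finrank k ↥(V₁ ⊓ Polynomial.degreeLT k (d - n))) =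
        (N - 1).choose 2 + (N - b) + (N - 2) + ε) := by
  classical
  obtain rfl : V = Groth.Agent.EffDiv52.genV r a b := hV
  subst hN
  have hU' : Groth.Agent.EffDiv52.genV r a (b - 2) ≤ V₁ := hU
  haveI := Groth.Agent.EffDiv52.fin_genV (a := a) (b := b) hr
  set N := (∑ j, a j) + b with hN
  have hV := Groth.Agent.EffDiv52.finrank_genV a b hr
  have hA : ∑ j, (a j + 1) = (∑ j, a j) + m := by simp [Finset.sum_add_distrib]
  refine ⟨fun i => ?_, ?_⟩
  · have hai : a i ≤ ∑ j, a j := Finset.single_le_sum (fun j _ => Nat.zero_le _) (Finset.mem_univ i)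
    have hm : 1 ≤ m := i.pos
    obtain ⟨ε, hε, h⟩ := Groth.Agent.EffDiv52.sum_high (Groth.Agent.EffDiv52.genV r a b) V₁ hV₁ (by omega)
      (fun n => Groth.Agent.EffDiv52.multiples (r i) n)
      (fun x y hxy G hG => Groth.Agent.EffDiv52.mem_multiples.mpr ((pow_dvd_pow _ hxy).trans (Groth.Agent.EffDiv52.mem_multiples.mp hG)))
      N d (by omega) (fun n hn => by
        haveI : FiniteDimensional k ↥(Groth.Agent.EffDiv52.genV r a b ⊓ Groth.Agent.EffDiv52.multiples (r i) n) :=
          Submodule.finiteDimensional_of_le inf_le_left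
        refine Submodule.finrank_eq_zero.mp ?_
        rw [Groth.Agent.EffDiv52.finrank_marked a b hr i n, if_neg (by omega)]
        omega)
      (fun _ hle => Groth.Agent.EffDiv52.pencil_hyperplane hr hV₁ hfin hU' (r i)
        ⟨hle ⟨Groth.Agent.EffDiv52.Φ_mem hr (Groth.Agent.EffDiv52.pow_mem_degreeLE _ le_rfl),
            Groth.Agent.EffDiv52.mem_multiples.mpr (Groth.Agent.EffDiv52.Φ_dvd_of_dvd a i (pow_dvd_pow _ (Nat.sub_le _ _)))⟩,
          hle ⟨Groth.Agent.EffDiv52.Φ_mem hr (Groth.Agent.EffDiv52.pow_mem_degreeLE _ (Nat.sub_le _ _)),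
            Groth.Agent.EffDiv52.mem_multiples.mpr (Groth.Agent.EffDiv52.Φ_dvd_of_dvd a i dvd_rfl)⟩⟩)
    simp only [Groth.Agent.EffDiv52.finrank_marked a b hr i] at h
    rw [Groth.Agent.EffDiv52.sum_dims N (a i) d (by omega) (by omega)] at h
    refine ⟨1 - ε, by omega, ?_⟩
    have h2 : N.choose 2 = (N - 1).choose 2 + (N - 1) := by
      conv_lhs => rw [show N = N - 1 + 1 by omega]
      rw [Nat.choose_succ_succ', Nat.choose_one_right, Nat.add_comm]
    show (∑ n ∈ Finset.range d, Module.finrank k ↥(V₁ ⊓ Groth.Agent.EffDiv52.multiples (r i) (n + 1))) + 1 = _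
    omega
  · rcases Nat.eq_zero_or_pos d with rfl | hd0
    · refine ⟨0, Nat.zero_le _, ?_⟩
      obtain ⟨rfl, hb1⟩ : m = 0 ∧ b = 1 := ⟨by omega, by omega⟩
      simp [hN, hb1]
    have hterm : ∀ n ∈ Finset.range d, Module.finrank k ↥(V₁ ⊓ Polynomial.degreeLT k (d - n)) +
        (if n = 0 ∧ ¬ Groth.Agent.EffDiv52.genV r a b ⊓ Polynomial.degreeLT k (d - n) ≤ V₁ then 1 else 0) =
        (if n + 1 ≤ b then N - (n + 1) else N + 1 - (n + 1)) := by
      intro n hn
      have hg := Groth.Agent.EffDiv52.finrank_infinity a b hr (n + 1) d hd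
      rw [Nat.add_sub_add_right] at hg
      obtain ⟨hle, hlt⟩ := Groth.Agent.EffDiv52.finrank_hyperplane (Groth.Agent.EffDiv52.genV r a b) V₁
        (Polynomial.degreeLT k (d - n)) hV₁ (by omega)
      rw [← hg]
      rcases Nat.eq_zero_or_pos n with rfl | hn0
      · by_cases h : Groth.Agent.EffDiv52.genV r a b ⊓ Polynomial.degreeLT k (d - 0) ≤ V₁
        · rw [if_neg (by simp_all), Nat.add_zero, hle h]
        · rw [if_pos ⟨rfl, h⟩]; exact hlt h
      · rw [if_neg (fun hc => by omega), Nat.add_zero]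
        refine hle ?_
        -- low degree elements lie in the hyperplane
        have key := Groth.Agent.EffDiv52.low_le hr hU'
        intro P hP
        obtain ⟨hPV, hPd⟩ := hP
        rw [SetLike.mem_coe, Groth.Agent.EffDiv52.gen_eq a b hr,
          Groth.Agent.EffDiv52.normal_form a b (Polynomial.lcoeff k (∑ j, a j))
            (by rw [Polynomial.lcoeff_apply, Groth.Agent.EffDiv52.coeff_W0]; exact one_ne_zero)] at hPV
        obtain ⟨G, ⟨-, hGA⟩, rfl⟩ := hPV
        refine key ?_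
        rcases eq_or_ne G 0 with rfl | hG0
        · exact zero_mem _
        obtain ⟨h1, h2⟩ := Groth.Agent.EffDiv52.Φ_natDegree (r := r) a hG0 hGA
        rw [SetLike.mem_coe, Polynomial.mem_degreeLT, ← Polynomial.natDegree_lt_iff_degree_lt h1] at hPd
        rw [Polynomial.mem_degreeLE, ← Polynomial.natDegree_le_iff_degree_le]
        omega
    have hsum := Finset.sum_congr rfl hterm
    rw [Finset.sum_add_distrib, Groth.Agent.EffDiv52.sum_dims N b d (by omega) (by
      rcases Nat.eq_zero_or_pos m with rfl | hm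
      · right; simp [hN] at *; omega
      · left; omega)] at hsum
    set δ := ∑ n ∈ Finset.range d,
      (if n = 0 ∧ ¬ Groth.Agent.EffDiv52.genV r a b ⊓ Polynomial.degreeLT k (d - n) ≤ V₁ then 1 else 0 : ℕ) with hδ
    have hδ1 : δ ≤ 1 := by
      rw [hδ, Finset.sum_eq_single_of_mem 0 (Finset.mem_range.mpr hd0) (fun n _ hn => if_neg fun hc => hn hc.1)]
      split_ifs <;> omega
    have h2 : N.choose 2 = (N - 1).choose 2 + (N - 1) := by
      conv_lhs => rw [show N = N - 1 + 1 by omega]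
      rw [Nat.choose_succ_succ', Nat.choose_one_right, Nat.add_comm]
    refine ⟨1 - δ, by omega, ?_⟩
    have hN2 : 2 ≤ N := by
      rcases Nat.eq_zero_or_pos m with rfl | hm
      · simp [hN] at *; omega
      · have : 1 ≤ ∑ j, a j := (ha ⟨0, hm⟩).trans (Finset.single_le_sum (fun j _ => Nat.zero_le (a j)) (Finset.mem_univ _))
        omega
    omega

end Groth.Agent.S17244
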