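import Groth.Statements.S17246
import Groth.Agent.EffDiv52.Apps

set_option autoImplicit false
open W4c4effdivwronsk2

namespace Groth.Agent.S17246

open Polynomial in
/-- Let `k` be a field of characteristic zero and take, on the projective line over `k`, the point `∞`
and `m` further distinct points `r_1, …, r_m` of the affine line, with positive integers `b` (at
`∞`) and `a_1, …, a_m`; put `N = b + ∑ a_j`. The sum of the spaces of differentials with a single
pole, of order at most `b + 1` at `∞`, resp. at most `a_j + 1` at `r_j`, `V = H⁰(ω((b+1)∞)) + ∑_j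
H⁰(ω((a_j+1)r_j)) ⊆ H⁰(ω((b+1)∞ + ∑_j (a_j+1)r_j)) ≅ H⁰(O(d))`, `d = b - 1 + ∑ (a_j+1)`, becomes,
after multiplying by `dX⁻¹ ∏_j (X - r_j)^(a_j+1)`, the subspace of `k[X]_{≤ d}` spanned by
`D·k[X]_{<b}` and the `D_i·k[X]_{<a_i}`, where `D = ∏_j (X - r_j)^(a_j+1)` and `D_i` omits the
`i`-th factor; a member `h` vanishes to order `n` at a point `q` of the affine line when `(X - q)^n
∣ h`, and to order `d - deg h` at `∞`. Let `p` be a further point of the affine line, distinct from
the `r_j`, and `V₁ = V(-p)` the members divisible by `X - p` (an `(N-1)`-dimensional system in the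
line bundle twisted down by `p`, with vanishing orders at the marked points read off as for `V`).
With the weight of `V₁` at a marked point defined as `∑_{n=1}^{d} dim V₁(-n·point) - (N-1 choose
2)`: the weight at `r_i` is `∑_{j≠i} a_j + b - 1 + ε_i` and the weight at `∞` is `∑_j a_j - 1 + ε`,
with all `ε` in `{0, 1}`. (The published statement is over the complex numbers with all points
arbitrary; one marked point is placed at `∞` here and `p` is taken distinct from the marked points.) -/
theorem result
    (k : Type*) [Field k] [CharZero k] (m : ℕ) (r : Fin m → k) (hr : Function.Injective r)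
    (a : Fin m → ℕ) (ha : ∀ j, 1 ≤ a j) (b : ℕ) (hb : 1 ≤ b) (N d : ℕ)
    (hN : N = (∑ j, a j) + b) (hd : d + 1 = (∑ j, (a j + 1)) + b)
    (V : Submodule k (Polynomial k))
    (hV : V = (Polynomial.degreeLT k b).map (LinearMap.mulLeft k (∏ j, (X - C (r j)) ^ (a j + 1))) ⊔
      ⨆ i, (Polynomial.degreeLT k (a i)).map
        (LinearMap.mulLeft k (∏ j ∈ Finset.univ.erase i, (X - C (r j)) ^ (a j + 1))))
    (p : k) (hp : ∀ j, p ≠ r j) (V₁ : Submodule k (Polynomial k))
    (hV₁ : V₁ = V ⊓ (Ideal.span {X - C p}).restrictScalars k) :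
    (∀ i : Fin m, ∃ ε : ℕ, ε ≤ 1 ∧
      (∑ n ∈ Finset.range d, Module.finrank k ↥(V₁ ⊓ (Ideal.span {(X - C (r i)) ^ (n + 1)}).restrictScalars k)) + 1 =
        (N - 1).choose 2 + (N - a i) + ε) ∧
    (∃ ε : ℕ, ε ≤ 1 ∧
      (∑ n ∈ Finset.range d, Module.finrank k ↥(V₁ ⊓ Polynomial.degreeLT k (d - n))) + 1 =
        (N - 1).choose 2 + (N - b) + ε) := by
  obtain rfl : V = Groth.Agent.EffDiv52.genV r a b := hV
  subst hN
  subst hV₁
  have hmult : (Ideal.span {X - C p}).restrictScalars k = Groth.Agent.EffDiv52.multiples p 1 := by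
    simp [Groth.Agent.EffDiv52.multiples]
  rw [hmult]
  haveI := Groth.Agent.EffDiv52.fin_genV (a := a) (b := b) hr
  set N := (∑ j, a j) + b with hN
  have hmark := fun i n => Groth.Agent.EffDiv52.finrank_marked a b hr i n
  have hinf := fun n => Groth.Agent.EffDiv52.finrank_infinity a b hr n d hd
  set V := Groth.Agent.EffDiv52.genV r a b with hVdef
  set M1 := Groth.Agent.EffDiv52.multiples p 1
  have hfin : Module.finrank k ↥(V ⊓ M1) + 1 = Module.finrank k ↥V := by
    rw [Groth.Agent.EffDiv52.finrank_unmarked a b hr hp 1, Groth.Agent.EffDiv52.finrank_genV a b hr]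
    omega
  have hev : ∀ {P : Polynomial k}, P ∈ V ⊓ M1 → P.eval p = 0 := fun {P} hP => by
    obtain ⟨H, rfl⟩ := Groth.Agent.EffDiv52.mem_multiples.mp hP.2
    simp
  have hA : ∑ j, (a j + 1) = (∑ j, a j) + m := by simp [Finset.sum_add_distrib]
  have h2 : N.choose 2 = (N - 1).choose 2 + (N - 1) := by
    conv_lhs => rw [show N = N - 1 + 1 by omega]
    rw [Nat.choose_succ_succ', Nat.choose_one_right, Nat.add_comm]
  refine ⟨fun i => ?_, ?_⟩
  · have hai : a i ≤ ∑ j, a j := Finset.single_le_sum (fun j _ => Nat.zero_le _) (Finset.mem_univ i)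
    have hm : 1 ≤ m := i.pos
    obtain ⟨ε, hε, h⟩ := Groth.Agent.EffDiv52.sum_high V (V ⊓ M1) inf_le_left hfin
      (fun n => Groth.Agent.EffDiv52.multiples (r i) n)
      (fun x y hxy G hG => Groth.Agent.EffDiv52.mem_multiples.mpr ((pow_dvd_pow _ hxy).trans (Groth.Agent.EffDiv52.mem_multiples.mp hG)))
      N d (by omega) (fun n hn => by
        haveI : FiniteDimensional k ↥(V ⊓ Groth.Agent.EffDiv52.multiples (r i) n) :=
          Submodule.finiteDimensional_of_le inf_le_left
        refine Submodule.finrank_eq_zero.mp ?_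
        rw [Groth.Agent.EffDiv52.finrank_marked a b hr i n, if_neg (by omega)]
        omega)
      (fun h2 hle => Groth.Agent.EffDiv52.pencil_evalCond hr hp (hp i).symm h2
        ⟨hev (hle ⟨Groth.Agent.EffDiv52.Φ_mem hr (Groth.Agent.EffDiv52.pow_mem_degreeLE _ le_rfl),
            Groth.Agent.EffDiv52.mem_multiples.mpr (Groth.Agent.EffDiv52.Φ_dvd_of_dvd a i (pow_dvd_pow _ (Nat.sub_le _ _)))⟩),
         hev (hle ⟨Groth.Agent.EffDiv52.Φ_mem hr (Groth.Agent.EffDiv52.pow_mem_degreeLE _ (Nat.sub_le _ _)),
            Groth.Agent.EffDiv52.mem_multiples.mpr (Groth.Agent.EffDiv52.Φ_dvd_of_dvd a i dvd_rfl)⟩)⟩)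
    simp only [hmark i] at h
    rw [Groth.Agent.EffDiv52.sum_dims N (a i) d (by omega) (by omega)] at h
    refine ⟨1 - ε, by omega, ?_⟩
    show (∑ n ∈ Finset.range d, Module.finrank k ↥(V ⊓ M1 ⊓ Groth.Agent.EffDiv52.multiples (r i) (n + 1))) + 1 = _
    omega
  · obtain ⟨ε, hε, h⟩ := Groth.Agent.EffDiv52.sum_high V (V ⊓ M1) inf_le_left hfin
      (fun n => Polynomial.degreeLT k (d + 1 - n))
      (fun x y hxy => Polynomial.degreeLT_mono (by omega))
      N d (by omega) (fun n hn => by
        haveI : FiniteDimensional k ↥(V ⊓ Polynomial.degreeLT k (d + 1 - n)) :=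
          Submodule.finiteDimensional_of_le inf_le_left
        refine Submodule.finrank_eq_zero.mp ?_
        rw [Groth.Agent.EffDiv52.finrank_infinity a b hr n d hd, if_neg (by omega)]
        omega)
      (fun h2 hle => by
        have hmem : ∀ G : Polynomial k, G.natDegree ≤ 1 → (Groth.Agent.EffDiv52.Φ r a G).eval p = 0 := by
          intro G hG
          refine hev (hle ⟨Groth.Agent.EffDiv52.Φ_mem hr ?_, ?_⟩)
          · rw [Polynomial.mem_degreeLE, ← Polynomial.natDegree_le_iff_degree_le]; omega
          · rw [SetLike.mem_coe, Polynomial.mem_degreeLT, Polynomial.degree_lt_iff_coeff_zero]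
            intro t ht
            refine Polynomial.coeff_eq_zero_of_natDegree_lt (lt_of_le_of_lt ?_ (show m < t by omega))
            rw [Groth.Agent.EffDiv52.Φ_apply]
            refine (Polynomial.natDegree_sub_le _ _).trans (max_le ?_ ?_)
            · refine Polynomial.natDegree_mul_le.trans ?_
              rw [Groth.Agent.EffDiv52.natDegree_L]
              have := Polynomial.natDegree_derivative_le G
              omega
            · rcases Nat.eq_zero_or_pos m with rfl | hm
              · simp [Groth.Agent.EffDiv52.E]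
              · refine Polynomial.natDegree_mul_le.trans ?_
                have := Groth.Agent.EffDiv52.natDegree_E_le (r := r) a
                omega
        have hE := hmem 1 (by simp)
        have hL := hmem (X - C p) (by simp)
        simp [Groth.Agent.EffDiv52.Φ_apply] at hE hL
        exact Groth.Agent.EffDiv52.L_eval_ne r hp hL)
    simp only [hinf] at h
    rw [Groth.Agent.EffDiv52.sum_dims N b d (by omega) (by
      rcases Nat.eq_zero_or_pos m with rfl | hm
      · right; simp [hN] at *; omega
      · left; omega)] at h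
    refine ⟨1 - ε, by omega, ?_⟩
    show (∑ n ∈ Finset.range d, Module.finrank k ↥(V ⊓ M1 ⊓ Polynomial.degreeLT k (d - n))) + 1 = _
    have e : ∑ n ∈ Finset.range d, Module.finrank k ↥(V ⊓ M1 ⊓ Polynomial.degreeLT k (d - n)) =
        ∑ n ∈ Finset.range d, Module.finrank k ↥(V ⊓ M1 ⊓ Polynomial.degreeLT k (d + 1 - (n + 1))) :=
      Finset.sum_congr rfl fun n _ => by congr 4 <;> simp
    omega

end Groth.Agent.S17246
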