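import Groth.Statements.S17247
import Groth.Agent.LLS31.GenusOne

set_option autoImplicit false
open FunFld

namespace Groth.Agent.S17247

/-- Let `K/k` be a function field of one variable of genus one over an algebraically closed field `k` of
characteristic zero (an elliptic curve `E`), `A` a place, and `g ≥ 3` an odd integer. Inside
`H⁰(O_E((2g-2)A)) = L((2g-2)A)` consider `V = L(gA)` (dimension `g`) and any hyperplane `V₁` of it
containing `L((g-2)A)`: `L((g-2)A) ⊆ V₁ ⊆ L(gA)`, `dim V₁ = g - 1`. Vanishing orders are those of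
sections of `O_E((2g-2)A)`: a member `f` vanishes to order at least `n` at a place `Q` when `f ∈
L((2g-2)A - nQ)`, and the weight of `V₁` at `Q` is `∑_{n=1}^{2g-2} dim (V₁ ∩ L((2g-2)A - nQ)) - (g-1
choose 2)` (the sum of the `g - 1` vanishing orders minus `0 + 1 + ⋯ + (g-2)`). Then the weight of
`V₁` at every place `Q ≠ A` is at most `2`. (The published statement is for a smooth elliptic curve
over the complex numbers and allows every odd positive `g`; for `g = 1` the inclusion `O(gA) ⊆
O((2g-2)A)` it uses fails, so `g ≥ 3` here.) -/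
theorem result
    (k K : Type*) [Field k] [IsAlgClosed k] [CharZero k] [Field K] [Algebra k K]
    (hK : FunFld.IsFunctionField k K) (hg1 : FunFld.genus k K = 1)
    (g : ℕ) (hodd : Odd g) (h3 : 3 ≤ g) (A : FunFld.Place k K)
    (V₁ : Submodule k K) (hlo : FunFld.L (Finsupp.single A ((g : ℤ) - 2)) ≤ V₁)
    (hhi : V₁ ≤ FunFld.L (Finsupp.single A (g : ℤ))) (hdim : Module.finrank k ↥V₁ + 1 = g)
    (Q : FunFld.Place k K) (hQ : Q ≠ A) :
    (∑ n ∈ Finset.range (2 * g - 2), Module.finrank k
        ↥(V₁ ⊓ FunFld.L (Finsupp.single A (2 * (g : ℤ) - 2) - Finsupp.single Q ((n : ℤ) + 1)))) ≤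
      (g - 1).choose 2 + 2 := by
  classical
  have := Groth.Agent.LLS31.finiteDimensional_L hK (Finsupp.single A (g : ℤ)) A
  have hVfin := Submodule.finiteDimensional_of_le hhi
  have hterm : ∀ m : ℕ, V₁ ⊓ L (Finsupp.single A (2 * (g : ℤ) - 2) - Finsupp.single Q (m : ℤ)) =
      V₁ ⊓ L (Finsupp.single A (g : ℤ) - Finsupp.single Q (m : ℤ)) := by
    intro m
    have h := Groth.Agent.LLS31.L_single_sub_inf (k := k) A Q hQ
      (show (g : ℤ) ≤ 2 * (g : ℤ) - 2 by omega) (m : ℤ)
    calc V₁ ⊓ L (Finsupp.single A (2 * (g : ℤ) - 2) - Finsupp.single Q (m : ℤ))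
        = V₁ ⊓ (L (Finsupp.single A (2 * (g : ℤ) - 2) - Finsupp.single Q (m : ℤ)) ⊓
            L (Finsupp.single A (g : ℤ))) := by
          rw [inf_comm (L (Finsupp.single A (2 * (g : ℤ) - 2) - Finsupp.single Q (m : ℤ))), ← inf_assoc,
            inf_eq_left.2 hhi]
      _ = V₁ ⊓ (L (Finsupp.single A (g : ℤ) - Finsupp.single Q (m : ℤ)) ⊓
            L (Finsupp.single A (g : ℤ))) := by rw [h]
      _ = V₁ ⊓ L (Finsupp.single A (g : ℤ) - Finsupp.single Q (m : ℤ)) := by
          rw [inf_comm (L (Finsupp.single A (g : ℤ) - Finsupp.single Q (m : ℤ))), ← inf_assoc,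
            inf_eq_left.2 hhi]
  set f : ℕ → ℕ := fun m => Module.finrank k
    ↥(V₁ ⊓ L (Finsupp.single A (g : ℤ) - Finsupp.single Q (m : ℤ))) with hf
  rw [Finset.sum_congr rfl fun n _ => show _ = f (n + 1) by rw [← Nat.cast_succ, hterm]]
  have hle : ∀ m : ℕ, f m ≤ Module.finrank k
      ↥(L (Finsupp.single A (g : ℤ) - Finsupp.single Q (m : ℤ))) := fun m => by
    have := Groth.Agent.LLS31.finiteDimensional_L hK
      (Finsupp.single A (g : ℤ) - Finsupp.single Q (m : ℤ)) A
    exact Submodule.finrank_mono inf_le_right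
  have hd : ∀ m : ℕ, Divisor.deg (Finsupp.single A (g : ℤ) - Finsupp.single Q (m : ℤ) : Divisor k K)
      = (g : ℤ) - m := fun m => by
    simp [Groth.Agent.LLS31.deg_sub, Groth.Agent.LLS31.deg_single,
      Groth.Agent.LLS31.deg_place_eq_one (k := k) hK]
  have hbig : ∀ m : ℕ, g < m → f m = 0 := fun m hm => by
    have := hle m
    rw [Groth.Agent.LLS31.L_eq_bot_of_deg_neg hK _ (by rw [hd]; omega), finrank_bot] at this
    omega
  have hpos : ∀ m : ℕ, m < g → f m ≤ g - m := fun m hm => by
    have := hle m
    have h1 := Groth.Agent.LLS31.ell_of_genus_one hK hg1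
      (D := Finsupp.single A (g : ℤ) - Finsupp.single Q (m : ℤ)) (by rw [hd]; omega)
    rw [hd] at h1
    omega
  have hg0 : f g ≤ 1 := (hle g).trans
    (Groth.Agent.LLS31.ell_deg_zero_le_one hK (by rw [hd]; omega))
  have hlow : ∀ m : ℕ, 1 ≤ m → m + 3 ≤ g → f m + m + 1 ≤ g := fun m h1 h2 =>
    Groth.Agent.LLS31.hyperplane_bound hK hg1 h3 hQ hlo hhi hdim m h1 (by omega) (by omega)
  have hexc : f (g - 2) + f g ≤ 2 := by
    rcases Nat.eq_zero_or_pos (f g) with h0 | h0
    · have := hpos (g - 2) (by omega); omega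
    -- `gA ~ gQ`; as `g` is odd, `(g-2)A` and `(g-2)Q` are then inequivalent
    have hp : Groth.Agent.LLS31.Prin
        (Finsupp.single A (g : ℤ) - Finsupp.single Q (g : ℤ) : Divisor k K) :=
      Groth.Agent.LLS31.prin_of_deg_zero hK (by rw [hd]; omega) (h0.trans_le (hle g))
    have h := Groth.Agent.LLS31.hyperplane_bound hK hg1 h3 hQ hlo hhi hdim (g - 2) (by omega)
      (by omega) (fun _ => by
        by_contra hne
        have hp' : Groth.Agent.LLS31.Prin
            (Finsupp.single A ((g - 2 : ℕ) : ℤ) - Finsupp.single Q ((g - 2 : ℕ) : ℤ) : Divisor k K) :=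
          Groth.Agent.LLS31.prin_of_deg_zero hK
            (by simp [Groth.Agent.LLS31.deg_sub, Groth.Agent.LLS31.deg_single,
              Groth.Agent.LLS31.deg_place_eq_one (k := k) hK]) (Nat.pos_of_ne_zero hne)
        obtain ⟨j, rfl⟩ := hodd
        have h2 : Groth.Agent.LLS31.Prin
            (Finsupp.single A (2 : ℤ) - Finsupp.single Q (2 : ℤ) : Divisor k K) := by
          convert hp.sub hK hp' using 1
          rw [sub_sub_sub_comm, ← Finsupp.single_sub, ← Finsupp.single_sub]
          congr <;> omega
        have hmul : ∀ i : ℕ, Groth.Agent.LLS31.Prin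
            (Finsupp.single A (2 * i + 1 : ℤ) - Finsupp.single Q (2 * i + 1 : ℤ) : Divisor k K) →
            Groth.Agent.LLS31.Prin (Finsupp.single A (1 : ℤ) - Finsupp.single Q (1 : ℤ) : Divisor k K) := by
          intro i
          induction i with
          | zero => intro h; simpa using h
          | succ i ih =>
            intro h
            refine ih ?_
            convert h.sub hK h2 using 1
            rw [sub_sub_sub_comm, ← Finsupp.single_sub, ← Finsupp.single_sub]
            push_cast
            ring_nf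
        have h1 := hmul j (by convert hp using 2 <;> push_cast <;> rfl)
        have hrig := Groth.Agent.LLS31.finrank_L_le_one_of_genus_pos hK
          (show 0 < genus k K by omega) (E := Finsupp.single A 1) (by
            simp [Groth.Agent.LLS31.deg_single, Groth.Agent.LLS31.deg_place_eq_one (k := k) hK])
        have := Groth.Agent.LLS31.nonneg_of_le_of_ell hK (D := Finsupp.single A (1 : ℤ))
          (E := Finsupp.single A (1 : ℤ) - Finsupp.single Q (1 : ℤ)) (by simp) hrig
          (fun R => by
            simp only [Finsupp.sub_apply, Finsupp.single_apply]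
            split_ifs <;> omega)
          (by rw [h1.ell_eq_one hK]; exact one_pos) Q
        simp [Finsupp.single_eq_of_ne hQ] at this)
    have h' : f (g - 2) + (g - 2) + 1 ≤ g := h
    omega
  obtain ⟨j, rfl⟩ : ∃ j, g = j + 3 := ⟨g - 3, by omega⟩
  rw [← Finset.sum_subset (Finset.range_mono (show j + 3 ≤ 2 * (j + 3) - 2 by omega))
    (fun n _ hn => hbig (n + 1) (by simp only [Finset.mem_range] at hn; omega)),
    Finset.sum_range_succ, Finset.sum_range_succ, Finset.sum_range_succ]
  have hsum : (∑ n ∈ Finset.range j, f (n + 1)) + 1 ≤ (j + 3 - 1).choose 2 := by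
    have : ∀ i, i ≤ j → (∑ n ∈ Finset.range i, f (n + 1)) + (j + 2 - i).choose 2 ≤ (j + 2).choose 2 := by
      intro i
      induction i with
      | zero => intro _; simp
      | succ i ih =>
        intro hi
        have h1 := ih (by omega)
        have h2 := hlow (i + 1) (by omega) (by omega)
        rw [Finset.sum_range_succ, show j + 2 - (i + 1) = j + 1 - i by omega]
        rw [show j + 2 - i = (j + 1 - i) + 1 by omega, Nat.choose_succ_succ', Nat.choose_one_right] at h1
        simp only [show (1 : ℕ) + 1 = 2 from rfl] at h1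
        omega
    have := this j le_rfl
    rw [show j + 2 - j = 2 by omega, Nat.choose_self] at this
    simpa using this
  have := hpos (j + 2) (by omega)
  simp only [show j + 3 - 2 = j + 1 by omega] at hexc
  simp only [show j + 1 + 1 = j + 2 from rfl, show j + 2 + 1 = j + 3 from rfl]
  omega

end Groth.Agent.S17247
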