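import Groth.Statements.S17248
import Groth.Agent.LLS31.GenusOne

set_option autoImplicit false
open FunFld

namespace Groth.Agent.S17248

/-- Let `K/k` be a function field of one variable of genus one over an algebraically closed field `k` of
characteristic zero (an elliptic curve `E`), `A` a place, and `g ≥ 3` an integer. Inside
`H⁰(O_E((2g-2)A)) = L((2g-2)A)` consider `V = L(gA)` (dimension `g`) and any hyperplane `V₁` of it
containing `L((g-2)A)`: `L((g-2)A) ⊆ V₁ ⊆ L(gA)`, `dim V₁ = g - 1`. Vanishing orders are those of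
sections of `O_E((2g-2)A)`: a member `f` vanishes to order at least `n` at a place `Q` when `f ∈
L((2g-2)A - nQ)`, and the weight of `V₁` at `Q` is `∑_{n=1}^{2g-2} dim (V₁ ∩ L((2g-2)A - nQ)) - (g-1
choose 2)` (the sum of the `g - 1` vanishing orders minus `0 + 1 + ⋯ + (g-2)`). Then the weight of
`V₁` at `A` is `(g-1)² + ε` with `ε ∈ {0, 1}`. (The published statement is for a smooth elliptic
curve over the complex numbers and `g` odd positive; `g ≥ 3` here since the ambient inclusion needs
it; this row does not assume `g` odd.) -/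
theorem result
    (k K : Type*) [Field k] [IsAlgClosed k] [CharZero k] [Field K] [Algebra k K]
    (hK : FunFld.IsFunctionField k K) (hg1 : FunFld.genus k K = 1)
    (g : ℕ) (h3 : 3 ≤ g) (A : FunFld.Place k K)
    (V₁ : Submodule k K) (hlo : FunFld.L (Finsupp.single A ((g : ℤ) - 2)) ≤ V₁)
    (hhi : V₁ ≤ FunFld.L (Finsupp.single A (g : ℤ))) (hdim : Module.finrank k ↥V₁ + 1 = g) :
    ∃ ε : ℕ, ε ≤ 1 ∧
      (∑ n ∈ Finset.range (2 * g - 2), Module.finrank k
        ↥(V₁ ⊓ FunFld.L (Finsupp.single A (2 * (g : ℤ) - 2) - Finsupp.single A ((n : ℤ) + 1)))) =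
      (g - 1).choose 2 + (g - 1) ^ 2 + ε := by
  classical
  have hdeg := Groth.Agent.LLS31.deg_place_eq_one (k := k) hK
  have := Groth.Agent.LLS31.finiteDimensional_L hK (Finsupp.single A (g : ℤ)) A
  have hVfin := Submodule.finiteDimensional_of_le hhi
  obtain ⟨j, rfl⟩ : ∃ j, g = j + 3 := ⟨g - 3, by omega⟩
  have hell : ∀ m : ℕ, 1 ≤ m → Module.finrank k ↥(L (Finsupp.single A (m : ℤ))) = m := fun m hm => by
    have := Groth.Agent.LLS31.ell_of_genus_one hK hg1 (D := Finsupp.single A (m : ℤ))
      (by rw [Groth.Agent.LLS31.deg_single, hdeg]; omega)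
    rw [Groth.Agent.LLS31.deg_single, hdeg] at this
    omega
  set u : ℕ → ℕ := fun m => Module.finrank k ↥(V₁ ⊓ L (Finsupp.single A (m : ℤ))) with hu
  have hu_high : ∀ m, j + 3 ≤ m → u m = j + 2 := fun m hm => by
    show Module.finrank k _ = _
    rw [inf_eq_left.2 (hhi.trans (Groth.Agent.LLS31.L_mono (Finsupp.single_le_single.2 (by omega))))]
    omega
  have hu_low : ∀ m, m ≤ j + 1 → 1 ≤ m → u m = m := fun m hm h1 => by
    show Module.finrank k _ = _
    rw [inf_eq_right.2 ((Groth.Agent.LLS31.L_mono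
      (Finsupp.single_le_single.2 (by push_cast; omega))).trans hlo), hell m h1]
  have hu0 : u 0 = 1 := by
    show Module.finrank k _ = _
    rw [Nat.cast_zero, inf_eq_right.2 ((Groth.Agent.LLS31.L_mono
      (Finsupp.single_le_single.2 (by push_cast; omega))).trans hlo), Finsupp.single_zero]
    exact Groth.Agent.FF30.ell_zero hK
  have hu_mid : j + 1 ≤ u (j + 2) ∧ u (j + 2) ≤ j + 2 := by
    have := Groth.Agent.LLS31.finiteDimensional_L hK (Finsupp.single A ((j + 2 : ℕ) : ℤ)) A
    have h2 : u (j + 2) ≤ j + 2 := (Submodule.finrank_mono inf_le_right).trans_eq (hell _ (by omega))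
    have h1 : u (j + 1) ≤ u (j + 2) := Submodule.finrank_mono
      (inf_le_inf_left _ (Groth.Agent.LLS31.L_mono (Finsupp.single_le_single.2 (by omega))))
    rw [hu_low (j + 1) le_rfl (by omega)] at h1
    exact ⟨h1, h2⟩
  refine ⟨u (j + 2) - (j + 1), by omega, ?_⟩
  have hterm : ∀ n ∈ Finset.range (2 * (j + 3) - 2), Module.finrank k
      ↥(V₁ ⊓ L (Finsupp.single A (2 * ((j + 3 : ℕ) : ℤ) - 2) - Finsupp.single A ((n : ℤ) + 1))) =
      u (2 * (j + 3) - 2 - 1 - n) := fun n hn => by
    simp only [Finset.mem_range] at hn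
    show _ = Module.finrank k ↥(V₁ ⊓ L (Finsupp.single A ((2 * (j + 3) - 2 - 1 - n : ℕ) : ℤ)))
    rw [← Finsupp.single_sub, show 2 * ((j + 3 : ℕ) : ℤ) - 2 - ((n : ℤ) + 1) =
      ((2 * (j + 3) - 2 - 1 - n : ℕ) : ℤ) by omega]
  rw [Finset.sum_congr rfl hterm, Finset.sum_range_reflect,
    show 2 * (j + 3) - 2 = (j + 3) + (j + 1) by omega, Finset.sum_range_add,
    Finset.sum_congr rfl (fun x _ => hu_high _ (Nat.le_add_right _ x)), Finset.sum_const,
    Finset.card_range, Finset.sum_range_succ, show j + 3 - 1 = j + 2 from rfl, Finset.sum_range_succ']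
  have hs : ∑ i ∈ Finset.range (j + 1), u (i + 1) = (j + 2).choose 2 := by
    have : ∀ i, i ≤ j + 1 → ∑ x ∈ Finset.range i, u (x + 1) = (i + 1).choose 2 := by
      intro i
      induction i with
      | zero => intro _; rfl
      | succ i ih =>
        intro hi
        rw [Finset.sum_range_succ, ih (by omega), hu_low (i + 1) hi (by omega),
          Nat.choose_succ_succ' (i + 1) 1, Nat.choose_one_right]
        simp only [show (1 : ℕ) + 1 = 2 from rfl]
        omega
    exact this (j + 1) le_rfl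
  rw [hs, hu0, smul_eq_mul]
  have : (j + 2) ^ 2 = (j + 1) * (j + 2) + (j + 2) := by ring
  omega

end Groth.Agent.S17248
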