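import Groth.Statements.S17249
import Groth.Agent.LLS31.LinEquiv

set_option autoImplicit false
open FunFld

namespace Groth.Agent.S17249

/-- Let `K/k` be a function field of one variable of genus two over an algebraically closed field `k` of
characteristic zero (a smooth curve `X` of genus `2`), `C` a canonical divisor, `A` a place with
`ℓ(2A) = 1` (not a Weierstrass point), and `P`, `Q` places with `Q ≠ A`. Then `ℓ(C + 2A - P - 3Q) =
1` and `ℓ(C + 2A - P - Q) = 2` do not both hold: the two-dimensional complete system `H⁰(ω_X(2A -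
P))` (of degree `3`) has no point `Q ≠ A` of weight three. (The published statement concerns a
general pointed curve `(X, A)` of genus two over the complex numbers and a point `P` of `X`; this
row assumes only `ℓ(2A) = 1`.) -/
theorem result
    (k K : Type*) [Field k] [IsAlgClosed k] [CharZero k] [Field K] [Algebra k K]
    (hK : FunFld.IsFunctionField k K) (hg : FunFld.genus k K = 2)
    (C : FunFld.Divisor k K) (hC : FunFld.IsCanonical k K C)
    (A P Q : FunFld.Place k K) (hA : Module.finrank k ↥(FunFld.L (Finsupp.single A (2 : ℤ))) = 1) (hQ : Q ≠ A) :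
    ¬ (Module.finrank k ↥(FunFld.L (C + Finsupp.single A (2 : ℤ) - Finsupp.single P (1 : ℤ) - Finsupp.single Q (3 : ℤ))) = 1 ∧
       Module.finrank k ↥(FunFld.L (C + Finsupp.single A (2 : ℤ) - Finsupp.single P (1 : ℤ) - Finsupp.single Q (1 : ℤ))) = 2) := by
  classical
  rintro ⟨-, h2⟩
  have hdeg := Groth.Agent.LLS31.deg_place_eq_one (k := k) hK
  have hC2 := Groth.Agent.FF30.deg_canonical hK hC
  set D2 := C + Finsupp.single A (2 : ℤ) - Finsupp.single P (1 : ℤ) - Finsupp.single Q (1 : ℤ)
  have hd2 : D2.deg = 2 := by
    simp only [D2, Groth.Agent.LLS31.deg_sub, Groth.Agent.FF30.deg_add,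
      Groth.Agent.LLS31.deg_single, hdeg, hC2, hg]
    norm_num
  have hp : Groth.Agent.LLS31.Prin (D2 - C) := by
    have := (Groth.Agent.LLS31.prin_of_genus_two hK hC hg hd2 h2.ge).neg hK
    rwa [neg_sub] at this
  have h := Groth.Agent.LLS31.nonneg_of_le_of_ell hK
    (D := Finsupp.single A (2 : ℤ)) (E := D2 - C) (by simp) hA.le
    (fun R => by
      simp only [D2, Finsupp.sub_apply, Finsupp.add_apply, Finsupp.single_apply]
      split_ifs <;> omega)
    (by rw [hp.ell_eq_one hK]; exact one_pos) Q
  simp only [D2, Finsupp.sub_apply, Finsupp.add_apply, Finsupp.single_apply, Finsupp.zero_apply,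
    if_neg hQ.symm, if_true] at h
  split_ifs at h <;> omega

end Groth.Agent.S17249
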