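import Groth.Statements.S17250
import Groth.Agent.LLS31.LinEquiv

set_option autoImplicit false
open FunFld

namespace Groth.Agent.S17250

/-- Let `K/k` be a function field of one variable of genus two over an algebraically closed field `k` of
characteristic zero (a smooth curve `X` of genus `2`), `C` a canonical divisor, `A` a place with
`ℓ(2A) = 1`, and `P`, `Q` places different from `A`. Then `ℓ(C + 3A - P - 4Q) = 1` and `ℓ(C + 3A - P
- 2Q) = 2` do not both hold (the three-dimensional complete system `H⁰(ω_X(3A - P))`, of degree `4`,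
has no point `Q ≠ A` with two independent sections vanishing to order at least `2` there and one
vanishing to order at least `4`). (The published statement concerns a general pointed curve `(X, A)`
of genus two over the complex numbers and a point `P ≠ A`; this row assumes `ℓ(2A) = 1` in place of
generality.) -/
theorem result
    (k K : Type*) [Field k] [IsAlgClosed k] [CharZero k] [Field K] [Algebra k K]
    (hK : FunFld.IsFunctionField k K) (hg : FunFld.genus k K = 2)
    (C : FunFld.Divisor k K) (hC : FunFld.IsCanonical k K C)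
    (A P Q : FunFld.Place k K) (hA : Module.finrank k ↥(FunFld.L (Finsupp.single A (2 : ℤ))) = 1) (hP : P ≠ A) (hQ : Q ≠ A) :
    ¬ (Module.finrank k ↥(FunFld.L (C + Finsupp.single A (3 : ℤ) - Finsupp.single P (1 : ℤ) - Finsupp.single Q (4 : ℤ))) = 1 ∧
       Module.finrank k ↥(FunFld.L (C + Finsupp.single A (3 : ℤ) - Finsupp.single P (1 : ℤ) - Finsupp.single Q (2 : ℤ))) = 2) := by
  classical
  rintro ⟨h1, h2⟩
  have hdeg := Groth.Agent.LLS31.deg_place_eq_one (k := k) hK
  have hC2 := Groth.Agent.FF30.deg_canonical hK hC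
  set D1 := C + Finsupp.single A (3 : ℤ) - Finsupp.single P (1 : ℤ) - Finsupp.single Q (4 : ℤ) with hD1
  set D2 := C + Finsupp.single A (3 : ℤ) - Finsupp.single P (1 : ℤ) - Finsupp.single Q (2 : ℤ) with hD2
  have hd1 : D1.deg = 0 := by
    simp only [D1, Groth.Agent.LLS31.deg_sub, Groth.Agent.FF30.deg_add,
      Groth.Agent.LLS31.deg_single, hdeg, hC2, hg]
    norm_num
  have hd2 : D2.deg = 2 := by
    simp only [D2, Groth.Agent.LLS31.deg_sub, Groth.Agent.FF30.deg_add,
      Groth.Agent.LLS31.deg_single, hdeg, hC2, hg]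
    norm_num
  have hp1 : Groth.Agent.LLS31.Prin D1 :=
    Groth.Agent.LLS31.prin_of_deg_zero hK hd1 (by rw [show ell D1 = 1 from h1]; exact one_pos)
  have hp2 : Groth.Agent.LLS31.Prin (C - D2) :=
    Groth.Agent.LLS31.prin_of_genus_two hK hC hg hd2 h2.ge
  set T := (Finsupp.single A (3 : ℤ) - Finsupp.single P (1 : ℤ) : Divisor k K) with hT
  have hellQ : ell (Finsupp.single Q (2 : ℤ) : Divisor k K) = 2 := by
    rw [← hp1.ell_add hK, show (Finsupp.single Q (2 : ℤ) : Divisor k K) + D1 = D2 by
      rw [hD1, hD2, show (4 : ℤ) = 2 + 2 from rfl, Finsupp.single_add]; abel]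
    exact h2
  have hellT : ell T = 2 := by
    rw [← hp2.ell_add hK, show T + (C - D2) = Finsupp.single Q (2 : ℤ) by rw [hD2, hT]; abel]
    exact hellQ
  have hF := Groth.Agent.FF30.FF.of_isFunctionField hK
  have hA3 : ell (Finsupp.single A (3 : ℤ) : Divisor k K) ≤ 2 := by
    have h := Groth.Agent.FF30.riemann_roch' hK hC (Finsupp.single A (3 : ℤ))
    have h0 : ell (C - Finsupp.single A (3 : ℤ)) = 0 := by
      rw [ell, hF.L_eq_bot_of_deg_neg (by
        rw [Groth.Agent.LLS31.deg_sub, hC2, Groth.Agent.LLS31.deg_single, hdeg, hg]; norm_num), finrank_bot]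
    rw [Groth.Agent.LLS31.deg_single, hdeg, hg, h0] at h
    omega
  have := hF.finite_L (Finsupp.single A (3 : ℤ))
  have heq : L T = L (Finsupp.single A (3 : ℤ)) :=
    Submodule.eq_of_le_of_finrank_le (Groth.Agent.LLS31.L_mono (fun R => by
      rw [hT, Finsupp.sub_apply]; simp only [Finsupp.single_apply]; split_ifs <;> omega))
      (hA3.trans hellT.ge)
  have hone : (1 : K) ∈ L T := by
    rw [heq]
    intro R
    rw [map_one, ← WithZero.exp_zero, WithZero.exp_le_exp, Finsupp.single_apply]
    split_ifs <;> omega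
  have h := hone P
  rw [map_one, ← WithZero.exp_zero, WithZero.exp_le_exp, hT, Finsupp.sub_apply,
    Finsupp.single_eq_of_ne hP, Finsupp.single_eq_same] at h
  omega

end Groth.Agent.S17250
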