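import Groth.Statements.S17251
import Groth.Agent.LLS31.LinEquiv

set_option autoImplicit false
open FunFld

namespace Groth.Agent.S17251

/-- Let `K/k` be a function field of one variable of genus two over an algebraically closed field `k` of
characteristic zero (a smooth curve `Y` of genus `2`), `C` a canonical divisor, `B` a place with
`ℓ(2B) = 1` (not a Weierstrass point) and `Q ≠ B` a place. Then `ℓ(C + B - 2Q) = 1` and `ℓ(C + 3B -
4Q) = 1` do not both hold: the complete systems `H⁰(ω_Y(B))` (dimension `2`, degree `3`) and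
`H⁰(ω_Y(3B))` (dimension `4`, degree `5`) have no ramification point in common on `Y` minus `B`.
(The published statement concerns a general pointed curve `(Y, B)` of genus two over the complex
numbers; this row assumes only `ℓ(2B) = 1`.) -/
theorem result
    (k K : Type*) [Field k] [IsAlgClosed k] [CharZero k] [Field K] [Algebra k K]
    (hK : FunFld.IsFunctionField k K) (hg : FunFld.genus k K = 2)
    (C : FunFld.Divisor k K) (hC : FunFld.IsCanonical k K C)
    (B Q : FunFld.Place k K) (hB : Module.finrank k ↥(FunFld.L (Finsupp.single B (2 : ℤ))) = 1) (hQ : Q ≠ B) :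
    ¬ (Module.finrank k ↥(FunFld.L (C + Finsupp.single B (1 : ℤ) - Finsupp.single Q (2 : ℤ))) = 1 ∧
       Module.finrank k ↥(FunFld.L (C + Finsupp.single B (3 : ℤ) - Finsupp.single Q (4 : ℤ))) = 1) := by
  classical
  rintro ⟨h1, h2⟩
  have hdeg := Groth.Agent.LLS31.deg_place_eq_one (k := k) hK
  have hC2 := Groth.Agent.FF30.deg_canonical hK hC
  have hF := Groth.Agent.FF30.FF.of_isFunctionField hK
  set D1 := C + Finsupp.single B (1 : ℤ) - Finsupp.single Q (2 : ℤ) with hD1
  set D2 := C + Finsupp.single B (3 : ℤ) - Finsupp.single Q (4 : ℤ) with hD2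
  have hd1 : D1.deg = 1 := by
    simp only [D1, Groth.Agent.LLS31.deg_sub, Groth.Agent.FF30.deg_add,
      Groth.Agent.LLS31.deg_single, hdeg, hC2, hg]
    norm_num
  have hd2 : D2.deg = 1 := by
    simp only [D2, Groth.Agent.LLS31.deg_sub, Groth.Agent.FF30.deg_add,
      Groth.Agent.LLS31.deg_single, hdeg, hC2, hg]
    norm_num
  have hB1 : 1 ≤ ell (Finsupp.single B (1 : ℤ) : Divisor k K) :=
    (Groth.Agent.FF30.ell_zero hK).symm.trans_le (hF.ell_mono (by simp))
  obtain ⟨B', hB'⟩ := Groth.Agent.LLS31.exists_place_of_deg_one hK (D := C - Finsupp.single B (1 : ℤ))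
    (by rw [Groth.Agent.LLS31.deg_sub, hC2, Groth.Agent.LLS31.deg_single, hdeg, hg]; norm_num) (by
      have h := Groth.Agent.FF30.riemann_roch' hK hC (Finsupp.single B (1 : ℤ))
      rw [Groth.Agent.LLS31.deg_single, hdeg, hg] at h
      omega)
  obtain ⟨R, hR⟩ := Groth.Agent.LLS31.exists_place_of_deg_one hK hd1
    (by rw [show ell D1 = 1 from h1]; exact one_pos)
  obtain ⟨S, hS⟩ := Groth.Agent.LLS31.exists_place_of_deg_one hK hd2
    (by rw [show ell D2 = 1 from h2]; exact one_pos)
  have e2 : ∀ a : Place k K, (Finsupp.single a (2 : ℤ) : Divisor k K) =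
      Finsupp.single a (1 : ℤ) + Finsupp.single a (1 : ℤ) := fun a => by rw [← Finsupp.single_add]; rfl
  have e3 : ∀ a : Place k K, (Finsupp.single a (3 : ℤ) : Divisor k K) =
      Finsupp.single a (1 : ℤ) + Finsupp.single a (1 : ℤ) + Finsupp.single a (1 : ℤ) := fun a => by
    rw [← Finsupp.single_add, ← Finsupp.single_add]; rfl
  have e4 : ∀ a : Place k K, (Finsupp.single a (4 : ℤ) : Divisor k K) =
      Finsupp.single a (2 : ℤ) + Finsupp.single a (2 : ℤ) := fun a => by rw [← Finsupp.single_add]; rfl
  -- `2R ~ B' + S`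
  have hrel : Groth.Agent.LLS31.Prin (Finsupp.single R (2 : ℤ) - Finsupp.single B' (1 : ℤ) -
      Finsupp.single S (1 : ℤ)) := by
    have h := ((hR.add hK hR).sub hK hS).sub hK hB'
    convert h using 1
    rw [hD1, hD2, e3 B, e4 Q, e2 R]
    abel
  by_cases hR2 : ell (Finsupp.single R (2 : ℤ) : Divisor k K) ≤ 1
  · have h := Groth.Agent.LLS31.nonneg_of_le_of_ell hK (D := Finsupp.single R (2 : ℤ))
      (E := Finsupp.single R (2 : ℤ) - Finsupp.single B' (1 : ℤ) - Finsupp.single S (1 : ℤ))
      (by simp) hR2 (fun T => by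
        simp only [Finsupp.sub_apply, Finsupp.single_apply]
        split_ifs <;> omega) (by rw [hrel.ell_eq_one hK]; exact one_pos) B'
    have hBR : R = B' := by
      by_contra hne
      simp only [Finsupp.sub_apply, Finsupp.single_apply, Finsupp.zero_apply, if_neg hne, if_true] at h
      split_ifs at h <;> omega
    -- now `C - B ~ D1`, so `2Q ~ 2B`
    subst hBR
    have hp : Groth.Agent.LLS31.Prin (Finsupp.single B (2 : ℤ) - Finsupp.single Q (2 : ℤ)) := by
      convert hB'.sub hK hR using 1
      rw [hD1, e2 B]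
      abel
    have h' := Groth.Agent.LLS31.nonneg_of_le_of_ell hK (D := Finsupp.single B (2 : ℤ))
      (E := Finsupp.single B (2 : ℤ) - Finsupp.single Q (2 : ℤ))
      (by simp) hB.le (fun T => by
        simp only [Finsupp.sub_apply, Finsupp.single_apply]
        split_ifs <;> omega) (by rw [hp.ell_eq_one hK]; exact one_pos) Q
    simp [Finsupp.single_eq_of_ne hQ] at h'
  · have hCR : Groth.Agent.LLS31.Prin (C - Finsupp.single R (2 : ℤ)) :=
      Groth.Agent.LLS31.prin_of_genus_two hK hC hg
        (by rw [Groth.Agent.LLS31.deg_single, hdeg]; norm_num) (by omega)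
    by_cases hQ2 : ell (Finsupp.single Q (2 : ℤ) : Divisor k K) ≤ 1
    · have hp : Groth.Agent.LLS31.Prin (Finsupp.single Q (2 : ℤ) - Finsupp.single B (1 : ℤ) -
          Finsupp.single R (1 : ℤ)) := by
        convert (hR.add hK hCR) using 1 <;> rw [hD1, e2 R]
        abel
      have h' := Groth.Agent.LLS31.nonneg_of_le_of_ell hK (D := Finsupp.single Q (2 : ℤ))
        (E := Finsupp.single Q (2 : ℤ) - Finsupp.single B (1 : ℤ) - Finsupp.single R (1 : ℤ))
        (by simp) hQ2 (fun T => by
          simp only [Finsupp.sub_apply, Finsupp.single_apply]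
          split_ifs <;> omega) (by rw [hp.ell_eq_one hK]; exact one_pos) B
      simp only [Finsupp.sub_apply, Finsupp.single_apply, Finsupp.zero_apply, if_neg hQ, if_true] at h'
      split_ifs at h' <;> omega
    · have hCQ : Groth.Agent.LLS31.Prin (C - Finsupp.single Q (2 : ℤ)) :=
        Groth.Agent.LLS31.prin_of_genus_two hK hC hg
          (by rw [Groth.Agent.LLS31.deg_single, hdeg]; norm_num) (by omega)
      -- `C + 2B - 4Q ~ 0`, hence `2B ~ C`
      have hp : Groth.Agent.LLS31.Prin (Finsupp.single B (2 : ℤ) - C) := by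
        convert (((hR.add hK hR).add hK hCR).neg hK).sub hK (hCQ.add hK hCQ) using 1
        rw [hD1, e2 R, e2 B]
        abel
      have := Groth.Agent.LLS31.two_le_ell_of_prin hK hp
        ((Groth.Agent.FF30.ell_canonical hK hC).trans hg)
      rw [ell, hB] at this
      omega

end Groth.Agent.S17251
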